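import Groth.Statements.S7422
import Groth.Agent.EtaLib.SpecUH
import Mathlib.RingTheory.TensorProduct.Maps

set_option autoImplicit false
universe u
open CategoryTheory AlgebraicGeometry
open HTop

namespace Groth.Agent.S7422

open CategoryTheory AlgebraicGeometry Groth.Agent
open scoped TensorProduct

variable (A : Type u) [CommRing A]

/-- The product of algebraic closures of residue fields. -/
abbrev P : Type u := ∀ p : PrimeSpectrum A, AlgebraicClosure p.asIdeal.ResidueField

/-- The diagonal map. -/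
noncomputable def diag : A →+* P A :=
  Pi.ringHom fun p => (algebraMap p.asIdeal.ResidueField (AlgebraicClosure p.asIdeal.ResidueField)).comp
    (algebraMap A p.asIdeal.ResidueField)

variable {A} {C D : Type u} [CommRing C] [CommRing D]

lemma hom_unique (ψ : A →+* C) (h : FlatMor.IsUnivHomeo (Spec.map (CommRingCat.ofHom ψ))) (χ χ' : C →+* P A)
    (e : χ.comp ψ = χ'.comp ψ) : χ = χ' :=
  RingHom.ext fun c => funext fun p => RingHom.congr_fun
    (((EtaLib.isUnivHomeo_Spec_iff ψ).mp h).2.2 _ ((Pi.evalRingHom _ p).comp χ) ((Pi.evalRingHom _ p).comp χ')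
      (by rw [RingHom.comp_assoc, RingHom.comp_assoc, e])) c

lemma hom_exists (ψ : A →+* C) (h : FlatMor.IsUnivHomeo (Spec.map (CommRingCat.ofHom ψ))) :
    ∃ χ : C →+* P A, χ.comp ψ = diag A := by
  obtain ⟨hi, hs, -⟩ := (EtaLib.isUnivHomeo_Spec_iff ψ).mp h
  choose χ hχ using fun p : PrimeSpectrum A => EtaLib.exists_field_extend ψ hi hs
    ((algebraMap p.asIdeal.ResidueField (AlgebraicClosure p.asIdeal.ResidueField)).comp (algebraMap A _))
  exact ⟨Pi.ringHom χ, RingHom.ext fun a => funext fun p => RingHom.congr_fun (hχ p) a⟩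

lemma univHomeo_tensor [Algebra A C] [Algebra A D]
    (hC : FlatMor.IsUnivHomeo (Spec.map (CommRingCat.ofHom (algebraMap A C))))
    (hD : FlatMor.IsUnivHomeo (Spec.map (CommRingCat.ofHom (algebraMap A D)))) :
    FlatMor.IsUnivHomeo (Spec.map (CommRingCat.ofHom (algebraMap A (C ⊗[A] D)))) := by
  obtain ⟨hi, hs, hu⟩ := (EtaLib.isUnivHomeo_Spec_iff _).mp hC
  obtain ⟨hi', hs', hu'⟩ := (EtaLib.isUnivHomeo_Spec_iff _).mp hD
  refine (EtaLib.isUnivHomeo_Spec_iff _).mpr ⟨?_, fun p => ?_, fun K _ g g' e => ?_⟩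
  · haveI : Algebra.IsIntegral A C := ⟨hi⟩
    haveI : Algebra.IsIntegral A D := ⟨hi'⟩
    exact fun x => by
      induction x using TensorProduct.induction_on with
      | zero => exact isIntegral_zero
      | add x y hx hy => exact IsIntegral.add hx hy
      | tmul c d =>
        rw [show c ⊗ₜ[A] d = (Algebra.TensorProduct.includeLeft : C →ₐ[A] C ⊗[A] D) c *
          (Algebra.TensorProduct.includeRight : D →ₐ[A] C ⊗[A] D) d by simp]
        exact IsIntegral.mul ((show IsIntegral A c from hi c).map (Algebra.TensorProduct.includeLeft : C →ₐ[A] C ⊗[A] D))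
          ((show IsIntegral A d from hi' d).map (Algebra.TensorProduct.includeRight : D →ₐ[A] C ⊗[A] D))
  · let g := (algebraMap p.asIdeal.ResidueField (AlgebraicClosure p.asIdeal.ResidueField)).comp (algebraMap A _)
    obtain ⟨gc, hgc⟩ := EtaLib.exists_field_extend _ hi hs g
    obtain ⟨gd, hgd⟩ := EtaLib.exists_field_extend _ hi' hs' g
    letI := g.toAlgebra
    let gC : C →ₐ[A] AlgebraicClosure p.asIdeal.ResidueField := { gc with commutes' := RingHom.congr_fun hgc }
    let gD : D →ₐ[A] AlgebraicClosure p.asIdeal.ResidueField := { gd with commutes' := RingHom.congr_fun hgd }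
    refine ⟨⟨RingHom.ker (Algebra.TensorProduct.productMap gC gD).toRingHom, RingHom.ker_isPrime _⟩,
      PrimeSpectrum.ext ?_⟩
    show (RingHom.ker _).comap (algebraMap A (C ⊗[A] D)) = p.asIdeal
    rw [RingHom.comap_ker, show (Algebra.TensorProduct.productMap gC gD).toRingHom.comp (algebraMap A (C ⊗[A] D)) = g
      from RingHom.ext (Algebra.TensorProduct.productMap gC gD).commutes, ← RingHom.comap_ker,
      (RingHom.injective_iff_ker_eq_bot _).mp (algebraMap p.asIdeal.ResidueField (AlgebraicClosure p.asIdeal.ResidueField)).injective]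
    exact p.asIdeal.ker_algebraMap_residueField
  · have h1 := hu K (g.comp (Algebra.TensorProduct.includeLeft : C →ₐ[A] C ⊗[A] D).toRingHom)
      (g'.comp (Algebra.TensorProduct.includeLeft : C →ₐ[A] C ⊗[A] D).toRingHom)
      (RingHom.ext fun a => RingHom.congr_fun e a)
    have h2 := hu' K (g.comp (Algebra.TensorProduct.includeRight : D →ₐ[A] C ⊗[A] D).toRingHom)
      (g'.comp (Algebra.TensorProduct.includeRight : D →ₐ[A] C ⊗[A] D).toRingHom)
      (RingHom.ext fun a => by
        have := RingHom.congr_fun e a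
        simpa using this)
    refine RingHom.ext fun x => ?_
    induction x using TensorProduct.induction_on with
    | zero => simp
    | add x y hx hy => rw [map_add, map_add, hx, hy]
    | tmul c d =>
      rw [show c ⊗ₜ[A] d = (Algebra.TensorProduct.includeLeft : C →ₐ[A] C ⊗[A] D) c *
        (Algebra.TensorProduct.includeRight : D →ₐ[A] C ⊗[A] D) d by simp, map_mul, map_mul]
      exact congr_arg₂ (· * ·) (RingHom.congr_fun h1 c) (RingHom.congr_fun h2 d)

variable (A) in
/-- The union of the images of all universal homeomorphisms. -/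
def W : Subring (P A) where
  carrier := {x | ∃ (C : Type u) (_ : CommRing C) (ψ : A →+* C) (χ : C →+* P A),
    FlatMor.IsUnivHomeo (Spec.map (CommRingCat.ofHom ψ)) ∧ χ.comp ψ = diag A ∧ x ∈ χ.range}
  one_mem' := ⟨A, inferInstance, RingHom.id A, diag A,
    (EtaLib.isUnivHomeo_Spec_iff _).mpr ⟨fun a => ⟨Polynomial.X - Polynomial.C a, Polynomial.monic_X_sub_C a, by simp⟩,
      fun p => ⟨p, rfl⟩, fun K _ g g' e => e⟩, rfl, 1, map_one _⟩
  zero_mem' := ⟨A, inferInstance, RingHom.id A, diag A,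
    (EtaLib.isUnivHomeo_Spec_iff _).mpr ⟨fun a => ⟨Polynomial.X - Polynomial.C a, Polynomial.monic_X_sub_C a, by simp⟩,
      fun p => ⟨p, rfl⟩, fun K _ g g' e => e⟩, rfl, 0, map_zero _⟩
  neg_mem' := by
    rintro x ⟨C, i, ψ, χ, h, e, c, rfl⟩
    exact ⟨C, i, ψ, χ, h, e, -c, map_neg _ _⟩
  mul_mem' := by
    rintro _ _ ⟨C, iC, ψ, χ, h, e, c, rfl⟩ ⟨D, iD, ψ', χ', h', e', d, rfl⟩
    letI := ψ.toAlgebra
    letI := ψ'.toAlgebra
    letI := (diag A).toAlgebra
    let f1 : C →ₐ[A] P A := { χ with commutes' := RingHom.congr_fun e }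
    let f2 : D →ₐ[A] P A := { χ' with commutes' := RingHom.congr_fun e' }
    refine ⟨C ⊗[A] D, inferInstance, algebraMap A _, (Algebra.TensorProduct.productMap f1 f2).toRingHom,
      univHomeo_tensor h h', RingHom.ext (Algebra.TensorProduct.productMap f1 f2).commutes, c ⊗ₜ d, ?_⟩
    exact Algebra.TensorProduct.productMap_apply_tmul f1 f2 c d
  add_mem' := by
    rintro _ _ ⟨C, iC, ψ, χ, h, e, c, rfl⟩ ⟨D, iD, ψ', χ', h', e', d, rfl⟩
    letI := ψ.toAlgebra
    letI := ψ'.toAlgebra
    letI := (diag A).toAlgebra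
    let f1 : C →ₐ[A] P A := { χ with commutes' := RingHom.congr_fun e }
    let f2 : D →ₐ[A] P A := { χ' with commutes' := RingHom.congr_fun e' }
    refine ⟨C ⊗[A] D, inferInstance, algebraMap A _, (Algebra.TensorProduct.productMap f1 f2).toRingHom,
      univHomeo_tensor h h', RingHom.ext (Algebra.TensorProduct.productMap f1 f2).commutes, c ⊗ₜ 1 + 1 ⊗ₜ d, ?_⟩
    exact (map_add _ _ _).trans (congr_arg₂ (· + ·)
      ((Algebra.TensorProduct.productMap_apply_tmul f1 f2 c 1).trans (by rw [map_one, mul_one]; rfl))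
      ((Algebra.TensorProduct.productMap_apply_tmul f1 f2 1 d).trans (by rw [map_one, one_mul]; rfl)))

lemma isUnivHomeo_id (A : Type u) [CommRing A] :
    FlatMor.IsUnivHomeo (Spec.map (CommRingCat.ofHom (RingHom.id A))) :=
  (EtaLib.isUnivHomeo_Spec_iff _).mpr ⟨fun a => ⟨Polynomial.X - Polynomial.C a, Polynomial.monic_X_sub_C a, by simp⟩,
    fun p => ⟨p, rfl⟩, fun K _ g g' e => e⟩


/-- Every ring `A` has an absolute weak normalization: a ring map `A → A^awn` which induces a universal
homeomorphism on spectra and is final among ring maps out of `A` with this property. -/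
theorem result (A : Type u) [CommRing A] :
    ∃ (B : Type u) (_ : CommRing B) (φ : A →+* B), HTop.IsRingAWN φ := by
  let φ : A →+* W A := (diag A).codRestrict (W A) fun a =>
    ⟨A, inferInstance, RingHom.id A, diag A, isUnivHomeo_id A, rfl, a, rfl⟩
  refine ⟨W A, inferInstance, φ, (EtaLib.isUnivHomeo_Spec_iff _).mpr ⟨?_, ?_, ?_⟩, fun C _ ψ h => ?_⟩
  · rintro ⟨_, C, iC, ψ, χ, h, e, c, rfl⟩
    obtain ⟨F, hF, hF0⟩ := ((EtaLib.isUnivHomeo_Spec_iff ψ).mp h).1 c
    refine ⟨F, hF, Subtype.ext ?_⟩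
    show (W A).subtype (Polynomial.eval₂ φ _ F) = 0
    rw [Polynomial.hom_eval₂, show (W A).subtype.comp φ = χ.comp ψ from e.symm]
    show Polynomial.eval₂ (χ.comp ψ) (χ c) F = 0
    rw [← Polynomial.hom_eval₂, hF0, map_zero]
  · intro p
    refine ⟨⟨RingHom.ker ((Pi.evalRingHom _ p).comp (W A).subtype), RingHom.ker_isPrime _⟩, PrimeSpectrum.ext ?_⟩
    show (RingHom.ker _).comap φ = p.asIdeal
    rw [RingHom.comap_ker, show ((Pi.evalRingHom _ p).comp (W A).subtype).comp φ =
      (algebraMap p.asIdeal.ResidueField (AlgebraicClosure p.asIdeal.ResidueField)).comp (algebraMap A _) from rfl,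
      ← RingHom.comap_ker, (RingHom.injective_iff_ker_eq_bot _).mp (algebraMap p.asIdeal.ResidueField (AlgebraicClosure p.asIdeal.ResidueField)).injective]
    exact p.asIdeal.ker_algebraMap_residueField
  · intro K _ g g' e
    refine RingHom.ext ?_
    rintro ⟨_, C, iC, ψ, χ, h, e', c, rfl⟩
    let χ' : C →+* W A := χ.codRestrict (W A) fun c' => ⟨C, iC, ψ, χ, h, e', c', rfl⟩
    have hc : χ'.comp ψ = φ := RingHom.ext fun a => Subtype.ext (RingHom.congr_fun e' a)
    exact RingHom.congr_fun (((EtaLib.isUnivHomeo_Spec_iff ψ).mp h).2.2 K (g.comp χ') (g'.comp χ')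
      (by rw [RingHom.comp_assoc, RingHom.comp_assoc, hc, e])) c
  · obtain ⟨χ, hχ⟩ := hom_exists ψ h
    refine ⟨χ.codRestrict (W A) fun c => ⟨C, inferInstance, ψ, χ, h, hχ, c, rfl⟩,
      RingHom.ext fun a => Subtype.ext (RingHom.congr_fun hχ a), fun χ₂ hχ₂ => ?_⟩
    refine RingHom.ext fun c => Subtype.ext (RingHom.congr_fun (hom_unique ψ h ((W A).subtype.comp χ₂) χ ?_) c)
    rw [RingHom.comp_assoc, hχ₂, hχ]
    rfl

end Groth.Agent.S7422
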