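import Groth.Statements.S5078
import Mathlib.RingTheory.AdicCompletion.Basic
import Mathlib.Algebra.Module.Projective
import Mathlib.LinearAlgebra.Finsupp.Pi
import Mathlib.RingTheory.Finiteness.Cardinality
import Mathlib.RingTheory.Finiteness.Projective

set_option autoImplicit false
universe u v
open Hensel

namespace Groth.Agent.S5078

/-- Let A be a ring, I an ideal such that A is I-adically separated and complete, and M a finitely
generated projective A-module. Then M is I-adically separated and complete. -/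
theorem result {A : Type u} [CommRing A] (I : Ideal A) [IsAdicComplete I A]
    (M : Type v) [AddCommGroup M] [Module A M] [Module.Finite A M] [Module.Projective A M] :
    IsAdicComplete I M := by
  obtain ⟨n, g, f, hg, hf, hgf⟩ := Module.Finite.exists_comp_eq_id_of_projective A M
  have key : ∀ k : ℕ, ∀ x : M, x ∈ (I ^ k • ⊤ : Submodule A M) →
      ∀ j, f x j ∈ (I ^ k • ⊤ : Submodule A A) := by
    intro k x hx j
    have : ((LinearMap.proj (R := A) (φ := fun _ : Fin n ↦ A) j).comp f) x ∈
        (I ^ k • ⊤ : Submodule A M).map ((LinearMap.proj (R := A) (φ := fun _ : Fin n ↦ A) j).comp f) :=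
      Submodule.mem_map_of_mem hx
    rw [Submodule.map_smul''] at this
    exact (smul_mono_right _ le_top : _ ≤ I ^ k • (⊤ : Submodule A A)) this
  have key' : ∀ k : ℕ, ∀ y : Fin n → A, (∀ j, y j ∈ (I ^ k • ⊤ : Submodule A A)) →
      g y ∈ (I ^ k • ⊤ : Submodule A M) := by
    intro k y hy
    rw [pi_eq_sum_univ y, map_sum]
    refine sum_mem fun j _ ↦ ?_
    rw [map_smul]
    refine Submodule.smul_mem_smul ?_ Submodule.mem_top
    simpa using hy j
  refine @IsAdicComplete.mk _ _ _ _ _ _ ⟨fun x hx ↦ ?_⟩ ⟨fun s hs ↦ ?_⟩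
  · apply hf
    rw [map_zero]
    funext j
    refine IsHausdorff.haus' (I := I) _ fun k ↦ ?_
    rw [SModEq.zero]
    exact key k x (SModEq.zero.mp (hx k)) j
  · choose L hL using fun j ↦ IsPrecomplete.prec' (I := I) (fun k ↦ f (s k) j) (fun {m l} hml ↦ by
      rw [SModEq.sub_mem, ← Pi.sub_apply, ← map_sub]
      exact key m _ (SModEq.sub_mem.mp (hs hml)) j)
    refine ⟨g L, fun k ↦ ?_⟩
    rw [SModEq.sub_mem, ← LinearMap.id_apply (R := A) (s k), ← hgf, LinearMap.comp_apply, ← map_sub]
    exact key' k _ fun j ↦ SModEq.sub_mem.mp (hL j k)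

end Groth.Agent.S5078
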