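import Groth.Statements.S7658
import Mathlib

set_option autoImplicit false
universe u
open CategoryTheory CategoryTheory.Limits AlgebraicGeometry
open Variety

namespace Groth.Agent.S7658

theorem injective_aux {X Y : Scheme.{u}} (f : X ⟶ Y) [IsSeparated f]
    (hloc : ∀ x : X, ∃ U : X.Opens, x ∈ U ∧ IsOpenImmersion (U.ι ≫ f))
    (hinj : ∀ ξ ξ' : X, closure ({ξ} : Set X) ∈ irreducibleComponents (X : Type u) → closure ({ξ'} : Set X) ∈ irreducibleComponents (X : Type u) →
      f.base ξ = f.base ξ' → ξ = ξ') : Function.Injective f := by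
  intro x x' hxx
  obtain ⟨U, hxU, hU⟩ := hloc x
  obtain ⟨U', hxU', hU'⟩ := hloc x'
  let g : (U : Scheme.{u}) ⟶ Y := U.ι ≫ f
  let g' : (U' : Scheme.{u}) ⟶ Y := U'.ι ≫ f
  let W : Y.Opens := g.opensRange ⊓ g'.opensRange
  have h1 : Set.range W.ι ⊆ Set.range g := by
    rw [Scheme.Opens.range_ι]; exact fun y hy => hy.1
  have h1' : Set.range W.ι ⊆ Set.range g' := by
    rw [Scheme.Opens.range_ι]; exact fun y hy => hy.2
  let s : (W : Scheme.{u}) ⟶ X := IsOpenImmersion.lift g W.ι h1 ≫ U.ι
  let s' : (W : Scheme.{u}) ⟶ X := IsOpenImmersion.lift g' W.ι h1' ≫ U'.ι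
  have hs : s ≫ f = W.ι := by rw [Category.assoc]; exact IsOpenImmersion.lift_fac g W.ι h1
  have hs' : s' ≫ f = W.ι := by rw [Category.assoc]; exact IsOpenImmersion.lift_fac g' W.ι h1'
  have key : ∀ (V : X.Opens) [IsOpenImmersion (V.ι ≫ f)] (a b : X), a ∈ V → b ∈ V → f a = f b → a = b :=
    fun V _ a b ha hb h => congrArg Subtype.val
      ((V.ι ≫ f).isOpenEmbedding.injective (a₁ := ⟨a, ha⟩) (a₂ := ⟨b, hb⟩) h)
  have hsU : ∀ w : (W : Scheme.{u}), s w ∈ U := fun w => (IsOpenImmersion.lift g W.ι h1 w).2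
  have hsU' : ∀ w : (W : Scheme.{u}), s' w ∈ U' := fun w => (IsOpenImmersion.lift g' W.ι h1' w).2
  have hfs : ∀ w : (W : Scheme.{u}), f (s w) = w.1 := fun w => by
    show (s ≫ f) w = _; rw [hs]; rfl
  have hfs' : ∀ w : (W : Scheme.{u}), f (s' w) = w.1 := fun w => by
    show (s' ≫ f) w = _; rw [hs']; rfl
  let ξ : X := ((irreducibleComponent_mem_irreducibleComponents x).1).genericPoint
  have hξc : closure ({ξ} : Set X) = irreducibleComponent x := by
    have := ((irreducibleComponent_mem_irreducibleComponents x).1).isGenericPoint_genericPoint_closure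
    rwa [isClosed_irreducibleComponent.closure_eq] at this
  have hξx : ξ ⤳ x := specializes_iff_mem_closure.2 (hξc ▸ mem_irreducibleComponent)
  have hξmem : closure ({ξ} : Set X) ∈ irreducibleComponents (X : Type u) :=
    hξc ▸ irreducibleComponent_mem_irreducibleComponents x
  have hξmax : ∀ η, η ⤳ ξ → η = ξ := fun η h => by
    have h2 := hξmem.2 (isIrreducible_singleton (x := η)).closure
      (closure_minimal (Set.singleton_subset_iff.2 h.mem_closure) isClosed_closure)
    exact (h.antisymm (specializes_iff_mem_closure.2 (h2 (subset_closure rfl)))).eq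
  have hξU : ξ ∈ U := hξx.mem_open U.2 hxU
  have hfxW : f x ∈ W := ⟨⟨⟨x, hxU⟩, rfl⟩, ⟨⟨x', hxU'⟩, hxx.symm⟩⟩
  have hspec : f ξ ⤳ f x := hξx.map f.continuous
  let w₀ : (W : Scheme.{u}) := ⟨f ξ, hspec.mem_open W.2 hfxW⟩
  have hsw : s w₀ = ξ := key U _ _ (hsU w₀) hξU (hfs w₀)
  let ξ' := s' w₀
  have hfξ' : f ξ' = f ξ := hfs' w₀
  have hmax' : ∀ η, η ⤳ ξ' → η = ξ' := by
    intro η hη
    have hηU' : η ∈ U' := hη.mem_open U'.2 (hsU' w₀)
    have h2 : f η ⤳ f ξ := hfξ' ▸ hη.map f.continuous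
    have hW' : f η ∈ W := h2.mem_open W.2 w₀.2
    let we : (W : Scheme.{u}) := ⟨f η, hW'⟩
    have h3 : we ⤳ w₀ := (subtype_specializes_iff _ _).2 h2
    have h4 : s we ⤳ s w₀ := h3.map s.continuous
    rw [hsw] at h4
    have h5 := hξmax _ h4
    have h6 : f η = f ξ := by rw [← h5]; exact (hfs we).symm
    exact key U' _ _ hηU' (hsU' w₀) (h6.trans hfξ'.symm)
  have hξ'mem : closure ({ξ'} : Set X) ∈ irreducibleComponents (X : Type u) := by
    refine ⟨isIrreducible_singleton.closure, fun T hT hle => ?_⟩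
    have hT' := hT.isGenericPoint_genericPoint_closure
    have hs' : hT.genericPoint ⤳ ξ' := hT'.specializes (subset_closure (hle (subset_closure rfl)))
    rw [← hmax' _ hs', hT'.def]
    exact subset_closure
  have heq : ξ = ξ' := hinj ξ ξ' hξmem hξ'mem hfξ'.symm
  -- the equalizer of the two sections is closed
  let WW : Over Y := Over.mk W.ι
  let XX : Over Y := Over.mk f
  have : IsSeparated XX.hom := inferInstanceAs (IsSeparated f)
  let a : WW ⟶ XX := Over.homMk s hs
  let b : WW ⟶ XX := Over.homMk s' hs'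
  let p := (W : Scheme.{u}).fromSpecResidueField w₀
  have hp : p ≫ s = p ≫ s' := by
    have hr : ∀ t : (W : Scheme.{u}) ⟶ X, t w₀ = ξ → Set.range (p ≫ t) ⊆ Set.range U.ι := by
      intro t ht
      rintro _ ⟨y, rfl⟩
      rw [Scheme.Opens.range_ι, Scheme.Hom.comp_apply, Scheme.fromSpecResidueField_apply, ht]
      exact hξU
    rw [← IsOpenImmersion.lift_fac U.ι (p ≫ s) (hr s hsw), ← IsOpenImmersion.lift_fac U.ι (p ≫ s') (hr s' heq.symm)]
    congr 1
    rw [← cancel_mono (U.ι ≫ f)]
    simp only [IsOpenImmersion.lift_fac_assoc, Category.assoc, hs, hs']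
  let T : Over Y := Over.mk (p ≫ W.ι)
  let l : T ⟶ equalizer a b := equalizer.lift (Over.homMk p rfl) (by
    ext1; exact hp)
  have hmem : w₀ ∈ Set.range (equalizer.ι a b).left := by
    refine ⟨l.left (IsLocalRing.closedPoint _), ?_⟩
    have hl : l.left ≫ (equalizer.ι a b).left = p := by
      rw [← Over.comp_left, equalizer.lift_ι]; rfl
    show (l.left ≫ (equalizer.ι a b).left) (IsLocalRing.closedPoint _) = w₀
    rw [hl]
    exact Scheme.fromSpecResidueField_apply _ _
  let wy : (W : Scheme.{u}) := ⟨f x, hfxW⟩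
  have hwy : w₀ ⤳ wy := (subtype_specializes_iff _ _).2 hspec
  obtain ⟨e, he⟩ := hwy.mem_closed ((equalizer.ι a b).left.isClosedEmbedding.isClosed_range) hmem
  have hse : s wy = s' wy := by
    rw [← he]
    show ((equalizer.ι a b).left ≫ s) e = ((equalizer.ι a b).left ≫ s') e
    have := congrArg (fun t => t.left) (equalizer.condition a b)
    simp only [Over.comp_left, a, b, Over.homMk_left] at this
    rw [this]
  have e1 : s wy = x := key U _ _ (hsU wy) hxU (hfs wy)
  have e2 : s' wy = x' := key U' _ _ (hsU' wy) hxU' ((hfs' wy).trans hxx)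
  rw [← e1, hse, e2]

/-- A separated morphism of schemes f : X → Y such that X has an open covering on whose members f
restricts to open immersions, and such that no two distinct generic points of irreducible components
of X have the same image under f, is an open immersion. -/
theorem result {X Y : Scheme.{u}}
    (f : X ⟶ Y) [IsSeparated f]
    (hloc : ∀ x : X, ∃ U : X.Opens, x ∈ U ∧ IsOpenImmersion (U.ι ≫ f))
    (hinj : ∀ ξ ξ' : X, closure ({ξ} : Set X) ∈ irreducibleComponents (X : Type u) → closure ({ξ'} : Set X) ∈ irreducibleComponents (X : Type u) →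
      f.base ξ = f.base ξ' → ξ = ξ') :
    IsOpenImmersion f := by
  have hinj' := injective_aux f hloc hinj
  have hopen : IsOpenMap f := by
    intro V hV
    rw [isOpen_iff_mem_nhds]
    rintro _ ⟨x, hx, rfl⟩
    obtain ⟨U, hxU, hU⟩ := hloc x
    have h1 := (U.ι ≫ f).isOpenEmbedding.isOpenMap _ (hV.preimage U.ι.continuous)
    refine Filter.mem_of_superset (h1.mem_nhds ⟨⟨x, hxU⟩, hx, rfl⟩) ?_
    rintro _ ⟨v, hv, rfl⟩
    exact ⟨v.1, hv, rfl⟩
  have : ∀ x, IsIso (f.stalkMap x) := by
    intro x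
    obtain ⟨U, hxU, hU⟩ := hloc x
    let u : (U : Scheme.{u}) := ⟨x, hxU⟩
    have h1 : IsIso ((U.ι ≫ f).stalkMap u) := inferInstance
    rw [Scheme.Hom.stalkMap_comp] at h1
    exact @IsIso.of_isIso_comp_right _ _ _ _ _ (f.stalkMap (U.ι u)) (U.ι.stalkMap u) inferInstance h1
  exact IsOpenImmersion.of_isIso_stalkMap f (.of_continuous_injective_isOpenMap f.continuous hinj' hopen)

end Groth.Agent.S7658
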