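import Groth.Statements.S0096
import Groth.Agent.Weighting.Split
import Groth.Agent.OnePointFibre.Basic


set_option autoImplicit false
open CategoryTheory CategoryTheory.Limits AlgebraicGeometry Opposite
universe u
open EtBase

namespace Groth.Agent.S0096

set_option backward.isDefEq.respectTransparency.types false

open Groth.Agent.Weighting IsLocalRing in
theorem exists_closedImm_pointed {W V : Scheme.{u}} (q : W ⟶ V) [IsFinite q] [FormallyUnramified q]
    {K : Type u} [Field K] [IsAlgClosed K] (y : Spec (.of K) ⟶ V) {X : Scheme.{u}} (j : W ⟶ X)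
    {x : Spec (.of K) ⟶ X} (h : IsPointed j q y x) :
    ∃ U : V.Opens, pt y ∈ U ∧ IsClosedImmersion (q ∣_ U) := by
  obtain ⟨z, -, huniq⟩ := h
  set w := pt z.1 with hw
  have hqw : q w = pt y := z.map_pt
  have hfib : q.base ⁻¹' {q w} = {w} := by
    ext u
    constructor
    · intro hu
      obtain ⟨z', hz'⟩ := exists_lift q y u ((show q u = q w from hu).trans hqw)
      rw [huniq z'] at hz'
      exact hz'.symm
    · rintro rfl; exact rfl
  have hcard : Nat.card {t : GPts q y // pt t.1 = w} = 1 := by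
    refine Nat.card_eq_one_iff_unique.mpr ⟨⟨fun a b => Subtype.ext ((huniq _).trans (huniq _).symm)⟩, ⟨⟨z, rfl⟩⟩⟩
  rw [natCard_lifts q y w hqw] at hcard
  letI := (q.residueFieldMap w).hom.toAlgebra
  haveI := residueField_finite q w
  have hsep : Algebra.IsSeparable (V.residueField (q w)) (W.residueField w) := inferInstance
  have hrank : Module.finrank (V.residueField (q w)) (W.residueField w) = 1 := by
    rw [← Field.finSepDegree_eq_finrank_of_isSeparable]; exact hcard
  have hsurj : Function.Surjective (algebraMap (V.residueField (q w)) (W.residueField w)) :=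
    ((Algebra.finrank_eq_one_iff_bijective_algebraMap (F := V.residueField (q w)) (E := W.residueField w)).mp hrank).2
  obtain ⟨U, hU, hci⟩ := Groth.Agent.OnePointFibre.exists_isClosedImmersion q w hfib hsurj
  exact ⟨U, hqw ▸ hU, hci⟩

/-- A finite unramified morphism becomes, after base change to a suitable étale neighbourhood of any
point of the base, a finite disjoint union of closed immersions. -/
theorem result {X S : Scheme.{u}} (f : X ⟶ S) [IsFinite f] [FormallyUnramified f] (s : S) :
    ∃ (U : Scheme.{u}) (g : U ⟶ S) (_ : AlgebraicGeometry.Etale g) (u : U) (_ : g.base u = s)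
      (n : ℕ) (V : Fin n → Scheme.{u}) (c : ∀ j, V j ⟶ U) (_ : ∀ j, IsClosedImmersion (c j))
      (e : (∐ V) ≅ pullback f g), ∀ j, Sigma.ι V j ≫ e.hom ≫ pullback.snd f g = c j := by
  classical
  let K : Type u := AlgebraicClosure (S.residueField s)
  obtain ⟨y, hy⟩ : ∃ y : Spec (.of K) ⟶ S, Groth.Agent.Weighting.pt y = s :=
    ⟨Spec.map (CommRingCat.ofHom (algebraMap (S.residueField s) K)) ≫ S.fromSpecResidueField s,
      Scheme.fromSpecResidueField_apply s _⟩
  obtain ⟨V', W', h, hh, y', h', q', O, hsq, hy', hcov, hO⟩ := Groth.Agent.Weighting.exists_split f y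
  haveI : FormallyUnramified q' := MorphismProperty.of_isPullback (P := @FormallyUnramified) hsq ‹_›
  have hci := fun i => haveI := (hO i).1; haveI : FormallyUnramified ((O i).ι ≫ q') := MorphismProperty.comp_mem _ _ _ inferInstance ‹_›; exists_closedImm_pointed ((O i).ι ≫ q') y' _ (hO i).2
  choose U hU hUci using hci
  haveI := Groth.Agent.Weighting.finite_gpts f y (f.finite_preimage_singleton _)
  let ι := Groth.Agent.Weighting.GPts f y
  let n := Nat.card ι
  let e := Finite.equivFin ι
  let T : V'.Opens := ⟨⋂ i : ι, (U i : Set V'), isOpen_iInter_of_finite fun i => (U i).2⟩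
  have hT : Groth.Agent.Weighting.pt y' ∈ T := Set.mem_iInter.mpr hU
  refine ⟨T, T.ι ≫ h, inferInstance, ⟨_, hT⟩, ?_, n, ?_⟩
  · show h (Groth.Agent.Weighting.pt y') = s
    rw [← Groth.Agent.Weighting.pt_comp, hy', hy]
  let P := pullback f (T.ι ≫ h)
  let a : P ⟶ W' := hsq.lift (pullback.fst _ _) (pullback.snd _ _ ≫ T.ι) (by rw [pullback.condition, Category.assoc])
  have hP : IsPullback a (pullback.snd f (T.ι ≫ h)) q' T.ι :=
    IsPullback.of_right (by rw [hsq.lift_fst]; exact IsPullback.of_hasPullback _ _) (hsq.lift_snd _ _ _) hsq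
  let Q : Fin n → P.Opens := fun j => a ⁻¹ᵁ O (e.symm j)
  let c : ∀ j, (Q j : Scheme.{u}) ⟶ T := fun j => (Q j).ι ≫ pullback.snd f (T.ι ≫ h)
  have hc : ∀ j, IsClosedImmersion (c j) := by
    intro j
    set i := e.symm j
    have hle : T ≤ U i := fun v hv => Set.mem_iInter.mp hv i
    have hciT : IsClosedImmersion (((O i).ι ≫ q') ∣_ T) := by
      haveI := hUci i
      have hTU : T = (U i).ι ''ᵁ ((U i).ι ⁻¹ᵁ T) := by
        rw [Scheme.Hom.image_preimage_eq_opensRange_inf, Scheme.Opens.opensRange_ι, inf_eq_right.mpr hle]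
      rw [hTU, ← MorphismProperty.arrow_mk_iso_iff (@IsClosedImmersion) (morphismRestrictRestrict _ (U i) _)]
      exact IsZariskiLocalAtTarget.restrict (P := @IsClosedImmersion) (hUci i) _
    have h1 : IsPullback (a ∣_ O i) (c j) ((O i).ι ≫ q') T.ι :=
      (isPullback_morphismRestrict a (O i)).paste_vert hP
    have h2 : IsPullback (((O i).ι ≫ q') ⁻¹ᵁ T).ι (((O i).ι ≫ q') ∣_ T) ((O i).ι ≫ q') T.ι :=
      (isPullback_morphismRestrict ((O i).ι ≫ q') T).flip
    have e1 : c j = (h1.isoIsPullback _ _ h2).hom ≫ (((O i).ι ≫ q') ∣_ T) :=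
      (h1.isoIsPullback_hom_snd _ _ h2).symm
    rw [e1]
    infer_instance
  refine ⟨fun j => (Q j : Scheme.{u}), c, hc, ?_⟩
  obtain ⟨hcol⟩ := nonempty_isColimit_cofanMk_of (fun j => (Q j).ι) (by
    rw [eq_top_iff]
    intro p _
    obtain ⟨i, hi, -⟩ := hcov (a p)
    refine TopologicalSpace.Opens.mem_iSup.mpr ⟨e i, ?_⟩
    rw [Scheme.Opens.opensRange_ι]
    show a p ∈ O (e.symm (e i))
    rwa [e.symm_apply_apply]) (by
    intro j k hjk
    simp only [Function.onFun, Scheme.Opens.opensRange_ι]
    rw [← TopologicalSpace.Opens.coe_disjoint, Set.disjoint_left]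
    intro p hpj hpk
    exact hjk (e.symm.injective ((hcov (a p)).unique hpj hpk)))
  refine ⟨colimit.isoColimitCocone ⟨_, hcol⟩, fun j => ?_⟩
  exact (colimit.isoColimitCocone_ι_hom_assoc ⟨_, hcol⟩ ⟨j⟩ _).trans rfl

end Groth.Agent.S0096
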