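import Groth.Statements.S0564
import Groth.Agent.CAlgReg.Serre

set_option autoImplicit false
universe u
open CAlg

namespace Groth.Agent.S0564

/-- The localization of a regular local ring at any prime ideal is a regular local ring. -/
theorem result (R : Type u) [CommRing R]
    [IsRegularLocalRing R] (p : Ideal R) [p.IsPrime] :
    IsRegularLocalRing (Localization.AtPrime p) := by
  obtain ⟨d, hd⟩ := CAlgReg.exists_dim (R := R)
  haveI : IsNoetherianRing (Localization.AtPrime p) := IsLocalization.isNoetherianRing p.primeCompl _ inferInstance
  have h := CAlgReg.pdLT_localization p.primeCompl d (R ⧸ p) (CAlgReg.pdLT_of_isRegularLocalRing hd (R ⧸ p))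
  refine CAlgReg.isRegularLocalRing_of_pdLT (CAlgReg.pdLT_congr ?_ h)
  exact (Algebra.TensorProduct.quotIdealMapEquivTensorQuot (Localization.AtPrime p) p).toLinearEquiv.symm.trans
    (Submodule.quotEquivOfEq _ _ (Localization.AtPrime.map_eq_maximalIdeal (I := p)))

end Groth.Agent.S0564
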