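import Groth.Statements.S0565
import Groth.Agent.CAlgReg.Serre

set_option autoImplicit false
universe u
open CAlg

namespace Groth.Agent.S0565

/-- Let `R → S` be a flat local homomorphism of Noetherian local rings. If `S` is regular then so is
`R`. -/
theorem result (R : Type u) [CommRing R]
    [IsLocalRing R] [IsNoetherianRing R] (S : Type u) [CommRing S] [IsRegularLocalRing S] [Algebra R S]
    [IsLocalHom (algebraMap R S)] [Module.Flat R S] : IsRegularLocalRing R := by
  obtain ⟨d, hd⟩ := CAlgReg.exists_dim (R := S)
  haveI : Module.FaithfullyFlat R S := Module.FaithfullyFlat.of_flat_of_isLocalHom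
  exact CAlgReg.isRegularLocalRing_of_pdLT
    (CAlgReg.pdLT_descend S d _ (CAlgReg.pdLT_of_isRegularLocalRing hd _))

end Groth.Agent.S0565
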