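import Groth.Statements.S11174
import Groth.Agent.MatlisDual.Completion
-- import your own Groth.Agent.* helpers here

set_option autoImplicit false
universe u
open CategoryTheory
open InjHull

namespace Groth.Agent.S11174

/-- Fix a Noetherian local ring A, write m for its maximal ideal and k for its residue field, and let I
be an A-module such that (a) every element of I is killed by some power of m, (b) the A-module
Hom_A(k, I) is isomorphic to k, and (c) there is a decreasing sequence of ideals a_1 ⊇ a_2 ⊇ … of A,
cofinal with the powers of m in both directions (each a_n contains a power of m and each power of m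
contains some a_n), with length_A(A/a_n) = length_A(Hom_A(A/a_n, I)) for every n. Then I is an
injective hull of k: some A-linear map k → I is an essential injection into an injective module. -/
theorem result (A : Type u) [CommRing A] [IsLocalRing A] [IsNoetherianRing A] (I : Type u) [AddCommGroup I] [Module A I] (ha : LocCoh.IsPowerTorsion (IsLocalRing.maximalIdeal A) I) (hb : Nonempty ((IsLocalRing.ResidueField A →ₗ[A] I) ≃ₗ[A] IsLocalRing.ResidueField A)) (a : ℕ → Ideal A) (hanti : Antitone a) (hcof : ∀ n : ℕ, ∃ N : ℕ, IsLocalRing.maximalIdeal A ^ N ≤ a n) (hcof' : ∀ N : ℕ, ∃ n : ℕ, a n ≤ IsLocalRing.maximalIdeal A ^ N) (hlen : ∀ n : ℕ, Module.length A (A ⧸ a n) = Module.length A ((A ⧸ a n) →ₗ[A] I)) : ∃ f : IsLocalRing.ResidueField A →ₗ[A] I, InjHull.IsInjectiveHull f := by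
  obtain ⟨e⟩ := hb
  have hk : IsSimpleModule A (IsLocalRing.ResidueField A) := isSimpleModule_iff_quot_maximal.mpr
    ⟨IsLocalRing.maximalIdeal A, inferInstance, ⟨LinearEquiv.refl A _⟩⟩
  obtain ⟨g, hg⟩ := MatlisDual.exists_isEssentialInj ha (IsSimpleModule.congr e)
  obtain ⟨E, _, _, f, hf⟩ := InjHullBasic.exists_isInjectiveHull A (IsLocalRing.ResidueField A)
  have := hf.isInjective
  obtain ⟨α, hα, hαg⟩ := InjHullBasic.exists_extend hg f hf.injective
  have hsurj : Function.Surjective α := by
    intro y
    obtain ⟨k, hk⟩ := MatlisDual.isPowerTorsion_hull hf y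
    obtain ⟨n, hn⟩ := hcof' k
    obtain ⟨N, hN⟩ := hcof n
    have hfl : IsFiniteLength A (A ⧸ a n) :=
      (MatlisDual.isFiniteLength_quotient_pow (R := A) N).of_surjective
        (f := Submodule.factor hN) (Submodule.factor_surjective hN)
    let post := LinearMap.compRight A (M := A ⧸ a n) α
    have hinj : Function.Injective post := fun p q h =>
      LinearMap.ext fun x => hα (LinearMap.congr_fun h x)
    have hex := Module.length_eq_add_of_exact post (LinearMap.range post).mkQ hinj
      (Submodule.mkQ_surjective _) (LinearMap.exact_map_mkQ_range post)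
    rw [MatlisDual.length_dual hf hfl, ← hlen n] at hex
    have h0 := ENat.add_right_injective_of_ne_top (Module.length_ne_top_iff.mpr hfl)
      (hex.symm.trans (add_zero _).symm)
    obtain ⟨ψ, hψ⟩ := LinearMap.range_eq_top.mp
      (Submodule.Quotient.subsingleton_iff.mp (Module.length_eq_zero_iff.mp h0))
      (Submodule.liftQ (a n) (LinearMap.toSpanSingleton A E y) fun r hr => hk r (hn hr))
    refine ⟨ψ (Submodule.Quotient.mk 1), ?_⟩
    have := LinearMap.congr_fun hψ (Submodule.Quotient.mk 1)
    exact this.trans (one_smul A y)
  exact ⟨g, hg, InjHullBasic.injective_of_linearEquiv (LinearEquiv.ofBijective α ⟨hα, hsurj⟩).symm⟩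

end Groth.Agent.S11174
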