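import Groth.Statements.S0386
import Groth.Agent.FlatLocus.Model
import Groth.Agent.Unram.Pointwise

set_option autoImplicit false
universe u
open FlatMor

namespace Groth.Agent.S0386

open AlgebraicGeometry CategoryTheory Limits in
/-- Openness of the flat locus: for a morphism f : X ⟶ S locally of finite presentation, the set of
points x of X at which the local ring O_{X,x} is flat over O_{S,f(x)} is open in X. (The published
statement also treats the flat locus of a finitely presented quasi-coherent module; stated here for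
the structure sheaf.) -/
theorem result {X S : Scheme.{u}} (f : X ⟶ S) [LocallyOfFinitePresentation f] :
    IsOpen {x : X | (f.stalkMap x).hom.Flat} := by
  rw [isOpen_iff_forall_mem_open]
  intro x hx
  obtain ⟨U, hU, V, hV, hVU, hxV⟩ := Groth.Agent.Unram.exists_chart f x
  let := (f.appLE U V hVU).hom.toAlgebra
  have : Algebra.FinitePresentation Γ(S, U) Γ(X, V) := f.finitePresentation_appLE hU hV hVU
  have hW := Groth.Agent.FlatLocus.isOpen_flatLocus (B := Γ(S, U)) (S := Γ(X, V)) (M := Γ(X, V))
  have key : ∀ (y : X) (hy : y ∈ V), (f.stalkMap y).hom.Flat ↔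
      hV.primeIdealOf ⟨y, hy⟩ ∈ {q : PrimeSpectrum Γ(X, V) |
        Module.Flat Γ(S, U) (LocalizedModule q.asIdeal.primeCompl Γ(X, V))} := fun y hy =>
    (Groth.Agent.Unram.flat_stalkMap_iff U hU V hV hVU hy).trans
      (Module.Flat.equiv_iff ((IsLocalizedModule.linearEquiv (hV.primeIdealOf ⟨y, hy⟩).asIdeal.primeCompl
        (Algebra.linearMap Γ(X, V) (Localization.AtPrime (hV.primeIdealOf ⟨y, hy⟩).asIdeal))
        (LocalizedModule.mkLinearMap _ Γ(X, V))).restrictScalars Γ(S, U)))
  refine ⟨hV.fromSpec '' _, ?_, hV.fromSpec.isOpenEmbedding.isOpenMap _ hW,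
    ⟨_, (key x hxV).1 hx, hV.fromSpec_primeIdealOf ⟨x, hxV⟩⟩⟩
  rintro _ ⟨q, hq, rfl⟩
  have hy : hV.fromSpec q ∈ V := by
    rw [← SetLike.mem_coe, ← hV.range_fromSpec]
    exact ⟨q, rfl⟩
  have he : hV.primeIdealOf ⟨hV.fromSpec q, hy⟩ = q :=
    hV.fromSpec.isOpenEmbedding.injective (hV.fromSpec_primeIdealOf _)
  exact (key _ hy).2 (he.symm ▸ hq)

end Groth.Agent.S0386
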