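import Groth.Statements.S4961
import Groth.Agent.S0386
import Groth.Agent.FlatLocus.Scheme
import Groth.Agent.CMRel.Scheme

set_option autoImplicit false
open CategoryTheory AlgebraicGeometry
universe u v w
open EGA43

namespace Groth.Agent.S4961

/-- Let f : X ⟶ Y be a morphism locally of finite presentation. The set of points x of X at which f is
Cohen–Macaulay (f flat at x and the local ring at x of the fibre through x Cohen–Macaulay) is open
in X. -/
theorem result {X Y : Scheme.{u}} (f : X ⟶ Y)
    [LocallyOfFinitePresentation f] : IsOpen {x : X | MoreMor.IsCMAt f x} := by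
  rw [isOpen_iff_forall_mem_open]
  intro x hx
  obtain ⟨n, U, hxU, g, hg, hqf, hflat⟩ := CMRel.exists_factor f x hx
  have : LocallyOfFiniteType f := inferInstance
  have : LocallyOfFinitePresentation (g ≫ (𝔸(ULift.{u} (Fin n); Y) ↘ Y)) := hg ▸ inferInstance
  have : LocallyOfFinitePresentation g :=
    FlatLocus.locallyOfFinitePresentation_of_comp g (𝔸(ULift.{u} (Fin n); Y) ↘ Y)
  refine ⟨U.ι '' {z | (g.stalkMap z).hom.Flat}, ?_, U.ι.isOpenEmbedding.isOpenMap _ (Groth.Agent.S0386.result g), ⟨x, hxU⟩, hflat, rfl⟩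
  rintro _ ⟨z, hz, rfl⟩
  exact CMRel.isCMAt_of_factor f U g _ hg z hz (CMRel.isCMAt_affineSpace _ _ _)

end Groth.Agent.S4961
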