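import Groth.Statements.S1341
import Groth.Agent.LimSch.MaxPoints
import Groth.Agent.S4961
import Groth.Agent.CMRel.Scheme

set_option autoImplicit false
universe u
open FlatMor

namespace Groth.Agent.S1341

open AlgebraicGeometry CategoryTheory Limits in
/-- Let f : X ⟶ S be flat and locally of finite presentation. Then the set of points of X at which f is
Cohen–Macaulay is open in X, and its intersection with every fibre of f is dense in that fibre. -/
theorem result {X S : Scheme.{u}} (f : X ⟶ S) [Flat f] [LocallyOfFinitePresentation f] :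
    IsOpen {x : ↑X | MoreMor.IsCMAt f x} ∧ ∀ s : S, Dense ((f.fiberι s) ⁻¹' {x : ↑X | MoreMor.IsCMAt f x}) := by
  refine ⟨Groth.Agent.S4961.result f, fun s => Groth.Agent.LimSch.dense_of_isMaxPt_mem fun z hz => ?_⟩
  show MoreMor.IsCMAt f (f.fiberι s z)
  rw [Groth.Agent.FlatLocalDepth.isCMAt_iff]
  refine ⟨AlgebraicGeometry.Flat.stalkMap f _, ?_⟩
  obtain ⟨e⟩ := Groth.Agent.FlatLocalDepth.nonempty_fibre_stalk_equiv f s z _ rfl
  refine @Groth.Agent.FlatLocalDepth.isCohenMacaulayLocalRing_of_ringEquiv _ _ _ _ ?_ e.symm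
  have := Groth.Agent.FlatOverBC.isLocallyNoetherian_fiber f s
  have h0 : ringKrullDim ((f.fiber s).presheaf.stalk z) = 0 := by
    rw [ringKrullDim_stalk_eq_coheight, WithBot.coe_eq_zero, Order.coheight_eq_zero]
    intro y hy
    rw [hz y hy]
  rw [Groth.Agent.Depth.isCohenMacaulayLocalRing_iff]
  exact le_antisymm (h0.le.trans (WithBot.coe_le_coe.2 zero_le)) Groth.Agent.Depth.depth_le_ringKrullDim

end Groth.Agent.S1341
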