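import Groth.Statements.S9623
import Mathlib
import Groth.Agent.GeomConn.Algebra
import Groth.Agent.GeomConn.Scheme
-- import your own Groth.Agent.* helpers here

set_option autoImplicit false
universe u
open CAlg

namespace Groth.Agent.S9623

open TensorProduct PrimeSpectrum

/-- Connected base and connected fibres. -/
lemma connectedSpace_tensor {k R S : Type*} [Field k] [CommRing R] [CommRing S] [Algebra k R] [Algebra k S]
    [ConnectedSpace (PrimeSpectrum R)]
    (h : ∀ p : PrimeSpectrum R, ConnectedSpace (PrimeSpectrum (p.asIdeal.ResidueField ⊗[k] S))) :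
    ConnectedSpace (PrimeSpectrum (R ⊗[k] S)) := by
  have hfib : ∀ p : PrimeSpectrum R,
      ConnectedSpace ↥(comap (algebraMap R (R ⊗[k] S)) ⁻¹' {p}) := fun p => by
    have := h p
    let e : p.asIdeal.Fiber (R ⊗[k] S) ≃+* p.asIdeal.ResidueField ⊗[k] S :=
      (Algebra.TensorProduct.cancelBaseChange k R R p.asIdeal.ResidueField S).toRingEquiv
    exact ((homeomorphOfRingEquiv e).symm.trans (preimageHomeomorphFiber R (R ⊗[k] S) p).symm).surjective.connectedSpace
      ((homeomorphOfRingEquiv e).symm.trans (preimageHomeomorphFiber R (R ⊗[k] S) p).symm).continuous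
  refine Groth.Agent.GeomConn.connectedSpace_of_isOpenMap _ (PrimeSpectrum.continuous_comap _)
    isOpenMap_comap_algebraMap_tensorProduct_of_field (fun p => ?_) fun p => ?_
  · obtain ⟨⟨q, hq⟩⟩ := (hfib p).toNonempty
    exact ⟨q, hq⟩
  · exact isPreconnected_iff_preconnectedSpace.2 (hfib p).toPreconnectedSpace

lemma connectedSpace_comm {k R S : Type*} [Field k] [CommRing R] [CommRing S] [Algebra k R] [Algebra k S]
    (h : ConnectedSpace (PrimeSpectrum (R ⊗[k] S))) : ConnectedSpace (PrimeSpectrum (S ⊗[k] R)) :=
  let e := homeomorphOfRingEquiv (Algebra.TensorProduct.comm k R S).toRingEquiv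
  e.surjective.connectedSpace e.continuous

lemma connectedSpace_algClosed {k R S : Type*} [Field k] [IsAlgClosed k] [CommRing R] [CommRing S]
    [Algebra k R] [Algebra k S] [ConnectedSpace (PrimeSpectrum R)] [ConnectedSpace (PrimeSpectrum S)] :
    ConnectedSpace (PrimeSpectrum (R ⊗[k] S)) := by
  refine connectedSpace_tensor fun p => connectedSpace_comm (connectedSpace_tensor fun q => ?_)
  have := Groth.Agent.GeomConn.isDomain_tensorProduct (k := k) q.asIdeal.ResidueField p.asIdeal.ResidueField
  infer_instance

end Groth.Agent.S9623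

namespace Groth.Agent.S9623

open TensorProduct in
/-- Let k be a separably closed field and R, S two k-algebras with connected (nonempty) spectra. Then
Spec(R ⊗_k S) is connected. -/
theorem result {k R S : Type u} [Field k] [IsSepClosed k] [CommRing R] [CommRing S] [Algebra k R] [Algebra k S]
    [ConnectedSpace (PrimeSpectrum R)] [ConnectedSpace (PrimeSpectrum S)] :
    ConnectedSpace (PrimeSpectrum (R ⊗[k] S)) := by
  let K := AlgebraicClosure k
  haveI : IsPurelyInseparable k K := (isSepClosed_iff_isPurelyInseparable_algebraicClosure k K).1 ‹_›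
  have hpi : ∀ (T : Type u) [CommRing T] [Algebra k T] [ConnectedSpace (PrimeSpectrum T)],
      ConnectedSpace (PrimeSpectrum (K ⊗[k] T)) := fun T _ _ _ => by
    let h := (PrimeSpectrum.isHomeomorph_comap_of_isPurelyInseparable (R := T) k K).homeomorph
    exact Groth.Agent.S9623.connectedSpace_comm (h.symm.surjective.connectedSpace h.symm.continuous)
  haveI := hpi R
  haveI := hpi S
  have hK : ConnectedSpace (PrimeSpectrum ((K ⊗[k] R) ⊗[K] (K ⊗[k] S))) :=
    Groth.Agent.S9623.connectedSpace_algClosed
  let e : ((K ⊗[k] R) ⊗[K] (K ⊗[k] S)) ≃+* (K ⊗[k] (R ⊗[k] S)) :=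
    (Algebra.TensorProduct.cancelBaseChange k K K (K ⊗[k] R) S).toRingEquiv.trans
      (Algebra.TensorProduct.assoc k k k K R S).toRingEquiv
  let he := PrimeSpectrum.homeomorphOfRingEquiv e
  haveI hKT : ConnectedSpace (PrimeSpectrum (K ⊗[k] (R ⊗[k] S))) :=
    he.surjective.connectedSpace he.continuous
  haveI := Groth.Agent.S9623.connectedSpace_comm hKT
  let h := (PrimeSpectrum.isHomeomorph_comap_of_isPurelyInseparable (R := R ⊗[k] S) k K).homeomorph
  exact h.surjective.connectedSpace h.continuous

end Groth.Agent.S9623
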