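import Groth.Statements.S0392
import Groth.Agent.FlatCrit.BaseIdeal
import Mathlib.RingTheory.Flat.FaithfullyFlat.Basic

set_option autoImplicit false
universe u
open FlatMor

namespace Groth.Agent.S0392

open TensorProduct in
/-- Fibrewise criterion of flatness, Noetherian local form: for local homomorphisms R → S → S' of
Noetherian local rings and a nonzero finite S'-module M that is flat over R and whose reduction
modulo the maximal ideal of R is flat over the corresponding fibre ring of S, the ring S is flat
over R and M is flat over S. -/
theorem result {R S S' M : Type u} [CommRing R] [CommRing S] [CommRing S'] [IsLocalRing R] [IsLocalRing S] [IsLocalRing S']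
    [IsNoetherianRing R] [IsNoetherianRing S] [IsNoetherianRing S'] [Algebra R S] [Algebra S S'] [Algebra R S'] [IsScalarTower R S S']
    [IsLocalHom (algebraMap R S)] [IsLocalHom (algebraMap S S')]
    [AddCommGroup M] [Module S' M] [Module S M] [Module R M] [IsScalarTower S S' M] [IsScalarTower R S M]
    [Module.Finite S' M] [Nontrivial M] [Module.Flat R M]
    (h : Module.Flat (S ⧸ ((IsLocalRing.maximalIdeal R).map (algebraMap R S))) ((S ⧸ ((IsLocalRing.maximalIdeal R).map (algebraMap R S))) ⊗[S] M)) :
    Module.Flat R S ∧ Module.Flat S M := by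
  haveI := h
  have hmap : ((IsLocalRing.maximalIdeal R).map (algebraMap R S)).map (algebraMap S S') ≤ Ideal.jacobson ⊥ :=
    ((Ideal.map_mono (((IsLocalRing.local_hom_TFAE (algebraMap R S)).out 0 2).mp ‹_›)).trans
      (((IsLocalRing.local_hom_TFAE (algebraMap S S')).out 0 2).mp ‹_›)).trans (IsLocalRing.maximalIdeal_le_jacobson _)
  haveI hM : Module.Flat S M := Groth.Agent.FlatCrit.flat_of_le_jacobson (S := S') hmap
    (Groth.Agent.FlatCrit.lTensor_subtype_map_injective_of_flat _)
  refine ⟨?_, hM⟩
  haveI : Module.FaithfullyFlat S M := by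
    refine ⟨fun {m} hm e => ?_⟩
    rw [IsLocalRing.eq_maximalIdeal hm] at e
    have h1 : (⊤ : Submodule S' M) ≤ IsLocalRing.maximalIdeal S' • ⊤ := fun x _ => by
      have := Groth.Agent.FlatCrit.mem_map_smul_top (S := S') (e.ge (Submodule.mem_top (x := x)))
      exact Submodule.smul_mono (((IsLocalRing.local_hom_TFAE (algebraMap S S')).out 0 2).mp ‹_›) le_rfl this
    have h2 := Submodule.eq_bot_of_le_smul_of_le_jacobson_bot _ _ Module.Finite.fg_top h1
      (IsLocalRing.maximalIdeal_le_jacobson _)
    exact top_ne_bot h2
  rw [Module.Flat.iff_lTensor_injective']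
  intro K
  let f : S ⊗[R] K →ₗ[S] S ⊗[R] R := TensorProduct.AlgebraTensorModule.lTensor S S K.subtype
  have hf : Function.Injective (f.lTensor M) := by
    have h1 := TensorProduct.AlgebraTensorModule.lTensor_comp_cancelBaseChange R S S (M := M) K.subtype
    intro x y hxy
    apply (TensorProduct.AlgebraTensorModule.cancelBaseChange R S S M K).injective
    apply Module.Flat.lTensor_preserves_injective_linearMap (M := M) K.subtype Subtype.val_injective
    have hx := LinearMap.congr_fun h1 x
    have hy := LinearMap.congr_fun h1 y
    simp only [LinearMap.coe_comp, Function.comp_apply, LinearEquiv.coe_coe] at hx hy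
    exact hx.trans ((congrArg _ hxy).trans hy.symm)
  exact (Module.FaithfullyFlat.lTensor_injective_iff_injective S M f).mp hf

end Groth.Agent.S0392
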