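import Groth.Statements.S1386
import Groth.Agent.FlatLocus.Scheme
import Groth.Agent.S0386

set_option autoImplicit false
universe u
open FlatMor

namespace Groth.Agent.S1386

open AlgebraicGeometry CategoryTheory Limits in
/-- Fibrewise flatness criterion (critère de platitude par fibres), for the structure sheaf: let f : X →
Y and g : Y → S be morphisms of schemes with X locally of finite presentation over S (via g ∘ f) and
Y locally of finite type over S. For a point x of X with images y = f(x) and s = g(y) the following
are equivalent: (1) X → S is flat at x and the induced morphism of fibres X_s → Y_s is flat at x;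
(2) Y → S is flat at y and f is flat at x. Moreover the set of points x at which (2) holds is open
in X. The published statement treats a finitely presented quasi-coherent O_X-module; here the module
is O_X. -/
theorem result {X Y S : Scheme.{u}} (f : X ⟶ Y) (g : Y ⟶ S) [LocallyOfFinitePresentation (f ≫ g)] [LocallyOfFiniteType g] :
    (∀ x : X, ((f ≫ g).stalkMap x).hom.Flat ∧ ((MoreMor.fiberMap f g (g (f x))).stalkMap ((f ≫ g).asFiber x)).hom.Flat ↔
        (g.stalkMap (f x)).hom.Flat ∧ (f.stalkMap x).hom.Flat) ∧
      IsOpen {x : ↑X | (g.stalkMap (f x)).hom.Flat ∧ (f.stalkMap x).hom.Flat} := by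
  refine ⟨fun x => ⟨fun h => Groth.Agent.FlatLocus.flat_of_flat_fiberMap f g x h.1 h.2,
    fun h => ⟨?_, Groth.Agent.FlatLocus.flat_fiberMap_of_flat f g x h.2⟩⟩, ?_⟩
  · rw [Scheme.Hom.stalkMap_comp]
    exact h.1.comp h.2
  · have : LocallyOfFinitePresentation f :=
      Groth.Agent.FlatLocus.locallyOfFinitePresentation_of_comp f g
    have hopen : ∀ {X' Y' : Scheme.{u}} (φ : X' ⟶ Y') [LocallyOfFinitePresentation φ],
        IsOpen {x : X' | (φ.stalkMap x).hom.Flat} := fun φ _ => Groth.Agent.S0386.result φ
    convert (hopen (f ≫ g)).inter (hopen f) using 1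
    ext x
    refine ⟨fun h => ⟨?_, h.2⟩, fun h => ⟨Groth.Agent.GrpSch.flat_stalkMap_of_comp f g x h.2 h.1, h.2⟩⟩
    change ((f ≫ g).stalkMap x).hom.Flat
    rw [Scheme.Hom.stalkMap_comp]
    exact h.1.comp h.2

end Groth.Agent.S1386
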