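import Groth.Statements.S10649
import Groth.Agent.S10271
import Groth.Agent.S9955
import Groth.Agent.S9925
import Groth.Agent.S10260
import Groth.Agent.S9912
import Groth.Agent.S9922
import Groth.Agent.AlgSpc.TestedMor
import Groth.Agent.AlgSpc.SepProper
import Mathlib.AlgebraicGeometry.ZariskisMainTheorem

set_option autoImplicit false
set_option backward.isDefEq.respectTransparency false
universe u
open CategoryTheory CategoryTheory.Limits AlgebraicGeometry
open AlgSp

namespace Groth.Agent.S10649

open Groth.Agent.AlgSpc

/-- A morphism of schemes which is separated as a morphism of spaces is separated. -/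
theorem isSeparated_of_mor {S : Scheme.{u}} {W T : Over S} (i : W ⟶ T) (h : IsSeparatedMor ((yon S).map i)) :
    IsSeparated i.left := by
  let e := PreservesPullback.iso (yon S) i i
  have h1 : (yon S).map (pullback.diagonal i) ≫ e.hom = pullback.diagonal ((yon S).map i) := by
    apply pullback.hom_ext
    · rw [Category.assoc, PreservesPullback.iso_hom_fst, ← Functor.map_comp, pullback.diagonal_fst,
        pullback.diagonal_fst, CategoryTheory.Functor.map_id]
    · rw [Category.assoc, PreservesPullback.iso_hom_snd, ← Functor.map_comp, pullback.diagonal_snd,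
        pullback.diagonal_snd, CategoryTheory.Functor.map_id]
  have h2 : IsClosedImmersion (pullback.diagonal i).left := (repWith_yon_map_iff @IsClosedImmersion _).1 (by
    have : (yon S).map (pullback.diagonal i) = pullback.diagonal ((yon S).map i) ≫ e.inv := by
      rw [← h1, Category.assoc, Iso.hom_inv_id, Category.comp_id]
    rw [this]
    exact repWith_comp h (repWith_iso e.inv))
  let e' := PreservesPullback.iso (Over.forget S) i i
  have h3 : pullback.diagonal i.left = (pullback.diagonal i).left ≫ e'.hom := by
    apply pullback.hom_ext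
    · rw [pullback.diagonal_fst, Category.assoc]
      erw [PreservesPullback.iso_hom_fst]
      rw [Over.forget_map, ← Over.comp_left, pullback.diagonal_fst, Over.id_left]
    · rw [pullback.diagonal_snd, Category.assoc]
      erw [PreservesPullback.iso_hom_snd]
      rw [Over.forget_map, ← Over.comp_left, pullback.diagonal_snd, Over.id_left]
  refine ⟨?_⟩
  rw [h3]
  infer_instance


/-- The following conditions on a morphism f : X ⟶ Y of algebraic spaces over S are equivalent: (1)
finiteness of f; (2) f is locally quasi-finite as well as proper (locally quasi-finite and locally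
of finite type etale locally); (3) f is proper and for every field k and every k-point Spec k ⟶ Y
the fibre X_k (any pullback of f along it in fppf sheaves) has discrete space of points; (4) f is
universally closed, separated and locally of finite type, and every such fibre X_k has discrete
space of points. -/
theorem result {S : Scheme.{u}} {X Y : AlgSp.Space S} (f : X ⟶ Y) :
    [AlgSp.IsFiniteMor f.hom,
      AlgSp.IsProperMor f.hom ∧ AlgSp.LocP (@LocallyQuasiFinite ⊓ @LocallyOfFiniteType) f.hom,
      AlgSp.IsProperMor f.hom ∧
        ∀ (k : AlgSp.FieldPt Y.obj) (Xk : AlgSp.Sp S) (fst : Xk ⟶ X.obj) (snd : Xk ⟶ (AlgSp.yon S).obj k.pt),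
          IsPullback fst snd f.hom k.toHom → DiscreteTopology (AlgSp.Points Xk),
      AlgSp.IsUnivClosedMor f.hom ∧ AlgSp.IsSeparatedMor f.hom ∧ AlgSp.LocP @LocallyOfFiniteType f.hom ∧
        ∀ (k : AlgSp.FieldPt Y.obj) (Xk : AlgSp.Sp S) (fst : Xk ⟶ X.obj) (snd : Xk ⟶ (AlgSp.yon S).obj k.pt),
          IsPullback fst snd f.hom k.toHom → DiscreteTopology (AlgSp.Points Xk)].TFAE := by
  tfae_have 1 → 2 := fun h => by
    have hr := (repWith_finite_iff f.hom).1 h
    exact ⟨((S10271.result f).1 h).2,
      locP_of_repWith (P := @LocallyQuasiFinite ⊓ @LocallyOfFiniteType) EtLoc.precomp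
        (repWith_mono (Q := @LocallyQuasiFinite ⊓ @LocallyOfFiniteType)
          (fun _ _ g (_ : IsFinite g) => ⟨inferInstance, inferInstance⟩) hr)⟩
  tfae_have 2 → 3 := fun ⟨hp, hq⟩ => ⟨hp, fun k Xk fst snd sq =>
    (S9955.result f hp.2.1.1).1 hq k.K k.str k.toHom Xk fst snd sq⟩
  tfae_have 3 → 4 := fun ⟨hp, h⟩ => ⟨hp.2.2, hp.1, hp.2.1.1, h⟩
  tfae_have 4 → 1 := fun ⟨hc, hsep, hft, h⟩ => by
    have hqf : LocP (@LocallyQuasiFinite ⊓ @LocallyOfFiniteType) f.hom :=
      (S9955.result f hft).2 fun k _ str y P fst snd sq => by
        let r : FieldPt Y.obj := ⟨k, str, (GrothendieckTopology.uliftYonedaEquiv _).toFun y⟩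
        have hr : r.toHom = y := (GrothendieckTopology.uliftYonedaEquiv _).symm_apply_apply y
        exact h r P fst snd (hr ▸ sq)
    have hrep := S10260.result f hqf hsep
    have hqc := (S9912.result f hrep).2 (S9925.result f hc)
    have hcl := (S9922.result f hrep).2 hc
    refine (repWith_finite_iff f.hom).2 ⟨hrep, fun T V g fst i sq => ?_⟩
    have hlq := prop_of_locP_sq (P := @LocallyQuasiFinite ⊓ @LocallyOfFiniteType) X.property Y.property hqf sq
    haveI : LocallyQuasiFinite i.left := hlq.1
    haveI : LocallyOfFiniteType i.left := hlq.2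
    haveI : QuasiCompact i.left := hqc.2 g fst i sq
    haveI : UniversallyClosed i.left := hcl.2 g fst i sq
    haveI : IsSeparated i.left := isSeparated_of_mor i (repWith_diagonal_base_change sq hsep)
    haveI : IsProper i.left := ⟨⟩
    exact IsFinite.of_isProper_of_locallyQuasiFinite i.left
  tfae_finish

end Groth.Agent.S10649
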