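import Groth.Statements.S6359
import Mathlib

set_option autoImplicit false
universe u
open CAlg

namespace Groth.Agent.S6359
open TensorProduct

/-- Let f : M → N and g : M → M' be maps of R-modules such that the cokernel of f is finitely presented.
Then g dominates f (for every module Q the kernel of f ⊗ id_Q is contained in the kernel of g ⊗
id_Q) if and only if g factors through f. -/
theorem result (R : Type u) [CommRing R] {M N M' : Type u}
    [AddCommGroup M] [Module R M] [AddCommGroup N] [Module R N] [AddCommGroup M'] [Module R M']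
    (f : M →ₗ[R] N) (g : M →ₗ[R] M') [Module.FinitePresentation R (N ⧸ LinearMap.range f)] :
    (∀ (Q : Type u) [AddCommGroup Q] [Module R Q], LinearMap.ker (f.rTensor Q) ≤ LinearMap.ker (g.rTensor Q)) ↔
      ∃ h : N →ₗ[R] M', g = h ∘ₗ f := by
  classical
  constructor
  · intro H
    obtain ⟨n, K, e, hK⟩ := Module.FinitePresentation.exists_fin R (N ⧸ LinearMap.range f)
    obtain ⟨m, c, hc⟩ := Submodule.fg_iff_exists_fin_generating_family.1 hK
    let ψ : (Fin n → R) →ₗ[R] N ⧸ LinearMap.range f := e.symm.toLinearMap ∘ₗ K.mkQ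
    obtain ⟨L, hL⟩ := Module.projective_lifting_property (LinearMap.range f).mkQ ψ (Submodule.mkQ_surjective _)
    have hL' : ∀ v, Submodule.Quotient.mk (L v) = e.symm (Submodule.Quotient.mk v) := fun v => LinearMap.congr_fun hL v
    have hmem : ∀ k, ∃ α, f α = L (c k) := by
      intro k
      have : c k ∈ K := hc ▸ Submodule.subset_span ⟨k, rfl⟩
      have h1 := hL' (c k)
      rw [(Submodule.Quotient.mk_eq_zero K).2 this, map_zero, Submodule.Quotient.mk_eq_zero] at h1
      exact h1
    choose α hα using hmem
    let T : (Fin n → R) →ₗ[R] (Fin m → R) :=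
      LinearMap.pi fun k => ∑ i, c k i • LinearMap.proj i
    have hT : ∀ (v : Fin n → R) k, T v k = ∑ i, c k i * v i := fun v k => by simp [T]
    let q := (LinearMap.range T).mkQ
    let x : M ⊗[R] ((Fin m → R) ⧸ LinearMap.range T) := ∑ k, α k ⊗ₜ q (Pi.single k 1)
    have hLs : ∀ v : Fin n → R, L v = ∑ i, v i • L (Pi.single i 1) := by
      intro v
      conv_lhs => rw [pi_eq_sum_univ' v]
      simp
    have hx : x ∈ LinearMap.ker (f.rTensor _) := by
      rw [LinearMap.mem_ker]
      simp only [x, map_sum, LinearMap.rTensor_tmul, hα]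
      calc ∑ k, L (c k) ⊗ₜ[R] q (Pi.single k 1)
          = ∑ i, L (Pi.single i 1) ⊗ₜ[R] q (∑ k, c k i • Pi.single k 1) := by
            simp only [hLs (c _), map_sum, map_smul, tmul_sum, sum_tmul, tmul_smul, smul_tmul']
            exact Finset.sum_comm
        _ = 0 := by
            refine Finset.sum_eq_zero fun i _ => ?_
            have : q (∑ k, c k i • Pi.single k 1) = 0 := by
              rw [Submodule.mkQ_apply, Submodule.Quotient.mk_eq_zero]
              refine ⟨Pi.single i 1, funext fun k => ?_⟩
              rw [hT]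
              simp [Pi.single_apply, Finset.sum_apply]
            rw [this, tmul_zero]
    have hgx := H _ hx
    rw [LinearMap.mem_ker] at hgx
    simp only [x, map_sum, LinearMap.rTensor_tmul] at hgx
    have hz : (LinearMap.range T).mkQ.lTensor M' (∑ k, g (α k) ⊗ₜ[R] (Pi.single k 1 : Fin m → R)) = 0 := by
      simpa [map_sum, q] using hgx
    have hexact := lTensor_exact M' (LinearMap.exact_map_mkQ_range T) (Submodule.mkQ_surjective _)
    obtain ⟨y, hy⟩ := (hexact _).1 hz
    -- coordinates
    let E1 := TensorProduct.piScalarRight R R M' (Fin n)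
    let E2 := TensorProduct.piScalarRight R R M' (Fin m)
    have hsq : ∀ y : M' ⊗[R] (Fin n → R), ∀ k, E2 (T.lTensor M' y) k = ∑ i, c k i • E1 y i := by
      intro y k
      induction y with
      | zero => simp
      | add a b ha hb => simp [ha, hb, Finset.sum_add_distrib]
      | tmul a v =>
        simp [E1, E2, hT, Finset.sum_smul, mul_smul]
    have hrel : ∀ k, ∑ i, c k i • E1 y i = g (α k) := by
      intro k
      rw [← hsq, hy]
      simp [E2, Pi.single_apply, Finset.sum_apply, ite_smul]
    let β := E1 y
    let G : (Fin n → R) →ₗ[R] M' := Fintype.linearCombination R β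
    have hG : ∀ v, G v = ∑ i, v i • β i := fun v => by simp [G, Fintype.linearCombination_apply]
    let Φ : M × (Fin n → R) →ₗ[R] N := f.coprod L
    let Ψ : M × (Fin n → R) →ₗ[R] M' := g.coprod G
    have hsurj : Function.Surjective Φ := by
      intro z
      obtain ⟨v, hv⟩ := (K.mkQ_surjective) (e (Submodule.Quotient.mk z))
      have : z - L v ∈ LinearMap.range f := by
        rw [← Submodule.Quotient.mk_eq_zero, Submodule.Quotient.mk_sub, hL', ← Submodule.mkQ_apply K, hv, e.symm_apply_apply, sub_self]
      obtain ⟨w, hw⟩ := this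
      exact ⟨(w, v), by simp [Φ, hw]⟩
    have hker : LinearMap.ker Φ ≤ LinearMap.ker Ψ := by
      rintro ⟨w, v⟩ hwv
      simp only [Φ, Ψ, LinearMap.mem_ker, LinearMap.coprod_apply] at hwv ⊢
      have hv : v ∈ K := by
        rw [← Submodule.Quotient.mk_eq_zero, ← e.symm.map_eq_zero_iff, ← hL', Submodule.Quotient.mk_eq_zero]
        exact ⟨-w, by rw [map_neg, neg_eq_iff_add_eq_zero]; exact hwv⟩
      rw [← hc, Submodule.mem_span_range_iff_exists_fun] at hv
      obtain ⟨d, rfl⟩ := hv
      have h1 : f (w + ∑ k, d k • α k) = 0 := by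
        rw [map_add, map_sum, ← hwv, map_sum]
        simp [hα]
      have h2 : g (w + ∑ k, d k • α k) = 0 := by
        have := H R (x := (w + ∑ k, d k • α k) ⊗ₜ (1:R)) (by simp [h1])
        rw [LinearMap.mem_ker, LinearMap.rTensor_tmul] at this
        simpa using congrArg (TensorProduct.rid R M') this
      rw [← h2, map_add, map_sum g, map_sum G]
      congr 1
      refine Finset.sum_congr rfl fun k _ => ?_
      rw [map_smul, map_smul, hG, hrel]
    obtain ⟨h, hh⟩ : ∃ h : N →ₗ[R] M', h ∘ₗ Φ = Ψ := by
      refine ⟨(Submodule.liftQ _ Ψ hker) ∘ₗ (LinearMap.quotKerEquivOfSurjective Φ hsurj).symm.toLinearMap, ?_⟩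
      ext z <;> simp [LinearMap.quotKerEquivOfSurjective_symm_apply]
    refine ⟨h, LinearMap.ext fun w => ?_⟩
    have := LinearMap.congr_fun hh (w, 0)
    simpa [Φ, Ψ] using this.symm
  · rintro ⟨h, rfl⟩ Q _ _ z hz
    rw [LinearMap.mem_ker] at hz ⊢
    rw [LinearMap.rTensor_comp, LinearMap.comp_apply, hz, map_zero]

end Groth.Agent.S6359
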