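import Groth.Statements.S1432
import Mathlib.AlgebraicGeometry.Morphisms.ClosedImmersion
import Mathlib.AlgebraicGeometry.IdealSheaf.Functorial
import Mathlib.AlgebraicGeometry.Morphisms.Flat
import Groth.Agent.FpqcDescent.Flat

set_option autoImplicit false
universe u
open FlatMor

namespace Groth.Agent.S1432

open AlgebraicGeometry CategoryTheory CategoryTheory.Limits

theorem ker_eq_bot_of_appTop_injective {X Y : Scheme.{u}} (g : X ⟶ Y) [IsAffine Y] [QuasiCompact g]
    (h : Function.Injective g.appTop) : g.ker = ⊥ := by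
  rw [Scheme.ker_of_isAffine, (RingHom.injective_iff_ker_eq_bot g.appTop.hom).mp h]
  apply Scheme.IdealSheafData.ext_of_isAffine
  simp

theorem app_injective_of_flat_of_surjective {X Y : Scheme.{u}} (g : X ⟶ Y) [Flat g] [Surjective g]
    (U : Y.Opens) : Function.Injective (g.app U) := by
  rw [injective_iff_map_eq_zero]
  intro s hs
  refine TopCat.Presheaf.section_ext Y.sheaf U s 0 fun y hy ↦ ?_
  obtain ⟨x, rfl⟩ := g.surjective y
  have hff : (g.stalkMap x).hom.FaithfullyFlat := Groth.Agent.FpqcDescent.faithfullyFlat_stalkMap g x (Flat.stalkMap g x)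
  have e1 := Scheme.Hom.germ_stalkMap_apply g U x hy s
  rw [hs, map_zero] at e1
  apply hff.injective
  exact e1.trans ((congrArg _ (map_zero _)).trans (map_zero _)).symm

theorem isIso_morphismRestrict_toImage {X Y : Scheme.{u}} (f : X ⟶ Y) [QuasiCompact f]
    (H : ∀ (A B : Type u) [CommRing A] [CommRing B] (φ : A →+* B), Function.Injective φ →
      ∀ (a : Spec (CommRingCat.of B) ⟶ X) (b : Spec (CommRingCat.of A) ⟶ Y),
        Spec.map (CommRingCat.ofHom φ) ≫ b = a ≫ f →
        ∃ l : Spec (CommRingCat.of A) ⟶ X, Spec.map (CommRingCat.ofHom φ) ≫ l = a ∧ l ≫ f = b)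
    (W : f.image.Opens) (hW : IsAffineOpen W) : IsIso (f.toImage ∣_ W) := by
  have : QuasiCompact (f.toImage ≫ f.imageι) := by rw [f.toImage_imageι]; infer_instance
  have : QuasiCompact f.toImage := QuasiCompact.of_comp _ f.imageι
  have : IsAffine W.toScheme := hW
  have : CompactSpace ↑(f.toImage ⁻¹ᵁ W).toScheme :=
    isCompact_iff_compactSpace.mp (f.toImage.isCompact_preimage hW.isCompact)
  let 𝒰 := (f.toImage ⁻¹ᵁ W).toScheme.affineCover.finiteSubcover
  let g : (∐ 𝒰.X) ⟶ (f.toImage ⁻¹ᵁ W).toScheme := Limits.Sigma.desc 𝒰.f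
  have : Flat g := IsZariskiLocalAtSource.sigmaDesc fun i ↦ inferInstance
  have : Surjective g := inferInstance
  have : Epi g := Flat.epi_of_flat_of_surjective g
  let G : (∐ 𝒰.X) ⟶ W.toScheme := g ≫ f.toImage ∣_ W
  have hq : Function.Injective (f.toImage ∣_ W).appTop := by
    rw [Scheme.Hom.appTop, morphismRestrict_app]
    exact (ConcreteCategory.bijective_of_isIso (X.presheaf.map (eqToHom
      (image_morphismRestrict_preimage f.toImage W ⊤)).op)).1.comp
      (TopCat.Presheaf.app_injective_of_stalkFunctor_map_injective (F := f.image.sheaf)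
        f.toImage.c _ fun x _ ↦ f.stalkFunctor_toImage_injective x)
  have hG : Function.Injective G.appTop := by
    rw [Scheme.Hom.comp_appTop]
    exact (app_injective_of_flat_of_surjective g _).comp hq
  obtain ⟨l, hl1, hl2⟩ := H Γ(W, ⊤) Γ(∐ 𝒰.X, ⊤) G.appTop.hom hG
    ((∐ 𝒰.X).isoSpec.inv ≫ g ≫ (f.toImage ⁻¹ᵁ W).ι)
    (W.toScheme.isoSpec.inv ≫ W.ι ≫ f.imageι) (by
      rw [CommRingCat.ofHom_hom, ← Category.assoc, Scheme.isoSpec_inv_naturality G]
      simp [G])
  have hl2' : l ≫ f.toImage = W.toScheme.isoSpec.inv ≫ W.ι := by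
    rw [← cancel_mono f.imageι]
    simp [hl2]
  let r : W.toScheme ⟶ (f.toImage ⁻¹ᵁ W).toScheme :=
    IsOpenImmersion.lift (f.toImage ⁻¹ᵁ W).ι (W.toScheme.isoSpec.hom ≫ l) (by
      rintro _ ⟨z, rfl⟩
      rw [Scheme.Opens.range_ι, SetLike.mem_coe, Scheme.Hom.mem_preimage]
      rw [← Scheme.Hom.comp_apply, Category.assoc, hl2', Iso.hom_inv_id_assoc]
      exact z.2)
  have hr : r ≫ (f.toImage ⁻¹ᵁ W).ι = W.toScheme.isoSpec.hom ≫ l := IsOpenImmersion.lift_fac _ _ _
  refine ⟨r, ?_, ?_⟩
  · rw [← cancel_mono (f.toImage ⁻¹ᵁ W).ι, ← cancel_epi g, ← cancel_epi (∐ 𝒰.X).isoSpec.inv]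
    simp only [Category.assoc, hr, Category.id_comp]
    conv_rhs => rw [← hl1, CommRingCat.ofHom_hom]
    rw [← Category.assoc _ _ l]
    simp only [← Category.assoc]
    congr 1
    rw [← cancel_mono W.toScheme.isoSpec.inv]
    simp only [Category.assoc, Iso.hom_inv_id, Category.comp_id]
    exact (Scheme.isoSpec_inv_naturality G).symm
  · rw [← cancel_mono W.ι]
    simp only [Category.assoc, morphismRestrict_ι, reassoc_of% hr, hl2', Iso.hom_inv_id_assoc,
      Category.id_comp]

open AlgebraicGeometry CategoryTheory Limits in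
/-- For a quasi-compact morphism f : X → Y, being a closed immersion is equivalent to the following
lifting property: for each injective ring map A → B and each commutative square with Spec B → X on
top and Spec A → Y at the bottom there is a lift Spec A → X making both triangles commute. -/
theorem result {X Y : Scheme.{u}} (f : X ⟶ Y) [QuasiCompact f] :
    IsClosedImmersion f ↔ ∀ (A B : Type u) [CommRing A] [CommRing B] (φ : A →+* B), Function.Injective φ →
      ∀ (a : Spec (CommRingCat.of B) ⟶ X) (b : Spec (CommRingCat.of A) ⟶ Y), Spec.map (CommRingCat.ofHom φ) ≫ b = a ≫ f →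
        ∃ l : Spec (CommRingCat.of A) ⟶ X, Spec.map (CommRingCat.ofHom φ) ≫ l = a ∧ l ≫ f = b := by
  constructor
  · intro _ A B _ _ φ hφ a b hab
    have : IsAffine (Spec (CommRingCat.of A)) := inferInstance
    have hbot : (Spec.map (CommRingCat.ofHom φ)).ker = ⊥ := by
      refine ker_eq_bot_of_appTop_injective _ ?_
      have h := Scheme.ΓSpecIso_inv_naturality (CommRingCat.ofHom φ)
      have h' : (Spec.map (CommRingCat.ofHom φ)).appTop =
          (Scheme.ΓSpecIso _).hom ≫ CommRingCat.ofHom φ ≫ (Scheme.ΓSpecIso _).inv := by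
        rw [h, Iso.hom_inv_id_assoc]
      rw [h']
      exact ((ConcreteCategory.bijective_of_isIso (Scheme.ΓSpecIso _).inv).1.comp hφ).comp
        (ConcreteCategory.bijective_of_isIso (Scheme.ΓSpecIso _).hom).1
    have hker : f.ker ≤ b.ker := by
      have := (Scheme.Hom.le_ker_comp a f)
      rwa [← hab, Scheme.Hom.ker_comp, hbot, Scheme.IdealSheafData.map_bot] at this
    refine ⟨IsClosedImmersion.lift f b hker, ?_, IsClosedImmersion.lift_fac _ _ _⟩
    rw [← cancel_mono f, Category.assoc, IsClosedImmersion.lift_fac, hab]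
  · intro H
    have : IsIso f.toImage := by
      change MorphismProperty.isomorphisms Scheme f.toImage
      rw [IsZariskiLocalAtTarget.iff_of_iSup_eq_top (P := MorphismProperty.isomorphisms Scheme)
        (fun W : f.image.affineOpens ↦ W.1) (iSup_affineOpens_eq_top _)]
      exact fun W ↦ isIso_morphismRestrict_toImage f H W.1 W.2
    rw [← f.toImage_imageι]
    infer_instance

end Groth.Agent.S1432
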