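import Groth.Statements.S7128
import Groth.Agent.WEtale.Basic
import Mathlib.RingTheory.LocalRing.ResidueField.Ideal
import Mathlib.RingTheory.TensorProduct.Nontrivial
import Mathlib.RingTheory.Flat.Basic

set_option autoImplicit false
universe u
open EtAlg

namespace Groth.Agent.S7128

/-- A weakly étale algebra over a reduced ring is itself reduced. -/
theorem result (A B : Type u) [CommRing A] [CommRing B] [Algebra A B] [IsReduced A]
    [Algebra.WeaklyEtale A B] : IsReduced B := by
  let K := ∀ p : PrimeSpectrum A, p.asIdeal.ResidueField
  have hinj : Function.Injective (Algebra.ofId A K) := by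
    rw [injective_iff_map_eq_zero]
    intro x hx
    have h : x ∈ nilradical A := by
      rw [nilradical_eq_sInf, Ideal.mem_sInf]
      intro p (hp : p.IsPrime)
      have := congrFun hx ⟨p, hp⟩
      exact Ideal.algebraMap_residueField_eq_zero.mp this
    simpa [nilradical_eq_zero] using h
  have := ((Groth.Agent.WEtale.isVNR_pi _).of_weaklyEtale (A := K) (TensorProduct A K B)).isReduced
  let g : B →ₐ[A] TensorProduct A K B := Algebra.TensorProduct.includeRight
  have hg : Function.Injective g := Algebra.TensorProduct.includeRight_injective hinj
  exact isReduced_of_injective g hg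

end Groth.Agent.S7128
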