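import Groth.Statements.S9246
import Mathlib
import Groth.Agent.RegNormal.Basic
import Groth.Agent.Hensel.TrivialFibresAtPrime
-- import your own Groth.Agent.* helpers here

set_option autoImplicit false
universe u
open CAlg

namespace Groth.Agent.S9246

/-- Let A → B be an étale ring map and q a prime of B lying over the prime p of A. Then A_p is a regular
local ring if and only if B_q is a regular local ring. -/
theorem result (A B : Type u) [CommRing A] [CommRing B]
    [Algebra A B] [Algebra.Etale A B] (q : Ideal B) [q.IsPrime] :
    IsRegularLocalRing (Localization.AtPrime (Ideal.comap (algebraMap A B) q)) ↔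
      IsRegularLocalRing (Localization.AtPrime q) := by
  haveI : (q.comap (algebraMap A B)).IsPrime := inferInstance
  haveI : q.LiesOver (q.comap (algebraMap A B)) := ⟨rfl⟩
  letI := Localization.AtPrime.algebraOfLiesOver (q.comap (algebraMap A B)) q
  haveI : Algebra.FormallyEtale B (Localization.AtPrime q) :=
    Algebra.FormallyEtale.of_isLocalization q.primeCompl
  haveI : Algebra.EssFiniteType B (Localization.AtPrime q) :=
    Algebra.EssFiniteType.of_isLocalization _ q.primeCompl
  haveI : Algebra.EssFiniteType A (Localization.AtPrime q) := Algebra.EssFiniteType.comp A B _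
  haveI : Algebra.EssFiniteType (Localization.AtPrime (q.comap (algebraMap A B))) (Localization.AtPrime q) :=
    Algebra.EssFiniteType.of_comp A _ _
  haveI : Module.Flat (Localization.AtPrime (q.comap (algebraMap A B))) (Localization.AtPrime q) :=
    (Module.flat_iff_of_isLocalization _ (q.comap (algebraMap A B)).primeCompl _).mpr
      inferInstance
  haveI : IsLocalHom (algebraMap (Localization.AtPrime (q.comap (algebraMap A B)))
      (Localization.AtPrime q)) :=
    Localization.isLocalHom_localRingHom (q.comap (algebraMap A B)) q (algebraMap A B) rfl
  haveI : Module.FaithfullyFlat (Localization.AtPrime (q.comap (algebraMap A B)))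
      (Localization.AtPrime q) := Module.FaithfullyFlat.of_flat_of_isLocalHom
  have hmap : (IsLocalRing.maximalIdeal (Localization.AtPrime (q.comap (algebraMap A B)))).map
      (algebraMap (Localization.AtPrime (q.comap (algebraMap A B))) (Localization.AtPrime q)) =
      IsLocalRing.maximalIdeal (Localization.AtPrime q) := by
    haveI : Algebra.IsUnramifiedAt A q := by
      haveI : Algebra.FormallyUnramified B (Localization.AtPrime q) :=
        .of_isLocalization q.primeCompl
      exact Algebra.FormallyUnramified.comp A B _
    rw [← IsLocalization.AtPrime.map_eq_maximalIdeal (q.comap (algebraMap A B))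
        (Localization.AtPrime (q.comap (algebraMap A B))),
      Ideal.map_map, ← IsScalarTower.algebraMap_eq]
    exact ((Algebra.isUnramifiedAt_iff_map_eq A (q.comap (algebraMap A B)) q).mp ‹_›).2
  constructor
  · intro h
    haveI : IsNoetherianRing (Localization.AtPrime q) := Algebra.EssFiniteType.isNoetherianRing
      (Localization.AtPrime (q.comap (algebraMap A B))) _
    exact (Groth.Agent.Hensel.isRegularLocalRing_iff_of_map_maximalIdeal hmap
      (Groth.Agent.Hensel.ringKrullDim_eq_of_faithfullyFlat hmap)).1 h
  · intro h
    haveI : IsNoetherianRing (Localization.AtPrime (q.comap (algebraMap A B))) :=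
      Groth.Agent.RegNormal.isNoetherianRing_of_faithfullyFlat _ (Localization.AtPrime q)
    exact (Groth.Agent.Hensel.isRegularLocalRing_iff_of_map_maximalIdeal hmap
      (Groth.Agent.Hensel.ringKrullDim_eq_of_faithfullyFlat hmap)).2 h

end Groth.Agent.S9246
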