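import Groth.Statements.S2189
import Mathlib
import Groth.Agent.CAlgH.Vasconcelos

set_option autoImplicit false
universe u
open CategoryTheory
open LCI

namespace Groth.Agent.S2189

open IsLocalRing RingTheory.Sequence
open Groth.Agent.CAlgReg Groth.Agent.CAlgH.Vasconcelos

theorem weaklyRegular_iff {S : Type u} [CommRing S] {r : ℕ} (a : Fin r → S) :
    IsWeaklyRegular S (List.ofFn a) ↔
      ∀ i : Fin r, ∀ w, a i * w ∈ Ideal.span (a '' Set.Iio i) → w ∈ Ideal.span (a '' Set.Iio i) := by
  have key : ∀ i : Fin r, (Ideal.ofList ((List.ofFn a).take i.1) • ⊤ : Submodule S S) = Ideal.span (a '' Set.Iio i) := by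
    intro i
    rw [smul_eq_mul, Ideal.mul_top, Ideal.ofList]
    congr 1
    ext z
    simp only [Set.mem_setOf_eq, List.mem_take_iff_getElem, Set.mem_image, Set.mem_Iio, List.length_ofFn]
    constructor
    · rintro ⟨j, hj, rfl⟩
      exact ⟨⟨j, by omega⟩, (show j < i.1 by omega), by simp⟩
    · rintro ⟨j, hj, rfl⟩
      exact ⟨j.1, by have h' : j.1 < i.1 := hj; omega, by simp⟩
  rw [isWeaklyRegular_iff]
  constructor
  · intro h i w hw
    have := (isSMulRegular_quotient_iff_mem_of_smul_mem _ _).mp (h i.1 (by simp)) w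
    simp only [key, List.getElem_ofFn, smul_eq_mul] at this
    exact this hw
  · intro h i hi
    rw [isSMulRegular_quotient_iff_mem_of_smul_mem]
    have hi' : i < r := by simpa using hi
    intro w hw
    rw [key ⟨i, hi'⟩] at hw ⊢
    exact h ⟨i, hi'⟩ w (by simpa using hw)

theorem exists_killer {R : Type u} [CommRing R] [IsNoetherianRing R] (p : Ideal R) [p.IsPrime] (c Q : Ideal R)
    (h : c.map (algebraMap R (Localization.AtPrime p)) ≤ Q.map (algebraMap R (Localization.AtPrime p))) :
    ∃ g, g ∉ p ∧ ∀ w ∈ c, g * w ∈ Q := by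
  classical
  obtain ⟨s, rfl⟩ := (IsNoetherian.noetherian c : c.FG)
  have : ∀ w ∈ s, ∃ g, g ∉ p ∧ g * w ∈ Q := fun w hw => by
    obtain ⟨m, hm, hmw⟩ := (IsLocalization.algebraMap_mem_map_algebraMap_iff p.primeCompl _ Q w).mp
      (h (Ideal.mem_map_of_mem _ (Ideal.subset_span hw)))
    exact ⟨m, hm, hmw⟩
  choose g hg hgw using this
  refine ⟨∏ w ∈ s.attach, g w.1 w.2, fun hmem => ?_, ?_⟩
  · obtain ⟨w, -, hw⟩ := (Ideal.IsPrime.prod_mem_iff).mp hmem
    exact hg w.1 w.2 hw
  · intro w hw
    have : Submodule.span R (s : Set R) ≤ Submodule.comap (LinearMap.mulLeft R (∏ w ∈ s.attach, g w.1 w.2)) Q := by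
      rw [Submodule.span_le]
      intro v hv
      obtain ⟨t, ht⟩ := Finset.dvd_prod_of_mem (fun w : s => g w.1 w.2) (Finset.mem_attach s ⟨v, hv⟩)
      show (∏ w ∈ s.attach, g w.1 w.2) * v ∈ Q
      rw [ht, show g v hv * t * v = t * (g v hv * v) by ring]
      exact Ideal.mul_mem_left _ _ (hgw v hv)
    exact this hw

theorem projective_localized {R : Type u} [CommRing R] [IsNoetherianRing R] (I : Ideal R) (p : Ideal R) [p.IsPrime]
    [Module.Projective (R ⧸ I) I.Cotangent] :
    Module.Projective (Localization.AtPrime p ⧸ I.map (algebraMap R (Localization.AtPrime p)))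
      (I.map (algebraMap R (Localization.AtPrime p))).Cotangent := by
  let L := Localization.AtPrime p
  let J := I.map (algebraMap R L)
  let ι : I →ₗ[R] J := Algebra.idealMap I (S := L)
  have : Module.Finite R I.Cotangent := Module.Finite.of_surjective I.toCotangent I.toCotangent_surjective
  have : Module.Finite (R ⧸ I) I.Cotangent := Module.Finite.of_restrictScalars_finite R _ _
  obtain ⟨m, π, hπ⟩ := Module.Finite.exists_fin' (R ⧸ I) I.Cotangent
  obtain ⟨s, hs⟩ := Module.projective_lifting_property π LinearMap.id hπ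
  choose c hc using fun i => I.toCotangent_surjective (π (Pi.single i 1))
  let μ : (R ⧸ I) →ₗ[R] L ⧸ J := Submodule.liftQ I ((Submodule.mkQ J).restrictScalars R ∘ₗ Algebra.linearMap R L)
    (fun z hz => (Submodule.Quotient.mk_eq_zero _).mpr (Ideal.mem_map_of_mem _ hz))
  let g : I →ₗ[R] (Fin m → L ⧸ J) := LinearMap.pi fun i =>
    μ ∘ₗ LinearMap.proj i ∘ₗ s.restrictScalars R ∘ₗ I.toCotangent
  have hu : ∀ x : p.primeCompl, IsUnit ((algebraMap R (Module.End R (Fin m → L ⧸ J))) x) := by
    intro x
    rw [Module.End.isUnit_iff]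
    have hux : IsUnit (algebraMap R L x) := IsLocalization.map_units L x
    constructor
    · intro a b hab
      have : algebraMap R L x • a = algebraMap R L x • b := by simpa [algebraMap_smul] using hab
      exact hux.smul_left_cancel.mp this
    · intro a
      refine ⟨(↑hux.unit⁻¹ : L) • a, ?_⟩
      simp only [Module.algebraMap_end_apply]
      rw [← algebraMap_smul L (x : R), smul_smul, IsUnit.mul_val_inv, one_smul]
  let g₁ : J →ₗ[R] (Fin m → L ⧸ J) := IsLocalizedModule.lift p.primeCompl ι g hu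
  let g₂ : J →ₗ[L] (Fin m → L ⧸ J) := g₁.extendScalarsOfIsLocalization p.primeCompl L
  let g₃ : J.Cotangent →ₗ[L] (Fin m → L ⧸ J) := Submodule.liftQ _ g₂ (by
    rw [Submodule.smul_le]
    intro a ha j _
    rw [LinearMap.mem_ker, map_smul]
    funext i
    obtain ⟨d, hd⟩ := Ideal.Quotient.mk_surjective (g₂ j i)
    rw [Pi.smul_apply, Pi.zero_apply, ← hd]
    show Ideal.Quotient.mk J (a * d) = 0
    exact Ideal.Quotient.eq_zero_iff_mem.mpr (Ideal.mul_mem_right _ _ ha))
  let g₄ : J.Cotangent →ₗ[L ⧸ J] (Fin m → L ⧸ J) := g₃.extendScalarsOfSurjective Ideal.Quotient.mk_surjective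
  let P : (Fin m → L ⧸ J) →ₗ[L ⧸ J] J.Cotangent := (Pi.basisFun (L ⧸ J) (Fin m)).constr ℕ fun i => J.toCotangent (ι (c i))
  refine Module.Projective.of_split g₄ P ?_
  have h1 : ∀ a : I, P (g₄ (J.toCotangent (ι a))) = J.toCotangent (ι a) := by
    intro a
    have hga : g₄ (J.toCotangent (ι a)) = g a := IsLocalizedModule.lift_apply p.primeCompl ι g hu a
    choose t ht using fun i => Ideal.Quotient.mk_surjective (s (I.toCotangent a) i)
    have hgi : ∀ i, g a i = Ideal.Quotient.mk J (algebraMap R L (t i)) := fun i => by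
      show μ (s (I.toCotangent a) i) = _
      rw [← ht i]
      rfl
    have hsum : I.toCotangent a = I.toCotangent (∑ i, t i • c i) := by
      rw [map_sum]
      conv_lhs => rw [← LinearMap.id_apply (R := R ⧸ I) (I.toCotangent a), ← hs, LinearMap.comp_apply,
        pi_eq_sum_univ (s (I.toCotangent a)), map_sum]
      refine Finset.sum_congr rfl fun i _ => ?_
      rw [map_smul, map_smul, hc, ← ht, ← Ideal.Quotient.algebraMap_eq, algebraMap_smul]
      congr 2
      funext j
      rcases eq_or_ne i j with rfl | hne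
      · simp
      · simp [hne, hne.symm]
    have hd := I.toCotangent_eq.mp hsum
    have hJd : J.toCotangent (ι a) = J.toCotangent (ι (∑ i, t i • c i)) := by
      rw [J.toCotangent_eq]
      show algebraMap R L a.1 - algebraMap R L (∑ i, t i • c i : I).1 ∈ J ^ 2
      rw [← map_sub, ← Ideal.map_pow]
      exact Ideal.mem_map_of_mem _ hd
    conv_rhs => rw [hJd, map_sum, map_sum]
    rw [hga, Module.Basis.constr_apply_fintype]
    refine Finset.sum_congr rfl fun i _ => ?_
    rw [Pi.basisFun_equivFun, LinearEquiv.refl_apply, hgi, map_smul, ← algebraMap_smul L (t i) (ι (c i)), map_smul,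
      ← Ideal.Quotient.algebraMap_eq, algebraMap_smul]
  refine LinearMap.ext fun z => ?_
  obtain ⟨z, rfl⟩ := J.toCotangent_surjective z
  obtain ⟨⟨a, u⟩, hz⟩ := IsLocalizedModule.surj p.primeCompl ι z
  have hu' : IsUnit (algebraMap R L u) := IsLocalization.map_units L u
  have hzL : algebraMap R L u • z = ι a := by rw [algebraMap_smul]; exact hz
  apply hu'.smul_left_cancel.mp
  rw [LinearMap.id_apply]
  calc algebraMap R L u • P (g₄ (J.toCotangent z)) = P (g₄ (J.toCotangent (algebraMap R L u • z))) := by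
        rw [map_smul, LinearMap.map_smul_of_tower, LinearMap.map_smul_of_tower]
    _ = J.toCotangent (algebraMap R L u • z) := by rw [hzL]; exact h1 a
    _ = _ := map_smul _ _ _

/-- Let R be a Noetherian ring and I an ideal which has finite projective dimension as an R-module and
whose conormal module I/I^2 is finite locally free (projective) over R/I. Then I is a regular ideal:
for every prime p containing I there is g outside p such that the extension of I to R_g is generated
by a regular sequence of R_g. -/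
theorem result {R : Type u} [CommRing R]
    [IsNoetherianRing R] (I : Ideal R) (n : ℕ)
    (hpd : HasProjectiveDimensionLT (ModuleCat.of R I) n)
    [Module.Projective (R ⧸ I) I.Cotangent] (p : Ideal R) [p.IsPrime] (hIp : I ≤ p) :
    ∃ g : R, g ∉ p ∧ ∃ rs : List (Localization.Away g),
      RingTheory.Sequence.IsRegular (Localization.Away g) rs ∧
        Ideal.ofList rs = I.map (algebraMap R (Localization.Away g)) := by
  classical
  let L := Localization.AtPrime p
  let J := I.map (algebraMap R L)
  have hn : HasProjectiveDimensionLT (ModuleCat.of R I) (n + 1) := hasProjectiveDimensionLT_of_ge _ n (n + 1) (by omega)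
  have hJpd : PdLT L J (n + 1) := pdLT_congr
    (IsLocalizedModule.isBaseChange p.primeCompl L (Algebra.idealMap I (S := L))).equiv (pdLT_localization p.primeCompl n I hn)
  have hJm : J ≤ maximalIdeal L := Ideal.map_le_iff_le_comap.mpr fun a ha => by
    rw [Ideal.mem_comap, IsLocalization.AtPrime.to_map_mem_maximal_iff L p a]
    exact hIp ha
  have hJ : J ≠ ⊤ := fun h => (maximalIdeal.isMaximal L).ne_top (top_le_iff.mp (h ▸ hJm))
  have : Nontrivial (L ⧸ J) := Ideal.Quotient.nontrivial_iff.mpr hJ
  have : IsLocalRing (L ⧸ J) := .of_surjective' _ Ideal.Quotient.mk_surjective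
  have : Module.Finite L J.Cotangent := Module.Finite.of_surjective J.toCotangent J.toCotangent_surjective
  have : Module.Finite (L ⧸ J) J.Cotangent := Module.Finite.of_restrictScalars_finite L _ _
  have : Module.Projective (L ⧸ J) J.Cotangent := projective_localized I p
  have : Module.Free (L ⧸ J) J.Cotangent := Module.free_of_flat_of_isLocalRing
  obtain ⟨r, b⟩ : ∃ r, Nonempty (Module.Basis (Fin r) (L ⧸ J) J.Cotangent) := ⟨_, ⟨Module.finBasis _ _⟩⟩
  obtain ⟨b⟩ := b
  choose y hy using fun i => J.toCotangent_surjective (b i)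
  obtain ⟨x, hxy, hx⟩ := exists_regular_lift r L J hJ n hJpd
    (b.equivFun.toLinearMap.restrictScalars L ∘ₗ J.toCotangent) y (fun i => by
      rw [LinearMap.comp_apply, hy]
      funext j
      rw [LinearMap.restrictScalars_apply, LinearEquiv.coe_coe, b.equivFun_apply, b.repr_self,
        Finsupp.single_apply, Pi.single_apply]
      simp only [eq_comm])
  have hxJ : ∀ i, x i ∈ J := fun i => by
    simpa using add_mem (Ideal.pow_le_self two_ne_zero (hxy i)) (y i).2
  have hspan : J = Ideal.span (Set.range x) := by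
    refine le_antisymm ?_ (Ideal.span_le.mpr (Set.range_subset_iff.mpr hxJ))
    refine Submodule.le_of_le_smul_of_le_jacobson_bot (IsNoetherian.noetherian J)
      (hJm.trans (IsLocalRing.maximalIdeal_le_jacobson ⊥)) ?_
    intro a ha
    choose d hd using fun i => Ideal.Quotient.mk_surjective (b.equivFun (J.toCotangent ⟨a, ha⟩) i)
    have h1 : J.toCotangent ⟨a, ha⟩ = J.toCotangent (∑ i, d i • y i) := by
      rw [map_sum]
      conv_lhs => rw [← b.sum_equivFun (J.toCotangent ⟨a, ha⟩)]
      refine Finset.sum_congr rfl fun i _ => ?_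
      rw [map_smul, hy, ← hd, ← Ideal.Quotient.algebraMap_eq, algebraMap_smul]
    have h2 := J.toCotangent_eq.mp h1
    simp only [AddSubmonoidClass.coe_finset_sum, Submodule.coe_smul, smul_eq_mul] at h2
    have h3 : a = ∑ i, d i * x i + ((a - ∑ i, d i * (y i).1) - ∑ i, d i * (x i - (y i).1)) := by
      simp only [mul_sub, Finset.sum_sub_distrib]; ring
    rw [h3]
    refine Submodule.add_mem_sup (Ideal.sum_mem _ fun i _ => Ideal.mul_mem_left _ _ (Ideal.subset_span ⟨i, rfl⟩)) ?_
    rw [smul_eq_mul, ← pow_two]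
    exact sub_mem h2 (Ideal.sum_mem _ fun i _ => Ideal.mul_mem_left _ _ (hxy i))
  choose au hau using fun i => (IsLocalization.mem_map_algebraMap_iff p.primeCompl L).mp (hxJ i)
  let a : Fin r → R := fun i => (au i).1.1
  let α := algebraMap R L
  have hu : ∀ i, IsUnit (α (au i).2) := fun i => IsLocalization.map_units L _
  have hmap : ∀ S : Set (Fin r), (Ideal.span (a '' S)).map α = Ideal.span (x '' S) := by
    intro S
    rw [Ideal.map_span, Set.image_image]
    refine le_antisymm (Ideal.span_le.mpr ?_) (Ideal.span_le.mpr ?_)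
    · rintro _ ⟨i, hi, rfl⟩
      show α (a i) ∈ _
      rw [← hau i]
      exact Ideal.mul_mem_right _ _ (Ideal.subset_span ⟨i, hi, rfl⟩)
    · rintro _ ⟨i, hi, rfl⟩
      have : α (a i) ∈ Ideal.span ((fun i => α (a i)) '' S) := Ideal.subset_span ⟨i, hi, rfl⟩
      rw [show α (a i) = x i * α (au i).2 from (hau i).symm, Ideal.mul_unit_mem_iff_mem _ (hu i)] at this
      exact this
  rw [weaklyRegular_iff] at hx
  let C : Fin r → Ideal R := fun i => Submodule.comap (LinearMap.mulLeft R (a i)) (Ideal.span (a '' Set.Iio i))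
  have hC : ∀ i, ∃ g, g ∉ p ∧ ∀ w ∈ C i, g * w ∈ Ideal.span (a '' Set.Iio i) := fun i => exists_killer p _ _ (by
    rw [Ideal.map_le_iff_le_comap]
    intro w hw
    rw [Ideal.mem_comap, hmap]
    refine hx i _ ((Ideal.mul_unit_mem_iff_mem _ (hu i)).mp ?_)
    rw [show x i * α w * α (au i).2 = α (a i * w) by rw [mul_right_comm, hau i, map_mul], ← hmap]
    exact Ideal.mem_map_of_mem _ hw)
  choose g hgp hgC using hC
  obtain ⟨g₀, hg₀, hg₀I⟩ := exists_killer p I (Ideal.span (Set.range a)) (by
    rw [show Set.range a = a '' Set.univ by simp, hmap]; simpa using hspan.le)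
  refine ⟨g₀ * ∏ i, g i, fun h => ?_, ?_⟩
  · rcases (Ideal.IsPrime.mem_or_mem ‹_› h) with h | h
    · exact hg₀ h
    · obtain ⟨i, -, hi⟩ := Ideal.IsPrime.prod_mem_iff.mp h
      exact hgp i hi
  set G := g₀ * ∏ i, g i with hG
  let S := Localization.Away G
  let β := algebraMap R S
  have hGu : IsUnit (β G) := IsLocalization.map_units S (⟨G, Submonoid.mem_powers G⟩ : Submonoid.powers G)
  have hrange : Ideal.span (Set.range fun i => β (a i)) = I.map β := by
    refine le_antisymm (Ideal.span_le.mpr ?_) (Ideal.map_le_iff_le_comap.mpr fun w hw => ?_)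
    · rintro _ ⟨i, rfl⟩
      exact Ideal.mem_map_of_mem _ (au i).1.2
    · rw [Ideal.mem_comap, ← Ideal.unit_mul_mem_iff_mem _ hGu, ← map_mul]
      have h : G * w ∈ Ideal.span (Set.range a) := by
        rw [hG, show g₀ * (∏ i, g i) * w = (∏ i, g i) * (g₀ * w) by ring]
        exact Ideal.mul_mem_left _ _ (hg₀I w hw)
      have := Ideal.mem_map_of_mem β h
      rwa [Ideal.map_span, ← Set.range_comp] at this
  refine ⟨List.ofFn fun i => β (a i), ⟨(weaklyRegular_iff _).mpr fun i w hw => ?_, ?_⟩, ?_⟩
  · rw [show (fun i => β (a i)) '' Set.Iio i = β '' (a '' Set.Iio i) by rw [Set.image_image], ← Ideal.map_span] at hw ⊢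
    obtain ⟨⟨w₀, u⟩, hw₀⟩ := IsLocalization.surj (Submonoid.powers G) w
    have hu' : IsUnit (β u) := IsLocalization.map_units S u
    rw [← Ideal.mul_unit_mem_iff_mem _ hu', hw₀]
    have h1 : β (a i * w₀) ∈ (Ideal.span (a '' Set.Iio i)).map β := by
      rw [map_mul, ← hw₀, ← mul_assoc]
      exact Ideal.mul_mem_right _ _ hw
    obtain ⟨m, hm, hmw⟩ := (IsLocalization.algebraMap_mem_map_algebraMap_iff (Submonoid.powers G) _ _ _).mp h1
    have h2 := hgC i (m * w₀) (by
      show a i * (m * w₀) ∈ Ideal.span (a '' Set.Iio i)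
      rwa [mul_left_comm])
    obtain ⟨t, ht⟩ := Finset.dvd_prod_of_mem g (Finset.mem_univ i)
    have h3 : G * m * w₀ ∈ Ideal.span (a '' Set.Iio i) := by
      rw [hG, ht, show g₀ * (g i * t) * m * w₀ = g₀ * t * (g i * (m * w₀)) by ring]
      exact Ideal.mul_mem_left _ _ h2
    exact (IsLocalization.algebraMap_mem_map_algebraMap_iff (Submonoid.powers G) _ _ _).mpr
      ⟨G * m, mul_mem (Submonoid.mem_powers G) hm, h3⟩
  · rw [smul_eq_mul, Ideal.mul_top]
    intro h
    have h' : I.map β = ⊤ := by rw [← hrange, eq_comm, h, Ideal.ofList]; congr 1; ext; simp [List.mem_ofFn]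
    obtain ⟨z, hz, hzI⟩ := Set.not_disjoint_iff.mp fun hd =>
      (IsLocalization.map_algebraMap_ne_top_iff_disjoint (Submonoid.powers G) S I).mpr hd h'
    obtain ⟨k, rfl⟩ := hz
    have hGp := Ideal.IsPrime.mem_of_pow_mem ‹_› k (hIp hzI)
    rcases (Ideal.IsPrime.mem_or_mem ‹_› hGp) with h | h
    · exact hg₀ h
    · obtain ⟨i, -, hi⟩ := Ideal.IsPrime.prod_mem_iff.mp h
      exact hgp i hi
  · rw [← hrange, Ideal.ofList]
    congr 1
    ext
    simp [List.mem_ofFn]

end Groth.Agent.S2189
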