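import Groth.Statements.S9699
import Groth.Agent.SyntDim.Dim


set_option autoImplicit false
universe u
open CategoryTheory CategoryTheory.Limits AlgebraicGeometry
open Synt

namespace Groth.Agent.S9699

/-- A smooth morphism of schemes is syntomic (flat, locally of finite presentation, with local complete
intersection fibres, in the affine-local sense of Synt.IsSyntomicMor). -/
theorem result {X S : Scheme.{u}} (f : X ⟶ S) [Smooth f] :
    Synt.IsSyntomicMor f := by
  intro x
  obtain ⟨_, ⟨V, hV, rfl⟩, hxV, -⟩ :=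
    S.isBasis_affineOpens.exists_subset_of_mem_open (Set.mem_univ (f x)) isOpen_univ
  obtain ⟨_, ⟨U, hU, rfl⟩, hxU, hUV⟩ :=
    X.isBasis_affineOpens.exists_subset_of_mem_open (show x ∈ (f ⁻¹ᵁ V : X.Opens) from hxV)
      (f ⁻¹ᵁ V).isOpen
  refine ⟨⟨U, hU⟩, ⟨V, hV⟩, hUV, hxU, ?_⟩
  let φ := f.appLE V U hUV
  let : Algebra Γ(S, V) Γ(X, U) := φ.hom.toAlgebra
  have hsm : Algebra.Smooth Γ(S, V) Γ(X, U) := Scheme.Hom.smooth_appLE f hV hU hUV
  refine ⟨inferInstance, inferInstance, fun p => ?_⟩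
  refine ⟨inferInstance, fun q => ?_⟩
  obtain ⟨g, hg, hstd⟩ := Algebra.IsSmoothAt.exists_notMem_isStandardSmooth p.asIdeal.ResidueField q.asIdeal
  exact ⟨g, hg, Groth.Agent.SyntDim.isGlobalCI_of_isStandardSmooth _⟩

end Groth.Agent.S9699
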