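import Groth.Statements.S0341
import Groth.Agent.GorenBasic.Basic
-- import your own Groth.Agent.* helpers here

set_option autoImplicit false
universe u v
open Goren

namespace Groth.Agent.S0341

/-- A Gorenstein local ring is Cohen–Macaulay. -/
theorem result (A : Type u) [CommRing A] [LocCoh.IsGorensteinLocalRing A] : LocCoh.IsCohenMacaulayLocalRing A := by
  obtain ⟨d, hd, hdep, -⟩ := Groth.Agent.GorenBasic.gorenstein_dim (R := A)
  refine { supportDim_eq_depth := ?_ }
  rw [Module.supportDim_self_eq_ringKrullDim, hd, hdep]
  rfl

end Groth.Agent.S0341
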