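import Groth.Statements.S10593
import Groth.Agent.AlgSpFibDim.Finite
import Groth.Agent.AlgSpThickUnr.Scheme
import Groth.Agent.AlgSpLoc.FlatLocusSp
import Groth.Agent.AlgSpLoc.Inst

set_option autoImplicit false
universe u
open CategoryTheory CategoryTheory.Limits AlgebraicGeometry
open AlgSp

namespace Groth.Agent.S10593

set_option backward.isDefEq.respectTransparency false
open CategoryTheory CategoryTheory.Limits Groth.Agent.AlgSpc

/-- Consider a morphism (f, f') from the thickening X ⊂ X' to the thickening Y ⊂ Y' of algebraic spaces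
over S, meaning: i : X ⟶ X' and j : Y ⟶ Y' are thickenings (representable, every base change to a
scheme a surjective closed immersion) and i ≫ f' = f ≫ j. Assume moreover that the square is
cartesian (X = Y ×_{Y'} X') and that f and f' are locally of finite type. Then f is locally
quasi-finite, resp. unramified, if and only if f' is (etale-local sense, both notions including
locally of finite type). -/
theorem result {S : Scheme.{u}} {X X' Y Y' : AlgSp.Space S} (i : X ⟶ X') (j : Y ⟶ Y')
    (f : X ⟶ Y) (f' : X' ⟶ Y')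
    (hi : AlgSp.IsThickMor i.hom)
    (hj : AlgSp.IsThickMor j.hom) (w : i ≫ f' = f ≫ j)
    (hcart : IsPullback i.hom f.hom f'.hom j.hom)
    (hft : AlgSp.LocP @LocallyOfFiniteType f.hom) (hft' : AlgSp.LocP @LocallyOfFiniteType f'.hom) :
    (AlgSp.LocP (@LocallyQuasiFinite ⊓ @LocallyOfFiniteType) f.hom ↔
      AlgSp.LocP (@LocallyQuasiFinite ⊓ @LocallyOfFiniteType) f'.hom) ∧
    (AlgSp.LocP (@LocallyOfFiniteType ⊓ @FormallyUnramified) f.hom ↔
      AlgSp.LocP (@LocallyOfFiniteType ⊓ @FormallyUnramified) f'.hom) := by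
  have hsurj : Function.Surjective (AlgSp.Points.map i.hom) :=
    surjective_map_of_repWith (repWith_mono (fun _ _ k (hk : AlgSp.thick k) => hk.2) hi)
  have hlqf : ∀ {A B : AlgSp.Space S} {g : A ⟶ B}, AlgSp.LocP @LocallyOfFiniteType g.hom →
      (AlgSp.LocP (@LocallyQuasiFinite ⊓ @LocallyOfFiniteType) g.hom ↔
        ∀ x, AlgSp.HasAtMor (fun _ _ h u => FlatMor.fibreDimAt h u ≤ ((0 : ℕ) : WithBot ℕ∞)) g.hom x) := by
    intro A B g hg
    refine ⟨fun h x => ?_, fun h => (AlgSpDesc.locP_iff_hasAtMor A.property B.property _).2 fun x => ?_⟩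
    · refine AlgSpFibDim.hasAtMor_le_zero_of_near hg ?_
      obtain ⟨U, V, a, b, k, u, ha, hb, w', rfl, W, hW, h1, h2⟩ :=
        (AlgSpDesc.locP_iff_hasAtMor A.property B.property _).1 h x
      exact ⟨U, V, a, b, k, u, ha, hb, w', rfl, W, hW, h1, h2⟩
    · obtain ⟨U, V, a, b, k, u, ha, hb, w', rfl, hW⟩ := (AlgSpDesc.lqf_locus_baseChange (f := g) (g := 𝟙 B) (b := 𝟙 A)
        (f'' := g) hg (IsPullback.id_horiz g.hom) x).1 (by
          rw [show (𝟙 A : A ⟶ A).hom = 𝟙 A.obj from rfl, AlgSp.Points.map_id]; exact h x)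
      exact ⟨U, V, a, b, k, u, ha, hb, w', rfl, hW⟩
  have hbc := AlgSpFibDim.hasAtMor_baseChange_iff hft' hcart (fun t => t ≤ ((0 : ℕ) : WithBot ℕ∞))
  refine ⟨?_, ?_⟩
  · rw [hlqf hft, hlqf hft']
    exact ⟨fun h x' => by obtain ⟨x, rfl⟩ := hsurj x'; exact (hbc x).1 (h x), fun h x => (hbc x).2 (h _)⟩
  refine ⟨fun h => ?_, fun h => AlgSpc.locP_base_change X'.property Y'.property Y.property hcart h⟩
  obtain ⟨V, b, hb, hbs⟩ := Y'.property.atlas
  obtain ⟨V0, t, s, sqj⟩ := exists_sq hj.1 b
  have hs : AlgSp.thick s.left := hj.2 _ _ _ sqj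
  haveI : IsClosedImmersion s.left := hs.1
  haveI : Surjective s.left := hs.2
  have sX := IsPullback.of_hasPullback f'.hom b
  obtain ⟨U, c, hc, hcs⟩ :=
    (isAlgSpace_of_isPullback X'.property Y'.property (AlgSp.IsAlgSpace.yon_obj V) sX).atlas
  let k : U ⟶ V := pre (c ≫ pullback.snd f'.hom b)
  have w' : (c ≫ pullback.fst f'.hom b) ≫ f'.hom = (AlgSp.yon S).map k ≫ b := by
    rw [map_pre, Category.assoc, Category.assoc, sX.w]
  have ha : AlgSp.RepWith @Etale (c ≫ pullback.fst f'.hom b) := repWith_comp hc (repWith_of_isPullback sX.flip hb)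
  have has : AlgSp.RepWith @Surjective (c ≫ pullback.fst f'.hom b) :=
    repWith_comp hcs (repWith_of_isPullback sX.flip hbs)
  let U0 : Over S := Over.mk (pullback.snd k.left s.left ≫ V0.hom)
  let k0 : U0 ⟶ V0 := Over.homMk (pullback.snd k.left s.left) rfl
  let wU : U0 ⟶ U := Over.homMk (pullback.fst k.left s.left) (by
    change _ = pullback.snd k.left s.left ≫ V0.hom
    rw [← Over.w k, ← Over.w s, pullback.condition_assoc])
  have sU : IsPullback wU.left k0.left k.left s.left := IsPullback.of_hasPullback _ _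
  obtain ⟨a0, ha0, -, w0, -⟩ := AlgSpLoc.exists_chart_baseChange hcart sqj.w
    (repWith_of_isPullback sqj.flip hb) (repWith_of_isPullback sqj.flip hbs) hc hcs (map_pre _).symm sU
  haveI : LocallyOfFiniteType k.left := hft' _ b k ha hb w'
  haveI : FormallyUnramified (pullback.snd k.left s.left) :=
    (h a0 t k0 ha0 (repWith_of_isPullback sqj.flip hb) w0).2
  exact locP_of_chart ha has hb w' ⟨inferInstance, AlgSpThickUnr.formallyUnramified_of_thick k.left s.left⟩

end Groth.Agent.S10593
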