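import Groth.Statements.S13598
import Groth.Agent.Hensel.Henselization

set_option autoImplicit false
universe u
open Hensel

namespace Groth.Agent.S13598

/-- For a local ring A, a henselization A ⟶ S of A (S a henselian local ring, the structure map local,
and initial among local homomorphisms from A to henselian local rings) and an ideal I of A inside
the maximal ideal, the quotient S/IS with its induced algebra structure over A/I is a henselization
of A/I. (The local-ring and local-homomorphism instances on the quotients hold automatically; they
are taken as hypotheses only so that the conclusion can be stated.) -/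
theorem result {A S : Type u} [CommRing A] [IsLocalRing A] [CommRing S]
    [IsLocalRing S] [Algebra A S] [IsLocalHom (algebraMap A S)] [Hensel.IsHenselization A S]
    (I : Ideal A) (hI : I ≤ IsLocalRing.maximalIdeal A)
    [IsLocalRing (A ⧸ I)] [IsLocalRing (S ⧸ I.map (algebraMap A S))]
    [IsLocalHom (algebraMap (A ⧸ I) (S ⧸ I.map (algebraMap A S)))] :
    Hensel.IsHenselization (A ⧸ I) (S ⧸ I.map (algebraMap A S)) := by
  have hS : HenselianLocalRing S := Hensel.IsHenselization.henselian A
  refine ⟨?_, fun T _ _ f hf ↦ ?_⟩
  · exact Groth.Agent.Hensel.henselianLocalRing_of_isIntegral (R := S) _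
  · have : IsLocalHom (Ideal.Quotient.mk I) :=
      ((IsLocalRing.local_hom_TFAE _).out 4 0 rfl rfl).mp (IsLocalRing.eq_maximalIdeal
        (Ideal.comap_isMaximal_of_surjective _ Ideal.Quotient.mk_surjective))
    obtain ⟨g, hg, hu⟩ := Hensel.IsHenselization.universal (R := A) (S := S) T
      (f.comp (Ideal.Quotient.mk I)) inferInstance
    have hker : I.map (algebraMap A S) ≤ RingHom.ker g := by
      rw [Ideal.map_le_iff_le_comap]
      intro a ha
      rw [Ideal.mem_comap, RingHom.mem_ker, ← RingHom.comp_apply, hg, RingHom.comp_apply,
        Ideal.Quotient.eq_zero_iff_mem.mpr ha, map_zero]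
    refine ⟨Ideal.Quotient.lift _ g hker, Ideal.Quotient.ringHom_ext (RingHom.ext fun a ↦ ?_),
      fun g' hg' ↦ Ideal.Quotient.ringHom_ext ?_⟩
    · exact DFunLike.congr_fun hg a
    · refine Eq.trans ?_ (RingHom.ext fun x ↦ rfl : g = _)
      exact hu (g'.comp (Ideal.Quotient.mk _)) (RingHom.ext fun a ↦
        DFunLike.congr_fun hg' (Ideal.Quotient.mk I a))

end Groth.Agent.S13598
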