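import Groth.Statements.S7436
import Groth.Agent.BddFibLib.Comp

set_option autoImplicit false
universe u
open CategoryTheory AlgebraicGeometry
open BddFib

namespace Groth.Agent.S7436

/-- When every fibre of `f : X → Y` has degree at most `n` and every fibre of `g : Y → Z` has degree at
most `m`, every fibre of `g ∘ f` has degree at most `n m`. -/
theorem result {X Y Z : Scheme.{u}} (f : X ⟶ Y) (g : Y ⟶ Z) (n m : ℕ) (hf : BddFib.FibreDegLE f n)
    (hg : BddFib.FibreDegLE g m) : BddFib.FibreDegLE (f ≫ g) (n * m) := by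
  intro z
  have h0 : IsPullback ((f ≫ g).fiberι z) ((f ≫ g).fiberToSpecResidueField z) (f ≫ g)
      (Z.fromSpecResidueField z) := IsPullback.of_hasPullback _ _
  have h1 : IsPullback (g.fiberι z) (g.fiberToSpecResidueField z) g (Z.fromSpecResidueField z) :=
    IsPullback.of_hasPullback _ _
  let h : (f ≫ g).fiber z ⟶ g.fiber z :=
    h1.lift ((f ≫ g).fiberι z ≫ f) ((f ≫ g).fiberToSpecResidueField z) (by rw [Category.assoc]; exact h0.w)
  have hsnd : h ≫ g.fiberToSpecResidueField z = (f ≫ g).fiberToSpecResidueField z := h1.lift_snd _ _ _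
  have h2 : IsPullback ((f ≫ g).fiberι z) h f (g.fiberι z) :=
    IsPullback.of_bot (by rw [hsnd]; exact h0) (h1.lift_fst _ _ _).symm h1
  have hh : BddFib.FibreDegLE h n := fun w ↦
    BddFibLib.finiteOfDegLE_of_fibreDegLE (k := (g.fiber z).residueField w) hf
      ((IsPullback.of_hasPullback h ((g.fiber z).fromSpecResidueField w)).paste_horiz h2)
  rw [← hsnd]
  exact BddFibLib.finiteOfDegLE_comp (k := Z.residueField z) h _ (hg z) hh

end Groth.Agent.S7436
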