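import Groth.Statements.S7439
import Groth.Agent.BddFibLib.Basic

set_option autoImplicit false
universe u
open CategoryTheory AlgebraicGeometry
open BddFib

namespace Groth.Agent.S7439

/-- Every immersion has universally bounded fibres, with `1` as a bound for the degrees of its fibres. -/
theorem result {X Y : Scheme.{u}} (f : X ⟶ Y) [IsImmersion f] :
    BddFib.FibreDegLE f 1 := by
  intro y
  have : IsImmersion (f.fiberToSpecResidueField y) :=
    MorphismProperty.pullback_snd (P := @IsImmersion) _ _ ‹_›
  have : IsClosedImmersion (f.fiberToSpecResidueField y) := IsClosedImmersion.of_isPreimmersion _ (by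
    rcases Set.eq_empty_or_nonempty (Set.range (f.fiberToSpecResidueField y)) with h | ⟨x, hx⟩
    · rw [h]; exact isClosed_empty
    · have : Set.range (f.fiberToSpecResidueField y) = Set.univ :=
        Set.eq_univ_of_forall fun z ↦ Subsingleton.elim x z ▸ hx
      rw [this]; exact isClosed_univ)
  letI := BddFib.secAlgebra (Y.residueField y) (f.fiberToSpecResidueField y)
  have haff : IsAffine (f.fiber y) := isAffine_of_isAffineHom (f.fiberToSpecResidueField y)
  have hs : Function.Surjective (Algebra.linearMap (Y.residueField y) Γ(f.fiber y, ⊤)) := by
    exact ((f.fiberToSpecResidueField y).app_surjective ⊤ (isAffineOpen_top _)).comp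
      (ConcreteCategory.bijective_of_isIso (Scheme.ΓSpecIso (Y.residueField y)).inv).2
  exact ⟨haff, Module.Finite.of_surjective _ hs,
    ((Algebra.linearMap (Y.residueField y) Γ(f.fiber y, ⊤)).finrank_le_finrank_of_surjective hs).trans_eq
      (CommSemiring.finrank_self _)⟩

end Groth.Agent.S7439
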