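import Groth.Statements.S7441
import Groth.Agent.BddFibLib.Bounded

set_option autoImplicit false
universe u
open CategoryTheory AlgebraicGeometry
open BddFib

namespace Groth.Agent.S7441

/-- Let `f : X → Y` be locally quasi-finite (locally of finite type with discrete fibres) with `X`
quasi-compact. Then the fibres of `f` are universally bounded. -/
theorem result {X Y : Scheme.{u}} (f : X ⟶ Y) [LocallyQuasiFinite f]
    [LocallyOfFiniteType f] [CompactSpace X] : BddFib.UnivBounded f := by
  classical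
  choose W hxW hW using fun x : X ↦ BddFibLib.univBounded_of_piece f x
  obtain ⟨s, hs⟩ := isCompact_univ.elim_finite_subcover (fun x : X ↦ (W x : Set X))
    (fun x ↦ (W x).2) fun x _ ↦ Set.mem_iUnion.mpr ⟨x, hxW x⟩
  choose n hn using fun x : s ↦ hW x.1
  refine ⟨∑ i, n i, BddFibLib.fibreDegLE_of_iSup_eq_top f (fun x : s ↦ W x.1) ?_ n hn⟩
  rw [eq_top_iff]
  intro x _
  obtain ⟨i, hi, hxi⟩ := Set.mem_iUnion₂.mp (hs (Set.mem_univ x))
  exact TopologicalSpace.Opens.mem_iSup.mpr ⟨⟨i, hi⟩, hxi⟩

end Groth.Agent.S7441
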