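import Groth.Statements.S13022
import Groth.Agent.AlgStB.LocQApps
import Groth.Agent.AlgStB.PointsTop

set_option autoImplicit false
universe u
open CategoryTheory AlgebraicGeometry
open AlgSt

namespace Groth.Agent.S13022

/-- Let f_j : 𝒳_j → 𝒳 be a family of flat, locally finitely presented morphisms of algebraic stacks
which is jointly surjective on points. Then, given any scheme U and any object x of 𝒳 lying over U,
one can find an fppf covering {U_i → U}, indices j(i) and objects x_i of 𝒳_{j(i)} over U_i with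
f_{j(i)}(x_i) ≅ x|_{U_i}. -/
theorem result
    (S : Scheme.{u}) (𝒳 : AlgSt.Cat S)
    (h𝒳 : AlgSt.IsAlgStack Scheme.fppfPrecoverage 𝒳)
    (J : Type u) (𝒳' : J → AlgSt.Cat S) (h𝒳' : ∀ j, AlgSt.IsAlgStack Scheme.fppfPrecoverage (𝒳' j))
    (f : ∀ j, 𝒳' j ⥤ᵇ 𝒳)
    (hf₁ : ∀ j, AlgSt.LocQ (AlgSp.LocP @Flat) (f j)) (hf₂ : ∀ j, AlgSt.LocQ (AlgSp.LocP @LocallyOfFinitePresentation) (f j))
    (hf₃ : ∀ p : AlgSt.Points 𝒳, ∃ j, p ∈ Set.range (AlgSt.Points.map (f j)))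
    (U : Over S) (x : FibCat.overCat U ⥤ᵇ 𝒳) :
    ∃ (ι : Type u) (V : ι → Over S) (g : ∀ i, V i ⟶ U) (c : ι → J),
      (Presieve.ofArrows (fun i ↦ (V i).left) fun i ↦ (g i).left) ∈ Scheme.fppfPrecoverage U.left ∧
      ∀ i, ∃ x' : FibCat.overCat (V i) ⥤ᵇ 𝒳' (c i),
        Nonempty (BasedFunctor.comp x' (f (c i)) ≅ BasedFunctor.comp (AlgSt.overMap (g i)) x) := by
  obtain ⟨V₀, y, hy, hys⟩ := h𝒳.atlas
  choose W w m α hw hws hL using fun j => AlgStB.exists_chart_square (h𝒳' j) h𝒳 (f j) y hy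
  have hflat : ∀ j, Flat (m j).left := fun j => AlgStB.locP_left (m j)
    (AlgStB.prop_of_locQ (h𝒳' j) h𝒳 AlgStB.isSmoothLocalST_flat (hf₁ j) (w j) y (m j) (α j) hy (hL j).1)
  have hlfp : ∀ j, LocallyOfFinitePresentation (m j).left := fun j => AlgStB.locP_left (m j)
    (AlgStB.prop_of_locQ (h𝒳' j) h𝒳 AlgStB.isSmoothLocalST_lfp (hf₂ j) (w j) y (m j) (α j) hy (hL j).1)
  have hV := Fib.isFibGrpd_overCat V₀
  obtain ⟨hy₁, hy₂⟩ := AlgStB.flat_lfp_of_smooth hy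
  have hR₁ : ∀ j, AlgSt.RepByAlgSpWith (AlgSp.LocP @Flat) (BasedFunctor.comp (w j) (f j)) := fun j =>
    AlgStB.repByAlgSpWith_of_iso (α j).symm (AlgStB.repByAlgSpWith_comp' (Fib.isFibGrpd_overCat (W j))
      hV AlgStB.respectsSrcIso_locP AlgStB.hc_locP
      (AlgStB.repByAlgSpWith_overMap (P := @Flat) (m j) (hflat j)) hy₁)
  have hR₂ : ∀ j, AlgSt.RepByAlgSpWith (AlgSp.LocP @LocallyOfFinitePresentation)
      (BasedFunctor.comp (w j) (f j)) := fun j =>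
    AlgStB.repByAlgSpWith_of_iso (α j).symm (AlgStB.repByAlgSpWith_comp' (Fib.isFibGrpd_overCat (W j))
      hV AlgStB.respectsSrcIso_locP AlgStB.hc_locP
      (AlgStB.repByAlgSpWith_overMap (P := @LocallyOfFinitePresentation) (m j) (hlfp j)) hy₂)
  choose T k τ hi hp hk _hks using fun j => AlgStB.exists_cover_point (Fib.isFibGrpd_overCat (W j))
    h𝒳.isStack.1 (BasedFunctor.comp (w j) (f j)) (AlgStB.repByAlgSp1_of_with (hR₁ j)) x
  refine ⟨J, T, k, id, ?_, fun j => ?_⟩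
  · refine (Scheme.ofArrows_mem_precoverage_iff (P := @Flat ⊓ @LocallyOfFinitePresentation)).2
      ⟨fun v => ?_, fun j => ⟨hk j _ (hR₁ j), hk j _ (hR₂ j)⟩⟩
    obtain ⟨j, z, hz⟩ := hf₃ (AlgSt.Points.ofChart x v)
    obtain ⟨t₀, ht₀⟩ := AlgStB.isSurjective_of_repWith (Fib.isFibGrpd_overCat (W j))
      (h𝒳' j).isStack.1 (w j) (hws j hys) z
    obtain ⟨t, ht, -⟩ := hp j v t₀ (by rw [AlgStB.map_comp_apply, ht₀, hz])
    exact ⟨j, t, ht⟩
  · obtain ⟨i⟩ := hi j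
    exact ⟨BasedFunctor.comp (τ j) (w j), ⟨i⟩⟩

end Groth.Agent.S13022
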