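import Groth.Statements.S10553
import Groth.Agent.AlgSpLoc.SourceInst
import Groth.Agent.SmoothDesc.Main
-- import your own Groth.Agent.* helpers here

set_option autoImplicit false
universe u
open CategoryTheory CategoryTheory.Limits AlgebraicGeometry
open AlgSp

namespace Groth.Agent.S10553

/-- The property of morphisms of algebraic spaces over S given by f is smooth (on etale charts) is
smooth local on the source: for a morphism f : X ⟶ Y of algebraic spaces and a smooth covering of X
by algebraic spaces X_i, f has the property if and only if every composite X_i ⟶ X ⟶ Y has it. -/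
theorem result (S : Scheme.{u}) :
    AlgSp.IsLocalOnSource (AlgSp.IsSmCover (S := S)) (AlgSp.LocP @Smooth) := by
  have : MorphismProperty.IsLocalAtSource (@Smooth : MorphismProperty Scheme.{u}) (Scheme.precoverage @Smooth) :=
    Groth.Agent.AlgSpLoc.isLocalAtSource_of_descend (W := @Smooth)
      (fun e f (_ : Smooth e) (_ : Smooth f) => inferInstanceAs (Smooth (e ≫ f)))
      (fun e f (_ : Smooth e) (_ : Surjective e) (_ : Smooth (e ≫ f)) =>
        Groth.Agent.SmoothDesc.smooth_of_fppf_comp e f) le_rfl
  exact (Groth.Agent.S10580.result S @Smooth).2.2.1 this

end Groth.Agent.S10553
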