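import Groth.Statements.S12713
import Groth.Agent.ArtHull.Tangent
-- import your own Groth.Agent.* helpers here

set_option autoImplicit false
universe u v
open CategoryTheory
open ArtFun ArtFun.Art

namespace Groth.Agent.S12713

/-- A small extension f : B → A in the category of Artinian local Λ-algebras with residue field k is not
an essential surjection (some morphism g : C → B is non-surjective although the composite C → A is
surjective) if and only if f has a section A → B in the category. -/
theorem result {Λ : Type u} {k : Type u} [CommRing Λ] [Field k] [Algebra Λ k]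
    [IsNoetherianRing Λ] [Module.Finite Λ k]
    {A B : ArtFun.Art Λ k} (f : B ⟶ A) (hf : ArtFun.Art.IsSmallExt f) :
    (∃ (C : ArtFun.Art Λ k) (g : C ⟶ B), Function.Surjective (g ≫ f) ∧ ¬ Function.Surjective g) ↔
      ∃ s : A ⟶ B, s ≫ f = 𝟙 A := by
  constructor
  · rintro ⟨C, g, hgf, hg⟩
    obtain ⟨s, hs⟩ := Groth.Agent.ArtHull.exists_desc (g ≫ f) hgf g fun c hc => by
      by_contra hne
      refine hg fun b => ?_
      obtain ⟨c₀, hc₀⟩ := hgf (f b)
      obtain ⟨hsurj, -, ⟨x, hx⟩, hann⟩ := hf
      rw [Ideal.submodule_span_eq] at hx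
      have hcker : g c ∈ RingHom.ker f.toAlgHom := hc
      rw [hx] at hcker
      obtain ⟨r, hr⟩ := Ideal.mem_span_singleton'.1 hcker
      have hd : b - g c₀ ∈ RingHom.ker f.toAlgHom := by
        rw [RingHom.mem_ker, map_sub, sub_eq_zero]
        exact hc₀.symm
      rw [hx] at hd
      obtain ⟨q, hq⟩ := Ideal.mem_span_singleton'.1 hd
      have hru : IsUnit r := by
        by_contra hru
        refine hne (RingHom.mem_ker.2 ?_)
        change g c = 0
        rw [← hr]
        have := Ideal.mul_mem_mul ((IsLocalRing.mem_maximalIdeal r).2 hru)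
          (hx ▸ Ideal.mem_span_singleton_self x : x ∈ RingHom.ker f.toAlgHom)
        rwa [hann, Ideal.mem_bot] at this
      obtain ⟨rinv, hrinv⟩ := hru.exists_left_inv
      obtain ⟨c₁, hc₁⟩ := C.res_surjective (B.res (q * rinv))
      refine ⟨c₀ + c₁ * c, ?_⟩
      change g.toAlgHom (c₀ + c₁ * c) = b
      rw [map_add, map_mul]
      have hkey : g c₁ * x = q * rinv * x := by
        rw [← sub_eq_zero, ← sub_mul]
        have := Ideal.mul_mem_mul ((ArtFun.Art.mem_maximalIdeal_iff B (g c₁ - q * rinv)).2 (by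
          rw [map_sub, ArtFun.Art.res_app, hc₁, sub_self]))
          (hx ▸ Ideal.mem_span_singleton_self x : x ∈ RingHom.ker f.toAlgHom)
        rwa [hann, Ideal.mem_bot] at this
      change g c₀ + g c₁ * g c = b
      rw [← hr, show g c₁ * (r * x) = r * (g c₁ * x) by ring, hkey,
        show r * (q * rinv * x) = (rinv * r) * (q * x) by ring, hrinv, one_mul, hq]
      exact add_sub_cancel _ _
    refine ⟨s, ArtFun.Art.hom_ext (AlgHom.ext fun a => ?_)⟩
    obtain ⟨c, rfl⟩ := hgf a
    exact congrArg (fun φ : C ⟶ A => φ c) (show (g ≫ f) ≫ s ≫ f = g ≫ f by rw [← Category.assoc, hs])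
  · rintro ⟨s, hs⟩
    refine ⟨A, s, fun a => ⟨a, congrArg (fun φ : A ⟶ A => φ a) hs⟩, fun hsurj => hf.2.1 ?_⟩
    rw [eq_bot_iff]
    intro b hb
    obtain ⟨a, rfl⟩ := hsurj b
    have : a = 0 := (congrArg (fun φ : A ⟶ A => φ a) hs).symm.trans hb
    rw [Ideal.mem_bot, this]
    exact map_zero s.toAlgHom

end Groth.Agent.S12713
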