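import Groth.Statements.S1375
import Groth.Agent.QFFlatSlice.Basic
import Groth.Agent.GenFlat.FppfSource


set_option autoImplicit false
universe u
open FlatMor

namespace Groth.Agent.S1375

open AlgebraicGeometry CategoryTheory Limits in
/-- Let S' → S be flat, locally of finite presentation and surjective (an fppf cover by one morphism).
Then there is a flat, locally of finite presentation, locally quasi-finite and surjective T → S
which factors through S' locally on T. -/
theorem result {S' S : Scheme.{u}} (g : S' ⟶ S) [Flat g] [LocallyOfFinitePresentation g] [Surjective g] :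
    ∃ (T : Scheme.{u}) (h : T ⟶ S), Flat h ∧ LocallyOfFinitePresentation h ∧ LocallyQuasiFinite h ∧ Surjective h ∧
      ∀ t : ↑T, ∃ (V : T.Opens) (r : ↑V ⟶ S'), t ∈ V ∧ r ≫ g = V.ι ≫ h := by
  classical
  have key : ∀ U : S.affineOpens, ∃ (W : Scheme.{u}) (h : W ⟶ (U.1 : Scheme.{u})) (r : W ⟶ S'),
      Flat h ∧ LocallyOfFinitePresentation h ∧ LocallyQuasiFinite h ∧ Surjective h ∧ r ≫ g = h ≫ U.1.ι := by
    intro ⟨U, hU⟩
    have : CompactSpace (U : Scheme.{u}) := isCompact_iff_compactSpace.mp hU.isCompact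
    have : Surjective (g ∣_ U) := IsZariskiLocalAtTarget.restrict (P := @Surjective) ‹Surjective g› U
    obtain ⟨W, p, hW, hp, hp₂, -, hps⟩ := Groth.Agent.GenFlat.exists_affine_fppf_surjective (g ∣_ U)
    let φ : Spec Γ(W, ⊤) ⟶ Spec Γ(S, U) := W.isoSpec.inv ≫ p ≫ (g ∣_ U) ≫ hU.isoSpec.hom
    obtain ⟨ψ, hψ⟩ := Spec.map_surjective φ
    have h₁ : Flat (Spec.map ψ) := by rw [hψ]; infer_instance
    have h₂ : LocallyOfFinitePresentation (Spec.map ψ) := by rw [hψ]; infer_instance
    have h₃ : Surjective (Spec.map ψ) := by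
      rw [hψ]
      have : Surjective ((p ≫ g ∣_ U) ≫ hU.isoSpec.hom) := inferInstance
      rw [Category.assoc] at this
      infer_instance
    let : Algebra Γ(S, U) Γ(W, ⊤) := ψ.hom.toAlgebra
    have : Algebra.FinitePresentation Γ(S, U) Γ(W, ⊤) := (LocallyOfFinitePresentation.SpecMap_iff ψ).1 h₂
    have : Module.FaithfullyFlat Γ(S, U) Γ(W, ⊤) := RingHom.FaithfullyFlat.iff_flat_and_comap_surjective.2
      ⟨(HasRingHomProperty.Spec_iff (P := @Flat)).1 h₁, h₃.surj⟩
    obtain ⟨C', _, _, hqf, -, hff, hfp, ⟨κ⟩⟩ := Groth.Agent.QFFlatSlice.exists_qf_faithfullyFlat Γ(S, U) Γ(W, ⊤)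
    have hf : Flat (Spec.map (CommRingCat.ofHom (algebraMap Γ(S, U) C'))) :=
      (HasRingHomProperty.Spec_iff (P := @Flat)).2 (RingHom.flat_algebraMap_iff.2 inferInstance)
    have hl : LocallyOfFinitePresentation (Spec.map (CommRingCat.ofHom (algebraMap Γ(S, U) C'))) :=
      (LocallyOfFinitePresentation.SpecMap_iff _).2 (RingHom.finitePresentation_algebraMap.2 hfp)
    have hq : LocallyQuasiFinite (Spec.map (CommRingCat.ofHom (algebraMap Γ(S, U) C'))) :=
      (HasRingHomProperty.Spec_iff (P := @LocallyQuasiFinite)).2 (RingHom.quasiFinite_algebraMap.2 hqf)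
    have hs : Surjective (Spec.map (CommRingCat.ofHom (algebraMap Γ(S, U) C'))) :=
      ⟨PrimeSpectrum.comap_surjective_of_faithfullyFlat (A := Γ(S, U)) (B := C')⟩
    refine ⟨Spec (.of C'), Spec.map (CommRingCat.ofHom (algebraMap Γ(S, U) C')) ≫ hU.isoSpec.inv,
      Spec.map (CommRingCat.ofHom κ.toRingHom) ≫ W.isoSpec.inv ≫ p ≫ (g ⁻¹ᵁ U).ι,
      inferInstance, inferInstance, inferInstance, inferInstance, ?_⟩
    have hc : CommRingCat.ofHom (algebraMap Γ(S, U) C') = ψ ≫ CommRingCat.ofHom κ.toRingHom := by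
      ext a
      exact (κ.commutes a).symm
    rw [hc, Spec.map_comp, hψ]
    simp [φ, morphismRestrict_ι]
  choose W h r hflat hfp hqf hsurj hr using key
  let T : Scheme.{u} := ∐ W
  let hT : T ⟶ S := Sigma.desc fun U => h U ≫ U.1.ι
  have hι : ∀ U, (sigmaOpenCover W).f U ≫ hT = h U ≫ U.1.ι := fun U => Sigma.ι_desc _ U
  refine ⟨T, hT, ?_, ?_, ?_, ⟨fun s => ?_⟩, fun t => ?_⟩
  · refine IsZariskiLocalAtSource.of_openCover (P := @Flat) (sigmaOpenCover W) fun (U : S.affineOpens) => ?_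
    rw [hι U]
    exact MorphismProperty.comp_mem (W := @Flat) _ _ (hflat U) inferInstance
  · refine IsZariskiLocalAtSource.of_openCover (P := @LocallyOfFinitePresentation) (sigmaOpenCover W) fun (U : S.affineOpens) => ?_
    rw [hι U]
    exact MorphismProperty.comp_mem (W := @LocallyOfFinitePresentation) _ _ (hfp U) inferInstance
  · refine IsZariskiLocalAtSource.of_openCover (P := @LocallyQuasiFinite) (sigmaOpenCover W) fun (U : S.affineOpens) => ?_
    rw [hι U]
    exact MorphismProperty.comp_mem (W := @LocallyQuasiFinite) _ _ (hqf U) inferInstance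
  · obtain ⟨_, ⟨U, hU, rfl⟩, hsU, -⟩ := S.isBasis_affineOpens.exists_subset_of_mem_open (Set.mem_univ s) isOpen_univ
    obtain ⟨w, hw⟩ := (hsurj ⟨U, hU⟩).surj ⟨s, hsU⟩
    refine ⟨(sigmaOpenCover W).f ⟨U, hU⟩ w, ?_⟩
    change ((sigmaOpenCover W).f ⟨U, hU⟩ ≫ hT) w = s
    rw [hι ⟨U, hU⟩]
    exact congrArg (Scheme.Opens.ι U) hw
  · obtain ⟨U', w, rfl⟩ := (sigmaOpenCover W).exists_eq t
    let U : S.affineOpens := U'
    have : IsOpenImmersion ((sigmaOpenCover W).f U) := (sigmaOpenCover W).map_prop U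
    refine ⟨((sigmaOpenCover W).f U).opensRange, ((sigmaOpenCover W).f U).isoOpensRange.inv ≫ r U, ⟨w, rfl⟩, ?_⟩
    exact (Category.assoc _ _ _).trans ((congrArg _ ((hr U).trans (hι U).symm)).trans (Scheme.Hom.isoOpensRange_inv_comp_assoc _ hT))

end Groth.Agent.S1375
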