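import Groth.Statements.S1682
import Groth.Prelude.Def_BlowUp2

set_option autoImplicit false
universe u
open CategoryTheory CategoryTheory.Limits AlgebraicGeometry TopologicalSpace
open SDiv

namespace Groth.Agent.S1682

theorem comap_eq_top {X Y : Scheme.{u}} (𝓘 : X.IdealSheafData) (g : Y ⟶ X)
    (h : ∀ y, g y ∉ 𝓘.support) : 𝓘.comap g = ⊤ := by
  rw [← Scheme.IdealSheafData.support_eq_bot_iff, Scheme.IdealSheafData.support_comap]
  ext y
  simp [h y]

theorem isEffCartier_top {Y : Scheme.{u}} : BlowUp.IsEffCartierIdeal (⊤ : Y.IdealSheafData) := by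
  intro y
  obtain ⟨U, hU, hy, -⟩ := exists_isAffineOpen_mem_and_subset (U := ⊤) (x := y) (by simp)
  refine ⟨⟨U, hU⟩, hy, 1, one_mem _, ?_⟩
  rw [Ideal.span_singleton_one]; rfl


/-- Let b : X' ⟶ X be a blowing-up of X along the quasi-coherent ideal sheaf 𝓘, with centre Z = support
of 𝓘. Then b restricted over the open complement of Z is an isomorphism. -/
theorem result {X X' : Scheme.{u}} (𝓘 : X.IdealSheafData) (b : X' ⟶ X) (hb : BlowUp.IsBlowUp b 𝓘) :
    IsIso (b ∣_ 𝓘.support.compl) := by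
  let U : X.Opens := 𝓘.support.compl
  show IsIso (b ∣_ U)
  have hUg : ∀ y : (U : Scheme.{u}), U.ι y ∉ 𝓘.support := fun y => y.2
  have hVg : ∀ y : ((b ⁻¹ᵁ U : X'.Opens) : Scheme.{u}), ((b ⁻¹ᵁ U).ι ≫ b) y ∉ 𝓘.support :=
    fun y => y.2
  obtain ⟨h, hh, -⟩ := hb.2 _ U.ι (by rw [comap_eq_top 𝓘 _ hUg]; exact isEffCartier_top)
  obtain ⟨k, -, huniq⟩ := hb.2 _ ((b ⁻¹ᵁ U).ι ≫ b) (by rw [comap_eq_top 𝓘 _ hVg]; exact isEffCartier_top)
  have hr : Set.range h ⊆ Set.range (b ⁻¹ᵁ U).ι := by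
    rintro _ ⟨y, rfl⟩
    rw [Scheme.Opens.range_ι]
    show b (h y) ∈ U
    rw [← Scheme.Hom.comp_apply, hh]
    exact y.2
  refine ⟨IsOpenImmersion.lift (b ⁻¹ᵁ U).ι h hr, ?_, ?_⟩
  · rw [← cancel_mono (b ⁻¹ᵁ U).ι, Category.assoc, IsOpenImmersion.lift_fac, Category.id_comp]
    exact (huniq ((b ∣_ U) ≫ h) (by show _ = _; rw [Category.assoc, hh, morphismRestrict_ι])).trans
      (huniq _ rfl).symm
  · rw [← cancel_mono U.ι, Category.assoc, morphismRestrict_ι, IsOpenImmersion.lift_fac_assoc, hh,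
      Category.id_comp]

end Groth.Agent.S1682
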