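import Groth.Statements.S2467
import Groth.Agent.PBasis.Field

set_option autoImplicit false
universe u
open EGA41

namespace Groth.Agent.S2467

/-- Let k ⊆ K be fields of characteristic p > 0, S ⊆ K a system of p-generators of K over k and L ⊆ S a
subset which is p-free over k. Then there is a p-basis B of K over k with L ⊆ B ⊆ S. In particular
every extension of k has a p-basis over k. -/
theorem result (p : ℕ) [Fact p.Prime] {k K : Type u} [Field k] [Field K] [Algebra k K] [CharP K p]
    (S L : Set K) (hLS : L ⊆ S) (hS : EGA41.IsPGenerating p k (Subtype.val : S → K)) (hL : EGA41.IsPIndependent p k (Subtype.val : L → K)) :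
    ∃ B : Set K, L ⊆ B ∧ B ⊆ S ∧ EGA41.IsPBasis p k (Subtype.val : B → K) := by
  have hL' : LinearIndepOn K (fun b => KaehlerDifferential.D k K b) L :=
    (Groth.Agent.PBasis.isPIndependent_iff_linearIndependent (Subtype.val : L → K)).1 hL
  obtain ⟨B, hBS, hLB, hSB, hB⟩ := exists_linearIndepOn_extension hL' hLS
  refine ⟨B, hLB, hBS, (Groth.Agent.PBasis.isPIndependent_iff_linearIndependent _).2 hB,
    (Groth.Agent.PBasis.isPGenerating_iff_span _).2 ?_⟩
  have hS' := (Groth.Agent.PBasis.isPGenerating_iff_span (Subtype.val : S → K)).1 hS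
  rw [← top_le_iff, ← hS', Submodule.span_le]
  rintro _ ⟨⟨s, hs⟩, rfl⟩
  refine Submodule.span_mono ?_ (hSB ⟨s, hs, rfl⟩)
  rintro _ ⟨b, hb, rfl⟩
  exact ⟨⟨b, hb⟩, rfl⟩

end Groth.Agent.S2467
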