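import Groth.Statements.S4541
import Groth.Agent.PBasis.Field

set_option autoImplicit false
universe u
open EGA41

namespace Groth.Agent.S4541

theorem exists_pow_eq (p : ℕ) [Fact p.Prime] {A B : Type u} [CommRing A] [CharP A p]
    [PerfectRing A p] [CommRing B] [Algebra A B] [CharP B p] {c : B}
    (hc : c ∈ EGA41.pPowerSubalgebra p A B) : ∃ b, b ^ p = c := by
  induction hc using Algebra.adjoin_induction with
  | mem _ h => exact h
  | algebraMap a =>
    obtain ⟨a', ha'⟩ := (frobeniusEquiv A p).surjective a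
    exact ⟨algebraMap A B a', by rw [← map_pow, ← ha']; rfl⟩
  | add _ _ _ _ h1 h2 =>
    obtain ⟨b1, rfl⟩ := h1
    obtain ⟨b2, rfl⟩ := h2
    exact ⟨b1 + b2, Groth.Agent.PBasis.add_pow_of_cast_eq_zero (CharP.cast_eq_zero B p) b1 b2⟩
  | mul _ _ _ _ h1 h2 =>
    obtain ⟨b1, rfl⟩ := h1
    obtain ⟨b2, rfl⟩ := h2
    exact ⟨b1 * b2, mul_pow _ _ _⟩

/-- Lifting property against a surjection with given kernel. -/
def LiftProp {A B : Type u} [CommRing A] [CommRing B] [Algebra A B] {ι : Type u} (x : ι → B)
    ⦃S : Type u⦄ [CommRing S] (R : Ideal S) : Prop :=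
  ∀ (_ : Algebra A S) ⦃T : Type u⦄ [CommRing T] [Algebra A T] (g : S →ₐ[A] T),
    Function.Surjective g → RingHom.ker g = R → ∀ (v : B →ₐ[A] T) (z : ι → S),
      (∀ i, g (z i) = v (x i)) → ∃! w : B →ₐ[A] S, g.comp w = v ∧ ∀ i, w (x i) = z i

theorem lifts (p : ℕ) [Fact p.Prime] {A B : Type u} [CommRing A] [CharP A p]
    [PerfectRing A p] [CommRing B] [Algebra A B] [CharP B p] [IsReduced B]
    {ι : Type u} (x : ι → B) (hx : EGA41.IsPBasis p A x) {S : Type u} [CommRing S] (R : Ideal S)
    (hR : IsNilpotent R) : LiftProp (A := A) x R := by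
  have hp : p ≠ 0 := (Fact.out : p.Prime).ne_zero
  refine Ideal.IsNilpotent.induction_on (P := fun S _ R => LiftProp (A := A) x R) R hR ?_ ?_
  · intro S _ R hR _ T _ _ g hg hker v z hz
    have hS : (p : S) = 0 := by
      rw [← map_natCast (algebraMap A S), CharP.cast_eq_zero, map_zero]
    choose l hl using fun b => hg (v b)
    have hpow : ∀ s t : S, g s = g t → s ^ p = t ^ p := by
      intro s t hst
      have hk : s - t ∈ R := hker ▸ (by simp [RingHom.mem_ker, hst] : s - t ∈ RingHom.ker g)
      have h2 : (s - t) ^ p = 0 := by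
        have := Ideal.pow_le_pow_right (Fact.out : p.Prime).two_le (Ideal.pow_mem_pow hk p)
        rwa [hR, Ideal.mem_bot] at this
      have := Groth.Agent.PBasis.add_pow_of_cast_eq_zero hS t (s - t)
      rw [add_sub_cancel, h2, add_zero] at this
      exact this
    let ψ : B →+* S :=
      { toFun := fun b => l b ^ p
        map_one' := (hpow _ 1 (by simp [hl])).trans (one_pow p)
        map_zero' := (hpow _ 0 (by simp [hl])).trans (zero_pow hp)
        map_mul' := fun a b => (hpow _ (l a * l b) (by simp [hl])).trans (mul_pow _ _ _)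
        map_add' := fun a b => (hpow _ (l a + l b) (by simp [hl])).trans
          (Groth.Agent.PBasis.add_pow_of_cast_eq_zero hS _ _) }
    have hinjF : Function.Injective (frobenius B p) := frobenius_inj B p
    let e : B ≃+* EGA41.pPowerSubalgebra p A B :=
      RingEquiv.ofBijective ((frobenius B p).codRestrict (EGA41.pPowerSubalgebra p A B)
          fun b => Algebra.subset_adjoin ⟨b, rfl⟩)
        ⟨fun a b h => hinjF (congrArg Subtype.val h), fun c =>
          let ⟨b, hb⟩ := exists_pow_eq p c.2; ⟨b, Subtype.ext hb⟩⟩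
    obtain ⟨w, hw₀, hw⟩ := Groth.Agent.PBasis.exists_lift hp hx (ψ.comp e.symm.toRingHom) z
      (fun i => by
        have : e.symm ⟨x i ^ p, Groth.Agent.PBasis.pow_mem' p A (x i)⟩ = x i :=
          e.symm_apply_eq.2 (Subtype.ext rfl)
        show ψ (e.symm _) = _
        rw [this]
        exact hpow _ _ (by rw [hl, hz]))
    have hwp : ∀ b, w (b ^ p) = l b ^ p := fun b => by
      rw [show b ^ p = ((e b : EGA41.pPowerSubalgebra p A B) : B) from rfl, hw₀]
      show ψ (e.symm (e b)) = _
      rw [e.symm_apply_apply]; rfl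
    have hwA : ∀ a, w (algebraMap A B a) = algebraMap A S a := fun a => by
      obtain ⟨a', ha'⟩ := (frobeniusEquiv A p).surjective a
      rw [show a = a' ^ p from ha'.symm, map_pow, hwp, map_pow]
      exact hpow _ _ (by simp [hl])
    refine ⟨{ toRingHom := w, commutes' := hwA }, ⟨AlgHom.coe_ringHom_injective
      (Groth.Agent.PBasis.hom_ext hp hx.2 (fun c hc => ?_) fun i => ?_), hw⟩, ?_⟩
    · obtain ⟨b, rfl⟩ := exists_pow_eq p hc
      simp only [AlgHom.comp_toRingHom, RingHom.coe_comp, RingHom.coe_coe, Function.comp_apply]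
      show g (w (b ^ p)) = _
      rw [hwp, map_pow, hl, map_pow]
    · show g (w (x i)) = _
      rw [hw, hz]; rfl
    · rintro w' ⟨hw', hw'x⟩
      refine AlgHom.coe_ringHom_injective (Groth.Agent.PBasis.hom_ext hp hx.2 (fun c hc => ?_)
        fun i => (hw'x i).trans (hw i).symm)
      obtain ⟨b, rfl⟩ := exists_pow_eq p hc
      show w' (b ^ p) = w (b ^ p)
      rw [hwp, map_pow]
      exact hpow _ _ (by rw [hl, ← hw']; rfl)
  · intro S _ I J hIJ hI hJ _ T _ _ g hg hker v z hz
    let g' : (S ⧸ I) →ₐ[A] T := Ideal.Quotient.liftₐ I g fun a ha =>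
      RingHom.mem_ker.1 ((SetLike.ext_iff.1 hker a).2 (hIJ ha))
    have hg' : Function.Surjective g' := fun t => by
      obtain ⟨s, rfl⟩ := hg t; exact ⟨Ideal.Quotient.mk I s, rfl⟩
    have hker' : RingHom.ker g' = J.map (Ideal.Quotient.mk I) := by
      refine le_antisymm (fun q hq => ?_) (Ideal.map_le_iff_le_comap.2 fun s hs => ?_)
      · obtain ⟨s, rfl⟩ := Ideal.Quotient.mk_surjective q
        exact Ideal.mem_map_of_mem _ (hker ▸ hq)
      · show g s = 0
        exact RingHom.mem_ker.1 ((SetLike.ext_iff.1 hker s).2 hs)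
    obtain ⟨w1, ⟨hw1, hw1x⟩, hu1⟩ := hJ inferInstance g' hg' hker' v (fun i => Ideal.Quotient.mk I (z i)) hz
    obtain ⟨w, ⟨hw, hwx⟩, hu⟩ := hI inferInstance (Ideal.Quotient.mkₐ A I) Ideal.Quotient.mk_surjective
      Ideal.mk_ker w1 z (fun i => (hw1x i).symm)
    refine ⟨w, ⟨?_, hwx⟩, fun w' ⟨hw', hw'x⟩ => hu w' ⟨hu1 _ ⟨?_, fun i => ?_⟩, hw'x⟩⟩
    · rw [← hw1, ← hw, ← AlgHom.comp_assoc]; rfl
    · rw [← hw', ← AlgHom.comp_assoc]; rfl
    · simp [hw'x i]


/-- Let p be a prime, A a perfect ring of characteristic p and B a reduced A-algebra of characteristic p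
which admits a p-basis (x_α) over A. Then B is a formally smooth A-algebra (discrete topologies);
more precisely, for every A-algebra E, every nilpotent ideal R of E, every A-algebra homomorphism v
: B → E/R and every family (z_α) of elements of E lifting the v(x_α), there is a unique A-algebra
homomorphism w : B → E lifting v with w(x_α) = z_α for all α. (The published statement assumes,
instead of A perfect and B reduced, that the canonical map A^(p) ⊗_A B → B^(p), a ⊗ b ↦ a b^p with
Frobenius-twisted structures, is injective; when A is perfect that condition says exactly that B is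
reduced, which is the case stated here. The published statement also treats admissible topological
E; only discrete E is stated.) -/
theorem result (p : ℕ) [Fact p.Prime] {A B : Type u} [CommRing A] [CharP A p]
    [PerfectRing A p] [CommRing B] [Algebra A B] [CharP B p] [IsReduced B]
    {ι : Type u} (x : ι → B) (hx : EGA41.IsPBasis p A x) :
    Algebra.FormallySmooth A B ∧
    ∀ (E : Type u) [CommRing E] [Algebra A E] (R : Ideal E), IsNilpotent R →
      ∀ (v : B →ₐ[A] E ⧸ R) (z : ι → E), (∀ i, Ideal.Quotient.mk R (z i) = v (x i)) →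
        ∃! w : B →ₐ[A] E, (Ideal.Quotient.mkₐ A R).comp w = v ∧ ∀ i, w (x i) = z i := by
  have key := fun (E : Type u) [CommRing E] [Algebra A E] (R : Ideal E) (hR : IsNilpotent R)
      (v : B →ₐ[A] E ⧸ R) (z : ι → E) (hz : ∀ i, Ideal.Quotient.mk R (z i) = v (x i)) =>
    lifts p x hx R hR inferInstance (Ideal.Quotient.mkₐ A R) Ideal.Quotient.mk_surjective (Ideal.mk_ker) v z hz
  refine ⟨Algebra.FormallySmooth.of_comp_surjective fun E _ _ R hR v => ?_, key⟩
  choose z hz using fun i => Ideal.Quotient.mk_surjective (v (x i))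
  obtain ⟨w, ⟨hw, -⟩, -⟩ := key E R ⟨2, hR⟩ v z hz
  exact ⟨w, hw⟩

end Groth.Agent.S4541
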