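import Groth.Statements.S0579
import Mathlib


set_option autoImplicit false
universe u
open CAlg

namespace Groth.Agent.S0579

/-- A local ring which is complete with respect to its maximal ideal and whose residue field has
characteristic zero admits a coefficient field: there is a ring homomorphism from the residue field
to the ring which is a section of the residue map. -/
theorem result (R : Type u) [CommRing R] [IsLocalRing R]
    [IsAdicComplete (IsLocalRing.maximalIdeal R) R] [CharZero (IsLocalRing.ResidueField R)] :
    ∃ s : IsLocalRing.ResidueField R →+* R, (IsLocalRing.residue R).comp s = RingHom.id _ := by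
  let k := IsLocalRing.ResidueField R
  have hu : ∀ y : nonZeroDivisors ℤ, IsUnit (algebraMap ℤ R y) := by
    intro y
    rw [← IsLocalRing.residue_ne_zero_iff_isUnit]
    simp [nonZeroDivisors.ne_zero y.2]
  letI : Algebra ℚ R := (IsLocalization.lift (S := ℚ) hu).toAlgebra
  obtain ⟨s, hs⟩ := exists_isTranscendenceBasis ℚ k
  haveI := hs.isAlgebraic_field
  haveI : Algebra.IsSeparable (IntermediateField.adjoin ℚ (Set.range ((↑) : s → k))) k :=
    inferInstance
  haveI : Algebra.FormallySmooth ℚ k := Algebra.FormallySmooth.of_algebraicIndependent_of_isSeparable hs.1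
  let f : k →ₐ[ℚ] R ⧸ IsLocalRing.maximalIdeal R :=
    RingHom.toRatAlgHom (RingHom.id k : k →+* R ⧸ IsLocalRing.maximalIdeal R)
  obtain ⟨g, hg⟩ := Algebra.FormallySmooth.exists_mkₐ_comp_eq_of_isAdicComplete f
  exact ⟨g.toRingHom, RingHom.ext fun x => DFunLike.congr_fun hg x⟩

end Groth.Agent.S0579
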