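import Groth.Statements.S9446
import Mathlib
-- import your own Groth.Agent.* helpers here

set_option autoImplicit false
universe u
open CAlg

namespace Groth.Agent.S9446

open TensorProduct in
lemma exists_smooth_stage {R : Type u} [CommRing R] {S : Type u} [CommRing S] [Algebra R S]
    (hS : Smoothing.IndSmooth R S) {B : Type u} [CommRing B] [Algebra R B]
    (ev : MvPolynomial S R →ₐ[R] S) (hev : ev = MvPolynomial.aeval id)
    (x : MvPolynomial S R ⊗[R] B) (hx : Algebra.TensorProduct.map ev (AlgHom.id R B) x = 0)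
    (extra : Finset (MvPolynomial S R)) :
    ∃ (S₁ : Type u) (_ : CommRing S₁) (_ : Algebra R S₁) (ρ : MvPolynomial S R →ₐ[R] S₁) (h : S₁ →ₐ[R] S),
      Algebra.Smooth R S₁ ∧ (∀ p ∈ extra, h (ρ p) = ev p) ∧
        Algebra.TensorProduct.map ρ (AlgHom.id R B) x = 0 := by
  classical
  have hsurj : Function.Surjective ev.toLinearMap := fun s => ⟨MvPolynomial.X s, by rw [hev]; simp⟩
  have hex := rTensor_exact B (LinearMap.exact_subtype_ker_map ev.toLinearMap) hsurj
  obtain ⟨w, rfl⟩ := (hex x).1 hx
  obtain ⟨T, rfl⟩ := TensorProduct.exists_finset w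
  let t : Finset S := (T.biUnion fun i => (i.1 : MvPolynomial S R).vars) ∪ extra.biUnion MvPolynomial.vars
  let π : MvPolynomial S R →ₐ[R] MvPolynomial t R :=
    MvPolynomial.aeval fun v => if h : v ∈ t then MvPolynomial.X ⟨v, h⟩ else 0
  let g0 : MvPolynomial t R →ₐ[R] S := MvPolynomial.aeval fun v => v.1
  have hagree : ∀ p : MvPolynomial S R, p.vars ⊆ t → g0 (π p) = ev p := fun p hp => by
    rw [← AlgHom.comp_apply, hev]
    simp only [π, MvPolynomial.comp_aeval]
    exact MvPolynomial.eval₂Hom_congr' rfl (fun v hv _ => by simp [g0, hp hv]) rfl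
  let I : Ideal (MvPolynomial t R) := Ideal.span ((T.image fun i => π i.1 : Finset _) : Set (MvPolynomial t R))
  have hI : ∀ z ∈ I, g0 z = 0 := by
    intro z hz
    refine (Ideal.span_le (I := RingHom.ker g0.toRingHom)).2 ?_ hz
    intro y hy
    obtain ⟨i, hi, rfl⟩ := Finset.mem_image.1 hy
    show g0 (π i.1) = 0
    rw [hagree _ (fun v hv => Finset.mem_union_left _ (Finset.mem_biUnion.2 ⟨i, hi, hv⟩))]
    exact i.1.2
  have hfp : Algebra.FinitePresentation R (MvPolynomial t R ⧸ I) :=
    Algebra.FinitePresentation.quotient ⟨_, rfl⟩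
  obtain ⟨S₁, _, _, hsm, g, h, hgh⟩ := hS _ hfp (Ideal.Quotient.liftₐ I g0 hI)
  refine ⟨S₁, inferInstance, inferInstance, g.comp ((Ideal.Quotient.mkₐ R I).comp π), h, hsm, fun p hp => ?_, ?_⟩
  · rw [← hagree p (fun v hv => Finset.mem_union_right _ (Finset.mem_biUnion.2 ⟨p, hp, hv⟩))]
    exact AlgHom.congr_fun hgh _
  · simp only [map_sum]
    refine Finset.sum_eq_zero fun i hi => ?_
    rw [LinearMap.rTensor_tmul, Algebra.TensorProduct.map_tmul]
    show g (Ideal.Quotient.mk I (π i.1)) ⊗ₜ[R] i.2 = 0
    rw [Ideal.Quotient.eq_zero_iff_mem.2 (Ideal.subset_span (Finset.mem_image_of_mem _ hi)), map_zero,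
      TensorProduct.zero_tmul]

open TensorProduct in
lemma map_map_eq {R : Type u} [CommRing R] {P S₁ S M : Type u} [CommRing P] [CommRing S₁] [CommRing S]
    [CommRing M] [Algebra R P] [Algebra R S₁] [Algebra R S] [Algebra R M] (ρ : P →ₐ[R] S₁) (h : S₁ →ₐ[R] S)
    (ev : P →ₐ[R] S) (T : Finset (P × M)) (hT : ∀ i ∈ T, h (ρ i.1) = ev i.1) :
    Algebra.TensorProduct.map h (AlgHom.id R M)
        (Algebra.TensorProduct.map ρ (AlgHom.id R M) (∑ i ∈ T, i.1 ⊗ₜ[R] i.2)) =
      Algebra.TensorProduct.map ev (AlgHom.id R M) (∑ i ∈ T, i.1 ⊗ₜ[R] i.2) := by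
  simp only [map_sum, Algebra.TensorProduct.map_tmul]
  exact Finset.sum_congr rfl fun i hi => by rw [hT i hi]; rfl

end Groth.Agent.S9446

namespace Groth.Agent.S9446

/-- If S is ind-smooth over R (every R-algebra map into S from a finitely presented R-algebra factors
through a smooth R-algebra) then for every R-algebra B the canonical map S ⊗_R A → A', from the base
change of the integral closure A of R in B to the integral closure A' of S in S ⊗_R B, is bijective. -/
theorem result (R : Type u) [CommRing R] (S : Type u)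
    [CommRing S] [Algebra R S] (hS : Smoothing.IndSmooth R S) (B : Type u) [CommRing B]
    [Algebra R B] : Function.Bijective (TensorProduct.toIntegralClosure R S B) := by
  classical
  let A := integralClosure R B
  let P := MvPolynomial S R
  let ev : P →ₐ[R] S := MvPolynomial.aeval id
  have hsurj : Function.Surjective ev := fun s => ⟨MvPolynomial.X s, MvPolynomial.aeval_X id s⟩
  have hliftB : ∀ z : TensorProduct R S B, ∃ z', Algebra.TensorProduct.map ev (AlgHom.id R B) z' = z :=
    fun z => TensorProduct.map_surjective (g := ev.toLinearMap) (g' := LinearMap.id) hsurj Function.surjective_id z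
  have hliftA : ∀ z : TensorProduct R S A, ∃ z', Algebra.TensorProduct.map ev (AlgHom.id R A) z' = z :=
    fun z => TensorProduct.map_surjective (g := ev.toLinearMap) (g' := LinearMap.id) hsurj Function.surjective_id z
  have hnat : ∀ {U V : Type u} [CommRing U] [CommRing V] [Algebra R U] [Algebra R V] (k : U →ₐ[R] V) (z : TensorProduct R U A),
      Algebra.TensorProduct.map k (AlgHom.id R B) (TensorProduct.toIntegralClosure R U B z).1 =
        (TensorProduct.toIntegralClosure R V B (Algebra.TensorProduct.map k (AlgHom.id R A) z)).1 := by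
    intro U V _ _ _ _ k z
    show ((Algebra.TensorProduct.map k (AlgHom.id R B)).comp
      (((integralClosure U (TensorProduct R U B)).val.comp (TensorProduct.toIntegralClosure R U B)).restrictScalars R)) z =
      ((((integralClosure V (TensorProduct R V B)).val.comp (TensorProduct.toIntegralClosure R V B)).restrictScalars R).comp
        (Algebra.TensorProduct.map k (AlgHom.id R A))) z
    congr 1
    ext u
    · simp [TensorProduct.toIntegralClosure]
    · simp [TensorProduct.toIntegralClosure]
  refine ⟨(injective_iff_map_eq_zero _).2 fun z hz => ?_, fun y => ?_⟩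
  · obtain ⟨z', rfl⟩ := hliftA z
    obtain ⟨T, rfl⟩ := TensorProduct.exists_finset z'
    obtain ⟨S₁, _, _, ρ, h, hsm, hh, h0⟩ := Groth.Agent.S9446.exists_smooth_stage hS ev rfl
      (TensorProduct.toIntegralClosure R P B (∑ i ∈ T, i.1 ⊗ₜ[R] i.2)).1 (by rw [hnat, hz]; rfl)
      (T.image Prod.fst)
    rw [hnat] at h0
    have := (injective_iff_map_eq_zero _).1 TensorProduct.toIntegralClosure_bijective_of_smooth.1 _ (Subtype.ext h0)
    rw [← Groth.Agent.S9446.map_map_eq ρ h ev T fun i hi => hh _ (Finset.mem_image_of_mem _ hi), this, map_zero]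
  · obtain ⟨y', hy'⟩ := hliftB y.1
    obtain ⟨T, rfl⟩ := TensorProduct.exists_finset y'
    obtain ⟨f, hf, hfy⟩ := y.2
    obtain ⟨F, hF, -, hFm⟩ := Polynomial.lifts_and_natDegree_eq_and_monic (f := ev.toRingHom)
      (Polynomial.map_surjective ev.toRingHom hsurj f) hf
    obtain ⟨S₁, _, _, ρ, h, hsm, hh, h0⟩ := Groth.Agent.S9446.exists_smooth_stage hS ev rfl
      (Polynomial.eval₂ (algebraMap P (TensorProduct R P B)) (∑ i ∈ T, i.1 ⊗ₜ[R] i.2) F) (by
        show (Algebra.TensorProduct.map ev (AlgHom.id R B)).toRingHom _ = 0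
        rw [Polynomial.hom_eval₂, ← hfy, ← hF, Polynomial.eval₂_map]
        congr 1
        )
      (T.image Prod.fst)
    have hint : IsIntegral S₁ (Algebra.TensorProduct.map ρ (AlgHom.id R B) (∑ i ∈ T, i.1 ⊗ₜ[R] i.2)) := by
      refine ⟨F.map ρ.toRingHom, hFm.map _, ?_⟩
      rw [← h0]
      show _ = (Algebra.TensorProduct.map ρ (AlgHom.id R B)).toRingHom _
      rw [Polynomial.hom_eval₂, Polynomial.eval₂_map]
      congr 1
    obtain ⟨w, hw⟩ := (TensorProduct.toIntegralClosure_bijective_of_smooth (R := R) (S := S₁) (B := B)).2 ⟨_, hint⟩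
    refine ⟨Algebra.TensorProduct.map h (AlgHom.id R A) w, Subtype.ext ?_⟩
    rw [← hnat, hw, ← hy']
    exact Groth.Agent.S9446.map_map_eq ρ h ev T fun i hi => hh _ (Finset.mem_image_of_mem _ hi)

end Groth.Agent.S9446
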