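import Groth.Statements.S4548
import Groth.Agent.SymGr.SeriesSubfields

set_option autoImplicit false
universe u
open EGA41

namespace Groth.Agent.S4548

/-- Let k be a field of characteristic p > 0, A = k[[T_1, …, T_r]] and K its field of fractions. Then
there is a decreasing filtered family (A_α) of Noetherian subrings of A (rendered: a nonempty
family, directed downwards for inclusion) such that A is a free A_α-module of finite type for every
α and, K_α denoting the subfield of K generated by A_α (its field of fractions inside K), ⋂_α K_α =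
K^p. -/
theorem result (p : ℕ) [Fact p.Prime] (k : Type u) [Field k] [CharP k p]
    (r : ℕ) :
    ∃ (ι : Type u) (_ : Nonempty ι) (S : ι → Subring (MvPowerSeries (Fin r) k)),
      (∀ a b : ι, ∃ c, S c ≤ S a ⊓ S b) ∧
      (∀ i, IsNoetherianRing (S i) ∧ Module.Free (S i) (MvPowerSeries (Fin r) k) ∧ Module.Finite (S i) (MvPowerSeries (Fin r) k)) ∧
      ((⨅ i, Subfield.closure (algebraMap (MvPowerSeries (Fin r) k) (FractionRing (MvPowerSeries (Fin r) k)) '' (S i)) :
          Set (FractionRing (MvPowerSeries (Fin r) k)))) =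
        Set.range fun x : FractionRing (MvPowerSeries (Fin r) k) => x ^ p := by
  classical
  have hp : p.Prime := Fact.out
  let Λ := ULift.{u} (ZMod p)
  letI : Field Λ := inferInstanceAs (Field (ULift.{u} (ZMod p)))
  haveI : Finite Λ := inferInstanceAs (Finite (ULift.{u} (ZMod p)))
  haveI : CharP Λ p := (CharP.charP_iff_prime_eq_zero hp).2 (ULift.ext _ _ (by simp))
  haveI : ExpChar Λ p := ExpChar.prime hp
  haveI : PerfectField Λ := PerfectField.ofFinite
  haveI : PerfectRing Λ p := PerfectField.toPerfectRing p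
  letI : Algebra Λ k :=
    ((ZMod.castHom dvd_rfl k).comp (ULift.ringEquiv : Λ ≃+* ZMod p).toRingHom).toAlgebra
  haveI : ExpChar k p := ExpChar.prime hp
  haveI : IsDomain (MvPowerSeries (Fin r) k) := Groth.Agent.CAlgReg.isDomain (R := MvPowerSeries (Fin r) k)
  obtain ⟨S, _, F, hanti, hpow, hfin, hint⟩ := Groth.Agent.SymGr.exists_cofinite_family p Λ k
  have hinter : ∀ c : k, (∀ T, c ∈ F T) → ∃ y, y ^ p = c := fun c hc => by
    have h1 : c ∈ IntermediateField.adjoin Λ (Set.range fun y : k => y ^ p) := by
      rw [← hint, ← SetLike.mem_coe, IntermediateField.coe_iInf, Set.mem_iInter]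
      exact fun T => (le_sup_left : F T ≤ F T ⊔ _) (hc T)
    have h2 := Groth.Agent.PBasis.intermediateField_adjoin_eq (p := p) (k := Λ) (∅ : Set k)
    rw [Set.union_empty, Algebra.adjoin_empty] at h2
    rw [← SetLike.mem_coe, h2] at h1
    obtain ⟨d, rfl⟩ := h1
    exact Groth.Agent.PBasis.exists_pow_eq' p (P := Λ) d.2
  let ψ := fun T => Groth.Agent.SymGr.subSeries (σ := Fin r) (F T).toSubfield p hp.ne_zero
  have hiff := fun T (f : MvPowerSeries (Fin r) k) =>
    Groth.Agent.SymGr.mem_range_subSeries_iff (F T).toSubfield p hp.ne_zero (f := f)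
  have hpw : ∀ T (f : MvPowerSeries (Fin r) k), f ^ p ∈ (ψ T).range := fun T f => (hiff T _).2 fun n => by
    obtain ⟨⟨c, hc⟩, hdvd⟩ := Groth.Agent.SymGr.coeff_pow_expChar_pow p 1 f n
    simp only [pow_one] at hc hdvd
    exact ⟨hc ▸ hpow T c, hdvd⟩
  refine ⟨Finset S, inferInstance, fun T => (ψ T).range, fun a b => ⟨a ∪ b, le_inf ?_ ?_⟩, fun T => ?_, ?_⟩
  · exact fun f hf => (hiff a f).2 fun n => ⟨hanti Finset.subset_union_left (((hiff _ f).1 hf n).1), ((hiff _ f).1 hf n).2⟩
  · exact fun f hf => (hiff b f).2 fun n => ⟨hanti Finset.subset_union_right (((hiff _ f).1 hf n).1), ((hiff _ f).1 hf n).2⟩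
  · haveI : IsNoetherianRing (MvPowerSeries (Fin r) (F T).toSubfield) := inferInstance
    haveI : Module.Finite (F T).toSubfield k := hfin T
    exact ⟨isNoetherianRing_range _, (Groth.Agent.SymGr.free_finite_subSeries (F T).toSubfield p hp.ne_zero).1,
      (Groth.Agent.SymGr.free_finite_subSeries (F T).toSubfield p hp.ne_zero).2⟩
  · ext x
    simp only [Set.iInf_eq_iInter, Subfield.coe_iInf, Set.mem_iInter, Set.mem_range, SetLike.mem_coe]
    constructor
    · intro hx
      obtain ⟨a, b, hb, rfl⟩ := IsFractionRing.div_surjective (MvPowerSeries (Fin r) k) x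
      have hb0 : algebraMap (MvPowerSeries (Fin r) k) (FractionRing (MvPowerSeries (Fin r) k)) b ≠ 0 :=
        (map_ne_zero_iff _ (IsFractionRing.injective _ _)).2 (nonZeroDivisors.ne_zero hb)
      let h := a * b ^ (p - 1)
      have hxg : algebraMap (MvPowerSeries (Fin r) k) (FractionRing (MvPowerSeries (Fin r) k)) a /
          algebraMap _ _ b * algebraMap _ _ (b ^ p) = algebraMap _ _ h := by
        rw [div_mul_eq_mul_div, div_eq_iff hb0, ← map_mul, ← map_mul, mul_assoc, ← pow_succ,
          Nat.sub_add_cancel hp.one_le]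
      have hh : ∀ T, h ∈ (ψ T).range := fun T => by
        obtain ⟨c, hc, d, hd, hd0, hcd⟩ := Groth.Agent.SymGr.exists_of_mem_closure (ψ T).range (hx T)
        have he : h * d = c * b ^ p := IsFractionRing.injective (MvPowerSeries (Fin r) k)
          (FractionRing (MvPowerSeries (Fin r) k)) (by
            rw [map_mul _ h d, map_mul _ c, ← hxg, ← hcd]; ring)
        haveI : IsDomain (MvPowerSeries (Fin r) (F T).toSubfield) :=
          Groth.Agent.CAlgReg.isDomain (R := MvPowerSeries (Fin r) (F T).toSubfield)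
        haveI : IsIntegrallyClosed (MvPowerSeries (Fin r) (F T).toSubfield) := Groth.Agent.RegNormal.isIntegrallyClosed _
        exact Groth.Agent.SymGr.mem_range_of_pow_mem (ψ T) (Groth.Agent.SymGr.subSeries_injective _ _ _) hp.pos
          (mul_mem hc (hpw T b)) hd hd0 he (hpw T h)
      choose y hy using fun n => hinter (MvPowerSeries.coeff n h) fun T => ((hiff T h).1 (hh T) n).1
      let z : MvPowerSeries (Fin r) k := fun n => y (p • n)
      have hz : z ^ p = h := by
        rw [← MvPowerSeries.map_frobenius_expand p hp.ne_zero]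
        ext n
        rw [MvPowerSeries.coeff_map]
        by_cases hn : ∀ i, p ∣ n i
        · obtain ⟨m, rfl⟩ : ∃ m, n = p • m :=
            ⟨n.mapRange (fun a => a / p) (Nat.zero_div p), Finsupp.ext fun i => by
              simp [Nat.mul_div_cancel' (hn i)]⟩
          rw [MvPowerSeries.coeff_expand_smul, frobenius_def]
          exact hy _
        · have h0 : MvPowerSeries.coeff n h = 0 := by
            by_contra h0; exact hn (((hiff ∅ h).1 (hh ∅) n).2 h0)
          push Not at hn
          obtain ⟨i, hi⟩ := hn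
          rw [MvPowerSeries.coeff_expand_of_not_dvd p _ _ hi, map_zero, h0]
      refine ⟨algebraMap _ _ z / algebraMap _ _ b, ?_⟩
      rw [div_pow, ← map_pow, hz, ← hxg, map_pow, mul_div_cancel_right₀ _ (pow_ne_zero p hb0)]
    · rintro ⟨y, rfl⟩ T
      obtain ⟨a, b, hb, rfl⟩ := IsFractionRing.div_surjective (MvPowerSeries (Fin r) k) y
      rw [div_pow, ← map_pow, ← map_pow]
      exact div_mem (Subfield.subset_closure ⟨_, hpw T a, rfl⟩) (Subfield.subset_closure ⟨_, hpw T b, rfl⟩)

end Groth.Agent.S4548
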