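import Groth.Statements.S9294
import Groth.Agent.RegLocus.GeomNormTrans
import Groth.Agent.RegLocus.Basic
-- import your own Groth.Agent.* helpers here

set_option autoImplicit false
universe u
open CAlg

open TensorProduct


namespace Groth.Agent.S9294

/-- If A → B and B → C are regular ring maps and every fibre ring of the composite A → C is Noetherian,
the composite is regular. -/
theorem result (A B C : Type u) [CommRing A] [CommRing B] [CommRing C]
    [Algebra A B] [Algebra B C] [Algebra A C] [IsScalarTower A B C]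
    (hAB : CAlg.IsRegularHom A B) (hBC : CAlg.IsRegularHom B C)
    (hN : ∀ (p : Ideal A) [p.IsPrime], IsNoetherianRing (p.Fiber C)) :
    CAlg.IsRegularHom A C := by
  obtain ⟨hflatAB, hAB⟩ := hAB
  obtain ⟨hflatBC, hBC⟩ := hBC
  refine ⟨Module.Flat.trans A B C, fun p _ => ⟨hN p, fun K _ _ hK => ?_⟩⟩
  have := hN p
  letI : Algebra A K := ((algebraMap p.ResidueField K).comp (algebraMap A p.ResidueField)).toAlgebra
  have : IsScalarTower A p.ResidueField K := IsScalarTower.of_algebraMap_eq' rfl
  letI : Algebra B (K ⊗[A] B) := Algebra.TensorProduct.rightAlgebra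
  have hR : IsRegularRing (K ⊗[A] B) := by
    have := (hAB p).2 K inferInstance
    exact IsRegularRing.of_ringEquiv
      (Algebra.TensorProduct.cancelBaseChange A p.ResidueField p.ResidueField K B).toRingEquiv
  let R := K ⊗[A] B
  have : IsScalarTower A B R := IsScalarTower.of_algebraMap_eq fun a => by
    simp only [RingHom.algebraMap_toAlgebra]
    exact ((Algebra.TensorProduct.includeRight : B →ₐ[A] R).commutes a).symm
  let e : R ⊗[B] C ≃+* K ⊗[A] C :=
    ((Algebra.TensorProduct.comm B R C).toRingEquiv.trans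
      ((Algebra.TensorProduct.congr (AlgEquiv.refl : C ≃ₐ[B] C)
        ({ (Algebra.TensorProduct.comm A K B).toRingEquiv with commutes' := fun b => Algebra.TensorProduct.comm_tmul A (1 : K) b } :
          R ≃ₐ[B] B ⊗[A] K)).toRingEquiv.trans
        ((Algebra.TensorProduct.cancelBaseChange A B B C K).toRingEquiv.trans
          (Algebra.TensorProduct.comm A C K).toRingEquiv)))
  let e2 : K ⊗[A] C ≃+* K ⊗[p.ResidueField] p.Fiber C :=
    (Algebra.TensorProduct.cancelBaseChange A p.ResidueField p.ResidueField K C).symm.toRingEquiv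
  have : IsNoetherianRing (R ⊗[B] C) := by
    have : IsNoetherianRing (p.Fiber C ⊗[p.ResidueField] K) :=
      Algebra.FiniteType.isNoetherianRing (p.Fiber C) (p.Fiber C ⊗[p.ResidueField] K)
    exact isNoetherianRing_of_ringEquiv _
      (((Algebra.TensorProduct.comm p.ResidueField (p.Fiber C) K).toRingEquiv.trans e2.symm).trans e.symm)
  suffices IsRegularRing (R ⊗[B] C) from IsRegularRing.of_ringEquiv (e.trans e2)
  have : Module.Flat R (R ⊗[B] C) := inferInstance
  refine isRegularRing_iff.2 fun P _ => ?_
  refine Groth.Agent.RegLocus.regular_ascend R (R ⊗[B] C) P (isRegularRing_iff.1 hR _) ?_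
  let Q0 := P.comap (algebraMap R (R ⊗[B] C))
  let q := Q0.comap (algebraMap B R)
  have : Q0.LiesOver q := ⟨rfl⟩
  letI := Localization.AtPrime.algebraOfLiesOver q Q0
  have : Module.Finite q.ResidueField Q0.ResidueField :=
    Groth.Agent.RegLocus.finite_residueField_tensor A B K p (fun b => rfl) Q0 q
  have h := (hBC q).2 Q0.ResidueField inferInstance
  have e' : Q0.Fiber (R ⊗[B] C) ≃+* Q0.ResidueField ⊗[q.ResidueField] q.Fiber C :=
    (Algebra.TensorProduct.cancelBaseChange B R R Q0.ResidueField C).toRingEquiv.trans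
      (Algebra.TensorProduct.cancelBaseChange B q.ResidueField q.ResidueField Q0.ResidueField C).symm.toRingEquiv
  have : IsRegularRing (Q0.Fiber (R ⊗[B] C)) := IsRegularRing.of_ringEquiv (R := Q0.ResidueField ⊗[q.ResidueField] q.Fiber C) e'.symm
  obtain ⟨Pf, hPf, ⟨f⟩⟩ := Groth.Agent.RegLocus.exists_fibre_localization R (R ⊗[B] C) P
  have hloc := isRegularRing_iff.1 this Pf
  exact @IsRegularLocalRing.of_ringEquiv _ _ hloc _ _ f

end Groth.Agent.S9294
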