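import Groth.Statements.S4733
import Groth.Agent.RegLocus.GeomRedTrans
import Groth.Agent.RegLocus.FieldTensor

set_option autoImplicit false
universe u
open EGA4

namespace Groth.Agent.S4733

open Groth.Agent TensorProduct

theorem fibLoc (k S k' : Type u) [Field k] [CommRing S] [Algebra k S] [Field k'] [Algebra k k']
    [Algebra.IsGeometricallyReduced k k'] [IsNoetherianRing (S ⊗[k] k')] (q' : Ideal (S ⊗[k] k')) [q'.IsPrime] :
    IsRegularLocalRing (EGA4.FibLocRing S (S ⊗[k] k') q') := by
  obtain ⟨P, hP, ⟨f⟩⟩ := RegLocus.exists_fibre_localization S (S ⊗[k] k') q'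
  let q := q'.comap (algebraMap S (S ⊗[k] k'))
  let e : q.Fiber (S ⊗[k] k') ≃+* k' ⊗[k] q.ResidueField :=
    (Algebra.TensorProduct.cancelBaseChange k S S q.ResidueField k').toRingEquiv.trans
      (Algebra.TensorProduct.comm k q.ResidueField k').toRingEquiv
  have := RegLocus.isNoetherianRing_fiber S (S ⊗[k] k') q
  have : IsNoetherianRing (k' ⊗[k] q.ResidueField) := isNoetherianRing_of_ringEquiv _ e
  have := RegLocus.regular_of_equiv e.symm (fun Q _ => RegLocus.regular_tensor k q.ResidueField k' Q) P
  exact IsRegularLocalRing.of_ringEquiv (R := Localization.AtPrime P) f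


open TensorProduct in
/-- For the property 'regular' (affine form): let k be a field, S a Noetherian k-algebra and k' an
extension field of k such that S is of finite type over k or k' is essentially of finite type over
k; let q' be a prime of S ⊗_k k' and q its contraction to S. If (S ⊗_k k')_{q'} is a regular local
ring then so is S_q; conversely, if k' is separable over k (geometrically reduced) and S_q is
regular, then (S ⊗_k k')_{q'} is regular. -/
theorem result (k S k' : Type u) [Field k] [CommRing S] [Algebra k S]
    [IsNoetherianRing S] [Field k'] [Algebra k k'] (hft : Algebra.FiniteType k S ∨ Algebra.EssFiniteType k k')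
    [IsNoetherianRing (S ⊗[k] k')] (q' : Ideal (S ⊗[k] k')) [q'.IsPrime] :
    (IsRegularLocalRing (Localization.AtPrime q') →
        IsRegularLocalRing (Localization.AtPrime (q'.comap (algebraMap S (S ⊗[k] k'))))) ∧
      (Algebra.IsGeometricallyReduced k k' →
        IsRegularLocalRing (Localization.AtPrime (q'.comap (algebraMap S (S ⊗[k] k')))) →
          IsRegularLocalRing (Localization.AtPrime q')) := by
  exact ⟨RegLocus.regular_descend S (S ⊗[k] k') q', fun hk h =>
    have := hk
    RegLocus.regular_ascend S (S ⊗[k] k') q' h (fibLoc k S k' q')⟩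

end Groth.Agent.S4733
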