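import Groth.Statements.S4695
import Groth.Agent.RegLocus.GeomBaseChange

set_option autoImplicit false
universe u
open EGA4

namespace Groth.Agent.S4695

open Groth.Agent TensorProduct


open TensorProduct in
/-- Case of regular morphisms, affine form: let A → B be a homomorphism of Noetherian rings and A' a
Noetherian A-algebra, and assume that B or A' is of finite type over A. If A → B is regular then the
base change A' → A' ⊗_A B is regular; the converse holds when A' is faithfully flat over A. -/
theorem result (A B A' : Type u) [CommRing A] [CommRing B] [CommRing A']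
    [IsNoetherianRing A] [IsNoetherianRing B] [IsNoetherianRing A'] [Algebra A B] [Algebra A A']
    (hft : Algebra.FiniteType A B ∨ Algebra.FiniteType A A') :
    (CAlg.IsRegularHom A B → CAlg.IsRegularHom A' (A' ⊗[A] B)) ∧
      (Module.FaithfullyFlat A A' → CAlg.IsRegularHom A' (A' ⊗[A] B) → CAlg.IsRegularHom A B) := by
  have hN := RegLocus.isNoetherianRing_tensor_of_ft A B A' hft
  refine ⟨fun ⟨hflat, hfib⟩ => ⟨inferInstance, fun p' _ => ?_⟩, fun hff ⟨hflat, hfib⟩ => ⟨?_, fun p _ => ?_⟩⟩
  · have hN' := RegLocus.isNoetherianRing_fiber A' (A' ⊗[A] B) p'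
    refine ⟨hN', RegLocus.fibre_baseChange (fun R _ => IsRegularRing R) RegLocus.isRegularRing_of_ringEquiv' A B A' p' hN' ?_⟩
    intro K _ _ _
    have := (hfib (p'.comap (algebraMap A A'))).1
    exact RegLocus.isRegularRing_any _ _ (hfib _).2 K
  · exact Module.Flat.of_flat_tensorProduct A B A'
  · have hNp := RegLocus.isNoetherianRing_fiber A B p
    refine ⟨hNp, ?_⟩
    obtain ⟨P', hP'⟩ := PrimeSpectrum.comap_surjective_of_faithfullyFlat (A := A) (B := A') ⟨p, ‹_›⟩
    have e : p = P'.asIdeal.comap (algebraMap A A') := (congrArg PrimeSpectrum.asIdeal hP').symm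
    subst e
    have := RegLocus.isNoetherianRing_fiber A' (A' ⊗[A] B) P'.asIdeal
    exact RegLocus.fibre_descend (fun R _ => IsRegularRing R) RegLocus.isRegularRing_of_ringEquiv'
      (fun A B _ _ _ _ _ _ => RegLocus.isRegularRing_descend A B) A B A' P'.asIdeal (fun k' _ _ hk => (hfib _).2 k' hk)

end Groth.Agent.S4695
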