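import Groth.Statements.S4737
import Groth.Agent.RegLocus.GeomRedTrans
import Groth.Agent.RegLocus.GeomBaseChange
import Groth.Agent.RegLocus.SemilocalCpl

set_option autoImplicit false
universe u
open EGA4

namespace Groth.Agent.S4737

open TensorProduct

theorem transfer (R S T : Type u) [CommRing R] [CommRing S] [CommRing T] [Algebra R S] [Algebra R T] (q : Ideal R)
    [q.IsPrime] (k' : Type u) [Field k'] [Algebra q.ResidueField k'] (e : S ≃ₐ[R] T) :
    Nonempty (k' ⊗[q.ResidueField] q.Fiber S ≃+* k' ⊗[q.ResidueField] q.Fiber T) :=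
  ⟨(Algebra.TensorProduct.congr (AlgEquiv.refl : k' ≃ₐ[q.ResidueField] k')
    (Algebra.TensorProduct.congr (AlgEquiv.refl : q.ResidueField ≃ₐ[q.ResidueField] q.ResidueField) e)).toRingEquiv⟩


/-- The property 'geometrically regular', case of a local ring: let A be a Noetherian local ring whose
completion map A → Â is regular (the formal fibres of A are geometrically regular). Then for every
proper ideal I of A, the completion map of the local ring A/I is regular. -/
theorem result (A : Type u) [CommRing A] [IsNoetherianRing A] [IsLocalRing A]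
    (hA : CAlg.IsRegularHom A (EGA4.Cpl A)) (I : Ideal A) [Nontrivial (A ⧸ I)] :
    CAlg.IsRegularHom (A ⧸ I) (EGA4.Cpl (A ⧸ I)) := by
  obtain ⟨hcN, hff, -⟩ := RegLocus.cpl_facts A
  obtain ⟨hcN', hff', -⟩ := RegLocus.cpl_facts (A ⧸ I)
  haveI := hcN
  haveI := hcN'
  obtain ⟨e⟩ := RegLocus.cplQuotient_equiv A I
  refine ⟨inferInstance, fun q _ => ⟨RegLocus.isNoetherianRing_fiber (A ⧸ I) _ q, fun k' _ _ hfin => ?_⟩⟩
  haveI := hfin
  haveI : IsNoetherianRing ((A ⧸ I) ⊗[A] EGA4.Cpl A) := isNoetherianRing_of_ringEquiv _ e.symm.toRingEquiv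
  obtain ⟨e2⟩ := transfer (A ⧸ I) ((A ⧸ I) ⊗[A] EGA4.Cpl A) (EGA4.Cpl (A ⧸ I)) q k' e
  refine RegLocus.isRegularRing_of_ringEquiv' e2 (RegLocus.fibre_baseChange (fun R _ => IsRegularRing R)
    (fun e h => RegLocus.isRegularRing_of_ringEquiv' e h) A (EGA4.Cpl A) (A ⧸ I) q
    (RegLocus.isNoetherianRing_fiber (A ⧸ I) _ q) (fun K _ _ _ => ?_) k' hfin)
  haveI := RegLocus.isNoetherianRing_fiber A (EGA4.Cpl A) (q.comap (algebraMap A (A ⧸ I)))
  exact RegLocus.isRegularRing_any _ _ (hA.2 (q.comap (algebraMap A (A ⧸ I)))).2 K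

end Groth.Agent.S4737
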