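import Groth.Statements.S2004
import Mathlib
import Groth.Agent.CAlgH.BLGlue2

set_option autoImplicit false
universe u
open TensorProduct
open EtAlg

namespace Groth.Agent.S2004

/-- Let R -> R' induce bijections R/f^n R -> R'/f^n R' for all n > 0. Then (R -> R', f) is a glueing
pair if and only if R -> R' maps the f-power torsion of R bijectively onto the f-power torsion of R'
(stated as: injective on f-power torsion elements, and every f-power torsion element of R' is the
image of one of R). -/
theorem result (R R' : Type u) [CommRing R] [CommRing R'] [Algebra R R'] (f : R)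
    (hq : EtGlue.QuotPowBijective R R' f) :
    EtGlue.IsGlueingPair R R' f ↔
      ((∀ x : R, (∃ n : ℕ, f ^ n * x = 0) → algebraMap R R' x = 0 → x = 0) ∧
       (∀ x' : R', (∃ n : ℕ, algebraMap R R' f ^ n * x' = 0) →
          ∃ x : R, (∃ n : ℕ, f ^ n * x = 0) ∧ algebraMap R R' x = x')) := by
  have hF : IsUnit (algebraMap R' (Localization.Away (algebraMap R R' f)) (algebraMap R R' f)) :=
    IsLocalization.Away.algebraMap_isUnit _
  constructor
  · intro h
    refine ⟨fun x ⟨n, hn⟩ hx => h.2.1 (Prod.ext (by simpa using hx) ?_), fun x' ⟨n, hn⟩ => ?_⟩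
    · show algebraMap R (Localization.Away f) x = algebraMap R _ 0
      rw [map_zero]
      exact (IsLocalization.map_eq_zero_iff (Submonoid.powers f) _ x).mpr ⟨⟨f ^ n, n, rfl⟩, hn⟩
    · obtain ⟨r, h1, h2⟩ := h.2.2.1 x' 0 (by
        rw [map_zero]
        exact (IsLocalization.map_eq_zero_iff (Submonoid.powers _) _ x').mpr ⟨⟨_, n, rfl⟩, hn⟩)
      obtain ⟨⟨_, N, rfl⟩, hN⟩ := (IsLocalization.map_eq_zero_iff (Submonoid.powers f) _ r).mp h2
      exact ⟨r, ⟨N, hN⟩, h1⟩
  · rintro ⟨hinj, hsur⟩
    have hdiv : ∀ (n : ℕ) (s : R) (z : R'), (Algebra.linearMap R R') s = f ^ n • z → ∃ s', s = f ^ n • s' := by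
      intro n s z hs
      rcases Nat.eq_zero_or_pos n with rfl | hn
      · exact ⟨s, by simp⟩
      have h0 : Ideal.Quotient.mk (Ideal.span {f ^ n}) s = 0 := by
        refine (hq n hn).1 ?_
        rw [map_zero, Ideal.quotientMap_mk, Ideal.Quotient.eq_zero_iff_mem, Ideal.map_span, Set.image_singleton,
          Ideal.mem_span_singleton']
        exact ⟨z, by rw [mul_comm, ← Algebra.smul_def]; exact hs.symm⟩
      obtain ⟨s', hs'⟩ := Ideal.mem_span_singleton'.mp (Ideal.Quotient.eq_zero_iff_mem.mp h0)
      exact ⟨s', by rw [smul_eq_mul, mul_comm, hs']⟩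
    refine ⟨hq, fun r s hrs => ?_, fun x y hxy => ?_, fun z => ?_⟩
    · obtain ⟨h1, h2⟩ := Prod.ext_iff.mp hrs
      obtain ⟨⟨_, N, rfl⟩, hN⟩ := (IsLocalization.map_eq_zero_iff (Submonoid.powers f) (Localization.Away f) (r - s)).mp
        (by rw [map_sub, sub_eq_zero]; exact h2)
      exact sub_eq_zero.mp (hinj _ ⟨N, hN⟩ (by rw [map_sub, sub_eq_zero]; exact h1))
    · obtain ⟨k, a, ha⟩ := IsLocalization.Away.surj f y
      have h1 : algebraMap R' (Localization.Away (algebraMap R R' f)) (algebraMap R R' f ^ k * x - algebraMap R R' a) = 0 := by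
        rw [map_sub, map_mul, hxy, sub_eq_zero, mul_comm]
        have h2 := congrArg (Localization.awayMap (algebraMap R R') f) ha
        rw [map_mul, map_pow, Localization.awayMap, IsLocalization.Away.map, IsLocalization.map_eq,
          IsLocalization.map_eq] at h2
        rw [map_pow]
        exact h2
      obtain ⟨⟨_, N, rfl⟩, hN⟩ := (IsLocalization.map_eq_zero_iff (Submonoid.powers (algebraMap R R' f)) _ _).mp h1
      have hN' : ∃ M : ℕ, f ^ M • (f ^ k • x - Algebra.linearMap R R' a) = 0 :=
        ⟨N, by rw [Algebra.smul_def, Algebra.smul_def, map_pow, map_pow]; exact hN⟩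
      obtain ⟨μ, hμ, M', hM'⟩ := Groth.Agent.CAlgH.BLGlue.middle_of_torsion (Algebra.linearMap R R') hdiv
        (fun w ⟨n, hn⟩ => hsur w ⟨n, by rwa [Algebra.smul_def, map_pow] at hn⟩) x a k hN'
      refine ⟨μ, hμ, ?_⟩
      have hu : IsUnit (algebraMap R (Localization.Away f) f) := IsLocalization.Away.algebraMap_isUnit f
      refine (hu.pow k).mul_right_cancel ?_
      rw [ha, ← map_pow, ← map_mul, mul_comm]
      exact IsLocalization.map_eq_zero_iff (Submonoid.powers f) (Localization.Away f) _ |>.mpr
        ⟨⟨f ^ M', M', rfl⟩, hM'⟩ |> (fun h => sub_eq_zero.mp (by rw [← map_sub]; exact h))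
    · obtain ⟨k, r, hr⟩ := IsLocalization.Away.surj (algebraMap R R' f) z
      rcases Nat.eq_zero_or_pos k with rfl | hk
      · exact ⟨r, 0, by rw [map_zero, sub_zero, ← hr, pow_zero, mul_one]⟩
      obtain ⟨a, ha⟩ := (hq k hk).2 (Ideal.Quotient.mk _ r)
      obtain ⟨a, rfl⟩ := Ideal.Quotient.mk_surjective a
      rw [Ideal.quotientMap_mk, eq_comm, Ideal.Quotient.eq, Ideal.map_span, Set.image_singleton, map_pow,
        Ideal.mem_span_singleton'] at ha
      obtain ⟨t, ht⟩ := ha
      refine ⟨t, -(algebraMap R _ a * IsLocalization.Away.invSelf f ^ k), ?_⟩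
      refine (hF.pow k).mul_right_cancel ?_
      have hs : Localization.awayMap (algebraMap R R') f (IsLocalization.Away.invSelf f) *
          algebraMap R' (Localization.Away (algebraMap R R' f)) (algebraMap R R' f) = 1 := by
        have := congrArg (Localization.awayMap (algebraMap R R') f)
          (IsLocalization.Away.mul_invSelf (S := Localization.Away f) f)
        rw [map_mul, map_one, Localization.awayMap, IsLocalization.Away.map, IsLocalization.map_eq, mul_comm] at this
        exact this
      rw [map_neg, sub_neg_eq_add, add_mul, map_mul, map_pow, mul_assoc, ← mul_pow, hs, one_pow, mul_one,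
        Localization.awayMap, IsLocalization.Away.map, IsLocalization.map_eq, hr, ← map_pow, ← map_mul, ← map_add,
        ht, sub_add_cancel]

end Groth.Agent.S2004
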