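import Groth.Statements.S14256
import Mathlib

set_option autoImplicit false
universe u
open FrobAlg

namespace Groth.Agent.S14256

theorem integral_iff (p : ℕ) [Fact p.Prime] {A B A' B' : Type u} [CommRing A] [CommRing B] [CommRing A'] [CommRing B']
    [CharP A p] [CharP B p] [CharP A' p] [CharP B' p] [PerfectRing A' p] [PerfectRing B' p]
    (φ : A →+* B) (i : A →+* A') (j : B →+* B') [IsPerfectClosure i p] [IsPerfectClosure j p]
    (φ' : A' →+* B') (hφ : φ'.comp i = j.comp φ) : φ.IsIntegral ↔ φ'.IsIntegral := by
  haveI : Nontrivial A := CharP.nontrivial_of_char_ne_one (R := A) (v := p) (Fact.out : p.Prime).ne_one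
  constructor
  · intro h b'
    letI := φ'.toAlgebra
    obtain ⟨n, b, hb⟩ := IsPRadical.pow_mem j p b'
    obtain ⟨P, hP, hPb⟩ := h b
    refine IsIntegral.of_pow (pow_pos (Fact.out : p.Prime).pos n) ⟨P.map i, hP.map i, ?_⟩
    rw [← hb, Polynomial.eval₂_map, show (algebraMap A' B').comp i = j.comp φ from hφ, ← Polynomial.hom_eval₂, hPb, map_zero]
  · intro h b
    classical
    obtain ⟨P', hP', hP'b⟩ := h (j b)
    have hcoef : ∀ k, ∃ N : ℕ, ∀ M, N ≤ M → (P'.coeff k) ^ p ^ M ∈ Set.range i := fun k => by
      obtain ⟨n, a, ha⟩ := IsPRadical.pow_mem i p (P'.coeff k)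
      refine ⟨n, fun M hM => ⟨a ^ p ^ (M - n), ?_⟩⟩
      rw [map_pow, ha, ← pow_mul, ← pow_add, Nat.add_sub_cancel' hM]
    choose N hN using hcoef
    let M := (Finset.range (P'.natDegree + 1)).sup N
    have hlifts : P'.map (iterateFrobenius A' p M) ∈ Polynomial.lifts i := by
      rw [Polynomial.lifts_iff_coeff_lifts]
      intro k
      rw [Polynomial.coeff_map, iterateFrobenius_def]
      by_cases hk : k ≤ P'.natDegree
      · exact hN k M (Finset.le_sup (Finset.mem_range.mpr (by omega)))
      · exact ⟨0, by rw [map_zero, Polynomial.coeff_eq_zero_of_natDegree_lt (by omega),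
          zero_pow (pow_ne_zero _ (Fact.out : p.Prime).ne_zero)]⟩
    obtain ⟨Q, hQ, -, hQm⟩ := Polynomial.lifts_and_natDegree_eq_and_monic hlifts (hP'.map _)
    have hker : j (Q.eval₂ φ (b ^ p ^ M)) = 0 := by
      rw [Polynomial.hom_eval₂, ← hφ, ← Polynomial.eval₂_map, hQ, Polynomial.eval₂_map, map_pow,
        show φ'.comp (iterateFrobenius A' p M) = (iterateFrobenius B' p M).comp φ' from
          RingHom.ext fun a => φ'.map_iterateFrobenius p a M,
        ← iterateFrobenius_def, ← Polynomial.hom_eval₂, hP'b, map_zero]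
    obtain ⟨L, hL⟩ := mem_pNilradical.mp (IsPRadical.ker_le j p hker)
    refine ⟨(Q.comp (Polynomial.X ^ p ^ M)) ^ p ^ L, ((hQm.comp (Polynomial.monic_X_pow _) ?_)).pow _, ?_⟩
    · rw [Polynomial.natDegree_X_pow]
      exact pow_ne_zero _ (Fact.out : p.Prime).ne_zero
    · rw [Polynomial.eval₂_pow, Polynomial.eval₂_comp, Polynomial.eval₂_X_pow, hL]


/-- Let p be a prime, φ : A → B a map of commutative rings of characteristic p, i : A → A' and j : B →
B' perfect closures (A', B' perfect rings of characteristic p, every element of A' resp. B' has a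
p^n-th power in the image of i resp. j, the kernels of i and j consist of nilpotent elements), and
φ' : A' → B' the induced map, φ' ∘ i = j ∘ φ. Then φ is integral if and only if φ' is integral. (The
published statement is that a morphism of schemes over the prime field is integral exactly when its
perfection is; this row is its affine case, to which the published proof reduces.) -/
theorem result (p : ℕ) [Fact p.Prime]
    {A B A' B' : Type u} [CommRing A] [CommRing B] [CommRing A'] [CommRing B']
    [CharP A p] [CharP B p] [CharP A' p] [CharP B' p] [PerfectRing A' p] [PerfectRing B' p]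
    (φ : A →+* B) (i : A →+* A') (j : B →+* B') [IsPerfectClosure i p] [IsPerfectClosure j p]
    (φ' : A' →+* B') (hφ : φ'.comp i = j.comp φ) : φ.IsIntegral ↔ φ'.IsIntegral := by
  exact integral_iff p φ i j φ' hφ

end Groth.Agent.S14256
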