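import Groth.Statements.S14257
import Mathlib
import Groth.Agent.SmoothReduced.Basic

set_option autoImplicit false
universe u
open TensorProduct
open FrobAlg

namespace Groth.Agent.S14257

open TensorProduct

theorem pow_add_char (p : ℕ) [Fact p.Prime] {T : Type*} [CommRing T] (h : (p : T) = 0) (n : ℕ) (u v : T) :
    (u + v) ^ p ^ n = u ^ p ^ n + v ^ p ^ n := by
  induction n with
  | zero => simp
  | succ n ih =>
    obtain ⟨r, hr⟩ := exists_add_pow_prime_eq (Fact.out : p.Prime) (u ^ p ^ n) (v ^ p ^ n)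
    rw [pow_succ, pow_mul, pow_mul, pow_mul, ih, hr, h, zero_mul, zero_mul, zero_mul, add_zero]

theorem exists_root_of_etale (p : ℕ) [Fact p.Prime] (A' T : Type u) [CommRing A'] [CharP A' p] [PerfectRing A' p]
    [CommRing T] [Algebra A' T] [Algebra.Etale A' T] (t : T) : ∃ s : T, s ^ p = t := by
  have hpT : (p : T) = 0 := by rw [← map_natCast (algebraMap A' T), CharP.cast_eq_zero, map_zero]
  let S := Algebra.adjoin A' (Set.range fun x : T => x ^ p)
  have hS : ∀ x ∈ S, ∃ s, s ^ p = x := by
    intro x hx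
    induction hx using Algebra.adjoin_induction with
    | mem y hy => exact hy
    | algebraMap a => exact ⟨algebraMap A' T ((frobeniusEquiv A' p).symm a), by rw [← map_pow, frobeniusEquiv_symm_pow_p]⟩
    | add a b _ _ ha hb =>
      obtain ⟨⟨u, rfl⟩, ⟨v, rfl⟩⟩ := And.intro ha hb
      exact ⟨u + v, by simpa using pow_add_char p hpT 1 u v⟩
    | mul a b _ _ ha hb =>
      obtain ⟨⟨u, rfl⟩, ⟨v, rfl⟩⟩ := And.intro ha hb
      exact ⟨u * v, mul_pow u v p⟩
  haveI : Algebra.FormallyUnramified S T := Algebra.FormallyUnramified.of_restrictScalars A' S T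
  haveI : Algebra.FiniteType S T := Algebra.FiniteType.of_restrictScalars_finiteType A' S T
  haveI : Algebra.IsIntegral S T := ⟨fun x => IsIntegral.of_pow (Fact.out : p.Prime).pos
    (show IsIntegral S (algebraMap S T ⟨x ^ p, Algebra.subset_adjoin ⟨x, rfl⟩⟩) from isIntegral_algebraMap)⟩
  haveI : Module.Finite S T := Algebra.IsIntegral.finite
  have hid : IsIdempotentElem (KaehlerDifferential.ideal S T) :=
    (Ideal.cotangent_subsingleton_iff _).mp <| inferInstanceAs <| Subsingleton Ω[T⁄S]
  have hT2 : (p : T ⊗[S] T) = 0 := by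
    rw [← map_natCast (algebraMap T (T ⊗[S] T)), hpT, map_zero]
  have hnil : IsNilpotent (KaehlerDifferential.ideal S T) := by
    refine (KaehlerDifferential.ideal_fg S T).isNilpotent_iff_le_nilradical.mpr ?_
    rw [← KaehlerDifferential.span_range_eq_ideal, Ideal.span_le]
    rintro _ ⟨x, rfl⟩
    refine ⟨p, ?_⟩
    have h := pow_add_char p hT2 1 ((1 : T) ⊗ₜ[S] x - x ⊗ₜ[S] (1 : T)) (x ⊗ₜ[S] (1 : T))
    rw [sub_add_cancel, pow_one, Algebra.TensorProduct.tmul_pow, Algebra.TensorProduct.tmul_pow, one_pow] at h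
    rw [eq_sub_of_add_eq h.symm]
    rw [Ideal.zero_eq_bot, Ideal.mem_bot, sub_eq_zero]
    exact (Algebra.TensorProduct.tmul_one_eq_one_tmul (R := S) (A := T) (B := T) ⟨x ^ p, Algebra.subset_adjoin ⟨x, rfl⟩⟩).symm
  obtain ⟨N, hN⟩ := hnil
  have h0 : KaehlerDifferential.ideal S T = ⊥ := by
    have h := hid.pow_succ_eq N
    rw [pow_succ, hN, Ideal.zero_eq_bot, Ideal.bot_mul] at h
    exact h.symm
  haveI : Algebra.IsEpi S T := (Algebra.isEpi_iff_forall_one_tmul_eq S T).mpr fun x =>
    sub_eq_zero.mp ((Submodule.mem_bot _).mp (h0 ▸ KaehlerDifferential.one_smul_sub_smul_one_mem_ideal S x))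
  obtain ⟨⟨y, hy⟩, hyt⟩ := (Algebra.isEpi_iff_surjective_algebraMap_of_finite (R := S) (A := T)).mp inferInstance t
  obtain ⟨s, hs⟩ := hS y hy
  exact ⟨s, hs.trans hyt⟩

theorem bijective_lift (p : ℕ) [Fact p.Prime]
    (A B A' B' : Type u) [CommRing A] [CommRing B] [CommRing A'] [CommRing B']
    [CharP A p] [CharP B p] [CharP A' p] [CharP B' p] [PerfectRing A' p] [PerfectRing B' p]
    [Algebra A B] [Algebra.Etale A B] [Algebra A A'] [Algebra B B'] [Algebra A B'] [IsScalarTower A B B']
    [IsPerfectClosure (algebraMap A A') p] [IsPerfectClosure (algebraMap B B') p]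
    (φ' : A' →ₐ[A] B') :
    Function.Bijective (Algebra.TensorProduct.lift φ' (IsScalarTower.toAlgHom A B B')
      (fun a b => Commute.all (φ' a) (IsScalarTower.toAlgHom A B B' b))) := by
  set f := Algebra.TensorProduct.lift φ' (IsScalarTower.toAlgHom A B B')
      (fun a b => Commute.all (φ' a) (IsScalarTower.toAlgHom A B B' b)) with hf
  have hfB : ∀ b : B, f ((1 : A') ⊗ₜ[A] b) = algebraMap B B' b := fun b => by
    rw [hf, Algebra.TensorProduct.lift_tmul, map_one, one_mul]; rfl
  haveI : IsReduced A' := ⟨fun x ⟨n, hn⟩ => (bijective_iterateFrobenius A' p (n := n)).injective (by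
    simp only [iterateFrobenius_def, zero_pow (pow_ne_zero n (Fact.out : p.Prime).ne_zero)]
    exact pow_eq_zero_of_le (Nat.lt_pow_self (Fact.out : p.Prime).one_lt).le hn)⟩
  haveI : IsReduced (A' ⊗[A] B) := Groth.Agent.SmoothReduced.isReduced_of_smooth A' (A' ⊗[A] B)
  have hpT : (p : A' ⊗[A] B) = 0 := by
    rw [← map_natCast (algebraMap A' (A' ⊗[A] B)), CharP.cast_eq_zero, map_zero]
  have hpow : ∀ z : A' ⊗[A] B, ∃ n b, z ^ p ^ n = (1 : A') ⊗ₜ[A] b := by
    intro z
    induction z using TensorProduct.induction_on with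
    | zero => exact ⟨0, 0, by simp⟩
    | tmul a b =>
      obtain ⟨n, x, hx⟩ := IsPRadical.pow_mem (algebraMap A A') p a
      refine ⟨n, x • b ^ p ^ n, ?_⟩
      rw [Algebra.TensorProduct.tmul_pow, ← hx, TensorProduct.tmul_smul, TensorProduct.smul_tmul',
        Algebra.algebraMap_eq_smul_one]
    | add u v hu hv =>
      obtain ⟨n, b, hb⟩ := hu
      obtain ⟨m, c, hc⟩ := hv
      refine ⟨n + m, b ^ p ^ m + c ^ p ^ n, ?_⟩
      rw [pow_add_char p hpT, pow_add, pow_mul, hb, mul_comm (p ^ n), pow_mul, hc,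
        Algebra.TensorProduct.tmul_pow, Algebra.TensorProduct.tmul_pow, one_pow, one_pow, TensorProduct.tmul_add]
  refine ⟨(injective_iff_map_eq_zero f).mpr fun z hz => ?_, fun b' => ?_⟩
  · obtain ⟨n, b, hb⟩ := hpow z
    have : algebraMap B B' b = 0 := by
      rw [← hfB, ← hb, map_pow, hz, zero_pow (pow_ne_zero _ (Fact.out : p.Prime).ne_zero)]
    obtain ⟨m, hm⟩ := mem_pNilradical.mp (IsPRadical.ker_le (algebraMap B B') p this)
    refine IsReduced.eq_zero z ⟨p ^ n * p ^ m, ?_⟩
    rw [pow_mul, hb, Algebra.TensorProduct.tmul_pow, hm, TensorProduct.tmul_zero]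
  · obtain ⟨n, b, hb⟩ := IsPRadical.pow_mem (algebraMap B B') p b'
    have hroot : ∀ m, ∃ s : A' ⊗[A] B, s ^ p ^ m = (1 : A') ⊗ₜ[A] b := by
      intro m
      induction m with
      | zero => exact ⟨_, pow_one _⟩
      | succ m ih =>
        obtain ⟨s, hs⟩ := ih
        obtain ⟨r, hr⟩ := exists_root_of_etale p A' _ s
        exact ⟨r, by rw [pow_succ', pow_mul, hr, hs]⟩
    obtain ⟨s, hs⟩ := hroot n
    refine ⟨s, (bijective_iterateFrobenius B' p (n := n)).injective ?_⟩
    simp only [iterateFrobenius_def, ← map_pow, hs, hfB, hb]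


/-- Let p be a prime, A a commutative ring of characteristic p, B an etale A-algebra of characteristic
p, A → A' and B → B' perfect closures (A', B' perfect rings of characteristic p, every element of A'
resp. B' has a p^n-th power in the image of A resp. B, and the structure maps have kernels
consisting of nilpotent elements), B' viewed as an A-algebra through B, and φ' : A' → B' a map of
A-algebras. Then the natural map A' ⊗_A B → B', a ⊗ b ↦ φ'(a) b, is bijective. (The published
statement is for an etale morphism X → Y of schemes over the prime field, where X_perf → X ×_Y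
Y_perf is an isomorphism; this row is the affine case.) -/
theorem result (p : ℕ) [Fact p.Prime]
    (A B A' B' : Type u) [CommRing A] [CommRing B] [CommRing A'] [CommRing B']
    [CharP A p] [CharP B p] [CharP A' p] [CharP B' p] [PerfectRing A' p] [PerfectRing B' p]
    [Algebra A B] [Algebra.Etale A B] [Algebra A A'] [Algebra B B'] [Algebra A B'] [IsScalarTower A B B']
    [IsPerfectClosure (algebraMap A A') p] [IsPerfectClosure (algebraMap B B') p]
    (φ' : A' →ₐ[A] B') :
    Function.Bijective (Algebra.TensorProduct.lift φ' (IsScalarTower.toAlgHom A B B')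
      (fun a b => Commute.all (φ' a) (IsScalarTower.toAlgHom A B B' b))) := by
  exact bijective_lift p A B A' B' φ'

end Groth.Agent.S14257
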