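import Groth.Statements.S14856
import Mathlib

set_option autoImplicit false
universe u
open CAlg

namespace Groth.Agent.S14856

theorem le_mul_pow (p s k : ℕ) (hp : 2 ≤ p) (hs : 1 ≤ s) : s + k ≤ s * p ^ k := by
  have h2 : k < p ^ k := Nat.lt_pow_self (by omega)
  have h3 : k + 1 ≤ p ^ k := h2
  nlinarith

/-- Let p be a prime and S a commutative ring in which p is a non-zero-divisor. For a p-typical Witt
vector x over S, a natural number m and an integer s ≥ 1, the power p^s divides each of the Witt
components x_0, …, x_m if and only if p^(n+s) divides the n-th ghost component w_n(x) = x_0^(p^n) +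
p x_1^(p^(n-1)) + ⋯ + p^n x_n for every n ≤ m. -/
theorem result (p : ℕ) [Fact p.Prime] (S : Type u) [CommRing S]
    (hS : ∀ y : S, (p : S) * y = 0 → y = 0) (x : WittVector p S) (m s : ℕ) (hs : 1 ≤ s) :
    (∀ i ≤ m, (p : S) ^ s ∣ x.coeff i) ↔
      (∀ n ≤ m, (p : S) ^ (n + s) ∣ WittVector.ghostComponent n x) := by
  have hw : ∀ n, WittVector.ghostComponent n x = ∑ i ∈ Finset.range (n + 1), (p : S) ^ i * x.coeff i ^ p ^ (n - i) := by
    intro n
    rw [WittVector.ghostComponent_apply, wittPolynomial_eq_sum_C_mul_X_pow, map_sum]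
    simp
  have hp2 : 2 ≤ p := (Fact.out : p.Prime).two_le
  have hterm : ∀ n i, i ≤ n → (p : S) ^ s ∣ x.coeff i → (p : S) ^ (n + s) ∣ (p : S) ^ i * x.coeff i ^ p ^ (n - i) := by
    intro n i hin hd
    refine dvd_trans (pow_dvd_pow _ ?_) (pow_add (p : S) i (s * p ^ (n - i)) ▸ mul_dvd_mul_left _ ((pow_mul (p : S) s _) ▸ pow_dvd_pow_of_dvd hd _))
    have := le_mul_pow p s (n - i) hp2 hs
    omega
  constructor
  · intro h n hn
    rw [hw]
    exact Finset.dvd_sum fun i hi => hterm n i (Nat.lt_succ_iff.mp (Finset.mem_range.mp hi)) (h i (by have := Finset.mem_range.mp hi; omega))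
  · intro h i
    induction i using Nat.strong_induction_on with
    | _ i ih =>
      intro hi
      have h1 := h i hi
      rw [hw, Finset.sum_range_succ, Nat.sub_self, pow_zero, pow_one] at h1
      have h2 : (p : S) ^ (i + s) ∣ ∑ j ∈ Finset.range i, (p : S) ^ j * x.coeff j ^ p ^ (i - j) :=
        Finset.dvd_sum fun j hj => hterm i j (Finset.mem_range.mp hj).le
          (ih j (Finset.mem_range.mp hj) (le_trans (Finset.mem_range.mp hj).le hi))
      obtain ⟨c, hc⟩ := (dvd_add_right h2).mp h1
      have hcancel : ∀ (k : ℕ) (y : S), (p : S) ^ k * y = 0 → y = 0 := by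
        intro k
        induction k with
        | zero => simp
        | succ k ihk => intro y hy; exact ihk y (hS _ (by rw [← mul_assoc, ← pow_succ']; exact hy))
      exact ⟨c, sub_eq_zero.mp (hcancel i _ (by linear_combination hc + (0 : S)))⟩

end Groth.Agent.S14856
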