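import Groth.Statements.S6333
import Mathlib

set_option autoImplicit false
universe u
open Fields

namespace Groth.Agent.S6333

/-- For a finitely generated field extension K/k, the algebraic closure of k inside K is a finite
extension of k. -/
theorem result {k K : Type u} [Field k] [Field K] [Algebra k K]
    (hfg : (⊤ : IntermediateField k K).FG) :
    FiniteDimensional k (algebraicClosure k K) := by
  classical
  haveI : Algebra.EssFiniteType k K := IntermediateField.fg_top_iff.1 hfg
  obtain ⟨s, hs⟩ := exists_isTranscendenceBasis k K
  set x : s → K := (↑) with hxdef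
  set F := IntermediateField.adjoin k (Set.range x) with hF
  haveI : Algebra.IsAlgebraic F K := hs.isAlgebraic_field
  haveI : Algebra.EssFiniteType F K := Algebra.EssFiniteType.of_comp k F K
  haveI : Module.Finite F K := Algebra.finite_of_essFiniteType_of_isAlgebraic
  have hx' := hs.1.algebraicClosure
  set L := algebraicClosure k K
  let b := Module.Free.chooseBasis k L
  have key : LinearIndependent F (fun i => ((b i : L) : K)) := by
    rw [linearIndependent_iff']
    intro t g hg i hi
    have hg' : ∀ i, ∃ p q : MvPolynomial s k, (g i : K) = MvPolynomial.aeval x p / MvPolynomial.aeval x q :=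
      fun i => (IntermediateField.mem_adjoin_range_iff k x _).1 (g i).2
    choose p q hpq using hg'
    have hinj : Function.Injective (MvPolynomial.aeval (R := k) x) := hs.1
    let q' : _ → MvPolynomial s k := fun i => if MvPolynomial.aeval x (q i) = 0 then 1 else q i
    let p' : _ → MvPolynomial s k := fun i => if MvPolynomial.aeval x (q i) = 0 then 0 else p i
    have hq' : ∀ i, MvPolynomial.aeval x (q' i) ≠ 0 := fun i => by simp only [q']; split_ifs with h <;> simp [h]
    have hpq' : ∀ i, (g i : K) * MvPolynomial.aeval x (q' i) = MvPolynomial.aeval x (p' i) := fun i => by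
      simp only [q', p', hpq i]; split_ifs with h
      · simp [h]
      · rw [div_mul_cancel₀ _ h]
    let r : _ → MvPolynomial s k := fun i => p' i * ∏ j ∈ t.erase i, q' j
    have hr : ∀ i ∈ t, (g i : K) * ∏ j ∈ t, MvPolynomial.aeval x (q' j) = MvPolynomial.aeval x (r i) := fun i hi => by
      rw [← Finset.mul_prod_erase t _ hi, ← mul_assoc, hpq']
      simp [r]
    have hg0 : ∑ i ∈ t, (g i : K) * ((b i : L) : K) = 0 := by
      simpa [Algebra.smul_def] using hg
    let R : MvPolynomial s L := ∑ i ∈ t, MvPolynomial.C (b i) * MvPolynomial.map (algebraMap k L) (r i)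
    have hR : R = 0 := by
      apply (algebraicIndependent_iff_injective_aeval.1 hx')
      rw [map_zero, map_sum]
      calc ∑ i ∈ t, MvPolynomial.aeval x (MvPolynomial.C (b i) * MvPolynomial.map (algebraMap k L) (r i))
          = (∑ i ∈ t, (g i : K) * ((b i : L) : K)) * ∏ j ∈ t, MvPolynomial.aeval x (q' j) := by
            rw [Finset.sum_mul]
            refine Finset.sum_congr rfl fun i hi => ?_
            rw [map_mul, MvPolynomial.aeval_C, MvPolynomial.aeval_map_algebraMap, mul_right_comm, hr i hi, mul_comm]
            rfl
        _ = 0 := by rw [hg0, zero_mul]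
    have hri : r i = 0 := by
      refine MvPolynomial.ext _ _ fun m => ?_
      have h1 := congrArg (MvPolynomial.coeff m) hR
      simp only [R, MvPolynomial.coeff_sum, MvPolynomial.coeff_C_mul, MvPolynomial.coeff_map, MvPolynomial.coeff_zero] at h1
      have h2 : ∑ j ∈ t, MvPolynomial.coeff m (r j) • b j = 0 := by
        rw [← h1]; refine Finset.sum_congr rfl fun j _ => ?_
        rw [Algebra.smul_def, mul_comm]
      simpa using linearIndependent_iff'.1 b.linearIndependent t _ h2 i hi
    have : (g i : K) = 0 := by
      have h := hr i hi
      rw [hri, map_zero, mul_eq_zero] at h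
      exact h.resolve_right (Finset.prod_ne_zero_iff.2 fun j _ => hq' j)
    exact Subtype.ext this
  haveI : Finite (Module.Free.ChooseBasisIndex k L) := key.finite
  exact Module.Finite.of_basis b

end Groth.Agent.S6333
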