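import Groth.Statements.S9812

set_option autoImplicit false
universe u
open CAlg2

namespace Groth.Agent.S9812

/-- At the level of the local ring: an integrally closed local domain is geometrically unibranch.
Consequently a normal scheme is geometrically unibranch. -/
theorem result (A : Type u) [CommRing A] [IsLocalRing A]
    [IsDomain A] [IsIntegrallyClosed A] : CAlg2.IsGeomUnibranch A := by
  have h0 : nilradical A = ⊥ := nilradical_eq_bot_iff.2 inferInstance
  let e : A ≃+* CAlg2.red A := ((Ideal.quotEquivOfEq h0).trans (RingEquiv.quotientBot A)).symm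
  haveI hd : IsDomain (CAlg2.red A) := e.symm.toMulEquiv.isDomain
  haveI : IsIntegrallyClosed (CAlg2.red A) := IsIntegrallyClosed.of_equiv e
  haveI : IsLocalRing (CAlg2.red A) := IsLocalRing.of_surjective' e.toRingHom e.surjective
  have hs : Function.Surjective (algebraMap (CAlg2.red A) (CAlg2.normRed A)) := fun ⟨x, hx⟩ => by
    obtain ⟨y, hy⟩ := IsIntegrallyClosed.isIntegral_iff.1 hx
    exact ⟨y, Subtype.ext hy⟩
  haveI : Nontrivial (CAlg2.normRed A) := inferInstance
  refine ⟨⟨hd, IsLocalRing.of_surjective' _ hs⟩, fun m' _ x => ⟨0, ?_⟩⟩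
  obtain ⟨y, rfl⟩ := Ideal.Quotient.mk_surjective x
  obtain ⟨z, rfl⟩ := hs y
  obtain ⟨a, rfl⟩ := Ideal.Quotient.mk_surjective z
  exact ⟨a, by simp⟩

end Groth.Agent.S9812
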