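import Groth.Statements.S3862
import Groth.Agent.ClPush.FormalMor

set_option autoImplicit false
universe u
open FCompl

namespace Groth.Agent.S3862

open AlgebraicGeometry in
open CategoryTheory in
/-- Completions are presented by the closed subschemes cut out by the powers of an ideal sheaf 𝓚 on Y
and by the powers of its inverse image ideal on X. For a morphism of schemes f : X → Y, the
completion X̂ of X along the inverse image ideal is X ×_Y Ŷ: at every level n the square formed by
the inclusion X'_n → X, the completed morphism X'_n → Y'_n, f and the inclusion Y'_n → Y is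
cartesian, and the completed morphism X̂ → Ŷ is adic (each square X'_n → X'_(n+1), Y'_n → Y'_(n+1)
is cartesian). The compatibility of f with the powers of the two ideals (the inverse image of
𝓚^(n+1) is contained in the (n+1)-st power of the inverse image ideal of 𝓚), needed to define the
completed morphism, holds for inverse image ideals and is carried as the hypothesis h. -/
theorem result {X Y : Scheme.{u}} (f : X ⟶ Y) (𝓚 : Y.IdealSheafData)
    (h : FSch.PowCompat f (𝓚.comap f) 𝓚) :
    (∀ n : ℕ, IsPullback (FSch.completionToX X (𝓚.comap f) n)
        ((FSch.completionMap f (𝓚.comap f) 𝓚 h : FSch.Hom _ _).app n) f (FSch.completionToX Y 𝓚 n)) ∧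
      FSch.IsAdicHom (FSch.completionMap f (𝓚.comap f) 𝓚 h) := by
  refine ⟨fun n => Groth.Agent.ClPush.isPullback_completion f 𝓚 h n, fun n => ?_⟩
  have e : ∀ (Z : Scheme.{u}) (K : Z.IdealSheafData), (_root_.FSch.completionAlong Z K).ι n ≫ _root_.FSch.completionToX Z K (n + 1) =
      _root_.FSch.completionToX Z K n := fun Z K =>
    Scheme.IdealSheafData.inclusion_subschemeι (_root_.FSch.pow_succ_le Z K n)
  have h1 := Groth.Agent.ClPush.isPullback_completion f 𝓚 h n
  change IsPullback (_root_.FSch.completionToX X (𝓚.comap f) n) _ f (_root_.FSch.completionToX Y 𝓚 n) at h1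
  rw [← e X, ← e Y] at h1
  exact IsPullback.of_right h1 ((_root_.FSch.completionMap f (𝓚.comap f) 𝓚 h : _root_.FSch.Hom _ _).comm n).symm
    (Groth.Agent.ClPush.isPullback_completion f 𝓚 h (n + 1))

end Groth.Agent.S3862
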