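import Groth.Statements.S1032
import Groth.Agent.DerCat.KInjProducts
import Mathlib.CategoryTheory.Functor.Derived.PointwiseRightDerived

set_option autoImplicit false
set_option backward.isDefEq.respectTransparency false
set_option backward.defeqAttrib.useBackward true
universe w v v' u u'
open CategoryTheory CategoryTheory.Limits
open CohDer

namespace Groth.Agent.S1032

/-- Let A be an abelian category in which every cochain complex admits a quasi-isomorphism to a
K-injective complex, and let F be an exact functor from the homotopy category K(A) to a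
pretriangulated category. Then F has a right derived functor RF with respect to quasi-isomorphisms
(defined on D(A)), and the canonical map F(I) ⟶ RF(I) is an isomorphism for every K-injective
complex I. -/
theorem result {A : Type u} [Category.{v} A] [Abelian A] [HasDerivedCategory.{w} A]
    (hKinj : ∀ K : CochainComplex A ℤ, ∃ (I : CochainComplex A ℤ) (f : K ⟶ I), I.IsKInjective ∧ QuasiIso f)
    {D' : Type u'} [Category.{v'} D'] [Preadditive D'] [Limits.HasZeroObject D'] [HasShift D' ℤ]
    [∀ n : ℤ, (shiftFunctor D' n).Additive] [Pretriangulated D']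
    [IsTriangulated D']
    (F : HomotopyCategory A (ComplexShape.up ℤ) ⥤ D') [F.CommShift ℤ] [F.IsTriangulated] :
    F.HasRightDerivedFunctor (HomotopyCategory.quasiIso A (ComplexShape.up ℤ)) ∧
    ∀ [F.HasRightDerivedFunctor (HomotopyCategory.quasiIso A (ComplexShape.up ℤ))] (I : CochainComplex A ℤ), I.IsKInjective →
      IsIso ((F.totalRightDerivedUnit DerivedCategory.Qh (HomotopyCategory.quasiIso A (ComplexShape.up ℤ))).app
        ((HomotopyCategory.quotient A (ComplexShape.up ℤ)).obj I)) := by
  let W := HomotopyCategory.quasiIso A (ComplexShape.up ℤ)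
  let L := (DerivedCategory.Qh (C := A))
  have hbij : ∀ (I : CochainComplex A ℤ), I.IsKInjective →
      ∀ Z, Function.Bijective (L.map :
        (Z ⟶ (HomotopyCategory.quotient A (ComplexShape.up ℤ)).obj I) → _) :=
    fun I _ Z ↦ CochainComplex.IsKInjective.Qh_map_bijective Z I
  have hterm : ∀ (I : CochainComplex A ℤ), I.IsKInjective → ∀ (Y : DerivedCategory A)
      (e : L.obj ((HomotopyCategory.quotient A (ComplexShape.up ℤ)).obj I) ≅ Y),
      Nonempty (Limits.IsTerminal (CostructuredArrow.mk e.hom)) := fun I hI Y e ↦ by
    choose g hg using fun T : CostructuredArrow L Y ↦ (hbij I hI T.left).2 (T.hom ≫ e.inv)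
    exact ⟨Limits.IsTerminal.ofUniqueHom (fun T ↦ CostructuredArrow.homMk (g T) (by simp [hg]))
      (fun T m ↦ CostructuredArrow.hom_ext _ _ ((hbij I hI T.left).1 (by
        have := CostructuredArrow.w m
        dsimp at this
        dsimp
        rw [hg, ← this, Category.assoc, Iso.hom_inv_id, Category.comp_id])))⟩
  haveI hpt : F.HasPointwiseRightDerivedFunctor W := fun X ↦ by
    rw [Functor.hasPointwiseRightDerivedFunctorAt_iff F L W]
    obtain ⟨K, rfl⟩ := HomotopyCategory.quotient_obj_surjective X
    obtain ⟨I, f, hI, hf⟩ := hKinj K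
    haveI : IsIso (L.map ((HomotopyCategory.quotient A (ComplexShape.up ℤ)).map f)) :=
      Localization.inverts L W _ ((HomotopyCategory.quotient_map_mem_quasiIso_iff f).2 hf)
    obtain ⟨ht⟩ := hterm I hI _ (asIso (L.map ((HomotopyCategory.quotient A _).map f))).symm
    exact ⟨⟨⟨_, Limits.colimitOfDiagramTerminal ht _⟩⟩⟩
  refine ⟨inferInstance, fun I hI ↦ ?_⟩
  let E := Functor.LeftExtension.mk _ (F.totalRightDerivedUnit L W)
  have hE : E.IsPointwiseLeftKanExtension :=
    Functor.isPointwiseLeftKanExtensionOfHasPointwiseRightDerivedFunctor _ _ W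
  obtain ⟨ht⟩ := hterm I hI _ (Iso.refl _)
  have h := (hE (L.obj ((HomotopyCategory.quotient A (ComplexShape.up ℤ)).obj I))).isIso_ι_app_of_isTerminal _ ht
  simpa [E] using h

end Groth.Agent.S1032
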