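import Groth.Statements.S6161
import Mathlib

set_option autoImplicit false
universe u
open CategoryTheory
open CohSite

namespace Groth.Agent.S6161


open _root_.CategoryTheory _root_.CategoryTheory.Limits _root_.Opposite _root_.AlgebraicTopology _root_.CategoryTheory.SimplicialObject
open scoped Simplicial

section transfer
variable {A B : Type*} [Category A] [Category B] [Preadditive A] [Preadditive B]
  [HasZeroObject A] [HasZeroObject B] (F : A ⥤ B) [F.Additive] (X : SimplicialObject.Augmented A)

/-- an additive functor applied to the alternating face map complex -/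
noncomputable def mapAltIso : (F.mapHomologicalComplex (ComplexShape.down ℕ)).obj
    (AlternatingFaceMapComplex.obj X.left) ≅
      AlternatingFaceMapComplex.obj (((Augmented.whiskering A B).obj F).obj X).left :=
  eqToIso (Functor.congr_obj (map_alternatingFaceMapComplex F) X.left)

/-- the augmentation commutes with additive functors -/
noncomputable def mapεArrowIso :
    Arrow.mk ((F.mapHomologicalComplex (ComplexShape.down ℕ)).map (AlternatingFaceMapComplex.ε.app X)) ≅
      Arrow.mk (AlternatingFaceMapComplex.ε.app (((Augmented.whiskering A B).obj F).obj X)) :=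
  Arrow.isoMk (mapAltIso F X) ((HomologicalComplex.singleMapHomologicalComplex F _ 0).app _) (by
    refine HomologicalComplex.to_single_hom_ext ?_
    simp [ChainComplex.toSingle₀Equiv, HomologicalComplex.mkHomToSingle, HomologicalComplex.singleObjXIsoOfEq, Augmented.whiskering, Augmented.whiskeringObj, eqToHom_map, mapAltIso, AlternatingFaceMapComplex.ε, HomologicalComplex.eqToHom_f,
      HomologicalComplex.singleMapHomologicalComplex, ChainComplex.single₀, HomologicalComplex.singleObjXSelf]
    erw [eqToHom_refl, eqToHom_refl, Category.id_comp, Category.comp_id])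

end transfer

variable {C : Type u} [SmallCategory C] {J : GrothendieckTopology C} {K' K : Sheaf J (Type u)}
  (f : K' ⟶ K)

/-- presheaf image of `f` -/
def img : Cᵒᵖ ⥤ Type u := (Subfunctor.range f.hom).toFunctor

def toImg : K'.obj ⟶ img f := Subfunctor.toRange f.hom

def imgι : img f ⟶ K.obj := (Subfunctor.range f.hom).ι

lemma toImg_ι : toImg f ≫ imgι f = f.hom := Subfunctor.toRange_ι _

lemma imgι_injective (U : Cᵒᵖ) : Function.Injective ((imgι f).app U) :=
  fun _ _ h => Subtype.ext h

lemma toImg_surjective (U : Cᵒᵖ) : Function.Surjective ((toImg f).app U) := by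
  rintro ⟨_, x, rfl⟩
  exact ⟨x, rfl⟩

variable (J) in
/-- the Čech nerve, as augmented simplicial presheaf -/
noncomputable abbrev nerve : SimplicialObject.Augmented (Cᵒᵖ ⥤ Type u) :=
  ((Augmented.whiskering _ _).obj (sheafToPresheaf J (Type u))).obj (Arrow.mk f).augmentedCechNerve

/-- projection of the nerve to the `i`-th factor -/
noncomputable def pr {m : SimplexCategoryᵒᵖ} (i : Fin (m.unop.len + 1)) :
    (nerve J f).left.obj m ⟶ K'.obj :=
  (WidePullback.π (fun _ : Fin (m.unop.len + 1) => f) i).hom

/-- the base map of the nerve -/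
noncomputable def bs (m : SimplexCategoryᵒᵖ) : (nerve J f).left.obj m ⟶ K.obj :=
  (WidePullback.base (fun _ : Fin (m.unop.len + 1) => f)).hom

lemma pr_f {m : SimplexCategoryᵒᵖ} (i : Fin (m.unop.len + 1)) : pr f i ≫ f.hom = bs f m :=
  congrArg (fun φ => φ.hom) (WidePullback.π_arrow (fun _ : Fin (m.unop.len + 1) => f) i)

lemma map_pr {m m' : SimplexCategoryᵒᵖ} (g : m ⟶ m') (i : Fin (m'.unop.len + 1)) :
    (nerve J f).left.map g ≫ pr f i = pr f (g.unop.toOrderHom i) :=
  congrArg (fun φ : (Arrow.mk f).cechNerve.obj m ⟶ K' => φ.hom) (WidePullback.lift_π (arrows := fun _ : Fin (m'.unop.len + 1) => f) _ _ _ i)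

lemma map_bs {m m' : SimplexCategoryᵒᵖ} (g : m ⟶ m') :
    (nerve J f).left.map g ≫ bs f m' = bs f m :=
  congrArg (fun φ : (Arrow.mk f).cechNerve.obj m ⟶ K => φ.hom) (WidePullback.lift_base (arrows := fun _ : Fin (m'.unop.len + 1) => f) _ _ _)

/-- the augmentation into the presheaf image -/
noncomputable def imgHom : (nerve J f).left ⟶ (SimplicialObject.const _).obj (img f) where
  app m := pr f 0 ≫ toImg f
  naturality {m m'} g := by
    ext U x
    apply imgι_injective f U
    have h1 := ConcreteCategory.congr_hom (NatTrans.congr_app (pr_f f (m := m') 0) U)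
      (((nerve J f).left.map g).app U x)
    have h2 := ConcreteCategory.congr_hom (NatTrans.congr_app (pr_f f (m := m) 0) U) x
    have h3 := ConcreteCategory.congr_hom (NatTrans.congr_app (map_bs f g) U) x
    simp only [NatTrans.comp_app, ConcreteCategory.comp_apply] at h1 h2 h3 ⊢
    exact (h1.trans h3).trans h2.symm

/-- the nerve, augmented over the presheaf image -/
noncomputable def nerveImg : SimplicialObject.Augmented (Cᵒᵖ ⥤ Type u) where
  left := (nerve J f).left
  right := img f
  hom := imgHom f

/-- the comparison of augmentations -/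
noncomputable def compareImg : nerveImg f ⟶ nerve J f where
  left := 𝟙 _
  right := imgι f
  w := by
    apply NatTrans.ext
    funext m
    show 𝟙 _ ≫ bs f m = (pr f 0 ≫ toImg f) ≫ imgι f
    rw [Category.assoc, toImg_ι, pr_f]
    exact Category.id_comp _

lemma elt_ext {U : Cᵒᵖ} {m : SimplexCategoryᵒᵖ} {x y : ((nerve J f).left.obj m).obj U}
    (h : ∀ i, (pr f i).app U x = (pr f i).app U y) : x = y := by
  have hb : (bs f m).app U x = (bs f m).app U y := by
    rw [← pr_f f (m := m) 0]
    simp [h 0]
  exact Concrete.isLimit_ext _ (isLimitOfPreserves (sheafToPresheaf J (Type u) ⋙ (evaluation _ _).obj U)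
    (limit.isLimit (WidePullbackShape.wideCospan K (fun _ : Fin (m.unop.len + 1) => K') fun _ => f))) _ _
    (fun j => match j with
      | none => hb
      | some i => h i)

lemma elt_exists {U : Cᵒᵖ} {m : SimplexCategoryᵒᵖ} (a : Fin (m.unop.len + 1) → K'.obj.obj U)
    (b : K.obj.obj U) (h : ∀ i, f.hom.app U (a i) = b) :
    ∃ x : ((nerve J f).left.obj m).obj U, ∀ i, (pr f i).app U x = a i := by
  let D := WidePullbackShape.wideCospan K (fun _ : Fin (m.unop.len + 1) => K') fun _ => f
  let E := sheafToPresheaf J (Type u) ⋙ (evaluation _ _).obj U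
  let s : ∀ j, (D ⋙ E).obj j := fun j => match j with
    | none => b
    | some i => a i
  have hs : s ∈ (D ⋙ E).sections := by
    rintro _ _ (_ | i)
    · simp
    · exact h i
  obtain ⟨x, hx, -⟩ := (Types.isLimit_iff _).1 ⟨isLimitOfPreserves E (limit.isLimit D)⟩ s hs
  exact ⟨x, fun i => hx (some i)⟩

/-- the extra degeneracy at a stage -/
noncomputable def sec (U : Cᵒᵖ) (y : (img f).obj U) : K'.obj.obj U := (toImg_surjective f U y).choose

lemma sec_spec (U : Cᵒᵖ) (y : (img f).obj U) : (toImg f).app U (sec f U y) = y :=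
  (toImg_surjective f U y).choose_spec

lemma f_sec (U : Cᵒᵖ) (y : (img f).obj U) : f.hom.app U (sec f U y) = (imgι f).app U y := by
  conv_rhs => rw [← sec_spec f U y]
  rfl

lemma f_pr {U : Cᵒᵖ} {m : SimplexCategoryᵒᵖ} (i : Fin (m.unop.len + 1))
    (x : ((nerve J f).left.obj m).obj U) :
    f.hom.app U ((pr f i).app U x) = (imgι f).app U ((toImg f).app U ((pr f 0).app U x)) := by
  show _ = f.hom.app U _
  have h1 := ConcreteCategory.congr_hom (NatTrans.congr_app (pr_f f i) U) x
  have h2 := ConcreteCategory.congr_hom (NatTrans.congr_app (pr_f f (m := m) 0) U) x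
  simp only [NatTrans.comp_app, ConcreteCategory.comp_apply] at h1 h2
  exact h1.trans h2.symm

lemma shift_exists {U : Cᵒᵖ} (n : ℕ) (x : ((nerve J f).left.obj (op ⦋n⦌)).obj U) :
    ∃ y : ((nerve J f).left.obj (op ⦋n + 1⦌)).obj U,
      (pr f (m := op ⦋n + 1⦌) (0 : Fin (n + 2))).app U y = sec f U ((toImg f).app U ((pr f 0).app U x)) ∧
      ∀ i : Fin (n + 1), (pr f (m := op ⦋n + 1⦌) i.succ).app U y = (pr f i).app U x := by
  obtain ⟨y, hy⟩ := elt_exists f (m := op ⦋n + 1⦌)
    (Fin.cases (sec f U ((toImg f).app U ((pr f 0).app U x))) (fun i : Fin (n + 1) => (pr f i).app U x))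
    ((imgι f).app U ((toImg f).app U ((pr f 0).app U x))) (fun i => by
      cases i using Fin.cases with
      | zero => exact f_sec f U _
      | succ i => exact f_pr f i x)
  exact ⟨y, hy 0, fun i => hy i.succ⟩

/-- the shift map -/
noncomputable def shift (U : Cᵒᵖ) (n : ℕ) (x : ((nerve J f).left.obj (op ⦋n⦌)).obj U) :
    ((nerve J f).left.obj (op ⦋n + 1⦌)).obj U := (shift_exists f n x).choose

lemma shift_zero {U : Cᵒᵖ} (n : ℕ) (x : ((nerve J f).left.obj (op ⦋n⦌)).obj U) :
    (pr f (m := op ⦋n + 1⦌) (0 : Fin (n + 2))).app U (shift f U n x) = sec f U ((toImg f).app U ((pr f 0).app U x)) :=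
  (shift_exists f n x).choose_spec.1

lemma shift_succ {U : Cᵒᵖ} (n : ℕ) (x : ((nerve J f).left.obj (op ⦋n⦌)).obj U) (i : Fin (n + 1)) :
    (pr f (m := op ⦋n + 1⦌) i.succ).app U (shift f U n x) = (pr f i).app U x :=
  (shift_exists f n x).choose_spec.2 i

lemma base_exists {U : Cᵒᵖ} (y : (img f).obj U) :
    ∃ x : ((nerve J f).left.obj (op ⦋0⦌)).obj U, ∀ i, (pr f i).app U x = sec f U y :=
  elt_exists f (fun _ => sec f U y) _ (fun _ => f_sec f U y)

lemma pr_map_apply {U : Cᵒᵖ} {m m' : SimplexCategoryᵒᵖ} (g : m ⟶ m') (i : Fin (m'.unop.len + 1))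
    (x : ((nerve J f).left.obj m).obj U) :
    (pr f i).app U (((nerve J f).left.map g).app U x) = (pr f (g.unop.toOrderHom i)).app U x := by
  have := ConcreteCategory.congr_hom (NatTrans.congr_app (map_pr f g i) U) x
  simpa using this

lemma pr_δ {U : Cᵒᵖ} (n : ℕ) (i : Fin (n + 2)) (k : Fin (n + 1))
    (x : ((nerve J f).left.obj (op ⦋n + 1⦌)).obj U) :
    (pr f (m := op ⦋n⦌) k).app U (((nerve J f).left.δ i).app U x) =
      (pr f (m := op ⦋n + 1⦌) (i.succAbove k)).app U x :=
  pr_map_apply f (SimplexCategory.δ i).op k x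

lemma pr_σ {U : Cᵒᵖ} (n : ℕ) (i : Fin (n + 1)) (k : Fin (n + 2))
    (x : ((nerve J f).left.obj (op ⦋n⦌)).obj U) :
    (pr f (m := op ⦋n + 1⦌) k).app U (((nerve J f).left.σ i).app U x) =
      (pr f (m := op ⦋n⦌) (i.predAbove k)).app U x :=
  pr_map_apply f (SimplexCategory.σ i).op k x

lemma toImg_pr {U : Cᵒᵖ} {m : SimplexCategoryᵒᵖ} (i : Fin (m.unop.len + 1))
    (x : ((nerve J f).left.obj m).obj U) :
    (toImg f).app U ((pr f i).app U x) = (toImg f).app U ((pr f 0).app U x) := by
  apply imgι_injective f U
  exact f_pr f i x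

/-- extra degeneracy of the evaluated nerve -/
noncomputable def extraDeg (U : Cᵒᵖ) :
    Augmented.ExtraDegeneracy (((Augmented.whiskering _ _).obj ((evaluation Cᵒᵖ (Type u)).obj U)).obj (nerveImg f)) where
  s' := TypeCat.ofHom fun y => (base_exists f y).choose
  s n := TypeCat.ofHom fun x => shift f U n x
  s'_comp_ε := by
    ext y
    show (toImg f).app U ((pr f 0).app U (base_exists f y).choose) = y
    rw [(base_exists f y).choose_spec, sec_spec]
  s₀_comp_δ₁ := by
    ext x
    apply elt_ext f
    intro (k : Fin 1)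
    show (pr f k).app U (((nerve J f).left.δ 1).app U (shift f U 0 x)) =
      (pr f k).app U (base_exists f ((toImg f).app U ((pr f 0).app U x))).choose
    rw [(base_exists f _).choose_spec, pr_δ]
    fin_cases k
    exact shift_zero f 0 x
  s_comp_δ₀ n := by
    ext x
    apply elt_ext f
    intro (k : Fin (n + 1))
    show (pr f k).app U (((nerve J f).left.δ 0).app U (shift f U n x)) = (pr f k).app U x
    rw [pr_δ]
    simp only [Fin.succAbove_zero]
    exact shift_succ f n x k
  s_comp_δ n i := by
    ext x
    apply elt_ext f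
    intro (k : Fin (n + 2))
    show (pr f k).app U (((nerve J f).left.δ i.succ).app U (shift f U (n + 1) x)) =
      (pr f k).app U (shift f U n (((nerve J f).left.δ i).app U x))
    rw [pr_δ]
    cases k using Fin.cases with
    | zero =>
      rw [Fin.succ_succAbove_zero, shift_zero, shift_zero, pr_δ]
      exact congrArg (sec f U) (toImg_pr f (m := op ⦋n + 1⦌) _ x).symm
    | succ k =>
      rw [Fin.succ_succAbove_succ, shift_succ, shift_succ, pr_δ]
  s_comp_σ n i := by
    ext x
    apply elt_ext f
    intro (k : Fin (n + 3))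
    show (pr f k).app U (((nerve J f).left.σ i.succ).app U (shift f U n x)) =
      (pr f k).app U (shift f U (n + 1) (((nerve J f).left.σ i).app U x))
    rw [pr_σ]
    cases k using Fin.cases with
    | zero =>
      rw [show i.succ.predAbove (0 : Fin (n + 3)) = 0 by simp [Fin.predAbove], shift_zero, shift_zero, pr_σ]
      exact congrArg (sec f U) (toImg_pr f (m := op ⦋n⦌) _ x).symm
    | succ k =>
      rw [Fin.succ_predAbove_succ, shift_succ, shift_succ, pr_σ]

variable [Epi f]

lemma W_imgι : J.W (imgι f) := by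
  rw [GrothendieckTopology.W_iff_isLocallyBijective]
  refine ⟨Presheaf.isLocallyInjective_of_injective J _ (imgι_injective f), ?_⟩
  haveI : Presheaf.IsLocallySurjective J f.hom :=
    (Sheaf.isLocallySurjective_iff_epi' (A := Type u) f).2 inferInstance
  exact Presheaf.isLocallySurjective_of_isLocallySurjective_fac J (toImg_ι f)


open CategoryTheory.Limits in
/-- Case A = Z; topos of sheaves of sets on a small site: for an epimorphism K' -> K of sheaves of sets,
the chain complex of free abelian sheaves ... -> Z[K' x_K K'] -> Z[K'] (alternating sums of the face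
maps of the Cech nerve), augmented to Z[K], is a resolution of Z[K]: the augmentation is a
quasi-isomorphism to Z[K] placed in degree 0. (An epimorphic family (U_i -> X) is replaced here by
the single epimorphism from its coproduct, which gives the same complex.) -/
theorem result {C : Type u} [SmallCategory C] (J : GrothendieckTopology C)
    {K' K : Sheaf J (Type u)} (f : K' ⟶ K) [Epi f] :
    QuasiIso ((AlgebraicTopology.AlternatingFaceMapComplex.ε (C := Sheaf J AddCommGrpCat.{u})).app
      (((SimplicialObject.Augmented.whiskering _ _).obj (Sheaf.composeAndSheafify J AddCommGrpCat.free.{u})).obj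
        (Arrow.mk f).augmentedCechNerve)) := by
  haveI : J.PreservesSheafification AddCommGrpCat.free.{u} :=
    _root_.CategoryTheory.Sheaf.preservesSheafification_of_adjunction J AddCommGrpCat.adj
  let W := (Functor.whiskeringRight Cᵒᵖ (Type u) AddCommGrpCat.{u}).obj AddCommGrpCat.free.{u}
  let X := ((Augmented.whiskering _ _).obj (W ⋙ presheafToSheaf J AddCommGrpCat.{u})).obj (nerveImg f)
  let φ := ((Augmented.whiskering _ _).obj (W ⋙ presheafToSheaf J AddCommGrpCat.{u})).map (compareImg f)
  haveI : IsIso (Augmented.point.map φ) :=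
    J.W_isInvertedBy_whiskeringRight_presheafToSheaf AddCommGrpCat.free.{u} _ (W_imgι f)
  haveI : IsIso φ.left := by
    show IsIso (((SimplicialObject.whiskering _ _).obj _).map (𝟙 _))
    infer_instance
  haveI : IsIso (Augmented.drop.map φ) := inferInstanceAs (IsIso φ.left)
  suffices hX : QuasiIso (AlternatingFaceMapComplex.ε.app X) from
    (quasiIso_iff_of_arrow_mk_iso _ _ (Arrow.isoMk
      ((alternatingFaceMapComplex _).mapIso (asIso (Augmented.drop.map φ)))
      ((ChainComplex.single₀ _).mapIso (asIso (Augmented.point.map φ)))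
      (AlternatingFaceMapComplex.ε.naturality φ))).1 hX
  let Y := ((Augmented.whiskering _ _).obj W).obj (nerveImg f)
  have hY : QuasiIso (AlternatingFaceMapComplex.ε.app Y) := by
    rw [HomologicalComplex.quasiIso_iff_evaluation]
    intro U
    rw [quasiIso_iff_of_arrow_mk_iso _ _ (mapεArrowIso ((evaluation Cᵒᵖ AddCommGrpCat.{u}).obj U) Y)]
    exact ((extraDeg f U).map AddCommGrpCat.free.{u}).homotopyEquiv.quasiIso_hom
  exact (quasiIso_iff_of_arrow_mk_iso _ _ (mapεArrowIso (presheafToSheaf J AddCommGrpCat.{u}) Y)).1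
    inferInstance

end Groth.Agent.S6161
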