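import Groth.Statements.S16347
import Groth.Agent.CubicPts.Singular

set_option autoImplicit false
universe u
open Cubic

namespace Groth.Agent.S16347

/-- Let K be an algebraically closed field of characteristic zero and S = V(F) ⊂ P^3_K a cubic surface,
F a homogeneous cubic in four variables which is irreducible and not a cone (there is no nonzero
vector v with Σ_i v_i ∂F/∂x_i = 0). If a is a singular point of S (a nonzero vector with F(a) = 0
and every ∂F/∂x_i(a) = 0), then at most six lines through a lie on S; here a line through a on S is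
a 2-dimensional subspace of K^4 containing a on which F vanishes identically. -/
theorem result (K : Type u) [Field K] [IsAlgClosed K] [CharZero K]
    (F : MvPolynomial (Fin 4) K) (hF : F.IsHomogeneous 3) (hirr : Irreducible F)
    (hcone : ¬ ∃ v : Fin 4 → K, v ≠ 0 ∧ ∑ i : Fin 4, v i • MvPolynomial.pderiv i F = 0)
    (a : Fin 4 → K) (ha : a ≠ 0) (hFa : MvPolynomial.eval a F = 0)
    (hsing : ∀ i : Fin 4, MvPolynomial.eval a (MvPolynomial.pderiv i F) = 0) :
    {U : Submodule K (Fin 4 → K) | a ∈ U ∧ Module.finrank K ↥U = 2 ∧ ∀ u ∈ U, MvPolynomial.eval u F = 0}.encard ≤ 6 := by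
  classical
  set S := {U : Submodule K (Fin 4 → K) | a ∈ U ∧ Module.finrank K ↥U = 2 ∧ ∀ u ∈ U, MvPolynomial.eval u F = 0}
  by_contra hlt
  push Not at hlt
  have h7 : (7 : ℕ∞) ≤ S.encard := by
    exact le_trans (le_of_eq (by norm_num)) (Order.add_one_le_of_lt hlt)
  obtain ⟨T, hTS, hT⟩ := Set.exists_subset_encard_eq (k := (7 : ℕ∞)) (s := S) (by simpa using h7)
  have hfin : T.Finite := Set.finite_of_encard_eq_coe (k := 7) hT
  have hcard : hfin.toFinset.card = 7 := by
    have := hfin.encard_eq_coe_toFinset_card
    rw [hT] at this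
    exact_mod_cast this.symm
  let e := hfin.toFinset.equivFinOfCardEq hcard
  have hmem : ∀ i, (e.symm i : Submodule K (Fin 4 → K)) ∈ S := fun i => hTS (hfin.mem_toFinset.1 (e.symm i).2)
  have hex : ∀ i, ∃ u ∈ (e.symm i : Submodule K (Fin 4 → K)), u ∉ Submodule.span K {a} := by
    intro i
    by_contra! h
    have := Submodule.finrank_mono (t := Submodule.span K {a}) h
    rw [(hmem i).2.1, finrank_span_singleton ha] at this
    omega
  choose u hu hua using hex
  refine CubicPts.no_seven_lines hF hirr hcone ha hFa hsing u (fun i => (hmem i).2.2 _ (hu i)) (fun i => ?_) hua ?_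
  · have h := (hmem i).2.2 ((1 : K) • a + (1 : K) • u i)
      (Submodule.add_mem _ (Submodule.smul_mem _ _ (hmem i).1) (Submodule.smul_mem _ _ (hu i)))
    rw [← MvPolynomial.aeval_eq_eval, CubicPts.aeval_singular hF hFa hsing, MvPolynomial.aeval_eq_eval,
      (hmem i).2.2 _ (hu i)] at h
    linear_combination h
  · intro i j hij hmem'
    apply hij
    have key : ∀ l, (e.symm l : Submodule K (Fin 4 → K)) = Submodule.span K (Set.range ![a, u l]) := by
      intro l
      haveI : FiniteDimensional K (e.symm l : Submodule K (Fin 4 → K)) := inferInstance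
      have hle : Submodule.span K (Set.range ![a, u l]) ≤ (e.symm l : Submodule K (Fin 4 → K)) := by
        rw [Submodule.span_le]; rintro _ ⟨t, rfl⟩
        fin_cases t
        · exact (hmem l).1
        · exact hu l
      refine (Submodule.eq_of_le_of_finrank_eq hle ?_).symm
      rw [(hmem l).2.1, finrank_span_eq_card]
      · simp
      rw [linearIndependent_fin2]
      refine ⟨?_, fun c hc => ?_⟩
      · intro h
        exact hua l (by simp at h; rw [h]; exact Submodule.zero_mem _)
      · simp at hc
        rcases eq_or_ne c 0 with rfl | hc0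
        · exact ha (by rw [← hc, zero_smul])
        · exact hua l (Submodule.mem_span_singleton.2 ⟨c⁻¹, by rw [← hc, smul_smul, inv_mul_cancel₀ hc0, one_smul]⟩)
    refine e.symm.injective (Subtype.ext ?_)
    have hle : Submodule.span K (Set.range ![a, u i]) ≤ (e.symm j : Submodule K (Fin 4 → K)) := by
      rw [Submodule.span_le]; rintro _ ⟨t, rfl⟩
      fin_cases t
      · exact (hmem j).1
      · exact (key j).symm ▸ hmem'
    rw [← key i] at hle
    exact Submodule.eq_of_le_of_finrank_eq hle ((hmem i).2.1.trans (hmem j).2.1.symm)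

end Groth.Agent.S16347
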