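import Groth.Statements.S7639
import Groth.Agent.CurveDeg.Euler
import Groth.Agent.CurveDeg.H0
import Groth.Agent.CurveDeg.Curve

set_option autoImplicit false
universe u
open CategoryTheory CategoryTheory.Limits AlgebraicGeometry
attribute [local instance] Curv2.resAlgebra
open Variety

namespace Groth.Agent.S7639


open TopologicalSpace

theorem secEquiv_smul {X : Scheme.{u}} (r : Coh.Γtop X) (x : Coh.HH X (Coh.structureModule X) 0) :
    (id (Groth.Agent.CurveDeg.secEquiv (Coh.structureModule X) (r • x)) : Γ(X, ⊤)) =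
      @HMul.hMul Γ(X, ⊤) Γ(X, ⊤) Γ(X, ⊤) _ r
        (id (Groth.Agent.CurveDeg.secEquiv (Coh.structureModule X) x) : Γ(X, ⊤)) := by
  refine ((CategoryTheory.Sheaf.H.equiv₀_naturality CategoryTheory.Limits.isTerminalTop
    (Coh.smulAb (Coh.structureModule X) r) x).symm).trans ?_
  show (X.presheaf.map (homOfLE (le_top : (⊤ : X.Opens) ≤ ⊤)).op).hom r * _ = _
  rw [show (homOfLE (le_top : (⊤ : X.Opens) ≤ ⊤)).op = 𝟙 _ from Subsingleton.elim _ _,
    CategoryTheory.Functor.map_id]
  rfl

theorem eq_zero_or_one {R : Type u} [CommRing R] [IsLocalRing R] {e : R} (he : IsIdempotentElem e) :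
    e = 0 ∨ e = 1 := by
  rcases IsLocalRing.isUnit_or_isUnit_one_sub_self e with h | h
  · exact Or.inr (h.mul_left_cancel (by rw [mul_one]; exact he.eq))
  · exact Or.inl (h.mul_right_eq_zero.1 (by rw [sub_mul, one_mul, he.eq, sub_self]))

theorem idem_trivial {X : Scheme.{u}} [IsReduced X] [ConnectedSpace X] {e : Γ(X, ⊤)}
    (he : IsIdempotentElem e) : e = 0 ∨ IsUnit e := by
  have hclo : IsClopen (X.basicOpen e : Set X) := by
    refine ⟨?_, (X.basicOpen e).isOpen⟩
    have : (X.basicOpen e : Set X)ᶜ = (X.basicOpen (1 - e) : Set X) := by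
      ext x
      simp only [Set.mem_compl_iff, SetLike.mem_coe]
      rw [X.mem_basicOpen e x (Set.mem_univ x), X.mem_basicOpen (1 - e) x (Set.mem_univ x), map_sub, map_one]
      rcases eq_zero_or_one (he.map (X.presheaf.germ ⊤ x (Set.mem_univ x)).hom) with h | h <;>
        · change X.presheaf.germ ⊤ x (Set.mem_univ x) e = _ at h
          rw [h]; simp
    rw [← isOpen_compl_iff, this]
    exact (X.basicOpen (1 - e)).isOpen
  rcases isClopen_iff.1 hclo with h | h
  · exact Or.inl ((basicOpen_eq_bot_iff e).1 (Opens.ext h))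
  · refine Or.inr ?_
    refine X.toRingedSpace.isUnit_of_isUnit_germ ⊤ e fun x _ => ?_
    exact (X.mem_basicOpen e x (Set.mem_univ x)).1 (h.ge (Set.mem_univ x) : x ∈ X.basicOpen e)

/-- Let X be a proper scheme over a field k which is reduced and connected, and let κ = Γ(X, O_X). Then
κ is a field, finite over k, and w = [κ : k] divides (1) the degree of every finite locally free
module of constant rank, (2) the degree [κ(x) : k] of every closed point x, and (3) the degree dim_k
H^0(X, O_D) of every closed subscheme D of dimension zero (or empty). (The published statement uses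
the degree of E, which it defines only for X of dimension at most one; this row states (1) for the
integer χ(E) − n·χ(O_X) with no bound on the dimension of X.) -/
theorem result (k : Type u) [Field k] (X : Scheme.{u}) [X.Over (Spec (CommRingCat.of k))] [IsProper (X ↘ (Spec (CommRingCat.of k)))] [IsReduced X] [ConnectedSpace X] :
    letI : Algebra k Γ(X, ⊤) := ((X ↘ (Spec (CommRingCat.of k))).appTop.hom.comp
      (Scheme.ΓSpecIso (CommRingCat.of k)).inv.hom).toAlgebra
    IsField Γ(X, ⊤) ∧ Module.Finite k Γ(X, ⊤) ∧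
      (∀ (n : ℕ) (E : X.Modules), FlatMod.IsFinLocFreeOfRank n E →
        (Module.finrank k Γ(X, ⊤) : ℤ) ∣ Curv2.deg k X E n) ∧
      (∀ x : X, IsClosed ({x} : Set X) →
        Module.finrank k Γ(X, ⊤) ∣ Module.finrank k (X.residueField x)) ∧
      (∀ D : X.IdealSheafData, topologicalKrullDim D.subscheme ≤ 0 →
        Module.finrank k Γ(X, ⊤) ∣ Module.finrank k (Coh.HH X (ClSub.quotMod D) 0)) := by
  classical
  letI alg : Algebra k Γ(X, ⊤) := ((X ↘ (Spec (CommRingCat.of k))).appTop.hom.comp
    (Scheme.ΓSpecIso (CommRingCat.of k)).inv.hom).toAlgebra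
  have := Groth.Agent.CurveDeg.isNoetherian_of_proper (k := k) (X := X)
  have hO := Groth.Agent.CurveDeg.isCoh_structureModule (k := k) (X := X)
  have := Groth.Agent.CurveDeg.finite_HH (k := k) hO 0
  let e0 := Groth.Agent.CurveDeg.secEquiv (Coh.structureModule X)
  let one0 : Coh.HH X (Coh.structureModule X) 0 := e0.symm (1 : Γ(X, ⊤))
  let lin : Γ(X, ⊤) →ₗ[k] Coh.HH X (Coh.structureModule X) 0 :=
    { toFun := fun r => HSMul.hSMul (α := Coh.Γtop X) r one0
      map_add' := fun r r' => add_smul (R := Coh.Γtop X) r r' one0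
      map_smul' := fun c r => mul_smul (α := Coh.Γtop X)
        (Coh.toGlobal (X ↘ Spec (CommRingCat.of k)) c) r one0 }
  have hlin : Function.Injective lin := fun r r' h => by
    have h1 := congrArg e0 h
    have e1 : ∀ r : Γ(X, ⊤), (id (e0 (HSMul.hSMul (α := Coh.Γtop X) r one0)) : Γ(X, ⊤)) = r := fun r =>
      (secEquiv_smul (r : Coh.Γtop X) one0).trans (by
        rw [show (id (e0 one0) : Γ(X, ⊤)) = 1 from e0.apply_symm_apply _, mul_one])
    exact (e1 r).symm.trans ((show (id (e0 (HSMul.hSMul (α := Coh.Γtop X) r one0)) : Γ(X, ⊤)) =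
      id (e0 (HSMul.hSMul (α := Coh.Γtop X) r' one0)) from h1).trans (e1 r'))
  have hfin : Module.Finite k Γ(X, ⊤) := Module.Finite.of_injective lin hlin
  have hred : _root_.IsReduced Γ(X, ⊤) := inferInstance
  have hne : Nontrivial Γ(X, ⊤) := by
    obtain ⟨x⟩ := (inferInstance : Nonempty X)
    exact RingHom.domain_nontrivial (X.presheaf.germ ⊤ x trivial).hom
  have hfield : IsField Γ(X, ⊤) := by
    refine ⟨⟨0, 1, zero_ne_one⟩, mul_comm, fun {a} ha => ?_⟩
    have : IsArtinian k Γ(X, ⊤) := inferInstance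
    have : IsArtinianRing Γ(X, ⊤) := isArtinian_of_tower k this
    obtain ⟨n, c, hc⟩ := IsArtinian.exists_pow_succ_smul_dvd a (1 : Γ(X, ⊤))
    simp only [smul_eq_mul, mul_one] at hc
    have h1 : a * (1 - a * c) = 0 := by
      refine IsNilpotent.eq_zero ⟨n + 1, ?_⟩
      rw [mul_pow, show a ^ (n + 1) * (1 - a * c) ^ (n + 1) =
        (a ^ n - a ^ (n + 1) * c) * (a * (1 - a * c) ^ n) by ring, hc, sub_self, zero_mul]
    have hidem : IsIdempotentElem (a * c) :=
      show a * c * (a * c) = a * c by linear_combination (-c) * h1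
    rcases idem_trivial hidem with h | h
    · exact absurd (by linear_combination h1 + a * h) ha
    · obtain ⟨u, hu⟩ := h
      exact ⟨c * ↑u⁻¹, by rw [← mul_assoc, ← hu, Units.mul_inv]⟩
  letI fld : Field Γ(X, ⊤) := hfield.toField
  have key : ∀ (M : X.Modules) (i : ℕ),
      Module.finrank k Γ(X, ⊤) ∣ Module.finrank k (Coh.HH X M i) := by
    intro M i
    letI : Module Γ(X, ⊤) (Coh.HH X M i) := Coh.moduleΓtop (X := X) M i
    haveI : IsScalarTower k Γ(X, ⊤) (Coh.HH X M i) := ⟨fun c r x => mul_smul (α := Coh.Γtop X)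
      (Coh.toGlobal (X ↘ Spec (CommRingCat.of k)) c) r x⟩
    exact ⟨_, (Module.finrank_mul_finrank k Γ(X, ⊤) (Coh.HH X M i)).symm⟩
  have heul : ∀ M : X.Modules, (Module.finrank k Γ(X, ⊤) : ℤ) ∣ Curv2.euler k X M := fun M =>
    finsum_induction (fun z => (Module.finrank k Γ(X, ⊤) : ℤ) ∣ z) (dvd_zero _)
      (fun _ _ => dvd_add) (fun i => dvd_mul_of_dvd_right (Int.natCast_dvd_natCast.2 (key M i)) _)
  refine ⟨hfield, hfin, fun n E _ => dvd_sub (heul E) (dvd_mul_of_dvd_right (heul _) _),
    fun x _ => ?_, fun D _ => key _ 0⟩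
  letI : Algebra Γ(X, ⊤) (X.residueField x) :=
    ((X.residue x).hom.comp (X.presheaf.germ ⊤ x trivial).hom).toAlgebra
  haveI : IsScalarTower k Γ(X, ⊤) (X.residueField x) := IsScalarTower.of_algebraMap_eq fun _ => rfl
  exact ⟨_, (Module.finrank_mul_finrank k Γ(X, ⊤) (X.residueField x)).symm⟩

end Groth.Agent.S7639
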