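import Groth.Statements.S6942
import Groth.Agent.DRingTorAmp.PCModules

set_option autoImplicit false
universe u
open CategoryTheory CategoryTheory.Limits
attribute [local instance] HasDerivedCategory.standard
open DRing

namespace Groth.Agent.S6942

/-- Let R be a Noetherian commutative ring and m an integer. An object K of D(R) is m-pseudo-coherent
exactly when H^i(K) = 0 for all large i and H^i(K) is a finitely generated R-module for each i ≥ m.
Every finitely generated R-module M is pseudo-coherent, and conversely. -/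
theorem result (R : Type u) [CommRing R]
    [IsNoetherianRing R] (m : ℤ) (K : Dual.D R) (M : Type u) [AddCommGroup M] [Module R M] :
    (DRing.IsPseudoCoherent R m K ↔
      (∃ b : ℤ, ∀ i : ℤ, b < i → Subsingleton (Dual.HD R K i)) ∧ ∀ i : ℤ, m ≤ i → Module.Finite R (Dual.HD R K i)) ∧
      (DRing.IsPseudoCoherentModule' R M ↔ Module.Finite R M) := by
  refine ⟨⟨fun h => ⟨?_, fun i hi => DRingTorAmp.finite_of_isPseudoCoherent h i hi⟩, fun ⟨⟨b, hb⟩, h⟩ => ?_⟩,
    ⟨fun h => ?_, fun h => ?_⟩⟩
  · obtain ⟨b, hb⟩ := DRingKProj.exists_vanishGE h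
    exact ⟨b, fun i hi => (DRingTorAmp.isZero_HD_iff K i).1 (hb i hi)⟩
  · exact DRingTorAmp.isPseudoCoherent_of_finite m (b + 1 - m).toNat K
      (fun i hi => (DRingTorAmp.isZero_HD_iff K i).2 (hb i (by omega))) h
  · haveI := DRingTorAmp.finite_of_isPseudoCoherent (DRingKProj.isPseudoCoherent_of_pseudoCoherent' h 0) 0 le_rfl
    exact Module.Finite.equiv (DRingTorAmp.h0InD M)
  · haveI := h
    exact DRingKProj.pseudoCoherent'_of_forall fun k => DRingTorAmp.isPseudoCoherent_of_finite k (1 - k).toNat _
      (fun i hi => DRingTorAmp.vanishGE_inD M i (by omega)) fun i _ => DRingTorAmp.finite_inD_homology M i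

end Groth.Agent.S6942
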