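import Groth.Statements.S6935
import Groth.Agent.DRingTorAmp.PCModules

set_option autoImplicit false
universe u
open CategoryTheory CategoryTheory.Limits
attribute [local instance] HasDerivedCategory.standard
open DRing

namespace Groth.Agent.S6935

/-- Let R be a commutative ring and M an R-module, viewed as the complex M[0] in D(R). Then M[0] is
0-pseudo-coherent exactly when M is finitely generated over R, and M[0] is (-1)-pseudo-coherent
exactly when M admits a finite presentation over R. -/
theorem result (R : Type u) [CommRing R]
    (M : Type u) [AddCommGroup M] [Module R M] :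
    (DRing.IsPseudoCoherentModule R 0 M ↔ Module.Finite R M) ∧
      (DRing.IsPseudoCoherentModule R (-1) M ↔ Module.FinitePresentation R M) := by
  refine ⟨⟨fun h => ?_, fun h => ?_⟩, ⟨fun h => ?_, fun h => ?_⟩⟩
  · haveI := (DRingKProj.finite_homology h).1 fun i hi => DRingTorAmp.vanishGE_inD M i (by omega)
    exact Module.Finite.equiv (DRingTorAmp.h0InD M)
  · haveI := h
    exact DRingTorAmp.isPseudoCoherent_of_top _ (DRingTorAmp.vanishGE_inD M)
      (Module.Finite.equiv (DRingTorAmp.h0InD M).symm)
  · haveI : Module.FinitePresentation R ((DerivedCategory.homologyFunctor (ModuleCat.{u} R) 0).obj (Dual.inD R M)) :=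
      (DRingKProj.finite_homology h).2 fun i hi => DRingTorAmp.vanishGE_inD M i (by omega)
    exact Module.finitePresentation_of_surjective (DRingTorAmp.h0InD M).toLinearMap (DRingTorAmp.h0InD M).surjective
      (by rw [LinearEquiv.ker]; exact Submodule.fg_bot)
  · haveI := h
    refine DRingTorAmp.isPseudoCoherent_of_two _ (DRingTorAmp.vanishGE_inD M) ?_ ?_
    · exact Module.finitePresentation_of_surjective (DRingTorAmp.h0InD M).symm.toLinearMap
        (DRingTorAmp.h0InD M).symm.surjective (by rw [LinearEquiv.ker]; exact Submodule.fg_bot)
    · haveI : Subsingleton ((DerivedCategory.homologyFunctor (ModuleCat.{u} R) (-1)).obj (Dual.inD R M)) :=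
        ModuleCat.subsingleton_of_isZero (DerCat.isZero_homology_single 0 (-1) (by omega) (ModuleCat.of R M))
      infer_instance

end Groth.Agent.S6935
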