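import Groth.Statements.S7000
import Groth.Agent.DRingTorAmp.Change

set_option autoImplicit false
universe u
open CategoryTheory CategoryTheory.Limits
attribute [local instance] HasDerivedCategory.standard
open DRing

namespace Groth.Agent.S7000
theorem escFree {R S : Type u} [CommRing R] [CommRing S] (φ : R →+* S) {E : DRing.Cx R} (hE : DRing.TermwiseFiniteFree E) :
    DRing.TermwiseFiniteFree ((DRingTorAmp.escCx φ).obj E) := fun i => by
  letI := φ.toAlgebra
  haveI := (hE i).1
  haveI := (hE i).2
  exact ⟨inferInstanceAs (Module.Finite S (TensorProduct R S (E.X i))), inferInstanceAs (Module.Free S (TensorProduct R S (E.X i)))⟩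



/-- Let A → B be a flat homomorphism of commutative rings, m an integer and M an A-module. If M is
m-pseudo-coherent then the B-module B ⊗_A M is m-pseudo-coherent; if M is pseudo-coherent then B ⊗_A
M is pseudo-coherent. -/
theorem result {A B : Type u} [CommRing A] [CommRing B] [Algebra A B]
    [Module.Flat A B] (m : ℤ) (M : Type u) [AddCommGroup M] [Module A M] :
    (DRing.IsPseudoCoherentModule A m M → DRing.IsPseudoCoherentModule B m (TensorProduct A B M)) ∧
      (DRing.IsPseudoCoherentModule' A M → DRing.IsPseudoCoherentModule' B (TensorProduct A B M)) := by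
  obtain ⟨φ, rfl⟩ := DRingTorAmp.exists_toAlgebra ‹Algebra A B›
  letI := φ.toAlgebra
  have hφ : φ.Flat := ‹Module.Flat A B›
  constructor
  · rintro ⟨E, a, b, α, hab, hE, hα⟩
    haveI := DRingKProj.isKProjective_of_vanishesAbove (fun i hi => hab i (Or.inr hi)) hE
    obtain ⟨g, hg⟩ := PCExt.Q_map_surjective_of_isKProjective E _ (α ≫ (DRingTorAmp.inDIso M).hom)
    have h1 : DRingKProj.IsoAbove m (DerivedCategory.Q.map g) := by
      rw [show DerivedCategory.Q.map g = _ from hg]
      exact DRingKProj.IsoAbove.comp hα (DRingKProj.IsoAbove.of_isIso m _)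
    have h2 : DRingKProj.IsoAbove m (DerivedCategory.Q.map ((DRingTorAmp.escCx φ).map g)) := by
      rw [DRingKProj.isoAbove_Q_map_iff] at h1 ⊢
      exact fun i hi => (DRingTorAmp.esc_exactAt hφ (h1 i hi)).of_iso
        (CochainComplex.mappingCone.mapHomologicalComplexIso g (ModuleCat.extendScalars.{u, u, u} φ))
    let e : DerivedCategory.Q.obj ((DRingTorAmp.escCx φ).obj ((HomologicalComplex.single (ModuleCat.{u} A)
        (ComplexShape.up ℤ) 0).obj (ModuleCat.of A M))) ≅ Dual.inD B (TensorProduct A B M) :=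
      DerivedCategory.Q.mapIso ((HomologicalComplex.singleMapHomologicalComplex (ModuleCat.extendScalars.{u, u, u} φ)
        (ComplexShape.up ℤ) 0).app (ModuleCat.of A M) ≪≫ (HomologicalComplex.single _ _ 0).mapIso
          (LinearEquiv.toModuleIso (LinearEquiv.refl B (TensorProduct A B M)))) ≪≫ (DRingTorAmp.inDIso _).symm
    exact ⟨(DRingTorAmp.escCx φ).obj E, a, b, DerivedCategory.Q.map ((DRingTorAmp.escCx φ).map g) ≫ e.hom,
      DRingTorAmp.esc_outside φ hab, escFree φ hE, DRingKProj.IsoAbove.comp h2 (DRingKProj.IsoAbove.of_isIso m _)⟩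
  · rintro ⟨E, b, hb, hE, ⟨e⟩⟩
    obtain ⟨e'⟩ := DRingTorAmp.exists_inD_esc_iso hφ M e
    exact ⟨(DRingTorAmp.escCx φ).obj E, b, fun i hi => (ModuleCat.extendScalars.{u, u, u} φ).map_isZero (hb i hi),
      escFree φ hE, ⟨e'⟩⟩

end Groth.Agent.S7000
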