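import Groth.Statements.S7068
import Groth.Agent.PerfHom.Basic
import Groth.Agent.DRingTorAmp.Triangle


set_option autoImplicit false
universe u
attribute [local instance] HasDerivedCategory.standard
open MoreMor

namespace Groth.Agent.S7068

/-- If A → B is a flat homomorphism of commutative rings of finite presentation, then A → B is a perfect
ring map: pseudo-coherent, with B of finite tor dimension as an A-module. -/
theorem result (A B : Type u) [CommRing A] [CommRing B] [Algebra A B]
    [Module.Flat A B] [Algebra.FinitePresentation A B] : MoreMor.IsPerfectHom A B := by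
  obtain ⟨n, φ, hφ⟩ := Algebra.FiniteType.iff_quotient_mvPolynomial''.1 (inferInstance : Algebra.FiniteType A B)
  letI := φ.toRingHom.toAlgebra
  haveI : IsScalarTower A (MvPolynomial (Fin n) A) B := IsScalarTower.of_algebraMap_eq' φ.comp_algebraMap.symm
  haveI : Module.FinitePresentation (MvPolynomial (Fin n) A) B :=
    Module.finitePresentation_of_surjective (Algebra.linearMap (MvPolynomial (Fin n) A) B) hφ
      (Algebra.FinitePresentation.ker_fG_of_surjective φ hφ)
  exact ⟨⟨n, φ, hφ, ((Groth.Agent.DRingTorAmp.isPerfect_iff _).1
    (Groth.Agent.PerfHom.isPerfectModule_of_flat (A := A) B)).1⟩, 0, Groth.Agent.FlatFibrePD.hasTorDimLE_zero_of_flat⟩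

end Groth.Agent.S7068
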