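import Groth.Statements.S4564
import Groth.Agent.CAlgN2.CompleteLocal
import Groth.Agent.CplFin.Basic

set_option autoImplicit false
universe u
open CAlg

namespace Groth.Agent.S4564

/-- Let A be a complete Noetherian local domain with fraction field K and K' a finite extension of K.
Then the integral closure of A in K' is a local ring, complete for the adic topology of its maximal
ideal. -/
theorem result {A K' : Type u} [CommRing A]
    [IsDomain A] [IsLocalRing A] [IsNoetherianRing A] [IsAdicComplete (IsLocalRing.maximalIdeal A) A]
    [Field K'] [Algebra A K'] [Algebra (FractionRing A) K'] [IsScalarTower A (FractionRing A) K']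
    [FiniteDimensional (FractionRing A) K'] :
    ∃ _ : IsLocalRing (integralClosure A K'),
      IsAdicComplete (IsLocalRing.maximalIdeal (integralClosure A K')) (integralClosure A K') := by
  classical
  haveI : Module.Finite A (integralClosure A K') := CAlgN2.isN2_of_complete_local A K' inferInstance
  obtain ⟨n₀, hn₀⟩ := Ideal.exists_maximal (integralClosure A K')
  have hu : ∀ n : MaximalSpectrum (integralClosure A K'), n = ⟨n₀, hn₀⟩ := by
    intro n
    by_contra hne
    obtain ⟨-, hb⟩ := CplFin.bijective_pi A (integralClosure A K')
    let c : ∀ n : MaximalSpectrum (integralClosure A K'), Localization.AtPrime n.asIdeal :=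
      Pi.single n 1
    obtain ⟨e, he⟩ := hb.2 c
    have hidem : IsIdempotentElem e := hb.1 (by
      rw [map_mul, he]
      funext k
      by_cases hk : k = n
      · subst hk; simp [c]
      · simp [c, hk])
    rcases IsIdempotentElem.iff_eq_zero_or_one.1 hidem with rfl | rfl
    · have h := congrFun he n
      rw [map_zero] at h
      simp [c] at h
    · have h := congrFun he ⟨n₀, hn₀⟩
      rw [map_one] at h
      simp [c, Ne.symm hne] at h
  haveI hloc : IsLocalRing (integralClosure A K') := IsLocalRing.of_unique_max_ideal
    ⟨n₀, hn₀, fun I hI => congrArg MaximalSpectrum.asIdeal (hu ⟨I, hI⟩)⟩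
  exact ⟨hloc, CplFin.isAdicComplete_local A _⟩

end Groth.Agent.S4564
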