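import Groth.Statements.S0397
import Mathlib.RingTheory.LocalRing.Module

set_option autoImplicit false
universe u
open FlatMor

namespace Groth.Agent.S0397

open scoped TensorProduct

/-- Over a local ring whose maximal ideal is nilpotent, every flat module (not necessarily finitely
generated) is free. -/
theorem result {R M : Type u} [CommRing R] [IsLocalRing R] (hR : IsNilpotent (IsLocalRing.maximalIdeal R))
    [AddCommGroup M] [Module R M] [Module.Flat R M] : Module.Free R M := by
  let k := IsLocalRing.ResidueField R
  let w := Module.Free.chooseBasis k (k ⊗[R] M)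
  obtain ⟨v, eq⟩ := (TensorProduct.mk_surjective R M k Ideal.Quotient.mk_surjective).comp_left w
  have hli : LinearIndependent R v := Module.IsLocalRing.linearIndependent_of_flat _ (by rw [show (TensorProduct.mk R k M 1 ∘ v : _ → _) = w from eq]; exact w.linearIndependent)
  have hsp : Submodule.span R (Set.range v) ⊔ (IsLocalRing.maximalIdeal R) • (⊤ : Submodule R M) = ⊤ := by
    rw [eq_top_iff]
    intro m _
    have hw : ((1 : k) ⊗ₜ[R] m) ∈ (⊤ : Submodule R (k ⊗[R] M)) := trivial
    have h2 : Submodule.map (TensorProduct.mk R k M 1) (Submodule.span R (Set.range v)) = ⊤ := by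
      rw [Submodule.map_span, ← Set.range_comp]
      rw [show (TensorProduct.mk R k M 1 ∘ v : _ → _) = w from eq]
      rw [← Submodule.restrictScalars_span R k Ideal.Quotient.mk_surjective, w.span_eq,
        Submodule.restrictScalars_top]
    obtain ⟨n, hn, hnm⟩ := h2.ge hw
    have hk : m - n ∈ LinearMap.ker (TensorProduct.mk R k M 1) := by
      rw [LinearMap.mem_ker, map_sub, sub_eq_zero]
      exact hnm.symm
    replace hk := (LinearMap.ker_tensorProductMk (I := IsLocalRing.maximalIdeal R) (Q := M)).le hk
    simpa using Submodule.add_mem_sup hn hk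
  obtain ⟨n, hn⟩ := hR
  have : ∀ j : ℕ, Submodule.span R (Set.range v) ⊔ (IsLocalRing.maximalIdeal R) ^ j • (⊤ : Submodule R M) = ⊤ := by
    intro j
    induction j with
    | zero => simp [Ideal.one_eq_top]
    | succ j ih =>
      rw [eq_top_iff]
      conv_lhs => rw [← hsp]
      refine sup_le le_sup_left ?_
      conv_lhs => rw [← ih, Submodule.smul_sup, ← mul_smul, ← pow_succ']
      exact sup_le_sup_right Submodule.smul_le_right _
  have hn' := this n
  rw [hn, Ideal.zero_eq_bot, Submodule.bot_smul, sup_bot_eq] at hn'
  exact Module.Free.of_basis (.mk hli hn'.ge)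

end Groth.Agent.S0397
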