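import Groth.Statements.S4435
-- import your own Groth.Agent.* helpers here

set_option autoImplicit false
universe u
open CategoryTheory CategoryTheory.Limits AlgebraicGeometry
open EGA2

namespace Groth.Agent.S4435

set_option linter.style.haveILetI false
open scoped Polynomial in
theorem integral_of_frac {K L A B : Type*} [Field K] [Field L] [CommRing A] [CommRing B]
    (g : K →+* L) (σ : A →+* K) (φ : A →+* B) (τ : B →+* L)
    (hcomm : ∀ a, g (σ a) = τ (φ a)) (hφ : φ.IsIntegral)
    (hdiv : ∀ l, ∃ b s, l = τ b / τ s) : g.IsIntegral := by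
  have hb : ∀ b, g.IsIntegralElem (τ b) := by
    intro b
    obtain ⟨p, hp, hp0⟩ := hφ b
    refine ⟨p.map σ, hp.map σ, ?_⟩
    rw [Polynomial.eval₂_map, show g.comp σ = τ.comp φ from RingHom.ext hcomm,
      ← Polynomial.hom_eval₂, hp0, map_zero]
  letI := g.toAlgebra
  intro l
  obtain ⟨b, s, rfl⟩ := hdiv l
  show IsIntegral K _
  rw [div_eq_mul_inv]
  exact (show IsIntegral K (τ b) from hb b).mul (IsIntegral.inv (show IsIntegral K (τ s) from hb s))

theorem finite_of_frac {K L A B : Type*} [Field K] [Field L] [CommRing A] [CommRing B]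
    (g : K →+* L) (σ : A →+* K) (φ : A →+* B) (τ : B →+* L)
    (hcomm : ∀ a, g (σ a) = τ (φ a)) (hφ : φ.Finite)
    (hdiv : ∀ l, ∃ b s, l = τ b / τ s) : g.Finite := by
  have hint := integral_of_frac g σ φ τ hcomm hφ.to_isIntegral hdiv
  letI := g.toAlgebra
  letI := φ.toAlgebra
  haveI : Module.Finite A B := hφ
  haveI : Algebra.IsIntegral K L := ⟨fun l => hint l⟩
  obtain ⟨s, hs⟩ := Module.Finite.fg_top (R := A) (M := B)
  have hfg := fg_adjoin_of_finite (R := K) ((s.finite_toSet).image τ) (fun x _ => hint x)
  have hmem : ∀ b, τ b ∈ Algebra.adjoin K (τ '' (s : Set B)) := by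
    intro b
    have hb : b ∈ Submodule.span A (s : Set B) := hs ▸ Submodule.mem_top
    induction hb using Submodule.span_induction with
    | mem x hx => exact Algebra.subset_adjoin ⟨x, hx, rfl⟩
    | zero => simp
    | add x y _ _ hx hy => rw [map_add]; exact add_mem hx hy
    | smul a x _ hx =>
      rw [show a • x = φ a * x from rfl, map_mul, ← hcomm]
      exact mul_mem (Subalgebra.algebraMap_mem _ _) hx
  have htop : Algebra.adjoin K (τ '' (s : Set B)) = ⊤ := by
    refine Algebra.eq_top_iff.2 fun l => ?_
    obtain ⟨b, t, rfl⟩ := hdiv l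
    rw [div_eq_mul_inv]
    exact mul_mem (hmem b) (Subalgebra.inv_mem_of_algebraic _ (x := ⟨τ t, hmem t⟩)
      (show IsAlgebraic K (τ t) from (show IsIntegral K (τ t) from hint _).isAlgebraic))
  rw [htop, Algebra.top_toSubmodule] at hfg
  exact ⟨hfg⟩

/-- Let X, S be integral schemes and f : X ⟶ S a dominant morphism. If f is integral, the field of
rational functions of X is algebraic over that of S; if f is finite, it is a finite extension. Here
the extension is given by the stalk map of f at the generic point of X, whose source is the local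
ring of S at the generic point of S (f being dominant), i.e. the function field of S. -/
theorem result {X S : Scheme.{u}} [IsIntegral X] [IsIntegral S]
    (f : X ⟶ S) [IsDominant f] :
    (IsIntegralHom f → (f.stalkMap (genericPoint X)).hom.IsIntegral) ∧
      (IsFinite f → (f.stalkMap (genericPoint X)).hom.Finite) := by
  have hg : f (genericPoint X) = genericPoint S := by
    refine ((genericPoint_spec S).eq ?_).symm
    have := (genericPoint_spec X).image f.continuous
    rwa [Set.image_univ, f.denseRange.closure_range] at this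
  have key : ∀ (p : S), p = genericPoint S → IsField (S.presheaf.stalk p) := by
    rintro p rfl
    exact Field.toIsField S.functionField
  obtain ⟨_, ⟨U, hU, rfl⟩, hxU, -⟩ :=
    S.isBasis_affineOpens.exists_subset_of_mem_open (Set.mem_univ (f (genericPoint X))) isOpen_univ
  have hη : genericPoint X ∈ f ⁻¹ᵁ U := hxU
  have hcomm : ∀ a, (f.stalkMap (genericPoint X)).hom (S.presheaf.germ U _ hxU a) =
      X.presheaf.germ (f ⁻¹ᵁ U) _ hη ((f.app U).hom a) := fun a =>
    Scheme.Hom.germ_stalkMap_apply f U _ hxU a
  have : Nonempty (f ⁻¹ᵁ U : X.Opens) := ⟨⟨_, hη⟩⟩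
  letI : Field (S.presheaf.stalk (f (genericPoint X))) := (key _ hg).toField
  have hdiv : IsAffineHom f → ∀ l, ∃ b s, l =
      (X.presheaf.germ (f ⁻¹ᵁ U) _ hη).hom b / (X.presheaf.germ (f ⁻¹ᵁ U) _ hη).hom s := by
    intro _ l
    have hV : IsAffineOpen (f ⁻¹ᵁ U) := hU.preimage f
    haveI := functionField_isFractionRing_of_isAffineOpen X _ hV
    obtain ⟨b, s, -, h⟩ := IsFractionRing.div_surjective Γ(X, f ⁻¹ᵁ U)
      (show X.functionField from l)
    exact ⟨b, s, h.symm⟩
  exact ⟨fun hf => integral_of_frac (L := X.functionField) _ _ (f.app U).hom _ hcomm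
      (IsIntegralHom.isIntegral_app f U hU) (hdiv inferInstance),
    fun hf => finite_of_frac (L := X.functionField) _ _ (f.app U).hom _ hcomm
      (IsFinite.finite_app f U hU) (hdiv inferInstance)⟩

end Groth.Agent.S4435
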