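import Groth.Statements.S8527
import Groth.Agent.EtSh.Constructible
import Groth.Agent.Spectral.Basic

set_option autoImplicit false
universe u
open CategoryTheory CategoryTheory.Limits AlgebraicGeometry Opposite
open EtPBC

namespace Groth.Agent.S8527

/-- Let X be a locally Noetherian scheme and F an abelian sheaf on its small etale site. Then F is
constructible if and only if for every point x of X there is a nonempty open subset of the closure
of x along which F becomes finite locally constant; precisely: there are an open V containing x and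
an immersion g : T → X with image V ∩ closure(x) such that the inverse image of F along g is finite
locally constant. -/
theorem result {X : Scheme.{u}} [IsLocallyNoetherian X]
    (F : EtCoh.Ab X) :
    EtPBC.IsConstructible F ↔
      ∀ x : X, ∃ (V : X.Opens) (T : Scheme.{u}) (g : T ⟶ X), IsImmersion g ∧ x ∈ V ∧
        Set.range g.base = (V : Set X) ∩ closure {x} ∧
        EtCoh.IsFiniteLocallyConstant ((EtCoh.pull g).obj F) := by
  constructor
  · intro hF x
    obtain ⟨U, hU, hxU, -⟩ := exists_isAffineOpen_mem_and_subset (x := x) (U := ⊤) trivial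
    obtain ⟨n, T, g, hg, hc, -, hun, hflc⟩ := hF U hU
    obtain ⟨i, hi⟩ := Set.mem_iUnion.1 (hun.ge hxU)
    obtain ⟨O, Z, hO, hZ, hOZ⟩ := (g i).isLocallyClosed_range
    have hxOZ : x ∈ O ∩ Z := hOZ.le hi
    obtain ⟨Y, j, hj, hjr⟩ := EtSh.exists_immersion_of_isLocallyClosed
      (X := X) (E := O ∩ closure {x}) ⟨O, closure {x}, hO, isClosed_closure, rfl⟩
    have hgi := hg i
    refine ⟨⟨O, hO⟩, pullback (g i) j, pullback.snd (g i) j ≫ j, ?_, hxOZ.1, ?_, ?_⟩
    · have : IsImmersion (pullback.snd (g i) j) :=
        MorphismProperty.pullback_snd (P := @IsImmersion) _ _ hgi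
      infer_instance
    · rw [Scheme.Hom.comp_base, TopCat.coe_comp, Set.range_comp, Scheme.Pullback.range_snd,
        Set.image_preimage_eq_inter_range, hjr]
      refine Set.inter_eq_right.2 (fun y hy => hOZ.ge ⟨hy.1, ?_⟩)
      exact closure_minimal (Set.singleton_subset_iff.2 hxOZ.2) hZ hy.2
    · exact EtSh.isFLC_of_iso ((EtCore.pullCongr pullback.condition).app F)
        (EtSh.isFLC_pull_comp _ _ (hflc i))
  · intro h U hU
    choose V T g hg hxV hr hflc using h
    let E : U → Set U := fun x => (Subtype.val : U → X) ⁻¹' Set.range (g x.1)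
    have : IsAffine U.toScheme := hU
    have : CompactSpace U.toScheme := inferInstance
    have hN : TopologicalSpace.NoetherianSpace U.toScheme :=
      have := IsLocallyNoetherian.component_noetherian (X := X) ⟨U, hU⟩
      noetherianSpace_of_isAffineOpen U hU
    have hE : ∀ x, Topology.IsConstructible (E x) := fun x => by
      obtain ⟨O, Z, hO, hZ, e⟩ := (g x.1).isLocallyClosed_range
      have : ∀ O' : Set U.toScheme, IsOpen O' → Topology.IsConstructible O' := fun O' hO' =>
        (show IsRetrocompact O' from fun _ _ _ => TopologicalSpace.NoetherianSpace.isCompact _).isConstructible hO'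
      show Topology.IsConstructible ((Subtype.val : U.toScheme → X) ⁻¹' Set.range (g x.1))
      rw [e, Set.preimage_inter]
      exact (this _ (hO.preimage continuous_subtype_val)).inter
        (Topology.IsConstructible.of_compl (this _ (hZ.preimage continuous_subtype_val).isOpen_compl))
    obtain ⟨t, ht⟩ : ∃ t : Finset U, (Set.univ : Set U) ⊆ ⋃ x ∈ t, E x := by
      have hcl := fun x => Groth.Agent.Spectral.isClopen_con_of_isConstructible (X := U.toScheme) (hE x)
      have hK := @CompactSpace.isCompact_univ U.toScheme (constructibleTopology U.toScheme)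
        Groth.Agent.Spectral.compactSpace_con
      exact @IsCompact.elim_finite_subcover U.toScheme (constructibleTopology U.toScheme) _ _ hK E
        (fun x => (hcl x).2) fun x _ => Set.mem_iUnion.2 ⟨x, (hr x.1).ge ⟨hxV _, subset_closure rfl⟩⟩
    refine EtSh.adaptedStrata_of_cover F U (fun a : t => g a.1.1) (fun a => hE a.1) ?_ fun a => hflc a.1.1
    intro y hy
    obtain ⟨x, hx, hxy⟩ := Set.mem_iUnion₂.1 (ht (Set.mem_univ ⟨y, hy⟩))
    exact Set.mem_iUnion.2 ⟨⟨x, hx⟩, hxy⟩

end Groth.Agent.S8527
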