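import Groth.Statements.S3116
import Groth.Agent.EtSh.StalkCard
import Groth.Agent.S8527

set_option autoImplicit false
universe u
open CategoryTheory CategoryTheory.Limits AlgebraicGeometry Opposite
open EtPBC

namespace Groth.Agent.S3116

/-- For abelian sheaves: let X be locally noetherian and F an abelian sheaf on the small etale site of X
whose geometric stalks (at all geometric points with separably closed residue field) are finite.
Then F is constructible if and only if for every natural number n the set of points x of X such that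
the stalk of F at some geometric point over x has exactly n elements is locally constructible. -/
theorem result (X : Scheme.{u}) [IsLocallyNoetherian X] (F : EtCoh.Ab X)
    (hfin : ∀ (Ω : Type u) [Field Ω] [IsSepClosed Ω] (ξ : Spec (CommRingCat.of Ω) ⟶ X),
      Finite ((EtCoh.stalk ξ).obj F)) :
    EtPBC.IsConstructible F ↔ ∀ n : ℕ, Topology.IsLocallyConstructible
      {x : X | ∃ (Ω : Type u) (_ : Field Ω) (_ : IsSepClosed Ω) (ξ : Spec (CommRingCat.of Ω) ⟶ X),
        Set.range ξ = {x} ∧ Nat.card ((EtCoh.stalk ξ).obj F) = n} := by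
  classical
  constructor
  · intro hF n x
    obtain ⟨U, hU, hxU, -⟩ := exists_isAffineOpen_mem_and_subset (x := x) (U := ⊤) trivial
    refine ⟨(U : Set X), U.2.mem_nhds hxU, U.2, ?_⟩
    obtain ⟨m, T, g, hg, -, -, hun, hflc⟩ := hF U hU
    have hN : TopologicalSpace.NoetherianSpace U.toScheme :=
      have := IsLocallyNoetherian.component_noetherian (X := X) ⟨U, hU⟩
      noetherianSpace_of_isAffineOpen U hU
    let S : Set X := {x : X | ∃ (Ω : Type u) (_ : Field Ω) (_ : IsSepClosed Ω) (ξ : Spec (CommRingCat.of Ω) ⟶ X),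
        Set.range ξ = {x} ∧ Nat.card ((EtCoh.stalk ξ).obj F) = n}
    have hlc : ∀ i, IsLocallyClosed (Set.range (g i) ∩ S) := by
      intro i
      have := hg i
      have hopen : IsOpen ((g i).base ⁻¹' S) := isOpen_iff_forall_mem_open.2 fun t ht => by
        obtain ⟨W, y, hy, M, _, _, e, he⟩ := (EtSh.isFLC_iff_trivializes _).1 (hflc i) t
        have : Etale W.hom := W.prop
        have hcard : ∀ (Ω : Type u) [Field Ω] [IsSepClosed Ω] (ξ : Spec (CommRingCat.of Ω) ⟶ X) (w : W.left),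
            ξ.base default = g i (W.hom w) → Nat.card ((EtCoh.stalk ξ).obj F) = Nat.card M := by
          intro Ω _ _ ξ w hξ
          obtain ⟨ζ, rfl⟩ := EtSh.exists_lift_immersion (g i) ξ ⟨_, hξ.symm⟩
          obtain ⟨v, -⟩ := EtSh.exists_fib (ξ := ζ) w ((g i).isEmbedding.injective hξ).symm
          exact (Nat.card_congr ((EtSh.stalkPullIso (g i) ζ).app F).addCommGroupIsoToAddEquiv.toEquiv).symm.trans
            (Nat.card_eq_of_bijective _ (he Ω ζ v)).symm
        refine ⟨Set.range W.hom, ?_, W.hom.isOpenMap.isOpen_range, ⟨y, hy⟩⟩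
        rintro _ ⟨w, rfl⟩
        obtain ⟨Ω, _, _, ξ, hξ⟩ := EtSh.exists_geometric_point (g i (W.hom w))
        obtain ⟨Ω', _, _, ξ', hξ', hn⟩ := ht
        refine ⟨Ω, inferInstance, inferInstance, ξ, hξ, ?_⟩
        rw [hcard Ω ξ w (Set.eq_of_mem_singleton (hξ.le ⟨default, rfl⟩)), ← hn,
          hcard Ω' ξ' y (by rw [hy]; exact Set.eq_of_mem_singleton (hξ'.le ⟨default, rfl⟩))]
      obtain ⟨O, hO, hOe⟩ := (g i).isEmbedding.isInducing.isOpen_iff.1 hopen
      obtain ⟨O', Z, hO', hZ, e'⟩ := (g i).isLocallyClosed_range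
      refine ⟨O ∩ O', Z, hO.inter hO', hZ, ?_⟩
      rw [← Set.image_preimage_eq_range_inter, ← hOe, Set.image_preimage_eq_range_inter, e']
      ext z
      simp only [Set.mem_inter_iff]
      tauto
    have e : (Subtype.val : ↥(U : Set X) → X) ⁻¹' S =
        ⋃ i, (Subtype.val : ↥(U : Set X) → X) ⁻¹' (Set.range (g i) ∩ S) := by
      rw [← Set.preimage_iUnion, ← Set.iUnion_inter, hun, Set.preimage_inter,
        Subtype.coe_preimage_self, Set.univ_inter]
    show Topology.IsConstructible ((Subtype.val : U.toScheme → X) ⁻¹' S)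
    refine e ▸ Topology.IsConstructible.iUnion fun i => ?_
    obtain ⟨O, Z, hO, hZ, e'⟩ := hlc i
    have hop : ∀ O' : Set U.toScheme, IsOpen O' → Topology.IsConstructible O' := fun O' hO' =>
      (show IsRetrocompact O' from fun _ _ _ => TopologicalSpace.NoetherianSpace.isCompact _).isConstructible hO'
    show Topology.IsConstructible ((Subtype.val : U.toScheme → X) ⁻¹' _)
    rw [e', Set.preimage_inter]
    exact (hop _ (hO.preimage continuous_subtype_val)).inter
      (Topology.IsConstructible.of_compl (hop _ (hZ.preimage continuous_subtype_val).isOpen_compl))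
  · intro h
    refine (Groth.Agent.S8527.result F).2 fun x => ?_
    obtain ⟨T, g, hg, hgr⟩ := EtSh.exists_immersion_of_isLocallyClosed
      (X := X) (E := closure {x}) isClosed_closure.isLocallyClosed
    obtain ⟨t, ht⟩ : x ∈ Set.range g := hgr.ge (subset_closure rfl)
    let G := (EtCoh.pull g).obj F
    obtain ⟨Ωx, _, _, ξx, hξx⟩ := EtSh.exists_geometric_point t
    have hgfin : ∀ (Ω : Type u) [Field Ω] [IsSepClosed Ω] (ζ : Spec (CommRingCat.of Ω) ⟶ T),
        Finite ((EtCoh.stalk ζ).obj G) := fun Ω _ _ ζ =>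
      have := hfin Ω (ζ ≫ g)
      Finite.of_equiv _ ((EtSh.stalkPullIso g ζ).app F).addCommGroupIsoToAddEquiv.toEquiv.symm
    have := hgfin Ωx ξx
    obtain ⟨M, _, _, W, w₀, e, he⟩ := EtSh.exists_hom_sections G ξx
    have hwt : W.hom (EtSh.fpt w₀) = t := (EtSh.hom_fpt w₀).trans
      (Set.eq_of_mem_singleton (hξx.le ⟨default, rfl⟩))
    have hgen : ∀ t' : T, t ⤳ t' := fun t' => g.isEmbedding.isInducing.specializes_iff.1
      (ht ▸ specializes_iff_mem_closure.2 (hgr.le ⟨t', rfl⟩))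
    obtain ⟨O₁, hwO₁, hO₁⟩ := EtSh.exists_open_specializes W (EtSh.fpt w₀) fun t' => hwt.symm ▸ hgen t'
    obtain ⟨U, hU, hUo, hUc⟩ := h (Nat.card M) x
    let S : Set X := {x : X | ∃ (Ω : Type u) (_ : Field Ω) (_ : IsSepClosed Ω) (ξ : Spec (CommRingCat.of Ω) ⟶ X),
        Set.range ξ = {x} ∧ Nat.card ((EtCoh.stalk ξ).obj F) = Nat.card M}
    have hxS : x ∈ S := by
      refine ⟨Ωx, inferInstance, inferInstance, ξx ≫ g, ?_, ?_⟩
      · rw [Scheme.Hom.comp_base, TopCat.coe_comp, Set.range_comp, hξx, Set.image_singleton, ht]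
      · exact (Nat.card_congr ((EtSh.stalkPullIso g ξx).app F).addCommGroupIsoToAddEquiv.toEquiv).symm.trans
          (Nat.card_eq_of_bijective _ he).symm
    obtain ⟨V, hV, hxV, hVS⟩ : ∃ V : Set X, IsOpen V ∧ x ∈ V ∧ V ∩ closure {x} ⊆ S := by
      obtain ⟨hxU, hxUn⟩ := (⟨mem_of_mem_nhds hU, hU⟩ : x ∈ U ∧ U ∈ nhds x)
      have key : ∀ {E : Set U}, Topology.IsConstructible E → (⟨x, hxU⟩ : U) ∈ E →
          ∃ V : Set X, IsOpen V ∧ x ∈ V ∧ V ∩ closure {x} ⊆ Subtype.val '' E := by
        intro E hE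
        refine ConstrSets.sdiff_union_induction (p := fun E : Set U => (⟨x, hxU⟩ : U) ∈ E →
          ∃ V : Set X, IsOpen V ∧ x ∈ V ∧ V ∩ closure {x} ⊆ Subtype.val '' E) ?_ ?_ hE
        · intro A B hA _ hB _ hxAB
          refine ⟨Subtype.val '' A, hUo.isOpenMap_subtype_val A hA, ⟨_, hxAB.1, rfl⟩, ?_⟩
          rintro _ ⟨⟨z, hz, rfl⟩, hzc⟩
          refine ⟨z, ⟨hz, fun hzB => hxAB.2 ?_⟩, rfl⟩
          have : (⟨x, hxU⟩ : U) ⤳ z := Topology.IsInducing.subtypeVal.specializes_iff.1
            (specializes_iff_mem_closure.2 hzc)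
          exact this.mem_open hB hzB
        · intro s s' hs hs' hx
          rcases hx with hx | hx
          · obtain ⟨V, h1, h2, h3⟩ := hs hx
            exact ⟨V, h1, h2, h3.trans (Set.image_mono Set.subset_union_left)⟩
          · obtain ⟨V, h1, h2, h3⟩ := hs' hx
            exact ⟨V, h1, h2, h3.trans (Set.image_mono Set.subset_union_right)⟩
      obtain ⟨V, h1, h2, h3⟩ := key hUc hxS
      exact ⟨V, h1, h2, h3.trans (Set.image_preimage_subset _ _)⟩
    let O : W.left.Opens := O₁ ⊓ ⟨W.hom ⁻¹' (g ⁻¹' V), (hV.preimage g.continuous).preimage W.hom.continuous⟩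
    let W' := EtSh.pieceObj W O
    let π := EtSh.pieceIncl W O
    have : Etale W'.hom := W'.prop
    obtain ⟨a⟩ := EtSh.trivializes_iso_of_exists G W' M (e := (G.obj.map π.op).hom.comp e) fun y => by
      obtain ⟨Ω, _, _, ξ, hξ, hn⟩ := hVS ⟨y.2.2, hgr.le ⟨_, rfl⟩⟩
      have hξy : ξ.base default = g (W'.hom y) := Set.eq_of_mem_singleton (hξ.le ⟨default, rfl⟩)
      obtain ⟨ζ, rfl⟩ := EtSh.exists_lift_immersion g ξ ⟨_, hξy.symm⟩
      obtain ⟨v, hv⟩ := EtSh.exists_fib (ξ := ζ) y (g.isEmbedding.injective hξy).symm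
      refine ⟨Ω, inferInstance, inferInstance, ζ, v, hv, ?_⟩
      have := hgfin Ω ζ
      have hc : Nat.card M = Nat.card ((EtCoh.stalk ζ).obj G) := hn.symm.trans
        (Nat.card_congr ((EtSh.stalkPullIso g ζ).app F).addCommGroupIsoToAddEquiv.toEquiv).symm
      refine (Nat.bijective_iff_injective_and_card _).2 ⟨?_, hc⟩
      let ψ : M →+ ((EtCoh.stalk ζ).obj G) := (EtSh.germ ζ G v).hom.comp ((G.obj.map π.op).hom.comp e)
      refine (injective_iff_map_eq_zero ψ).2 fun m hm => ?_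
      change EtSh.germ ζ G v (G.obj.map π.op (e m)) = 0 at hm
      rw [EtSh.germ_map, EtSh.germ_eq_zero_iff] at hm
      obtain ⟨W'', k, z, hz, hk⟩ := hm
      have : Etale k.left := EtSh.etale_left k
      have hsp : EtSh.fpt w₀ ⤳ EtSh.fpt ((Scheme.pointSmallEtale ζ).fiber.map π v) := by
        rw [EtSh.map_fpt, hv]
        exact hO₁ _ y.2.1
      obtain ⟨z', hz'⟩ := hsp.mem_open k.left.isOpenMap.isOpen_range ⟨z, hz⟩
      obtain ⟨w', hw'⟩ := EtSh.exists_fib_map k z' w₀ hz'
      refine he.1 ?_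
      show EtSh.germ ξx G w₀ (e m) = EtSh.germ ξx G w₀ (e 0)
      rw [map_zero, map_zero, ← hw', ← EtSh.germ_map, hk, map_zero]
    let O₂ : T.Opens := ⟨Set.range W'.hom, W'.hom.isOpenMap.isOpen_range⟩
    obtain ⟨V', hV', hV'e⟩ := g.isEmbedding.isInducing.isOpen_iff.1 O₂.2
    have htO₂ : t ∈ O₂ := ⟨⟨EtSh.fpt w₀, hwO₁, show g (W.hom (EtSh.fpt w₀)) ∈ V by rwa [hwt, ht]⟩, hwt⟩
    refine ⟨⟨V', hV'⟩, O₂.toScheme, O₂.ι ≫ g, inferInstance, ?_, ?_, ?_⟩
    · rw [← ht]
      exact hV'e.ge htO₂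
    · rw [Scheme.Hom.comp_base, TopCat.coe_comp, Set.range_comp, O₂.range_ι, ← hgr]
      show g '' (O₂ : Set T) = V' ∩ Set.range g
      rw [← Set.image_preimage_eq_inter_range, hV'e]
      rfl
    · let q : W'.left ⟶ O₂.toScheme := IsOpenImmersion.lift O₂.ι W'.hom (by rw [O₂.range_ι]; rfl)
      have hq : q ≫ O₂.ι = W'.hom := IsOpenImmersion.lift_fac _ _ _
      have : Etale q := by
        have : Etale (q ≫ O₂.ι) := hq ▸ inferInstance
        exact Etale.of_comp q O₂.ι
      have : Surjective q := ⟨fun z => by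
        obtain ⟨y, hy⟩ := z.2
        exact ⟨y, O₂.ι.isOpenEmbedding.injective
          ((congrArg (fun r : W'.left ⟶ T => r.base y) hq).trans hy)⟩⟩
      refine EtSh.isFLC_of_pull_surjective q ?_
      refine EtSh.isFLC_of_iso ((EtCore.pullComp q (O₂.ι ≫ g)).app F) ?_
      refine EtSh.isFLC_of_iso ((EtCore.pullCongr (show W'.hom ≫ g = q ≫ O₂.ι ≫ g by
        rw [← Category.assoc, hq])).app F) ?_
      refine EtSh.isFLC_of_iso ((EtCore.pullComp W'.hom g).symm.app F) ?_
      exact EtSh.isFLC_of_iso a.symm (EtSh.isFLC_const M)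

end Groth.Agent.S3116
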