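import Groth.Statements.S9633
import Mathlib
-- import your own Groth.Agent.* helpers here

set_option autoImplicit false
universe u
open CAlg

namespace Groth.Agent.S9633

/-- For a ring R with spectrum X the following are equivalent: (1) X is profinite, i.e. compact,
Hausdorff and totally disconnected; (2) X is Hausdorff; (3) X is totally disconnected; (4) every
quasi-compact open subset of X is closed; (5) there are no nontrivial inclusions among prime ideals
of R; (6) every prime ideal of R is maximal; (7) every prime ideal of R is a minimal prime; (8)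
every standard open D(f) is closed. -/
theorem result {R : Type u} [CommRing R] :
    [CompactSpace (PrimeSpectrum R) ∧ T2Space (PrimeSpectrum R) ∧ TotallyDisconnectedSpace (PrimeSpectrum R),
      T2Space (PrimeSpectrum R),
      TotallyDisconnectedSpace (PrimeSpectrum R),
      ∀ W : Set (PrimeSpectrum R), IsOpen W → IsCompact W → IsClosed W,
      ∀ p q : PrimeSpectrum R, p ≤ q → p = q,
      ∀ p : Ideal R, p.IsPrime → p.IsMaximal,
      ∀ p : Ideal R, p.IsPrime → p ∈ minimalPrimes R,
      ∀ f : R, IsClosed (PrimeSpectrum.basicOpen f : Set (PrimeSpectrum R))].TFAE := by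
  tfae_have 1 → 2 := fun h => h.2.1
  tfae_have 1 → 3 := fun h => h.2.2
  tfae_have 2 → 6 := fun h p hp =>
    (PrimeSpectrum.isClosed_singleton_iff_isMaximal ⟨p, hp⟩).mp isClosed_singleton
  tfae_have 3 → 6 := fun h p hp =>
    (PrimeSpectrum.isClosed_singleton_iff_isMaximal ⟨p, hp⟩).mp isClosed_singleton
  tfae_have 6 → 7 := fun h p hp =>
    ⟨⟨hp, bot_le⟩, fun q hq hqp => ((h q hq.1).eq_of_le hp.ne_top hqp).ge⟩
  tfae_have 7 → 5 := fun h p q hpq =>
    PrimeSpectrum.ext (le_antisymm hpq ((h q.asIdeal q.2).2 ⟨p.2, bot_le⟩ hpq))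
  tfae_have 5 → 8 := fun h f => by
    refine PrimeSpectrum.isClosed_of_stableUnderSpecialization_of_isConstructible ?_ ?_
    · intro x y hxy hx
      rw [← PrimeSpectrum.le_iff_specializes] at hxy
      exact h x y hxy ▸ hx
    · exact (isCompact_iff_compactSpace.mpr (isCompact_iff_compactSpace.mp
        (PrimeSpectrum.isCompact_basicOpen f))).isConstructible PrimeSpectrum.isOpen_basicOpen
  tfae_have 8 → 4 := fun h W hWo hWc => by
    obtain ⟨t, rfl⟩ := PrimeSpectrum.isCompact_isOpen_iff.mp ⟨hWc, hWo⟩
    have : (PrimeSpectrum.zeroLocus (t : Set R))ᶜ = ⋃ f ∈ t, (PrimeSpectrum.basicOpen f : Set _) := by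
      ext x; simp [PrimeSpectrum.mem_zeroLocus, Set.subset_def]
    rw [this]
    exact isClosed_biUnion_finset fun f _ => h f
  tfae_have 4 → 1 := fun h => by
    have : TotallySeparatedSpace (PrimeSpectrum R) := by
      refine totallySeparatedSpace_iff_exists_isClopen.mpr fun x y hxy => ?_
      have hcl : ∀ f : R, IsClopen (PrimeSpectrum.basicOpen f : Set (PrimeSpectrum R)) := fun f =>
        ⟨h _ PrimeSpectrum.isOpen_basicOpen (PrimeSpectrum.isCompact_basicOpen f),
          PrimeSpectrum.isOpen_basicOpen⟩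
      by_cases hle : x.asIdeal ≤ y.asIdeal
      · have hnle : ¬ y.asIdeal ≤ x.asIdeal := fun hle' => hxy (PrimeSpectrum.ext (le_antisymm hle hle'))
        obtain ⟨f, hfy, hfx⟩ := SetLike.not_le_iff_exists.mp hnle
        exact ⟨_, hcl f, hfx, fun hc => hc hfy⟩
      · obtain ⟨f, hfx, hfy⟩ := SetLike.not_le_iff_exists.mp hle
        exact ⟨_, (hcl f).compl, fun hc => hc hfx, fun hc => hc hfy⟩
    exact ⟨inferInstance, inferInstance, inferInstance⟩
  tfae_finish

end Groth.Agent.S9633
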