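import Groth.Statements.S0737
import Groth.Agent.WLoc.Along
import Groth.Agent.S9633
import Groth.Agent.WLoc.SpecMap
import Mathlib.RingTheory.Algebraic.Integral

set_option autoImplicit false
open CategoryTheory CategoryTheory.Limits AlgebraicGeometry Opposite Topology
universe u
open ProEtW

namespace Groth.Agent.S0737

/-- Let Spec A be w-local with radical ideal I cutting out its closed points, and A -> B inducing
algebraic residue field extensions. Then (1) every point of V(IB) is closed in Spec B, and (2) there
is an ind-Zariski B-algebra C with B/IB -> C/IC bijective, Spec C w-local, Spec C -> Spec A w-local,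
and closed points of Spec C exactly the points over closed points of Spec A. -/
theorem result (A B : Type u) [CommRing A]
    [CommRing B] [Algebra A B] (hA : ProEtW.IsWLocal (PrimeSpectrum A)) (I : Ideal A) (hI : I.IsRadical)
    (hI0 : PrimeSpectrum.zeroLocus (R := A) I = ProEtW.closedPoints (PrimeSpectrum A))
    (h : ProEtW.AlgebraicResidueExtensions A B) :
    PrimeSpectrum.zeroLocus (R := B) (I.map (algebraMap A B)) ⊆ ProEtW.closedPoints (PrimeSpectrum B) ∧
    ∃ (C : Type u) (_ : CommRing C) (_ : Algebra B C) (_ : Algebra A C) (_ : IsScalarTower A B C),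
      EtPBC.IsIndZariski B C ∧
      Function.Bijective (Ideal.quotientMap ((I.map (algebraMap A B)).map (algebraMap B C))
        (algebraMap B C) Ideal.le_comap_map) ∧
      ProEtW.IsWLocal (PrimeSpectrum C) ∧
      ProEtW.IsWLocalMap (PrimeSpectrum.comap (algebraMap A C)) ∧
      ProEtW.closedPoints (PrimeSpectrum C) =
        PrimeSpectrum.comap (algebraMap A C) ⁻¹' ProEtW.closedPoints (PrimeSpectrum A) := by
  have hmax : ∀ P : Ideal B, P.IsPrime → I.map (algebraMap A B) ≤ P → P.IsMaximal := by
    intro P hP hle
    have hp : (⟨P.comap (algebraMap A B), inferInstance⟩ : PrimeSpectrum A) ∈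
        ProEtW.closedPoints (PrimeSpectrum A) := by
      rw [← hI0]; exact fun x hx => hle (Ideal.mem_map_of_mem _ hx)
    have hm : (P.comap (algebraMap A B)).IsMaximal :=
      (PrimeSpectrum.isClosed_singleton_iff_isMaximal _).mp hp
    have := h P
    let := Ideal.Quotient.field (P.comap (algebraMap A B))
    have : Algebra.IsIntegral (A ⧸ P.comap (algebraMap A B)) (B ⧸ P) :=
      Algebra.isAlgebraic_iff_isIntegral.mp ‹_›
    exact Ideal.Quotient.maximal_of_isField P
      (isField_of_isIntegral_of_isField' (Field.toIsField (A ⧸ P.comap (algebraMap A B))))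
  refine ⟨fun P hP => (PrimeSpectrum.isClosed_singleton_iff_isMaximal _).mpr (hmax _ P.2 hP), ?_⟩
  let J := I.map (algebraMap A B)
  have hemb := PrimeSpectrum.isClosedEmbedding_comap_of_surjective _ (Ideal.Quotient.mk J)
    Ideal.Quotient.mk_surjective
  have hmax' : ∀ q : Ideal (B ⧸ J), q.IsPrime → q.IsMaximal := fun q hq => by
    have h1 := hmax (q.comap (Ideal.Quotient.mk J)) inferInstance fun x hx => by
      rw [Ideal.mem_comap, Ideal.Quotient.eq_zero_iff_mem.mpr hx]; exact zero_mem _
    rw [← Ideal.map_comap_of_surjective _ Ideal.Quotient.mk_surjective q]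
    exact (Ideal.map_eq_top_or_isMaximal_of_surjective _ Ideal.Quotient.mk_surjective h1).resolve_left
      (by rw [Ideal.map_comap_of_surjective _ Ideal.Quotient.mk_surjective]; exact hq.ne_top)
  obtain ⟨hc, ht, htd⟩ := ((Groth.Agent.S9633.result (R := B ⧸ J)).out 5 0).mp hmax'
  have hrange : Set.range (PrimeSpectrum.comap (Ideal.Quotient.mk J)) =
      PrimeSpectrum.zeroLocus (R := B) J := by
    rw [range_comap_of_surjective _ _ Ideal.Quotient.mk_surjective, Ideal.mk_ker]
  let e : PrimeSpectrum (B ⧸ J) ≃ₜ PrimeSpectrum.zeroLocus (R := B) J :=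
    hemb.isEmbedding.toHomeomorph.trans (Homeomorph.setCongr hrange)
  obtain ⟨C, _, _, hC1, hC2, hC3, hC4⟩ := Groth.Agent.WLoc.exists_indZariski_along J
    ⟨e.compactSpace, e.t2Space, e.symm.isEmbedding.isTotallyDisconnected_range.mp (by
      exact (isTotallyDisconnected_of_totallyDisconnectedSpace _))⟩
  let algAC : Algebra A C := ((algebraMap B C).comp (algebraMap A B)).toAlgebra
  have : IsScalarTower A B C := IsScalarTower.of_algebraMap_eq' rfl
  have hpre : ProEtW.closedPoints (PrimeSpectrum C) =
      PrimeSpectrum.comap (algebraMap A C) ⁻¹' ProEtW.closedPoints (PrimeSpectrum A) := by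
    rw [hC3, ← hI0, PrimeSpectrum.preimage_comap_zeroLocus, Ideal.map_map, Ideal.map,
      PrimeSpectrum.zeroLocus_span]
    rfl
  exact ⟨C, inferInstance, inferInstance, algAC, this, hC1, hC4, hC2,
    ⟨Groth.Agent.WLoc.isSpectralMap_comap _, fun x hx => hpre.le hx⟩, hpre⟩

end Groth.Agent.S0737
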