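import Groth.Statements.S16765
import Groth.Agent.Unram.Mono
import Groth.Agent.UnramFibre.Basic


set_option autoImplicit false
universe u
open Unram17

namespace Groth.Agent.S16765

open AlgebraicGeometry CategoryTheory CategoryTheory.Limits in
/-- Let g : Y → S and h : X → S be locally of finite presentation, f : X → Y an S-morphism (f ≫ g = h;
in particular f is locally of finite presentation, so unramified amounts to formally unramified),
and x a point of X with image s = h(x). Then f is unramified at x (formally unramified on an open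
neighbourhood of x) if and only if the induced morphism of fibres X_s → Y_s is unramified at the
point of X_s lying over x. No flatness is needed. -/
theorem result {X Y S : Scheme.{u}} (g : Y ⟶ S) (h : X ⟶ S)
    [LocallyOfFinitePresentation g] [LocallyOfFinitePresentation h] (f : X ⟶ Y) (w : f ≫ g = h)
    (x : ↥X)
    (x' : ↥(h.fiber (h x))) (hx' : (h.fiberι (h x)) x' = x) :
    (∃ U : X.Opens, x ∈ U ∧ FormallyUnramified (U.ι ≫ f)) ↔
      ∃ V : (h.fiber (h x)).Opens, x' ∈ V ∧ FormallyUnramified (V.ι ≫ CohIII.fiberMapOver f h g w (h x)) := by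
  have : LocallyOfFiniteType (f ≫ g) := w ▸ inferInstance
  have := locallyOfFiniteType_of_comp f g
  let F := CohIII.fiberMapOver f h g w (h x)
  let s := S.fromSpecResidueField (h x)
  have hF : IsPullback (h.fiberι (h x)) F f (g.fiberι (h x)) := by
    refine IsPullback.of_bot (h₃₁ := s) (v₂₁ := g.fiberToSpecResidueField (h x)) (v₂₂ := g) ?_
      (pullback.lift_fst _ _ _).symm (IsPullback.of_hasPullback g s)
    have hsnd : F ≫ g.fiberToSpecResidueField (h x) = h.fiberToSpecResidueField (h x) :=
      (pullback.lift_snd _ _ _).trans (Category.comp_id _)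
    rw [hsnd, w]
    exact IsPullback.of_hasPullback h s
  have : LocallyOfFiniteType F := MorphismProperty.of_isPullback hF.flip.flip inferInstance
  constructor
  · rintro ⟨U, hxU, hU⟩
    refine ⟨h.fiberι (h x) ⁻¹ᵁ U, show h.fiberι (h x) x' ∈ U by rw [hx']; exact hxU, ?_⟩
    exact MorphismProperty.of_isPullback
      ((isPullback_morphismRestrict (h.fiberι (h x)) U).flip.paste_horiz hF.flip).flip hU
  · intro H
    rw [Groth.Agent.Unram.unramified_nhd_iff] at H ⊢
    obtain ⟨z, rfl⟩ : ∃ z, hF.isoPullback.inv z = x' :=
      ⟨hF.isoPullback.hom x', by rw [← Scheme.Hom.comp_apply, Iso.hom_inv_id]; rfl⟩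
    have hz : pullback.fst f (g.fiberι (h x)) z = x :=
      (congrArg (fun (m : pullback f (g.fiberι (h x)) ⟶ X) => m z) hF.isoPullback_inv_fst).symm.trans
        hx'
    have := Groth.Agent.UnramFibre.formallyUnramified_stalkMap_of_baseChange f
      (g.fiberι (h x)) z ?_
    · exact hz ▸ this
    · rw [← hF.isoPullback_inv_snd, Scheme.Hom.stalkMap_comp]
      exact (RingHom.FormallyUnramified.respectsIso.cancel_right_isIso _
        (hF.isoPullback.inv.stalkMap z)).mpr H

end Groth.Agent.S16765
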