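import Groth.Statements.S1859
import Mathlib.LinearAlgebra.Dimension.Free
import Mathlib.AlgebraicGeometry.AlgebraicCycle.Basic

namespace Groth.Agent.S1859
open AlgebraicGeometry CategoryTheory

theorem residueDegree_comp.{v} {X Y Z : Scheme.{v}} (f : X ⟶ Y) (g : Y ⟶ Z) (x : X) :
    (f ≫ g).residueDegree x = g.residueDegree (f x) * f.residueDegree x := by
  let K := Z.residueField (g (f x))
  let L := Y.residueField (f x)
  let M := X.residueField x
  letI : Algebra K L := (g.residueFieldMap (f x)).hom.toAlgebra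
  letI : Algebra L M := (f.residueFieldMap x).hom.toAlgebra
  letI : Algebra K M := ((f ≫ g).residueFieldMap x).hom.toAlgebra
  have : IsScalarTower K L M := IsScalarTower.of_algebraMap_eq fun a => by
    show ((f ≫ g).residueFieldMap x).hom a = (f.residueFieldMap x).hom ((g.residueFieldMap (f x)).hom a)
    rw [Scheme.residueFieldMap_comp]
    rfl
  exact (Module.finrank_mul_finrank K L M).symm

/-- The points of a locally finite cycle above a point, for a quasi-compact morphism. -/
theorem finite_fibre_support.{v} {X Y : Scheme.{v}} (f : X ⟶ Y) [QuasiCompact f] (α : AlgebraicCycle X ℤ) (z : Y) :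
    ({x : X | f x = z ∧ α x ≠ 0}).Finite := by
  obtain ⟨U, hU⟩ := (PrespectralSpace.isTopologicalBasis (X := Y)).exists_subset_of_mem_open
    (show z ∈ (Set.univ : Set Y) from trivial) isOpen_univ
  exact (α.locallyFiniteSupport.finite_inter_support_of_isCompact (f.isSpectralMap.2 hU.1.1 hU.1.2)).subset
    fun x hx => ⟨by show f x ∈ U; rw [hx.1]; exact hU.2.1, hx.2⟩

theorem map_apply_finset.{v} {X Y : Scheme.{v}} (f : X ⟶ Y) [QuasiCompact f] (wx : X → ℤ) (wy : Y → ℤ)
    (α : AlgebraicCycle X ℤ) (z : Y) (s : Finset X) (hs : ∀ x, f x = z → α x ≠ 0 → x ∈ s)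
    (hs' : ∀ x ∈ s, f x = z) :
    AlgebraicCycle.map f wx wy α z = ∑ x ∈ s, α x * (AlgebraicCycle.mapCoeff f wx wy x : ℤ) := by
  show (∑ᶠ x ∈ ((f : X → Y) ⁻¹' {z}), α x * _) = _
  rw [finsum_mem_eq_sum_of_inter_support_eq]
  ext x
  simp only [Set.mem_inter_iff, Set.mem_preimage, Set.mem_singleton_iff, Function.mem_support, Finset.mem_coe]
  exact ⟨fun h => ⟨hs x h.1 (left_ne_zero_of_mul h.2), h.2⟩, fun h => ⟨hs' x h.1, h.2⟩⟩

theorem mapCoeff_comp.{v} {X Y Z : Scheme.{v}} (f : X ⟶ Y) (g : Y ⟶ Z) (δX : X → ℤ) (δY : Y → ℤ) (δZ : Z → ℤ)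
    (hf : Cyc.DeltaCompat f δX δY) (hg : Cyc.DeltaCompat g δY δZ) (x : X) :
    AlgebraicCycle.mapCoeff (f ≫ g) δX δZ x =
      AlgebraicCycle.mapCoeff g δY δZ (f x) * AlgebraicCycle.mapCoeff f δX δY x := by
  obtain ⟨a, -, ha⟩ := hf x
  obtain ⟨b, -, hb⟩ := hg (f x)
  unfold AlgebraicCycle.mapCoeff
  by_cases h : δX x = δZ ((f ≫ g) x)
  · have h' : δX x = δZ (g (f x)) := h
    rw [if_pos h, if_pos (show δX x = δY (f x) by omega), if_pos (show δY (f x) = δZ (g (f x)) by omega)]
    exact residueDegree_comp f g x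
  · rw [if_neg h]
    by_cases h1 : δX x = δY (f x)
    · rw [if_neg (show ¬ δY (f x) = δZ (g (f x)) from fun e => h (h1.trans e)), zero_mul]
    · rw [if_neg h1, mul_zero]

end Groth.Agent.S1859

set_option autoImplicit false
universe u
open CategoryTheory AlgebraicGeometry
open Cyc

namespace Groth.Agent.S1859

/-- For proper morphisms f : X → Y and g : Y → Z and a k-cycle α on X, g_*(f_*α) = (g ∘ f)_*α. Here a
pair (X, δ) with Cyc.IsSetup plays the role of a scheme locally of finite type over a fixed base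
with a dimension function (X locally Noetherian with universally catenary local rings, δ a dimension
function), and Cyc.DeltaCompat records that the dimension function upstairs is the induced one. -/
theorem result (X Y Z : Scheme.{u}) (δX : X → ℤ) (δY : Y → ℤ) (δZ : Z → ℤ) (hX : Cyc.IsSetup X δX) (hY : Cyc.IsSetup Y δY) (hZ : Cyc.IsSetup Z δZ) (f : X ⟶ Y) (g : Y ⟶ Z) [IsProper f] [IsProper g] (hf : Cyc.DeltaCompat f δX δY) (hg : Cyc.DeltaCompat g δY δZ) (k : ℤ) (α : AlgebraicCycle X ℤ) (hα : α ∈ Cyc.Zk X δX k) : AlgebraicCycle.map g δY δZ (AlgebraicCycle.map f δX δY α) = AlgebraicCycle.map (f ≫ g) δX δZ α := by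
  classical
  refine Function.locallyFinsuppWithin.ext fun z => ?_
  let s := (finite_fibre_support (f ≫ g) α z).toFinset
  have hs : ∀ x, x ∈ s ↔ g (f x) = z ∧ α x ≠ 0 := fun x => Set.Finite.mem_toFinset _
  rw [map_apply_finset (f ≫ g) δX δZ α z s (fun x h1 h2 => (hs x).2 ⟨h1, h2⟩) (fun x hx => ((hs x).1 hx).1),
    map_apply_finset g δY δZ _ z (s.image fun x => f x) (fun y hy hne => ?_) (fun y hy => ?_)]
  · rw [← Finset.sum_fiberwise_of_maps_to (s := s) (t := s.image fun x => f x) (g := fun x => f x)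
      (fun x hx => Finset.mem_image_of_mem _ hx)]
    refine Finset.sum_congr rfl fun y hy => ?_
    obtain ⟨x₀, hx₀, rfl⟩ := Finset.mem_image.1 hy
    rw [map_apply_finset f δX δY α (f x₀) (s.filter fun x => f x = f x₀)
      (fun x h1 h2 => Finset.mem_filter.2 ⟨(hs x).2 ⟨by rw [h1]; exact ((hs x₀).1 hx₀).1, h2⟩, h1⟩)
      (fun x hx => (Finset.mem_filter.1 hx).2), Finset.sum_mul]
    refine Finset.sum_congr rfl fun x hx => ?_
    rw [mapCoeff_comp f g δX δY δZ hf hg x, Nat.cast_mul, (Finset.mem_filter.1 hx).2]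
    ring
  · obtain ⟨x, hxy, hne'⟩ := exists_ne_zero_of_finsum_mem_ne_zero hne
    exact Finset.mem_image.2 ⟨x, (hs x).2 ⟨by rw [show f x = y from hxy]; exact hy, left_ne_zero_of_mul hne'⟩, hxy⟩
  · obtain ⟨x, hx, rfl⟩ := Finset.mem_image.1 hy
    exact ((hs x).1 hx).1


end Groth.Agent.S1859
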