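import Groth.Statements.S2009
import Mathlib

set_option autoImplicit false
universe u
open TensorProduct
open EtAlg

namespace Groth.Agent.S2009

/-- Let R -> S be flat with S/IS faithfully flat over R/I. Then the natural map M -> S ⊗_R M is
bijective for every I-power torsion R-module M if and only if R/I -> S/IS is bijective. -/
theorem result (R S : Type u) [CommRing R] [CommRing S] [Algebra R S] (I : Ideal R)
    [Module.Flat R S] [Module.FaithfullyFlat (R ⧸ I) (S ⧸ I.map (algebraMap R S))] :
    (∀ (M : Type u) [AddCommGroup M] [Module R M], (∀ m : M, ∃ n : ℕ, ∀ a ∈ I ^ n, a • m = 0) →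
      Function.Bijective (TensorProduct.mk R S M 1)) ↔
    Function.Bijective (Ideal.quotientMap (I.map (algebraMap R S)) (algebraMap R S) Ideal.le_comap_map) := by
  refine ⟨fun h => ?_, fun hq M _ _ hM => ?_⟩
  · have hI : ∀ x : R ⧸ I, ∃ n : ℕ, ∀ a ∈ I ^ n, a • x = 0 := fun x => ⟨1, fun a ha => by
      rw [pow_one] at ha
      obtain ⟨r, rfl⟩ := Ideal.Quotient.mk_surjective x
      rw [Algebra.smul_def, Ideal.Quotient.algebraMap_eq, Ideal.Quotient.eq_zero_iff_mem.mpr ha, zero_mul]⟩
    have h1 := h (R ⧸ I) hI
    let e : S ⊗[R] (R ⧸ I) ≃ₗ[R] S ⧸ I.map (algebraMap R S) :=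
      TensorProduct.tensorQuotEquivQuotSMul S I ≪≫ₗ Submodule.quotEquivOfEq _ _ (Ideal.smul_top_eq_map I) ≪≫ₗ
        Submodule.Quotient.restrictScalarsEquiv R _
    have h2 : ⇑(Ideal.quotientMap (I.map (algebraMap R S)) (algebraMap R S) Ideal.le_comap_map) = e ∘ TensorProduct.mk R S (R ⧸ I) 1 := by
      funext x
      obtain ⟨r, rfl⟩ := Ideal.Quotient.mk_surjective x
      rw [Function.comp_apply, TensorProduct.mk_apply]
      simp [e, Algebra.algebraMap_eq_smul_one]
      try rfl
    rw [h2]
    exact e.bijective.comp h1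
  have hdec : ∀ (n : ℕ) (s : S), ∃ r : R, s - algebraMap R S r ∈ Ideal.map (algebraMap R S) (I ^ n) := by
    intro n
    induction n with
    | zero => intro s; exact ⟨0, by rw [pow_zero, Ideal.one_eq_top, Ideal.map_top]; exact Submodule.mem_top⟩
    | succ n ih =>
      intro s
      obtain ⟨r, hr⟩ := ih s
      suffices ∀ t ∈ Ideal.map (algebraMap R S) (I ^ n), ∃ r : R, t - algebraMap R S r ∈ Ideal.map (algebraMap R S) (I ^ (n + 1)) by
        obtain ⟨r', hr'⟩ := this _ hr
        exact ⟨r + r', by rwa [map_add, ← sub_sub]⟩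
      intro t ht
      induction ht using Submodule.span_induction with
      | mem x hx =>
        obtain ⟨a, ha, rfl⟩ := hx
        exact ⟨a, by rw [sub_self]; exact zero_mem _⟩
      | zero => exact ⟨0, by rw [map_zero, sub_zero]; exact zero_mem _⟩
      | add x y _ _ hx hy =>
        obtain ⟨rx, hx⟩ := hx
        obtain ⟨ry, hy⟩ := hy
        exact ⟨rx + ry, by rw [map_add, add_sub_add_comm]; exact add_mem hx hy⟩
      | smul c x hxm hx =>
        obtain ⟨rx, hx⟩ := hx
        obtain ⟨z, hz⟩ := hq.2 (Ideal.Quotient.mk _ c)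
        obtain ⟨rc, rfl⟩ := Ideal.Quotient.mk_surjective z
        rw [Ideal.quotientMap_mk, Ideal.Quotient.mk_eq_mk_iff_sub_mem] at hz
        refine ⟨rc * rx, ?_⟩
        rw [smul_eq_mul, show c * x - algebraMap R S (rc * rx) =
          (c - algebraMap R S rc) * x + algebraMap R S rc * (x - algebraMap R S rx) by rw [map_mul]; ring]
        refine add_mem ?_ (Ideal.mul_mem_left _ _ hx)
        rw [pow_succ', Ideal.map_mul]
        exact Ideal.mul_mem_mul (by rw [← neg_sub]; exact neg_mem hz) hxm
  have hinj : ∀ m : M, (1 : S) ⊗ₜ[R] m = 0 → m = 0 := by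
    have key : ∀ (n : ℕ) (m : M), (∀ a ∈ I ^ n, a • m = 0) → (1 : S) ⊗ₜ[R] m = 0 → m = 0 := by
      intro n
      induction n with
      | zero => intro m h _; simpa using h 1 (by simp)
      | succ n ih =>
        intro m h hm
        have hIm : ∀ a ∈ I, a • m = 0 := fun a ha => ih _ (fun b hb => by
          rw [smul_smul]; exact h _ (by rw [pow_succ]; exact Ideal.mul_mem_mul hb ha))
          (by rw [TensorProduct.tmul_smul, hm, smul_zero])
        set J := LinearMap.ker (LinearMap.toSpanSingleton R M m) with hJd
        have hIJ : I ≤ J := fun a ha => hIm a ha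
        let g : R ⧸ J →ₗ[R] M := Submodule.liftQ J (LinearMap.toSpanSingleton R M m) le_rfl
        have hg : Function.Injective g := by
          rw [← LinearMap.ker_eq_bot]; exact Submodule.ker_liftQ_eq_bot _ _ _ le_rfl
        have h1 : (1 : S) ⊗ₜ[R] (Ideal.Quotient.mk J 1) = 0 := by
          apply Module.Flat.lTensor_preserves_injective_linearMap (M := S) g hg
          rw [map_zero, LinearMap.lTensor_tmul, show g (Ideal.Quotient.mk J 1) = m from one_smul R m, hm]
        have h2 := congrArg (TensorProduct.tensorQuotEquivQuotSMul S J) h1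
        rw [map_zero, TensorProduct.tensorQuotEquivQuotSMul_tmul_mk, one_smul] at h2
        have h3 : (1 : S) ∈ Ideal.map (algebraMap R S) J := by
          have : (Submodule.Quotient.mk (1 : S) : S ⧸ (J • ⊤ : Submodule R S)) = 0 := h2
          rw [Submodule.Quotient.mk_eq_zero, Ideal.smul_top_eq_map] at this
          exact this
        suffices (1 : R) ∈ J by simpa [hJd] using this
        have himg : ∀ t ∈ Ideal.map (algebraMap R S) J, ∃ j ∈ J, t - algebraMap R S j ∈ I.map (algebraMap R S) := by
          intro t ht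
          induction ht using Submodule.span_induction with
          | mem x hx =>
            obtain ⟨a, ha, rfl⟩ := hx
            exact ⟨a, ha, by rw [sub_self]; exact zero_mem _⟩
          | zero => exact ⟨0, zero_mem _, by rw [map_zero, sub_zero]; exact zero_mem _⟩
          | add x y _ _ hx hy =>
            obtain ⟨rx, hrx, hx⟩ := hx
            obtain ⟨ry, hry, hy⟩ := hy
            exact ⟨rx + ry, add_mem hrx hry, by rw [map_add, add_sub_add_comm]; exact add_mem hx hy⟩
          | smul c x _ hx =>
            obtain ⟨rx, hrx, hx⟩ := hx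
            obtain ⟨z, hz⟩ := hq.2 (Ideal.Quotient.mk _ c)
            obtain ⟨rc, rfl⟩ := Ideal.Quotient.mk_surjective z
            rw [Ideal.quotientMap_mk, Ideal.Quotient.mk_eq_mk_iff_sub_mem] at hz
            refine ⟨rc * rx, Ideal.mul_mem_left _ _ hrx, ?_⟩
            rw [smul_eq_mul, show c * x - algebraMap R S (rc * rx) =
              (c - algebraMap R S rc) * x + algebraMap R S rc * (x - algebraMap R S rx) by rw [map_mul]; ring]
            exact add_mem (Ideal.mul_mem_right _ _ (by rw [← neg_sub]; exact neg_mem hz)) (Ideal.mul_mem_left _ _ hx)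
        obtain ⟨j, hj, hjI⟩ := himg 1 h3
        have : 1 - j ∈ I := by
          rw [← Ideal.Quotient.eq_zero_iff_mem]
          apply hq.1
          rw [map_zero, Ideal.quotientMap_mk, Ideal.Quotient.eq_zero_iff_mem, map_sub, map_one]
          exact hjI
        exact sub_add_cancel (1 : R) j ▸ add_mem (hIJ this) hj
    exact fun m => (hM m).elim fun n hn => key n m hn
  refine ⟨(injective_iff_map_eq_zero _).mpr hinj, fun z => ?_⟩
  induction z using TensorProduct.induction_on with
  | zero => exact ⟨0, map_zero _⟩
  | add x y hx hy =>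
    obtain ⟨a, rfl⟩ := hx
    obtain ⟨b, rfl⟩ := hy
    exact ⟨a + b, map_add _ _ _⟩
  | tmul s m =>
    obtain ⟨n, hn⟩ := hM m
    obtain ⟨r, hr⟩ := hdec n s
    refine ⟨r • m, ?_⟩
    have hz : (s - algebraMap R S r) ⊗ₜ[R] m = 0 := by
      generalize s - algebraMap R S r = t at hr
      induction hr using Submodule.span_induction with
      | mem x hx =>
        obtain ⟨a, ha, rfl⟩ := hx
        rw [Algebra.algebraMap_eq_smul_one, TensorProduct.smul_tmul, hn a ha, TensorProduct.tmul_zero]
      | zero => exact TensorProduct.zero_tmul _ _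
      | add x y _ _ hx hy => rw [TensorProduct.add_tmul, hx, hy, add_zero]
      | smul c x _ hx =>
        have := congrArg (c • ·) hx
        simpa [TensorProduct.smul_tmul'] using this
    rw [TensorProduct.sub_tmul, sub_eq_zero] at hz
    rw [hz, TensorProduct.mk_apply, Algebra.algebraMap_eq_smul_one, TensorProduct.smul_tmul]

end Groth.Agent.S2009
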