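import Groth.Statements.S7125
import Groth.Agent.CAlgMisc.SmallA
import Mathlib
-- import your own Groth.Agent.* helpers here

set_option autoImplicit false
universe u
open CAlg

namespace Groth.Agent.S7125Aux

open IsLocalRing TensorProduct

theorem mem_span_of_height_one {A : Type u} [CommRing A] [IsDomain A] [IsNoetherianRing A] [IsIntegrallyClosed A]
    {f x : A} (hf : f ≠ 0)
    (h : ∀ (p : Ideal A) [p.IsPrime], p.height = 1 →
      ∃ z : Localization.AtPrime p, algebraMap A _ f * z = algebraMap A _ x) :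
    x ∈ Ideal.span ({f} : Set A) := by
  have hf' : algebraMap A (FractionRing A) f ≠ 0 := (map_ne_zero_iff _ (IsFractionRing.injective A _)).2 hf
  obtain ⟨c, hc⟩ := CAlgMisc.mem_range_of_height_one (algebraMap A (FractionRing A) x / algebraMap A _ f)
    fun p _ hp => by
      obtain ⟨z, hz⟩ := h p hp
      refine ⟨z, ?_⟩
      rw [eq_div_iff hf', mul_comm, IsScalarTower.algebraMap_apply A (Localization.AtPrime p) (FractionRing A) f,
        ← map_mul, hz, ← IsScalarTower.algebraMap_apply]
  refine Ideal.mem_span_singleton.2 ⟨c, IsFractionRing.injective A (FractionRing A) ?_⟩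
  rw [map_mul, hc, mul_div_cancel₀ _ hf']

theorem dvr_of_height_one {A : Type u} [CommRing A] [IsDomain A] [IsNoetherianRing A] [IsIntegrallyClosed A]
    (p : Ideal A) [p.IsPrime] (hp : p.height = 1) : IsDiscreteValuationRing (Localization.AtPrime p) := by
  have hne : p ≠ ⊥ := by
    rintro rfl
    rw [Ideal.height_bot] at hp
    exact one_ne_zero hp.symm
  have hnf : ¬ IsField (Localization.AtPrime p) := by
    rw [isField_iff_maximalIdeal_eq, ← Localization.AtPrime.map_eq_maximalIdeal,
      Ideal.map_eq_bot_iff_of_injective (IsLocalization.injective _ p.primeCompl_le_nonZeroDivisors)]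
    exact hne
  have h03 := (IsDiscreteValuationRing.TFAE (Localization.AtPrime p) hnf).out 0 3 rfl rfl
  refine h03.2
    ⟨isIntegrallyClosed_of_isLocalization _ p.primeCompl p.primeCompl_le_nonZeroDivisors, ?_⟩
  refine ⟨maximalIdeal _, ⟨fun h => hnf (isField_iff_maximalIdeal_eq.2 h), inferInstance⟩, ?_⟩
  rintro P ⟨hP, hPp⟩
  refine IsLocalRing.eq_maximalIdeal ?_
  have hPmap := IsLocalization.map_under p.primeCompl (Localization.AtPrime p) P
  have hle : P.under A ≤ p := by
    intro a ha
    by_contra hap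
    exact hPp.ne_top (Ideal.eq_top_of_isUnit_mem _ ha
      (IsLocalization.map_units (Localization.AtPrime p) (⟨a, hap⟩ : p.primeCompl)))
  rcases hle.eq_or_lt with h | h
  · rw [← hPmap, h, Localization.AtPrime.map_eq_maximalIdeal]; exact maximalIdeal.isMaximal _
  · exfalso
    have h0 : (P.under A).height < 1 := hp ▸ Ideal.height_strict_mono_of_isPrime_of_isPrime h
    rw [Order.lt_one_iff, Ideal.height_eq_zero_iff, IsDomain.minimalPrimes_eq_singleton_bot] at h0
    exact hP (by rw [← hPmap, Set.mem_singleton_iff.1 h0, Ideal.map_bot])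

/-- colon ideals commute with flat base change -/
theorem colon_map {A B : Type u} [CommRing A] [CommRing B] [Algebra A B] [Module.Flat A B]
    {κ : Type u} [Fintype κ] [DecidableEq κ] (f : A) (c : κ → A) (s : B)
    (hs : ∀ k, s * algebraMap A B (c k) ∈ Ideal.span {algebraMap A B f}) :
    s ∈ ((Submodule.span A {fun k => Ideal.Quotient.mk (Ideal.span {f}) (c k)}).annihilator).map (algebraMap A B) := by
  rw [CAlgMisc.annihilator_map_flat, Submodule.mem_annihilator_span_singleton, TensorProduct.smul_tmul',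
    smul_eq_mul, mul_one]
  have hsum : (fun k => Ideal.Quotient.mk (Ideal.span {f}) (c k)) =
      ∑ k, c k • (Pi.single k 1 : κ → A ⧸ Ideal.span {f}) := by
    funext j
    rw [Finset.sum_apply, Finset.sum_eq_single j (fun k _ hk => by simp [Pi.single_eq_of_ne hk.symm]) (by simp)]
    simp [Algebra.smul_def]
  rw [hsum, TensorProduct.tmul_sum]
  refine Finset.sum_eq_zero fun k _ => ?_
  obtain ⟨b, hb⟩ := Ideal.mem_span_singleton.1 (hs k)
  rw [← TensorProduct.smul_tmul, Algebra.smul_def, mul_comm, hb, ← Algebra.smul_def, TensorProduct.smul_tmul]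
  have h0 : f • (Pi.single k 1 : κ → A ⧸ Ideal.span {f}) = 0 := by
    funext j
    rcases eq_or_ne j k with rfl | hj
    · simp [Algebra.smul_def, Ideal.Quotient.eq_zero_iff_mem, Ideal.mem_span_singleton_self]
    · simp [Pi.single_eq_of_ne hj]
  rw [h0, TensorProduct.tmul_zero]

end Groth.Agent.S7125Aux


namespace Groth.Agent.S7125

/-- Let A and B be Noetherian local normal domains and A → B a flat homomorphism that is local, and let
f in A, h in B, n > 1 and a unit w of B satisfy f = w·hⁿ in B. Assume that for every height-one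
prime p of A there is a height-one prime q of B lying over p such that A_p ⊆ B_q is weakly
unramified, i.e. p generates the maximal ideal of B_q. Then f = u·gⁿ for some g in A and some unit u
of A. -/
theorem result (A B : Type u) [CommRing A] [IsDomain A]
    [IsNoetherianRing A] [IsLocalRing A] [IsIntegrallyClosed A] [CommRing B] [IsDomain B] [IsNoetherianRing B]
    [IsLocalRing B] [IsIntegrallyClosed B] [Algebra A B] [IsLocalHom (algebraMap A B)] [Module.Flat A B]
    (f : A) (h : B) (n : ℕ) (hn : 1 < n) (w : Bˣ) (hf : algebraMap A B f = (w : B) * h ^ n)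
    (hram : ∀ (p : Ideal A) [p.IsPrime], p.height = 1 →
      ∃ (q : Ideal B) (_ : q.IsPrime), q.height = 1 ∧ q.comap (algebraMap A B) = p ∧
        Ideal.map (algebraMap B (Localization.AtPrime q)) (Ideal.map (algebraMap A B) p) =
          IsLocalRing.maximalIdeal (Localization.AtPrime q)) :
    ∃ (g : A) (u : Aˣ), f = (u : A) * g ^ n := by
  classical
  obtain ⟨n, rfl⟩ : ∃ m, n = m + 1 := ⟨n - 1, by omega⟩
  rcases eq_or_ne f 0 with hf0 | hf0
  · exact ⟨0, 1, by rw [hf0, zero_pow n.succ_ne_zero, mul_zero]⟩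
  have : Module.FaithfullyFlat A B := Module.FaithfullyFlat.of_flat_of_isLocalHom
  have hinj : Function.Injective (algebraMap A B) := FaithfulSMul.algebraMap_injective A B
  have hh0 : h ≠ 0 := by
    rintro rfl
    rw [zero_pow n.succ_ne_zero, mul_zero, map_eq_zero_iff _ hinj] at hf
    exact hf0 hf
  have hdvd_iff : ∀ a : A, a ^ (n + 1) ∈ Ideal.span ({f} : Set A) ↔
      algebraMap A B a ∈ Ideal.span ({h} : Set B) := by
    intro a
    rw [← Ideal.comap_map_eq_self_of_faithfullyFlat (B := B) (Ideal.span ({f} : Set A)), Ideal.mem_comap,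
      Ideal.map_span, Set.image_singleton, hf, Ideal.span_singleton_mul_left_unit w.isUnit, map_pow,
      Ideal.mem_span_singleton, Ideal.mem_span_singleton]
    exact IsIntegrallyClosed.pow_dvd_pow_iff n.succ_ne_zero
  let I : Ideal A := (Ideal.span ({h} : Set B)).comap (algebraMap A B)
  obtain ⟨G, hG⟩ := (IsNoetherian.noetherian (I ^ n) : (I ^ n).FG)
  have key : h ∈ I.map (algebraMap A B) := by
    have h1 := Groth.Agent.S7125Aux.colon_map (B := B) f (fun k : G => (k : A)) h (fun k => by
      have hk : algebraMap A B (k : A) ∈ Ideal.span ({h ^ n} : Set B) := by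
        rw [← Ideal.span_singleton_pow]
        have h2 := Ideal.mem_map_of_mem (algebraMap A B) (show (k : A) ∈ I ^ n from hG ▸ Submodule.subset_span k.2)
        rw [Ideal.map_pow] at h2
        exact Ideal.pow_right_mono Ideal.map_comap_le n h2
      rw [hf, Ideal.span_singleton_mul_left_unit w.isUnit]
      obtain ⟨b, hb⟩ := Ideal.mem_span_singleton.1 hk
      exact Ideal.mem_span_singleton.2 ⟨b, by rw [hb, pow_succ']; ring⟩)
    refine Ideal.map_mono ?_ h1
    intro a ha
    rw [Submodule.mem_annihilator_span_singleton] at ha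
    have haI : ∀ i ∈ I ^ n, a * i ∈ Ideal.span ({f} : Set A) := by
      intro i hi
      rw [← hG] at hi
      induction hi using Submodule.span_induction with
      | mem x hx =>
        have h2 := congrFun ha ⟨x, hx⟩
        rw [Pi.smul_apply, Algebra.smul_def, Pi.zero_apply, Ideal.Quotient.algebraMap_eq, ← map_mul,
          Ideal.Quotient.eq_zero_iff_mem] at h2
        exact h2
      | zero => simp
      | add x y _ _ hx hy => rw [mul_add]; exact add_mem hx hy
      | smul r x _ hx => rw [smul_eq_mul, mul_left_comm]; exact Ideal.mul_mem_left _ _ hx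
    rw [Ideal.mem_comap, ← hdvd_iff]
    refine Groth.Agent.S7125Aux.mem_span_of_height_one hf0 fun p _ hp => ?_
    obtain ⟨q, hq, hq1, hqp, hqm⟩ := hram p hp
    let Ap := Localization.AtPrime p
    let Bq := Localization.AtPrime q
    have := Groth.Agent.S7125Aux.dvr_of_height_one p hp
    have := Groth.Agent.S7125Aux.dvr_of_height_one q hq1
    obtain ⟨π, hπ⟩ := IsDiscreteValuationRing.exists_irreducible Ap
    let φ : Ap →+* Bq := Localization.localRingHom p q (algebraMap A B) hqp.symm
    have hφ : ∀ a : A, φ (algebraMap A Ap a) = algebraMap B Bq (algebraMap A B a) := fun a =>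
      Localization.localRingHom_to_map p q _ hqp.symm a
    have hφπ : Irreducible (φ π) := by
      rw [IsDiscreteValuationRing.irreducible_iff_uniformizer, ← Set.image_singleton, ← Ideal.map_span,
        ← (IsDiscreteValuationRing.irreducible_iff_uniformizer π).1 hπ, ← Localization.AtPrime.map_eq_maximalIdeal (I := p),
        Ideal.map_map, ← hqm, Ideal.map_map]
      congr 1
      exact (RingHom.ext hφ).symm
    have hfA : algebraMap A Ap f ≠ 0 :=
      (map_ne_zero_iff _ (IsLocalization.injective _ p.primeCompl_le_nonZeroDivisors)).2 hf0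
    have hhB : algebraMap B Bq h ≠ 0 :=
      (map_ne_zero_iff _ (IsLocalization.injective _ q.primeCompl_le_nonZeroDivisors)).2 hh0
    obtain ⟨m, u, hu⟩ := IsDiscreteValuationRing.eq_unit_mul_pow_irreducible hfA hπ
    obtain ⟨e, v, hv⟩ := IsDiscreteValuationRing.eq_unit_mul_pow_irreducible hhB hφπ
    have hme : m = e * (n + 1) := by
      refine IsDiscreteValuationRing.unit_mul_pow_congr_pow hφπ hφπ
        (Units.map φ.toMonoidHom u) (Units.map (algebraMap B Bq).toMonoidHom w * v ^ (n + 1)) m (e * (n + 1)) ?_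
      have h3 := congrArg φ hu
      rw [hφ, hf, map_mul, map_pow, hv, map_mul, map_pow, mul_pow, ← pow_mul] at h3
      simp only [Units.coe_map, RingHom.toMonoidHom_eq_coe, MonoidHom.coe_coe, Units.val_mul, Units.val_pow_eq_pow_val]
      rw [← h3]; ring
    obtain ⟨⟨i0, s0⟩, hi0⟩ := IsLocalization.surj p.primeCompl (π ^ e)
    have hi0pow : algebraMap A Ap f * (↑u⁻¹ * algebraMap A Ap (s0 : A) ^ (n + 1)) = algebraMap A Ap (i0 ^ (n + 1)) := by
      rw [hu, map_pow, ← hi0, mul_pow, hme, pow_mul]
      calc (u : Ap) * (π ^ e) ^ (n + 1) * (↑u⁻¹ * algebraMap A Ap (s0 : A) ^ (n + 1))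
          = ((u : Ap) * ↑u⁻¹) * ((π ^ e) ^ (n + 1) * algebraMap A Ap (s0 : A) ^ (n + 1)) := by ring
        _ = _ := by rw [Units.mul_inv, one_mul]
    obtain ⟨⟨z, t⟩, hz⟩ := IsLocalization.surj p.primeCompl (↑u⁻¹ * algebraMap A Ap (s0 : A) ^ (n + 1))
    have hiI : i0 * t ∈ I := by
      rw [Ideal.mem_comap, ← hdvd_iff, Ideal.mem_span_singleton]
      refine ⟨z * t ^ n, IsLocalization.injective Ap p.primeCompl_le_nonZeroDivisors ?_⟩
      rw [map_mul, map_mul, ← hz, mul_pow, map_mul, ← hi0pow, map_pow, map_pow, pow_succ (algebraMap A Ap (t : A))]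
      ring
    obtain ⟨c, hc⟩ := Ideal.mem_span_singleton.1 (haI _ (Ideal.pow_mem_pow hiI n))
    have hc' := congrArg (algebraMap A Ap) hc
    rw [map_mul, map_mul, map_pow, map_mul, ← hi0, hu, hme] at hc'
    -- `π ^ e` divides `a` in `A_p`
    have hunit : IsUnit (algebraMap A Ap (s0 : A) * algebraMap A Ap (t : A)) :=
      (IsLocalization.map_units Ap s0).mul (IsLocalization.map_units Ap t)
    obtain ⟨r, hr⟩ := (hunit.pow n).exists_left_inv
    have hπe : (π ^ e) ^ n ≠ 0 := pow_ne_zero _ (pow_ne_zero _ hπ.ne_zero)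
    have ha' : algebraMap A Ap a = π ^ e * ((u : Ap) * algebraMap A Ap c * r) := by
      apply mul_right_cancel₀ hπe
      calc algebraMap A Ap a * (π ^ e) ^ n
          = algebraMap A Ap a * (π ^ e * algebraMap A Ap (s0 : A) * algebraMap A Ap (t : A)) ^ n * r := by
            rw [mul_assoc (π ^ e), mul_pow, ← mul_assoc (algebraMap A Ap a), mul_assoc _ _ r, mul_comm _ r, hr, mul_one]
        _ = (u : Ap) * π ^ (e * (n + 1)) * algebraMap A Ap c * r := by rw [hc']
        _ = _ := by ring
    refine ⟨↑u⁻¹ * ((u : Ap) * algebraMap A Ap c * r) ^ (n + 1), ?_⟩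
    rw [map_pow, ha', hu, hme]
    calc (u : Ap) * π ^ (e * (n + 1)) * (↑u⁻¹ * ((u : Ap) * algebraMap A Ap c * r) ^ (n + 1))
        = ((u : Ap) * ↑u⁻¹) * (π ^ (e * (n + 1)) * ((u : Ap) * algebraMap A Ap c * r) ^ (n + 1)) := by ring
      _ = _ := by rw [Units.mul_inv, one_mul, mul_pow (π ^ e), pow_mul]
  -- some element of `I` generates `hB`
  obtain ⟨g, hg, v, hv⟩ : ∃ g ∈ I, ∃ v : Bˣ, algebraMap A B g = h * v := by
    by_contra hne
    have hle : I.map (algebraMap A B) ≤ Ideal.span {h} * IsLocalRing.maximalIdeal B := by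
      rw [Ideal.map_le_iff_le_comap]
      intro g hg
      obtain ⟨b, hb⟩ := Ideal.mem_span_singleton.1 (Ideal.mem_comap.1 hg)
      rw [Ideal.mem_comap, hb]
      exact Ideal.mul_mem_mul (Ideal.mem_span_singleton_self h) fun hu => hne ⟨g, hg, hu.unit, hb⟩
    obtain ⟨b, hb, hhb⟩ := Ideal.mem_span_singleton_mul.1 (hle key)
    have : b = 1 := mul_left_cancel₀ hh0 (hhb.trans (mul_one h).symm)
    exact (IsLocalRing.maximalIdeal.isMaximal B).ne_top ((Ideal.eq_top_iff_one _).2 (this ▸ hb))
  have hgn := (hdvd_iff g).2 (Ideal.mem_comap.1 hg)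
  obtain ⟨c, hc⟩ := Ideal.mem_span_singleton.1 hgn
  have hcu : IsUnit c := by
    apply isUnit_of_map_unit (algebraMap A B)
    have h3 := congrArg (algebraMap A B) hc
    rw [map_pow, hv, map_mul, hf, mul_pow] at h3
    have h4 : (v : B) ^ (n + 1) = (w : B) * algebraMap A B c :=
      mul_left_cancel₀ (pow_ne_zero _ hh0) (h3.trans (by ring))
    exact isUnit_of_dvd_unit ⟨w, by rw [h4]; ring⟩ (v.isUnit.pow _)
  exact ⟨g, hcu.unit⁻¹, by rw [hc, mul_comm f, ← mul_assoc, IsUnit.val_inv_mul, one_mul]⟩

end Groth.Agent.S7125
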