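import Groth.Statements.S12519
import Groth.Agent.FunFldLib.RatPlace
import Groth.Agent.FunFldLib.QuadPlace
import Groth.Agent.FunFldLib.Galois

set_option autoImplicit false
open FunFld

namespace Groth.Agent.S12519

open WithZero in
theorem core {k F K : Type*} [Field k] [Field F] [Field K] [Algebra k F] [Algebra F K] [Algebra k K] [IsScalarTower k F K]
    [FiniteDimensional F K] [Algebra.IsSeparable F K] [CharP K 2] (hF : FunFld.IsFunctionField k F)
    (hdeg : Module.finrank F K = 2) (y : K) (hy : y ∉ Set.range (algebraMap F K)) (f : F)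
    (heq : y ^ 2 + y = algebraMap F K f) (P₀ : FunFld.Place k F) :
    ((P₀.ord f < 0 ∧ Odd (P₀.ord f)) → (∃! P : FunFld.Place k K, FunFld.IsOver P P₀) ∧
      ∀ P : FunFld.Place k K, FunFld.IsOver P P₀ → FunFld.IsOverWith P P₀ 2 ∧ P.deg = P₀.deg) ∧
    (0 ≤ P₀.ord f → ∀ P : FunFld.Place k K, FunFld.IsOver P P₀ → FunFld.IsOverWith P P₀ 1) := by
  classical
  open Groth.Agent.FunFldLib in
  refine ⟨fun ⟨hneg, hodd⟩ => ?_, fun hpos P hP => ?_⟩
  · have hf0 : f ≠ 0 := fun h => by simp [h] at hneg
    have key : ∀ (Q : FunFld.Place k K) (e : ℕ), FunFld.IsOverWith Q P₀ e → 2 ≤ e := by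
      intro Q e he
      have he1 := isOverWith_pos he
      have hy0 : y ≠ 0 := fun h => hy ⟨0, by rw [h, map_zero]⟩
      have h1 : Q.1 (algebraMap F K f) > 1 := by
        rw [he]; exact one_lt_pow₀ (lt_of_not_ge fun hh => by
          have := (val_le_one_iff P₀ hf0).1 hh; omega) (by omega)
      have h2 : 1 < Q.1 y := by
        by_contra hle
        rw [not_lt] at hle
        rw [← heq] at h1
        exact h1.not_ge ((Q.1.map_add _ _).trans (max_le (by rw [map_pow]; exact pow_le_one₀ zero_le hle) hle))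
      have h3 : Q.1 (algebraMap F K f) = Q.1 y ^ 2 := by
        rw [← heq, Valuation.map_add_eq_of_lt_left, map_pow]
        rw [map_pow, sq]; exact lt_mul_of_one_lt_left (zero_lt_one.trans h2) h2
      have h4 : (e : ℤ) * P₀.ord f = 2 * Q.ord y := by
        rw [← ord_algebraMap_eq he]
        simp [FunFld.Place.ord, h3, log_pow]
      by_contra hlt
      obtain rfl : e = 1 := by omega
      obtain ⟨m, hm⟩ := hodd
      simp at h4
      omega
    obtain ⟨Q₀, e₀, hQ₀⟩ := exists_over (K' := K) hF P₀
    refine ⟨⟨Q₀, ⟨e₀, hQ₀⟩, (ramified_two hF hdeg hQ₀ (key _ _ hQ₀)).2.2⟩, fun Q hQ => ?_⟩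
    obtain ⟨e, he⟩ := hQ
    obtain ⟨h2, hd, -⟩ := ramified_two hF hdeg he (key _ _ he)
    exact ⟨h2 ▸ he, hd⟩
  · obtain ⟨e, he⟩ := hP
    rcases Nat.lt_or_ge e 2 with h | h
    · obtain rfl : e = 1 := by have := isOverWith_pos he; omega
      exact he
    exfalso
    obtain ⟨-, hd, huniq⟩ := ramified_two hF hdeg he h
    have hf0 : f ≠ 0 := fun h0 => by
      rw [h0, map_zero] at heq
      have : y * (y + 1) = 0 := by linear_combination heq
      rcases mul_eq_zero.1 this with h | h
      · exact hy ⟨0, by rw [h, map_zero]⟩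
      · exact hy ⟨-1, by rw [map_neg, map_one, eq_neg_of_add_eq_zero_left h]⟩
    have hfle : P₀.1 f ≤ 1 := (val_le_one_iff P₀ hf0).2 hpos
    have hy1 : P.1 y ≤ 1 := by
      by_contra hgt
      rw [not_le] at hgt
      have h3 : P.1 (algebraMap F K f) = P.1 y ^ 2 := by
        rw [← heq, Valuation.map_add_eq_of_lt_left, map_pow]
        rw [map_pow, sq]; exact lt_mul_of_one_lt_left (zero_lt_one.trans hgt) hgt
      rw [he] at h3
      exact (h3 ▸ one_lt_pow₀ hgt two_ne_zero).not_ge (pow_le_one₀ zero_le hfle)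
    obtain ⟨c, -, hc⟩ := exists_residue_below hF.1 he hd hy1
    haveI : Algebra.IsQuadraticExtension F K := ⟨hdeg⟩
    haveI : IsGalois F K := ⟨⟩
    obtain ⟨σ, hσ⟩ : ∃ σ : K ≃ₐ[F] K, σ y ≠ y := by
      by_contra! hall
      exact hy (IsGalois.mem_range_algebraMap_iff_fixed y |>.2 hall)
    have hσy : σ y = y + 1 := by
      have h1 : (σ y) ^ 2 + σ y = algebraMap F K f := by
        rw [← σ.commutes f, ← heq, map_add, map_pow]
      have h2 : (σ y - y) * (σ y + y + 1) = 0 := by linear_combination h1 - heq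
      have h3 := (mul_eq_zero.1 h2).resolve_left (sub_ne_zero.2 hσ)
      rw [eq_neg_of_add_eq_zero_left (show σ y + (y + 1) = 0 by linear_combination h3)]
      exact CharTwo.neg_eq _
    have hfix := huniq (twist σ P) ⟨e, isOverWith_twist he σ⟩
    have h4 : P.1 (σ (y - algebraMap F K c)) = P.1 (y - algebraMap F K c) := by rw [← twist_val, hfix]
    rw [map_sub, σ.commutes, hσy, show y + 1 - algebraMap F K c = 1 + (y - algebraMap F K c) by ring,
      val_one_add_of_lt_one P hc] at h4
    exact hc.ne h4.symm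

/-- Let `k` be perfect of characteristic `2`, `K` separable of degree `2` over `k(x)`, and `y ∈ K \
k(x)` with `y² + y = f(x)`. At a place `p` of `k(x)/k` where `f` has a pole of odd order there is a
unique place `P` of `K` above `p`, with `e(P|p) = 2` and `deg P = deg p` (residue degree `1`); at a
place where `f` has no pole, every place of `K` above it is unramified. The different is not stated. -/
theorem result (k K : Type*) [Field k] [Field K] [PerfectField k] (h2 : ringChar k = 2)
    [Algebra k K] [Algebra (RatFunc k) K] [IsScalarTower k (RatFunc k) K]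
    (hdeg : Module.finrank (RatFunc k) K = 2) [Algebra.IsSeparable (RatFunc k) K]
    (y : K) (hy : y ∉ Set.range (algebraMap (RatFunc k) K))
    (f : RatFunc k) (heq : y ^ 2 + y = algebraMap (RatFunc k) K f)
    (P₀ : FunFld.Place k (RatFunc k)) :
    ((P₀.ord f < 0 ∧ Odd (P₀.ord f)) → (∃! P : FunFld.Place k K, FunFld.IsOver P P₀) ∧
      ∀ P : FunFld.Place k K, FunFld.IsOver P P₀ → FunFld.IsOverWith P P₀ 2 ∧ P.deg = P₀.deg) ∧
    (0 ≤ P₀.ord f → ∀ P : FunFld.Place k K, FunFld.IsOver P P₀ → FunFld.IsOverWith P P₀ 1) := by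
  haveI : FiniteDimensional (RatFunc k) K := Module.finite_of_finrank_eq_succ hdeg
  haveI : CharP k 2 := ringChar.of_eq h2
  haveI : CharP (RatFunc k) 2 := charP_of_injective_algebraMap (algebraMap k (RatFunc k)).injective 2
  haveI : CharP K 2 := charP_of_injective_algebraMap (algebraMap (RatFunc k) K).injective 2
  exact core (Groth.Agent.FunFldLib.ratFunc_isFunctionField k) hdeg y hy f heq P₀

end Groth.Agent.S12519
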