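import Groth.Statements.S12606
import Groth.Agent.FunFldLib.WrCore

set_option autoImplicit false
open FunFld

namespace Groth.Agent.S12606

/-- Over an algebraically closed constant field, let `P` be a strong fixed point of the `k`-endomorphism
`τ`, `φ = (φ₀, …, φₙ)` (`n ≥ 1`) an effective projective map normalized at `P` with `τ(φ)` not a
`K`-multiple of `φ`, `t` a local parameter at `P`, `j₁, …, jₙ` the `τ`-orders of `φ` and `j'₁, …,
j'ₙ` the orders of `φ` at `P`. Then `jₗ ≤ j'ₗ - j'₁` for `1 ≤ l ≤ n`. -/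
theorem result
    (k K : Type*) [Field k] [IsAlgClosed k] [Field K] [Algebra k K]
    (hK : FunFld.IsFunctionField k K) (τ : K →ₐ[k] K) (P : FunFld.Place k K) (hP : FunFld.IsStrongFixedPt τ P)
    {n : ℕ} (hn : 0 < n) (φ : Fin (n + 1) → K) (hφ : LinearIndependent k φ)
    (heff : (1 : K) ∈ Submodule.span k (Set.range φ)) (hnorm : ∀ i, P.1 (φ i) ≤ 1)
    (hτφ : ¬ ∃ y : K, ∀ i, τ (φ i) = y * φ i)
    (t : K) (ht : P.1 t = WithZero.exp (-1))
    (Ht : K →ₐ[k] PowerSeries K) (hHt : LocRes.IsHasseFamily t Ht)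
    (J : Fin n → ℕ) (hJ : FunFld.IsOrders K (FunFld.hcol τ Ht φ) J)
    (J' : Fin n → ℕ) (hJ' : FunFld.IsOrders (IsLocalRing.ResidueField P.O) (FunFld.hcolAt P Ht φ) J') :
    ∀ l, J l + J' ⟨0, hn⟩ ≤ J' l := by
  classical
  obtain ⟨hJ1, f, A, hf0, hf, hlif, -, hA, hAf⟩ := FunFldLib.exists_adapted hK hφ heff hnorm ht hHt hJ'
  have hJf := (FunFldLib.isOrders_basis_change τ Ht φ f A hA hAf J).1 hJ
  intro l
  have hl : (l : ℕ) + 1 ≤ n := l.isLt
  let e : Fin ((l : ℕ) + 1) → Fin n := Fin.castLE hl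
  let e' : Fin ((l : ℕ) + 1 + 1) → Fin (n + 1) := Fin.castLE (Nat.succ_le_succ hl)
  have he' : ∀ r : Fin ((l : ℕ) + 1), e' r.succ = (e r).succ := fun r => Fin.ext rfl
  obtain ⟨I, hI, hIle, hdet⟩ := FunFldLib.exists_binom (k := k) (J := fun r => J' (e r))
    (hJ'.1.comp (Fin.strictMono_castLE hl))
  have hcore := (FunFldLib.wr_core hK (FunFldLib.isFixedPt_of_strong hP) (f := fun r => f (e' r))
    (by simpa [e'] using hf0) ht hHt (J := fun r => J' (e r)) (fun r => hJ1 _) (fun r => by rw [he']; exact hf _) hI).2 (Or.inr hP)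
  have hne : (wrMat τ Ht (fun r => f (e' r)) I).det ≠ 0 := fun h => by
    have := hcore.2 hdet
    rw [h, map_zero] at this
    exact WithZero.exp_ne_zero this.symm
  have hli := (FunFldLib.det_wrMat_ne_zero_iff _ _ _ _).1 hne
  have hcomp : hcol τ Ht (fun r => f (e' r)) ∘ FunFldLib.jidx I =
      (LinearMap.funLeft K K e') ∘ (hcol τ Ht f ∘ FunFldLib.jidx I) := by
    funext c r
    simp only [Function.comp_apply, LinearMap.funLeft_apply]
    rcases FunFldLib.jidx I c with _ | j <;> rfl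
  rw [hcomp] at hli
  have hlast : e (Fin.last (l : ℕ)) = l := Fin.ext rfl
  have h0 : e 0 = ⟨0, hn⟩ := Fin.ext rfl
  have hb : ∀ r, I r + J' ⟨0, hn⟩ ≤ J' l := fun r => by
    have := hIle r
    simp only [hlast, h0] at this
    exact this
  have hb0 : J' ⟨0, hn⟩ ≤ J' l := (Nat.le_add_left _ _).trans (hb 0)
  have := FunFldLib.orders_le_of_indep (FunFldLib.hcol_zero_ne hlif τ Ht) hJf (b := J' l - J' ⟨0, hn⟩)
    (FunFldLib.jidx I) (fun c => by
      induction c using Fin.cases with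
      | zero => simp
      | succ r => have := hb r; simp only [FunFldLib.jidx_succ]; omega)
    hli.of_comp (l := l) (by simp)
  omega

end Groth.Agent.S12606
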