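import Groth.Statements.S12609
import Groth.Agent.FunFldLib.Orders
import Groth.Agent.FunFldLib.RR

set_option autoImplicit false
open FunFld

namespace Groth.Agent.S12609

/-- Over an algebraically closed constant field, let `φ` be the canonical map (a basis of `L(C)`, `C`
canonical), normalized at the place `P` after multiplication by `y ≠ 0`, and `t` a local parameter
at `P`. For `j ≥ 1`: the canonical orders at `P` include `j` exactly when `j + 1` is a gap number at
`P`, i.e. `L((j+1)P) = L(jP)`. -/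
theorem result
    (k K : Type*) [Field k] [IsAlgClosed k] [Field K] [Algebra k K]
    (hK : FunFld.IsFunctionField k K) (C : FunFld.Divisor k K) (hC : FunFld.IsCanonical k K C)
    {n : ℕ} (φ : Fin (n + 1) → K) (hφ : LinearIndependent k φ)
    (hspan : Submodule.span k (Set.range φ) = FunFld.L C)
    (P : FunFld.Place k K) (y : K) (hy : y ≠ 0)
    (heff : (1 : K) ∈ Submodule.span k (Set.range (y • φ))) (hnorm : ∀ i, P.1 (y * φ i) ≤ 1)
    (t : K) (ht : P.1 t = WithZero.exp (-1))
    (Ht : K →ₐ[k] PowerSeries K) (hHt : LocRes.IsHasseFamily t Ht) (j : ℕ) (hj : 1 ≤ j) :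
    FunFld.IsJump (IsLocalRing.ResidueField P.O) (FunFld.hcolAt P Ht (y • φ)) (j + 1) ↔
      FunFld.L (Finsupp.single P ((j : ℤ) + 1)) = FunFld.L (Finsupp.single P (j : ℤ)) := by
  classical
  have hP1 : P.deg = 1 := FunFldLib.deg_eq_one hK P
  haveI := FunFldLib.finite_L hK.1 C
  have hrange : Submodule.span k (Set.range (y • φ)) = (FunFld.L C).map (LinearMap.mulLeft k y) := by
    rw [← hspan, Submodule.map_span, ← Set.range_comp]
    rfl
  have hyv : y⁻¹ ∈ FunFld.L C := by
    rw [hrange] at heff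
    obtain ⟨g, hg, hg1⟩ := heff
    rw [LinearMap.mulLeft_apply] at hg1
    rwa [← eq_inv_of_mul_eq_one_right hg1]
  have hnn : ∀ g ∈ FunFld.L C, g ≠ 0 → 0 ≤ P.ord y + P.ord g := fun g hg hg0 => by
    have h1 : P.1 (y * g) ≤ 1 := by
      rw [← hspan] at hg
      obtain ⟨c, rfl⟩ := (Submodule.mem_span_range_iff_exists_fun k).1 hg
      rw [Finset.mul_sum]
      exact Valuation.map_sum_le _ fun i _ => by rw [mul_smul_comm]; exact (FunFldLib.val_smul_le P _ _).trans (hnorm i)
    rwa [FunFldLib.val_le_one_iff P (mul_ne_zero hy hg0), FunFldLib.ord_mul P hy hg0] at h1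
  have hrr : ∀ D : FunFld.Divisor k K, (ell (C - D) : ℤ) = genus k K - (D.deg + 1 - ell D) :=
    fun D => FunFldLib.riemann_roch' hK hC D
  have hgenus : (ell C : ℤ) = genus k K := (FunFldLib.deg_canonical hK hC).2
  have hmemL : ∀ (m : ℤ) (g : K), g ≠ 0 → (g ∈ FunFld.L (C - Finsupp.single P m) ↔
      (∀ Q, Q ≠ P → -C Q ≤ Q.ord g) ∧ -C P + m ≤ P.ord g) := fun m g hg => by
    rw [FunFldLib.mem_L_iff hg]
    refine ⟨fun h => ⟨fun Q hQ => ?_, ?_⟩, fun h Q => ?_⟩
    · have := h Q; rwa [Finsupp.sub_apply, Finsupp.single_eq_of_ne hQ, sub_zero] at this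
    · have := h P; rw [Finsupp.sub_apply, Finsupp.single_eq_same] at this; omega
    · rw [Finsupp.sub_apply]
      rcases eq_or_ne Q P with rfl | hQ
      · rw [Finsupp.single_eq_same]; have := h.2; omega
      · rw [Finsupp.single_eq_of_ne hQ, sub_zero]; exact h.1 Q hQ
  have hexists : ∀ m : ℤ, 0 ≤ m → (ell (C - Finsupp.single P m) ≠ ell (C - Finsupp.single P (m + 1)) ↔
      ∃ g ∈ FunFld.L C, g ≠ 0 ∧ P.ord g = -C P + m) := by
    intro m hm
    have hle : FunFld.L (C - Finsupp.single P (m + 1)) ≤ FunFld.L (C - Finsupp.single P m) :=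
      FunFldLib.L_mono (sub_le_sub_left (FunFldLib.single_mono P (by omega)) C)
    haveI := FunFldLib.finite_L hK.1 (C - Finsupp.single P m)
    constructor
    · intro hne
      obtain ⟨g, hg, hg'⟩ : ∃ g ∈ FunFld.L (C - Finsupp.single P m), g ∉ FunFld.L (C - Finsupp.single P (m + 1)) := by
        by_contra! hc
        exact hne (by rw [ell, ell, le_antisymm hle hc])
      have hg0 : g ≠ 0 := fun h => hg' (h ▸ zero_mem _)
      rw [hmemL m g hg0] at hg
      rw [hmemL (m + 1) g hg0, not_and] at hg'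
      have := hg' hg.1
      refine ⟨g, (FunFldLib.mem_L_iff hg0).2 fun Q => ?_, hg0, by omega⟩
      rcases eq_or_ne Q P with rfl | hQ
      · omega
      · exact hg.1 Q hQ
    · rintro ⟨g, hg, hg0, he⟩ heq
      have h1 : g ∈ FunFld.L (C - Finsupp.single P m) :=
        (hmemL m g hg0).2 ⟨fun Q _ => (FunFldLib.mem_L_iff hg0).1 hg Q, he.ge⟩
      rw [← Submodule.eq_of_le_of_finrank_eq hle heq.symm, hmemL (m + 1) g hg0] at h1
      omega
  have hordy : P.ord y = C P := by
    refine le_antisymm ?_ ?_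
    · have := (FunFldLib.mem_L_iff (inv_ne_zero hy)).1 hyv P
      rw [FunFldLib.ord_inv] at this; omega
    · have hbp : ell (C - Finsupp.single P (0 : ℤ)) ≠ ell (C - Finsupp.single P ((0 : ℤ) + 1)) := by
        have h1 := hrr (Finsupp.single P (1 : ℤ))
        rw [FunFldLib.deg_single, hP1] at h1
        intro heq
        rw [Finsupp.single_zero, sub_zero, zero_add] at heq
        have hg1 : 1 ≤ genus k K := by
          have hn : (ell C) = n + 1 := by
            rw [ell, ← hspan, finrank_span_eq_card hφ, Fintype.card_fin]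
          omega
        have h3 : ell (Finsupp.single P (1 : ℤ)) ≤ 1 := by
          by_contra hgt
          haveI := FunFldLib.finite_L hK.1 (Finsupp.single P (1 : ℤ) : FunFld.Divisor k K)
          obtain ⟨x, hx, hne, hox⟩ := FunFldLib.exists_mem_ord_eq hK hP1 1 (fun he => by
            have : ell (Finsupp.single P (1 : ℤ)) = ell (Finsupp.single P ((1 : ℤ) - 1)) := by rw [ell, ell, he]
            rw [sub_self, Finsupp.single_zero, (FunFldLib.ell_zero hK).2] at this
            omega)
          have hpoles := fun Q hQ => ((FunFldLib.mem_L_single_iff P hne 1).1 hx).2 Q hQ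
          obtain ⟨-, -, -, -, hg0⟩ := FunFldLib.exists_simple_pole_of_top hK
            (FunFldLib.adjoin_eq_top_of_simple_pole hK hP1 hox hpoles)
          omega
        omega
      obtain ⟨g, hg, hg0, he⟩ := (hexists 0 le_rfl).1 hbp
      have := hnn g hg hg0; omega
  rw [FunFldLib.hcolAt_jump_iff hK ht hHt (φ := y • φ) (fun i => hnorm i), hrange, and_iff_right hj]
  have key : (∃ f ∈ (FunFld.L C).map (LinearMap.mulLeft k y), P.1 f = WithZero.exp (-(j : ℤ))) ↔
      ∃ g ∈ FunFld.L C, g ≠ 0 ∧ P.ord g = -C P + j := by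
    constructor
    · rintro ⟨_, ⟨g, hg, rfl⟩, hv⟩
      rw [LinearMap.mulLeft_apply] at hv
      have hg0 : g ≠ 0 := fun h => by rw [h, mul_zero, map_zero] at hv; exact WithZero.exp_ne_zero hv.symm
      rw [FunFldLib.val_eq_exp P (mul_ne_zero hy hg0), WithZero.exp_inj, FunFldLib.ord_mul P hy hg0] at hv
      exact ⟨g, hg, hg0, by omega⟩
    · rintro ⟨g, hg, hg0, he⟩
      refine ⟨y * g, ⟨g, hg, rfl⟩, ?_⟩
      rw [FunFldLib.val_eq_exp P (mul_ne_zero hy hg0), FunFldLib.ord_mul P hy hg0]
      congr 1; omega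
  rw [key, ← hexists (j : ℤ) (by omega)]
  have h1 := hrr (Finsupp.single P (j : ℤ))
  have h2 := hrr (Finsupp.single P ((j : ℤ) + 1))
  rw [FunFldLib.deg_single, hP1] at h1 h2
  obtain ⟨h3, h4, h5⟩ := FunFldLib.ell_step hK hP1 ((j : ℤ) + 1)
  rw [add_sub_cancel_right] at h3 h4 h5
  rw [h5]
  omega

end Groth.Agent.S12609
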