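import Groth.Statements.S16030
import Mathlib.RingTheory.Ideal.Operations
import Mathlib.RingTheory.Spectrum.Prime.Topology

set_option autoImplicit false
universe u
open CAlg

namespace Groth.Agent.S16030

/-- For a finite set F of points of the spectrum of a commutative ring A and an open subset U containing
F, some basic open D(a) contains F and is contained in U. -/
theorem result
    (A : Type u) [CommRing A] (F : Set (PrimeSpectrum A)) (hF : F.Finite)
    (U : TopologicalSpace.Opens (PrimeSpectrum A)) (hFU : F ⊆ (U : Set (PrimeSpectrum A))) :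
    ∃ a : A, F ⊆ (PrimeSpectrum.basicOpen a : Set (PrimeSpectrum A)) ∧ PrimeSpectrum.basicOpen a ≤ U := by
  classical
  obtain ⟨s, hs⟩ := (PrimeSpectrum.isClosed_iff_zeroLocus_ideal _).mp U.2.isClosed_compl
  have h : ¬ ((s : Set A) ⊆ ⋃ p ∈ (↑hF.toFinset : Set (PrimeSpectrum A)), (p.asIdeal : Set A)) := by
    intro hc
    by_cases hne : F.Nonempty
    · obtain ⟨p₀, hp₀⟩ := hne
      obtain ⟨p, hp, hle⟩ := (Ideal.subset_union_prime p₀ p₀ (fun i _ _ _ => i.isPrime)).mp hc
      have : p ∈ (U : Set (PrimeSpectrum A))ᶜ := by show p ∈ U.carrierᶜ; rw [hs]; exact hle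
      exact this (hFU (hF.mem_toFinset.mp hp))
    · have := hc s.zero_mem
      simp [Set.not_nonempty_iff_eq_empty.mp hne] at this
  obtain ⟨a, has, ha⟩ := Set.not_subset.mp h
  refine ⟨a, fun p hp => ?_, fun p hp => ?_⟩
  · simp only [Set.mem_iUnion, not_exists, Finset.mem_coe, Set.Finite.mem_toFinset] at ha
    exact ha p hp
  · by_contra hc
    have : p ∈ PrimeSpectrum.zeroLocus (s : Set A) := hs ▸ hc
    exact hp (this has)

end Groth.Agent.S16030
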