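import Groth.Agent.ProjUPLib.WeightedLcm

/-!
# Graded pieces of high degree of a finitely generated graded algebra
-/

set_option autoImplicit false
set_option linter.style.haveILetI false
set_option linter.unusedSectionVars false

universe u

namespace Groth.Agent.GradedLcm

variable {R A : Type u} [CommRing R] [CommRing A] [Algebra R A] (𝒜 : ℕ → Submodule R A) [GradedAlgebra 𝒜]
variable {s : ℕ} (f : Fin s → A) (deg : Fin s → ℕ) (hdeg : ∀ i, 0 < deg i) (hf : ∀ i, f i ∈ 𝒜 (deg i))
    (hgen : Algebra.adjoin R (Set.range f) = ⊤)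

include hdeg hf hgen in
theorem add_lcm_eq (n : ℕ) (hn : (s - 1) * (Finset.univ.lcm deg - 1) ≤ n) :
    𝒜 (n + Finset.univ.lcm deg) = 𝒜 n * 𝒜 (Finset.univ.lcm deg) := by
  classical
  set L := Finset.univ.lcm deg
  refine le_antisymm (fun y hy => ?_) (Submodule.mul_le.2 fun a ha b hb => SetLike.mul_mem_graded ha hb)
  refine Submodule.span_le.2 ?_ (ProjUPLib.mem_span_monomials_base 𝒜 hf hgen hy)
  rintro _ ⟨a, ha, rfl⟩
  have hL : 0 < L := ProjUPLib.lcm_deg_pos hdeg
  obtain ⟨i, hi⟩ : ∃ i, L ≤ a i * deg i := by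
    by_contra hcon
    push Not at hcon
    have h1 : ∑ i, a i * deg i ≤ ∑ _i : Fin s, (L - 1) := Finset.sum_le_sum fun i _ => by
      have := hcon i; omega
    rw [Finset.sum_const, Finset.card_univ, Fintype.card_fin, smul_eq_mul, ha] at h1
    rcases Nat.eq_zero_or_pos s with rfl | hs
    · rw [zero_mul] at h1; omega
    · have : s * (L - 1) = (s - 1) * (L - 1) + (L - 1) := by
        conv_lhs => rw [show s = (s - 1) + 1 by omega]
        rw [add_mul, one_mul]
      omega
  have hq : L / deg i ≤ a i := Nat.div_le_of_le_mul (by rw [mul_comm]; exact hi)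
  let b : Fin s → ℕ := Function.update a i (a i - L / deg i)
  have hb : ∑ j, b j * deg j = n := by
    have h1 := Finset.add_sum_erase Finset.univ (fun j => a j * deg j) (Finset.mem_univ i)
    have h2 := Finset.add_sum_erase Finset.univ (fun j => b j * deg j) (Finset.mem_univ i)
    have h3 : ∑ j ∈ Finset.univ.erase i, b j * deg j = ∑ j ∈ Finset.univ.erase i, a j * deg j :=
      Finset.sum_congr rfl fun j hj => by
        simp only [b]; rw [Function.update_of_ne (Finset.ne_of_mem_erase hj)]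
    have h4 : b i * deg i = a i * deg i - L := by
      simp only [b, Function.update_self]
      rw [Nat.sub_mul, ProjUPLib.div_mul_deg (deg := deg) i]
    rw [h3, h4] at h2
    omega
  have hprod : ∏ j, f j ^ a j = (∏ j, f j ^ b j) * f i ^ (L / deg i) := by
    rw [← Finset.mul_prod_erase Finset.univ (fun j => f j ^ a j) (Finset.mem_univ i),
      ← Finset.mul_prod_erase Finset.univ (fun j => f j ^ b j) (Finset.mem_univ i)]
    have h3 : ∏ j ∈ Finset.univ.erase i, f j ^ b j = ∏ j ∈ Finset.univ.erase i, f j ^ a j :=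
      Finset.prod_congr rfl fun j hj => by
        simp only [b]; rw [Function.update_of_ne (Finset.ne_of_mem_erase hj)]
    simp only [h3, b, Function.update_self]
    rw [mul_right_comm, ← pow_add, Nat.sub_add_cancel hq]
  rw [hprod]
  refine Submodule.mul_mem_mul ?_ ?_
  · rw [← hb]
    exact SetLike.prod_mem_graded _ _ _ fun j _ => by simpa using SetLike.pow_mem_graded (b j) (hf j)
  · have h := SetLike.pow_mem_graded (L / deg i) (hf i)
    rwa [smul_eq_mul, ProjUPLib.div_mul_deg (deg := deg) i] at h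

theorem pow_le (n : ℕ) : ∀ j : ℕ, 𝒜 n ^ j ≤ 𝒜 (j * n)
  | 0 => by
    rw [pow_zero, zero_mul, Submodule.one_le]
    exact SetLike.one_mem_graded 𝒜
  | j + 1 => by
    rw [pow_succ, add_mul, one_mul]
    exact Submodule.mul_le.2 fun a ha b hb => SetLike.mul_mem_graded (pow_le n j ha) hb

include hdeg hf hgen in
theorem mul_eq_pow (a : ℕ) (ha : s - 1 ≤ a) (k : ℕ) :
    𝒜 (k * (a * Finset.univ.lcm deg)) = 𝒜 (a * Finset.univ.lcm deg) ^ k := by
  classical
  set L := Finset.univ.lcm deg
  have hjump : ∀ j : ℕ, 𝒜 (a * L + j * L) = 𝒜 (a * L) * 𝒜 L ^ j := by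
    intro j
    induction j with
    | zero => simp
    | succ j ih =>
      have hn : (s - 1) * (L - 1) ≤ a * L + j * L :=
        le_trans (Nat.mul_le_mul ha (Nat.sub_le L 1)) (Nat.le_add_right _ _)
      rw [show a * L + (j + 1) * L = (a * L + j * L) + L by ring,
        add_lcm_eq 𝒜 f deg hdeg hf hgen _ hn, ih, pow_succ, mul_assoc]
  refine le_antisymm ?_ (by simpa using pow_le 𝒜 (a * L) k)
  induction k with
  | zero =>
    rw [zero_mul, pow_zero]
    intro y hy
    refine Submodule.span_le.2 ?_ (ProjUPLib.mem_span_monomials_base 𝒜 hf hgen hy)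
    rintro _ ⟨b, hb, rfl⟩
    refine Submodule.mem_one.2 ⟨1, ?_⟩
    rw [map_one]
    refine (Finset.prod_eq_one fun i _ => ?_).symm
    have : b i * deg i = 0 := Finset.sum_eq_zero_iff.mp hb i (Finset.mem_univ i)
    rw [(Nat.mul_eq_zero.mp this).resolve_right (hdeg i).ne', pow_zero]
  | succ k ih =>
    rw [show (k + 1) * (a * L) = a * L + (k * a) * L by ring, hjump]
    calc 𝒜 (a * L) * 𝒜 L ^ (k * a) ≤ 𝒜 (a * L) * 𝒜 ((k * a) * L) := mul_le_mul_right (pow_le 𝒜 L _) _
      _ ≤ 𝒜 (a * L) * 𝒜 (a * L) ^ k := by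
          rw [mul_assoc k a L]
          exact mul_le_mul_right ih _
      _ = 𝒜 (a * L) ^ (k + 1) := (pow_succ' _ _).symm

end Groth.Agent.GradedLcm
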