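import Groth.Statements.S4362
import Mathlib


set_option autoImplicit false
universe u
open FinCond

namespace Groth.Agent.S4362

open AlgebraicGeometry in
open CategoryTheory in
/-- If X is a Noetherian scheme, every increasing sequence of quasi-coherent sheaves of ideals of the
structure sheaf is eventually constant; equivalently the ordered set of quasi-coherent ideal sheaves
of X is well-founded for the reverse order. (On a locally Noetherian scheme quasi-coherent and
coherent ideal sheaves coincide.) -/
theorem result
    (X : Scheme.{u}) [IsNoetherian X] : WellFoundedGT X.IdealSheafData := by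
  obtain ⟨s, hs, hcov⟩ := (isCompact_iff_finite_and_eq_biUnion_affineOpens (U := (⊤ : X.Opens))).mp isCompact_univ
  haveI : Finite s := hs
  haveI : ∀ V : s, WellFoundedGT (Ideal Γ(X, (V : X.affineOpens))) := fun V =>
    haveI : IsNoetherianRing Γ(X, (V : X.affineOpens)) := IsLocallyNoetherian.component_noetherian _
    inferInstance
  haveI : WellFoundedGT ((V : s) → Ideal Γ(X, (V : X.affineOpens))) :=
    ⟨(Pi.wellFoundedLT (α := fun V : s => (Ideal Γ(X, (V : X.affineOpens)))ᵒᵈ)).wf⟩
  let φ : X.IdealSheafData → ((V : s) → Ideal Γ(X, (V : X.affineOpens))) := fun I V => I.ideal V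
  have hmono : Monotone φ := fun I J h V => h _
  have hcov' : ⨆ V : s, ((V : X.affineOpens) : X.Opens) = ⊤ := by
    rw [eq_top_iff]
    intro x _
    obtain ⟨V, hV, hxV⟩ : ∃ V ∈ s, x ∈ (V : X.Opens) := by
      have : x ∈ (⊤ : X.Opens) := trivial
      rw [hcov] at this
      simpa using this
    exact TopologicalSpace.Opens.mem_iSup.mpr ⟨⟨V, hV⟩, hxV⟩
  have hinj : Function.Injective φ := fun I J h =>
    Scheme.IdealSheafData.ext_of_iSup_eq_top (fun V : s => (V : X.affineOpens)) hcov' (congrFun h)
  exact (hmono.strictMono_of_injective hinj).wellFoundedGT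

end Groth.Agent.S4362
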