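import Groth.Statements.S9669
import Mathlib
import Groth.Agent.UnivInjFib.Fibre
-- import your own Groth.Agent.* helpers here

set_option autoImplicit false
universe u
open CAlg

open TensorProduct

namespace Groth.Agent.S9669

attribute [local instance] Algebra.TensorProduct.rightAlgebra

variable {R S : Type u} [CommRing R] [CommRing S] [Algebra R S] (N : Type u) [AddCommGroup N] [Module S N]
  [Module R N] [IsScalarTower R S N]

/-- ass sets agree along an injective map which is surjective up to scalars acting injectively -/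
theorem ass_eq {M M' : Type u} [AddCommGroup M] [Module S M] [AddCommGroup M'] [Module S M']
    (f : M →ₗ[S] M') (hf : Function.Injective f)
    (h : ∀ y, ∃ t : S, (∀ z : M', t • z = 0 → z = 0) ∧ ∃ x, t • y = f x) :
    FlatCA.ass S M = FlatCA.ass S M' := by
  have hann : ∀ x, (Submodule.span S {f x}).annihilator = (Submodule.span S {x}).annihilator := fun x => by
    ext a
    simp only [Submodule.mem_annihilator_span_singleton]
    rw [← map_smul, map_eq_zero_iff f hf]
  ext q
  constructor
  · rintro ⟨hq, x, hx⟩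
    exact ⟨hq, f x, hx.trans (hann x).symm⟩
  · rintro ⟨hq, y, hy⟩
    obtain ⟨t, ht, x, hx⟩ := h y
    refine ⟨hq, x, hy.trans ?_⟩
    rw [← hann x, ← hx]
    ext a
    simp only [Submodule.mem_annihilator_span_singleton]
    exact ⟨fun h => by rw [smul_comm, h, smul_zero], fun h => ht _ (by rw [smul_comm, h])⟩

theorem ker_toFiber [Module.Flat R N] (p : Ideal R) [p.IsPrime] (n : N) (h : FlatCA.toFiberMod p S N n = 0) :
    n ∈ (p.map (algebraMap R S)) • (⊤ : Submodule S N) := by
  have h2 : (1 : p.ResidueField) ⊗ₜ[R] n = 0 := by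
    have h3 := congrArg (Groth.Agent.UnivInjFib.fibreToTensor (N := N) p) h
    erw [Groth.Agent.UnivInjFib.fibreToTensor_tmul, one_smul, map_zero] at h3
    exact h3
  let g : (R ⧸ p) →ₗ[R] p.ResidueField := (IsScalarTower.toAlgHom R (R ⧸ p) p.ResidueField).toLinearMap
  have hg : Function.Injective g := Ideal.injective_algebraMap_quotient_residueField p
  have h4 : (Ideal.Quotient.mk p 1) ⊗ₜ[R] n = 0 := by
    apply Module.Flat.rTensor_preserves_injective_linearMap (M := N) g hg
    rw [map_zero, LinearMap.rTensor_tmul]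
    exact (congrArg (· ⊗ₜ[R] n) (map_one (algebraMap (R ⧸ p) p.ResidueField))).trans h2
  have h5 := congrArg (TensorProduct.quotTensorEquivQuotSMul N p) h4
  rw [TensorProduct.quotTensorEquivQuotSMul_mk_tmul, one_smul, map_zero] at h5
  have h6 := (Submodule.Quotient.mk_eq_zero _).1 h5
  refine Submodule.smul_induction_on h6 (fun r hr z _ => ?_) (fun a b ha hb => add_mem ha hb)
  rw [← IsScalarTower.algebraMap_smul S r z]
  exact Submodule.smul_mem_smul (Ideal.mem_map_of_mem _ hr) trivial

theorem exists_smul_eq (p : Ideal R) [p.IsPrime] (y : FlatCA.fiberMod p S N) :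
    ∃ r ∉ p, ∃ n : N, algebraMap R S r • y = FlatCA.toFiberMod p S N n := by
  change p.Fiber S ⊗[S] N at y
  show ∃ r ∉ p, ∃ n : N, algebraMap R S r • y = (1 : p.Fiber S) ⊗ₜ[S] n
  induction y with
  | zero => exact ⟨1, p.one_notMem, 0, by rw [smul_zero, tmul_zero]⟩
  | tmul c n =>
    obtain ⟨r, hr, s, e⟩ := Ideal.Fiber.exists_smul_eq_one_tmul _ c
    refine ⟨r, hr, s • n, ?_⟩
    rw [smul_tmul', IsScalarTower.algebraMap_smul, e,
      show (1 : p.ResidueField) ⊗ₜ[R] s = s • (1 : p.Fiber S) by rw [Algebra.smul_def, mul_one]; rfl, smul_tmul]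
  | add a b ha hb =>
    obtain ⟨r, hr, n, e⟩ := ha
    obtain ⟨r', hr', n', e'⟩ := hb
    refine ⟨r * r', fun h => (Ideal.IsPrime.mem_or_mem ‹p.IsPrime› h).elim hr hr', algebraMap R S r' • n + algebraMap R S r • n', ?_⟩
    rw [tmul_add, tmul_smul, tmul_smul, ← e, ← e', smul_add, map_mul, smul_smul, smul_smul, mul_comm (algebraMap R S r') _]

theorem torsionFree (p : Ideal R) [p.IsPrime] (r : R) (hr : r ∉ p) (y : FlatCA.fiberMod p S N)
    (h : algebraMap R S r • y = 0) : y = 0 := by
  have hu : IsUnit (algebraMap R (p.Fiber S) r) := by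
    rw [IsScalarTower.algebraMap_apply R p.ResidueField (p.Fiber S)]
    exact (isUnit_iff_ne_zero.2 fun h => hr (Ideal.algebraMap_residueField_eq_zero.1 h)).map _
  have e : ∀ z : p.Fiber S ⊗[S] N, algebraMap R S r • z = algebraMap R (p.Fiber S) r • z := fun z => by
    rw [← IsScalarTower.algebraMap_smul (p.Fiber S) (algebraMap R S r) z, ← IsScalarTower.algebraMap_apply R S (p.Fiber S)]
  exact (hu.smul_eq_zero (x := (y : p.Fiber S ⊗[S] N))).1 ((e y).symm.trans h)

theorem main [Module.Flat R N] (p : Ideal R) [p.IsPrime] :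
    FlatCA.ass S (N ⧸ (p.map (algebraMap R S)) • (⊤ : Submodule S N)) = FlatCA.ass S (FlatCA.fiberMod p S N) ∧
      ∀ q ∈ FlatCA.ass S (N ⧸ (p.map (algebraMap R S)) • (⊤ : Submodule S N)), q.comap (algebraMap R S) = p := by
  set P := (p.map (algebraMap R S)) • (⊤ : Submodule S N) with hP
  have hkill : ∀ r ∈ p, ∀ y : FlatCA.fiberMod p S N, algebraMap R S r • y = 0 := by
    intro r hr y
    change p.Fiber S ⊗[S] N at y
    show algebraMap R S r • y = 0
    have e : algebraMap R (p.Fiber S) r = 0 := by
      rw [IsScalarTower.algebraMap_apply R p.ResidueField (p.Fiber S),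
        Ideal.algebraMap_residueField_eq_zero.2 hr, map_zero]
    rw [← IsScalarTower.algebraMap_smul (p.Fiber S) (algebraMap R S r), ← IsScalarTower.algebraMap_apply R S (p.Fiber S), e, zero_smul]
  let f : (N ⧸ P) →ₗ[S] FlatCA.fiberMod p S N := P.liftQ (FlatCA.toFiberMod p S N) (by
    intro z hz
    refine Submodule.smul_induction_on hz (fun a ha w _ => ?_) (fun a b ha hb => add_mem ha hb)
    rw [LinearMap.mem_ker, map_smul]
    induction ha using Submodule.span_induction with
    | mem c hc => obtain ⟨r, hr, rfl⟩ := hc; exact hkill r hr _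
    | zero => exact zero_smul _ _
    | add a b _ _ ha hb => rw [add_smul, ha, hb, add_zero]
    | smul c a _ ha => rw [smul_eq_mul, mul_smul, ha, smul_zero])
  have hf : Function.Injective f := by
    rw [← LinearMap.ker_eq_bot, eq_bot_iff]
    intro z hz
    obtain ⟨n, rfl⟩ := Submodule.Quotient.mk_surjective _ z
    rw [Submodule.mem_bot, Submodule.Quotient.mk_eq_zero]
    exact ker_toFiber N p n hz
  refine ⟨ass_eq f hf fun y => ?_, ?_⟩
  · obtain ⟨r, hr, n, e⟩ := exists_smul_eq N p y
    exact ⟨_, torsionFree N p r hr, Submodule.Quotient.mk n, e⟩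
  · rintro q ⟨hq, z, rfl⟩
    ext r
    rw [Ideal.mem_comap, Submodule.mem_annihilator_span_singleton, ← map_eq_zero_iff f hf, map_smul]
    refine ⟨fun h => ?_, fun h => hkill r h _⟩
    by_contra hr
    have hz : z = 0 := (map_eq_zero_iff f hf).1 (torsionFree N p r hr _ h)
    exact hq.ne_top (Submodule.annihilator_eq_top_iff.2 (by rw [hz, Submodule.span_singleton_eq_bot]))

end Groth.Agent.S9669

namespace Groth.Agent.S9669

/-- Part (4): (A = A_fin = A'_fin): let R → S be a ring map, N an S-module flat over R and p a prime of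
R; an associated prime of a module is a prime ideal equal to the annihilator of some element. Then
the set of associated primes of the S-module N/pN equals the set of associated primes of the
S-module N ⊗_R κ(p) (the fibre module over p, an S-module by restriction of scalars), and every
prime in this set lies over p. -/
theorem result {R S : Type u} [CommRing R] [CommRing S] [Algebra R S] (N : Type u) [AddCommGroup N] [Module S N] [Module R N] [IsScalarTower R S N] [Module.Flat R N] (p : Ideal R) [p.IsPrime] :
    FlatCA.ass S (N ⧸ (p.map (algebraMap R S)) • (⊤ : Submodule S N)) = FlatCA.ass S (FlatCA.fiberMod p S N) ∧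
      ∀ q ∈ FlatCA.ass S (N ⧸ (p.map (algebraMap R S)) • (⊤ : Submodule S N)), q.comap (algebraMap R S) = p := by
  exact Groth.Agent.S9669.main N p

end Groth.Agent.S9669
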