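import Groth.Statements.S9256
import Mathlib
import Groth.Agent.CAlgReg.Basic
-- import your own Groth.Agent.* helpers here

set_option autoImplicit false
universe u
open CAlg

open TensorProduct in
theorem Groth.Agent.S9256aux.isRegularRing_of_artinian (R : Type u) [CommRing R] [IsArtinianRing R]
    [IsReduced R] : IsRegularRing R := by
  rw [isRegularRing_iff]
  intro p _
  let : Field (Localization.AtPrime p) :=
    (IsArtinianRing.isField_of_isReduced_of_isLocalRing _).toField
  infer_instance

theorem Groth.Agent.S9256aux.isReduced_of_isRegularRing (R : Type u) [CommRing R] [IsRegularRing R] :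
    IsReduced R := by
  refine isReduced_ofLocalizationMaximal R fun P _ => ?_
  have : IsDomain (Localization.AtPrime P) := Groth.Agent.CAlgReg.isDomain
  infer_instance


namespace Groth.Agent.S9256

/-- For a field extension K of k, the ring map k → K is regular exactly when K is separable over k, that
is, geometrically reduced over k. -/
theorem result (k K : Type u) [Field k] [Field K]
    [Algebra k K] : CAlg.IsRegularHom k K ↔ Algebra.IsGeometricallyReduced k K := by
  constructor
  · intro h
    obtain ⟨-, hfib⟩ := h
    obtain ⟨-, hgeom⟩ := hfib ⊥
    let κ := (⊥ : Ideal k).ResidueField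
    let eκ := (⊥ : Ideal k).algEquivResidueFieldOfField
    rw [Algebra.isGeometricallyReduced_field_iff]
    refine ⟨fun z hz => ?_⟩
    classical
    obtain ⟨t, rfl⟩ := TensorProduct.exists_finset z
    let L := IntermediateField.adjoin k ((t.image Prod.fst : Finset (AlgebraicClosure k)) : Set (AlgebraicClosure k))
    have : FiniteDimensional k L := IntermediateField.finiteDimensional_adjoin
      fun a _ => (Algebra.IsAlgebraic.isAlgebraic a).isIntegral
    let _ : Algebra κ L := ((algebraMap k L).comp eκ.symm.toRingHom).toAlgebra
    have : IsScalarTower k κ L := IsScalarTower.of_algebraMap_eq fun x => by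
      change algebraMap k L x = algebraMap k L (eκ.symm (algebraMap k κ x))
      rw [AlgEquiv.commutes]; rfl
    have : Module.Finite κ L := Module.Finite.of_restrictScalars_finite k κ L
    have := hgeom L inferInstance
    have : IsReduced (TensorProduct κ L ((⊥ : Ideal k).Fiber K)) :=
      Groth.Agent.S9256aux.isReduced_of_isRegularRing (TensorProduct κ L ((⊥ : Ideal k).Fiber K))
    have hred : IsReduced (TensorProduct k L K) := isReduced_of_injective _
      (Algebra.TensorProduct.cancelBaseChange k κ κ L K).symm.injective
    let f := Algebra.TensorProduct.map L.val (AlgHom.id k K)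
    have hf : Function.Injective f :=
      Module.Flat.rTensor_preserves_injective_linearMap L.val.toLinearMap Subtype.val_injective
    let w : TensorProduct k L K := ∑ x ∈ t.attach,
      (⟨x.1.1, IntermediateField.subset_adjoin k _ (Finset.mem_image_of_mem _ x.2)⟩ : L) ⊗ₜ x.1.2
    have hw : f w = ∑ x ∈ t, x.1 ⊗ₜ[k] x.2 := by
      rw [map_sum, ← Finset.sum_attach t]
      rfl
    rw [← hw] at hz ⊢
    rw [IsReduced.eq_zero w ((IsNilpotent.map_iff hf).1 hz), map_zero]
  · intro h
    refine ⟨inferInstance, fun p _ => ?_⟩
    let κ := p.ResidueField
    let eκ := p.algEquivResidueFieldOfField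
    have : Module.Finite k κ := Module.Finite.equiv eκ.toLinearEquiv
    have hF : IsNoetherianRing (p.Fiber K) := isNoetherianRing_of_ringEquiv K
      ((Algebra.TensorProduct.congr eκ.symm (AlgEquiv.refl : K ≃ₐ[k] K)).trans
        (Algebra.TensorProduct.lid k K)).symm.toRingEquiv
    refine ⟨hF, fun k' _ _ hk' => ?_⟩
    let _ : Algebra k k' := ((algebraMap κ k').comp (algebraMap k κ)).toAlgebra
    have : IsScalarTower k κ k' := IsScalarTower.of_algebraMap_eq fun _ => rfl
    have : Module.Finite k k' := Module.Finite.trans κ k'
    have : Module.Finite K (TensorProduct k K k') := inferInstance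
    have : IsArtinianRing (TensorProduct k K k') := IsArtinianRing.of_finite K _
    have : IsArtinianRing (TensorProduct k k' K) :=
      (Algebra.TensorProduct.comm k K k').toRingEquiv.surjective.isArtinianRing
    have := Groth.Agent.S9256aux.isRegularRing_of_artinian (TensorProduct k k' K)
    exact IsRegularRing.of_ringEquiv
      (Algebra.TensorProduct.cancelBaseChange k κ κ k' K).symm.toRingEquiv

end Groth.Agent.S9256
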