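import Groth.Statements.S9410
import Groth.Agent.GeomRegH.Basic
-- import your own Groth.Agent.* helpers here

set_option autoImplicit false
universe u
open CAlg

open TensorProduct

namespace Groth.Agent.S9410Aux

theorem regular_of_sub (k k' A K K0 : Type u) [Field k] [Field k'] [CommRing A] [Field K] [Field K0]
    [Algebra k k'] [Algebra k' A] [Algebra k A] [IsScalarTower k k' A] [Algebra k' K] [Algebra k K]
    [IsScalarTower k k' K] [Algebra k K0] [FiniteDimensional k K0]
    [Algebra.IsGeometricallyReduced k k'] (v : K0 →ₐ[k] K)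
    (hv : Submodule.span k' (Set.range v) = ⊤) (hreg : IsRegularRing (K0 ⊗[k] A)) :
    IsRegularRing (K ⊗[k'] A) := by
  have : IsReduced (k' ⊗[k] K0) :=
    isReduced_of_injective (Algebra.TensorProduct.comm k k' K0).toRingEquiv
      (Algebra.TensorProduct.comm k k' K0).toRingEquiv.injective
  have : IsArtinianRing (k' ⊗[k] K0) := isArtinian_of_tower k' inferInstance
  let f : k' ⊗[k] K0 →ₐ[k'] K :=
    Algebra.TensorProduct.lift (Algebra.ofId k' K) v fun _ _ => Commute.all _ _
  have hf : Function.Surjective f := by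
    intro x
    have hx : x ∈ Submodule.span k' (Set.range v) := hv ▸ Submodule.mem_top
    have hle : Submodule.span k' (Set.range v) ≤ LinearMap.range f.toLinearMap :=
      Submodule.span_le.2 fun a ⟨b, hb⟩ => ⟨1 ⊗ₜ b, by simp [f, hb]⟩
    exact hle hx
  letI : Algebra (k' ⊗[k] K0) K := f.toRingHom.toAlgebra
  have : IsScalarTower k' (k' ⊗[k] K0) K := ⟨fun a b c => by
    show f (a • b) * c = a • (f b * c); rw [map_smul, smul_mul_assoc]⟩
  have : Module.Flat (k' ⊗[k] K0) K := Groth.Agent.GeomRegH.flat_of_reduced_artinian (k' ⊗[k] K0) K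
  let φ := Algebra.TensorProduct.map (IsScalarTower.toAlgHom k' (k' ⊗[k] K0) K) (AlgHom.id k' A)
  letI : Algebra ((k' ⊗[k] K0) ⊗[k'] A) (K ⊗[k'] A) := φ.toRingHom.toAlgebra
  have : Module.Flat ((k' ⊗[k] K0) ⊗[k'] A) (K ⊗[k'] A) :=
    Groth.Agent.RegLocus.flat_map_tensor k' A (k' ⊗[k] K0) K
  have : IsRegularRing ((k' ⊗[k] K0) ⊗[k'] A) :=
    IsRegularRing.of_ringEquiv ((Algebra.TensorProduct.comm k K0 A).toRingEquiv.trans
      ((Algebra.TensorProduct.cancelBaseChange k k' k' A K0).symm.toRingEquiv.trans
        (Algebra.TensorProduct.comm k' A (k' ⊗[k] K0)).toRingEquiv))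
  exact Groth.Agent.GeomRegH.isRegularRing_of_flat_surjective ((k' ⊗[k] K0) ⊗[k'] A) _
    (Groth.Agent.GeomRegH.surjective_map_tensor k' A (k' ⊗[k] K0) K _ hf)

end Groth.Agent.S9410Aux


namespace Groth.Agent.S9410

/-- Given a separable algebraic field extension k'/k and a Noetherian k'-algebra A, geometric regularity
of A over k' is equivalent to geometric regularity of A over k. -/
theorem result (k : Type u) [Field k] (k' : Type u)
    [Field k'] [Algebra k k'] [Algebra.IsSeparable k k'] (A : Type u) [CommRing A] [Algebra k' A]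
    [Algebra k A] [IsScalarTower k k' A] [IsNoetherianRing A] :
    CAlg.IsGeometricallyRegular k A ↔ CAlg.IsGeometricallyRegular k' A := by
  classical
  constructor
  · intro h K _ _ _
    letI : Algebra k K := ((algebraMap k' K).comp (algebraMap k k')).toAlgebra
    have : IsScalarTower k k' K := IsScalarTower.of_algebraMap_eq fun x => rfl
    have : Algebra.IsAlgebraic k K := Algebra.IsAlgebraic.trans k k' K
    obtain ⟨s, hs⟩ : (⊤ : Submodule k' K).FG := Module.Finite.fg_top
    let K0 := IntermediateField.adjoin k (s : Set K)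
    have : FiniteDimensional k K0 :=
      IntermediateField.finiteDimensional_adjoin fun x _ => Algebra.IsIntegral.isIntegral x
    have := Groth.Agent.GeomRegH.isGeometricallyReduced_of_isSeparable k k'
    refine Groth.Agent.S9410Aux.regular_of_sub k k' A K K0 K0.val ?_ (h K0 inferInstance)
    refine eq_top_iff.2 (hs ▸ Submodule.span_mono fun a ha => ?_)
    exact ⟨⟨a, IntermediateField.subset_adjoin k _ ha⟩, rfl⟩
  · intro h K _ _ _
    have := Groth.Agent.GeomRegH.isGeometricallyReduced_of_isSeparable k k'
    have : IsReduced (k' ⊗[k] K) :=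
      isReduced_of_injective (Algebra.TensorProduct.comm k k' K).toRingEquiv
        (Algebra.TensorProduct.comm k k' K).toRingEquiv.injective
    have : IsArtinianRing (k' ⊗[k] K) := isArtinian_of_tower k' inferInstance
    have : IsNoetherianRing ((k' ⊗[k] K) ⊗[k'] A) := by
      have : IsNoetherianRing (A ⊗[k'] (k' ⊗[k] K)) := Algebra.FiniteType.isNoetherianRing A _
      exact isNoetherianRing_of_ringEquiv _ (Algebra.TensorProduct.comm k' A (k' ⊗[k] K)).toRingEquiv
    have hreg : IsRegularRing ((k' ⊗[k] K) ⊗[k'] A) :=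
      Groth.Agent.GeomRegH.isRegularRing_tensor_of_residue k' A (k' ⊗[k] K) fun q hq => by
        letI := Ideal.Quotient.field q
        exact h ((k' ⊗[k] K) ⧸ q) inferInstance
    exact IsRegularRing.of_ringEquiv
      ((Algebra.TensorProduct.comm k' (k' ⊗[k] K) A).toRingEquiv.trans
        ((Algebra.TensorProduct.cancelBaseChange k k' k' A K).toRingEquiv.trans
          (Algebra.TensorProduct.comm k A K).toRingEquiv))

end Groth.Agent.S9410
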