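import Groth.Statements.S7070
import Groth.Agent.PerfHom.Koszul
import Groth.Agent.DRingTorAmp.Triangle


set_option autoImplicit false
universe u
attribute [local instance] HasDerivedCategory.standard
open MoreMor

namespace Groth.Agent.S7070

/-- A local complete intersection homomorphism of commutative rings A → B (finite type, with some
polynomial presentation whose kernel is a Koszul-regular ideal) is perfect: pseudo-coherent with B
of finite tor dimension over A. -/
theorem result (A B : Type u) [CommRing A] [CommRing B] [Algebra A B]
    (h : LCI.IsLCI A B) : MoreMor.IsPerfectHom A B := by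
  obtain ⟨-, n, φ, hφ, hI⟩ := h
  letI := φ.toRingHom.toAlgebra
  haveI : IsScalarTower A (MvPolynomial (Fin n) A) B := IsScalarTower.of_algebraMap_eq' φ.comp_algebraMap.symm
  have hperf : DRing.IsPerfectModule (MvPolynomial (Fin n) A) B :=
    Groth.Agent.PerfHom.isPerfectModule_congr
      ((LinearMap.quotKerEquivOfSurjective (Algebra.linearMap (MvPolynomial (Fin n) A) B) hφ))
      (Groth.Agent.PerfHom.isPerfectModule_quotient _ hI)
  exact ⟨⟨n, φ, hφ, ((Groth.Agent.DRingTorAmp.isPerfect_iff _).1 hperf).1⟩,
    Groth.Agent.PerfHom.hasFiniteTorDim_of_perfect (B := MvPolynomial (Fin n) A) hperf⟩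

end Groth.Agent.S7070
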