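import Groth.Statements.S1763
import Mathlib.RingTheory.Ideal.AssociatedPrime.Localization
import Groth.Agent.LocCohBasic.Finiteness
import Groth.Agent.LocCohBasic.Vanish
import Groth.Agent.CAlgSymbolic.Basic
-- import your own Groth.Agent.* helpers here

set_option autoImplicit false
universe u
open LocCoh

namespace Groth.Agent.S1763

/-- Fix a Noetherian ring A, an ideal I of A and a finitely generated A-module M. The local cohomology
module H¹_I(M) is finitely generated over A if and only if, for each associated prime p of M with I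
⊄ p, the module H¹_I(A/p) is finitely generated over A. (Affine form, through finiteness of H¹_I, of
a statement about coherence of direct images along the inclusion of the open complement of V(I).) -/
theorem result (A : Type u) [CommRing A] [IsNoetherianRing A] (I : Ideal A) (M : Type u) [AddCommGroup M] [Module A M] [Module.Finite A M] : Module.Finite A (LocCoh.H I 1 M) ↔ ∀ p : Ideal A, p ∈ associatedPrimes A M → ¬ I ≤ p → Module.Finite A (LocCoh.H I 1 (A ⧸ p)) := by
  open CategoryTheory in
  classical
  have hleft : ∀ (X Y : Type u) [AddCommGroup X] [Module A X] [AddCommGroup Y] [Module A Y] [Module.Finite A Y]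
      (f : X →ₗ[A] Y), Function.Injective f → Module.Finite A (LocCoh.H I 1 Y) → Module.Finite A (LocCoh.H I 1 X) := by
    intro X Y _ _ _ _ _ f hf hY
    let S := ModuleCat.shortComplexOfCompEqZero f (LinearMap.range f).mkQ (LinearMap.range_mkQ_comp f)
    have hS : S.ShortExact := ModuleCat.shortComplex_shortExact _
      ((LinearMap.exact_iff).2 (Submodule.ker_mkQ _)) hf (Submodule.mkQ_surjective _)
    haveI : Module.Finite A S.X₃ := inferInstanceAs (Module.Finite A (Y ⧸ LinearMap.range f))
    haveI : Module.Finite A ((localCohomology I 0).obj S.X₃) := LocCohBasic.finite_zero I S.X₃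
    haveI : Module.Finite A ((localCohomology I 1).obj S.X₂) := hY
    exact LocCohBasic.finite_mid (LocCohBasic.delta I 0 hS).hom ((localCohomology I 1).map S.f).hom
      fun b hb => LocCohBasic.exists_of_map_f_eq_zero I hS b hb
  have hprod : ∀ (ι : Type u) [Fintype ι] (W : ι → Type u) [∀ i, AddCommGroup (W i)] [∀ i, Module A (W i)],
      (∀ i, Module.Finite A (LocCoh.H I 1 (W i))) → Module.Finite A (LocCoh.H I 1 (∀ i, W i)) := by
    intro ι _ W _ _ hW
    let H1 := localCohomology I 1
    let pr : ∀ i, ModuleCat.of A (∀ i, W i) ⟶ ModuleCat.of A (W i) := fun i => ModuleCat.ofHom (LinearMap.proj i)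
    let inj : ∀ i, ModuleCat.of A (W i) ⟶ ModuleCat.of A (∀ i, W i) := fun i => ModuleCat.ofHom (LinearMap.single A W i)
    let g : (∀ i, H1.obj (ModuleCat.of A (W i))) →ₗ[A] H1.obj (ModuleCat.of A (∀ i, W i)) :=
      ∑ i, (H1.map (inj i)).hom ∘ₗ LinearMap.proj i
    refine Module.Finite.of_surjective (M := ∀ i, H1.obj (ModuleCat.of A (W i))) (hM := ?_) g fun y => ⟨fun i => H1.map (pr i) y, ?_⟩
    · haveI : ∀ i, Module.Finite A (H1.obj (ModuleCat.of A (W i))) := hW
      infer_instance
    · have hid : CategoryStruct.id (ModuleCat.of A (∀ i, W i)) = ∑ i, pr i ≫ inj i := by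
        refine ModuleCat.hom_ext (LinearMap.ext fun w => ?_)
        rw [ModuleCat.hom_sum, LinearMap.sum_apply]
        exact (Finset.univ_sum_single w).symm
      have h2 := congrArg H1.map hid
      rw [CategoryTheory.Functor.map_id, CategoryTheory.Functor.map_sum] at h2
      have h3 := congrArg (fun t => t.hom y) h2
      simp only [ModuleCat.hom_id, LinearMap.id_apply, ModuleCat.hom_sum, LinearMap.sum_apply,
        CategoryTheory.Functor.map_comp, ModuleCat.hom_comp, LinearMap.comp_apply] at h3
      rw [LinearMap.sum_apply]
      exact h3.symm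
  have hdef : ∀ (N : Type u) [AddCommGroup N] [Module A N] (q : Ideal A),
      q ∈ associatedPrimes A N ↔ q.IsPrime ∧ ∃ x : N, q = LinearMap.ker (LinearMap.toSpanSingleton A N x) := by
    intro N _ _ q
    rw [AssociatedPrimes.mem_iff, isAssociatedPrime_iff]
    have : ∀ x : N, (⊥ : Submodule A N).colon {x} = LinearMap.ker (LinearMap.toSpanSingleton A N x) := fun x => by
      ext a; rw [Submodule.mem_colon_singleton]; rfl
    simp only [this]
  constructor
  · intro hM p hp _
    obtain ⟨hp', x, hx⟩ := (hdef M p).1 hp
    let f : (A ⧸ p) →ₗ[A] M := p.liftQ (LinearMap.toSpanSingleton A M x) hx.le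
    exact hleft (A ⧸ p) M f (LinearMap.ker_eq_bot.1
      (Submodule.ker_liftQ_eq_bot _ _ _ hx.symm.le)) hM
  · intro hp
    have hall : ∀ p ∈ associatedPrimes A M, Module.Finite A (LocCoh.H I 1 (A ⧸ p)) := by
      intro p hpm
      by_cases hI : I ≤ p
      · haveI : Subsingleton ((localCohomology I 1).obj (ModuleCat.of A (A ⧸ p))) :=
          LocCohBasic.subsingleton_of_isPowerTorsion I 0 _ fun x => ⟨1, fun a ha => by
            obtain ⟨y, rfl⟩ := Ideal.Quotient.mk_surjective x
            rw [pow_one] at ha
            exact (Ideal.Quotient.eq_zero_iff_mem).2 (Ideal.mul_mem_right _ _ (hI ha))⟩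
        exact Module.Finite.of_surjective (0 : (Fin 0 → A) →ₗ[A] (localCohomology I 1).obj (ModuleCat.of A (A ⧸ p))) fun x => ⟨0, Subsingleton.elim _ _⟩
      · exact hp p hpm hI
    have hcop : ∀ (p : Ideal A) [p.IsPrime], Module.Finite A (LocCoh.H I 1 (A ⧸ p)) → ∀ (n : ℕ) (V : Type u)
        [AddCommGroup V] [Module A V] [Module.Finite A V],
        (∀ a ∈ p ^ n, ∀ v : V, a • v = 0) → (∀ (a : A) (v : V), a ∉ p → a • v = 0 → v = 0) →
          Module.Finite A (LocCoh.H I 1 V) := by
      intro p _ hpfin n
      induction n with
      | zero =>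
        intro V _ _ _ hV _
        haveI : Subsingleton V := subsingleton_of_forall_eq 0 fun v => by
          simpa using hV 1 (by simp) v
        haveI : Subsingleton ((localCohomology I 1).obj (ModuleCat.of A V)) :=
          LocCohBasic.subsingleton_of_isPowerTorsion I 0 _ fun x => ⟨0, fun a _ => Subsingleton.elim (α := V) _ _⟩
        exact Module.Finite.of_surjective (0 : (Fin 0 → A) →ₗ[A] (localCohomology I 1).obj (ModuleCat.of A V)) fun x => ⟨0, Subsingleton.elim _ _⟩
      | succ n ih =>
        intro V _ _ _ hV htf
        obtain ⟨G, hG⟩ := (IsNoetherian.noetherian p : p.FG)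
        let V1 := Submodule.torsionBySet A V (p : Set A)
        let m : V →ₗ[A] (↥G → V) := LinearMap.pi fun g => LinearMap.lsmul A V g.1
        have hker : V1 = LinearMap.ker m := by
          refine le_antisymm (fun v hv => funext fun g => ?_) fun v hv => ?_
          · exact (Submodule.mem_torsionBySet_iff _ _).1 hv ⟨g.1, hG ▸ Submodule.subset_span g.2⟩
          · refine (Submodule.mem_torsionBySet_iff _ _).2 fun a => ?_
            have : p ≤ LinearMap.ker (LinearMap.toSpanSingleton A V v) := by
              rw [← hG]; exact Submodule.span_le.2 fun g hg => congrFun hv ⟨g, hg⟩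
            exact this a.2
        let D := A ⧸ p
        have htors : Module.IsTorsionBySet A V1 (p : Set A) := Submodule.torsionBySet_isTorsionBySet _
        letI : Module D V1 := htors.module
        haveI : IsScalarTower A D V1 := htors.isScalarTower
        haveI : Module.Finite D V1 := Module.Finite.of_restrictScalars_finite A D V1
        obtain ⟨k, f, hf⟩ := CAlgSymbolic.exists_injective_free (D := D) (N := V1) fun d v hd hdv => by
          obtain ⟨a, rfl⟩ := Ideal.Quotient.mk_surjective d
          exact Subtype.ext (htf a v.1 (fun h => hd (Ideal.Quotient.eq_zero_iff_mem.2 h)) (congrArg Subtype.val hdv))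
        have h1 : Module.Finite A (LocCoh.H I 1 V1) := by
          refine hleft V1 (ULift.{u} (Fin k) → D)
            ((LinearMap.funLeft A D ULift.down).comp (f.restrictScalars A)) ?_
            (hprod _ _ fun _ => hpfin)
          exact (LinearMap.funLeft_injective_of_surjective A D _ ULift.down_surjective).comp hf
        have hVker : ∀ (a : A) (v : V), a ∉ p → a • v ∈ V1 → v ∈ V1 := fun a v ha hav =>
          (Submodule.mem_torsionBySet_iff _ _).2 fun b => htf a _ ha (by
            rw [smul_comm]; exact (Submodule.mem_torsionBySet_iff _ _).1 hav b)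
        have h2 : Module.Finite A (LocCoh.H I 1 (V ⧸ V1)) := by
          refine ih (V ⧸ V1) (fun a ha v => ?_) fun a v ha hav => ?_
          · obtain ⟨v, rfl⟩ := Submodule.mkQ_surjective V1 v
            refine (Submodule.Quotient.mk_eq_zero _).2 ((Submodule.mem_torsionBySet_iff _ _).2 fun b => ?_)
            rw [smul_smul]
            exact hV _ (by rw [pow_succ']; exact Ideal.mul_mem_mul b.2 ha) v
          · obtain ⟨v, rfl⟩ := Submodule.mkQ_surjective V1 v
            exact (Submodule.Quotient.mk_eq_zero _).2 (hVker a v ha ((Submodule.Quotient.mk_eq_zero _).1 hav))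
        let S := ModuleCat.shortComplexOfCompEqZero V1.subtype V1.mkQ (LinearMap.ext fun x => (Submodule.Quotient.mk_eq_zero _).2 x.2)
        have hS : S.ShortExact := ModuleCat.shortComplex_shortExact _ (LinearMap.exact_subtype_mkQ _)
          (Submodule.injective_subtype _) (Submodule.mkQ_surjective _)
        haveI : Module.Finite A ((localCohomology I 1).obj S.X₁) := h1
        haveI : Module.Finite A ((localCohomology I 1).obj S.X₃) := h2
        exact LocCohBasic.finite_mid ((localCohomology I 1).map S.f).hom ((localCohomology I 1).map S.g).hom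
          fun b hb => LocCohBasic.exists_of_map_g_eq_zero I hS b hb
    let ι := associatedPrimes A M
    haveI : Fintype ι := (associatedPrimes.finite A M).fintype
    have hQ : ∀ p : ι, ∃ Q : Submodule A M, Maximal (fun Q : Submodule A M => p.1 ∉ associatedPrimes A Q) Q := fun p => by
      obtain ⟨Q, hQ, hmax⟩ := WellFounded.has_min (wellFounded_gt (α := Submodule A M))
        {Q : Submodule A M | p.1 ∉ associatedPrimes A Q}
        ⟨⊥, by rw [Set.mem_setOf_eq, associatedPrimes.eq_empty_of_subsingleton]; exact fun h => h⟩
      exact ⟨Q, hQ, fun Q' hQ' hle => le_of_eq (eq_of_le_of_not_lt hle fun h => hmax Q' hQ' h).symm⟩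
    choose Q hQmax using hQ
    have hass : ∀ p : ι, associatedPrimes A (M ⧸ Q p) ⊆ {p.1} := by
      intro p q hq
      by_contra hne
      obtain ⟨hqp, x, hx⟩ := (hdef _ q).1 hq
      obtain ⟨y, rfl⟩ := Submodule.mkQ_surjective (Q p) x
      let Q' : Submodule A M := Q p ⊔ Submodule.span A {y}
      let π : Q' →ₗ[A] (M ⧸ Q p) := (Q p).mkQ ∘ₗ Q'.subtype
      let j : Q p →ₗ[A] Q' := Submodule.inclusion le_sup_left
      have hex : Function.Exact j π := LinearMap.exact_iff.2 (by
        rw [Submodule.range_inclusion, LinearMap.ker_comp, Submodule.ker_mkQ])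
      let π' : Q' →ₗ[A] LinearMap.range π := π.rangeRestrict
      have hex' : Function.Exact j π' := fun z => by
        refine Iff.trans ?_ (hex z); exact ⟨fun h => congrArg Subtype.val h, fun h => Subtype.ext h⟩
      have hsub := associatedPrimes.subset_union_of_exact (Submodule.inclusion_injective _) hex'
      have hQ'le : Q' ≤ Q p := by
        refine (hQmax p).2 (fun hmem => ?_) le_sup_left
        rcases hsub hmem with h | h
        · exact (hQmax p).1 h
        · have hrange : ∀ z : LinearMap.range π, ∃ a : A, z.1 = a • (Q p).mkQ y := by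
            rintro ⟨_, ⟨z, hz⟩, rfl⟩
            obtain ⟨u, hu, w, hw, rfl⟩ := Submodule.mem_sup.1 hz
            obtain ⟨a, rfl⟩ := Submodule.mem_span_singleton.1 hw
            exact ⟨a, by
              show (Q p).mkQ (u + a • y) = _
              rw [map_add, Submodule.mkQ_apply _ u, (Submodule.Quotient.mk_eq_zero _).2 hu, zero_add, map_smul]⟩
          obtain ⟨hpp, z, hz⟩ := (hdef _ _).1 h
          obtain ⟨a, ha⟩ := hrange z
          have haq : a ∉ q := fun haq => by
            have hz0 : z = 0 := Subtype.ext (ha.trans (by
              rw [hx] at haq; exact haq))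
            exact hpp.ne_top (hz.trans (by rw [hz0]; simp))
          refine hne ?_
          show q = p.1
          rw [hz]
          ext b
          rw [LinearMap.mem_ker]
          refine ⟨fun hb => Subtype.ext ?_, fun hb => ?_⟩
          · show b • z.1 = 0
            rw [ha, smul_smul, mul_comm, ← smul_smul]
            rw [hx] at hb
            rw [show b • (Q p).mkQ y = 0 from hb, smul_zero]
          · have h0 : b • z.1 = 0 := congrArg Subtype.val hb
            rw [ha, smul_smul] at h0
            exact (hqp.mem_or_mem (show b * a ∈ q by rw [hx]; exact h0)).resolve_right haq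
      have : (Q p).mkQ y = 0 := (Submodule.Quotient.mk_eq_zero _).2
        (hQ'le (Submodule.mem_sup_right (Submodule.mem_span_singleton_self y)))
      exact hqp.ne_top (hx.trans (by rw [this]; simp))
    have hinter : (⨅ p, Q p) = ⊥ := by
      by_contra hne
      haveI : Nontrivial ↥(⨅ p, Q p) := Submodule.nontrivial_iff_ne_bot.2 hne
      obtain ⟨q, hq⟩ := associatedPrimes.nonempty A ↥(⨅ p, Q p)
      have hqM : q ∈ associatedPrimes A M := associatedPrimes.subset_of_injective (Submodule.injective_subtype _) hq
      exact (hQmax ⟨q, hqM⟩).1 (associatedPrimes.subset_of_injective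
        (Submodule.inclusion_injective (iInf_le Q ⟨q, hqM⟩)) hq)
    refine hleft M (∀ p : ι, M ⧸ Q p) (LinearMap.pi fun p => (Q p).mkQ) ?_ (hprod _ _ fun p => ?_)
    · rw [← LinearMap.ker_eq_bot, LinearMap.ker_pi]
      simpa using hinter
    · haveI : p.1.IsPrime := p.2.1
      have htf : ∀ (a : A) (v : M ⧸ Q p), a ∉ p.1 → a • v = 0 → v = 0 := by
        intro a v ha hav
        by_contra hv
        have hmem : a ∈ ⋃ q ∈ associatedPrimes A (M ⧸ Q p), (q : Set A) := by
          rw [biUnion_associatedPrimes_eq_zero_divisors]; exact ⟨v, hv, hav⟩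
        obtain ⟨q, hq, haq⟩ := Set.mem_iUnion₂.1 hmem
        exact ha (hass p hq ▸ haq)
      have hrad : p.1 ≤ (Module.annihilator A (M ⧸ Q p)).radical := by
        rw [Ideal.radical_eq_sInf]
        refine le_sInf fun q hq => ?_
        haveI := hq.2
        obtain ⟨q', hq', hle⟩ := Ideal.exists_minimalPrimes_le hq.1
        exact (hass p (Module.associatedPrimes.minimalPrimes_annihilator_subset_associatedPrimes A _ hq')) ▸ hle
      obtain ⟨n, hn⟩ := Ideal.exists_pow_le_of_le_radical_of_fg hrad (IsNoetherian.noetherian p.1)
      exact hcop p.1 (hall p.1 p.2) n _ (fun a ha v => Module.mem_annihilator.1 (hn ha) v) htf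

end Groth.Agent.S1763
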