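import Groth.Statements.S9413
import Groth.Agent.NormTensor.Fields

set_option autoImplicit false
universe u
open EGA4

namespace Groth.Agent.S9413

open TensorProduct


open TensorProduct in
/-- For a field k, a geometrically normal k-algebra A and a k-algebra B which is a normal ring, the
tensor product A ⊗_k B is a normal ring. No Noetherian or finite type hypothesis is made. -/
theorem result (k : Type u) [Field k] (A : Type u)
    [CommRing A] [Algebra k A] (B : Type u) [CommRing B] [Algebra k B]
    (hA : EGA4.IsGeomNormal k A) (hB : EGA4.IsNormalRing B) : EGA4.IsNormalRing (A ⊗[k] B) := by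
  have hA0 : EGA4.IsNormalRing A := Groth.Agent.RegLocus.isNormalRing_of_equiv
    (Algebra.TensorProduct.lid k A).toRingEquiv (hA k inferInstance)
  refine Groth.Agent.NormTensor.isNormalRing_tensor_of_localizations k A B fun a _ => ?_
  have hAa : EGA4.IsGeomNormal k (Localization.AtPrime a) :=
    Groth.Agent.RegLocus.geomNormal_localization k A a.primeCompl (Localization.AtPrime a) hA
  obtain ⟨hd, -⟩ := hA0 a
  haveI := hd
  haveI := Groth.Agent.NormTensor.geomReduced_of_geomNormal k (Localization.AtPrime a) hAa
  refine Groth.Agent.RegLocus.isNormalRing_of_equiv (Algebra.TensorProduct.comm k B (Localization.AtPrime a)).toRingEquiv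
    (Groth.Agent.NormTensor.isNormalRing_tensor k (Localization.AtPrime a) B hB
      (fun F _ _ => Groth.Agent.RegLocus.isReduced_tensor_field k (Localization.AtPrime a) F) (fun K _ _ hgen => ?_))
  obtain ⟨gen, hgen⟩ := hgen
  haveI := Groth.Agent.NormTensor.essFiniteType_of_gen k K gen hgen
  exact ⟨Groth.Agent.NormTensor.isNormalRing_geomNormal_ext k (Localization.AtPrime a) hAa K,
    Groth.Agent.NormTensor.finite_minimalPrimes_tensor k (Localization.AtPrime a) K⟩

end Groth.Agent.S9413
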