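import Groth.Statements.S9411
import Groth.Agent.S9413
import Groth.Agent.GeomRegH.Basic
import Groth.Agent.NormTensor.Separable

set_option autoImplicit false
universe u
open EGA4

namespace Groth.Agent.S9411

open TensorProduct


/-- Let k'/k be a separable algebraic field extension and A a k'-algebra. Geometric normality of A over
k' is equivalent to geometric normality of A over k. -/
theorem result (k : Type u) [Field k] (k' : Type u) [Field k']
    [Algebra k k'] [Algebra.IsSeparable k k'] (A : Type u) [CommRing A] [Algebra k' A]
    [Algebra k A] [IsScalarTower k k' A] :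
    EGA4.IsGeomNormal k A ↔ EGA4.IsGeomNormal k' A := by
  haveI := Groth.Agent.GeomRegH.isGeometricallyReduced_of_isSeparable k k'
  refine ⟨fun h => Groth.Agent.NormTensor.geomNormal_of_separable k k' A h, fun h K _ _ _ => ?_⟩
  have hK : EGA4.IsNormalRing K := fun P _ =>
    Groth.Agent.CAlgNormal.normal_transfer P.primeCompl (fun h => h (zero_mem P))
  have hC : EGA4.IsNormalRing (k' ⊗[k] K) :=
    Groth.Agent.RegLocus.isNormalRing_of_equiv (Algebra.TensorProduct.comm k K k').toRingEquiv
      (Groth.Agent.NormTensor.isNormalRing_geomReduced_field k K k' hK)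
  have h1 := Groth.Agent.S9413.result k' A (k' ⊗[k] K) h hC
  exact Groth.Agent.RegLocus.isNormalRing_of_equiv
    ((Algebra.TensorProduct.cancelBaseChange k k' k' A K).toRingEquiv.trans
      (Algebra.TensorProduct.comm k A K).toRingEquiv) h1

end Groth.Agent.S9411
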