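import Groth.Statements.S5760
import Groth.Agent.CMAux.Basic
import Mathlib

set_option autoImplicit false
universe u
open EGA41

namespace Groth.Agent.S5760

/-- Let A be a Noetherian local ring, M a nonzero finitely generated Cohen-Macaulay A-module, p a prime
ideal in the support of M and r the integer dim(M) - dim(M/pM). Then there exists an M-regular
sequence x_1, ..., x_r of elements of p; for every such sequence, dim(M/(x_1 M + ... + x_r M)) =
dim(M/pM) = dim(A/p), and p is a minimal element of the set of associated primes of M/(x_1 M + ... +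
x_r M). -/
theorem result (A : Type u) [CommRing A]
    [IsLocalRing A] [IsNoetherianRing A] (M : Type u) [AddCommGroup M] [Module A M] [Module.Finite A M]
    (hM : LocCoh.IsCohenMacaulayModule A M) (p : PrimeSpectrum A) (hp : p ∈ Module.support A M) (r : ℕ)
    (hr : Module.supportDim A (M ⧸ (p.asIdeal • (⊤ : Submodule A M))) + r = Module.supportDim A M) :
    (∃ xs : List A, xs.length = r ∧ (∀ x ∈ xs, x ∈ p.asIdeal) ∧ RingTheory.Sequence.IsWeaklyRegular M xs) ∧
      ∀ xs : List A, xs.length = r → (∀ x ∈ xs, x ∈ p.asIdeal) → RingTheory.Sequence.IsWeaklyRegular M xs →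
        Module.supportDim A (M ⧸ (Ideal.ofList xs • (⊤ : Submodule A M))) =
            Module.supportDim A (M ⧸ (p.asIdeal • (⊤ : Submodule A M))) ∧
          Module.supportDim A (M ⧸ (p.asIdeal • (⊤ : Submodule A M))) = ringKrullDim (A ⧸ p.asIdeal) ∧
          p.asIdeal ∈ associatedPrimes A (M ⧸ (Ideal.ofList xs • (⊤ : Submodule A M))) ∧
          ∀ q ∈ associatedPrimes A (M ⧸ (Ideal.ofList xs • (⊤ : Submodule A M))), q ≤ p.asIdeal → q = p.asIdeal := by
  have := Groth.Agent.Depth.nontrivial_of_isCohenMacaulayModule hM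
  have hpm : p.asIdeal ≤ IsLocalRing.maximalIdeal A := IsLocalRing.le_maximalIdeal p.isPrime.ne_top
  have hne : p.asIdeal • (⊤ : Submodule A M) ≠ ⊤ := Groth.Agent.Depth.smul_top_ne_top_of_isLocalRing hpm
  obtain ⟨d, hd⟩ := Groth.Agent.Depth.exists_natCast_eq_idealDepth hne
  have : Nontrivial (M ⧸ p.asIdeal • (⊤ : Submodule A M)) := Submodule.Quotient.nontrivial_iff.2 hne
  obtain ⟨e, he⟩ := Groth.Agent.Depth.exists_natCast_eq_supportDim (R := A) (M := M ⧸ p.asIdeal • (⊤ : Submodule A M))
  have hdim := Groth.Agent.Depth.supportDim_eq_quotient_add_idealDepth M hM hpm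
  have hrd : r = d := by
    rw [he, hd] at hdim
    rw [he, hdim] at hr
    have h' : e + r = e + d := by exact_mod_cast hr
    omega
  subst hrd
  refine ⟨(Groth.Agent.Depth.le_idealDepth_iff_exists hne).1 hd.ge, fun xs hlen hmem hreg => ?_⟩
  obtain ⟨hCM, hN⟩ := Groth.Agent.CMAux.quot_ofList xs M hM (fun x hx => hpm (hmem x hx)) hreg
  have hdepth := Groth.Agent.Depth.idealDepth_quot_ofList_add_length xs M hreg hmem
  have hquot := Groth.Agent.CMAux.supportDim_quotient_prime hp
  have := Groth.Agent.Depth.nontrivial_of_isCohenMacaulayModule hCM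
  obtain ⟨n, hn⟩ := Groth.Agent.Depth.exists_natCast_eq_supportDim (R := A) (M := M ⧸ Ideal.ofList xs • (⊤ : Submodule A M))
  have hdimN : Module.supportDim A (M ⧸ Ideal.ofList xs • (⊤ : Submodule A M)) =
      Module.supportDim A (M ⧸ p.asIdeal • (⊤ : Submodule A M)) := by
    rw [hn, hlen, ← hr, he] at hN
    rw [hn, he]
    have h' : n + r = e + r := by exact_mod_cast hN
    rw [show n = e by omega]
  have hneN : p.asIdeal • (⊤ : Submodule A (M ⧸ Ideal.ofList xs • (⊤ : Submodule A M))) ≠ ⊤ :=
    Groth.Agent.Depth.smul_top_ne_top_of_isLocalRing hpm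
  have h0 : LocCoh.idealDepth p.asIdeal (M ⧸ Ideal.ofList xs • (⊤ : Submodule A M)) = 0 := by
    obtain ⟨d', hd'⟩ := Groth.Agent.Depth.exists_natCast_eq_idealDepth hneN
    rw [hd', hlen, hd] at hdepth
    have h' : d' + r = r := by exact_mod_cast hdepth
    rw [hd', show d' = 0 by omega, Nat.cast_zero]
  obtain ⟨q, hq, hle⟩ := (Groth.Agent.Depth.idealDepth_eq_zero_iff hneN).1 h0
  have hpN : p ∈ Module.support A (M ⧸ Ideal.ofList xs • (⊤ : Submodule A M)) := by
    rw [Module.support_quotient]
    exact ⟨hp, fun x hx => Groth.Agent.Depth.ofList_le hmem hx⟩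
  have hpq := Groth.Agent.Depth.eq_of_le_of_mem_associatedPrimes hCM hq hpN hle
  have hpass : p.asIdeal ∈ associatedPrimes A (M ⧸ Ideal.ofList xs • (⊤ : Submodule A M)) := hpq ▸ hq
  refine ⟨hdimN, hquot, hpass, fun q' hq' hle' => ?_⟩
  exact Groth.Agent.Depth.eq_of_le_of_mem_associatedPrimes hCM hpass (q := ⟨q', hq'.isPrime⟩)
    (Groth.Agent.Depth.mem_support_of_mem_associatedPrimes hq') hle'

end Groth.Agent.S5760
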