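import Groth.Statements.S4357
import Groth.Agent.QCohBase.FiniteTypePullback
import Groth.Agent.QuasiFlatLib.Basic
import Groth.Agent.DCohBridge.StalkPull

set_option autoImplicit false
universe u
open QCohSup

namespace Groth.Agent.S4357

open AlgebraicGeometry in
open CategoryTheory in
/-- Consider a scheme morphism f : Y -> X together with an O_X-module F that is quasi-coherent and of
finite type. The support of the pullback of F along f (those points of Y at which its stalk does not
vanish) coincides with the inverse image under f of the support of F. (When applied to the closed
immersions cut out by the powers of an ideal sheaf on a locally Noetherian scheme, this describes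
the support of each level of a completed coherent module.) -/
theorem result
    {X Y : Scheme.{u}} (f : Y ⟶ X) (F : X.Modules) [Coh.IsQCoh F] (hF : CohB1.IsFT F) :
    CohB1.support ((Scheme.Modules.pullback f).obj F) = f.base ⁻¹' CohB1.support F := by
  refine le_antisymm (Groth.Agent.QCohBase.support_pullback_subset f hF) fun x hx => ?_
  intro h0
  let R := X.presheaf.stalk (f.base x)
  let S := Y.presheaf.stalk x
  let M := F.presheaf.stalk (f.base x)
  letI : Algebra R S := (Groth.Agent.DCohBridge.stφ f x).toAlgebra
  haveI : IsLocalHom (algebraMap R S) := inferInstanceAs (IsLocalHom (f.stalkMap x).hom)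
  haveI : Module.Finite R M := Groth.Agent.QuasiFlatLib.finite_stalk F ⟨inferInstance, hF⟩ (f.base x)
  let e := ((Groth.Agent.DCohBridge.stalkPullIso f x).app F).toLinearEquiv
  haveI := h0
  haveI hsub : Subsingleton (TensorProduct R S M) := @Equiv.subsingleton _ _ e.toEquiv.symm h0
  let k := IsLocalRing.ResidueField R
  let K := IsLocalRing.ResidueField S
  haveI : Subsingleton (TensorProduct R K M) :=
    (TensorProduct.AlgebraTensorModule.cancelBaseChange R S K K M).symm.toEquiv.subsingleton
  haveI : Subsingleton (TensorProduct k K (TensorProduct R k M)) :=
    (TensorProduct.AlgebraTensorModule.cancelBaseChange R k K K M).toEquiv.subsingleton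
  haveI : Subsingleton (TensorProduct R k M) := Module.FaithfullyFlat.lTensor_reflects_triviality k K _
  exact hx ((IsLocalRing.subsingleton_tensorProduct (R := R) (M := M)).1 inferInstance)

end Groth.Agent.S4357
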