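import Groth.Statements.S5163
import Mathlib.RingTheory.Regular.LinearMap
import Mathlib.RingTheory.Support
-- import your own Groth.Agent.* helpers here

set_option autoImplicit false
universe u
open LocCoh

namespace Groth.Agent.S5163

/-- For modules over a Noetherian ring. Let P be a finite A-module and H any A-module with Supp H ⊆ Supp
P. If Hom_A(P, H) = 0 then H = 0. (The published lemma is stated over an arbitrary prescheme; its
proof uses that a nonzero module has an associated prime, so the ring is taken Noetherian here.) -/
theorem result (A : Type u) [CommRing A] [IsNoetherianRing A] (P H : Type u) [AddCommGroup P] [Module A P] [Module.Finite A P] [AddCommGroup H] [Module A H] (hsupp : Module.support A H ⊆ Module.support A P) (hhom : Subsingleton (P →ₗ[A] H)) : Subsingleton H := by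
  refine subsingleton_of_forall_eq 0 fun x => ?_
  let N : Submodule A H := A ∙ x
  have : Module.Finite A N := Module.Finite.of_fg (Submodule.fg_span_singleton x)
  have hN : Subsingleton (P →ₗ[A] N) := subsingleton_of_forall_eq 0 fun f => LinearMap.ext fun p =>
    Subtype.ext (LinearMap.congr_fun (@Subsingleton.elim _ hhom (N.subtype ∘ₗ f) 0) p)
  obtain ⟨r, hr, hreg⟩ := IsSMulRegular.subsingleton_linearMap_iff.mp hN
  have hrad : r ∈ (Module.annihilator A N).radical := by
    rw [← PrimeSpectrum.vanishingIdeal_zeroLocus_eq_radical, ← Module.support_eq_zeroLocus, PrimeSpectrum.mem_vanishingIdeal]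
    intro p hp
    have h1 : p ∈ Module.support A P := hsupp (Module.support_subset_of_injective N.subtype N.subtype_injective hp)
    rw [Module.support_eq_zeroLocus, PrimeSpectrum.mem_zeroLocus] at h1
    exact h1 hr
  obtain ⟨k, hk⟩ := hrad
  have h0 : r ^ k • (⟨x, Submodule.mem_span_singleton_self x⟩ : N) = 0 :=
    Module.mem_annihilator.mp hk _
  exact congrArg Subtype.val ((hreg.pow k) (h0.trans (smul_zero (r ^ k)).symm))

end Groth.Agent.S5163
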