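import Groth.Statements.S18738
import Groth.Agent.ModPairLib.Closure

set_option autoImplicit false
universe u
open CategoryTheory CategoryTheory.Limits AlgebraicGeometry TopologicalSpace
open ModPair

namespace Groth.Agent.S18738

/-- In the category of modulus pairs and ambient morphisms, the class Σ of abstract admissible blow-ups
(minimal, proper, an isomorphism over the interior of the target) admits a calculus of right
fractions: it contains the identities and is stable under composition; every pair X' ⟶ X ⟵ Y with X'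
⟶ X in Σ can be completed to a commutative square with a morphism Y' ⟶ Y in Σ; and two ambient
morphisms f, g : X ⟶ Y equalized by some Y ⟶ Z in Σ are equalized by some X' ⟶ X in Σ. -/
theorem result :
    (ModPair.Pair.admBlowup.{u}).HasRightCalculusOfFractions := by
  refine
    { id_mem := fun P => Groth.Agent.ModPairLib.isAdmBlowup_id P.mod
      comp_mem := fun f g hf hg => Groth.Agent.ModPairLib.isAdmBlowup_comp hf hg
      exists_rightFraction := fun X Y φ => ?_
      ext := fun X Y Y' f₁ f₂ s hs h => ?_ }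
  · obtain ⟨hmin, hprop, hiso⟩ := φ.hs
    let p := pullback.fst φ.f.hom φ.s.hom
    have hU : ModPair.interior X.mod ≤ φ.f.hom ⁻¹ᵁ ModPair.interior φ.Y'.mod :=
      Groth.Agent.ModPairLib.interior_le_of_ambient φ.f.cond
    have hpiso : IsIso (p ∣_ ModPair.interior X.mod) :=
      Groth.Agent.ModPairLib.isIso_restrict_baseChange φ.f.hom φ.s.hom _ _ hU
    let q : (p ⁻¹ᵁ ModPair.interior X.mod).ι.image ⟶ X.total :=
      (p ⁻¹ᵁ ModPair.interior X.mod).ι.imageι ≫ p
    let Z : ModPair.Pair.{u} := ⟨_, X.mod.comap q, Groth.Agent.ModPairLib.isEffCartier_closure X.isEffCartier p⟩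
    let s : Z ⟶ X := ⟨q, le_rfl⟩
    let r := (p ⁻¹ᵁ ModPair.interior X.mod).ι.imageι ≫ pullback.snd φ.f.hom φ.s.hom
    have hw : r ≫ φ.s.hom = q ≫ φ.f.hom := by simp [r, q, p, pullback.condition]
    have hr : ModPair.IsAmbient (X.mod.comap q) Y.mod r :=
      Groth.Agent.ModPairLib.isAmbient_of_minimal_square hw hmin φ.f.cond
    exact ⟨⟨s, Groth.Agent.ModPairLib.isAdmBlowup_closure p, ⟨r, hr⟩⟩,
      Pair.Hom.ext hw.symm⟩
  · obtain ⟨hmin, hprop, hiso⟩ := hs
    refine ⟨X, 𝟙 X, Groth.Agent.ModPairLib.isAdmBlowup_id X.mod, ?_⟩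
    have hh : f₁.hom ≫ s.hom = f₂.hom ≫ s.hom := congrArg Pair.Hom.hom h
    have hW : s.hom ⁻¹ᵁ ModPair.interior Y'.mod = ModPair.interior Y.mod := by
      rw [hmin, Groth.Agent.ModPairLib.interior_comap]
    have e : ∀ f : X ⟶ Y, ModPair.interior X.mod ≤ f.hom ⁻¹ᵁ (s.hom ⁻¹ᵁ ModPair.interior Y'.mod) := fun f => by
      rw [hW]; exact Groth.Agent.ModPairLib.interior_le_of_ambient f.cond
    have key : f₁.hom.resLE _ _ (e f₁) = f₂.hom.resLE _ _ (e f₂) := by
      have hi : Mono (s.hom ∣_ ModPair.interior Y'.mod) := inferInstance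
      refine (cancel_mono (s.hom ∣_ ModPair.interior Y'.mod)).1 ?_
      refine (cancel_mono (ModPair.interior Y'.mod).ι).1 ?_
      simp only [Category.assoc, morphismRestrict_ι, Scheme.Hom.resLE_comp_ι_assoc, hh]
    have : f₁.hom = f₂.hom := by
      refine Groth.Agent.ModPairLib.hom_ext X.isEffCartier s.hom _ _ hh ?_
      rw [← Scheme.Hom.resLE_comp_ι f₁.hom (e f₁), key, Scheme.Hom.resLE_comp_ι]
    rw [Pair.Hom.ext this]

end Groth.Agent.S18738
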