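import Groth.Statements.S5286
import Groth.Agent.MultHopf.Locus
-- import your own Groth.Agent.* helpers here

set_option autoImplicit false
open CategoryTheory MonoidalCategory CartesianMonoidalCategory MonObj GrpObj AlgebraicGeometry
universe u
open SGA3x

namespace Groth.Agent.S5286

set_option backward.isDefEq.respectTransparency.types false
open Groth.Agent.MultHopf
open CategoryTheory.Limits
open scoped TensorProduct
open WithConv

/-- Let u : H ⟶ G be a homomorphism of S-groups, with H of multiplicative type and of finite type and G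
separated over S; suppose S locally Noetherian or G of finite presentation over S. Then the set U of
points s ∈ S such that u_s : H_s ⟶ G_s is the unit homomorphism is open and closed in S, and the
homomorphism H|_U ⟶ G|_U induced above U is the unit homomorphism. -/
theorem result {S : Scheme.{u}} (H G : Over S) [GrpObj H] [GrpObj G]
    (hH : SGA3x.IsMultTypeFT H) [IsSeparated G.hom]
    (hG : IsLocallyNoetherian S ∨ (LocallyOfFinitePresentation G.hom ∧ QuasiCompact G.hom ∧ QuasiSeparated G.hom))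
    (u : H ⟶ G) [IsMonHom u] :
    ∃ U : S.Opens, IsClosed (U : Set S) ∧
      (∀ s : S, s ∈ U ↔ (Over.pullback (S.fromSpecResidueField s)).map u = 1) ∧
      (Over.pullback U.ι).map u = 1 := by
  classical
  let κ := fun s : S => S.fromSpecResidueField s
  let U : Set S := {s | (Over.pullback (S.fromSpecResidueField s)).map u = 1}
  have : IsAffineHom H.hom := isAffineHom_of_isMultTypeFT H hH
  have : LocallyOfFiniteType H.hom := Groth.Agent.MultTypeMono.locallyOfFiniteType_of_isMultTypeFT H hH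
  have main : ∀ (V : S.Opens) (hV : IsAffineOpen V),
      ∃ (A₀ : Type u) (_ : CommRing A₀) (_ : HopfAlgebra Γ(S, V) A₀)
        (eA : Grp.mk (Red.bc hV.fromSpec H) ≅ Grp.mk (hspec Γ(S, V) A₀)) (J : Ideal A₀), J.FG ∧
        ∀ (C : Type u) [CommRing C] [Algebra Γ(S, V) C] (φ : WithConv (A₀ →ₐ[Γ(S, V)] C)),
          Spec.mapMulEquiv φ ≫ (resHom hV.fromSpec eA u).hom.hom = 1 ↔ ∀ a ∈ J, φ.ofConv a = 0 := by
    intro V hV
    let j₀ := hV.fromSpec
    have : IsAffineHom (Red.bc j₀ H).hom := MorphismProperty.pullback_snd (P := @IsAffineHom) _ _ inferInstance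
    have : LocallyOfFiniteType (Red.bc j₀ H).hom :=
      MorphismProperty.pullback_snd (P := @LocallyOfFiniteType) _ _ inferInstance
    have : IsSeparated (Red.bc j₀ G).hom := MorphismProperty.pullback_snd (P := @IsSeparated) _ _ inferInstance
    obtain ⟨A₀, _, _, ⟨eA⟩⟩ := exists_hopf Γ(S, V) (Red.bc j₀ H)
    have : IsMonHom (resHom j₀ eA u).hom.hom := (resHom j₀ eA u).hom.isMonHom_hom
    obtain ⟨J, -, hfg, hiff⟩ := exists_ker_ideal (resHom j₀ eA u).hom.hom
    refine ⟨A₀, inferInstance, inferInstance, eA, J, ?_, hiff⟩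
    rcases hG with hN | ⟨hlfp, -, -⟩
    · have : IsNoetherianRing Γ(S, V) := hN.component_noetherian ⟨V, hV⟩
      have : Algebra.FiniteType Γ(S, V) A₀ := by
        let g : hspec Γ(S, V) A₀ ⟶ Red.bc j₀ H := eA.inv.hom.hom
        have : IsIso g := ⟨eA.hom.hom.hom, congrArg (fun z => z.hom.hom) eA.inv_hom_id, congrArg (fun z => z.hom.hom) eA.hom_inv_id⟩
        have : IsIso g.left := inferInstanceAs (IsIso ((Over.forget _).map g))
        have h1 : LocallyOfFiniteType (Spec.map (CommRingCat.ofHom (algebraMap Γ(S, V) A₀))) := by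
          rw [show Spec.map (CommRingCat.ofHom (algebraMap Γ(S, V) A₀)) = g.left ≫ (Red.bc j₀ H).hom from (Over.w g).symm]
          exact (MorphismProperty.cancel_left_of_respectsIso (P := @LocallyOfFiniteType) g.left (Red.bc j₀ H).hom).2 inferInstance
        exact RingHom.finiteType_algebraMap.1 ((HasRingHomProperty.Spec_iff (P := @LocallyOfFiniteType)).1 h1)
      have : IsNoetherianRing A₀ := Algebra.FiniteType.isNoetherianRing Γ(S, V) A₀
      exact IsNoetherian.noetherian J
    · exact hfg (MorphismProperty.pullback_snd (P := @LocallyOfFiniteType) _ _ inferInstance)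
  choose A₀ hA hH₀ eA J hJfg hiff using main
  -- criterion at a point of an affine open
  have hptcrit : ∀ (V : S.Opens) (hV : IsAffineOpen V) (s : S) (hs : s ∈ V),
      letI : Algebra Γ(S, V) (S.residueField s) := ((S.residue s).hom.comp (S.presheaf.germ V s hs).hom).toAlgebra
      s ∈ U ↔ ∀ a ∈ J V hV, (1 : S.residueField s) ⊗ₜ[Γ(S, V)] a = 0 := by
    intro V hV s hs
    let : Algebra Γ(S, V) (S.residueField s) := ((S.residue s).hom.comp (S.presheaf.germ V s hs).hom).toAlgebra
    have h1 := map_eq_one_iff_ideal hV.fromSpec (eA V hV) u (J V hV) (hiff V hV) (S.residueField s)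
    have hcomp : Spec.map (CommRingCat.ofHom (algebraMap Γ(S, V) (S.residueField s))) ≫ hV.fromSpec =
        S.fromSpecResidueField s := by
      show Spec.map (S.presheaf.germ V s hs ≫ S.residue s) ≫ hV.fromSpec = Spec.map (S.residue s) ≫ S.fromSpecStalk s
      rw [Spec.map_comp, Category.assoc, ← hV.fromSpecStalk_eq_fromSpecStalk hs]
      rfl
    rw [hcomp] at h1
    exact h1
  -- triviality near a point of U
  have hnear : ∀ s ∈ U, ∃ W : S.Opens, s ∈ W ∧ (Over.pullback W.ι).map u = 1 := by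
    intro s hs
    obtain ⟨V, hV, hsV, -⟩ := exists_isAffineOpen_mem_and_subset (x := s) (U := ⊤) trivial
    let R₀ : Type u := Γ(S, V)
    let R : Type u := S.presheaf.stalk s
    let : Algebra R₀ R := (S.presheaf.germ V s hsV).hom.toAlgebra
    have hloc : IsLocalization.AtPrime R (hV.primeIdealOf ⟨s, hsV⟩).asIdeal := hV.isLocalization_stalk ⟨s, hsV⟩
    let : Algebra R₀ (S.residueField s) := ((S.residue s).hom.comp (S.presheaf.germ V s hsV).hom).toAlgebra
    let g : Spec (CommRingCat.of R) ⟶ Spec (CommRingCat.of R₀) := Spec.map (CommRingCat.ofHom (algebraMap R₀ R))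
    have hg : g ≫ hV.fromSpec = S.fromSpecStalk s := hV.fromSpecStalk_eq_fromSpecStalk hsV
    let eR := bcModel (R := R) hV.fromSpec (eA V hV)
    have hMT : SGA3b.IsMultType R (R ⊗[R₀] A₀ V hV) :=
      isMultType_of_isMultTypeFT H hH (g ≫ hV.fromSpec) s (Iso.refl _)
        (by rw [hg]; exact ((congrArg (· ≫ _) (Spec.map_id _)).trans (Category.id_comp _)).symm) eR
    let J' : Ideal (R ⊗[R₀] A₀ V hV) := (J V hV).map (Algebra.TensorProduct.includeRight : A₀ V hV →ₐ[R₀] R ⊗[R₀] A₀ V hV)
    have : IsMonHom (resHom (g ≫ hV.fromSpec) eR u).hom.hom := (resHom (g ≫ hV.fromSpec) eR u).hom.isMonHom_hom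
    have h0 := (hptcrit V hV s hsV).1 hs
    have hJm : J' ≤ (IsLocalRing.maximalIdeal R).map (algebraMap R (R ⊗[R₀] A₀ V hV)) := by
      let p : R →ₐ[R₀] S.residueField s := { (S.residue s).hom with commutes' := fun _ => rfl }
      let π : R ⊗[R₀] A₀ V hV →ₐ[R₀] S.residueField s ⊗[R₀] A₀ V hV :=
        Algebra.TensorProduct.map p (AlgHom.id R₀ (A₀ V hV))
      have hp : Function.Surjective p := S.residue_surjective s
      have hker : RingHom.ker π ≤ (IsLocalRing.maximalIdeal R).map (algebraMap R (R ⊗[R₀] A₀ V hV)) := by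
        intro x hx
        have hk := Algebra.TensorProduct.rTensor_ker (R := R₀) (S := R₀) (C := A₀ V hV) (f := p) hp
        have hx' : x ∈ (RingHom.ker p).map (Algebra.TensorProduct.includeLeft : R →ₐ[R₀] R ⊗[R₀] A₀ V hV) := hk ▸ hx
        refine Ideal.map_mono ?_ hx'
        intro r hr
        exact (IsLocalRing.residue_eq_zero_iff r).1 hr
      refine le_trans ?_ hker
      rw [Ideal.map_le_iff_le_comap]
      intro a ha
      show π ((1 : R) ⊗ₜ[R₀] a) = 0
      rw [Algebra.TensorProduct.map_tmul, map_one]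
      exact h0 a ha
    have hbot : J' = ⊥ := ker_eq_bot_of_local hMT (resHom (g ≫ hV.fromSpec) eR u).hom.hom J' ((hJfg V hV).map _)
      (fun C _ _ φ => ker_ideal_baseChange hV.fromSpec (eA V hV) u (J V hV) (hiff V hV) C φ) hJm
    obtain ⟨t, ht⟩ := hJfg V hV
    let p := (hV.primeIdealOf ⟨s, hsV⟩).asIdeal
    have hkill : ∀ a ∈ t, ∃ f : R₀, f ∉ p ∧ f • a = 0 := by
      intro a ha
      have h1 : (TensorProduct.mk R₀ R (A₀ V hV) 1) a = 0 := by
        have : (1 : R) ⊗ₜ[R₀] a ∈ J' := Ideal.mem_map_of_mem _ (ht.le (Ideal.subset_span ha))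
        rwa [hbot, Ideal.mem_bot] at this
      have : IsLocalizedModule p.primeCompl (TensorProduct.mk R₀ R (A₀ V hV) 1) :=
        (isLocalizedModule_iff_isBaseChange p.primeCompl R _).2 (TensorProduct.isBaseChange _ _ _)
      obtain ⟨⟨f, hf⟩, hfd⟩ := (IsLocalizedModule.eq_zero_iff p.primeCompl (TensorProduct.mk R₀ R (A₀ V hV) 1)).1 h1
      exact ⟨f, hf, hfd⟩
    choose! f hf hfa using hkill
    let f₀ := ∏ a ∈ t, f a
    have hf₀ : f₀ ∉ p := fun h => by
      obtain ⟨a, ha, ha'⟩ := (Ideal.IsPrime.prod_mem_iff).1 h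
      exact hf a ha ha'
    refine ⟨S.basicOpen f₀, ?_, ?_⟩
    · rw [Scheme.mem_basicOpen _ f₀ s hsV]
      exact (IsLocalization.AtPrime.isUnit_to_map_iff R p f₀).2 hf₀
    rw [MultHopf.map_eq_one_iff]
    intro T b hb y
    have hle : S.basicOpen f₀ ≤ V := S.basicOpen_le f₀
    let b' : T.left ⟶ Spec (CommRingCat.of R₀) := b ≫ S.homOfLE hle ≫ hV.isoSpec.hom
    have hb' : b' ≫ hV.fromSpec = T.hom := by
      simp only [b', Category.assoc, ← hb, IsAffineOpen.fromSpec]
      simp
    refine hom_ext_pieces hV.fromSpec b' hb' _ _ fun C _ _ ρ hρ => ?_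
    rw [← Category.assoc, MonObj.comp_one, comp_eq_one_iff hV.fromSpec (eA V hV) u (J V hV) (hiff V hV)]
    have hunit : IsUnit (algebraMap R₀ C f₀) := by
      rw [← not_not (a := IsUnit _)]
      intro hn
      obtain ⟨m, hm, hm'⟩ := exists_max_ideal_of_mem_nonunits hn
      let x : Spec (CommRingCat.of C) := ⟨m, hm.isPrime⟩
      have h1 : (ρ.left ≫ b' ≫ hV.fromSpec) x ∈ S.basicOpen f₀ := by
        rw [hb', ← hb, ← Category.assoc, Scheme.Hom.comp_apply]
        exact Subtype.mem _
      rw [← Category.assoc, hρ, Scheme.Hom.comp_apply] at h1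
      have h2 : Spec.map (CommRingCat.ofHom (algebraMap R₀ C)) x ∈ PrimeSpectrum.basicOpen f₀ :=
        hV.fromSpec_preimage_basicOpen f₀ ▸ h1
      exact h2 hm'
    intro a ha
    suffices Ideal.span (t : Set (A₀ V hV)) ≤ RingHom.ker (ptEquiv hV.fromSpec (eA V hV) C (ρ ≫ y)).ofConv from
      this (ht.symm.le ha)
    rw [Ideal.span_le]
    intro c hc
    have h1 := congrArg (ptEquiv hV.fromSpec (eA V hV) C (ρ ≫ y)).ofConv (hfa c hc)
    rw [map_smul, map_zero, Algebra.smul_def] at h1
    exact (isUnit_of_dvd_unit ((algebraMap R₀ C).map_dvd (Finset.dvd_prod_of_mem f hc)) hunit).mul_right_eq_zero.1 h1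
  -- restriction to a point
  have hrestr : ∀ (W : S.Opens), (Over.pullback W.ι).map u = 1 → ∀ x ∈ W, x ∈ U := by
    intro W hW x hx
    rw [MultHopf.map_eq_one_iff] at hW
    show (Over.pullback (S.fromSpecResidueField x)).map u = 1
    rw [MultHopf.map_eq_one_iff]
    intro T b hb y
    have hr : Set.range T.hom ⊆ Set.range W.ι := by
      rw [Scheme.Opens.range_ι]
      rintro _ ⟨z, rfl⟩
      rw [← hb, Scheme.Hom.comp_apply]
      have : S.fromSpecResidueField x (b z) = x := by
        have := Scheme.range_fromSpecResidueField (X := S) x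
        exact Set.mem_singleton_iff.1 (this ▸ Set.mem_range_self (b z))
      rw [this]
      exact hx
    exact hW T (IsOpenImmersion.lift W.ι T.hom hr) (IsOpenImmersion.lift_fac _ _ _) y
  have hopen : IsOpen U := by
    rw [isOpen_iff_forall_mem_open]
    intro s hs
    obtain ⟨W, hsW, hW⟩ := hnear s hs
    exact ⟨W, fun x hx => hrestr W hW x hx, W.isOpen, hsW⟩
  have hclosed : IsClosed U := by
    obtain ⟨S', f, hfl, hsurj, hcov, hlocal⟩ := hH
    have hchart : IsClosed (f ⁻¹' U) := by
      choose Ux hUx M _ hMfg hiso using hlocal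
      have hsup : ∀ x' : S', ∃ V : S.Opens, IsAffineOpen V ∧ f x' ∈ V := fun x' => by
        obtain ⟨V, hV, hx, -⟩ := exists_isAffineOpen_mem_and_subset (x := f x') (U := ⊤) trivial
        exact ⟨V, hV, hx⟩
      choose V hV hfV using hsup
      have hW : ∀ x' : S', ∃ W : S'.Opens, IsAffineOpen W ∧ x' ∈ W ∧ W ≤ Ux x' ⊓ f ⁻¹ᵁ V x' := fun x' => by
        obtain ⟨W, hW, hx, hle⟩ := exists_isAffineOpen_mem_and_subset (x := x') (U := Ux x' ⊓ f ⁻¹ᵁ V x')
          ⟨hUx x', hfV x'⟩
        exact ⟨W, hW, hx, hle⟩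
      choose W hWa hxW hWle using hW
      have hWcov : TopologicalSpace.IsOpenCover W := top_le_iff.1 fun x _ => TopologicalSpace.Opens.mem_iSup.2 ⟨x, hxW x⟩
      rw [hWcov.isClosed_iff_coe_preimage]
      intro x
      let R₀ : Type u := Γ(S, V x)
      let R₁ : Type u := Γ(S', W x)
      have hle : W x ≤ f ⁻¹ᵁ V x := (hWle x).trans inf_le_right
      let : Algebra R₀ R₁ := (f.appLE (V x) (W x) hle).hom.toAlgebra
      let g₁ : Spec (CommRingCat.of R₁) ⟶ Spec (CommRingCat.of R₀) := Spec.map (CommRingCat.ofHom (algebraMap R₀ R₁))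
      let g' : Spec (CommRingCat.of R₁) ⟶ (Ux x).toScheme :=
        (hWa x).isoSpec.inv ≫ S'.homOfLE ((hWle x).trans inf_le_left)
      have hg : g₁ ≫ (hV x).fromSpec = g' ≫ (Ux x).ι ≫ f := by
        have h1 : g' ≫ (Ux x).ι = (hWa x).fromSpec :=
          (Category.assoc _ _ _).trans (congrArg ((hWa x).isoSpec.inv ≫ ·) (Scheme.homOfLE_ι S' _))
        rw [← Category.assoc g', h1]
        exact IsAffineOpen.SpecMap_appLE_fromSpec f (hV x) (hWa x) hle
      obtain ⟨eU⟩ := hiso x
      let t := Limits.IsTerminal.from specULiftZIsTerminal (Ux x).toScheme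
      let e : Grp.mk (hspec R₁ (R₁ ⊗[R₀] A₀ (V x) (hV x))) ≅
          Grp.mk (hspec R₁ (MonoidAlgebra R₁ (ULift.{u} (Multiplicative (M x))))) :=
        (bcSpec R₀ R₁ (A₀ (V x) (hV x))).symm ≪≫ (bcIso g₁ (eA (V x) (hV x))).symm ≪≫
          (bcComp g₁ (hV x).fromSpec H).symm ≪≫ bcCongr hg H ≪≫ bcComp g' _ H ≪≫
          bcIso g' eU ≪≫ (bcComp g' t _).symm ≪≫ bcDiag _ _ _ (M x)
      obtain ⟨e'⟩ := nonempty_bialgEquiv_of_iso e
      let Cset : Set R₁ := {c | ∃ a ∈ J (V x) (hV x), ∃ m, (e' ((1 : R₁) ⊗ₜ[R₀] a)).coeff m = c}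
      have key : ∀ q : W x, (f q.1 ∈ U ↔ ∀ c ∈ Cset, q.1 ∉ S'.basicOpen c) := by
        intro q
        have hqV : f q.1 ∈ V x := hle q.2
        let : Algebra R₀ (S.residueField (f q.1)) :=
          ((S.residue (f q.1)).hom.comp (S.presheaf.germ (V x) (f q.1) hqV).hom).toAlgebra
        let K := S'.residueField q.1
        let : Algebra R₁ K := ((S'.residue q.1).hom.comp (S'.presheaf.germ (W x) q.1 q.2).hom).toAlgebra
        let : Algebra R₀ K := ((algebraMap R₁ K).comp (algebraMap R₀ R₁)).toAlgebra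
        have : IsScalarTower R₀ R₁ K := IsScalarTower.of_algebraMap_eq fun _ => rfl
        let : Algebra (S.residueField (f q.1)) K := (f.residueFieldMap q.1).hom.toAlgebra
        have c1 : Spec.map (CommRingCat.ofHom (algebraMap R₀ (S.residueField (f q.1)))) ≫ (hV x).fromSpec =
            S.fromSpecResidueField (f q.1) := by
          show Spec.map (S.presheaf.germ (V x) (f q.1) hqV ≫ S.residue _) ≫ _ = Spec.map (S.residue _) ≫ S.fromSpecStalk _
          rw [Spec.map_comp, Category.assoc, ← (hV x).fromSpecStalk_eq_fromSpecStalk hqV]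
          rfl
        have c2 : Spec.map (CommRingCat.ofHom (algebraMap R₁ K)) ≫ (hWa x).fromSpec = S'.fromSpecResidueField q.1 := by
          show Spec.map (S'.presheaf.germ (W x) q.1 q.2 ≫ S'.residue _) ≫ _ = Spec.map (S'.residue _) ≫ S'.fromSpecStalk _
          rw [Spec.map_comp, Category.assoc, ← (hWa x).fromSpecStalk_eq_fromSpecStalk q.2]
          rfl
        have : IsScalarTower R₀ (S.residueField (f q.1)) K := by
          refine IsScalarTower.of_algebraMap_eq' ?_
          apply congrArg CommRingCat.Hom.hom (a₁ := CommRingCat.ofHom (algebraMap R₀ R₁) ≫ CommRingCat.ofHom (algebraMap R₁ K))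
            (a₂ := CommRingCat.ofHom (algebraMap R₀ (S.residueField (f q.1))) ≫ f.residueFieldMap q.1)
          apply Spec.map_injective
          rw [← cancel_mono (hV x).fromSpec, Spec.map_comp, Spec.map_comp, Category.assoc, Category.assoc]
          refine (congrArg _ (IsAffineOpen.SpecMap_appLE_fromSpec f (hV x) (hWa x) hle)).trans ?_
          refine ((Category.assoc _ _ _).symm.trans (congrArg (· ≫ f) c2)).trans ?_
          refine Eq.trans ?_ (congrArg _ c1.symm)
          exact (Scheme.Hom.SpecMap_residueFieldMap_fromSpecResidueField f q.1).symm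
        rw [hptcrit (V x) (hV x) (f q.1) hqV]
        have hvan : ∀ a, ((1 : S.residueField (f q.1)) ⊗ₜ[R₀] a = 0 ↔
            ∀ m, algebraMap R₁ K ((e' ((1 : R₁) ⊗ₜ[R₀] a)).coeff m) = 0) := by
          intro a
          rw [tmul_eq_zero_iff_of_field (S.residueField (f q.1)) K]
          let E : K ⊗[R₀] A₀ (V x) (hV x) ≃ₐ[K] MonoidAlgebra K (ULift.{u} (Multiplicative (M x))) :=
            ((Algebra.TensorProduct.cancelBaseChange R₀ R₁ K K (A₀ (V x) (hV x))).symm.trans
              (Algebra.TensorProduct.congr AlgEquiv.refl (e' : _ ≃ₐ[R₁] _))).trans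
              (MonoidAlgebra.scalarTensorEquiv R₁ K (M := ULift.{u} (Multiplicative (M x))))
          rw [← E.injective.eq_iff, map_zero, ← MonoidAlgebra.coeff_injective.eq_iff, MonoidAlgebra.coeff_zero,
            Finsupp.ext_iff]
          refine forall_congr' fun m => ?_
          have hE : (E ((1 : K) ⊗ₜ[R₀] a)).coeff m = algebraMap R₁ K ((e' ((1 : R₁) ⊗ₜ[R₀] a)).coeff m) := by
            simp [E, Algebra.TensorProduct.cancelBaseChange_symm_tmul]
          rw [hE, Finsupp.zero_apply]
        constructor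
        · rintro h c ⟨a, ha, m, rfl⟩ hc
          rw [Scheme.mem_basicOpen _ _ q.1 q.2] at hc
          exact (IsLocalRing.residue_ne_zero_iff_isUnit _).2 hc ((hvan a).1 (h a ha) m)
        · intro h a ha
          rw [hvan]
          intro m
          by_contra hne
          refine h _ ⟨a, ha, m, rfl⟩ ?_
          rw [Scheme.mem_basicOpen _ _ q.1 q.2]
          exact (IsLocalRing.residue_ne_zero_iff_isUnit _).1 hne
      have heq : ((↑) : W x → S') ⁻¹' (f ⁻¹' U) = (⋃ c ∈ Cset, ((↑) : W x → S') ⁻¹' (S'.basicOpen c : Set S'))ᶜ := by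
        ext q
        simpa using key q
      show IsClosed (((↑) : W x → S') ⁻¹' (f ⁻¹' U))
      rw [heq]
      exact (isOpen_biUnion fun c _ => (S'.basicOpen c).isOpen.preimage continuous_subtype_val).isClosed_compl
    let 𝒱 : S.affineOpens → S.Opens := fun V => V.1
    have hVcov : TopologicalSpace.IsOpenCover 𝒱 := iSup_affineOpens_eq_top S
    rw [hVcov.isClosed_iff_coe_preimage]
    rintro ⟨V, hV⟩
    obtain ⟨W, hWc, hWV⟩ := hcov V hV
    have hle : W ≤ f ⁻¹ᵁ V := fun w hw => hWV.le ⟨w, hw, rfl⟩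
    let b : W.toScheme ⟶ V.toScheme := f.resLE V W hle
    have hb : b ≫ V.ι = W.ι ≫ f := Scheme.Hom.resLE_comp_ι f hle
    have : IsAffine V.toScheme := hV
    have : CompactSpace W.toScheme := isCompact_iff_compactSpace.1 hWc
    have : QuasiCompact b := inferInstance
    have : Flat b := MorphismProperty.of_postcomp (W := @Flat) (W' := @IsOpenImmersion) b V.ι
      inferInstance (hb ▸ inferInstance)
    have : Surjective b := ⟨fun v => by
      obtain ⟨w, hw, hwv⟩ := hWV.ge v.2
      refine ⟨⟨w, hw⟩, V.ι.isOpenEmbedding.injective ?_⟩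
      rw [← Scheme.Hom.comp_apply, hb, Scheme.Hom.comp_apply]
      exact hwv⟩
    show IsClosed (V.ι ⁻¹' U)
    rw [← (Flat.isQuotientMap_of_surjective b).isClosed_preimage, ← Set.preimage_comp,
      show (V.ι : V.toScheme → S) ∘ (b : W.toScheme → V.toScheme) = (f : S' → S) ∘ (W.ι : W.toScheme → S') from
        funext fun w => by rw [Function.comp_apply, Function.comp_apply, ← Scheme.Hom.comp_apply, hb, Scheme.Hom.comp_apply]]
    exact hchart.preimage W.ι.continuous
  refine ⟨⟨U, hopen⟩, hclosed, fun s => Iff.rfl, ?_⟩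
  rw [MultHopf.map_eq_one_iff]
  intro T b hb y
  choose W hsW hW using hnear
  have hz : ∀ x : T.left, T.hom x ∈ U := fun x => by
    rw [← hb, Scheme.Hom.comp_apply]
    exact Subtype.mem _
  let O : T.left → T.left.Opens := fun x => T.hom ⁻¹ᵁ W _ (hz x)
  have hO : TopologicalSpace.IsOpenCover O := top_le_iff.1 fun x _ => TopologicalSpace.Opens.mem_iSup.2 ⟨x, hsW _ (hz x)⟩
  refine Over.OverMorphism.ext (Scheme.Cover.hom_ext (T.left.openCoverOfIsOpenCover O hO) _ _ fun x => ?_)
  let T' : Over S := Over.mk ((O x).ι ≫ T.hom)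
  let ρ : T' ⟶ T := Over.homMk (O x).ι
  have h1 := (MultHopf.map_eq_one_iff _ u).1 (hW _ (hz x)) T' (T.hom.resLE _ (O x) le_rfl) (Scheme.Hom.resLE_comp_ι _ _) (ρ ≫ y)
  rw [Category.assoc] at h1
  exact congrArg (fun q : T' ⟶ G => q.left) (h1.trans (MonObj.comp_one ρ).symm)

end Groth.Agent.S5286
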