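import Groth.Statements.S5294
import Groth.Agent.MultHopf.SubgroupConj
-- import your own Groth.Agent.* helpers here

set_option autoImplicit false
open CategoryTheory MonoidalCategory CartesianMonoidalCategory MonObj GrpObj AlgebraicGeometry
universe u
open SGA3x

namespace Groth.Agent.S5294

open Groth.Agent.MultHopf Limits
set_option backward.isDefEq.respectTransparency.types false

/-- Let S = Spec R be affine, J a nilpotent ideal of R and S₀ = Spec (R/J); let G be an S-group smooth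
over S, i : H ⟶ G and i' : H' ⟶ G two sub-group-schemes (homomorphisms which are immersions) of
multiplicative type (fpqc-locally on S isomorphic, as groups, to diagonalisable groups D(M), M
allowed to vary and taken in Type 0), and g₀ an S₀-valued point of G with int(g₀)(H₀) = H'₀: for
points over S₀-schemes, conjugation by g₀ carries the points of H onto the points of H'. Then g₀
lifts to an S-point g of G with int(g)(H) = H' (int(g) ∘ i factors through i' by an isomorphism). -/
theorem result {R : Type u} [CommRing R] (J : Ideal R) (hJ : IsNilpotent J)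
    (G H H' : Over (Spec (CommRingCat.of R))) [GrpObj G] [GrpObj H] [GrpObj H'] (hG : Smooth G.hom)
    (hH : TwC.Locally (Spec (CommRingCat.of R)) TwC.Topology.fpqc (fun S' f => ∃ (M : Type) (_ : AddCommGroup M), Nonempty (Grp.mk (Red.bc f H) ≅ Grp.mk (Red.DS S' M))))
    (hH' : TwC.Locally (Spec (CommRingCat.of R)) TwC.Topology.fpqc (fun S' f => ∃ (M : Type) (_ : AddCommGroup M), Nonempty (Grp.mk (Red.bc f H') ≅ Grp.mk (Red.DS S' M))))
    (i : H ⟶ G) [IsMonHom i] [IsImmersion i.left] (i' : H' ⟶ G) [IsMonHom i'] [IsImmersion i'.left]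
    (g₀ : (Over.mk (Spec.map (CommRingCat.ofHom (Ideal.Quotient.mk J))) : Over (Spec (CommRingCat.of R))) ⟶ G)
    (h0 : ∀ (X : Over (Spec (CommRingCat.of R))) (p : X ⟶ (Over.mk (Spec.map (CommRingCat.ofHom (Ideal.Quotient.mk J))) : Over (Spec (CommRingCat.of R)))),
      (∀ h : X ⟶ H, ∃ h' : X ⟶ H', (p ≫ g₀) * (h ≫ i) * (p ≫ g₀)⁻¹ = h' ≫ i') ∧
      (∀ h' : X ⟶ H', ∃ h : X ⟶ H, (p ≫ g₀)⁻¹ * (h' ≫ i') * (p ≫ g₀) = h ≫ i)) :
    ∃ g : 𝟙_ (Over (Spec (CommRingCat.of R))) ⟶ G, toUnit (Over.mk (Spec.map (CommRingCat.ofHom (Ideal.Quotient.mk J))) : Over (Spec (CommRingCat.of R))) ≫ g = g₀ ∧ SGA3x.ConjBy i i' g := by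
  have : Mono i.left := inferInstance
  have : Mono i := Over.mono_of_mono_left i
  have : Mono i'.left := inferInstance
  have : Mono i' := Over.mono_of_mono_left i'
  have : (Over.pullback (jcl J)).PreservesMonomorphisms :=
    Functor.preservesMonomorphisms_of_adjunction (Over.mapPullbackAdj (jcl J))
  obtain ⟨m, hm⟩ := exists_lift_section hJ hG g₀
  let i₁ := (toUnit H ≫ m) * i * (toUnit H ≫ m)⁻¹
  have : IsMonHom i₁ := isMonHom_conj m i
  have : Mono i₁ := ⟨fun {Z} a b h => (cancel_mono i).1 (by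
    simp only [i₁, comp_conj] at h
    exact mul_left_cancel (mul_right_cancel h))⟩
  have hconj : ∀ (T : Over (Spec (CommRingCat.of R))) (p : T ⟶ cl J) (y : T ⟶ H),
      y ≫ i₁ = (p ≫ g₀) * (y ≫ i) * (p ≫ g₀)⁻¹ := fun T p y => by
    rw [comp_conj, toUnit_comp_eq m p, hm]
  obtain ⟨w, hw, hw'⟩ := exists_factor_cl i' i₁ fun T p y => by
    obtain ⟨x, hx⟩ := (h0 T p).1 y
    exact ⟨x, by rw [hconj T p y, hx]⟩
  obtain ⟨w', hw₁, hw₁'⟩ := exists_factor_cl i₁ i' fun T p y => by
    obtain ⟨x, hx⟩ := (h0 T p).2 y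
    exact ⟨x, by rw [hconj T p x, ← hx]; group⟩
  let ψ : Red.bc (jcl J) H ≅ Red.bc (jcl J) H' := ⟨w, w',
    by rw [← cancel_mono ((Over.pullback (jcl J)).map i₁), Category.assoc, hw₁', hw', Category.id_comp],
    by rw [← cancel_mono ((Over.pullback (jcl J)).map i'), Category.assoc, hw', hw₁', Category.id_comp]⟩
  have : IsMonHom ψ.hom := hw
  obtain ⟨φ, hφ, hφ'⟩ := exists_lift_iso_multTypeLoc hJ hH hH' ψ
  obtain ⟨g, hg, hg'⟩ := conj_lifts_mod_nilpotent J hJ hH hG i (φ.hom ≫ i') g₀ (fun X p h => by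
    rw [← hconj X p h]
    refine comp_eq_of_map_eq ?_ p h
    rw [Functor.map_comp, hφ']
    exact hw')
  exact ⟨g, hg, φ, hg'.symm⟩

end Groth.Agent.S5294
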