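import Groth.Statements.S5297
import Groth.Agent.MultHopf.SubgroupConj
-- import your own Groth.Agent.* helpers here

set_option autoImplicit false
open CategoryTheory MonoidalCategory CartesianMonoidalCategory MonObj GrpObj AlgebraicGeometry
universe u
open SGA3x

namespace Groth.Agent.S5297

open Groth.Agent.MultHopf Limits
set_option backward.isDefEq.respectTransparency.types false

/-- In the lifting form that formal smoothness of the transporter means. Let S = Spec R be affine, J a
nilpotent ideal of R and S₀ = Spec (R/J); let G be an S-group smooth over S, k : K ⟶ G a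
sub-group-scheme (a homomorphism which is an immersion) with K smooth over S or of multiplicative
type, H an S-group of multiplicative type (fpqc-locally on S isomorphic, as a group, to
diagonalisable groups D(M), M allowed to vary and taken in Type 0), u : H ⟶ G a homomorphism, and g₀
an S₀-valued point of G such that int(g₀) ∘ u takes the points of H defined over S₀-schemes into K.
Then g₀ lifts to an S-point g of G such that int(g) ∘ u factors through K on all points. -/
theorem result {R : Type u} [CommRing R] (J : Ideal R) (hJ : IsNilpotent J)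
    (G K H : Over (Spec (CommRingCat.of R))) [GrpObj G] [GrpObj K] [GrpObj H] (hG : Smooth G.hom)
    (k : K ⟶ G) [IsMonHom k] [IsImmersion k.left]
    (hK : Smooth K.hom ∨ TwC.Locally (Spec (CommRingCat.of R)) TwC.Topology.fpqc (fun S' f => ∃ (M : Type) (_ : AddCommGroup M), Nonempty (Grp.mk (Red.bc f K) ≅ Grp.mk (Red.DS S' M))))
    (hH : TwC.Locally (Spec (CommRingCat.of R)) TwC.Topology.fpqc (fun S' f => ∃ (M : Type) (_ : AddCommGroup M), Nonempty (Grp.mk (Red.bc f H) ≅ Grp.mk (Red.DS S' M))))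
    (u : H ⟶ G) [IsMonHom u] (g₀ : (Over.mk (Spec.map (CommRingCat.ofHom (Ideal.Quotient.mk J))) : Over (Spec (CommRingCat.of R))) ⟶ G)
    (h0 : ∀ (X : Over (Spec (CommRingCat.of R))) (p : X ⟶ (Over.mk (Spec.map (CommRingCat.ofHom (Ideal.Quotient.mk J))) : Over (Spec (CommRingCat.of R)))) (h : X ⟶ H),
      ∃ x : X ⟶ K, (p ≫ g₀) * (h ≫ u) * (p ≫ g₀)⁻¹ = x ≫ k) :
    ∃ g : 𝟙_ (Over (Spec (CommRingCat.of R))) ⟶ G, toUnit (Over.mk (Spec.map (CommRingCat.ofHom (Ideal.Quotient.mk J))) : Over (Spec (CommRingCat.of R))) ≫ g = g₀ ∧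
      ∀ (X : Over (Spec (CommRingCat.of R))) (h : X ⟶ H), ∃ x : X ⟶ K, (toUnit X ≫ g) * (h ≫ u) * (toUnit X ≫ g)⁻¹ = x ≫ k := by
  have : Mono k.left := inferInstance
  have : Mono k := Over.mono_of_mono_left k
  obtain ⟨m, hm⟩ := exists_lift_section hJ hG g₀
  let u₁ := (toUnit H ≫ m) * u * (toUnit H ≫ m)⁻¹
  have : IsMonHom u₁ := isMonHom_conj m u
  have hconj : ∀ (T : Over (Spec (CommRingCat.of R))) (p : T ⟶ cl J) (y : T ⟶ H),
      y ≫ u₁ = (p ≫ g₀) * (y ≫ u) * (p ≫ g₀)⁻¹ := fun T p y => by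
    rw [comp_conj, toUnit_comp_eq m p, hm]
  obtain ⟨w₀, hw₀, hw₀'⟩ := exists_factor_cl k u₁ fun T p y => by
    obtain ⟨x, hx⟩ := h0 T p y
    exact ⟨x, by rw [hconj T p y, hx]⟩
  obtain ⟨w, hw, hw'⟩ : ∃ w : H ⟶ K, IsMonHom w ∧ (Over.pullback (jcl J)).map w = w₀ := by
    rcases hK with hK | hK
    · obtain ⟨A, _, _, e, he, l, hl⟩ := exists_model hH
      obtain ⟨f, hf, hf'⟩ := exists_lift_hom hl hK hJ ((Over.pullback (jcl J)).map e.hom ≫ w₀)
      refine ⟨e.inv ≫ f, inferInstance, ?_⟩
      rw [Functor.map_comp, hf', ← Category.assoc, ← Functor.map_comp, e.inv_hom_id, CategoryTheory.Functor.map_id, Category.id_comp]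
    · exact exists_lift_hom_multTypeLoc hJ hH hK w₀
  obtain ⟨g, hg, hg'⟩ := conj_lifts_mod_nilpotent J hJ hH hG u (w ≫ k) g₀ (fun X p h => by
    rw [← hconj X p h]
    refine comp_eq_of_map_eq ?_ p h
    rw [Functor.map_comp, hw']
    exact hw₀')
  exact ⟨g, hg, fun X h => ⟨h ≫ w, by rw [Category.assoc, hg', comp_conj]⟩⟩

end Groth.Agent.S5297
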