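import Groth.Statements.S2235
import Groth.Agent.KoszulExt.BaseChange


set_option autoImplicit false
universe u
open TensorProduct
open Disc

namespace Groth.Agent.S2235

/-- Let A -> P be a ring map, f_1, ..., f_n a Koszul-regular sequence in P with B = P/(f_1, ..., f_n)
flat over A, and g_1, ..., g_n a Koszul-regular sequence in P tensor_A B generating the kernel of
the multiplication map P tensor_A B -> B. Write f_i tensor 1 = sum_j c_ij g_j. Then the annihilator
of the kernel of B tensor_A B -> B is the principal ideal generated by the image of det(c_ij). -/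
theorem result {A P : Type u} [CommRing A] [CommRing P] [Algebra A P]
    {n : ℕ} (f : Fin n → P) (hf : LCI.IsKoszulRegularSeq P (List.ofFn f))
    [Module.Flat A (P ⧸ Ideal.span (Set.range f))]
    (g : Fin n → P ⊗[A] (P ⧸ Ideal.span (Set.range f)))
    (hg : LCI.IsKoszulRegularSeq (P ⊗[A] (P ⧸ Ideal.span (Set.range f))) (List.ofFn g))
    (hgker : Ideal.span (Set.range g) = RingHom.ker (Algebra.TensorProduct.productMap
      (Ideal.Quotient.mkₐ A (Ideal.span (Set.range f))) (AlgHom.id A (P ⧸ Ideal.span (Set.range f)))))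
    (c : Matrix (Fin n) (Fin n) (P ⊗[A] (P ⧸ Ideal.span (Set.range f))))
    (hc : ∀ i, f i ⊗ₜ[A] (1 : P ⧸ Ideal.span (Set.range f)) = ∑ j, c i j * g j) :
    Submodule.annihilator (RingHom.ker
        (Algebra.TensorProduct.lmul' (S := P ⧸ Ideal.span (Set.range f)) A)) =
      Ideal.span {Algebra.TensorProduct.map (Ideal.Quotient.mkₐ A (Ideal.span (Set.range f)))
        (AlgHom.id A (P ⧸ Ideal.span (Set.range f))) (Matrix.det c)} := by
  classical
  let K := Ideal.span (Set.range f)
  let C := P ⊗[A] (P ⧸ K)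
  let μ : C →ₐ[A] (P ⧸ K) ⊗[A] (P ⧸ K) :=
    Algebra.TensorProduct.map (Ideal.Quotient.mkₐ A K) (AlgHom.id A (P ⧸ K))
  let F : Fin n → C := fun i => algebraMap P C (f i)
  have hF : Groth.Agent.KoszulExt.IsExact F :=
    ((Groth.Agent.KoszulExt.isExact_iff f).2 hf).baseChange
  have hμ : Function.Surjective μ :=
    TensorProduct.map_surjective Ideal.Quotient.mk_surjective Function.surjective_id
  have hkerμ : RingHom.ker μ = Ideal.span (Set.range F) := by
    refine (Algebra.TensorProduct.rTensor_ker (Ideal.Quotient.mkₐ A K) Ideal.Quotient.mk_surjective).trans ?_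
    rw [show RingHom.ker (Ideal.Quotient.mkₐ A K) = K from Ideal.mk_ker, Ideal.map_span, ← Set.range_comp]
    rfl
  have hlm : (Algebra.TensorProduct.lmul' (S := P ⧸ K) A).comp μ =
      Algebra.TensorProduct.productMap (Ideal.Quotient.mkₐ A K) (AlgHom.id A (P ⧸ K)) :=
    Algebra.TensorProduct.ext' fun a b => by simp [μ]
  have hK : RingHom.ker (Algebra.TensorProduct.lmul' (S := P ⧸ K) A) = (Ideal.span (Set.range g)).map μ := by
    rw [hgker, ← hlm]
    refine le_antisymm (fun z hz => ?_) (Ideal.map_le_iff_le_comap.2 fun z hz => hz)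
    obtain ⟨z, rfl⟩ := hμ z
    exact Ideal.mem_map_of_mem _ hz
  change Submodule.annihilator (RingHom.ker (Algebra.TensorProduct.lmul' (S := P ⧸ K) A)) = Ideal.span {μ c.det}
  rw [hK]
  refine SetLike.ext fun z => ?_
  obtain ⟨x, rfl⟩ := hμ z
  rw [Submodule.mem_annihilator]
  have hcF : ∀ i, F i = ∑ j, c i j * g j := fun i => hc i
  constructor
  · intro h
    have hx := (Groth.Agent.KoszulExt.mem_colon_iff hF hcF x).1 fun a ha => by
      rw [← hkerμ, RingHom.mem_ker, map_mul]
      exact h (μ a) (Ideal.mem_map_of_mem _ ha)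
    obtain ⟨p, hp, q, hq, rfl⟩ := Submodule.mem_sup.1 hx
    rw [← hkerμ, RingHom.mem_ker] at hp
    rw [map_add, hp, zero_add, ← Set.image_singleton, ← Ideal.map_span]
    exact Ideal.mem_map_of_mem _ hq
  · intro h y hy
    obtain ⟨a, ha, rfl⟩ := (Ideal.mem_map_iff_of_surjective _ hμ).1 hy
    rw [← Set.image_singleton, ← Ideal.map_span] at h
    obtain ⟨q, hq, hqx⟩ := (Ideal.mem_map_iff_of_surjective _ hμ).1 h
    rw [smul_eq_mul, ← hqx, ← map_mul, ← RingHom.mem_ker, hkerμ]
    exact (Groth.Agent.KoszulExt.mem_colon_iff hF hcF q).2 (Ideal.mem_sup_right hq) a ha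

end Groth.Agent.S2235
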