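import Groth.Statements.S2182
import Groth.Agent.NumType.Basic

set_option autoImplicit false
open Finset
open Models Models.NumericalType

namespace Groth.Agent.S2182

/-- In a numerical type, whenever a i j > 0 one has m i * a i j at most m j * |a j j| and m i * w i at
most m j * |a j j|. -/
theorem result {n : ℕ} (T : Models.NumericalType n) (i j : Fin n) (hij : 0 < T.a i j) :
    T.m i * T.a i j ≤ T.m j * |T.a j j| ∧ T.m i * T.w i ≤ T.m j * |T.a j j| := by
  have hne := NumType.ne_of_pos T hij
  have h := NumType.le_row T (i := j) (j := i) hne.symm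
  rw [NumType.symm' T j i] at h
  have hj := T.m_pos j
  have hi := T.m_pos i
  have hab : T.m j * |T.a j j| = -(T.a j j * T.m j) := by
    rw [abs_of_nonpos (NumType.diag_nonpos T j)]; ring
  rw [hab]
  refine ⟨by linarith [mul_comm (T.m i) (T.a i j)], ?_⟩
  have := (NumType.w_le T hne hij.ne').1
  nlinarith

end Groth.Agent.S2182
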