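import Groth.Statements.S2183
import Groth.Agent.NumType.Basic

set_option autoImplicit false
open Finset
open Models Models.NumericalType

namespace Groth.Agent.S2183

open Classical in
/-- Let T be a minimal numerical type with n > 1 indices and genus g at least 2, and let J be the set of
indices which are not (-2)-indices. Then J has at most 2g - 2 elements, and for j in J one has g j <
g, m j * |a j j| at most 6g - 6, and m i * a i j at most 6g - 6 for every index i. -/
theorem result {n : ℕ} (T : Models.NumericalType n) (hmin : T.IsMinimal) (hn : 1 < n) (hg : 2 ≤ T.genus) :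
    ((univ.filter fun j => ¬T.IsMinusTwo j).card : ℤ) ≤ 2 * T.genus - 2 ∧
      ∀ j, ¬T.IsMinusTwo j →
        T.g j < T.genus ∧ T.m j * |T.a j j| ≤ 6 * T.genus - 6 ∧
          ∀ i, T.m i * T.a i j ≤ 6 * T.genus - 6 := by
  classical
  have hc := NumType.contrib_nonneg T hn hmin
  have hpos : ∀ j, ¬T.IsMinusTwo j → 1 ≤ NumType.contrib T j := by
    intro j hj
    by_contra h
    exact hj (NumType.isMinusTwo_of_contrib_zero T hn (by have := hc j; omega))
  have hsum := NumType.two_genus T
  have hterm : ∀ j, T.m j * NumType.contrib T j ≤ 2 * (T.genus - 1) := fun j => by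
    rw [hsum]
    exact Finset.single_le_sum (fun i _ => mul_nonneg (T.m_pos i).le (hc i)) (Finset.mem_univ j)
  refine ⟨?_, fun j hj => ?_⟩
  · calc ((Finset.univ.filter fun j => ¬T.IsMinusTwo j).card : ℤ)
        = ∑ j ∈ Finset.univ.filter (fun j => ¬T.IsMinusTwo j), (1 : ℤ) := by simp
      _ ≤ ∑ j ∈ Finset.univ.filter (fun j => ¬T.IsMinusTwo j), T.m j * NumType.contrib T j :=
          Finset.sum_le_sum fun j hj => by
            have := hpos j (Finset.mem_filter.mp hj).2
            have := T.m_pos j
            nlinarith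
      _ ≤ ∑ j, T.m j * NumType.contrib T j := Finset.sum_le_sum_of_subset_of_nonneg (Finset.subset_univ _)
          fun i _ _ => mul_nonneg (T.m_pos i).le (hc i)
      _ = _ := by rw [← hsum]; ring
  have hd := NumType.diag_neg T hn j
  have hw := T.w_pos j
  have hm := T.m_pos j
  have hgn := T.g_nonneg j
  have ht := hterm j
  have hp := hpos j hj
  obtain ⟨k, hk, hak⟩ := NumType.exists_mult T j
  rw [NumType.contrib, hak] at hp ht
  have habs : |T.a j j| = k * T.w j := by rw [hak, abs_neg, abs_of_pos]; linarith
  rw [hak] at hd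
  have hk1 : 1 ≤ k := by nlinarith
  have hkw : 0 ≤ T.m j * T.w j := by positivity
  have hmax : T.m j * (k * T.w j) ≤ 6 * T.genus - 6 := by
    by_cases hg0 : T.g j = 0
    · rw [hg0] at hp ht
      have : 3 ≤ k := by nlinarith
      nlinarith
    · have : 1 ≤ T.g j := by omega
      nlinarith
  refine ⟨?_, by rw [habs]; exact hmax, fun i => ?_⟩
  · by_contra hlt; push Not at hlt
    have : 1 ≤ T.g j := by omega
    nlinarith [mul_le_mul (show (1 : ℤ) ≤ T.m j * T.w j by nlinarith) (show T.g j - 1 ≤ T.g j - 1 from le_rfl) (by omega) hkw]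
  · by_cases hij : i = j
    · subst hij; nlinarith [T.m_pos i]
    · have h := NumType.le_row T (i := j) (j := i) (Ne.symm hij)
      rw [NumType.symm' T j i, hak] at h
      nlinarith

end Groth.Agent.S2183
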