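import Groth.Statements.S18467
import Mathlib

set_option autoImplicit false
universe u
open Hopf

namespace Groth.Agent.S18467

/-- Let p be a prime and R a commutative ring containing an element u with u(p − 1) = 1, and let χ be a
homomorphism from the group of units of ℤ/p to the group of units of R such that χ(m) − 1 is a unit
of R for every m ≠ 1. For 0 ≤ i < p − 1 put e_i = u · Σ_m χ(m)^{−i} [m] in the group algebra
R[(ℤ/p)ˣ]. Then the e_i are idempotents, e_i e_j = 0 for i ≠ j, and Σ_i e_i = 1. (The published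
statement is for algebras over the subring of the p-adic integers generated over ℤ by the values of
the Teichmüller character χ and by 1/(p(p − 1)); the hypotheses on R and χ here are the properties
of that situation which the computation uses, so the row is stated for every such pair.) -/
theorem result
    (p : ℕ) [Fact p.Prime] (R : Type u) [CommRing R] (u : R) (hu : u * ((p - 1 : ℕ) : R) = 1)
    (χ : (ZMod p)ˣ →* Rˣ) (hχ : ∀ m : (ZMod p)ˣ, m ≠ 1 → IsUnit ((χ m : R) - 1)) :
    CompleteOrthogonalIdempotents (fun i : Fin (p - 1) =>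
      u • ∑ m : (ZMod p)ˣ, ((χ m⁻¹ : Rˣ) : R) ^ (i : ℕ) • MonoidAlgebra.of R (ZMod p)ˣ m) := by
  classical
  set G := (ZMod p)ˣ
  have hcard : Fintype.card G = p - 1 := ZMod.card_units p
  set o : G → MonoidAlgebra R G := fun m => MonoidAlgebra.of R G m
  set e : ℕ → MonoidAlgebra R G := fun i => u • ∑ m : G, ((χ m⁻¹ : Rˣ) : R) ^ i • o m with he
  have shift : ∀ (i : ℕ) (m : G), e i * o m = ((χ m : Rˣ) : R) ^ i • e i := by
    intro i m
    show (u • ∑ x : G, ((χ x⁻¹ : Rˣ) : R) ^ i • o x) * o m =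
      ((χ m : Rˣ) : R) ^ i • (u • ∑ x : G, ((χ x⁻¹ : Rˣ) : R) ^ i • o x)
    rw [Algebra.smul_mul_assoc, Finset.sum_mul, smul_comm (((χ m : Rˣ) : R) ^ i) u]
    congr 1
    rw [Finset.smul_sum]
    refine Fintype.sum_equiv (Equiv.mulRight m) _ _ fun x => ?_
    simp only [Equiv.coe_mulRight, o, map_mul, smul_smul, Algebra.smul_mul_assoc, ← mul_pow, ← Units.val_mul]
    congr 3
    rw [← map_mul]
    congr 1
    simp [mul_comm]
  obtain ⟨g, hg⟩ := IsCyclic.exists_generator (α := G)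
  have hord : orderOf g = p - 1 := by
    rw [orderOf_eq_card_of_forall_mem_zpowers hg, Nat.card_eq_fintype_card, hcard]
  have ortho : ∀ i j : ℕ, i < p - 1 → j < p - 1 → i ≠ j →
      ∑ m : G, ((χ m⁻¹ : Rˣ) : R) ^ j * ((χ m : Rˣ) : R) ^ i = 0 := by
    intro i j hi hj hij
    let ψ : G →* Rˣ := (χ ^ i) * (χ ^ j)⁻¹
    have hψ : ∀ m, (ψ m : R) = ((χ m⁻¹ : Rˣ) : R) ^ j * ((χ m : Rˣ) : R) ^ i := fun m => by
      simp [ψ, mul_comm, inv_pow]
    simp only [← hψ]
    have hne : g ^ i * (g ^ j)⁻¹ ≠ 1 := by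
      rw [Ne, mul_inv_eq_one, pow_inj_mod, hord, Nat.mod_eq_of_lt hi, Nat.mod_eq_of_lt hj]; exact hij
    have h1 : IsUnit ((ψ g : R) - 1) := by
      have : ψ g = χ (g ^ i * (g ^ j)⁻¹) := by simp [ψ]
      rw [this]; exact hχ _ hne
    have h2 : ((ψ g : R) - 1) * ∑ m : G, (ψ m : R) = 0 := by
      rw [sub_mul, one_mul, sub_eq_zero, Finset.mul_sum]
      exact Fintype.sum_equiv (Equiv.mulLeft g) _ _ fun m => by simp
    exact h1.mul_right_eq_zero.1 h2
  have key : ∀ i j : ℕ, e i * e j = (u * ∑ m : G, ((χ m⁻¹ : Rˣ) : R) ^ j * ((χ m : Rˣ) : R) ^ i) • e i := by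
    intro i j
    conv_lhs => rw [show e j = u • ∑ m : G, ((χ m⁻¹ : Rˣ) : R) ^ j • o m from rfl]
    rw [mul_smul_comm, Finset.mul_sum, mul_smul, Finset.sum_smul]
    simp only [mul_smul_comm, shift, smul_smul]
  refine ⟨⟨fun i => ?_, fun i j hij => ?_⟩, ?_⟩
  · show e i * e i = e i
    rw [key]
    simp only [← mul_pow, ← Units.val_mul, ← map_mul, inv_mul_cancel, map_one, Units.val_one, one_pow,
      Finset.sum_const, Finset.card_univ, hcard, nsmul_eq_mul, mul_one, hu, one_smul]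
  · show e i * e j = 0
    rw [key, ortho _ _ i.2 j.2 (fun h => hij (Fin.ext h)), mul_zero, zero_smul]
  · rw [← Finset.smul_sum, Finset.sum_comm]
    simp only [← Finset.sum_smul]
    rw [Finset.sum_eq_single (1 : G)]
    · simp [smul_smul, hu, MonoidAlgebra.one_def]
    · intro m _ hm
      rw [Fin.sum_univ_eq_sum_range (fun i => ((χ m⁻¹ : Rˣ) : R) ^ i)]
      have h1 := geom_sum_mul ((χ m⁻¹ : Rˣ) : R) (p - 1)
      have h0 : ((χ m⁻¹ : Rˣ) : R) ^ (p - 1) = 1 := by
        rw [← Units.val_pow_eq_pow_val, ← map_pow, ← hcard, pow_card_eq_one, map_one, Units.val_one]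
      rw [h0, sub_self] at h1
      rw [(hχ m⁻¹ (by simpa using hm)).mul_left_eq_zero.1 h1, zero_smul]
    · simp

end Groth.Agent.S18467
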