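import Groth.Statements.S18471
import Groth.Agent.OortTate.Basic

set_option autoImplicit false
universe u
open OortTate

namespace Groth.Agent.S18471

/-- Let p be a prime, R a commutative ring containing u with u(p − 1) = 1, and χ a homomorphism from the
units of ℤ/p to the units of R such that χ(m) − 1 is a unit for every m ≠ 1 (the situation of an
algebra over the subring Λ_p of the p-adic integers generated by the Teichmüller values and 1/(p(p −
1)), with χ the Teichmüller character, which is the published setting). Let A be a commutative and
cocommutative Hopf algebra over R, finitely generated and projective as an R-module, such that the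
p-th convolution power of the identity of A is the neutral element (a finite locally free
commutative group killed by p), and let A^D = Hom_R(A, R) be its dual Hopf algebra (the Cartier
dual). For i ≥ 0 let I_i(A) ⊆ A and I_i(A^D) ⊆ A^D be the submodules of elements f of the respective
augmentation ideals with [m]f = χ(m)^i f for every unit m of ℤ/p, [m] the power map. Then
restriction of linear forms to I_i(A) is a bijection from I_i(A^D) onto the dual module
Hom_R(I_i(A), R). (The published statement is for a group scheme of order p over a Λ_p-algebra and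
asserts an isomorphism of R-modules; the map here is the one its proof uses.) -/
theorem result
    (p : ℕ) [Fact p.Prime] (R : Type u) [CommRing R] (u : R) (hu : u * ((p - 1 : ℕ) : R) = 1)
    (χ : (ZMod p)ˣ →* Rˣ) (hχ : ∀ m : (ZMod p)ˣ, m ≠ 1 → IsUnit ((χ m : R) - 1))
    (A : Type u) [CommRing A] [HopfAlgebra R A] [Coalgebra.IsCocomm R A]
    [Module.Finite R A] [Module.Projective R A]
    (hp : (WithConv.toConv (AlgHom.id R A)) ^ p = 1) (i : ℕ) :
    Function.Bijective (fun f : OortTate.eigenAug R (CartDual.D R A) p χ i =>
      ((CartDual.toDual R A) (f : CartDual.D R A)).comp (OortTate.eigenAug R A p χ i).subtype) := by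
  have hp' : (WithConv.toConv (AlgHom.id R (CartDual.D R A))) ^ p = 1 :=
    Groth.Agent.OortTate.convPow_id_dual hp
  let q : A →ₗ[R] A := LinearMap.id -
    LinearMap.toSpanSingleton R A 1 ∘ₗ (Bialgebra.counitAlgHom R A).toLinearMap
  have hq : ∀ a, Bialgebra.counitAlgHom R A (q a) = 0 := fun a => by simp [q]
  have hqm : ∀ (m : ℕ) a, q (SGA3b.powConv R A m a) = SGA3b.powConv R A m (q a) := fun m a => by
    have := Groth.Agent.OortTate.counit_powConv (R := R) m a
    simp only [Bialgebra.counitAlgHom_apply] at this
    simp [q, this]
  let P : A →ₗ[R] A := OortTate.proj R A p u χ i ∘ₗ q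
  have hP : ∀ a, P a ∈ OortTate.eigenAug R A p χ i := fun a =>
    Groth.Agent.OortTate.proj_mem_eigenAug hp i (hq a)
  refine ⟨fun f g h => ?_, fun g => ?_⟩
  · apply Subtype.ext
    apply WithConv.ofConv_injective
    refine LinearMap.ext fun a => ?_
    have key : ∀ e : OortTate.eigenAug R (CartDual.D R A) p χ i,
        (e : CartDual.D R A).ofConv a = (e : CartDual.D R A).ofConv (P a) := fun e => by
      have h1 : (e : CartDual.D R A).ofConv 1 = 0 := (Groth.Agent.OortTate.mem_eigenAug.1 e.2).1
      have h3 : (e : CartDual.D R A).ofConv (q a) = (e : CartDual.D R A).ofConv a := by simp [q, h1]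
      rw [← h3]
      conv_lhs => rw [← Groth.Agent.OortTate.proj_eq_self hu e.2]
      exact Groth.Agent.OortTate.proj_dual i _ _
    rw [key f, key g]
    exact LinearMap.congr_fun h ⟨P a, hP a⟩
  · have h1 : P.codRestrict _ hP 1 = 0 := Subtype.ext (by simp [P, q])
    refine ⟨⟨WithConv.toConv (g ∘ₗ P.codRestrict _ hP), Groth.Agent.OortTate.mem_eigenAug.2
      ⟨?_, fun m => ?_⟩⟩, ?_⟩
    · show g (P.codRestrict _ hP 1) = 0
      rw [h1, map_zero]
    · apply WithConv.ofConv_injective
      refine LinearMap.ext fun a => ?_
      rw [← CartDual.coe_apply, Groth.Agent.OortTate.powConv_dual]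
      show g (P.codRestrict _ hP _) = ((χ m : Rˣ) : R) ^ i • g (P.codRestrict _ hP a)
      rw [← map_smul]
      congr 1
      refine Subtype.ext ?_
      show OortTate.proj R A p u χ i (q _) = _ • OortTate.proj R A p u χ i (q a)
      rw [hqm, Groth.Agent.OortTate.proj_powConv hp]
    · refine LinearMap.ext fun a => ?_
      show g (P.codRestrict _ hP a) = g a
      congr 1
      refine Subtype.ext ?_
      show OortTate.proj R A p u χ i (q a) = a
      have ha := (Groth.Agent.OortTate.mem_eigenAug.1 a.2).1
      simp only [Bialgebra.counitAlgHom_apply] at ha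
      rw [show q a = a by simp [q, ha]]
      exact Groth.Agent.OortTate.proj_eq_self hu a.2

end Groth.Agent.S18471
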