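import Groth.Statements.S0416
import Groth.Agent.FlatBasics.UnivHomeo

set_option autoImplicit false
universe u
open FlatMor

namespace Groth.Agent.S0416

open AlgebraicGeometry CategoryTheory Limits in
/-- When a composite of two morphisms is a universal homeomorphism and so is either factor, the
remaining factor is a universal homeomorphism as well. -/
theorem result {X Y Z : Scheme.{u}} (g : X ⟶ Y) (h : Y ⟶ Z) :
    (FlatMor.IsUnivHomeo (g ≫ h) → FlatMor.IsUnivHomeo g → FlatMor.IsUnivHomeo h) ∧
    (FlatMor.IsUnivHomeo (g ≫ h) → FlatMor.IsUnivHomeo h → FlatMor.IsUnivHomeo g) := by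
  constructor
  · intro hgh hg
    obtain ⟨_, _, _⟩ := (FlatBasics.isUnivHomeo_iff _).mp hgh
    obtain ⟨_, _, _⟩ := (FlatBasics.isUnivHomeo_iff _).mp hg
    have := UniversallyClosed.of_comp_surjective g h
    have := FlatBasics.universallyInjective_of_comp_surjective g h
    have := Surjective.of_comp g h
    exact FlatBasics.isUnivHomeo_of
  · intro hgh hh
    obtain ⟨_, _, _⟩ := (FlatBasics.isUnivHomeo_iff _).mp hgh
    obtain ⟨_, _, _⟩ := (FlatBasics.isUnivHomeo_iff _).mp hh
    have := FlatBasics.isAffineHom_of_isUnivHomeo hh
    have : UniversallyClosed g :=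
      UniversallyClosed.of_comp_of_isSeparated g h
    have := FlatBasics.universallyInjective_of_comp g h
    have := FlatBasics.surjective_of_comp_injective g h h.injective
    exact FlatBasics.isUnivHomeo_of

end Groth.Agent.S0416
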