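import Groth.Statements.S0239
import Groth.Agent.FEtLib.FullCrit
import Groth.Agent.Hensel.FiniteEtaleLift
import Groth.Agent.Hensel.Pairs

set_option autoImplicit false
universe u
open Pi1

namespace Groth.Agent.S0239

open AlgebraicGeometry CategoryTheory CategoryTheory.Limits Polynomial TensorProduct

theorem exists_idem_lift {B : Type u} [CommRing B] (J : Ideal B) [HenselianRing B J] (e₀ : B)
    (h : e₀ * e₀ - e₀ ∈ J) : ∃ e : B, IsIdempotentElem e ∧ e - e₀ ∈ J := by
  obtain ⟨e, he, he'⟩ := HenselianRing.is_henselian (X ^ 2 - X : B[X]) (by monicity!) e₀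
    (by simpa [sq] using h) (by
      refine IsUnit.of_mul_eq_one ((Ideal.Quotient.mk J) (2 * e₀ - 1)) ?_
      rw [← map_mul, ← map_one (Ideal.Quotient.mk J), Ideal.Quotient.eq]
      simp only [derivative_sub, derivative_X_pow, derivative_X, eval_sub, eval_mul, eval_pow, eval_X,
        eval_one, eval_C, Nat.cast_ofNat]
      have : ((2 : B) * e₀ ^ (2 - 1) - 1) * (2 * e₀ - 1) - 1 = 4 * (e₀ * e₀ - e₀) := by ring
      rw [this]
      exact J.mul_mem_left _ h)
  exact ⟨e, sub_eq_zero.mp (by simpa [sq] using he), he'⟩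

theorem exists_clopen_lift {B : Type u} [CommRing B] (J : Ideal B) [HenselianRing B J]
    (W₀ : Set (PrimeSpectrum (B ⧸ J))) (hW : IsClopen W₀) :
    ∃ W : Set (PrimeSpectrum B), IsClopen W ∧ PrimeSpectrum.comap (Ideal.Quotient.mk J) ⁻¹' W = W₀ := by
  obtain ⟨e₀, he₀, rfl⟩ := PrimeSpectrum.isClopen_iff.mp hW
  obtain ⟨x, rfl⟩ := Ideal.Quotient.mk_surjective e₀
  obtain ⟨e, he, hex⟩ := exists_idem_lift J x (Ideal.Quotient.eq.mp (by rw [map_mul]; exact he₀))
  refine ⟨PrimeSpectrum.basicOpen e, PrimeSpectrum.isClopen_iff.mpr ⟨e, he, rfl⟩, ?_⟩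
  ext p
  show Ideal.Quotient.mk J e ∉ p.asIdeal ↔ Ideal.Quotient.mk J x ∉ p.asIdeal
  rw [Ideal.Quotient.eq.mpr hex]


open AlgebraicGeometry CategoryTheory CategoryTheory.Limits in
/-- For a henselian pair (A, I) in Mathlib's sense, restricting finite etale covers from Spec A to the
closed subscheme Spec (A/I) is an equivalence of categories. -/
theorem result (A : Type u) [CommRing A] (I : Ideal A) [HenselianRing A I] :
    (FEt.restrict (Spec.map (CommRingCat.ofHom (Ideal.Quotient.mk I)))).IsEquivalence := by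
  let q := CommRingCat.ofHom (Ideal.Quotient.mk I)
  let i := Spec.map q
  haveI : IsClosedImmersion i :=
    IsClosedImmersion.spec_of_surjective q (Ideal.Quotient.mk_surjective (I := I))
  have hne : ∀ W : Set ↥(Spec (CommRingCat.of A)), IsClopen W → W.Nonempty → (W ∩ Set.range i).Nonempty := by
    rintro W hW ⟨p, hp⟩
    let p' : PrimeSpectrum A := p
    obtain ⟨m, hm, hpm⟩ := Ideal.exists_le_maximal p'.asIdeal p'.isPrime.ne_top
    let m' : PrimeSpectrum A := ⟨m, hm.isPrime⟩
    refine ⟨m', ?_, ?_⟩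
    · exact Specializes.mem_closed ((PrimeSpectrum.le_iff_specializes p' m').mp hpm) hW.1 hp
    · show m' ∈ Set.range (PrimeSpectrum.comap (Ideal.Quotient.mk I))
      rw [_root_.range_comap_of_surjective _ _ Ideal.Quotient.mk_surjective, Ideal.mk_ker]
      exact fun a ha => (‹HenselianRing A I›.jac.trans (Ideal.jacobson_bot (R := A) ▸ Ring.jacobson_le_of_isMaximal m)) ha
  have hd : FEtLib.ClopenDescend i := by
    intro Z W hW
    let g : Z.left ⟶ Spec (CommRingCat.of A) := Z.hom
    haveI : IsFinite g := Z.prop.1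
    haveI : IsAffine Z.left := isAffine_of_isAffineHom g
    obtain ⟨φ, hφ⟩ := Spec.map_surjective (Z.left.isoSpec.inv ≫ g)
    have hfin : φ.hom.Finite := (IsFinite.SpecMap_iff φ).mp (hφ ▸ inferInstance)
    letI := φ.hom.toAlgebra
    haveI : Module.Finite A Γ(Z.left, ⊤) := hfin
    let J := I.map (algebraMap A Γ(Z.left, ⊤))
    haveI : HenselianRing Γ(Z.left, ⊤) J := Hensel.henselianRing_of_isIntegral _
    let e := pullback.fst g i
    haveI : IsClosedImmersion e := MorphismProperty.of_isPullback (P := @IsClosedImmersion)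
      (IsPullback.of_hasPullback g i).flip ‹IsClosedImmersion i›
    let c : PrimeSpectrum (Γ(Z.left, ⊤) ⧸ J) → Z.left :=
      fun p => Z.left.isoSpec.inv (PrimeSpectrum.comap (Ideal.Quotient.mk J) p)
    have hcont : Continuous c := Z.left.isoSpec.inv.continuous.comp (PrimeSpectrum.continuous_comap _)
    have hc : ∀ p, c p ∈ Set.range e := by
      intro p
      rw [Scheme.Pullback.range_fst]
      show g (Z.left.isoSpec.inv _) ∈ Set.range (PrimeSpectrum.comap (Ideal.Quotient.mk I))
      have hg' : g (Z.left.isoSpec.inv (PrimeSpectrum.comap (Ideal.Quotient.mk J) p)) =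
          PrimeSpectrum.comap φ.hom (PrimeSpectrum.comap (Ideal.Quotient.mk J) p) :=
        (Scheme.Hom.comp_apply _ _ _).symm.trans (congr($(hφ.symm) _))
      rw [_root_.range_comap_of_surjective _ _ Ideal.Quotient.mk_surjective, Ideal.mk_ker, hg']
      intro a ha
      show Ideal.Quotient.mk J (φ a) ∈ p.asIdeal
      rw [show Ideal.Quotient.mk J (φ a) = 0 from Ideal.Quotient.eq_zero_iff_mem.mpr
        (Ideal.mem_map_of_mem (algebraMap A Γ(Z.left, ⊤)) ha)]
      exact zero_mem _
    choose c' hc' using hc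
    have hc'cont : Continuous c' := e.isClosedEmbedding.isInducing.continuous_iff.mpr (by
      convert hcont using 1
      exact funext hc')
    obtain ⟨W₁, hW₁, hpre⟩ := exists_clopen_lift J (c' ⁻¹' W) (hW.preimage hc'cont)
    let h := Z.left.isoSpec.hom
    refine ⟨h ⁻¹' W₁, hW₁.preimage h.continuous, ?_⟩
    ext y
    have hy : h (e y) ∈ Set.range (PrimeSpectrum.comap (Ideal.Quotient.mk J)) := by
      rw [_root_.range_comap_of_surjective _ _ Ideal.Quotient.mk_surjective, Ideal.mk_ker]
      have hmem : g (e y) ∈ Set.range (PrimeSpectrum.comap (Ideal.Quotient.mk I)) :=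
        ⟨pullback.snd g i y, ((congr($(pullback.condition (f := g) (g := i)) y))).symm⟩
      rw [_root_.range_comap_of_surjective _ _ Ideal.Quotient.mk_surjective, Ideal.mk_ker] at hmem
      show J ≤ (h (e y)).asIdeal
      refine Ideal.map_le_iff_le_comap.mpr fun a ha => ?_
      have hgy : g (e y) = PrimeSpectrum.comap φ.hom (h (e y)) := by
        have h' : h ≫ Spec.map φ = g := by rw [hφ, Iso.hom_inv_id_assoc]
        exact ((Scheme.Hom.comp_apply _ _ _).symm.trans (congr($h' (e y)))).symm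
      rw [hgy] at hmem
      exact hmem ha
    obtain ⟨p, hp⟩ := hy
    have hcp : c' p = y := e.isClosedEmbedding.injective (by
      refine (hc' p).trans ?_
      show Z.left.isoSpec.inv (PrimeSpectrum.comap (Ideal.Quotient.mk J) p) = e y
      rw [hp]
      exact (Scheme.Hom.comp_apply _ _ _).symm.trans (congr($(Z.left.isoSpec.hom_inv_id) (e y))))
    show h (e y) ∈ W₁ ↔ y ∈ W
    rw [← hp, ← hcp]
    exact Set.ext_iff.mp hpre p
  haveI : (FEt.restrict i).Full := (FEtLib.full_faithful_restrict i hne hd).1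
  haveI : (FEt.restrict i).Faithful := (FEtLib.full_faithful_restrict i hne hd).2
  haveI : (FEt.restrict i).EssSurj := ⟨fun E => by
    let g : E.left ⟶ Spec (CommRingCat.of (A ⧸ I)) := E.hom
    haveI : IsFinite g := E.prop.1
    haveI : Etale g := E.prop.2
    haveI : IsAffine E.left := isAffine_of_isAffineHom g
    obtain ⟨φ, hφ⟩ := Spec.map_surjective (E.left.isoSpec.inv ≫ g)
    have hfin : φ.hom.Finite := (IsFinite.SpecMap_iff φ).mp (hφ ▸ inferInstance)
    have het : φ.hom.Etale := HasRingHomProperty.Spec_iff.mp (hφ ▸ (inferInstance : Etale (E.left.isoSpec.inv ≫ g)))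
    let C := Γ(E.left, ⊤)
    letI : Algebra (A ⧸ I) C := φ.hom.toAlgebra
    haveI : Module.Finite (A ⧸ I) C := hfin
    haveI : Algebra.Etale (A ⧸ I) C := het
    obtain ⟨B, _, _, hBf, hBe, ⟨ψ⟩⟩ := Hensel.exists_finite_etale_lift (I := I) C
    let b := Spec.map (CommRingCat.ofHom (algebraMap A B))
    haveI : IsFinite b := (IsFinite.SpecMap_iff _).mpr (RingHom.finite_algebraMap.mpr hBf)
    haveI : Etale b := HasRingHomProperty.Spec_iff.mpr (RingHom.etale_algebraMap.mpr hBe)
    let ψ' : Spec C ≅ Spec (CommRingCat.of ((A ⧸ I) ⊗[A] B)) :=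
      Scheme.Spec.mapIso (ψ.toRingEquiv.toCommRingCatIso.op)
    let e : pullback b i ≅ E.left :=
      pullbackSymmetry b i ≪≫ pullbackSpecIso A (A ⧸ I) B ≪≫ ψ'.symm ≪≫ E.left.isoSpec.symm
    refine ⟨FEtLib.mk b, ⟨MorphismProperty.Over.isoMk e ?_⟩⟩
    show e.hom ≫ g = pullback.snd b i
    rw [← cancel_epi (pullbackSymmetry b i).inv, ← cancel_epi (pullbackSpecIso A (A ⧸ I) B).inv]
    simp only [e, Iso.trans_hom, Iso.symm_hom, Category.assoc, Iso.inv_hom_id_assoc, ← hφ,
      pullbackSymmetry_inv_comp_snd]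
    refine Eq.trans ?_ (pullbackSpecIso_inv_fst A (A ⧸ I) B).symm
    show Spec.map _ ≫ Spec.map φ = Spec.map _
    rw [← Spec.map_comp]
    congr 1
    ext a
    show ψ.symm (algebraMap (A ⧸ I) C a) = (show A ⧸ I from a) ⊗ₜ[A] (1 : B)
    rw [AlgEquiv.commutes]
    rfl⟩
  exact {}

end Groth.Agent.S0239
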