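import Groth.Statements.S0250
import Groth.Agent.PurityReg.Extend
import Mathlib

set_option autoImplicit false
universe u
open Pi1

namespace Groth.Agent.S0250

open AlgebraicGeometry CategoryTheory CategoryTheory.Limits in
/-- Let X be a Noetherian scheme and U ⊆ X an open subscheme such that purity holds for the local ring
𝒪_{X,x} at every point x outside U. Then restriction of finite étale covers from X to U is
essentially surjective. -/
theorem result {X : Scheme.{u}} [IsNoetherian X] (U : X.Opens)
    (h : ∀ x : X, x ∉ U → FEt.PurityHolds (X.presheaf.stalk x)) : (FEt.restrict U.ι).EssSurj := by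
  refine ⟨fun V => ?_⟩
  obtain ⟨_, Z, g, i, hg, hi⟩ := Groth.Agent.PurityReg.exists_extend_top U V.hom V.prop h
  haveI : IsIso (⊤ : X.Opens).ι := (inferInstance : IsIso (X.topIso.hom))
  have hg' : FEt.prop (g ≫ (⊤ : X.Opens).ι) :=
    (MorphismProperty.cancel_right_of_respectsIso FEt.prop _ _).2 hg
  have hP : IsPullback i V.hom (g ≫ (⊤ : X.Opens).ι) U.ι := by
    have := Groth.Agent.PurityReg.isPullback_comp_mono (⊤ : X.Opens).ι hi
    rwa [Scheme.homOfLE_ι] at this
  exact ⟨MorphismProperty.Over.mk ⊤ (g ≫ (⊤ : X.Opens).ι) hg',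
    ⟨MorphismProperty.Over.isoMk hP.isoPullback.symm hP.isoPullback_inv_snd⟩⟩

end Groth.Agent.S0250
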