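import Groth.Statements.S0005
import Groth.Agent.S0247
import Groth.Agent.S0250
import Groth.Agent.FEtLib.Depth2
import Groth.Agent.CAlgReg.AusBuch
import Mathlib

set_option autoImplicit false
universe u
open FEt

namespace Groth.Agent.S0005

open CategoryTheory AlgebraicGeometry in
/-- Purity for finite étale covers, global form: let X be a Noetherian scheme all of whose local rings
are regular and U ⊆ X an open subscheme such that every point of X outside U has local ring of Krull
dimension at least 2. Then restriction of finite étale covers from X to U is an equivalence of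
categories. -/
theorem result (X : Scheme.{u}) [IsNoetherian X]
    (hreg : ∀ x : X, IsRegularLocalRing (X.presheaf.stalk x)) (U : X.Opens)
    (hU : ∀ x : X, x ∉ U → (2 : WithBot ℕ∞) ≤ ringKrullDim (X.presheaf.stalk x)) :
    (FEt.restrict U.ι).IsEquivalence := by
  haveI hE : (FEt.restrict U.ι).EssSurj := Groth.Agent.S0250.result U fun x hx =>
    haveI := hreg x
    Groth.Agent.S0247.result (X.presheaf.stalk x) (hU x hx)
  have hd : ∀ x : X, x ∉ U → (2 : ℕ∞) ≤ LocCoh.depth (X.presheaf.stalk x) (X.presheaf.stalk x) := fun x hx => by
    haveI := hreg x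
    obtain ⟨d, hd⟩ := Groth.Agent.CAlgReg.exists_dim (R := X.presheaf.stalk x)
    rw [Groth.Agent.CAlgReg.depth_self_eq_dim hd]
    have := hU x hx
    rw [hd] at this
    exact_mod_cast this
  obtain ⟨hfull, hfaith⟩ := Groth.Agent.FEtLib.full_faithful_of_depth2 U (Groth.Agent.FEtLib.hasRegSeq2_of_depth hd)
  exact { full := hfull, faithful := hfaith, essSurj := hE }

end Groth.Agent.S0005
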