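import Groth.Statements.S0008
import Groth.Agent.QCohBase.Acyclic
import Groth.Agent.QCohBase.CechIso

set_option autoImplicit false
universe u
open Coherent

namespace Groth.Agent.S0008

open AlgebraicGeometry in
/-- For a ring A, an A-module M and elements f_1, …, f_n generating the unit ideal, the Čech cohomology
of the associated module on Spec A with respect to the covering by the basic opens D(f_i) vanishes
in every positive degree. -/
theorem result (A : Type u) [CommRing A] (M : ModuleCat.{u} A)
    (n : ℕ) (f : ULift.{u} (Fin n) → A) (hf : Ideal.span (Set.range f) = ⊤) (p : ℕ) (hp : 0 < p) :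
    CategoryTheory.Limits.IsZero (CohB1.cechH (fun i => PrimeSpectrum.basicOpen (f i)) (tilde (R := CommRingCat.of A) M) p) := by
  obtain ⟨q, rfl⟩ := Nat.exists_eq_add_of_le' hp
  have hb : ∀ i, (PrimeSpectrum.basicOpen (f i) : (Spec (CommRingCat.of A)).Opens) =
      (Spec (CommRingCat.of A)).basicOpen ((Scheme.ΓSpecIso (CommRingCat.of A)).inv (f i)) :=
    fun i => (basicOpen_eq_of_affine _).symm
  have hcov : (⨆ i, (Spec (CommRingCat.of A)).basicOpen
      ((Scheme.ΓSpecIso (CommRingCat.of A)).inv (f i))) = ⊤ :=
    (iSup_congr hb).symm.trans ((PrimeSpectrum.iSup_basicOpen_eq_top_iff (f := f)).2 hf)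
  have h := Groth.Agent.QCohBase.cechAcyclic_basicOpen (tilde (R := CommRingCat.of A) M)
    (isAffineOpen_top (Spec (CommRingCat.of A))) _ hcov q
  rw [← funext hb] at h
  exact ((HomologicalComplex.exactAt_iff_isZero_homology _ _).1 h).of_iso
    (Groth.Agent.QCohBase.cechHTopIso _ _ _)

end Groth.Agent.S0008
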