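import Groth.Statements.S0010
import Groth.Agent.QCohBase.Acyclic
import Groth.Agent.QCohBase.Union

set_option autoImplicit false
universe u
open Coherent

namespace Groth.Agent.S0010

open AlgebraicGeometry in
/-- Let X be a scheme in which the intersection of any two affine opens is affine (equivalently, X has
affine diagonal; e.g. X separated), covered by t affine opens. Then H^n(X, F) = 0 for every
quasi-coherent F and every n ≥ t. -/
theorem result (X : Scheme.{u}) (t : ℕ) (U : Fin t → X.Opens)
    (hU : ∀ i, IsAffineOpen (U i)) (hcov : ⨆ i, U i = ⊤)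
    (hd : ∀ V W : X.Opens, IsAffineOpen V → IsAffineOpen W → IsAffineOpen (V ⊓ W))
    (M : X.Modules) [Coh.IsQCoh M] (n : ℕ) (hn : t ≤ n) :
    Subsingleton (Coh.HH X M n) := by
  cases t with
  | zero =>
    have hX : (⊤ : X.Opens) = ⊥ := hcov.symm.trans (iSup_of_empty _)
    have : IsEmpty X := ⟨fun x => (hX ▸ (trivial : x ∈ (⊤ : X.Opens)) : x ∈ (⊥ : X.Opens))⟩
    cases n with
    | succ m => exact Groth.Agent.QCohBase.subsingleton_HH_of_isAffine M m.succ_pos
    | zero =>
      have hsub : Subsingleton ((Coh.toAb M).obj.obj (Opposite.op (⊤ : X.Opens))) :=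
        ⟨fun a b => TopCat.Presheaf.section_ext (Coh.toAb M) (⊤ : X.Opens) a b
          fun x _ => isEmptyElim x⟩
      exact (Groth.Agent.QCohBase.CovSystem.hZero (Coh.toAb M)).toEquiv.subsingleton
  | succ s =>
    obtain ⟨m, rfl⟩ := Nat.exists_eq_add_of_le' (show 0 < n by omega)
    exact Groth.Agent.QCohBase.CovSystem.subsingleton_H_of_union
      (S := Groth.Agent.QCohBase.affineSystem X) hd (Groth.Agent.QCohBase.acyclic_of_isQCoh M)
      (hcov ▸ Groth.Agent.QCohBase.CovSystem.unionLE_iSup U hU) m (by omega)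

end Groth.Agent.S0010
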