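import Groth.Statements.S0011
import Groth.Agent.S0012
import Groth.Agent.QCohBase.Acyclic
import Groth.Agent.QCohBase.Exact
import Groth.Agent.QCohBase.Qcqs
import Groth.Agent.QCohBase.Support
import Groth.Agent.QCohBase.Noetherian
import Groth.Prelude.Def_CxOX

set_option autoImplicit false
universe u
open Coherent

namespace Groth.Agent.S0011

open CategoryTheory CategoryTheory.Limits AlgebraicGeometry Groth.Agent.QCohBase TopologicalSpace
open scoped ZeroObject

lemma isAffineHom_ι {X : Scheme.{u}}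
    (hd : ∀ V W : X.Opens, IsAffineOpen V → IsAffineOpen W → IsAffineOpen (V ⊓ W))
    {U : X.Opens} (hU : IsAffineOpen U) : IsAffineHom U.ι := by
  refine ⟨fun V hV => (U.ι.isAffineOpen_iff_of_isOpenImmersion).1 ?_⟩
  rw [Scheme.Hom.image_preimage_eq_opensRange_inf, Scheme.Opens.opensRange_ι]
  exact hd U V hU hV

lemma shortExact_biprod {C : Type*} [Category C] [Preadditive C] (A B : C) [HasBinaryBiproduct A B] [HasZeroObject C] :
    (ShortComplex.mk (biprod.inl : A ⟶ A ⊞ B) biprod.snd biprod.inl_snd).ShortExact :=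
  (ShortComplex.Splitting.ofHasBinaryBiproduct A B).shortExact

lemma subsingleton_H_biprod {C : Type*} [Category C] [Preadditive C] {D : Type u} [SmallCategory D]
    (J : GrothendieckTopology D) (T : C ⥤ Sheaf J AddCommGrpCat.{u}) [T.Additive] (A B : C) [HasBinaryBiproduct A B]
    (p : ℕ) (ha : Subsingleton (Sheaf.H (T.obj A) p)) (hb : Subsingleton (Sheaf.H (T.obj B) p)) :
    Subsingleton (Sheaf.H (T.obj (A ⊞ B)) p) := by
  refine subsingleton_of_forall_eq 0 fun y => ?_
  have h1 : Sheaf.H.map (T.map (biprod.fst : A ⊞ B ⟶ A)) p y = 0 := Subsingleton.elim _ _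
  have h2 : Sheaf.H.map (T.map (biprod.snd : A ⊞ B ⟶ B)) p y = 0 := Subsingleton.elim _ _
  have h : 𝟙 (T.obj (A ⊞ B)) = T.map biprod.fst ≫ T.map biprod.inl + T.map biprod.snd ≫ T.map biprod.inr := by
    rw [← T.map_comp, ← T.map_comp, ← T.map_add, biprod.total, T.map_id]
  refine (Sheaf.H.map_id_apply y).symm.trans ?_
  rw [h, Sheaf.H.map_add_apply, Sheaf.H.map_comp_apply, Sheaf.H.map_comp_apply, h1, h2, map_zero, map_zero, add_zero]

lemma mono_of_restrict {X : Scheme.{u}} {M N : X.Modules} (m : M ⟶ N)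
    (h : ∀ x : X, ∃ U : X.Opens, x ∈ U ∧ Mono ((Scheme.Modules.restrictFunctor U.ι).map m)) : Mono m := by
  refine Preadditive.mono_of_kernel_zero (f := m) ((isZero_of_stalks fun x => ?_).eq_of_src _ _)
  obtain ⟨U, hx, hU⟩ := h x
  haveI := hU
  haveI : (Scheme.Modules.restrictFunctor U.ι).IsRightAdjoint := (CxOX.extZeroAdj U.ι).isRightAdjoint
  have hz : IsZero ((kernel m).restrict U.ι) :=
    (isZero_kernel_of_mono ((Scheme.Modules.restrictFunctor U.ι).map m)).of_iso
      (PreservesKernel.iso (Scheme.Modules.restrictFunctor U.ι) m)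
  exact (subsingleton_restrict_stalk_iff U.ι (kernel m) ⟨x, hx⟩).1 (subsingleton_stalk_of_isZero hz _)

open AlgebraicGeometry CategoryTheory in
/-- On a quasi-compact scheme in which affine opens have affine intersections, every quasi-coherent
module admits a monomorphism into a quasi-coherent module whose cohomology vanishes in all positive
degrees. (Part (2), universality of the delta-functor, is not stated.) -/
theorem result (X : Scheme.{u}) [CompactSpace X]
    (hd : ∀ V W : X.Opens, IsAffineOpen V → IsAffineOpen W → IsAffineOpen (V ⊓ W))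
    (M : X.Modules) [Coh.IsQCoh M] :
    ∃ (M' : X.Modules) (i : M ⟶ M'), Mono i ∧ Coh.IsQCoh M' ∧
      ∀ p : ℕ, 0 < p → Subsingleton (Coh.HH X M' p) := by
  classical
  haveI : QuasiSeparatedSpace X := quasiSeparatedSpace_iff_forall_affineOpens.2 fun V W => (hd V W V.2 W.2).isCompact
  have hcov : ∀ x : X, ∃ U : X.Opens, IsAffineOpen U ∧ x ∈ U := fun x => by
    obtain ⟨U, hU, hxU, -⟩ :=
      TopologicalSpace.Opens.isBasis_iff_nbhd.1 X.isBasis_affineOpens (U := ⊤) (TopologicalSpace.Opens.mem_top x)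
    exact ⟨U, hU, hxU⟩
  choose U hU hxU using hcov
  obtain ⟨t, ht⟩ := isCompact_univ.elim_finite_subcover (fun x => (U x : Set X)) (fun x => (U x).2)
    fun x _ => Set.mem_iUnion.2 ⟨x, hxU x⟩
  suffices ∀ S : Finset X, ∃ (M' : X.Modules) (i : M ⟶ M'), Coh.IsQCoh M' ∧
      (∀ p : ℕ, 0 < p → Subsingleton (Coh.HH X M' p)) ∧
      ∀ x ∈ S, Mono ((Scheme.Modules.restrictFunctor (U x).ι).map i) by
    obtain ⟨M', i, hq, ha, hm⟩ := this t
    refine ⟨M', i, mono_of_restrict i fun y => ?_, hq, ha⟩
    obtain ⟨x, hx, hyx⟩ := Set.mem_iUnion₂.1 (ht (Set.mem_univ y))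
    exact ⟨U x, hyx, hm x hx⟩
  haveI hbb : Limits.HasBinaryBiproducts X.Modules := Abelian.hasBinaryBiproducts
  have single : ∀ x : X, ∃ (N : X.Modules) (i : M ⟶ N), Coh.IsQCoh N ∧
      (∀ p : ℕ, 0 < p → Subsingleton (Coh.HH X N p)) ∧
      Mono ((Scheme.Modules.restrictFunctor (U x).ι).map i) := by
    intro x
    haveI := isAffineHom_ι hd (hU x)
    haveI : IsAffine (U x : Scheme.{u}) := hU x
    haveI : M.IsQuasicoherent := ‹Coh.IsQCoh M›
    haveI : Coh.IsQCoh (M.restrict (U x).ι) :=
      (inferInstance : (M.restrict (U x).ι).IsQuasicoherent)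
    refine ⟨_, (Scheme.Modules.restrictAdjunction (U x).ι).unit.app M,
      isQuasicoherent_pushforward (M.restrict (U x).ι) (U x).ι, fun p hp => ?_, ?_⟩
    · obtain ⟨e⟩ := S0012.result (U x).ι (M.restrict (U x).ι) p
      haveI := subsingleton_HH_of_isAffine (M.restrict (U x).ι) hp
      exact e.symm.toEquiv.subsingleton
    · haveI : IsIso ((Scheme.Modules.restrictFunctor (U x).ι).map
          ((Scheme.Modules.restrictAdjunction (U x).ι).unit.app M)) :=
        IsIso.of_isIso_fac_right ((Scheme.Modules.restrictAdjunction (U x).ι).left_triangle_components M)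
      infer_instance
  intro S
  induction S using Finset.induction_on with
  | empty =>
    refine ⟨0, 0, ?_, fun p _ => ?_, by simp⟩
    · exact isQuasicoherent_of_forall_localizesOn fun V _ f => by
        haveI : ∀ W : X.Opens, Subsingleton (Γ((0 : X.Modules), W) : Type u) := fun W =>
          subsingleton_of_forall_eq 0 fun z => by
            have h := congrArg (fun φ : (0 : X.Modules) ⟶ 0 => φ.app W z)
              ((isZero_zero X.Modules).eq_of_src (𝟙 _) 0)
            exact h
        exact ⟨fun _ => ⟨0, 0, Subsingleton.elim _ _⟩, fun y _ => ⟨0, Subsingleton.elim _ _⟩⟩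
    · exact Sheaf.subsingleton_H_of_isZero
        (Functor.map_isZero (SheafOfModules.toSheaf X.ringCatSheaf) (isZero_zero X.Modules)) p
  | insert x S hx ih =>
    obtain ⟨M₁, i₁, hq₁, ha₁, hm₁⟩ := ih
    obtain ⟨N, i₂, hq₂, ha₂, hm₂⟩ := single x
    let T := SheafOfModules.toSheaf X.ringCatSheaf
    haveI : HasBinaryBiproduct M₁ N := hbb.has_binary_biproduct M₁ N
    refine ⟨M₁ ⊞ N, biprod.lift i₁ i₂, ?_, fun p hp => ?_, ?_⟩
    · exact isQuasicoherent_of_extension (shortExact_biprod M₁ N) hq₁ hq₂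
    · exact subsingleton_H_biprod (Opens.grothendieckTopology X) T M₁ N p (ha₁ p hp) (ha₂ p hp)
    · intro y hy
      let R := Scheme.Modules.restrictFunctor (U y).ι
      rcases Finset.mem_insert.1 hy with rfl | hy
      · haveI := hm₂
        haveI : Mono (R.map (biprod.lift i₁ i₂) ≫ R.map biprod.snd) := by
          rw [← R.map_comp, biprod.lift_snd]; infer_instance
        exact mono_of_mono _ (R.map biprod.snd)
      · haveI := hm₁ y hy
        haveI : Mono (R.map (biprod.lift i₁ i₂) ≫ R.map biprod.fst) := by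
          rw [← R.map_comp, biprod.lift_fst]; infer_instance
        exact mono_of_mono _ (R.map biprod.fst)

end Groth.Agent.S0011
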