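import Groth.Statements.S0013
import Groth.Agent.QCohBase.Acyclic
import Groth.Agent.QCohBase.CechIso

set_option autoImplicit false
universe u
open Coherent

namespace Groth.Agent.S0013

open AlgebraicGeometry in
/-- Let X be a scheme with an open covering all of whose nonempty finite intersections are affine. For a
quasi-coherent module M and every degree p, Čech cohomology with respect to this covering is
isomorphic to sheaf cohomology; only the existence of an isomorphism of additive groups is asserted
(the published statement gives an isomorphism of modules over the global sections). -/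
theorem result (X : Scheme.{u}) {ι : Type u}
    (U : ι → X.Opens) (hcov : ⨆ i, U i = ⊤)
    (hU : ∀ s : Finset ι, s.Nonempty → IsAffineOpen (⨅ i ∈ s, U i))
    (M : X.Modules) [Coh.IsQCoh M] (p : ℕ) :
    Nonempty (↑(CohB1.cechH U M p) ≃+ Coh.HH X M p) := by
  obtain ⟨e⟩ := Groth.Agent.QCohBase.CovSystem.cech_homology_equiv
    (S := Groth.Agent.QCohBase.affineSystem X) U (Groth.Agent.QCohBase.acyclic_of_isQCoh M) hcov
    (fun n i => by
      classical
      have e : Groth.Agent.QCohBase.inter U i = ⨅ j ∈ Finset.univ.image i, U j := by
        rw [← Finset.inf_eq_iInf, Finset.inf_image, Finset.inf_eq_iInf]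
        simp [Groth.Agent.QCohBase.inter]
      show IsAffineOpen (Groth.Agent.QCohBase.inter U i)
      rw [e]
      exact hU _ (Finset.univ_nonempty.image i)) p
  exact ⟨(Groth.Agent.QCohBase.cechHTopIso U M.presheaf p).addCommGroupIsoToAddEquiv.trans e⟩

end Groth.Agent.S0013
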