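import Groth.Statements.S0022
import Groth.Agent.QCohBase.Union
import Groth.Agent.QCohBase.Acyclic
import Groth.Agent.ProjCoord.Basic
import Mathlib.AlgebraicGeometry.ProjectiveSpectrum.Proper
import Mathlib.AlgebraicGeometry.Morphisms.Separated

set_option autoImplicit false
universe u
open Coherent

namespace Groth.Agent.S0022

open AlgebraicGeometry in
/-- For any ring R, any quasi-coherent module F on projective space ℙ^n_R and any i > n, H^i(ℙ^n_R, F) =
0. (The published statement is for coherent modules over a Noetherian ring; it is stated here for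
quasi-coherent modules over any ring.) -/
theorem result (n : ℕ) (R : Type u) [CommRing R]
    (M : (CohB1.ProjSpace n R).Modules) [Coh.IsQCoh M] (i : ℕ) (hi : n < i) :
    Subsingleton (Coh.HH (CohB1.ProjSpace n R) M i) := by
  obtain ⟨k, rfl⟩ : ∃ k, i = k + 1 := ⟨i - 1, by omega⟩
  let P := AlgebraicGeometry.Proj (CohB1.polyGrading n R)
  have key : ∀ (M : P.Modules), Coh.IsQCoh M → Subsingleton (Coh.HH P M (k + 1)) := by
    intro M hM
    haveI : Coh.IsQCoh M := hM
    refine Groth.Agent.QCohBase.CovSystem.subsingleton_H_of_union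
      (S := Groth.Agent.QCohBase.affineSystem P) (t := n)
      (fun V W hV hW => AlgebraicGeometry.IsAffineOpen.inf hV hW)
      (Groth.Agent.QCohBase.acyclic_of_isQCoh M) ?_ k (by omega)
    have h : (⨆ j : Fin (n + 1), AlgebraicGeometry.Proj.basicOpen (CohB1.polyGrading n R)
        (MvPolynomial.X j)) = ⊤ :=
      AlgebraicGeometry.Proj.iSup_basicOpen_eq_top _ _
        (Groth.Agent.ProjCoord.irrelevant_le_span_X (n := n) (R := R))
    rw [← h]
    exact Groth.Agent.QCohBase.CovSystem.unionLE_iSup _ fun j =>
      AlgebraicGeometry.Proj.isAffineOpen_basicOpen _ _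
        (Groth.Agent.ProjCoord.X_mem (n := n) (R := R) j) one_pos
  exact key M ‹_›

end Groth.Agent.S0022
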