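import Groth.Statements.S0024
import Groth.Agent.ProjFinite.Sections

set_option autoImplicit false
universe u
open Coherent

namespace Groth.Agent.S0024

open AlgebraicGeometry CategoryTheory in
/-- Special case d = 0, q = 0: the map R → Γ(P^n_R, O) induced by the structure morphism P^n_R → Spec R
is an isomorphism (global functions on projective space are the degree-zero part R of the polynomial
ring). -/
theorem result (n : ℕ) (R : Type u) [CommRing R] :
    IsIso (CohB1.ProjSpace.toSpec n R).appTop := by
  have h := Groth.Agent.ProjFinite.bijective_toGlobal (n := n) (R := R)
  have h2 : Function.Bijective ((Scheme.ΓSpecIso (CommRingCat.of R)).inv) :=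
    ConcreteCategory.bijective_of_isIso _
  refine (ConcreteCategory.isIso_iff_bijective _).2 ?_
  exact (Function.Bijective.of_comp_iff _ h2).1 h

end Groth.Agent.S0024
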