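import Groth.Statements.S0026
import Groth.Agent.Devissage.Filtration

set_option autoImplicit false
universe u
open Coherent

namespace Groth.Agent.S0026

open AlgebraicGeometry CategoryTheory CategoryTheory.Limits in
/-- On a Noetherian scheme X, every coherent module M admits a finite chain 0 = F_0 → F_1 → … → F_m ≅ M
of monomorphisms between coherent modules such that each quotient F_{j+1}/F_j is isomorphic to the
direct image of a nonzero quasi-coherent ideal sheaf of some integral closed subscheme Z_j → X.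
(Filtration written as a chain of monomorphisms up to isomorphism.) -/
theorem result (X : Scheme.{u}) [IsNoetherian X]
    (M : X.Modules) (hM : Coh.IsCoh M) :
    ∃ (m : ℕ) (F : ℕ → X.Modules) (φ : (j : ℕ) → (F j ⟶ F (j + 1))),
      IsZero (F 0) ∧ Nonempty (F m ≅ M) ∧ (∀ j ≤ m, Coh.IsCoh (F j)) ∧ ∀ j < m, Mono (φ j) ∧
        ∃ (Z : Scheme.{u}) (i : Z ⟶ X), IsClosedImmersion i ∧ IsIntegral Z ∧
          ∃ (I : Z.Modules) (ι : I ⟶ Coh.structureModule Z), Mono ι ∧ Coh.IsQCoh I ∧ ¬ IsZero I ∧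
            Nonempty (cokernel (φ j) ≅ (Coh.push i).obj I) := by
  obtain ⟨M', hM', ⟨e'⟩⟩ := Groth.Agent.Devissage.filt_of_isCoh hM
  suffices h : ∀ N : X.Modules, Groth.Agent.Devissage.Filt N →
      ∃ (m : ℕ) (F : ℕ → X.Modules) (φ : (j : ℕ) → (F j ⟶ F (j + 1))),
      IsZero (F 0) ∧ Nonempty (F m ≅ N) ∧ (∀ j ≤ m, Coh.IsCoh (F j)) ∧ ∀ j < m, Mono (φ j) ∧
        ∃ (Z : Scheme.{u}) (i : Z ⟶ X), IsClosedImmersion i ∧ IsIntegral Z ∧
          ∃ (I : Z.Modules) (ι : I ⟶ Coh.structureModule Z), Mono ι ∧ Coh.IsQCoh I ∧ ¬ IsZero I ∧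
            Nonempty (cokernel (φ j) ≅ (Coh.push i).obj I) by
    obtain ⟨m, F, φ, h0, ⟨e⟩, h1, h2⟩ := h M' hM'
    exact ⟨m, F, φ, h0, ⟨e ≪≫ e'⟩, h1, h2⟩
  intro N hN
  induction hN with
  | @zero N h hN =>
    exact ⟨0, fun _ => N, fun _ => 0, h, ⟨Iso.refl _⟩, fun _ _ => hN, fun j hj => absurd hj (Nat.not_lt_zero j)⟩
  | @step N N' hN ψ hψ hN' Z i hi hZ I ι hι hI hI0 he ih =>
    obtain ⟨m, F, φ, h0, ⟨e⟩, hcoh, hstep⟩ := ih
    classical
    let F' : ℕ → X.Modules := fun j => if j ≤ m then F j else N'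
    have hF' : ∀ j, j ≤ m → F' j = F j := fun j hj => if_pos hj
    have hF'' : F' (m + 1) = N' := if_neg (Nat.not_succ_le_self m)
    let φ' : (j : ℕ) → (F' j ⟶ F' (j + 1)) := fun j =>
      if h : j < m then eqToHom (hF' j h.le) ≫ φ j ≫ eqToHom (hF' (j + 1) h).symm
      else if h' : j = m then
        eqToHom (by subst h'; exact hF' j le_rfl) ≫ e.hom ≫ ψ ≫ eqToHom (by subst h'; exact hF''.symm)
      else 0
    refine ⟨m + 1, F', φ', ?_, ⟨eqToIso hF''⟩, ?_, ?_⟩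
    · rw [hF' 0 (Nat.zero_le m)]; exact h0
    · intro j hj
      rcases Nat.le_succ_iff.1 hj with hj | rfl
      · rw [hF' j hj]; exact hcoh j hj
      · rw [hF'']; exact hN'
    · intro j hj
      by_cases hjm : j < m
      · obtain ⟨hm, Z', i', hi', hZ', I', ι', hι', hI', hI0', ⟨e'⟩⟩ := hstep j hjm
        have hφ : φ' j = eqToHom (hF' j hjm.le) ≫ φ j ≫ eqToHom (hF' (j + 1) hjm).symm := dif_pos hjm
        refine ⟨by rw [hφ]; infer_instance, Z', i', hi', hZ', I', ι', hι', hI', hI0', ⟨?_⟩⟩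
        exact eqToIso (by congr 1) ≪≫ cokernelIsoOfEq hφ ≪≫ cokernelEpiComp _ _ ≪≫
          cokernelCompIsIso _ _ ≪≫ e'
      · obtain rfl : j = m := by omega
        obtain ⟨e'⟩ := he
        have hφ : φ' j = eqToHom (hF' j le_rfl) ≫ e.hom ≫ ψ ≫ eqToHom hF''.symm := by
          simp only [φ', dif_neg hjm]
          rfl
        refine ⟨by rw [hφ]; infer_instance, Z, i, hi, hZ, I, ι, hι, hI, hI0, ⟨?_⟩⟩
        exact cokernelIsoOfEq hφ ≪≫ cokernelEpiComp _ _ ≪≫ cokernelEpiComp _ _ ≪≫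
          cokernelCompIsIso _ _ ≪≫ e'

end Groth.Agent.S0026
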