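import Groth.Statements.S0027
import Groth.Agent.Devissage.Filtration

set_option autoImplicit false
universe u
open Coherent

namespace Groth.Agent.S0027

open AlgebraicGeometry CategoryTheory CategoryTheory.Limits in
/-- Let X be a nonempty Noetherian scheme and P an isomorphism-invariant property of O_X-modules such
that (1) in a short exact sequence of coherent modules, P for the two outer terms implies P for the
middle term, and (2) P holds for the direct image of every quasi-coherent ideal sheaf of every
integral closed subscheme of X. Then P holds for every coherent O_X-module. (Nonemptiness of X is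
needed for the zero module; the published statement leaves it implicit.) -/
theorem result (X : Scheme.{u}) [IsNoetherian X] [Nonempty X]
    (P : X.Modules → Prop) (hP : ∀ M N : X.Modules, Nonempty (M ≅ N) → P M → P N)
    (h₁ : ∀ S : ShortComplex X.Modules, S.ShortExact → Coh.IsCoh S.X₁ → Coh.IsCoh S.X₂ →
      Coh.IsCoh S.X₃ → P S.X₁ → P S.X₃ → P S.X₂)
    (h₂ : ∀ (Z : Scheme.{u}) (i : Z ⟶ X), IsClosedImmersion i → IsIntegral Z →
      ∀ (I : Z.Modules) (ι : I ⟶ Coh.structureModule Z), Mono ι → Coh.IsQCoh I →
        P ((Coh.push i).obj I))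
    (M : X.Modules) (hM : Coh.IsCoh M) : P M := by
  obtain ⟨M', hM', ⟨e'⟩⟩ := Groth.Agent.Devissage.filt_of_isCoh hM
  refine hP M' M ⟨e'⟩ ?_
  clear e' hM
  induction hM' with
  | @zero N h hN =>
    obtain ⟨x⟩ := ‹Nonempty X›
    let I := Scheme.IdealSheafData.vanishingIdeal (X := X) ⟨closure {x}, isClosed_closure⟩
    haveI := Groth.Agent.FpqcDescent.isReduced_subscheme_vanishingIdeal (X := X) ⟨closure {x}, isClosed_closure⟩
    have hr : Set.range I.subschemeι = closure ({x} : Set X) := by
      rw [Scheme.IdealSheafData.range_subschemeι, Scheme.IdealSheafData.coe_support_vanishingIdeal]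
      rfl
    haveI : IrreducibleSpace I.subscheme := by
      let hh := I.subschemeι.isClosedEmbedding.isEmbedding.toHomeomorph
      haveI : IrreducibleSpace (Set.range I.subschemeι) :=
        Subtype.irreducibleSpace (hr ▸ isIrreducible_singleton.closure)
      exact hh.symm.surjective.irreducibleSpace hh.symm.continuous
    haveI : IsIntegral I.subscheme := isIntegral_of_irreducibleSpace_of_isReduced _
    let Z0 : I.subscheme.Modules := cokernel (𝟙 (Coh.structureModule I.subscheme))
    have hz : IsZero Z0 := isZero_cokernel_of_epi _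
    have := h₂ _ I.subschemeι inferInstance inferInstance Z0 0
      ⟨fun a b _ => hz.eq_of_tgt a b⟩ (Groth.Agent.RPushQCoh.isQuasicoherent_of_isZero hz)
    exact hP _ N ⟨(Functor.map_isZero (Coh.push I.subschemeι) hz).iso h⟩ this
  | @step N N' hN ψ hψ hN' Z i hi hZ I ι hι hI hI0 he ih =>
    obtain ⟨e⟩ := he
    have hcok : Coh.IsCoh (cokernel ψ) := Groth.Agent.QCohBase.isCoh_cokernel ψ ((Groth.Agent.QCohBase.isCoh_iff _).1 hN.isCoh).1 hN'
    exact h₁ (ShortComplex.mk ψ (cokernel.π ψ) (cokernel.condition ψ))
      { exact := ShortComplex.exact_of_g_is_cokernel _ (cokernelIsCokernel ψ)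
        mono_f := hψ
        epi_g := inferInstanceAs (Epi (cokernel.π ψ)) } hN.isCoh hN' hcok ih
      (hP _ _ ⟨e.symm⟩ (h₂ Z i hi hZ I ι hι hI))

end Groth.Agent.S0027
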