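import Groth.Statements.S0028
import Groth.Agent.QCohBase.Acyclic
import Groth.Agent.QCohBase.Push

set_option autoImplicit false
universe u
open Coherent

namespace Groth.Agent.S0028

open AlgebraicGeometry CategoryTheory in
/-- If f : X → S is an affine morphism and F is a quasi-coherent O_X-module, then R^i f_* F = 0 for all
i > 0 (higher direct images of the underlying abelian sheaf). -/
theorem result {X S : Scheme.{u}} (f : X ⟶ S) [IsAffineHom f]
    (M : X.Modules) [Coh.IsQCoh M] (i : ℕ) (hi : 0 < i) :
    Limits.IsZero ((Coh.RpushAb f i).obj (Coh.toAb M)) := by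
  obtain ⟨q, rfl⟩ := Nat.exists_eq_add_of_le' hi
  exact Groth.Agent.QCohBase.CovSystem.isZero_rightDerived_push
    (S := Groth.Agent.QCohBase.affineSystem X) f.base {V | IsAffineOpen (X := S) V}
    S.isBasis_affineOpens (fun V hV => IsAffineOpen.preimage hV f)
    (Groth.Agent.QCohBase.acyclic_of_isQCoh M) q

end Groth.Agent.S0028
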