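import Groth.Statements.S0029
import Groth.Agent.SerreAff.Relative
import Groth.Agent.CompDerived.Sheaves

set_option autoImplicit false
universe u
open Coherent

namespace Groth.Agent.S0029

open AlgebraicGeometry CategoryTheory in
/-- Let f : X → Y be a quasi-compact morphism between quasi-separated schemes. Suppose R^1 f_* I
vanishes for each quasi-coherent submodule I of O_X; then f is affine. -/
theorem result {X Y : Scheme.{u}} (f : X ⟶ Y) [QuasiCompact f]
    [QuasiSeparatedSpace X] [QuasiSeparatedSpace Y]
    (h : ∀ (I : X.Modules) (i : I ⟶ Coh.structureModule X), Mono i → Coh.IsQCoh I →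
      Limits.IsZero ((Coh.RpushAb f 1).obj (Coh.toAb I))) : IsAffineHom f := by
  refine isAffineHom_of_forall_exists_isAffineOpen f fun y => ?_
  obtain ⟨V, hV, hyV, -⟩ := TopologicalSpace.Opens.isBasis_iff_nbhd.1 Y.isBasis_affineOpens
    (TopologicalSpace.Opens.mem_top y)
  haveI : QuasiSeparated f := inferInstance
  refine ⟨V, hyV, hV, Groth.Agent.SerreAff.isAffineOpen_of_idealExactOn
    (f.isCompact_preimage hV.isCompact) fun T hT i hi hI => ?_⟩
  have hR := h T.X₁ i hi hI
  haveI hJ : ((Scheme.Modules.pushforward f).obj T.X₁).IsQuasicoherent :=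
    haveI := hI
    Groth.Agent.QCohBase.isQuasicoherent_pushforward _ f
  have hse := Groth.Agent.CompDerived.shortExact_map (Coh.pushAb f)
    (Groth.Agent.QCohBase.toAb_shortExact hT) hR
  exact Groth.Agent.QCohBase.sections_surjective_of_isQCoh hse
    ((Scheme.Modules.pushforward f).obj T.X₁) rfl hV

end Groth.Agent.S0029
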