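import Groth.Statements.S0037
import Groth.Agent.CohFinite.AffinePush
import Mathlib.AlgebraicGeometry.ZariskisMainTheorem

set_option autoImplicit false
universe u
open Coherent

namespace Groth.Agent.S0037

open AlgebraicGeometry CategoryTheory in
/-- Let Y be locally Noetherian, f : X → Y proper and y a point whose fibre f⁻¹{y} is finite. Then for
every coherent F on X and every p > 0 the stalk of R^p f_* F at y vanishes. -/
theorem result {X Y : Scheme.{u}} (f : X ⟶ Y) [IsProper f]
    [IsLocallyNoetherian Y] (y : Y) (hy : (f.base ⁻¹' {y}).Finite) (M : X.Modules) (hM : Coh.IsCoh M)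
    (p : ℕ) (hp : 0 < p) :
    Limits.IsZero (TopCat.Presheaf.stalk ((Coh.RpushAb f p).obj (Coh.toAb M)).obj y) := by
  obtain ⟨k, rfl⟩ : ∃ k, p = k + 1 := ⟨p - 1, by omega⟩
  obtain ⟨V, hyV, hV⟩ := exists_isFinite_morphismRestrict_of_finite_preimage_singleton f y hy
  haveI := hV
  haveI : IsAffineHom (f ∣_ V) := inferInstance
  have h := Groth.Agent.CohFinite.notMem_support_Rpush f V M hM.1 k y hyV
  have h' : Subsingleton (((Coh.Rpush f (k + 1)).obj M).presheaf.stalk y) := not_not.1 h
  obtain ⟨e⟩ := Groth.Agent.FlasqueAcyclic.nonempty_toAb_Rpush_iso f M (k + 1)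
  refine Limits.IsZero.of_iso ?_ ((TopCat.Presheaf.stalkFunctor AddCommGrpCat y).mapIso
    ((CategoryTheory.sheafToPresheaf _ _).mapIso e.symm))
  exact @AddCommGrpCat.isZero_of_subsingleton _ h'

end Groth.Agent.S0037
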