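import Groth.Statements.S0048
import Groth.Agent.QCohBase.CohRestrict
import Groth.Agent.QCohBase.Noetherian
import Groth.Agent.CohFinite.ProperSupport
import Groth.Agent.TensorMod.Invertible

set_option autoImplicit false
universe u
open Coherent

namespace Groth.Agent.S0048

open AlgebraicGeometry CategoryTheory in
theorem restrict_push {X : Scheme.{u}} (U : X.Opens) (F : (↑U : Scheme.{u}).Modules) :
    Nonempty (((Coh.push U.ι).obj F).restrict U.ι ≅ F) :=
  ⟨(asIso (Scheme.Modules.restrictAdjunction U.ι).counit).app F⟩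

open AlgebraicGeometry in
theorem push_section_eq_zero {X : Scheme.{u}} (U : X.Opens) {T : Set X} (F : (↑U : Scheme.{u}).Modules)
    (hs : ∀ x : ↥U, x ∈ CohB1.support F → (x : X) ∈ T) (V : X.Opens) (hV : ∀ x ∈ V, x ∉ T)
    (s : Γ((Coh.push U.ι).obj F, V)) : s = 0 :=
  Groth.Agent.CohFinite.section_eq_zero_of_stalks F (T := U.ι ⁻¹ᵁ V)
    (fun y hy => not_not.1 fun h => hV y.1 hy (hs y h)) s

open AlgebraicGeometry in
theorem stalk_subsingleton {X : Scheme.{u}} (M : X.Modules) (N : X.Opens)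
    (hz : ∀ V : X.Opens, V ≤ N → ∀ s : Γ(M, V), s = 0) (x : X) (hx : x ∈ N) :
    Subsingleton (M.presheaf.stalk x) :=
  subsingleton_of_forall_eq 0 fun z => by
    obtain ⟨W, hxW, t, rfl⟩ := TopCat.Presheaf.exists_germ_eq M.presheaf z
    rw [← TopCat.Presheaf.germ_res_apply M.presheaf (CategoryTheory.homOfLE (inf_le_left : W ⊓ N ≤ W)) x ⟨hxW, hx⟩ t]
    exact (congrArg _ (hz (W ⊓ N) inf_le_right _)).trans (map_zero _)

open AlgebraicGeometry CategoryTheory in
theorem isQCoh_of_isZero {Y : Scheme.{u}} {M : Y.Modules} (hM : Limits.IsZero M) :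
    M.IsQuasicoherent :=
  Groth.Agent.TensorMod.isQCoh_of_iso
    ((Limits.isZero_cokernel_of_epi (𝟙 (Coh.structureModule Y))).iso hM)
    (Groth.Agent.QCohBase.isQuasicoherent_cokernel (𝟙 (Coh.structureModule Y))
      (Groth.Agent.TensorMod.isQCoh_structureModule Y) (Groth.Agent.TensorMod.isQCoh_structureModule Y))

open AlgebraicGeometry in
/-- Let U ⊆ X be open and T ⊆ U a subset closed in X. If F is a coherent (quasi-coherent of finite type,
i.e. `Coh.IsCoh`) module on U with support contained in T, then its direct image along U ↪ X is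
again coherent in the same sense. (The published statement is for coherent modules in the usual
sense; here both hypothesis and conclusion use the notion `Coh.IsCoh`.) -/
theorem result (X : Scheme.{u}) (U : X.Opens) (T : Set X)
    (hT : IsClosed T) (hTU : T ⊆ (U : Set X)) (F : (↑U : Scheme.{u}).Modules) (hF : Coh.IsCoh F)
    (hs : ∀ x : ↥U, x ∈ CohB1.support F → (x : X) ∈ T) : Coh.IsCoh ((Coh.push U.ι).obj F) := by
  let M : X.Modules := (Coh.push U.ι).obj F
  let N : X.Opens := ⟨Tᶜ, hT.isOpen_compl⟩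
  have hz : ∀ (V : X.Opens), V ≤ N → ∀ s : Γ(M, V), s = 0 := fun V hV s =>
    Groth.Agent.S0048.push_section_eq_zero U F hs V (fun x hx => hV hx) s
  have hstalk : ∀ x : X, x ∈ N → Subsingleton (M.presheaf.stalk x) :=
    Groth.Agent.S0048.stalk_subsingleton M N hz
  have hcov : ∀ x : X, ∃ b : Bool, x ∈ (if b then U else N : X.Opens) := fun x => by
    by_cases hx : x ∈ T
    · exact ⟨true, hTU hx⟩
    · exact ⟨false, hx⟩
  have hzero : CategoryTheory.Limits.IsZero (M.restrict N.ι) :=
    Groth.Agent.QCohBase.isZero_of_stalks fun y =>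
      (Groth.Agent.QCohBase.subsingleton_restrict_stalk_iff N.ι M y).2 (hstalk _ y.2)
  obtain ⟨e⟩ := Groth.Agent.S0048.restrict_push U F
  have hq : M.IsQuasicoherent := Groth.Agent.QCohBase.isQuasicoherent_of_cover _ hcov fun b => by
    cases b
    · exact Groth.Agent.S0048.isQCoh_of_isZero hzero
    · exact (Groth.Agent.TensorMod.isQCoh_of_iso e.symm hF.1)
  refine ⟨hq, ?_⟩
  haveI := hq
  refine Groth.Agent.QCohBase.isFiniteType_of_finite M fun x => ?_
  obtain ⟨b, hb⟩ := hcov x
  obtain ⟨V, hV, hxV, hVb⟩ := TopologicalSpace.Opens.isBasis_iff_nbhd.1 X.isBasis_affineOpens hb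
  refine ⟨V, hV, hxV, ?_⟩
  cases b
  · haveI : Subsingleton Γ(M, V) := subsingleton_of_forall_eq 0 (hz V hVb)
    infer_instance
  · have h1 : U.ι ''ᵁ U.ι ⁻¹ᵁ V = V := by
      rw [U.ι.image_preimage_eq_opensRange_inf, Scheme.Opens.opensRange_ι]
      exact inf_eq_right.2 hVb
    have h2 : IsAffineOpen (U.ι ⁻¹ᵁ V) := (U.ι.isAffineOpen_iff_of_isOpenImmersion).1 (by rw [h1]; exact hV)
    have hc : Coh.IsCoh (M.restrict U.ι) :=
      ⟨(Groth.Agent.TensorMod.isQCoh_of_iso e.symm hF.1),
        (Groth.Agent.QCohBase.isCoh_of_epi e.inv hF ((Groth.Agent.TensorMod.isQCoh_of_iso e.symm hF.1))).2⟩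
    have h3 := Groth.Agent.QCohBase.finite_of_restrict U.ι M _ (Groth.Agent.QCohBase.isFiniteType_toFinite hc h2)
    rwa [h1] at h3

end Groth.Agent.S0048
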