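import Groth.Statements.S0049
import Groth.Agent.Devissage.TwoThree

set_option autoImplicit false
universe u
open Coherent

namespace Groth.Agent.S0049

open AlgebraicGeometry CategoryTheory Limits TopologicalSpace in
/-- On a Noetherian scheme, if the support of a coherent module F is the union of closed sets Z and Z',
there is a short exact sequence 0 → G' → F → G → 0 of coherent modules with G' supported in Z' and G
supported in Z. -/
theorem result (X : Scheme.{u}) [IsNoetherian X] (M : X.Modules) (hM : Coh.IsCoh M)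
    (Z Z' : Set X) (hZ : IsClosed Z) (hZ' : IsClosed Z') (h : CohB1.support M = Z ∪ Z') :
    ∃ S : ShortComplex X.Modules, S.ShortExact ∧ Nonempty (S.X₂ ≅ M) ∧ Coh.IsCoh S.X₁ ∧ Coh.IsCoh S.X₃ ∧
      CohB1.support S.X₁ ⊆ Z' ∧ CohB1.support S.X₃ ⊆ Z := by
  haveI := hM.1
  let U : X.Opens := ⟨Z'ᶜ, hZ'.isOpen_compl⟩
  haveI : QuasiCompact U.ι := inferInstance
  let H := (Scheme.Modules.pushforward U.ι).obj (M.restrict U.ι)
  have hHq : H.IsQuasicoherent := Groth.Agent.QCohBase.isQuasicoherent_pushforward _ U.ι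
  let η : M ⟶ H := (Scheme.Modules.restrictAdjunction U.ι).unit.app M
  have hη : ∀ W : X.Opens, ∀ s, η.app W s =
      Groth.Agent.QCohBase.mres M (U.ι.image_preimage_le W) s := fun W s => by
    show ((Scheme.Modules.restrictAdjunction U.ι).unit.app M).app W s = _
    rw [Scheme.Modules.restrictAdjunction_unit_app_app]
    rfl
  let K := kernel η
  have hK : Coh.IsCoh K := Groth.Agent.QCohBase.isCoh_kernel η hM hHq
  let S := ShortComplex.mk (kernel.ι η) (cokernel.π (kernel.ι η)) (cokernel.condition _)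
  have hS : S.ShortExact := Groth.Agent.Devissage.ses (kernel.ι η)
  have hC : Coh.IsCoh (cokernel (kernel.ι η)) := Groth.Agent.QCohBase.isCoh_cokernel _ hK.1 hM
  refine ⟨S, hS, ⟨Iso.refl _⟩, hK, hC, fun x hx => ?_, fun x hx => ?_⟩
  · by_contra hxZ
    obtain ⟨W, hW, hxW, hWU⟩ := Opens.isBasis_iff_nbhd.1 X.isBasis_affineOpens (U := U) hxZ
    haveI := hK.1
    refine hx ((Groth.Agent.QCohBase.subsingleton_stalk_iff K hW x hxW).2 fun c => ⟨1, ?_, ?_⟩)
    · rw [Scheme.basicOpen_one]; exact hxW
    rw [one_smul]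
    apply Groth.Agent.QCohBase.app_injective_of_mono (kernel.ι η) W
    rw [map_zero]
    have h0 : η.app W ((kernel.ι η).app W c) = 0 := by
      rw [← ConcreteCategory.comp_apply, ← Scheme.Modules.Hom.comp_app, kernel.condition]
      rfl
    rw [hη] at h0
    have hle : W ≤ U.ι ''ᵁ (U.ι ⁻¹ᵁ W) := by
      rw [Scheme.Hom.image_preimage_eq_opensRange_inf, Scheme.Opens.opensRange_ι]
      exact le_inf hWU le_rfl
    have h1 := congrArg (Groth.Agent.QCohBase.mres M hle) h0
    rw [Groth.Agent.QCohBase.mres_mres] at h1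
    exact (Groth.Agent.QCohBase.mres_refl M _ _).symm.trans (h1.trans (map_zero _))
  · by_contra hxZ
    obtain ⟨W, hW, hxW, hWZ⟩ := Opens.isBasis_iff_nbhd.1 X.isBasis_affineOpens
      (U := ⟨Zᶜ, hZ.isOpen_compl⟩) hxZ
    haveI := hC.1
    refine hx ((Groth.Agent.QCohBase.subsingleton_stalk_iff _ hW x hxW).2 fun c => ⟨1, ?_, ?_⟩)
    · rw [Scheme.basicOpen_one]; exact hxW
    rw [one_smul]
    obtain ⟨b, rfl⟩ := Groth.Agent.QCohBase.app_surjective_of_epi (cokernel.π (kernel.ι η)) hM.1
      hC.1 hW c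
    have hb : η.app W b = 0 := by
      rw [hη]
      refine TopCat.Presheaf.section_ext (C := AddCommGrpCat.{u}) ⟨M.presheaf, M.isSheaf⟩ _ _ _
        fun y hy => ?_
      have hy' : y ∈ W ∧ y ∈ U := by
        rw [Scheme.Hom.image_preimage_eq_opensRange_inf, Scheme.Opens.opensRange_ι] at hy
        exact ⟨hy.2, hy.1⟩
      haveI : Subsingleton (M.presheaf.stalk y) := not_not.1 fun hn => by
        rcases h.le hn with hz | hz
        · exact hWZ hy'.1 hz
        · exact hy'.2 hz
      exact Subsingleton.elim _ _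
    obtain ⟨a, rfl⟩ := Groth.Agent.QCohBase.sections_exact_left
      (T := ShortComplex.mk (kernel.ι η) η (kernel.condition η))
      (ShortComplex.exact_of_f_is_kernel _ (kernelIsKernel η)) b hb
    rw [← ConcreteCategory.comp_apply, ← Scheme.Modules.Hom.comp_app, cokernel.condition]
    rfl

end Groth.Agent.S0049
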