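import Groth.Statements.S0057
import Groth.Agent.FormalFun.Graded
import Groth.Agent.FormalFun.Main

set_option autoImplicit false
universe u
open Coherent

namespace Groth.Agent.S0057

open AlgebraicGeometry CategoryTheory in
/-- Let A be Noetherian, I an ideal, X proper over Spec A and F coherent on X. For each p there is c ≥ 0
such that for all n ≥ c the kernel of H^p(X, F) → H^p(X, F/I^(n+1)F) is contained in I^(n-c) H^p(X,
F). (An index shift by one relative to the published statement is absorbed in c.) -/
theorem result (A : Type u) [CommRing A] [IsNoetherianRing A]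
    (I : Ideal A) (X : Scheme.{u}) [X.Over (Spec (CommRingCat.of A))]
    [IsProper (X ↘ Spec (CommRingCat.of A))] (M : X.Modules) (hM : Coh.IsCoh M) (p : ℕ) :
    ∃ c : ℕ, ∀ n : ℕ, c ≤ n →
      ((Formal.toHHmodPow I M p n).ker : Set (Coh.HH X M p)) ⊆
        ((I ^ (n - c) • (⊤ : Submodule A (Coh.HH X M p)) : Submodule A (Coh.HH X M p)) : Set (Coh.HH X M p)) := by
  haveI := LocallyOfFiniteType.isLocallyNoetherian (X ↘ Spec (CommRingCat.of A))
  haveI : CompactSpace X := QuasiCompact.compactSpace_of_compactSpace (X ↘ Spec (CommRingCat.of A))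
  obtain ⟨c, hc⟩ := Groth.Agent.FormalFun.exists_range_le (I := I) hM
    (Groth.Agent.FormalFun.finiteOn_of_isProper _) p
  refine ⟨c, fun n hn x hx => ?_⟩
  have hS : (ShortComplex.mk (Groth.Agent.FormalFun.kι M (I ^ (n + 1)))
      (Groth.Agent.FormalFun.qπ M (I ^ (n + 1))) (Limits.kernel.condition _)).ShortExact :=
    { exact := ShortComplex.exact_of_f_is_kernel _ (Limits.kernelIsKernel _)
      mono_f := inferInstanceAs (Mono (Groth.Agent.FormalFun.kι M (I ^ (n + 1))))
      epi_g := inferInstanceAs (Epi (Groth.Agent.FormalFun.qπ M (I ^ (n + 1)))) }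
  have h := hc (n + 1) (by omega) ((Groth.Agent.CohFinite.hhMap_range_eq_ker (A := A) hS p).ge
    (LinearMap.mem_ker.2 hx))
  exact SetLike.le_def.mp (Submodule.smul_mono_left (Ideal.pow_le_pow_right (by omega))) h

end Groth.Agent.S0057
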