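import Groth.Statements.S0058
import Groth.Agent.FormalFun.Graded
import Groth.Agent.FormalFun.Main

set_option autoImplicit false
universe u
open Coherent

namespace Groth.Agent.S0058

open AlgebraicGeometry CategoryTheory Opposite in
/-- Part (3) (which implies the Mittag-Leffler condition (2)). Same setting as part (1): there is c such
that for all n and all k ≥ n + c, the image of H^p(X, F/I^(k+1)F) → H^p(X, F/I^(n+1)F) equals the
image of H^p(X, F) → H^p(X, F/I^(n+1)F). -/
theorem result (A : Type u) [CommRing A] [IsNoetherianRing A]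
    (I : Ideal A) (X : Scheme.{u}) [X.Over (Spec (CommRingCat.of A))]
    [IsProper (X ↘ Spec (CommRingCat.of A))] (M : X.Modules) (hM : Coh.IsCoh M) (p : ℕ) :
    ∃ c : ℕ, ∀ (n k : ℕ) (h : n ≤ k), n + c ≤ k →
      Set.range (Sheaf.H.map ((SheafOfModules.toSheaf X.ringCatSheaf).map
        ((Formal.completion I M).map (homOfLE h).op)) p) = Set.range (Formal.toHHmodPow I M p n) := by
  haveI := LocallyOfFiniteType.isLocallyNoetherian (X ↘ Spec (CommRingCat.of A))
  haveI : CompactSpace X := QuasiCompact.compactSpace_of_compactSpace (X ↘ Spec (CommRingCat.of A))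
  obtain ⟨c, hc⟩ := Groth.Agent.FormalFun.exists_stable_image (I := I) hM
    (Groth.Agent.FormalFun.finiteOn_of_isProper _) p
  refine ⟨c, fun n k h hk => ?_⟩
  have e : Formal.modPowπ I (k + 1) M ≫ (Formal.completion I M).map (homOfLE h).op =
      Formal.modPowπ I (n + 1) M := by
    clear hk
    induction k, h using Nat.le_induction with
    | base =>
      rw [show (homOfLE (le_refl n)).op = 𝟙 (Opposite.op n) from rfl, CategoryTheory.Functor.map_id]
      exact Category.comp_id _
    | succ l hl ih =>
      rw [show (homOfLE (Nat.le_succ_of_le hl)).op = (homOfLE (Nat.le_succ l)).op ≫ (homOfLE hl).op from rfl,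
        Functor.map_comp]
      erw [Functor.ofOpSequence_map_homOfLE_succ]
      exact (Category.assoc _ _ _).symm.trans
        ((congrArg (fun g => g ≫ (Formal.completion I M).map (homOfLE hl).op)
          (Formal.modPowπ_trans I (l + 1) M)).trans ih)
  haveI : Epi (Formal.modPowπ I (k + 1) M) :=
    inferInstanceAs (Epi (Limits.cokernel.π (Formal.smulFamily (I ^ (k + 1)) M)))
  have e' : (Formal.completion I M).map (homOfLE h).op =
      Groth.Agent.FormalFun.qTrans M (Ideal.pow_le_pow_right (I := I) (Nat.succ_le_succ h)) :=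
    (cancel_epi (Formal.modPowπ I (k + 1) M)).1 (e.trans (Groth.Agent.FormalFun.π_qTrans M _).symm)
  rw [e']
  refine Set.Subset.antisymm ?_ ?_
  · rintro _ ⟨y, rfl⟩
    exact hc (n + 1) (k + 1) (Nat.succ_le_succ h) (by omega) y
  · rintro _ ⟨x, rfl⟩
    exact ⟨Formal.toHHmodPow I M p k x,
      Groth.Agent.FormalFun.hhπ_trans (A := A) (Ideal.pow_le_pow_right (I := I) (Nat.succ_le_succ h)) x⟩

end Groth.Agent.S0058
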