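import Groth.Statements.S0063
import Mathlib


set_option autoImplicit false
set_option backward.isDefEq.respectTransparency.types false
open CategoryTheory CategoryTheory.Limits AlgebraicGeometry Opposite
universe u
open EtBase

namespace Groth.Agent.S0063

/-- Rigidity of maps into an unramified separated scheme — two maps from a connected scheme over the
base that agree at one point, including on residue fields, coincide. -/
theorem result {X S Y : Scheme.{u}} (π : X ⟶ S)
    [FormallyUnramified π] [LocallyOfFiniteType π] [IsSeparated π]
    (h : Y ⟶ S) [ConnectedSpace Y] (f g : Y ⟶ X) (hf : f ≫ π = h) (hg : g ≫ π = h)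
    (y : Y) (hy : Y.fromSpecResidueField y ≫ f = Y.fromSpecResidueField y ≫ g) : f = g := by
  let c : Y ⟶ pullback π π := pullback.lift f g (hf.trans hg.symm)
  let d := pullback.fst c (pullback.diagonal π)
  haveI : IsOpenImmersion (pullback.diagonal π) := inferInstance
  haveI : IsOpenImmersion d := MorphismProperty.of_isPullback (P := @IsOpenImmersion)
    (IsPullback.of_hasPullback c (pullback.diagonal π)).flip ‹_›
  haveI : IsClosedImmersion (pullback.diagonal π) := IsSeparated.isClosedImmersion_diagonal
  haveI : IsClosedImmersion d := MorphismProperty.of_isPullback (P := @IsClosedImmersion)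
    (IsPullback.of_hasPullback c (pullback.diagonal π)).flip ‹_›
  have hd : d ≫ f = d ≫ g := by
    have h1 := congrArg (· ≫ pullback.fst π π) (pullback.condition (f := c) (g := pullback.diagonal π))
    have h2 := congrArg (· ≫ pullback.snd π π) (pullback.condition (f := c) (g := pullback.diagonal π))
    simp only [c, Category.assoc, pullback.lift_fst, pullback.diagonal_fst, Category.comp_id] at h1
    simp only [c, Category.assoc, pullback.lift_snd, pullback.diagonal_snd, Category.comp_id] at h2
    exact h1.trans h2.symm
  let m := Y.fromSpecResidueField y
  let l : Spec (Y.residueField y) ⟶ pullback c (pullback.diagonal π) :=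
    pullback.lift m (m ≫ f) (pullback.hom_ext
      (by simp only [c, Category.assoc, pullback.lift_fst, pullback.diagonal_fst, Category.comp_id])
      (by simp only [c, m, Category.assoc, pullback.lift_snd, pullback.diagonal_snd, Category.comp_id]; exact hy.symm))
  have hy' : y ∈ Set.range d := ⟨l (IsLocalRing.closedPoint _), by
    rw [← Scheme.Hom.comp_apply, show l ≫ d = m from pullback.lift_fst _ _ _]
    exact Scheme.fromSpecResidueField_apply _ _⟩
  have hu : Set.range d = Set.univ :=
    IsClopen.eq_univ ⟨d.isClosedEmbedding.isClosed_range, d.isOpenEmbedding.isOpen_range⟩ ⟨y, hy'⟩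
  haveI : Surjective d := ⟨fun z => (hu.symm.subset (Set.mem_univ z) :)⟩
  haveI : IsIso d := (isIso_iff_isOpenImmersion_and_surjective d).mpr ⟨inferInstance, inferInstance⟩
  exact (cancel_epi d).1 hd

end Groth.Agent.S0063
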