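import Groth.Statements.S0064
import Mathlib.AlgebraicGeometry.Morphisms.FlatMono
import Mathlib.AlgebraicGeometry.Noetherian
import Mathlib.Topology.Irreducible
import Mathlib.AlgebraicGeometry.Morphisms.Etale
import Mathlib.AlgebraicGeometry.Morphisms.FormallyUnramified


set_option autoImplicit false
open CategoryTheory CategoryTheory.Limits AlgebraicGeometry Opposite
universe u
open EtBase

namespace Groth.Agent.S0064

set_option backward.isDefEq.respectTransparency.types false in
/-- Let S be a Noetherian scheme, X → S a quasi-compact, separated, unramified morphism (formally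
unramified and locally of finite type), and Y a Noetherian scheme with a morphism Y → S. Then there
are only finitely many S-morphisms Y → X. The published statement does not assume X → S separated;
it is stated here in the separated case. -/
theorem result {X S Y : Scheme.{u}} [IsNoetherian S] [IsNoetherian Y]
    (π : X ⟶ S) [FormallyUnramified π] [LocallyOfFiniteType π] [QuasiCompact π] [IsSeparated π]
    (h : Y ⟶ S) : Set.Finite {f : Y ⟶ X | f ≫ π = h} := by
  let P := pullback π h
  haveI : QuasiCompact (pullback.snd π h) := MorphismProperty.pullback_snd _ _ inferInstance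
  haveI : LocallyOfFiniteType (pullback.snd π h) := MorphismProperty.pullback_snd _ _ inferInstance
  haveI : IsSeparated (pullback.snd π h) := MorphismProperty.pullback_snd _ _ inferInstance
  haveI : FormallyUnramified (pullback.snd π h) := MorphismProperty.pullback_snd _ _ inferInstance
  haveI : IsLocallyNoetherian P := LocallyOfFiniteType.isLocallyNoetherian (pullback.snd π h)
  haveI : CompactSpace P := QuasiCompact.compactSpace_of_compactSpace (pullback.snd π h)
  haveI : IsNoetherian P := {}
  let sec : {f : Y ⟶ X // f ≫ π = h} → (Y ⟶ P) := fun f => pullback.lift f.1 (𝟙 Y) (by rw [f.2, Category.id_comp])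
  have hsec : ∀ f, sec f ≫ pullback.snd π h = 𝟙 Y := fun f => pullback.lift_snd _ _ _
  have hoi : ∀ f, IsOpenImmersion (sec f) := fun f => by
    haveI : IsOpenImmersion (sec f ≫ pullback.snd π h) := by rw [hsec]; infer_instance
    haveI : Etale (sec f ≫ pullback.snd π h) := by rw [hsec]; infer_instance
    haveI : Etale (sec f) := Etale.of_comp (sec f) (pullback.snd π h)
    haveI : IsSplitMono (sec f) := IsSplitMono.mk' ⟨_, hsec f⟩
    exact IsOpenImmersion.of_flat_of_mono (sec f)
  have hci : ∀ f, IsClosedImmersion (sec f) := fun f => by
    haveI : IsClosedImmersion (sec f ≫ pullback.snd π h) := by rw [hsec]; infer_instance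
    exact IsClosedImmersion.of_comp (sec f) (pullback.snd π h)
  have hfin : {C : Set P | IsClopen C}.Finite := by
    refine Set.Finite.subset ((TopologicalSpace.NoetherianSpace.finite_irreducibleComponents (α := P)).finite_subsets.image Set.sUnion) fun C hC => ?_
    refine ⟨{Z ∈ irreducibleComponents P | Z ⊆ C}, fun Z hZ => hZ.1, Set.Subset.antisymm (Set.sUnion_subset fun Z hZ => hZ.2) fun z hz => ?_⟩
    refine ⟨irreducibleComponent z, ⟨irreducibleComponent_mem_irreducibleComponents z, ?_⟩, mem_irreducibleComponent⟩
    exact (isIrreducible_irreducibleComponent.isConnected.isPreconnected.subset_isClopen hC ⟨z, mem_irreducibleComponent, hz⟩)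
  let Φ : {f : Y ⟶ X // f ≫ π = h} → {C : Set P // IsClopen C} := fun f =>
    ⟨Set.range (sec f), (hci f).isClosedEmbedding.isClosed_range, (hoi f).base_open.isOpen_range⟩
  have hΦ : Function.Injective Φ := by
    intro f f' e
    have e' : Set.range (sec f) = Set.range (sec f') := congrArg Subtype.val e
    haveI := hoi f
    haveI := hoi f'
    have h1 := IsOpenImmersion.lift_fac (sec f') (sec f) e'.le
    have h2 : IsOpenImmersion.lift (sec f') (sec f) e'.le = 𝟙 Y := by
      have := congrArg (fun k : Y ⟶ P => k ≫ pullback.snd π h) h1
      simpa only [Category.assoc, hsec, Category.comp_id] using this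
    rw [h2, Category.id_comp] at h1
    have e2 := congrArg (fun k : Y ⟶ P => k ≫ pullback.fst π h) h1
    simp only [sec, pullback.lift_fst] at e2
    exact Subtype.ext e2.symm
  haveI : Finite {C : Set P // IsClopen C} := hfin.to_subtype
  exact Set.finite_coe_iff.mp (Finite.of_injective Φ hΦ)

end Groth.Agent.S0064
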