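import Groth.Statements.S0066
import Groth.Agent.S2611
import Groth.Agent.FpqcDescent.Flat
import Groth.Agent.Hensel.HenselizationNormal
import Mathlib.RingTheory.Unramified.LocalRing


set_option autoImplicit false
open CategoryTheory CategoryTheory.Limits AlgebraicGeometry Opposite
universe u
open EtBase

namespace Groth.Agent.S0066

/-- For an étale morphism f : X → Y with Y locally Noetherian and a point x of X, the local ring O_{X,x}
is a normal domain (a domain which is integrally closed in its fraction field) if and only if
O_{Y,f(x)} is. -/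
theorem result {X Y : Scheme.{u}} (f : X ⟶ Y) [AlgebraicGeometry.Etale f]
    [IsLocallyNoetherian Y] (x : X) :
    (IsDomain (X.presheaf.stalk x) ∧ IsIntegrallyClosed (X.presheaf.stalk x)) ↔
      (IsDomain (Y.presheaf.stalk (f.base x)) ∧ IsIntegrallyClosed (Y.presheaf.stalk (f.base x))) := by
  have := LocallyOfFiniteType.isLocallyNoetherian f
  have hff := Groth.Agent.FpqcDescent.faithfullyFlat_stalkMap f x (Flat.stalkMap f x)
  have hu : (f.stalkMap x).hom.FormallyUnramified := FormallyUnramified.stalkMap f x
  have he : (f.stalkMap x).hom.EssFiniteType := LocallyOfFiniteType.stalkMap f x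
  let A := Y.presheaf.stalk (f x)
  let B := X.presheaf.stalk x
  let := (f.stalkMap x).hom.toAlgebra
  have : Module.FaithfullyFlat A B := hff
  have : Algebra.FormallyUnramified A B := hu
  have : Algebra.EssFiniteType A B := he
  have : IsLocalHom (algebraMap A B) := inferInstanceAs (IsLocalHom (f.stalkMap x).hom)
  constructor
  · rintro ⟨h1, h2⟩
    exact Groth.Agent.Hensel.isNormal_of_faithfullyFlat A B
  · rintro ⟨(h1 : IsDomain A), (h2 : IsIntegrallyClosed A)⟩
    let m := IsLocalRing.maximalIdeal B
    have hm : m.comap (algebraMap A B) = IsLocalRing.maximalIdeal A :=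
      IsLocalRing.maximalIdeal_comap (algebraMap A B)
    let eA : A ≃ₐ[A] Localization.AtPrime (m.comap (algebraMap A B)) :=
      IsLocalization.atUnits A (m.comap (algebraMap A B)).primeCompl (fun a ha => by
        have : a ∉ IsLocalRing.maximalIdeal A := fun h => ha (hm ▸ h)
        exact (IsUnit.mem_submonoid_iff a).2 (by simpa using this))
    haveI : IsDomain (Localization.AtPrime (m.comap (algebraMap A B))) := eA.toRingEquiv.symm.toMulEquiv.isDomain A
    haveI : IsIntegrallyClosed (Localization.AtPrime (m.comap (algebraMap A B))) :=
      IsIntegrallyClosed.of_equiv eA.toRingEquiv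
    have hfib : ∀ (q : Ideal B) [q.IsPrime],
        IsDomain (EGA4.FibLocRing A B q) ∧ IsIntegrallyClosed (EGA4.FibLocRing A B q) := by
      intro q _
      haveI : q.LiesOver (q.comap (algebraMap A B)) := ⟨rfl⟩
      letI := Localization.AtPrime.algebraOfLiesOver (q.comap (algebraMap A B)) q
      haveI : Algebra.IsUnramifiedAt A q := by
        haveI : Algebra.FormallyUnramified B (Localization.AtPrime q) := .of_isLocalization q.primeCompl
        exact Algebra.FormallyUnramified.comp A B _
      have h := ((Algebra.isUnramifiedAt_iff_map_eq A (q.comap (algebraMap A B)) q).mp ‹_›).2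
      haveI : ((q.comap (algebraMap A B)).map (algebraMap A (Localization.AtPrime q))).IsMaximal := by
        rw [h]; exact IsLocalRing.maximalIdeal.isMaximal _
      letI := Ideal.Quotient.field ((q.comap (algebraMap A B)).map (algebraMap A (Localization.AtPrime q)))
      exact ⟨inferInstance, inferInstance⟩
    obtain ⟨hd, hn⟩ := Groth.Agent.S2611.result A B hfib m
    let eB : B ≃ₐ[B] Localization.AtPrime m :=
      IsLocalization.atUnits B m.primeCompl (fun b hb => (IsUnit.mem_submonoid_iff b).2 (by simpa [m] using hb))
    haveI := hd
    haveI := hn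
    exact ⟨eB.toRingEquiv.toMulEquiv.isDomain _, IsIntegrallyClosed.of_equiv eB.toRingEquiv.symm⟩

end Groth.Agent.S0066
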