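import Groth.Statements.S0072
import Groth.Agent.EtSh.FinitePush
import Mathlib.Algebra.Category.Grp.Biproducts


set_option autoImplicit false
open CategoryTheory CategoryTheory.Limits AlgebraicGeometry Opposite
universe u
open EtBase

namespace Groth.Agent.S0072

/-- Let f : X → Y be a finite morphism of schemes, F an abelian sheaf on X_ét, and η : Spec Ω → Y a
geometric point with Ω algebraically closed. Then the stalk (f_*F)_η is isomorphic to the direct sum
of the stalks F_ξ over the geometric points ξ : Spec Ω → X lying over η (those with f ∘ ξ = η). Only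
the existence of an isomorphism is asserted; the published statement gives a canonical
identification. -/
theorem result {X Y : Scheme.{u}} (f : X ⟶ Y) [IsFinite f] [EtCoh.BCCont f]
    (F : EtCoh.Ab X) {Ω : Type u} [Field Ω] [IsAlgClosed Ω] (η : Spec (CommRingCat.of Ω) ⟶ Y) :
    Nonempty ((EtCoh.stalk η).obj ((EtCoh.push f).obj F) ≅
      ∐ fun ξ : {ξ : Spec (CommRingCat.of Ω) ⟶ X // ξ ≫ f = η} => (EtCoh.stalk ξ.1).obj F) := by
  haveI : Finite {ξ : Spec (CommRingCat.of Ω) ⟶ X // ξ ≫ f = η} := Groth.Agent.EtSh.finite_gpts_of_isFinite f η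
  let T := {ξ : Spec (CommRingCat.of Ω) ⟶ X // ξ ≫ f = η}
  let c : T → AddCommGrpCat.{u + 1} := fun ξ => (EtCoh.stalk ξ.1).obj F
  let e : ↑((EtCoh.stalk η).obj ((EtCoh.push f).obj F)) ≃+ (∀ ξ : T, c ξ) :=
    AddEquiv.ofBijective
      ({ toFun := fun p ξ => Groth.Agent.EtSh.pushComp f F ξ p
         map_zero' := funext fun ξ => map_zero _
         map_add' := fun a b => funext fun ξ => map_add _ a b } :
        ↑((EtCoh.stalk η).obj ((EtCoh.push f).obj F)) →+ (∀ ξ : T, c ξ))
      (Groth.Agent.EtSh.bijective_pushComp f F)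
  exact ⟨e.toAddCommGrpIso ≪≫ (limit.isoLimitCone (AddCommGrpCat.HasLimit.productLimitCone.{u, u + 1} c)).symm ≪≫
    (biproduct.isoProduct c).symm ≪≫ biproduct.isoCoproduct c⟩

end Groth.Agent.S0072
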