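import Groth.Statements.S0090
import Mathlib.Algebra.Polynomial.Eval.Irreducible


set_option autoImplicit false
open CategoryTheory CategoryTheory.Limits AlgebraicGeometry Opposite
universe u
open EtBase

namespace Groth.Agent.S0090

open Polynomial in
theorem linear_of_irreducible {R : Type u} [CommRing R] [IsDomain R] [IsIntegrallyClosed R]
    {K : Type u} [Field K] [IsSepClosed K] [Algebra R K] [IsFractionRing R K]
    (g : R[X]) (hg : g.Monic) (hirr : Irreducible g) (hd : g.derivative ≠ 0) :
    g.natDegree = 1 := by
  have hK : Irreducible (g.map (algebraMap R K)) := hg.irreducible_iff_irreducible_map_fraction_map.mp hirr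
  have hsep : (g.map (algebraMap R K)).Separable := by
    rw [separable_iff_derivative_ne_zero hK, derivative_map]
    exact (Polynomial.map_ne_zero_iff (IsFractionRing.injective R K)).mpr hd
  have h1 := IsSepClosed.degree_eq_one_of_irreducible K hK hsep
  rw [degree_map_eq_of_injective (IsFractionRing.injective R K)] at h1
  exact natDegree_eq_of_degree_eq_some h1

open Polynomial in
theorem strictlyHenselian_of_sepClosed (R : Type u) [CommRing R] [IsDomain R] [IsLocalRing R] [IsIntegrallyClosed R]
    (K : Type u) [Field K] [IsSepClosed K] [Algebra R K] [IsFractionRing R K] :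
    EtCoh.IsStrictlyHenselianLocalRing R := by
  have key : ∀ (n : ℕ) (f : R[X]), f.natDegree ≤ n → f.Monic → ∀ a₀ : R,
      f.eval a₀ ∈ IsLocalRing.maximalIdeal R → IsUnit (f.derivative.eval a₀) →
      ∃ a : R, f.IsRoot a ∧ a - a₀ ∈ IsLocalRing.maximalIdeal R := by
    intro n
    induction n with
    | zero =>
      intro f hn hf a₀ _ h'
      rw [hf.natDegree_eq_zero.mp (by omega)] at h'
      simp at h'
    | succ n ih =>
      intro f hn hf a₀ h h'
      have hd : f.derivative ≠ 0 := fun e => by rw [e, eval_zero] at h'; exact not_isUnit_zero h'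
      by_cases hirr : Irreducible f
      · have h1 := linear_of_irreducible (K := K) f hf hirr hd
        have hf1 : f = X + C (f.coeff 0) := hf.eq_X_add_C h1
        refine ⟨-f.coeff 0, ?_, ?_⟩
        · show f.eval (-f.coeff 0) = 0
          conv_lhs => arg 2; rw [hf1]
          simp
        · rw [hf1, eval_add, eval_X, eval_C] at h
          have : -f.coeff 0 - a₀ = -(a₀ + f.coeff 0) := by ring
          rw [this]; exact neg_mem h
      · have hne : f ≠ 1 := fun e => hd (by rw [e, derivative_one])
        obtain ⟨g, k, hg, hk, hgk, hg0, hk0⟩ : ∃ g k : R[X], g.Monic ∧ k.Monic ∧ g * k = f ∧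
            g.natDegree ≠ 0 ∧ k.natDegree ≠ 0 := by
          rw [hf.irreducible_iff_natDegree] at hirr
          push Not at hirr
          obtain ⟨g, k, hg, hk, hgk, h0⟩ := hirr hne
          exact ⟨g, k, hg, hk, hgk, h0⟩
        have hdeg : f.natDegree = g.natDegree + k.natDegree := by rw [← hgk, hg.natDegree_mul hk]
        rw [← hgk, eval_mul] at h
        rw [← hgk, derivative_mul, eval_add, eval_mul, eval_mul] at h'
        rcases Ideal.IsPrime.mem_or_mem inferInstance h with h | h
        · have hu : IsUnit (g.derivative.eval a₀ * k.eval a₀) := by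
            rcases IsLocalRing.isUnit_or_isUnit_of_isUnit_add h' with h1 | h1
            · exact h1
            · exact absurd (IsUnit.mul_iff.mp h1).1 ((IsLocalRing.mem_maximalIdeal _).mp h)
          obtain ⟨a, ha, ha'⟩ := ih g (by omega) hg a₀ h (IsUnit.mul_iff.mp hu).1
          exact ⟨a, by rw [← hgk]; exact root_mul.mpr (Or.inl ha), ha'⟩
        · have hu : IsUnit (g.eval a₀ * k.derivative.eval a₀) := by
            rcases IsLocalRing.isUnit_or_isUnit_of_isUnit_add h' with h1 | h1
            · exact absurd (IsUnit.mul_iff.mp h1).2 ((IsLocalRing.mem_maximalIdeal _).mp h)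
            · exact h1
          obtain ⟨a, ha, ha'⟩ := ih k (by omega) hk a₀ h (IsUnit.mul_iff.mp hu).2
          exact ⟨a, by rw [← hgk]; exact root_mul.mpr (Or.inr ha), ha'⟩
  refine ⟨{ is_henselian := fun f hf a₀ h h' => key f.natDegree f le_rfl hf a₀ h h' }, ?_⟩
  refine IsSepClosed.of_exists_root _ fun p hp hirr hsep => ?_
  obtain ⟨f, hf, hdeg, hfm⟩ := lifts_and_natDegree_eq_and_monic
    ((mem_lifts _).mpr (map_surjective _ IsLocalRing.residue_surjective p)) hp
  have hfirr : Irreducible f := Polynomial.Monic.irreducible_of_irreducible_map (IsLocalRing.residue R) f hfm (hf ▸ hirr)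
  have hd : f.derivative ≠ 0 := fun e => by
    have h1 : p.derivative = 0 := by rw [← hf, derivative_map, e, Polynomial.map_zero]
    exact (separable_iff_derivative_ne_zero hirr).mp hsep h1
  have h1 := linear_of_irreducible (K := K) f hfm hfirr hd
  exact ⟨-p.coeff 0, by
    conv_lhs => arg 2; rw [hp.eq_X_add_C (hdeg ▸ h1)]
    simp⟩

/-- Part (2) — every local ring of an integral normal scheme with separably closed function field is
strictly henselian. -/
theorem result (X : Scheme.{u}) [IsIntegral X] (hN : ∀ x : X, IsIntegrallyClosed (X.presheaf.stalk x))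
    [IsSepClosed X.functionField] (x : X) : EtCoh.IsStrictlyHenselianLocalRing (X.presheaf.stalk x) := by
  haveI := hN x
  exact strictlyHenselian_of_sepClosed (X.presheaf.stalk x) X.functionField

end Groth.Agent.S0090
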