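import Groth.Statements.S0089
import Groth.Agent.S0090
import Mathlib.AlgebraicGeometry.SpreadingOut
import Mathlib.AlgebraicGeometry.Morphisms.FlatMono
import Mathlib.AlgebraicGeometry.Morphisms.UniversallyOpen
import Groth.Agent.Hensel.EtaleLift

set_option autoImplicit false
open CategoryTheory CategoryTheory.Limits AlgebraicGeometry Opposite
universe u
open EtBase

namespace Groth.Agent.S0089

set_option backward.isDefEq.respectTransparency.types false in
/-- through every point of an etale scheme over such a base there is a section -/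
theorem exists_local_section {U X : Scheme.{u}} [IsIntegral X] (hN : ∀ x : X, IsIntegrallyClosed (X.presheaf.stalk x))
    [IsSepClosed X.functionField] (g : U ⟶ X) [AlgebraicGeometry.Etale g] (u : U) :
    ∃ (V : X.Opens) (s : (V : Scheme.{u}) ⟶ U), IsOpenImmersion s ∧ s ≫ g = V.ι ∧ u ∈ Set.range s := by
  obtain ⟨hH, hsc⟩ := Groth.Agent.S0090.result X hN (g u)
  obtain ⟨V₀, hV₀, hxV₀, -⟩ := exists_isAffineOpen_mem_and_subset (x := g u) (U := ⊤) trivial
  obtain ⟨U₀, hU₀, huU₀, e⟩ := exists_isAffineOpen_mem_and_subset (x := u) (U := g ⁻¹ᵁ V₀) hxV₀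
  have he : (g.appLE V₀ U₀ e).hom.Etale :=
    HasRingHomProperty.appLE @Etale g inferInstance ⟨V₀, hV₀⟩ ⟨U₀, hU₀⟩ e
  let R := Γ(X, V₀)
  let E := Γ(U, U₀)
  letI : Algebra R E := (g.appLE V₀ U₀ e).hom.toAlgebra
  haveI : Algebra.Etale R E := he
  let S := X.presheaf.stalk (g u)
  letI : Algebra R S := (X.presheaf.germ V₀ (g u) hxV₀).hom.toAlgebra
  let k := X.residueField (g u)
  letI : Algebra R k := (X.evaluation V₀ (g u) hxV₀).hom.toAlgebra
  let K := U.residueField u
  letI : Algebra k K := (g.residueFieldMap u).hom.toAlgebra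
  letI : Algebra R K := ((algebraMap k K).comp (algebraMap R k)).toAlgebra
  haveI : IsScalarTower R k K := IsScalarTower.of_algebraMap_eq' rfl
  haveI : IsSepClosed k := hsc
  have hev : ∀ r : R, U.evaluation U₀ u huU₀ (g.appLE V₀ U₀ e r) =
      g.residueFieldMap u (X.evaluation V₀ (g u) hxV₀ r) := by
    intro r
    rw [Scheme.evaluation_naturality_apply g u hxV₀]
    rw [Scheme.Hom.appLE, CommRingCat.comp_apply, ← Scheme.germ_residue, ← Scheme.germ_residue,
      CommRingCat.comp_apply, CommRingCat.comp_apply, TopCat.Presheaf.germ_res_apply]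
  let σ₀ : E →ₐ[R] K := { (U.evaluation U₀ u huU₀).hom with commutes' := hev }
  let σ' : TensorProduct R k E →ₐ[k] K :=
    Algebra.TensorProduct.lift (Algebra.ofId k K) σ₀ fun _ _ ↦ .all _ _
  have hrat : ∀ a : E, ∃ c : k, algebraMap k K c = σ₀ a := fun a ↦ by
    obtain ⟨c, hc⟩ := Groth.Agent.Hensel.exists_algebraMap_eq_of_unramified σ' (1 ⊗ₜ[R] a)
    exact ⟨c, by simpa [σ'] using hc⟩
  choose c hc using hrat
  have hinj : Function.Injective (algebraMap k K) := (algebraMap k K).injective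
  let σ : E →ₐ[R] k :=
    { toFun := c
      map_one' := hinj (by rw [hc, map_one, map_one])
      map_mul' := fun a b ↦ hinj (by rw [hc, map_mul, map_mul, hc, hc])
      map_zero' := hinj (by rw [hc, map_zero, map_zero])
      map_add' := fun a b ↦ hinj (by rw [hc, map_add, map_add, hc, hc])
      commutes' := fun r ↦ hinj (by rw [hc, AlgHom.commutes]; rfl) }
  haveI : HenselianLocalRing S := hH
  obtain ⟨τ, hτ, -⟩ := Groth.Agent.Hensel.existsUnique_algHom_of_residueField (S := S) E σ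
  let φ : Spec S ⟶ U := Spec.map (CommRingCat.ofHom τ.toRingHom) ≫ hU₀.fromSpec
  have hφ : φ ≫ g = X.fromSpecStalk (g u) := by
    rw [Category.assoc, ← IsAffineOpen.SpecMap_appLE_fromSpec g hV₀ hU₀ e, ← Spec.map_comp_assoc,
      ← hV₀.fromSpecStalk_eq_fromSpecStalk hxV₀, IsAffineOpen.fromSpecStalk]
    congr 2
    ext r
    exact τ.commutes r
  have hφu : φ (IsLocalRing.closedPoint S) = u := by
    refine Eq.trans ?_ (hU₀.fromSpec_primeIdealOf ⟨u, huU₀⟩)
    rw [Scheme.Hom.comp_apply, IsAffineOpen.primeIdealOf_eq_map_closedPoint]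
    congr 1
    refine PrimeSpectrum.ext (Ideal.ext fun a ↦ ?_)
    show τ a ∈ IsLocalRing.maximalIdeal S ↔ U.presheaf.germ U₀ u huU₀ a ∈ IsLocalRing.maximalIdeal _
    rw [← IsLocalRing.residue_eq_zero_iff, ← IsLocalRing.residue_eq_zero_iff, hτ]
    show c a = 0 ↔ _
    rw [← map_eq_zero_iff _ hinj, hc]
    rfl
  obtain ⟨V, hxV, s, hs, hsg⟩ := spread_out_of_isGermInjective' (𝟙 X) g φ
    (by rw [hφ, Category.comp_id])
  rw [Category.comp_id] at hsg
  haveI : Etale (s ≫ g) := by rw [hsg]; infer_instance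
  haveI : Etale s := Etale.of_comp s g
  haveI : Mono (s ≫ g) := by rw [hsg]; infer_instance
  haveI : Mono s := mono_of_mono s g
  refine ⟨V, s, IsOpenImmersion.of_flat_of_mono s, hsg, ?_⟩
  rw [hs, Scheme.Hom.comp_apply] at hφu
  exact ⟨_, hφu⟩

/-- Part (1) — over an integral normal scheme whose function field is separably closed, any separated
étale scheme is a disjoint union of open subschemes of the base. -/
theorem result {U X : Scheme.{u}} [IsIntegral X] (hN : ∀ x : X, IsIntegrallyClosed (X.presheaf.stalk x))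
    [IsSepClosed X.functionField] (g : U ⟶ X) [AlgebraicGeometry.Etale g] [IsSeparated g] :
    ∃ (ι : Type u) (V : ι → X.Opens) (e : (∐ fun i => (V i : Scheme.{u})) ≅ U),
      ∀ i, Sigma.ι (fun i => (V i : Scheme.{u})) i ≫ e.hom ≫ g = (V i).ι := by
  haveI := hN
  choose V s hs hsg hus using exists_local_section hN g
  haveI := hs
  let η : X := genericPoint X
  have hgs : ∀ (u : U) (v : (V u : Scheme.{u})), g (s u v) = (V u).ι v := fun u v ↦ by
    rw [← Scheme.Hom.comp_apply, hsg]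
  have hxV : ∀ u, g u ∈ V u := fun u ↦ by
    obtain ⟨v, hv⟩ := hus u
    have h : v.1 = g u := (hgs u v).symm.trans (congrArg g hv)
    exact h ▸ v.2
  have hηV : ∀ u, η ∈ V u := fun u ↦
    (genericPoint_spec X.carrier).specializes trivial |>.mem_open (V u).2 (hxV u)
  let ξ : U → U := fun u ↦ s u ⟨η, hηV u⟩
  have hgξ : ∀ u, g (ξ u) = η := fun u ↦ hgs u _
  have hspec : ∀ u w, w ∈ (s u).opensRange → ξ u ⤳ w := by
    rintro u _ ⟨v, rfl⟩
    refine Specializes.map ?_ (s u).continuous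
    exact Topology.IsInducing.subtypeVal.specializes_iff.mp ((genericPoint_spec X.carrier).specializes trivial)
  have huniq : ∀ u z, g z = η → z ⤳ u → z = ξ u := by
    intro u z hz hzu
    obtain ⟨v, hv⟩ := hzu.mem_open (s u).opensRange.2 (hus u)
    have : v = ⟨η, hηV u⟩ := Subtype.ext ((hgs u v).symm.trans (hv ▸ hz))
    rw [← hv, this]
  let ι : Type u := {z : U // g z = η}
  let C : ι → U.Opens := fun i ↦ ⟨{w | i.1 ⤳ w}, by
    refine isOpen_iff_forall_mem_open.mpr fun w hw ↦ ?_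
    refine ⟨(s w).opensRange, fun w' hw' ↦ ?_, (s w).opensRange.2, hus w⟩
    show i.1 ⤳ w'
    rw [huniq w i.1 i.2 hw]
    exact hspec w w' hw'⟩
  have hcoe : ∀ {A B : X.Opens} (h : A ≤ B) (z : (A : Scheme.{u})), (X.homOfLE h z).1 = z.1 := by
    intro A B h z
    show B.ι (X.homOfLE h z) = A.ι z
    rw [← Scheme.Hom.comp_apply, Scheme.homOfLE_ι]
  have hpt : ∀ (u : U) (p q : (V u : Scheme.{u})), p.1 = q.1 → s u p = s u q := by
    intro u p q h
    exact congrArg (fun z => s u z) (Subtype.ext h)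
  have hap : ∀ (u : U) {A : X.Opens} (h : A ≤ V u) (z : (A : Scheme.{u})),
      (X.homOfLE h ≫ s u) z = s u ⟨z.1, h z.2⟩ := by
    intro u A h z
    exact (Scheme.Hom.comp_apply _ _ _).trans (hpt u _ _ (hcoe h z))
  have hsec : ∀ (u u' : U), ξ u = ξ u' → g u = g u' → u = u' := by
    intro u u' hξ hg
    let W : X.Opens := V u ⊓ V u'
    let a := X.homOfLE (inf_le_left : W ≤ V u) ≫ s u
    let b := X.homOfLE (inf_le_right : W ≤ V u') ≫ s u'
    have hab : a ≫ g = b ≫ g := by simp [a, b, hsg]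
    let O : (W : Scheme.{u}).Opens := b ⁻¹ᵁ (s u).opensRange
    have hηO : (⟨η, ⟨hηV u, hηV u'⟩⟩ : (W : Scheme.{u})) ∈ O := by
      have hbη : b ⟨η, ⟨hηV u, hηV u'⟩⟩ = ξ u' := hap u' inf_le_right _
      exact ⟨⟨η, hηV u⟩, hξ.trans hbη.symm⟩
    haveI : Nonempty (W : Scheme.{u}) := ⟨⟨η, ⟨hηV u, hηV u'⟩⟩⟩
    haveI : IsDominant O.ι := ⟨by
      rw [DenseRange, Scheme.Opens.range_ι]
      exact O.2.dense ⟨_, hηO⟩⟩
    have hr : Set.range (O.ι ≫ b) ⊆ Set.range (s u) := by
      rintro _ ⟨o, rfl⟩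
      exact o.2
    let b' := IsOpenImmersion.lift (s u) (O.ι ≫ b) hr
    have hb' : b' ≫ s u = O.ι ≫ b := IsOpenImmersion.lift_fac _ _ _
    have hb'' : b' = O.ι ≫ X.homOfLE (inf_le_left : W ≤ V u) := by
      rw [← cancel_mono (V u).ι, ← hsg, reassoc_of% hb', ← hab]
      simp [a, hsg]
      rfl
    have heq : a = b := ext_of_isDominant_of_isSeparated g hab O.ι (by
      rw [← hb', hb'', Category.assoc])
    obtain ⟨v, hv⟩ := hus u
    obtain ⟨v', hv'⟩ := hus u'
    have hv1 : v.1 = g u := (hgs u v).symm.trans (congrArg g hv)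
    have hv2 : v'.1 = g u' := (hgs u' v').symm.trans (congrArg g hv')
    have hm : v.1 ∈ W := ⟨v.2, hv1 ▸ hg ▸ hxV u'⟩
    have h1 : a ⟨v.1, hm⟩ = u := (hap u inf_le_left _).trans hv
    have h2 : b ⟨v.1, hm⟩ = u' := by
      refine Eq.trans ?_ hv'
      exact (hap u' inf_le_right _).trans (hpt u' _ _ (hv1.trans (hg.trans hv2.symm)))
    rw [← h1, heq, h2]
  have hiso : ∀ u : U, IsIso (g.stalkMap u) := by
    intro u
    obtain ⟨v, hv⟩ := hus u
    suffices key : ∀ w, w = s u v → IsIso (g.stalkMap w) from key u hv.symm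
    rintro _ rfl
    have h : IsIso ((s u ≫ g).stalkMap v) := by rw [hsg]; infer_instance
    rw [Scheme.Hom.stalkMap_comp] at h
    exact @IsIso.of_isIso_comp_right _ _ _ _ _ (g.stalkMap (s u v)) ((s u).stalkMap v) inferInstance h
  haveI : ∀ i, IsOpenImmersion ((C i).ι ≫ g) := fun i ↦ by
    haveI : ∀ w, IsIso (((C i).ι ≫ g).stalkMap w) := fun w ↦ by
      rw [Scheme.Hom.stalkMap_comp]
      exact IsIso.comp_isIso' (hiso _) inferInstance
    refine IsOpenImmersion.of_isIso_stalkMap _ (.of_continuous_injective_isOpenMap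
      (Scheme.Hom.continuous _) ?_ (Scheme.Hom.isOpenMap _))
    intro w w' hww
    refine Subtype.ext (hsec _ _ ?_ hww)
    rw [← huniq w.1 i.1 i.2 w.2, ← huniq w'.1 i.1 i.2 w'.2]
  let α : ∀ i, (((C i).ι ≫ g).opensRange : Scheme.{u}) ⟶ U :=
    fun i ↦ ((C i).ι ≫ g).isoOpensRange.inv ≫ (C i).ι
  have hα : ∀ i, (α i).opensRange = C i := fun i ↦ by
    simp [α, Scheme.Hom.opensRange_comp_of_isIso]
  obtain ⟨hc⟩ := nonempty_isColimit_cofanMk_of α
    (by
      rw [eq_top_iff]
      intro w _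
      refine TopologicalSpace.Opens.mem_iSup.mpr ⟨⟨ξ w, hgξ w⟩, ?_⟩
      rw [hα]
      exact hspec w w (hus w))
    (by
      intro i j hij
      rw [Function.onFun, hα, hα, disjoint_iff, eq_bot_iff]
      rintro w ⟨h1, h2⟩
      exact hij (Subtype.ext ((huniq w i.1 i.2 h1).trans (huniq w j.1 j.2 h2).symm)))
  refine ⟨ι, fun i ↦ ((C i).ι ≫ g).opensRange,
    (colimit.isColimit _).coconePointUniqueUpToIso hc, fun i ↦ ?_⟩
  erw [colimit.comp_coconePointUniqueUpToIso_hom_assoc hc ⟨i⟩]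
  simp [α]

end Groth.Agent.S0089
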