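import Groth.Agent.EtSh.Stalks
import Mathlib.AlgebraicGeometry.Morphisms.UniversallyOpen
import Groth.Statements.S0102
-- import your own Groth.Agent.* helpers here

set_option autoImplicit false
set_option backward.isDefEq.respectTransparency false
set_option backward.isDefEq.respectTransparency.types false
open CategoryTheory CategoryTheory.Limits AlgebraicGeometry Opposite
universe u
open EtBase

namespace Groth.Agent.S0102

/-- A section of an abelian étale sheaf over an étale scheme U vanishes on pullback to an étale V → U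
exactly when V maps into a certain largest open subset of U. -/
theorem result {S : Scheme.{u}} (F : EtCoh.Ab S) (U : S.Etale) (σ : EtCoh.sect F U) :
    ∃ W : U.left.Opens, ∀ (V : S.Etale) (φ : V ⟶ U),
      F.obj.map φ.op σ = 0 ↔ Set.range φ.left.base ⊆ (W : Set U.left) := by
  classical
  have hl : ∀ {V V' : S.Etale} (φ : V ⟶ V'), Etale φ.left := fun {V V'} φ => by
    haveI : Etale V.hom := V.prop
    haveI : Etale V'.hom := V'.prop
    haveI : Etale (φ.left ≫ V'.hom) := by rw [MorphismProperty.Over.w φ]; infer_instance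
    exact Etale.of_comp φ.left V'.hom
  let W : Set U.left := {u | ∃ (V : S.Etale) (φ : V ⟶ U), F.obj.map φ.op σ = 0 ∧ u ∈ Set.range φ.left.base}
  have hW : IsOpen W := isOpen_iff_forall_mem_open.2 fun u ⟨V, φ, h, hu⟩ => by
    haveI := hl φ
    exact ⟨Set.range φ.left.base, fun z hz => ⟨V, φ, h, hz⟩, φ.left.isOpenMap.isOpen_range, hu⟩
  refine ⟨⟨W, hW⟩, fun V φ => ⟨fun h z hz => ⟨V, φ, h, hz⟩, fun h => ?_⟩⟩
  refine Groth.Agent.EtSh.sect_ext F fun v => ?_
  obtain ⟨V', φ', h', v', hv'⟩ := h ⟨v, rfl⟩
  haveI := hl φ'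
  haveI : Etale V.hom := V.prop
  obtain ⟨z, hz, hz'⟩ := Scheme.Pullback.exists_preimage_pullback v v' hv'.symm
  let P : S.Etale := Scheme.Etale.mk (pullback.fst φ.left φ'.left ≫ V.hom)
  let a : P ⟶ V := MorphismProperty.Over.homMk (pullback.fst φ.left φ'.left) rfl trivial
  let b : P ⟶ V' := MorphismProperty.Over.homMk (pullback.snd φ.left φ'.left) (by
    show pullback.snd φ.left φ'.left ≫ V'.hom = pullback.fst φ.left φ'.left ≫ V.hom
    rw [← MorphismProperty.Over.w φ, ← MorphismProperty.Over.w φ', pullback.condition_assoc]) trivial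
  have hab : a ≫ φ = b ≫ φ' := MorphismProperty.Over.Hom.ext pullback.condition
  refine ⟨P, a, z, hz, ?_⟩
  rw [map_zero, ← ConcreteCategory.comp_apply, ← Functor.map_comp, ← op_comp, hab, op_comp, Functor.map_comp,
    ConcreteCategory.comp_apply, h', map_zero]

end Groth.Agent.S0102
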