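import Groth.Agent.EtCechLib.ArtinSchreier
import Groth.Agent.EtCechLib.GaAffine
import Groth.Statements.S0103
-- import your own Groth.Agent.* helpers here

set_option autoImplicit false
set_option backward.isDefEq.respectTransparency.types false
open CategoryTheory CategoryTheory.Limits AlgebraicGeometry Opposite
universe u
open EtBase

namespace Groth.Agent.S0103

/-- Let S be an affine scheme whose ring of global sections has prime characteristic p. Then the étale
cohomology H^q(S, Z/p) with constant Z/p coefficients vanishes for every q ≥ 2. -/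
theorem result (S : Scheme.{u}) [IsAffine S] (p : ℕ) [Fact p.Prime] [CharP Γ(S, ⊤) p]
    (q : ℕ) (hq : 2 ≤ q) : Subsingleton (EtCoh.H S (EtCoh.const S (ZMod p)) q) := by
  obtain ⟨j, rfl⟩ : ∃ j, q = j + 2 := ⟨q - 2, by omega⟩
  exact CohAcyc.subsingleton_succ_of_ses (EtCechLib.asSeq_shortExact p (CharP.cast_eq_zero _ p))
    (EtCechLib.subsingleton_H_of_cechAcyclic' j _ EtCechLib.ga_cechAcyclic)
    (EtCechLib.subsingleton_H_of_cechAcyclic' (j + 1) _ EtCechLib.ga_cechAcyclic)

end Groth.Agent.S0103
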