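import Groth.Statements.S0105
import Groth.Agent.EtSh.FLCSerre

set_option autoImplicit false
open CategoryTheory CategoryTheory.Limits AlgebraicGeometry Opposite
universe u
open EtBase

namespace Groth.Agent.S0105

/-- On a connected scheme X, a finite locally constant abelian sheaf F on the small étale site is, étale
locally, constant with one and the same finite group everywhere: there are a finite abelian group M
and an étale covering (U_i) of X such that the restriction of F to every U_i is isomorphic to the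
constant sheaf with value M. (The published statement covers arbitrary locally constant sheaves of
modules; stated here for finite locally constant abelian sheaves.) -/
theorem result {X : Scheme.{u}} [ConnectedSpace X] (F : EtCoh.Ab X) (h : EtCoh.IsFiniteLocallyConstant F) :
    ∃ (M : Type) (_ : AddCommGroup M) (_ : Finite M) (ι : Type u) (U : ι → X.Etale), EtCoh.Covers U ∧
      ∀ i, Nonempty (EtCoh.restr F (U i) ≅
        (constantSheaf (X.smallEtaleTopology.over (U i)) AddCommGrpCat.{u + 1}).obj
          (AddCommGrpCat.of (ULift.{u + 1} M))) := by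
  classical
  choose U y hy M hM hfin e he using (EtSh.isFLC_iff_trivializes F).1 h
  have key : ∀ x x' (w : (U x).left) (w' : (U x').left), (U x).hom w = (U x').hom w' →
      Nonempty (M x ≃+ M x') := fun x x' w w' hww => by
    obtain ⟨Ω, _, _, ξ, t, ht⟩ := EtSh.exists_lifting w
    obtain ⟨t', -⟩ := EtSh.exists_fib (ξ := ξ) w' (hww.symm.trans (ht ▸ EtSh.hom_fpt t))
    let p := AddEquiv.ofBijective ((EtSh.germ ξ F t).hom.comp (e x)) (he x Ω ξ t)
    let q := AddEquiv.ofBijective ((EtSh.germ ξ F t').hom.comp (e x')) (he x' Ω ξ t')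
    exact ⟨p.trans q.symm⟩
  obtain ⟨x₀⟩ := (inferInstance : Nonempty X)
  let P : X → Prop := fun x => Nonempty (M x₀ ≃+ M x)
  have hP : IsLocallyConstant P := (IsLocallyConstant.iff_exists_open P).2 fun x => by
    have : Etale (U x).hom := (U x).prop
    refine ⟨Set.range (U x).hom, (U x).hom.isOpenMap.isOpen_range, ⟨y x, hy x⟩, ?_⟩
    rintro x' ⟨w, rfl⟩
    obtain ⟨a⟩ := key x ((U x).hom w) w (y _) (hy _).symm
    exact propext ⟨fun ⟨b⟩ => ⟨b.trans a.symm⟩, fun ⟨b⟩ => ⟨b.trans a⟩⟩
  have hall : ∀ x, P x := fun x => (congrFun (hP.eq_const x₀) x).mpr ⟨AddEquiv.refl _⟩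
  refine ⟨M x₀, hM x₀, hfin x₀, X, U, fun x => ⟨x, y x, hy x⟩, fun x => ?_⟩
  obtain ⟨a⟩ := hall x
  have : Etale (U x).hom := (U x).prop
  obtain ⟨b⟩ := EtSh.iso_of_trivializes F (U x) (M x₀) (e := (e x).comp a.toAddMonoidHom)
    fun Ω _ _ ξ t => (he x Ω ξ t).comp a.bijective
  exact (EtSh.restr_iso_const_iff F (U x) (M x₀)).2 ⟨(EtSh.pullRestrIso (U x).hom).app F ≪≫ b⟩

end Groth.Agent.S0105
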