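import Groth.Statements.S0108
import Mathlib.RingTheory.Etale.StandardEtale


set_option autoImplicit false
open CategoryTheory CategoryTheory.Limits AlgebraicGeometry Opposite
universe u
open EtBase

namespace Groth.Agent.S0108

set_option backward.isDefEq.respectTransparency.types false

theorem mem_small {S : Scheme.{u}} (U : S.Etale) (R : Sieve U)
    (h : ∀ z : U.left, ∃ (Y : S.Etale) (f : Y ⟶ U) (y : Y.left), R f ∧ Etale f.left ∧ f.left y = z) :
    R ∈ S.smallEtaleTopology U := by
  have e : S.smallEtaleTopology = (S.smallPretopology (P := @Etale) (Q := @Etale)).toGrothendieck :=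
    Scheme.smallGrothendieckTopology_eq_toGrothendieck_smallPretopology (P := @Etale) (Q := @Etale) S le_rfl
  rw [e]
  exact (Scheme.mem_toGrothendieck_smallPretopology _ _).mpr h

open Opposite Polynomial in
/-- an affine open has an etale cover with an `n`-th root of a unit -/
theorem exists_root_cover {Z : Scheme.{u}} (n : ℕ) (hn0 : 0 < n) (hn : IsUnit (n : Γ(Z, ⊤))) (a : Γ(Z, ⊤)ˣ)
    (z : Z) : ∃ (W : Scheme.{u}) (g : W ⟶ Z) (_ : Etale g) (w : W), g w = z ∧ ∃ b : Γ(W, ⊤)ˣ, b.1 ^ n = g.appTop a.1 := by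
  obtain ⟨V, hV, hzV, -⟩ := exists_isAffineOpen_mem_and_subset (U := (⊤ : Z.Opens)) (x := z) trivial
  haveI : IsAffine (V : Scheme.{u}) := hV
  let A : CommRingCat.{u} := Γ((V : Scheme.{u}), ⊤)
  let a' : (A : Type u) := V.ι.appTop a.1
  have ha' : IsUnit a' := a.isUnit.map V.ι.appTop.hom
  have hnA : IsUnit (n : A) := by
    simpa only [map_natCast] using hn.map V.ι.appTop.hom
  let F : (A : Type u)[X] := X ^ n - C a'
  have hF : F.Monic := monic_X_pow_sub_C a' hn0.ne'
  have hsep : F.Separable := by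
    obtain ⟨u, hu⟩ := ha'
    obtain ⟨v, hv⟩ := hnA
    refine ⟨C (-(u⁻¹ : (A : Type u)ˣ).1), C ((u⁻¹ : (A : Type u)ˣ).1 * (v⁻¹ : (A : Type u)ˣ).1) * X, ?_⟩
    simp only [F, derivative_sub, derivative_X_pow, derivative_C, sub_zero, ← hu, ← hv, map_mul, map_neg]
    have h1 : X * X ^ (n - 1) = (X : (A : Type u)[X]) ^ n := by rw [← pow_succ', Nat.sub_add_cancel hn0]
    have h2 : C (u⁻¹ : (A : Type u)ˣ).1 * C u.1 = 1 := by rw [← map_mul, Units.inv_mul, map_one]
    have h3 : C (v⁻¹ : (A : Type u)ˣ).1 * C v.1 = 1 := by rw [← map_mul, Units.inv_mul, map_one]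
    linear_combination (C (u⁻¹ : (A : Type u)ˣ).1 * C (v⁻¹ : (A : Type u)ˣ).1 * C v.1) * h1 + h2 +
      (C (u⁻¹ : (A : Type u)ˣ).1 * X ^ n) * h3
  have het : Algebra.Etale A (AdjoinRoot F) := by
    obtain ⟨c, d, hcd⟩ := (separable_def' _).mp hsep
    let P : StandardEtalePair A := ⟨F, hF, 1, ⟨d, c, 1, by rw [pow_one, ← hcd]; ring⟩⟩
    exact Algebra.Etale.of_equiv (P.equivAwayAdjoinRoot.trans
      (((IsLocalization.atUnit (AdjoinRoot F) (Localization.Away (AdjoinRoot.mk F (1 : (A : Type u)[X])))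
        (AdjoinRoot.mk F (1 : (A : Type u)[X])) (by simp)).symm).restrictScalars A))
  let B : CommRingCat.{u} := CommRingCat.of (AdjoinRoot F)
  let φ : A ⟶ B := CommRingCat.ofHom (algebraMap A (AdjoinRoot F))
  haveI : Etale (Spec.map φ) := by
    rw [HasRingHomProperty.Spec_iff (P := @Etale)]
    exact RingHom.etale_algebraMap.mpr het
  let q : Spec B ⟶ (V : Scheme.{u}) := Spec.map φ ≫ (V : Scheme.{u}).isoSpec.inv
  have hsurj : Function.Surjective (Spec.map φ).base := by
    intro P
    rcases subsingleton_or_nontrivial A with hA | hA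
    · exact ((P : PrimeSpectrum A).isPrime.ne_top (Subsingleton.elim _ _)).elim
    · haveI : Module.Free A (AdjoinRoot F) := Module.Free.of_basis (AdjoinRoot.powerBasis' hF).basis
      haveI : Module.Finite A (AdjoinRoot F) := (AdjoinRoot.powerBasis' hF).finite
      haveI : Nontrivial (AdjoinRoot F) := by
        refine (AdjoinRoot.powerBasis' hF).basis.repr.toEquiv.nontrivial_congr.mpr ?_
        haveI : Nonempty (Fin (AdjoinRoot.powerBasis' hF).dim) := by
          rw [AdjoinRoot.powerBasis'_dim, natDegree_X_pow_sub_C]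
          exact ⟨⟨0, hn0⟩⟩
        infer_instance
      haveI : FaithfulSMul A (AdjoinRoot F) := Module.Free.instFaithfulSMulOfNontrivial A (AdjoinRoot F)
      exact ((Algebra.IsIntegral.of_finite A (AdjoinRoot F)).isIntegral |> fun h =>
        RingHom.IsIntegral.comap_surjective (f := algebraMap A (AdjoinRoot F)) h (FaithfulSMul.algebraMap_injective _ _)) P
  obtain ⟨z', hz'⟩ : ∃ z' : (V : Scheme.{u}), V.ι z' = z := ⟨⟨z, hzV⟩, rfl⟩
  obtain ⟨w, hw⟩ := hsurj ((V : Scheme.{u}).isoSpec.hom z')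
  refine ⟨Spec B, q ≫ V.ι, inferInstance, w, ?_, ?_⟩
  · show V.ι ((V : Scheme.{u}).isoSpec.inv ((Spec.map φ).base w)) = z
    rw [hw, ← Scheme.Hom.comp_apply (V : Scheme.{u}).isoSpec.hom, Iso.hom_inv_id]
    exact hz'
  · have hroot : (AdjoinRoot.root F) ^ n = algebraMap A (AdjoinRoot F) a' := by
      have h := AdjoinRoot.eval₂_root F
      simp only [F, eval₂_sub, eval₂_X_pow, eval₂_C] at h
      rw [AdjoinRoot.algebraMap_eq]
      exact sub_eq_zero.mp h
    let r : Γ(Spec B, ⊤) := (Scheme.ΓSpecIso B).inv (AdjoinRoot.root F)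
    have hr : r ^ n = (q ≫ V.ι).appTop a.1 := by
      rw [← map_pow, hroot]
      have h1 : (V : Scheme.{u}).isoSpec.inv.appTop = (Scheme.ΓSpecIso A).inv := by
        rw [← cancel_epi (Scheme.ΓSpecIso A).hom, Iso.hom_inv_id]
        rw [← (V : Scheme.{u}).toSpecΓ_appTop, ← Scheme.Hom.comp_appTop]
        show ((V : Scheme.{u}).isoSpec.inv ≫ (V : Scheme.{u}).isoSpec.hom).appTop = _
        rw [Iso.inv_hom_id]; rfl
      have h2 : q.appTop = φ ≫ (Scheme.ΓSpecIso B).inv := by
        rw [Scheme.ΓSpecIso_inv_naturality]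
        show (Spec.map φ ≫ _).appTop = _
        rw [Scheme.Hom.comp_appTop, h1]
      rw [Scheme.Hom.comp_appTop, CommRingCat.comp_apply, h2]
      rfl
    have hru : IsUnit r := (isUnit_pow_iff hn0.ne').mp (hr ▸ a.isUnit.map (q ≫ V.ι).appTop.hom)
    exact ⟨hru.unit, hr⟩

/-- The Kummer sequence — when n is invertible on S, the n-th power map on the multiplicative group
sheaf is an epimorphism of étale sheaves (its kernel μ_n is, by definition in the prelude, the sheaf
of n-th roots of unity, so the sequence 0 → μ_n → G_m → G_m → 0 is exact). -/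
theorem result (S : Scheme.{u}) (n : ℕ) (hn : IsUnit (n : Γ(S, ⊤))) : Epi (EtCoh.powMap S n) := by
  suffices h : Sheaf.IsLocallySurjective (EtCoh.powMap S n) by
    haveI := h
    exact Sheaf.epi_of_isLocallySurjective _
  constructor
  intro U s
  refine mem_small U _ ?_
  intro z
  rcases Nat.eq_zero_or_pos n with rfl | hn0
  · -- trivial scheme
    have h0 : Subsingleton Γ(S, ⊤) := by
      rw [Nat.cast_zero] at hn
      exact (subsingleton_iff_zero_eq_one).mp (isUnit_zero_iff.mp hn)
    exfalso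
    have h1 : U.hom z ∈ S.basicOpen (1 : Γ(S, ⊤)) := by rw [Scheme.basicOpen_of_isUnit _ isUnit_one]; trivial
    rw [Subsingleton.elim (1 : Γ(S, ⊤)) 0, Scheme.basicOpen_zero] at h1
    exact h1
  · have hnU : IsUnit (n : Γ(U.left, ⊤)) := by
      simpa only [map_natCast] using hn.map U.hom.appTop.hom
    let a : Γ(U.left, ⊤)ˣ := Additive.toMul (ULift.down s)
    obtain ⟨W, g, hg, w, hw, b, hb⟩ := exists_root_cover n hn0 hnU a z
    haveI : Etale (g ≫ U.hom) := by
      haveI := U.prop
      infer_instance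
    refine ⟨Scheme.Etale.mk (g ≫ U.hom), MorphismProperty.Over.homMk g rfl, w, ?_, hg, hw⟩
    refine ⟨ULift.up (Additive.ofMul b), ?_⟩
    show n • ULift.up (Additive.ofMul b) = _
    apply ULift.ext
    apply Additive.toMul.injective
    apply Units.ext
    exact hb

end Groth.Agent.S0108
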