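import Groth.Agent.EtCechLib.GaAffine
-- Template for statement S0109 (row 109; see the milestone table for weights).
-- Copy to Groth/Agent/S0109.lean and replace the sorry. The statement below is byte-identical to the frozen
-- statement EtBase.GrothFrozen.S0109 (Groth/Statements/S0109.lean; the theorem EtBase.H_Ga_subsingleton_affine);
-- the grader kernel-checks Groth.Agent.S0109.result against that frozen type. Keep the theorem IN THIS FILE
-- (a `result` declared elsewhere and merely imported here is not credited); helpers may live anywhere
-- under Groth/Agent/.
import Groth.Statements.S0109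
-- import your own Groth.Agent.* helpers here

set_option autoImplicit false
open CategoryTheory CategoryTheory.Limits AlgebraicGeometry Opposite
universe u
open EtBase

namespace Groth.Agent.S0109

/-- On an affine scheme S, the étale cohomology H^p(S_ét, G_a) of the additive group sheaf (the
structure sheaf) vanishes for every p ≥ 1. -/
theorem result (S : Scheme.{u}) [IsAffine S] (p : ℕ) (hp : 1 ≤ p) : Subsingleton (EtCoh.H S (EtCoh.Ga S) p) := by
  obtain ⟨q, rfl⟩ : ∃ q, p = q + 1 := ⟨p - 1, by omega⟩
  exact EtCechLib.subsingleton_H_of_cechAcyclic' q _ EtCechLib.ga_cechAcyclic

end Groth.Agent.S0109
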