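import Groth.Statements.S0118
import Groth.Agent.EtSh.TopInv


set_option autoImplicit false
open CategoryTheory CategoryTheory.Limits AlgebraicGeometry Opposite
universe u
open EtBase

namespace Groth.Agent.S0118

/-- Base change to a closed subscheme with the same underlying space is an equivalence between the
categories of étale schemes over the two. -/
theorem result {S S₀ : Scheme.{u}} (i : S₀ ⟶ S) [IsClosedImmersion i] [Surjective i] :
    (EtCoh.bc i).IsEquivalence := by
  haveI : UniversallyInjective i := inferInstance
  haveI : (EtCoh.bc i).Full := (Groth.Agent.EtSh.bcFullyFaithful i).full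
  haveI : (EtCoh.bc i).Faithful := (Groth.Agent.EtSh.bcFullyFaithful i).faithful
  haveI : (EtCoh.bc i).EssSurj := ⟨fun E => by
    obtain ⟨X, ⟨e⟩⟩ := Groth.Agent.EtSh.exists_bc_iso i E fun x => by
      obtain ⟨V, g, v, hv, hg⟩ := Groth.Agent.EtSh.exists_nbhd_openImmersion i E x
      exact ⟨V, g, hg, v, hv⟩
    exact ⟨X, ⟨e⟩⟩⟩
  exact {}

end Groth.Agent.S0118
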