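import Groth.Statements.S0124
import Groth.Agent.EtCechLib.Torsion

set_option autoImplicit false
universe u
open CategoryTheory CategoryTheory.Limits AlgebraicGeometry Opposite
open EtPBC

namespace Groth.Agent.S0124

open Groth.Agent.EtSh Groth.Agent.EtCechLib CategoryTheory.Abelian

/-- Part (1): if X is quasi-compact and quasi-separated and F is a torsion abelian sheaf on X_et, then
H^n(X_et, F) is a torsion abelian group for every n. -/
theorem result (X : Scheme.{u}) [CompactSpace X] [QuasiSeparatedSpace X]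
    (F : EtCoh.Ab X) (hF : EtCoh.IsTorsion F) (n : ℕ) :
    IsAddTorsion (EtCoh.H X F n) := by
  induction n generalizing F with
  | zero =>
    intro x
    haveI : CompactSpace (EtCoh.top X).left := ‹CompactSpace X›
    have h := GermTors.isOfFinAddOrder (germTors_of_isTorsion hF (Sheaf.H.equiv₀ F (topTerminal X) x))
    exact (injective_isOfFinAddOrder_iff (f := (Sheaf.H.equiv₀ F (topTerminal X)).toAddMonoidHom)
      (Sheaf.H.equiv₀ F (topTerminal X)).injective).1 h
  | succ n ih =>
    obtain ⟨S, hS, rfl, -, hT, hQ⟩ := exists_embedding F hF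
    intro x
    have hW : EtCoh.top X ∈ qcqsObj (X := X) := ⟨‹CompactSpace X›, ‹QuasiSeparatedSpace X›⟩
    have h1 := isCovSys_affCov.acyclic n S.X₂ hT (EtCoh.top X) hW
    haveI : Etale (EtCoh.top X).hom := (EtCoh.top X).prop
    haveI : EtShriek.JCont (EtCoh.top X).hom := jCont_hom (EtCoh.top X)
    have h2 : Subsingleton (EtCoh.H X S.X₂ (n + 1)) :=
      CohAcyc.subsingleton_of_iso (Iso.refl _)
        (Iso.refl S.X₂ : (EtShriek.restrAlong (EtCoh.top X).hom).obj S.X₂ ≅ S.X₂)
        ((subsingleton_H_restr_iff (EtCoh.top X) S.X₂ _).2 h1)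
    obtain ⟨y, rfl⟩ := Ext.covariant_sequence_exact₁ _ hS x (Subsingleton.elim _ _) rfl
    exact (hS.extClass.postcomp _ rfl).isOfFinAddOrder (ih S.X₃ hQ y)

end Groth.Agent.S0124
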