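import Groth.Statements.S0125
import Groth.Agent.EtCechLib.PushTorsion

set_option autoImplicit false
universe u
open CategoryTheory CategoryTheory.Limits AlgebraicGeometry Opposite
open EtPBC

namespace Groth.Agent.S0125

/-- Part (1): for f : X -> Y quasi-compact and quasi-separated and F a torsion abelian sheaf on X_et,
each R^n f_* F is a torsion abelian sheaf on Y_et. -/
theorem result {X Y : Scheme.{u}} (f : X ⟶ Y) [QuasiCompact f] [QuasiSeparated f]
    [EtCoh.BCCont f] (F : EtCoh.Ab X) (hF : EtCoh.IsTorsion F) (n : ℕ) :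
    EtCoh.IsTorsion ((EtCoh.Rpush f n).obj F) := by
  haveI : PreservesLimitsOfSize.{0, 0} (EtCoh.push f) := (EtCoh.pullPushAdj f).rightAdjoint_preservesLimits
  haveI : PreservesFiniteLimits (EtCoh.push f) := PreservesLimitsOfSize.preservesFiniteLimits.{0, 0} _
  induction n generalizing F with
  | zero =>
    exact Groth.Agent.EtCechLib.isTorsion_of_iso ((EtCoh.push f).rightDerivedZeroIsoSelf.app F).symm
      (Groth.Agent.EtCechLib.isTorsion_push f hF)
  | succ n ih =>
    obtain ⟨S, hS, rfl, -, hT, hQ⟩ := Groth.Agent.EtCechLib.exists_embedding F hF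
    have h₂ := fun k => Groth.Agent.EtCechLib.isZero_Rpush_of_cechAcyclic f k S.X₂ hT
    cases n with
    | zero =>
      obtain ⟨π, w, hπ, -⟩ := Groth.Agent.CompDerived.exists_cokernel (EtCoh.push f) hS h₂
      haveI := hπ
      exact Groth.Agent.EtCechLib.isTorsion_of_epi π (Groth.Agent.EtCechLib.isTorsion_push f hQ)
    | succ n =>
      exact Groth.Agent.EtCechLib.isTorsion_of_iso
        (Groth.Agent.CompDerived.nonempty_shiftIso (EtCoh.push f) hS h₂ n).some (ih S.X₃ hQ)

end Groth.Agent.S0125
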