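import Groth.Statements.S0130
import Groth.Agent.EtSh.ConstructibleSerre
import Groth.Agent.Spectral.Basic

set_option autoImplicit false
universe u
open CategoryTheory CategoryTheory.Limits AlgebraicGeometry Opposite
open EtPBC

namespace Groth.Agent.S0130

/-- Abelian case: X quasi-compact and quasi-separated, T_i -> X immersions with constructible images
covering X, and F pulled back to each T_i constructible; then F is constructible. -/
theorem result (X : Scheme.{u}) [CompactSpace X] [QuasiSeparatedSpace X]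
    (F : EtCoh.Ab X) {ι : Type u} (T : ι → Scheme.{u}) (g : ∀ i, T i ⟶ X) [∀ i, IsImmersion (g i)]
    [∀ i, EtCoh.BCCont (g i)]
    (hc : ∀ i, Topology.IsConstructible (Set.range (g i)))
    (hcov : (⋃ i, Set.range (g i)) = Set.univ)
    (h : ∀ i, EtPBC.IsConstructible ((EtCoh.pull (g i)).obj F)) :
    EtPBC.IsConstructible F := by
  have hsub : ∃ t : Finset ι, (Set.univ : Set X) ⊆ ⋃ i ∈ t, Set.range (g i) := by
    have hcl := fun i => Groth.Agent.Spectral.isClopen_con_of_isConstructible (hc i)
    have hK := @CompactSpace.isCompact_univ X (constructibleTopology X) Groth.Agent.Spectral.compactSpace_con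
    exact @IsCompact.elim_finite_subcover X (constructibleTopology X) _ ι hK _ (fun i => (hcl i).2) hcov.ge
  obtain ⟨t, ht⟩ := hsub
  refine (EtSh.isConstructible_iff_univ F).2 ?_
  have hcT : ∀ i, CompactSpace (T i) := fun i => EtSh.compactSpace_of_isConstructible_range (g i) (hc i)
  have hqT : ∀ i, QuasiSeparatedSpace (T i) := fun i => quasiSeparatedSpace_of_quasiSeparated (g i)
  choose n S k hk hkc hkd hku hkf using fun i => (EtSh.isConstructible_iff_univ _).1 (h i)
  let p : ∀ a : (Σ i : t, Fin (n i.1)), S a.1.1 a.2 ⟶ X := fun a => k a.1.1 a.2 ≫ g a.1.1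
  have hp : ∀ a, IsImmersion (p a) := fun a => by
    have := hk a.1.1 a.2
    exact inferInstanceAs (IsImmersion (k a.1.1 a.2 ≫ g a.1.1))
  refine EtSh.adaptedStrata_of_cover F ⊤ p (fun a => ?_) ?_ fun a => EtSh.isFLC_of_iso
    ((EtCore.pullComp (k a.1.1 a.2) (g a.1.1)).symm.app F) (hkf a.1.1 a.2)
  · have h1 : Topology.IsConstructible (Set.range (k a.1.1 a.2)) :=
      (hkc a.1.1 a.2).preimage_of_isOpenEmbedding (f := (Homeomorph.Set.univ (T a.1.1)).symm)
        (Homeomorph.Set.univ (T a.1.1)).symm.isOpenEmbedding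
    have h2 : Topology.IsConstructible (Set.range (p a)) := by
      rw [Scheme.Hom.comp_base, TopCat.coe_comp, Set.range_comp]
      exact EtSh.isConstructible_image_immersion (g a.1.1) (hc a.1.1) h1
    exact h2.preimage_of_isOpenEmbedding (⊤ : X.Opens).2.isOpenEmbedding_subtypeVal
  · intro x _
    obtain ⟨i, hi, y, hy⟩ : ∃ i ∈ t, x ∈ Set.range (g i) := by
      simpa using ht (Set.mem_univ x)
    obtain ⟨j, z, hz⟩ := Set.mem_iUnion.1 ((hku i).ge (Set.mem_univ y))
    exact Set.mem_iUnion.2 ⟨⟨⟨i, hi⟩, j⟩, z, by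
      rw [← hy, ← hz]
      rfl⟩

end Groth.Agent.S0130
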