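import Groth.Statements.S0133
import Groth.Agent.EtSh.ExtZeroFLC
import Mathlib.CategoryTheory.Sites.DenseSubsite.SheafEquiv

set_option autoImplicit false
universe u
open CategoryTheory CategoryTheory.Limits AlgebraicGeometry Opposite
open EtPBC

namespace Groth.Agent.S0133

/-- (2): for j : U -> X etale with U and X quasi-compact and quasi-separated and M a finite abelian
group, j_! M is a constructible abelian sheaf on X_et. -/
theorem result (X : Scheme.{u}) [CompactSpace X] [QuasiSeparatedSpace X]
    (U : X.Etale) [CompactSpace U.left] [QuasiSeparatedSpace U.left]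
    (M : Type) [AddCommGroup M] [Finite M] :
    EtPBC.IsConstructible (EtPBC.extZeroConst U M) := by
  have hj : Etale U.hom := U.prop
  let P := (EtSh.toOver U).sheafPushforwardContinuous AddCommGrpCat.{u + 1} U.left.smallEtaleTopology
    (X.smallEtaleTopology.over U)
  have : P.IsEquivalence := inferInstance
  let adj : P.asEquivalence.inverse ⋙ EtPBC.extZero U ⊣
      X.smallEtaleTopology.overPullback AddCommGrpCat.{u + 1} U ⋙ P :=
    P.asEquivalence.symm.toAdjunction.comp (EtPBC.extZeroAdj U)
  let e : EtShriek.extZero U.hom ≅ P.asEquivalence.inverse ⋙ EtPBC.extZero U :=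
    ((EtShriek.extZeroAdj U.hom).ofNatIsoRight (EtSh.overRestrIso U).symm).leftAdjointUniq adj
  let a : (EtShriek.extZero U.hom).obj (EtCoh.const U.left M) ≅ EtPBC.extZeroConst U M :=
    (EtShriek.extZero U.hom).mapIso ((EtSh.overConstIso U).app _).symm ≪≫ e.app _ ≪≫
      (EtPBC.extZero U).mapIso (P.asEquivalence.unitIso.app (EtPBC.constOver U M)).symm
  intro V hV
  obtain ⟨m, T, g, hg, hc, hd, hu, hflc⟩ :=
    @EtSh.isConstructible_extZero_of_isFLC U.left X U.hom hj _ ‹CompactSpace U.left› ‹QuasiSeparatedSpace U.left› _ _ (EtCoh.const U.left M) (EtSh.isFLC_const M) V hV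
  exact ⟨m, T, g, hg, hc, hd, hu, fun i => EtSh.isFLC_of_iso ((EtCoh.pull (g i)).mapIso a) (hflc i)⟩

end Groth.Agent.S0133
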