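import Groth.Statements.S0138
import Groth.Agent.EtSh.GenConst
import Groth.Agent.EtSh.FinGen
import Groth.Agent.EtSh.ConstructibleSerre

set_option autoImplicit false
universe u
open CategoryTheory CategoryTheory.Limits AlgebraicGeometry Opposite
open EtPBC

namespace Groth.Agent.S0138

/-- For Lambda = Z/n: on a quasi-compact quasi-separated X, a constructible abelian sheaf killed by n >
0 (that is, a constructible sheaf of Z/n-modules) is isomorphic to the cokernel of a map between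
finite direct sums of sheaves j_{U!} Z/n with U affine and etale over X. (The source also proves the
converse; we state the presentation direction.) -/
theorem result (X : Scheme.{u}) [CompactSpace X] [QuasiSeparatedSpace X]
    (n : ℕ) (hn : 0 < n) (F : EtCoh.Ab X) (hF : EtPBC.IsConstructible F) (hFn : EtCoh.KilledBy n F) :
    ∃ (a b : ℕ) (V : Fin a → X.Etale) (U : Fin b → X.Etale) (_ : ∀ j, IsAffine (V j).left)
      (_ : ∀ i, IsAffine (U i).left)
      (φ : (⨁ fun j => EtPBC.extZeroConst (V j) (ZMod n)) ⟶ ⨁ fun i => EtPBC.extZeroConst (U i) (ZMod n)),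
      Nonempty (F ≅ cokernel φ) := by
  obtain ⟨G, π, hπ, hGn⟩ := EtSh.exists_gens_epi F hF (fun m => m = n) fun Ω _ _ ξ p => ⟨n, hn, rfl, by
    obtain ⟨U, t, s, rfl⟩ := EtSh.germ_surjective F p
    rw [← map_nsmul, hFn U s, map_zero]⟩
  have hK := (EtSh.isConstructible_kernel_cokernel π G.isConstructible hF).1
  have happ : ∀ (A B : EtCoh.Ab X) (f : A ⟶ B) (k : ℕ) (U : X.Etale) (s : EtCoh.sect A U),
      (k • f).hom.app (op U) s = k • f.hom.app (op U) s := fun A B f k U s => by
    induction k with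
    | zero => rw [zero_smul, zero_smul]; rfl
    | succ k ih => rw [succ_nsmul, succ_nsmul]; exact congrArg (· + f.hom.app (op U) s) ih
  have hG : n • 𝟙 G.sheaf = 0 := biproduct.hom_ext' _ _ fun i => by
    rw [comp_zero, Preadditive.comp_nsmul, Category.comp_id]
    obtain ⟨e, he, -, huniq⟩ := EtSh.exists_gen_elem (G.W i) (G.n i)
    refine huniq _ _ _ ?_
    rw [happ, ← map_nsmul, ← hGn i, he, map_zero]
    rfl
  obtain ⟨G', π', hπ', hGn'⟩ := EtSh.exists_gens_epi (kernel π) hK (fun m => m = n) fun Ω _ _ ξ p => ⟨n, hn, rfl, by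
    obtain ⟨U, t, s, rfl⟩ := EtSh.germ_surjective (kernel π) p
    have h1 : n • (kernel.ι π).hom.app (op U) s = 0 :=
      ((happ _ _ (𝟙 G.sheaf) n U _).symm.trans (congrArg (fun f : G.sheaf ⟶ G.sheaf => f.hom.app (op U) ((kernel.ι π).hom.app (op U) s)) hG)).trans rfl
    have h2 : n • s = 0 := EtSh.app_injective_of_mono (kernel.ι π) (op U) (by rw [map_nsmul, h1, map_zero])
    rw [← map_nsmul, h2, map_zero]⟩
  have eW : ∀ (H : EtSh.Gens X), (∀ i, H.n i = n) →
      Nonempty (H.sheaf ≅ ⨁ fun i => EtPBC.extZeroConst (H.W i) (ZMod n)) := fun H hH =>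
    ⟨biproduct.mapIso fun i => (eqToIso (by rw [hH i])) ≪≫ (EtSh.nonempty_gen_iso_extZeroConst (H.W i) n).some⟩
  obtain ⟨a₁⟩ := eW G' hGn'
  obtain ⟨a₀⟩ := eW G hGn
  refine ⟨G'.m, G.m, G'.W, G.W, G'.affine, G.affine, a₁.inv ≫ (π' ≫ kernel.ι π) ≫ a₀.hom, ⟨?_⟩⟩
  refine ?_ ≪≫ cokernel.mapIso (π' ≫ kernel.ι π) _ a₁ a₀ (by simp)
  exact (IsColimit.coconePointUniqueUpToIso (cokernelIsCokernel (kernel.ι π))
    (Abelian.epiIsCokernelOfKernel _ (limit.isLimit _))).symm ≪≫ (cokernelEpiComp π' (kernel.ι π)).symm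

end Groth.Agent.S0138
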