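import Groth.Statements.S0139
import Groth.Agent.EtSh.Compact

set_option autoImplicit false
universe u
open CategoryTheory CategoryTheory.Limits AlgebraicGeometry Opposite
open EtPBC

namespace Groth.Agent.S0139

/-- Abelian case: for X quasi-compact and quasi-separated and F a constructible abelian sheaf, Hom(F, -)
commutes with filtered colimits of abelian sheaves on X_et (F is a compact object); stated for
filtered index categories in the universe of X. -/
theorem result (X : Scheme.{u}) [CompactSpace X] [QuasiSeparatedSpace X]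
    (F : EtCoh.Ab X) (hF : EtPBC.IsConstructible F) (J : Type u) [SmallCategory J] [IsFiltered J] :
    PreservesColimitsOfShape J (coyoneda.obj (op F)) := by
  refine ⟨fun {D} => ⟨fun {c} hc => ⟨Types.FilteredColimit.isColimitOf _ _ (fun f => ?_) fun i j f g h => ?_⟩⟩⟩
  · obtain ⟨k, h, hh⟩ := EtSh.exists_hom_rep hc hF f
    exact ⟨k, h, hh.symm⟩
  · let m := IsFiltered.max i j
    let a₀ : i ⟶ m := IsFiltered.leftToMax i j
    let b₀ : j ⟶ m := IsFiltered.rightToMax i j
    obtain ⟨k, r, hr⟩ := EtSh.exists_hom_eq_zero hc hF (f ≫ D.map a₀ - g ≫ D.map b₀) (by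
      rw [Preadditive.sub_comp, Category.assoc, Category.assoc, c.w, c.w, sub_eq_zero]
      exact h)
    refine ⟨k, a₀ ≫ r, b₀ ≫ r, ?_⟩
    rw [Preadditive.sub_comp, sub_eq_zero, Category.assoc, Category.assoc, ← D.map_comp, ← D.map_comp] at hr
    exact hr

end Groth.Agent.S0139
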