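import Groth.Statements.S0141
import Groth.Agent.EtSh.NoethSub
import Groth.Agent.S0140

set_option autoImplicit false
universe u
open CategoryTheory CategoryTheory.Limits AlgebraicGeometry Opposite
open EtPBC

namespace Groth.Agent.S0141

/-- Part (3): with Λ = Z/n, quotient half: on a Noetherian scheme a quotient of a constructible abelian
sheaf killed by n > 0 is constructible. -/
theorem result (X : Scheme.{u}) [IsNoetherian X]
    {F Q : EtCoh.Ab X} (π : F ⟶ Q) [Epi π] (n : ℕ) (hn : 0 < n) (hFn : EtCoh.KilledBy n F)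
    (hF : EtPBC.IsConstructible F) :
    EtPBC.IsConstructible Q := by
  have hK : EtPBC.IsConstructible (kernel π) := Groth.Agent.S0140.result X (kernel.ι π) n hn hFn hF
  have e : cokernel (kernel.ι π) ≅ Q :=
    IsColimit.coconePointUniqueUpToIso (cokernelIsCokernel (kernel.ι π))
      (Abelian.epiIsCokernelOfKernel _ (limit.isLimit _))
  intro U hU
  obtain ⟨m, T, g, hg, hc, hd, hu, hflc⟩ := (EtSh.isConstructible_kernel_cokernel (kernel.ι π) hK hF).2 U hU
  exact ⟨m, T, g, hg, hc, hd, hu, fun i => EtSh.isFLC_of_iso ((EtCoh.pull (g i)).mapIso e) (hflc i)⟩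

end Groth.Agent.S0141
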