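import Groth.Statements.S0142
import Groth.Agent.EtSh.NoethSub

set_option autoImplicit false
universe u
open CategoryTheory CategoryTheory.Limits AlgebraicGeometry Opposite
open EtPBC

namespace Groth.Agent.S0142

/-- For X Noetherian and F a constructible abelian sheaf on X_et, every increasing sequence of
subsheaves F_1 ⊆ F_2 ⊆ ... ⊆ F is eventually constant. -/
theorem result (X : Scheme.{u}) [IsNoetherian X]
    (F : EtCoh.Ab X) (hF : EtPBC.IsConstructible F) (c : ℕ →o Subobject F) :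
    ∃ N, ∀ m, N ≤ m → c m = c N := by
  classical
  have key : ∀ x : X, ∃ (V : X.Opens) (N : ℕ), x ∈ V ∧ ∀ m, N ≤ m → ∀ (Ω : Type u) [Field Ω] [IsSepClosed Ω]
      (ξ : Spec (CommRingCat.of Ω) ⟶ X), ξ.base default ∈ V → x ⤳ ξ.base default →
        Finite ((EtCoh.stalk ξ).obj (c m : EtCoh.Ab X)) ∧
          Nat.card ((EtCoh.stalk ξ).obj (c m : EtCoh.Ab X)) ≤ Nat.card ((EtCoh.stalk ξ).obj (c N : EtCoh.Ab X)) := by
    intro x
    obtain ⟨V, Ω, _, _, ξ, hxV, hξ, h⟩ := EtSh.exists_card_sub_le hF x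
    let a : ℕ → ℕ := fun m => Nat.card ((EtCoh.stalk ξ).obj (c m : EtCoh.Ab X))
    have hbd : ∀ m, a m ≤ Nat.card ((EtCoh.stalk ξ).obj F) := fun m => by
      have := (h F (𝟙 F)).1
      exact Nat.card_le_card_of_injective _ (EtSh.stalk_map_injective (c m).arrow)
    obtain ⟨N, hN⟩ : ∃ N, ∀ m, a m ≤ a N := by
      have hf : (Set.range a).Finite := (Set.finite_Iic _).subset (by rintro _ ⟨m, rfl⟩; exact hbd m)
      obtain ⟨N, hN⟩ := Set.exists_max_image (Set.range a) id hf (Set.range_nonempty a)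
      obtain ⟨N, rfl⟩ := hN.1
      exact ⟨N, fun m => hN.2 _ ⟨m, rfl⟩⟩
    have := (h _ (c N).arrow).1
    obtain ⟨V', hxV', hge⟩ := EtSh.exists_card_le (c N : EtCoh.Ab X) ξ
    refine ⟨V ⊓ V', N, ⟨hxV, hξ ▸ hxV'⟩, fun m hm Ω' _ _ ξ' hV hx => ?_⟩
    obtain ⟨hf, hl⟩ := (h _ (c m).arrow).2 Ω' ξ' hV.1 hx
    obtain ⟨hf', -⟩ := (h _ (c N).arrow).2 Ω' ξ' hV.1 hx
    exact ⟨hf, hl.trans ((hN m).trans (hge Ω' ξ' hV.2 (hξ.symm ▸ hx) hf'))⟩
  choose V N hV hN using key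
  choose W hW hxW using fun x : X => (fun ⟨U, hU, hxU, _⟩ => ⟨U, hU, hxU⟩ :
    (∃ U : X.Opens, IsAffineOpen U ∧ x ∈ U ∧ (U : Set X) ⊆ (⊤ : X.Opens)) → ∃ U : X.Opens, IsAffineOpen U ∧ x ∈ U)
    (exists_isAffineOpen_mem_and_subset (x := x) (U := ⊤) trivial)
  obtain ⟨s, hs⟩ := CompactSpace.isCompact_univ.elim_finite_subcover (fun x : X => (W x : Set X))
    (fun x => (W x).2) fun x _ => Set.mem_iUnion.2 ⟨x, hxW x⟩
  choose t htc ht using fun x => EtSh.exists_finite_pieces (hW x) V hV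
  let T : Finset X := s.biUnion t
  refine ⟨T.sup N, fun m hm => ?_⟩
  have hle : c (T.sup N) ≤ c m := c.monotone hm
  let α := Subobject.ofLE _ _ hle
  have hiso : IsIso α := EtSh.isIso_of_stalk_exists α fun y => by
    obtain ⟨x, hx, hyx⟩ := Set.mem_iUnion₂.1 (hs (Set.mem_univ y))
    obtain ⟨a, ha, hya⟩ := Set.mem_iUnion₂.1 (ht x hyx)
    obtain ⟨Ω, _, _, ξ, hξ⟩ := EtSh.exists_geometric_point y
    have hξy : ξ.base default = y := Set.eq_of_mem_singleton (hξ.le ⟨default, rfl⟩)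
    refine ⟨Ω, inferInstance, inferInstance, ξ, hξy, ?_⟩
    rw [ConcreteCategory.isIso_iff_bijective]
    have haT : N a ≤ T.sup N := Finset.le_sup (Finset.mem_biUnion.2 ⟨x, hx, ha⟩)
    have hVa : ξ.base default ∈ V a := hξy.symm ▸ hya.1
    have hsp : a ⤳ ξ.base default := hξy.symm ▸ specializes_iff_mem_closure.2 hya.2
    obtain ⟨hf, hc⟩ := hN a m (haT.trans hm) Ω ξ hVa hsp
    obtain ⟨hf₀, -⟩ := hN a _ haT Ω ξ hVa hsp
    have hinj := EtSh.stalk_map_injective (ξ := ξ) α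
    refine (Nat.bijective_iff_injective_and_card _).2 ⟨hinj, le_antisymm (Nat.card_le_card_of_injective _ hinj) ?_⟩
    exact hc.trans (Nat.card_le_card_of_injective _
      (EtSh.stalk_map_injective (ξ := ξ) (Subobject.ofLE _ _ (c.monotone haT))))
  exact (Subobject.eq_of_comm (asIso α) (Subobject.ofLE_arrow hle)).symm

end Groth.Agent.S0142
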