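import Groth.Statements.S0161
import Groth.Agent.EtSh.FiniteBC

set_option autoImplicit false
universe u
open CategoryTheory CategoryTheory.Limits AlgebraicGeometry Opposite
open EtPBC

namespace Groth.Agent.S0161

/-- For a finite morphism f : X -> Y, cohomology commutes with base change: for every cartesian square
and torsion abelian F on X_et and every q, g^* R^q f_* F ≅ R^q f'_* g'^* F (abstract-isomorphism
form). -/
theorem result {X Y : Scheme.{u}} (f : X ⟶ Y) [IsFinite f] [EtCoh.BCCont f] :
    EtPBC.CohCommutesWithBC f := by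
  intro X' Y' f' g' g _ _ _ h F hF q
  have : IsFinite f' := MorphismProperty.of_isPullback h ‹_›
  cases q with
  | succ n =>
    have h1 : IsZero ((EtCoh.pull g).obj ((EtCoh.Rpush f (n + 1)).obj F)) :=
      Functor.map_isZero _ (Groth.Agent.EtSh.isZero_Rpush f F n)
    exact ⟨h1.iso (Groth.Agent.EtSh.isZero_Rpush f' _ n)⟩
  | zero =>
    have : PreservesLimitsOfSize.{0, 0} (EtCoh.push f) := (EtCoh.pullPushAdj f).rightAdjoint_preservesLimits
    have : PreservesFiniteLimits (EtCoh.push f) := PreservesLimitsOfSize.preservesFiniteLimits _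
    have : PreservesLimitsOfSize.{0, 0} (EtCoh.push f') := (EtCoh.pullPushAdj f').rightAdjoint_preservesLimits
    have : PreservesFiniteLimits (EtCoh.push f') := PreservesLimitsOfSize.preservesFiniteLimits _
    exact ⟨(EtCoh.pull g).mapIso ((EtCoh.push f).rightDerivedZeroIsoSelf.app F) ≪≫
      @asIso _ _ _ _ _ (Groth.Agent.EtSh.isIso_baseChange0_finite h F) ≪≫
      ((EtCoh.push f').rightDerivedZeroIsoSelf.app _).symm⟩

end Groth.Agent.S0161
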