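import Groth.Statements.S0173
import Groth.Agent.EtSh.IndSupported

set_option autoImplicit false
universe u
open CategoryTheory CategoryTheory.Limits AlgebraicGeometry Opposite
open EtPBC

namespace Groth.Agent.S0173

set_option backward.isDefEq.respectTransparency.types false

/-- (1), for X irreducible: X quasi-compact, quasi-separated and irreducible with generic point η, F a
torsion abelian sheaf on X_et whose stalk over η vanishes. Then F is a filtered colimit of
constructible abelian sheaves each supported in a closed subset not containing η. (The source allows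
η to be the generic point of any irreducible component.) -/
theorem result (X : Scheme.{u}) [CompactSpace X] [QuasiSeparatedSpace X]
    [IrreducibleSpace X] (F : EtCoh.Ab X) (hF : EtCoh.IsTorsion F) (hη : genericPoint X ∉ EtPBC.supp F) :
    ∃ (J : Type (u + 1)) (_ : SmallCategory J) (_ : IsFiltered J) (D : J ⥤ EtCoh.Ab X)
      (c : Cocone D) (_ : IsColimit c), Nonempty (c.pt ≅ F) ∧
      ∀ j, EtPBC.IsConstructible (D.obj j) ∧
        ∃ Z : Set X, IsClosed Z ∧ genericPoint X ∉ Z ∧ EtPBC.supp (D.obj j) ⊆ Z := by
  classical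
  refine EtSh.exists_colimit_supported F (fun Z => genericPoint X ∉ Z) hF fun j => ?_
  let D := EtSh.indDiagram F
  haveI := EtSh.isIso_desc F hF
  have hc : IsColimit (EtSh.indCocone F) :=
    haveI : IsIso ((colimit.isColimit D).desc (EtSh.indCocone F)) := EtSh.isIso_desc F hF
    IsColimit.ofPointIso (colimit.isColimit D)
  obtain ⟨Ω, _, _, ξ, hξ⟩ := EtSh.exists_geometric_point (genericPoint X)
  have hξx : ξ.base default = genericPoint X := Set.eq_of_mem_singleton (hξ.le ⟨default, rfl⟩)
  rw [← hξx, EtSh.mem_supp_iff, not_not] at hη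
  haveI := AddCommGrpCat.subsingleton_of_isZero hη
  haveI := EtSh.finite_stalk (EtSh.isConstructible_cval (X := X) j.left) ξ
  haveI := Fintype.ofFinite ↑((EtCoh.stalk ξ).obj (EtSh.cval X j.left))
  choose k a ha using fun p : ↑((EtCoh.stalk ξ).obj (D.obj j)) =>
    EtSh.exists_germ_eq_zero hc ξ p (Subsingleton.elim (α := ↑((EtCoh.stalk ξ).obj F)) _ _)
  obtain ⟨K, b, hb⟩ := EtSh.exists_common_stage (Finset.univ : Finset ↑((EtCoh.stalk ξ).obj (EtSh.cval X j.left))) j k a
  let f : EtSh.cval X j.left ⟶ EtSh.cval X K.left := D.map b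
  have hKj : f ≫ K.hom = j.hom := CostructuredArrow.w b
  have hj := EtSh.isConstructible_cval (X := X) j.left
  have hk := EtSh.isConstructible_cval (X := X) K.left
  have hG : EtPBC.IsConstructible (Abelian.coimage f) :=
    (EtSh.isConstructible_kernel_cokernel (kernel.ι f) (EtSh.isConstructible_kernel_cokernel f hj hk).1 hj).2
  refine ⟨Abelian.coimage f, Abelian.coimage.π f, Abelian.factorThruCoimage f ≫ K.hom, hG, ?_,
    closure (EtPBC.supp (Abelian.coimage f)), isClosed_closure, fun hx => ?_, subset_closure⟩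
  · rw [← Category.assoc, Abelian.coimage.fac, hKj]
  obtain ⟨e, he, hex⟩ := EtSh.exists_specializes_of_mem_closure_constructible (EtSh.isConstructible_supp hG) hx
  have h2 : e = genericPoint X := (hex.antisymm ((genericPoint_spec X).specializes (Set.mem_univ e))).eq
  rw [h2, ← hξx, EtSh.mem_supp_iff] at he
  haveI : PreservesColimitsOfSize.{0, 0} (EtCoh.stalk ξ) :=
    (Scheme.pointSmallEtale ξ).skyscraperSheafAdjunction.leftAdjoint_preservesColimits
  haveI : Epi ((EtCoh.stalk ξ).map (Abelian.coimage.π f)) := inferInstance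
  haveI : Mono ((EtCoh.stalk ξ).map (Abelian.factorThruCoimage f)) :=
    (AddCommGrpCat.mono_iff_injective _).2 (EtSh.stalk_map_injective _)
  have hf0 : (EtCoh.stalk ξ).map f = 0 := AddCommGrpCat.hom_ext (AddMonoidHom.ext fun p => by
    obtain ⟨r, hr⟩ := hb p (Finset.mem_univ p)
    show (EtCoh.stalk ξ).map (D.map b) p = 0
    rw [← hr, D.map_comp, (EtCoh.stalk ξ).map_comp, ConcreteCategory.comp_apply, ha, map_zero])
  refine he (IsZero.of_mono_eq_zero ((EtCoh.stalk ξ).map (Abelian.factorThruCoimage f)) ?_)
  rw [← cancel_epi ((EtCoh.stalk ξ).map (Abelian.coimage.π f)), comp_zero, ← (EtCoh.stalk ξ).map_comp,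
    Abelian.coimage.fac, hf0]

end Groth.Agent.S0173
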