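import Groth.Statements.S0175
import Groth.Agent.EtSh.Recollement
import Groth.Agent.EtSh.OverSite

set_option autoImplicit false
universe u
open CategoryTheory CategoryTheory.Limits AlgebraicGeometry Opposite
open EtPBC

namespace Groth.Agent.S0175

open Groth.Agent.EtSh

theorem isZero_of_stalks {X : Scheme.{u}} (A : EtCoh.Ab X)
    (h : ∀ (Ω : Type u) [Field Ω] [IsSepClosed Ω] (ξ : Spec (CommRingCat.of Ω) ⟶ X), IsZero ((EtCoh.stalk ξ).obj A)) :
    IsZero A := by
  have : Mono (0 : A ⟶ A) := mono_of_stalk _ fun Ω _ _ ξ a b _ =>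
    @Subsingleton.elim _ (AddCommGrpCat.isZero_iff_subsingleton.1 (h Ω ξ)) a b
  exact IsZero.of_mono_zero A A

theorem main {Z X U : Scheme.{u}} (i : Z ⟶ X) [IsClosedImmersion i]
    (j : U ⟶ X) [IsOpenImmersion j] (hZU : Set.range j = (Set.range i)ᶜ)
    (I : EtCoh.Ab X) [Injective I] :
    Injective ((EtCoh.pull i).obj (kernel ((EtCoh.pullPushAdj j).unit.app I))) := by
  let η := (EtCoh.pullPushAdj j).unit.app I
  have hsupp : EtPBC.supp (kernel η) ⊆ Set.range i.base := by
    rintro x ⟨Ω, _, _, ξ, hξ, hne⟩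
    by_contra hx
    have hd : ξ.base default = x := Set.eq_of_mem_singleton (hξ.le ⟨default, rfl⟩)
    obtain ⟨u, rfl⟩ : ∃ u, u ≫ j = ξ := ⟨IsOpenImmersion.lift j ξ (by
      rw [hξ, hZU]
      simpa using hx), IsOpenImmersion.lift_fac _ _ _⟩
    have := isIso_stalk_unit_open j u I
    have := stalk_preservesFiniteLimits (u ≫ j)
    exact hne ((isZero_kernel_of_mono ((EtCoh.stalk (u ≫ j)).map η)).of_iso
      (PreservesKernel.iso (EtCoh.stalk (u ≫ j)) η))
  have := Integral.isIso_unit_of_supp i (kernel η) hsupp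
  have : ∀ G : EtCoh.Ab Z, IsIso ((EtCoh.pullPushAdj i).counit.app G) := Integral.isIso_counit i
  have : IsIso (EtCoh.pullPushAdj i).counit := NatIso.isIso_of_isIso_app _
  let hff := (EtCoh.pullPushAdj i).fullyFaithfulROfIsIsoCounit
  have hzero : ∀ (B : EtCoh.Ab Z) (m : (EtCoh.push i).obj B ⟶ (EtCoh.push j).obj ((EtCoh.pull j).obj I)),
      m = 0 := fun B m => by
    refine ((EtCoh.pullPushAdj j).homEquiv _ _).symm.injective ?_
    refine (isZero_of_stalks _ fun Ω _ _ u => ?_).eq_of_src _ _
    refine (Integral.isZero_stalk_push i B (u ≫ j) ?_).of_iso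
      ((stalkPullIso j u).app _)
    intro h
    have : (u ≫ j).base default ∈ (Set.range i)ᶜ := hZU ▸ ⟨u.base default, rfl⟩
    exact this h
  refine ⟨fun {A B} g f _ => ?_⟩
  have : PreservesLimitsOfSize.{0, 0} (EtCoh.push i) := (EtCoh.pullPushAdj i).rightAdjoint_preservesLimits
  let e : kernel η ≅ (EtCoh.push i).obj ((EtCoh.pull i).obj (kernel η)) := asIso ((EtCoh.pullPushAdj i).unit.app (kernel η))
  let t := Injective.factorThru ((EtCoh.push i).map g ≫ e.inv ≫ kernel.ι η) ((EtCoh.push i).map f)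
  have ht : (EtCoh.push i).map f ≫ t = (EtCoh.push i).map g ≫ e.inv ≫ kernel.ι η := Injective.comp_factorThru _ _
  refine ⟨hff.preimage (kernel.lift η t (hzero _ _) ≫ e.hom), hff.map_injective ?_⟩
  rw [Functor.map_comp, hff.map_preimage, ← cancel_mono e.inv, Category.assoc, Category.assoc, e.hom_inv_id,
    Category.comp_id, ← cancel_mono (kernel.ι η), Category.assoc, kernel.lift_ι, ht, Category.assoc]

/-- Let i : Z → X be a closed immersion of schemes with open complement j : U → X, and I an injective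
abelian sheaf on X_ét. Then the subsheaf H_Z(I) of sections supported on Z (the kernel of I → j_*
j^* I), viewed on Z_ét via i^*, is an injective abelian sheaf on Z_ét. -/
theorem result {Z X U : Scheme.{u}} (i : Z ⟶ X) [IsClosedImmersion i]
    (j : U ⟶ X) [IsOpenImmersion j] (hZU : Set.range j = (Set.range i)ᶜ)
    [EtCoh.BCCont i] [EtCoh.BCCont j] (I : EtCoh.Ab X) [Injective I] :
    Injective ((EtCoh.pull i).obj (kernel ((EtCoh.pullPushAdj j).unit.app I))) := by
  exact main i j hZU I

end Groth.Agent.S0175
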