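import Groth.Statements.S0191
import Groth.Agent.CSACentralizer.DivisionRing

set_option autoImplicit false
universe u v w
open scoped TensorProduct
open Curves

namespace Groth.Agent.S0191

/-- If K is a skew field with center k, every two-sided ideal of A ⊗ K is generated by the elements a ⊗
1 it contains. -/
theorem result (k : Type u) [Field k] (A : Type v) [Ring A] [Algebra k A]
    (K : Type w) [DivisionRing K] [Algebra k K] [Algebra.IsCentral k K]
    (I : TwoSidedIdeal (A ⊗[k] K)) :
    I = TwoSidedIdeal.span ((fun a : A => a ⊗ₜ[k] (1 : K)) '' {a : A | a ⊗ₜ[k] (1 : K) ∈ I}) := by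
  classical
  refine le_antisymm (fun x hx => ?_) (TwoSidedIdeal.span_le.2 ?_)
  · set J := TwoSidedIdeal.span ((fun a : A => a ⊗ₜ[k] (1 : K)) '' {a : A | a ⊗ₜ[k] (1 : K) ∈ I})
      with hJdef
    have hJI : J ≤ I := TwoSidedIdeal.span_le.2 (by rintro _ ⟨a, ha, rfl⟩; exact ha)
    let V : Submodule k A :=
      { carrier := {a | a ⊗ₜ[k] (1 : K) ∈ I}
        zero_mem' := by simp
        add_mem' := fun {a b} ha hb => by simpa [TensorProduct.add_tmul] using I.add_mem ha hb
        smul_mem' := fun c a ha => by
          have h1 : (c • a) ⊗ₜ[k] (1 : K) = (algebraMap k A c ⊗ₜ[k] (1 : K)) * (a ⊗ₜ[k] (1 : K)) := by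
            simp [Algebra.smul_def]
          show (c • a) ⊗ₜ[k] (1 : K) ∈ I
          rw [h1]
          exact I.mul_mem_left _ _ ha }
    obtain ⟨W, hW⟩ := V.exists_isCompl
    let b := Module.Free.chooseBasis k W
    let φ : A ⊗[k] K →ₗ[k] (Module.Free.ChooseBasisIndex k W →₀ K) :=
      (TensorProduct.finsuppScalarLeft k K _).toLinearMap ∘ₗ
        TensorProduct.map (b.repr.toLinearMap ∘ₗ W.projectionOnto V hW.symm) LinearMap.id
    let ψ : (Module.Free.ChooseBasisIndex k W →₀ K) →ₗ[k] A ⊗[k] K :=
      Finsupp.lsum k fun i => TensorProduct.mk k A K (b i : A)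
    have hφψ : ∀ z, z - ψ (φ z) ∈ J := by
      intro z
      induction z with
      | zero => simp [J.zero_mem]
      | add y z hy hz => simpa [map_add, add_sub_add_comm] using J.add_mem hy hz
      | tmul a c =>
        have hV : a - (W.projectionOnto V hW.symm a : A) ∈ V := by
          have h : a - (W.projectionOnto V hW.symm a : A) ∈ LinearMap.ker (W.projectionOnto V hW.symm) := by
            rw [LinearMap.mem_ker, map_sub, Submodule.projectionOnto_apply_left, sub_self]
          rwa [Submodule.ker_projectionOnto] at h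
        have h1 : ψ (φ (a ⊗ₜ c)) = (W.projectionOnto V hW.symm a : A) ⊗ₜ c := by
          have : φ (a ⊗ₜ c) = (b.repr (W.projectionOnto V hW.symm a)).mapRange (· • c) (zero_smul k c) := by
            ext i; simp [φ]
          rw [this, show ψ = Finsupp.lsum k fun i => TensorProduct.mk k A K (b i : A) from rfl,
            Finsupp.lsum_apply, Finsupp.sum_mapRange_index (by simp)]
          conv_rhs => rw [← b.linearCombination_repr (W.projectionOnto V hW.symm a)]
          simp [ψ, Finsupp.linearCombination_apply, Finsupp.sum_mapRange_index, TensorProduct.sum_tmul,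
            Finsupp.sum, TensorProduct.tmul_smul, TensorProduct.smul_tmul']
        rw [h1, ← TensorProduct.sub_tmul, ← mul_one (_ - _), ← one_mul c,
          ← Algebra.TensorProduct.tmul_mul_tmul]
        exact J.mul_mem_right _ _ (TwoSidedIdeal.subset_span ⟨_, hV, rfl⟩)
    have hR : ∀ (c : K) z i, φ (z * (1 ⊗ₜ c)) i = φ z i * c := by
      intro c z i
      induction z with
      | zero => simp
      | add y z hy hz => simp only [add_mul, map_add, Finsupp.add_apply, hy, hz]
      | tmul a d => simp [φ, smul_mul_assoc]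
    have hL : ∀ (c : K) z i, φ ((1 ⊗ₜ c) * z) i = c * φ z i := by
      intro c z i
      induction z with
      | zero => simp
      | add y z hy hz => simp only [mul_add, map_add, Finsupp.add_apply, hy, hz]
      | tmul a d => simp [φ, mul_smul_comm]
    suffices h : ∀ n (z : A ⊗[k] K), z ∈ I → (φ z).support.card ≤ n → φ z = 0 by
      simpa [h _ x hx le_rfl] using hφψ x
    intro n
    induction n with
    | zero => intro z _ hz; exact Finsupp.support_eq_empty.1 (Finset.card_eq_zero.1 (Nat.le_zero.1 hz))
    | succ n ih =>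
      intro z hz hn
      by_contra hne
      obtain ⟨i₀, hi₀⟩ := Finsupp.ne_iff.1 hne
      rw [Finsupp.zero_apply] at hi₀
      obtain ⟨y, hy⟩ : ∃ y, y = z * (1 ⊗ₜ[k] (φ z i₀)⁻¹) := ⟨_, rfl⟩
      have hyI : y ∈ I := hy ▸ I.mul_mem_right _ _ hz
      have hy1 : φ y i₀ = 1 := by rw [hy, hR, mul_inv_cancel₀ hi₀]
      have hcen : ∀ i, φ y i ∈ Subalgebra.center k K := fun i => Subalgebra.mem_center_iff.2 fun c => by
        have hcI : (1 ⊗ₜ c) * y - y * (1 ⊗ₜ c) ∈ I :=
          I.sub_mem (I.mul_mem_left _ _ hyI) (I.mul_mem_right _ _ hyI)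
        have hsub : (φ ((1 ⊗ₜ c) * y - y * (1 ⊗ₜ c))).support ⊆ (φ z).support.erase i₀ := by
          intro j hj
          rw [Finsupp.mem_support_iff, map_sub, Finsupp.sub_apply, hL, hR] at hj
          rw [Finset.mem_erase, Finsupp.mem_support_iff]
          refine ⟨fun e => hj (by rw [e, hy1]; simp), fun e => hj ?_⟩
          have : φ y j = 0 := by rw [hy, hR, e, zero_mul]
          simp [this]
        have hcard := Finset.card_le_card hsub
        rw [Finset.card_erase_of_mem (Finsupp.mem_support_iff.2 hi₀)] at hcard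
        have h0 := DFunLike.congr_fun (ih _ hcI (by omega)) i
        rw [map_sub, Finsupp.sub_apply, hL, hR, Finsupp.zero_apply, sub_eq_zero] at h0
        exact h0
      have hc' : ∀ i, ∃ r : k, φ y i = algebraMap k K r := fun i =>
        Algebra.IsCentral.mem_center_iff k |>.1 (hcen i)
      choose r hr using hc'
      let w : A := ∑ i ∈ (φ y).support, r i • (b i : A)
      have hψ : ψ (φ y) = w ⊗ₜ 1 := by
        simp only [w, ψ, Finsupp.lsum_apply, TensorProduct.sum_tmul, Finsupp.sum]
        refine Finset.sum_congr rfl fun i _ => ?_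
        rw [TensorProduct.mk_apply, hr, Algebra.algebraMap_eq_smul_one, TensorProduct.tmul_smul,
          TensorProduct.smul_tmul']
      have hwV : w ∈ V := by
        show w ⊗ₜ[k] (1 : K) ∈ I
        rw [← hψ]
        simpa using I.sub_mem hyI (hJI (hφψ y))
      have hwW : w ∈ W := W.sum_mem fun i _ => W.smul_mem _ (b i).2
      have hw0 : w = 0 := (Submodule.disjoint_def.1 hW.disjoint w hwV hwW)
      have hsum : ∑ i ∈ (φ y).support, r i • b i = 0 := by
        apply Subtype.ext; simpa [w] using hw0
      have := linearIndependent_iff'.1 b.linearIndependent _ r hsum i₀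
        (Finsupp.mem_support_iff.2 (by rw [hy1]; exact one_ne_zero))
      rw [hr, this, map_zero] at hy1
      exact zero_ne_one hy1
  · rintro _ ⟨a, ha, rfl⟩
    exact ha

end Groth.Agent.S0191
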