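import Groth.Statements.S0193
import Groth.Agent.CSACentralizer.DivisionRing

set_option autoImplicit false
universe u v w
open scoped TensorProduct
open Curves

namespace Groth.Agent.S0193

/-- If matrix algebras of positive size over two finite central skew fields are isomorphic as
k-algebras, the skew fields are isomorphic. -/
theorem result (k : Type u) [Field k]
    (D : Type v) [DivisionRing D] [Algebra k D] [Algebra.IsCentral k D] [FiniteDimensional k D]
    (D' : Type w) [DivisionRing D'] [Algebra k D'] [Algebra.IsCentral k D'] [FiniteDimensional k D']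
    (n m : ℕ) (hn : n ≠ 0) (hm : m ≠ 0)
    (e : Matrix (Fin n) (Fin n) D ≃ₐ[k] Matrix (Fin m) (Fin m) D') :
    Nonempty (D ≃ₐ[k] D') := by
  have : Nonempty (Fin n) := ⟨⟨0, Nat.pos_of_ne_zero hn⟩⟩
  have : Nonempty (Fin m) := ⟨⟨0, Nat.pos_of_ne_zero hm⟩⟩
  let R := Matrix (Fin n) (Fin n) D
  have : IsArtinianRing R := IsArtinianRing.of_finite k R
  have hV := CSACentralizer.isSimpleModule_pi D n hn
  have hW := CSACentralizer.isSimpleModule_pi D' m hm
  let _ : Module R (Fin m → D') := Module.compHom _ e.toRingEquiv.toRingHom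
  have hW' : IsSimpleModule R (Fin m → D') := by
    refine isSimpleModule_iff_toSpanSingleton_surjective.2 ⟨inferInstance, fun v hv w => ?_⟩
    obtain ⟨M, hM⟩ := (isSimpleModule_iff_toSpanSingleton_surjective.1 hW).2 v hv w
    exact ⟨e.symm M, (congrArg (· • v) (e.apply_symm_apply M)).trans hM⟩
  have : IsScalarTower k R (Fin m → D') := ⟨fun c r x => by
    change e (c • r) • x = c • (e r • x)
    rw [map_smul, smul_assoc]⟩
  obtain ⟨φ⟩ : Nonempty ((Fin n → D) ≃ₗ[R] (Fin m → D')) := by
    obtain ⟨I, ⟨i⟩⟩ := IsSemisimpleRing.exists_linearEquiv_ideal_of_isSimpleModule R (Fin n → D)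
    obtain ⟨J, ⟨j⟩⟩ := IsSemisimpleRing.exists_linearEquiv_ideal_of_isSimpleModule R (Fin m → D')
    have := IsSimpleModule.congr i.symm
    have := IsSimpleModule.congr j.symm
    obtain ⟨ij⟩ := IsSimpleRing.isIsotypic R R J I
    exact ⟨i.trans (ij.trans j.symm)⟩
  have h := (φ.restrictScalars k).finrank_eq
  exact CSA.nonempty_algEquiv_of_matrix k e (by simpa [Module.finrank_pi_fintype] using h)

end Groth.Agent.S0193
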