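import Groth.Statements.S0195
import Groth.Agent.CSACentralizer.C1
import Groth.Agent.CSACentralizer.Degree

set_option autoImplicit false
universe u v w
open scoped TensorProduct
open Curves

namespace Groth.Agent.S0195

/-- A finite extension k' of k splits a finite central simple algebra A exactly when some algebra
similar to A contains k' with dim equal to [k':k]^2. Uses Mathlib's bundled CSA and Brauer
equivalence. -/
theorem result (k : Type u) [Field k] (A : CSA.{u, u} k)
    (k' : Type u) [Field k'] [Algebra k k'] [FiniteDimensional k k'] :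
    Curves.Splits k A k' ↔ ∃ (B : CSA.{u, u} k) (_ : k' →ₐ[k] B), IsBrauerEquivalent A B ∧
      Module.finrank k B = Module.finrank k k' ^ 2 := by
  constructor
  · intro h
    obtain ⟨n, hn, D, _, _, _, _, ⟨e⟩⟩ := CSACentralizer.exists_division k A
    have : Nonempty (Fin n) := ⟨⟨0, Nat.pos_of_ne_zero hn⟩⟩
    have := CSACentralizer.isCentral_matrix k D n
    have hD : Curves.Splits k D k' := CSACentralizer.splits_of_matrix k D k' n hn
      (CSACentralizer.splits_algEquiv k _ k' _ e.symm h)
    obtain ⟨d, hd⟩ := CSACentralizer.isSquare_finrank k D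
    obtain ⟨s, hs, ⟨f⟩⟩ :=
      CSACentralizer.exists_matrix_of_splits k D k' d (hd.trans (sq d).symm) hD
    have hs0 : s ≠ 0 := fun h0 => by
      have : 0 < Module.finrank k k' := Module.finrank_pos
      rw [hs, h0, mul_zero] at this
      exact lt_irrefl _ this
    have : Nonempty (Fin s) := ⟨⟨0, Nat.pos_of_ne_zero hs0⟩⟩
    have := CSACentralizer.isCentral_matrix k D s
    let B : CSA.{u, u} k := { toAlgCat := AlgCat.of k (Matrix (Fin s) (Fin s) D) }
    refine ⟨B, f, ⟨s, n, hs0, hn, ⟨?_⟩⟩, ?_⟩
    · exact (e.mapMatrix (m := Fin s)).trans <| (Matrix.compAlgEquiv _ _ D k).trans <|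
        (Matrix.reindexAlgEquiv k D (Equiv.prodComm (Fin s) (Fin n))).trans
          (Matrix.compAlgEquiv _ _ D k).symm
    · show Module.finrank k (Matrix (Fin s) (Fin s) D) = _
      rw [CSACentralizer.finrank_matrix_fin k D s, hd, hs]
      ring
  · rintro ⟨B, f, ⟨a, b, ha, hb, ⟨e⟩⟩, hB⟩
    have : Nonempty (Fin a) := ⟨⟨0, Nat.pos_of_ne_zero ha⟩⟩
    have : Nonempty (Fin b) := ⟨⟨0, Nat.pos_of_ne_zero hb⟩⟩
    have := CSACentralizer.isCentral_matrix k A a
    have := CSACentralizer.isCentral_matrix k B b
    exact CSACentralizer.splits_of_matrix k A k' a ha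
      (CSACentralizer.splits_algEquiv k _ k' _ e (CSACentralizer.splits_matrix k B k' b hb
        (CSACentralizer.splits_of_field_subalgebra k B k' f hB)))

end Groth.Agent.S0195
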