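import Groth.Statements.S0215
import Mathlib
import Groth.Agent.UnitsFG.Core

set_option autoImplicit false
universe u
open CategoryTheory CategoryTheory.Limits AlgebraicGeometry TopologicalSpace
open Curves

namespace Groth.Agent.S0215

theorem exists_open_irreducible (X : Scheme.{u})
    (hirr : (irreducibleComponents (X : Type u)).Finite) (Z : Set X)
    (hZ : Z ∈ irreducibleComponents (X : Type u)) :
    ∃ U : X.Opens, IsAffineOpen U ∧ (U : Set X).Nonempty ∧ (U : Set X) ⊆ Z := by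
  let W : Set X := (⋃ T ∈ irreducibleComponents (X : Type u) \ {Z}, T)ᶜ
  have hW : IsOpen W := ((hirr.sdiff).isClosed_biUnion fun T hT =>
    isClosed_of_mem_irreducibleComponents T hT.1).isOpen_compl
  have hWZ : W ⊆ Z := by
    intro x hx
    by_contra hxZ
    have hxc := irreducibleComponent_mem_irreducibleComponents x
    refine hx (Set.mem_iUnion₂.2 ⟨_, ⟨hxc, fun h => hxZ ?_⟩, mem_irreducibleComponent⟩)
    exact (Set.mem_singleton_iff.1 h) ▸ mem_irreducibleComponent
  obtain ⟨x, hxW⟩ : W.Nonempty := by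
    by_contra hne
    rw [Set.not_nonempty_iff_eq_empty, Set.compl_empty_iff] at hne
    have hsub : Z ⊆ ⋃₀ (irreducibleComponents (X : Type u) \ {Z}) := by
      rw [Set.sUnion_eq_biUnion, hne]; exact Set.subset_univ _
    obtain ⟨T, hT, hZT⟩ := isIrreducible_iff_sUnion_isClosed.1 hZ.1 (hirr.sdiff (t := {Z})).toFinset
      (fun T hT => isClosed_of_mem_irreducibleComponents T ((Set.Finite.mem_toFinset _).1 hT).1)
      (by rwa [Set.Finite.coe_toFinset])
    have hT' := (Set.Finite.mem_toFinset _).1 hT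
    exact hT'.2 (le_antisymm (hZ.2 hT'.1.1 hZT) hZT)
  obtain ⟨U, hU, hxU, hUW⟩ := exists_isAffineOpen_mem_and_subset (U := ⟨W, hW⟩) hxW
  exact ⟨U, hU, ⟨x, hxU⟩, fun y hy => hWZ (hUW hy)⟩

theorem fg_of_ker_le {G H : Type*} [CommGroup G] [CommGroup H] (Ψ : G →* H) (hH : Group.FG H)
    {N : Subgroup G} (h : Ψ.ker ≤ N) : Group.FG (G ⧸ N) := by
  have : Module.Finite ℤ (Additive H) := Module.Finite.iff_addGroup_fg.2 (GroupFG.iff_add_fg.1 hH)
  let q := QuotientGroup.kerLift Ψ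
  have hfin : Module.Finite ℤ (Additive (G ⧸ Ψ.ker)) :=
    Module.Finite.of_injective (MonoidHom.toAdditive q).toIntLinearMap
      (fun a b hab => QuotientGroup.kerLift_injective Ψ hab)
  have : Group.FG (G ⧸ Ψ.ker) := GroupFG.iff_add_fg.2 (Module.Finite.iff_addGroup_fg.1 hfin)
  exact Group.fg_of_surjective (f := QuotientGroup.map Ψ.ker N (MonoidHom.id G) h)
    (fun x => by obtain ⟨g, rfl⟩ := QuotientGroup.mk_surjective x; exact ⟨g, rfl⟩)

/-- For a connected reduced scheme locally of finite type over a field k with finitely many irreducible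
components, in which every global function integral over k is a constant, the group of invertible
global functions modulo nonzero constants is finitely generated. -/
theorem result (k : Type u) [Field k] (X : Scheme.{u}) (f : X ⟶ Spec (CommRingCat.of k))
    [LocallyOfFiniteType f] [IsReduced X] [ConnectedSpace X] (hirr : (irreducibleComponents (X : Type u)).Finite)
    (hint : ∀ x : Γ(X, ⊤), (f.appTop.hom.comp (Scheme.ΓSpecIso (CommRingCat.of k)).inv.hom).IsIntegralElem x →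
      x ∈ Set.range (f.appTop.hom.comp (Scheme.ΓSpecIso (CommRingCat.of k)).inv.hom)) :
    Group.FG ((Γ(X, ⊤))ˣ ⧸ (Units.map ((f.appTop.hom.comp (Scheme.ΓSpecIso (CommRingCat.of k)).inv.hom : k →+* Γ(X, ⊤)) : k →* Γ(X, ⊤))).range) := by
  classical
  have hint_hyp := hint
  let ψ : k →+* Γ(X, ⊤) := f.appTop.hom.comp (Scheme.ΓSpecIso (CommRingCat.of k)).inv.hom
  let _ : Algebra k Γ(X, ⊤) := ψ.toAlgebra
  choose U hUaff hUne hUZ using exists_open_irreducible X hirr
  let ι := irreducibleComponents (X : Type u)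
  have : Finite ι := hirr.to_subtype
  let A : ι → Type u := fun Z => Γ(X, U Z.1 Z.2)
  let ρ : ∀ Z : ι, Γ(X, ⊤) →+* Γ(X, U Z.1 Z.2) := fun Z => (X.presheaf.map (homOfLE le_top).op).hom
  have hdom : ∀ Z : ι, IsDomain Γ(X, U Z.1 Z.2) := fun Z => by
    have : IrreducibleSpace (U Z.1 Z.2 : Scheme.{u}) := by
      refine @Subtype.irreducibleSpace _ _ _ ?_
      exact ⟨hUne Z.1 Z.2, Z.2.1.2.open_subset (U Z.1 Z.2).2 (hUZ Z.1 Z.2)⟩
    have : IsIntegral (U Z.1 Z.2 : Scheme.{u}) :=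
      (isIntegral_iff_irreducibleSpace_and_isReduced _).2 ⟨inferInstance, inferInstance⟩
    exact (U Z.1 Z.2).topIso.commRingCatIsoToRingEquiv.symm.toMulEquiv.isDomain Γ((U Z.1 Z.2 : Scheme.{u}), ⊤)
  have hcore : ∀ Z : ι, ∃ (n : ℕ) (Φ : Γ(X, ⊤)ˣ →* Multiplicative (Fin n → ℤ)),
      ∀ x : Γ(X, ⊤)ˣ, Φ x = 1 → ((ρ Z).comp ψ).IsIntegralElem (ρ Z x) := by
    intro Z
    let _ : Algebra k Γ(X, U Z.1 Z.2) := ((ρ Z).comp ψ).toAlgebra
    have := hdom Z
    have hft : ((ρ Z).comp ψ).FiniteType := by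
      have h := LocallyOfFiniteType.finiteType_appLE f (isAffineOpen_top (Spec (CommRingCat.of k)))
        (hUaff Z.1 Z.2) (le_of_le_of_eq le_top f.preimage_top.symm)
      have h3 : RingHom.FiniteType (Scheme.ΓSpecIso (CommRingCat.of k)).inv.hom :=
        RingHom.FiniteType.of_surjective _
          (Scheme.ΓSpecIso (CommRingCat.of k)).symm.commRingCatIsoToRingEquiv.surjective
      exact h.comp h3
    have : Algebra.FiniteType k Γ(X, U Z.1 Z.2) := hft
    obtain ⟨n, Φ, hΦ⟩ := UnitsFG.exists_hom_isAlgebraic k Γ(X, U Z.1 Z.2)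
    exact ⟨n, Φ.comp (Units.map (ρ Z : Γ(X, ⊤) →* Γ(X, U Z.1 Z.2))), fun x hx => hΦ _ hx⟩
  choose n Φ hΦ using hcore
  let Ψ : Γ(X, ⊤)ˣ →* ∀ Z : ι, Multiplicative (Fin (n Z) → ℤ) := MonoidHom.mk' (fun x Z => Φ Z x)
    fun x y => funext fun Z => map_mul (Φ Z) x y
  have hinj : ∀ s : Γ(X, ⊤), (∀ Z : ι, ρ Z s = 0) → s = 0 := by
    intro s hs
    rw [← AlgebraicGeometry.basicOpen_eq_bot_iff, ← le_bot_iff]
    intro x hx
    exfalso
    let Z : ι := ⟨_, irreducibleComponent_mem_irreducibleComponents x⟩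
    obtain ⟨y, hy⟩ := hUne Z.1 Z.2
    obtain ⟨z, hzZ, hzU, hzs⟩ := Z.2.1.2 _ _ (U Z.1 Z.2).2 (X.basicOpen s).2 ⟨y, hUZ Z.1 Z.2 hy, hy⟩
      ⟨x, mem_irreducibleComponent, hx⟩
    have h1 : z ∈ X.basicOpen (ρ Z s) := by
      rw [Scheme.basicOpen_res]; exact ⟨hzU, hzs⟩
    rw [hs Z, Scheme.basicOpen_zero] at h1
    exact h1
  have hker : Ψ.ker ≤ (Units.map (ψ : k →* Γ(X, ⊤))).range := by
    intro x hx
    have hx' : ∀ Z : ι, ((ρ Z).comp ψ).IsIntegralElem (ρ Z x) := fun Z => hΦ Z x (congrFun hx Z)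
    choose P hP hP0 using hx'
    let _ : Fintype ι := Fintype.ofFinite ι
    have hint : ψ.IsIntegralElem (x : Γ(X, ⊤)) := by
      refine ⟨∏ Z : ι, P Z, Polynomial.monic_prod_of_monic _ _ fun Z _ => hP Z, hinj _ fun Z => ?_⟩
      rw [Polynomial.hom_eval₂, Polynomial.eval₂_finsetProd]
      exact Finset.prod_eq_zero (Finset.mem_univ Z) (hP0 Z)
    obtain ⟨c, hc⟩ := hint_hyp x hint
    have hc0 : c ≠ 0 := by
      rintro rfl
      have : Nontrivial Γ(X, ⊤) := by
        obtain ⟨x₀⟩ := (inferInstance : Nonempty X)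
        exact (X.presheaf.germ ⊤ x₀ trivial).hom.domain_nontrivial
      exact x.ne_zero (hc.symm.trans (map_zero ψ))
    exact ⟨Units.mk0 c hc0, Units.ext hc⟩
  refine fg_of_ker_le Ψ ?_ hker
  rw [GroupFG.iff_add_fg]
  refine Module.Finite.iff_addGroup_fg.1 ?_
  exact Module.Finite.equiv (R := ℤ) (M := ∀ Z : ι, Fin (n Z) → ℤ)
    { toFun := fun v => Additive.ofMul fun Z => Multiplicative.ofAdd (v Z)
      invFun := fun v Z => Multiplicative.toAdd (Additive.toMul v Z)
      left_inv := fun _ => rfl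
      right_inv := fun _ => rfl
      map_add' := fun _ _ => rfl
      map_smul' := fun c v => rfl }

end Groth.Agent.S0215
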