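import Groth.Statements.S0218
import Mathlib

set_option autoImplicit false
universe u
open Curves

namespace Groth.Agent.S0218

open Polynomial in
theorem ker_aeval_quad {k B : Type u} [Field k] [CommRing B] [Algebra k B] (q : k[X]) (hq : q.Monic) (hdeg : q.natDegree = 2) (t : B)
    (h0 : aeval t q = 0) (hind : ∀ c d : k, algebraMap k B c + algebraMap k B d * t = 0 → c = 0 ∧ d = 0) :
    RingHom.ker (aeval t : k[X] →ₐ[k] B) = Ideal.span {q} := by
  refine le_antisymm (fun p hp => ?_) ((Ideal.span_singleton_le_iff_mem _).mpr h0)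
  rw [Ideal.mem_span_singleton, ← modByMonic_eq_zero_iff_dvd hq]
  have hp' : aeval t (p %ₘ q) = 0 := by
    have := congrArg (aeval t) (modByMonic_add_div p (q := q))
    rw [map_add, map_mul, h0, zero_mul, add_zero, RingHom.mem_ker.mp hp] at this
    exact this
  have hle : (p %ₘ q).natDegree ≤ 1 := by
    have := natDegree_modByMonic_lt p hq (fun h => by rw [h] at hdeg; simp at hdeg)
    omega
  rw [eq_X_add_C_of_natDegree_le_one hle] at hp' ⊢
  simp only [map_add, map_mul, aeval_C, aeval_X] at hp'
  obtain ⟨h1, h2⟩ := hind _ _ (by rw [add_comm]; exact hp')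
  simp [h1, h2]


/-- Over an algebraically closed field k, a commutative k-algebra with exactly two k-subalgebras is
isomorphic to k × k or to the dual numbers over k. -/
theorem result (k : Type u) [Field k] [IsAlgClosed k] (A : Type u) [CommRing A] [Algebra k A]
    (h : Nat.card (Subalgebra k A) = 2) :
    Nonempty (A ≃ₐ[k] (k × k)) ∨ Nonempty (A ≃ₐ[k] DualNumber k) := by
  classical
  obtain ⟨S, hS, huniq⟩ := (Nat.card_eq_two_iff' (⊥ : Subalgebra k A)).mp h
  have hST : S = ⊤ := by
    rcases eq_or_ne (⊤ : Subalgebra k A) ⊥ with e | e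
    · exact absurd (le_antisymm (e ▸ le_top) bot_le) hS
    · exact (huniq _ e).symm
  have hor : ∀ T : Subalgebra k A, T = ⊥ ∨ T = ⊤ := fun T => or_iff_not_imp_left.mpr fun hT => (huniq T hT).trans hST
  subst hST
  obtain ⟨a, -, ha⟩ := SetLike.exists_of_lt (bot_lt_iff_ne_bot.mpr hS)
  have hgen : Algebra.adjoin k {a} = ⊤ := (hor _).resolve_left fun e => ha (e ▸ Algebra.self_mem_adjoin_singleton k a)
  have hsurj : Function.Surjective (Polynomial.aeval a : Polynomial k →ₐ[k] A) := by
    rw [← AlgHom.range_eq_top, ← Algebra.adjoin_singleton_eq_range_aeval, hgen]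
  haveI : Nontrivial A := by
    by_contra hn
    rw [not_nontrivial_iff_subsingleton] at hn
    exact ha (Subsingleton.elim (algebraMap k A 0) a ▸ Subalgebra.algebraMap_mem _ _)
  have hint : IsIntegral k a := by
    rw [← isAlgebraic_iff_isIntegral]
    rcases hor (Algebra.adjoin k {a ^ 2}) with e | e
    · obtain ⟨c, hc⟩ := Algebra.mem_bot.mp (e ▸ Algebra.self_mem_adjoin_singleton k (a ^ 2))
      exact ⟨Polynomial.X ^ 2 - Polynomial.C c, (Polynomial.monic_X_pow_sub_C c two_ne_zero).ne_zero, by simp [hc]⟩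
    · have : a ∈ Algebra.adjoin k {a ^ 2} := e ▸ trivial
      rw [Algebra.adjoin_singleton_eq_range_aeval] at this
      obtain ⟨P, hP⟩ := this
      refine ⟨Polynomial.expand k 2 P - Polynomial.X, fun h0 => ?_, by rw [map_sub, Polynomial.expand_aeval, Polynomial.aeval_X, sub_eq_zero]; exact hP⟩
      have := congrArg Polynomial.natDegree (sub_eq_zero.mp h0)
      rw [Polynomial.natDegree_expand, Polynomial.natDegree_X] at this
      omega
  let m := minpoly k a
  have hm0 : m ≠ 0 := minpoly.ne_zero hint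
  have hm2 : 2 ≤ m.natDegree := by
    have h1 := minpoly.natDegree_pos hint
    by_contra hlt
    change ¬ 2 ≤ (minpoly k a).natDegree at hlt
    exact ha (Algebra.mem_bot.mpr (minpoly.natDegree_eq_one_iff.mp (by omega)))
  obtain ⟨r, hr⟩ := IsAlgClosed.exists_root m (fun h => by rw [Polynomial.degree_eq_natDegree hm0] at h; norm_cast at h; change m.natDegree = 0 at h; omega)
  obtain ⟨m₁, hm₁⟩ := Polynomial.dvd_iff_isRoot.mpr hr
  have hm₁0 : m₁ ≠ 0 := fun h => hm0 (by rw [hm₁, h, mul_zero])
  have hdeg := congrArg Polynomial.natDegree hm₁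
  rw [Polynomial.natDegree_mul (Polynomial.X_sub_C_ne_zero r) hm₁0, Polynomial.natDegree_X_sub_C] at hdeg
  obtain ⟨s, hs⟩ := IsAlgClosed.exists_root m₁ (fun h => by rw [Polynomial.degree_eq_natDegree hm₁0] at h; norm_cast at h; omega)
  obtain ⟨m₂, hm₂⟩ := Polynomial.dvd_iff_isRoot.mpr hs
  let q : Polynomial k := (Polynomial.X - Polynomial.C r) * (Polynomial.X - Polynomial.C s)
  have hq : q.Monic := (Polynomial.monic_X_sub_C r).mul (Polynomial.monic_X_sub_C s)
  have hq2 : q.natDegree = 2 := by simp [q, Polynomial.natDegree_mul (Polynomial.X_sub_C_ne_zero r) (Polynomial.X_sub_C_ne_zero s)]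
  have hmq : m = q * m₂ := by rw [hm₁, hm₂]; ring
  have hm₂0 : m₂ ≠ 0 := fun h => hm0 (by rw [hmq, h, mul_zero])
  have hj : Polynomial.aeval a q = 0 := by
    by_contra hne
    let J : Ideal A := Ideal.span {Polynomial.aeval a q}
    rcases hor ((⊥ : Subalgebra k (A ⧸ J)).comap (Ideal.Quotient.mkₐ k J)) with e | e
    · obtain ⟨c, hc⟩ := Algebra.mem_bot.mp (show Polynomial.aeval a q ∈ (⊥ : Subalgebra k A) from e ▸ (by
        rw [Subalgebra.mem_comap, show (Ideal.Quotient.mkₐ k J) (Polynomial.aeval a q) = 0 from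
          Ideal.Quotient.eq_zero_iff_mem.mpr (Ideal.subset_span rfl)]
        exact Subalgebra.zero_mem _))
      have hc0 : c ≠ 0 := fun h => hne (by rw [← hc, h, map_zero])
      have h2 : Polynomial.aeval a m₂ = 0 := by
        have : algebraMap k A c * Polynomial.aeval a m₂ = 0 := by rw [hc, ← map_mul, ← hmq]; exact minpoly.aeval k a
        exact ((isUnit_iff_ne_zero.mpr hc0).map (algebraMap k A)).mul_right_eq_zero.mp this
      have := Polynomial.natDegree_le_of_dvd (minpoly.dvd k a h2) hm₂0
      have h3 := congrArg Polynomial.natDegree hmq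
      rw [Polynomial.natDegree_mul hq.ne_zero hm₂0, hq2] at h3
      change m.natDegree ≤ _ at this
      omega
    · obtain ⟨c, hc⟩ := Algebra.mem_bot.mp ((Subalgebra.mem_comap (S := (⊥ : Subalgebra k (A ⧸ J))) (f := Ideal.Quotient.mkₐ k J) a).mp (e.symm ▸ Algebra.mem_top))
      have hmem : a - algebraMap k A c ∈ J := by
        rw [← Ideal.Quotient.mk_eq_mk_iff_sub_mem]
        exact hc.symm
      obtain ⟨b, hb⟩ := Ideal.mem_span_singleton'.mp hmem
      obtain ⟨B, rfl⟩ := hsurj b
      have hd : m ∣ (Polynomial.X - Polynomial.C c) - B * q := minpoly.dvd k a (by simp [hb])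
      have hd' : q ∣ Polynomial.X - Polynomial.C c := by
        have := dvd_add ((Dvd.intro m₂ hmq.symm).trans hd) (dvd_mul_left q B)
        simpa using this
      have := Polynomial.natDegree_le_of_dvd hd' (Polynomial.X_sub_C_ne_zero c)
      rw [Polynomial.natDegree_X_sub_C, hq2] at this
      omega
  have hindA : ∀ c d : k, algebraMap k A c + algebraMap k A d * a = 0 → c = 0 ∧ d = 0 := by
    intro c d hcd
    by_cases hd : d = 0
    · subst hd
      simp only [map_zero, zero_mul, add_zero] at hcd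
      exact ⟨(algebraMap k A).injective (by rw [hcd, map_zero]), rfl⟩
    · exfalso
      apply ha
      refine Algebra.mem_bot.mpr ⟨-c / d, ?_⟩
      have hu : algebraMap k A d * algebraMap k A d⁻¹ = 1 := by rw [← map_mul, mul_inv_cancel₀ hd, map_one]
      rw [div_eq_mul_inv, map_mul, map_neg]
      linear_combination (-algebraMap k A d⁻¹) * hcd + a * hu
  have kA := ker_aeval_quad q hq hq2 a hj hindA
  have main : ∀ (B : Type u) [CommRing B] [Algebra k B] (t : B), Polynomial.aeval t q = 0 →
      (∀ c d : k, algebraMap k B c + algebraMap k B d * t = 0 → c = 0 ∧ d = 0) →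
      Function.Surjective (Polynomial.aeval t : Polynomial k →ₐ[k] B) → Nonempty (A ≃ₐ[k] B) := fun B _ _ t h1 h2 h3 =>
    ⟨((Ideal.quotientKerAlgEquivOfSurjective hsurj).symm.trans
      (Ideal.quotientEquivAlgOfEq k (kA.trans (ker_aeval_quad q hq hq2 t h1 h2).symm))).trans (Ideal.quotientKerAlgEquivOfSurjective h3)⟩
  by_cases hrs : r = s
  · refine Or.inr (main (DualNumber k) (algebraMap k _ r + DualNumber.eps) ?_ ?_ ?_)
    · simp [q, ← hrs, DualNumber.eps_mul_eps]
    · intro c d hcd
      have h1 := congrArg TrivSqZeroExt.fst hcd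
      have h2 := congrArg TrivSqZeroExt.snd hcd
      simp [TrivSqZeroExt.algebraMap_eq_inl] at h1 h2
      refine ⟨?_, h2⟩
      simpa [h2] using h1
    · intro z
      refine ⟨Polynomial.C (z.fst - z.snd * r) + Polynomial.C z.snd * Polynomial.X, ?_⟩
      ext <;> simp [TrivSqZeroExt.algebraMap_eq_inl]
  · refine Or.inl (main (k × k) (r, s) ?_ ?_ ?_)
    · ext <;> simp [q]
    · intro c d hcd
      simp only [Prod.ext_iff, Prod.fst_add, Prod.snd_add, Prod.fst_mul, Prod.snd_mul, Prod.algebraMap_apply, Algebra.algebraMap_self, RingHom.id_apply, Prod.fst_zero, Prod.snd_zero] at hcd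
      have hd : d = 0 := by
        have : d * (r - s) = 0 := by linear_combination hcd.1 - hcd.2
        exact (mul_eq_zero.mp this).resolve_right (sub_ne_zero.mpr hrs)
      exact ⟨by simpa [hd] using hcd.1, hd⟩
    · intro z
      have hne : r - s ≠ 0 := sub_ne_zero.mpr hrs
      refine ⟨Polynomial.C ((z.2 * r - z.1 * s) / (r - s)) + Polynomial.C ((z.1 - z.2) / (r - s)) * Polynomial.X, ?_⟩
      ext <;> simp <;> field_simp <;> ring

end Groth.Agent.S0218
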