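import Groth.Statements.S0219
import Groth.Agent.CurveDeg.GenusFinite
import Groth.Agent.CurveDeg.Supp
-- import your own Groth.Agent.* helpers here

set_option autoImplicit false
universe u
open CategoryTheory CategoryTheory.Limits AlgebraicGeometry TopologicalSpace
open Curves

namespace Groth.Agent.S0219

open TopologicalSpace

theorem closure_lt {X : Scheme.{u}} {a b : X} (h : b ⤳ a) (hab : a ≠ b) :
    (⟨closure {a}, isIrreducible_singleton.closure, isClosed_closure⟩ : IrreducibleCloseds X) <
      ⟨closure {b}, isIrreducible_singleton.closure, isClosed_closure⟩ := by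
  refine lt_of_le_of_ne (closure_minimal (Set.singleton_subset_iff.2 (specializes_iff_mem_closure.1 h)) isClosed_closure) fun he => hab ?_
  have h' : closure ({a} : Set X) = closure {b} := congrArg (fun s : IrreducibleCloseds X => (s : Set X)) he
  have hback : a ⤳ b := specializes_iff_mem_closure.2 (h' ▸ subset_closure rfl)
  exact (hback.antisymm h).eq

theorem maximal_of_not_closed {X : Scheme.{u}} (hdim : topologicalKrullDim X ≤ 1) {x : X}
    (hx : ¬ IsClosed ({x} : Set X)) (z : X) (hz : z ⤳ x) : z = x := by
  by_contra hne
  obtain ⟨c, hc, hcx⟩ : ∃ c, x ⤳ c ∧ c ≠ x := by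
    by_contra! hall
    refine hx (closure_subset_iff_isClosed.1 fun c hc => hall c (specializes_iff_mem_closure.2 hc))
  have h : ((2 : ℕ) : WithBot ℕ∞) ≤ topologicalKrullDim X :=
    Order.LTSeries.length_le_krullDim (⟨2, ![(⟨closure {c}, isIrreducible_singleton.closure, isClosed_closure⟩ : IrreducibleCloseds X),
      ⟨closure {x}, isIrreducible_singleton.closure, isClosed_closure⟩,
      ⟨closure {z}, isIrreducible_singleton.closure, isClosed_closure⟩], fun i => by
        match i with
        | 0 => exact closure_lt hc hcx
        | 1 => exact closure_lt hz (Ne.symm hne)⟩ : LTSeries (IrreducibleCloseds X))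
  exact absurd (h.trans hdim) (by decide)

/-- A morphism over a field from a proper scheme of dimension at most one to a separated scheme, which
does not contract any one-dimensional irreducible component to a point, is finite. -/
theorem result (k : Type u) [Field k] (X Y : Scheme.{u}) (p : X ⟶ Spec (CommRingCat.of k)) (q : Y ⟶ Spec (CommRingCat.of k))
    [IsProper p] [IsSeparated q] (f : X ⟶ Y) (hf : f ≫ q = p) (hdim : topologicalKrullDim X ≤ 1)
    (h : ∀ Z ∈ irreducibleComponents (X : Type u), topologicalKrullDim Z = 1 → (f.base '' Z).Nontrivial) :
    IsFinite f := by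
  haveI : IsProper f := by
    haveI : IsProper (f ≫ q) := hf ▸ inferInstance
    exact IsProper.of_comp f q
  let _ : X.Over (Spec (CommRingCat.of k)) := ⟨p⟩
  haveI : IsProper (X ↘ Spec (CommRingCat.of k)) := ‹IsProper p›
  haveI := Groth.Agent.CurveDeg.isNoetherian_of_proper (k := k) (X := X)
  haveI : LocallyQuasiFinite f := LocallyQuasiFinite.of_finite_preimage_singleton f fun y => by
    have hclosed : ∀ x : X, IsClosed ({x} : Set X) → IsClosed ({f x} : Set Y) := fun x hx => by
      have h1 := f.isClosedMap _ hx
      rwa [Set.image_singleton] at h1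
    by_cases hy : IsClosed ({y} : Set Y)
    · have hC : IsClosed (f ⁻¹' {y}) := hy.preimage f.continuous
      have hcl : ∀ x ∈ f ⁻¹' {y}, IsClosed ({x} : Set X) := by
        intro x hxy
        by_contra hx
        have hxy' : f x = y := hxy
        have hZ : closure ({x} : Set X) ∈ irreducibleComponents (X : Type u) := by
          refine ⟨isIrreducible_singleton.closure, fun T hT hle z hz => ?_⟩
          have hTc := hT.closure
          obtain ⟨g, hg⟩ := QuasiSober.sober hTc isClosed_closure
          have hgx : g ⤳ x := hg.specializes (subset_closure (hle (subset_closure rfl)))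
          rw [← maximal_of_not_closed hdim hx g hgx]
          exact specializes_iff_mem_closure.1 (hg.specializes (subset_closure hz))
        obtain ⟨c, hc, hcx⟩ : ∃ c, x ⤳ c ∧ c ≠ x := by
          by_contra! hall
          exact hx (closure_subset_iff_isClosed.1 fun c hc => hall c (specializes_iff_mem_closure.2 hc))
        have hdimZ : topologicalKrullDim (closure ({x} : Set X)) = 1 := by
          refine le_antisymm ((topologicalKrullDim_subspace_le X _).trans hdim) ?_
          let x' : closure ({x} : Set X) := ⟨x, subset_closure rfl⟩
          let c' : closure ({x} : Set X) := ⟨c, specializes_iff_mem_closure.1 hc⟩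
          let a : IrreducibleCloseds (closure ({x} : Set X)) := ⟨closure {c'}, isIrreducible_singleton.closure, isClosed_closure⟩
          let b : IrreducibleCloseds (closure ({x} : Set X)) := ⟨closure {x'}, isIrreducible_singleton.closure, isClosed_closure⟩
          have hsp : x' ⤳ c' := (subtype_specializes_iff _ _).2 hc
          have hab : a < b := by
            refine lt_of_le_of_ne (closure_minimal (Set.singleton_subset_iff.2
              (specializes_iff_mem_closure.1 hsp)) isClosed_closure) fun he => hcx ?_
            have h' : closure ({c'} : Set _) = closure {x'} :=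
              congrArg (fun s : IrreducibleCloseds (closure ({x} : Set X)) => (s : Set ↥(closure ({x} : Set X)))) he
            have hback : c' ⤳ x' := specializes_iff_mem_closure.2 (h' ▸ subset_closure rfl)
            exact (((subtype_specializes_iff _ _).1 hback).antisymm hc).eq
          exact Order.LTSeries.length_le_krullDim ((RelSeries.singleton _ a).snoc b hab)
        obtain ⟨_, ⟨u, hu, rfl⟩, _, ⟨v, hv, rfl⟩, huv⟩ := h _ hZ hdimZ
        have key : ∀ w ∈ closure ({x} : Set X), f w = y := fun w hw => by
          have h1 : closure ({x} : Set X) ⊆ f ⁻¹' {y} := closure_minimal (Set.singleton_subset_iff.2 hxy) hC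
          exact h1 hw
        exact huv ((key u hu).trans (key v hv).symm)
      haveI : QuasiSober ↥(f ⁻¹' {y}) := hC.isClosedEmbedding_subtypeVal.quasiSober
      exact (Groth.Agent.CurveDeg.finite_of_dim_le_zero hC (by
        refine (Order.krullDim_nonpos_iff_forall_isMax).2 fun a b hab => ?_
        obtain ⟨ga, hga⟩ := QuasiSober.sober a.isIrreducible a.isClosed
        obtain ⟨gb, hgb⟩ := QuasiSober.sober b.isIrreducible b.isClosed
        have h1 : gb ⤳ ga := hgb.specializes (hab hga.mem)
        have h2 : gb = ga := Subtype.ext ((((subtype_specializes_iff _ _).1 h1).mem_closed (hcl gb.1 gb.2) rfl).symm)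
        intro z hz
        have h3 : gb ⤳ z := hgb.specializes hz
        rw [h2] at h3
        exact h3.mem_closed a.isClosed hga.mem)).1
    · refine (Groth.Agent.VarLib.finite_maximal_points isClosed_univ).subset fun x hx => ?_
      have hxy : f x = y := hx
      have hxc : ¬ IsClosed ({x} : Set X) := fun hc => hy (hxy ▸ hclosed x hc)
      exact ⟨trivial, fun z _ hz => maximal_of_not_closed hdim hxc z hz⟩
  exact IsFinite.of_isProper_of_locallyQuasiFinite f

end Groth.Agent.S0219
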