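import Groth.Statements.S0220
import Mathlib.AlgebraicGeometry.Morphisms.Flat
import Mathlib.AlgebraicGeometry.Morphisms.FiniteType
import Mathlib.AlgebraicGeometry.Noetherian
import Mathlib.AlgebraicGeometry.FunctionField
import Mathlib.RingTheory.Flat.TorsionFree
import Mathlib.RingTheory.DedekindDomain.Basic
-- import your own Groth.Agent.* helpers here

set_option autoImplicit false
universe u
open CategoryTheory CategoryTheory.Limits AlgebraicGeometry TopologicalSpace
open Curves

namespace Groth.Agent.S0220

/-- A nonconstant morphism between curves over a field (integral, separated, finite type, dimension one)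
whose target has integrally closed local domains is flat. -/
theorem result (k : Type u) [Field k] (X Y : Scheme.{u}) (p : X ⟶ Spec (CommRingCat.of k)) (q : Y ⟶ Spec (CommRingCat.of k))
    [IsIntegral X] [IsIntegral Y] [IsSeparated p] [IsSeparated q] [LocallyOfFiniteType p] [LocallyOfFiniteType q]
    [QuasiCompact p] [QuasiCompact q] (hX : topologicalKrullDim X = 1) (hY : topologicalKrullDim Y = 1)
    (hN : ∀ y : Y, IsDomain (Y.presheaf.stalk y) ∧ IsIntegrallyClosed (Y.presheaf.stalk y))
    (f : X ⟶ Y) (hf : f ≫ q = p) (hnc : (Set.range f.base).Nontrivial) :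
    Flat f := by
  haveI : IsLocallyNoetherian Y := LocallyOfFiniteType.isLocallyNoetherian q
  have hgen : f (genericPoint X) = genericPoint Y := by
    by_contra hne
    obtain ⟨_, ⟨z, rfl⟩, hz⟩ := hnc.exists_ne (f (genericPoint X))
    have h1 : f (genericPoint X) ⤳ f z :=
      (((genericPoint_spec X).specializes (Set.mem_univ z)).map f.continuous)
    have h2 : genericPoint Y ⤳ f (genericPoint X) := (genericPoint_spec Y).specializes (Set.mem_univ _)
    let a : TopologicalSpace.IrreducibleCloseds Y := ⟨closure {f.base z}, isIrreducible_singleton.closure, isClosed_closure⟩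
    let b : TopologicalSpace.IrreducibleCloseds Y := ⟨closure {f (genericPoint X)}, isIrreducible_singleton.closure, isClosed_closure⟩
    let c : TopologicalSpace.IrreducibleCloseds Y := ⟨closure {genericPoint Y}, isIrreducible_singleton.closure, isClosed_closure⟩
    have hlt : ∀ p q : Y, q ⤳ p → p ≠ q →
        (⟨closure {p}, isIrreducible_singleton.closure, isClosed_closure⟩ : TopologicalSpace.IrreducibleCloseds Y) <
          ⟨closure {q}, isIrreducible_singleton.closure, isClosed_closure⟩ := fun p q h hpq => by
      refine lt_of_le_of_ne (closure_minimal (Set.singleton_subset_iff.2 (specializes_iff_mem_closure.1 h)) isClosed_closure) fun he => hpq ?_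
      have h' : closure ({p} : Set Y) = closure {q} := congrArg (fun s : TopologicalSpace.IrreducibleCloseds Y => (s : Set Y)) he
      have hback : p ⤳ q := specializes_iff_mem_closure.2 (h' ▸ subset_closure rfl)
      exact (hback.antisymm h).eq
    have h3 : ((2 : ℕ) : WithBot ℕ∞) ≤ topologicalKrullDim Y :=
      Order.LTSeries.length_le_krullDim (⟨2, ![a, b, c], fun i => by
        match i with
        | 0 => exact hlt _ _ h1 hz
        | 1 => exact hlt _ _ h2 hne⟩ : LTSeries (TopologicalSpace.IrreducibleCloseds Y))
    rw [hY] at h3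
    exact absurd h3 (by decide)
  refine (Flat.iff_flat_stalkMap f).2 fun x => ?_
  haveI := (hN (f x)).1
  haveI := (hN (f x)).2
  have hdim : ringKrullDim (Y.presheaf.stalk (f x)) ≤ 1 := by
    rw [ringKrullDim_stalk_eq_coheight]
    refine (Order.coheight_le_krullDim (f x)).trans ?_
    rw [← Order.krullDim_eq_of_orderIso (irreducibleSetEquivPoints (α := Y))]
    exact hY.le
  haveI : Ring.KrullDimLE 1 (Y.presheaf.stalk (f x)) := Ring.krullDimLE_iff.2 (by exact_mod_cast hdim)
  haveI : IsDedekindDomain (Y.presheaf.stalk (f x)) :=
    { toIsDomain := inferInstance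
      toIsNoetherian := inferInstance
      maximalOfPrime := fun hp hprime => Ideal.IsPrime.isMaximal_of_ne_bot hprime hp
      toIsIntegralClosure := inferInstance }
  letI := (f.stalkMap x).hom.toAlgebra
  show Module.Flat (Y.presheaf.stalk (f x)) (X.presheaf.stalk x)
  rw [IsDedekindDomain.flat_iff_torsion_eq_bot, eq_bot_iff]
  have hinj : Function.Injective (f.stalkMap x).hom := by
    rw [injective_iff_map_eq_zero]
    intro a ha
    obtain ⟨V, hxV, r, rfl⟩ := TopCat.Presheaf.exists_germ_eq Y.presheaf a
    rw [show (f.stalkMap x).hom (Y.presheaf.germ V (f x) hxV r) = _ from f.germ_stalkMap_apply V x hxV r] at ha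
    haveI : Nonempty (f ⁻¹ᵁ V) := ⟨⟨x, hxV⟩⟩
    haveI : Nonempty V := ⟨⟨f x, hxV⟩⟩
    have h0 : f.app V r = 0 := germ_injective_of_isIntegral X x hxV (ha.trans (map_zero _).symm)
    have hξ : f (genericPoint X) ∈ V :=
      (((genericPoint_spec X).specializes (Set.mem_univ x)).map f.continuous).mem_open V.isOpen hxV
    have hK : IsField (Y.presheaf.stalk (f (genericPoint X))) := by
      rw [hgen]
      exact @Field.toIsField ↑(Y.presheaf.stalk (genericPoint ↥Y)) (inferInstance : Field ↑Y.functionField)
    letI := hK.toField
    have h1 : (f.stalkMap (genericPoint X)).hom (Y.presheaf.germ V (f (genericPoint X)) hξ r) = 0 := by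
      show f.stalkMap (genericPoint X) _ = 0
      rw [f.germ_stalkMap_apply V (genericPoint X) hξ r, h0, map_zero]
    have h2 : Y.presheaf.germ V (f (genericPoint X)) hξ r = 0 :=
      (map_eq_zero_iff _ (RingHom.injective _)).1 h1
    rw [germ_injective_of_isIntegral Y (f (genericPoint X)) hξ (h2.trans (map_zero _).symm), map_zero]
  intro z hz
  obtain ⟨a, ha⟩ := (Submodule.mem_torsion_iff z).1 hz
  have h' : (f.stalkMap x).hom a.1 * z = 0 := ha
  rcases mul_eq_zero.1 h' with h | h
  · exact absurd (hinj (h.trans (map_zero _).symm)) (nonZeroDivisors.ne_zero a.2)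
  · exact h

end Groth.Agent.S0220
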