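import Groth.Statements.S0226
import Groth.Agent.CAlgReg.AusBuch

set_option autoImplicit false
universe u
open Curves

namespace Groth.Agent.S0226

/-- In a regular local ring of dimension two, an ideal inside the maximal ideal with reduced quotient is
zero, the maximal ideal, or principal. -/
theorem result (A : Type u) [CommRing A] [IsRegularLocalRing A] (hdim : ringKrullDim A = 2)
    (I : Ideal A) (hI : I ≤ IsLocalRing.maximalIdeal A) [IsReduced (A ⧸ I)] :
    I = ⊥ ∨ I = IsLocalRing.maximalIdeal A ∨ ∃ f ∈ IsLocalRing.maximalIdeal A, f ≠ 0 ∧ I = Ideal.span {f} := by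
  classical
  by_cases hbot : I = ⊥
  · exact Or.inl hbot
  by_cases hm : I = IsLocalRing.maximalIdeal A
  · exact Or.inr (Or.inl hm)
  refine Or.inr (Or.inr ?_)
  haveI : IsDomain A := Groth.Agent.CAlgReg.isDomain
  have hd : ringKrullDim A = ((2 : ℕ) : WithBot ℕ∞) := by rw [hdim]; rfl
  haveI : Nontrivial (A ⧸ I) := Ideal.Quotient.nontrivial_iff.2 fun h => (IsLocalRing.maximalIdeal.isMaximal A).ne_top (top_le_iff.1 (h ▸ hI))
  have hq : 1 ≤ LocCoh.depth A (A ⧸ I) := by
    rw [Order.one_le_iff_ne_zero, Ne, Groth.Agent.Depth.depth_eq_zero_iff]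
    intro hass
    obtain ⟨hp, x, hx⟩ := (isAssociatedPrime_iff).1 hass
    obtain ⟨x, rfl⟩ := Ideal.Quotient.mk_surjective x
    have hmul : ∀ r ∈ IsLocalRing.maximalIdeal A, r * x ∈ I := fun r hr => by
      rw [hx, Submodule.mem_colon_singleton, Submodule.mem_bot] at hr
      exact Ideal.Quotient.eq_zero_iff_mem.1 hr
    by_cases hxu : IsUnit x
    · exact hm (le_antisymm hI fun r hr => (Ideal.mul_unit_mem_iff_mem I hxu).1 (hmul r hr))
    · have hx2 := hmul x hxu
      have : Ideal.Quotient.mk I x = 0 :=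
        IsNilpotent.eq_zero ⟨2, by rw [← map_pow, Ideal.Quotient.eq_zero_iff_mem, pow_two]; exact hx2⟩
      rw [this] at hx
      apply hp.ne_top
      rw [hx]
      exact eq_top_iff.2 fun r _ => Submodule.mem_colon_singleton.2 (by simp)
  have hI2 : ((2 : ℕ) : ℕ∞) ≤ LocCoh.depth A I := by
    refine Groth.Agent.Depth.le_idealDepth_left (f := I.subtype) (g := (Submodule.mkQ I)) (M'' := A ⧸ I)
      Subtype.val_injective (Submodule.mkQ_surjective I) (LinearMap.exact_subtype_mkQ I) ?_ ?_
    · exact le_of_eq (Groth.Agent.CAlgReg.depth_self_eq_dim hd).symm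
    · exact le_trans (by norm_num) (add_le_add hq le_rfl)
  haveI : Nontrivial I := Submodule.nontrivial_iff_ne_bot.2 hbot
  have hle := Groth.Agent.Depth.depth_le_ringKrullDim (R := A) (M := I)
  rw [hd] at hle
  have hfree : Module.Free A I := Groth.Agent.CAlgReg.free_of_depth_eq_dim I (by
    rw [hd]; exact le_antisymm hle (WithBot.coe_le_coe.2 hI2))
  let b := Module.Free.chooseBasis A I
  haveI : Subsingleton (Module.Free.ChooseBasisIndex A I) := ⟨fun i j => by
    by_contra hne
    have h1 : (b j : A) • b i = (b i : A) • b j := Subtype.ext (by simp [mul_comm])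
    have h2 := congrArg (fun v => b.repr v i) h1
    simp [hne] at h2
    exact b.ne_zero j h2⟩
  obtain ⟨i⟩ := b.index_nonempty
  refine ⟨(b i : A), hI (b i).2, fun h => b.ne_zero i (Subtype.ext h), le_antisymm ?_ ?_⟩
  · intro x hx
    rw [Ideal.mem_span_singleton']
    refine ⟨b.repr ⟨x, hx⟩ i, ?_⟩
    haveI : Unique (Module.Free.ChooseBasisIndex A I) := uniqueOfSubsingleton i
    have := congrArg (fun v : I => (v : A)) (b.sum_repr ⟨x, hx⟩)
    simpa [Subsingleton.elim (default : Module.Free.ChooseBasisIndex A I) i] using this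
  · exact (Ideal.span_singleton_le_iff_mem _).2 (b i).2

end Groth.Agent.S0226
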