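import Groth.Statements.S0235
import Groth.Agent.GenLocus.TrivFinite
import Mathlib.AlgebraicGeometry.Morphisms.QuasiFinite
import Mathlib.AlgebraicGeometry.ZariskisMainTheorem

set_option autoImplicit false
universe u
open CategoryTheory CategoryTheory.Limits AlgebraicGeometry
open Curves

namespace Groth.Agent.S0235

/-- For a finite morphism π : X → Y and an invertible module L on X, every point y of Y has an open
neighbourhood V such that L is trivial on the preimage of V. -/
theorem result {X Y : Scheme.{u}} (π : X ⟶ Y) [IsFinite π]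
    (L : X.Modules) (hL : PicF.IsInvertible L) (y : Y) :
    ∃ V : Y.Opens, y ∈ V ∧ Nonempty (L.restrict (π ⁻¹ᵁ V).ι ≅ Coh.structureModule (↑(π ⁻¹ᵁ V))) := by
  obtain ⟨V₀, hV₀, hyV₀, -⟩ := exists_isAffineOpen_mem_and_subset (TopologicalSpace.Opens.mem_top y)
  obtain ⟨C, -, hTC, -, ⟨t⟩⟩ := Groth.Agent.GenLocus.exists_affine_triv_of_finite hL (hV₀.preimage π)
    (π.finite_preimage_singleton y) (fun x hx => by show π x ∈ V₀; rw [show π x = y from hx]; exact hyV₀)
  let V : Y.Opens := ⟨(π '' (C : Set X)ᶜ)ᶜ, (π.isClosedMap _ C.isOpen.isClosed_compl).isOpen_compl⟩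
  refine ⟨V, fun ⟨x, hxC, hxy⟩ => hxC (hTC hxy), ⟨?_⟩⟩
  exact Groth.Agent.TensorMod.trivRestrict
    (show π ⁻¹ᵁ V ≤ C from fun x hx => Classical.byContradiction fun h => (show π x ∉ π '' (C : Set X)ᶜ from hx) ⟨x, h, rfl⟩) t

end Groth.Agent.S0235
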