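import Groth.Statements.S0283
import Groth.Agent.FEtLib.FullCrit

set_option autoImplicit false
universe u
open Pi1

namespace Groth.Agent.S0283

open AlgebraicGeometry CategoryTheory CategoryTheory.Limits in
/-- Let f : X → Y be a morphism of schemes which is integral, universally injective and surjective (that
is, a universal homeomorphism). Then base change along f, from finite étale covers of Y to finite
étale covers of X, is a full and faithful functor. -/
theorem result {X Y : Scheme.{u}} (f : X ⟶ Y) [IsIntegralHom f] [UniversallyInjective f] [Surjective f] :
    (FEt.restrict f).Full ∧ (FEt.restrict f).Faithful := by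
  refine FEtLib.full_faithful_restrict f (fun W _ ⟨x, hx⟩ => ⟨x, hx, f.surjective x⟩) fun Z W hW => ?_
  let e := pullback.fst Z.hom f
  haveI : IsIntegralHom e := MorphismProperty.pullback_fst _ _ inferInstance
  haveI : UniversallyInjective e := MorphismProperty.pullback_fst (P := @UniversallyInjective) _ _ inferInstance
  haveI : Surjective e := MorphismProperty.pullback_fst (P := @Surjective) _ _ inferInstance
  refine ⟨e '' W, ⟨e.isClosedMap _ hW.1, isClosed_compl_iff.mp ?_⟩, e.injective.preimage_image W⟩
  rw [← Set.image_compl_eq ⟨e.injective, e.surjective⟩]
  exact e.isClosedMap _ hW.2.isClosed_compl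

end Groth.Agent.S0283
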