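import Groth.Statements.S0238
import Groth.Agent.EtSh.TopInv
import Groth.Agent.S0118
import Groth.Agent.S0283
import Groth.Agent.FlatBasics.Thickening
import Groth.Agent.FEtLib.Basic

set_option autoImplicit false
universe u
open Pi1

namespace Groth.Agent.S0238

open AlgebraicGeometry CategoryTheory CategoryTheory.Limits in
/-- For a thickening, i.e. a closed immersion which is surjective on points, pulling back finite etale
covers is an equivalence of categories. -/
theorem result {X X' : Scheme.{u}} (i : X ⟶ X') [IsClosedImmersion i] [Surjective i] :
    (FEt.restrict i).IsEquivalence := by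
  haveI : UniversallyInjective i := inferInstance
  haveI : IsIntegralHom i := inferInstance
  haveI : (FEt.restrict i).Full := (Groth.Agent.S0283.result i).1
  haveI : (FEt.restrict i).Faithful := (Groth.Agent.S0283.result i).2
  haveI : (FEt.restrict i).EssSurj := ⟨fun E => by
    haveI := Groth.Agent.S0118.result i
    let E' : X.Etale := MorphismProperty.Over.mk ⊤ E.hom E.prop.2
    let V := (EtCoh.bc i).objPreimage E'
    let φ : (EtCoh.bc i).obj V ≅ E' := (EtCoh.bc i).objObjPreimageIso E'
    let v : V.left ⟶ X' := V.hom
    haveI : Etale v := V.prop
    let e : pullback v i ⟶ E.left := φ.hom.left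
    haveI : IsIso e := ⟨(φ.inv.left : E.left ⟶ pullback v i),
      congrArg (fun m => m.left) φ.hom_inv_id, congrArg (fun m => m.left) φ.inv_hom_id⟩
    have he : e ≫ E.hom = pullback.snd v i := MorphismProperty.Over.w φ.hom
    haveI : IsFinite (pullback.snd v i) := by rw [← he]; infer_instance
    let j := pullback.fst v i
    haveI : IsClosedImmersion j := MorphismProperty.of_isPullback (P := @IsClosedImmersion)
      (IsPullback.of_hasPullback v i).flip ‹IsClosedImmersion i›
    haveI : Surjective j := MorphismProperty.of_isPullback (P := @Surjective)
      (IsPullback.of_hasPullback v i).flip ‹Surjective i›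
    haveI : IsFinite (j ≫ v) := by rw [pullback.condition]; infer_instance
    haveI : UniversallyClosed v := UniversallyClosed.of_comp_surjective j v
    haveI : QuasiCompact v := FlatBasics.quasiCompact_of_comp_surjective j v
    haveI : IsSeparated v := by
      let m := pullback.map (j ≫ v) (j ≫ v) v v j j (𝟙 X') (by simp) (by simp)
      haveI : UniversallyClosed j := inferInstance
      haveI : UniversallyClosed m :=
        MorphismProperty.pullbackMap (P := @UniversallyClosed) (f := j ≫ v) (g := j ≫ v) (f' := v)
          (g' := v) ‹UniversallyClosed j› ‹UniversallyClosed j› rfl rfl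
      have heq : j ≫ pullback.diagonal v = pullback.diagonal (j ≫ v) ≫ m := by
        apply pullback.hom_ext
        · simp only [m, Category.assoc, pullback.map, pullback.lift_fst, pullback.diagonal_fst_assoc,
            pullback.diagonal_fst, Category.comp_id]
        · simp only [m, Category.assoc, pullback.map, pullback.lift_snd, pullback.diagonal_snd_assoc,
            pullback.diagonal_snd, Category.comp_id]
      haveI : UniversallyClosed (j ≫ pullback.diagonal v) := by rw [heq]; infer_instance
      haveI := UniversallyClosed.of_comp_surjective j (pullback.diagonal v)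
      exact ⟨IsClosedImmersion.of_isPreimmersion _ ((pullback.diagonal v).isClosedMap.isClosed_range)⟩
    haveI : IsProper v := { }
    haveI : LocallyQuasiFinite v := by
      refine HasRingHomProperty.iff_appLE.2 fun U V h => ?_
      have := HasRingHomProperty.appLE (P := @Etale) v ‹_› U V h
      algebraize [(v.appLE U.1 V.1 h).hom]
      change Algebra.QuasiFinite _ _
      infer_instance
    haveI : IsFinite v := IsFinite.of_isProper_of_locallyQuasiFinite v
    exact ⟨FEtLib.mk v, ⟨MorphismProperty.Over.isoMk (@asIso _ _ _ _ e ‹IsIso e›) he⟩⟩⟩
  exact {}

end Groth.Agent.S0238
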