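import Groth.Statements.S0249
-- import your own Groth.Agent.* helpers here

set_option autoImplicit false
universe u
open Pi1

namespace Groth.Agent.S0249

open AlgebraicGeometry CategoryTheory CategoryTheory.Limits in
/-- Let A be a Noetherian local ring of dimension at least 1 and f an element of its maximal ideal. Then
some prime ideal of height exactly 1 contains f. -/
theorem result (A : Type u) [CommRing A] [IsNoetherianRing A] [IsLocalRing A]
    (h : (1 : WithBot ℕ∞) ≤ ringKrullDim A) (f : A) (hf : f ∈ IsLocalRing.maximalIdeal A) :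
    ∃ p : Ideal A, p.IsPrime ∧ f ∈ p ∧ p.height = 1 := by
  classical
  have hfin : (minimalPrimes A).Finite := minimalPrimes.finite_of_isNoetherianRing A
  set m := IsLocalRing.maximalIdeal A
  let S : Finset (Ideal A) := hfin.toFinset.filter (fun P => f ∈ P)
  let T : Finset (Ideal A) := hfin.toFinset.filter (fun P => f ∉ P)
  let J : Ideal A := m ⊓ T.inf id
  have hprime : ∀ P ∈ minimalPrimes A, P.IsPrime := fun P hP => hP.1.1
  have hmP : ∀ P ∈ minimalPrimes A, ¬ m ≤ P := by
    intro P hP hle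
    have : (m.height : WithBot ℕ∞) = 0 := by
      have hPm : P = m := le_antisymm (IsLocalRing.le_maximalIdeal (hprime P hP).ne_top) hle
      rw [hPm] at hP
      rw [Ideal.height_eq_zero_iff.mpr hP]; rfl
    rw [IsLocalRing.maximalIdeal_height_eq_ringKrullDim] at this
    exact absurd (this ▸ h) (by simp)
  have hnot : ¬ (J : Set A) ⊆ ⋃ P ∈ (S : Set (Ideal A)), (P : Set A) := by
    rw [Ideal.subset_union_prime ⊤ ⊤ (fun P hP _ _ => hprime P (by simp [S] at hP; exact hP.1))]
    rintro ⟨P, hPS, hJP⟩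
    simp only [S, Finset.mem_filter, Set.Finite.mem_toFinset] at hPS
    have hPp := hprime P hPS.1
    rcases (Ideal.IsPrime.inf_le hPp).mp hJP with h1 | h1
    · exact hmP P hPS.1 h1
    · obtain ⟨Q, hQT, hQP⟩ := (Ideal.IsPrime.inf_le' hPp).mp h1
      simp only [T, Finset.mem_filter, Set.Finite.mem_toFinset] at hQT
      exact hQT.2 (hPS.1.2 hQT.1.1 hQP hPS.2)
  obtain ⟨g, hgJ, hgS⟩ := Set.not_subset.mp hnot
  have hgm : g ∈ m := hgJ.1
  have hgT : ∀ P ∈ T, g ∈ P := fun P hP => (Finset.inf_le hP : T.inf id ≤ P) hgJ.2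
  have havoid : ∀ P ∈ minimalPrimes A, f + g ∉ P := by
    intro P hP hmem
    by_cases hfP : f ∈ P
    · exact hgS (Set.mem_biUnion (x := P) (by simp [S, hfP]; exact hP) ((Ideal.add_mem_iff_right _ hfP).mp hmem))
    · exact hfP ((Ideal.add_mem_iff_left _ (hgT P (by simp [T, hP, hfP]))).mp hmem)
  have hfg : IsNilpotent (f * g) := by
    rw [← mem_nilradical, nilradical, show (0 : Ideal A) = ⊥ from rfl, ← Ideal.sInf_minimalPrimes, Submodule.mem_sInf]
    intro (P : Ideal A) hP
    by_cases hfP : f ∈ P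
    · exact P.mul_mem_right _ hfP
    · exact P.mul_mem_left _ (hgT P (by simp [T]; exact ⟨hP, hfP⟩))
  have hne : Ideal.span {f + g} ≠ ⊤ := by
    intro htop
    exact (IsLocalRing.maximalIdeal.isMaximal A).ne_top (top_le_iff.mp (htop ▸ (Ideal.span_singleton_le_iff_mem _).mpr (add_mem hf hgm)))
  obtain ⟨p, hp⟩ := (Ideal.span {f + g}).nonempty_minimalPrimes hne
  have hpp := hp.1.1
  have hsum : f + g ∈ p := hp.1.2 (Ideal.mem_span_singleton_self _)
  refine ⟨p, hpp, ?_, ?_⟩
  · obtain ⟨n, hn⟩ := hfg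
    rcases hpp.mem_or_mem (hpp.mem_of_pow_mem n (hn ▸ p.zero_mem)) with h1 | h1
    · exact h1
    · exact (Ideal.add_mem_iff_left _ h1).mp hsum
  · refine le_antisymm (Ideal.height_le_one_of_isPrincipal_of_mem_minimalPrimes _ p hp) ?_
    rw [ENat.one_le_iff_ne_zero]
    intro h0
    exact havoid p (Ideal.height_eq_zero_iff.mp h0) hsum

end Groth.Agent.S0249
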