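import Groth.Statements.S0251
import Groth.Agent.PurityReg.Section
import Groth.Agent.PurityReg.Scheme
import Groth.Agent.MvPSLib.Basic
import Mathlib

set_option autoImplicit false
universe u
open Pi1

namespace Groth.Agent.S0251

open MvPowerSeries IsLocalRing Groth.Agent.PurityReg Groth.Agent.FSAdic in
theorem pure_powerSeries (A : Type u) [CommRing A] [IsNoetherianRing A] [IsLocalRing A]
    (hA : (2 : ℕ∞) ≤ LocCoh.depth A A) (d : ℕ) (hd : 1 ≤ d) :
    (2 : ℕ∞) ≤ LocCoh.depth (MvPowerSeries (Fin d) A) (MvPowerSeries (Fin d) A) ∧ Pure (MvPowerSeries (Fin d) A) := by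
  classical
  let R := MvPowerSeries (Fin d) A
  haveI : IsNoetherianRing R := inferInstance
  haveI : IsLocalHom (algebraMap A R) := ⟨fun a ha => by
    have h := ha.map (constantCoeff : R →+* A)
    rwa [MvPowerSeries.algebraMap_apply, constantCoeff_C, Algebra.algebraMap_self_apply] at h⟩
  haveI : Module.Flat A R := by
    let P := MvPolynomial (Fin d) A
    let e := (MvPowerSeries.toAdicCompletionAlgEquiv (Fin d) A).restrictScalars A
    haveI : Module.Flat A (AdicCompletion (MvPolynomial.idealOfVars (Fin d) A) P) :=
      Module.Flat.trans A P _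
    exact Module.Flat.of_linearEquiv e.toLinearEquiv
  obtain ⟨x, y, hx, hy, hxy⟩ := exists_regPair hA
  have hflat : ∀ k, Module.Flat A (R ⧸ augIdeal A d ^ k) := fun k => by
    let S := {e : Fin d →₀ ℕ // Finsupp.degree e < k}
    let L : R →ₗ[A] (S → A) := LinearMap.pi fun e => coeff e.1
    have hker : LinearMap.ker L = (augIdeal A d ^ k).restrictScalars A := by
      ext p
      rw [LinearMap.mem_ker, Submodule.restrictScalars_mem, Groth.Agent.MvPSLib.mem_augIdeal_pow_iff]
      exact ⟨fun h e he => congrFun h ⟨e, he⟩, fun h => funext fun e => h e.1 e.2⟩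
    have hsurj : Function.Surjective L := fun g => by
      let q : R := fun e => if h : Finsupp.degree e < k then g ⟨e, h⟩ else 0
      refine ⟨q, funext fun e => ?_⟩
      show coeff e.1 q = g e
      rw [coeff_apply]
      exact dif_pos e.2
    haveI : Finite S := ((Finsupp.finite_of_degree_le (σ := Fin d) k).subset (s := _) (t := {e | Finsupp.degree e < k}) (fun e he => le_of_lt (α := ℕ) he)).to_subtype
    let ε : (R ⧸ augIdeal A d ^ k) ≃ₗ[A] (S → A) :=
      (Submodule.Quotient.restrictScalarsEquiv A (augIdeal A d ^ k)).symm ≪≫ₗ Submodule.quotEquivOfEq _ _ hker.symm ≪≫ₗ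
        L.quotKerEquivOfSurjective hsurj
    exact Module.Flat.of_linearEquiv ε
  letI : Algebra R A := (constantCoeff : R →+* A).toAlgebra
  haveI : IsScalarTower A R A := IsScalarTower.of_algebraMap_eq fun a => by
    show a = constantCoeff (algebraMap A R a)
    rw [MvPowerSeries.algebraMap_apply, constantCoeff_C, Algebra.algebraMap_self_apply]
  let res : R →+* MvPowerSeries (Fin d) (ResidueField A) := MvPowerSeries.map (residue A)
  haveI : IsDomain (MvPowerSeries (Fin d) (ResidueField A)) := NoZeroDivisors.to_isDomain _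
  haveI : (RingHom.ker res).IsPrime := RingHom.ker_isPrime res
  have hPm : RingHom.ker res ≠ maximalIdeal R := fun h => by
    have hX : (X ⟨0, hd⟩ : R) ∈ maximalIdeal R := fun hu => by
      have h0 := MvPowerSeries.isUnit_iff_constantCoeff.1 hu
      rw [constantCoeff_X] at h0
      exact not_isUnit_zero h0
    rw [← h, RingHom.mem_ker] at hX
    have hc := congrArg (coeff (Finsupp.single (⟨0, hd⟩ : Fin d) 1)) hX
    rw [map_zero, coeff_map, coeff_X, if_pos rfl, map_one] at hc
    exact one_ne_zero hc
  have hP : (maximalIdeal A).map (algebraMap A R) ≤ RingHom.ker res := Ideal.map_le_iff_le_comap.2 fun a ha => by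
    show res (algebraMap A R a) = 0
    rw [MvPowerSeries.algebraMap_apply, Algebra.algebraMap_self_apply]
    show MvPowerSeries.map (residue A) (C a) = 0
    rw [map_C, (residue_eq_zero_iff a).2 ha, map_zero]
  refine ⟨(hxy.map R).two_le_depth (fun hu => hx (isUnit_of_map_unit _ x hu)) (fun hu => hy (isUnit_of_map_unit _ y hu)), ?_⟩
  exact pure_of_section (augIdeal A d) hx hy hxy hflat rfl _ hPm hP



open AlgebraicGeometry CategoryTheory CategoryTheory.Limits in
/-- If A is a Noetherian local ring of depth at least 2 and d is at least 1, then purity holds for the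
local ring of formal power series in d variables over A. -/
theorem result (A : Type u) [CommRing A] [IsNoetherianRing A] [IsLocalRing A] (hA : (2 : ℕ∞) ≤ LocCoh.depth A A)
    (d : ℕ) (hd : 1 ≤ d) : FEt.PurityHolds (MvPowerSeries (Fin d) A) := by
  obtain ⟨h1, h2⟩ := pure_powerSeries A hA d hd
  exact Groth.Agent.PurityReg.purityHolds_of_pure h1 h2

end Groth.Agent.S0251
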