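import Groth.Statements.S0252
import Groth.Agent.FEtLib.Clopen
import Groth.Agent.FEtLib.Colimits
import Groth.Agent.Spectral.Components

set_option autoImplicit false
universe u
open Pi1

namespace Groth.Agent.S0252

open AlgebraicGeometry CategoryTheory CategoryTheory.Limits

theorem nonempty_preimage {X Y : Scheme.{u}} (f : X ⟶ Y) (h : (FEt.restrict f).IsEquivalence)
    {V : Set Y} (hV : IsClopen V) (hne : V.Nonempty) : (f ⁻¹' V).Nonempty := by
  by_contra hempty
  obtain ⟨A, j, -, hj⟩ := FEtLib.exists_clopenRange hV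
  let φ : FEtLib.emptyObj Y ⟶ A := (FEtLib.isInitialEmptyObj Y).to A
  haveI : IsEmpty ((FEt.restrict f).obj (FEtLib.emptyObj Y)).left := ⟨fun p =>
    IsEmpty.false (α := ↥(∅ : Scheme.{u})) (pullback.fst (FEtLib.emptyObj Y).hom f p)⟩
  haveI : IsEmpty ((FEt.restrict f).obj A).left := ⟨fun p => hempty
    ⟨pullback.snd A.hom f p, by
      show f (pullback.snd A.hom f p) ∈ V
      exact hj ▸ ⟨pullback.fst A.hom f p, congr($(pullback.condition (f := A.hom) (g := f)) p)⟩⟩⟩
  haveI : IsIso ((FEt.restrict f).map φ) := FEtLib.isIso_of_fiber_all _ fun Ω _ _ ξ =>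
    ⟨fun s => (IsEmpty.false (α := ((FEt.restrict f).obj (FEtLib.emptyObj Y)).left) (FEtLib.pt s.1)).elim,
     fun s => (IsEmpty.false (α := ((FEt.restrict f).obj A).left) (FEtLib.pt s.1)).elim⟩
  haveI : IsIso φ := isIso_of_reflects_iso φ (FEt.restrict f)
  obtain ⟨y, hy⟩ := hne
  obtain ⟨a, -⟩ : y ∈ Set.range A.hom := hj ▸ hy
  exact IsEmpty.false (α := ↥(∅ : Scheme.{u})) ((inv φ).left a)

theorem exists_preimage_eq {X Y : Scheme.{u}} (f : X ⟶ Y) (h : (FEt.restrict f).IsEquivalence)
    {W : Set X} (hW : IsClopen W) : ∃ V : Set Y, IsClopen V ∧ f ⁻¹' V = W := by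
  obtain ⟨B, -, -, hB⟩ := FEtLib.exists_clopenRange hW
  let Z := (FEt.restrict f).objPreimage B
  let e : (FEt.restrict f).obj Z ≅ B := (FEt.restrict f).objObjPreimageIso B
  refine ⟨Z.hom '' Set.univ, FEtLib.isClopen_image Z.hom isClopen_univ, ?_⟩
  rw [Set.image_univ, ← hB]
  ext x
  constructor
  · rintro ⟨z, hz⟩
    obtain ⟨p, -, hp⟩ := Scheme.Pullback.exists_preimage_pullback z x hz
    refine ⟨e.hom.left p, ?_⟩
    exact (congr($(FEtLib.w e.hom) p)).trans hp
  · rintro ⟨b, rfl⟩
    refine ⟨pullback.fst Z.hom f (e.inv.left b), ?_⟩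
    exact (congr($(pullback.condition (f := Z.hom) (g := f)) (e.inv.left b))).trans
      (congrArg f congr($(FEtLib.w e.inv) b))


open AlgebraicGeometry CategoryTheory CategoryTheory.Limits in
/-- Let f be a morphism between quasi-compact quasi-separated schemes such that base change of finite
etale covers along f is an equivalence. Then the induced map on connected components is a
homeomorphism. -/
theorem result {X Y : Scheme.{u}} [CompactSpace X] [QuasiSeparatedSpace X] [CompactSpace Y] [QuasiSeparatedSpace Y]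
    (f : X ⟶ Y) (h : (FEt.restrict f).IsEquivalence) :
    IsHomeomorph f.continuous.connectedComponentsMap := by
  haveI := FEtLib.spectralSpace (X := X)
  haveI := FEtLib.spectralSpace (X := Y)
  haveI := FEtLib.t2Space_connectedComponents (T := Y)
  have hcont : Continuous f.continuous.connectedComponentsMap :=
    Continuous.connectedComponentsMap_continuous _
  refine isHomeomorph_iff_continuous_bijective.mpr ⟨hcont, ?_, ?_⟩
  · intro a b hab
    obtain ⟨x, rfl⟩ := ConnectedComponents.surjective_coe a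
    obtain ⟨x', rfl⟩ := ConnectedComponents.surjective_coe b
    replace hab : (ConnectedComponents.mk (f x)) = ConnectedComponents.mk (f x') := hab
    rw [ConnectedComponents.coe_eq_coe', Spectral.mem_connectedComponent_iff] at hab ⊢
    intro W hW hxW
    obtain ⟨V, hV, rfl⟩ := exists_preimage_eq f h hW
    exact hab V hV hxW
  · intro c
    obtain ⟨y, rfl⟩ := ConnectedComponents.surjective_coe c
    let ι := {V : Set Y // IsClopen V ∧ y ∈ V}
    haveI : Nonempty ι := ⟨⟨Set.univ, isClopen_univ, trivial⟩⟩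
    obtain ⟨x, hx⟩ := IsCompact.nonempty_iInter_of_directed_nonempty_isCompact_isClosed
      (fun i : ι => f ⁻¹' i.1) (fun i j => ⟨⟨i.1 ∩ j.1, i.2.1.inter j.2.1, i.2.2, j.2.2⟩,
        Set.preimage_mono Set.inter_subset_left, Set.preimage_mono Set.inter_subset_right⟩)
      (fun i => nonempty_preimage f h i.2.1 ⟨y, i.2.2⟩)
      (fun i => (i.2.1.1.preimage f.continuous).isCompact) (fun i => i.2.1.1.preimage f.continuous)
    refine ⟨ConnectedComponents.mk x, ?_⟩
    show ConnectedComponents.mk (f x) = ConnectedComponents.mk y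
    rw [ConnectedComponents.coe_eq_coe', Spectral.mem_connectedComponent_iff]
    intro V hV hyV
    exact (Set.mem_iInter.mp hx ⟨V, hV, hyV⟩)

end Groth.Agent.S0252
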