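import Groth.Statements.S0253
-- import your own Groth.Agent.* helpers here

set_option autoImplicit false
universe u
open Pi1

namespace Groth.Agent.S0253

open AlgebraicGeometry CategoryTheory CategoryTheory.Limits in
/-- Let A be an integrally closed domain whose fraction field is separably closed. Then the residue
field at any nonzero prime ideal of A is algebraically closed. -/
theorem result (A : Type u) [CommRing A] [IsDomain A] [IsIntegrallyClosed A] [IsSepClosed (FractionRing A)]
    (p : Ideal A) [p.IsPrime] (hp : p ≠ ⊥) : IsAlgClosed p.ResidueField := by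
  let B := Localization.AtPrime p
  let K := FractionRing A
  letI : Field K := inferInstance
  letI algBK : Algebra B K := (IsLocalization.lift (M := p.primeCompl) (g := algebraMap A K)
    (fun y => IsUnit.mk0 _ ((map_ne_zero_iff _ (IsFractionRing.injective A K)).mpr fun h => y.2 (by rw [h]; exact p.zero_mem)))).toAlgebra
  haveI : IsScalarTower A B K := IsScalarTower.of_algebraMap_eq fun a => (IsLocalization.lift_eq _ a).symm
  haveI : IsDomain B := IsLocalization.isDomain_localization p.primeCompl_le_nonZeroDivisors
  haveI : IsFractionRing B K := IsFractionRing.isFractionRing_of_isDomain_of_isLocalization p.primeCompl B K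
  haveI : IsIntegrallyClosed B := isIntegrallyClosed_of_isLocalization B p.primeCompl p.primeCompl_le_nonZeroDivisors
  let m := IsLocalRing.maximalIdeal B
  have hm : m ≠ ⊥ := by
    obtain ⟨a, hap, ha⟩ := Submodule.exists_mem_ne_zero_of_ne_bot hp
    refine fun h => ha (IsLocalization.injective B p.primeCompl_le_nonZeroDivisors ?_)
    rw [map_zero]
    exact (Submodule.mem_bot B).mp (h ▸ (IsLocalization.AtPrime.to_map_mem_maximal_iff B p a).mpr hap)
  have hminf : (m : Set B).Infinite := by
    obtain ⟨t, ht, ht0⟩ := Submodule.exists_mem_ne_zero_of_ne_bot hm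
    haveI : Infinite B := by
      rcases finite_or_infinite B with h | h
      · exact absurd (IsLocalRing.isField_iff_maximalIdeal_eq.mp (Finite.isField_of_domain B)) hm
      · exact h
    exact Set.infinite_of_injective_forall_mem (f := fun b : B => b * t) (mul_left_injective₀ ht0)
      fun b => Ideal.mul_mem_left _ b ht
  refine IsAlgClosed.of_exists_root _ fun q hqm hqi => ?_
  have hqd : 0 < q.natDegree := hqi.natDegree_pos
  obtain ⟨f, hfq, hfd, hfm⟩ := Polynomial.lifts_and_natDegree_eq_and_monic
    (f := IsLocalRing.residue B) (Polynomial.map_surjective _ IsLocalRing.residue_surjective q) hqm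
  rcases Nat.lt_or_ge f.natDegree 2 with hsmall | hbig
  · exact ⟨-q.coeff 0, by
      have h1 : q = Polynomial.X + Polynomial.C (q.coeff 0) := by
        conv_lhs => rw [Polynomial.eq_X_add_C_of_natDegree_le_one (p := q) (by omega)]
        rw [show q.coeff 1 = 1 from by
          have := hqm.coeff_natDegree; rwa [show q.natDegree = 1 by omega] at this, map_one, one_mul]
      conv_lhs => rw [h1]
      simp⟩
  classical
  let g : Polynomial K := f.map (algebraMap B K)
  have hBK : Function.Injective (algebraMap B K) := IsFractionRing.injective B K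
  obtain ⟨d, hdm, hd⟩ : ∃ d ∈ m, d ≠ -f.coeff 0 := by
    obtain ⟨d, hd, hd'⟩ := (hminf.sdiff (Set.finite_singleton (-f.coeff 0))).nonempty
    exact ⟨d, hd, hd'⟩
  let Kbar := AlgebraicClosure K
  let φ : B →+* Kbar := (algebraMap K Kbar).comp (algebraMap B K)
  have hφ : Function.Injective φ := (algebraMap K Kbar).injective.comp hBK
  let G : Polynomial Kbar := Polynomial.X * (Polynomial.derivative (f.map φ)) - f.map φ - Polynomial.C (φ d)
  have hG : G ≠ 0 := fun h => hd (hφ (by
    have := congrArg (fun r : Polynomial Kbar => r.coeff 0) h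
    simp only [G, Polynomial.coeff_sub, Polynomial.coeff_X_mul_zero, Polynomial.coeff_map, Polynomial.coeff_C_zero,
      Polynomial.coeff_zero] at this
    rw [map_neg]; linear_combination -this))
  let bad : Set B := φ ⁻¹' ((fun r : Kbar => -(Polynomial.derivative (f.map φ)).eval r) '' {r | G.IsRoot r})
  have hbad : bad.Finite := ((Polynomial.finite_setOf_isRoot hG).image _).preimage hφ.injOn
  obtain ⟨c, hcm, hc⟩ := (hminf.sdiff hbad).nonempty
  let f' : Polynomial B := f + (Polynomial.C c * Polynomial.X + Polynomial.C d)
  have hlow : (Polynomial.C c * Polynomial.X + Polynomial.C d).degree < f.degree := by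
    refine Polynomial.degree_linear_le.trans_lt ?_
    rw [Polynomial.degree_eq_natDegree hfm.ne_zero]
    exact_mod_cast hbig
  have hf'm : f'.Monic := hfm.add_of_left hlow
  have hsep : (f'.map φ).Separable := by
    refine EuclideanDomain.isCoprime_of_dvd ?_ fun z hz hz0 hzx hzy => ?_
    · exact fun h => absurd h.1 (Polynomial.map_monic_ne_zero hf'm)
    · obtain ⟨r, hr0⟩ := IsAlgClosed.exists_root z (fun h => hz (Polynomial.isUnit_iff_degree_eq_zero.mpr h))
      have hr := Polynomial.eval_eq_zero_of_dvd_of_eval_eq_zero hzy hr0
      have hr' := Polynomial.eval_eq_zero_of_dvd_of_eval_eq_zero hzx hr0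
      simp only [f', Polynomial.map_add, Polynomial.map_mul, Polynomial.map_C, Polynomial.map_X,
        Polynomial.derivative_add, Polynomial.derivative_mul, Polynomial.derivative_C, zero_mul, zero_add,
        Polynomial.derivative_X, mul_one, add_zero, Polynomial.IsRoot, Polynomial.eval_add, Polynomial.eval_mul,
        Polynomial.eval_C, Polynomial.eval_X] at hr hr'
      refine hc ⟨r, ?_, ?_⟩
      · simp only [Set.mem_ofPred_eq, G, Polynomial.IsRoot, Polynomial.eval_sub, Polynomial.eval_mul,
          Polynomial.eval_X, Polynomial.eval_C]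
        linear_combination r * hr - hr'
      · linear_combination -hr
  have hsepK : (f'.map (algebraMap B K)).Separable := by
    rw [← Polynomial.separable_map (algebraMap K Kbar), Polynomial.map_map]; exact hsep
  obtain ⟨r, hr⟩ := IsSepClosed.exists_root (f'.map (algebraMap B K)) (by
    rw [Polynomial.degree_map_eq_of_injective hBK, show f'.degree = f.degree from Polynomial.degree_add_eq_left_of_degree_lt hlow,
      Polynomial.degree_eq_natDegree hfm.ne_zero]
    exact_mod_cast (by omega : f.natDegree ≠ 0)) hsepK
  obtain ⟨b, rfl⟩ := IsIntegrallyClosed.algebraMap_eq_of_integral (R := B)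
    (show IsIntegral B r from ⟨f', hf'm, (Polynomial.eval₂_eq_eval_map _).trans hr⟩)
  refine ⟨IsLocalRing.residue B b, ?_⟩
  have hb : f'.eval b = 0 := hBK (by rw [map_zero, ← hr.eq_zero, Polynomial.eval_map_apply])
  have h2 := congrArg (IsLocalRing.residue B) hb
  rw [map_zero, ← Polynomial.eval_map_apply] at h2
  simp only [f', Polynomial.map_add, Polynomial.map_mul, Polynomial.map_C,
    (IsLocalRing.residue_eq_zero_iff _).mpr hcm, (IsLocalRing.residue_eq_zero_iff _).mpr hdm,
    map_zero, zero_mul, add_zero, hfq] at h2
  exact h2

end Groth.Agent.S0253
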