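import Groth.Statements.S0254
import Mathlib.Algebra.Polynomial.Eval.Irreducible
-- import your own Groth.Agent.* helpers here

set_option autoImplicit false
universe u
open Pi1

namespace Groth.Agent.S0254

/-- A simple root modulo the maximal ideal lifts, by separable closedness of the fraction field. -/
theorem exists_root_of_simple (A : Type u) [CommRing A] [IsDomain A] [IsLocalRing A] [IsIntegrallyClosed A]
    [IsSepClosed (FractionRing A)] : ∀ (n : ℕ) (f : Polynomial A), f.natDegree = n → f.Monic → ∀ a₀ : A,
    f.eval a₀ ∈ IsLocalRing.maximalIdeal A → IsUnit (f.derivative.eval a₀) →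
      ∃ a, f.IsRoot a ∧ a - a₀ ∈ IsLocalRing.maximalIdeal A := by
  intro n
  induction n using Nat.strong_induction_on with
  | _ n ih =>
    intro f hn hf a₀ h0 h1
    have hne : f ≠ 1 := fun h => by simp [h] at h1
    by_cases hirr : Irreducible f
    · let K := FractionRing A
      have hi : Irreducible (f.map (algebraMap A K)) := hf.irreducible_iff_irreducible_map_fraction_map.mp hirr
      have hs : (f.map (algebraMap A K)).Separable := by
        rw [Polynomial.separable_iff_derivative_ne_zero hi, Polynomial.derivative_map,
          Ne, Polynomial.map_eq_zero_iff (IsFractionRing.injective A K)]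
        intro h; simp [h] at h1
      obtain ⟨r, hr⟩ := IsSepClosed.exists_root _ hi.degree_pos.ne' hs
      have hd : (f.map (algebraMap A K)).natDegree = 1 :=
        Polynomial.natDegree_eq_of_degree_eq_some (Polynomial.degree_eq_one_of_irreducible_of_root hi hr)
      rw [hf.natDegree_map] at hd
      have hf1 := hf.eq_X_add_C hd
      rw [hf1] at h0 ⊢
      simp only [Polynomial.eval_add, Polynomial.eval_X, Polynomial.eval_C] at h0
      exact ⟨-f.coeff 0, by simp, by simpa [sub_eq_add_neg, add_comm] using neg_mem h0⟩
    · obtain ⟨g, h, hg, hh, hgh, hg0, hh0⟩ : ∃ g h : Polynomial A, g.Monic ∧ h.Monic ∧ g * h = f ∧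
          g.natDegree ≠ 0 ∧ h.natDegree ≠ 0 := by
        rw [hf.irreducible_iff_natDegree] at hirr
        push Not at hirr
        exact hirr hne
      have hsum : g.natDegree + h.natDegree = n := by rw [← hn, ← hgh, hg.natDegree_mul hh]
      rw [← hgh, Polynomial.eval_mul] at h0
      rw [← hgh, Polynomial.derivative_mul, Polynomial.eval_add, Polynomial.eval_mul, Polynomial.eval_mul] at h1
      have hunit : ∀ {x y : A}, x ∈ IsLocalRing.maximalIdeal A → IsUnit (y + x) → IsUnit y := fun {x y} hx hu => by
        by_contra hy
        exact ((IsLocalRing.mem_maximalIdeal _).mp (Ideal.add_mem _ ((IsLocalRing.mem_maximalIdeal _).mpr hy) hx)) hu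
      rcases (IsLocalRing.maximalIdeal.isMaximal A).isPrime.mem_or_mem h0 with hga | hha
      · obtain ⟨a, ha, haa⟩ := ih g.natDegree (by omega) g rfl hg a₀ hga
          (isUnit_of_mul_isUnit_left (hunit (Ideal.mul_mem_right _ _ hga) h1))
        exact ⟨a, by rw [← hgh, Polynomial.IsRoot, Polynomial.eval_mul, ha.eq_zero, zero_mul], haa⟩
      · obtain ⟨a, ha, haa⟩ := ih h.natDegree (by omega) h rfl hh a₀ hha
          (isUnit_of_mul_isUnit_right (hunit (Ideal.mul_mem_left _ _ hha) (by rw [add_comm]; exact h1)))
        exact ⟨a, by rw [← hgh, Polynomial.IsRoot, Polynomial.eval_mul, ha.eq_zero, mul_zero], haa⟩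



open AlgebraicGeometry CategoryTheory CategoryTheory.Limits in
/-- An integrally closed local domain whose fraction field is separably closed is henselian with
separably closed residue field (i.e. strictly henselian). -/
theorem result (A : Type u) [CommRing A] [IsDomain A] [IsLocalRing A] [IsIntegrallyClosed A]
    [IsSepClosed (FractionRing A)] :
    HenselianLocalRing A ∧ IsSepClosed (IsLocalRing.ResidueField A) := by
  refine ⟨{ is_henselian := fun f hf a₀ h0 h1 => exists_root_of_simple A _ f rfl hf a₀ h0 h1 }, ?_⟩
  let k := IsLocalRing.ResidueField A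
  refine IsSepClosed.of_exists_root k fun q hqm hqi hqs => ?_
  obtain ⟨f, hfq, hfd, hfm⟩ := Polynomial.lifts_and_natDegree_eq_and_monic
    (f := IsLocalRing.residue A) (Polynomial.map_surjective _ IsLocalRing.residue_surjective q) hqm
  let K := FractionRing A
  have hi : Irreducible f := by
    refine Polynomial.Monic.irreducible_of_irreducible_map (IsLocalRing.residue A) f hfm ?_
    rwa [hfq]
  have hiK := (hfm.irreducible_iff_irreducible_map_fraction_map (K := FractionRing A)).mp hi
  have hs : (f.map (algebraMap A (FractionRing A))).Separable := by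
    rw [Polynomial.separable_iff_derivative_ne_zero hiK, Polynomial.derivative_map, Ne,
      Polynomial.map_eq_zero_iff (IsFractionRing.injective A (FractionRing A))]
    intro h
    have := (Polynomial.separable_iff_derivative_ne_zero hqi).mp hqs
    rw [← hfq, Polynomial.derivative_map, h, Polynomial.map_zero] at this
    exact this rfl
  obtain ⟨r, hr⟩ := IsSepClosed.exists_root _ hiK.degree_pos.ne' hs
  have hd : (f.map (algebraMap A (FractionRing A))).natDegree = 1 :=
    Polynomial.natDegree_eq_of_degree_eq_some (Polynomial.degree_eq_one_of_irreducible_of_root hiK hr)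
  rw [hfm.natDegree_map, hfd] at hd
  exact ⟨-q.coeff 0, by conv_lhs => rw [hqm.eq_X_add_C hd]
                        simp⟩

end Groth.Agent.S0254
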