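import Groth.Statements.S0258
import Groth.Agent.FEtLib.Depth2

set_option autoImplicit false
universe u
open Pi1

namespace Groth.Agent.S0258

open AlgebraicGeometry CategoryTheory CategoryTheory.Limits in
/-- For a Noetherian local ring A of depth at least 2, the functor restricting finite étale covers of
Spec A to the punctured spectrum is fully faithful (full and faithful). The published statement
assumes instead that the punctured spectrum of the strict henselization of A is connected; depth at
least 2 is a sufficient condition for this, and the result is stated here under that hypothesis. -/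
theorem result (A : Type u) [CommRing A] [IsNoetherianRing A] [IsLocalRing A] (hA : (2 : ℕ∞) ≤ LocCoh.depth A A) :
    (FEt.restrict (FEt.puncturedSpec A).ι).Full ∧ (FEt.restrict (FEt.puncturedSpec A).ι).Faithful := by
  haveI : IsNoetherianRing (CommRingCat.of A) := ‹IsNoetherianRing A›
  refine FEtLib.full_faithful_of_depth2 _ fun z hz => ?_
  have hm : z.asIdeal = IsLocalRing.maximalIdeal A :=
    congrArg PrimeSpectrum.asIdeal (show z = IsLocalRing.closedPoint A from not_not.mp hz)
  obtain ⟨rs, hl, hmem, hr⟩ := (Depth.le_idealDepth_iff_exists
    (Depth.smul_top_ne_top_self (IsLocalRing.maximalIdeal.isMaximal _).ne_top) (n := 2)).mp hA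
  match rs, hl with
  | [a, b], _ =>
    let z' : PrimeSpectrum A := z
    let L := (AlgebraicGeometry.Spec.structureSheaf A).presheaf.stalk z'
    haveI : Module.Flat A L := IsLocalization.flat _ z'.asIdeal.primeCompl
    haveI : IsLocalRing L := IsLocalization.AtPrime.isLocalRing L z'.asIdeal
    show ∃ a b : L, a ∈ IsLocalRing.maximalIdeal L ∧ b ∈ IsLocalRing.maximalIdeal L ∧
      RingTheory.Sequence.IsWeaklyRegular L [a, b]
    refine ⟨algebraMap A _ a, algebraMap A _ b, ?_, ?_, RingTheory.Sequence.IsWeaklyRegular.of_flat hr⟩
    · exact (IsLocalization.AtPrime.to_map_mem_maximal_iff L z'.asIdeal a).mpr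
        ((hm : z'.asIdeal = _) ▸ hmem a (by simp))
    · exact (IsLocalization.AtPrime.to_map_mem_maximal_iff L z'.asIdeal b).mpr
        ((hm : z'.asIdeal = _) ▸ hmem b (by simp))

end Groth.Agent.S0258
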