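import Groth.Statements.S0263
import Groth.Agent.FEtLib.Depth2

set_option autoImplicit false
universe u
open Pi1

namespace Groth.Agent.S0263

open AlgebraicGeometry CategoryTheory CategoryTheory.Limits in
/-- Let A be a Noetherian local ring of depth at least 2 and V a finite étale cover of the punctured
spectrum of A which is isomorphic to the restriction of some finite étale cover of Spec A. Then the
ring of global sections Γ(V, O_V) is finite and étale over A, via the ring map A → Γ(V, O_V) induced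
by the composite V → Spec A. (Only this implication of the published statement is asserted here; its
converse is not.) -/
theorem result (A : Type u) [CommRing A] [IsNoetherianRing A] [IsLocalRing A] (hA : (2 : ℕ∞) ≤ LocCoh.depth A A)
    (V : FEt.Cat (FEt.puncturedSpec A : Scheme.{u}))
    (hV : ∃ Y : FEt.Cat (Spec (CommRingCat.of A)),
      Nonempty ((FEt.restrict (FEt.puncturedSpec A).ι).obj Y ≅ V)) :
    ((Scheme.ΓSpecIso (CommRingCat.of A)).inv ≫ (V.hom ≫ (FEt.puncturedSpec A).ι).appTop).hom.Finite ∧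
    ((Scheme.ΓSpecIso (CommRingCat.of A)).inv ≫ (V.hom ≫ (FEt.puncturedSpec A).ι).appTop).hom.Etale := by
  obtain ⟨Y, ⟨e⟩⟩ := hV
  let P := FEt.puncturedSpec A
  haveI : IsNoetherianRing (CommRingCat.of A) := ‹IsNoetherianRing A›
  have hP : FEtLib.HasRegSeq2 (Spec (CommRingCat.of A)) P := FEtLib.hasRegSeq2_spec P fun p hp => by
    have hp' : p = IsLocalRing.closedPoint A := not_not.mp hp
    subst hp'
    obtain ⟨rs, hl, hm, hr⟩ := (Depth.le_idealDepth_iff_exists
      (Depth.smul_top_ne_top_self (IsLocalRing.maximalIdeal.isMaximal A).ne_top) (n := 2)).mp hA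
    refine (Depth.le_idealDepth_iff_exists
      (Depth.smul_top_ne_top_self (IsLocalRing.maximalIdeal.isMaximal _).ne_top) (n := 2)).mpr
      ⟨rs.map (algebraMap A _), by simpa using hl, ?_, RingTheory.Sequence.IsWeaklyRegular.of_flat hr⟩
    intro r hr'
    obtain ⟨a, ha, rfl⟩ := List.mem_map.mp hr'
    exact (IsLocalization.AtPrime.to_map_mem_maximal_iff _ (IsLocalRing.closedPoint A).asIdeal a).mpr (hm a ha)
  let g : Y.left ⟶ Spec (CommRingCat.of A) := Y.hom
  haveI : IsFinite g := Y.prop.1
  haveI : Etale g := Y.prop.2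
  haveI : IsAffine Y.left := isAffine_of_isAffineHom g
  haveI : IsLocallyNoetherian Y.left := LocallyOfFiniteType.isLocallyNoetherian g
  haveI : CompactSpace Y.left := QuasiCompact.compactSpace_of_compactSpace g
  haveI : IsNoetherian Y.left := { }
  haveI : CompactSpace (g ⁻¹ᵁ P) := isCompact_iff_compactSpace.mp (TopologicalSpace.NoetherianSpace.isCompact _)
  haveI := (hP.preimage_of_flat g).res_bijective_appTop
  let e₁ : pullback g P.ι ≅ (g ⁻¹ᵁ P).toScheme := pullbackRestrictIsoRestrict g P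
  let i₀ : V.left ⟶ pullback g P.ι := e.inv.left
  haveI : IsIso i₀ := ⟨(e.hom.left : pullback g P.ι ⟶ V.left), congrArg (fun m => m.left) e.inv_hom_id,
    congrArg (fun m => m.left) e.hom_inv_id⟩
  have hi₀ : i₀ ≫ pullback.snd g P.ι = V.hom := FEtLib.w e.inv
  let a : V.left ⟶ (g ⁻¹ᵁ P).toScheme := i₀ ≫ e₁.hom
  haveI : IsIso a := inferInstanceAs (IsIso (i₀ ≫ e₁.hom))
  have hfac : V.hom ≫ P.ι = (a ≫ (g ⁻¹ᵁ P).ι) ≫ g := by
    rw [← hi₀]
    simp [a, e₁, pullback.condition]
  let v := (a ≫ (g ⁻¹ᵁ P).ι).appTop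
  haveI : IsIso v := by
    show IsIso (a ≫ (g ⁻¹ᵁ P).ι).appTop
    haveI : IsIso (Scheme.Hom.appTop a) := inferInstanceAs (IsIso (a.app ⊤))
    haveI : IsIso (Scheme.Hom.appTop (g ⁻¹ᵁ P).ι) := FEtLib.HasRegSeq2.res_bijective_appTop (hP.preimage_of_flat g)
    rw [Scheme.Hom.comp_appTop]; infer_instance
  have hbij : Function.Bijective v.hom := ConcreteCategory.bijective_of_isIso v
  have hsplit : (Scheme.ΓSpecIso (CommRingCat.of A)).inv ≫ (V.hom ≫ P.ι).appTop =
      (Scheme.ΓSpecIso (CommRingCat.of A)).inv ≫ g.appTop ≫ v := by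
    rw [hfac, Scheme.Hom.comp_appTop]
  rw [hsplit]
  have hbij' : Function.Bijective (Scheme.ΓSpecIso (CommRingCat.of A)).inv.hom :=
    ConcreteCategory.bijective_of_isIso _
  refine ⟨?_, ?_⟩
  · exact ((RingHom.Finite.of_surjective _ hbij.2).comp (g.finite_appTop)).comp
      (RingHom.Finite.of_surjective _ hbij'.2)
  · have he : g.appTop.hom.Etale := by
      have := g.etale_appLE (isAffineOpen_top _) (isAffineOpen_top Y.left) (le_top : (⊤ : Y.left.Opens) ≤ g ⁻¹ᵁ ⊤)
      rw [Scheme.Hom.appTop, Scheme.Hom.app_eq_appLE]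
      exact this
    exact RingHom.Etale.stableUnderComposition _ _
      (RingHom.Etale.of_bijective hbij') (RingHom.Etale.stableUnderComposition _ _ he (RingHom.Etale.of_bijective hbij))

end Groth.Agent.S0263
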