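import Groth.Statements.S0268
import Groth.Agent.FEtLib.FullCrit

set_option autoImplicit false
universe u
open Pi1

namespace Groth.Agent.S0268

open AlgebraicGeometry CategoryTheory CategoryTheory.Limits in
/-- Functor form of the surjectivity of pi_1(X) -> pi_1(Spec k): Let X be quasi-compact and
quasi-separated over a field k with X_{kbar} connected. Then the functor pulling back finite etale
k-schemes to X is full and faithful. -/
theorem result (k : Type u) [Field k] {X : Scheme.{u}} (f : X ⟶ Spec (CommRingCat.of k)) [CompactSpace X]
    [QuasiSeparatedSpace X]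
    [ConnectedSpace ↥(pullback f (Spec.map (CommRingCat.ofHom (algebraMap k (AlgebraicClosure k)))))] :
    (FEt.restrict f).Full ∧ (FEt.restrict f).Faithful := by
  let b := Spec.map (CommRingCat.ofHom (algebraMap k (AlgebraicClosure k)))
  haveI : Subsingleton ↥(Spec (CommRingCat.of k)) := inferInstanceAs (Subsingleton (PrimeSpectrum k))
  obtain ⟨a₀⟩ : Nonempty ↥(pullback f b) := inferInstance
  refine FEtLib.full_faithful_restrict f (fun W _ hne => ?_) fun Z W hW => ?_
  · obtain ⟨x, hx⟩ := hne
    exact ⟨x, hx, pullback.fst f b a₀, Subsingleton.elim _ _⟩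
  · let e := pullback.fst Z.hom f
    haveI : DiscreteTopology Z.left := FEtLib.discreteTopology_of_finite Z.hom
    have hfib : ∀ z, _root_.IsPreconnected (e ⁻¹' {z}) := fun z => by
      obtain ⟨s, hs⟩ := FEtLib.exists_fiber_point b Z z (@Subsingleton.elim ↥(Spec (CommRingCat.of k)) _ _ _)
      have hcond : (pullback.snd f b ≫ s.1) ≫ Z.hom = pullback.fst f b ≫ f := by
        rw [Category.assoc]
        exact (congrArg (pullback.snd f b ≫ ·) s.2).trans pullback.condition.symm
      let m : pullback f b ⟶ pullback Z.hom f :=
        pullback.lift (pullback.snd f b ≫ s.1) (pullback.fst f b) hcond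
      have hsq : IsPullback m (pullback.snd f b) e s.1 := by
        refine IsPullback.of_right ?_ (pullback.lift_fst _ _ _) (IsPullback.of_hasPullback Z.hom f).flip
        rw [pullback.lift_snd, show s.1 ≫ Z.hom = b from s.2]
        exact IsPullback.of_hasPullback f b
      have : e ⁻¹' {z} = Set.range m := by
        ext p
        constructor
        · intro hp
          obtain ⟨a, ha, -⟩ := Scheme.exists_preimage_of_isPullback hsq p (IsLocalRing.closedPoint _)
            ((Set.mem_singleton_iff.mp hp).trans hs.symm)
          exact ⟨a, ha⟩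
        · rintro ⟨a, rfl⟩
          refine Set.mem_singleton_iff.mpr ((congr($(pullback.lift_fst _ _ hcond) a)).trans ?_)
          exact (congrArg s.1 (Subsingleton.elim _ _)).trans hs
      rw [this, ← Set.image_univ]
      exact isPreconnected_univ.image _ m.continuous.continuousOn
    refine ⟨{z | (e ⁻¹' {z} ∩ W).Nonempty}, isClopen_discrete _, ?_⟩
    ext p
    exact ⟨fun hz => (hfib _).subset_isClopen hW hz rfl, fun hp => ⟨p, rfl, hp⟩⟩

end Groth.Agent.S0268
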