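import Groth.Statements.S0272
import Mathlib
import Groth.Agent.PurityTower.CI
import Groth.Agent.CMAux.FlatDepth

set_option autoImplicit false
universe u
open Pi1

namespace Groth.Agent.S0272

theorem purity_ci (A : Type u) [CommRing A] [IsNoetherianRing A] [IsLocalRing A] (B : Type u) [CommRing B]
    [IsRegularLocalRing B] (rs : List B) (hm : ∀ r ∈ rs, r ∈ IsLocalRing.maximalIdeal B)
    (hreg : RingTheory.Sequence.IsRegular B rs)
    (e : AdicCompletion (IsLocalRing.maximalIdeal A) A ≃+* B ⧸ Ideal.ofList rs)
    (hd : (3 : WithBot ℕ∞) ≤ ringKrullDim A) : FEt.PurityHolds A := by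
  obtain ⟨d, hdB⟩ := Groth.Agent.CAlgReg.exists_dim (R := B)
  haveI := e.isLocalRing
  haveI : IsNoetherianRing (AdicCompletion (IsLocalRing.maximalIdeal A) A) :=
    Groth.Agent.AdicNoeth.isNoetherianRing_adicCompletion _
  have hk : rs.length + 3 ≤ d := by
    have h1 := ringKrullDim_eq_of_ringEquiv e
    rw [Groth.Agent.CAlgCompl.ringKrullDim_adicCompletion] at h1
    rw [h1] at hd
    have h2 := ringKrullDim_add_length_eq_ringKrullDim_of_isRegular rs hreg
    rw [hdB] at h2
    obtain ⟨a, ha⟩ : ∃ a : ℕ, ringKrullDim (B ⧸ Ideal.ofList rs) = a :=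
      Groth.Agent.CAlgReg.exists_dim (R := B ⧸ Ideal.ofList rs)
    rw [ha] at h2 hd
    have h2' : a + rs.length = d := by exact_mod_cast h2
    have h3 : 3 ≤ a := by exact_mod_cast hd
    omega
  have hP := Groth.Agent.PurityTower.purityHolds_quot_regular rs.length B d rs hdB rfl hreg.toIsWeaklyRegular hm hk
  have h3 : (3 : ℕ∞) ≤ LocCoh.depth (B ⧸ Ideal.ofList rs) (B ⧸ Ideal.ofList rs) :=
    Groth.Agent.PurityTower.depth_quot hdB rs hreg.toIsWeaklyRegular hm hk
  have h2 : (2 : ℕ∞) ≤ LocCoh.depth A A := by
    haveI : Module.FaithfullyFlat A (AdicCompletion (IsLocalRing.maximalIdeal A) A) :=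
      haveI := AdicCompletion.flat_of_isNoetherian (IsLocalRing.maximalIdeal A) (R := A)
      Module.FaithfullyFlat.of_flat_of_isLocalHom
    rw [← Groth.Agent.CMAux.depth_baseChange_eq A (AdicCompletion (IsLocalRing.maximalIdeal A) A)
      AdicCompletion.maximalIdeal_eq_map.symm A,
      Groth.Agent.Depth.depth_congr (TensorProduct.AlgebraTensorModule.rid A _ _),
      Groth.Agent.SerreLift.depth_eq_of_ringEquiv e]
    exact le_trans (by norm_num) h3
  refine Groth.Agent.PurityReg.purityHolds_of_pure h2 ?_
  haveI := AdicCompletion.flat_of_isNoetherian (IsLocalRing.maximalIdeal A) (R := A)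
  refine Groth.Agent.PurityReg.pure_of_faithfullyFlat (AdicCompletion (IsLocalRing.maximalIdeal A) A) ?_
    (Groth.Agent.PurityReg.Pure.of_ringEquiv
      (Groth.Agent.PurityReg.pure_of_purityHolds (le_trans (by norm_num) h3) hP) e.symm)
  rw [AdicCompletion.maximalIdeal_eq_map]
  exact Ideal.le_radical



open AlgebraicGeometry CategoryTheory CategoryTheory.Limits in
/-- Let A be a Noetherian local ring which is a complete intersection (its completion is a regular local
ring modulo a regular sequence) of dimension at least 3. Then every finite etale cover of the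
punctured spectrum of A extends to Spec A. -/
theorem result (A : Type u) [CommRing A] [IsNoetherianRing A] [IsLocalRing A] (hA : Pi1.IsCompleteIntersection A)
    (hd : (3 : WithBot ℕ∞) ≤ ringKrullDim A) : FEt.PurityHolds A := by
  obtain ⟨B, _, _, rs, hm, hreg, ⟨e⟩⟩ := hA
  exact purity_ci A B rs hm hreg e hd

end Groth.Agent.S0272
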