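import Groth.Statements.S0287
import Groth.Agent.S0247
import Groth.Agent.PurityReg.Union
import Mathlib

set_option autoImplicit false
universe u
open Pi1

namespace Groth.Agent.S0287

open AlgebraicGeometry CategoryTheory CategoryTheory.Limits TopologicalSpace in
theorem exists_ext_data {X : Scheme.{u}} [IsLocallyNoetherian X] (U : X.Opens) (hU : Dense (U : Set X))
    (Y : FEt.Cat (U : Scheme.{u})) (x : X) (hA : IsRegularLocalRing (X.presheaf.stalk x))
    (hdim : ringKrullDim (X.presheaf.stalk x) = 1)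
    (hunr : ∃ Yξ : FEt.Cat (Spec (X.presheaf.stalk x)),
        Nonempty ((FEt.restrict (pullback.snd U.ι (X.fromSpecStalk x))).obj Yξ ≅
          (FEt.restrict (pullback.fst U.ι (X.fromSpecStalk x))).obj Y))
    {W : X.Opens} (hUW : U ≤ W) {Z : Scheme.{u}} (g : Z ⟶ W.toScheme) (i : Y.left ⟶ Z)
    (hi : IsPullback i Y.hom g (X.homOfLE hUW))
    (jW : (FEt.puncturedSpec (X.presheaf.stalk x)).toScheme ⟶ W.toScheme)
    (hjW : jW ≫ W.ι = (FEt.puncturedSpec (X.presheaf.stalk x)).ι ≫ X.fromSpecStalk x) :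
      ∃ (Yξ : FEt.Cat (Spec (CommRingCat.of (X.presheaf.stalk x))))
        (θ' : pullback g jW ⟶ pullback Yξ.hom (FEt.puncturedSpec (X.presheaf.stalk x)).ι),
        IsIso θ' ∧ θ' ≫ pullback.snd Yξ.hom (FEt.puncturedSpec (X.presheaf.stalk x)).ι = pullback.snd g jW := by
  let A := X.presheaf.stalk x
  let P := FEt.puncturedSpec A
  haveI : IsDomain A := CAlgReg.isDomain
  haveI : Ring.KrullDimLE 1 A := (Order.krullDimLE_iff _ _).2 hdim.le
  have hPU : ∀ q : P.toScheme, (P.ι ≫ X.fromSpecStalk x) q ∈ U := fun q => by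
    let q' : PrimeSpectrum A := P.ι q
    have hq : q' ≠ IsLocalRing.closedPoint A := q.2
    have hbot : q'.asIdeal = ⊥ := by
      by_contra h
      exact hq (PrimeSpectrum.ext (IsLocalRing.eq_maximalIdeal
        (Ring.krullDimLE_one_iff_of_noZeroDivisors.1 inferInstance _ h q'.isPrime)))
    have hy : X.fromSpecStalk x q' ∈ closure (Set.range U.ι) := by
      rw [Scheme.Opens.range_ι]; exact hU _
    obtain ⟨y, hy'⟩ := LimSch.exists_specializes_of_mem_closure_range U.ι hy
    have hqx : X.fromSpecStalk x q' ⤳ x := by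
      have : X.fromSpecStalk x q' ∈ Set.range (X.fromSpecStalk x) := ⟨_, rfl⟩
      rwa [Scheme.range_fromSpecStalk] at this
    obtain ⟨p, hp⟩ : U.ι y ∈ Set.range (X.fromSpecStalk x) := by
      rw [Scheme.range_fromSpecStalk]; exact hy'.trans hqx
    rw [← hp] at hy'
    let p' : PrimeSpectrum A := p
    have h1 : p' ≤ q' := (PrimeSpectrum.le_iff_specializes _ _).2
      ((X.fromSpecStalk x).isEmbedding.toIsInducing.specializes_iff.1 hy')
    have h2 : p = q' := (show p' = q' from PrimeSpectrum.ext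
      (le_antisymm h1 (hbot ▸ bot_le)))
    show X.fromSpecStalk x q' ∈ U
    rw [← h2, hp]
    exact y.2
  let jU : P.toScheme ⟶ U.toScheme := IsOpenImmersion.lift U.ι (P.ι ≫ X.fromSpecStalk x) (by
    rintro _ ⟨q, rfl⟩; rw [Scheme.Opens.range_ι]; exact hPU q)
  have hjU : jU ≫ U.ι = P.ι ≫ X.fromSpecStalk x := IsOpenImmersion.lift_fac _ _ _
  have hjj : jU ≫ X.homOfLE hUW = jW := by
    rw [← cancel_mono W.ι, Category.assoc, Scheme.homOfLE_ι, hjU, hjW]
  let l : P.toScheme ⟶ pullback U.ι (X.fromSpecStalk x) := pullback.lift jU P.ι hjU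
  obtain ⟨Yξ, ⟨e⟩⟩ := hunr
  let q₁ := pullback.fst U.ι (X.fromSpecStalk x)
  let q₂ := pullback.snd U.ι (X.fromSpecStalk x)
  let ei : pullback Y.hom q₁ ≅ pullback Yξ.hom q₂ :=
    (MorphismProperty.Over.forget _ _ _ ⋙ Over.forget _).mapIso e.symm
  have hei : ei.hom ≫ pullback.snd Yξ.hom q₂ = pullback.snd Y.hom q₁ := MorphismProperty.Over.w e.inv
  let sY := pullback.snd Y.hom q₁
  have sq1 := ((IsPullback.of_hasPullback sY l).paste_horiz (IsPullback.of_hasPullback Y.hom q₁)).paste_horiz hi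
  have el1 : (l ≫ q₁) ≫ X.homOfLE hUW = jW := by rw [show l ≫ q₁ = jU from pullback.lift_fst _ _ _, hjj]
  rw [el1] at sq1
  have sq2' : IsPullback (pullback.fst sY l ≫ ei.hom) (pullback.snd sY l) (pullback.snd Yξ.hom q₂) l :=
    (IsPullback.of_hasPullback sY l).of_iso (Iso.refl _) ei (Iso.refl _) (Iso.refl _) (by simp) (by simp) (by simp [hei, sY]) (by simp)
  have sq2 := sq2'.paste_horiz (IsPullback.of_hasPullback Yξ.hom q₂)
  have el2 : l ≫ q₂ = P.ι := pullback.lift_snd _ _ _
  rw [el2] at sq2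
  exact ⟨Yξ, sq1.isoPullback.inv ≫ sq2.isoPullback.hom, inferInstance, by
    rw [Category.assoc, sq2.isoPullback_hom_snd, sq1.isoPullback_inv_snd]⟩



open AlgebraicGeometry CategoryTheory CategoryTheory.Limits in
/-- Let X be locally Noetherian, U a dense open, Y a finite etale cover of U such that the local rings
of X at points outside U are regular and, at each such point of dimension one, the restriction of Y
to the punctured local scheme extends over the local scheme (Y is unramified over X in codimension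
1). Then Y extends to a finite etale cover of X. -/
theorem result {X : Scheme.{u}} [IsLocallyNoetherian X] (U : X.Opens) (hU : Dense (U : Set X))
    (Y : FEt.Cat (U : Scheme.{u}))
    (hreg : ∀ x : X, x ∉ U → IsRegularLocalRing (X.presheaf.stalk x))
    (hunr : ∀ ξ : X, ξ ∉ U → ringKrullDim (X.presheaf.stalk ξ) = 1 →
      ∃ Yξ : FEt.Cat (Spec (X.presheaf.stalk ξ)),
        Nonempty ((FEt.restrict (pullback.snd U.ι (X.fromSpecStalk ξ))).obj Yξ ≅
          (FEt.restrict (pullback.fst U.ι (X.fromSpecStalk ξ))).obj Y)) :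
    ∃ Y' : FEt.Cat X, Nonempty ((FEt.restrict U.ι).obj Y' ≅ Y) := by
  haveI := fun x hx => hreg x hx
  have hM := Groth.Agent.PurityReg.ext_maxOpen (g₀ := Y.hom) hU hreg Y.prop
  let M := Groth.Agent.PurityReg.maxOpen (U := U) Y.hom
  obtain ⟨hUM, Z, g, i, hg, hi⟩ := hM
  have htop : M = ⊤ := by
    by_contra hne
    obtain ⟨x₀, hx₀⟩ : ∃ x₀ : X, x₀ ∉ M := by
      by_contra! hall
      exact hne (top_le_iff.1 fun y _ => hall y)
    obtain ⟨x, hxM, hgen'⟩ := Groth.Agent.PurityReg.exists_generic_of_isClosed M.2.isClosed_compl ⟨x₀, hx₀⟩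
    have hgen : ∀ y, y ⤳ x → y ≠ x → y ∈ M := fun y h₁ h₂ => not_not.1 (hgen' y h₁ h₂)
    have hxU : x ∉ U := fun h => hxM (hUM h)
    haveI : IsRegularLocalRing (X.presheaf.stalk x) := hreg x hxU
    obtain ⟨d, hd⟩ := Groth.Agent.CAlgReg.exists_dim (R := X.presheaf.stalk x)
    obtain ⟨W', hxW', hWW', Z', g', i', hg', hi'⟩ : ∃ W' : X.Opens, x ∈ W' ∧ Groth.Agent.PurityReg.Ext g W' := by
      match d with
      | 0 =>
        refine absurd (Groth.Agent.PurityReg.mem_of_dense_of_dim_zero hU x ?_) hxU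
        haveI : Ring.KrullDimLE 0 (X.presheaf.stalk x) := (Order.krullDimLE_iff _ _).2 hd.le
        exact ⟨fun a b => PrimeSpectrum.ext ((IsLocalRing.eq_maximalIdeal (Ideal.IsPrime.isMaximal' (hI := a.isPrime))).trans (IsLocalRing.eq_maximalIdeal (Ideal.IsPrime.isMaximal' (hI := b.isPrime))).symm)⟩
      | 1 =>
        exact Groth.Agent.PurityReg.exists_step_of_ext M g hg x hxM hgen
          (exists_ext_data U hU Y x inferInstance hd (hunr x hxU hd) hUM g i hi)
      | n + 2 =>
        refine Groth.Agent.PurityReg.exists_step M g hg x hxM hgen (Groth.Agent.S0247.result _ ?_)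
        rw [hd]
        exact_mod_cast Nat.le_add_left 2 n
    have hExt : Groth.Agent.PurityReg.Ext Y.hom W' := by
      refine ⟨hUM.trans hWW', Z', g', i ≫ i', hg', ?_⟩
      have := hi.paste_horiz hi'
      rwa [Scheme.homOfLE_homOfLE] at this
    exact hxM ((le_iSup (fun W : Groth.Agent.PurityReg.Idx (U := U) Y.hom => W.1) ⟨W', hExt⟩) hxW')
  obtain ⟨_, Z, g, i, hg, hi⟩ : Groth.Agent.PurityReg.Ext Y.hom ⊤ := htop ▸ ⟨hUM, Z, g, i, hg, hi⟩
  haveI : IsIso (⊤ : X.Opens).ι := (inferInstance : IsIso (X.topIso.hom))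
  have hg' : FEt.prop (g ≫ (⊤ : X.Opens).ι) :=
    (MorphismProperty.cancel_right_of_respectsIso FEt.prop _ _).2 hg
  have hP : IsPullback i Y.hom (g ≫ (⊤ : X.Opens).ι) U.ι := by
    have := Groth.Agent.PurityReg.isPullback_comp_mono (⊤ : X.Opens).ι hi
    rwa [Scheme.homOfLE_ι] at this
  exact ⟨MorphismProperty.Over.mk ⊤ (g ≫ (⊤ : X.Opens).ι) hg',
    ⟨MorphismProperty.Over.isoMk hP.isoPullback.symm hP.isoPullback_inv_snd⟩⟩

end Groth.Agent.S0287
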