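import Groth.Statements.S0288
import Mathlib
import Groth.Agent.UnramNormal.Basic
import Groth.Agent.EGA2Curve.RelNormal
import Groth.Agent.DivPts.NormalIso

set_option autoImplicit false
universe u
open Pi1

namespace Groth.Agent.S0288

open AlgebraicGeometry CategoryTheory CategoryTheory.Limits in
/-- Let X be a normal integral scheme with function field K, L a finite field extension of K and Y -> X
the normalization of X in Spec L. If Y -> X is unramified (formally unramified and locally of finite
type), then it is etale, and finite. -/
theorem result {X : Scheme.{u}} [IsIntegral X] (hX : Pi1.IsNormalScheme X) (L : Type u) [Field L]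
    [Algebra X.functionField L] [FiniteDimensional X.functionField L]
    [QuasiCompact (Spec.map (CommRingCat.ofHom (algebraMap X.functionField L)) ≫ X.fromSpecStalk (genericPoint X))]
    [QuasiSeparated (Spec.map (CommRingCat.ofHom (algebraMap X.functionField L)) ≫ X.fromSpecStalk (genericPoint X))]
    [FormallyUnramified (Spec.map (CommRingCat.ofHom (algebraMap X.functionField L)) ≫ X.fromSpecStalk (genericPoint X)).fromNormalization]
    [LocallyOfFiniteType (Spec.map (CommRingCat.ofHom (algebraMap X.functionField L)) ≫ X.fromSpecStalk (genericPoint X)).fromNormalization] :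
    Etale (Spec.map (CommRingCat.ofHom (algebraMap X.functionField L)) ≫ X.fromSpecStalk (genericPoint X)).fromNormalization ∧
    IsFinite (Spec.map (CommRingCat.ofHom (algebraMap X.functionField L)) ≫ X.fromSpecStalk (genericPoint X)).fromNormalization := by
  set g := Spec.map (CommRingCat.ofHom (algebraMap X.functionField L)) ≫ X.fromSpecStalk (genericPoint X) with hg
  have hfin : IsFinite g.fromNormalization := (IsFinite.iff_isIntegralHom_and_locallyOfFiniteType _).2 ⟨inferInstance, inferInstance⟩
  refine ⟨?_, hfin⟩
  rw [HasRingHomProperty.iff_appLE (P := @Etale)]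
  intro U V hUV
  rcases isEmpty_or_nonempty V.1 with hV | hV
  · haveI : Subsingleton Γ(g.normalization, V.1) := by
      have : V.1 = ⊥ := by
        ext x
        simp only [TopologicalSpace.Opens.coe_bot, Set.mem_empty_iff_false, iff_false]
        exact fun hx => hV.false ⟨x, hx⟩
      rw [this]
      infer_instance
    algebraize [(g.fromNormalization.appLE U.1 V.1 hUV).hom]
    exact RingHom.etale_algebraMap.mpr inferInstance
  obtain ⟨x, hx⟩ := hV
  haveI : Nonempty U.1 := ⟨⟨_, hUV hx⟩⟩
  haveI : Nonempty V.1 := ⟨⟨x, hx⟩⟩
  haveI := DivPts.isIntegrallyClosed_sections hX U.2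
  have hηV : genericPoint g.normalization ∈ V.1 := ((genericPoint_spec g.normalization).specializes trivial).mem_open V.1.2 hx
  have hηU : g.fromNormalization (genericPoint g.normalization) ∈ U.1 := hUV hηV
  have hinj : Function.Injective (g.fromNormalization.appLE U.1 V.1 hUV).hom := by
    rw [injective_iff_map_eq_zero]
    intro a ha
    have h1 : (g.fromNormalization.stalkMap (genericPoint g.normalization)).hom (X.presheaf.germ U.1 _ hηU a) = 0 := by
      rw [Scheme.Hom.germ_stalkMap_apply]
      have := congrArg (g.normalization.presheaf.germ V.1 _ hηV) ha
      rw [map_zero, Scheme.Hom.appLE, CommRingCat.comp_apply, TopCat.Presheaf.germ_res_apply] at this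
      exact this
    have hη : g.fromNormalization (genericPoint g.normalization) = genericPoint X := EGA2Curve.fromNormalization_genericPoint hg
    have hstalk : IsField (X.presheaf.stalk (g.fromNormalization (genericPoint g.normalization))) := by
      rw [hη]; exact (inferInstance : Field X.functionField).toIsField
    letI := hstalk.toField
    have h2 := (g.fromNormalization.stalkMap (genericPoint g.normalization)).hom.injective (h1.trans (map_zero _).symm)
    exact AlgebraicGeometry.germ_injective_of_isIntegral X _ hηU (h2.trans (map_zero _).symm)
  have hur := (HasRingHomProperty.iff_appLE (P := @FormallyUnramified)).1 inferInstance U V hUV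
  have hft := (HasRingHomProperty.iff_appLE (P := @LocallyOfFiniteType)).1 inferInstance U V hUV
  algebraize [(g.fromNormalization.appLE U.1 V.1 hUV).hom]
  haveI : Algebra.FormallyUnramified Γ(X, U.1) Γ(g.normalization, V.1) := hur
  haveI : Algebra.FiniteType Γ(X, U.1) Γ(g.normalization, V.1) := hft
  haveI := UnramNormal.etale_of_unramified (R := Γ(X, U.1)) (A := Γ(g.normalization, V.1)) hinj
  exact RingHom.etale_algebraMap.mpr inferInstance

end Groth.Agent.S0288
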