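import Groth.Statements.S0291
import Groth.Agent.FEtLib.Depth2

set_option autoImplicit false
universe u
open Pi1

namespace Groth.Agent.S0291

open AlgebraicGeometry CategoryTheory CategoryTheory.Limits in
/-- Let A be a Noetherian local ring and B a finite A-algebra such that the local rings of Spec B at all
closed points have depth at least 2. Then restriction from global sections of Spec B to sections
over the preimage of the punctured spectrum of A is an isomorphism. -/
theorem result (A B : Type u) [CommRing A] [IsNoetherianRing A] [IsLocalRing A] [CommRing B] [Algebra A B]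
    [Module.Finite A B]
    (h : ∀ (m : Ideal B) (_ : m.IsMaximal), (2 : ℕ∞) ≤ LocCoh.depth (Localization.AtPrime m) (Localization.AtPrime m)) :
    IsIso ((Spec (CommRingCat.of B)).presheaf.map (homOfLE (le_top :
      Spec.map (CommRingCat.ofHom (algebraMap A B)) ⁻¹ᵁ FEt.puncturedSpec A ≤ ⊤)).op) := by
  set U := Spec.map (CommRingCat.ofHom (algebraMap A B)) ⁻¹ᵁ FEt.puncturedSpec A
  haveI : IsNoetherianRing B := IsNoetherianRing.of_finite A B
  haveI : IsNoetherianRing (CommRingCat.of B) := ‹IsNoetherianRing B›
  haveI : CompactSpace U := isCompact_iff_compactSpace.mp (TopologicalSpace.NoetherianSpace.isCompact _)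
  refine (ConcreteCategory.isIso_iff_bijective _).mpr (FlatPurLib.res_bijective U
    (FEtLib.HasRegSeq2.depth2 (FEtLib.hasRegSeq2_spec U fun p hp => ?_)))
  haveI : p.asIdeal.IsMaximal := by
    refine Ideal.isMaximal_of_isIntegral_of_isMaximal_comap' (algebraMap A B)
      (algebraMap_isIntegral_iff.mpr inferInstance) p.asIdeal ?_
    have : PrimeSpectrum.comap (algebraMap A B) p = IsLocalRing.closedPoint A := not_not.mp hp
    rw [show p.asIdeal.comap (algebraMap A B) = IsLocalRing.maximalIdeal A from
      congrArg PrimeSpectrum.asIdeal this]
    exact IsLocalRing.maximalIdeal.isMaximal A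
  exact h p.asIdeal inferInstance

end Groth.Agent.S0291
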