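import Groth.Statements.S0293
import Mathlib
import Groth.Agent.PurityReg.DiscrFlat

set_option autoImplicit false
set_option backward.isDefEq.respectTransparency false
set_option backward.isDefEq.respectTransparency.types false
universe u
open Pi1

namespace Groth.Agent.S0293

open AlgebraicGeometry CategoryTheory CategoryTheory.Limits TensorProduct in
set_option maxHeartbeats 1000000 in
theorem etale_spec {A B : CommRingCat.{u}} (φ : A ⟶ B) [IsNoetherianRing A] [IsFinite (Spec.map φ)]
    [Flat (Spec.map φ)] (U : (Spec A).Opens)
    (hU : ∀ x : Spec A, x ∉ U →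
      (2 : ℕ∞) ≤ LocCoh.depth ((Spec A).presheaf.stalk x) ((Spec A).presheaf.stalk x))
    (he : ∀ (K : CommRingCat.{u}) (g : Spec K ⟶ Spec A), Set.range g.base ⊆ U →
      Etale (pullback.snd (Spec.map φ) g)) : Etale (Spec.map φ) := by
  letI := φ.hom.toAlgebra
  have : Module.Finite A B := (IsFinite.SpecMap_iff φ).mp inferInstance
  have : Module.Flat A B := (HasRingHomProperty.Spec_iff (P := @Flat)).mp inferInstance
  have h : Algebra.Etale A B := by
    refine PurityReg.etale_of_flat_of_depth {q : PrimeSpectrum A | (q : ↥(Spec A)) ∈ U} (fun q hq => ?_) fun q hq => ?_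
    · have h2 := hU q hq
      have hn : IsNoetherianRing ((Spec A).presheaf.stalk q) := inferInstance
      let e : Localization.AtPrime q.asIdeal ≃+* (Spec A).presheaf.stalk q :=
        (StructureSheaf.stalkIso (R := A) q).toRingEquiv
      rwa [SerreLift.depth_eq_of_ringEquiv e]
    · let K := q.asIdeal.ResidueField
      have h3 := he (.of K) (Spec.map (CommRingCat.ofHom (algebraMap A K))) (by
        rintro _ ⟨z, rfl⟩
        have : (Spec.map (CommRingCat.ofHom (algebraMap A K))).base z = q := by
          apply PrimeSpectrum.ext
          change z.asIdeal.comap (algebraMap A K) = q.asIdeal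
          rw [show z.asIdeal = ⊥ from (Ideal.eq_bot_or_top _).resolve_right z.2.ne_top,
            ← RingHom.ker_eq_comap_bot, Ideal.ker_algebraMap_residueField]
        exact this.symm ▸ hq)
      have h4 : Etale (pullback.snd (Spec.map (CommRingCat.ofHom (algebraMap A B)))
          (Spec.map (CommRingCat.ofHom (algebraMap A K)))) := h3
      rw [← pullbackSpecIso_hom_snd, MorphismProperty.cancel_left_of_respectsIso @Etale,
        HasRingHomProperty.Spec_iff (P := @Etale)] at h4
      have h5 := RingHom.Etale.respectsIso.1 _ (Algebra.TensorProduct.comm A B K).toRingEquiv h4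
      have h6 : (algebraMap K (K ⊗[A] B)).Etale := by
        refine Eq.mp (congrArg RingHom.Etale ?_) h5
        exact RingHom.ext fun k => by simp [Algebra.TensorProduct.algebraMap_apply]
      exact RingHom.etale_algebraMap.mp h6
  rw [HasRingHomProperty.Spec_iff (P := @Etale)]
  exact RingHom.etale_algebraMap.mpr h


open AlgebraicGeometry CategoryTheory CategoryTheory.Limits in
/-- Let X be a locally Noetherian scheme, U ⊆ X an open subset such that the local rings of X at points
outside U have depth at least 2, and π : Y → X a finite morphism which is étale over U and such that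
the local rings of Y at points outside the preimage of U have depth at least 2. Then π is étale if
and only if it is flat. -/
theorem result {X : Scheme.{u}} [IsLocallyNoetherian X] (U : X.Opens)
    (hU : ∀ x : X, x ∉ U → (2 : ℕ∞) ≤ LocCoh.depth (X.presheaf.stalk x) (X.presheaf.stalk x)) {Y : Scheme.{u}} (π : Y ⟶ X)
    [IsFinite π] [Etale (pullback.snd π U.ι)]
    (hY : ∀ y : Y, π.base y ∉ U → (2 : ℕ∞) ≤ LocCoh.depth (Y.presheaf.stalk y) (Y.presheaf.stalk y)) :
    Etale π ↔ Flat π := by
  refine ⟨fun _ => inferInstance, fun _ => ?_⟩
  rw [IsZariskiLocalAtTarget.iff_of_openCover (P := @AlgebraicGeometry.Etale) X.affineCover]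
  intro i
  set j := X.affineCover.f i
  set π' := pullback.snd π j
  haveI : IsFinite π' := MorphismProperty.pullback_snd _ _ inferInstance
  haveI : Flat π' := MorphismProperty.pullback_snd _ _ inferInstance
  haveI : IsAffine (pullback π j) := isAffine_of_isAffineHom π'
  change Etale π'
  let φ := Spec.preimage ((pullback π j).isoSpec.inv ≫ π')
  have hφ : Spec.map φ = (pullback π j).isoSpec.inv ≫ π' := Spec.map_preimage _
  rw [← MorphismProperty.cancel_left_of_respectsIso @Etale (pullback π j).isoSpec.inv π', ← hφ]
  haveI : IsFinite (Spec.map φ) := by rw [hφ]; infer_instance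
  haveI : Flat (Spec.map φ) := by rw [hφ]; infer_instance
  haveI := isLocallyNoetherian_of_isOpenImmersion j
  haveI hnoe : IsNoetherianRing ↑((fun x => Classical.choose (X.local_affine x).choose_spec) i) :=
    isLocallyNoetherian_Spec.mp (isLocallyNoetherian_of_isOpenImmersion j)
  refine etale_spec φ (j ⁻¹ᵁ U) (fun x hx => ?_) fun K g hg => ?_
  · have h2 := hU (j.base x) hx
    haveI := isLocallyNoetherian_of_isOpenImmersion j
    rwa [SerreLift.depth_eq_of_ringEquiv (asIso (j.stalkMap x)).commRingCatIsoToRingEquiv] at h2
  · let g' := IsOpenImmersion.lift U.ι (g ≫ j) (by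
      rintro _ ⟨z, rfl⟩
      rw [Scheme.Opens.range_ι]
      exact hg ⟨z, rfl⟩)
    have hg' : g' ≫ U.ι = g ≫ j := IsOpenImmersion.lift_fac _ _ _
    have h1 : Etale (pullback.snd (pullback.snd π U.ι) g') :=
      MorphismProperty.pullback_snd _ _ inferInstance
    have h2 : Etale (pullback.snd π (g' ≫ U.ι)) := by
      rw [← pullbackLeftPullbackSndIso_hom_snd, MorphismProperty.cancel_left_of_respectsIso @Etale] at h1
      exact h1
    have h2' : ∀ k, k = g' ≫ U.ι → Etale (pullback.snd π k) := by rintro k rfl; exact h2
    have h3 : Etale (pullback.snd π' g) := by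
      rw [← pullbackLeftPullbackSndIso_hom_snd, MorphismProperty.cancel_left_of_respectsIso @Etale]
      exact h2' _ hg'.symm
    have hmap : pullback.snd (Spec.map φ) g =
        pullback.map (Spec.map φ) g π' g (pullback π j).isoSpec.inv (𝟙 _) (𝟙 _) (by simp [hφ]) (by simp)
          ≫ pullback.snd π' g := by simp
    rw [hmap]
    haveI := h3
    infer_instance

end Groth.Agent.S0293
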