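import Groth.Statements.S0294
import Mathlib.FieldTheory.Minpoly.Field

set_option autoImplicit false
universe u
open Pi1

namespace Groth.Agent.S0294

open AlgebraicGeometry CategoryTheory CategoryTheory.Limits in
/-- For a finite étale cover Y of a scheme X and a point ξ : Spec Ω → X with values in a field Ω, the
fibre of Y over ξ (the set of Ω-valued points of Y lying over ξ) is finite. -/
theorem result {X : Scheme.{u}} {Ω : Type u} [Field Ω] (ξ : Spec (CommRingCat.of Ω) ⟶ X) (Y : FEt.Cat X) :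
    Finite (FEt.fiberObj ξ Y) := by
  haveI : IsFinite Y.hom := Y.prop.1
  let P := pullback ξ Y.hom
  haveI : IsFinite (pullback.fst ξ Y.hom) := MorphismProperty.pullback_fst _ _ ‹_›
  haveI : IsAffine P := isAffine_of_isAffineHom (pullback.fst ξ Y.hom)
  let e : P ≅ Spec Γ(P, ⊤) := P.isoSpec
  obtain ⟨φ, hφ⟩ := Spec.map_surjective (e.inv ≫ pullback.fst ξ Y.hom)
  have hfin : φ.hom.Finite := (IsFinite.SpecMap_iff φ).mp (hφ ▸ inferInstance)
  letI := φ.hom.toAlgebra
  haveI : Module.Finite Ω Γ(P, ⊤) := hfin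
  let q : FEt.fiberObj ξ Y → (Γ(P, ⊤) ⟶ CommRingCat.of Ω) := fun s =>
    Spec.preimage (pullback.lift (𝟙 _) s.1 (by rw [Category.id_comp]; exact s.2.symm) ≫ e.hom)
  have hq : ∀ s, φ ≫ q s = 𝟙 _ := fun s => Spec.map_injective (by
    rw [Spec.map_comp, Spec.map_id, hφ]
    simp only [q, Spec.map_preimage, Category.assoc, Iso.hom_inv_id_assoc]
    exact pullback.lift_fst _ _ _)
  let F : FEt.fiberObj ξ Y → (Γ(P, ⊤) →ₐ[Ω] Ω) := fun s =>
    { (q s).hom with commutes' := fun r => congrArg (fun m => m.hom r) (hq s) }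
  refine Finite.of_injective F fun s t hst => Subtype.ext ?_
  have h1 : q s = q t := CommRingCat.hom_ext (congrArg AlgHom.toRingHom hst)
  have h2 := congrArg Spec.map h1
  simp only [q, Spec.map_preimage, cancel_mono] at h2
  exact (pullback.lift_snd _ _ _).symm.trans ((congrArg (· ≫ pullback.snd ξ Y.hom) h2).trans (pullback.lift_snd _ _ _))

end Groth.Agent.S0294
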