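import Groth.Statements.S0297
import Groth.Agent.FEtLib.Galois
import Groth.Agent.GalDict.Exact

set_option autoImplicit false
universe u
open Pi1

namespace Groth.Agent.S0297

open AlgebraicGeometry CategoryTheory CategoryTheory.Limits in
/-- For a connected scheme X and geometric points ξ : Spec Ω → X and ξ' : Spec Ω' → X (Ω, Ω'
algebraically closed fields), every morphism of functors from the fibre functor at ξ to the fibre
functor at ξ' on finite étale covers of X is an isomorphism. -/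
theorem result {X : Scheme.{u}} [ConnectedSpace X] {Ω Ω' : Type u} [Field Ω]
    [IsAlgClosed Ω] [Field Ω'] [IsAlgClosed Ω'] (ξ : Spec (CommRingCat.of Ω) ⟶ X)
    (ξ' : Spec (CommRingCat.of Ω') ⟶ X) (φ : FEt.fiber ξ ⟶ FEt.fiber ξ') : IsIso φ := by
  haveI : GaloisCategory (FEt.Cat X) := Groth.Agent.FEtLib.galoisCategory
  haveI := Groth.Agent.FEtLib.preservesFiniteColimits_fiberFin ξ'
  haveI := Groth.Agent.FEtLib.preservesFiniteLimits_fiberFin ξ'
  obtain ⟨e⟩ := Groth.Agent.GalDict.nonempty_iso (Groth.Agent.FEtLib.fiberFin ξ)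
    (Groth.Agent.FEtLib.fiberFin ξ')
    (fun Y hY => Groth.Agent.GalDict.nonempty_of_exact (Groth.Agent.FEtLib.fiberFin ξ) (Groth.Agent.FEtLib.fiberFin ξ') Y hY)
  let χ : Groth.Agent.FEtLib.fiberFin ξ ⟶ Groth.Agent.FEtLib.fiberFin ξ' :=
    { app := fun Y => FintypeCat.homMk (fun s => φ.app Y s)
      naturality := fun Y Z f => FintypeCat.incl.map_injective (φ.naturality f) }
  haveI : IsIso (χ ≫ e.hom) := PreGaloisCategory.FibreFunctor.end_isIso (Groth.Agent.FEtLib.fiberFin ξ) _
  haveI : IsIso χ := IsIso.of_isIso_comp_right χ e.hom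
  haveI : ∀ Y, IsIso (χ.app Y) := fun Y => NatIso.isIso_app_of_isIso χ Y
  haveI : ∀ Y, IsIso (FintypeCat.incl.map (χ.app Y)) := fun Y => Functor.map_isIso _ _
  haveI : ∀ Y, IsIso (φ.app Y) := fun Y =>
    inferInstanceAs (IsIso (FintypeCat.incl.map (χ.app Y)))
  exact NatIso.isIso_of_isIso_app φ

end Groth.Agent.S0297
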