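import Groth.Statements.S0298
import Groth.Agent.FEtLib.Field

set_option autoImplicit false
universe u
open Pi1

namespace Groth.Agent.S0298

open AlgebraicGeometry CategoryTheory CategoryTheory.Limits in
/-- For a field K with algebraic closure K̄, the fundamental group of Spec K at the geometric point Spec
K̄ → Spec K (the automorphism group of the fibre functor on finite étale K-schemes) is isomorphic to
the absolute Galois group of K. The isomorphism is one of abstract groups; the fundamental group
used here carries no topology. -/
theorem result (K : Type u) [Field K] :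
    Nonempty (Field.absoluteGaloisGroup K ≃*
      FEt.piOne (Spec (CommRingCat.of K))
        (Spec.map (CommRingCat.ofHom (algebraMap K (AlgebraicClosure K))))) := by
  let F := Groth.Agent.FEtLib.fiberFin (Groth.Agent.FEtLib.xiK K)
  let e₁ : (AlgebraicClosure K ≃ₐ[K] AlgebraicClosure K) ≃* Aut F :=
    PreGaloisCategory.toAutMulEquiv F _
  let hff := (Functor.FullyFaithful.ofFullyFaithful (FintypeCat.incl.{u})).whiskeringRight
    (FEt.Cat (Spec (CommRingCat.of K)))
  exact ⟨e₁.trans ((hff.autMulEquivOfFullyFaithful F).trans
    (Groth.Agent.FEtLib.fiberFinIso (Groth.Agent.FEtLib.xiK K)).conjAut)⟩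

end Groth.Agent.S0298
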