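import Groth.Statements.S0307
import Groth.Agent.InjHullBasic.Noetherian
-- import your own Groth.Agent.* helpers here

set_option autoImplicit false
universe u v
open InjHull

namespace Groth.Agent.S0307

open Classical in
/-- Over a Noetherian ring every injective module is an internal direct sum of indecomposable injective
submodules. -/
theorem result (R : Type u) [CommRing R] [IsNoetherianRing R] (I : Type u) [AddCommGroup I] [Module R I] (hI : Module.Injective R I) : ∃ (ι : Type u) (E : ι → Submodule R I), DirectSum.IsInternal E ∧ ∀ i, InjHull.IsIndecomposable R ↥(E i) ∧ Module.Injective R ↥(E i) := by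
  obtain ⟨s, hind, htop, hs⟩ := InjHullBasic.exists_isInternal_indecomposable (R := R) I
  refine ⟨s, Subtype.val, ?_, fun i => hs _ i.2⟩
  have hi := (sSupIndep_iff s).mp hind
  rw [sSup_eq_iSup'] at htop
  convert DirectSum.isInternal_submodule_of_iSupIndep_of_iSup_eq_top hi htop

end Groth.Agent.S0307
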