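import Groth.Statements.S0318
import Groth.Agent.LocCohBasic.Depth
-- import your own Groth.Agent.* helpers here

set_option autoImplicit false
universe u v
open LocCoh

namespace Groth.Agent.S0318

/-- Part (1): =(3): for a finite module M over a Noetherian ring and an ideal I with IM ≠ M, the I-depth
of M is the least degree in which the local cohomology of M with support in I is nonzero. -/
theorem result (R : Type u) [CommRing R] [IsNoetherianRing R] (I : Ideal R) (M : Type u) [AddCommGroup M] [Module R M] [Module.Finite R M] (hIM : I • (⊤ : Submodule R M) ≠ ⊤) (n : ℕ) : LocCoh.idealDepth I M = n ↔ ((∀ i : ℕ, i < n → Subsingleton (LocCoh.H I i M)) ∧ Nontrivial (LocCoh.H I n M)) := by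
  have key := fun m => Groth.Agent.LocCohBasic.le_idealDepth_iff_subsingleton I (ModuleCat.of R M) (n := m)
  constructor
  · intro h
    exact ⟨(key n).mp h.ge,
      Groth.Agent.LocCohBasic.nontrivial_of_idealDepth_eq I (ModuleCat.of R M) hIM h⟩
  · rintro ⟨h1, h2⟩
    refine le_antisymm ?_ ((key n).mpr h1)
    by_contra hc
    have : ((n + 1 : ℕ) : ℕ∞) ≤ LocCoh.idealDepth I M := by
      push_cast; exact Order.add_one_le_of_lt (not_le.mp hc)
    exact absurd ((key _).mp this n (Nat.lt_succ_self n)) (not_subsingleton_iff_nontrivial.mpr h2)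

end Groth.Agent.S0318
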