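import Groth.Statements.S0327
import Groth.Agent.LocCohBasic.Artinian
-- import your own Groth.Agent.* helpers here

set_option autoImplicit false
universe u v
open LocCoh

namespace Groth.Agent.S0327

/-- For a Noetherian local ring of dimension d, the d-th local cohomology of the ring with support in
the maximal ideal is nonzero (Grothendieck's non-vanishing). -/
theorem result (R : Type u) [CommRing R] [IsLocalRing R] [IsNoetherianRing R] (d : ℕ) (hd : ringKrullDim R = d) : Nontrivial (LocCoh.H (IsLocalRing.maximalIdeal R) d R) := by
  exact LocCohBasic.nontrivial_localCohomology (ModuleCat.of R R) d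
    ((Module.supportDim_self_eq_ringKrullDim (R := R)).trans hd)

end Groth.Agent.S0327
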