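import Groth.Statements.S0328
import Groth.Agent.LocCohBasic.Artinian
import Groth.Agent.S0379
-- import your own Groth.Agent.* helpers here

set_option autoImplicit false
universe u v
open LocCoh

namespace Groth.Agent.S0328

/-- In a Noetherian local ring, if a prime p and a proper ideal I together have radical the maximal
ideal and dim R/p = d ≥ 1, then local cohomology with support in I does not vanish in all degrees ≥
d. -/
theorem result (R : Type u) [CommRing R] [IsLocalRing R] [IsNoetherianRing R] (I : Ideal R) (hI : I ≠ ⊤) (p : Ideal R) [p.IsPrime] (hpI : (p ⊔ I).radical = IsLocalRing.maximalIdeal R) (d : ℕ) (hd : ringKrullDim (R ⧸ p) = d) (hd1 : 1 ≤ d) : ¬ LocCoh.CdLE R I (d - 1) := by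
  intro h
  have hne : p ≠ ⊤ := Ideal.IsPrime.ne_top ‹_›
  have : Nontrivial (R ⧸ p) := Ideal.Quotient.nontrivial_iff.mpr hne
  have : IsLocalRing (R ⧸ p) := IsLocalRing.of_surjective' _ Ideal.Quotient.mk_surjective
  have h' := (S0379.result R (R ⧸ p) I (d - 1)).1 h
  have hrad : (I.map (algebraMap R (R ⧸ p))).radical = (IsLocalRing.maximalIdeal (R ⧸ p)).radical := by
    have h1 := Ideal.map_radical_of_surjective Ideal.Quotient.mk_surjective (f := Ideal.Quotient.mk p)
      (I := p ⊔ I) (by rw [Ideal.mk_ker]; exact le_sup_left)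
    rw [hpI, IsLocalRing.map_maximalIdeal_of_surjective _ Ideal.Quotient.mk_surjective,
      Ideal.map_sup, Ideal.map_quotient_self, bot_sup_eq] at h1
    rw [Ideal.Quotient.algebraMap_eq, ← h1, (IsLocalRing.maximalIdeal.isMaximal _).isPrime.radical]
  obtain ⟨e⟩ := LocCohBasic.nonempty_iso_of_radical_eq (I.map (algebraMap R (R ⧸ p))) hrad d
  have hsub := h' (R ⧸ p) d (by omega)
  have hnt := LocCohBasic.nontrivial_localCohomology (R := R ⧸ p) (ModuleCat.of (R ⧸ p) (R ⧸ p)) d
    ((Module.supportDim_self_eq_ringKrullDim (R := R ⧸ p)).trans hd)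
  exact not_subsingleton _ ((e.app (ModuleCat.of (R ⧸ p) (R ⧸ p))).toLinearEquiv.toEquiv.symm.subsingleton_congr.mpr hsub)

end Groth.Agent.S0328
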