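import Groth.Statements.S0335
import Groth.Agent.LocCohConn.Hartshorne
-- import your own Groth.Agent.* helpers here

set_option autoImplicit false
universe u v
open LocCoh

namespace Groth.Agent.S0335

/-- For the ring itself; Hartshorne's connectedness: if a Noetherian local ring has depth at least 2
then its punctured spectrum is connected. -/
theorem result (R : Type u) [CommRing R] [IsLocalRing R] [IsNoetherianRing R] (h : 2 ≤ LocCoh.depth R R) : IsConnected {x : PrimeSpectrum R | x.asIdeal ≠ IsLocalRing.maximalIdeal R} := by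
  refine ⟨?_, ?_⟩
  · by_contra hne
    rw [Set.not_nonempty_iff_eq_empty] at hne
    have hall : ∀ q : PrimeSpectrum R, q = IsLocalRing.closedPoint R := fun q => PrimeSpectrum.ext (by
      by_contra h0; exact Set.eq_empty_iff_forall_notMem.1 hne q h0)
    have : Subsingleton (PrimeSpectrum R) := ⟨fun a b => (hall a).trans (hall b).symm⟩
    have h1 := Depth.depth_le_ringKrullDim (R := R) (M := R)
    have h2 : ringKrullDim R ≤ 0 := Order.krullDim_nonpos_of_subsingleton
    have h3 : ((2 : ℕ∞) : WithBot ℕ∞) ≤ 0 := (WithBot.coe_le_coe.2 h).trans (h1.trans h2)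
    exact absurd (WithBot.coe_le_coe.1 h3) (by decide)
  · rw [isPreconnected_closed_iff]
    intro t t' ht ht' hsub h1 h2
    obtain ⟨a, rfl⟩ := (PrimeSpectrum.isClosed_iff_zeroLocus_ideal t).1 ht
    obtain ⟨b, rfl⟩ := (PrimeSpectrum.isClosed_iff_zeroLocus_ideal t').1 ht'
    by_contra hno
    rw [Set.not_nonempty_iff_eq_empty] at hno
    have hm : IsLocalRing.maximalIdeal R ≤ (a ⊔ b).radical := by
      rw [Ideal.radical_eq_sInf, le_sInf_iff]
      rintro q ⟨hle, hq⟩
      by_contra hne
      exact Set.eq_empty_iff_forall_notMem.1 hno ⟨q, hq⟩ ⟨fun e => hne (le_of_eq e.symm),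
        fun x hx => hle (Ideal.mem_sup_left hx), fun x hx => hle (Ideal.mem_sup_right hx)⟩
    have hprod : a * b ≤ nilradical R := by
      rw [nilradical_eq_sInf, le_sInf_iff]
      intro q (hq : q.IsPrime)
      by_cases hqm : q = IsLocalRing.maximalIdeal R
      · obtain ⟨x, hxm, hxa⟩ := h1
        have ha : a ≤ IsLocalRing.maximalIdeal R := (show a ≤ x.asIdeal from hxa).trans (IsLocalRing.le_maximalIdeal x.2.ne_top)
        rw [hqm]
        exact fun z hz => ha (Ideal.mul_le.2 (fun u hu v _ => a.mul_mem_right v hu) hz)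
      · rcases hsub (show (⟨q, hq⟩ : PrimeSpectrum R) ∈ {x : PrimeSpectrum R | x.asIdeal ≠ IsLocalRing.maximalIdeal R} from hqm) with hh | hh
        · exact fun z hz => (show a ≤ q from hh) (Ideal.mul_le.2 (fun u hu v _ => a.mul_mem_right v hu) hz)
        · exact fun z hz => (show b ≤ q from hh) (Ideal.mul_le.2 (fun u _ v hv => b.mul_mem_left u hv) hz)
    rcases LocCohConn.le_nilradical_or_le_nilradical h a b hprod hm with h0 | h0
    · obtain ⟨x, hxm, hxb⟩ := h2
      refine Set.eq_empty_iff_forall_notMem.1 hno x ⟨hxm, h0.trans ?_, hxb⟩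
      exact nilradical_le_prime x.asIdeal
    · obtain ⟨x, hxm, hxa⟩ := h1
      refine Set.eq_empty_iff_forall_notMem.1 hno x ⟨hxm, hxa, h0.trans ?_⟩
      exact nilradical_le_prime x.asIdeal

end Groth.Agent.S0335
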