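import Groth.Statements.S0337
-- import your own Groth.Agent.* helpers here

set_option autoImplicit false
universe u v
open CategoryTheory
open LocCoh

namespace Groth.Agent.S0337

/-- Over a Noetherian local ring of prime characteristic p, a finite module isomorphic to its own base
change along Frobenius is free. -/
theorem result (p : ℕ) [Fact p.Prime] (R : Type u) [CommRing R] [IsLocalRing R] [IsNoetherianRing R] [CharP R p] (M : Type u) [AddCommGroup M] [Module R M] [Module.Finite R M] (h : Nonempty ((ModuleCat.extendScalars (frobenius R p)).obj (ModuleCat.of R M) ≅ ModuleCat.of R M)) : Module.Free R M := by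
  open scoped TensorProduct in
  classical
  obtain ⟨e⟩ := h
  obtain ⟨s, hs, hsfin, hspan⟩ : ∃ s : Set M, s.ncard = (⊤ : Submodule R M).spanFinrank ∧ s.Finite ∧ Submodule.span R s = ⊤ := by
    obtain ⟨s, hs, hs'⟩ := (Module.Finite.fg_top (R := R) (M := M)).exists_span_set_encard_eq_spanFinrank
    have hfin : s.Finite := Set.finite_of_encard_eq_coe hs
    exact ⟨s, by rw [Set.ncard_def, hs]; rfl, hfin, hs'⟩
  have := hsfin.fintype
  let π : (s → R) →ₗ[R] M := Fintype.linearCombination R (fun i : s => (i : M))
  have hπ : Function.Surjective π := by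
    rw [← LinearMap.range_eq_top, Fintype.range_linearCombination, Subtype.range_coe, hspan]
  let J : Ideal R := Ideal.span {a | ∃ v ∈ LinearMap.ker π, ∃ i, v i = a}
  have hJv : ∀ v ∈ LinearMap.ker π, ∀ i, v i ∈ J := fun v hv i => Ideal.subset_span ⟨v, hv, i, rfl⟩
  have hJm : J ≤ IsLocalRing.maximalIdeal R := by
    refine Ideal.span_le.2 ?_
    rintro a ⟨v, hv, i, rfl⟩
    by_contra hu
    obtain ⟨u, hu⟩ : IsUnit (v i) := not_not.1 (fun h => hu h)
    have hv' : ∑ j, v j • (j : M) = 0 := hv
    rw [← Finset.add_sum_erase _ _ (Finset.mem_univ i)] at hv'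
    have hi : (i : M) ∈ Submodule.span R (s \ {(i : M)}) := by
      have h1 : v i • (i : M) ∈ Submodule.span R (s \ {(i : M)}) := by
        rw [eq_neg_of_add_eq_zero_left hv']
        exact neg_mem (sum_mem fun j hj => Submodule.smul_mem _ _
          (Submodule.subset_span ⟨j.2, fun h' => (Finset.mem_erase.1 hj).1 (Subtype.ext h')⟩))
      have h2 := Submodule.smul_mem _ (↑u⁻¹ : R) h1
      rwa [← hu, smul_smul, Units.inv_mul, one_smul] at h2
    have htop : Submodule.span R (s \ {(i : M)}) = ⊤ := by
      rw [eq_top_iff, ← hspan, Submodule.span_le]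
      intro x hx
      by_cases hxi : x = i
      · exact hxi ▸ hi
      · exact Submodule.subset_span ⟨hx, hxi⟩
    have h3 := Submodule.spanFinrank_span_le_ncard_of_finite (R := R) (hsfin.sdiff (t := {(i : M)}))
    rw [htop, ← hs] at h3
    exact absurd h3 (not_le.2 (Set.ncard_sdiff_singleton_lt_of_mem i.2 hsfin))
  let T := (ModuleCat.restrictScalars (frobenius R p)).obj (ModuleCat.of R R)
  let ι : R → T := fun a => a
  let κ : T → R := fun a => a
  let Z : T ⊗[R] M → M := fun z => e.hom z
  have Zadd : ∀ x y, Z (x + y) = Z x + Z y := fun x y => map_add e.hom.hom x y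
  have Zzero : Z 0 = 0 := map_zero e.hom.hom
  have hbox : ∀ (a : R) (m : M), Z (ι a ⊗ₜ[R] m) = a • Z (ι 1 ⊗ₜ[R] m) := fun a m => by
    refine Eq.trans ?_ (e.hom.hom.map_smul a (ι 1 ⊗ₜ[R] m))
    show e.hom _ = e.hom _
    congr 1
    exact (congrArg (fun b => ι b ⊗ₜ[R] m) (mul_one a).symm).trans
      (ModuleCat.ExtendScalars.smul_tmul (f := frobenius R p) (M := ModuleCat.of R M) a (1 : R) m).symm
  have Zsurj : Function.Surjective Z := fun m => ⟨e.inv m, e.inv_hom_id_apply m⟩
  have Zinj : Function.Injective Z := fun x y h => by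
    have := congrArg (fun m : M => (e.inv m : T ⊗[R] M)) h
    exact ((e.hom_inv_id_apply x).symm.trans this).trans (e.hom_inv_id_apply y)
  let Zl : T ⊗[R] M →+ M := ⟨⟨Z, Zzero⟩, Zadd⟩
  let q : (s → R) →ₗ[R] M := Fintype.linearCombination R (fun i : s => Z (ι 1 ⊗ₜ[R] (i : M)))
  have hq : Function.Surjective q := by
    intro m
    obtain ⟨z, rfl⟩ := Zsurj m
    induction z using TensorProduct.induction_on with
    | zero => exact ⟨0, by rw [map_zero, Zzero]⟩
    | add x y hx hy =>
      obtain ⟨a, ha⟩ := hx; obtain ⟨b, hb⟩ := hy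
      exact ⟨a + b, by rw [map_add, ha, hb, Zadd]⟩
    | tmul a x =>
      obtain ⟨w, rfl⟩ := hπ x
      refine ⟨fun i => frobenius R p (w i) * κ a, ?_⟩
      simp only [q, π, Fintype.linearCombination_apply]
      show _ = Zl _
      rw [TensorProduct.tmul_sum, map_sum]
      refine Finset.sum_congr rfl fun i _ => ?_
      rw [← hbox, ← TensorProduct.smul_tmul]
      rfl
  have hqJ : ∀ v ∈ LinearMap.ker q, ∀ i, v i ∈ J.map (frobenius R p) := by
    intro v hv
    let F : T ⊗[R] (s → R) →ₗ[R] (s → T) := (TensorProduct.piScalarRight R R T s).toLinearMap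
    let z : T ⊗[R] (s → R) := (TensorProduct.piScalarRight R R T s).symm (fun i => ι (v i))
    have hz : (π.lTensor T) z = 0 := by
      have hzs : z = ∑ i, ι (v i) ⊗ₜ[R] (Pi.single i (1 : R) : s → R) := by
        refine (LinearEquiv.symm_apply_eq _).2 ?_
        funext j
        simp [ι, map_sum, Finset.sum_apply, TensorProduct.piScalarRight_apply, Pi.single_apply]
      refine Zinj ?_
      rw [Zzero, hzs, map_sum]
      show Zl _ = _
      rw [map_sum]
      refine Eq.trans ?_ (show q v = 0 from hv)
      refine Finset.sum_congr rfl fun i _ => ?_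
      rw [LinearMap.lTensor_tmul, Fintype.linearCombination_apply_single, one_smul]
      exact hbox (v i) i
    obtain ⟨w, hw⟩ := (lTensor_exact T (LinearMap.exact_subtype_ker_map π) hπ z).1 hz
    have hmem : ∀ w : T ⊗[R] LinearMap.ker π, ∀ i,
        κ (F ((LinearMap.ker π).subtype.lTensor T w) i) ∈ J.map (frobenius R p) := by
      intro w i
      induction w using TensorProduct.induction_on with
      | zero => rw [map_zero, map_zero]; exact zero_mem _
      | add x y hx hy => rw [map_add, map_add]; exact add_mem hx hy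
      | tmul a x =>
        rw [LinearMap.lTensor_tmul]
        show κ (TensorProduct.piScalarRight R R T s (a ⊗ₜ[R] (x : s → R)) i) ∈ _
        rw [TensorProduct.piScalarRight_apply, TensorProduct.piScalarRightHom_tmul]
        show frobenius R p ((x : s → R) i) * κ a ∈ _
        exact Ideal.mul_mem_right _ _ (Ideal.mem_map_of_mem _ (hJv _ x.2 i))
    intro i
    have h := hmem w i
    rw [hw] at h
    rwa [show F z = fun i => ι (v i) from LinearEquiv.apply_symm_apply _ _] at h
  have hJJ : J ≤ J • J := by
    choose g hg using hπ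
    choose k hk using hq
    let G : (s → R) →ₗ[R] (s → R) := Fintype.linearCombination R (fun i => g (q (Pi.single i 1)))
    let K : (s → R) →ₗ[R] (s → R) := Fintype.linearCombination R (fun i => k (π (Pi.single i 1)))
    have hG : π ∘ₗ G = q := by
      refine (Pi.basisFun R s).ext fun i => ?_
      simp [G, hg]
    have hK : q ∘ₗ K = π := by
      refine (Pi.basisFun R s).ext fun i => ?_
      simp [K, hk]
    have hGK : Function.Bijective (G ∘ₗ K) := by
      refine OrzechProperty.bijective_of_surjective_endomorphism _ (LinearMap.range_eq_top.1 ?_)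
      refine top_le_iff.1 (Submodule.le_of_le_smul_of_le_jacobson_bot (I := IsLocalRing.maximalIdeal R)
        Module.Finite.fg_top (IsLocalRing.maximalIdeal_le_jacobson _) ?_)
      intro v _
      have hk' : v - G (K v) ∈ LinearMap.ker π := by
        rw [LinearMap.mem_ker, map_sub, show π (G (K v)) = q (K v) from congr($hG (K v)),
          show q (K v) = π v from congr($hK v), sub_self]
      rw [← add_sub_cancel (G (K v)) v]
      refine add_mem (Submodule.mem_sup_left ⟨v, rfl⟩) (Submodule.mem_sup_right ?_)
      rw [pi_eq_sum_univ' (v - G (K v))]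
      exact sum_mem fun i _ => Submodule.smul_mem_smul (hJm (hJv _ hk' i)) trivial
    let L := LinearEquiv.ofBijective _ hGK
    refine Ideal.span_le.2 ?_
    rintro a ⟨v, hv, i, rfl⟩
    have hKv : K v ∈ LinearMap.ker q := by
      rw [LinearMap.mem_ker, show q (K v) = π v from congr($hK v)]; exact hv
    have e1 : v = (L.symm.toLinearMap ∘ₗ G) (K v) := (L.symm_apply_apply v).symm
    rw [e1, pi_eq_sum_univ' (K v), map_sum, Finset.sum_apply]
    refine sum_mem fun j _ => ?_
    rw [map_smul, Pi.smul_apply, smul_eq_mul]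
    refine Ideal.mul_mem_right _ _ ((Ideal.map_le_iff_le_comap.2 ?_) (hqJ _ hKv j))
    intro x hx
    show x ^ p ∈ J • J
    rw [← Nat.sub_add_cancel (Nat.Prime.two_le Fact.out : 2 ≤ p), pow_add, sq]
    exact Ideal.mul_mem_left _ _ (Submodule.smul_mem_smul hx hx)
  have hJ0 : J = ⊥ := Submodule.eq_bot_of_le_smul_of_le_jacobson_bot J J (IsNoetherian.noetherian J) hJJ
    (hJm.trans (IsLocalRing.maximalIdeal_le_jacobson _))
  have hinj : Function.Injective π := (injective_iff_map_eq_zero π).2 fun v hv =>
    funext fun i => by simpa [hJ0] using hJv v hv i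
  exact Module.Free.of_equiv (LinearEquiv.ofBijective π ⟨hinj, hπ⟩)

end Groth.Agent.S0337
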