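import Groth.Statements.S0345
import Groth.Agent.LocDuality.GorenGlobal
-- import your own Groth.Agent.* helpers here

set_option autoImplicit false
universe u v
open Goren

namespace Groth.Agent.S0345

/-- For a Noetherian ring A, the A-module A has finite injective dimension exactly when every
localization of A at a prime is Gorenstein and A has finite Krull dimension. -/
theorem result (A : Type u) [CommRing A] [IsNoetherianRing A] : (∃ n : ℕ, CategoryTheory.HasInjectiveDimensionLT (ModuleCat.of A A) n) ↔ (LocCoh.IsGorensteinRing A ∧ ringKrullDim A < ⊤) := by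
  constructor
  · rintro ⟨n, hn⟩
    have hloc : ∀ (p : Ideal A) [p.IsPrime], LocCoh.IsGorensteinLocalRing (Localization.AtPrime p) ∧ ringKrullDim (Localization.AtPrime p) ≤ n := by
      intro p _
      have : IsNoetherianRing (Localization.AtPrime p) := IsLocalization.isNoetherianRing p.primeCompl _ inferInstance
      have hL : CategoryTheory.HasInjectiveDimensionLT (ModuleCat.of (Localization.AtPrime p) (Localization.AtPrime p)) n :=
        @CategoryTheory.hasInjectiveDimensionLT_of_iso _ _ _ _ _
          ((IsLocalizedModule.iso p.primeCompl (Algebra.linearMap A (Localization.AtPrime p))).extendScalarsOfIsLocalization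
            p.primeCompl (Localization.AtPrime p)).toModuleIso n
          (Groth.Agent.LocDuality.hasInjectiveDimensionLT_localized p.primeCompl n (ModuleCat.of A A))
      have hG : LocCoh.IsGorensteinLocalRing (Localization.AtPrime p) := { exists_hasInjectiveDimensionLT := ⟨n, hL⟩ }
      refine ⟨hG, ?_⟩
      obtain ⟨d, hd, -, -, hne⟩ := Groth.Agent.GorenBasic.gorenstein_dim (R := Localization.AtPrime p)
      rw [hd]
      by_contra hlt
      push Not at hlt
      exact hne (CategoryTheory.HasInjectiveDimensionLT.subsingleton (hX := hL) (ModuleCat.of (Localization.AtPrime p) (Localization.AtPrime p)) n d (by exact_mod_cast hlt.le) _)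
    refine ⟨{ isGorensteinLocalRing_localization := fun p _ => (hloc p).1 }, lt_of_le_of_lt (b := ((n : ℕ) : WithBot ℕ∞)) ?_ ?_⟩
    · rw [ringKrullDim_le_iff_isMaximal_height_le]
      intro m hm
      rw [← IsLocalization.AtPrime.ringKrullDim_eq_height m (Localization.AtPrime m)]
      exact (hloc m).2
    · exact WithBot.coe_lt_coe.mpr (ENat.natCast_lt_top n)
  · rintro ⟨hG, hdim⟩
    obtain ⟨N, hN⟩ : ∃ N : ℕ, ringKrullDim A ≤ N := by
      match hk : ringKrullDim A with
      | ⊥ => exact ⟨0, bot_le⟩
      | (m : ℕ∞) =>
        induction m using ENat.recTopCoe with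
        | top => exact absurd (hk ▸ hdim) (lt_irrefl _)
        | coe m => exact ⟨m, le_rfl⟩
    refine ⟨N + 1, Groth.Agent.LocDuality.hasInjectiveDimensionLT_of_localized (N + 1) (ModuleCat.of A A) fun P _ => ?_⟩
    have := hG.isGorensteinLocalRing_localization P
    obtain ⟨d, hd, -, -, -⟩ := Groth.Agent.GorenBasic.gorenstein_dim (R := Localization.AtPrime P)
    have hle : d ≤ N := by
      have h1 := (ringKrullDim_le_iff_isMaximal_height_le _).mp hN (by infer_instance : P.IsMaximal)
      rw [← IsLocalization.AtPrime.ringKrullDim_eq_height P (Localization.AtPrime P), hd] at h1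
      exact_mod_cast h1
    have h2 := Groth.Agent.LocDuality.hasInjectiveDimensionLT_self (R := Localization.AtPrime P) hd
    have h3 := CategoryTheory.hasInjectiveDimensionLT_of_ge (ModuleCat.of (Localization.AtPrime P) (Localization.AtPrime P)) (d + 1) (N + 1) (by omega)
    exact @CategoryTheory.hasInjectiveDimensionLT_of_iso _ _ _ _ _
      ((IsLocalizedModule.iso P.primeCompl (Algebra.linearMap A (Localization.AtPrime P))).extendScalarsOfIsLocalization
        P.primeCompl (Localization.AtPrime P)).toModuleIso.symm (N + 1) h3

end Groth.Agent.S0345
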