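import Groth.Statements.S0356
import Groth.Agent.LocCohZSS.Koszul
import Groth.Agent.KoszulCech.LocCoh
import Groth.Agent.KoszulCech.Apps
-- import your own Groth.Agent.* helpers here

set_option autoImplicit false
universe u v
open CategoryTheory AlgebraicGeometry
open LocCoh

namespace Groth.Agent.S0356

/-- Let R be a Noetherian ring, I an ideal, M an R-module and U = Spec R ∖ V(I) the punctured open. For
every p ≥ 1, the cohomology group H^p(U, M̃|_U) of the restriction to U of the quasi-coherent sheaf
associated with M is isomorphic to the local cohomology H^(p+1)_I(M). (The published statement also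
gives a four-term exact sequence in low degrees, which is not stated here; here R is Noetherian.) -/
theorem result (R : Type u) [CommRing R] [IsNoetherianRing R] (I : Ideal R) (M : Type u) [AddCommGroup M] [Module R M] (p : ℕ) (hp : 1 ≤ p) : Nonempty (Coh.HH (↑(LocCoh.puncturedOpen R I)) ((AlgebraicGeometry.tilde (R := CommRingCat.of R) (ModuleCat.of R M)).restrict (LocCoh.puncturedOpen R I).ι) p ≃+ LocCoh.H I (p + 1) M) := by
  classical
  let S := CommRingCat.of R
  let X := Spec S
  obtain ⟨s, hs⟩ := I.fg_of_isNoetherianRing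
  let f : Fin s.card → R := fun j => (s.equivFin.symm j : R)
  have hf : Set.range f = (s : Set R) := by
    ext a; constructor
    · rintro ⟨j, rfl⟩; exact (s.equivFin.symm j).2
    · intro ha; exact ⟨s.equivFin ⟨a, ha⟩, by simp [f]⟩
  have hI : Ideal.span (Set.range f) = I := by rw [hf]; exact hs
  obtain ⟨q, rfl⟩ : ∃ q, p = q + 1 := ⟨p - 1, by omega⟩
  obtain ⟨a⟩ := KoszulCech.nonempty_H_equiv_koszulHLim f M (q + 2)
  let fs := (List.finRange s.card).map f
  obtain ⟨b⟩ := LocCohZSS.nonempty_koszulHLim_tilde (R := S) (ModuleCat.of R M) fs (q + 2)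
  let fs' := fs.map (Scheme.ΓSpecIso S).inv.hom
  let F : X.Modules := tilde (R := S) (ModuleCat.of R M)
  obtain ⟨c⟩ := KoszulCech.nonempty_HHon_equiv fs' F (fun j => (isAffineOpen_top X).basicOpen _) q
  have hU : (⨆ j : Fin fs'.length, X.basicOpen (fs'.get j)) = LocCoh.puncturedOpen R I := by
    refine TopologicalSpace.Opens.ext (Set.ext fun x => ?_)
    rw [← hI]
    simp only [LocCoh.puncturedOpen, PrimeSpectrum.zeroLocus_span, TopologicalSpace.Opens.coe_iSup, Set.mem_iUnion,
      TopologicalSpace.Opens.coe_mk, Set.mem_compl_iff]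
    constructor
    · rintro ⟨j, hj⟩
      obtain ⟨a, ha, he⟩ := List.mem_map.1 (List.get_mem fs' j)
      rw [← he, basicOpen_eq_of_affine] at hj
      obtain ⟨i, -, rfl⟩ := List.mem_map.1 ha
      exact fun h => hj ((PrimeSpectrum.mem_zeroLocus _ _).1 h ⟨i, rfl⟩)
    · intro h
      obtain ⟨a, ⟨i, rfl⟩, hx⟩ := Set.not_subset.1 (mt (PrimeSpectrum.mem_zeroLocus _ _).2 h)
      obtain ⟨j, hj⟩ := List.get_of_mem (List.mem_map_of_mem (f := (Scheme.ΓSpecIso S).inv.hom)
        (List.mem_map_of_mem (f := f) (List.mem_finRange i)))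
      exact ⟨j, by rw [hj, basicOpen_eq_of_affine]; exact hx⟩
  rw [← hI] at hU ⊢
  exact hU ▸ ⟨c.trans (b.symm.trans a.toAddEquiv.symm)⟩

end Groth.Agent.S0356
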