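import Groth.Statements.S0358
import Groth.Agent.FlatLocalDepth.Basic
import Groth.Agent.Depth.CM
import Mathlib.RingTheory.Ideal.Quotient.Operations
import Mathlib.RingTheory.TensorProduct.Quotient
-- import your own Groth.Agent.* helpers here

set_option autoImplicit false
universe u v
open LocCoh

namespace Groth.Agent.S0358

/-- For a flat local homomorphism R → S of Noetherian local rings whose closed fibre S/m_R S is
Cohen–Macaulay, and a proper ideal I of S, the I-depth of S is at least dim(S/m_R S) − dim(S/(m_R S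
+ I)); stated additively. -/
theorem result (R : Type u) [CommRing R] [IsLocalRing R] [IsNoetherianRing R] (S : Type u) [CommRing S] [IsLocalRing S] [IsNoetherianRing S] [Algebra R S] [IsLocalHom (algebraMap R S)] [Module.Flat R S] (hCM : LocCoh.IsCohenMacaulayLocalRing (S ⧸ (IsLocalRing.maximalIdeal R).map (algebraMap R S))) (I : Ideal S) (hI : I ≠ ⊤) : ringKrullDim (S ⧸ (IsLocalRing.maximalIdeal R).map (algebraMap R S)) ≤ ringKrullDim (S ⧸ ((IsLocalRing.maximalIdeal R).map (algebraMap R S) ⊔ I)) + ((LocCoh.idealDepth I S : ℕ∞) : WithBot ℕ∞) := by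
  let J := (IsLocalRing.maximalIdeal R).map (algebraMap R S)
  have hJm : J ≤ IsLocalRing.maximalIdeal S := FlatLocalDepth.map_maximalIdeal_le R S
  have : Nontrivial (S ⧸ J) := FlatLocalDepth.nontrivial_fibre R S
  have : IsLocalRing (S ⧸ J) := IsLocalRing.of_surjective' (Ideal.Quotient.mk _) Ideal.Quotient.mk_surjective
  have : LocCoh.IsCohenMacaulayLocalRing (S ⧸ J) := hCM
  have hIm : I ≤ IsLocalRing.maximalIdeal S := IsLocalRing.le_maximalIdeal hI
  let I' := I.map (algebraMap S (S ⧸ J))
  have hI' : I' ≤ IsLocalRing.maximalIdeal (S ⧸ J) := by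
    refine IsLocalRing.le_maximalIdeal fun h => hI ?_
    have h1 : Ideal.comap (Ideal.Quotient.mk J) (I.map (Ideal.Quotient.mk J)) = ⊤ := by
      rw [show I.map (Ideal.Quotient.mk J) = ⊤ from h, Ideal.comap_top]
    rw [Ideal.comap_map_of_surjective _ Ideal.Quotient.mk_surjective,
      show Ideal.comap (Ideal.Quotient.mk J) ⊥ = J from Ideal.mk_ker] at h1
    exact absurd (top_le_iff.1 (h1.symm.le.trans (sup_le hIm hJm))) (IsLocalRing.maximalIdeal.isMaximal S).ne_top
  have key := Depth.supportDim_eq_quotient_add_idealDepth (S ⧸ J) Depth.isCohenMacaulayModule_self hI'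
  rw [Module.supportDim_self_eq_ringKrullDim] at key
  show ringKrullDim (S ⧸ J) ≤ _
  rw [key]
  refine add_le_add (le_of_eq ?_) (WithBot.coe_le_coe.2 ?_)
  · rw [show I' • (⊤ : Submodule (S ⧸ J) (S ⧸ J)) = I' by simp, Module.supportDim_quotient_eq_ringKrullDim]
    exact ringKrullDim_eq_of_ringEquiv (DoubleQuot.quotQuotEquivQuotSup J I)
  · rw [Depth.idealDepth_map_eq (R := S) (I := I) (M := S ⧸ J)]
    let e : TensorProduct R S (IsLocalRing.ResidueField R) ≃ₗ[S] (S ⧸ J) :=
      ((Algebra.TensorProduct.quotIdealMapEquivTensorQuot S (IsLocalRing.maximalIdeal R)).symm).toLinearEquiv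
    rw [← Depth.idealDepth_congr e]
    have hne : I • (⊤ : Submodule S (TensorProduct R S (IsLocalRing.ResidueField R))) ≠ ⊤ := by
      have : Nontrivial (TensorProduct R S (IsLocalRing.ResidueField R)) := e.toEquiv.nontrivial
      exact Depth.smul_top_ne_top_of_isLocalRing hIm
    refine Depth.le_of_forall_imp fun n hn => ?_
    obtain ⟨rs, hl, hm, hw⟩ := (Depth.le_idealDepth_iff_exists hne).1 hn
    exact hl ▸ Depth.le_idealDepth_of_isWeaklyRegular
      (FlatLocalDepth.regular_and_flat_quot R (hJm.trans (IsLocalRing.maximalIdeal_le_jacobson _)) rs S hw).1 hm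

end Groth.Agent.S0358
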