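import Groth.Statements.S0364
import Groth.Agent.DualCx.Degree

set_option autoImplicit false
set_option linter.style.haveILetI false
universe u v
open CategoryTheory
attribute [local instance] HasDerivedCategory.standard
open Dual

namespace Groth.Agent.S0364

/-- For a dualizing complex ω over a Noetherian ring and a maximal ideal m with residue field κ = A/m,
the groups Hom(κ, ω[i]) in D(A) vanish except in one degree n, where the group is isomorphic to κ as
an A-module. -/
theorem result (A : Type u) [CommRing A] [IsNoetherianRing A] (ω : Dual.D A) (hω : Dual.IsDualizing A ω) (m : Ideal A) [m.IsMaximal] : ∃ n : ℤ, (∀ i : ℤ, i ≠ n → Subsingleton (Dual.inD A (A ⧸ m) ⟶ ω⟦i⟧)) ∧ Nonempty ((Dual.inD A (A ⧸ m) ⟶ ω⟦n⟧) ≃ₗ[A] (A ⧸ m)) := by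
  obtain ⟨n, hn, hne, η, hη⟩ := DualCx.point_degree hω ⟨m, inferInstance⟩
  have key : ∀ (j : ℤ) (g : Dual.inD A (A ⧸ m) ⟶ ω⟦j⟧), ∀ c ∈ m, c • g = 0 := fun j g c hc =>
    DualCx.smul_T_eq_zero (ω := ω) (fun y => by
      obtain ⟨z, rfl⟩ := Ideal.Quotient.mk_surjective y
      exact Ideal.Quotient.eq_zero_iff_mem.mpr (Ideal.mul_mem_right z m hc)) g
  have inv : ∀ s ∉ m, ∃ b c, c ∈ m ∧ b * s + c = 1 := fun s hs => by
    obtain ⟨b, c, hc, h⟩ := Ideal.IsMaximal.exists_inv ‹m.IsMaximal› hs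
    exact ⟨b, c, hc, h⟩
  refine ⟨n, fun i hi => subsingleton_of_forall_eq 0 fun g => ?_, ?_⟩
  · obtain ⟨s, hs, hs'⟩ := hn i hi g
    obtain ⟨b, c, hc, h⟩ := inv s hs
    rw [← one_smul A g, ← h, add_smul, mul_smul]
    erw [hs']
    rw [smul_zero, key i g c hc, add_zero]
  have hη0 : η ≠ 0 := fun h0 => by
    obtain ⟨g, hg⟩ := Module.mem_support_iff'.mp hne
    obtain ⟨s, hs, a, ha⟩ := hη g
    exact hg s hs (by rw [ha, h0, smul_zero])
  let F : A →ₗ[A] (Dual.inD A (A ⧸ m) ⟶ ω⟦n⟧) := LinearMap.toSpanSingleton A _ η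
  have hker : LinearMap.ker F = m := by
    refine le_antisymm (fun a ha => ?_) fun a ha => key n η a ha
    by_contra ham
    obtain ⟨b, c, hc, h⟩ := inv a ham
    refine hη0 ?_
    have e : a • η = 0 := ha
    rw [← one_smul A η, ← h, add_smul, mul_smul, e, smul_zero, key n η c hc, add_zero]
  have hsur : Function.Surjective F := fun g => by
    obtain ⟨s, hs, a, ha⟩ := hη g
    obtain ⟨b, c, hc, h⟩ := inv s hs
    refine ⟨b * a, ?_⟩
    change (b * a) • η = g
    conv_rhs => rw [← one_smul A g, ← h, add_smul, mul_smul, key n g c hc, add_zero]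
    rw [mul_smul]
    exact congrArg (b • ·) ha.symm
  exact ⟨((Submodule.quotEquivOfEq _ _ hker.symm).trans (F.quotKerEquivOfSurjective hsur)).symm⟩

end Groth.Agent.S0364
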