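import Groth.Statements.S0370
import Groth.Agent.GorenBasic.FaithfulFID
import Groth.Agent.LocDuality.GorenLocal
import Groth.Agent.DualCx.SelfDual

set_option autoImplicit false
universe u v
open CategoryTheory
attribute [local instance] HasDerivedCategory.standard
open Dual

namespace Groth.Agent.S0370

/-- A Noetherian ring admitting a finite module which, placed in degree 0, is a dualizing complex, is
Cohen–Macaulay. -/
theorem result (A : Type u) [CommRing A] [IsNoetherianRing A] (W : Type u) [AddCommGroup W] [Module A W] [Module.Finite A W] (h : Dual.IsDualizing A (Dual.inD A W)) : LocCoh.IsCohenMacaulayRing A := by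
  haveI := h.isNoetherianRing
  obtain ⟨a₀, b₀, hab⟩ := h.finite_injective_dimension
  haveI hid : HasInjectiveDimensionLT (ModuleCat.of A W) (b₀.toNat + 1) :=
    HasInjectiveDimensionLT.mk fun i hi N e =>
      @Subsingleton.elim _ (@Equiv.subsingleton _ _ (Abelian.Ext.homEquiv (X := N) (Y := ModuleCat.of A W))
        (hab N (i : ℤ) (Or.inr (by omega)))) e 0
  have hann : Module.annihilator A W = ⊥ := eq_bot_iff.mpr fun r hr => by
    refine (Submodule.mem_bot A).mpr (h.toEnd_bijective.1 ?_)
    simp only [zero_smul]
    let F := DerivedCategory.singleFunctor (ModuleCat.{u} A) 0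
    change r • 𝟙 (F.obj (ModuleCat.of A W)) = 0
    rw [← F.map_id, ← Functor.map_smul,
      show r • 𝟙 (ModuleCat.of A W) = 0 from
        ModuleCat.hom_ext (LinearMap.ext fun w => Module.mem_annihilator.mp hr w), Functor.map_zero]
  refine { isCohenMacaulayLocalRing_localization := fun p _ => ?_ }
  let S := p.primeCompl
  haveI : IsNoetherianRing (Localization.AtPrime p) := IsLocalization.isNoetherianRing S _ inferInstance
  haveI : Module.Finite (Localization.AtPrime p) (LocalizedModule S W) :=
    Module.Finite.of_isLocalizedModule S (LocalizedModule.mkLinearMap S W)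
  have hL := LocDuality.hasInjectiveDimensionLT_localized S (b₀.toNat + 1) (ModuleCat.of A W)
  have hann' : Module.annihilator (Localization.AtPrime p) (LocalizedModule S W) = ⊥ := eq_bot_iff.mpr fun z hz => by
    obtain ⟨r, s, rfl⟩ := IsLocalization.exists_mk'_eq S z
    classical
    obtain ⟨G, hG⟩ := Module.Finite.fg_top (R := A) (M := W)
    have hr : ∀ w : W, ∃ t : S, (t : A) • r • w = 0 := fun w => by
      have h1 := Module.mem_annihilator.mp hz (LocalizedModule.mk w 1)
      have h2 := congrArg (fun y => algebraMap A (Localization.AtPrime p) (s : A) • y) h1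
      simp only [smul_smul, IsLocalization.mk'_spec', smul_zero, algebraMap_smul, LocalizedModule.smul'_mk] at h2
      rw [← LocalizedModule.zero_mk (1 : S), LocalizedModule.mk_eq] at h2
      obtain ⟨t, ht⟩ := h2
      exact ⟨t, by simpa [Submonoid.smul_def] using ht⟩
    choose t ht using hr
    let T : S := ∏ g ∈ G, t g
    have hT : (T : A) * r ∈ Module.annihilator A W := by
      rw [← Submodule.annihilator_top, ← hG, Submodule.mem_annihilator_span]
      intro g
      rw [mul_smul]
      obtain ⟨c, hc⟩ := Finset.dvd_prod_of_mem t g.2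
      change (T : A) • r • (g : W) = 0
      rw [show T = t g * c from hc, Submonoid.coe_mul, mul_comm, mul_smul, ht, smul_zero]
    rw [hann, Submodule.mem_bot] at hT
    exact (Submodule.mem_bot _).mpr ((IsLocalization.mk'_eq_zero_iff r s).mpr ⟨T, hT⟩)
  obtain ⟨d, hd, hdep, -, -⟩ := GorenBasic.dim_eq_depth_of_finite_injdim hann' ⟨_, hL⟩
  refine { supportDim_eq_depth := ?_ }
  rw [Module.supportDim_self_eq_ringKrullDim, hd, hdep]
  rfl

end Groth.Agent.S0370
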