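import Groth.Statements.S0372
import Groth.Agent.DualCx.CMLocus

set_option autoImplicit false
set_option linter.style.haveILetI false
universe u v
open CategoryTheory
attribute [local instance] HasDerivedCategory.standard
open Dual

namespace Groth.Agent.S0372

/-- If a Noetherian ring has a dualizing complex then the set of primes at which the localization is
Cohen–Macaulay is open and dense in the prime spectrum. -/
theorem result (A : Type u) [CommRing A] [IsNoetherianRing A] (ω : Dual.D A) (hω : Dual.IsDualizing A ω) : IsOpen {p : PrimeSpectrum A | LocCoh.IsCohenMacaulayLocalRing (Localization.AtPrime p.asIdeal)} ∧ Dense {p : PrimeSpectrum A | LocCoh.IsCohenMacaulayLocalRing (Localization.AtPrime p.asIdeal)} := by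
  obtain ⟨hopen, hdense⟩ := DualCx.cm_locus hω A
  have hiff : ∀ p : PrimeSpectrum A, (Subsingleton (LocalizedModule p.asIdeal.primeCompl A) ∨
      LocCoh.IsCohenMacaulayModule (Localization.AtPrime p.asIdeal) (LocalizedModule p.asIdeal.primeCompl A)) ↔
      LocCoh.IsCohenMacaulayLocalRing (Localization.AtPrime p.asIdeal) := fun p => by
    haveI : IsNoetherianRing (Localization.AtPrime p.asIdeal) :=
      IsLocalization.isNoetherianRing p.asIdeal.primeCompl _ inferInstance
    haveI : Nontrivial (LocalizedModule p.asIdeal.primeCompl A) := Module.mem_support_iff.mp (by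
      rw [Module.mem_support_iff_of_finite, Module.annihilator_eq_bot.mpr inferInstance]; exact bot_le)
    rw [or_iff_right (not_subsingleton _), LocCoh.IsCohenMacaulayModule, Depth.supportDim_localizedSelf,
      Depth.isCohenMacaulayLocalRing_iff, IsLocalization.AtPrime.ringKrullDim_eq_height p.asIdeal,
      ← Depth.depth_congr (Depth.localizedSelfEquiv p.asIdeal.primeCompl)]
  have hall : Module.support A A = Set.univ := Set.eq_univ_of_forall fun p => by
    rw [Module.mem_support_iff_of_finite, Module.annihilator_eq_bot.mpr inferInstance]; exact bot_le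
  refine ⟨?_, fun p => ?_⟩
  · simpa only [hiff] using hopen
  · refine closure_mono ?_ (hdense (hall ▸ Set.mem_univ p))
    rintro q ⟨hq, -⟩
    exact (hiff q).mp (Or.inr hq)

end Groth.Agent.S0372
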