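import Groth.Statements.S0375
import Groth.Agent.DualCx.Matlis

set_option autoImplicit false
set_option linter.style.haveILetI false
universe u v
open CategoryTheory
attribute [local instance] HasDerivedCategory.standard
open Dual

namespace Groth.Agent.S0375

/-- Over a Noetherian local ring of dimension 0, a normalized dualizing complex is isomorphic in D(A) to
an injective hull of the residue field placed in degree 0. -/
theorem result (A : Type u) [CommRing A] [IsLocalRing A] [IsNoetherianRing A] (h0 : ringKrullDim A = 0) (ω : Dual.D A) (hω : Dual.IsDualizing A ω) (hn : Dual.IsNormalized A ω) (E : Type u) [AddCommGroup E] [Module A E] (f : IsLocalRing.ResidueField A →ₗ[A] E) (hf : InjHull.IsInjectiveHull f) : Nonempty (ω ≅ Dual.inD A E) := by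
  haveI hAfl : IsFiniteLength A A := by
    haveI : IsArtinianRing A := isArtinianRing_iff_krullDimLE_zero.mpr (Ring.krullDimLE_iff.mpr h0.le)
    exact isFiniteLength_iff_isNoetherian_isArtinian.mpr ⟨inferInstance, inferInstance⟩
  have hv : ∀ j : ℤ, j ≠ 0 → Subsingleton (Dual.HD A ω j) := fun j hj =>
    haveI := DualCx.subsingleton_T_of_isFiniteLength hω hn hAfl hj
    (DualCx.evSelf (ω := ω) j).symm.toEquiv.subsingleton
  haveI : ω.IsGE 0 := (DerivedCategory.isGE_iff ω 0).mpr fun j hj =>
    haveI := hv j hj.ne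
    ModuleCat.isZero_of_subsingleton _
  haveI : ω.IsLE 0 := (DerivedCategory.isLE_iff ω 0).mpr fun j hj =>
    haveI := hv j hj.ne'
    ModuleCat.isZero_of_subsingleton _
  obtain ⟨e⟩ := DerCat.exists_iso_single_homology ω 0
  obtain ⟨d⟩ := DualCx.nonempty_T_equiv_hom hω hn hf A hAfl
  let i : Dual.HD A ω 0 ≃ₗ[A] E :=
    (DualCx.evSelf (ω := ω) 0).symm.trans (d.trans (LinearMap.ringLmapEquivSelf A A E))
  exact ⟨e ≪≫ (DerivedCategory.singleFunctor (ModuleCat.{u} A) 0).mapIso i.toModuleIso⟩

end Groth.Agent.S0375
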