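import Groth.Statements.S0380
import Groth.Agent.S0379
import Mathlib.RingTheory.Support
import Mathlib.RingTheory.Localization.BaseChange
-- import your own Groth.Agent.* helpers here

set_option autoImplicit false
universe u v
open LocCoh

namespace Groth.Agent.S0380

/-- Local cohomology with support in I vanishes above degree d on all modules exactly when, for every
prime p, local cohomology over A_p with support in I A_p vanishes above degree d on all A_p-modules. -/
theorem result (R : Type u) [CommRing R] [IsNoetherianRing R] (I : Ideal R) (d : ℕ) : LocCoh.CdLE R I d ↔ ∀ (p : Ideal R) [p.IsPrime], LocCoh.CdLE (Localization.AtPrime p) (I.map (algebraMap R (Localization.AtPrime p))) d := by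
  refine ⟨fun h p _ => (S0379.result R (Localization.AtPrime p) I d).1 h, fun h M _ _ i hi => ?_⟩
  refine (Module.support_eq_empty_iff (R := R)).mp (Set.eq_empty_iff_forall_notMem.mpr fun p hp => ?_)
  obtain ⟨e⟩ := S11617.result R (Localization.AtPrime p.asIdeal) I M i
  have := h p.asIdeal (TensorProduct R (Localization.AtPrime p.asIdeal) M) i hi
  have h1 : Subsingleton (TensorProduct R (Localization.AtPrime p.asIdeal) (LocCoh.H I i M)) :=
    e.toEquiv.subsingleton
  rw [Module.mem_support_iff] at hp
  have h2 : Subsingleton (LocalizedModule p.asIdeal.primeCompl (LocCoh.H I i M)) :=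
    (LocalizedModule.equivTensorProduct p.asIdeal.primeCompl (LocCoh.H I i M)).toEquiv.subsingleton
  exact not_nontrivial _ hp

end Groth.Agent.S0380
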