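import Groth.Statements.S0382
import Groth.Agent.GrpSch.AbMul
import Groth.Agent.GrpSch.TangentUnram
import Groth.Agent.GrpSch.ConstFib

set_option autoImplicit false
universe u v
open CategoryTheory MonoidalCategory CartesianMonoidalCategory MonObj GrpObj AlgebraicGeometry
open GrpSch

namespace Groth.Agent.S0382

/-- On an abelian variety of positive dimension over a field K (a proper, geometrically integral group
scheme over K), multiplication by an integer d is étale exactly when d is nonzero in K.
Multiplication by d is written as the d-th power of the identity morphism in the group Hom(A, A),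
whose multiplication is pointwise, induced by the group structure of A. -/
theorem result (K : Type u) [Field K] (A : Over (Spec (CommRingCat.of K))) [GrpObj A] [IsProper A.hom] [GeometricallyIntegral A.hom] (hA : 0 < topologicalKrullDim A.left) (d : ℤ) : Etale ((𝟙 A ^ d).left) ↔ ((d : K) ≠ 0) := by
  haveI := Groth.Agent.GrpSch.AbRigid.isCommMonObj A
  refine ⟨fun h hd => Groth.Agent.GrpSch.TangentMul.not_etale_zpow A hA d hd h, fun hd => ?_⟩
  exact Groth.Agent.GrpSch.TangentMul.etale_zpow A d hd

end Groth.Agent.S0382
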