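import Groth.Statements.S0394
import Groth.Agent.FlatCrit.Local

set_option autoImplicit false
universe u
open FlatMor

namespace Groth.Agent.S0394

open scoped TensorProduct

open TensorProduct in
/-- For a local homomorphism R → S of Noetherian local rings and a nonzero finite S-module M flat over R
whose fibre M/mM is free over S/mS (m the maximal ideal of R), M is free over S and S is flat over
R. -/
theorem result {R S M : Type u} [CommRing R] [CommRing S] [IsLocalRing R] [IsLocalRing S] [IsNoetherianRing R] [IsNoetherianRing S] [Algebra R S] [IsLocalHom (algebraMap R S)]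
    [AddCommGroup M] [Module R M] [Module S M] [IsScalarTower R S M] [Module.Finite S M] [Nontrivial M] [Module.Flat R M]
    (h : Module.Free (S ⧸ ((IsLocalRing.maximalIdeal R).map (algebraMap R S))) ((S ⧸ ((IsLocalRing.maximalIdeal R).map (algebraMap R S))) ⊗[S] M)) :
    Module.Free S M ∧ Module.Flat R S := by
  let J := (IsLocalRing.maximalIdeal R).map (algebraMap R S)
  have hJ : J ≤ Ideal.jacobson ⊥ :=
    le_trans (((IsLocalRing.local_hom_TFAE (algebraMap R S)).out 0 2).mp ‹_›) (IsLocalRing.maximalIdeal_le_jacobson _)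
  haveI := h
  haveI : Nontrivial (S ⧸ J) := Ideal.Quotient.nontrivial_iff.mpr fun e => by
    have := (IsLocalRing.jacobson_eq_maximalIdeal (⊥ : Ideal S) bot_ne_top) ▸ hJ
    exact (Ideal.IsMaximal.ne_top inferInstance) (top_le_iff.mp (e ▸ this))
  let b := Module.Free.chooseBasis (S ⧸ J) ((S ⧸ J) ⊗[S] M)
  haveI : Fintype (Module.Free.ChooseBasisIndex (S ⧸ J) ((S ⧸ J) ⊗[S] M)) := inferInstance
  obtain ⟨v, eq⟩ := (TensorProduct.mk_surjective S M (S ⧸ J) Ideal.Quotient.mk_surjective).comp_left b
  let u : (_ → S) →ₗ[S] M := Fintype.linearCombination S v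
  have hq : ∀ c, (1 : S ⧸ J) ⊗ₜ[S] u c = ∑ i, Ideal.Quotient.mk J (c i) • b i := fun c => by
    simp only [u, Fintype.linearCombination_apply, TensorProduct.tmul_sum, TensorProduct.tmul_smul]
    refine Finset.sum_congr rfl fun i _ => ?_
    rw [← congrFun eq i, ← Ideal.Quotient.algebraMap_eq, algebraMap_smul]
    rfl
  have hsurj : Function.Surjective u := by
    rw [← LinearMap.range_eq_top]
    refine top_le_iff.mp (Submodule.le_of_le_smul_of_le_jacobson_bot Module.Finite.fg_top hJ ?_)
    intro m _
    let c := fun i => Function.surjInv Ideal.Quotient.mk_surjective (b.repr ((1 : S ⧸ J) ⊗ₜ[S] m) i)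
    have hc : (1 : S ⧸ J) ⊗ₜ[S] u c = 1 ⊗ₜ[S] m := by
      rw [hq]
      conv_rhs => rw [← b.sum_repr ((1 : S ⧸ J) ⊗ₜ[S] m)]
      simp [c, Function.surjInv_eq]
    have : m - u c ∈ J • (⊤ : Submodule S M) :=
      (LinearMap.ker_tensorProductMk (I := J) (Q := M)).le (by simp [TensorProduct.tmul_sub, hc])
    simpa using Submodule.add_mem_sup (LinearMap.mem_range_self u c) this
  have hu : Function.Injective ((u.restrictScalars R).lTensor (IsLocalRing.ResidueField R)) := by
    rw [injective_iff_map_eq_zero]
    intro x hx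
    obtain ⟨c, rfl⟩ := TensorProduct.mk_surjective R _ (IsLocalRing.ResidueField R) Ideal.Quotient.mk_surjective x
    simp only [TensorProduct.mk_apply, LinearMap.lTensor_tmul, LinearMap.restrictScalars_apply] at hx
    have h1 := (LinearMap.ker_tensorProductMk (I := IsLocalRing.maximalIdeal R) (Q := M)).le hx
    have h2 : u c ∈ LinearMap.ker (TensorProduct.mk S (S ⧸ J) M 1) := by
      rw [LinearMap.ker_tensorProductMk]
      exact Groth.Agent.FlatCrit.mem_map_smul_top h1
    rw [LinearMap.mem_ker, TensorProduct.mk_apply, hq] at h2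
    have h3 : ∀ i, c i ∈ (IsLocalRing.maximalIdeal R) • (⊤ : Submodule R S) := fun i => by
      rw [Ideal.smul_top_eq_map, Submodule.restrictScalars_mem, ← Ideal.Quotient.eq_zero_iff_mem]
      exact Fintype.linearIndependent_iff.mp b.linearIndependent _ h2 i
    refine (LinearMap.ker_tensorProductMk (I := IsLocalRing.maximalIdeal R) (Q := (Module.Free.ChooseBasisIndex (S ⧸ J) ((S ⧸ J) ⊗[S] M) → S))).ge ?_
    classical
    rw [← Finset.univ_sum_single c]
    refine sum_mem fun i _ => ?_
    have := Submodule.mem_map_of_mem (f := LinearMap.single R (fun _ => S) i) (h3 i)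
    rw [Submodule.map_smul''] at this
    exact Submodule.smul_mono le_rfl le_top this
  obtain ⟨hinj, -⟩ := Groth.Agent.FlatCrit.injective_and_flat_coker (S := S) hJ (u.restrictScalars R) hu
  let e := LinearEquiv.ofBijective u ⟨hinj, hsurj⟩
  refine ⟨Module.Free.of_equiv e, ?_⟩
  obtain ⟨i⟩ : Nonempty (Module.Free.ChooseBasisIndex (S ⧸ J) ((S ⧸ J) ⊗[S] M)) := by
    by_contra hne
    rw [not_nonempty_iff] at hne
    haveI : Subsingleton M := e.symm.toEquiv.subsingleton
    exact not_subsingleton M inferInstance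
  classical
  haveI : Module.Flat R (Module.Free.ChooseBasisIndex (S ⧸ J) ((S ⧸ J) ⊗[S] M) → S) :=
    Module.Flat.of_linearEquiv (e.restrictScalars R)
  exact Module.Flat.of_retract (LinearMap.single R (fun _ => S) i) (LinearMap.proj i) (by ext; simp)

end Groth.Agent.S0394
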