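import Groth.Statements.S0395
import Groth.Agent.FlatCrit.Local

set_option autoImplicit false
universe u
open FlatMor

namespace Groth.Agent.S0395

open TensorProduct nonZeroDivisors in
/-- For a flat local homomorphism R → S of Noetherian local rings and an element f of S that is regular
on the fibre ring S/mS, the quotient of S by f is again R-flat and f is regular on S. -/
theorem result {R S : Type u} [CommRing R] [CommRing S] [IsLocalRing R] [IsLocalRing S] [IsNoetherianRing R] [IsNoetherianRing S] [Algebra R S] [IsLocalHom (algebraMap R S)] [Module.Flat R S]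
    (f : S) (hf : Ideal.Quotient.mk ((IsLocalRing.maximalIdeal R).map (algebraMap R S)) f ∈ nonZeroDivisors (S ⧸ ((IsLocalRing.maximalIdeal R).map (algebraMap R S)))) :
    Module.Flat R (S ⧸ Ideal.span {f}) ∧ f ∈ nonZeroDivisors S := by
  let u : S →ₗ[R] S := LinearMap.mulRight R f
  have hu : Function.Injective (u.lTensor (IsLocalRing.ResidueField R)) := by
    rw [injective_iff_map_eq_zero]
    intro x hx
    obtain ⟨s, rfl⟩ := TensorProduct.mk_surjective R S (IsLocalRing.ResidueField R) Ideal.Quotient.mk_surjective x
    simp only [TensorProduct.mk_apply, LinearMap.lTensor_tmul, u, LinearMap.mulRight_apply] at hx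
    have h1 := (LinearMap.ker_tensorProductMk (I := IsLocalRing.maximalIdeal R) (Q := S)).le hx
    rw [Ideal.smul_top_eq_map, Submodule.restrictScalars_mem, ← Ideal.Quotient.eq_zero_iff_mem, map_mul] at h1
    have h2 := (mul_right_mem_nonZeroDivisors_eq_zero_iff hf).mp h1
    rw [Ideal.Quotient.eq_zero_iff_mem, ← Submodule.restrictScalars_mem R, ← Ideal.smul_top_eq_map] at h2
    exact (LinearMap.ker_tensorProductMk (I := IsLocalRing.maximalIdeal R) (Q := S)).ge h2
  obtain ⟨hinj, hflat⟩ := Groth.Agent.FlatCrit.injective_and_flat_coker (S := S)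
    (le_trans (((IsLocalRing.local_hom_TFAE (algebraMap R S)).out 0 2).mp ‹_›) (IsLocalRing.maximalIdeal_le_jacobson _)) u hu
  refine ⟨?_, mem_nonZeroDivisors_iff_right.mpr fun x hx => hinj (by simpa [u] using hx)⟩
  have he : LinearMap.range u = (Ideal.span {f}).restrictScalars R := by
    ext x
    simp [u, Ideal.mem_span_singleton', LinearMap.mem_range]
  haveI := hflat
  exact Module.Flat.of_linearEquiv (((Submodule.quotEquivOfEq _ _ he).trans
    (Submodule.Quotient.restrictScalarsEquiv R _)).symm)

end Groth.Agent.S0395
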