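import Groth.Statements.S0396
import Groth.Agent.FlatCrit.Basic
import Mathlib.RingTheory.Localization.BaseChange
import Mathlib.RingTheory.Localization.AtPrime.Basic

set_option autoImplicit false
universe u
open FlatMor

namespace Groth.Agent.S0396

open TensorProduct in
/-- For a map of Noetherian rings R → S, an ideal I of R and a finite S-module M such that M/IⁿM is flat
over R/Iⁿ for every n ≥ 1, the localization of M at any prime of S containing IS is flat over R. -/
theorem result {R S M : Type u} [CommRing R] [CommRing S] [IsNoetherianRing R] [IsNoetherianRing S] [Algebra R S]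
    [AddCommGroup M] [Module R M] [Module S M] [IsScalarTower R S M] [Module.Finite S M] (I : Ideal R)
    (h : ∀ n : ℕ, 0 < n → Module.Flat (R ⧸ I ^ n) ((R ⧸ I ^ n) ⊗[R] M))
    (q : Ideal S) [q.IsPrime] (hq : I.map (algebraMap R S) ≤ q) :
    Module.Flat R (LocalizedModule q.primeCompl M) := by
  haveI : IsNoetherianRing (Localization.AtPrime q) := IsLocalization.isNoetherianRing q.primeCompl _ inferInstance
  let Sq := Localization.AtPrime q
  have hI : I.map (algebraMap R Sq) ≤ Ideal.jacobson ⊥ := by
    rw [IsScalarTower.algebraMap_eq R S Sq, ← Ideal.map_map]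
    refine (Ideal.map_mono hq).trans ?_
    rw [Localization.AtPrime.map_eq_maximalIdeal]
    exact IsLocalRing.maximalIdeal_le_jacobson _
  haveI hflat : Module.Flat R (Sq ⊗[S] M) := by
    refine Groth.Agent.FlatCrit.flat_of_lTensor_injective_mod_pow (S := Sq) hI fun n N' => ?_
    apply Groth.Agent.FlatCrit.lTensor_baseChange_injective
    rcases Nat.eq_zero_or_pos n with rfl | hn
    · haveI : Subsingleton (R ⧸ I ^ 0) := Ideal.Quotient.subsingleton_iff.mpr (by simp [Ideal.one_eq_top])
      exact fun _ _ _ => Subsingleton.elim _ _
    · haveI := h n hn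
      exact Groth.Agent.FlatCrit.lTensor_injective_of_flat_quotient_pow n N'
  exact Module.Flat.of_linearEquiv (((LocalizedModule.equivTensorProduct q.primeCompl M).restrictScalars S).restrictScalars R)

end Groth.Agent.S0396
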