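import Groth.Statements.S0401
import Mathlib.RingTheory.QuasiFinite.Basic
import Mathlib.RingTheory.Ideal.Height

set_option autoImplicit false
universe u
open FlatMor

namespace Groth.Agent.S0401

/-- For a finite type ring map R → S quasi-finite at a prime q lying over p, the dimension of S_q is at
most the dimension of R_p. -/
theorem result {R S : Type u} [CommRing R] [CommRing S] [Algebra R S] [Algebra.FiniteType R S] (q : Ideal S) [q.IsPrime] [Algebra.QuasiFiniteAt R q] :
    ringKrullDim (Localization.AtPrime q) ≤ ringKrullDim (Localization.AtPrime (q.under R)) := by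
  rw [IsLocalization.AtPrime.ringKrullDim_eq_height q, IsLocalization.AtPrime.ringKrullDim_eq_height (q.under R),
    WithBot.coe_le_coe]
  have h1 := PrimeSpectrum.height_eq_orderHeight (⟨q, inferInstance⟩ : PrimeSpectrum S)
  have h2 := PrimeSpectrum.height_eq_orderHeight (⟨q.under R, inferInstance⟩ : PrimeSpectrum R)
  rw [h1, h2]
  refine Order.height_le fun l hl => ?_
  have hle : ∀ i, (l i).asIdeal ≤ q := fun i => by
    have : l i ≤ l.last := l.monotone (Fin.le_last i)
    rw [hl] at this
    exact this
  let l' : LTSeries (PrimeSpectrum R) := LTSeries.mk l.length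
    (fun i => ⟨(l i).asIdeal.under R, inferInstance⟩) (by
      intro i j hij
      have hlt : (l i).asIdeal < (l j).asIdeal := l.strictMono hij
      refine lt_of_le_of_ne (Ideal.comap_mono hlt.le) fun e => hlt.ne ?_
      haveI : Algebra.QuasiFiniteAt R (l j).asIdeal := Algebra.QuasiFiniteAt.of_le (hle j)
      exact Algebra.QuasiFiniteAt.eq_of_le_of_under_eq hlt.le (congrArg (fun z : PrimeSpectrum R => z.asIdeal) e))
  refine le_trans (le_of_eq (by rfl)) (Order.length_le_height (p := l') ?_)
  show (⟨(l (Fin.last l.length)).asIdeal.under R, _⟩ : PrimeSpectrum R) ≤ _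
  exact Ideal.comap_mono (hle _)

end Groth.Agent.S0401
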