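import Groth.Statements.S0411
import Groth.Agent.AlgSpc.FppfGlue
import Groth.Agent.GenLocus.Ample

set_option autoImplicit false
universe u
open FlatMor

namespace Groth.Agent.S0411

open AlgebraicGeometry CategoryTheory Limits in
/-- For a separated, locally quasi-finite morphism (locally of finite type with discrete fibres) to an
affine scheme, every finite set of points of the source lies in an affine open. -/
theorem result {X Y : Scheme.{u}} (f : X ⟶ Y) [IsAffine Y] [IsSeparated f] [LocallyQuasiFinite f] [LocallyOfFiniteType f] (T : Finset ↑X) :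
    ∃ U : X.Opens, IsAffineOpen U ∧ ∀ x ∈ T, x ∈ U := by
  choose V hV hxV using fun x : X => exists_isAffineOpen_mem_and_subset (TopologicalSpace.Opens.mem_top x)
  let U : X.Opens := ⨆ x : T, V x.1
  have hU : IsCompact (U : Set X) := by
    rw [TopologicalSpace.Opens.coe_iSup]
    exact isCompact_iUnion fun x => (hV x.1).isCompact
  have : CompactSpace ↥(U : Scheme.{u}) := isCompact_iff_compactSpace.mp hU
  have : Scheme.IsQuasiAffine (U : Scheme.{u}) := Groth.Agent.AlgSpc.FppfDescent.isQuasiAffine_of_locallyQuasiFinite (U.ι ≫ f)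
  obtain ⟨s, hs, hTs, -⟩ := Groth.Agent.GenLocus.exists_affine_genLocus_of_isQuasiAffine
    (L := Coh.structureModule (U : Scheme.{u})) (fun z => ⟨⊤, trivial, ⟨Scheme.Modules.restrictUnitIso _⟩⟩)
    (T.finite_toSet.preimage U.ι.isOpenEmbedding.injective.injOn) ⊤ (fun _ _ => trivial)
  refine ⟨U.ι ''ᵁ CohB1.genLocus _ s, hs.image_of_isOpenImmersion U.ι, fun x hx => ?_⟩
  exact ⟨⟨x, TopologicalSpace.Opens.mem_iSup.mpr ⟨⟨x, hx⟩, (hxV x).1⟩⟩, hTs hx, rfl⟩

end Groth.Agent.S0411
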