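import Groth.Statements.S0417
import Mathlib.AlgebraicGeometry.Morphisms.ClosedImmersion
import Mathlib.AlgebraicGeometry.Morphisms.Affine
import Mathlib.AlgebraicGeometry.Morphisms.FiniteType
import Mathlib.RingTheory.Nakayama
import Mathlib.RingTheory.IntegralClosure.IsIntegralClosure.Basic
import Mathlib.RingTheory.FiniteType

open AlgebraicGeometry CategoryTheory Limits in
theorem Groth.Agent.S0417.surjective_of_nil {A B A' : Type _} [CommRing A] [CommRing B] [CommRing A']
    [Algebra A B] [Algebra A A'] [Algebra.FiniteType A B] (hA : Function.Surjective (algebraMap A A'))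
    (hnil : ∀ a, algebraMap A A' a = 0 → IsNilpotent a)
    (h : ∀ b : B, ∃ a : A, b - algebraMap A B a ∈ (RingHom.ker (algebraMap A A')).map (algebraMap A B)) :
    Function.Surjective (algebraMap A B) := by
  let I := RingHom.ker (algebraMap A A')
  have hI : I ≤ nilradical A := fun a ha => mem_nilradical.mpr (hnil a ha)
  have hint : ∀ b : B, IsIntegral A b := fun b => by
    obtain ⟨a, ha⟩ := h b
    have hn : IsNilpotent (b - algebraMap A B a) := by
      refine mem_nilradical.mp (Ideal.map_le_iff_le_comap.mpr ?_ ha)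
      exact fun x hx => Ideal.mem_comap.mpr (mem_nilradical.mpr ((hnil x hx).map _))
    obtain ⟨n, hn⟩ := hn
    have h1 : IsIntegral A (b - algebraMap A B a) :=
      ⟨Polynomial.X ^ n, Polynomial.monic_X_pow n, by simp [hn]⟩
    simpa using h1.add (isIntegral_algebraMap (x := a))
  haveI : Algebra.IsIntegral A B := ⟨hint⟩
  haveI : Module.Finite A B := Algebra.IsIntegral.finite
  have htop : (⊤ : Submodule A B) ≤ LinearMap.range (Algebra.linearMap A B) := by
    refine Submodule.le_of_le_smul_of_le_jacobson_bot Module.Finite.fg_top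
      (hI.trans (le_sInf fun J hJ => haveI := hJ.2.isPrime; nilradical_le_prime J)) ?_
    intro b _
    obtain ⟨a, ha⟩ := h b
    rw [show b = algebraMap A B a + (b - algebraMap A B a) by ring]
    refine Submodule.add_mem_sup ⟨a, rfl⟩ ?_
    rw [Ideal.smul_top_eq_map]
    exact ha
  exact fun b => htop (trivial : b ∈ (⊤ : Submodule A B))

open AlgebraicGeometry CategoryTheory Limits in
theorem Groth.Agent.S0417.affine_case {X S S' : Scheme} (f : X ⟶ S) (i : S' ⟶ S) [IsAffine S] [IsAffineHom f]
    [IsClosedImmersion i] [Surjective i] [LocallyOfFiniteType f] [IsClosedImmersion (pullback.snd f i)] :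
    IsClosedImmersion f := by
  haveI : IsAffine X := isAffine_of_isAffineHom f
  haveI : IsAffine S' := isAffine_of_isAffineHom i
  refine IsClosedImmersion.of_surjective_of_isAffine f ?_
  let := f.appTop.hom.toAlgebra
  let := i.appTop.hom.toAlgebra
  haveI : Algebra.FiniteType Γ(S, ⊤) Γ(X, ⊤) := (HasRingHomProperty.iff_of_isAffine (P := @LocallyOfFiniteType)).mp ‹_›
  have hi : Function.Surjective i.appTop := i.app_surjective ⊤ (isAffineOpen_top S)
  refine Groth.Agent.S0417.surjective_of_nil (A' := Γ(S', ⊤)) hi (fun a ha => ?_) (fun b => ?_)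
  · rw [← mem_nilradical, nilradical_eq_sInf, Submodule.mem_sInf]
    intro P hP
    by_contra hne
    obtain ⟨z, hz⟩ := i.surjective ((isAffineOpen_top S).fromSpec ⟨P, hP⟩)
    have h1 : (isAffineOpen_top S).fromSpec ⟨P, hP⟩ ∈ S.basicOpen a := by
      show (⟨P, hP⟩ : PrimeSpectrum Γ(S, ⊤)) ∈ (isAffineOpen_top S).fromSpec ⁻¹ᵁ S.basicOpen a
      rw [(isAffineOpen_top S).fromSpec_preimage_basicOpen]
      exact hne
    rw [← hz] at h1
    have h2 : z ∈ S'.basicOpen (i.appTop a) := by rw [← Scheme.preimage_basicOpen_top]; exact h1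
    rw [show i.appTop a = 0 from ha, Scheme.basicOpen_zero] at h2
    exact h2
  · let := (pullback.snd f i).appTop.hom.toAlgebra
    obtain ⟨a', ha'⟩ := (pullback.snd f i).app_surjective ⊤ (isAffineOpen_top S') ((pullback.fst f i).appTop b)
    obtain ⟨a, rfl⟩ := hi a'
    refine ⟨a, ?_⟩
    have h0 : (pullback.fst f i).appTop (b - f.appTop a) = 0 := by
      rw [map_sub, sub_eq_zero, ← ha']
      show (i.appTop ≫ (pullback.snd f i).appTop) a = (f.appTop ≫ (pullback.fst f i).appTop) a
      rw [← Scheme.Hom.comp_appTop, ← Scheme.Hom.comp_appTop, pullback.condition]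
    letI := (pullback.fst f i).appTop.hom.toAlgebra
    letI : Algebra Γ(S, ⊤) Γ(pullback f i, ⊤) := ((pullback.fst f i) ≫ f).appTop.hom.toAlgebra
    haveI : IsScalarTower Γ(S, ⊤) Γ(X, ⊤) Γ(pullback f i, ⊤) := .of_algebraMap_eq fun z => by
      show (pullback.fst f i ≫ f).appTop z = _
      rw [Scheme.Hom.comp_appTop]; rfl
    haveI : IsScalarTower Γ(S, ⊤) Γ(S', ⊤) Γ(pullback f i, ⊤) := .of_algebraMap_eq fun z => by
      show (pullback.fst f i ≫ f).appTop z = _
      rw [pullback.condition, Scheme.Hom.comp_appTop]; rfl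
    have hpo' : Algebra.IsPushout Γ(S, ⊤) Γ(X, ⊤) Γ(S', ⊤) Γ(pullback f i, ⊤) :=
      CommRingCat.isPushout_iff_isPushout.1 (isPushout_appTop_of_isPullback (IsPullback.of_hasPullback f i))
    let e := Algebra.IsPushout.equiv Γ(S, ⊤) Γ(X, ⊤) Γ(S', ⊤) Γ(pullback f i, ⊤)
    have h3 : (b - f.appTop a) ⊗ₜ[Γ(S, ⊤)] (1 : Γ(S', ⊤)) = 0 := by
      apply e.injective
      rw [map_zero]
      refine Eq.trans ?_ h0
      exact e.commutes _
    have hex := lTensor_exact Γ(X, ⊤) (LinearMap.exact_subtype_ker_map (Algebra.linearMap Γ(S, ⊤) Γ(S', ⊤))) hi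
    have h4 : (Algebra.linearMap Γ(S, ⊤) Γ(S', ⊤)).lTensor Γ(X, ⊤) ((b - f.appTop a) ⊗ₜ (1 : Γ(S, ⊤))) = 0 := by
      simpa using h3
    obtain ⟨w, hw⟩ := (hex _).1 h4
    have h5 : b - f.appTop a = TensorProduct.rid Γ(S, ⊤) Γ(X, ⊤)
        ((LinearMap.ker (Algebra.linearMap Γ(S, ⊤) Γ(S', ⊤))).subtype.lTensor _ w) := by rw [hw]; simp
    show b - f.appTop a ∈ _
    rw [h5]
    clear hw h5
    induction w using TensorProduct.induction_on with
    | zero => simp
    | tmul x r =>
      simp only [LinearMap.lTensor_tmul, TensorProduct.rid_tmul, Submodule.coe_subtype, Algebra.smul_def]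
      exact Ideal.mul_mem_right _ _ (Ideal.mem_map_of_mem _ r.2)
    | add x y hx hy => simp only [map_add]; exact add_mem hx hy

set_option autoImplicit false
universe u
open FlatMor

namespace Groth.Agent.S0417

open AlgebraicGeometry CategoryTheory Limits in
/-- Let i : S' → S be a closed immersion that is bijective on points and f : X → S a morphism of finite
type (locally of finite type and quasi-compact) whose base change X ×_S S' → S' is a closed
immersion. Then f is a closed immersion. The published statement alternatively allows S' → S of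
finite presentation in place of the finite-type hypothesis on f; only the first alternative is
stated. -/
theorem result {X S S' : Scheme.{u}} (f : X ⟶ S) (i : S' ⟶ S) [IsClosedImmersion i] (hi : Function.Bijective i)
    [LocallyOfFiniteType f] [QuasiCompact f] [IsClosedImmersion (pullback.snd f i)] : IsClosedImmersion f := by
  haveI : Surjective i := ⟨hi.2⟩
  have hh : IsHomeomorph (pullback.fst f i) :=
    isHomeomorph_iff_isEmbedding_surjective.mpr ⟨(pullback.fst f i).isClosedEmbedding.isEmbedding,
      (pullback.fst f i).surjective⟩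
  have hemb : Topology.IsClosedEmbedding f := by
    have h1 : Topology.IsClosedEmbedding (pullback.snd f i ≫ i) := (pullback.snd f i ≫ i).isClosedEmbedding
    rw [← pullback.condition] at h1
    have h2 : (f : X → S) = (pullback.fst f i ≫ f) ∘ hh.homeomorph.symm := by
      ext x
      show f x = f (pullback.fst f i _)
      exact congrArg f (hh.homeomorph.apply_symm_apply x).symm
    rw [h2]
    exact h1.comp hh.homeomorph.symm.isClosedEmbedding
  haveI : IsAffineHom f := isAffineHom_of_isInducing f hemb.isInducing hemb.isClosed_range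
  rw [IsZariskiLocalAtTarget.iff_of_iSup_eq_top (P := @IsClosedImmersion) (fun V : S.affineOpens => (V : S.Opens))
    (iSup_affineOpens_eq_top S)]
  intro V
  haveI : IsAffine (V.1 : Scheme) := V.2
  haveI : IsAffineHom (f ∣_ V.1) := IsZariskiLocalAtTarget.restrict ‹_› _
  haveI : IsClosedImmersion (i ∣_ V.1) := IsZariskiLocalAtTarget.restrict ‹_› _
  haveI : Surjective (i ∣_ V.1) := IsZariskiLocalAtTarget.restrict ‹_› _
  haveI : LocallyOfFiniteType (f ∣_ V.1) := IsZariskiLocalAtTarget.restrict ‹_› _
  haveI : IsClosedImmersion (pullback.snd (f ∣_ V.1) (i ∣_ V.1)) := by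
    have h1 := (IsPullback.of_hasPullback (f ∣_ V.1) (i ∣_ V.1)).paste_horiz (isPullback_morphismRestrict f V.1).flip
    rw [morphismRestrict_ι] at h1
    let m := pullback.lift (pullback.fst (f ∣_ V.1) (i ∣_ V.1) ≫ (f ⁻¹ᵁ V.1).ι)
      (pullback.snd (f ∣_ V.1) (i ∣_ V.1) ≫ (i ⁻¹ᵁ V.1).ι) (by rw [Category.assoc _ (Scheme.Opens.ι _) i]; exact h1.w)
    have h2 : IsPullback m (pullback.snd (f ∣_ V.1) (i ∣_ V.1)) (pullback.snd f i) (i ⁻¹ᵁ V.1).ι :=
      IsPullback.of_right (h₁₂ := pullback.fst f i) (by rw [pullback.lift_fst]; exact h1)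
        (pullback.lift_snd _ _ _) (IsPullback.of_hasPullback f i)
    exact MorphismProperty.of_isPullback h2 ‹IsClosedImmersion (pullback.snd f i)›
  exact affine_case (f ∣_ V.1) (i ∣_ V.1)

end Groth.Agent.S0417
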