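import Groth.Statements.S0420
import Groth.Agent.GeomIrredStrata.GeomFibre
import Groth.Agent.FlatMorLib.GeomDescent

set_option autoImplicit false
universe u
open FlatMor

namespace Groth.Agent.S0420

open AlgebraicGeometry CategoryTheory Limits in
/-- For a morphism of finite type to an irreducible scheme whose generic fibre is geometrically
connected, all fibres over some nonempty open of the target are geometrically connected. -/
theorem result {X Y : Scheme.{u}} (f : X ⟶ Y) [IrreducibleSpace ↑Y] [LocallyOfFiniteType f] [QuasiCompact f]
    (h : GeometricallyConnected (f.fiberToSpecResidueField (genericPoint ↑Y))) :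
    ∃ V : Y.Opens, (V : Set ↑Y).Nonempty ∧ GeometricallyConnected (f ∣_ V) := by
  obtain ⟨W, hyW, hW⟩ := GeomIrredStrata.gc_near f (genericPoint ↑Y)
  refine ⟨W, ⟨_, hyW⟩, ?_⟩
  rw [GeometricallyConnected.eq_geometrically, geometrically_iff_forall_fiberToSpecResidueField]
  intro s
  rw [← GeometricallyConnected.eq_geometrically,
    FlatMorLib.geometricallyConnected_fiber_iff (isPullback_morphismRestrict f W).flip,
    GeomIrredStrata.geometricallyConnected_fiber_iff]
  rw [show GeomIrredStrata.gc f (W.ι s) = _ from hW _ s.2 (genericPoint_specializes _)]
  exact (GeomIrredStrata.geometricallyConnected_fiber_iff f _).1 h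

end Groth.Agent.S0420
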