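import Groth.Statements.S0422
import Groth.Agent.FlatLocus.General

set_option autoImplicit false
universe u
open FlatMor

namespace Groth.Agent.S0422

open TensorProduct in
/-- Fibrewise criterion of flatness modulo a locally nilpotent ideal: let R → S be of finite type, S' an
S-algebra which is of finite presentation over R, I an ideal of R all of whose elements are
nilpotent, and M a finitely presented S'-module which is flat over R and such that M/IM is flat over
S/IS. Then M is flat over S. (The published statement also asserts flatness over R of suitable
localizations of S; that part is not stated here.) -/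
theorem result {R S S' M : Type u} [CommRing R] [CommRing S] [CommRing S'] [Algebra R S] [Algebra S S'] [Algebra R S'] [IsScalarTower R S S']
    [Algebra.FiniteType R S] [Algebra.FinitePresentation R S'] (I : Ideal R) (hI : ∀ a ∈ I, IsNilpotent a)
    [AddCommGroup M] [Module S' M] [Module S M] [Module R M] [IsScalarTower S S' M] [IsScalarTower R S M]
    [Module.FinitePresentation S' M] [Module.Flat R M]
    (h : Module.Flat (S ⧸ I.map (algebraMap R S)) ((S ⧸ I.map (algebraMap R S)) ⊗[S] M)) : Module.Flat S M := by
  have : IsScalarTower R S' M := IsScalarTower.of_algebraMap_smul fun r m => by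
    rw [IsScalarTower.algebraMap_apply R S S', algebraMap_smul, algebraMap_smul]
  have hloc : ∀ (q : Ideal S') [q.IsPrime] {A : Type u} [CommRing A] [Algebra A S'] [Module A M]
      [IsScalarTower A S' M] {X Y : Type u} [AddCommGroup X] [Module A X] [AddCommGroup Y] [Module A Y]
      (f : X →ₗ[A] Y), Function.Injective (f.lTensor M) →
      Function.Injective (f.lTensor (LocalizedModule q.primeCompl M)) := by
    intro q _ A _ _ _ _ X Y _ _ _ _ f hf
    let g := LocalizedModule.mkLinearMap q.primeCompl M
    have h1 := IsLocalizedModule.map_injective q.primeCompl (TensorProduct.AlgebraTensorModule.rTensor A X g)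
      (TensorProduct.AlgebraTensorModule.rTensor A Y g) (TensorProduct.AlgebraTensorModule.lTensor S' M f) hf
    rwa [IsLocalizedModule.map_lTensor] at h1
  have key : Groth.Agent.FlatLocus.RelFlat R I S M :=
    (Groth.Agent.FlatLocus.relFlat_iff_flat_quotient I S M).2 h
  refine Module.flat_of_isLocalized_maximal S' M (fun P _ => LocalizedModule P.primeCompl M)
    (fun P _ => LocalizedModule.mkLinearMap P.primeCompl M) fun P hP => ?_
  rcases subsingleton_or_nontrivial (LocalizedModule P.primeCompl M) with hsub | hnt
  · infer_instance
  have : Module.Flat R (LocalizedModule P.primeCompl M) :=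
    (Module.Flat.iff_lTensor_preserves_injective_linearMap (R := R)
      (M := LocalizedModule P.primeCompl M)).2 fun X Y _ _ _ _ f hf =>
      hloc P f (Module.Flat.lTensor_preserves_injective_linearMap f hf)
  have hle : I ≤ P.comap (algebraMap R S') := fun a ha => by
    obtain ⟨n, hn⟩ := hI a ha
    exact (Ideal.IsPrime.comap (algebraMap R S') (K := P)).mem_of_pow_mem n (hn ▸ zero_mem _)
  exact (Groth.Agent.FlatLocus.fibre_criterion (R := R) P fun X Y _ _ _ _ f hX hY hf =>
    hloc P f (key f (fun r hr => hX r (hle hr)) (fun r hr => hY r (hle hr)) hf)).1

end Groth.Agent.S0422
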