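import Groth.Statements.S0433
import Groth.Agent.Ferrand.Basic

set_option autoImplicit false
universe u
open FlatMor

namespace Groth.Agent.S0433

open AlgebraicGeometry CategoryTheory Limits in
/-- For a surjective ring map A' → A and any ring map B → A, the spectra of A, A', B and of the fibre
product ring B ×_A A' form a pushout square of schemes. -/
theorem result {A A' B : Type u} [CommRing A] [CommRing A'] [CommRing B] (p : A' →+* A) (hp : Function.Surjective p) (q : B →+* A) :
    IsPushout (Spec.map (CommRingCat.ofHom p)) (Spec.map (CommRingCat.ofHom q))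
      (Spec.map (pullback.snd (CommRingCat.ofHom q) (CommRingCat.ofHom p)))
      (Spec.map (pullback.fst (CommRingCat.ofHom q) (CommRingCat.ofHom p))) := by
  refine (Groth.Agent.Ferrand.Square.isPushout_Spec (π₁ := (pullback.snd (CommRingCat.ofHom q) (CommRingCat.ofHom p)).hom)
    (π₂ := (pullback.fst (CommRingCat.ofHom q) (CommRingCat.ofHom p)).hom) ⟨hp, ?_, ?_, ?_⟩)
  · intro c
    exact (ConcreteCategory.congr_hom (pullback.condition (f := CommRingCat.ofHom q) (g := CommRingCat.ofHom p)) c).symm
  · intro c d h₁ h₂
    obtain ⟨x₁, x₂, h, rfl⟩ := Concrete.pullbackMk_surjective _ _ c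
    obtain ⟨y₁, y₂, h', rfl⟩ := Concrete.pullbackMk_surjective _ _ d
    simp only [Concrete.pullbackMk_fst, Concrete.pullbackMk_snd] at h₁ h₂
    subst h₁ h₂
    rfl
  · intro a b h
    exact ⟨Concrete.pullbackMk _ _ b a h.symm, Concrete.pullbackMk_snd .., Concrete.pullbackMk_fst ..⟩

end Groth.Agent.S0433
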