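import Groth.Statements.S0435
import Mathlib
import Groth.Agent.RectDepth.GeomProps
import Groth.Agent.GeomRedStrata.Basic

set_option autoImplicit false
universe u
open FlatMor

namespace Groth.Agent.S0435

open AlgebraicGeometry CategoryTheory Limits in
/-- For a flat proper morphism of finite presentation, the points of the target whose fibre is
geometrically reduced form an open subset. -/
theorem result {X Y : Scheme.{u}} (f : X ⟶ Y) [Flat f] [IsProper f] [LocallyOfFinitePresentation f] :
    IsOpen {y : ↑Y | GeometricallyReduced (f.fiberToSpecResidueField y)} := by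
  have h := RectDepth.isOpen_forall_fiber f f.isClosedMap
    (fun y x => FBase.IsGeomReducedAt (f.fiberToSpecResidueField y) x) (RectDepth.isOpen_fibre_geomReducedAt f)
  refine (congrArg IsOpen ?_).mp h
  ext y
  constructor
  · intro hat
    rw [Set.mem_ofPred_eq, GeometricallyReduced.eq_geometrically]
    intro K _ g Z fst snd hpb
    obtain ⟨φ, rfl⟩ := Spec.map_surjective g
    letI : Algebra (IsLocalRing.ResidueField (Y.presheaf.stalk y)) K := φ.hom.toAlgebra
    haveI : ∀ x' : ↥(FBase.bc (f.fiberToSpecResidueField y) K),
        _root_.IsReduced ((FBase.bc (f.fiberToSpecResidueField y) K).presheaf.stalk x') := fun x' => hat _ K x' rfl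
    haveI : AlgebraicGeometry.IsReduced (FBase.bc (f.fiberToSpecResidueField y) K) := isReduced_of_isReduced_stalk _
    haveI : AlgebraicGeometry.IsReduced (Limits.pullback (f.fiberToSpecResidueField y) (Spec.map φ)) :=
      ‹AlgebraicGeometry.IsReduced (FBase.bc (f.fiberToSpecResidueField y) K)›
    exact isReduced_of_isOpenImmersion hpb.isoPullback.hom
  · intro hg x K _ _ x' hx'
    haveI : GeometricallyReduced (f.fiberToSpecResidueField y) := hg
    have h0 : geometrically IsReduced (f.fiberToSpecResidueField y) := by
      have h1 : GeometricallyReduced (f.fiberToSpecResidueField y) := hg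
      rwa [GeometricallyReduced.eq_geometrically] at h1
    haveI : AlgebraicGeometry.IsReduced (FBase.bc (f.fiberToSpecResidueField y) K) :=
      h0 _ _ _ (IsPullback.of_hasPullback _ _)
    infer_instance

end Groth.Agent.S0435
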