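import Groth.Statements.S0443
import Groth.Agent.FlatBasics.SingleFibre
import Groth.Agent.Unram.Pointwise
import Mathlib.AlgebraicGeometry.Morphisms.Finite

set_option autoImplicit false
universe u
open FlatMor

namespace Groth.Agent.S0443

open AlgebraicGeometry CategoryTheory Limits in
/-- For a finite morphism π : X → Y and a point x of X that is the only point of its fibre, the induced
homomorphism of local rings O_{Y,π(x)} → O_{X,x} is finite. (The published lemma has further parts,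
not stated here.) -/
theorem result {X Y : Scheme.{u}} (π : X ⟶ Y) [IsFinite π] (x : X) (hx : ∀ x' : ↑X, π x' = π x → x' = x) :
    (π.stalkMap x).hom.Finite := by
  obtain ⟨_, ⟨U, hU, rfl⟩, hxU, -⟩ :=
    Y.isBasis_affineOpens.exists_subset_of_mem_open (Set.mem_univ (π x)) isOpen_univ
  have hV : IsAffineOpen (π ⁻¹ᵁ U) := hU.preimage π
  have hfin : (π.appLE U (π ⁻¹ᵁ U) le_rfl).hom.Finite := by
    rw [← Scheme.Hom.app_eq_appLE]; exact π.finite_app U hU
  algebraize [(π.appLE U (π ⁻¹ᵁ U) le_rfl).hom]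
  let p := (hU.primeIdealOf ⟨π x, hxU⟩).asIdeal
  let q := (hV.primeIdealOf ⟨x, hxU⟩).asIdeal
  have : q.LiesOver p :=
    ⟨congr($(IsAffineOpen.comap_primeIdealOf_appLE U hU (π ⁻¹ᵁ U) hV le_rfl hxU).1).symm⟩
  let := Localization.AtPrime.algebraOfLiesOver p q
  suffices Module.Finite (Localization.AtPrime p) (Localization.AtPrime q) by
    rw [RingHom.finite_respectsIso.arrow_mk_iso_iff
      (IsAffineOpen.arrowStalkMapIso π U hU (π ⁻¹ᵁ U) hV le_rfl hxU)]
    exact RingHom.finite_algebraMap.mpr this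
  refine FlatBasics.finite_localization_of_unique_prime p q fun P hP hPp ↦ ?_
  let P' : PrimeSpectrum Γ(X, π ⁻¹ᵁ U) := ⟨P, hP⟩
  have h1 : π (hV.fromSpec P') = π x := by
    rw [← Scheme.Hom.comp_apply, ← hU.SpecMap_appLE_fromSpec π hV le_rfl, Scheme.Hom.comp_apply]
    have : Spec.map (π.appLE U (π ⁻¹ᵁ U) le_rfl) P' = hU.primeIdealOf ⟨π x, hxU⟩ :=
      PrimeSpectrum.ext hPp
    rw [this, hU.fromSpec_primeIdealOf]
  have h2 : P' = hV.primeIdealOf ⟨x, hxU⟩ :=
    hV.fromSpec.isOpenEmbedding.injective ((hx _ h1).trans (hV.fromSpec_primeIdealOf ⟨x, hxU⟩).symm)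
  exact congrArg PrimeSpectrum.asIdeal h2

end Groth.Agent.S0443
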