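import Groth.Statements.S0448
import Groth.Agent.UnivInjFib.Basic
import Groth.Agent.CAlgML.LocalFree


set_option autoImplicit false
universe u
open FlatMor

namespace Groth.Agent.S0448

open TensorProduct in
/-- Over a local ring, a linear map from a projective module to a flat module which is injective modulo
the maximal ideal is universally injective (injective after tensoring with any module). -/
theorem result {R M N : Type u} [CommRing R] [IsLocalRing R] [AddCommGroup M] [Module R M] [Module.Projective R M]
    [AddCommGroup N] [Module R N] [Module.Flat R N] (u : M →ₗ[R] N)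
    (h : Function.Injective (LinearMap.lTensor (IsLocalRing.ResidueField R) u)) :
    ∀ (Q : Type u) [AddCommGroup Q] [Module R Q], Function.Injective (LinearMap.rTensor Q u) := by
  classical
  haveI : Module.Free R M := Groth.Agent.CAlgML.free_of_projective
  intro Q _ _
  let b := Module.Free.chooseBasis R M
  let k := IsLocalRing.ResidueField R
  rw [injective_iff_map_eq_zero]
  intro z hz
  let e : M ⊗[R] Q ≃ₗ[R] _ := TensorProduct.equivFinsuppOfBasisLeft b
  have hz' : z = ∑ i ∈ (e z).support, b i ⊗ₜ[R] (e z) i := by
    have := e.symm_apply_apply z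
    rw [TensorProduct.equivFinsuppOfBasisLeft_symm_apply] at this
    exact this.symm
  have hsum : ∑ i : (e z).support, u (b i) ⊗ₜ[R] (e z) i = 0 := by
    rw [Finset.sum_coe_sort (e z).support (fun i => u (b i) ⊗ₜ[R] (e z) i)]
    rw [hz'] at hz
    simpa using hz
  have hinj : Function.Injective
      ((IsScalarTower.toAlgHom R k (IsLocalRing.maximalIdeal R).ResidueField).toLinearMap) :=
    (algebraMap k (IsLocalRing.maximalIdeal R).ResidueField).injective
  have hLI : LinearIndependent (IsLocalRing.maximalIdeal R).ResidueField
      (fun i : (e z).support => (1 : (IsLocalRing.maximalIdeal R).ResidueField) ⊗ₜ[R] u (b i)) := by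
    have hb : LinearIndependent (IsLocalRing.maximalIdeal R).ResidueField
        (fun i : (e z).support => (b.baseChange (IsLocalRing.maximalIdeal R).ResidueField) i) :=
      (b.baseChange _).linearIndependent.comp _ Subtype.val_injective
    simp only [Module.Basis.baseChange_apply] at hb
    have hu : Function.Injective (u.lTensor (IsLocalRing.maximalIdeal R).ResidueField) := by
      let eq : k ≃ₗ[R] (IsLocalRing.maximalIdeal R).ResidueField :=
        LinearEquiv.ofBijective _ ⟨hinj,
          (Ideal.bijective_algebraMap_quotient_residueField (IsLocalRing.maximalIdeal R)).2⟩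
      have e1 : u.lTensor (IsLocalRing.maximalIdeal R).ResidueField =
          (eq.rTensor N).toLinearMap ∘ₗ u.lTensor k ∘ₗ (eq.rTensor M).symm.toLinearMap := by
        apply TensorProduct.ext'
        intro c m
        obtain ⟨c, rfl⟩ := eq.surjective c
        simp
      rw [e1]
      exact (eq.rTensor N).injective.comp (h.comp (eq.rTensor M).symm.injective)
    have := hb.map' (u.baseChange (IsLocalRing.maximalIdeal R).ResidueField) (LinearMap.ker_eq_bot.2 hu)
    simpa [Function.comp_def] using this
  obtain ⟨s, hs, hsq⟩ := Groth.Agent.UnivInjFib.exists_smul_eq_zero_of_sum_tmul_eq_zero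
    (IsLocalRing.maximalIdeal R) (fun i : (e z).support => u (b i)) (fun i => (e z) i) hLI hsum
  rw [hz']
  refine Finset.sum_eq_zero fun i hi => ?_
  have := ((IsLocalRing.notMem_maximalIdeal.1 hs).smul_eq_zero).1 (hsq ⟨i, hi⟩)
  rw [this, tmul_zero]

end Groth.Agent.S0448
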