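import Groth.Statements.S0471
import Groth.Agent.CohTopLib.Functors
import Mathlib.Topology.Separation.DisjointCover

set_option autoImplicit false
universe u
open CategoryTheory
open CohTop

namespace Groth.Agent.S0471

open CategoryTheory TopologicalSpace Opposite Groth.Agent.CohTopLib Groth.Agent.QCohBase in
private lemma sections_surjective_of_epi {X : TopCat.{u}} [CompactSpace X] [T2Space X]
    [TotallyDisconnectedSpace X] {F G : CohTop.Ab X} (g : F ⟶ G) [Epi g]
    (s : G.obj.obj (op ⊤)) : ∃ t, g.hom.app (op ⊤) t = s := by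
  have hloc := (TopCat.Presheaf.isLocallySurjective_iff g.hom).mp
    ((CategoryTheory.Sheaf.isLocallySurjective_iff_epi' (φ := g)).mpr inferInstance) ⊤ s
  choose U hU hlift hxU using fun x : X => hloc x trivial
  choose t ht using hlift
  have hcov : IsOpenCover U := eq_top_iff.2 fun x _ => Opens.mem_iSup.2 ⟨x, hxU x⟩
  obtain ⟨n, W, hW, hWcov, hWd⟩ := hcov.exists_finite_nonempty_disjoint_clopen_cover
  choose hne k hk using hW
  let V : Fin n → Opens X := fun j => (W j).toOpens
  have hdis : ∀ a b, a ≠ b → ∀ x, x ∉ (V a ⊓ V b : Opens X) := fun a b hab x hx => by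
    have h0 : x ∈ ((W a ⊓ W b : Clopens X) : Set X) := hx
    rw [(hWd hab).eq_bot] at h0
    exact h0
  let sf : ∀ j, F.obj.obj (op (V j)) := fun j => QCohBase.res F.obj (hk j) (t (k j))
  have hcompat : TopCat.Presheaf.IsCompatible F.obj V sf := fun a b => by
    by_cases hab : a = b
    · subst hab; rfl
    · exact (subsingleton_sections_bot F (hdis a b hab)).elim _ _
  have hV : (⊤ : Opens X) ≤ iSup V := fun x _ => by
    obtain ⟨j, hj⟩ := Set.mem_iUnion.1 (hWcov (Set.mem_univ x))
    exact Opens.mem_iSup.2 ⟨j, hj⟩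
  obtain ⟨r, hr, -⟩ := TopCat.Sheaf.existsUnique_gluing' F V ⊤ (fun j => homOfLE le_top) hV sf hcompat
  refine ⟨r, TopCat.Sheaf.eq_of_locally_eq' G V ⊤ (fun j => homOfLE le_top) hV _ _ fun j => ?_⟩
  refine (ConcreteCategory.congr_hom (g.hom.naturality (homOfLE (le_top : V j ≤ ⊤)).op) r).symm.trans ?_
  refine (congrArg (g.hom.app (op (V j))) (hr j)).trans ?_
  refine (nat_res F.obj g.hom (hk j) (t (k j))).symm.trans ?_
  exact (congrArg (QCohBase.res G.obj (hk j)) (ht (k j))).trans (res_res G.obj _ _ s)

/-- If X is profinite (compact, Hausdorff, totally disconnected), then H^(p+1)(X, F) = 0 for every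
abelian sheaf F. -/
theorem result {X : TopCat.{u}} [CompactSpace X] [T2Space X] [TotallyDisconnectedSpace X]
    (F : CohTop.Ab X) (p : ℕ) : Subsingleton (CohTop.H F (p + 1)) := by
  open CategoryTheory TopologicalSpace Groth.Agent.CohTopLib Groth.Agent.QCohBase in
  rw [subsingleton_H_iff]
  induction p generalizing F with
  | zero =>
    open CategoryTheory TopologicalSpace Groth.Agent.CohTopLib Groth.Agent.QCohBase in
    exact by
      have hT := CovSystem.injSeq_shortExact F
      haveI := hT.epi_g
      refine subsingleton_of_forall_eq 0 fun x => ?_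
      obtain ⟨y, rfl⟩ := huDelta_surjective hT 0 ⊤ (subsingleton_HU_injective _ 0 ⊤) x
      obtain ⟨s, rfl⟩ := (hu0 (CovSystem.injSeq F).X₃ ⊤).symm.surjective y
      exact (huDelta_zero_iff hT ⊤ s).2 (sections_surjective_of_epi (CovSystem.injSeq F).g s)
  | succ p ih =>
    open CategoryTheory TopologicalSpace Groth.Agent.CohTopLib Groth.Agent.QCohBase in
    exact by
      have hT := CovSystem.injSeq_shortExact F
      have := ih (CovSystem.injSeq F).X₃
      exact (huDelta_surjective hT (p + 1) ⊤ (subsingleton_HU_injective _ _ ⊤)).subsingleton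


end Groth.Agent.S0471
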