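import Groth.Statements.S0475
import Groth.Agent.DerCat.CompactSmall
import Mathlib
set_option autoImplicit false
universe v u
open CategoryTheory
open CohDer


namespace Groth.Agent.S0475

set_option backward.isDefEq.respectTransparency false
set_option backward.defeqAttrib.useBackward true
open CategoryTheory.Limits

open CategoryTheory.Limits in
/-- In a pretriangulated category with direct sums the property of being a compact object contains zero,
is stable under all shifts and is closed under extensions in distinguished triangles (a triangulated
subcategory in Mathlib's sense). The source also shows it is Karoubian and saturated. -/
theorem result {D : Type u} [Category.{v} D] [Preadditive D] [Limits.HasZeroObject D] [HasShift D ℤ]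
    [∀ n : ℤ, (shiftFunctor D n).Additive] [Pretriangulated D] [HasCoproducts.{v} D] :
    ObjectProperty.IsTriangulated (fun K : D => CohDer.IsCompactObject K) := by
  have e : (fun K : D => CohDer.IsCompactObject K) = Groth.Agent.S1076.smallProp (D := D) :=
    funext fun K => propext Groth.Agent.DerCat.isCompactObject_iff_small
  rw [e]
  infer_instance

end Groth.Agent.S0475
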