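import Groth.Statements.S0478
import Groth.Agent.Resolve.Resolution
import Groth.Agent.DerCat.KInjProducts

set_option autoImplicit false
set_option backward.isDefEq.respectTransparency false
set_option backward.defeqAttrib.useBackward true
universe v u
open CategoryTheory
open CohDer

namespace Groth.Agent.S0478

open CategoryTheory.Limits in
/-- For a Grothendieck abelian category A the derived category D(A) has all products indexed by small
types. The published statement also computes them as termwise products of K-injective
representatives, which is not asserted here. -/
theorem result {A : Type u} [Category.{v} A] [Abelian A] [IsGrothendieckAbelian.{v} A]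
    [HasDerivedCategory.{v} A] : HasProducts.{v} (DerivedCategory A) := by
  intro T
  refine ⟨fun F ↦ ?_⟩
  haveI : ∀ X : T → DerivedCategory A, HasProduct X := fun X ↦ by
    obtain ⟨N, j, h⟩ := Resolve.exists_functorial_resolution A
    haveI : ∀ t, (N.obj (DerivedCategory.Q.objPreimage (X t))).IsKInjective := fun t ↦ (h _).2.2.1
    haveI : ∀ t, QuasiIso (j.app (DerivedCategory.Q.objPreimage (X t))) := fun t ↦ (h _).2.1
    exact DerCat.hasProduct_of_isKInjective X
      (fun t ↦ N.obj (DerivedCategory.Q.objPreimage (X t)))
      (fun t ↦ (asIso (DerivedCategory.Q.map (j.app _))).symm ≪≫
        DerivedCategory.Q.objObjPreimageIso (X t))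
  exact hasLimit_of_iso Discrete.natIsoFunctor.symm

end Groth.Agent.S0478
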