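import Groth.Statements.S0490
import Mathlib.CategoryTheory.Triangulated.Orthogonal

set_option autoImplicit false
set_option backward.isDefEq.respectTransparency false
set_option backward.defeqAttrib.useBackward true
universe v u
open CategoryTheory
open CohDer

namespace Groth.Agent.S0490

open CategoryTheory.Pretriangulated in
/-- Let A be a full triangulated subcategory of a pretriangulated category D (an object property
containing zero, stable under shifts and closed under extensions). The inclusion A → D is a left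
adjoint (i.e. has a right adjoint) if and only if every object X of D fits in a distinguished
triangle A → X → B → A[1] with A in the subcategory and B right orthogonal to it. (The source's
further conclusions about saturation are not asserted.) -/
theorem result {D : Type u} [Category.{v} D] [Preadditive D] [Limits.HasZeroObject D] [HasShift D ℤ]
    [∀ n : ℤ, (shiftFunctor D n).Additive] [Pretriangulated D]
    (P : ObjectProperty D) [P.IsTriangulated] :
    P.ι.IsLeftAdjoint ↔ ∀ X : D, ∃ (A B : D) (f : A ⟶ X) (g : X ⟶ B) (h : B ⟶ (shiftFunctor D (1 : ℤ)).obj A),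
      Triangle.mk f g h ∈ distinguishedTriangles ∧ P A ∧ P.rightOrthogonal B := by
  constructor
  · intro h X
    let R := P.ι.rightAdjoint
    let adj := Adjunction.ofIsLeftAdjoint P.ι
    obtain ⟨B, g, h', hT⟩ := distinguished_cocone_triangle (adj.counit.app X)
    refine ⟨_, B, _, g, h', hT, (R.obj X).property, fun A f hA => ?_⟩
    have hb : ∀ A : D, P A → Function.Bijective
        (fun u : A ⟶ (R.obj X).obj => u ≫ adj.counit.app X) := by
      intro A hA
      have := ((P.fullyFaithfulι.homEquiv (X := ⟨A, hA⟩) (Y := R.obj X)).symm.trans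
        (adj.homEquiv ⟨A, hA⟩ X).symm).bijective
      show Function.Bijective (fun u : P.ι.obj ⟨A, hA⟩ ⟶ P.ι.obj (R.obj X) =>
        (u ≫ adj.counit.app X : P.ι.obj ⟨A, hA⟩ ⟶ X))
      convert this using 1
      funext u
      simp [Adjunction.homEquiv_counit]
      rfl
    obtain ⟨e⟩ : Nonempty ((A⟦(-1 : ℤ)⟧)⟦(1 : ℤ)⟧ ≅ A) := ⟨(shiftFunctorCompIsoId D (-1 : ℤ) 1 (by simp)).app A⟩
    obtain ⟨k, hk⟩ := (shiftFunctor D (1 : ℤ)).map_surjective (e.hom ≫ f ≫ h')
    have hk0 : k = 0 := by
      apply (hb _ (P.le_shift (-1 : ℤ) _ hA)).injective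
      apply (shiftFunctor D (1 : ℤ)).map_injective
      have := comp_distTriang_mor_zero₃₁ _ hT
      simp [hk]
      erw [this]
      simp
    rw [hk0, Functor.map_zero] at hk
    obtain ⟨y, hy⟩ := Triangle.coyoneda_exact₃ _ hT f (by
      show f ≫ h' = 0
      rw [← cancel_epi e.hom, ← hk, Limits.comp_zero])
    obtain ⟨u, hu⟩ := (hb A hA).surjective y
    have := comp_distTriang_mor_zero₁₂ _ hT
    rw [hy, ← hu, Category.assoc]
    erw [this]
    simp
  · intro h
    choose A B f g k hT hA hB using h
    have hbij : ∀ (Y : P.FullSubcategory) (X : D),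
        Function.Bijective (fun u : Y ⟶ (⟨A X, hA X⟩ : P.FullSubcategory) => u.hom ≫ f X) := by
      intro Y X
      refine ⟨fun u₁ u₂ hu => ?_, fun v => ?_⟩
      · ext
        rw [← sub_eq_zero]
        obtain ⟨w, hw⟩ := (Triangle.mk (f X) (g X) (k X)).invRotate.coyoneda_exact₂
          (inv_rot_of_distTriang _ (hT X)) (u₁.hom - u₂.hom) (by simpa [sub_eq_zero] using hu)
        rw [hw, P.rightOrthogonal.le_shift (-1 : ℤ) _ (hB X) w Y.property]
        simp
      · obtain ⟨u, hu⟩ := Triangle.coyoneda_exact₂ _ (hT X) v (hB X (v ≫ g X) Y.property)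
        exact ⟨P.fullyFaithfulι.preimage u, by simpa using hu.symm⟩
    let e : ∀ (Y : P.FullSubcategory) (X : D), (P.ι.obj Y ⟶ X) ≃ (Y ⟶ (⟨A X, hA X⟩ : P.FullSubcategory)) :=
      fun Y X => (Equiv.ofBijective _ (hbij Y X)).symm
    refine (Adjunction.adjunctionOfEquivRight e fun Y' Y X v w => ?_).isLeftAdjoint
    apply (hbij Y' X).injective
    have h1 := Equiv.ofBijective_apply_symm_apply _ (hbij Y' X) (P.ι.map v ≫ w)
    have h2 := Equiv.ofBijective_apply_symm_apply _ (hbij Y X) w
    simp [e] at h1 h2 ⊢
    rw [h1, h2]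

end Groth.Agent.S0490
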