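import Groth.Statements.S0905
import Groth.Prelude.Def_FreeSh
import Mathlib.CategoryTheory.Sites.EpiMono
import Mathlib.CategoryTheory.Sites.Abelian
import Mathlib.Algebra.Homology.ShortComplex.Ab
import Mathlib.Algebra.Homology.ShortComplex.ExactFunctor
import Mathlib.Algebra.Homology.DerivedCategory.Ext.EnoughProjectives
-- import your own Groth.Agent.* helpers here

set_option autoImplicit false
universe u
open CategoryTheory
open CohSite

namespace Groth.Agent.S0905

open CategoryTheory Limits Opposite

theorem surjective_app_of_epi {C : Type u} [SmallCategory C] (J : GrothendieckTopology C)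
    {U : C} (hU : CohSite.IsWeaklyContractible J U) {A B : Sheaf J AddCommGrpCat.{u}} (e : A ⟶ B) [Epi e] :
    Function.Surjective (e.hom.app (op U)) := by
  have hsurj : Sheaf.IsLocallySurjective e := (Sheaf.isLocallySurjective_iff_epi' AddCommGrpCat.{u} e).2 inferInstance
  let φ := (sheafCompose J (forget AddCommGrpCat.{u})).map e
  haveI : Sheaf.IsLocallySurjective φ := ⟨fun s => hsurj.imageSieve_mem s⟩
  exact hU _ _ φ inferInstance

theorem projective_freeSheaf {C : Type u} [SmallCategory C] (J : GrothendieckTopology C)
    {U : C} (hU : CohSite.IsWeaklyContractible J U) : Projective (CohCx.freeSheaf J U) := by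
  refine ⟨fun {E G} f e _ => ?_⟩
  obtain ⟨t, ht⟩ := surjective_app_of_epi J hU e (CohFree.homEquivSect J U G f)
  refine ⟨(CohFree.homEquivSect J U E).symm t, (CohFree.homEquivSect J U G).injective ?_⟩
  refine Eq.trans ?_ ht
  exact congrArg (e.hom.app (op U)) ((CohFree.homEquivSect J U E).apply_symm_apply t)

open Opposite CategoryTheory.Limits in
/-- Parts (1) and (2), for a weakly contractible object U of a site (one over which every epimorphism of
sheaves of sets is surjective on sections): (1) the functor F ↦ F(U) from abelian sheaves to abelian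
groups preserves finite colimits (it is exact, finite limits being automatic), and (2) H^p(U, F) = 0
for every abelian sheaf F and every p > 0. (Part (3) about torsors is not included.) -/
theorem result {C : Type u} [SmallCategory C] (J : GrothendieckTopology C)
    (U : C) (hU : CohSite.IsWeaklyContractible J U) :
    PreservesFiniteColimits (sheafToPresheaf J AddCommGrpCat.{u} ⋙ (evaluation Cᵒᵖ AddCommGrpCat.{u}).obj (op U)) ∧
    ∀ (F : Sheaf J AddCommGrpCat.{u}) (p : ℕ), Subsingleton (CohSite.HU F (p + 1) U) := by
  refine ⟨?_, fun F p => ?_⟩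
  · let G := sheafToPresheaf J AddCommGrpCat.{u} ⋙ (evaluation Cᵒᵖ AddCommGrpCat.{u}).obj (op U)
    haveI : ((evaluation Cᵒᵖ AddCommGrpCat.{u}).obj (op U)).Additive := ⟨by intros; rfl⟩
    haveI : G.Additive := inferInstance
    haveI : PreservesFiniteLimits G := comp_preservesFiniteLimits _ _
    have h : ∀ S : ShortComplex (Sheaf J AddCommGrpCat.{u}), S.ShortExact → (S.map G).ShortExact := by
      intro S hS
      haveI := hS.mono_f
      haveI := hS.epi_g
      haveI : Mono (S.map G).f := inferInstanceAs (Mono (G.map S.f))
      haveI : Epi (S.map G).g := (AddCommGrpCat.epi_iff_surjective (G.map S.g)).2 (surjective_app_of_epi J hU S.g)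
      exact ShortComplex.ShortExact.mk ((S.map G).exact_of_f_is_kernel (KernelFork.mapIsLimit _ hS.fIsKernel G))
    exact ((G.exact_tfae.out 0 3 : (∀ S : ShortComplex (Sheaf J AddCommGrpCat.{u}), S.ShortExact → (S.map G).ShortExact) ↔ PreservesFiniteLimits G ∧ PreservesFiniteColimits G).1 h).2
  · haveI := projective_freeSheaf J hU
    exact ⟨fun a b => (Abelian.Ext.eq_zero_of_projective (P := CohCx.freeSheaf J U) a).trans
      (Abelian.Ext.eq_zero_of_projective (P := CohCx.freeSheaf J U) b).symm⟩

end Groth.Agent.S0905
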