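import Groth.Statements.S0492
import Groth.Agent.S0905
import Mathlib.CategoryTheory.Abelian.GrothendieckAxioms.Basic
-- import your own Groth.Agent.* helpers here

set_option autoImplicit false
universe u
open CategoryTheory
open CohSite

namespace Groth.Agent.S0492

open CategoryTheory.Limits in
/-- Part (4), for sheaves of abelian groups: let B be a set of weakly contractible objects of a small
site such that every object admits a covering family by members of B. Then products in the category
of abelian sheaves are exact (Grothendieck's AB4*). -/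
theorem result {C : Type u} [SmallCategory C] (J : GrothendieckTopology C)
    (B : Set C) (hB : ∀ U ∈ B, CohSite.IsWeaklyContractible J U)
    (hcov : ∀ V : C, ∃ (ι : Type u) (U : ι → C) (f : ∀ i, U i ⟶ V), (∀ i, U i ∈ B) ∧ Sieve.ofArrows U f ∈ J V) :
    AB4Star (Sheaf J AddCommGrpCat.{u}) := by
  refine ⟨fun ι => ?_⟩
  haveI : (lim : (Discrete ι ⥤ Sheaf J AddCommGrpCat.{u}) ⥤ Sheaf J AddCommGrpCat.{u}).PreservesEpimorphisms := by
    refine ⟨fun {F G} η _ => ?_⟩
    rw [← Sheaf.isLocallySurjective_iff_epi' AddCommGrpCat.{u}]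
    refine ⟨fun {V} z => ?_⟩
    obtain ⟨κ, U, f, hU, hS⟩ := hcov V
    refine J.superset_covering ?_ hS
    rintro W g ⟨Y, k, _, ⟨i⟩, rfl⟩
    refine Sieve.downward_closed _ ?_ k
    haveI := S0905.projective_freeSheaf J (hB _ (hU i))
    let φ := (CohFree.homEquivSect J (U i) (lim.obj G)).symm ((lim.obj G).obj.map (f i).op z)
    let ψ : CohCx.freeSheaf J (U i) ⟶ lim.obj F := limit.lift F
      { pt := CohCx.freeSheaf J (U i)
        π := Discrete.natTrans fun j => Projective.factorThru (P := CohCx.freeSheaf J (U i)) (φ ≫ limit.π G j) (η.app j) }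
    have hψ : ψ ≫ lim.map η = φ := limit.hom_ext fun j => by
      rw [Category.assoc, show lim.map η ≫ limit.π G j = limit.π F j ≫ η.app j from limMap_π η j, limit.lift_π_assoc]
      exact Projective.factorThru_comp (P := CohCx.freeSheaf J (U i)) (φ ≫ limit.π G j) (η.app j)
    refine ⟨CohFree.homEquivSect J (U i) (lim.obj F) ψ, ?_⟩
    exact (congrArg (CohFree.homEquivSect J (U i) (lim.obj G)) hψ).trans
      ((CohFree.homEquivSect J (U i) (lim.obj G)).apply_symm_apply _)
  exact hasExactLimitsOfShape_of_preservesEpi _ _

end Groth.Agent.S0492
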