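import Groth.Statements.S0502
import Groth.Agent.Hensel.EtaleLift

set_option autoImplicit false
universe u
open Hensel

namespace Groth.Agent.S0502

/-- A local ring `R` is henselian as soon as every étale `R`-algebra having a prime over the maximal
ideal with trivial residue field extension admits an `R`-algebra retraction to `R`. -/
theorem result (R : Type u) [CommRing R] [IsLocalRing R]
    (h : ∀ (S : Type u) [CommRing S] [Algebra R S] [Algebra.Etale R S] (q : Ideal S) [q.IsPrime],
      q.LiesOver (IsLocalRing.maximalIdeal R) → Function.Surjective (algebraMap R q.ResidueField) →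
      Nonempty (S →ₐ[R] R)) :
    HenselianLocalRing R := by
  open Groth.Agent.Hensel in
  refine henselianLocalRing_of_retraction fun E _ _ _ σ ↦ ?_
  let q := RingHom.ker σ.toRingHom
  have : q.IsPrime := RingHom.ker_isPrime _
  have hl : q.LiesOver (IsLocalRing.maximalIdeal R) := ⟨by
    ext r
    simp [q, Ideal.under_def, RingHom.mem_ker, IsLocalRing.ResidueField.algebraMap_eq]⟩
  refine h E q hl fun z ↦ ?_
  let ι : q.ResidueField →+* IsLocalRing.ResidueField R :=
    Ideal.ResidueField.lift q σ.toRingHom le_rfl (fun x hx ↦ by
      rw [Submonoid.mem_comap, IsUnit.mem_submonoid_iff, isUnit_iff_ne_zero]; exact hx)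
  obtain ⟨r, hr⟩ := IsLocalRing.residue_surjective (ι z)
  refine ⟨r, ι.injective ?_⟩
  rw [← hr, IsScalarTower.algebraMap_apply R E q.ResidueField, Ideal.ResidueField.lift_algebraMap]
  exact σ.commutes r

end Groth.Agent.S0502
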