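import Groth.Statements.S0516
import Groth.Agent.Hensel.Split

set_option autoImplicit false
universe u
open Hensel

namespace Groth.Agent.S0516

/-- An unramified algebra `S` (formally unramified of finite type) over a strictly henselian local ring
`R` is isomorphic over `R` to a product of finitely many quotient rings of `R` and an `R`-algebra in
which the maximal ideal of `R` generates the unit ideal. -/
theorem result (R : Type u) [CommRing R]
    [HenselianLocalRing R] [IsSepClosed (IsLocalRing.ResidueField R)] (S : Type u) [CommRing S] [Algebra R S]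
    [Algebra.Unramified R S] :
    ∃ (ι : Type u) (_ : Fintype ι) (A : ι → Type u) (_ : ∀ i, CommRing (A i))
      (_ : ∀ i, Algebra R (A i)) (B : Type u) (_ : CommRing B) (_ : Algebra R B),
      (∀ i, Function.Surjective (algebraMap R (A i))) ∧
      Ideal.map (algebraMap R B) (IsLocalRing.maximalIdeal R) = ⊤ ∧
      Nonempty (S ≃ₐ[R] ((∀ i, A i) × B)) := by
  obtain ⟨e, he, hf, -, hno⟩ := Groth.Agent.Hensel.exists_idem_split (R := R) (S := S)
  let T := S ⧸ Ideal.span ({1 - e} : Set S)
  let B := S ⧸ Ideal.span ({e} : Set S)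
  have hB := Groth.Agent.Hensel.map_maximalIdeal_eq_top hno
  obtain ⟨hfin, hb⟩ := Groth.Agent.Hensel.bijective_pi_localization_of_surjOn (A := R) (B := T)
    (Groth.Agent.Hensel.idempotents_bijOn Groth.Agent.Hensel.gabberRoot_of_henselianLocalRing T).surjOn
  let := Fintype.ofFinite (MaximalSpectrum T)
  let A := fun n : MaximalSpectrum T ↦ Localization.AtPrime n.asIdeal
  have : Algebra.FormallyUnramified R T :=
    .of_surjective (Ideal.Quotient.mkₐ R (Ideal.span ({1 - e} : Set S))) Ideal.Quotient.mk_surjective
  let Φ : T ≃ₐ[R] (∀ n, A n) := AlgEquiv.ofBijective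
    (Pi.algHom R A fun n ↦ IsScalarTower.toAlgHom R T (A n)) hb
  refine ⟨MaximalSpectrum T, inferInstance, A, inferInstance, inferInstance, B, inferInstance,
    inferInstance, fun n ↦ ?_, hB, ?_⟩
  · have : Module.Finite R (A n) := Module.Finite.of_surjective
      ((Pi.evalAlgHom R A n).comp Φ.toAlgHom).toLinearMap
      ((Function.surjective_eval n).comp Φ.surjective)
    have : Algebra.FormallyUnramified R (A n) := .comp R T (A n)
    have : IsLocalHom (algebraMap R (A n)) := ((IsLocalRing.local_hom_TFAE _).out 4 0 rfl rfl).mp (IsLocalRing.eq_maximalIdeal (Ideal.isMaximal_comap_of_isIntegral_of_isMaximal _))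
    have hres : Function.Surjective (algebraMap (IsLocalRing.ResidueField R)
        (IsLocalRing.ResidueField (A n))) := IsSepClosed.algebraMap_surjective _ _
    rw [show ⇑(algebraMap R (A n)) = Algebra.linearMap R (A n) from rfl, ← LinearMap.range_eq_top]
    refine eq_top_iff.mpr (Submodule.le_of_le_smul_of_le_jacobson_bot Module.Finite.fg_top
      (IsLocalRing.jacobson_eq_maximalIdeal ⊥ bot_ne_top).ge fun z _ ↦ ?_)
    obtain ⟨a, ha⟩ := (hres.comp IsLocalRing.residue_surjective) (IsLocalRing.residue _ z)
    rw [show z = algebraMap R (A n) a + (z - algebraMap R (A n) a) by ring]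
    refine Submodule.add_mem_sup ⟨a, rfl⟩ ?_
    rw [Ideal.smul_top_eq_map, Submodule.restrictScalars_mem,
      Algebra.FormallyUnramified.map_maximalIdeal, ← IsLocalRing.residue_eq_zero_iff, map_sub,
      sub_eq_zero]
    exact ha.symm
  · let e₁ : S ≃ₐ[R] T × B := AlgEquiv.prodQuotientOfIsIdempotentElem (R := R)
      he.one_sub he (by simp) (by rw [sub_mul, one_mul, he.eq, sub_self])
    exact ⟨e₁.trans (AlgEquiv.prodCongr Φ AlgEquiv.refl)⟩

end Groth.Agent.S0516
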