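import Groth.Statements.S0517
import Groth.Agent.Hensel.EtaleLift

set_option autoImplicit false
universe u
open Hensel

namespace Groth.Agent.S0517

/-- Given strictly henselian local rings `R` and `S`, a local ring map `φ` between them, and a square
system of `n` polynomial equations in `n` unknowns over `R` whose quotient algebra is étale over
`R`, applying `φ` coordinatewise matches the solutions of the system in `Rⁿ` bijectively with the
solutions of the transported system in `Sⁿ`. -/
theorem result (R : Type u) [CommRing R]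
    [HenselianLocalRing R] [IsSepClosed (IsLocalRing.ResidueField R)] (S : Type u) [CommRing S]
    [HenselianLocalRing S] [IsSepClosed (IsLocalRing.ResidueField S)] (φ : R →+* S) [IsLocalHom φ] (n : ℕ)
    (P : Fin n → MvPolynomial (Fin n) R)
    [Algebra.Etale R (MvPolynomial (Fin n) R ⧸ Ideal.span (Set.range P))] :
    Set.BijOn (fun r : Fin n → R => φ ∘ r)
      {r : Fin n → R | ∀ i, MvPolynomial.eval r (P i) = 0}
      {s : Fin n → S | ∀ i, MvPolynomial.eval s (MvPolynomial.map φ (P i)) = 0} := by
  open Groth.Agent.Hensel in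
  let E := MvPolynomial (Fin n) R ⧸ Ideal.span (Set.range P)
  let π := IsLocalRing.residue R
  let := φ.toAlgebra
  have : IsLocalHom (algebraMap R S) := ‹_›
  have hev : ∀ (r : Fin n → R) (p : MvPolynomial (Fin n) R),
      MvPolynomial.eval (φ ∘ r) (MvPolynomial.map φ p) = φ (MvPolynomial.eval r p) := fun r p ↦ by
    induction p using MvPolynomial.induction_on with
    | C a => simp
    | add p q hp hq => simp only [map_add, hp, hq]
    | mul_X p i hp => simp only [map_mul, MvPolynomial.map_X, MvPolynomial.eval_X, hp, Function.comp_apply]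
  have hdef : ∀ {T : Type u} [CommRing T] [Algebra R T] (t : Fin n → T),
      (∀ i, MvPolynomial.aeval t (P i) = 0) → ∀ p ∈ Ideal.span (Set.range P), MvPolynomial.aeval t p = 0 := by
    intro T _ _ t ht p hp
    have : Ideal.span (Set.range P) ≤ RingHom.ker (MvPolynomial.aeval t).toRingHom := by
      rw [Ideal.span_le]; rintro _ ⟨i, rfl⟩; exact ht i
    exact this hp
  refine ⟨fun r hr i ↦ by rw [hev, hr i, map_zero], fun r hr r' hr' hrr ↦ ?_, fun s hs ↦ ?_⟩
  · have h1 : ∀ i, MvPolynomial.aeval r (P i) = 0 := by simpa using hr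
    have h2 : ∀ i, MvPolynomial.aeval r' (P i) = 0 := by simpa using hr'
    let f : E →ₐ[R] R := Ideal.Quotient.liftₐ _ (MvPolynomial.aeval r) (hdef r h1)
    let g : E →ₐ[R] R := Ideal.Quotient.liftₐ _ (MvPolynomial.aeval r') (hdef r' h2)
    have hfg : f = g := by
      refine algHom_ext_of_unramified (IsLocalRing.jacobson_eq_maximalIdeal ⊥ bot_ne_top).ge fun x ↦ ?_
      obtain ⟨p, rfl⟩ := Ideal.Quotient.mk_surjective x
      change MvPolynomial.aeval r p - MvPolynomial.aeval r' p ∈ _
      change MvPolynomial.eval r p - MvPolynomial.eval r' p ∈ _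
      rw [IsLocalRing.mem_maximalIdeal, mem_nonunits_iff]
      intro hu
      have := hu.map φ
      rw [map_sub, ← hev, ← hev, show φ ∘ r = φ ∘ r' from hrr, sub_self] at this
      exact not_isUnit_zero this
    funext j
    have := congr($hfg (Ideal.Quotient.mk _ (MvPolynomial.X j)))
    change MvPolynomial.aeval r (MvPolynomial.X j) = MvPolynomial.aeval r' (MvPolynomial.X j) at this
    simpa using this
  · have hs' : ∀ i, MvPolynomial.aeval s (P i) = 0 := fun i ↦ by
      rw [← hs i, MvPolynomial.eval_map]; rfl
    let fs : E →ₐ[R] S := Ideal.Quotient.liftₐ _ (MvPolynomial.aeval s) (hdef s hs')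
    let : Algebra (IsLocalRing.ResidueField R) (IsLocalRing.ResidueField S) :=
      (IsLocalRing.ResidueField.map φ).toAlgebra
    have : IsScalarTower R (IsLocalRing.ResidueField R) (IsLocalRing.ResidueField S) :=
      .of_algebraMap_eq fun r ↦ rfl
    let k := IsLocalRing.ResidueField R
    let σ : TensorProduct R k E →ₐ[k] IsLocalRing.ResidueField S :=
      Algebra.TensorProduct.lift (Algebra.ofId _ _)
        ((IsScalarTower.toAlgHom R S (IsLocalRing.ResidueField S)).comp fs) fun _ _ ↦ .all _ _
    choose c hc using fun j ↦ exists_algebraMap_eq_of_unramified σ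
      ((1 : k) ⊗ₜ[R] (Ideal.Quotient.mk _ (MvPolynomial.X j) : E))
    have hσ0 : ∀ p : MvPolynomial (Fin n) R, algebraMap k (IsLocalRing.ResidueField S) (MvPolynomial.aeval c p) =
        IsLocalRing.residue S (MvPolynomial.aeval s p) := fun p ↦ by
      induction p using MvPolynomial.induction_on with
      | C a => simp; rfl
      | add p q hp hq => simp [hp, hq]
      | mul_X p j hp =>
        simp only [map_mul, hp, MvPolynomial.aeval_X, hc j]
        congr 1
        simp only [σ, Algebra.TensorProduct.lift_tmul, map_one, one_mul, AlgHom.comp_apply,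
          IsScalarTower.coe_toAlgHom', fs]
        exact congrArg (IsLocalRing.residue S) (MvPolynomial.aeval_X s j)
    have hc0 : ∀ p ∈ Ideal.span (Set.range P), MvPolynomial.aeval c p = 0 := hdef c fun i ↦ by
      apply (algebraMap k (IsLocalRing.ResidueField S)).injective
      rw [hσ0, hs' i, map_zero, map_zero]
    obtain ⟨f, hf, -⟩ := existsUnique_algHom_of_residueField (S := R) E
      (Ideal.Quotient.liftₐ _ (MvPolynomial.aeval c) hc0)
    have hfeq : ∀ p : MvPolynomial (Fin n) R, f (Ideal.Quotient.mk _ p) =
        MvPolynomial.eval (fun j ↦ f (Ideal.Quotient.mk _ (MvPolynomial.X j))) p := fun p ↦ by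
      induction p using MvPolynomial.induction_on with
      | C a =>
        rw [MvPolynomial.eval_C, show Ideal.Quotient.mk (Ideal.span (Set.range P)) (MvPolynomial.C a)
          = algebraMap R E a from rfl, f.commutes]
        rfl
      | add p q hp hq => simp [hp, hq]
      | mul_X p j hp => rw [map_mul, map_mul, hp, MvPolynomial.eval_mul, MvPolynomial.eval_X]
    refine ⟨fun j ↦ f (Ideal.Quotient.mk _ (MvPolynomial.X j)), fun i ↦ ?_, ?_⟩
    · rw [← hfeq, (Ideal.Quotient.eq_zero_iff_mem (I := Ideal.span (Set.range P))).mpr (Ideal.subset_span ⟨i, rfl⟩), map_zero]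
    · have hfg : (Algebra.ofId R S).comp f = fs := by
        refine algHom_ext_of_unramified (IsLocalRing.jacobson_eq_maximalIdeal ⊥ bot_ne_top).ge fun x ↦ ?_
        obtain ⟨p, rfl⟩ := Ideal.Quotient.mk_surjective x
        rw [← IsLocalRing.residue_eq_zero_iff, map_sub, sub_eq_zero]
        change IsLocalRing.ResidueField.map φ (IsLocalRing.residue R (f _)) =
          IsLocalRing.residue S (MvPolynomial.aeval s p)
        rw [hf, ← hσ0]
        rfl
      funext j
      have := congr($hfg (Ideal.Quotient.mk _ (MvPolynomial.X j)))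
      exact this.trans (MvPolynomial.aeval_X s j)

end Groth.Agent.S0517
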