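import Groth.Statements.S0520
import Groth.Agent.Hensel.Main

set_option autoImplicit false
universe u
open Hensel

namespace Groth.Agent.S0520

/-- A ring `A` is Henselian at an ideal `I` in Mathlib's sense (simple roots lift) exactly when `I` lies
in the Jacobson radical and every factorization of the reduction of a monic polynomial into two
comaximal monic factors over `A/I` lifts to a factorization into monic polynomials over `A`. -/
theorem result (A : Type u) [CommRing A] (I : Ideal A) :
    HenselianRing A I ↔ (I ≤ Ideal.jacobson ⊥ ∧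
      ∀ f : Polynomial A, f.Monic → ∀ g₀ h₀ : Polynomial (A ⧸ I), g₀.Monic → h₀.Monic →
        IsCoprime g₀ h₀ → Polynomial.map (Ideal.Quotient.mk I) f = g₀ * h₀ →
        ∃ g h : Polynomial A, g.Monic ∧ h.Monic ∧ f = g * h ∧
          Polynomial.map (Ideal.Quotient.mk I) g = g₀ ∧ Polynomial.map (Ideal.Quotient.mk I) h = h₀) := by
  open Groth.Agent.Hensel Polynomial in
  refine ⟨fun h ↦ ⟨h.jac, fun f hf g₀ h₀ hg hh hc he ↦ ?_⟩, fun ⟨hI, h⟩ ↦ ?_⟩
  · obtain ⟨g, q, h1, h2, -, h3, h4, h5⟩ :=
      exists_monic_factor_lift gabberRoot_of_henselianRing f hf g₀ h₀ hg hh hc he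
    exact ⟨g, q, h1, h2, h3, h4, h5⟩
  · refine GabberRoot.henselianRing ⟨hI, fun n hn p hp hpI ↦ ?_⟩
    cases subsingleton_or_nontrivial (A ⧸ I) with
    | inl _ =>
      have := subsingleton_of_quotient_subsingleton hI
      exact ⟨1, by simp, Subsingleton.elim _ _⟩
    | inr _ =>
      have := (Ideal.Quotient.mk I).domain_nontrivial
      have hm : (X ^ n * (X - 1) : A[X]).Monic := (monic_X_pow n).mul (monic_X_sub_C 1)
      have hmon : (X ^ n * (X - 1) + p).Monic := by
        refine hm.add_of_left (lt_of_le_of_lt degree_le_natDegree ?_)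
        rw [degree_eq_natDegree hm.ne_zero, natDegree_X_pow_mul_X_sub_one]
        exact_mod_cast Nat.lt_succ_of_le hp
      have hp0 : p.map (Ideal.Quotient.mk I) = 0 := by
        ext i; simpa [Ideal.Quotient.eq_zero_iff_mem] using hpI i
      obtain ⟨g, q, hg, -, hgq, hgm, -⟩ := h _ hmon (X - 1) (X ^ n) (monic_X_sub_C 1)
        (monic_X_pow n) (IsCoprime.pow_right ⟨-1, 1, by ring⟩)
        (by simp [hp0, mul_comm])
      have hdeg : g.natDegree = 1 := by
        rw [← natDegree_map_of_monic (I := I) hg, hgm, ← C_1, natDegree_X_sub_C]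
      refine ⟨-g.coeff 0, ?_, ?_⟩
      · rw [← Ideal.Quotient.eq_zero_iff_mem, map_sub, map_neg, ← coeff_map, hgm]
        simp
      · rw [IsRoot, hgq, eval_mul]
        conv_lhs => enter [1, 2]; rw [hg.eq_X_add_C hdeg]
        simp

end Groth.Agent.S0520
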