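import Groth.Statements.S0522
import Groth.Agent.Hensel.Main

set_option autoImplicit false
universe u
open Hensel

namespace Groth.Agent.S0522

/-- `A` is Henselian at `I` exactly when, for every integral `A`-algebra `B`, reduction modulo `IB` is a
bijection from the idempotents of `B` to the idempotents of `B/IB`. -/
theorem result (A : Type u) [CommRing A] (I : Ideal A) :
    HenselianRing A I ↔ ∀ (B : Type u) [CommRing B] [Algebra A B], Algebra.IsIntegral A B →
      Set.BijOn (Ideal.Quotient.mk (Ideal.map (algebraMap A B) I))
        {e : B | IsIdempotentElem e} {e | IsIdempotentElem e} := by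
  open Groth.Agent.Hensel in
  exact ⟨fun h B _ _ _ ↦ idempotents_bijOn gabberRoot_of_henselianRing B,
    fun h ↦ henselianRing_of_finite_idem_lift fun B _ _ hB ↦ h B inferInstance⟩

end Groth.Agent.S0522
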