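import Groth.Statements.S0523
import Groth.Agent.Hensel.Main

set_option autoImplicit false
universe u
open Hensel

namespace Groth.Agent.S0523

/-- `A` is Henselian at `I` exactly when for every étale `A`-algebra `A'` every `A`-algebra map `A' →
A/I` lifts to an `A`-algebra map `A' → A`. -/
theorem result (A : Type u) [CommRing A] (I : Ideal A) :
    HenselianRing A I ↔ ∀ (A' : Type u) [CommRing A'] [Algebra A A'] [Algebra.Etale A A']
      (σ : A' →ₐ[A] A ⧸ I), ∃ τ : A' →ₐ[A] A, (Ideal.Quotient.mkₐ A I).comp τ = σ := by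
  open Groth.Agent.Hensel Polynomial in
  refine ⟨fun h A' _ _ _ σ ↦ exists_algHom_lift_of_etale gabberRoot_of_henselianRing A' σ,
    fun h ↦ ?_⟩
  refine ⟨fun x hx ↦ ?_, fun f hf a₀ h₁ h₂ ↦ ?_⟩
  · rw [Ideal.mem_jacobson_bot]
    intro y
    let a := x * y + 1
    have : Algebra.Etale A (Localization.Away a) := Algebra.Etale.of_isLocalizationAway a
    have ha : IsUnit (Algebra.ofId A (A ⧸ I) a) := by
      have : Ideal.Quotient.mk I a = 1 := by
        rw [← map_one (Ideal.Quotient.mk I), Ideal.Quotient.eq]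
        simpa [a] using I.mul_mem_right y hx
      rw [show Algebra.ofId A (A ⧸ I) a = Ideal.Quotient.mk I a from rfl, this]
      exact isUnit_one
    obtain ⟨τ, -⟩ := h (Localization.Away a)
      (IsLocalization.Away.liftAlgHom a (f := Algebra.ofId A (A ⧸ I)) ha)
    have hu : IsUnit (τ (algebraMap A (Localization.Away a) a)) :=
      (IsLocalization.Away.algebraMap_isUnit a).map τ
    rw [τ.commutes] at hu
    simpa using hu
  · let P : StandardEtalePair A := ⟨f, hf, derivative f, ⟨1, 0, 1, by ring⟩⟩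
    have hP : P.HasMap (Ideal.Quotient.mk I a₀) := by
      have key : ∀ r : A[X], aeval (Ideal.Quotient.mk I a₀) r = Ideal.Quotient.mk I (r.eval a₀) :=
        fun r ↦ aeval_algebraMap_apply_eq_algebraMap_eval a₀ r
      refine ⟨?_, ?_⟩
      · rw [key, Ideal.Quotient.eq_zero_iff_mem]; exact h₁
      · rw [key]; exact h₂
    obtain ⟨τ, hτ⟩ := h P.Ring (P.lift _ hP)
    refine ⟨τ P.X, ?_, ?_⟩
    · have := (P.hasMap_X.map τ).1
      rw [← coe_aeval_eq_eval] at *
      exact this
    · rw [← Ideal.Quotient.eq]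
      have := congr($hτ P.X)
      simpa using this

end Groth.Agent.S0523
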