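import Groth.Statements.S0534
import Groth.Agent.Hensel.SmoothLift
import Mathlib.Algebra.Module.Projective
import Mathlib.RingTheory.Finiteness.Cardinality
import Mathlib.LinearAlgebra.TensorProduct.Tower

set_option autoImplicit false
universe u
open Hensel

namespace Groth.Agent.S0534

/-- If `R` is Henselian at `I`, every finitely generated projective `R/I`-module is the base change of a
finitely generated projective `R`-module. -/
theorem result (R : Type u) [CommRing R] (I : Ideal R)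
    [HenselianRing R I] (Q : Type u) [AddCommGroup Q] [Module (R ⧸ I) Q] [Module.Finite (R ⧸ I) Q]
    [Module.Projective (R ⧸ I) Q] :
    ∃ (P : Type u) (_ : AddCommGroup P) (_ : Module R P), Module.Finite R P ∧ Module.Projective R P ∧
      Nonempty (TensorProduct R (R ⧸ I) P ≃ₗ[R ⧸ I] Q) := by
  classical
  obtain ⟨n, p, hp⟩ := Module.Finite.exists_fin' (R ⧸ I) Q
  obtain ⟨ι, hι⟩ := Module.projective_lifting_property p LinearMap.id hp
  have hι' : ∀ y, p (ι y) = y := fun y => LinearMap.congr_fun hι y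
  choose E₀ hE₀ using fun i j => Ideal.Quotient.mk_surjective (I := I) (LinearMap.toMatrix' (ι.comp p) i j)
  have hmap : (Matrix.of E₀).map (Ideal.Quotient.mk I) = LinearMap.toMatrix' (ι.comp p) := Matrix.ext hE₀
  obtain ⟨E, hE, hEI⟩ := Groth.Agent.Hensel.exists_idem_matrix_lift
    (Groth.Agent.Hensel.gabberRoot_of_henselianRing (I := I)) (Matrix.of E₀) (fun i j => by
      rw [← Ideal.Quotient.eq_zero_iff_mem (I := I)]
      have h2 : (Matrix.of E₀ * Matrix.of E₀ - Matrix.of E₀).map (Ideal.Quotient.mk I) = 0 := by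
        have h3 : (ι.comp p).comp (ι.comp p) = ι.comp p := LinearMap.ext fun x => by simp [hι']
        rw [Matrix.map_sub _ (map_sub _), Matrix.map_mul, hmap, ← LinearMap.toMatrix'_comp, h3, sub_self]
      exact congrFun (congrFun h2 i) j)
  let L : (Fin n → R) →ₗ[R] (Fin n → R) := Matrix.toLin' E
  let Pm := LinearMap.range L
  have hLL : ∀ x, L (L x) = L x := fun x => by
    rw [← LinearMap.comp_apply, ← Matrix.toLin'_mul, hE.eq]
  let r : (Fin n → R) →ₗ[R] Pm := L.rangeRestrict
  have hr : r.comp Pm.subtype = LinearMap.id := LinearMap.ext fun x => by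
    obtain ⟨_, y, rfl⟩ := x
    exact Subtype.ext (hLL y)
  let mkI : (Fin n → R) →ₗ[R] (Fin n → R ⧸ I) :=
    LinearMap.pi fun i => (Ideal.Quotient.mkₐ R I).toLinearMap.comp (LinearMap.proj i)
  have hmkI : ∀ x, mkI (L x) = ι (p (mkI x)) := fun x => by
    have hEmap : E.map (Ideal.Quotient.mk I) = LinearMap.toMatrix' (ι.comp p) := by
      rw [← hmap]
      exact Matrix.ext fun i j => Ideal.Quotient.eq.mpr (hEI i j)
    change _ = (ι.comp p) (mkI x)
    rw [← LinearMap.toMatrix'_mulVec (ι.comp p) (mkI x), ← hEmap]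
    funext i
    exact RingHom.map_mulVec (Ideal.Quotient.mk I) E x i
  let _ : Module R Q := Module.compHom Q (algebraMap R (R ⧸ I))
  have : IsScalarTower R (R ⧸ I) Q := IsScalarTower.of_algebraMap_smul fun _ _ => rfl
  let φ : Pm →ₗ[R] Q := (p.restrictScalars R).comp (mkI.comp Pm.subtype)
  let Φ : TensorProduct R (R ⧸ I) Pm →ₗ[R ⧸ I] Q := φ.liftBaseChange (R ⧸ I)
  let v : Fin n → TensorProduct R (R ⧸ I) Pm := fun i => (1 : R ⧸ I) ⊗ₜ[R] r (Pi.single i 1)
  let Ψ : Q →ₗ[R ⧸ I] TensorProduct R (R ⧸ I) Pm := (Fintype.linearCombination (R ⧸ I) v).comp ι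
  have hΨ : ∀ x, Fintype.linearCombination (R ⧸ I) v (mkI x) = (1 : R ⧸ I) ⊗ₜ[R] r x := fun x => by
    conv_rhs => rw [← (Pi.basisFun R (Fin n)).sum_repr x, map_sum, TensorProduct.tmul_sum]
    rw [Fintype.linearCombination_apply]
    refine Finset.sum_congr rfl fun i _ => ?_
    rw [Pi.basisFun_repr, Pi.basisFun_apply, map_smul, TensorProduct.tmul_smul,
      ← IsScalarTower.algebraMap_smul (R ⧸ I) (x i) ((1 : R ⧸ I) ⊗ₜ[R] r (Pi.single i 1))]
    rfl
  refine ⟨Pm, inferInstance, inferInstance, Module.Finite.range L, Module.Projective.of_split _ _ hr,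
    ⟨{ Φ with invFun := Ψ, right_inv := ?_, left_inv := ?_ }⟩⟩
  on_goal 2 => intro y
  on_goal 1 => intro z
  rotate_left
  · obtain ⟨w, hw⟩ := (fun c : Fin n → R ⧸ I => (⟨fun i => (Ideal.Quotient.mk_surjective (c i)).choose,
      funext fun i => (Ideal.Quotient.mk_surjective (c i)).choose_spec⟩ : ∃ w, mkI w = c)) (ι y)
    change Φ (Fintype.linearCombination (R ⧸ I) v (ι y)) = y
    rw [← hw, hΨ, LinearMap.liftBaseChange_tmul, one_smul]
    change p (mkI (L w)) = y
    rw [hmkI, hι', hw, hι']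
  · have h1 : Ψ.comp Φ = LinearMap.id := by
      refine (TensorProduct.isBaseChange R Pm (R ⧸ I)).algHom_ext _ _ fun x => ?_
      obtain ⟨_, y, rfl⟩ := x
      change Fintype.linearCombination (R ⧸ I) v (ι (Φ ((1 : R ⧸ I) ⊗ₜ[R] r y))) = (1 : R ⧸ I) ⊗ₜ[R] r y
      rw [LinearMap.liftBaseChange_tmul, one_smul]
      change Fintype.linearCombination (R ⧸ I) v (ι (p (mkI (L y)))) = _
      rw [← hmkI, hLL, hΨ]
      exact congrArg _ (Subtype.ext (hLL y))
    exact LinearMap.congr_fun h1 z

end Groth.Agent.S0534
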