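import Groth.Statements.S0535
import Mathlib.RingTheory.FiniteType
import Mathlib.RingTheory.Nakayama
import Mathlib.RingTheory.OrzechProperty
import Mathlib.LinearAlgebra.TensorProduct.Quotient
import Mathlib.Algebra.Module.Projective
import Mathlib.RingTheory.FiniteLength

set_option autoImplicit false
universe u
open Hensel

namespace Groth.Agent.S0535

/-- If `R` is Henselian at `I` and two finitely generated projective `R`-modules become isomorphic after
base change to `R/I`, then they are isomorphic. -/
theorem result (R : Type u) [CommRing R] (I : Ideal R)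
    [HenselianRing R I] (P₁ P₂ : Type u) [AddCommGroup P₁] [Module R P₁] [AddCommGroup P₂]
    [Module R P₂] [Module.Finite R P₁] [Module.Projective R P₁] [Module.Finite R P₂]
    [Module.Projective R P₂]
    (e : TensorProduct R (R ⧸ I) P₁ ≃ₗ[R ⧸ I] TensorProduct R (R ⧸ I) P₂) :
    Nonempty (P₁ ≃ₗ[R] P₂) := by
  let m₁ : P₁ →ₗ[R] TensorProduct R (R ⧸ I) P₁ := TensorProduct.mk R (R ⧸ I) P₁ 1
  let m₂ : P₂ →ₗ[R] TensorProduct R (R ⧸ I) P₂ := TensorProduct.mk R (R ⧸ I) P₂ 1
  have hm₁ : Function.Surjective m₁ := TensorProduct.mk_surjective R P₁ (R ⧸ I) Ideal.Quotient.mk_surjective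
  have hm₂ : Function.Surjective m₂ := TensorProduct.mk_surjective R P₂ (R ⧸ I) Ideal.Quotient.mk_surjective
  obtain ⟨f, hf⟩ := Module.projective_lifting_property m₂ ((e.toLinearMap.restrictScalars R).comp m₁) hm₂
  obtain ⟨g, hg⟩ := Module.projective_lifting_property m₁ ((e.symm.toLinearMap.restrictScalars R).comp m₂) hm₁
  have hjac : I ≤ Ideal.jacobson ⊥ := HenselianRing.jac
  have key : ∀ (P : Type u) [AddCommGroup P] [Module R P] [Module.Finite R P] (k : P →ₗ[R] P),
      (∀ x, (TensorProduct.mk R (R ⧸ I) P 1) (k x) = (TensorProduct.mk R (R ⧸ I) P 1) x) →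
        Function.Bijective k := by
    intro P _ _ _ k hk
    refine OrzechProperty.bijective_of_surjective_endomorphism k (LinearMap.range_eq_top.mp (top_unique ?_))
    refine Submodule.le_of_le_smul_of_le_jacobson_bot (I := I) Module.Finite.fg_top hjac fun x _ => ?_
    have h1 := congrArg (TensorProduct.quotTensorEquivQuotSMul P I) (hk x)
    rw [TensorProduct.mk_apply, TensorProduct.mk_apply,
      ← map_one (Ideal.Quotient.mk I), TensorProduct.quotTensorEquivQuotSMul_mk_tmul,
      TensorProduct.quotTensorEquivQuotSMul_mk_tmul, one_smul, one_smul, Submodule.Quotient.eq] at h1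
    exact Submodule.mem_sup.mpr ⟨k x, ⟨x, rfl⟩, x - k x, by simpa using neg_mem h1, add_sub_cancel _ _⟩
  have h1 := key P₁ (g.comp f) fun x => by
    have h' := LinearMap.congr_fun hg (f x)
    have h'' := LinearMap.congr_fun hf x
    exact h'.trans ((congrArg e.symm h'').trans (e.symm_apply_apply _))
  have h2 := key P₂ (f.comp g) fun x => by
    have h' := LinearMap.congr_fun hf (g x)
    have h'' := LinearMap.congr_fun hg x
    exact h'.trans ((congrArg e h'').trans (e.apply_symm_apply _))
  exact ⟨LinearEquiv.ofBijective f ⟨Function.Injective.of_comp (f := g) h1.1, Function.Surjective.of_comp (g := g) h2.2⟩⟩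

end Groth.Agent.S0535
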