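import Groth.Statements.S0561
import Groth.Agent.CAlgReg.Basic

set_option autoImplicit false
universe u
open CAlg

namespace Groth.Agent.S0561

/-- Let `R` be a regular local ring of dimension `d` and `I` an ideal with `R/I` a regular local ring.
Then there are elements `x₁, …, x_d` generating the maximal ideal such that `I` is generated by `x₁,
…, x_c` for some `c ≤ d`. -/
theorem result (R : Type u) [CommRing R]
    [IsRegularLocalRing R] (d : ℕ) (hd : ringKrullDim R = d) (I : Ideal R)
    [IsRegularLocalRing (R ⧸ I)] :
    ∃ (x : Fin d → R) (c : ℕ) (hc : c ≤ d), Ideal.span (Set.range x) = IsLocalRing.maximalIdeal R ∧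
      I = Ideal.span (Set.range (fun i : Fin c => x (Fin.castLE hc i))) := by
  classical
  haveI : IsDomain R := CAlgReg.isDomain
  obtain ⟨e, he⟩ := CAlgReg.exists_dim (R := R ⧸ I)
  have hne : I ≠ ⊤ := Ideal.Quotient.nontrivial_iff.1 inferInstance
  have hIm : I ≤ IsLocalRing.maximalIdeal R := IsLocalRing.le_maximalIdeal hne
  let m := IsLocalRing.maximalIdeal R
  -- a maximal independent family of images of elements of `I`
  let A : Set m := {z : m | (z : R) ∈ I}
  obtain ⟨b, hbA, hspanb, hind⟩ := exists_linearIndependent (IsLocalRing.ResidueField R) (m.toCotangent '' A)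
  have hbfin : b.Finite := hind.setFinite
  let g : IsLocalRing.CotangentSpace R → m := fun v => if h : v ∈ m.toCotangent '' A then h.choose else 0
  have hg : ∀ v ∈ b, g v ∈ A ∧ m.toCotangent (g v) = v := fun v hv => by
    simp only [g, dif_pos (hbA hv)]; exact (hbA hv).choose_spec
  let s : Finset m := hbfin.toFinset.image g
  have hs : LinearIndepOn (IsLocalRing.ResidueField R) m.toCotangent (s : Set m) := by
    rw [Finset.coe_image, Set.Finite.coe_toFinset, LinearIndepOn]
    have hinj : Set.InjOn g b := fun v hv w hw hvw => by rw [← (hg v hv).2, hvw, (hg w hw).2]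
    let e := Equiv.Set.imageOfInjOn g b hinj
    rw [← linearIndependent_equiv e]
    convert hind using 1
    funext v
    exact (hg v v.2).2
  obtain ⟨t, ht, hc⟩ := CAlgReg.exists_extend s hs
  rw [CAlgReg.spanFinrank_eq_of_dim hd] at hc
  let s' : Finset R := s.image (↑)
  have hs'card : s'.card = s.card := Finset.card_image_of_injective _ Subtype.val_injective
  obtain ⟨hreg, hdim, hsum⟩ := CAlgReg.quotient_span hd s' t (by rw [Finset.coe_image]; exact ht) (by omega)
  haveI := hreg
  haveI : IsDomain (R ⧸ Ideal.span (s' : Set R)) := CAlgReg.isDomain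
  have hle : Ideal.span (s' : Set R) ≤ I := by
    rw [Ideal.span_le]
    intro z hz
    obtain ⟨w, hw, rfl⟩ := Finset.mem_image.1 hz
    obtain ⟨v, hv, rfl⟩ := Finset.mem_image.1 hw
    exact (hg v (hbfin.mem_toFinset.1 hv)).1
  -- dimension of `R ⧸ I` is at least `t.card`
  have hIspan : ∀ z : m, z ∈ A → m.toCotangent z ∈ Submodule.span (IsLocalRing.ResidueField R) (m.toCotangent '' (s : Set m)) := by
    intro z hz
    have : m.toCotangent z ∈ Submodule.span (IsLocalRing.ResidueField R) b := by
      rw [hspanb]; exact Submodule.subset_span ⟨z, hz, rfl⟩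
    refine Submodule.span_mono ?_ this
    intro v hv
    exact ⟨g v, Finset.mem_coe.2 (Finset.mem_image_of_mem g (hbfin.mem_toFinset.2 hv)), (hg v hv).2⟩
  haveI : IsLocalHom (Ideal.Quotient.mk I) := IsLocalHom.of_surjective _ Ideal.Quotient.mk_surjective
  have hte : t.card ≤ e := by
    have hm' := IsLocalRing.map_maximalIdeal_of_surjective (Ideal.Quotient.mk I) Ideal.Quotient.mk_surjective
    have hfg := (IsLocalRing.maximalIdeal (R ⧸ I)).fg_of_isNoetherianRing
    have hfin := Submodule.FG.finite_generators hfg
    let l : R ⧸ I → R := Function.surjInv Ideal.Quotient.mk_surjective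
    have hl : ∀ y, Ideal.Quotient.mk I (l y) = y := Function.surjInv_eq _
    let G := l '' (IsLocalRing.maximalIdeal (R ⧸ I)).generators
    have hGm : ∀ y ∈ G, y ∈ m := by
      rintro _ ⟨y, hy, rfl⟩
      have : Ideal.Quotient.mk I (l y) ∈ IsLocalRing.maximalIdeal (R ⧸ I) := by
        rw [hl, ← Submodule.span_generators (IsLocalRing.maximalIdeal (R ⧸ I))]; exact Submodule.subset_span hy
      exact fun hu => this (hu.map _)
    have hcover : m ≤ Ideal.span G ⊔ I := by
      rw [← Ideal.mk_ker (I := I), RingHom.ker_eq_comap_bot, ← Ideal.comap_map_of_surjective _ Ideal.Quotient.mk_surjective,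
        ← Ideal.map_le_iff_le_comap, hm', Ideal.map_span]
      refine le_of_eq ?_
      have : (Ideal.Quotient.mk I) '' G = (IsLocalRing.maximalIdeal (R ⧸ I)).generators := by
        simp [G, Set.image_image, hl]
      rw [this]; exact (Submodule.span_generators _).symm
    let U : Set m := (s : Set m) ∪ {z : m | (z : R) ∈ G}
    have hU : Submodule.span (IsLocalRing.ResidueField R) (m.toCotangent '' U) = ⊤ := by
      rw [eq_top_iff]
      intro v _
      obtain ⟨z, rfl⟩ := m.toCotangent_surjective v
      obtain ⟨p, hp, q, hq, hpq⟩ := Submodule.mem_sup.1 (hcover z.2)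
      have hqm : q ∈ m := hIm hq
      have hpm : p ∈ m := by
        have : p = z - q := by rw [← hpq]; ring
        rw [this]; exact sub_mem z.2 hqm
      have hz : z = ⟨p, hpm⟩ + ⟨q, hqm⟩ := Subtype.ext hpq.symm
      rw [hz, map_add]
      refine add_mem ?_ (Submodule.span_mono (Set.image_mono Set.subset_union_left) (hIspan _ hq))
      have : (⟨p, hpm⟩ : m) ∈ Submodule.span R {z : m | (z : R) ∈ G} := by
        rw [← Submodule.apply_mem_span_image_iff_mem_span (f := m.subtype) Subtype.val_injective]
        refine Submodule.span_mono ?_ hp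
        intro y hy
        exact ⟨⟨y, hGm y hy⟩, hy, rfl⟩
      have := Submodule.apply_mem_span_image_of_mem_span m.toCotangent this
      rw [← Submodule.restrictScalars_mem R, Submodule.restrictScalars_span R (IsLocalRing.ResidueField R) Ideal.Quotient.mk_surjective]
      exact Submodule.span_mono (Set.image_mono Set.subset_union_right) this
    rw [IsLocalRing.CotangentSpace.span_image_eq_top_iff] at hU
    have hU2 := congrArg (Submodule.map m.subtype) hU
    rw [Submodule.map_span, Submodule.map_top, Submodule.range_subtype] at hU2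
    have hsub : m.subtype '' U ⊆ ↑s' ∪ G := by
      rintro _ ⟨z, hz | hz, rfl⟩
      · exact Or.inl (Finset.mem_coe.2 (Finset.mem_image_of_mem _ hz))
      · exact Or.inr hz
    have hspan : Ideal.span (↑s' ∪ G) = m := by
      refine le_antisymm (Ideal.span_le.2 ?_) (le_of_eq_of_le hU2.symm (Submodule.span_mono hsub))
      rintro y (hy | hy)
      · exact hIm (hle (Ideal.subset_span hy))
      · exact hGm y hy
    have hGfin : G.Finite := hfin.image l
    have hd2 : d ≤ (↑s' ∪ G : Set R).ncard := CAlgReg.card_ge_of_span_eq hd (s'.finite_toSet.union hGfin) hspan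
    have h2 := Set.ncard_union_le (↑s' : Set R) G
    have h3 : G.ncard ≤ e := by
      refine (Set.ncard_image_le hfin).trans ?_
      rw [Submodule.FG.generators_ncard hfg, CAlgReg.spanFinrank_eq_of_dim he]
    rw [Set.ncard_coe_finset] at h2
    omega
  have hEq : Ideal.span (s' : Set R) = I := by
    refine le_antisymm hle fun z hz => ?_
    by_contra hzs
    let π := Ideal.Quotient.factor hle
    have h1 : ringKrullDim (R ⧸ I) + 1 ≤ ringKrullDim (R ⧸ Ideal.span (s' : Set R)) :=
      ringKrullDim_succ_le_of_surjective π (Ideal.Quotient.factor_surjective hle)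
        (r := Ideal.Quotient.mk _ z) (mem_nonZeroDivisors_of_ne_zero (fun h => hzs (Ideal.Quotient.eq_zero_iff_mem.1 h)))
        (Ideal.Quotient.eq_zero_iff_mem.2 hz)
    rw [he, hdim] at h1
    have : e + 1 ≤ t.card := by exact_mod_cast h1
    omega
  -- assemble the tuple
  have hlen : (s'.toList ++ t.toList).length = d := by simp; omega
  refine ⟨fun i => (s'.toList ++ t.toList).get (i.cast hlen.symm), s'.card, by omega, ?_, ?_⟩
  · refine Eq.trans ?_ (show Ideal.span (↑s' ∪ ↑t : Set R) = _ by rw [Finset.coe_image]; exact ht)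
    congr 1
    ext z
    simp only [Set.mem_range, Set.mem_union, Finset.mem_coe]
    rw [← Finset.mem_toList, ← Finset.mem_toList (s := t), ← List.mem_append, List.mem_iff_get]
    exact ⟨fun ⟨i, hi⟩ => ⟨_, hi⟩, fun ⟨i, hi⟩ => ⟨i.cast hlen, by simpa using hi⟩⟩
  · refine hEq.symm.trans ?_
    congr 1
    ext z
    simp only [Finset.mem_coe, Set.mem_range]
    constructor
    · intro hz
      obtain ⟨i, hi⟩ := List.mem_iff_get.1 (Finset.mem_toList.2 hz)
      refine ⟨⟨i.1, by simpa using i.2⟩, ?_⟩
      rw [← hi]
      simpa using List.getElem_append_left (bs := t.toList) i.2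
    · rintro ⟨i, rfl⟩
      simp [List.getElem_append_left, ← Finset.mem_toList]

end Groth.Agent.S0561
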