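import Groth.Statements.S0575
import Groth.Agent.CAlgNagata.Main

set_option autoImplicit false
universe u
open CAlg

namespace Groth.Agent.S0575

/-- Retired milestone (weight 0, no credit; kept so that existing proof files which import this module still build). If `R` is a Nagata ring and `S` is a finite type `R`-algebra which is quasi-finite (for instance
module-finite), then `S` is a Nagata ring. -/
theorem result (R : Type u) [CommRing R] (hR : CAlg.IsNagata R) (S : Type u)
    [CommRing S] [Algebra R S] [Algebra.FiniteType R S] [Algebra.QuasiFinite R S] :
    CAlg.IsNagata S := by
  exact Groth.Agent.CAlgNagata.isNagata_of_finiteType hR S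

end Groth.Agent.S0575
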