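import Groth.Statements.S0580
import Groth.Agent.CAlgCohen.Normalization

set_option autoImplicit false
universe u
open CAlg

namespace Groth.Agent.S0580

/-- A local ring complete with respect to a finitely generated maximal ideal is a quotient of a power
series ring in finitely many variables over a ring which is either a field or a Cohen ring. -/
theorem result (R : Type u) [CommRing R]
    [IsLocalRing R] [IsAdicComplete (IsLocalRing.maximalIdeal R) R]
    (hfg : (IsLocalRing.maximalIdeal R).FG) :
    ∃ (Λ : Type u) (_ : CommRing Λ) (n : ℕ) (f : MvPowerSeries (Fin n) Λ →+* R),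
      (IsField Λ ∨ CAlg.IsCohenRing Λ) ∧ Function.Surjective f := by
  classical
  obtain ⟨s, hs⟩ := hfg
  let e := s.equivFin.symm
  have hr : Set.range (fun i => (e i : R)) = (s : Set R) := by
    ext x
    exact ⟨fun ⟨i, hi⟩ => hi ▸ (e i).2, fun hx => ⟨e.symm ⟨x, hx⟩, by simp⟩⟩
  have hz : ∀ i, (e i : R) ∈ IsLocalRing.maximalIdeal R := fun i => hs ▸ Submodule.subset_span (e i).2
  have hspan : Ideal.span (Set.range fun i => (e i : R)) = IsLocalRing.maximalIdeal R := by rw [hr]; exact hs
  by_cases hmix : ∀ p : ℕ, p.Prime → (p : IsLocalRing.ResidueField R) = 0 → (p : R) = 0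
  · obtain ⟨φ, hφ⟩ := CAlgCohen.exists_coefficientField R hmix
    obtain ⟨f, hX, hC⟩ := CAlgCohen.exists_eval φ (fun i => (e i : R)) hz
    exact ⟨_, inferInstance, _, f, .inl (Field.toIsField _),
      CAlgCohen.surjective_eval φ (fun x => ⟨x, RingHom.congr_fun hφ x⟩) _ f hX hC hspan⟩
  · push Not at hmix
    obtain ⟨p, hp, hp0, -⟩ := hmix
    haveI := Fact.mk hp
    haveI : CharP (IsLocalRing.ResidueField R) p := (CharP.charP_iff_prime_eq_zero hp).2 hp0
    obtain ⟨Λ, _, _, _, φ, hc, hm, hφ⟩ := CAlgCohen.exists_cohen_map R p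
    obtain ⟨f, hX, hC⟩ := CAlgCohen.exists_eval φ (fun i => (e i : R)) hz
    exact ⟨Λ, inferInstance, _, f, .inr ⟨inferInstance, inferInstance, hc, p, hp, hm⟩,
      CAlgCohen.surjective_eval φ hφ _ f hX hC hspan⟩

end Groth.Agent.S0580
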