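import Groth.Statements.S0584
import Groth.Agent.CAlgML.LocalFree
import Groth.Agent.CAlgML.Seq

set_option autoImplicit false
universe u
open scoped Classical
open CAlg

namespace Groth.Agent.S0584

/-- Projectivity of a module is equivalent to the conjunction of three conditions — flatness, the
Mittag-Leffler property, and being an internal direct sum of countably generated submodules. -/
theorem result (R : Type u) [CommRing R] (M : Type u)
    [AddCommGroup M] [Module R M] :
    Module.Projective R M ↔ (Module.Flat R M ∧ CAlg.IsMittagLeffler R M ∧
      ∃ (ι : Type u) (N : ι → Submodule R M), DirectSum.IsInternal N ∧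
        ∀ i, CAlg.IsCountablyGenerated R (N i)) := by
  classical
  constructor
  · intro h
    refine ⟨inferInstance, CAlgML.isMittagLeffler_of_projective, ?_⟩
    convert CAlgML.exists_countablyGenerated_decomposition (R := R) (P := M)
  · rintro ⟨hF, hML, ι, N, hN, hc⟩
    let e := LinearEquiv.ofBijective (DirectSum.coeLinearMap N) hN
    haveI : ∀ i, Module.Projective R (N i) := fun i => by
      haveI : Module.Flat R (N i) := Module.Flat.of_retract
        (e.toLinearMap ∘ₗ DirectSum.lof R ι (fun i => N i) i)
        (DirectSum.component R ι (fun i => N i) i ∘ₗ e.symm.toLinearMap)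
        (LinearMap.ext fun z => by simp)
      exact CAlgML.projective_of_flat_of_countablyGenerated
        (CAlgML.isMittagLeffler_of_retract (e.toLinearMap ∘ₗ DirectSum.lof R ι (fun i => N i) i)
          (DirectSum.component R ι (fun i => N i) i ∘ₗ e.symm.toLinearMap)
          (LinearMap.ext fun z => by simp) hML) (hc i)
    exact Module.Projective.of_equiv e

end Groth.Agent.S0584
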