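import Groth.Statements.S0611
import Groth.Agent.Depth.SeqDepth

set_option autoImplicit false
universe u
open RRAlg

namespace Groth.Agent.S0611

/-- In a Noetherian local ring, any minimal generating set of an ideal generated by a regular sequence
is again a regular sequence: if a₁, …, aₙ is a regular sequence and b₁, …, bₙ are n elements
generating the same ideal, then b₁, …, bₙ is a regular sequence. (A regular sequence of length n
generating an ideal I is a minimal generating set of I, so "minimal" amounts to "of length n".) -/
theorem result {A : Type u} [CommRing A] [IsLocalRing A] [IsNoetherianRing A]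
    {n : ℕ} (a b : Fin n → A) (ha : RingTheory.Sequence.IsRegular A (List.ofFn a))
    (hab : Ideal.span (Set.range a) = Ideal.span (Set.range b)) :
    RingTheory.Sequence.IsRegular A (List.ofFn b) := by
    have htop : Ideal.span (Set.range a) ≠ ⊤ := by
      intro h
      apply ha.top_ne_smul
      rw [smul_eq_mul, Ideal.mul_top, Ideal.ofList]
      refine h.symm.trans (congrArg Ideal.span ?_)
      ext x
      simp [List.mem_ofFn]
    have hof : ∀ c : Fin n → A, Ideal.ofList (List.ofFn c) = Ideal.span (Set.range c) := fun c => by
      rw [Ideal.ofList]; congr 1; ext x; simp [List.mem_ofFn]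
    have hmem : ∀ c : Fin n → A, Ideal.span (Set.range c) ≠ ⊤ →
        ∀ x ∈ List.ofFn c, x ∈ IsLocalRing.maximalIdeal A := fun c hc x hx =>
      IsLocalRing.le_maximalIdeal hc (hof c ▸ Ideal.subset_span hx)
    have hA := (Groth.Agent.Depth.idealDepth_ofList_eq_length_iff (M := A) (List.ofFn a) (hmem a htop)).2
      ha.toIsWeaklyRegular
    have hB := (Groth.Agent.Depth.idealDepth_ofList_eq_length_iff (M := A) (List.ofFn b) (hmem b (hab ▸ htop))).1
      (by rw [hof, ← hab, ← hof, hA, List.length_ofFn, List.length_ofFn])
    exact ⟨hB, by rw [smul_eq_mul, Ideal.mul_top, hof, ← hab]; exact htop.symm⟩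

end Groth.Agent.S0611
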