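import Groth.Statements.S1852
import Mathlib

set_option autoImplicit false
universe u
open CycAlg

namespace Groth.Agent.S1852

variable {R : Type u} [CommRing R]

theorem length_loc_quot (q : PrimeSpectrum R) :
    Module.length (Localization.AtPrime q.asIdeal) (LocalizedModule q.asIdeal.primeCompl (R ⧸ q.asIdeal)) = 1 := by
  rw [Module.length_eq_one_iff, isSimpleModule_iff_toSpanSingleton_surjective]
  constructor
  · have hq : q ∈ Module.support R (R ⧸ q.asIdeal) := by
      rw [Module.support_eq_zeroLocus, Ideal.annihilator_quotient]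
      exact (le_refl q.asIdeal : q.asIdeal ≤ q.asIdeal)
    exact Module.mem_support_iff.1 hq
  · intro x hx y
    induction x using LocalizedModule.induction_on with
    | h m s =>
      induction y using LocalizedModule.induction_on with
      | h m' s' =>
        obtain ⟨r, rfl⟩ := Ideal.Quotient.mk_surjective m
        obtain ⟨r', rfl⟩ := Ideal.Quotient.mk_surjective m'
        have hr : r ∈ q.asIdeal.primeCompl := by
          intro h
          apply hx
          rw [Ideal.Quotient.eq_zero_iff_mem.2 h, LocalizedModule.zero_mk]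
        refine ⟨Localization.mk (r' * (s : R)) (⟨r, hr⟩ * s'), ?_⟩
        rw [LinearMap.toSpanSingleton_apply, LocalizedModule.mk_smul_mk, LocalizedModule.mk_eq]
        refine ⟨1, ?_⟩
        simp only [one_smul, Submonoid.smul_def, Submonoid.coe_mul]
        simp only [Algebra.smul_def, Ideal.Quotient.algebraMap_eq, ← map_mul]
        congr 1
        ring

theorem length_add {M : Type u} [AddCommGroup M] [Module R M] (q : PrimeSpectrum R) (P : Submodule R M) :
    Module.length (Localization.AtPrime q.asIdeal) (LocalizedModule q.asIdeal.primeCompl M) =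
      Module.length (Localization.AtPrime q.asIdeal) (LocalizedModule q.asIdeal.primeCompl P) +
        Module.length (Localization.AtPrime q.asIdeal) (LocalizedModule q.asIdeal.primeCompl (M ⧸ P)) :=
  Module.length_eq_add_of_exact (LocalizedModule.map q.asIdeal.primeCompl P.subtype)
    (LocalizedModule.map q.asIdeal.primeCompl P.mkQ)
    (LocalizedModule.map_injective _ _ (Submodule.injective_subtype P))
    (LocalizedModule.map_surjective _ _ (Submodule.mkQ_surjective P))
    (LocalizedModule.map_exact _ _ _ (LinearMap.exact_subtype_mkQ P))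

theorem length_congr {M N : Type u} [AddCommGroup M] [Module R M] [AddCommGroup N] [Module R N] (q : PrimeSpectrum R) (e : M ≃ₗ[R] N) :
    Module.length (Localization.AtPrime q.asIdeal) (LocalizedModule q.asIdeal.primeCompl M) =
      Module.length (Localization.AtPrime q.asIdeal) (LocalizedModule q.asIdeal.primeCompl N) :=
  (LinearEquiv.ofBijective (LocalizedModule.map q.asIdeal.primeCompl e.toLinearMap)
    ⟨LocalizedModule.map_injective _ _ e.injective, LocalizedModule.map_surjective _ _ e.surjective⟩).length_eq

/-- Let R be a Noetherian local ring, M a finite R-module and 𝔮 a minimal prime of the support of M.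
There are x₁, …, x_l in M such that 𝔮 is not in the support of M/⟨x₁, …, x_l⟩ and each ⟨x₁, …,
x_i⟩/⟨x₁, …, x_{i−1}⟩ is isomorphic to R/𝔮; and for any such sequence l equals the length of M_𝔮
over R_𝔮. -/
theorem result (R : Type u) [CommRing R] [IsNoetherianRing R] [IsLocalRing R] (M : Type u) [AddCommGroup M] [Module R M] [Module.Finite R M] (q : PrimeSpectrum R) (hq : Minimal (fun p : PrimeSpectrum R => p ∈ Module.support R M) q) : (∃ (l : ℕ) (x : Fin l → M), q ∉ Module.support R (M ⧸ Submodule.span R (Set.range x)) ∧ ∀ i : Fin l, Nonempty ((↥(CycDet.spanBefore R M x (i + 1)) ⧸ (CycDet.spanBefore R M x i).submoduleOf (CycDet.spanBefore R M x (i + 1))) ≃ₗ[R] (R ⧸ q.asIdeal))) ∧ ∀ (l : ℕ) (x : Fin l → M), q ∉ Module.support R (M ⧸ Submodule.span R (Set.range x)) → (∀ i : Fin l, Nonempty ((↥(CycDet.spanBefore R M x (i + 1)) ⧸ (CycDet.spanBefore R M x i).submoduleOf (CycDet.spanBefore R M x (i + 1))) ≃ₗ[R] (R ⧸ q.asIdeal))) → (l : ℕ∞) = Module.length (Localization.AtPrime q.asIdeal) (LocalizedModule q.asIdeal.primeCompl M) := by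
  classical
  constructor
  · let good : Submodule R M → Prop := fun N => ∃ (l : ℕ) (x : Fin l → M), Submodule.span R (Set.range x) = N ∧
      ∀ i : Fin l, Nonempty ((↥(CycDet.spanBefore R M x (i + 1)) ⧸ (CycDet.spanBefore R M x i).submoduleOf (CycDet.spanBefore R M x (i + 1))) ≃ₗ[R] (R ⧸ q.asIdeal))
    obtain ⟨N, ⟨l, x, hxN, hx⟩, hmax⟩ := WellFounded.has_min (wellFounded_gt (α := Submodule R M)) {N | good N}
      ⟨⊥, 0, Fin.elim0, by simp, fun i => i.elim0⟩
    refine ⟨l, x, ?_, hx⟩
    intro hsupp
    rw [hxN] at hsupp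
    have hmin : q.asIdeal ∈ (Module.annihilator R (M ⧸ N)).minimalPrimes := by
      rw [Module.support_eq_zeroLocus] at hsupp
      refine ⟨⟨q.isPrime, hsupp⟩, fun p ⟨hp, hpann⟩ hpq => ?_⟩
      have h1 : (⟨p, hp⟩ : PrimeSpectrum R) ∈ Module.support R (M ⧸ N) := by
        rw [Module.support_eq_zeroLocus]; exact hpann
      exact hq.2 (Module.support_subset_of_surjective N.mkQ N.mkQ_surjective h1) hpq
    obtain ⟨-, f, hf⟩ := (isAssociatedPrime_iff_exists_injective_linearMap _ _).1
      (Module.associatedPrimes.minimalPrimes_annihilator_subset_associatedPrimes R (M ⧸ N) hmin)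
    obtain ⟨x0, hx0⟩ := Submodule.Quotient.mk_surjective N (f (Ideal.Quotient.mk q.asIdeal 1))
    let x' : Fin (l + 1) → M := Fin.snoc x x0
    have hb : ∀ i : ℕ, i ≤ l → CycDet.spanBefore R M x' i = CycDet.spanBefore R M x i := by
      intro i hi
      unfold CycDet.spanBefore
      congr 1
      ext m
      constructor
      · rintro ⟨jj, hj, rfl⟩
        have hjl : (jj : ℕ) < l := lt_of_lt_of_le hj hi
        refine ⟨⟨jj, hjl⟩, hj, ?_⟩
        exact (Fin.snoc_castSucc (α := fun _ => M) x0 x ⟨jj, hjl⟩).symm
      · rintro ⟨jj, hj, rfl⟩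
        exact ⟨Fin.castSucc jj, hj, Fin.snoc_castSucc (α := fun _ => M) x0 x jj⟩
    have hbl : CycDet.spanBefore R M x' l = N := by
      rw [hb l le_rfl, ← hxN]
      unfold CycDet.spanBefore
      congr 1
      ext m
      exact ⟨fun ⟨jj, _, h⟩ => ⟨jj, h⟩, fun ⟨jj, h⟩ => ⟨jj, jj.2, h⟩⟩
    have hblast : CycDet.spanBefore R M x' (l + 1) = N ⊔ Submodule.span R {x0} := by
      rw [← hbl]
      unfold CycDet.spanBefore
      rw [← Submodule.span_union]
      congr 1
      ext m
      constructor
      · rintro ⟨jj, -, rfl⟩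
        rcases Fin.eq_castSucc_or_eq_last jj with ⟨j', rfl⟩ | rfl
        · exact Or.inl ⟨Fin.castSucc j', j'.2, rfl⟩
        · exact Or.inr (by simp [x'])
      · rintro (⟨jj, -, rfl⟩ | h)
        · exact ⟨jj, jj.2, rfl⟩
        · exact ⟨Fin.last l, by simp, by simp [x', Set.mem_singleton_iff.1 h]⟩
    have hrange : Submodule.span R (Set.range x') = N ⊔ Submodule.span R {x0} := by
      rw [← hblast]
      unfold CycDet.spanBefore
      congr 1
      ext m
      exact ⟨fun ⟨jj, h⟩ => ⟨jj, jj.2, h⟩, fun ⟨jj, _, h⟩ => ⟨jj, h⟩⟩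
    have hlt : N < N ⊔ Submodule.span R {x0} := by
      refine lt_of_le_of_ne le_sup_left fun h => ?_
      have hmem : x0 ∈ N := h ▸ Submodule.mem_sup_right (Submodule.mem_span_singleton_self x0)
      rw [(Submodule.Quotient.mk_eq_zero N).2 hmem] at hx0
      exact q.isPrime.ne_top ((Ideal.eq_top_iff_one _).2 (Ideal.Quotient.eq_zero_iff_mem.1 (hf (hx0.symm.trans (map_zero f).symm))))
    refine hmax (N ⊔ Submodule.span R {x0}) ⟨l + 1, x', hrange, fun i => ?_⟩ hlt
    rcases Fin.eq_castSucc_or_eq_last i with ⟨i', rfl⟩ | rfl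
    · rw [Fin.val_castSucc, hb _ (Nat.le_of_lt i'.2), hb _ i'.2]
      exact hx i'
    · rw [Fin.val_last, hblast, hbl]
      let T := N ⊔ Submodule.span R {x0}
      let φ : R →ₗ[R] T ⧸ N.submoduleOf T :=
        (Submodule.mkQ _).comp (LinearMap.toSpanSingleton R T ⟨x0, Submodule.mem_sup_right (Submodule.mem_span_singleton_self x0)⟩)
      have hφ : Function.Surjective φ := by
        intro z
        obtain ⟨⟨w, hw⟩, rfl⟩ := Submodule.Quotient.mk_surjective _ z
        obtain ⟨n, hn, s, hs, rfl⟩ := Submodule.mem_sup.1 hw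
        obtain ⟨r, rfl⟩ := Submodule.mem_span_singleton.1 hs
        refine ⟨r, (Submodule.Quotient.eq _).2 ?_⟩
        show r • x0 - (n + r • x0) ∈ N
        simpa using N.neg_mem hn
      have hker : LinearMap.ker φ = q.asIdeal := by
        ext r
        have h1 : φ r = 0 ↔ r • x0 ∈ N := Submodule.Quotient.mk_eq_zero _
        rw [LinearMap.mem_ker, h1, ← Submodule.Quotient.mk_eq_zero N, Submodule.Quotient.mk_smul, hx0, ← map_smul]
        constructor
        · intro h
          have h2 := hf (h.trans (map_zero f).symm)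
          refine Ideal.Quotient.eq_zero_iff_mem.1 ?_
          refine Eq.trans ?_ h2
          rw [Algebra.smul_def, map_one, mul_one]
          rfl
        · intro h
          rw [Algebra.smul_def, map_one, mul_one, Ideal.Quotient.algebraMap_eq, Ideal.Quotient.eq_zero_iff_mem.2 h, map_zero]
      exact ⟨((Submodule.quotEquivOfEq _ _ hker.symm).trans (φ.quotKerEquivOfSurjective hφ)).symm⟩
  · intro l x hnot hseq
    have hstep : ∀ i : ℕ, i ≤ l → Module.length (Localization.AtPrime q.asIdeal)
        (LocalizedModule q.asIdeal.primeCompl (CycDet.spanBefore R M x i)) = i := by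
      intro i
      induction i with
      | zero =>
        intro _
        have h0 : CycDet.spanBefore R M x 0 = ⊥ := by
          unfold CycDet.spanBefore
          simp
        have : Subsingleton (CycDet.spanBefore R M x 0) := h0 ▸ inferInstance
        have : Subsingleton (LocalizedModule q.asIdeal.primeCompl (CycDet.spanBefore R M x 0)) := by
          rw [LocalizedModule.subsingleton_iff]
          exact fun m => ⟨1, Submonoid.one_mem _, Subsingleton.elim _ _⟩
        rw [Module.length_eq_zero_iff.2 this, Nat.cast_zero]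
      | succ i ih =>
        intro hi
        obtain ⟨e⟩ := hseq ⟨i, hi⟩
        have hle : CycDet.spanBefore R M x i ≤ CycDet.spanBefore R M x (i + 1) :=
          Submodule.span_mono (Set.image_mono fun j hj => Nat.lt_succ_of_lt hj)
        rw [length_add q ((CycDet.spanBefore R M x i).submoduleOf (CycDet.spanBefore R M x (i + 1))),
          length_congr q (Submodule.submoduleOfEquivOfLe hle), ih (Nat.le_of_succ_le hi),
          length_congr q e, length_loc_quot]
        push_cast
        rfl
    have htop : Submodule.span R (Set.range x) = CycDet.spanBefore R M x l := by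
      unfold CycDet.spanBefore
      congr 1
      ext m
      exact ⟨fun ⟨jj, h⟩ => ⟨jj, jj.2, h⟩, fun ⟨jj, _, h⟩ => ⟨jj, h⟩⟩
    rw [htop, Module.notMem_support_iff] at hnot
    rw [length_add q (CycDet.spanBefore R M x l), hstep l le_rfl, Module.length_eq_zero_iff.2 hnot, add_zero]

end Groth.Agent.S1852
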