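import Groth.Statements.S1833
import Mathlib
import Groth.Agent.CycAlgLib.Herbrand
import Groth.Agent.S1852

set_option autoImplicit false
universe u v
open Pointwise
open CycAlg

namespace Groth.Agent.S1833

open CycAlg in
theorem perH_zero_smul {R : Type u} [CommRing R] (N : Type u) [AddCommGroup N] [Module R N] (x : R) :
    Module.length R (perH (0 : N →ₗ[R] N) (x • LinearMap.id)) = Module.length R (N ⧸ x • (⊤ : Submodule R N)) ∧
    Module.length R (perH (x • LinearMap.id) (0 : N →ₗ[R] N)) = Module.length R (LinearMap.ker (LinearMap.lsmul R N x)) := by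
  constructor
  · refine (Submodule.Quotient.equiv _ _ (LinearEquiv.ofTop _ LinearMap.ker_zero) ?_).length_eq
    ext y
    simp only [Submodule.mem_map, Submodule.mem_smul_pointwise_iff_exists]
    constructor
    · rintro ⟨⟨a, ha⟩, ⟨b, hb⟩, rfl⟩
      exact ⟨b, trivial, hb⟩
    · rintro ⟨b, -, rfl⟩
      exact ⟨⟨x • b, by simp⟩, ⟨b, rfl⟩, rfl⟩
  · refine ((Submodule.quotEquivOfEqBot _ ?_).trans (LinearEquiv.ofEq _ _ ?_)).length_eq
    · rw [eq_bot_iff]
      rintro ⟨a, ha⟩ ⟨b, hb⟩
      exact Subtype.ext hb.symm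
    · ext a
      simp

theorem quot_eq {R : Type u} [CommRing R] (x : R) (p : PrimeSpectrum R) {N : Type u} [AddCommGroup N] [Module R N] (e : N ≃ₗ[R] R ⧸ p.asIdeal) :
    Module.length R (N ⧸ x • (⊤ : Submodule R N)) = Ring.ord (R ⧸ p.asIdeal) (Ideal.Quotient.mk p.asIdeal x) := by
  unfold Ring.ord
  rw [← Module.length_eq_of_surjective (S := R) (R := R ⧸ p.asIdeal) Ideal.Quotient.mk_surjective]
  refine ((Submodule.Quotient.equiv _ ((Ideal.span {Ideal.Quotient.mk p.asIdeal x}).restrictScalars R) e ?_).trans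
    (Submodule.Quotient.restrictScalarsEquiv R _)).length_eq
  ext y
  simp only [Submodule.mem_map, Submodule.mem_smul_pointwise_iff_exists, Submodule.restrictScalars_mem, Ideal.mem_span_singleton']
  constructor
  · rintro ⟨_, ⟨a, -, rfl⟩, rfl⟩
    exact ⟨e a, by show e a * Ideal.Quotient.mk p.asIdeal x = e (x • a); rw [map_smul, Algebra.smul_def, Ideal.Quotient.algebraMap_eq, mul_comm]⟩
  · rintro ⟨a, rfl⟩
    exact ⟨x • e.symm a, ⟨e.symm a, trivial, rfl⟩, by show e (x • e.symm a) = a * _; rw [map_smul, e.apply_symm_apply, Algebra.smul_def, Ideal.Quotient.algebraMap_eq, mul_comm]⟩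

open Groth.Agent.CycAlgLib in
theorem quot_lt_top {R : Type u} [CommRing R] [IsNoetherianRing R] [IsLocalRing R] (M : Type u) [AddCommGroup M] [Module R M] [Module.Finite R M] (x : R)
    (h0 : Module.supportDim R (M ⧸ x • (⊤ : Submodule R M)) ≤ 0) (N : Type u) [AddCommGroup N] [Module R N] [Module.Finite R N]
    (hsub : Module.support R N ⊆ Module.support R M) : Module.length R (N ⧸ x • (⊤ : Submodule R N)) < ⊤ := by
  refine length_lt_top_of_support fun q hq => eq_maximalIdeal_of_supportDim h0 (mem_support_quot_smul x ?_ ?_)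
  · exact hsub (Module.support_subset_of_surjective _ (Submodule.mkQ_surjective _) hq)
  · refine Module.mem_support_iff_of_finite.1 hq (Module.mem_annihilator.2 fun y => ?_)
    obtain ⟨a, rfl⟩ := Submodule.Quotient.mk_surjective _ y
    rw [← Submodule.Quotient.mk_smul, Submodule.Quotient.mk_eq_zero]
    exact Submodule.smul_mem_pointwise_smul a x ⊤ trivial

open CycAlg Groth.Agent.CycAlgLib in
theorem formula (R : Type u) [CommRing R] [IsNoetherianRing R] [IsLocalRing R] (M : Type u) [AddCommGroup M] [Module R M] [Module.Finite R M] (x : R)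
    (h0 : Module.supportDim R (M ⧸ x • (⊤ : Submodule R M)) ≤ 0) (T : Finset (PrimeSpectrum R))
    (hT : ∀ p, p ∈ T ↔ (p ∈ Module.support R M ∧ p.asIdeal ≠ IsLocalRing.maximalIdeal R))
    (hanti : ∀ p ∈ T, ∀ q ∈ T, p.asIdeal ≤ q.asIdeal → p = q) :
    ∀ (N : Type u) [AddCommGroup N] [Module R N] [Module.Finite R N], Module.support R N ⊆ Module.support R M →
      FinCoh R (0 : N →ₗ[R] N) (x • LinearMap.id) ∧
      (∀ p ∈ T, Module.length (Localization.AtPrime p.asIdeal) (LocalizedModule p.asIdeal.primeCompl N) < ⊤) ∧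
      herbrand R (0 : N →ₗ[R] N) (x • LinearMap.id) = ∑ p ∈ T, ((Ring.ord (R ⧸ p.asIdeal) (Ideal.Quotient.mk p.asIdeal x)).toNat : ℤ) *
        (Module.length (Localization.AtPrime p.asIdeal) (LocalizedModule p.asIdeal.primeCompl N)).toNat := by
  classical
  intro N _ _ _
  induction (inferInstance : Module.Finite R N) using IsNoetherianRing.induction_on_isQuotientEquivQuotientPrime R with
  | subsingleton N =>
    intro _
    have hper : IsPeriodic (0 : N →ₗ[R] N) (x • LinearMap.id) := ⟨by simp, by simp⟩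
    have hlen : Module.length R N < ⊤ := by rw [Module.length_eq_zero]; exact WithTop.top_pos
    have hz : ∀ p : PrimeSpectrum R, Module.length (Localization.AtPrime p.asIdeal) (LocalizedModule p.asIdeal.primeCompl N) = 0 := fun p => by
      have : Subsingleton (LocalizedModule p.asIdeal.primeCompl N) :=
        LocalizedModule.subsingleton_iff.2 fun m => ⟨1, Submonoid.one_mem _, Subsingleton.elim _ _⟩
      exact Module.length_eq_zero
    refine ⟨(herbrand_eq_zero_of_finite _ _ hper hlen).1, fun p _ => by rw [hz p]; exact WithTop.top_pos, ?_⟩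
    rw [(herbrand_eq_zero_of_finite _ _ hper hlen).2, Finset.sum_eq_zero]
    intro p _
    rw [hz p]; simp
  | quotient N p e =>
    intro hsub
    have hper : IsPeriodic (0 : N →ₗ[R] N) (x • LinearMap.id) := ⟨by simp, by simp⟩
    have hNsupp : Module.support R N = PrimeSpectrum.zeroLocus (p.asIdeal : Set R) := by
      rw [e.support_eq, Module.support_eq_zeroLocus, Ideal.annihilator_quotient]
    have hp : p ∈ Module.support R M := hsub (hNsupp ▸ (le_refl p.asIdeal : p.asIdeal ≤ p.asIdeal))
    by_cases hpm : p.asIdeal = IsLocalRing.maximalIdeal R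
    · have hlen : Module.length R N < ⊤ := length_lt_top_of_support fun q hq => by
        rw [hNsupp] at hq
        exact le_antisymm (IsLocalRing.le_maximalIdeal q.2.ne_top) (hpm ▸ hq)
      have hz : ∀ q ∈ T, Module.length (Localization.AtPrime q.asIdeal) (LocalizedModule q.asIdeal.primeCompl N) = 0 := fun q hq => by
        rw [Module.length_eq_zero_iff, ← Module.notMem_support_iff, hNsupp]
        intro hle
        exact ((hT q).1 hq).2 (le_antisymm (IsLocalRing.le_maximalIdeal q.2.ne_top) (hpm ▸ hle))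
      refine ⟨(herbrand_eq_zero_of_finite _ _ hper hlen).1, fun q hq => by rw [hz q hq]; exact WithTop.top_pos, ?_⟩
      rw [(herbrand_eq_zero_of_finite _ _ hper hlen).2, Finset.sum_eq_zero]
      intro q hq
      rw [hz q hq]; simp
    · have hxp : x ∉ p.asIdeal := fun h => hpm (eq_maximalIdeal_of_supportDim h0 (mem_support_quot_smul x hp h))
      have hker : LinearMap.ker (LinearMap.lsmul R N x) = ⊥ := by
        rw [eq_bot_iff]
        intro a ha
        have h1 : x • e a = 0 := by rw [← map_smul, show x • a = 0 from LinearMap.mem_ker.1 ha, map_zero]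
        obtain ⟨r, hr⟩ := Ideal.Quotient.mk_surjective (e a)
        rw [← hr, Algebra.smul_def, Ideal.Quotient.algebraMap_eq, ← map_mul, Ideal.Quotient.eq_zero_iff_mem] at h1
        refine e.injective ?_
        rw [map_zero, ← hr, Ideal.Quotient.eq_zero_iff_mem]
        exact (p.isPrime.mem_or_mem h1).resolve_left hxp
      have hquot := quot_eq x p e
      have hord : Ring.ord (R ⧸ p.asIdeal) (Ideal.Quotient.mk p.asIdeal x) ≠ ⊤ := hquot ▸ (quot_lt_top M x h0 N hsub).ne
      have hk0 : Module.length R (LinearMap.ker (LinearMap.lsmul R N x)) = 0 := by rw [hker]; exact Module.length_eq_zero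
      have hfin : FinCoh R (0 : N →ₗ[R] N) (x • LinearMap.id) := by
        refine ⟨?_, ?_⟩
        · rw [(perH_zero_smul N x).1, hquot]; exact hord.lt_top
        · rw [(perH_zero_smul N x).2, hk0]; exact WithTop.top_pos
      have hpT : p ∈ T := (hT p).2 ⟨hp, hpm⟩
      have hone : Module.length (Localization.AtPrime p.asIdeal) (LocalizedModule p.asIdeal.primeCompl N) = 1 :=
        (Groth.Agent.S1852.length_congr p e).trans (Groth.Agent.S1852.length_loc_quot p)
      have hz : ∀ q ∈ T, q ≠ p → Module.length (Localization.AtPrime q.asIdeal) (LocalizedModule q.asIdeal.primeCompl N) = 0 := fun q hq hne => by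
        rw [Module.length_eq_zero_iff, ← Module.notMem_support_iff, hNsupp]
        intro hle
        exact hne (hanti p hpT q hq hle).symm
      refine ⟨hfin, fun q hq => ?_, ?_⟩
      · by_cases hqp : q = p
        · subst hqp; rw [hone]; exact ENat.coe_lt_top 1
        · rw [hz q hq hqp]; exact WithTop.top_pos
      · rw [Finset.sum_eq_single p (fun q hq hne => by rw [hz q hq hne]; simp) (fun h => absurd hpT h), hone]
        simp only [herbrand, (perH_zero_smul N x).1, (perH_zero_smul N x).2, hquot, hk0]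
        simp
  | exact N₁ N₂ N₃ f g hf hg hfg ih1 ih3 =>
    intro hsub
    obtain ⟨a1, b1, c1⟩ := ih1 ((Module.support_subset_of_injective f hf).trans hsub)
    obtain ⟨a3, b3, c3⟩ := ih3 ((Module.support_subset_of_surjective g hg).trans hsub)
    obtain ⟨-, a2, -, c2⟩ := herbrand_shortExact (0 : N₁ →ₗ[R] N₁) (x • LinearMap.id) (0 : N₂ →ₗ[R] N₂) (x • LinearMap.id)
      (0 : N₃ →ₗ[R] N₃) (x • LinearMap.id) ⟨by simp, by simp⟩ f f g g (by simp) (by ext a; simp) (by simp) (by ext a; simp) hf hf hg hg
      (LinearMap.exact_iff.1 hfg).symm (LinearMap.exact_iff.1 hfg).symm (Or.inr (Or.inl ⟨a1, a3⟩))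
    have hadd : ∀ p : PrimeSpectrum R, Module.length (Localization.AtPrime p.asIdeal) (LocalizedModule p.asIdeal.primeCompl N₂) =
        Module.length (Localization.AtPrime p.asIdeal) (LocalizedModule p.asIdeal.primeCompl N₁) +
          Module.length (Localization.AtPrime p.asIdeal) (LocalizedModule p.asIdeal.primeCompl N₃) := fun p =>
      Module.length_eq_add_of_exact (LocalizedModule.map p.asIdeal.primeCompl f) (LocalizedModule.map p.asIdeal.primeCompl g)
        (LocalizedModule.map_injective _ _ hf) (LocalizedModule.map_surjective _ _ hg) (LocalizedModule.map_exact _ _ _ hfg)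
    refine ⟨a2, fun p hp => by rw [hadd p]; exact WithTop.add_lt_top.2 ⟨b1 p hp, b3 p hp⟩, ?_⟩
    rw [c2, c1, c3, ← Finset.sum_add_distrib]
    refine Finset.sum_congr rfl fun p hp => ?_
    rw [hadd p, ENat.toNat_add (b1 p hp).ne (b3 p hp).ne]
    push_cast
    ring

/-- Let R be Noetherian local, M a finite R-module whose support has dimension at most 1, and x an
element with M/xM supported in dimension ≤ 0. Then length(M/xM) = length(ker(x : M → M)) + Σ_q
ord_{R/q}(x) · length_{R_q}(M_q), the sum running over the primes q of the support other than the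
maximal ideal (stated in ℕ∞; all terms are finite under the hypotheses). -/
theorem result (R : Type u) [CommRing R] [IsNoetherianRing R] [IsLocalRing R] (M : Type u) [AddCommGroup M] [Module R M] [Module.Finite R M] (x : R) (h1 : Module.supportDim R M ≤ 1) (h0 : Module.supportDim R (M ⧸ x • (⊤ : Submodule R M)) ≤ 0) : Module.length R (M ⧸ x • (⊤ : Submodule R M)) = Module.length R (LinearMap.ker (LinearMap.lsmul R M x)) + ∑ᶠ (p : PrimeSpectrum R) (_ : p ∈ Module.support R M ∧ p.asIdeal ≠ IsLocalRing.maximalIdeal R), Ring.ord (R ⧸ p.asIdeal) (Ideal.Quotient.mk p.asIdeal x) * Module.length (Localization.AtPrime p.asIdeal) (LocalizedModule p.asIdeal.primeCompl M) := by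
  classical
  have hanti : ∀ p q : PrimeSpectrum R, p ∈ Module.support R M → q.asIdeal ≠ IsLocalRing.maximalIdeal R → p.asIdeal ≤ q.asIdeal → p = q := by
    intro p q hp hq hle
    by_contra hne
    have hqs : q ∈ Module.support R M := Module.mem_support_mono hle hp
    have hms : IsLocalRing.closedPoint R ∈ Module.support R M := Module.mem_support_mono (IsLocalRing.le_maximalIdeal q.2.ne_top) hqs
    have hpq : (⟨p, hp⟩ : Module.support R M) < ⟨q, hqs⟩ := lt_of_le_of_ne hle fun e => hne (congrArg Subtype.val e)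
    have hqm : (⟨q, hqs⟩ : Module.support R M) < ⟨_, hms⟩ :=
      lt_of_le_of_ne (IsLocalRing.le_maximalIdeal q.2.ne_top) fun e => hq (congrArg (fun s : Module.support R M => s.1.asIdeal) e)
    let l : LTSeries (Module.support R M) := ((RelSeries.singleton _ ⟨p, hp⟩).snoc ⟨q, hqs⟩ (by simpa using hpq)).snoc ⟨_, hms⟩ (by simpa using hqm)
    have := (Order.LTSeries.length_le_krullDim l).trans h1
    simp [l] at this
  have hTfin : {p : PrimeSpectrum R | p ∈ Module.support R M ∧ p.asIdeal ≠ IsLocalRing.maximalIdeal R}.Finite := by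
    refine ((Ideal.finite_minimalPrimes_of_isNoetherianRing R (Module.annihilator R M)).preimage
      (f := PrimeSpectrum.asIdeal) (fun a _ b _ h => PrimeSpectrum.ext h)).subset ?_
    rintro p ⟨hp, hpm⟩
    refine ⟨⟨p.2, ?_⟩, fun r ⟨hr, hra⟩ hrp => ?_⟩
    · rw [Module.support_eq_zeroLocus] at hp; exact hp
    · have hrs : (⟨r, hr⟩ : PrimeSpectrum R) ∈ Module.support R M := by rw [Module.support_eq_zeroLocus]; exact hra
      rw [← hanti _ p hrs hpm hrp]
  obtain ⟨hfin, hlf, hmain⟩ := formula R M x h0 hTfin.toFinset (fun p => hTfin.mem_toFinset)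
    (fun p hp q hq h => hanti p q (hTfin.mem_toFinset.1 hp).1 (hTfin.mem_toFinset.1 hq).2 h) M subset_rfl
  rw [finsum_cond_eq_sum_of_cond_iff (p := fun q : PrimeSpectrum R => q ∈ Module.support R M ∧ q.asIdeal ≠ IsLocalRing.maximalIdeal R) _ (t := hTfin.toFinset) fun {p} _ => hTfin.mem_toFinset.symm]
  obtain ⟨f1, f2⟩ := hfin
  rw [(perH_zero_smul M x).1] at f1
  rw [(perH_zero_smul M x).2] at f2
  have hord : ∀ p ∈ hTfin.toFinset, Ring.ord (R ⧸ p.asIdeal) (Ideal.Quotient.mk p.asIdeal x) ≠ ⊤ := by
    intro p hp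
    obtain ⟨hp1, -⟩ := hTfin.mem_toFinset.1 hp
    rw [← quot_eq x p (LinearEquiv.refl R (R ⧸ p.asIdeal))]
    refine (quot_lt_top M x h0 _ ?_).ne
    rw [Module.support_eq_zeroLocus, Ideal.annihilator_quotient]
    exact fun q hq => Module.mem_support_mono hq hp1
  simp only [CycAlg.herbrand, (perH_zero_smul M x).1, (perH_zero_smul M x).2] at hmain
  have hsum : ∑ p ∈ hTfin.toFinset, Ring.ord (R ⧸ p.asIdeal) (Ideal.Quotient.mk p.asIdeal x) *
      Module.length (Localization.AtPrime p.asIdeal) (LocalizedModule p.asIdeal.primeCompl M) =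
      ((∑ p ∈ hTfin.toFinset, (Ring.ord (R ⧸ p.asIdeal) (Ideal.Quotient.mk p.asIdeal x)).toNat *
        (Module.length (Localization.AtPrime p.asIdeal) (LocalizedModule p.asIdeal.primeCompl M)).toNat : ℕ) : ℕ∞) := by
    push_cast
    refine Finset.sum_congr rfl fun p hp => ?_
    rw [ENat.coe_toNat (hord p hp), ENat.coe_toNat (hlf p hp).ne]
  rw [hsum, ← ENat.coe_toNat f1.ne, ← ENat.coe_toNat f2.ne, ← Nat.cast_add, Nat.cast_inj]
  zify
  linarith [hmain]

end Groth.Agent.S1833
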