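import Groth.Statements.S0619
import Groth.Agent.CurveFF.Genus
import Groth.Agent.CohFinite.Proper
import Groth.Agent.CohFinite.Devissage

set_option autoImplicit false
universe u
open AlgebraicGeometry CategoryTheory
open Zeta

namespace Groth.Agent.S0619

theorem genus_eq {k : Type u} [Field k] [Finite k] {C : Scheme.{u}} [C.Over (Spec (CommRingCat.of k))] [IsIntegral C]
    (hC : Curve.IsSmoothProperCurve k C (C ↘ Spec (CommRingCat.of k)))
    [GeometricallyIrreducible (C ↘ Spec (CommRingCat.of k))] (g : ℕ)
    (hg : Nat.card (Coh.HH C (Coh.structureModule C) 1) = Nat.card k ^ g) :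
    @FunFld.genus k C.functionField _ _ (Groth.Agent.CurveFF.ffAlg k C) = g := by
  haveI := hC.1
  rw [← Groth.Agent.CurveFF.finrank_H1_eq_genus hC]
  haveI : Module.Finite k (Coh.HH C (Coh.structureModule C) 1) :=
    CohFinite.finite_HH_proper _ (Devissage.isCoh_structureModule C) 1
  rw [Module.natCard_eq_pow_finrank (K := k)] at hg
  exact Nat.pow_right_injective Finite.one_lt_card hg

/-- For a geometrically connected smooth proper curve of genus g over a finite field k with q elements
and a finite extension k' of degree n, |#C(k') − (qⁿ + 1)| ≤ 2g·q^(n/2). -/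
theorem result {k : Type u} [Field k] [Finite k] {C : Scheme.{u}}
    (f : C ⟶ Spec (CommRingCat.of k)) (hC : Curve.IsSmoothProperCurve k C f)
    [GeometricallyIrreducible f] (g : ℕ)
    (hg : Nat.card (Coh.HH C (Coh.structureModule C) 1) = Nat.card k ^ g)
    (k' : Type u) [Field k'] [Algebra k k'] [Finite k'] :
    |(SgaExt.pointCount f k' : ℝ) - ((Nat.card k : ℝ) ^ Module.finrank k k' + 1)| ≤
      2 * g * (Nat.card k : ℝ) ^ ((Module.finrank k k' : ℝ) / 2) := by
  letI : C.Over (Spec (CommRingCat.of k)) := ⟨f⟩
  haveI := hC.2.2.1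
  letI := Groth.Agent.CurveFF.ffAlg k C
  haveI : GeometricallyIrreducible (C ↘ Spec (CommRingCat.of k)) := ‹GeometricallyIrreducible f›
  have hK := Groth.Agent.CurveFF.isFunctionField (X := C) hC
  obtain rfl := genus_eq (C := C) hC g hg
  have hb := Groth.Agent.CurveFF.weil_bound hK (n := Module.finrank k k') Module.finrank_pos
  rw [← Groth.Agent.CurveFF.pointCount_eq (X := C) hC k', Groth.Agent.CurveFF.sqrt_pow_eq_rpow _ (Nat.cast_nonneg _)] at hb
  exact hb

end Groth.Agent.S0619
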