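import Groth.Statements.S0622
import Groth.Agent.EtSh.Stalks

set_option autoImplicit false
open CategoryTheory CategoryTheory.Limits AlgebraicGeometry Opposite
universe u
open EtCore

namespace Groth.Agent.S0622

/-- Exactness of a three-term complex of abelian etale sheaves can be tested on stalks at all geometric
points; likewise a morphism of abelian etale sheaves is a monomorphism, respectively an epimorphism,
exactly when every geometric stalk map is injective, respectively surjective. -/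
theorem result {X : Scheme.{u}} (S : ShortComplex (EtCoh.Ab X)) {F G : EtCoh.Ab X} (a : F ⟶ G) :
    (S.Exact ↔ ∀ (Ω : Type u) [Field Ω] [IsSepClosed Ω] (ξ : Spec (CommRingCat.of Ω) ⟶ X),
      (S.map (EtCoh.stalk ξ)).Exact) ∧
    (Mono a ↔ ∀ (Ω : Type u) [Field Ω] [IsSepClosed Ω] (ξ : Spec (CommRingCat.of Ω) ⟶ X),
      Function.Injective ((EtCoh.stalk ξ).map a)) ∧
    (Epi a ↔ ∀ (Ω : Type u) [Field Ω] [IsSepClosed Ω] (ξ : Spec (CommRingCat.of Ω) ⟶ X),
      Function.Surjective ((EtCoh.stalk ξ).map a)) := by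
  have hmono : Mono a ↔ ∀ (Ω : Type u) [Field Ω] [IsSepClosed Ω] (ξ : Spec (CommRingCat.of Ω) ⟶ X),
      Function.Injective ((EtCoh.stalk ξ).map a) :=
    ⟨fun h Ω _ _ ξ => EtSh.stalk_map_injective a, EtSh.mono_of_stalk a⟩
  have hepi : Epi a ↔ ∀ (Ω : Type u) [Field Ω] [IsSepClosed Ω] (ξ : Spec (CommRingCat.of Ω) ⟶ X),
      Function.Surjective ((EtCoh.stalk ξ).map a) :=
    ⟨fun h Ω _ _ ξ => (AddCommGrpCat.epi_iff_surjective _).1 inferInstance, EtSh.epi_of_stalk a⟩
  have hpres : ∀ (Ω : Type u) [Field Ω] [IsSepClosed Ω] (ξ : Spec (CommRingCat.of Ω) ⟶ X),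
      (EtCoh.stalk ξ).PreservesHomology := fun Ω _ _ ξ => by
    let adj := (Scheme.pointSmallEtale ξ).skyscraperSheafAdjunction (A := AddCommGrpCat.{u + 1})
    have : (EtCoh.stalk ξ).PreservesMonomorphisms :=
      ⟨fun α _ => (AddCommGrpCat.mono_iff_injective _).2 (EtSh.stalk_map_injective α)⟩
    have : PreservesColimitsOfSize.{0, 0} (EtCoh.stalk ξ) := adj.leftAdjoint_preservesColimits
    have : PreservesFiniteColimits (EtCoh.stalk ξ) := PreservesColimitsOfSize.preservesFiniteColimits _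
    have := preservesBinaryBiproducts_of_preservesBinaryCoproducts (EtCoh.stalk ξ)
    have : (EtCoh.stalk ξ).Additive := Functor.additive_of_preservesBinaryBiproducts _
    exact Functor.preservesHomology_of_preservesMonos_and_cokernels _
  refine ⟨⟨fun h Ω _ _ ξ => have := hpres Ω ξ; h.map (EtCoh.stalk ξ), fun h => ?_⟩, hmono, hepi⟩
  rw [ShortComplex.exact_iff_isZero_homology]
  have hz : ∀ (Ω : Type u) [Field Ω] [IsSepClosed Ω] (ξ : Spec (CommRingCat.of Ω) ⟶ X),
      IsZero ((EtCoh.stalk ξ).obj S.homology) := fun Ω _ _ ξ =>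
    have := hpres Ω ξ
    ((ShortComplex.exact_iff_isZero_homology _).1 (h Ω ξ)).of_iso (S.mapHomologyIso (EtCoh.stalk ξ)).symm
  have : Mono (0 : S.homology ⟶ S.homology) := EtSh.mono_of_stalk _ fun Ω _ _ ξ x y _ =>
    (AddCommGrpCat.isZero_iff_subsingleton.1 (hz Ω ξ)).elim x y
  exact IsZero.of_mono_zero S.homology S.homology

end Groth.Agent.S0622
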