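import Groth.Statements.S0648
import Groth.Agent.EtSh.ExtZeroStalk
import Mathlib.CategoryTheory.Abelian.GrothendieckAxioms.Basic
import Mathlib.CategoryTheory.Abelian.GrothendieckAxioms.Colim
import Mathlib.Algebra.Category.Grp.AB

set_option autoImplicit false
open CategoryTheory CategoryTheory.Limits AlgebraicGeometry Opposite
universe u
open EtCore

namespace Groth.Agent.S0648

/-- For an etale morphism j : U -> X the extension by zero functor j_! on abelian sheaves preserves
finite limits (it is a left adjoint, so it is then exact). (Continuity of the composition functor of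
etale sites, which always holds, is carried as an instance hypothesis.) -/
theorem result {U X : Scheme.{u}} (j : U ⟶ X) [AlgebraicGeometry.Etale j] [EtShriek.JCont j] :
    PreservesFiniteLimits (EtShriek.extZero j) := by
  have : (EtShriek.extZero j).PreservesMonomorphisms := ⟨fun {F G} a _ => by
    refine EtSh.mono_of_stalk _ fun Ω _ _ ξ => ?_
    have : ∀ u : EtSh.Over' j ξ, Mono ((EtCoh.stalk u.1).map a) := fun u =>
      (AddCommGrpCat.mono_iff_injective _).2 (EtSh.stalk_map_injective a)
    have := EtSh.isIso_stalkSumMap j ξ F
    have := EtSh.isIso_stalkSumMap j ξ G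
    have : AB4OfSize.{u} AddCommGrpCat.{u + 1} := AB4OfSize_shrink.{u, u + 1} _
    have hm : Mono (Limits.Sigma.map (fun u : EtSh.Over' j ξ => (EtCoh.stalk u.1).map a)) :=
      inferInstance
    have e : (EtCoh.stalk ξ).map ((EtShriek.extZero j).map a) = inv (EtSh.stalkSumMap j ξ F) ≫
        Limits.Sigma.map (fun u : EtSh.Over' j ξ => (EtCoh.stalk u.1).map a) ≫ EtSh.stalkSumMap j ξ G := by
      rw [EtSh.stalkSumMap_naturality, IsIso.inv_hom_id_assoc]
    rw [← AddCommGrpCat.mono_iff_injective, e]
    infer_instance⟩
  have : PreservesColimitsOfSize.{0, 0} (EtShriek.extZero j) := (EtShriek.extZeroAdj j).leftAdjoint_preservesColimits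
  have : PreservesFiniteColimits (EtShriek.extZero j) := PreservesColimitsOfSize.preservesFiniteColimits _
  have := preservesBinaryBiproducts_of_preservesBinaryCoproducts (EtShriek.extZero j)
  have : (EtShriek.extZero j).Additive := Functor.additive_of_preservesBinaryBiproducts _
  have : (EtShriek.extZero j).PreservesHomology :=
    Functor.preservesHomology_of_preservesMonos_and_cokernels _
  exact Functor.preservesFiniteLimits_of_preservesHomology _

end Groth.Agent.S0648
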