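import Groth.Statements.S0632
import Groth.Agent.EtSh.ClosedPush

set_option autoImplicit false
open CategoryTheory CategoryTheory.Limits AlgebraicGeometry Opposite
universe u
open EtCore

namespace Groth.Agent.S0632

/-- Let X -> Y be a closed immersion and U_i -> X (i in ι) a jointly surjective family of etale
morphisms. Then one can find a jointly surjective family of etale Y-schemes V_j each of which either
has empty preimage over X or, after base change to X, maps into one of the U_i over X. -/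
theorem result {X Y : Scheme.{u}} (f : X ⟶ Y) [IsClosedImmersion f]
    {ι : Type u} (U : ι → X.Etale) (hU : EtCoh.Covers U) :
    ∃ (κ : Type u) (V : κ → Y.Etale), EtCoh.Covers V ∧
      ∀ j, IsEmpty ↥(pullback (V j).hom f) ∨
        ∃ (i : ι) (h : pullback (V j).hom f ⟶ (U i).left), h ≫ (U i).hom = pullback.snd (V j).hom f := by
  choose V g v hv using fun p : Σ i, (U i).left => EtSh.exists_nbhd f (U p.1) p.2
  let O : Y.Opens := ⟨(Set.range f.base)ᶜ, f.isClosedEmbedding.isClosed_range.isOpen_compl⟩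
  refine ⟨(Σ i, (U i).left) ⊕ PUnit.{u + 1}, Sum.elim V fun _ => Scheme.Etale.mk O.ι, ?_, ?_⟩
  · intro y
    by_cases hy : y ∈ Set.range f.base
    · obtain ⟨x, rfl⟩ := hy
      obtain ⟨i, a, ha⟩ := hU x
      refine ⟨Sum.inl ⟨i, a⟩, (pullback.fst (V ⟨i, a⟩).hom f).base (v ⟨i, a⟩), ?_⟩
      have h1 : (pullback.snd (V ⟨i, a⟩).hom f).base (v ⟨i, a⟩) = x :=
        (congrArg (fun k : ((EtCoh.bc f).obj (V ⟨i, a⟩)).left ⟶ X => k.base (v ⟨i, a⟩))
          (MorphismProperty.Over.w (g ⟨i, a⟩))).symm.trans ((congrArg (U i).hom.base (hv ⟨i, a⟩)).trans ha)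
      exact (congrArg (fun k : ((EtCoh.bc f).obj (V ⟨i, a⟩)).left ⟶ Y => k.base (v ⟨i, a⟩))
        pullback.condition).trans (congrArg f.base h1)
    · exact ⟨Sum.inr ⟨⟩, ⟨y, hy⟩, rfl⟩
  · rintro (p | _)
    · exact Or.inr ⟨p.1, (g p).left, MorphismProperty.Over.w (g p)⟩
    · refine Or.inl (EtSh.isEmpty_bc f (V := Scheme.Etale.mk O.ι) (Set.disjoint_left.2 ?_))
      rintro _ ⟨z, rfl⟩ hz
      exact z.2 hz

end Groth.Agent.S0632
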