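import Groth.Statements.S0642
import Groth.Agent.EtSh.IntegralStalk
import Mathlib.Algebra.Homology.DerivedCategory.Ext.MapBijective

set_option autoImplicit false
open CategoryTheory CategoryTheory.Limits AlgebraicGeometry Opposite
universe u
open EtCore

namespace Groth.Agent.S0642

theorem bijective_iso_comp {C : Type*} [Category C] [Abelian C] [HasExt C] {A B Y : C} (e : A ≅ B) {n : ℕ} :
    Function.Bijective fun x : Abelian.Ext A Y n => (Abelian.Ext.mk₀ e.inv).comp x (zero_add n) := by
  refine Function.bijective_iff_has_inverse.2
    ⟨fun x => (Abelian.Ext.mk₀ e.hom).comp x (zero_add n), fun x => ?_, fun x => ?_⟩ <;>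
  · simp only [Abelian.Ext.mk₀_comp_mk₀_assoc, Iso.hom_inv_id, Iso.inv_hom_id, Abelian.Ext.mk₀_id_comp]

/-- Let X_0 -> X be integral, universally injective and surjective (a universal homeomorphism). Then for
every abelian sheaf F on the small etale site of X and every q the pullback map from H^q(X, F) to
H^q(X_0, F|_{X_0}) is bijective. (Exactness of pullback of abelian sheaves, which always holds, is
carried as an instance hypothesis.) -/
theorem result {X₀ X : Scheme.{u}} (i : X₀ ⟶ X) [IsIntegralHom i]
    [UniversallyInjective i] [Surjective i] [PreservesFiniteLimits (EtCoh.pull i)] (F : EtCoh.Ab X) (q : ℕ) :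
    Function.Bijective (EtCore.Hpull i F q) := by
  have hu : ∀ G : EtCoh.Ab X, IsIso ((EtCoh.pullPushAdj i).unit.app G) := fun G =>
    EtSh.Integral.isIso_unit_of_supp i G fun y _ => i.surjective y
  have : IsIso (EtCoh.pullPushAdj i).unit := NatIso.isIso_of_isIso_app _
  have hc := EtSh.Integral.isIso_counit i
  have : IsIso (EtCoh.pullPushAdj i).counit := NatIso.isIso_of_isIso_app _
  let hff := (EtCoh.pullPushAdj i).fullyFaithfulLOfIsIsoUnit
  have := hff.full
  have := hff.faithful
  have : (EtCoh.pull i).IsEquivalence := (EtCoh.pullPushAdj i).toEquivalence.isEquivalence_functor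
  have h1 := Functor.mapExt_bijective_of_preservesInjectiveObjects (EtCoh.pull i) (EtCoh.const X ℤ) F q
  exact (bijective_iso_comp (pullConst i ℤ)).comp h1

end Groth.Agent.S0642
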