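import Groth.Statements.S0643
import Mathlib.RingTheory.AdjoinRoot
import Mathlib.RingTheory.Coprime.Basic

set_option autoImplicit false
universe u
open EtCore

namespace Groth.Agent.S0643

open Polynomial in
/-- Let A be a ring, assumed nonzero here (the published statement does not say so; over the zero ring
no polynomial has positive degree in Lean's sense), and a, b elements generating the unit ideal such
that some positive power of a is congruent to 1 modulo b. Then there is a monic polynomial P of
positive degree over A such that in B = A[y]/(P) the element a - b y is a unit. -/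
theorem result (A : Type u) [CommRing A] [Nontrivial A] (a b : A) (hab : IsCoprime a b)
    (hroot : ∃ n : ℕ, 0 < n ∧ a ^ n - 1 ∈ Ideal.span ({b} : Set A)) :
    ∃ P : A[X], P.Monic ∧ 0 < P.natDegree ∧
      IsUnit (algebraMap A (AdjoinRoot P) a - algebraMap A (AdjoinRoot P) b * AdjoinRoot.root P) := by
  obtain ⟨n, hn, hr⟩ := hroot
  obtain ⟨r, hr⟩ := Ideal.mem_span_singleton'.mp hr
  obtain ⟨x, y, hxy⟩ := hab
  obtain ⟨m, rfl⟩ := Nat.exists_eq_add_of_le hn
  let R : A[X] := C r * (C x * X + C y) ^ m
  have hdeg : R.degree ≤ (m : WithBot ℕ) := by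
    refine degree_le_of_natDegree_le ?_
    refine (natDegree_C_mul_le _ _).trans (natDegree_pow_le.trans ?_)
    calc m * (C x * X + C y).natDegree ≤ m * 1 := Nat.mul_le_mul_left _ natDegree_linear_le
      _ = m := mul_one m
  have hlt : R.degree < ((m + 1 : ℕ) : WithBot ℕ) :=
    hdeg.trans_lt (by exact_mod_cast Nat.lt_succ_self m)
  have hm : (X ^ (m + 1) - R).Monic := monic_X_pow_sub hlt
  refine ⟨X ^ (m + 1) - R, hm, ?_, ?_⟩
  · have : (X ^ (m + 1) - R).degree = ((m + 1 : ℕ) : WithBot ℕ) := by
      rw [degree_sub_eq_left_of_degree_lt (by rwa [degree_X_pow]), degree_X_pow]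
    rw [natDegree_eq_of_degree_eq_some this]
    exact Nat.succ_pos m
  · set P := X ^ (m + 1) - R with hP
    set f := algebraMap A (AdjoinRoot P)
    set t := AdjoinRoot.root P
    have hroot : t ^ (m + 1) = f r * (f x * t + f y) ^ m := by
      have := AdjoinRoot.aeval_eq (f := P) P
      rw [AdjoinRoot.mk_self] at this
      simpa [hP, R, f, t, AdjoinRoot.algebraMap_eq, sub_eq_zero] using this
    let Q : (AdjoinRoot P)[X] := X ^ (m + 1) - C (f b * f r) * (C (f x) * X + C (f y * f b)) ^ m
    have h1 : Q.eval (f a) = 1 := by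
      simp only [Q, eval_sub, eval_pow, eval_X, eval_mul, eval_C, eval_add]
      rw [← map_mul f x, ← map_mul f y, ← map_add, hxy, map_one, one_pow, mul_one, ← map_mul, mul_comm b r,
        hr, map_sub, map_pow, map_one]
      ring
    have h2 : Q.eval (f b * t) = 0 := by
      simp only [Q, eval_sub, eval_pow, eval_X, eval_mul, eval_C, eval_add]
      rw [mul_pow, hroot, show f x * (f b * t) + f y * f b = f b * (f x * t + f y) by ring, mul_pow]
      ring
    have h3 := Polynomial.sub_dvd_eval_sub (f a) (f b * t) Q
    rw [h1, h2, sub_zero] at h3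
    exact isUnit_of_dvd_one h3

end Groth.Agent.S0643
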