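import Groth.Statements.S0644
import Groth.Agent.EtSh.Stalks
import Groth.Agent.EtSh.Supp

set_option autoImplicit false
open CategoryTheory CategoryTheory.Limits AlgebraicGeometry Opposite
universe u
open EtCore

namespace Groth.Agent.S0644

set_option backward.isDefEq.respectTransparency.types false in
theorem nonempty_hom_iff {S : Scheme.{u}} (W : S.Opens) (V : S.Etale) :
    Nonempty (V ⟶ Scheme.Etale.mk W.ι) ↔ Set.range V.hom ⊆ (W : Set S) := by
  constructor
  · rintro ⟨k⟩ _ ⟨v, rfl⟩
    rw [← MorphismProperty.Over.w k]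
    exact (k.left v).2
  · intro h
    have : IsOpenImmersion W.ι := inferInstance
    have hsub : Set.range V.hom ⊆ Set.range W.ι := h.trans (Scheme.Opens.range_ι W).ge
    exact ⟨MorphismProperty.Over.homMk (@IsOpenImmersion.lift _ _ _ W.ι V.hom this hsub)
      (@IsOpenImmersion.lift_fac _ _ _ W.ι V.hom this hsub)⟩

set_option backward.isDefEq.respectTransparency.types false in
theorem subsingleton_hom {S : Scheme.{u}} (W : S.Opens) (V : S.Etale) : Subsingleton (V ⟶ Scheme.Etale.mk W.ι) :=
  ⟨fun a b => MorphismProperty.Over.Hom.ext ((cancel_mono W.ι).1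
    ((MorphismProperty.Over.w a).trans (MorphismProperty.Over.w b).symm))⟩

set_option backward.isDefEq.respectTransparency.types false in
theorem main (S : Scheme.{u}) (F : Sheaf S.smallEtaleTopology (Type u))
    (hF : ∀ U : S.Etale, Subsingleton (F.obj.obj (op U))) :
    ∃! W : S.Opens, Nonempty (F.obj ≅ yoneda.obj (Scheme.Etale.mk W.ι)) := by
  let W : S.Opens := ⟨⋃ (U : S.Etale) (_ : Nonempty (F.obj.obj (op U))), Set.range U.hom,
    isOpen_iUnion fun U => isOpen_iUnion fun _ => (haveI : Etale U.hom := U.prop; U.hom.isOpenMap.isOpen_range)⟩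
  have key : ∀ V : S.Etale, Nonempty (F.obj.obj (op V)) ↔ Set.range V.hom ⊆ (W : Set S) := by
    intro V
    refine ⟨fun h => fun x hx => Set.mem_iUnion₂.2 ⟨V, h, hx⟩, fun h => ?_⟩
    let R : Sieve V :=
      { arrows := fun Z _ => Nonempty (F.obj.obj (op Z))
        downward_closed := fun {Y Z} g ⟨a⟩ k => ⟨F.obj.map k.op a⟩ }
    have hR : R ∈ S.smallEtaleTopology V := (EtSh.mem_topology_iff R).2 fun x => by
      obtain ⟨U, ⟨a⟩, u, hu⟩ := Set.mem_iUnion₂.1 (h ⟨x, rfl⟩)
      have : Etale U.hom := U.prop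
      have : Etale V.hom := V.prop
      have : Etale (pullback.fst V.hom U.hom) := MorphismProperty.pullback_fst _ _ ‹Etale U.hom›
      let Z : S.Etale := Scheme.Etale.mk (pullback.fst V.hom U.hom ≫ V.hom)
      let p : Z ⟶ V := MorphismProperty.Over.homMk (pullback.fst V.hom U.hom) rfl
      let q : Z ⟶ U := MorphismProperty.Over.homMk (pullback.snd V.hom U.hom) pullback.condition.symm
      obtain ⟨z, hz, -⟩ := Scheme.Pullback.exists_preimage_pullback (f := V.hom) (g := U.hom) x u hu.symm
      exact ⟨Z, p, z, ⟨F.obj.map q.op a⟩, hz⟩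
    have hs : Presieve.IsSheafFor F.obj R.arrows := (isSheaf_iff_isSheaf_of_type _ _).1 F.property R hR
    exact ⟨(hs (fun Z g hg => hg.some) fun Y₁ Y₂ Z g₁ g₂ f₁ f₂ h₁ h₂ _ => (hF Z).elim _ _).exists.choose⟩
  refine ⟨W, ⟨NatIso.ofComponents (fun V => (Equiv.ofBijective
      (fun a => ((nonempty_hom_iff W V.unop).2 ((key V.unop).1 ⟨a⟩)).some)
      ⟨fun a b _ => (hF V.unop).elim a b, fun k => ⟨((key V.unop).2 ((nonempty_hom_iff W V.unop).1 ⟨k⟩)).some,
        (subsingleton_hom W V.unop).elim _ _⟩⟩).toIso) ?_⟩, ?_⟩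
  · intro V V' g
    ext a
    exact (subsingleton_hom W V'.unop).elim _ _
  · rintro W' ⟨e⟩
    apply TopologicalSpace.Opens.ext
    have hW' : ∀ V : S.Etale, Set.range V.hom ⊆ (W : Set S) ↔ Set.range V.hom ⊆ (W' : Set S) := fun V => by
      rw [← key, ← nonempty_hom_iff]
      exact ⟨fun ⟨a⟩ => ⟨e.hom.app (op V) a⟩, fun ⟨k⟩ => ⟨e.inv.app (op V) k⟩⟩
    have hr : ∀ O : S.Opens, Set.range (Scheme.Etale.mk O.ι).hom = (O : Set S) := fun O => O.range_ι
    refine le_antisymm ?_ ?_
    · have := (hW' (Scheme.Etale.mk W'.ι)).2 (hr W').le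
      rwa [hr] at this
    · have := (hW' (Scheme.Etale.mk W.ι)).1 (hr W).le
      rwa [hr] at this

/-- Let F be a sheaf of sets on the small etale site of S which is a subsheaf of the final sheaf, i.e.
every set of sections has at most one element. Then there is exactly one open W of S such that F is
isomorphic to the sheaf represented by W (viewed as a scheme etale over S). -/
theorem result (S : Scheme.{u}) (F : Sheaf S.smallEtaleTopology (Type u))
    (hF : ∀ U : S.Etale, Subsingleton (F.obj.obj (op U))) :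
    ∃! W : S.Opens, Nonempty (F.obj ≅ yoneda.obj (Scheme.Etale.mk W.ι)) := by
  exact main S F hF

end Groth.Agent.S0644
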