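import Groth.Statements.S0646
import Groth.Agent.EtLimLib.PullOne
set_option linter.style.haveILetI false
set_option backward.isDefEq.respectTransparency.types false
-- import your own Groth.Agent.* helpers here

set_option autoImplicit false
set_option maxHeartbeats 1000000
open CategoryTheory CategoryTheory.Limits AlgebraicGeometry Opposite
universe u
open EtCore

namespace Groth.Agent.S0646

noncomputable section

/-- For systems of sheaves pulled back from one stage: let ι be a directed preordered set, (X_i) an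
inverse system of quasi-compact quasi-separated schemes indexed by ι with affine transition
morphisms, X a limit with projections f_i, i₀ an index and F₀ an abelian sheaf on the small etale
site of X_{i₀}. Then H^p(X, f_{i₀}^{-1} F₀) is the colimit of the groups H^p(X_j, F₀|_{X_j}) over j
≥ i₀, in the concrete sense: every class on X is pulled back from some X_j, and a class on X_j that
pulls back to zero on X already pulls back to zero on some X_k, k ≥ j. (The source allows general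
systems of sheaves (F_i, φ_{i'i}); only systems pulled back from a single stage are stated.)
(Exactness of pullback of abelian sheaves, which always holds, is carried as an instance
hypothesis.) -/
theorem result {ι : Type u} [Preorder ι] [IsDirected ι (· ≤ ·)] (Xs : ιᵒᵖ ⥤ Scheme.{u})
    (haff : ∀ ⦃a b : ιᵒᵖ⦄ (h : a ⟶ b), IsAffineHom (Xs.map h))
    (hqc : ∀ a, CompactSpace ↥(Xs.obj a)) (hqs : ∀ a, QuasiSeparatedSpace ↥(Xs.obj a))
    (c : Cone Xs) (hc : IsLimit c) (i₀ : ι) (F₀ : EtCoh.Ab (Xs.obj (op i₀))) (p : ℕ)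
    [∀ a, PreservesFiniteLimits (EtCoh.pull (c.π.app a))]
    [∀ ⦃a b : ιᵒᵖ⦄ (h : a ⟶ b), PreservesFiniteLimits (EtCoh.pull (Xs.map h))] :
    (∀ ξ : EtCoh.H c.pt ((EtCoh.pull (c.π.app (op i₀))).obj F₀) p,
      ∃ (j : ι) (hj : i₀ ≤ j) (ξj : EtCoh.H (Xs.obj (op j)) ((EtCoh.pull (Xs.map (homOfLE hj).op)).obj F₀) p),
        EtCore.HpullVia (c.π.app (op j)) (Xs.map (homOfLE hj).op) (c.π.app (op i₀)) (c.w (homOfLE hj).op) F₀ p ξj = ξ) ∧
    (∀ (j : ι) (hj : i₀ ≤ j) (ξj : EtCoh.H (Xs.obj (op j)) ((EtCoh.pull (Xs.map (homOfLE hj).op)).obj F₀) p),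
      EtCore.HpullVia (c.π.app (op j)) (Xs.map (homOfLE hj).op) (c.π.app (op i₀)) (c.w (homOfLE hj).op) F₀ p ξj = 0 →
        ∃ (k : ι) (hk : j ≤ k), EtCore.Hpull (Xs.map (homOfLE hk).op) _ p ξj = 0) := by
  haveI : IsDirected {j : ι // i₀ ≤ j} (· ≤ ·) := ⟨fun a b => by
    obtain ⟨c, hac, hbc⟩ := directed_of (· ≤ ·) a.1 b.1
    exact ⟨⟨c, a.2.trans hac⟩, hac, hbc⟩⟩
  haveI : Nonempty {j : ι // i₀ ≤ j} := ⟨⟨i₀, le_rfl⟩⟩
  let inc : {j : ι // i₀ ≤ j} ⥤ ι := (Subtype.mono_coe (fun j => i₀ ≤ j)).functor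
  haveI : inc.Final := (Monotone.final_functor_iff (Subtype.mono_coe _)).2 fun d => by
    obtain ⟨c, h₁, h₂⟩ := directed_of (· ≤ ·) i₀ d
    exact ⟨⟨c, h₁⟩, h₂⟩
  let c' := c.whisker inc.op
  haveI : ∀ a, PreservesFiniteLimits (EtCoh.pull (c'.π.app a)) := fun a =>
    (inferInstance : PreservesFiniteLimits (EtCoh.pull (c.π.app (inc.op.obj a))))
  haveI : ∀ ⦃a b⦄ (h : a ⟶ b), PreservesFiniteLimits (EtCoh.pull ((inc.op ⋙ Xs).map h)) := fun a b h =>
    (inferInstance : PreservesFiniteLimits (EtCoh.pull (Xs.map (inc.op.map h))))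
  obtain ⟨h1, h2⟩ := EtLimLib.PullOne.main (Xs := inc.op ⋙ Xs) (fun j => Xs.map (homOfLE j.2).op) F₀ c' (c.π.app (op i₀))
    (fun a b h => haff (inc.op.map h)) (fun a => hqc (inc.op.obj a)) (fun a => hqs (inc.op.obj a))
    ((Functor.Initial.isLimitWhiskerEquiv inc.op c).symm hc) p
    (fun i j h => (Xs.map_comp _ _).symm) (fun j => c.w (homOfLE j.2).op)
  refine ⟨fun ξ => ?_, fun j hj ξj h => ?_⟩
  · obtain ⟨j, x, hx⟩ := h1 ξ
    exact ⟨j.1, j.2, x, hx⟩
  · obtain ⟨k, hk, hk0⟩ := h2 ⟨j, hj⟩ ξj h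
    exact ⟨k.1, hk, hk0⟩

end

end Groth.Agent.S0646
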