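import Groth.Statements.S0649
import Groth.Agent.EtSh.OverSite
import Groth.Agent.EtSh.EtaleAlong

set_option autoImplicit false
open CategoryTheory CategoryTheory.Limits AlgebraicGeometry Opposite
universe u
open EtCore

namespace Groth.Agent.S0649

set_option backward.isDefEq.respectTransparency.types false in
theorem main {V' V Y X : Scheme.{u}} (j : V ⟶ X) [AlgebraicGeometry.Etale j] [EtShriek.JCont j]
    (f : Y ⟶ X) (j' : V' ⟶ Y) [AlgebraicGeometry.Etale j'] [EtShriek.JCont j'] (f' : V' ⟶ V)
    (h : IsPullback j' f' f j) :
    Nonempty (EtCoh.pull f' ⋙ EtShriek.extZero j' ≅ EtShriek.extZero j ⋙ EtCoh.pull f) := by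
  let sq := fun W : V.Etale => (IsPullback.of_hasPullback W.hom f').paste_vert h.flip
  let e : EtCoh.bc f' ⋙ EtShriek.compEtale j' ≅ EtShriek.compEtale j ⋙ EtCoh.bc f :=
    NatIso.ofComponents
      (fun W => MorphismProperty.Over.isoMk (sq W).isoPullback (sq W).isoPullback_hom_snd)
      (fun {W W'} k => MorphismProperty.Over.Hom.ext (pullback.hom_ext
        (((Category.assoc _ _ _).trans ((congrArg (((EtCoh.bc f').map k).left ≫ ·) (sq W').isoPullback_hom_fst).trans
          (EtCoh.isPullback_bc_map f' k).w)).trans
          (((Category.assoc _ _ _).trans ((congrArg ((sq W).isoPullback.hom ≫ ·)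
            (EtCoh.isPullback_bc_map f ((EtShriek.compEtale j).map k)).w).trans
              ((Category.assoc _ _ _).symm.trans (congrArg (· ≫ k.left) (sq W).isoPullback_hom_fst)))).symm))
        (((Category.assoc _ _ _).trans ((congrArg (((EtCoh.bc f').map k).left ≫ ·) (sq W').isoPullback_hom_snd).trans
          (MorphismProperty.Over.w ((EtShriek.compEtale j').map ((EtCoh.bc f').map k))))).trans
          (((Category.assoc _ _ _).trans ((congrArg ((sq W).isoPullback.hom ≫ ·)
            (MorphismProperty.Over.w ((EtCoh.bc f).map ((EtShriek.compEtale j).map k)))).trans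
              (sq W).isoPullback_hom_snd)).symm))))
  have := Functor.isContinuous_comp (EtShriek.compEtale j) (EtCoh.bc f) V.smallEtaleTopology
    X.smallEtaleTopology Y.smallEtaleTopology
  let e' : EtShriek.restrAlong j' ⋙ EtCoh.push f' ≅ EtCoh.push f ⋙ EtShriek.restrAlong j :=
    Functor.sheafPushforwardContinuousComp' (F := EtCoh.bc f') (G := EtShriek.compEtale j')
      (FG := EtShriek.compEtale j ⋙ EtCoh.bc f) e AddCommGrpCat.{u + 1}
      V.smallEtaleTopology V'.smallEtaleTopology Y.smallEtaleTopology ≪≫
    (Functor.sheafPushforwardContinuousComp (F := EtShriek.compEtale j) (G := EtCoh.bc f)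
      AddCommGrpCat.{u + 1} V.smallEtaleTopology X.smallEtaleTopology Y.smallEtaleTopology).symm
  exact ⟨Adjunction.leftAdjointUniq
    (((EtCoh.pullPushAdj f').comp (EtShriek.extZeroAdj j')).ofNatIsoRight e')
    ((EtShriek.extZeroAdj j).comp (EtCoh.pullPushAdj f))⟩

/-- Extension by zero commutes with pullback, for abelian sheaves. Let f : Y → X be a morphism of
schemes and j : V → X étale, and let V' = Y ×_X V with projections j' : V' → Y and f' : V' → V. Then
the functors j'_! ∘ f'^(-1) and f^(-1) ∘ j_! from abelian sheaves on V_ét to abelian sheaves on Y_ét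
are isomorphic. Only the existence of an isomorphism of functors is asserted; the published
statement gives the canonical one. (Continuity of the composition functor of étale sites, which
always holds, is carried as an instance hypothesis.) -/
theorem result {V' V Y X : Scheme.{u}} (j : V ⟶ X) [AlgebraicGeometry.Etale j] [EtShriek.JCont j]
    (f : Y ⟶ X) (j' : V' ⟶ Y) [AlgebraicGeometry.Etale j'] [EtShriek.JCont j'] (f' : V' ⟶ V)
    (h : IsPullback j' f' f j) :
    Nonempty (EtCoh.pull f' ⋙ EtShriek.extZero j' ≅ EtShriek.extZero j ⋙ EtCoh.pull f) := by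
  exact main j f j' f' h

end Groth.Agent.S0649
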