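import Groth.Statements.S0652
import Groth.Agent.EtSh.ExtZeroOpen

set_option autoImplicit false
open CategoryTheory CategoryTheory.Limits AlgebraicGeometry Opposite
universe u
open EtCore

namespace Groth.Agent.S0652

/-- For an open immersion j : U -> X and an abelian sheaf F on the small etale site of U, an abelian
sheaf G on X is isomorphic to j_! F as soon as G restricts to a sheaf isomorphic to F on U and has
vanishing stalks at every geometric point of X not in U. (Continuity of the composition functor of
etale sites, which always holds, is carried as an instance hypothesis.) -/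
theorem result {U X : Scheme.{u}} (j : U ⟶ X) [IsOpenImmersion j]
    [AlgebraicGeometry.Etale j] [EtShriek.JCont j] (F : EtCoh.Ab U) (G : EtCoh.Ab X)
    (hres : Nonempty ((EtShriek.restrAlong j).obj G ≅ F))
    (hzero : ∀ (Ω : Type u) [Field Ω] [IsSepClosed Ω] (ξ : Spec (CommRingCat.of Ω) ⟶ X),
      Set.range ξ.base ⊆ (Set.range j.base)ᶜ → IsZero ((EtCoh.stalk ξ).obj G)) :
    Nonempty (G ≅ (EtShriek.extZero j).obj F) := by
  obtain ⟨e⟩ := hres
  let τ : (EtShriek.extZero j).obj F ⟶ G :=
    (EtShriek.extZero j).map e.inv ≫ (EtShriek.extZeroAdj j).counit.app G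
  have : IsIso τ := EtSh.isIso_of_stalk τ fun Ω _ _ ξ => by
    by_cases h : ξ.base default ∈ Set.range j.base
    · obtain ⟨u, rfl⟩ := EtSh.exists_lift_of_isOpenImmersion j ξ h
      have := EtSh.isIso_restr_counit j G
      have : IsIso ((EtShriek.restrAlong j).map τ) := by
        rw [Functor.map_comp]
        infer_instance
      exact EtSh.isIso_stalk_map_of_restr j τ u
    · refine isIso_of_source_target_iso_zero _ (EtSh.isZero_stalk_extZero j ξ (EtSh.isEmpty_over' j ξ h) F).isoZero
        (hzero Ω ξ ?_).isoZero
      rintro _ ⟨y, rfl⟩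
      rwa [Subsingleton.elim y default]
  exact ⟨(asIso τ).symm⟩

end Groth.Agent.S0652
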