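import Groth.Statements.S0653
import Groth.Agent.EtSh.FiniteBC
import Groth.Agent.EtSh.ExtZeroOpen
import Groth.Agent.EtSh.StalkPts

set_option autoImplicit false
open CategoryTheory CategoryTheory.Limits AlgebraicGeometry Opposite
universe u
open EtCore

namespace Groth.Agent.S0653

/-- Consider a cartesian square U = X x_Y V with f : X -> Y finite, j : V -> Y an open immersion, j' : U
-> X and g : U -> V the projections. Then for every abelian sheaf F on the small etale site of U,
f_* j'_! F is isomorphic to j_! g_* F. (The source also asserts functoriality in F; only the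
objectwise isomorphism is stated.) (Continuity of the composition functor of etale sites, which
always holds, is carried as an instance hypothesis.) -/
theorem result {U X V Y : Scheme.{u}} (f : X ⟶ Y) [IsFinite f] (j : V ⟶ Y)
    [IsOpenImmersion j] [AlgebraicGeometry.Etale j] [EtShriek.JCont j] (j' : U ⟶ X) [IsOpenImmersion j']
    [AlgebraicGeometry.Etale j'] [EtShriek.JCont j'] (g : U ⟶ V) (h : IsPullback j' g f j) (F : EtCoh.Ab U) :
    Nonempty ((EtCoh.push f).obj ((EtShriek.extZero j').obj F) ≅ (EtShriek.extZero j).obj ((EtCoh.push g).obj F)) := by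
  let A := (EtCoh.push f).obj ((EtShriek.extZero j').obj F)
  have : IsIso ((EtShriek.extZeroAdj j).counit.app A) := by
    refine Groth.Agent.EtSh.isIso_of_stalk_exists _ fun y => ?_
    obtain ⟨K, _, _, η, hη⟩ := Groth.Agent.Weighting.exists_geomPoint y
    have hd : η.base default = y := (congrArg η.base (Subsingleton.elim _ _)).trans hη
    refine ⟨K, inferInstance, inferInstance, η, hd, ?_⟩
    by_cases hy : η.base default ∈ Set.range j.base
    · obtain ⟨u, rfl⟩ := Groth.Agent.EtSh.exists_lift_of_isOpenImmersion j η hy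
      have := Groth.Agent.EtSh.isIso_restr_counit j A
      exact Groth.Agent.EtSh.isIso_stalk_map_of_restr j _ u
    · have hA : IsZero ((EtCoh.stalk η).obj A) := by
        refine AddCommGrpCat.isZero_iff_subsingleton.2 ⟨fun a b => ?_⟩
        refine (Groth.Agent.EtSh.bijective_pushComp f _).1 (funext fun ξ => ?_)
        refine @Subsingleton.elim _ (AddCommGrpCat.isZero_iff_subsingleton.1
          (Groth.Agent.EtSh.isZero_stalk_extZero j' ξ.1 (Groth.Agent.EtSh.isEmpty_over' j' ξ.1 ?_) F)) _ _
        rintro ⟨w, hw⟩
        refine hy ⟨g w, ?_⟩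
        rw [← ξ.2, Scheme.Hom.comp_apply, ← hw, ← Scheme.Hom.comp_apply, ← Scheme.Hom.comp_apply, h.w]
      exact isIso_of_source_target_iso_zero _
        (Groth.Agent.EtSh.isZero_stalk_extZero j η (Groth.Agent.EtSh.isEmpty_over' j η hy) _).isoZero hA.isoZero
  have := Groth.Agent.EtSh.isIso_unit_extZero_of_mono j' F
  exact ⟨(asIso ((EtShriek.extZeroAdj j).counit.app A)).symm ≪≫ (EtShriek.extZero j).mapIso
    (((Groth.Agent.EtSh.pullRestrIso j).app A).symm ≪≫
      @asIso _ _ _ _ _ (Groth.Agent.EtSh.isIso_baseChange0_finite h ((EtShriek.extZero j').obj F)) ≪≫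
      (EtCoh.push g).mapIso ((Groth.Agent.EtSh.pullRestrIso j').app _ ≪≫
        (asIso ((EtShriek.extZeroAdj j').unit.app F)).symm))⟩

end Groth.Agent.S0653
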