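import Groth.Statements.S0654
import Groth.Agent.EtSh.ExtZeroOpen
import Groth.Agent.EtSh.IntegralStalk
import Groth.Agent.RedSepLib.Reduced
import Groth.Agent.S0622

set_option autoImplicit false
open CategoryTheory CategoryTheory.Limits AlgebraicGeometry Opposite
universe u
open EtCore

namespace Groth.Agent.S0654

/-- Let i : Z -> X be a closed immersion and j : U -> X the open immersion of the complement of its
image. For every abelian sheaf F on the small etale site of X, the counit j_! (F|_U) -> F followed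
by the unit F -> i_* i^{-1} F composes to zero and the resulting three-term sequence is short exact.
(Continuity of the composition functor of etale sites, which always holds, is carried as an instance
hypothesis.) -/
theorem result {Z X : Scheme.{u}} (i : Z ⟶ X) [IsClosedImmersion i]
    (U : X.Opens) (hU : (U : Set X) = (Set.range i.base)ᶜ) [AlgebraicGeometry.Etale U.ι] [EtShriek.JCont U.ι]
    (F : EtCoh.Ab X) :
    ∃ w : (EtShriek.extZeroAdj U.ι).counit.app F ≫ (EtCoh.pullPushAdj i).unit.app F = 0,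
      (ShortComplex.mk _ _ w).ShortExact := by
  let j := U.ι
  let a := (EtShriek.extZeroAdj j).counit.app F
  let b := (EtCoh.pullPushAdj i).unit.app F
  have hr : ∀ x : X, x ∈ Set.range j.base ↔ x ∉ Set.range i.base := fun x => by
    rw [Scheme.Opens.range_ι, hU]
    rfl
  have h1 : ∀ (Ω : Type u) [Field Ω] [IsSepClosed Ω] (ξ : Spec (CommRingCat.of Ω) ⟶ X),
      (IsIso ((EtCoh.stalk ξ).map a) ∧ IsZero ((EtCoh.stalk ξ).obj ((EtCoh.push i).obj ((EtCoh.pull i).obj F)))) ∨
        (IsIso ((EtCoh.stalk ξ).map b) ∧ IsZero ((EtCoh.stalk ξ).obj ((EtShriek.extZero j).obj ((EtShriek.restrAlong j).obj F)))) := by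
    intro Ω _ _ ξ
    by_cases h : ξ.base default ∈ Set.range i.base
    · refine Or.inr ⟨?_, EtSh.isZero_stalk_extZero j ξ (EtSh.isEmpty_over' j ξ ?_) _⟩
      · obtain ⟨ζ, rfl⟩ := Groth.Agent.RedSepLib.exists_lift_of_range_subset ξ i (by
          rintro _ ⟨y, rfl⟩
          rwa [Subsingleton.elim y default])
        have := EtSh.Integral.isIso_pushStalk i ζ ((EtCoh.pull i).obj F)
        have e : (EtCoh.stalk (ζ ≫ i)).map b ≫ EtSh.Integral.pushStalk i ζ ((EtCoh.pull i).obj F) =
            (EtSh.stalkPullIso i ζ).inv.app F := by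
          rw [EtSh.Integral.pushStalk]
          erw [(EtSh.stalkPullIso i ζ).inv.naturality_assoc b]
          refine (congrArg ((EtSh.stalkPullIso i ζ).inv.app F ≫ ·) ?_).trans (Category.comp_id _)
          show (EtCoh.stalk ζ).map ((EtCoh.pull i).map b) ≫
            (EtCoh.stalk ζ).map ((EtCoh.pullPushAdj i).counit.app ((EtCoh.pull i).obj F)) = _
          rw [← Functor.map_comp]
          exact (congrArg (EtCoh.stalk ζ).map ((EtCoh.pullPushAdj i).left_triangle_components F)).trans
            (CategoryTheory.Functor.map_id _ _)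
        exact IsIso.of_isIso_fac_right e
      · exact fun h' => (hr _).1 h' h
    · refine Or.inl ⟨?_, EtSh.Integral.isZero_stalk_push i _ ξ h⟩
      obtain ⟨u, rfl⟩ := EtSh.exists_lift_of_isOpenImmersion j ξ ((hr _).2 h)
      have := EtSh.isIso_restr_counit j F
      exact EtSh.isIso_stalk_map_of_restr j a u
  have w : a ≫ b = 0 := by
    ext V s
    refine EtSh.sect_ext_germ _ fun Ω _ _ ξ t => ?_
    rcases h1 Ω ξ with ⟨-, hz⟩ | ⟨-, hz⟩
    · exact (AddCommGrpCat.isZero_iff_subsingleton.1 hz).elim _ _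
    · have hs : EtSh.germ ξ _ t s = 0 := (AddCommGrpCat.isZero_iff_subsingleton.1 hz).elim _ _
      have := EtSh.stalk_map_germ (a ≫ b) t s
      rw [hs, map_zero] at this
      exact this.symm.trans (map_zero _).symm
  let S := ShortComplex.mk a b w
  obtain ⟨hex, hm, he⟩ := Groth.Agent.S0622.result S a
  obtain ⟨-, -, he'⟩ := Groth.Agent.S0622.result S b
  refine ⟨w, { exact := hex.2 fun Ω _ _ ξ => ?_, mono_f := hm.2 fun Ω _ _ ξ => ?_, epi_g := he'.2 fun Ω _ _ ξ => ?_ }⟩
  · rw [ShortComplex.ab_exact_iff]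
    intro x2 hx
    rcases h1 Ω ξ with ⟨hi, -⟩ | ⟨hi, -⟩
    · exact ((ConcreteCategory.isIso_iff_bijective _).1 hi).2 x2
    · exact ⟨0, (map_zero _).trans (((ConcreteCategory.isIso_iff_bijective _).1 hi).1 (hx.trans (map_zero _).symm)).symm⟩
  · rcases h1 Ω ξ with ⟨hi, -⟩ | ⟨-, hz⟩
    · exact ((ConcreteCategory.isIso_iff_bijective _).1 hi).1
    · exact fun x y _ => (AddCommGrpCat.isZero_iff_subsingleton.1 hz).elim x y
  · rcases h1 Ω ξ with ⟨-, hz⟩ | ⟨hi, -⟩
    · exact fun y => ⟨0, (AddCommGrpCat.isZero_iff_subsingleton.1 hz).elim _ _⟩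
    · exact ((ConcreteCategory.isIso_iff_bijective _).1 hi).2

end Groth.Agent.S0654
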