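import Groth.Statements.S0660
import Groth.Agent.EtSh.TopInv

set_option autoImplicit false
open CategoryTheory CategoryTheory.Limits AlgebraicGeometry Opposite
universe u
open EtCore

namespace Groth.Agent.S0660

/-- Let i : Z -> X be a closed immersion, U and U' schemes etale over X, and h a Z-morphism from U x_X Z
to U' x_X Z. Then there are an etale X-scheme W and X-morphisms a : W -> U, b : W -> U' such that
the base change of a to Z is an isomorphism and h is the base change of b composed with the inverse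
of the base change of a. -/
theorem result {Z X : Scheme.{u}} (i : Z ⟶ X) [IsClosedImmersion i] (U U' : X.Etale)
    (h : (EtCoh.bc i).obj U ⟶ (EtCoh.bc i).obj U') :
    ∃ (W : X.Etale) (a : W ⟶ U) (b : W ⟶ U'), IsIso ((EtCoh.bc i).map a) ∧ (EtCoh.bc i).map a ≫ h = (EtCoh.bc i).map b := by
  have : Etale U.hom := U.prop
  have : Etale U'.hom := U'.prop
  let T : X.Etale := Scheme.Etale.mk (pullback.fst U.hom U'.hom ≫ U.hom)
  let p1 : T ⟶ U := MorphismProperty.Over.homMk (pullback.fst U.hom U'.hom) rfl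
  let p2 : T ⟶ U' := MorphismProperty.Over.homMk (pullback.snd U.hom U'.hom) pullback.condition.symm
  let h0 : pullback U.hom i ⟶ pullback U'.hom i := h.left
  have hh0 : h0 ≫ pullback.snd U'.hom i = pullback.snd U.hom i := MorphismProperty.Over.w h
  have c1 : pullback.fst U.hom i ≫ U.hom = (h0 ≫ pullback.fst U'.hom i) ≫ U'.hom := by
    rw [Category.assoc, pullback.condition, pullback.condition, ← Category.assoc, hh0]
  let l : pullback U.hom i ⟶ T.left := pullback.lift (pullback.fst U.hom i) (h0 ≫ pullback.fst U'.hom i) c1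
  have hl1 : l ≫ pullback.fst U.hom U'.hom = pullback.fst U.hom i := pullback.lift_fst _ _ _
  have hl2 : l ≫ pullback.snd U.hom U'.hom = h0 ≫ pullback.fst U'.hom i := pullback.lift_snd _ _ _
  have c2 : l ≫ T.hom = pullback.snd U.hom i ≫ i := by
    show l ≫ pullback.fst U.hom U'.hom ≫ U.hom = _
    rw [← Category.assoc, hl1, pullback.condition]
  let γ : (EtCoh.bc i).obj U ⟶ (EtCoh.bc i).obj T := MorphismProperty.Over.homMk
    (pullback.lift l (pullback.snd U.hom i) c2) (pullback.lift_snd _ _ _)
  have hf1 : γ.left ≫ (pullback.fst T.hom i : ((EtCoh.bc i).obj T).left ⟶ T.left) = l := pullback.lift_fst _ _ _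
  have e1 : γ ≫ (EtCoh.bc i).map p1 = 𝟙 _ := by
    refine MorphismProperty.Over.Hom.ext (pullback.hom_ext ?_ ?_)
    · show (γ.left ≫ ((EtCoh.bc i).map p1).left) ≫ pullback.fst U.hom i = 𝟙 _ ≫ pullback.fst U.hom i
      rw [Category.id_comp, Category.assoc]
      refine (congrArg (γ.left ≫ ·) (EtCoh.isPullback_bc_map i p1).w).trans ?_
      rw [← Category.assoc, hf1]
      exact hl1
    · exact (MorphismProperty.Over.w (γ ≫ (EtCoh.bc i).map p1)).trans (MorphismProperty.Over.w (𝟙 _)).symm
  have e2 : γ ≫ (EtCoh.bc i).map p2 = h := by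
    refine MorphismProperty.Over.Hom.ext (pullback.hom_ext ?_ ?_)
    · show (γ.left ≫ ((EtCoh.bc i).map p2).left) ≫ pullback.fst U'.hom i = h0 ≫ pullback.fst U'.hom i
      rw [Category.assoc]
      refine (congrArg (γ.left ≫ ·) (EtCoh.isPullback_bc_map i p2).w).trans ?_
      rw [← Category.assoc, hf1]
      exact hl2
    · exact (MorphismProperty.Over.w (γ ≫ (EtCoh.bc i).map p2)).trans (MorphismProperty.Over.w h).symm
  have : Etale γ.left := EtSh.etale_left γ
  have : Mono γ.left := by
    have := congrArg (fun k : (EtCoh.bc i).obj U ⟶ (EtCoh.bc i).obj U => k.left) e1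
    exact mono_of_mono_fac (h := 𝟙 _) this
  have : IsOpenImmersion γ.left := IsOpenImmersion.of_flat_of_mono _
  obtain ⟨O, hO⟩ := EtSh.exists_open_preimage i T γ.left.opensRange
  let oh := EtSh.openHom T O
  have : IsOpenImmersion oh.left := inferInstanceAs (IsOpenImmersion O.ι)
  have := EtSh.isOpenImmersion_bc_map i oh
  obtain ⟨e, he⟩ := EtSh.exists_iso_of_range_eq γ ((EtCoh.bc i).map oh) (by
    refine ((congrArg (fun W : ((EtCoh.bc i).obj T).left.Opens => (W : Set ((EtCoh.bc i).obj T).left)) hO).symm).trans ?_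
    refine Eq.trans ?_ (EtSh.range_bc_map i oh).symm
    exact congrArg (fun S => (pullback.fst T.hom i : ((EtCoh.bc i).obj T).left ⟶ T.left).base ⁻¹' S) O.range_ι.symm)
  have ha : (EtCoh.bc i).map (oh ≫ p1) = e.inv := by
    rw [Functor.map_comp, ← e.inv_hom_id_assoc ((EtCoh.bc i).map oh ≫ (EtCoh.bc i).map p1),
      reassoc_of% he, e1, Category.comp_id]
  refine ⟨EtSh.openObj T O, oh ≫ p1, oh ≫ p2, ha ▸ inferInstance, ?_⟩
  rw [ha, Functor.map_comp, ← e.inv_hom_id_assoc ((EtCoh.bc i).map oh ≫ (EtCoh.bc i).map p2),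
      reassoc_of% he, e2]

end Groth.Agent.S0660
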