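import Groth.Statements.S0666
import Groth.Agent.EtCechLib.Injective
import Groth.Agent.UnivDelta.Basic

set_option autoImplicit false
open CategoryTheory CategoryTheory.Limits Opposite
universe w v
open EtCore

namespace Groth.Agent.S0666

open Groth.Agent.EtCechLib

set_option backward.isDefEq.respectTransparency.types false

section

variable {C : Type w} [Category.{v} C] {U : C} [HasFiniteProducts (Over U)] {ι : Type w} (Uf : ι → Over U)

/-- Čech complexes as a functor of the presheaf -/
noncomputable abbrev cx : (Cᵒᵖ ⥤ AddCommGrpCat.{w}) ⥤ CochainComplex AddCommGrpCat.{w} ℕ :=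
  (Functor.whiskeringLeft (Over U)ᵒᵖ Cᵒᵖ AddCommGrpCat.{w}).obj (Over.forget U).op ⋙ cechComplexFunctor Uf

theorem val_map {P Q : Cᵒᵖ ⥤ AddCommGrpCat.{w}} (φ : P ⟶ Q) (n : ℕ) (a : Fin (n + 1) → ι)
    (x : ((EtCech.cechComplex Uf P).X n : AddCommGrpCat.{w})) :
    val Uf Q n a (((cx Uf).map φ).f n x) = φ.app (op (inter Uf n a).left) (val Uf P n a x) :=
  ConcreteCategory.congr_hom (Pi.map_π (fun a : Fin (n + 1) → ι => φ.app (op (inter Uf n a).left)) a) x

instance : (cx Uf).Additive where
  map_add {P Q φ ψ} := by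
    refine HomologicalComplex.Hom.ext (funext fun n => AddCommGrpCat.hom_ext (AddMonoidHom.ext fun x =>
      (val_bijective Uf Q n).1 (funext fun a => ?_)))
    show val Uf Q n a (((cx Uf).map (φ + ψ)).f n x) = val Uf Q n a (((cx Uf).map φ).f n x + ((cx Uf).map ψ).f n x)
    rw [map_add, val_map, val_map, val_map]
    rfl

theorem shortExact_cx {S : ShortComplex (Cᵒᵖ ⥤ AddCommGrpCat.{w})} (hS : S.ShortExact) :
    (S.map (cx Uf)).ShortExact := by
  refine HomologicalComplex.shortExact_of_degreewise_shortExact _ fun n => ?_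
  have h := fun V => hS.map_of_exact ((evaluation Cᵒᵖ AddCommGrpCat.{w}).obj V)
  refine ShortComplex.ShortExact.mk' ?_ ?_ ?_
  · rw [ShortComplex.ab_exact_iff]
    intro x hx
    have hx' : ∀ a, S.g.app _ (val Uf S.X₂ n a x) = 0 := fun a =>
      (val_map Uf S.g n a x).symm.trans ((congrArg (val Uf S.X₃ n a) hx).trans (map_zero _))
    choose w hw using fun a => (ShortComplex.ab_exact_iff _).1 (h (op (inter Uf n a).left)).exact _ (hx' a)
    obtain ⟨y, hy⟩ := (val_bijective Uf S.X₁ n).2 w
    refine ⟨y, (val_bijective Uf S.X₂ n).1 (funext fun a => (val_map Uf S.f n a y).trans ?_)⟩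
    rw [show val Uf S.X₁ n a y = w a from congrFun hy a]
    exact hw a
  · refine (AddCommGrpCat.mono_iff_injective _).2 fun x y hxy =>
      (val_bijective Uf S.X₁ n).1 (funext fun a =>
        (AddCommGrpCat.mono_iff_injective _).1 (h (op (inter Uf n a).left)).mono_f ?_)
    exact (val_map Uf S.f n a x).symm.trans ((congrArg _ hxy).trans (val_map Uf S.f n a y))
  · refine (AddCommGrpCat.epi_iff_surjective _).2 fun z => ?_
    choose w hw using fun a => (AddCommGrpCat.epi_iff_surjective _).1 (h (op (inter Uf n a).left)).epi_g (val Uf S.X₃ n a z)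
    obtain ⟨x, hx⟩ := (val_bijective Uf S.X₂ n).2 w
    refine ⟨x, (val_bijective Uf S.X₃ n).1 (funext fun a => (val_map Uf S.g n a x).trans ?_)⟩
    rw [show val Uf S.X₂ n a x = w a from congrFun hx a]
    exact hw a

theorem mono_map_f_zero {K L : CochainComplex AddCommGrpCat.{w} ℕ} (f : K ⟶ L) [Mono (f.f 0)] :
    Mono (HomologicalComplex.homologyMap f 0) := by
  haveI := HomologicalComplex.isIso_homologyπ K 0 0 (by simp) (by simp)
  haveI := HomologicalComplex.isIso_homologyπ L 0 0 (by simp) (by simp)
  haveI : Mono (HomologicalComplex.cyclesMap f 0) := by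
    haveI : Mono (HomologicalComplex.cyclesMap f 0 ≫ L.iCycles 0) := by
      rw [HomologicalComplex.cyclesMap_i]; exact mono_comp _ _
    exact mono_of_mono _ (L.iCycles 0)
  rw [show HomologicalComplex.homologyMap f 0 = inv (K.homologyπ 0) ≫ HomologicalComplex.cyclesMap f 0 ≫ L.homologyπ 0 by
    rw [IsIso.eq_inv_comp, HomologicalComplex.homologyπ_naturality]]
  infer_instance

/-- Čech cohomology as a δ-functor -/
noncomputable def delta [LocallySmall.{w} C] :
    UnivDelta.DeltaFunctor (Cᵒᵖ ⥤ AddCommGrpCat.{w}) AddCommGrpCat.{w} where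
  F n := EtCech.cechHFunctor Uf n
  additive n := inferInstanceAs ((cx Uf ⋙ HomologicalComplex.homologyFunctor _ _ n).Additive)
  δ hS n := (shortExact_cx Uf hS).δ n (n + 1) rfl
  mono₁ {S} hS := by
    haveI := ((shortExact_cx Uf hS).map_of_exact (HomologicalComplex.eval _ _ 0)).mono_f
    exact @mono_map_f_zero _ _ ((cx Uf).map S.f) (by assumption)
  exact₂ hS n _ := (shortExact_cx Uf hS).homology_exact₂ n
  map_g_δ hS n := (shortExact_cx Uf hS).comp_δ n (n + 1) rfl
  exact₃ hS n := (shortExact_cx Uf hS).homology_exact₃ n (n + 1) rfl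
  δ_map_f hS n := (shortExact_cx Uf hS).δ_comp n (n + 1) rfl
  exact₁ hS n := (shortExact_cx Uf hS).homology_exact₁ n (n + 1) rfl
  δ_nat hS hS' φ n := (HomologicalComplex.HomologySequence.δ_naturality ((cx Uf).mapShortComplex.map φ)
    (shortExact_cx Uf hS) (shortExact_cx Uf hS') n (n + 1) rfl).symm
  isZero J _ n := @isZero_cechH_of_injective C _ U _ ι Uf J _ _ n

end

/-- With C, U and the family (U_i -> U) as in the definition of the Cech complex, on the abelian
category of abelian presheaves on C the p-th Cech cohomology functor is isomorphic to the p-th right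
derived functor of the zeroth Cech cohomology functor (assuming, as binders, that the latter is
additive and that abelian presheaves have injective resolutions, which hold because C is taken
essentially small relative to the coefficient universe). -/
theorem result {C : Type w} [Category.{v} C] [EssentiallySmall.{w} C] {U : C} [HasFiniteProducts (Over U)]
    {ι : Type w} (Uf : ι → Over U) [(EtCech.cechHFunctor (C := C) Uf 0).Additive]
    [HasInjectiveResolutions (Cᵒᵖ ⥤ AddCommGrpCat.{w})] (p : ℕ) :
    Nonempty (EtCech.cechHFunctor (C := C) Uf p ≅ (EtCech.cechHFunctor (C := C) Uf 0).rightDerived p) := by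
  haveI : EnoughInjectives (Cᵒᵖ ⥤ AddCommGrpCat.{w}) := ⟨fun P =>
    ⟨⟨(injectiveResolution P).cocomplex.X 0, inferInstance, (injectiveResolution P).ι.f 0, mono_of_isLimit_fork (injectiveResolution P).isLimitKernelFork⟩⟩⟩
  exact UnivDelta.nonempty_iso_rightDerived (delta Uf) p

end Groth.Agent.S0666
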