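import Groth.Statements.S17614
import Groth.Agent.EtSh.Flasque
import Groth.Agent.AnPts.LanExact
import Mathlib.CategoryTheory.Sites.Pullback

set_option autoImplicit false
open CategoryTheory CategoryTheory.Limits AlgebraicGeometry Opposite
universe u
open EtZar

namespace Groth.Agent.S17614

set_option backward.isDefEq.respectTransparency.types false

section

open CategoryTheory.Abelian

variable (X : Scheme.{u})

instance (U V : X.Opens) : Subsingleton (U ⟶ V) := inferInstance


theorem zarToEt_hom_subsingleton (W : X.Etale) (U : X.Opens) (a b : W ⟶ (zarToEt X).obj U) : a = b :=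
  MorphismProperty.Over.Hom.ext ((cancel_mono U.ι).1
    ((MorphismProperty.Over.w a).trans (MorphismProperty.Over.w b).symm))

instance flat_zarToEt : RepresentablyFlat (zarToEt X) where
  cofiltered W := by
    let mk : ∀ U : X.Opens, Set.range W.hom.base ⊆ (U : Set X) → StructuredArrow W (zarToEt X) := fun U h =>
      let h' := h.trans (Scheme.Opens.range_ι U).ge
      let l : W.left ⟶ U.toScheme := IsOpenImmersion.lift U.ι W.hom h'
      have hl : l ≫ U.ι = W.hom := IsOpenImmersion.lift_fac _ _ _
      StructuredArrow.mk (Y := U) (MorphismProperty.Over.homMk l hl)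
    have rg : ∀ A : StructuredArrow W (zarToEt X), Set.range W.hom.base ⊆ (A.right : Set X) := fun A => by
      rintro _ ⟨w, rfl⟩
      rw [← MorphismProperty.Over.w A.hom]
      exact (A.hom.left.base w).2
    haveI : Nonempty (StructuredArrow W (zarToEt X)) := ⟨mk ⊤ (fun _ _ => trivial)⟩
    haveI : IsCofilteredOrEmpty (StructuredArrow W (zarToEt X)) :=
      { cone_objs := fun A B => ⟨mk (A.right ⊓ B.right) (Set.subset_inter (rg A) (rg B)),
          StructuredArrow.homMk (homOfLE inf_le_left) (zarToEt_hom_subsingleton X W _ _ _),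
          StructuredArrow.homMk (homOfLE inf_le_right) (zarToEt_hom_subsingleton X W _ _ _), trivial⟩
        cone_maps := fun A B f g => ⟨A, 𝟙 A, by rw [StructuredArrow.hom_ext f g (Subsingleton.elim _ _)]⟩ }
    exact ⟨⟩

theorem epi_of_locSurj {F G : EtZar.Ab X} (φ : F ⟶ G) [h : Sheaf.IsLocallySurjective φ] : Epi φ := by
  let R := sheafCompose (Opens.grothendieckTopology X) (forget AddCommGrpCat.{u + 1})
  haveI : Sheaf.IsLocallySurjective (R.map φ) := ⟨fun s => h.imageSieve_mem s⟩
  haveI : Epi (R.map φ) := Sheaf.epi_of_isLocallySurjective' _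
  exact R.epi_of_epi_map ‹Epi (R.map φ)›

variable [EtZar.ZarCont X]

theorem injective_resZar (I : EtCoh.Ab X) [Injective I] : Injective ((resZar X).obj I) := by
  haveI : PreservesFiniteLimits ((zarToEt X).op.lan : (_ ⥤ X.Etaleᵒᵖ ⥤ AddCommGrpCat.{u + 1})) :=
    AnPts.lan_preservesFiniteLimits_of_flat_asSmall.{u+1} (zarToEt X)
  let adj := Functor.sheafPullbackConstruction.sheafAdjunctionContinuous (zarToEt X) AddCommGrpCat.{u + 1}
    (Opens.grothendieckTopology X) X.smallEtaleTopology
  haveI := preservesMonomorphisms_of_preservesLimitsOfShape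
    (Functor.sheafPullbackConstruction.sheafPullback (zarToEt X) AddCommGrpCat.{u + 1}
    (Opens.grothendieckTopology X) X.smallEtaleTopology)
  exact Injective.injective_of_adjoint adj I

/-- vanishing of étale cohomology on affine étale schemes -/
def AffAcyclic (G : EtCoh.Ab X) : Prop :=
  ∀ (T : X.Etale), IsAffine T.left → ∀ i : ℕ, 1 ≤ i →
      Subsingleton (EtCoh.H T.left ((EtCoh.pull T.hom).obj G) i)

theorem quot {S : ShortComplex (EtCoh.Ab X)} (hS : S.ShortExact) [Injective S.X₂] (h : AffAcyclic X S.X₁) :
    AffAcyclic X S.X₃ := fun T hT i hi => by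
  haveI : Etale T.hom := T.prop
  haveI : EtShriek.JCont T.hom := EtSh.jCont_hom T
  exact (EtSh.subsingleton_H_restr_iff T _ i).1 (CohAcyc.subsingleton_quot_of_ses
    (EtSh.shortExact_restr T hS)
    ((EtSh.subsingleton_H_restr_iff T _ i).2 (EtSh.flasque_of_injective S.X₂ T i hi))
    ((EtSh.subsingleton_H_restr_iff T _ (i + 1)).2 (h T hT (i + 1) (by omega))))

theorem surjective_sections {S : ShortComplex (EtCoh.Ab X)} (hS : S.ShortExact) (h : AffAcyclic X S.X₁)
    (U : X.Opens) (hU : IsAffineOpen U) : Function.Surjective (((resZar X).map S.g).hom.app (op U)) :=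
  S14452.surjective_of_H_one ((zarToEt X).obj U) hS (h ((zarToEt X).obj U) hU 1 le_rfl)

theorem shortExact_resZar {S : ShortComplex (EtCoh.Ab X)} (hS : S.ShortExact) (h : AffAcyclic X S.X₁)
    [(resZar X).PreservesZeroMorphisms] : (S.map (resZar X)).ShortExact := by
  let adj := Functor.sheafPullbackConstruction.sheafAdjunctionContinuous (zarToEt X) AddCommGrpCat.{u + 1}
    (Opens.grothendieckTopology X) X.smallEtaleTopology
  haveI : PreservesLimitsOfSize.{0, 0} (resZar X) := adj.rightAdjoint_preservesLimits
  haveI : PreservesFiniteLimits (resZar X) := PreservesLimitsOfSize.preservesFiniteLimits.{0, 0} _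
  haveI := hS.mono_f
  haveI : Sheaf.IsLocallySurjective ((resZar X).map S.g) := ⟨fun {U} s => fun x hx => by
    obtain ⟨V, hV, hxV, hVU⟩ := TopologicalSpace.Opens.isBasis_iff_nbhd.1 X.isBasis_affineOpens hx
    exact ⟨V, homOfLE hVU, surjective_sections X hS h V hV (((resZar X).obj S.X₃).obj.map (homOfLE hVU).op s), hxV⟩⟩
  exact
    { exact := ShortComplex.exact_of_f_is_kernel _ (KernelFork.mapIsLimit _ hS.fIsKernel (resZar X))
      mono_f := (resZar X).map_mono S.f
      epi_g := epi_of_locSurj X ((resZar X).map S.g) }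

variable [IsAffine X]

theorem main : ∀ (q : ℕ) (G : EtCoh.Ab X), AffAcyclic X G →
    Subsingleton (EtZar.H ((resZar X).obj G) (q + 1)) := by
  haveI : (resZar X).Additive := ⟨fun {_ _ _ _} => rfl⟩
  intro q
  induction q with
  | zero =>
    intro G hG
    let S := ShortComplex.mk (Injective.ι G) (cokernel.π (Injective.ι G)) (cokernel.condition _)
    have hS : S.ShortExact :=
      { exact := S.exact_of_g_is_cokernel (cokernelIsCokernel _)
        mono_f := inferInstanceAs (Mono (Injective.ι G))
        epi_g := inferInstanceAs (Epi (cokernel.π (Injective.ι G))) }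
    haveI : Injective S.X₂ := inferInstanceAs (Injective (Injective.under G))
    haveI : Injective (S.map (resZar X)).X₂ := injective_resZar X S.X₂
    refine CohAcyc.subsingleton_one_of_lift (shortExact_resZar X hS hG)
      (inferInstanceAs (Subsingleton (EtZar.H (S.map (resZar X)).X₂ (0 + 1)))) fun s => ?_
    let hT : IsTerminal (⊤ : X.Opens) := IsTerminal.ofUniqueHom (fun U => homOfLE le_top) fun _ _ => Subsingleton.elim _ _
    let S' := S.map (resZar X)
    obtain ⟨a, ha⟩ := surjective_sections X hS hG ⊤ (isAffineOpen_top X)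
      (Sheaf.H.equiv₀ S'.X₃ hT (Ext.addEquiv₀.symm s))
    refine ⟨Ext.addEquiv₀ ((Sheaf.H.equiv₀ S'.X₂ hT).symm a), ?_⟩
    rw [← Sheaf.H.addEquiv₀_map]
    have := Sheaf.H.equiv₀_naturality hT S'.g ((Sheaf.H.equiv₀ S'.X₂ hT).symm a)
    rw [AddEquiv.apply_symm_apply] at this
    have := ha.symm.trans this
    rw [← (Sheaf.H.equiv₀ S'.X₃ hT).injective this, AddEquiv.apply_symm_apply]
  | succ q ih =>
    intro G hG
    let S := ShortComplex.mk (Injective.ι G) (cokernel.π (Injective.ι G)) (cokernel.condition _)
    have hS : S.ShortExact :=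
      { exact := S.exact_of_g_is_cokernel (cokernelIsCokernel _)
        mono_f := inferInstanceAs (Mono (Injective.ι G))
        epi_g := inferInstanceAs (Epi (cokernel.π (Injective.ι G))) }
    haveI : Injective S.X₂ := inferInstanceAs (Injective (Injective.under G))
    haveI : Injective (S.map (resZar X)).X₂ := injective_resZar X S.X₂
    exact CohAcyc.subsingleton_succ_of_ses (shortExact_resZar X hS hG) (ih S.X₃ (quot X hS hG))
      (inferInstanceAs (Subsingleton (EtZar.H (S.map (resZar X)).X₂ (q + 1 + 1))))

end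

/-- Suppose S is an affine scheme, and G denotes a sheaf of abelian groups on the small étale site of S.
If for every affine scheme T étale over S and every i ≥ 1 the étale cohomology group H^i(T, G|_T)
vanishes, then the Zariski cohomology groups H^i(S, G|_{S_Zar}) of the restriction of G to the site
of opens of S vanish for every i ≥ 1. (Continuity of the opens-to-étale-schemes functor is carried
as an instance binder.) -/
theorem result (S : Scheme.{u}) [IsAffine S]
    [EtZar.ZarCont S] (G : EtCoh.Ab S)
    (hG : ∀ (T : S.Etale), IsAffine T.left → ∀ i : ℕ, 1 ≤ i →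
      Subsingleton (EtCoh.H T.left ((EtCoh.pull T.hom).obj G) i))
    (i : ℕ) (hi : 1 ≤ i) :
    Subsingleton (EtZar.H ((EtZar.resZar S).obj G) i) := by
  obtain ⟨q, rfl⟩ : ∃ q, i = q + 1 := ⟨i - 1, by omega⟩
  exact main S q G hG

end Groth.Agent.S17614
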