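import Groth.Statements.S0670
import Groth.Agent.S17614
import Groth.Agent.EtSh.LocalSection
import Groth.Agent.CohAcyc.Shift

set_option autoImplicit false
open CategoryTheory CategoryTheory.Limits AlgebraicGeometry Opposite
universe u
open EtCore

namespace Groth.Agent.S0670

set_option backward.isDefEq.respectTransparency.types false

open CategoryTheory.Abelian TopologicalSpace

theorem epi_resZar (S : Scheme.{u}) (hS : ∀ s : S, EtCoh.IsStrictlyHenselianLocalRing (S.presheaf.stalk s))
    [EtZar.ZarCont S] {A B : EtCoh.Ab S} (φ : A ⟶ B) [Epi φ] : Epi ((EtZar.resZar S).map φ) := by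
  haveI hφ : Sheaf.IsLocallySurjective φ :=
    (Sheaf.isLocallySurjective_iff_epi' (A := AddCommGrpCat.{u + 1}) φ).2 ‹_›
  haveI : Sheaf.IsLocallySurjective ((EtZar.resZar S).map φ) := ⟨fun {U} s => fun x hx => by
    obtain ⟨W, g, w, ⟨r, hr⟩, hw⟩ := (EtSh.mem_topology_iff _).1 (hφ.imageSieve_mem (U := (EtZar.zarToEt S).obj U) s)
      (⟨x, hx⟩ : U)
    obtain ⟨_, _⟩ := hS x
    have hwx : W.hom.base w = x := by
      rw [← MorphismProperty.Over.w g, Scheme.Hom.comp_apply, hw]
      rfl
    obtain ⟨V, σ, v, hv, hvx⟩ := EtSh.exists_nhd_section x W w hwx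
    have hVU : V ≤ U := fun y hy => by
      have h := congrArg (fun k : V.toScheme ⟶ S => k.base ⟨y, hy⟩) (MorphismProperty.Over.w (σ ≫ g))
      exact (show ((σ ≫ g).left.base ⟨y, hy⟩).1 = y from h) ▸ ((σ ≫ g).left.base ⟨y, hy⟩).2
    refine ⟨V, homOfLE hVU, ⟨A.obj.map σ.op r, ?_⟩, hvx ▸ v.2⟩
    have e : σ ≫ g = (EtZar.zarToEt S).map (homOfLE hVU) := S17614.zarToEt_hom_subsingleton S _ U _ _
    show φ.hom.app _ (A.obj.map σ.op r) = B.obj.map ((EtZar.zarToEt S).map (homOfLE hVU)).op s
    refine Eq.trans ?_ (congrArg (fun k => B.obj.map k.op s) e)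
    exact (NatTrans.naturality_apply φ.hom σ.op r).trans ((congrArg (B.obj.map σ.op) hr).trans
      (ConcreteCategory.congr_hom (B.obj.map_comp g.op σ.op) s).symm)⟩
  exact S17614.epi_of_locSurj S _

/-- sections over the whole space -/
noncomputable def topIso (S : Scheme.{u}) : (EtZar.zarToEt S).obj ⊤ ≅ EtCoh.top S :=
  MorphismProperty.Over.isoMk S.topIso (by
    show S.topIso.hom ≫ 𝟙 S = (⊤ : S.Opens).ι
    rw [Category.comp_id, Scheme.topIso_hom])

theorem main (S : Scheme.{u}) (hS : ∀ s : S, EtCoh.IsStrictlyHenselianLocalRing (S.presheaf.stalk s))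
    [EtZar.ZarCont S] (F : EtCoh.Ab S) (i : ℕ) :
    Nonempty (EtCoh.H S F i ≃+ EtZar.H ((EtZar.resZar S).obj F) i) := by
  haveI : (EtZar.resZar S).Additive := ⟨fun {_ _ _ _} => rfl⟩
  haveI : PreservesLimitsOfSize.{0, 0} (EtZar.resZar S) :=
    (Functor.sheafPullbackConstruction.sheafAdjunctionContinuous (EtZar.zarToEt S) AddCommGrpCat.{u + 1}
      (Opens.grothendieckTopology S) S.smallEtaleTopology).rightAdjoint_preservesLimits
  haveI : PreservesFiniteLimits (EtZar.resZar S) := PreservesLimitsOfSize.preservesFiniteLimits.{0, 0} _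
  haveI : PreservesFiniteColimits (EtZar.resZar S) := by
    refine (Functor.preservesFiniteColimits_iff_forall_exact_map_and_epi _).2 fun T hT => ?_
    haveI := hT.mono_f; haveI := hT.epi_g
    exact ⟨ShortComplex.exact_of_f_is_kernel _ (KernelFork.mapIsLimit _ hT.fIsKernel (EtZar.resZar S)),
      epi_resZar S hS T.g⟩
  let hT : IsTerminal (⊤ : S.Opens) :=
    IsTerminal.ofUniqueHom (fun U => homOfLE le_top) fun _ _ => Subsingleton.elim _ _
  let eZ := fun G : EtZar.Ab S =>
    ((constantSheafAdj (Opens.grothendieckTopology S) AddCommGrpCat.{u + 1} hT).homAddEquiv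
      (AddCommGrpCat.of (ULift.{u + 1} ℤ)) G).trans (AddCommGrpCat.uliftZMultiplesAddEquiv _)
  let eE := fun G : EtCoh.Ab S =>
    ((constantSheafAdj S.smallEtaleTopology AddCommGrpCat.{u + 1} (EtSh.topTerminal S)).homAddEquiv
      (AddCommGrpCat.of (ULift.{u + 1} ℤ)) G).trans (AddCommGrpCat.uliftZMultiplesAddEquiv _)
  let σ := fun M : EtCoh.Ab S => AddMonoidHom.toAddEquiv (M.obj.map (topIso S).inv.op).hom
    (M.obj.map (topIso S).hom.op).hom
    (AddMonoidHom.ext fun z => by
      show M.obj.map (topIso S).hom.op (M.obj.map (topIso S).inv.op z) = z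
      rw [← ConcreteCategory.comp_apply, ← M.obj.map_comp, ← op_comp, Iso.hom_inv_id, op_id, M.obj.map_id]
      rfl)
    (AddMonoidHom.ext fun z => by
      show M.obj.map (topIso S).inv.op (M.obj.map (topIso S).hom.op z) = z
      rw [← ConcreteCategory.comp_apply, ← M.obj.map_comp, ← op_comp, Iso.inv_hom_id, op_id, M.obj.map_id]
      rfl)
  have natZ : ∀ {G G' : EtZar.Ab S} (k : G ⟶ G')
      (φ : (constantSheaf _ AddCommGrpCat.{u + 1}).obj (AddCommGrpCat.of (ULift.{u + 1} ℤ)) ⟶ G),
      eZ G' (φ ≫ k) = k.hom.app (op ⊤) (eZ G φ) := fun k φ => by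
    simp only [eZ, AddEquiv.trans_apply]
    rfl
  have natE : ∀ {G G' : EtCoh.Ab S} (k : G ⟶ G')
      (φ : (constantSheaf _ AddCommGrpCat.{u + 1}).obj (AddCommGrpCat.of (ULift.{u + 1} ℤ)) ⟶ G),
      eE G' (φ ≫ k) = k.hom.app (op (EtCoh.top S)) (eE G φ) := fun k φ => by
    simp only [eE, AddEquiv.trans_apply]
    rfl
  refine CohAcyc.nonempty_ext_equiv (EtZar.resZar S)
    (fun M => (eZ ((EtZar.resZar S).obj M)).trans ((σ M).trans (eE M).symm)) (fun {M N} g φ => ?_)
    (fun I _ q => ?_) i F
  · apply (eE N).injective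
    rw [natE]
    simp only [AddEquiv.trans_apply, AddEquiv.apply_symm_apply]
    rw [natZ]
    exact ((eE N).apply_symm_apply _).trans ((NatTrans.naturality_apply g.hom (topIso S).inv.op _).symm.trans
      (congrArg _ ((eE M).apply_symm_apply _).symm))
  · haveI := S17614.injective_resZar S I
    exact inferInstanceAs (Subsingleton (EtZar.H ((EtZar.resZar S).obj I) (q + 1)))

/-- Suppose S is a scheme in which every local ring is strictly henselian. For any abelian sheaf F on
the small étale site of S and any degree i, the étale cohomology H^i(S, F) is isomorphic to the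
Zariski cohomology in degree i of the restriction of F to the site of opens of S. (Continuity of the
functor from opens of S to étale S-schemes is carried as an instance binder; only some isomorphism
is claimed to exist, whereas the published statement gives a canonical one.) -/
theorem result (S : Scheme.{u})
    (hS : ∀ s : S, EtCoh.IsStrictlyHenselianLocalRing (S.presheaf.stalk s)) [EtZar.ZarCont S]
    (F : EtCoh.Ab S) (i : ℕ) :
    Nonempty (EtCoh.H S F i ≃+ EtZar.H ((EtZar.resZar S).obj F) i) := by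
  exact main S hS F i

end Groth.Agent.S0670
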