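import Groth.Statements.S0738
import Groth.Agent.Spectral.Basic

set_option autoImplicit false
open Topology
universe u
open ProEtW

namespace Groth.Agent.S0738

/-- A closed subset of a w-local spectral space is w-local (with the subspace topology). -/
theorem result (X : Type u) [TopologicalSpace X] (hX : ProEtW.IsWLocal X)
    (Y : Set X) (hY : IsClosed Y) : ProEtW.IsWLocal ↥Y := by
  obtain ⟨hs, hc, hu⟩ := hX
  have : SpectralSpace X := hs
  have : SpectralSpace Y := Groth.Agent.Spectral.spectralSpace_of_isClosed_con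
    (Groth.Agent.Spectral.isClosed_con_of_isClosed hY)
  have hpt : ∀ y : Y, IsClosed ({y} : Set Y) ↔ IsClosed ({(y : X)} : Set X) := fun y => by
    rw [(hY.isClosedEmbedding_subtypeVal).isClosed_iff_image_isClosed, Set.image_singleton]
  refine ⟨this, ?_, fun x => ?_⟩
  · simp only [hpt]
    exact hc.preimage continuous_subtype_val
  · obtain ⟨y, ⟨hy, hxy⟩, huniq⟩ := hu (x : X)
    have hyY : y ∈ Y := hxy.mem_closed hY x.2
    refine ⟨⟨y, hyY⟩, ⟨(hpt _).mpr hy, Topology.IsInducing.subtypeVal.specializes_iff.mp hxy⟩, fun z hz => Subtype.ext ?_⟩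
    exact huniq z ⟨(hpt z).mp hz.1, Topology.IsInducing.subtypeVal.specializes_iff.mpr hz.2⟩

end Groth.Agent.S0738
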