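import Groth.Statements.S0702
import Groth.Agent.S9633
import Mathlib.RingTheory.Algebraic.Integral

set_option autoImplicit false
open CategoryTheory CategoryTheory.Limits AlgebraicGeometry Opposite Topology
universe u
open ProEtW

namespace Groth.Agent.S0702

/-- Let Spec A be profinite and A -> B induce algebraic extensions of residue fields at all primes. Then
Spec B is profinite. -/
theorem result (A B : Type u) [CommRing A] [CommRing B]
    [Algebra A B] [T2Space (PrimeSpectrum A)] [TotallyDisconnectedSpace (PrimeSpectrum A)]
    (h : ProEtW.AlgebraicResidueExtensions A B) :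
    ProEtW.IsProfinite (PrimeSpectrum B) := by
  have hmax := ((Groth.Agent.S9633.result (R := A)).out 1 5).mp (inferInstance : T2Space (PrimeSpectrum A))
  refine ((Groth.Agent.S9633.result (R := B)).out 5 0).mp fun q hq => ?_
  have : q.IsPrime := hq
  have := hmax (q.comap (algebraMap A B)) inferInstance
  have := h q
  let := Ideal.Quotient.field (q.comap (algebraMap A B))
  have : Algebra.IsIntegral (A ⧸ q.comap (algebraMap A B)) (B ⧸ q) := Algebra.isAlgebraic_iff_isIntegral.mp ‹_›
  exact Ideal.Quotient.maximal_of_isField q
    (isField_of_isIntegral_of_isField' (Field.toIsField (A ⧸ q.comap (algebraMap A B))))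

end Groth.Agent.S0702
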