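import Groth.Statements.S0698
import Groth.Agent.WLoc.LCAlg

set_option autoImplicit false
open CategoryTheory CategoryTheory.Limits AlgebraicGeometry Opposite Topology
universe u
open ProEtW

namespace Groth.Agent.S0698

/-- Let A be a ring, X = Spec A and T a closed subset of pi_0(X). Then A has an ind-Zariski quotient
ring B (the map A -> B is surjective) whose spectrum maps homeomorphically onto the preimage of T in
X. -/
theorem result (A : Type u) [CommRing A]
    (T : Set (_root_.ConnectedComponents (PrimeSpectrum A))) (hT : IsClosed T) :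
    ∃ (B : Type u) (_ : CommRing B) (_ : Algebra A B),
      EtPBC.IsIndZariski A B ∧ Function.Surjective (algebraMap A B) ∧
      Topology.IsEmbedding (PrimeSpectrum.comap (algebraMap A B)) ∧
      Set.range (PrimeSpectrum.comap (algebraMap A B)) = _root_.ConnectedComponents.mk ⁻¹' T := by
  open Groth.Agent.WLoc in
  let S : Set A := {e | IsIdempotentElem e ∧ ∀ q : PrimeSpectrum A, _root_.ConnectedComponents.mk q ∈ T → e ∈ q.asIdeal}
  have hsurj : Function.Surjective (algebraMap A (A ⧸ Ideal.span S)) := Ideal.Quotient.mk_surjective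
  refine ⟨A ⧸ Ideal.span S, inferInstance, inferInstance,
    Groth.Agent.WLoc.isIndZariski_of_zarFactors ((Groth.Agent.WLoc.zarFactors_self A).quotient fun e he => he.1),
    hsurj, (PrimeSpectrum.isClosedEmbedding_comap_of_surjective _ _ hsurj).isEmbedding, ?_⟩
  rw [range_comap_of_surjective _ _ hsurj, Ideal.Quotient.algebraMap_eq, Ideal.mk_ker, PrimeSpectrum.zeroLocus_span]
  refine Set.Subset.antisymm (fun q hq => ?_) fun q hq e he => he.2 q hq
  by_contra hqT
  obtain ⟨V, hV, hqV, hVT⟩ := (isTopologicalBasis_isClopen (X := _root_.ConnectedComponents (PrimeSpectrum A))).exists_subset_of_mem_open (Set.mem_compl hqT) hT.isOpen_compl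
  obtain ⟨e, he, hWe⟩ := PrimeSpectrum.isClopen_iff.mp (hV.preimage _root_.ConnectedComponents.continuous_coe)
  have hmem : e ∈ S := ⟨he, fun r hr => by
    by_contra h
    have hrV : r ∈ _root_.ConnectedComponents.mk ⁻¹' V := by rw [hWe]; exact h
    exact hVT hrV hr⟩
  have hq' : q ∈ _root_.ConnectedComponents.mk ⁻¹' V := hqV
  rw [hWe] at hq'
  exact hq' (hq hmem)

end Groth.Agent.S0698
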