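import Groth.Statements.S0706
import Mathlib.RingTheory.Spectrum.Prime.Topology

set_option autoImplicit false
open CategoryTheory CategoryTheory.Limits AlgebraicGeometry Opposite Topology
universe u
open ProEtW

namespace Groth.Agent.S0706

/-- Let f be an element and I an ideal of A, and Z the intersection of D(f) and V(I) in Spec A. There is
a multiplicative subset S of A for which the image of Spec(S^{-1}A) in Spec A consists precisely of
the points having a specialization in Z. -/
theorem result (A : Type u) [CommRing A] (f : A) (I : Ideal A) :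
    ∃ S : Submonoid A,
      Set.range (PrimeSpectrum.comap (algebraMap A (Localization S))) =
        {x | ∃ z : PrimeSpectrum A,
          z ∈ (PrimeSpectrum.basicOpen f : Set (PrimeSpectrum A)) ∩ PrimeSpectrum.zeroLocus I ∧ x ⤳ z} := by
  let Z := (PrimeSpectrum.basicOpen f : Set (PrimeSpectrum A)) ∩ PrimeSpectrum.zeroLocus I
  let S : Submonoid A :=
    { carrier := {s | ∀ z ∈ Z, s ∉ z.asIdeal}
      one_mem' := fun z _ => z.isPrime.ne_top ∘ (Ideal.eq_top_iff_one _).mpr
      mul_mem' := fun ha hb z hz h => (z.isPrime.mem_or_mem h).elim (ha z hz) (hb z hz) }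
  refine ⟨S, ?_⟩
  rw [PrimeSpectrum.localization_comap_range (Localization S) S]
  ext p
  constructor
  · intro hp
    have hfp : f ∉ (p.asIdeal ⊔ I).radical := by
      rintro ⟨n, hn⟩
      obtain ⟨q, hq, i, hi, hqi⟩ := Submodule.mem_sup.mp hn
      refine Set.disjoint_left.mp hp (show q ∈ S from fun z hz hqz => ?_) hq
      have h1 : f ^ n ∈ z.asIdeal := hqi ▸ add_mem hqz (hz.2 hi)
      exact hz.1 (z.isPrime.mem_of_pow_mem n h1)
    rw [Ideal.radical_eq_sInf, Submodule.mem_sInf] at hfp
    push Not at hfp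
    obtain ⟨J, ⟨hJ, hJp⟩, hfJ⟩ := hfp
    exact ⟨⟨J, hJp⟩, ⟨hfJ, fun a ha => hJ (Ideal.mem_sup_right ha)⟩,
      (PrimeSpectrum.le_iff_specializes p ⟨J, hJp⟩).mp (fun a ha => hJ (Ideal.mem_sup_left ha))⟩
  · rintro ⟨z, hz, hpz⟩
    exact Set.disjoint_left.mpr fun s hs hsp =>
      hs z hz ((PrimeSpectrum.le_iff_specializes p z).mpr hpz hsp)

end Groth.Agent.S0706
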