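import Groth.Statements.S0707
import Groth.Agent.WLoc.WContr
import Groth.Agent.WLoc.EDLocal

set_option autoImplicit false
open CategoryTheory CategoryTheory.Limits AlgebraicGeometry Opposite Topology
universe u
open ProEtW

namespace Groth.Agent.S0707

/-- Let A be w-contractible, E a finite set of elements of A with zero set Z in Spec A, and B a
localization of A at a multiplicative subset S such that the image of Spec B → Spec A is precisely
the set of points of Spec A specializing to some point of Z. Then B is w-contractible. -/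
theorem result (A B : Type u) [CommRing A] [CommRing B]
    [Algebra A B] (S : Submonoid A) [IsLocalization S B] (E : Finset A)
    (hB : Set.range (PrimeSpectrum.comap (algebraMap A B)) =
      {x | ∃ z : PrimeSpectrum A, z ∈ PrimeSpectrum.zeroLocus (R := A) E ∧ x ⤳ z})
    (hA : EtPBC.IsWContractible A) : EtPBC.IsWContractible B := by
  open Groth.Agent.WLoc in
  obtain ⟨hwA, hE, -⟩ := isWContractible_iff.mp hA
  have hret := Groth.Agent.IndEt.hasEtaleRetractions_localization (fun C _ _ hff _ => hA C hff inferInstance) B S (Ideal.span (E : Set A))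
    (by rw [hB]; simp only [PrimeSpectrum.zeroLocus_span])
  let f := PrimeSpectrum.comap (algebraMap A B)
  have hemb : Topology.IsEmbedding f := PrimeSpectrum.localization_comap_isEmbedding B S
  have hmem : ∀ c, IsClosed ({c} : Set (PrimeSpectrum A)) → c ∈ PrimeSpectrum.zeroLocus (E : Set A) → c ∈ Set.range f :=
    fun c _ hc => hB.ge ⟨c, hc, specializes_rfl⟩
  have hcl : ∀ y, IsClosed ({y} : Set (PrimeSpectrum B)) ↔ IsClosed ({f y} : Set (PrimeSpectrum A)) := by
    intro y
    refine ⟨fun hy => ?_, fun hy => ?_⟩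
    · obtain ⟨z, hz, hyz⟩ := hB.le (Set.mem_range_self y)
      obtain ⟨c, ⟨hc, hzc⟩, -⟩ := hwA.2.2 z
      obtain ⟨y', hy'⟩ := hmem c hc (hzc.mem_closed (PrimeSpectrum.isClosed_zeroLocus _) hz)
      have h1 : y ⤳ y' := hemb.isInducing.specializes_iff.mp (hy' ▸ hyz.trans hzc)
      rw [show y = y' from (h1.mem_closed hy rfl : y' = y).symm, show f y' = c from hy']
      exact hc
    · have := hy.preimage hemb.continuous
      rwa [← Set.image_singleton, hemb.injective.preimage_image] at this
  have hwB : ProEtW.IsWLocal (PrimeSpectrum B) := by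
    refine ⟨inferInstance, ?_, fun y => ?_⟩
    · simp only [hcl]
      exact hwA.2.1.preimage hemb.continuous
    · obtain ⟨z, hz, hyz⟩ := hB.le (Set.mem_range_self y)
      obtain ⟨c, ⟨hc, hzc⟩, -⟩ := hwA.2.2 z
      obtain ⟨y', hy'⟩ := hmem c hc (hzc.mem_closed (PrimeSpectrum.isClosed_zeroLocus _) hz)
      refine ⟨y', ⟨(hcl _).mpr (by rw [hy']; exact hc), hemb.isInducing.specializes_iff.mp (hy' ▸ hyz.trans hzc)⟩,
        fun w hw => hemb.injective ?_⟩
      obtain ⟨d, -, hd⟩ := hwA.2.2 (f y)
      exact (hd _ ⟨(hcl w).mp hw.1, hw.2.map hemb.continuous⟩).trans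
        (hd _ ⟨by rw [hy']; exact hc, by rw [hy']; exact hyz.trans hzc⟩).symm
  refine isWContractible_iff.mpr ⟨hwB, ?_, fun m _ => Groth.Agent.IndEt.isStrictlyHenselian_atPrime hret m⟩
  -- the components of `B` form a clopen part of those of `A`
  have hbA := Groth.Agent.Spectral.bijective_of_unique_closedPoint hwA.2.1 hwA.2.2
  have hbB := Groth.Agent.Spectral.bijective_of_unique_closedPoint hwB.2.1 hwB.2.2
  have : CompactSpace {x : PrimeSpectrum A // IsClosed ({x} : Set (PrimeSpectrum A))} :=
    hwA.2.1.isClosedEmbedding_subtypeVal.compactSpace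
  let e : {x : PrimeSpectrum A // IsClosed ({x} : Set (PrimeSpectrum A))} ≃ₜ _root_.ConnectedComponents (PrimeSpectrum A) :=
    (_root_.ConnectedComponents.continuous_coe.comp continuous_subtype_val).homeoOfEquivCompactToT2 (f := Equiv.ofBijective _ hbA)
  let ι := (PrimeSpectrum.continuous_comap (algebraMap A B)).connectedComponentsMap
  have hι : Continuous ι := (PrimeSpectrum.continuous_comap (algebraMap A B)).connectedComponentsMap_continuous
  have hinj : Function.Injective ι := by
    intro a b hab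
    obtain ⟨⟨y, hy⟩, rfl⟩ := hbB.2 a
    obtain ⟨⟨z, hz⟩, rfl⟩ := hbB.2 b
    have h := @hbA.1 ⟨f y, (hcl y).mp hy⟩ ⟨f z, (hcl z).mp hz⟩ hab
    obtain rfl := hemb.injective (congrArg Subtype.val h)
    rfl
  have hrange : Set.range ι = e '' {c | c.1 ∈ PrimeSpectrum.zeroLocus (E : Set A)} := by
    ext k
    constructor
    · rintro ⟨a, rfl⟩
      obtain ⟨⟨y, hy⟩, rfl⟩ := hbB.2 a
      obtain ⟨z, hz, hyz⟩ := hB.le (Set.mem_range_self y)
      refine ⟨⟨f y, (hcl y).mp hy⟩, ?_, rfl⟩
      change f y ∈ PrimeSpectrum.zeroLocus (E : Set A)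
      rw [show f y = z from (hyz.mem_closed ((hcl y).mp hy) rfl : z = f y).symm]
      exact hz
    · rintro ⟨⟨c, hc⟩, hcE, rfl⟩
      obtain ⟨y, hy⟩ := hmem c hc hcE
      exact ⟨_root_.ConnectedComponents.mk y, congrArg _root_.ConnectedComponents.mk hy⟩
  have hopen : IsOpen (Set.range ι) := by
    rw [hrange, e.isOpen_image]
    have hT2 : T2Space {x : PrimeSpectrum A // IsClosed ({x} : Set (PrimeSpectrum A))} := e.symm.t2Space
    have hset : {c : {x : PrimeSpectrum A // IsClosed ({x} : Set (PrimeSpectrum A))} | c.1 ∈ PrimeSpectrum.zeroLocus (E : Set A)} =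
        ⋂ a ∈ E, ((Subtype.val ⁻¹' (PrimeSpectrum.basicOpen a : Set (PrimeSpectrum A)))ᶜ) := by
      ext c; simp [PrimeSpectrum.mem_zeroLocus, Set.subset_def]
    rw [hset]
    refine isOpen_biInter_finset fun a _ => isOpen_compl_iff.mpr (IsCompact.isClosed ?_)
    rw [Topology.IsInducing.subtypeVal.isCompact_iff]
    convert (PrimeSpectrum.isCompact_basicOpen a).inter_right hwA.2.1 using 1
    ext x
    exact ⟨fun ⟨c, hc, hcx⟩ => hcx ▸ ⟨hc, c.2⟩, fun ⟨h1, h2⟩ => ⟨⟨x, h2⟩, h1, rfl⟩⟩
  exact Groth.Agent.WLoc.extremallyDisconnected_of_isOpenEmbedding (hι.isClosedEmbedding hinj).isEmbedding hopen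

end Groth.Agent.S0707
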