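import Groth.Statements.S0729
import Mathlib.CategoryTheory.Functor.Flat


set_option autoImplicit false
open CategoryTheory CategoryTheory.Limits AlgebraicGeometry Opposite
universe u
open ProEtS

namespace Groth.Agent.S0729

/-- Every étale covering of a scheme X is a pro-étale covering, in the form used to define the
comparison morphism of sites ε : X_proét → X_ét: the inclusion functor from the small étale site of
X to the small pro-étale site of X is continuous. -/
theorem result (X : Scheme.{u}) : ProEtS.EpsCont X := by
  let F : X.Etale ⥤ X.ProEt := ProEtS.eps X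
  haveI : PreservesFiniteLimits (Scheme.Etale.forget X) := inferInstanceAs (PreservesFiniteLimits (MorphismProperty.Over.forget _ _ _))
  haveI : PreservesFiniteLimits (F ⋙ Scheme.ProEt.forget X) :=
    preservesFiniteLimits_of_natIso (Iso.refl _ : Scheme.Etale.forget X ≅ F ⋙ Scheme.ProEt.forget X)
  haveI : PreservesFiniteLimits F := preservesFiniteLimits_of_reflects_of_preserves F (Scheme.ProEt.forget X)
  haveI : HasFiniteLimits X.Etale := inferInstanceAs (HasFiniteLimits (MorphismProperty.Over @Etale ⊤ X))
  haveI : RepresentablyFlat F := flat_of_preservesFiniteLimits _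
  have hcp : CoverPreserving X.smallEtaleTopology (Scheme.ProEt.topology X) F := by
    constructor
    intro W R hR
    obtain ⟨U, _, _, hU⟩ := (Scheme.mem_smallGrothendieckTopology _ _).1 hR
    let P : Presieve (F.obj W) := Presieve.ofArrows
      (fun i => F.obj ((U.X i).asOverProp X (by first | assumption | (rename_i h; exact h i))))
      (fun i => F.map ((U.f i).asOverProp X))
    have hP : P ∈ Scheme.ProEt.precoverage X (F.obj W) := by
      show P.map (Scheme.ProEt.forget X ⋙ Over.forget X) ∈ Scheme.proetalePrecoverage W.left
      rw [Presieve.map_ofArrows]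
      have h0 := Scheme.etalePrecoverage_le_proetalePrecoverage _ U.mem₀
      exact h0
    refine GrothendieckTopology.superset_covering _ ?_ (Precoverage.generate_mem_toGrothendieck hP)
    rintro Z _ ⟨Z', a, _, ⟨i⟩, rfl⟩
    exact Sieve.downward_closed _ (Sieve.image_mem_functorPushforward F R (hU _ _ ⟨i⟩)) a
  exact Functor.isContinuous_of_coverPreserving (compatiblePreservingOfFlat _ F) hcp

end Groth.Agent.S0729
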