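import Groth.Statements.S0730
import Mathlib.CategoryTheory.Functor.Flat


set_option autoImplicit false
open CategoryTheory CategoryTheory.Limits AlgebraicGeometry Opposite
universe u
open ProEtS

namespace Groth.Agent.S0730

/-- Base changes of pro-étale coverings are pro-étale coverings, in the form used to define the morphism
of sites f_proét : X_proét → Y_proét for a morphism of schemes f : X → Y: the base change functor
from the small pro-étale site of Y to that of X is continuous. -/
theorem result {X Y : Scheme.{u}} (f : X ⟶ Y) : ProEtS.PCont f := by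
  let F : Y.ProEt ⥤ X.ProEt := ProEtS.bcP f
  have hiff : ∀ (S : Scheme.{u}) (W : S.ProEt) (R : Sieve W), R ∈ Scheme.ProEt.topology S W ↔
      Sieve.overEquiv _ (R.functorPushforward (Scheme.ProEt.forget S)) ∈ Scheme.proetaleTopology W.left := by
    intro S W R
    haveI : (Scheme.ProEt.forget S).IsContinuous ((Scheme.ProEt.forget S).restrictedTopology (Scheme.proetaleTopology.over S)) (Scheme.proetaleTopology.over S) := by
      rw [Functor.isContinuous_iff_coverPreserving]
      exact Functor.coverPreserving_restrictedTopology _ _
    rw [Scheme.ProEt.topology_eq_inducedTopology, ← Functor.restrictedTopology_eq_inducedTopology,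
      Functor.mem_restrictedTopology_iff, GrothendieckTopology.mem_over_iff]
    exact Iff.rfl
  haveI : PreservesFiniteLimits (CategoryTheory.Over.pullback f) :=
    have := (CategoryTheory.Over.mapPullbackAdj f).rightAdjoint_preservesLimits
    inferInstance
  haveI : PreservesFiniteLimits (F ⋙ Scheme.ProEt.forget X) :=
    haveI := comp_preservesFiniteLimits (Scheme.ProEt.forget Y) (CategoryTheory.Over.pullback f)
    preservesFiniteLimits_of_natIso (Iso.refl _ :
      Scheme.ProEt.forget Y ⋙ CategoryTheory.Over.pullback f ≅ F ⋙ Scheme.ProEt.forget X)
  haveI : PreservesFiniteLimits F := preservesFiniteLimits_of_reflects_of_preserves F (Scheme.ProEt.forget X)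
  haveI : RepresentablyFlat F := flat_of_preservesFiniteLimits _
  have hcp : CoverPreserving (Scheme.ProEt.topology Y) (Scheme.ProEt.topology X) F := by
    constructor
    intro W R hR
    rw [hiff] at hR ⊢
    refine GrothendieckTopology.superset_covering _ ?_
      (GrothendieckTopology.pullback_stable _ (pullback.fst W.hom f : (F.obj W).left ⟶ W.left) hR)
    intro Z a ha
    have ha' := (Sieve.overEquiv_iff _ _).1 ha
    obtain ⟨W', g, b, hg, hfac⟩ := ha'
    refine (Sieve.overEquiv_iff _ _).2 ?_
    have hb : a ≫ pullback.fst W.hom f = b.left ≫ g.left := congrArg (fun m => m.left) hfac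
    refine ⟨F.obj W', F.map g, CategoryTheory.Over.homMk (pullback.lift b.left (a ≫ pullback.snd W.hom f) ?_) ?_,
      Sieve.image_mem_functorPushforward F R hg, ?_⟩
    · exact ((congrArg (b.left ≫ ·) (MorphismProperty.Over.w g).symm).trans
        ((Category.assoc _ _ _).symm.trans (congrArg (· ≫ W.hom) hb.symm))).trans
        ((Category.assoc _ _ _).trans ((congrArg (a ≫ ·) pullback.condition).trans (Category.assoc _ _ _).symm))
    · exact pullback.lift_snd _ _ _
    · apply CategoryTheory.Over.OverMorphism.ext
      refine pullback.hom_ext ?_ ?_
      · refine hb.trans (((Category.assoc _ _ _).trans ?_).symm)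
        exact (congrArg (pullback.lift b.left (a ≫ pullback.snd W.hom f) _ ≫ ·) (pullback.lift_fst _ _ _)).trans
          (pullback.lift_fst_assoc _ _ _ _)
      · refine ((Category.assoc _ _ _).trans ?_).symm
        exact (congrArg (pullback.lift b.left (a ≫ pullback.snd W.hom f) _ ≫ ·) (pullback.lift_snd _ _ _)).trans
          (pullback.lift_snd _ _ _)
  exact Functor.isContinuous_of_coverPreserving (compatiblePreservingOfFlat _ F) hcp

end Groth.Agent.S0730
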