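import Groth.Statements.S0742
import Mathlib.CategoryTheory.Adjunction.Triple
import Mathlib.CategoryTheory.Monad.Adjunction
import Mathlib.CategoryTheory.Adjunction.Restrict
import Mathlib.CategoryTheory.Adjunction.Whiskering
import Mathlib.CategoryTheory.Adjunction.Opposites


set_option autoImplicit false
open CategoryTheory CategoryTheory.Limits AlgebraicGeometry Opposite
universe u
open ProEtS

namespace Groth.Agent.S0742

open MorphismProperty

theorem map_faithful_full {U X : Scheme.{u}} (j : U ⟶ X) [IsOpenImmersion j] :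
    (ProEtS.compP j).Full ∧ (ProEtS.compP j).Faithful :=
  ⟨⟨fun {A B} g => ⟨MorphismProperty.Over.homMk g.left
      ((cancel_mono j).1 (by
        have := MorphismProperty.Over.w g
        show (g.left ≫ B.hom) ≫ j = A.hom ≫ j
        rw [Category.assoc]
        exact this)), MorphismProperty.Over.Hom.ext rfl⟩⟩,
   ⟨fun {A B} g g' h => by
      exact MorphismProperty.Over.Hom.ext (congrArg (fun m => m.left) h)⟩⟩

theorem aux {U X : Scheme.{u}} (j : U ⟶ X) [IsOpenImmersion j]
    [ProEtS.JPCont j] [ProEtS.PCont j] :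
    IsIso (ProEtS.extZeroPAdj j).unit ∧ IsIso (ProEtS.pullPushAdjP j).counit := by
  haveI : WeaklyEtale j := inferInstance
  let adj : ProEtS.compP j ⊣ ProEtS.bcP j := MorphismProperty.Over.mapPullbackAdj _ ⊤ j ‹_› trivial
  obtain ⟨h₁, h₂⟩ := map_faithful_full j
  haveI := h₁
  haveI := h₂
  let e : ProEtS.compP j ⋙ ProEtS.bcP j ≅ 𝟭 _ := (asIso adj.unit).symm
  let adjP := (Adjunction.whiskerLeft (AddCommGrpCat.{u + 1}) adj.op)
  let adjS : ProEtS.restrP j ⊣ ProEtS.pushP j :=
    adjP.restrictFullyFaithful (fullyFaithfulSheafToPresheaf _ _) (fullyFaithfulSheafToPresheaf _ _)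
      (Iso.refl _) (Iso.refl _)
  haveI : (ProEtS.compP j ⋙ ProEtS.bcP j).IsContinuous (Scheme.ProEt.topology U) (Scheme.ProEt.topology U) :=
    Functor.isContinuous_comp _ _ _ (Scheme.ProEt.topology X) _
  let eS : ProEtS.pushP j ⋙ ProEtS.restrP j ≅ 𝟭 _ :=
    Functor.sheafPushforwardContinuousComp (ProEtS.compP j) (ProEtS.bcP j) AddCommGrpCat.{u + 1} _ _ _ ≪≫
      Functor.sheafPushforwardContinuousId' e _ _
  haveI : IsIso adjS.counit := adjS.isIso_counit_of_iso eS
  haveI hR := (adjS.fullyFaithfulROfIsIsoCounit).full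
  haveI hR' := (adjS.fullyFaithfulROfIsIsoCounit).faithful
  refine ⟨?_, inferInstance⟩
  let t : Adjunction.Triple (ProEtS.extZeroP j) (ProEtS.restrP j) (ProEtS.pushP j) :=
    ⟨ProEtS.extZeroPAdj j, adjS⟩
  exact t.isIso_unit_iff_isIso_counit.mpr (inferInstanceAs (IsIso adjS.counit))


/-- For an open immersion j : U -> X, the unit F -> j^{-1} j_! F and the counit j^{-1} j_* G -> G are
isomorphisms on abelian pro-etale sheaves (so j_! and j_* are fully faithful; continuity binders
assumed). -/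
theorem result {U X : Scheme.{u}} (j : U ⟶ X) [IsOpenImmersion j]
    [ProEtS.JPCont j] [ProEtS.PCont j] (F G : ProEtS.AbP U) :
    IsIso ((ProEtS.extZeroPAdj j).unit.app F) ∧ IsIso ((ProEtS.pullPushAdjP j).counit.app G) := by
  obtain ⟨h₁, h₂⟩ := aux j
  haveI := h₁
  haveI := h₂
  exact ⟨inferInstance, inferInstance⟩

end Groth.Agent.S0742
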