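import Groth.Statements.S0743


set_option autoImplicit false
open CategoryTheory CategoryTheory.Limits AlgebraicGeometry Opposite
universe u
open ProEtS

namespace Groth.Agent.S0743

/-- For an etale morphism j : U -> X and an abelian sheaf G on U_et, eps^{-1} (j_! G) and j_! (eps^{-1}
G) are isomorphic as abelian sheaves on X_proet (existence of an isomorphism; continuity binders
assumed). -/
theorem result {U X : Scheme.{u}} (j : U ⟶ X) [Etale j] [EtShriek.JCont j]
    [ProEtS.JPCont j] [ProEtS.EpsCont U] [ProEtS.EpsCont X] (G : EtCoh.Ab U) :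
    Nonempty ((ProEtS.epsPull X).obj ((EtShriek.extZero j).obj G) ≅
      (ProEtS.extZeroP j).obj ((ProEtS.epsPull U).obj G)) := by
  let e : EtShriek.compEtale j ⋙ ProEtS.eps X ≅ ProEtS.eps U ⋙ ProEtS.compP j :=
    NatIso.ofComponents (fun _ => Iso.refl _) (fun f => by
      apply MorphismProperty.Over.Hom.ext
      exact (Category.comp_id _).trans (Category.id_comp _).symm)
  haveI h₁ : (EtShriek.compEtale j ⋙ ProEtS.eps X).IsContinuous U.smallEtaleTopology (Scheme.ProEt.topology X) :=
    Functor.isContinuous_comp _ _ _ X.smallEtaleTopology _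
  haveI h₂ : (ProEtS.eps U ⋙ ProEtS.compP j).IsContinuous U.smallEtaleTopology (Scheme.ProEt.topology X) :=
    Functor.isContinuous_comp _ _ _ (Scheme.ProEt.topology U) _
  let eR : ProEtS.epsPush X ⋙ EtShriek.restrAlong j ≅ ProEtS.restrP j ⋙ ProEtS.epsPush U :=
    Functor.sheafPushforwardContinuousComp (EtShriek.compEtale j) (ProEtS.eps X) AddCommGrpCat.{u + 1} _ _ _ ≪≫
      Functor.sheafPushforwardContinuousIso e _ _ _ ≪≫
      (Functor.sheafPushforwardContinuousComp (ProEtS.eps U) (ProEtS.compP j) AddCommGrpCat.{u + 1} _ _ _).symm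
  exact ⟨((((EtShriek.extZeroAdj j).comp (ProEtS.epsAdj X)).ofNatIsoRight eR).leftAdjointUniq
    ((ProEtS.epsAdj U).comp (ProEtS.extZeroPAdj j))).app G⟩

end Groth.Agent.S0743
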