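import Groth.Statements.S0754
import Groth.Agent.Hensel.Henselization
import Groth.Agent.Hensel.IndEtale
import Groth.Agent.IndEt.Ops
import Groth.Agent.FlatMorLib.SpecStalk
import Mathlib.AlgebraicGeometry.Morphisms.WeaklyEtale

set_option autoImplicit false
open CategoryTheory CategoryTheory.Limits AlgebraicGeometry Opposite
universe u
open ProEtS

namespace Groth.Agent.S0754

/-- For a point x of a scheme X and a strict henselization R of the local ring of X at x, the canonical
morphism Spec R -> X is weakly etale, so that Spec R is an object of the small pro-etale site of X. -/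
theorem result (X : Scheme.{u}) (x : ↥X) (R : Type u) [CommRing R]
    [IsLocalRing R] [Algebra (X.presheaf.stalk x) R] [IsLocalHom (algebraMap (X.presheaf.stalk x) R)]
    [Hensel.IsStrictHenselization (X.presheaf.stalk x) R] :
    WeaklyEtale (Hens2.specOf X x R) := by
  have : IsScalarTower (X.presheaf.stalk x) (IsLocalRing.ResidueField (X.presheaf.stalk x))
      (IsLocalRing.ResidueField R) := .of_algebraMap_eq fun r ↦ rfl
  obtain ⟨e, -⟩ := Groth.Agent.Hensel.exists_algEquiv_hens_strict (R := X.presheaf.stalk x) (S := R)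
  have hW : Algebra.WeaklyEtale (X.presheaf.stalk x) R :=
    (Groth.Agent.IndEt.etFactors_of_isIndEtale (Groth.Agent.Hensel.isIndEtale_of_algEquiv_hens e)).weaklyEtale
  have h1 : WeaklyEtale (Spec.map (CommRingCat.ofHom (algebraMap (X.presheaf.stalk x) R))) := by
    have hf : Flat (Spec.map (CommRingCat.ofHom (algebraMap (X.presheaf.stalk x) R))) :=
      Flat.SpecMap_iff.mpr (RingHom.flat_algebraMap_iff.mpr hW.flat)
    refine ⟨hf, ?_⟩
    rw [diagonal_SpecMap]
    have : Flat (Spec.map (CommRingCat.ofHom
        (Algebra.TensorProduct.lmul' (X.presheaf.stalk x) : TensorProduct (X.presheaf.stalk x) R R →ₐ[X.presheaf.stalk x] R).toRingHom)) :=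
      Flat.SpecMap_iff.mpr hW.flat_lmul'
    infer_instance
  have h2 : WeaklyEtale (X.fromSpecStalk x) := by
    refine ⟨Groth.Agent.FlatMorLib.flat_fromSpecStalk x, ?_⟩
    infer_instance
  exact inferInstanceAs (WeaklyEtale (_ ≫ _))

end Groth.Agent.S0754
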