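import Groth.Statements.S0781
import Groth.Agent.SchDescent.One
import Groth.Agent.SchDescent.Morphisms


set_option autoImplicit false
set_option backward.isDefEq.respectTransparency false
set_option backward.isDefEq.respectTransparency.types false
open CategoryTheory CategoryTheory.Limits AlgebraicGeometry Opposite
universe u
open Desc

namespace Groth.Agent.S0781

/-- If p : X → S is a surjective morphism of schemes, then for schemes U₁, U₂ étale over S, two
S-morphisms U₁ → U₂ whose base changes to X agree, as morphisms of canonical descent data relative
to p, are equal; that is, the canonical-descent-datum functor is faithful on schemes étale over S.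
(Descent data are taken in functor-of-points form, equivalent by the Yoneda lemma to an isomorphism
over X ×_S X satisfying the cocycle condition.) -/
theorem result {X S : Scheme.{u}} (p : X ⟶ S) [Surjective p] (U₁ U₂ : Over S)
    [Etale U₁.hom] [Etale U₂.hom] : Function.Injective ((Desc.toDD p).map : (U₁ ⟶ U₂) → _) := by
  intro a b h
  ext1
  have hcomp : pullback.snd p U₁.hom ≫ a.left = pullback.snd p U₁.hom ≫ b.left := by
    have := congrArg (fun c : (Desc.toDD p).obj U₁ ⟶ (Desc.toDD p).obj U₂ =>
      c.hom.left ≫ pullback.snd p U₂.hom) h
    simpa [Desc.toDD, Desc.canonicalDD] using this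
  haveI : IsOpenImmersion (pullback.diagonal U₂.hom) := inferInstance
  let c : U₁.left ⟶ pullback U₂.hom U₂.hom :=
    pullback.lift a.left b.left ((Over.w a).trans (Over.w b).symm)
  let t : pullback p U₁.hom ⟶ pullback c (pullback.diagonal U₂.hom) :=
    pullback.lift (pullback.snd p U₁.hom) (pullback.snd p U₁.hom ≫ a.left)
      (pullback.hom_ext (by simp [c]) (by simp [c, hcomp]))
  have ht : t ≫ pullback.fst c (pullback.diagonal U₂.hom) = pullback.snd p U₁.hom :=
    pullback.lift_fst _ _ _
  haveI : Surjective (t ≫ pullback.fst c (pullback.diagonal U₂.hom)) := by rw [ht]; infer_instance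
  haveI : Surjective (pullback.fst c (pullback.diagonal U₂.hom)) := Surjective.of_comp t _
  haveI : IsOpenImmersion (pullback.fst c (pullback.diagonal U₂.hom)) := inferInstance
  haveI : IsIso (pullback.fst c (pullback.diagonal U₂.hom)) :=
    (isIso_iff_isOpenImmersion_and_surjective _).2 ⟨inferInstance, inferInstance⟩
  have hc : pullback.fst c (pullback.diagonal U₂.hom) ≫ a.left =
      pullback.fst c (pullback.diagonal U₂.hom) ≫ b.left := by
    have h1 := congrArg (· ≫ pullback.fst U₂.hom U₂.hom) (pullback.condition (f := c) (g := pullback.diagonal U₂.hom))
    have h2 := congrArg (· ≫ pullback.snd U₂.hom U₂.hom) (pullback.condition (f := c) (g := pullback.diagonal U₂.hom))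
    simp only [c, Category.assoc, pullback.lift_fst, pullback.diagonal_fst, Category.comp_id] at h1
    simp only [c, Category.assoc, pullback.lift_snd, pullback.diagonal_snd, Category.comp_id] at h2
    exact h1.trans h2.symm
  exact (cancel_epi _).1 hc

end Groth.Agent.S0781
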