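import Groth.Statements.S0784
import Groth.Agent.Hensel.Pairs
import Groth.Agent.Hensel.Main
import Mathlib.AlgebraicGeometry.ZariskisMainTheorem
import Mathlib.RingTheory.Unramified.LocalStructure


set_option autoImplicit false
set_option backward.isDefEq.respectTransparency false
set_option backward.isDefEq.respectTransparency.types false
open CategoryTheory CategoryTheory.Limits AlgebraicGeometry Opposite
universe u
open Desc

namespace Groth.Agent.S0784

/-- Let (A, I) be a henselian pair and g : U ⟶ Spec A quasi-compact, separated and etale such that the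
base change of U to Spec(A/I) is finite over Spec(A/I). Then U is the disjoint union of an open and
closed subscheme finite over Spec A and an open and closed subscheme with no points lying over V(I). -/
theorem result (A : Type u) [CommRing A] (I : Ideal A) [HenselianRing A I]
    {U : Scheme.{u}} (g : U ⟶ Spec (CommRingCat.of A)) [QuasiCompact g] [IsSeparated g] [Etale g]
    (hfin : IsFinite (pullback.snd g (Spec.map (CommRingCat.ofHom (Ideal.Quotient.mk I))))) :
    ∃ W : U.Opens, IsClosed (W : Set U) ∧ IsFinite (W.ι ≫ g) ∧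
      ∀ u : U, u ∉ W → ¬ I ≤ (g.base u : PrimeSpectrum A).asIdeal := by
  haveI : LocallyQuasiFinite g := by
    rw [HasRingHomProperty.iff_appLE (P := @LocallyQuasiFinite)]
    intro U' V e
    have h : (g.appLE U'.1 V.1 e).hom.Etale := HasRingHomProperty.appLE @Etale g ‹_› U' V e
    algebraize [(g.appLE U'.1 V.1 e).hom]
    exact (inferInstance : Algebra.QuasiFinite Γ(Spec (CommRingCat.of A), U'.1) Γ(U, V.1))
  haveI : IsAffine g.normalization := isAffine_of_isAffineHom g.fromNormalization
  let U' := g.normalization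
  let φ : CommRingCat.of A ⟶ Γ(U', ⊤) :=
    Spec.preimage (U'.isoSpec.inv ≫ g.fromNormalization)
  let j : U ⟶ Spec Γ(U', ⊤) := g.toNormalization ≫ U'.isoSpec.hom
  have hjq : j ≫ Spec.map φ = g := by
    simp only [j, φ, Spec.map_preimage, Category.assoc, Iso.hom_inv_id_assoc]
    exact g.toNormalization_fromNormalization
  haveI hqint : IsIntegralHom (Spec.map φ) := by
    rw [Spec.map_preimage]; infer_instance
  have hφ : φ.hom.IsIntegral := IsIntegralHom.SpecMap_iff.mp hqint
  letI : Algebra A Γ(U', ⊤) := φ.hom.toAlgebra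
  haveI : Algebra.IsIntegral A Γ(U', ⊤) := ⟨hφ⟩
  let J : Ideal Γ(U', ⊤) := I.map φ.hom
  haveI hJ : HenselianRing Γ(U', ⊤) J := Groth.Agent.Hensel.henselianRing_of_isIntegral (I := I) _
  have hmem : ∀ u : U, I ≤ (g.base u : PrimeSpectrum A).asIdeal ↔ J ≤ (j.base u).asIdeal := by
    intro u
    rw [← hjq, Scheme.Hom.comp_apply]
    exact Ideal.map_le_iff_le_comap.symm
  -- the part over `V(I)` is closed
  let c := Spec.map (CommRingCat.ofHom (Ideal.Quotient.mk I))
  haveI : IsClosedImmersion c := IsClosedImmersion.spec_of_surjective _ Ideal.Quotient.mk_surjective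
  haveI := hfin
  haveI : IsFinite (pullback.fst g c ≫ j) := by
    haveI : IsFinite ((pullback.fst g c ≫ j) ≫ Spec.map φ) := by
      rw [Category.assoc, hjq, pullback.condition]; infer_instance
    exact IsFinite.of_comp _ (Spec.map φ)
  have hTcl : IsClosed (j.base '' {u | J ≤ (j.base u).asIdeal}) := by
    have h := (pullback.fst g c ≫ j).isClosedMap.isClosed_range
    have he : Set.range (pullback.fst g c ≫ j).base = j.base '' {u | J ≤ (j.base u).asIdeal} := by
      rw [Scheme.Hom.comp_base, TopCat.coe_comp, Set.range_comp, Scheme.Pullback.range_fst]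
      congr 1
      ext u
      rw [Set.mem_setOf_eq, ← hmem, Set.mem_preimage]
      have hr : Set.range c.base = PrimeSpectrum.zeroLocus (I : Set A) :=
        (range_comap_of_surjective _ _ Ideal.Quotient.mk_surjective).trans
          (by rw [Ideal.mk_ker])
      rw [hr]
      exact Iff.rfl
    rwa [← he]
  let π := PrimeSpectrum.comap (Ideal.Quotient.mk J)
  have hπc : Continuous π := PrimeSpectrum.continuous_comap _
  have hπJ : ∀ x, J ≤ (π x).asIdeal := fun x y hy ↦ by
    change Ideal.Quotient.mk J y ∈ x.asIdeal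
    rw [Ideal.Quotient.eq_zero_iff_mem.mpr hy]; exact zero_mem _
  have hclopen : IsClopen (π ⁻¹' Set.range j.base) := by
    refine ⟨?_, j.isOpenEmbedding.isOpen_range.preimage hπc⟩
    convert hTcl.preimage hπc using 1
    ext x
    constructor
    · rintro ⟨u, hu⟩
      exact ⟨u, (Set.mem_setOf (p := fun u => J ≤ (j.base u).asIdeal)).mpr (by rw [hu]; exact hπJ x), hu⟩
    · rintro ⟨u, -, hu⟩
      exact ⟨u, hu⟩
  obtain ⟨e0, he0, hs⟩ := PrimeSpectrum.isClopen_iff.mp hclopen
  obtain ⟨b, rfl⟩ := Ideal.Quotient.mk_surjective e0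
  obtain ⟨e, he, heb⟩ := Groth.Agent.Hensel.exists_idem_lift_of_finite
    (Groth.Agent.Hensel.gabberRoot_of_henselianRing (I := J)) b (B := Γ(U', ⊤)) (by
      rw [Algebra.algebraMap_self, Ideal.map_id, ← Ideal.Quotient.eq_zero_iff_mem, map_sub,
        map_mul, he0.eq, sub_self])
  rw [Algebra.algebraMap_self, Ideal.map_id, ← Ideal.Quotient.eq] at heb
  rw [← heb] at hs
  have hiff : ∀ x : PrimeSpectrum Γ(U', ⊤), J ≤ x.asIdeal →
      (x ∈ Set.range j.base ↔ x ∈ PrimeSpectrum.basicOpen e) := by
    intro x hx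
    obtain ⟨y, rfl⟩ : x ∈ Set.range π := by
      rw [range_comap_of_surjective _ _ Ideal.Quotient.mk_surjective, Ideal.mk_ker]
      exact hx
    exact Set.ext_iff.mp hs y
  let D : Set (PrimeSpectrum Γ(U', ⊤)) := PrimeSpectrum.basicOpen e
  have hDcl : IsClosed D := by
    have h : IsClopen D := PrimeSpectrum.isClopen_iff.mpr ⟨e, he, rfl⟩
    exact h.1
  have hsub : D ⊆ Set.range j.base := by
    intro x hx
    by_contra hxr
    obtain ⟨m, hm, hle⟩ := Ideal.exists_le_maximal _ x.isPrime.ne_top
    let xm : PrimeSpectrum Γ(U', ⊤) := ⟨m, hm.isPrime⟩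
    have hJm : J ≤ xm.asIdeal := (hJ.jac.trans (sInf_le ⟨bot_le, hm⟩))
    have hspec : x ⤳ xm := (PrimeSpectrum.le_iff_specializes x xm).mp hle
    have hxmD : xm ∈ D := hspec.mem_closed hDcl hx
    exact hxr (hspec.mem_open j.isOpenEmbedding.isOpen_range ((hiff xm hJm).mpr hxmD))
  let W : U.Opens := j ⁻¹ᵁ PrimeSpectrum.basicOpen e
  have hWcl : IsClosed (W : Set U) := hDcl.preimage j.continuous
  refine ⟨W, hWcl, ?_, fun u hu hI ↦ hu ?_⟩
  · haveI : IsClosedImmersion (W.ι ≫ j) := IsClosedImmersion.of_isPreimmersion _ (by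
      have he : Set.range (W.ι ≫ j).base = D := by
        rw [Scheme.Hom.comp_base, TopCat.coe_comp, Set.range_comp, Scheme.Opens.range_ι]
        exact Set.image_preimage_eq_of_subset hsub
      rw [he]; exact hDcl)
    rw [IsFinite.iff_isIntegralHom_and_locallyOfFiniteType]
    refine ⟨?_, inferInstance⟩
    rw [← hjq, ← Category.assoc]
    infer_instance
  · exact (hiff _ ((hmem u).mp hI)).mp ⟨u, rfl⟩

end Groth.Agent.S0784
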