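import Groth.Statements.S0789
import Groth.Agent.ProperOver.Basic

set_option autoImplicit false
universe u
open Coherent

namespace Groth.Agent.S0789

open CategoryTheory AlgebraicGeometry in
/-- Let X and Y be schemes locally of finite type over S and f : X → Y a universally closed morphism
over S. If Z ⊆ X is closed and proper over S, its image f(Z) is again closed in Y and proper over S. -/
theorem result {X Y S : Scheme.{u}} (p : X ⟶ S) (q : Y ⟶ S)
    [LocallyOfFiniteType p] [LocallyOfFiniteType q] (f : X ⟶ Y) [UniversallyClosed f] (w : f ≫ q = p)
    (Z : Set X) (hZ : ClSub.IsProperOver p Z) : ClSub.IsProperOver q (⇑f '' Z) := by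
  obtain ⟨hc, hp⟩ := hZ
  let c := (Groth.Agent.ProperOver.red hc).subschemeι ≫ f
  haveI : IsProper (c ≫ q) := by
    simp only [c, Category.assoc, w]
    exact hp
  haveI : UniversallyClosed c := inferInstanceAs (UniversallyClosed ((Groth.Agent.ProperOver.red hc).subschemeι ≫ f))
  have h := Groth.Agent.ProperOver.isProperOver_range q c
  have hr : Set.range c = ⇑f '' Z := by
    simp only [c]
    rw [← congrArg (fun A => (fun a => f a) '' A) (Groth.Agent.ProperOver.range_red hc), ← Set.range_comp]
    rfl
  rwa [hr] at h

end Groth.Agent.S0789
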