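import Groth.Statements.S0792
import Groth.Agent.ClPush.AnnIdeal
import Groth.Agent.ClPush.Killed
import Groth.Agent.ProperOver.Basic
import Groth.Agent.QCohPull.Affine
import Groth.Agent.QCohBase.FiniteTypePullback

set_option autoImplicit false
universe u
open Coherent

namespace Groth.Agent.S0792

open AlgebraicGeometry CategoryTheory in
theorem subsingleton_stalk {X Z : Scheme.{u}} (i : Z ⟶ X) [IsClosedImmersion i] (G : Z.Modules)
    {F : X.Modules} (e : (Scheme.Modules.pushforward i).obj G ≅ F) {x : X} (hx : x ∉ Set.range i) :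
    Subsingleton (F.presheaf.stalk x) := by
  refine subsingleton_of_forall_eq 0 fun z => ?_
  obtain ⟨W, hxW, t, rfl⟩ := TopCat.Presheaf.exists_germ_eq F.presheaf z
  let N : X.Opens := ⟨(Set.range i)ᶜ, i.isClosedEmbedding.isClosed_range.isOpen_compl⟩
  rw [← TopCat.Presheaf.germ_res_apply F.presheaf (homOfLE (inf_le_left : W ⊓ N ≤ W)) x ⟨hxW, hx⟩ t]
  have hbot : i ⁻¹ᵁ (W ⊓ N) = ⊥ := le_bot_iff.1 fun y hy => hy.2 ⟨y, rfl⟩
  haveI : Subsingleton Γ((Scheme.Modules.pushforward i).obj G, W ⊓ N) := by
    show Subsingleton Γ(G, i ⁻¹ᵁ (W ⊓ N))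
    rw [hbot]
    haveI : Subsingleton Γ(Z, ⊥) := inferInstance
    exact Module.subsingleton Γ(Z, ⊥) _
  haveI : Subsingleton Γ(F, W ⊓ N) :=
    (ConcreteCategory.bijective_of_isIso (e.hom.app (W ⊓ N))).2.subsingleton
  refine Eq.trans (congrArg _ (Subsingleton.elim _ (0 : Γ(F, W ⊓ N)))) (map_zero _)

open CategoryTheory AlgebraicGeometry in
/-- Let f : X → S be locally of finite type and F a quasi-coherent O_X-module of finite type. The
support of F is proper over S if and only if there are a closed subscheme i : Z → X with Z proper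
over S and a quasi-coherent O_Z-module G of finite type with i_* G isomorphic to F. (The published
statement also gives a further equivalent condition, that the scheme-theoretic support of F is
proper over S; it is not used here.) -/
theorem result {X S : Scheme.{u}} (f : X ⟶ S) [LocallyOfFiniteType f]
    (F : X.Modules) (hq : Coh.IsQCoh F) (hft : CohB1.IsFT F) :
    ClSub.IsProperOver f (CohB1.support F) ↔
      ∃ (Z : Scheme.{u}) (i : Z ⟶ X), IsClosedImmersion i ∧ IsProper (i ≫ f) ∧
        ∃ G : Z.Modules, Coh.IsQCoh G ∧ CohB1.IsFT G ∧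
          Nonempty ((Scheme.Modules.pushforward i).obj G ≅ F) := by
  constructor
  · intro hp
    haveI : F.IsQuasicoherent := hq
    let J := Groth.Agent.ClPush.annIdeal F hft
    have hunit := Groth.Agent.ClPush.isIso_unit_of_killed J.subschemeι (G := F)
      (by rw [Scheme.IdealSheafData.ker_subschemeι]; exact Groth.Agent.ClPush.killedByIdeal_annIdeal F hft)
    refine ⟨J.subscheme, J.subschemeι, inferInstance, ?_, (Scheme.Modules.pullback J.subschemeι).obj F,
      Groth.Agent.QCohPull.isQuasicoherent_pullback J.subschemeι F,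
      Groth.Agent.QCohBase.isFT_pullback J.subschemeι hft, ⟨(CategoryTheory.asIso
        ((Scheme.Modules.pullbackPushforwardAdjunction J.subschemeι).unit.app F)).symm⟩⟩
    exact (Groth.Agent.ProperOver.isProperOver_iff f J.subschemeι
      (Scheme.IdealSheafData.range_subschemeι J)).1 hp
  · rintro ⟨Z, i, hi, hp, G, -, -, ⟨e⟩⟩
    refine Groth.Agent.ProperOver.isProperOver_mono f
      ((Groth.Agent.ProperOver.isProperOver_iff f i rfl).2 hp) (fun x hx => ?_)
      (Groth.Agent.QCohBase.isClosed_support F hft)
    by_contra hr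
    exact hx (Groth.Agent.S0792.subsingleton_stalk i G e hr)

end Groth.Agent.S0792
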