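import Groth.Statements.S0797
-- import your own Groth.Agent.* helpers here

set_option autoImplicit false
universe u
open Formal2

namespace Groth.Agent.S0797

/-- The module-theoretic heart, over a base that is already complete (so that the completion of A is A).
Let A be Noetherian and I-adically complete, and let (M_n, f_n : M_{n+1} → M_n) be an inverse system
of finite A-modules with M_n annihilated by I^(n+1) and f_n surjective with kernel I^(n+1) M_{n+1}
(indices shifted by one). Then the A-module of compatible sequences is finitely generated, each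
projection to M_n is surjective, and its kernel is I^(n+1) times the module of compatible sequences. -/
theorem result (A : Type u) [CommRing A] [IsNoetherianRing A] (I : Ideal A)
    [IsAdicComplete I A] (M : ℕ → Type u) [∀ n, AddCommGroup (M n)] [∀ n, Module A (M n)]
    [∀ n, Module.Finite A (M n)] (f : ∀ n, M (n + 1) →ₗ[A] M n) (hf : ∀ n, Function.Surjective (f n))
    (hk : ∀ n, I ^ (n + 1) • (⊤ : Submodule A (M n)) = ⊥)
    (hker : ∀ n, LinearMap.ker (f n) = I ^ (n + 1) • (⊤ : Submodule A (M (n + 1))))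
    (L : Submodule A (∀ n, M n)) (hL : ∀ x : ∀ n, M n, x ∈ L ↔ ∀ n, f n (x (n + 1)) = x n) :
    Module.Finite A L ∧ ∀ n, Function.Surjective ((LinearMap.proj n).comp L.subtype : L →ₗ[A] M n) ∧
      LinearMap.ker ((LinearMap.proj n).comp L.subtype : L →ₗ[A] M n) = I ^ (n + 1) • (⊤ : Submodule A L) := by
  classical
  have hmemL : ∀ (y : L) (n : ℕ), f n (y.1 (n + 1)) = y.1 n := fun y n => (hL y.1).mp y.2 n
  obtain ⟨r, g, hg⟩ := Module.Finite.exists_fin (R := A) (M := M 0)
  choose sec hsec using hf
  let lift : Fin r → L := fun j =>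
    ⟨fun n => Nat.rec (motive := fun n => M n) (g j) (fun n y => sec n y) n,
      (hL _).mpr fun n => hsec n _⟩
  let φ : ∀ n, (Fin r → A) →ₗ[A] M n := fun n => Fintype.linearCombination A (fun j => (lift j).1 n)
  let Φ : (Fin r → A) →ₗ[A] L := Fintype.linearCombination A lift
  have hΦ : ∀ n a, (Φ a).1 n = φ n a := by
    intro n a
    simp only [Φ, φ, Fintype.linearCombination_apply, Submodule.coe_sum, Finset.sum_apply]
    rfl
  have hcomp : ∀ n a, f n (φ (n + 1) a) = φ n a := fun n a => by rw [← hΦ, ← hΦ, hmemL]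
  have hdown : ∀ (d m : ℕ) (a : Fin r → A) (y : L), φ (m + d) a = y.1 (m + d) → φ m a = y.1 m := by
    intro d
    induction d with
    | zero => intro m a y h; exact h
    | succ d ih =>
      intro m a y h
      refine ih m a y ?_
      have h' : φ (m + d + 1) a = y.1 (m + d + 1) := h
      rw [← hcomp, h', hmemL]
  have hsurj1 : ∀ n, (⊤ : Submodule A (M n)) ≤ LinearMap.range (φ n) ⊔ I • ⊤ := by
    intro n
    induction n with
    | zero =>
      refine le_sup_of_le_left (hg.ge.trans (Submodule.span_le.mpr ?_))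
      rintro _ ⟨j, rfl⟩
      refine ⟨Pi.single j 1, ?_⟩
      show φ 0 (Pi.single j 1) = g j
      simp [φ, lift]
    | succ n ih =>
      intro z _
      obtain ⟨w, ⟨a, rfl⟩, v, hv, hwv⟩ := Submodule.mem_sup.mp (ih (Submodule.mem_top (x := f n z)))
      have hv' : v ∈ Submodule.map (f n) (I • ⊤) := by
        rw [Submodule.map_smul'', Submodule.map_top,
          LinearMap.range_eq_top.mpr fun y => ⟨sec n y, hsec n y⟩]
        exact hv
      obtain ⟨v', hv1, hv2⟩ := hv'
      have hk : z - φ (n + 1) a - v' ∈ LinearMap.ker (f n) := by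
        rw [LinearMap.mem_ker, map_sub, map_sub, hcomp, hv2, ← hwv]
        abel
      rw [hker] at hk
      have hk' : z - φ (n + 1) a - v' ∈ I • (⊤ : Submodule A (M (n + 1))) :=
        Submodule.smul_mono_left (Ideal.pow_le_self (Nat.succ_ne_zero n)) hk
      rw [show z = φ (n + 1) a + (v' + (z - φ (n + 1) a - v')) from by abel]
      exact add_mem (Submodule.mem_sup_left ⟨a, rfl⟩) (Submodule.mem_sup_right (add_mem hv1 hk'))
  have hsurj : ∀ n, LinearMap.range (φ n) = ⊤ := by
    intro n
    have key : ∀ k, (⊤ : Submodule A (M n)) ≤ LinearMap.range (φ n) ⊔ I ^ k • ⊤ := by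
      intro k
      induction k with
      | zero => rw [pow_zero, Ideal.one_eq_top, Submodule.top_smul]; exact le_sup_right
      | succ k ih =>
        refine ih.trans (sup_le le_sup_left ?_)
        calc I ^ k • (⊤ : Submodule A (M n)) ≤ I ^ k • (LinearMap.range (φ n) ⊔ I • ⊤) :=
              Submodule.smul_mono le_rfl (hsurj1 n)
          _ ≤ LinearMap.range (φ n) ⊔ I ^ (k + 1) • ⊤ := by
              rw [Submodule.smul_sup, ← Submodule.mul_smul, ← pow_succ]
              exact sup_le_sup Submodule.smul_le_right le_rfl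
    have h := key (n + 1)
    rw [hk n, sup_bot_eq] at h
    exact top_le_iff.mp h
  have hcoord : ∀ (k : ℕ) (a : Fin r → A), a ∈ I ^ k • (⊤ : Submodule A (Fin r → A)) → ∀ j, a j ∈ I ^ k := by
    intro k a ha j
    refine Submodule.smul_induction_on ha (fun c hc b _ => ?_) fun b c hb hc => add_mem hb hc
    exact Ideal.mul_mem_right _ _ hc
  have hkill : ∀ (m : ℕ) (a : Fin r → A), (∀ j, a j ∈ I ^ (m + 1)) → φ m a = 0 := by
    intro m a ha
    rw [← Submodule.mem_bot A, ← hk m]
    simp only [φ, Fintype.linearCombination_apply]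
    exact sum_mem fun j _ => Submodule.smul_mem_smul (ha j) Submodule.mem_top
  have main : ∀ (N : ℕ) (y : L), y.1 N = 0 → ∃ a : Fin r → A, (∀ j, a j ∈ I ^ (N + 1)) ∧ Φ a = y := by
    intro N y hy
    have step : ∀ (k : ℕ) (c : Fin r → A), φ (N + k) c = y.1 (N + k) →
        ∃ d : Fin r → A, φ (N + k + 1) (c + d) = y.1 (N + k + 1) ∧ ∀ j, d j ∈ I ^ (N + k + 1) := by
      intro k c hc
      have h1 : y.1 (N + k + 1) - φ (N + k + 1) c ∈ LinearMap.ker (f (N + k)) := by
        rw [LinearMap.mem_ker, map_sub, hcomp, hmemL, hc, sub_self]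
      rw [hker, ← hsurj (N + k + 1), LinearMap.range_eq_map, ← Submodule.map_smul''] at h1
      obtain ⟨d, hd, hd2⟩ := h1
      exact ⟨d, by rw [map_add, hd2, add_sub_cancel], hcoord _ d hd⟩
    choose d hd1 hd2 using step
    let c : ∀ k : ℕ, {a : Fin r → A // φ (N + k) a = y.1 (N + k) ∧ ∀ j, a j ∈ I ^ (N + 1)} := fun k =>
      Nat.rec (motive := fun k => {a : Fin r → A // φ (N + k) a = y.1 (N + k) ∧ ∀ j, a j ∈ I ^ (N + 1)})
        ⟨0, by rw [map_zero]; exact hy.symm, fun j => Submodule.zero_mem _⟩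
        (fun k a => ⟨a.1 + d k a.1 a.2.1, hd1 k a.1 a.2.1, fun j =>
          add_mem (a.2.2 j) (Ideal.pow_le_pow_right (by omega) (hd2 k a.1 a.2.1 j))⟩) k
    have hcs : ∀ k j, (c (k + 1)).1 j - (c k).1 j ∈ I ^ k := by
      intro k j
      show (c k).1 j + d k _ _ j - (c k).1 j ∈ _
      rw [add_sub_cancel_left]
      exact Ideal.pow_le_pow_right (by omega) (hd2 k _ _ j)
    have hcc : ∀ (j : Fin r) {m n : ℕ}, m ≤ n → (c m).1 j ≡ (c n).1 j [SMOD (I ^ m • ⊤ : Submodule A A)] := by
      intro j m n hmn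
      induction hmn with
      | refl => rfl
      | @step n hmn ih =>
        refine ih.trans ?_
        rw [SModEq.sub_mem, smul_eq_mul, Ideal.mul_top, ← neg_sub]
        exact Submodule.neg_mem _ (Ideal.pow_le_pow_right hmn (hcs n j))
    choose a ha using fun j => IsPrecomplete.prec (IsAdicComplete.toIsPrecomplete (I := I) (M := A)) (hcc j)
    simp only [SModEq.sub_mem, smul_eq_mul, Ideal.mul_top] at ha
    refine ⟨a, fun j => ?_, ?_⟩
    · have := sub_mem ((c (N + 1)).2.2 j) (ha j (N + 1))
      rwa [sub_sub_cancel] at this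
    · ext1
      funext m
      rw [hΦ]
      have h1 : φ m (c (m + 1)).1 = y.1 m :=
        hdown (N + 1) m (c (m + 1)).1 y (by
          rw [show m + (N + 1) = N + (m + 1) by omega]; exact (c (m + 1)).2.1)
      rw [← h1, eq_comm, ← sub_eq_zero, ← map_sub]
      exact hkill m _ fun j => ha j (m + 1)
  have hΦsurj : Function.Surjective Φ := by
    intro y
    obtain ⟨a0, ha0⟩ := LinearMap.range_eq_top.mp (hsurj 0) (y.1 0)
    obtain ⟨a, -, ha⟩ := main 0 (y - Φ a0) (by
      show y.1 0 - (Φ a0).1 0 = 0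
      rw [hΦ, ha0, sub_self])
    exact ⟨a + a0, by rw [map_add, ha, sub_add_cancel]⟩
  refine ⟨Module.Finite.of_surjective Φ hΦsurj, fun n => ⟨fun z => ?_, le_antisymm ?_ ?_⟩⟩
  · obtain ⟨a, ha⟩ := LinearMap.range_eq_top.mp (hsurj n) z
    exact ⟨Φ a, (hΦ n a).trans ha⟩
  · intro y hy
    obtain ⟨a, ha, rfl⟩ := main n y hy
    simp only [Φ, Fintype.linearCombination_apply]
    exact sum_mem fun j _ => Submodule.smul_mem_smul (ha j) Submodule.mem_top
  · refine Submodule.smul_le.mpr fun c hc y _ => ?_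
    show (c • y).1 n = 0
    rw [← Submodule.mem_bot A, ← hk n]
    exact Submodule.smul_mem_smul hc Submodule.mem_top

end Groth.Agent.S0797
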