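import Groth.Statements.S0825
import Groth.Agent.LocCohBasic.Transform
-- import your own Groth.Agent.* helpers here

set_option autoImplicit false
universe u
open scoped BigOperators
open LocCoh

namespace Groth.Agent.S0825

/-- Let A be a Noetherian ring and I the ideal generated by f_1, …, f_r, with cohomological dimension
exactly 1. Then there are c ≥ 1 and A-linear maps φ_j : I^c → A such that x = Σ_j f_j φ_j(x) for
every x ∈ I^c. -/
theorem result (A : Type u) [CommRing A] [IsNoetherianRing A] (r : ℕ) (f : Fin r → A)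
    (h₁ : LocCoh.CdLE A (Ideal.span (Set.range f)) 1) (h₀ : ¬ LocCoh.CdLE A (Ideal.span (Set.range f)) 0) :
    ∃ (c : ℕ) (φ : Fin r → (↥(Ideal.span (Set.range f) ^ (c + 1)) →ₗ[A] A)),
      ∀ x : ↥(Ideal.span (Set.range f) ^ (c + 1)), (x : A) = ∑ j, f j * φ j x := by
  classical
  let I := Ideal.span (Set.range f)
  let π : (Fin r → A) →ₗ[A] ↥I := (Fintype.linearCombination A f).codRestrict I fun x => by
    show _ ∈ Submodule.span A (Set.range f)
    rw [← Fintype.range_linearCombination]; exact LinearMap.mem_range_self _ x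
  have hπ : Function.Surjective π := fun x => by
    obtain ⟨v, hv⟩ : (x : A) ∈ LinearMap.range (Fintype.linearCombination A f) := by
      rw [Fintype.range_linearCombination]; exact x.2
    exact ⟨v, Subtype.ext hv⟩
  let S := ModuleCat.shortComplexOfCompEqZero (LinearMap.ker π).subtype π (LinearMap.comp_ker_subtype π)
  have hS : S.ShortExact := ModuleCat.shortComplex_shortExact _ (LinearMap.exact_subtype_ker_map π)
    (Submodule.injective_subtype _) hπ
  let f0 : LocCohBasic.PI I 1 ⟶ S.X₃ :=
    ModuleCat.ofHom (Submodule.inclusion (le_of_eq (pow_one I)))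
  obtain ⟨y, hy⟩ := LocCohBasic.exists_of_deltaDT_eq_zero I hS (LocCohBasic.dloc I S.X₃ 1 f0)
    ((h₁ S.X₁ 2 (by omega)).elim _ _)
  obtain ⟨k, g, rfl⟩ := LocCohBasic.exists_dloc I y
  have hk : k ≤ max k 1 := le_max_left _ _
  have h1' : 1 ≤ max k 1 := le_max_right _ _
  rw [LocCohBasic.map_dloc, ← LocCohBasic.dloc_pincl I hk,
    ← LocCohBasic.dloc_pincl I h1' f0, ← sub_eq_zero, ← map_sub,
    LocCohBasic.dloc_eq_zero_iff] at hy
  obtain ⟨l, hl, hyl⟩ := hy
  let ψ : ↥(I ^ (l + 1)) →ₗ[A] (Fin r → A) :=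
    g.hom.comp (Submodule.inclusion (Ideal.pow_le_pow_right (by omega : k ≤ l + 1)))
  refine ⟨l, fun j => (LinearMap.proj j).comp ψ, fun x => ?_⟩
  have h := congrArg (fun t : LocCohBasic.PI I l ⟶ S.X₃ =>
    ((t (Submodule.inclusion (Ideal.pow_le_pow_right (Nat.le_succ l)) x) : ↥I) : A)) hyl
  change (Fintype.linearCombination A f (ψ x)) - (x : A) = 0 at h
  rw [sub_eq_zero, Fintype.linearCombination_apply] at h
  refine h.symm.trans (Finset.sum_congr rfl fun j _ => ?_)
  simp [smul_eq_mul, mul_comm]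

end Groth.Agent.S0825
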