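import Groth.Statements.S0826
import Groth.Agent.RlimMilnor.QCoh
-- import your own Groth.Agent.* helpers here

set_option autoImplicit false
universe u
open Formal2

namespace Groth.Agent.S0826

open CategoryTheory CategoryTheory.Limits AlgebraicGeometry in
/-- Part (2), for the ideal sheaf generated by an ideal I of a base ring A. Let X be a scheme over Spec
A and (G_n) an inverse system of quasi-coherent O_X-modules with G_n killed by I^(n+1) and G_n =
G_{n+1}/I^(n+1)G_{n+1} (indices shifted by one). Then the limit O_X-module lim G_n has vanishing
cohomology in positive degrees over every affine open of X. -/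
theorem result (A : Type u) [CommRing A] (I : Ideal A) (X : Scheme.{u})
    [X.Over (Spec (CommRingCat.of A))] (G : ℕᵒᵖ ⥤ X.Modules) (hG : Formal2.IsQCohFormal I G)
    (U : X.Opens) (hU : IsAffineOpen U) (p : ℕ) (hp : 0 < p) :
    Subsingleton (Coh.HHon X (limit G) U p) := by
  open CategoryTheory CategoryTheory.Limits AlgebraicGeometry in
    exact (by
    set_option backward.isDefEq.respectTransparency false in
      obtain ⟨q, rfl⟩ := Nat.exists_eq_add_of_le' hp
      obtain ⟨e⟩ := Groth.Agent.CohTopLib.nonempty_HU_restr (X := X.toTopCat)
        ((SheafOfModules.toSheaf X.ringCatSheaf).obj (limit G)) U (q + 1)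
      haveI := Groth.Agent.RlimMilnor.subsingleton_HU_limit hG hU q
      exact e.symm.toEquiv.subsingleton)

end Groth.Agent.S0826
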