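import Groth.Statements.S0827
import Groth.Agent.RlimMilnor.QCoh
-- import your own Groth.Agent.* helpers here

set_option autoImplicit false
universe u
open Formal2

namespace Groth.Agent.S0827

open CategoryTheory CategoryTheory.Limits AlgebraicGeometry Opposite in
/-- Part (3), for the ideal sheaf generated by an ideal I of a base ring A. Let X be a scheme over Spec
A and (G_n) an inverse system of quasi-coherent O_X-modules with G_n killed by I^(n+1) and G_n =
G_{n+1}/I^(n+1)G_{n+1}. Then for every p there is a short exact sequence 0 → R^1 lim_n H^p(X, G_n) →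
H^(p+1)(X, lim G_n) → lim_n H^(p+1)(X, G_n) → 0 of abelian groups, the second map being induced by
the projections lim G_n → G_n (the degree-0 statement is not restated). -/
theorem result (A : Type u) [CommRing A] (I : Ideal A) (X : Scheme.{u})
    [X.Over (Spec (CommRingCat.of A))] (G : ℕᵒᵖ ⥤ X.Modules) (hG : Formal2.IsQCohFormal I G) (p : ℕ) :
    ∃ (α : Formal2.limOne (fun n => Coh.HH X (G.obj (op n)) p) (Formal2.HHsysMap G p) →+
        Coh.HH X (limit G) (p + 1))
      (β : Coh.HH X (limit G) (p + 1) →+
        Formal2.limZero (fun n => Coh.HH X (G.obj (op n)) (p + 1)) (Formal2.HHsysMap G (p + 1))),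
      Function.Injective α ∧ Function.Surjective β ∧ α.range = β.ker ∧
      ∀ (x : Coh.HH X (limit G) (p + 1)) (n : ℕ),
        (β x : ∀ n, Coh.HH X (G.obj (op n)) (p + 1)) n =
          Sheaf.H.map ((SheafOfModules.toSheaf _).map (limit.π G (op n))) (p + 1) x := by
  open CategoryTheory CategoryTheory.Limits CategoryTheory.Abelian Opposite AlgebraicGeometry Groth.Agent.RlimMilnor in
    exact (by
    set_option backward.isDefEq.respectTransparency false in
      let Z : CohTop.Ab X.toTopCat := (constantSheaf (Opens.grothendieckTopology X.toTopCat) AddCommGrpCat.{u}).obj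
        (AddCommGrpCat.of (ULift ℤ))
      obtain ⟨h1, δ, hδ1, hδ2⟩ := milnor_formal hG Z (p + 1) p rfl
      let toL : Ext.{u} Z ((SheafOfModules.toSheaf _).obj (limit G)) (p + 1) →+ Ext.{u} Z (limit (abTower G)) (p + 1) :=
        (Ext.mk₀ (limIso G).hom).postcomp Z (add_zero (p + 1))
      let ofL : Ext.{u} Z (limit (abTower G)) (p + 1) →+ Ext.{u} Z ((SheafOfModules.toSheaf _).obj (limit G)) (p + 1) :=
        (Ext.mk₀ (limIso G).inv).postcomp Z (add_zero (p + 1))
      have hof : ∀ y, toL (ofL y) = y := fun y => by
        show (y.comp (Ext.mk₀ _) (add_zero _)).comp (Ext.mk₀ _) (add_zero _) = y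
        simp
      have hto : ∀ y, ofL (toL y) = y := fun y => by
        show (y.comp (Ext.mk₀ _) (add_zero _)).comp (Ext.mk₀ _) (add_zero _) = y
        simp
      let H : (n : ℕ) → Ext.{u} Z ((SheafOfModules.toSheaf _).obj (limit G)) (p + 1) →+
          Ext.{u} Z ((abTower G).obj (op n)) (p + 1) :=
        fun n => Sheaf.H.map ((SheafOfModules.toSheaf _).map (limit.π G (op n))) (p + 1)
      have hH : ∀ n y, H n y = (toL y).comp (Ext.mk₀ (limit.π (abTower G) (op n))) (add_zero (p + 1)) := fun n y => by
        show y.comp (Ext.mk₀ _) (add_zero _) = (y.comp (Ext.mk₀ (limIso G).hom) (add_zero _)).comp (Ext.mk₀ _) (add_zero _)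
        rw [Ext.comp_assoc_of_second_deg_zero, Ext.mk₀_comp_mk₀, limIso_π]
      have hrange : (extDiff Z (abTower G) p).range = (Formal2.towerDiff _ (Formal2.HHsysMap G p)).range := rfl
      let α : Formal2.limOne (fun n => Coh.HH X (G.obj (op n)) p) (Formal2.HHsysMap G p) →+ Coh.HH X (limit G) (p + 1) :=
        QuotientAddGroup.lift _ (ofL.comp δ) (fun x hx => by
          replace hx : x ∈ δ.ker := hδ2.symm ▸ (show x ∈ (extDiff Z (abTower G) p).range from hx)
          show ofL (δ x) = 0
          exact (congrArg ofL (AddMonoidHom.mem_ker.1 hx)).trans (map_zero ofL))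
      let β : Coh.HH X (limit G) (p + 1) →+
          Formal2.limZero (fun n => Coh.HH X (G.obj (op n)) (p + 1)) (Formal2.HHsysMap G (p + 1)) :=
        (AddMonoidHom.pi H).codRestrict _ (fun y => funext fun n => by
          show H n y - Sheaf.H.map _ (p + 1) (H (n + 1) y) = 0
          rw [sub_eq_zero]
          show Sheaf.H.map _ (p + 1) y = Sheaf.H.map _ (p + 1) (Sheaf.H.map _ (p + 1) y)
          rw [← Sheaf.H.map_comp_apply, ← Functor.map_comp, limit.w])
      refine ⟨α, β, ?_, ?_, ?_, fun x n => rfl⟩
      · rw [injective_iff_map_eq_zero]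
        intro a ha
        obtain ⟨x, rfl⟩ := QuotientAddGroup.mk_surjective a
        rw [QuotientAddGroup.eq_zero_iff]
        show x ∈ (extDiff Z (abTower G) p).range
        rw [← hδ2, AddMonoidHom.mem_ker]
        exact (hof _).symm.trans ((congrArg toL ha).trans (map_zero _))
      · rintro ⟨ξ, hξ⟩
        obtain ⟨η, hη⟩ := h1 ξ (fun n => (sub_eq_zero.1 (congrFun hξ n)).symm)
        refine ⟨ofL η, Subtype.ext (funext fun n => ?_)⟩
        show H n (ofL η) = ξ n
        rw [hH, hof, hη]
      · refine SetLike.ext fun y => ?_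
        constructor
        · rintro ⟨a, rfl⟩
          obtain ⟨x, rfl⟩ := QuotientAddGroup.mk_surjective a
          refine Subtype.ext (funext fun n => ?_)
          show H n (ofL (δ x)) = 0
          rw [hH, hof]
          exact (hδ1 _).2 ⟨x, rfl⟩ n
        · intro hy
          obtain ⟨x, hx⟩ := (hδ1 (toL y)).1 (fun n => by
            rw [← hH]; exact congrFun (congrArg Subtype.val (AddMonoidHom.mem_ker.1 hy)) n)
          exact ⟨QuotientAddGroup.mk x, (congrArg ofL hx).trans (hto y)⟩)

end Groth.Agent.S0827
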