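import Groth.Statements.S0837
import Groth.Agent.FormalFun.Graded
import Groth.Agent.FormalFun.Main

set_option autoImplicit false
universe u
open Coherent

namespace Groth.Agent.S0837

open CategoryTheory CategoryTheory.Limits AlgebraicGeometry in
/-- Let A be a Noetherian ring, I an ideal, X proper over Spec A and F a coherent O_X-module. For every
p there is c ≥ 0 such that for all n ≥ c the kernel of H^p(X, I^nF) → H^p(X, F) equals the kernel of
H^p(X, I^nF) → H^p(X, I^(n−c)F). (Here I^nF ⊆ F is the kernel of F → F/I^nF.) -/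
theorem result (A : Type u) [CommRing A] [IsNoetherianRing A]
    (I : Ideal A) (X : Scheme.{u}) [X.Over (Spec (CommRingCat.of A))] [IsProper (X ↘ Spec (CommRingCat.of A))]
    (F : X.Modules) (hF : Coh.IsCoh F) (p : ℕ) :
    ∃ c : ℕ, ∀ (n : ℕ) (h : c ≤ n),
      (Sheaf.H.map ((SheafOfModules.toSheaf _).map (Formal2.idealPowModι I n F)) p).ker =
        (Sheaf.H.map ((SheafOfModules.toSheaf _).map (Formal2.idealPowIncl I (Nat.sub_le n c) F)) p).ker := by
  haveI := LocallyOfFiniteType.isLocallyNoetherian (X ↘ Spec (CommRingCat.of A))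
  haveI : CompactSpace X := QuasiCompact.compactSpace_of_compactSpace (X ↘ Spec (CommRingCat.of A))
  obtain ⟨c, hc⟩ := Groth.Agent.FormalFun.exists_ker_incl (I := I) hF
    (Groth.Agent.FormalFun.finiteOn_of_isProper _) p
  refine ⟨c, fun n h => ?_⟩
  have e := Groth.Agent.FormalFun.idealPowIncl_eq F I (Nat.sub_le n c)
  ext x
  simp only [AddMonoidHom.mem_ker]
  refine ⟨fun hx => ?_, fun hx => ?_⟩
  · rw [e]
    exact hc (n - c) n (Nat.sub_le n c) (by omega) x hx
  · refine (congrArg (fun φ => Sheaf.H.map ((SheafOfModules.toSheaf _).map φ) p x)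
      (show Formal2.idealPowModι I n F = Formal2.idealPowIncl I (Nat.sub_le n c) F ≫
        Formal2.idealPowModι I (n - c) F from (Limits.kernel.lift_ι _ _ _).symm)).trans ?_
    exact (Formal.HHmap_comp _ _ p x).symm.trans ((congrArg _ hx).trans (map_zero _))

end Groth.Agent.S0837
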