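import Groth.Statements.S0855
import Groth.Agent.QCTopos.RpushColim
import Groth.Agent.LimCxLib.Sheaf

set_option autoImplicit false
universe u
open CategoryTheory
open CohTop

namespace Groth.Agent.S0855

open TopologicalSpace Opposite CategoryTheory.Limits in
/-- For a continuous map f : X -> Y, a diagram (F_i) of abelian sheaves on X and p ≥ 0: if the opens V
of Y for which the canonical map colim_i H^p(f^{-1}V, F_i) -> H^p(f^{-1}V, colim F_i) is an
isomorphism form a basis of the topology of Y, then colim_i R^p f_* F_i -> R^p f_* (colim F_i) is an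
isomorphism. Both commutations are phrased as preservation of the colimit by the functor in
question. -/
theorem result {X Y : TopCat.{u}} (f : X ⟶ Y)
    {ι : Type u} [SmallCategory ι] (F : ι ⥤ CohTop.Ab X) (p : ℕ)
    (h : Opens.IsBasis {V : Opens Y | PreservesColimit F
        ((Sheaf.cohomologyPresheafFunctor (Opens.grothendieckTopology X) p).flip.obj
          (op ((Opens.map f).obj V)))}) :
    PreservesColimit F (CohTop.Rpush f p) := by
  open CategoryTheory CategoryTheory.Limits TopologicalSpace Opposite Groth.Agent.QCTopos in
  exact by
    let J := Opens.grothendieckTopology X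
    let K := Opens.grothendieckTopology Y
    let v := Opens.map f
    let W := (Functor.whiskeringLeft (Opens Y)ᵒᵖ (Opens X)ᵒᵖ AddCommGrpCat.{u}).obj v.op
    let L := presheafToSheaf K AddCommGrpCat.{u}
    let G := cohP J p ⋙ W
    obtain ⟨e⟩ := nonempty_Rpush_natIso J K v p
    suffices hGL : PreservesColimit F (G ⋙ L) by
      haveI : PreservesColimit F (cohP J p ⋙ W ⋙ L) :=
        preservesColimit_of_natIso F (Functor.associator (cohP J p) W L)
      exact preservesColimit_of_natIso F e.symm
    refine ⟨fun {c} hc => ?_⟩
    let c' := G.mapCocone c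
    let φ : colimit (F ⋙ G) ⟶ c'.pt := colimit.desc (F ⋙ G) c'
    haveI : IsIso (L.map φ) := by
      have hb : ∀ V ∈ {V : Opens Y | PreservesColimit F
          ((Sheaf.cohomologyPresheafFunctor J p).flip.obj (op ((Opens.map f).obj V)))},
          Function.Bijective (φ.app (op V)) := fun V hV => by
        let E := (evaluation (Opens Y)ᵒᵖ AddCommGrpCat.{u}).obj (op V)
        haveI : PreservesColimit F ((Sheaf.cohomologyPresheafFunctor J p).flip.obj (op ((Opens.map f).obj V))) := hV
        haveI : PreservesColimit F (G ⋙ E) := preservesColimit_of_natIso F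
          (NatIso.ofComponents (fun A => Iso.refl _) (fun g => rfl) :
            (Sheaf.cohomologyPresheafFunctor J p).flip.obj (op ((Opens.map f).obj V)) ≅ G ⋙ E)
        have h2 := isColimitOfPreserves (G ⋙ E) hc
        have h1 := isColimitOfPreserves E (colimit.isColimit (F ⋙ G))
        have he : φ.app (op V) = (h1.coconePointUniqueUpToIso h2).hom := by
          refine h1.hom_ext fun j => ?_
          refine Eq.trans ?_ (h1.comp_coconePointUniqueUpToIso_hom h2 j).symm
          exact congrArg (fun g => NatTrans.app g (op V)) (colimit.ι_desc c' j)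
        haveI : IsIso (φ.app (op V)) := by rw [he]; infer_instance
        exact ConcreteCategory.bijective_of_isIso _
      obtain ⟨h1, h2⟩ := Groth.Agent.LimCxLib.isLocallyBijective_of_basis φ _ h hb
      exact (GrothendieckTopology.W_iff _ φ).1 (K.W_of_isLocallyBijective φ)
    haveI : PreservesColimitsOfSize.{u, u} L :=
      (sheafificationAdjunction K AddCommGrpCat.{u}).leftAdjoint_preservesColimits
    have hL := isColimitOfPreserves L (colimit.isColimit (F ⋙ G))
    have hd : hL.desc (L.mapCocone c') = L.map φ := hL.hom_ext fun j => by
      rw [hL.fac]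
      exact (congrArg L.map (colimit.ι_desc c' j)).symm.trans (L.map_comp _ _)
    haveI : IsIso (hL.desc (L.mapCocone c')) := by rw [hd]; infer_instance
    exact ⟨IsColimit.ofPointIso (t := L.mapCocone c') hL⟩


end Groth.Agent.S0855
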