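import Groth.Statements.S0856
import Mathlib.Algebra.Category.ModuleCat.Presheaf.Generator
import Mathlib.CategoryTheory.Preadditive.Injective.Basic
import Mathlib.Algebra.Category.ModuleCat.Sheaf.Abelian
import Mathlib.Algebra.Category.Grp.FilteredColimits

set_option autoImplicit false
universe u
open CategoryTheory
open CohSite

namespace Groth.Agent.S0856

open Opposite in
/-- Let (C, O) be a ringed site, a : U' -> U a monomorphism of C and I an injective sheaf of O-modules.
Then the restriction map I(U) -> I(U') is surjective. -/
theorem result {C : Type u} [SmallCategory C]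
    {J : GrothendieckTopology C} (O : Sheaf J RingCat.{u}) (I : SheafOfModules.{u} O) [Injective I]
    {U U' : C} (a : U' ⟶ U) [Mono a] : Function.Surjective (I.val.map a.op) := by
  intro x
  let adj := PresheafOfModules.sheafificationAdjunction.{u} (𝟙 O.obj)
  have hI : Injective ((SheafOfModules.forget.{u} O ⋙ PresheafOfModules.restrictScalars (𝟙 O.obj)).obj I) :=
    Injective.injective_of_adjoint adj I
  let I' := (SheafOfModules.forget.{u} O ⋙ PresheafOfModules.restrictScalars (𝟙 O.obj)).obj I
  have : Mono ((PresheafOfModules.free O.obj).map (yoneda.map a)) := by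
    apply PresheafOfModules.mono_of_injective
    intro V
    show Function.Injective (Finsupp.mapDomain _)
    refine Finsupp.mapDomain_injective ?_
    intro b c hbc
    exact (cancel_mono a).mp hbc
  let g : (PresheafOfModules.free O.obj).obj (yoneda.obj U') ⟶ I' :=
    PresheafOfModules.freeYonedaEquiv.symm x
  obtain ⟨h, hh⟩ := hI.factors g ((PresheafOfModules.free O.obj).map (yoneda.map a))
  refine ⟨PresheafOfModules.freeYonedaEquiv h, ?_⟩
  have h1 : PresheafOfModules.freeYonedaEquiv g = x := Equiv.apply_symm_apply _ _
  rw [← h1, ← hh]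
  change I'.map a.op (h.app _ (Finsupp.single (𝟙 U) 1)) = h.app _ (((PresheafOfModules.free O.obj).map (yoneda.map a)).app _ (Finsupp.single (𝟙 U') 1))
  erw [← PresheafOfModules.naturality_apply]
  congr 1
  refine (ModuleCat.freeDesc_apply _ _).trans ?_
  refine Eq.trans ?_ (ModuleCat.free_map_apply _ _).symm
  show ModuleCat.freeMk (a ≫ 𝟙 U) = ModuleCat.freeMk (𝟙 U' ≫ a)
  rw [Category.comp_id, Category.id_comp]

end Groth.Agent.S0856
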