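import Groth.Statements.S0857
import Groth.Agent.ExtLib.InjPi

set_option autoImplicit false
universe u
open CategoryTheory
open CohSite

namespace Groth.Agent.S0857

open Opposite CategoryTheory.Limits in
/-- For a family of abelian sheaves F_i on a site and an object U, the map H^1(U, ∏ F_i) -> ∏ H^1(U,
F_i) induced by the projections is injective. (The degree-zero part of the published statement, that
sections of a product are the product of sections, is not restated.) -/
theorem result {C : Type u} [SmallCategory C] {J : GrothendieckTopology C}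
    {I : Type u} (F : I → Sheaf J AddCommGrpCat.{u}) (U : C) :
    Function.Injective (fun (x : CohSite.HU (∏ᶜ F) 1 U) (i : I) =>
      (((Sheaf.cohomologyPresheafFunctor J 1).map (Pi.π F i)).app (op U)).hom x) := by
  let P := (yoneda ⋙ (Functor.whiskeringRight _ _ _).obj AddCommGrpCat.free ⋙ presheafToSheaf J AddCommGrpCat.{u}).obj U
  intro x y hxy
  suffices H : ∀ a b : Abelian.Ext.{u} P (∏ᶜ F) 1, (∀ i, a.comp (Abelian.Ext.mk₀ (Pi.π F i)) (add_zero 1) = b.comp (Abelian.Ext.mk₀ (Pi.π F i)) (add_zero 1)) → a = b from H x y fun i => congrFun hxy i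
  intro a b hab
  refine sub_eq_zero.1 (Groth.Agent.ExtLib.ext_one_into_pi_eq_zero F (P := P) (a - b) fun i => ?_)
  rw [sub_eq_add_neg, Abelian.Ext.add_comp, Abelian.Ext.neg_comp, ← sub_eq_add_neg, sub_eq_zero]
  exact hab i

end Groth.Agent.S0857
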