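import Groth.Statements.S0865
import Groth.Agent.CohAcyc.Sections
import Groth.Agent.QCohBase.Derived

set_option autoImplicit false
universe u
open CategoryTheory
open CohSite

namespace Groth.Agent.S0865

open CategoryTheory.Limits in
/-- Part (4) (for a morphism of topoi coming from a continuous functor of sites u : D -> C): if F is a
totally acyclic abelian sheaf on C then R^p u_* F = 0 for all p > 0, where u_* F is the sheaf V ↦
F(u(V)) and R^p u_* its right derived functors. -/
theorem result {C D : Type u} [SmallCategory C] [SmallCategory D]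
    (J : GrothendieckTopology C) (K : GrothendieckTopology D) (u : D ⥤ C) [u.IsContinuous K J]
    (F : Sheaf J AddCommGrpCat.{u}) (hF : CohCx.IsTotallyAcyclic F) (p : ℕ) :
    IsZero ((CohSite.Rpush J K u (p + 1)).obj F) := by
  haveI : PreservesLimitsOfSize.{0, 0} (CohSite.push J K u) :=
    (u.sheafAdjunctionContinuous AddCommGrpCat.{u} K J).rightAdjoint_preservesLimits
  haveI : PreservesFiniteLimits (CohSite.push J K u) := PreservesLimitsOfSize.preservesFiniteLimits _
  refine Groth.Agent.QCohBase.isZero_rightDerived_obj_of_class (CohSite.push J K u)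
    (fun G => CohCx.IsTotallyAcyclic G) (fun e h k q => Groth.Agent.CohAcyc.subsingleton_of_iso (Iso.refl _) e (h k q))
    (fun {T} hT h _ k q => Groth.Agent.CohAcyc.subsingleton_quot_of_ses hT
      (CategoryTheory.Abelian.Ext.subsingleton_of_injective _ _ q) (h k (q + 1)))
    (fun {T} hT h => Groth.Agent.CohAcyc.epi_of_surjective _ fun V =>
      Groth.Agent.CohAcyc.surjective_of_acyclic hT (u.obj V) (Groth.Agent.CohAcyc.subsingleton_HU h _ 0)) hF p

end Groth.Agent.S0865
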