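import Groth.Statements.S0871
import Groth.Agent.CohTopLib.Neg
import Groth.Agent.LocCohZSS.RestrInj

set_option autoImplicit false
universe u
open CategoryTheory
open CohTop

namespace Groth.Agent.S0871

open TopologicalSpace CategoryTheory.Limits in
/-- For an object K of the derived category of abelian sheaves on X and an open U, H^p(U, K) is
isomorphic to H^p(U, K|_U), where K|_U is the image of K under the functor on derived categories
induced by the (exact) restriction to U. Exactness of restriction is assumed through instance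
arguments (true, but not recorded by Mathlib in this generality). -/
theorem result {X : TopCat.{u}} (U : Opens X)
    [HasDerivedCategory.{u} (CohTop.Ab X)] [HasDerivedCategory.{u} (CohTop.Ab (TopCat.of U))]
    [PreservesFiniteLimits (CohTop.restrFunctor U)] [PreservesFiniteColimits (CohTop.restrFunctor U)]
    (K : DerivedCategory (CohTop.Ab X)) (p : ℤ) :
    Nonempty (CohCx.HDU K p U ≃+ CohCx.HDU ((CohTop.restrFunctor U).mapDerivedCategory.obj K) p ⊤) := by
  open CategoryTheory TopologicalSpace Opposite DerivedCategory Groth.Agent.CohTopLib in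
  exact by
    obtain ⟨I, hI, ⟨e⟩⟩ := exists_kInjective_model K
    let R := (CohTop.restrFunctor U).mapHomologicalComplex (ComplexShape.up ℤ)
    haveI : CochainComplex.IsKInjective (R.obj I) := Groth.Agent.LocCohZSS.isKInjective_restr U I
    haveI : (I⟦p⟧).IsKInjective := inferInstance
    haveI : CochainComplex.IsKInjective (R.obj (I⟦p⟧)) := Groth.Agent.LocCohZSS.isKInjective_restr U (I⟦p⟧)
    let D := (CohTop.restrFunctor U).mapDerivedCategory
    let eI : Q.obj (I⟦p⟧) ≅ (shiftFunctor (DerivedCategory (CohTop.Ab X)) p).obj K :=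
      (Q.commShiftIso p).app I ≪≫ (shiftFunctor _ p).mapIso e
    let eR : Q.obj (R.obj (I⟦p⟧)) ≅
        (shiftFunctor (DerivedCategory (CohTop.Ab (TopCat.of U))) p).obj (D.obj K) :=
      ((CohTop.restrFunctor U).mapDerivedCategoryFactors.app (I⟦p⟧)).symm ≪≫ D.mapIso eI ≪≫
        (D.commShiftIso p).app K
    let hX : CohCx.HDU K p U ≃+ (CohCx.HDUPresheaf (Q.obj (I⟦p⟧)) 0).obj (op U) :=
      ((preadditiveYoneda.mapIso (eI.symm ≪≫ ((shiftFunctorZero _ ℤ).app _).symm)).app
        (op ((singleFunctor (CohTop.Ab X) 0).obj (CohCx.freeSheaf (Opens.grothendieckTopology X) U)))).addCommGroupIsoToAddEquiv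
    let hU : CohCx.HDU (D.obj K) p ⊤ ≃+ (CohCx.HDUPresheaf (Q.obj (R.obj (I⟦p⟧))) 0).obj (op ⊤) :=
      ((preadditiveYoneda.mapIso (eR.symm ≪≫ ((shiftFunctorZero _ ℤ).app _).symm)).app
        (op ((singleFunctor (CohTop.Ab (TopCat.of U)) 0).obj (CohCx.freeSheaf (Opens.grothendieckTopology (TopCat.of U)) ⊤)))).addCommGroupIsoToAddEquiv
    let G₁ := sheafToPresheaf (Opens.grothendieckTopology X) AddCommGrpCat.{u} ⋙ (evaluation _ _).obj (op U)
    let G₂ := CohTop.restrFunctor U ⋙ sheafToPresheaf (Opens.grothendieckTopology (TopCat.of U)) AddCommGrpCat.{u} ⋙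
      (evaluation _ _).obj (op (⊤ : Opens (TopCat.of U)))
    have himg : U.isOpenEmbedding.isOpenMap.functor.obj (⊤ : Opens (TopCat.of U)) = U :=
      Opens.ext (Set.ext fun x => ⟨fun ⟨y, _, hy⟩ => hy ▸ y.2, fun hx => ⟨⟨x, hx⟩, trivial, rfl⟩⟩)
    let α : G₁ ≅ G₂ := NatIso.ofComponents (fun F => F.obj.mapIso (eqToIso (congrArg op himg.symm)))
      fun {F F'} g => (g.hom.naturality _).symm
    let hh : ((preZ (I⟦p⟧)).homology 0).obj (op U) ≅ ((preZ (R.obj (I⟦p⟧))).homology 0).obj (op ⊤) :=
      (((preZ (I⟦p⟧)).sc 0).mapHomologyIso ((evaluation _ AddCommGrpCat.{u}).obj (op U))).symm ≪≫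
        (HomologicalComplex.homologyFunctor _ _ 0).mapIso
          ((NatIso.mapHomologicalComplex α (ComplexShape.up ℤ)).app (I⟦p⟧)) ≪≫
        ((preZ (R.obj (I⟦p⟧))).sc 0).mapHomologyIso ((evaluation _ AddCommGrpCat.{u}).obj (op ⊤))
    exact ⟨hX.trans ((((nonempty_hduIso (I⟦p⟧)).some.app (op U)).symm ≪≫ hh ≪≫
      (nonempty_hduIso (R.obj (I⟦p⟧))).some.app (op ⊤)).addCommGroupIsoToAddEquiv.trans hU.symm)⟩


end Groth.Agent.S0871
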