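import Groth.Statements.S0891
import Groth.Agent.SheafHomLib.Basic
import Groth.Agent.SheafHomLib.InjLocal
import Groth.Agent.SiteBase.ModHom

set_option autoImplicit false
universe u
open CategoryTheory
open Coh

namespace Groth.Agent.S0891

lemma injective_of_sum {C : Type*} [Category C] [Preadditive C] {T : C} {n : ℕ} (I : C) [Injective I]
    (a : Fin n → (T ⟶ I)) (b : Fin n → (I ⟶ T)) (h : ∑ i, a i ≫ b i = 𝟙 T) : Injective T where
  factors {A B} g j _ := ⟨∑ i, Injective.factorThru (g ≫ a i) j ≫ b i, by
    simp only [Preadditive.comp_sum, ← Category.assoc, Injective.comp_factorThru]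
    simp only [Category.assoc, ← Preadditive.comp_sum, h, Category.comp_id]⟩

lemma injective_tensor_summand {C : Type u} [SmallCategory C] {J : GrothendieckTopology C}
    {O : Sheaf J CommRingCat.{u}} {M : ModSite.Mod O} (hM : SheafHomLib.IsSummand M) (N : ModSite.Mod O)
    [Injective N] : Injective (((ModSite.tensorBi O).obj M).obj N) := by
  obtain ⟨n, a, b, h⟩ := hM
  let F := (ModSite.tensorBi O).flip.obj N
  let e : F.obj (ModSite.unit O) ≅ N := SiteBase.unitTensorIso N
  refine injective_of_sum N (fun i => F.map (a i) ≫ e.hom) (fun i => e.inv ≫ F.map (b i)) ?_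
  simp only [Category.assoc, Iso.hom_inv_id_assoc, ← Functor.map_comp, ← Functor.map_sum, h]
  exact F.map_id M

open AlgebraicGeometry in
/-- On a scheme X, let I be an injective 𝒪_X-module and E a finite locally free 𝒪_X-module. Then E ⊗ I
is an injective 𝒪_X-module. (The published statement is for ringed spaces; it is stated here for
schemes.) -/
theorem result {X : Scheme.{u}} (I E : X.Modules) [Injective I]
    (hE : FlatMod.IsFinLocFree E) : Injective (CohB1.tensorMod E I) := by
  refine SheafHomLib.injective_of_locally _ fun x => ?_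
  obtain ⟨U, hx, hS⟩ := SheafHomLib.exists_isSummand hE x
  haveI := SiteBase.extZero_preservesMonomorphisms X.sheaf U
  have hI : Injective ((ModSite.restr X.sheaf U).obj I) :=
    @Injective.injective_of_adjoint _ _ _ _ (ModSite.extZero X.sheaf U) (ModSite.restr X.sheaf U)
      (SiteBase.extZero_preservesMonomorphisms X.sheaf U) (ModSite.extZeroAdj X.sheaf U) I ‹_›
  refine ⟨U, hx, ?_⟩
  exact Injective.of_iso (SiteBase.restrTensorIso X.sheaf U E I).symm
    (@injective_tensor_summand _ _ _ _ _ hS _ hI)

end Groth.Agent.S0891
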