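import Groth.Statements.S0894
import Groth.Agent.Hypercov.SRCov

set_option autoImplicit false
universe u
open CategoryTheory
open Hyper

namespace Groth.Agent.S0894

open Opposite in
/-- For a hypercovering K of an object X of a site with fibre products (a simplicial semi-representable
object over X; coskeleta are assumed to exist): (1) for each n the family K_n is a covering of X,
and (2) every face map d_i : K_{n+1} -> K_n is a covering morphism of semi-representable objects. -/
theorem result {C : Type u} [SmallCategory C] [Limits.HasPullbacks C]
    (J : GrothendieckTopology C) (X : C) (K : SimplicialObject (Limits.FormalCoproduct.{u} (Over X)))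
    [∀ (n : ℕ) (F : (SimplexCategory.Truncated n)ᵒᵖ ⥤ Limits.FormalCoproduct.{u} (Over X)),
      (SimplexCategory.Truncated.inclusion n).op.HasRightKanExtension F]
    (hK : Hyper.IsHypercovering J X K) :
    (∀ n : ℕ, Sieve.ofArrows (fun i => ((K.obj (op (SimplexCategory.mk n))).obj i).left)
      (fun i => ((K.obj (op (SimplexCategory.mk n))).obj i).hom) ∈ J X) ∧
    ∀ (n : ℕ) (i : Fin (n + 2)), Hyper.IsSRCovering (J.over X) (K.δ i) := by
  refine ⟨fun n => Groth.Agent.Hypercov.covering_of_map (K.map (SimplexCategory.const (SimplexCategory.mk n) (SimplexCategory.mk 0) 0).op) hK.1, fun n i => ?_⟩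
  induction i using Fin.lastCases with
  | last => exact Groth.Agent.Hypercov.isSRCovering_of_section _ (K.σ (Fin.last n)) (K.δ_comp_σ_succ' (Fin.succ_last n).symm)
  | cast j => exact Groth.Agent.Hypercov.isSRCovering_of_section _ (K.σ j) (K.δ_comp_σ_self' rfl)

end Groth.Agent.S0894
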