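import Groth.Statements.S0900
import Groth.Agent.SiteDer.KInjPush

set_option autoImplicit false
universe v u
open CategoryTheory
open CohDer


namespace Groth.Agent.S0900

set_option backward.isDefEq.respectTransparency false
set_option backward.defeqAttrib.useBackward true

noncomputable section

open CategoryTheory.Limits HomologicalComplex Pretriangulated

variable {B : Type u} [Category.{v} B] [Abelian B] [HasProductsOfShape ℕ B]
  [(lim : (Discrete ℕ ⥤ B) ⥤ B).PreservesEpimorphisms]

lemma epi_pi {X Y : ℕ → B} (f : ∀ n, X n ⟶ Y n) [∀ n, Epi (f n)] : Epi (Limits.Pi.map f) := by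
  haveI : ∀ j, Epi ((Discrete.natTrans fun i : Discrete ℕ => f i.as :
      Discrete.functor X ⟶ Discrete.functor Y).app j) := fun j => inferInstanceAs (Epi (f j.as))
  haveI : Epi (Discrete.natTrans fun i : Discrete ℕ => f i.as : Discrete.functor X ⟶ Discrete.functor Y) :=
    NatTrans.epi_of_epi_app _
  exact inferInstanceAs (Epi (lim.map (Discrete.natTrans fun i : Discrete ℕ => f i.as :
      Discrete.functor X ⟶ Discrete.functor Y)))

/-- A common refinement. -/
lemma exists_common {A : B} {A' : ℕ → B} (π : ∀ n, A' n ⟶ A) [∀ n, Epi (π n)] :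
    ∃ (T : B) (p : T ⟶ A) (_ : Epi p) (q : ∀ n, T ⟶ A' n), ∀ n, q n ≫ π n = p := by
  haveI := epi_pi π
  refine ⟨pullback (Limits.Pi.map π) (Pi.lift fun _ => 𝟙 A), pullback.snd _ _, inferInstance,
    fun n => pullback.fst _ _ ≫ Pi.π _ n, fun n => ?_⟩
  rw [Category.assoc, ← Limits.Pi.map_π, pullback.condition_assoc, Pi.lift_π, Category.comp_id]

variable (K : ℕ → CochainComplex B ℤ)

lemma pi_hom_ext {A : B} {i : ℤ} (a b : A ⟶ (∏ᶜ K).X i) (h : ∀ n, a ≫ (Pi.π K n).f i = b ≫ (Pi.π K n).f i) : a = b :=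
  (isLimitOfPreserves (eval B (ComplexShape.up ℤ) i) (limit.isLimit (Discrete.functor K))).hom_ext fun ⟨n⟩ => h n

lemma pi_exists_lift {A : B} {i : ℤ} (a : ∀ n, A ⟶ (K n).X i) :
    ∃ l : A ⟶ (∏ᶜ K).X i, ∀ n, l ≫ (Pi.π K n).f i = a n :=
  ⟨(isLimitOfPreserves (eval B (ComplexShape.up ℤ) i) (limit.isLimit (Discrete.functor K))).lift
    ⟨A, Discrete.natTrans fun n => a n.as⟩, fun n =>
    (isLimitOfPreserves (eval B (ComplexShape.up ℤ) i) (limit.isLimit (Discrete.functor K))).fac _ ⟨n⟩⟩

variable {K}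

/-- A countable product of quasi-isomorphisms. -/
lemma quasiIso_pi {L : ℕ → CochainComplex B ℤ} (φ : ∀ n, K n ⟶ L n) [∀ n, QuasiIso (φ n)] :
    QuasiIso (Limits.Pi.map φ) := by
  rw [quasiIso_iff]
  intro j
  rw [quasiIsoAt_iff_isIso_homologyMap]
  have hc : ∀ n i, (Limits.Pi.map φ).f i ≫ (Pi.π L n).f i = (Pi.π K n).f i ≫ (φ n).f i := fun n i => by
    rw [← comp_f, ← comp_f, Limits.Pi.map_π]
  haveI : Mono (homologyMap (Limits.Pi.map φ) j) := by
    rw [mono_homologyMap_iff_up_to_refinements _ (j - 1) j (j + 1) (by simp) (by simp)]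
    intro A x hx y hy
    have h : ∀ n, ∃ (A' : B) (π : A' ⟶ A) (_ : Epi π) (x₁ : A' ⟶ (K n).X (j - 1)),
        π ≫ x ≫ (Pi.π K n).f j = x₁ ≫ (K n).d (j - 1) j := fun n =>
      (mono_homologyMap_iff_up_to_refinements (φ n) (j - 1) j (j + 1) (by simp) (by simp)).1 inferInstance
        (x ≫ (Pi.π K n).f j) (by rw [Category.assoc, (Pi.π K n).comm, ← Category.assoc, hx, zero_comp])
        (y ≫ (Pi.π L n).f (j - 1)) (by
          rw [Category.assoc, Category.assoc, ← hc, ← Category.assoc, hy, Category.assoc, (Pi.π L n).comm])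
    choose A' π hπ x₁ hx₁ using h
    haveI := hπ
    obtain ⟨T, p, hp, q, hq⟩ := exists_common π
    obtain ⟨l, hl⟩ := pi_exists_lift K fun n => q n ≫ x₁ n
    refine ⟨T, p, hp, l, pi_hom_ext K _ _ fun n => ?_⟩
    rw [Category.assoc, Category.assoc, ← (Pi.π K n).comm, ← Category.assoc l, hl, Category.assoc, ← hx₁,
      ← Category.assoc (q n), hq]
  haveI : Epi (homologyMap (Limits.Pi.map φ) j) := by
    rw [epi_homologyMap_iff_up_to_refinements _ (j - 1) j (j + 1) (by simp) (by simp)]
    intro A y hy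
    have h : ∀ n, ∃ (A' : B) (π : A' ⟶ A) (_ : Epi π) (x₂ : A' ⟶ (K n).X j) (_ : x₂ ≫ (K n).d j (j + 1) = 0)
        (y₁ : A' ⟶ (L n).X (j - 1)), π ≫ y ≫ (Pi.π L n).f j = x₂ ≫ (φ n).f j + y₁ ≫ (L n).d (j - 1) j := fun n =>
      (epi_homologyMap_iff_up_to_refinements (φ n) (j - 1) j (j + 1) (by simp) (by simp)).1 inferInstance
        (y ≫ (Pi.π L n).f j) (by rw [Category.assoc, (Pi.π L n).comm, ← Category.assoc, hy, zero_comp])
    choose A' π hπ x₂ hx₂ y₁ hy₁ using h
    haveI := hπ
    obtain ⟨T, p, hp, q, hq⟩ := exists_common π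
    obtain ⟨l, hl⟩ := pi_exists_lift K fun n => q n ≫ x₂ n
    obtain ⟨m, hm⟩ := pi_exists_lift L fun n => q n ≫ y₁ n
    refine ⟨T, p, hp, l, pi_hom_ext K _ _ fun n => ?_, m, pi_hom_ext L _ _ fun n => ?_⟩
    · rw [Category.assoc, ← (Pi.π K n).comm, ← Category.assoc, hl, Category.assoc, hx₂, comp_zero, zero_comp]
    · rw [Preadditive.add_comp, Category.assoc, Category.assoc, Category.assoc, hc, ← (Pi.π L n).comm,
        ← Category.assoc l, hl, ← Category.assoc m, hm, Category.assoc, Category.assoc, ← Preadditive.comp_add,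
        ← hy₁, ← Category.assoc (q n), hq]
  exact isIso_of_mono_of_epi _

variable [HasDerivedCategory.{v} B] (M : ℕ → CochainComplex B ℤ)

local notation "Qy" => HomotopyCategory.quotient B (ComplexShape.up ℤ)

lemma eq_zero_of_proj (G : CochainComplex B ℤ) (g : G ⟶ ∏ᶜ M) (h : ∀ n, (Qy).map (g ≫ Pi.π M n) = 0) :
    (Qy).map g = 0 := by
  choose c hc using fun n => DerCat.exists_extends_of_homotopy (g ≫ Pi.π M n)
    (HomotopyCategory.homotopyOfEq _ _ ((h n).trans ((Qy).map_zero _ _).symm))
  obtain ⟨H⟩ := DerCat.nullHomotopic_of_extends g (Pi.lift c)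
    (Pi.hom_ext _ _ fun n => by rw [Category.assoc, Pi.lift_π]; exact hc n)
  exact (HomotopyCategory.eq_of_homotopy _ _ H).trans ((Qy).map_zero _ _)

/-- Countable products are computed termwise. -/
lemma bijective_proj (W : DerivedCategory B) :
    Function.Bijective (fun (f : W ⟶ DerivedCategory.Qh.obj ((Qy).obj (∏ᶜ M))) (n : ℕ) =>
      f ≫ DerivedCategory.Qh.map ((Qy).map (Pi.π M n))) := by
  haveI : (DerivedCategory.Qh (C := B)).EssSurj :=
    Localization.essSurj _ (HomotopyCategory.quasiIso B (ComplexShape.up ℤ))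
  obtain ⟨L, ⟨e⟩⟩ : ∃ L : CochainComplex B ℤ, Nonempty (DerivedCategory.Qh.obj ((Qy).obj L) ≅ W) := by
    obtain ⟨L, hL⟩ := HomotopyCategory.quotient_obj_surjective (DerivedCategory.Qh.objPreimage W)
    exact ⟨L, ⟨DerivedCategory.Qh.mapIso (eqToIso hL) ≪≫ DerivedCategory.Qh.objObjPreimageIso W⟩⟩
  refine ⟨fun f f' h => ?_, fun v => ?_⟩
  · rw [← sub_eq_zero]
    obtain ⟨φ, hφ⟩ := Localization.exists_rightFraction DerivedCategory.Qh
      (HomotopyCategory.quasiIso B (ComplexShape.up ℤ)) (e.hom ≫ (f - f'))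
    obtain ⟨G, hG⟩ := HomotopyCategory.quotient_obj_surjective φ.X'
    obtain ⟨g, hg⟩ := (Qy).map_surjective (eqToHom hG ≫ φ.f)
    haveI := Localization.inverts DerivedCategory.Qh (HomotopyCategory.quasiIso B (ComplexShape.up ℤ)) _ φ.hs
    have h2 : ∀ n, DerivedCategory.Qh.map (φ.f ≫ (Qy).map (Pi.π M n)) = DerivedCategory.Qh.map 0 := fun n => by
      rw [Functor.map_comp, Functor.map_zero, ← φ.map_s_comp_map DerivedCategory.Qh (Localization.inverts _ _),
        ← hφ, Category.assoc, Category.assoc, Preadditive.sub_comp, show f ≫ _ = f' ≫ DerivedCategory.Qh.map ((Qy).map (Pi.π M n)) from congrFun h n, sub_self, comp_zero, comp_zero]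
    choose Z u hu he using fun n =>
      (MorphismProperty.map_eq_iff_postcomp DerivedCategory.Qh (HomotopyCategory.quasiIso B (ComplexShape.up ℤ)) _ _).1 (h2 n)
    choose N hN using fun n => HomotopyCategory.quotient_obj_surjective (Z n)
    choose s hs using fun n => (Qy).map_surjective (u n ≫ eqToHom (hN n).symm)
    haveI : ∀ n, QuasiIso (s n) := fun n => (HomotopyCategory.quotient_map_mem_quasiIso_iff (s n)).1 (by
      rw [hs n]
      exact ((HomotopyCategory.quasiIso B (ComplexShape.up ℤ)).cancel_right_of_respectsIso _ _).2 (hu n))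
    haveI := quasiIso_pi s
    have h3 : (Qy).map (g ≫ Limits.Pi.map s) = 0 := eq_zero_of_proj _ _ _ fun n => by
      rw [Category.assoc, Limits.Pi.map_π, Functor.map_comp, Functor.map_comp, hg, hs]
      simp only [Category.assoc]
      rw [reassoc_of% he n]
      simp
    haveI : IsIso (DerivedCategory.Qh.map ((Qy).map (Limits.Pi.map s))) :=
      Localization.inverts DerivedCategory.Qh (HomotopyCategory.quasiIso B (ComplexShape.up ℤ)) _
        ((HomotopyCategory.quotient_map_mem_quasiIso_iff _).2 ((mem_quasiIso_iff _).2 inferInstance))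
    have h4 : DerivedCategory.Qh.map φ.f = 0 := by
      rw [← cancel_epi (DerivedCategory.Qh.map (eqToHom hG)), ← Functor.map_comp, ← hg, comp_zero,
        ← cancel_mono (DerivedCategory.Qh.map ((Qy).map (Limits.Pi.map s))), zero_comp, ← Functor.map_comp,
        ← Functor.map_comp, h3, Functor.map_zero]
    rw [← cancel_epi e.hom, comp_zero, hφ, ← cancel_epi (DerivedCategory.Qh.map φ.s), φ.map_s_comp_map, h4, comp_zero]
  · choose φ hφ using fun n => Localization.exists_leftFraction DerivedCategory.Qh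
      (HomotopyCategory.quasiIso B (ComplexShape.up ℤ)) (e.hom ≫ v n)
    choose N hN using fun n => HomotopyCategory.quotient_obj_surjective (φ n).Y'
    choose g hg using fun n => (Qy).map_surjective ((φ n).f ≫ eqToHom (hN n).symm)
    choose s hs using fun n => (Qy).map_surjective ((φ n).s ≫ eqToHom (hN n).symm)
    haveI : ∀ n, QuasiIso (s n) := fun n => (HomotopyCategory.quotient_map_mem_quasiIso_iff (s n)).1 (by
      rw [hs n]
      exact ((HomotopyCategory.quasiIso B (ComplexShape.up ℤ)).cancel_right_of_respectsIso _ _).2 (φ n).hs)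
    haveI := quasiIso_pi s
    haveI : IsIso (DerivedCategory.Qh.map ((Qy).map (Limits.Pi.map s))) :=
      Localization.inverts DerivedCategory.Qh (HomotopyCategory.quasiIso B (ComplexShape.up ℤ)) _
        ((HomotopyCategory.quotient_map_mem_quasiIso_iff _).2 ((mem_quasiIso_iff _).2 inferInstance))
    refine ⟨e.inv ≫ DerivedCategory.Qh.map ((Qy).map (Pi.lift g)) ≫
      inv (DerivedCategory.Qh.map ((Qy).map (Limits.Pi.map s))), funext fun n => ?_⟩
    haveI := Localization.inverts DerivedCategory.Qh (HomotopyCategory.quasiIso B (ComplexShape.up ℤ)) _ (φ n).hs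
    haveI : IsIso (DerivedCategory.Qh.map ((Qy).map (s n))) :=
      Localization.inverts DerivedCategory.Qh (HomotopyCategory.quasiIso B (ComplexShape.up ℤ)) _
        ((HomotopyCategory.quotient_map_mem_quasiIso_iff _).2 ((mem_quasiIso_iff _).2 inferInstance))
    have h1 : DerivedCategory.Qh.map ((Qy).map (Pi.π M n)) =
        DerivedCategory.Qh.map ((Qy).map (Limits.Pi.map s)) ≫ DerivedCategory.Qh.map ((Qy).map (Pi.π N n)) ≫
          inv (DerivedCategory.Qh.map ((Qy).map (s n))) := by
      rw [← Category.assoc, IsIso.eq_comp_inv]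
      simp only [← Functor.map_comp, Limits.Pi.map_π]
    change (_ ≫ _ ≫ _) ≫ _ = v n
    rw [Category.assoc, Category.assoc, h1, IsIso.inv_hom_id_assoc, ← Category.assoc (DerivedCategory.Qh.map _),
      ← Functor.map_comp, ← Functor.map_comp, Pi.lift_π, Iso.inv_comp_eq, IsIso.comp_inv_eq, hg, hs, hφ n,
      Functor.map_comp, Functor.map_comp, MorphismProperty.LeftFraction.map_comp_map_s_assoc]

/-- The comparison for a limit fan of complexes. -/
lemma exists_iso_pi (c : Fan M) (hc : IsLimit c) (Z : ℕ → DerivedCategory B) [HasProduct Z]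
    (e : ∀ n, DerivedCategory.Qh.obj ((Qy).obj (M n)) ≅ Z n) :
    ∃ ε : DerivedCategory.Qh.obj ((Qy).obj c.pt) ≅ ∏ᶜ Z,
      ∀ n, ε.hom ≫ Pi.π Z n = DerivedCategory.Qh.map ((Qy).map (c.proj n)) ≫ (e n).hom := by
  let m := Pi.lift fun n => DerivedCategory.Qh.map ((Qy).map (Pi.π M n)) ≫ (e n).hom
  haveI : IsIso m := SiteDer.isIso_of_bijective m fun W => by
    let E : (W ⟶ ∏ᶜ Z) ≃ ∀ n, (W ⟶ Z n) :=
      { toFun := fun φ n => φ ≫ Pi.π Z n
        invFun := fun v => Pi.lift v
        left_inv := fun φ => Pi.hom_ext _ _ fun n => by simp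
        right_inv := fun v => funext fun n => by simp }
    refine (Function.Bijective.of_comp_iff' E.bijective _).1 ?_
    convert (Function.Bijective.piMap fun n => ((Iso.homToEquiv (e n)) : (W ⟶ _) ≃ _).bijective).comp (bijective_proj M W) using 1
    funext a n
    simp [E, m]
  let i : c.pt ≅ ∏ᶜ M := hc.conePointUniqueUpToIso (limit.isLimit _)
  have hi : ∀ n, i.hom ≫ Pi.π M n = c.proj n := fun n => hc.conePointUniqueUpToIso_hom_comp (limit.isLimit _) ⟨n⟩
  refine ⟨DerivedCategory.Qh.mapIso ((Qy).mapIso i) ≪≫ asIso m, fun n => ?_⟩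
  change (DerivedCategory.Qh.map ((Qy).map i.hom) ≫ m) ≫ Pi.π Z n = _
  rw [Category.assoc, Pi.lift_π, ← Category.assoc, ← Functor.map_comp, ← Functor.map_comp, hi]

end

open CategoryTheory.Limits in
/-- Let F : A -> B be an additive functor between abelian categories with A Grothendieck abelian, B
having exact countable products (here: ℕ-indexed products exist and preserve epimorphisms) and F
commuting with ℕ-indexed products. Then the total right derived functor RF : D(A) -> D(B) (whose
existence is assumed as an instance argument; it exists because A has enough K-injective complexes)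
sends a derived limit of an inverse system (K_n) to a derived limit of (RF K_n). The relevant
countable products in the derived categories are assumed to exist. -/
theorem result {A : Type u} [Category.{v} A] [Abelian A] [IsGrothendieckAbelian.{v} A]
    [HasDerivedCategory.{v} A] {B : Type u} [Category.{v} B] [Abelian B] [HasDerivedCategory.{v} B]
    [HasProductsOfShape ℕ B] [(lim : (Discrete ℕ ⥤ B) ⥤ B).PreservesEpimorphisms]
    (F : A ⥤ B) [F.Additive] [PreservesLimitsOfShape (Discrete ℕ) F]
    [(F.mapHomotopyCategory (ComplexShape.up ℤ) ⋙ DerivedCategory.Qh).HasRightDerivedFunctor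
      (HomotopyCategory.quasiIso A (ComplexShape.up ℤ))]
    (K : ℕ → DerivedCategory A) (t : ∀ n, K (n + 1) ⟶ K n) (L : DerivedCategory A) [HasProduct K]
    [HasProduct fun n => ((F.mapHomotopyCategory (ComplexShape.up ℤ) ⋙ DerivedCategory.Qh).totalRightDerived
      DerivedCategory.Qh (HomotopyCategory.quasiIso A (ComplexShape.up ℤ))).obj (K n)]
    (hL : DCoh.IsRlim K t L) :
    DCoh.IsRlim
      (fun n => ((F.mapHomotopyCategory (ComplexShape.up ℤ) ⋙ DerivedCategory.Qh).totalRightDerived
        DerivedCategory.Qh (HomotopyCategory.quasiIso A (ComplexShape.up ℤ))).obj (K n))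
      (fun n => ((F.mapHomotopyCategory (ComplexShape.up ℤ) ⋙ DerivedCategory.Qh).totalRightDerived
        DerivedCategory.Qh (HomotopyCategory.quasiIso A (ComplexShape.up ℤ))).map (t n))
      (((F.mapHomotopyCategory (ComplexShape.up ℤ) ⋙ DerivedCategory.Qh).totalRightDerived
        DerivedCategory.Qh (HomotopyCategory.quasiIso A (ComplexShape.up ℤ))).obj L) := by
  obtain ⟨a, c, hc⟩ := hL
  let η := (F.mapHomotopyCategory (ComplexShape.up ℤ) ⋙ DerivedCategory.Qh).totalRightDerivedUnit
    DerivedCategory.Qh (HomotopyCategory.quasiIso A (ComplexShape.up ℤ))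
  have ha : Pi.lift (fun n => a ≫ Pi.π K n) = a := Pi.hom_ext _ _ fun n => by simp
  obtain ⟨c', hc'⟩ := SiteDer.isRlimVia_rightDerived F (fun I hIp hI Z _ e => by
        haveI : ∀ i, PreservesLimit (Discrete.functor I ⋙ HomologicalComplex.eval A (ComplexShape.up ℤ) i) F :=
          fun i => inferInstance
        let cf : Fan (fun n => (F.mapHomologicalComplex (ComplexShape.up ℤ)).obj (I n)) :=
          Fan.mk ((F.mapHomologicalComplex (ComplexShape.up ℤ)).obj (∏ᶜ I)) fun n =>
            (F.mapHomologicalComplex (ComplexShape.up ℤ)).map (Pi.π I n)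
        have hcf : IsLimit cf := HomologicalComplex.isLimitOfEval _ _ fun i =>
          let h := isLimitOfPreserves F (isLimitOfPreserves (HomologicalComplex.eval A (ComplexShape.up ℤ) i)
            (limit.isLimit (Discrete.functor I)))
          { lift := fun s => h.lift ⟨s.pt, Discrete.natTrans fun n => s.π.app n⟩
            fac := fun s j => h.fac ⟨s.pt, Discrete.natTrans fun n => s.π.app n⟩ j
            uniq := fun s m hm => h.uniq ⟨s.pt, Discrete.natTrans fun n => s.π.app n⟩ m hm }
        exact exists_iso_pi _ cf hcf Z e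
      ) K t
    ((F.mapHomotopyCategory (ComplexShape.up ℤ) ⋙ DerivedCategory.Qh).totalRightDerived
      DerivedCategory.Qh (HomotopyCategory.quasiIso A (ComplexShape.up ℤ))) η
    (fun P hP => SiteDer.isIso_unit F hP) L (fun n => a ≫ Pi.π K n) c (by rw [ha]; exact hc)
  exact ⟨_, c', hc'⟩

end Groth.Agent.S0900
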