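import Groth.Statements.S0909
import Mathlib
import Groth.Agent.QCTopos.Deligne

set_option autoImplicit false
universe u
open CategoryTheory
open CohDer


namespace Groth.Agent.S0909

set_option backward.isDefEq.respectTransparency false
set_option backward.defeqAttrib.useBackward true

open CategoryTheory CategoryTheory.Limits Opposite

section
variable {A : Type u} [SmallCategory A] [Abelian A] [Preregular A]

lemma isSheaf_preYoneda (X : A) : Presheaf.IsSheaf (regularTopology A) (preadditiveYoneda.obj X) := by
  rw [Presheaf.isSheaf_iff_isSheaf_forget (regularTopology A) _ (forget AddCommGrpCat.{u}), isSheaf_iff_isSheaf_of_type]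
  exact regularTopology.isSheaf_yoneda_obj X

noncomputable def ySheaf : A ⥤ Sheaf (regularTopology A) AddCommGrpCat.{u} where
  obj X := ⟨preadditiveYoneda.obj X, isSheaf_preYoneda X⟩
  map f := ⟨preadditiveYoneda.map f⟩

noncomputable def ySheafFF : (ySheaf (A := A)).FullyFaithful :=
  Functor.FullyFaithful.ofCompFaithful (G := sheafToPresheaf _ _)
    (Functor.FullyFaithful.ofFullyFaithful (preadditiveYoneda : A ⥤ Aᵒᵖ ⥤ AddCommGrpCat.{u}))

noncomputable def yIso : preadditiveYoneda ⋙ presheafToSheaf (regularTopology A) AddCommGrpCat.{u} ≅ ySheaf :=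
  (Functor.associator ySheaf (sheafToPresheaf _ _) (presheafToSheaf _ _)) ≪≫
    Functor.isoWhiskerLeft ySheaf (asIso (sheafificationAdjunction (regularTopology A) AddCommGrpCat.{u}).counit) ≪≫ ySheaf.rightUnitor

end

open CategoryTheory.Limits in
/-- Let A be a small abelian category, made into a site by declaring the single epimorphisms to be
coverings (Mathlib's regular topology; the regularity instance is assumed). Then the functor X ↦
h_X, viewed in abelian sheaves (here: additive Yoneda followed by sheafification, which does not
change h_X since representables are sheaves), is fully faithful and exact, and the site has enough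
points (a small conservative family of points, with fibre functors valued in Type u). -/
theorem result {A : Type u} [SmallCategory A] [Abelian A] [Preregular A] :
    (preadditiveYoneda ⋙ presheafToSheaf (regularTopology A) AddCommGrpCat.{u}).Full ∧
    (preadditiveYoneda ⋙ presheafToSheaf (regularTopology A) AddCommGrpCat.{u}).Faithful ∧
    PreservesFiniteLimits (preadditiveYoneda ⋙ presheafToSheaf (regularTopology A) AddCommGrpCat.{u}) ∧
    PreservesFiniteColimits (preadditiveYoneda ⋙ presheafToSheaf (regularTopology A) AddCommGrpCat.{u}) ∧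
    GrothendieckTopology.HasEnoughPoints.{u, u, u} (regularTopology A) := by
  haveI : (ySheaf (A := A)).Full := ySheafFF.full
  haveI : (ySheaf (A := A)).Faithful := ySheafFF.faithful
  haveI : PreservesFiniteLimits (preadditiveYoneda : A ⥤ Aᵒᵖ ⥤ AddCommGrpCat.{u}) :=
    ⟨fun J _ _ => ⟨fun {K} => preservesLimit_of_evaluation _ _ fun Y => inferInstanceAs (PreservesLimit K (preadditiveCoyoneda.obj Y))⟩⟩
  let F := preadditiveYoneda ⋙ presheafToSheaf (regularTopology A) AddCommGrpCat.{u}
  haveI : PreservesFiniteLimits F := comp_preservesFiniteLimits _ _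
  haveI : PreservesBinaryBiproducts F := preservesBinaryBiproducts_of_preservesBinaryProducts F
  haveI : F.Additive := Functor.additive_of_preservesBinaryBiproducts F
  have hepi : ∀ {X Y : A} (g : X ⟶ Y), Epi g → Epi (F.map g) := fun {X Y} g hg => by
    refine (MorphismProperty.epimorphisms _).arrow_mk_iso_iff (Arrow.isoMk (yIso.app X) (yIso.app Y) (yIso.hom.naturality g).symm) |>.mpr ?_
    haveI : Presheaf.IsLocallySurjective (regularTopology A) (ySheaf.map g).hom := by
      rw [regularTopology.isLocallySurjective_iff]
      intro Z y
      haveI := Abelian.epi_pullback_of_epi_g y g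
      haveI : IsRegularEpi (pullback.fst y g) := IsRegularEpiCategory.regularEpiOfEpi _
      refine ⟨pullback y g, pullback.fst y g, inferInstance, pullback.snd y g, ?_⟩
      exact pullback.condition.symm
    haveI : Sheaf.IsLocallySurjective (ySheaf.map g) := this
    exact (inferInstance : Epi (ySheaf.map g))
  have hex : ∀ S : ShortComplex A, S.ShortExact → (S.map F).ShortExact := fun S hS => by
    have ht := (F.preservesFiniteLimits_tfae).out 3 0
    obtain ⟨h1, h2⟩ := ht.mp ‹_› S hS
    haveI := hS.epi_g
    haveI := h2
    haveI := hepi S.g inferInstance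
    exact { exact := h1, mono_f := h2, epi_g := hepi S.g inferInstance }
  have hx := (F.exact_tfae).out 0 3
  refine ⟨Functor.Full.of_iso yIso.symm, Functor.Faithful.of_iso yIso.symm, inferInstance, (hx.mp hex).2, ?_⟩
  refine Groth.Agent.QCTopos.hasEnoughPoints_of_finite_covers A (regularTopology A) fun U S hS => ?_
  obtain ⟨Y, π, hπ, hπS⟩ := (regularTopology.mem_sieves_iff_hasEffectiveEpi S).mp hS
  exact ⟨1, fun _ => Y, fun _ => π, fun _ => hπS,
    (regularTopology.mem_sieves_iff_hasEffectiveEpi _).mpr ⟨Y, π, hπ, Sieve.ofArrows_mk _ _ (0 : Fin 1)⟩⟩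

end Groth.Agent.S0909
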