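import Groth.Statements.S0911
import Groth.Agent.DerCat.LeftDerivUnique
import Groth.Agent.DCohBridge.PullKFlat

set_option autoImplicit false
set_option backward.isDefEq.respectTransparency false
set_option backward.defeqAttrib.useBackward true
universe u
open CategoryTheory
attribute [local instance] HasDerivedCategory.standard
open DCoh

namespace Groth.Agent.S0911

open AlgebraicGeometry in
/-- For morphisms of schemes f : X → Y and g : Y → Z the composite of derived pullbacks Lf^* ∘ Lg^* is
isomorphic to L(g ∘ f)^* as functors D(O_Z) → D(O_X). The derived pullbacks are total left derived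
functors whose existence is assumed through instance arguments; the assertion is the existence of an
isomorphism of functors. The published statement is for ringed spaces; stated here for schemes. -/
theorem result {X Y Z : Scheme.{u}} (f : X ⟶ Y) (g : Y ⟶ Z)
    [DCoh.HasLpull f] [DCoh.HasLpull g] [DCoh.HasLpull (f ≫ g)] :
    Nonempty (DCoh.Lpull g ⋙ DCoh.Lpull f ≅ DCoh.Lpull (f ≫ g)) := by
  let qY := HomotopyCategory.quasiIso Y.Modules (ComplexShape.up ℤ)
  let qZ := HomotopyCategory.quasiIso Z.Modules (ComplexShape.up ℤ)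
  let cf := (DCoh.pullKh f).totalLeftDerivedCounit DerivedCategory.Qh qY
  let cg := (DCoh.pullKh g).totalLeftDerivedCounit DerivedCategory.Qh qZ
  let mg := (Scheme.Modules.pullback g).mapHomotopyCategory (ComplexShape.up ℤ)
  let mc : mg ⋙ (Scheme.Modules.pullback f).mapHomotopyCategory (ComplexShape.up ℤ) ≅
      (Scheme.Modules.pullback (f ≫ g)).mapHomotopyCategory (ComplexShape.up ℤ) :=
    Functor.mapHomotopyCategoryCompIso (Scheme.Modules.pullbackComp f g) (ComplexShape.up ℤ)
  let β : DerivedCategory.Qh ⋙ DCoh.Lpull g ⋙ DCoh.Lpull f ⟶ DCoh.pullKh (f ≫ g) :=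
    Functor.whiskerRight cg (DCoh.Lpull f) ≫ Functor.whiskerLeft mg cf ≫
      Functor.whiskerRight mc.hom DerivedCategory.Qh
  refine Groth.Agent.DerCat.LeftDeriv.nonempty_iso_totalLeftDerived DerivedCategory.Qh qZ (DCoh.pullKh (f ≫ g))
    (Groth.Agent.DCohBridge.kFlatP Z) Groth.Agent.DCohBridge.exists_kFlatP
    (fun P hP => ?_) (DCoh.Lpull g ⋙ DCoh.Lpull f) β (fun P hP => ?_)
  · obtain ⟨K, hK, rfl⟩ := hP
    exact Groth.Agent.DCohBridge.isIso_Lpull_counit (f ≫ g) hK
  · obtain ⟨K, hK, rfl⟩ := hP
    haveI h1 := Groth.Agent.DCohBridge.isIso_Lpull_counit g hK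
    haveI h2 : IsIso (cf.app (mg.obj ((HomotopyCategory.quotient Z.Modules (ComplexShape.up ℤ)).obj K))) :=
      Groth.Agent.DCohBridge.isIso_Lpull_counit f (Groth.Agent.DCohBridge.isKFlat_pull g hK)
    simp only [β, NatTrans.comp_app, Functor.whiskerRight_app, Functor.whiskerLeft_app]
    exact IsIso.comp_isIso' (Functor.map_isIso (DCoh.Lpull f) _) (IsIso.comp_isIso' h2 inferInstance)

end Groth.Agent.S0911
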