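import Groth.Statements.S0914
import Groth.Agent.DCohBridge.PerfectQCoh

set_option autoImplicit false
universe u
open CategoryTheory
attribute [local instance] HasDerivedCategory.standard
open DCoh

open Groth.Agent.DCohBridge

namespace Groth.Agent.S0914

set_option backward.isDefEq.respectTransparency false
set_option backward.defeqAttrib.useBackward true

open AlgebraicGeometry in
/-- An object E of D(O_X) is perfect if and only if it is m-pseudo-coherent for every m and locally has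
finite tor dimension. -/
theorem result {X : Scheme.{u}} (E : DCoh.D X) :
    DCoh.IsPerfect E ↔ (∀ m : ℤ, DCoh.IsPseudoCoherentD m E) ∧ DCoh.LocHasFiniteTorDim E := by
  refine ⟨fun h => ⟨fun m => (isPseudoCoherentD_iff m E).2 fun x => ?_, fun x => ?_⟩, fun ⟨h1, h2⟩ => ?_⟩
  · obtain ⟨V, j, hj, v, P, hv, hP, ⟨e⟩⟩ := (isPerfect_iff E).1 h x
    exact ⟨V, j, hj, v, P, e.inv, hv, hP, cond_isIso m e.inv⟩
  · obtain ⟨U, hxU, hF⟩ := h x
    obtain ⟨P, hP, ⟨e⟩⟩ := hF _ ⟨DerivedCategory.Q.objObjPreimageIso E⟩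
    obtain ⟨a, b, hv⟩ := hP.1
    refine ⟨U, a, b, hxU, fun F ⟨eF⟩ => ⟨P, hv, fun i => isFlat_of_finLocFree (hP.2 i), ⟨e.symm ≪≫
      restrictQIso U (DerivedCategory.Q.objObjPreimageIso E ≪≫ eF.symm)⟩⟩⟩
  · refine (isPerfect_iff E).2 fun x => ?_
    obtain ⟨V, a, b, hxV, hF⟩ := h2 x
    obtain ⟨G, hv, hfl, ⟨e⟩⟩ := hF _ ⟨DerivedCategory.Q.objObjPreimageIso E⟩
    let eV : (DCoh.restrictD V.ι).obj E ≅ DCoh.toD _ G :=
      (DCoh.restrictD V.ι).mapIso (DerivedCategory.Q.objObjPreimageIso E).symm ≪≫ restrictObjIso V.ι _ ≪≫ e.symm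
    have h3 : DCoh.HasFlatAmplitudeIn a (max a b) ((DCoh.restrictD V.ι).obj E) :=
      ⟨G, fun i hi => hv i (by omega), hfl, ⟨eV.symm⟩⟩
    have h4 := isPerfect_of_flatAmplitude (le_max_left a b) h3
      ((isPseudoCoherentD_iff _ _).2 fun v => PCAt.res V.ι rfl ((isPseudoCoherentD_iff _ _).1 (h1 _) _))
    exact PerfAt.of_res V.ι (v := ⟨x, hxV⟩) rfl ((isPerfect_iff _).1 h4 _)

end Groth.Agent.S0914
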