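import Groth.Statements.S0915
import Groth.Agent.DCohBridge.TorAmp2

set_option autoImplicit false
set_option backward.isDefEq.respectTransparency false
set_option backward.defeqAttrib.useBackward true
universe u
open CategoryTheory
attribute [local instance] HasDerivedCategory.standard
open DCoh

namespace Groth.Agent.S0915

open AlgebraicGeometry CategoryTheory.Limits in
/-- On a scheme X, let K and L be objects of D(𝒪_X). If K ⊕ L has tor-amplitude in [a, b] then K and L
each have tor-amplitude in [a, b]. (The hypothesis is taken in the flat-representative form and the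
conclusion in the derived-tensor form.) -/
theorem result {X : Scheme.{u}} (K L : DCoh.D X) [HasBinaryBiproduct K L] (a b : ℤ)
    (h : DCoh.HasFlatAmplitudeIn a b (K ⊞ L)) : DCoh.HasTorAmplitudeIn a b K ∧ DCoh.HasTorAmplitudeIn a b L := by
  have key : ∀ (A : DCoh.D X) (i : A ⟶ K ⊞ L) (r : K ⊞ L ⟶ A), i ≫ r = 𝟙 A →
      DCoh.HasTorAmplitudeIn a b A := by
    intro A i r hir F _ n hn
    have hz := Groth.Agent.DCohBridge.hasTorAmplitudeIn_of_flat h F n hn
    let G := DCoh.LTensorMod F ⋙ DerivedCategory.homologyFunctor X.Modules n
    rw [Limits.IsZero.iff_id_eq_zero]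
    calc 𝟙 (G.obj A) = G.map i ≫ G.map r := by rw [← G.map_comp, hir, G.map_id]
      _ = 0 := by
        have h0 : G.map i = 0 := hz.eq_of_tgt _ _
        rw [h0, Limits.zero_comp]
  exact ⟨key K biprod.inl biprod.fst biprod.inl_fst, key L biprod.inr biprod.snd biprod.inr_snd⟩

end Groth.Agent.S0915
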