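import Groth.Statements.S0917
import Groth.Agent.Resolve.Resolution

set_option autoImplicit false
set_option backward.isDefEq.respectTransparency false
set_option backward.defeqAttrib.useBackward true
universe v u
open CategoryTheory
open CohDer

namespace Groth.Agent.S0917

/-- In a Grothendieck abelian category A, given a small family (K_i) of acyclic cochain complexes, there
are an endofunctor N of the category of cochain complexes and a natural transformation j from the
identity to N such that for every complex M: each component of j_M is a monomorphism, j_M is a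
quasi-isomorphism, and for every i and every morphism w : K_i -> M the composite w ≫ j_M is
homotopic to zero. -/
theorem result {A : Type u} [Category.{v} A] [Abelian A]
    [IsGrothendieckAbelian.{v} A] {ι : Type v} (K : ι → CochainComplex A ℤ)
    (hK : ∀ i (n : ℤ), Limits.IsZero ((K i).homology n)) :
    ∃ (N : CochainComplex A ℤ ⥤ CochainComplex A ℤ) (j : 𝟭 _ ⟶ N),
      ∀ M : CochainComplex A ℤ, (∀ n : ℤ, Mono ((j.app M).f n)) ∧ QuasiIso (j.app M) ∧
        ∀ (i : ι) (w : K i ⟶ M), Nonempty (Homotopy (w ≫ j.app M) 0) := by
  haveI : ∀ i, Mono (HomologicalComplex.homotopyCofiber.inr (𝟙 (K i))) := fun i ↦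
    Resolve.mono_inr_id (K i)
  obtain ⟨N, j, h⟩ := Resolve.exists_functorial_embedding
    (fun i ↦ HomologicalComplex.homotopyCofiber.inr (𝟙 (K i)))
    (fun i ↦ DerCat.acyclic_cokernel _
      (fun n ↦ (HomologicalComplex.exactAt_iff_isZero_homology _ _).2 (hK i n))
      (DerCat.acyclic_cofiber_id _))
  refine ⟨N, j, fun M ↦ ⟨fun n ↦ ?_, (h M).2.1, fun i w ↦ ?_⟩⟩
  · haveI := (h M).1
    exact inferInstanceAs (Mono ((HomologicalComplex.eval A _ n).map (j.app M)))
  · obtain ⟨e, he⟩ := (h M).2.2 i (w ≫ j.app M)
    exact DerCat.nullHomotopic_of_extends _ e he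

end Groth.Agent.S0917
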