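import Groth.Statements.S0918
import Groth.Agent.Resolve.Resolution

set_option autoImplicit false
set_option backward.isDefEq.respectTransparency false
set_option backward.defeqAttrib.useBackward true
universe v u
open CategoryTheory
open CohDer

namespace Groth.Agent.S0918

/-- Let A be a Grothendieck abelian category. There are an endofunctor N of the category of cochain
complexes and a natural transformation j from the identity to N such that for every complex M: j_M
is a termwise monomorphism and a quasi-isomorphism, and for every n the map M^n -> N(M)^n factors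
through a monomorphism I -> N(M)^n from an injective object I. -/
theorem result {A : Type u} [Category.{v} A] [Abelian A]
    [IsGrothendieckAbelian.{v} A] :
    ∃ (N : CochainComplex A ℤ ⥤ CochainComplex A ℤ) (j : 𝟭 _ ⟶ N),
      ∀ M : CochainComplex A ℤ, (∀ n : ℤ, Mono ((j.app M).f n)) ∧ QuasiIso (j.app M) ∧
        ∀ n : ℤ, ∃ (I : A) (_ : Injective I) (a : M.X n ⟶ I) (b : I ⟶ (N.obj M).X n),
          Mono b ∧ a ≫ b = (j.app M).f n := by
  obtain ⟨N, j, h⟩ := Resolve.exists_functorial_injective A
  refine ⟨N, j, fun M ↦ ⟨fun n ↦ ?_, (h M).2.1, fun n ↦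
    ⟨(N.obj M).X n, (h M).2.2 n, (j.app M).f n, 𝟙 _, inferInstance, Category.comp_id _⟩⟩⟩
  haveI := (h M).1
  exact inferInstanceAs (Mono ((HomologicalComplex.eval A _ n).map (j.app M)))

end Groth.Agent.S0918
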