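import Groth.Statements.S0919
import Mathlib.CategoryTheory.Abelian.GrothendieckCategory.Coseparator
import Mathlib.CategoryTheory.Adjunction.AdjointFunctorTheorems
import Mathlib.CategoryTheory.Yoneda

set_option autoImplicit false
set_option backward.isDefEq.respectTransparency false
set_option backward.defeqAttrib.useBackward true
universe v u
open CategoryTheory
open CohDer

namespace Groth.Agent.S0919

open CategoryTheory.Limits in
/-- Let A be a Grothendieck abelian category and F a contravariant functor from A to sets (a functor on
the opposite category). Then F is representable if and only if F turns all small colimits of A into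
limits, i.e. preserves small limits as a functor on the opposite category. -/
theorem result {A : Type u} [Category.{v} A] [Abelian A]
    [IsGrothendieckAbelian.{v} A] (F : Aᵒᵖ ⥤ Type v) :
    F.IsRepresentable ↔ PreservesLimitsOfSize.{v, v} F := by
  refine ⟨fun h ↦ inferInstance, fun h ↦ ?_⟩
  haveI : F.IsRightAdjoint := isRightAdjoint_of_preservesLimits_of_isCoseparating.{v}
    ((isCoseparator_op_iff _).2 (isSeparator_separator A)) F
  let adj := Adjunction.ofIsRightAdjoint F
  exact Functor.RepresentableBy.isRepresentable (Y := (F.leftAdjoint.obj PUnit.{v + 1}).unop)
    { homEquiv := fun {X} ↦ Quiver.Hom.opEquiv.trans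
        ((adj.homEquiv _ (Opposite.op X)).trans
          { toFun := fun g ↦ g PUnit.unit
            invFun := fun x ↦ TypeCat.ofHom (fun _ ↦ x)
            left_inv := fun g ↦ by ext ⟨⟩; rfl
            right_inv := fun x ↦ rfl })
      homEquiv_comp := fun {X X'} f g ↦ by
        have h1 := adj.homEquiv_naturality_right (Quiver.Hom.opEquiv g) f.op
        exact ConcreteCategory.congr_hom h1 PUnit.unit }

end Groth.Agent.S0919
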