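import Groth.Statements.S0923
import Groth.Agent.DCohBridge.PerfectFree

set_option autoImplicit false
set_option backward.isDefEq.respectTransparency false
set_option backward.defeqAttrib.useBackward true
universe u
open CategoryTheory
attribute [local instance] HasDerivedCategory.standard
open DCoh

namespace Groth.Agent.S0923

open AlgebraicGeometry CategoryTheory.Limits in
/-- On a scheme X, an object E of D(𝒪_X) is perfect if and only if every point has an open neighbourhood
V such that the restriction to V of any complex representing E is isomorphic in D(𝒪_V) to a bounded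
complex each of whose terms is isomorphic to a finite free 𝒪_V-module. (The published statement is
for ringed spaces whose stalks are local rings and lists further equivalent conditions; here X is a
scheme and only this equivalence is stated.) -/
theorem result {X : Scheme.{u}} (E : DCoh.D X) :
    DCoh.IsPerfect E ↔ ∀ x : X, ∃ V : X.Opens, x ∈ V ∧
      ∀ F : CochainComplex X.Modules ℤ, Nonempty (DCoh.toD X F ≅ E) →
        ∃ (P : CochainComplex (V : Scheme.{u}).Modules ℤ) (a b : ℤ), DCoh.VanishesOutside P a b ∧
          (∀ i : ℤ, ∃ n : ℕ, Nonempty (P.X i ≅ FlatMod.freeMod (V : Scheme.{u}) n)) ∧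
          Nonempty (DerivedCategory.Q.obj ((DCoh.restrictCx V).obj F) ≅ DerivedCategory.Q.obj P) := by
  rw [Groth.Agent.DCohBridge.isPerfect_iff]
  refine ⟨fun h x => ?_, fun h x => ?_⟩
  · exact Groth.Agent.DCohBridge.exists_free_rep (Groth.Agent.DCohBridge.isPerfect_iff E |>.2 h) x
  · obtain ⟨V, hxV, hF⟩ := h x
    obtain ⟨P, a, b, hv, hfree, ⟨e⟩⟩ := hF _ ⟨DerivedCategory.Q.objObjPreimageIso E⟩
    refine ⟨V, V.ι, inferInstance, ⟨x, hxV⟩, P, rfl, ⟨⟨a, b, hv⟩, fun i => ?_⟩,
      ⟨(DCoh.restrictD V.ι).mapIso (DerivedCategory.Q.objObjPreimageIso E).symm ≪≫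
        Groth.Agent.DCohBridge.restrictObjIso V.ι _ ≪≫ e⟩⟩
    obtain ⟨n, ⟨en⟩⟩ := hfree i
    exact Groth.Agent.TensorMod.isFinLocFree_of_iso en.symm (Groth.Agent.TensorMod.isFinLocFree_freeMod _ n)

end Groth.Agent.S0923
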