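import Groth.Statements.S0926
import Groth.Agent.CohTopLib.Misc
import Mathlib.GroupTheory.Archimedean

set_option autoImplicit false
universe u
open CategoryTheory
open CohTop

namespace Groth.Agent.S0926

section
open CategoryTheory TopologicalSpace Opposite CategoryTheory.Limits Groth.Agent.CohTopLib Groth.Agent.QCohBase

variable {X : TopCat.{u}}

private lemma app_injective {A B : CohTop.Ab X} (f : A ⟶ B) [Mono f] (V : Opens X) :
    Function.Injective (f.hom.app (op V)) := by
  haveI : Mono f.hom := inferInstanceAs (Mono ((sheafToPresheaf _ _).map f))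
  exact (AddCommGrpCat.mono_iff_injective _).1 inferInstance

private lemma exists_factor {A B C : CohTop.Ab X} (f : A ⟶ B) (g : C ⟶ B)
    (hg : ∀ V, Function.Injective (g.hom.app V))
    (h : ∀ V a, ∃ c, g.hom.app V c = f.hom.app V a) : ∃ k : A ⟶ C, k ≫ g = f := by
  choose c hc using h
  refine ⟨⟨{ app := fun V => AddCommGrpCat.ofHom (AddMonoidHom.mk' (c V) fun a b => hg V ?_)
             naturality := fun V W i => ?_ }⟩, ?_⟩
  · rw [map_add, hc, hc, hc, map_add]
  · ext a
    refine hg W ?_
    refine (hc W (A.obj.map i a)).trans ?_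
    refine (ConcreteCategory.congr_hom (f.hom.naturality i) a).trans ?_
    exact (congrArg (B.obj.map i) (hc V a).symm).trans (ConcreteCategory.congr_hom (g.hom.naturality i) (c V a)).symm
  · ext V a
    exact hc V a

private lemma imageSubobject_le_of_fac {A B C : CohTop.Ab X} (f : A ⟶ B) (g : C ⟶ B) (h : A ⟶ C)
    (e : h ≫ g = f) : imageSubobject f ≤ imageSubobject g := by
  subst e; exact imageSubobject_comp_le h g

private abbrev cst (X : TopCat.{u}) : (Opens X)ᵒᵖ ⥤ AddCommGrpCat.{u} :=
  (Functor.const _).obj (AddCommGrpCat.of (ULift.{u} ℤ))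

private noncomputable abbrev η (X : TopCat.{u}) : cst X ⟶ sheafify (Opens.grothendieckTopology X) (cst X) :=
  toSheafify (Opens.grothendieckTopology X) (cst X)

private lemma η_injective {V : Opens X} {x : X} (hx : x ∈ V) :
    Function.Injective ((η X).app (op V)) := fun a b hab => by
  obtain ⟨Z, g, hg, -⟩ := Presheaf.equalizerSieve_mem (Opens.grothendieckTopology X) (η X)
    (X := op V) a b hab x hx
  exact hg

private lemma η_surjective [IrreducibleSpace X] {V : Opens X} {x : X} (hx : x ∈ V) :
    Function.Surjective ((η X).app (op V)) := by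
  intro s
  have hsur := (TopCat.Presheaf.isLocallySurjective_iff (η X)).1
    (Presheaf.isLocallySurjective_toSheafify' (Opens.grothendieckTopology X) (cst X)) V s
  choose W hWV hlift hxW using fun x : V => hsur x.1 x.2
  choose a ha using hlift
  have hres : ∀ (y : V) (W' : Opens X) (h : W' ≤ W y), (η X).app (op W') (a y) =
      QCohBase.res (CohTop.const X (ULift.{u} ℤ)).obj (h.trans (hWV y)) s := fun y W' h =>
    (ConcreteCategory.congr_hom ((η X).naturality (homOfLE h).op) (a y)).trans
      ((congrArg (QCohBase.res (CohTop.const X (ULift.{u} ℤ)).obj h) (ha y)).trans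
        (res_res (CohTop.const X (ULift.{u} ℤ)).obj (hWV y) h s))
  refine ⟨a ⟨x, hx⟩, TopCat.Sheaf.eq_of_locally_eq' (CohTop.const X (ULift.{u} ℤ)) W V
    (fun w => homOfLE (hWV w)) (fun y hy => Opens.mem_iSup.2 ⟨⟨y, hy⟩, hxW ⟨y, hy⟩⟩) _ _ fun w => ?_⟩
  have heq : (a ⟨x, hx⟩ : ULift.{u} ℤ) = a w := by
    obtain ⟨z, hz⟩ := nonempty_preirreducible_inter (W ⟨x, hx⟩).2 (W w).2 ⟨_, hxW ⟨x, hx⟩⟩ ⟨_, hxW w⟩
    exact η_injective (V := W ⟨x, hx⟩ ⊓ W w) hz
      ((hres _ _ inf_le_left).trans (hres _ _ inf_le_right).symm)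
  exact (ConcreteCategory.congr_hom ((η X).naturality (homOfLE (hWV w)).op) (a ⟨x, hx⟩)).symm.trans
    ((congrArg ((η X).app (op (W w))) heq).trans (ha w))

end

open TopologicalSpace CategoryTheory.Limits in
/-- Let X be an irreducible topological space and H an abelian subsheaf of the constant sheaf Z (given
by a monomorphism ι). Then there are a nonempty open U and an integer d such that over U the
subsheaf H coincides with the image of multiplication by d on the constant sheaf: the images of ι|_U
and of (d · id)|_U agree as subobjects of the constant sheaf on U. -/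
theorem result {X : TopCat.{u}} [IrreducibleSpace X]
    (H : CohTop.Ab X) (ι : H ⟶ CohTop.const X (ULift.{u} ℤ)) [Mono ι] :
    ∃ (U : Opens X) (d : ℤ), U ≠ ⊥ ∧
      imageSubobject ((CohTop.restrFunctor U).map ι) =
        imageSubobject ((CohTop.restrFunctor U).map (d • 𝟙 (CohTop.const X (ULift.{u} ℤ)))) := by
  open CategoryTheory Opposite Groth.Agent.CohTopLib Groth.Agent.QCohBase in
  exact by
    classical
    let S : Opens X → Set ℤ := fun V => {n | ∃ h, ι.hom.app (op V) h = (η X).app (op V) (ULift.up n)}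
    have hmono : ∀ V W : Opens X, V ≤ W → S W ⊆ S V := fun V W h n ⟨t, ht⟩ =>
      ⟨QCohBase.res H.obj h t, (nat_res H.obj ι.hom h t).symm.trans
        ((congrArg (QCohBase.res (CohTop.const X (ULift.{u} ℤ)).obj h) ht).trans
          (ConcreteCategory.congr_hom ((η X).naturality (homOfLE h).op) (ULift.up n)).symm)⟩
    obtain ⟨x₀⟩ := (inferInstance : Nonempty X)
    let G : AddSubgroup ℤ :=
      { carrier := {n | ∃ V : Opens X, (∃ x, x ∈ V) ∧ n ∈ S V}
        zero_mem' := ⟨⊤, ⟨x₀, trivial⟩, 0, (map_zero _).trans (map_zero ((η X).app (op ⊤)).hom).symm⟩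
        add_mem' := by
          rintro m n ⟨V, ⟨x, hx⟩, hm⟩ ⟨W, ⟨y, hy⟩, hn⟩
          obtain ⟨z, hz⟩ := nonempty_preirreducible_inter V.2 W.2 ⟨x, hx⟩ ⟨y, hy⟩
          obtain ⟨t, ht⟩ := hmono (V ⊓ W) V inf_le_left hm
          obtain ⟨t', ht'⟩ := hmono (V ⊓ W) W inf_le_right hn
          exact ⟨V ⊓ W, ⟨z, hz⟩, t + t', by
            rw [map_add, ht, ht']
            exact (map_add ((η X).app (op (V ⊓ W))).hom _ _).symm⟩
        neg_mem' := by
          rintro m ⟨V, hV, t, ht⟩
          exact ⟨V, hV, -t, by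
            rw [map_neg, ht]
            exact (map_neg ((η X).app (op V)).hom _).symm⟩ }
    obtain ⟨d, hd⟩ := Int.subgroup_cyclic G
    have hdG : d ∈ G := hd ▸ AddSubgroup.subset_closure rfl
    obtain ⟨U, ⟨x₁, hx₁⟩, hdU⟩ := hdG
    refine ⟨U, d, fun h => by rw [h] at hx₁; exact hx₁, ?_⟩
    let K := CohTop.restr (CohTop.const X (ULift.{u} ℤ)) U
    let ι' : CohTop.restr H U ⟶ K := (CohTop.restrFunctor U).map ι
    let μ : K ⟶ K := (CohTop.restrFunctor U).map (d • 𝟙 (CohTop.const X (ULift.{u} ℤ)))
    let im : Opens (TopCat.of U) → Opens X := fun V => U.isOpenEmbedding.isOpenMap.functor.obj V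
    have him : ∀ V, im V ≤ U := fun V x hx => by obtain ⟨y, -, rfl⟩ := hx; exact y.2
    have hμ : ∀ (V : (Opens (TopCat.of U))ᵒᵖ) c, μ.hom.app V c = d • c := fun V c => rfl
    have hι' : ∀ V, Function.Injective (ι'.hom.app V) := fun V => app_injective ι (im V.unop)
    have key : ∀ (V : Opens X), V ≤ U → ∀ x ∈ V, ∀ c : (CohTop.const X (ULift.{u} ℤ)).obj.obj (op V),
        (∃ t, ι.hom.app (op V) t = c) ↔ ∃ e, d • e = c := fun V hV x hx c => by
      obtain ⟨n, rfl⟩ := η_surjective hx c
      constructor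
      · rintro ⟨t, ht⟩
        have : n.down ∈ G := ⟨V, ⟨x, hx⟩, t, ht⟩
        rw [hd, AddSubgroup.mem_closure_singleton] at this
        obtain ⟨m, hm⟩ := this
        refine ⟨(η X).app (op V) (ULift.up m), (map_zsmul ((η X).app (op V)).hom d _).symm.trans ?_⟩
        exact congrArg _ (ULift.ext _ _ (by simp [← hm, mul_comm]))
      · rintro ⟨e, he⟩
        obtain ⟨m, rfl⟩ := η_surjective hx e
        obtain ⟨t, ht⟩ := hmono V U hV hdU
        refine ⟨m.down • t, (map_zsmul (ι.hom.app (op V)).hom _ _).trans ?_⟩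
        refine ((congrArg (m.down • ·) ht).trans ?_).trans he
        refine (map_zsmul ((η X).app (op V)).hom _ _).symm.trans (Eq.trans ?_ (map_zsmul ((η X).app (op V)).hom _ _))
        exact congrArg _ (ULift.ext _ _ (by simp [mul_comm]))
    have key' : ∀ (V : (Opens (TopCat.of U))ᵒᵖ) c, (∃ t, ι'.hom.app V t = c) ↔ ∃ e, μ.hom.app V e = c := by
      intro V c
      by_cases hne : ∃ x, x ∈ im V.unop
      · obtain ⟨x, hx⟩ := hne
        exact (key (im V.unop) (him _) x hx c).trans (exists_congr fun e => ⟨fun he => (hμ V e).trans he, fun he => (hμ V e).symm.trans he⟩)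
      · haveI : Subsingleton ↑(K.obj.obj V) := subsingleton_sections_bot (CohTop.const X (ULift.{u} ℤ))
          fun x hx => hne ⟨x, hx⟩
        exact ⟨fun _ => ⟨0, Subsingleton.elim _ _⟩, fun _ => ⟨0, Subsingleton.elim _ _⟩⟩
    obtain ⟨h₁, hh₁⟩ := exists_factor μ ι' hι' fun V a => (key' V _).2 ⟨a, rfl⟩
    refine le_antisymm ?_ ?_
    · by_cases hd0 : d = 0
      · have : ι' = (0 : CohTop.restr H U ⟶ K) := by
          ext V t
          obtain ⟨e, he⟩ := (key' V _).1 ⟨t, rfl⟩
          rw [← he, hμ, hd0, zero_smul]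
          rfl
        exact imageSubobject_le_of_fac ι' μ 0 (zero_comp.trans this.symm)
      · have hinj : ∀ V, Function.Injective (μ.hom.app V) := fun V a b hab => by
          by_cases hne : ∃ x, x ∈ im V.unop
          · obtain ⟨x, hx⟩ := hne
            obtain ⟨m, rfl⟩ := η_surjective hx a
            obtain ⟨n, rfl⟩ := η_surjective hx b
            rw [hμ, hμ] at hab
            have h2 := η_injective hx (((map_zsmul ((η X).app (op (im V.unop))).hom d m).trans hab).trans
              (map_zsmul ((η X).app (op (im V.unop))).hom d n).symm)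
            refine congrArg _ (ULift.ext _ _ ?_)
            exact mul_left_cancel₀ hd0 (by simpa using congrArg ULift.down h2)
          · exact (subsingleton_sections_bot (CohTop.const X (ULift.{u} ℤ))
              fun x hx => hne ⟨x, hx⟩).elim _ _
        obtain ⟨h₂, hh₂⟩ := exists_factor ι' μ hinj fun V a => (key' V _).1 ⟨a, rfl⟩
        exact imageSubobject_le_of_fac ι' μ h₂ hh₂
    · exact imageSubobject_le_of_fac μ ι' h₁ hh₁


end Groth.Agent.S0926
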