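import Groth.Statements.S0927
import Groth.Agent.ProjFormula.Basic
import Groth.Agent.LocCohZLib.Derived
import Groth.Agent.S0891
import Groth.Agent.TensorMod.FinLocFree
import Groth.Agent.DCohBridge.FinLocFreeTensor
import Groth.Agent.RPushQCoh.Qcoh

set_option backward.isDefEq.respectTransparency.types false
-- import your own Groth.Agent.* helpers here

set_option autoImplicit false
universe u
open CategoryTheory
open Coh

namespace Groth.Agent.S0927

open AlgebraicGeometry CategoryTheory.Limits in
lemma exact_tensorRightMod {X : Scheme.{u}} {A : X.Modules} (hA : FlatMod.IsFinLocFree A) :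
    PreservesFiniteLimits (DCoh.tensorRightMod A) ∧ PreservesFiniteColimits (DCoh.tensorRightMod A) :=
  DCohBridge.siteFlat_of_isFlat (DCohBridge.isFlat_of_finLocFree hA)

/-- Derived functors commute with an exact functor applied afterwards. -/
lemma nonempty_rightDerived_comp_exact {A B C : Type*} [Category A] [Abelian A] [HasInjectiveResolutions A]
    [Category B] [Abelian B] [Category C] [Abelian C] (F : A ⥤ B) [F.Additive] (G : B ⥤ C) [G.Additive]
    [Limits.PreservesFiniteLimits G] [Limits.PreservesFiniteColimits G] (n : ℕ) (X : A) :
    Nonempty (((F ⋙ G).rightDerived n).obj X ≅ G.obj ((F.rightDerived n).obj X)) := by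
  let I := injectiveResolution X
  exact ⟨I.isoRightDerivedObj (F ⋙ G) n ≪≫
    (((F.mapHomologicalComplex _).obj I.cocomplex).sc n).mapHomologyIso G ≪≫
    (G.mapIso (I.isoRightDerivedObj F n)).symm⟩

open AlgebraicGeometry CategoryTheory.Limits in
/-- Projection formula, for schemes and one degree at a time: let f : X → Y be a morphism of schemes, F
an O_X-module and E a finite locally free O_Y-module. Then for every q the O_Y-module E ⊗ R^q f_* F
is isomorphic to R^q f_* (f^* E ⊗ F). The higher direct images are the right derived functors of
f_*, under the instance argument recording that O_X-modules have injective resolutions. (The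
published statement treats ringed spaces and also gives a version for bounded-below complexes.) -/
theorem result {X Y : Scheme.{u}} (f : X ⟶ Y) [HasInjectiveResolutions X.Modules]
    (F : X.Modules) (E : Y.Modules) (hE : FlatMod.IsFinLocFree E) (q : ℕ) :
    Nonempty (CohB1.tensorMod E ((Coh.Rpush f q).obj F) ≅
      (Coh.Rpush f q).obj (CohB1.tensorMod ((Scheme.Modules.pullback f).obj E) F)) := by
  have hE' : FlatMod.IsFinLocFree ((Scheme.Modules.pullback f).obj E) :=
    TensorMod.isFinLocFree_pullback f hE
  haveI := (exact_tensorRightMod hE).1
  haveI := (exact_tensorRightMod hE).2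
  haveI := (exact_tensorRightMod hE').1
  haveI := (exact_tensorRightMod hE').2
  haveI : PreservesFiniteLimits (Scheme.Modules.pushforward f) :=
    haveI := (Scheme.Modules.pullbackPushforwardAdjunction f).rightAdjoint_preservesLimits
    PreservesLimitsOfSize.preservesFiniteLimits.{0, 0} _
  obtain ⟨a⟩ := nonempty_rightDerived_comp_exact (Scheme.Modules.pushforward f) (DCoh.tensorRightMod E) q F
  obtain ⟨b⟩ := LocCohZLib.nonempty_comp_rightDerived_iso (DCoh.tensorRightMod ((Scheme.Modules.pullback f).obj E))
    (Scheme.Modules.pushforward f) (fun J hJ n => by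
      haveI : Injective ((DCoh.tensorRightMod ((Scheme.Modules.pullback f).obj E)).obj J) :=
        haveI := hJ
        Injective.of_iso (TensorMod.commIso _ _) (S0891.result J _ hE')
      exact Functor.isZero_rightDerived_obj_injective_succ _ n _) q
  exact ⟨TensorMod.commIso _ _ ≪≫ a.symm ≪≫ (RDer.rightDerivedIso (ProjFormula.natIso f E hE) q).app F ≪≫
    b.app F ≪≫ ((Scheme.Modules.pushforward f).rightDerived q).mapIso (TensorMod.commIso _ _)⟩

end Groth.Agent.S0927
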