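import Groth.Statements.S0930
import Groth.Agent.CohTopLib.Functors
import Mathlib.Algebra.Homology.DerivedCategory.RightDerivedFunctorPlus

set_option autoImplicit false
universe u
open CategoryTheory
attribute [local instance] HasDerivedCategory.standard
open CohTop

namespace Groth.Agent.S0930

section
open CategoryTheory CategoryTheory.Limits

universe w₁ w₂ w₃ v₁ v₂ v₃ u₁ u₂ u₃

variable {A : Type u₁} [Category.{v₁} A] [Abelian A] [HasDerivedCategory.{w₁} A] [EnoughInjectives A]
  {B : Type u₂} [Category.{v₂} B] [Abelian B] [HasDerivedCategory.{w₂} B] [EnoughInjectives B]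
  {C : Type u₃} [Category.{v₃} C] [Abelian C] [HasDerivedCategory.{w₃} C]

private noncomputable abbrev GI (A : Type u₁) [Category.{v₁} A] [Abelian A] [HasDerivedCategory.{w₁} A] :
    HomotopyCategory.Plus (InjectiveObject A) ⥤ DerivedCategory.Plus A :=
  (InjectiveObject.ι A).mapHomotopyCategoryPlus ⋙ DerivedCategory.Plus.Qh

omit [EnoughInjectives A] in
private lemma isKInjective_GI (Y : HomotopyCategory.Plus (InjectiveObject A)) :
    CochainComplex.IsKInjective ((InjectiveObject.ι A).mapHomotopyCategoryPlus.obj Y).1.as := by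
  obtain ⟨X, hX⟩ := Y
  obtain ⟨K, rfl⟩ := HomotopyCategory.quotient_obj_surjective X
  obtain ⟨n, hn⟩ := (HomotopyCategory.plus_quotient_obj_iff _).mp hX
  show CochainComplex.IsKInjective (((InjectiveObject.ι A).mapHomologicalComplex (.up ℤ)).obj K)
  have : ∀ m : ℤ, Injective ((((InjectiveObject.ι A).mapHomologicalComplex (.up ℤ)).obj K).X m) :=
    fun m => inferInstanceAs (Injective ((InjectiveObject.ι A).obj (K.X m)))
  have := (CochainComplex.isStrictlyGE_mapHomologicalComplex_obj_iff K (InjectiveObject.ι A) n).2 hn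
  exact CochainComplex.isKInjective_of_injective _ n

private lemma isEquivalence_GI : (GI A).IsEquivalence where
  faithful :=
    { map_injective := fun {X Y} a b h => (InjectiveObject.ι A).mapHomotopyCategoryPlus.map_injective
        ((DerivedCategory.Plus.Qh_map_bijective_of_isKInjective _ _ (isKInjective_GI Y)).1 h) }
  full :=
    { map_surjective := fun {X Y} φ => by
        obtain ⟨ψ, hψ⟩ := (DerivedCategory.Plus.Qh_map_bijective_of_isKInjective
          _ _ (isKInjective_GI Y)).2 φ
        exact ⟨(InjectiveObject.ι A).mapHomotopyCategoryPlus.preimage ψ, by simpa using hψ⟩ }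
  essSurj :=
    { mem_essImage := fun X => by
        obtain ⟨n, hn⟩ := X.property
        have : X.IsGE n := (X.isGE_ι_obj_iff n).1 hn
        obtain ⟨L, _, ⟨e⟩⟩ := DerivedCategory.Plus.exists_injective_nonempty_iso X n
        exact ⟨(HomotopyCategory.Plus.quotient _).obj L, ⟨e⟩⟩ }

/-- the derived functor on complexes of injectives -/
private noncomputable def onInj (F : A ⥤ B) [F.Additive] :
    GI A ⋙ F.rightDerivedFunctorPlus ≅
      (InjectiveObject.ι A).mapHomotopyCategoryPlus ⋙ F.mapHomotopyCategoryPlus ⋙ DerivedCategory.Plus.Qh :=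
  (NatIso.ofComponents (fun X => asIso (F.rightDerivedFunctorPlusUnit.app
    ((InjectiveObject.ι A).mapHomotopyCategoryPlus.obj X)))
    (fun {X Y} a => F.rightDerivedFunctorPlusUnit.naturality _)).symm

private theorem nonempty_comp_iso (F : A ⥤ B) [F.Additive] (G : B ⥤ C) [G.Additive] (H : A ⥤ C) [H.Additive]
    (e : F ⋙ G ≅ H) (hF : ∀ I : A, Injective I → Injective (F.obj I)) :
    Nonempty (F.rightDerivedFunctorPlus ⋙ G.rightDerivedFunctorPlus ≅ H.rightDerivedFunctorPlus) := by
  let F' : InjectiveObject A ⥤ InjectiveObject B :=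
    ObjectProperty.lift _ (InjectiveObject.ι A ⋙ F) fun I => hF _ I.2
  haveI : F'.Additive := { map_add := fun {X Y f g} => ObjectProperty.hom_ext _ (F.map_add (f := f.hom) (g := g.hom)) }
  let K := InjectiveObject.ι A ⋙ F
  let c₁ : (InjectiveObject.ι A).mapHomotopyCategoryPlus ⋙ F.mapHomotopyCategoryPlus ≅ K.mapHomotopyCategoryPlus :=
    Functor.mapHomotopyCategoryPlusCompIso (Iso.refl K)
  let c₂ : F'.mapHomotopyCategoryPlus ⋙ (InjectiveObject.ι B).mapHomotopyCategoryPlus ≅ K.mapHomotopyCategoryPlus :=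
    Functor.mapHomotopyCategoryPlusCompIso (F := F') (G := InjectiveObject.ι B) (H := K) (Iso.refl _)
  let c₃ : F.mapHomotopyCategoryPlus ⋙ G.mapHomotopyCategoryPlus ≅ H.mapHomotopyCategoryPlus :=
    Functor.mapHomotopyCategoryPlusCompIso e
  haveI := isEquivalence_GI (A := A)
  refine ⟨((GI A).asEquivalence.congrLeft.fullyFaithfulInverse).preimageIso ?_⟩
  exact Functor.isoWhiskerRight (onInj F) G.rightDerivedFunctorPlus ≪≫
    Functor.isoWhiskerRight (Functor.isoWhiskerRight (c₁ ≪≫ c₂.symm) DerivedCategory.Plus.Qh) G.rightDerivedFunctorPlus ≪≫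
    Functor.isoWhiskerLeft F'.mapHomotopyCategoryPlus (onInj G) ≪≫
    Functor.isoWhiskerRight (Functor.isoWhiskerRight (c₂ ≪≫ c₁.symm) G.mapHomotopyCategoryPlus) DerivedCategory.Plus.Qh ≪≫
    Functor.isoWhiskerLeft (InjectiveObject.ι A).mapHomotopyCategoryPlus
      (Functor.isoWhiskerRight c₃ DerivedCategory.Plus.Qh) ≪≫
    (onInj H).symm

end

/-- For continuous maps f : X -> Y and g : Y -> Z, the composite of the right derived functors Rf_* :
D^+(X) -> D^+(Y) and Rg_* : D^+(Y) -> D^+(Z) is isomorphic to R(g ∘ f)_* (existence of an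
isomorphism of functors between bounded below derived categories). -/
theorem result {X Y Z : TopCat.{u}} (f : X ⟶ Y) (g : Y ⟶ Z) :
    Nonempty ((CohTop.push f).rightDerivedFunctorPlus ⋙ (CohTop.push g).rightDerivedFunctorPlus ≅
      (CohTop.push (f ≫ g)).rightDerivedFunctorPlus) := by
  exact nonempty_comp_iso (CohTop.push f) (CohTop.push g) (CohTop.push (f ≫ g)) (Iso.refl _)
    (fun I hI => haveI := hI; Groth.Agent.CohTopLib.injective_push f I)

end Groth.Agent.S0930
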