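import Groth.Statements.S0934
import Groth.Agent.DCohBridge.LocalLift

set_option autoImplicit false
universe u
open CategoryTheory
open Coh

namespace Groth.Agent.S0934

open AlgebraicGeometry in
/-- Schemes; E finite locally free, which on a scheme is locally the same as a direct summand of a
finite free module: let p : G -> F be an epimorphism of O_X-modules and φ : E -> F a morphism with E
finite locally free. Then every point has an open neighbourhood V and a morphism ψ : E|_V -> G|_V
with ψ ≫ p|_V = φ|_V. -/
theorem result {X : Scheme.{u}} {E F G : X.Modules} (p : G ⟶ F) [Epi p] (φ : E ⟶ F)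
    (hE : FlatMod.IsFinLocFree E) (x : X) :
    ∃ (V : X.Opens) (ψ : E.restrict V.ι ⟶ G.restrict V.ι), x ∈ V ∧
      ψ ≫ (Scheme.Modules.restrictFunctor V.ι).map p = (Scheme.Modules.restrictFunctor V.ι).map φ := by
  obtain ⟨W, j, hj, v, s, hv, hs⟩ := Groth.Agent.DCohBridge.exists_local_lift hE p φ x
  haveI := hj
  let i := j.isoOpensRange
  have hi : i.inv ≫ j = j.opensRange.ι := j.isoOpensRange_inv_comp
  let N : Scheme.Modules.restrictFunctor j.opensRange.ι ≅
      Scheme.Modules.restrictFunctor j ⋙ Scheme.Modules.restrictFunctor i.inv :=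
    Scheme.Modules.restrictFunctorCongr hi.symm ≪≫ Scheme.Modules.restrictFunctorComp i.inv j
  refine ⟨j.opensRange, N.hom.app E ≫ (Scheme.Modules.restrictFunctor i.inv).map s ≫ N.inv.app G, ⟨v, hv⟩, ?_⟩
  rw [Category.assoc, Category.assoc, ← N.inv.naturality p, Functor.comp_map, ← Functor.map_comp_assoc, hs]
  exact CategoryTheory.NatIso.naturality_2 N φ

end Groth.Agent.S0934
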