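import Groth.Statements.S0938
import Groth.Agent.FlatModLib.Summand

set_option autoImplicit false
universe u
open CategoryTheory
open Coh

namespace Groth.Agent.S0938

open AlgebraicGeometry CategoryTheory.Limits
open Groth.Agent.FlatModLib Groth.Agent.QCohBase

noncomputable section

variable {X : Scheme.{u}}

/-- Global sections. -/
def gam (X : Scheme.{u}) : X.Modules ⥤ ModuleCat.{u} (Γ(X, ⊤)) where
  obj M := ModuleCat.of Γ(X, ⊤) Γ(M, (⊤ : X.Opens))
  map {M N} f := ModuleCat.ofHom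
    { toFun := fun x => f.app ⊤ x
      map_add' := fun x y => map_add _ x y
      map_smul' := fun r x => Scheme.Modules.Hom.app_smul f r x }
  map_id M := rfl
  map_comp f g := rfl

lemma gam_map_apply {M N : X.Modules} (f : M ⟶ N) (x : Γ(M, (⊤ : X.Opens))) :
    ((gam X).map f).hom x = f.app ⊤ x := rfl

abbrev inj {n : ℕ} (j : Fin n) : Coh.structureModule X ⟶ FlatMod.freeMod X n :=
  Sigma.ι (fun _ : Fin n => Coh.structureModule X) j

def proj {n : ℕ} (j : Fin n) : FlatMod.freeMod X n ⟶ Coh.structureModule X :=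
  Sigma.desc fun k => if k = j then 𝟙 _ else 0

lemma inj_proj {n : ℕ} (k j : Fin n) : inj (X := X) k ≫ proj j = if k = j then 𝟙 _ else 0 :=
  Sigma.ι_desc _ _

lemma sum_proj_inj (n : ℕ) : ∑ j, proj j ≫ inj j = 𝟙 (FlatMod.freeMod X n) := by
  refine Sigma.hom_ext _ _ fun k => ?_
  rw [Preadditive.comp_sum, Finset.sum_eq_single k]
  · rw [← Category.assoc]
    erw [inj_proj]
    simp [inj]
  · intro b _ hb
    rw [← Category.assoc]
    erw [inj_proj]
    simp [Ne.symm hb]
  · simp

/-- Basis elements. -/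
def one' {n : ℕ} (j : Fin n) : Γ(FlatMod.freeMod X n, (⊤ : X.Opens)) :=
  (inj j).app ⊤ (1 : Γ(X, ⊤))

def co {n : ℕ} (j : Fin n) (x : Γ(FlatMod.freeMod X n, (⊤ : X.Opens))) : Γ(X, ⊤) :=
  coord (proj j) ⊤ x

lemma smul_one' {n : ℕ} (j : Fin n) (a : Γ(X, ⊤)) : a • one' j = (inj j).app ⊤ a := by
  refine (Scheme.Modules.Hom.app_smul (inj j) a _).symm.trans ?_
  exact congrArg (fun z => (inj j).app ⊤ z) (mul_one a)

lemma sum_co {n : ℕ} (x : Γ(FlatMod.freeMod X n, (⊤ : X.Opens))) : ∑ j, co j x • one' j = x := by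
  have h : (∑ j, proj j ≫ inj j).app ⊤ x = x := by
    rw [sum_proj_inj]; rfl
  rw [app_sum] at h
  refine Eq.trans ?_ h
  exact Finset.sum_congr rfl fun j _ => smul_one' j _

lemma co_one' {n : ℕ} (k j : Fin n) : co j (one' (X := X) k) = if k = j then 1 else 0 := by
  change (inj k ≫ proj j).app ⊤ (1 : Γ(X, ⊤)) = _
  rw [inj_proj]
  split <;> rfl

def freeEquiv (X : Scheme.{u}) (n : ℕ) :
    Γ(FlatMod.freeMod X n, (⊤ : X.Opens)) ≃ₗ[Γ(X, ⊤)] (Fin n → Γ(X, ⊤)) where
  toFun x j := co j x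
  map_add' x y := funext fun j => map_add _ x y
  map_smul' r x := funext fun j => coord_smul _ ⊤ r x
  invFun a := ∑ j, a j • one' j
  left_inv x := sum_co x
  right_inv a := funext fun j => by
    refine (coord_sum (proj j) ⊤ _ _).trans ?_
    rw [Finset.sum_eq_single j]
    · refine (coord_smul _ ⊤ _ _).trans ?_
      rw [show coord (proj j) ⊤ (one' (X := X) j) = 1 from (co_one' j j).trans (if_pos rfl), mul_one]
    · intro b _ hb
      refine (coord_smul _ ⊤ _ _).trans ?_
      rw [show coord (proj j) ⊤ (one' (X := X) b) = 0 from (co_one' b j).trans (if_neg hb), mul_zero]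
    · simp

lemma mres_self (M : X.Modules) (m : Γ(M, (⊤ : X.Opens))) : mres M (le_refl (⊤ : X.Opens)) m = m := by
  change M.presheaf.map (homOfLE (le_refl (⊤ : X.Opens))).op m = m
  rw [show (homOfLE (le_refl (⊤ : X.Opens))).op = 𝟙 _ from rfl, CategoryTheory.Functor.map_id]
  rfl

lemma ext_one' {n : ℕ} {P : Type u} [AddCommGroup P] [Module Γ(X, ⊤) P]
    (a b : Γ(FlatMod.freeMod X n, (⊤ : X.Opens)) →ₗ[Γ(X, ⊤)] P)
    (h : ∀ j, a (one' j) = b (one' j)) : a = b := LinearMap.ext fun x => by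
  rw [← sum_co x, map_sum, map_sum]
  refine Finset.sum_congr rfl fun j _ => ?_
  rw [map_smul, map_smul, h j]

/-- Maps out of a free module are the maps of global sections. -/
lemma lift_free {n : ℕ} (N : X.Modules) (φ : (gam X).obj (FlatMod.freeMod X n) ⟶ (gam X).obj N) :
    ∃ f : FlatMod.freeMod X n ⟶ N, (gam X).map f = φ := by
  let f : FlatMod.freeMod X n ⟶ N := Sigma.desc fun j => mulSec N (φ.hom (one' j))
  have he : ∀ j, f.app ⊤ (one' j) = φ.hom (one' j) := fun j => by
    change (inj j ≫ f).app ⊤ (1 : Γ(X, ⊤)) = _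
    rw [show inj j ≫ f = mulSec N (φ.hom (one' j)) from Sigma.ι_desc _ _]
    refine (mulSec_app N _ ⊤ 1).trans ?_
    rw [one_smul]
    exact mres_self N _
  exact ⟨f, ModuleCat.hom_ext (ext_one' _ _ he)⟩

lemma mul_res_one {W : X.Opens} (h : W ⟶ ⊤) (r : Γ(X, W)) :
    r = r * (X.presheaf.map h.op).hom 1 := by rw [map_one, mul_one]

lemma free_hom_ext {n : ℕ} {N : X.Modules} {f g : FlatMod.freeMod X n ⟶ N}
    (h : (gam X).map f = (gam X).map g) : f = g := by
  refine Sigma.hom_ext _ _ fun j => ?_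
  have key : ∀ a : Coh.structureModule X ⟶ N, a = mulSec N (a.app ⊤ (1 : Γ(X, ⊤))) := fun a => by
    refine Eq.trans ?_ (mulSec_comp (show Γ(Coh.structureModule X, (⊤ : X.Opens)) from (1 : Γ(X, ⊤))) a)
    ext W r
    rw [Scheme.Modules.Hom.comp_app, ConcreteCategory.comp_apply, mulSec_app]
    congr 1
    exact mul_res_one _ r
  rw [key (inj j ≫ f), key (inj j ≫ g)]
  congr 1
  exact LinearMap.congr_fun (congrArg ModuleCat.Hom.hom h) (one' j)

abbrev PL (X : Scheme.{u}) : ObjectProperty X.Modules := fun M =>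
  ∃ (n : ℕ) (i : M ⟶ FlatMod.freeMod X n) (r : FlatMod.freeMod X n ⟶ M), i ≫ r = 𝟙 M

abbrev PR (X : Scheme.{u}) : ObjectProperty (ModuleCat.{u} (Γ(X, ⊤))) := fun N =>
  Module.Finite (Γ(X, ⊤)) N ∧ Module.Projective (Γ(X, ⊤)) N

lemma gam_mem (M : X.Modules) (hM : PL X M) : PR X ((gam X).obj M) := by
  obtain ⟨n, i, r, hir⟩ := hM
  haveI : Module.Finite Γ(X, ⊤) Γ(FlatMod.freeMod X n, (⊤ : X.Opens)) :=
    Module.Finite.equiv (freeEquiv X n).symm
  haveI : Module.Projective Γ(X, ⊤) Γ(FlatMod.freeMod X n, (⊤ : X.Opens)) :=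
    Module.Projective.of_equiv (freeEquiv X n).symm
  have h : ((gam X).map r).hom ∘ₗ ((gam X).map i).hom = LinearMap.id := by
    rw [← ModuleCat.hom_comp, ← Functor.map_comp, hir, CategoryTheory.Functor.map_id]
    rfl
  let R' : Γ(FlatMod.freeMod X n, (⊤ : X.Opens)) →ₗ[Γ(X, ⊤)] Γ(M, (⊤ : X.Opens)) := ((gam X).map r).hom
  let I' : Γ(M, (⊤ : X.Opens)) →ₗ[Γ(X, ⊤)] Γ(FlatMod.freeMod X n, (⊤ : X.Opens)) := ((gam X).map i).hom
  have h' : R' ∘ₗ I' = LinearMap.id := h
  exact ⟨(Module.Finite.of_surjective R' fun x => ⟨I' x, LinearMap.congr_fun h' x⟩ :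
      Module.Finite Γ(X, ⊤) Γ(M, (⊤ : X.Opens))),
    (Module.Projective.of_split I' R' h' : Module.Projective Γ(X, ⊤) Γ(M, (⊤ : X.Opens)))⟩

def G (X : Scheme.{u}) : (PL X).FullSubcategory ⥤ (PR X).FullSubcategory :=
  (PR X).lift ((PL X).ι ⋙ gam X) fun M => gam_mem M.obj M.property

instance : (G X).Faithful where
  map_injective {M N} f g h := by
    obtain ⟨n, i, r, hir⟩ := M.property
    have h' : (gam X).map f.hom = (gam X).map g.hom := congrArg (fun z => z.hom) h
    have h2 : r ≫ f.hom = r ≫ g.hom := free_hom_ext (by rw [Functor.map_comp, Functor.map_comp, h'])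
    refine ObjectProperty.hom_ext _ ?_
    rw [← Category.id_comp f.hom, ← hir, Category.assoc, h2, ← Category.assoc, hir, Category.id_comp]

instance : (G X).Full where
  map_surjective {M N} φ := by
    obtain ⟨n, i, r, hir⟩ := M.property
    obtain ⟨h, hh⟩ := lift_free N.obj ((gam X).map r ≫ φ.hom)
    refine ⟨ObjectProperty.homMk (i ≫ h), ObjectProperty.hom_ext _ ?_⟩
    change (gam X).map (i ≫ h) = φ.hom
    rw [Functor.map_comp, hh, ← Category.assoc, ← Functor.map_comp, hir,
      CategoryTheory.Functor.map_id, Category.id_comp]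

instance : (G X).EssSurj where
  mem_essImage := fun N => by
    haveI := N.property.1
    haveI := N.property.2
    obtain ⟨n, p, hp⟩ := Module.Finite.exists_fin' Γ(X, ⊤) N.obj
    obtain ⟨s, hs⟩ := Module.projective_lifting_property p LinearMap.id hp
    let F := (gam X).obj (FlatMod.freeMod X n)
    let p' : F ⟶ N.obj := ModuleCat.ofHom (p ∘ₗ (freeEquiv X n).toLinearMap)
    let s' : N.obj ⟶ F := ModuleCat.ofHom ((freeEquiv X n).symm.toLinearMap ∘ₗ s)
    have hsp : s' ≫ p' = 𝟙 _ := ModuleCat.hom_ext (LinearMap.ext fun x => by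
      change p ((freeEquiv X n) ((freeEquiv X n).symm (s x))) = x
      rw [LinearEquiv.apply_symm_apply]
      exact LinearMap.congr_fun hs x)
    obtain ⟨E, hE⟩ := lift_free (FlatMod.freeMod X n) (p' ≫ s')
    have hEE : E ≫ E = E := free_hom_ext (by
      rw [Functor.map_comp, hE, Category.assoc, reassoc_of% hsp])
    obtain ⟨M, i, e, h1, h2⟩ := IsIdempotentComplete.idempotents_split _ E hEE
    refine ⟨⟨M, n, i, e, h1⟩, ⟨?_⟩⟩
    refine (PR X).isoMk ⟨(gam X).map i ≫ p', s' ≫ (gam X).map e, ?_, ?_⟩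
    · change ((gam X).map i ≫ p') ≫ s' ≫ (gam X).map e = 𝟙 ((gam X).obj M)
      rw [Category.assoc, ← Category.assoc p', ← hE, ← Functor.map_comp, ← Functor.map_comp, ← h2,
        Category.assoc, h1, Category.comp_id, h1, CategoryTheory.Functor.map_id]
    · change (s' ≫ (gam X).map e) ≫ (gam X).map i ≫ p' = 𝟙 _
      rw [Category.assoc, ← Category.assoc ((gam X).map e), ← Functor.map_comp, h2, hE,
        ← Category.assoc, ← Category.assoc s', hsp, Category.id_comp, hsp]

instance : (G X).IsEquivalence where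

end


open AlgebraicGeometry CategoryTheory.Limits in
/-- For a scheme X with R = Γ(X, O_X), the full subcategory of O_X-modules which are retracts of a
finite free O_X-module is equivalent to the full subcategory of R-modules which are finite and
projective (existence of an equivalence of categories). The published statement is for ringed
spaces; stated here for schemes. -/
theorem result {X : Scheme.{u}} :
    Nonempty ((ObjectProperty.FullSubcategory fun M : X.Modules =>
        ∃ (n : ℕ) (i : M ⟶ FlatMod.freeMod X n) (r : FlatMod.freeMod X n ⟶ M), i ≫ r = 𝟙 M) ≌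
      (ObjectProperty.FullSubcategory fun N : ModuleCat.{u} (Γ(X, ⊤)) =>
        Module.Finite (Γ(X, ⊤)) N ∧ Module.Projective (Γ(X, ⊤)) N)) := by
  exact ⟨(G X).asEquivalence⟩

end Groth.Agent.S0938
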