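import Groth.Statements.S0946
import Groth.Agent.SoftSheaf.BaseChange

set_option autoImplicit false
universe u
open CategoryTheory
open CohTop

namespace Groth.Agent.S0946

open TopologicalSpace Opposite CategoryTheory.Limits in
/-- Take a quasi-compact subset Z of a topological space X whose points are pairwise separated by
disjoint opens of X, and an abelian sheaf F on X. For every p the group H^p(Z, F|_Z) (cohomology of
the pullback of F to the subspace Z) is isomorphic to the colimit of the groups H^p(U, F) over the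
open neighbourhoods U of Z (existence of an isomorphism with the colimit of the cohomology presheaf
restricted to the opens containing Z). -/
theorem result {X : TopCat.{u}} (Z : Set X) (hZ : IsCompact Z)
    (hsep : ∀ x ∈ Z, ∀ y ∈ Z, x ≠ y → ∃ U V : Opens X, x ∈ U ∧ y ∈ V ∧ Disjoint U V)
    (F : CohTop.Ab X) (p : ℕ) :
    Nonempty ((colimit (ObjectProperty.ι (fun U : (Opens X)ᵒᵖ => Z ⊆ (U.unop : Set X)) ⋙
        (Sheaf.cohomologyPresheafFunctor (Opens.grothendieckTopology X) p).obj F) : AddCommGrpCat.{u}) ≃+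
      CohTop.H ((CohTop.pull (TopCat.ofHom ⟨Subtype.val, continuous_subtype_val⟩ : TopCat.of Z ⟶ X)).obj F) p) := by
  haveI : CompactSpace (TopCat.of Z) := isCompact_iff_compactSpace.1 hZ
  have hsep' : ∀ x ∈ Set.range (TopCat.ofHom ⟨Subtype.val, continuous_subtype_val⟩ : TopCat.of Z ⟶ X),
      ∀ y ∈ Set.range (TopCat.ofHom ⟨Subtype.val, continuous_subtype_val⟩ : TopCat.of Z ⟶ X),
      x ≠ y → Disjoint (nhds x) (nhds y) := by
    rintro _ ⟨a, rfl⟩ _ ⟨b, rfl⟩ hne
    obtain ⟨U, V, ha, hb, hd⟩ := hsep a.1 a.2 b.1 b.2 hne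
    exact Filter.disjoint_of_disjoint_of_mem
      (Set.disjoint_left.2 fun t htU htV => (disjoint_iff_inf_le.1 hd) (show t ∈ U ⊓ V from ⟨htU, htV⟩))
      (U.isOpen.mem_nhds ha) (V.isOpen.mem_nhds hb)
  haveI : T2Space (TopCat.of Z) :=
    Groth.Agent.SoftSheaf.t2Space_of_sep (i := (TopCat.ofHom ⟨Subtype.val, continuous_subtype_val⟩ : TopCat.of Z ⟶ X))
      Topology.IsInducing.subtypeVal Subtype.val_injective hsep'
  exact Groth.Agent.SoftSheaf.nonempty_colimit_nbhd _ Topology.IsInducing.subtypeVal Subtype.val_injective hsep' F _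
    (fun U => by rw [show Set.range (TopCat.ofHom ⟨Subtype.val, continuous_subtype_val⟩ : TopCat.of Z ⟶ X) = Z from Subtype.range_coe]) p

end Groth.Agent.S0946
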