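import Groth.Statements.S0953
import Groth.Agent.SiteBase.KFlat.Bounded
import Groth.Agent.DCohBridge.Flat

set_option autoImplicit false
set_option backward.isDefEq.respectTransparency false
set_option backward.defeqAttrib.useBackward true
universe u
open CategoryTheory
attribute [local instance] HasDerivedCategory.standard
open DCoh

namespace Groth.Agent.S0953

open AlgebraicGeometry in
/-- A bounded above complex of O_X-modules all of whose terms are flat (stalkwise) is K-flat. -/
theorem result {X : Scheme.{u}} (K : CochainComplex X.Modules ℤ) (b : ℤ) (hb : K.IsStrictlyLE b)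
    (hflat : ∀ n : ℤ, FlatMod.IsFlat (K.X n)) : DCoh.IsKFlat K := by
  exact Groth.Agent.SiteBase.KFlat.isKFlat_of_bddAbove (O := X.sheaf) (K := K)
    (fun n ↦ Groth.Agent.DCohBridge.siteFlat_of_isFlat (hflat n)) b
    (fun q hq ↦ CochainComplex.isZero_of_isStrictlyLE K b q hq)

end Groth.Agent.S0953
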