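import Groth.Statements.S0964
import Groth.Agent.DCohBridge.TensorAssoc

set_option autoImplicit false
universe u
open CategoryTheory
attribute [local instance] HasDerivedCategory.standard
open DCoh

namespace Groth.Agent.S0964

open AlgebraicGeometry DCohBridge in
theorem exists_compIso {X : Scheme.{u}} (K L : CochainComplex X.Modules ℤ) (hL : DCoh.IsKFlat L)
    [DCoh.HasLTensorCx K] [DCoh.HasLTensorCx L] [DCoh.HasLTensorCx ((DCoh.tensorCx.obj K).obj L)] :
    Nonempty (DCoh.LTensorCx K ⋙ DCoh.LTensorCx L ≅ DCoh.LTensorCx ((DCoh.tensorCx.obj K).obj L)) := by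
  let A := (DCoh.tensorCx.obj K).obj L
  let cK := LTensorCxCounit K
  let cL := LTensorCxCounit L
  let α : DerivedCategory.Q ⋙ (DCoh.LTensorCx K ⋙ DCoh.LTensorCx L) ⟶ DCoh.tensorCxQ A :=
    (Functor.associator _ _ _).inv ≫ Functor.whiskerRight cK _ ≫ (Functor.associator _ _ _).hom ≫
      Functor.whiskerLeft (DCoh.tensorCx.flip.obj K) cL ≫ (Functor.associator _ _ _).inv ≫
        Functor.whiskerRight (totAssocNatIso K L).hom DerivedCategory.Q
  let τ := (DCoh.LTensorCx A).leftDerivedLift (LTensorCxCounit A)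
    (HomologicalComplex.quasiIso X.Modules (ComplexShape.up ℤ)) _ α
  have hP : ∀ P : CochainComplex X.Modules ℤ, DCoh.IsKFlat P → IsIso (τ.app (DerivedCategory.Q.obj P)) := by
    intro P hP
    have h1 : τ.app (DerivedCategory.Q.obj P) ≫ (LTensorCxCounit A).app P = α.app P :=
      (DCoh.LTensorCx A).leftDerived_fac_app (LTensorCxCounit A) _ _ α P
    haveI := isIso_LTensorCx_counit A hP
    haveI : IsIso (α.app P) := by
      haveI := isIso_LTensorCx_counit K hP
      haveI := isIso_LTensorCx_counit_of_kFlat hL ((DCoh.tensorCx.flip.obj K).obj P)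
      dsimp only [α, NatTrans.comp_app, Functor.whiskerRight_app, Functor.whiskerLeft_app,
        Functor.associator_inv_app, Functor.associator_hom_app, cK, cL]
      infer_instance
    exact IsIso.of_isIso_fac_right h1
  haveI : ∀ Z, IsIso (τ.app Z) := fun Z => by
    obtain ⟨P, hP', ⟨e⟩⟩ := exists_kFlat_obj Z
    exact (NatTrans.isIso_app_iff_of_iso τ e).1 (hP P hP')
  haveI := NatIso.isIso_of_isIso_app τ
  exact ⟨asIso τ⟩

open AlgebraicGeometry in
/-- Schemes; K, L given by complexes with L K-flat, so that K ⊗^L L is the total tensor complex K ⊗ L: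
for every M in D(O_X) there is an isomorphism RHom(K, RHom(L, M)) ≅ RHom(K ⊗ L, M). The derived
tensor functors – ⊗^L K, – ⊗^L L, – ⊗^L (K ⊗ L) and their right adjoints RHom are taken under their
existence binders; the assertion is the existence of an isomorphism for each M. -/
theorem result {X : Scheme.{u}} (K L : CochainComplex X.Modules ℤ) (hL : DCoh.IsKFlat L)
    [DCoh.HasLTensorCx K] [DCoh.HasRSheafHom K] [DCoh.HasLTensorCx L] [DCoh.HasRSheafHom L]
    [DCoh.HasLTensorCx ((DCoh.tensorCx.obj K).obj L)] [DCoh.HasRSheafHom ((DCoh.tensorCx.obj K).obj L)] (M : DCoh.D X) :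
    Nonempty ((DCoh.RSheafHom K).obj ((DCoh.RSheafHom L).obj M) ≅ (DCoh.RSheafHom ((DCoh.tensorCx.obj K).obj L)).obj M) := by
  obtain ⟨e⟩ := exists_compIso K L hL
  exact ⟨((((DCoh.RSheafHomAdj K).comp (DCoh.RSheafHomAdj L)).ofNatIsoLeft e).rightAdjointUniq
    (DCoh.RSheafHomAdj ((DCoh.tensorCx.obj K).obj L))).app M⟩

end Groth.Agent.S0964
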