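import Groth.Statements.S0973
import Groth.Agent.DerCat.Devissage

set_option autoImplicit false
set_option backward.isDefEq.respectTransparency false
set_option backward.defeqAttrib.useBackward true
universe w v u
open CategoryTheory CategoryTheory.Limits
open CohDer

namespace Groth.Agent.S0973

/-- Let K be an object of the derived category of an abelian category with cohomology concentrated in
degrees a, …, b. Suppose that for all i > j and p ≥ 2 every morphism H^i(K) ⟶ H^j(K)[p] in the
derived category (an element of Ext^p) vanishes. Then K splits: it is isomorphic to ⨁_{a ≤ i ≤ b}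
Hⁱ(K)[-i]. -/
theorem result {A : Type u} [Category.{v} A] [Abelian A] [HasDerivedCategory.{w} A]
    (K : DerivedCategory A) (a b : ℤ) [K.IsGE a] [K.IsLE b]
    (hExt : ∀ (i j : ℤ) (p : ℕ), j < i → 2 ≤ p →
      ∀ f : (DerivedCategory.singleFunctor A 0).obj ((DerivedCategory.homologyFunctor A i).obj K) ⟶
        ((DerivedCategory.singleFunctor A 0).obj ((DerivedCategory.homologyFunctor A j).obj K))⟦(p : ℤ)⟧, f = 0)
    [HasBiproduct (fun i : Finset.Icc a b => (DerivedCategory.singleFunctor A (i : ℤ)).obj ((DerivedCategory.homologyFunctor A (i : ℤ)).obj K))] :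
    Nonempty (K ≅ ⨁ (fun i : Finset.Icc a b => (DerivedCategory.singleFunctor A (i : ℤ)).obj ((DerivedCategory.homologyFunctor A (i : ℤ)).obj K))) := by
  classical
  let t := DerivedCategory.TStructure.t (C := A)
  have key : ∀ i : ℤ, a ≤ i → ∃ f : (DerivedCategory.singleFunctor A i).obj
      ((DerivedCategory.homologyFunctor A i).obj K) ⟶ K,
      IsIso ((DerivedCategory.homologyFunctor A i).map f) := by
    intro i hai
    let W := (t.truncLE i).obj K
    let Z := (t.truncGT (i - 1)).obj W
    have : Z.IsGE i := inferInstance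
    have : Z.IsLE i := by
      rw [DerivedCategory.isLE_iff]
      intro j hj
      have := DerCat.isIso_homology_truncGTπ W (i - 1) j (by omega)
      exact (DerivedCategory.isZero_of_isLE W i j hj).of_iso
        (asIso ((DerivedCategory.homologyFunctor A j).map ((t.truncGTπ (i - 1)).app W))).symm
    obtain ⟨e⟩ := DerCat.exists_iso_single_homology Z i
    have hπ := DerCat.isIso_homology_truncGTπ W (i - 1) i (by omega)
    have hι := DerCat.isIso_homology_truncLEι K i i le_rfl
    let c : (DerivedCategory.homologyFunctor A i).obj K ≅ (DerivedCategory.homologyFunctor A i).obj Z :=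
      (asIso ((DerivedCategory.homologyFunctor A i).map ((t.truncLEι i).app K))).symm ≪≫
        asIso ((DerivedCategory.homologyFunctor A i).map ((t.truncGTπ (i - 1)).app W))
    let Q : ObjectProperty (DerivedCategory A) := fun Y => ∀ f :
      (DerivedCategory.singleFunctor A i).obj ((DerivedCategory.homologyFunctor A i).obj K) ⟶ Y⟦(1 : ℤ)⟧, f = 0
    have : Q.IsClosedUnderIsomorphisms := ⟨fun {Y Y'} e' h f => by
      rw [← cancel_mono (e'.inv⟦(1 : ℤ)⟧'), h (f ≫ e'.inv⟦(1 : ℤ)⟧'), zero_comp]⟩
    have hQ : Q ((t.truncLE (i - 1)).obj W) := by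
      refine DerCat.prop_of_single Q ?_ ?_ _ a (i - 1) ?_
      · intro Y hY f
        exact ((shiftFunctor (DerivedCategory A) (1 : ℤ)).map_isZero hY).eq_of_tgt f 0
      · intro T hT h₁ h₃ f
        obtain ⟨g, hg⟩ := Pretriangulated.Triangle.coyoneda_exact₂ _
          (Pretriangulated.Triangle.shift_distinguished T hT 1) f (h₃ _)
        rw [hg, h₁ g]
        exact zero_comp
      · intro j _ hj f
        have := DerCat.isIso_homology_truncLEι W (i - 1) j hj
        have := DerCat.isIso_homology_truncLEι K i j (by omega)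
        let d : (DerivedCategory.homologyFunctor A j).obj ((t.truncLE (i - 1)).obj W) ≅
            (DerivedCategory.homologyFunctor A j).obj K :=
          asIso ((DerivedCategory.homologyFunctor A j).map ((t.truncLEι (i - 1)).app W)) ≪≫
            asIso ((DerivedCategory.homologyFunctor A j).map ((t.truncLEι i).app K))
        obtain ⟨p, hp⟩ : ∃ p : ℕ, (p : ℤ) = i - j + 1 := ⟨(i - j + 1).toNat, by omega⟩
        let e₁ := DerCat.singleShiftIso i ((DerivedCategory.homologyFunctor A i).obj K)
        let e₂ := (DerCat.singleShiftIso j ((DerivedCategory.homologyFunctor A j).obj ((t.truncLE (i - 1)).obj W))).symm ≪≫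
          (shiftFunctor (DerivedCategory A) (-j)).mapIso ((DerivedCategory.singleFunctor A 0).mapIso d)
        let e₃ : ((((DerivedCategory.singleFunctor A 0).obj ((DerivedCategory.homologyFunctor A j).obj K))⟦-j⟧)⟦(1 : ℤ)⟧) ≅
            (((DerivedCategory.singleFunctor A 0).obj ((DerivedCategory.homologyFunctor A j).obj K))⟦(p : ℤ)⟧)⟦-i⟧ :=
          (shiftFunctorAdd' _ (-j) 1 (-j + 1) rfl).symm.app _ ≪≫
            (shiftFunctorAdd' _ (p : ℤ) (-i) (-j + 1) (by omega)).app _
        obtain ⟨g, hg⟩ := (shiftFunctor (DerivedCategory A) (-i)).map_surjective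
          (e₁.hom ≫ f ≫ e₂.hom⟦(1 : ℤ)⟧' ≫ e₃.hom)
        rw [hExt i j p (by omega) (by omega) g, Functor.map_zero] at hg
        rw [← cancel_epi e₁.hom, ← cancel_mono (e₂.hom⟦(1 : ℤ)⟧' ≫ e₃.hom), Category.assoc, ← hg]
        simp
    have hT := t.triangleLEGT_distinguished (i - 1) W
    obtain ⟨s, hs⟩ := Pretriangulated.Triangle.coyoneda_exact₃ _ hT
      (((DerivedCategory.singleFunctor A i).map c.hom) ≫ e.inv) (hQ _)
    refine ⟨s ≫ (t.truncLEι i).app K, ?_⟩
    have h1 : IsIso ((DerivedCategory.homologyFunctor A i).map s) := by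
      have : (DerivedCategory.homologyFunctor A i).map s ≫ (DerivedCategory.homologyFunctor A i).map ((t.truncGTπ (i - 1)).app W) =
          (DerivedCategory.homologyFunctor A i).map ((DerivedCategory.singleFunctor A i).map c.hom ≫ e.inv) := by
        rw [← Functor.map_comp]
        exact congrArg _ hs.symm
      exact IsIso.of_isIso_fac_right this
    rw [Functor.map_comp]
    infer_instance
  choose f hf using key
  let φ : (⨁ fun i : Finset.Icc a b => (DerivedCategory.singleFunctor A (i : ℤ)).obj
      ((DerivedCategory.homologyFunctor A (i : ℤ)).obj K)) ⟶ K :=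
    biproduct.desc fun i => f i (Finset.mem_Icc.1 i.2).1
  suffices IsIso φ from ⟨(asIso φ).symm⟩
  rw [DerivedCategory.isIso_iff]
  intro j
  let H := DerivedCategory.homologyFunctor A j
  have : PreservesBiproduct (fun i : Finset.Icc a b => (DerivedCategory.singleFunctor A (i : ℤ)).obj
      ((DerivedCategory.homologyFunctor A (i : ℤ)).obj K)) H := inferInstance
  by_cases hj : j ∈ Finset.Icc a b
  · have hι : IsIso (H.map (biproduct.ι (fun i : Finset.Icc a b => (DerivedCategory.singleFunctor A (i : ℤ)).obj
      ((DerivedCategory.homologyFunctor A (i : ℤ)).obj K)) ⟨j, hj⟩)) := by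
      refine ⟨H.map (biproduct.π (fun i : Finset.Icc a b => (DerivedCategory.singleFunctor A (i : ℤ)).obj
        ((DerivedCategory.homologyFunctor A (i : ℤ)).obj K)) ⟨j, hj⟩), by
          rw [← Functor.map_comp, biproduct.ι_π_self, CategoryTheory.Functor.map_id], ?_⟩
      rw [← Functor.map_comp, ← CategoryTheory.Functor.map_id, ← biproduct.total, Functor.map_sum,
        Finset.sum_eq_single_of_mem ⟨j, hj⟩ (Finset.mem_univ _)]
      intro i _ hi
      have : j ≠ i.1 := fun h => hi (Subtype.ext h.symm)
      rw [Functor.map_comp]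
      exact (congrArg (· ≫ _) ((DerCat.isZero_homology_single i.1 j this _).eq_of_tgt _ 0)).trans zero_comp
    have : IsIso (H.map (biproduct.ι _ ⟨j, hj⟩) ≫ H.map φ) := by
      rw [← Functor.map_comp, biproduct.ι_desc]
      exact hf j (Finset.mem_Icc.1 hj).1
    exact IsIso.of_isIso_comp_left (H.map (biproduct.ι _ ⟨j, hj⟩)) (H.map φ)
  · have h1 : IsZero (H.obj K) := by
      rw [Finset.mem_Icc] at hj
      rcases not_and_or.1 hj with h | h
      · exact DerivedCategory.isZero_of_isGE K a j (by omega)
      · exact DerivedCategory.isZero_of_isLE K b j (by omega)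
    have h2 : IsZero (H.obj (⨁ fun i : Finset.Icc a b => (DerivedCategory.singleFunctor A (i : ℤ)).obj
      ((DerivedCategory.homologyFunctor A (i : ℤ)).obj K))) := by
      rw [IsZero.iff_id_eq_zero, ← CategoryTheory.Functor.map_id, ← biproduct.total, Functor.map_sum]
      refine Finset.sum_eq_zero fun i _ => ?_
      rw [Functor.map_comp]
      exact (congrArg (· ≫ _) ((DerCat.isZero_homology_single i.1 j (fun h => hj (h ▸ i.2)) _).eq_of_tgt _ 0)).trans zero_comp
    exact ⟨0, h2.eq_of_src _ _, h1.eq_of_src _ _⟩

end Groth.Agent.S0973
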