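import Groth.Statements.S0978
import Groth.Agent.DerLimLib.Compact
import Mathlib
set_option autoImplicit false
universe v u
open CategoryTheory
open CohDer


namespace Groth.Agent.S0978

set_option backward.isDefEq.respectTransparency false
set_option backward.defeqAttrib.useBackward true
open CategoryTheory.Pretriangulated

open CategoryTheory.Limits in
/-- Let D be a triangulated category with all small direct sums and E a compact object. Then E generates
D (an object admitting only zero maps from all shifts of E is zero) if and only if D is compactly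
generated and every compact object lies in the triangulated envelope of E (objects reachable from E
by shifts, finite sums, direct summands and extensions). -/
theorem result {D : Type u} [Category.{v} D] [Preadditive D] [Limits.HasZeroObject D] [HasShift D ℤ]
    [∀ n : ℤ, (shiftFunctor D n).Additive] [Pretriangulated D] [IsTriangulated D] [HasCoproducts.{v} D]
    [HasColimitsOfShape (Discrete ℕ) D]
    (E : D) (hE : CohDer.IsCompactObject E) :
    CohDer.Generates (fun _ : Unit => E) ↔
      (CohDer.IsCompactlyGenerated D ∧ ∀ X : D, CohDer.IsCompactObject X → ObjectProperty.triangEnvelope (fun Y : D => Y = E) X) := by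
  constructor
  · intro hg
    refine ⟨⟨PUnit, fun _ => E, fun _ => hE, fun K hK => hg K (fun _ n f => hK ⟨⟩ n f)⟩, fun X hX => ?_⟩
    let E' : PUnit.{v + 1} → D := fun _ => E
    have hg' : CohDer.Generates E' := fun K hK => hg K (fun _ n f => hK ⟨⟩ n f)
    have hpres := Groth.Agent.DerLimLib.exists_presentation E' (fun _ => hE) hg' X
    obtain ⟨N, x, hx⟩ := Groth.Agent.DerLimLib.exists_factor
      (Groth.Agent.S1076.small_of_isCompactObject hX) hpres (𝟙 X)
    obtain ⟨s, -, W, g, h, hW, hgh⟩ := Groth.Agent.S1076.main E' (fun _ => hE)
      (fun n => (Groth.Agent.DerLimLib.tower E' X n).1) (Groth.Agent.DerLimLib.towerMap E' X)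
      ⟨(j : PUnit.{v + 1}) × (m : ℤ) × ((shiftFunctor D m).obj (E' j) ⟶ X), fun p => p.1, fun p => p.2.1, ⟨Iso.refl _⟩⟩
      (fun n => (Groth.Agent.DerLimLib.exists_step E'
        (Groth.Agent.DerLimLib.tower E' X n).2).choose_spec.choose_spec.choose_spec.2.2)
      N X (Groth.Agent.S1076.small_of_isCompactObject hX) x
    refine ObjectProperty.prop_of_retract _ { i := g, r := h ≫ (Groth.Agent.DerLimLib.tower E' X N).2, retract := ?_ }
      (ObjectProperty.monotone_triangEnvelope (Q := fun Y : D => Y = E) (fun Y ⟨_, _, e⟩ => e) _ hW)
    rw [← Category.assoc, hgh]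
    exact hx
  · rintro ⟨⟨ι, F, hFc, hFg⟩, henv⟩ K hK
    refine hFg K fun i n f => ?_
    let P : ObjectProperty D := (ObjectProperty.singleton K).shiftClosure ℤ
    haveI : P.leftOrthogonal.IsStableUnderRetracts := ⟨fun {U V} r hV Y f hY => by
      have := hV (r.r ≫ f) hY
      rw [← Category.id_comp f, ← r.retract, Category.assoc, this, comp_zero]⟩
    have hle : ObjectProperty.triangEnvelope (fun Y : D => Y = E) ≤ P.leftOrthogonal :=
      (ObjectProperty.triangEnvelope_le_iff _).2 fun W (hW : W = E) => by
        subst hW
        rintro Y g ⟨Y', a, e, hY'⟩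
        obtain rfl := (ObjectProperty.singleton_iff _ _).1 hY'
        rw [← cancel_mono e.hom, zero_comp]
        exact hK ⟨⟩ a _
    exact hle _ (henv _ (hFc i)) f
      ⟨K, n, Iso.refl _, (ObjectProperty.singleton_iff _ _).2 rfl⟩

end Groth.Agent.S0978
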