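import Groth.Statements.S0982
import Groth.Agent.DerCat.GhostDual

set_option autoImplicit false
set_option backward.isDefEq.respectTransparency false
set_option backward.defeqAttrib.useBackward true
universe w v u
open CategoryTheory CategoryTheory.Limits
open CohDer

namespace Groth.Agent.S0982

/-- Let K : ℕ ⥤ CochainComplex A ℤ be a sequence of cochain maps K₀ → K₁ → K₂ → … in an abelian category
with Hⁱ(K₀) = 0 for i > 0 and such that for every j < n the map H⁻ʲ(Kⱼ) → H⁻ʲ(Kⱼ₊₁) is zero. Then in
the derived category the composite K₀ → Kₙ factors through the canonical truncation τ_{≤ -n}Kₙ → Kₙ. -/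
theorem result {A : Type u} [Category.{v} A] [Abelian A] [HasDerivedCategory.{w} A]
    (K : ℕ ⥤ CochainComplex A ℤ) (n : ℕ)
    (h0 : ∀ i : ℤ, 0 < i → IsZero ((K.obj 0).homology i))
    (hz : ∀ j : ℕ, j < n → HomologicalComplex.homologyMap (K.map (homOfLE (Nat.le_succ j))) (-(j : ℤ)) = 0) :
    ∃ φ : DerivedCategory.Q.obj (K.obj 0) ⟶ DerivedCategory.Q.obj ((K.obj n).truncLE (-(n : ℤ))),
      φ ≫ DerivedCategory.Q.map ((K.obj n).ιTruncLE (-(n : ℤ))) = DerivedCategory.Q.map (K.map (homOfLE (Nat.zero_le n))) := by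
  let t := DerivedCategory.TStructure.t (C := A)
  have : (DerivedCategory.Q.obj (K.obj 0)).IsLE 0 := by
    rw [DerivedCategory.isLE_iff]
    exact fun i hi => (h0 i hi).of_iso ((DerivedCategory.homologyFunctorFactors A i).app _)
  obtain ⟨g, hg⟩ := DerCat.exists_factor_of_chain (fun i => DerivedCategory.Q.obj (K.obj i))
    (fun i => DerivedCategory.Q.map (K.map (homOfLE (Nat.le_succ i))))
    (fun i => DerivedCategory.Q.map (K.map (homOfLE (Nat.zero_le i))))
    (by simp) 0 n (fun i _ => by simp only [← Functor.map_comp, homOfLE_comp]) inferInstance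
    (fun i hi => by
      rw [← cancel_mono ((DerivedCategory.homologyFunctorFactors A _).hom.app _),
        DerivedCategory.homologyFunctorFactors_hom_naturality, zero_sub, hz i hi, comp_zero, zero_comp])
  have : ((t.truncLE (0 - (n : ℤ))).obj (DerivedCategory.Q.obj (K.obj n))).IsLE (-(n : ℤ)) :=
    t.isLE_truncLE_obj _ _ _ (by omega)
  obtain ⟨φ, hφ⟩ := DerCat.exists_lift_ιTruncLE (K.obj n) (-(n : ℤ))
    ((t.truncLEι (0 - (n : ℤ))).app (DerivedCategory.Q.obj (K.obj n)))
  exact ⟨g ≫ φ, by rw [Category.assoc, hφ]; exact hg⟩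

end Groth.Agent.S0982
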