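import Groth.Statements.S0985
import Groth.Agent.DerLimLib.Telescope
import Mathlib
set_option autoImplicit false
universe w v u
open CategoryTheory CategoryTheory.Limits
open DerLim


namespace Groth.Agent.S0985

set_option backward.isDefEq.respectTransparency false
set_option backward.defeqAttrib.useBackward true
open CategoryTheory.Pretriangulated

/-- Let A be an abelian category in which colimits of sequences ℕ ⥤ A exist and are exact, and let L : ℕ
⥤ CochainComplex A ℤ be a sequence of complexes. Then the image in the derived category of the
termwise colimit of L, with the canonical maps from the Lₙ, is a homotopy colimit of the images of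
the Lₙ — assuming the termwise direct sum of the Lₙ exists and is preserved by the localization
functor to D(A) (a known result, carried here as a hypothesis rather than proved), and that the
direct sum of the images exists in D(A). -/
theorem result {A : Type u} [Category.{v} A] [Abelian A] [HasDerivedCategory.{w} A]
    [HasColimitsOfShape ℕ A] [HasExactColimitsOfShape ℕ A]
    (L : ℕ ⥤ CochainComplex A ℤ) [HasCoproduct L.obj] [PreservesColimit (Discrete.functor L.obj) (DerivedCategory.Q (C := A))]
    [HasCoproduct (fun n => DerivedCategory.Q.obj (L.obj n))] :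
    DerLim.IsHocolim (fun n => DerivedCategory.Q.obj (L.obj n)) (fun n => DerivedCategory.Q.map (L.map (homOfLE (Nat.le_succ n))))
      (DerivedCategory.Q.obj (colimit L)) (fun n => DerivedCategory.Q.map (colimit.ι L n)) := by
  have hS := Groth.Agent.DerLimLib.shortExact_one_sub_shift L
  let T := DerivedCategory.triangleOfSES hS
  have hT : T ∈ distTriang _ := DerivedCategory.triangleOfSES_distinguished hS
  let e : DerivedCategory.Q.obj (∐ L.obj) ≅ ∐ (fun n => DerivedCategory.Q.obj (L.obj n)) :=
    PreservesCoproduct.iso DerivedCategory.Q L.obj
  have he : ∀ n, DerivedCategory.Q.map (Sigma.ι L.obj n) ≫ e.hom =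
      Sigma.ι (fun n => DerivedCategory.Q.obj (L.obj n)) n := fun n => by
    rw [← Iso.eq_comp_inv, PreservesCoproduct.inv_hom, ι_comp_sigmaComparison]
  refine ⟨T.mor₃ ≫ (shiftFunctor _ (1 : ℤ)).map e.hom, isomorphic_distinguished _ hT _
    (Triangle.isoMk _ _ e.symm e.symm (Iso.refl _) ?_ ?_ ?_)⟩
  · refine Sigma.hom_ext _ _ fun n => ?_
    simp [T, DerLim.shiftMap, e, Preadditive.comp_sub, Preadditive.sub_comp, Functor.map_sub,
      Functor.map_comp, ← Functor.map_comp]
  · refine Sigma.hom_ext _ _ fun n => ?_
    simp [T, e, ← Functor.map_comp]
  · simp [T, ← Functor.map_comp]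

end Groth.Agent.S0985
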