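import Groth.Statements.S0987
import Groth.Agent.KZeroDb.Euler

set_option autoImplicit false
set_option linter.style.haveILetI false
universe w v u
open CategoryTheory CategoryTheory.Limits
open KZero

namespace Groth.Agent.S0987

/-- For an abelian category A there is an isomorphism between K₀(A) and K₀ of the bounded derived
category D^b(A) (objects of D(A) with bounded cohomology, with the distinguished triangles of D(A))
which sends the class of an object X to the class of X placed in degree 0. -/
theorem result (A : Type u) [Category.{v} A] [Abelian A] [HasDerivedCategory.{w} A] :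
    ∃ φ : KZero.K0 A ≃+ KZero.K0tr (fun X : DerivedCategory A => ∃ a b : ℤ, X.IsGE a ∧ X.IsLE b),
      ∀ X : A, φ (KZero.cl X) =
        KZero.clTr (fun X : DerivedCategory A => ∃ a b : ℤ, X.IsGE a ∧ X.IsLE b) ((DerivedCategory.singleFunctor A 0).obj X) := by
  let P : ObjectProperty A := fun _ => True
  haveI : P.IsClosedUnderIsomorphisms := ⟨fun _ _ => trivial⟩
  have hP : Groth.Agent.KZeroDb.Good P := ⟨fun _ => trivial, fun _ _ _ => trivial, fun _ _ _ => trivial⟩
  obtain ⟨φ, hφ⟩ := Groth.Agent.KZeroDb.exists_equiv (P := P)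
    (fun X : DerivedCategory A => ∃ a b : ℤ, X.IsGE a ∧ X.IsLE b)
    (fun K => ⟨fun h => ⟨h, fun _ => trivial⟩, fun h => h.bdd⟩) hP
  let f : KZero.K0 A →+ KZero.K0sub P := QuotientAddGroup.lift _
    (FreeAbelianGroup.lift fun X => KZero.clSub P X) (by
      rw [KZero.relAb, AddSubgroup.closure_le]
      rintro x ⟨S, hS, rfl⟩
      show _ = _
      simp only [map_sub, FreeAbelianGroup.lift_apply_of]
      rw [sub_sub, sub_eq_zero]
      exact Groth.Agent.KZeroDb.cl_ses S hS trivial trivial trivial)
  let g : KZero.K0sub P →+ KZero.K0 A := QuotientAddGroup.lift _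
    (FreeAbelianGroup.lift fun X : Subtype P => KZero.cl X.1) (by
      rw [KZero.relSub, AddSubgroup.closure_le]
      rintro x ⟨S, h1, h2, h3, hS, rfl⟩
      show _ = _
      simp only [map_sub, FreeAbelianGroup.lift_apply_of]
      exact (QuotientAddGroup.eq_zero_iff _).2 (AddSubgroup.subset_closure ⟨S, hS, rfl⟩))
  have hf : ∀ X, f (KZero.cl X) = KZero.clSub P X := fun X => FreeAbelianGroup.lift_apply_of _ _
  have hg : ∀ X, g (KZero.clSub P X) = KZero.cl X := fun X => by
    rw [KZero.clSub, dif_pos trivial]
    exact FreeAbelianGroup.lift_apply_of _ _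
  have h1 : g.comp f = AddMonoidHom.id _ := QuotientAddGroup.addMonoidHom_ext _
    (FreeAbelianGroup.lift_ext _ _ fun X => (congrArg g (hf X)).trans (hg X))
  have h2 : f.comp g = AddMonoidHom.id _ := QuotientAddGroup.addMonoidHom_ext _
    (FreeAbelianGroup.lift_ext _ _ fun X => by
      show f (g (QuotientAddGroup.mk (FreeAbelianGroup.of X))) = QuotientAddGroup.mk (FreeAbelianGroup.of X)
      have e : (QuotientAddGroup.mk (FreeAbelianGroup.of X) : KZero.K0sub P) = KZero.clSub P X.1 := by
        rw [KZero.clSub, dif_pos X.2]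
      rw [e, hg, hf])
  exact ⟨(AddMonoidHom.toAddEquiv f g h1 h2).trans φ, fun X => (congrArg φ (hf X)).trans (hφ X trivial)⟩

end Groth.Agent.S0987
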