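import Groth.Statements.S10942
import Groth.Agent.SheafHomLib.Basic
import Groth.Agent.CohAcyc.ModTensor

set_option autoImplicit false
universe u
open CategoryTheory AlgebraicGeometry Opposite
open Coherent

namespace Groth.Agent.S10942

open CategoryTheory.Limits Opposite

section
variable {C : Type u} [SmallCategory C] {J : GrothendieckTopology C}

/-- Sections of a totally acyclic sheaf extend along monomorphisms of objects. -/
theorem surjective_res {F : Sheaf J AddCommGrpCat.{u}} (hF : CohCx.IsTotallyAcyclic F) {U V : C}
    (h : U ⟶ V) [Mono h] : Function.Surjective (F.obj.map h.op).hom := by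
  intro s
  let T := (sheafCompose J (forget AddCommGrpCat.{u})).obj F
  let A := CohAcyc.zAdj J
  let B := sheafificationAdjunction J (Type u)
  haveI : Mono (yoneda.map h) := inferInstance
  let ι := (presheafToSheaf J (Type u)).map (yoneda.map h)
  haveI : Mono ι := inferInstance
  let φ := (A.homEquiv _ F).symm ((B.homEquiv (yoneda.obj U) T).symm (yonedaEquiv.symm s))
  obtain ⟨t, ht⟩ := CohAcyc.exists_extension hF ι φ
  refine ⟨yonedaEquiv (B.homEquiv (yoneda.obj V) T (A.homEquiv _ F t)), ?_⟩
  have h2 : yoneda.map h ≫ B.homEquiv (yoneda.obj V) T (A.homEquiv _ F t) = yonedaEquiv.symm s := by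
    rw [← Adjunction.homEquiv_naturality_left]
    erw [← Adjunction.homEquiv_naturality_left A ι t]
    rw [ht]
    simp [φ, T]
  have h3 := yonedaEquiv_naturality (B.homEquiv (yoneda.obj V) T (A.homEquiv _ F t)) h
  rw [h2, Equiv.apply_symm_apply] at h3
  exact h3

end

/-- Let X be a scheme, F an O_X-module for which the internal Hom functor Hom(F, -) exists (as the right
adjoint of F ⊗ -; always true) and I an injective object of the category of O_X-modules. Then the
O_X-module Hom(F, I) is flasque: for all opens U ⊆ V of X the restriction map Hom(F, I)(V) → Hom(F,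
I)(U) is surjective. -/
theorem result (X : Scheme.{u}) (F I : X.Modules)
    [DCoh.HasSheafHom F] (hI : Injective I) (U V : X.Opens) (hUV : U ≤ V) :
    Function.Surjective (((DCoh.sheafHom F).obj I).val.map (homOfLE hUV).op).hom := by
  let G : X.Modules := (ModSite.sheafHom (O := X.sheaf) F).obj I
  let D : X.Modules := (DCoh.sheafHom F).obj I
  let e : D ≅ G := (SheafHomLib.isoModSite F).app I
  have hs := surjective_res (@CohAcyc.isTotallyAcyclic_sheafHom _ _ _ X.sheaf F I _ hI) (homOfLE hUV)
  intro (y : Γ(D, U))
  obtain ⟨(z : Γ(G, V)), hz⟩ := hs (e.hom.app U y)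
  refine ⟨e.inv.app V z, ?_⟩
  change D.presheaf.map (homOfLE hUV).op (e.inv.app V z) = y
  have h1 := ConcreteCategory.congr_hom (e.inv.mapPresheaf.naturality (homOfLE hUV).op) z
  refine h1.symm.trans ?_
  refine (congrArg (fun w => e.inv.app U w) hz).trans ?_
  exact ConcreteCategory.congr_hom (congrArg (fun f : D ⟶ D => f.app U) e.hom_inv_id) y

end Groth.Agent.S10942
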