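import Groth.Statements.S0989
import Mathlib.Algebra.Homology.ShortComplex.Abelian
import Mathlib.CategoryTheory.Abelian.Refinements

set_option autoImplicit false
set_option backward.isDefEq.respectTransparency false
set_option backward.defeqAttrib.useBackward true
universe w v u
open CategoryTheory CategoryTheory.Limits
open CohDer

namespace Groth.Agent.S0989

/-- Let P be a weak Serre class in an abelian category A: P is closed under isomorphisms, holds for a
zero object, and whenever X₀ → X₁ → X₂ → X₃ → X₄ is exact with P holding for X₀, X₁, X₃, X₄ it holds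
for X₂. Then the class of objects of the derived category all of whose cohomology objects satisfy P
is a triangulated subcategory (contains zero, stable under shifts, closed under extensions) which is
moreover closed under retracts (saturated). -/
theorem result {A : Type u} [Category.{v} A] [Abelian A] [HasDerivedCategory.{w} A]
    (P : ObjectProperty A) [P.IsClosedUnderIsomorphisms] (h0 : ∃ Z : A, IsZero Z ∧ P Z)
    (hP : ∀ S : ComposableArrows A 4, S.Exact → P (S.obj 0) → P (S.obj 1) → P (S.obj 3) → P (S.obj 4) → P (S.obj 2)) :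
    ObjectProperty.IsTriangulated (fun X : DerivedCategory A => ∀ n : ℤ, P ((DerivedCategory.homologyFunctor A n).obj X)) ∧
    ObjectProperty.IsStableUnderRetracts (fun X : DerivedCategory A => ∀ n : ℤ, P ((DerivedCategory.homologyFunctor A n).obj X)) := by
  let Q : ObjectProperty (DerivedCategory A) := fun X => ∀ n : ℤ, P ((DerivedCategory.homologyFunctor A n).obj X)
  show Q.IsTriangulated ∧ Q.IsStableUnderRetracts
  obtain ⟨Z, hZ, hPZ⟩ := h0
  have hz : ∀ Y : A, IsZero Y → P Y := fun Y hY => P.prop_of_iso (hZ.iso hY) hPZ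
  have : Q.IsClosedUnderIsomorphisms := ⟨fun e h n => P.prop_of_iso ((DerivedCategory.homologyFunctor A n).mapIso e) (h n)⟩
  refine ⟨{ exists_zero := ⟨_, isZero_zero _, fun n => hz _ ((DerivedCategory.homologyFunctor A n).map_isZero (isZero_zero _))⟩,
            isStableUnderShiftBy := fun a => ⟨fun X hX n => ?_⟩, ext₂' := fun T hT h₁ h₃ => ?_ }, ⟨fun {X Y} r hY n => ?_⟩⟩
  · exact P.prop_of_iso ((((DerivedCategory.homologyFunctor A 0).shiftIso a n (a + n) rfl).app X).symm) (hX (a + n))
  · refine ObjectProperty.le_isoClosure _ _ fun n => ?_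
    let H := fun (m : ℤ) => DerivedCategory.homologyFunctor A m
    refine hP (ComposableArrows.mk₄ (DerivedCategory.HomologySequence.δ T (n - 1) n (by omega))
      ((H n).map T.mor₁) ((H n).map T.mor₂) (DerivedCategory.HomologySequence.δ T n (n + 1) rfl)) ?_
      (h₃ (n - 1)) (h₁ n) (h₃ n) (h₁ (n + 1))
    refine ComposableArrows.exact_of_δ₀ (DerivedCategory.HomologySequence.exact₁ T hT (n - 1) n (by omega)).exact_toComposableArrows
      (ComposableArrows.exact_of_δ₀ (DerivedCategory.HomologySequence.exact₂ T hT n).exact_toComposableArrows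
        (DerivedCategory.HomologySequence.exact₃ T hT n (n + 1) rfl).exact_toComposableArrows)
  · let rH := r.map (DerivedCategory.homologyFunctor A n)
    have h1 : (𝟙 _ - rH.r ≫ rH.i) ≫ rH.r = 0 := by simp [Preadditive.sub_comp]
    refine hP (ComposableArrows.mk₄ (𝟙 _ - rH.r ≫ rH.i) rH.r (0 : _ ⟶ Z) (0 : Z ⟶ Z)) ?_ (hY n) (hY n) hPZ hPZ
    have e1 : (ShortComplex.mk (𝟙 _ - rH.r ≫ rH.i) rH.r h1).Exact := by
      rw [ShortComplex.exact_iff_exact_up_to_refinements]
      intro W x hx
      exact ⟨W, 𝟙 _, inferInstance, x, by simp [Preadditive.comp_sub, reassoc_of% hx]⟩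
    have : Epi rH.r := inferInstance
    have e2 : (ShortComplex.mk rH.r (0 : _ ⟶ Z) comp_zero).Exact := (ShortComplex.exact_iff_epi _ rfl).2 ‹_›
    have e3 : (ShortComplex.mk (0 : (DerivedCategory.homologyFunctor A n).obj X ⟶ Z) (0 : Z ⟶ Z) comp_zero).Exact :=
      ShortComplex.exact_of_isZero_X₂ _ hZ
    exact ComposableArrows.exact_of_δ₀ e1.exact_toComposableArrows
      (ComposableArrows.exact_of_δ₀ e2.exact_toComposableArrows e3.exact_toComposableArrows)

end Groth.Agent.S0989
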