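import Groth.Statements.S0991
import Mathlib
import Groth.Agent.DerCat.Devissage

set_option autoImplicit false
universe w w' v v' u u'
open CategoryTheory CategoryTheory.Limits
open CohDer


namespace Groth.Agent.S0991

set_option backward.isDefEq.respectTransparency false
set_option backward.defeqAttrib.useBackward true

open CategoryTheory CategoryTheory.Limits CategoryTheory.Pretriangulated

section
variable {A : Type u} [Category.{v} A] [Abelian A] {Q' : Type u'} [Category.{v'} Q'] [Abelian Q']
  (v₀ : A ⥤ Q') [v₀.Additive] (u₀ : Q' ⥤ A) [u₀.Additive] (adj : u₀ ⊣ v₀)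

noncomputable def cxAdj : u₀.mapHomologicalComplex (ComplexShape.up ℤ) ⊣ v₀.mapHomologicalComplex (ComplexShape.up ℤ) :=
  Adjunction.mkOfUnitCounit
    { unit := { app := fun K => { f := fun i => adj.unit.app (K.X i), comm' := fun i j _ => (adj.unit.naturality (K.d i j)).symm }
                naturality := fun K L f => by ext i; exact adj.unit.naturality (f.f i) }
      counit := { app := fun K => { f := fun i => adj.counit.app (K.X i), comm' := fun i j _ => (adj.counit.naturality (K.d i j)).symm }
                  naturality := fun K L f => by ext i; exact adj.counit.naturality (f.f i) }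
      left_triangle := by ext K i; simp
      right_triangle := by ext K i; simp }

include adj in
lemma cx_isLocalization [IsIso adj.unit] :
    (v₀.mapHomologicalComplex (ComplexShape.up ℤ)).IsLocalization
      ((MorphismProperty.isomorphisms (CochainComplex Q' ℤ)).inverseImage (v₀.mapHomologicalComplex (ComplexShape.up ℤ))) := by
  have : ∀ K, IsIso ((cxAdj v₀ u₀ adj).unit.app K) := fun K =>
    have : ∀ i, IsIso (((cxAdj v₀ u₀ adj).unit.app K).f i) := fun i => inferInstanceAs (IsIso (adj.unit.app (K.X i)))
    HomologicalComplex.Hom.isIso_of_components _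
  have : IsIso (cxAdj v₀ u₀ adj).unit := NatIso.isIso_of_isIso_app _
  have := (cxAdj v₀ u₀ adj).fullyFaithfulLOfIsIsoUnit.full
  have := (cxAdj v₀ u₀ adj).fullyFaithfulLOfIsIsoUnit.faithful
  exact (cxAdj v₀ u₀ adj).isLocalization'

end

/-- Let P be a Serre class in an abelian category A and v : A ⥤ Q an exact localization at the morphisms
with kernel and cokernel in P (a model of A/P). Suppose v has a left adjoint u whose unit 𝟭 ⟶ u ⋙ v
is an isomorphism. Then the induced functor D(A) ⥤ D(Q) is a localization at the class of morphisms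
whose cone has all cohomology objects in P; that is, D(Q) is the Verdier quotient D(A)/D_P(A). -/
theorem result {A : Type u} [Category.{v} A] [Abelian A] [HasDerivedCategory.{w} A]
    (P : ObjectProperty A) [P.IsSerreClass]
    {Q : Type u'} [Category.{v'} Q] [Abelian Q] [HasDerivedCategory.{w'} Q]
    (v : A ⥤ Q) [v.IsLocalization P.isoModSerre] [v.Additive] [PreservesFiniteLimits v] [PreservesFiniteColimits v]
    (u : Q ⥤ A) (adj : u ⊣ v) [IsIso adj.unit] :
    v.mapDerivedCategory.IsLocalization
      (ObjectProperty.trW (fun X : DerivedCategory A => ∀ n : ℤ, P ((DerivedCategory.homologyFunctor A n).obj X))) := by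
  classical
  haveI : u.Additive := adj.left_adjoint_additive
  haveI := cx_isLocalization v u adj
  let F := v.mapDerivedCategory
  let v' := v.mapHomologicalComplex (ComplexShape.up ℤ)
  let W₁ := (MorphismProperty.isomorphisms (CochainComplex Q ℤ)).inverseImage v'
  let W₂ := HomologicalComplex.quasiIso Q (ComplexShape.up ℤ)
  let W₃ := W₂.inverseImage v'
  let u' := u.mapHomologicalComplex (ComplexShape.up ℤ)
  haveI h3 : (v' ⋙ (DerivedCategory.Q : CochainComplex Q ℤ ⥤ DerivedCategory Q)).IsLocalization W₃ := by
    refine Functor.IsLocalization.comp v' DerivedCategory.Q W₁ W₂ W₃ (fun X Y f hf => Localization.inverts DerivedCategory.Q W₂ _ hf) ?_ ?_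
    · intro X Y f hf
      have : IsIso (v'.map f) := hf
      exact (inferInstance : QuasiIso (v'.map f))
    · intro X Y f hf
      have hu : ∀ K, IsIso ((cxAdj v u adj).unit.app K) := fun K =>
        have : ∀ i, IsIso (((cxAdj v u adj).unit.app K).f i) := fun i => inferInstanceAs (IsIso (adj.unit.app (K.X i)))
        HomologicalComplex.Hom.isIso_of_components _
      let e : Arrow.mk f ≅ Arrow.mk (v'.map (u'.map f)) := haveI := hu X; haveI := hu Y
        Arrow.isoMk (asIso ((cxAdj v u adj).unit.app X)) (asIso ((cxAdj v u adj).unit.app Y)) ((cxAdj v u adj).unit.naturality f).symm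
      exact ⟨_, _, u'.map f, (W₂.arrow_mk_iso_iff e).mp hf, ⟨e.symm⟩⟩
  haveI h3' : ((DerivedCategory.Q : CochainComplex A ℤ ⥤ DerivedCategory A) ⋙ F).IsLocalization W₃ :=
    Functor.IsLocalization.of_iso W₃ v.mapDerivedCategoryFactors.symm
  let P' : ObjectProperty (DerivedCategory A) := fun X => ∀ n : ℤ, P ((DerivedCategory.homologyFunctor A n).obj X)
  haveI : P'.IsClosedUnderIsomorphisms := ⟨fun e h n => P.prop_of_iso ((DerivedCategory.homologyFunctor A n).mapIso e) (h n)⟩
  have hP' : ∀ X, P' X ↔ IsZero (F.obj X) := fun X => by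
    let K := DerivedCategory.Q.objPreimage X
    let e : DerivedCategory.Q.obj K ≅ X := DerivedCategory.Q.objObjPreimageIso X
    let e' : F.obj X ≅ DerivedCategory.Q.obj (v'.obj K) := (F.mapIso e).symm ≪≫ v.mapDerivedCategoryFactors.app K
    have hn : ∀ n, P ((DerivedCategory.homologyFunctor A n).obj X) ↔ IsZero ((DerivedCategory.homologyFunctor Q n).obj (F.obj X)) := fun n => by
      rw [((DerivedCategory.homologyFunctor Q n).mapIso e' ≪≫ (DerivedCategory.homologyFunctorFactors Q n).app (v'.obj K) ≪≫ (K.sc n).mapHomologyIso v).isZero_iff]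
      rw [ObjectProperty.SerreClassLocalization.isZero_obj_iff v P]
      exact P.prop_iff_of_iso ((DerivedCategory.homologyFunctor A n).mapIso e.symm ≪≫ (DerivedCategory.homologyFunctorFactors A n).app K)
    exact ⟨fun h => Groth.Agent.DerCat.isZero_of_forall_homology _ fun n => (hn n).mp (h n),
      fun h n => (hn n).mpr ((DerivedCategory.homologyFunctor Q n).map_isZero h)⟩
  have hW : ∀ {X Y : DerivedCategory A} (f : X ⟶ Y), P'.trW f ↔ IsIso (F.map f) := fun {X Y} f => by
    obtain ⟨Z, g, h, hT⟩ := distinguished_cocone_triangle f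
    exact ((P'.trW_iff_of_distinguished _ hT).trans (hP' Z)).trans (Triangle.isZero₃_iff_isIso₁ _ (F.map_distinguished _ hT))
  refine Functor.IsLocalization.of_comp DerivedCategory.Q F (HomologicalComplex.quasiIso A (ComplexShape.up ℤ)) P'.trW W₃ (fun X Y f hf => ?_) ?_
  · have : QuasiIso f := hf
    exact HomologicalComplex.quasiIso_map_of_preservesHomology f v
  · ext X Y f
    constructor
    · intro hf
      let X₀ := DerivedCategory.Q.objPreimage X
      let Y₀ := DerivedCategory.Q.objPreimage Y
      let eX : DerivedCategory.Q.obj X₀ ≅ X := DerivedCategory.Q.objObjPreimageIso X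
      let eY : DerivedCategory.Q.obj Y₀ ≅ Y := DerivedCategory.Q.objObjPreimageIso Y
      obtain ⟨X', s, hs, g, hg⟩ := DerivedCategory.right_fac (eX.hom ≫ f ≫ eY.inv)
      let e : Arrow.mk (DerivedCategory.Q.map g) ≅ Arrow.mk f := Arrow.isoMk (@asIso _ _ _ _ (DerivedCategory.Q.map s) hs ≪≫ eX) eY (by
        show (DerivedCategory.Q.map s ≫ eX.hom) ≫ f = DerivedCategory.Q.map g ≫ eY.hom
        rw [← cancel_mono eY.inv, Category.assoc, Category.assoc, Category.assoc, hg, IsIso.hom_inv_id_assoc, Iso.hom_inv_id, Category.comp_id])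
      refine ⟨_, _, g, ?_, ⟨e⟩⟩
      have h1 : IsIso ((DerivedCategory.Q ⋙ F).map g) := ((MorphismProperty.isomorphisms _).arrow_mk_iso_iff (F.mapArrow.mapIso e)).mpr ((hW f).mp hf)
      exact (DerivedCategory.isIso_Q_map_iff_quasiIso (C := Q) _).mp ((NatIso.isIso_map_iff v.mapDerivedCategoryFactors g).mp h1)
    · rintro ⟨X', Y', g, hg, ⟨e⟩⟩
      refine (hW f).mpr (((MorphismProperty.isomorphisms _).arrow_mk_iso_iff (F.mapArrow.mapIso e)).mp ?_)
      exact Localization.inverts (DerivedCategory.Q ⋙ F) W₃ g hg

end Groth.Agent.S0991
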