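import Groth.Statements.S0992
import Mathlib
set_option autoImplicit false
universe w
open CategoryTheory CategoryTheory.Limits Opposite
open CohDer


namespace Groth.Agent.S0992

set_option backward.isDefEq.respectTransparency false
set_option backward.defeqAttrib.useBackward true

section

variable {I : Type w} [LinearOrder I] [WellFoundedLT I]
    (K : Iᵒᵖ ⥤ CochainComplex AddCommGrpCat.{w} ℤ)

/-- Restriction in degree `n`. -/
abbrev res {γ β : I} (h : γ ≤ β) (n : ℤ) (x : (K.obj (op β)).X n) : (K.obj (op γ)).X n :=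
  ((K.map (homOfLE h).op).f n).hom x

lemma res_res {γ δ β : I} (h : γ ≤ δ) (h' : δ ≤ β) (n : ℤ) (x : (K.obj (op β)).X n) :
    res K h n (res K h' n x) = res K (h.trans h') n x := by
  have e : K.map (homOfLE h').op ≫ K.map (homOfLE h).op = K.map (homOfLE (h.trans h')).op := by
    rw [← K.map_comp]; exact congrArg K.map (Subsingleton.elim _ _)
  exact ConcreteCategory.congr_hom (congr_arg (fun q => HomologicalComplex.Hom.f q n) e) x

lemma res_d {γ β : I} (h : γ ≤ β) (i j : ℤ) (x : (K.obj (op β)).X i) :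
    res K h j (((K.obj (op β)).d i j).hom x) = ((K.obj (op γ)).d i j).hom (res K h i x) :=
  (ConcreteCategory.congr_hom ((K.map (homOfLE h).op).comm i j) x).symm

variable (hac : ∀ (β : I) (n : ℤ), (K.obj (op β)).ExactAt n)
    (hsurj : ∀ (β : I) (n : ℤ) (x : ∀ γ : {γ : I // γ < β}, (K.obj (op γ.1)).X n),
      (∀ (γ γ' : {γ : I // γ < β}) (h : γ.1 ≤ γ'.1), res K h n (x γ') = x γ) →
      ∃ y : (K.obj (op β)).X n, ∀ γ : {γ : I // γ < β}, res K γ.2.le n (y) = x γ)

include hac hsurj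

lemma exists_primitive (S : Set I) (hS : ∀ γ δ, γ ≤ δ → δ ∈ S → γ ∈ S)
    (hind : ∀ β ∈ S, ∀ (n : ℤ) (x : ∀ γ : {γ : I // γ < β}, (K.obj (op γ.1)).X n),
      (∀ (γ γ' : {γ : I // γ < β}) (h : γ.1 ≤ γ'.1), res K h n (x γ') = x γ) →
      (∀ γ : {γ : I // γ < β}, ((K.obj (op γ.1)).d n (n + 1)).hom (x γ) = 0) →
      ∃ y : ∀ γ : {γ : I // γ < β}, (K.obj (op γ.1)).X (n - 1),
        (∀ (γ γ' : {γ : I // γ < β}) (h : γ.1 ≤ γ'.1), res K h (n - 1) (y γ') = y γ) ∧
        ∀ γ : {γ : I // γ < β}, ((K.obj (op γ.1)).d (n - 1) n).hom (y γ) = x γ)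
    (n : ℤ) (x : ∀ γ : S, (K.obj (op γ.1)).X n)
    (hx : ∀ (γ γ' : S) (h : γ.1 ≤ γ'.1), res K h n (x γ') = x γ)
    (hx0 : ∀ γ : S, ((K.obj (op γ.1)).d n (n + 1)).hom (x γ) = 0) :
    ∃ y : ∀ γ : S, (K.obj (op γ.1)).X (n - 1),
      (∀ (γ γ' : S) (h : γ.1 ≤ γ'.1), res K h (n - 1) (y γ') = y γ) ∧
      ∀ γ : S, ((K.obj (op γ.1)).d (n - 1) n).hom (y γ) = x γ := by
  classical
  let Good (γ : S) (prev : ∀ δ : S, δ.1 < γ.1 → (K.obj (op δ.1)).X (n - 1)) (y : (K.obj (op γ.1)).X (n - 1)) : Prop :=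
    ((K.obj (op γ.1)).d (n - 1) n).hom y = x γ ∧ ∀ (δ : S) (h : δ.1 < γ.1), res K h.le (n - 1) y = prev δ h
  have hwf : WellFounded (fun δ γ : S => δ.1 < γ.1) := InvImage.wf Subtype.val wellFounded_lt
  let y : ∀ γ : S, (K.obj (op γ.1)).X (n - 1) := hwf.fix fun γ prev =>
    if h : ∃ z, Good γ prev z then h.choose else 0
  have heq : ∀ γ : S, y γ = if h : ∃ z, Good γ (fun δ _ => y δ) z then h.choose else 0 := fun γ =>
    hwf.fix_eq _ γ
  have main : ∀ γ : S, Good γ (fun δ _ => y δ) (y γ) := by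
    intro γ
    induction γ using hwf.induction with
    | h γ ih =>
      suffices h : ∃ z, Good γ (fun δ _ => y δ) z by
        rw [heq γ, dif_pos h]
        exact h.choose_spec
      obtain ⟨y', hy'⟩ := hsurj γ.1 (n - 1) (fun δ => y ⟨δ.1, hS _ _ δ.2.le γ.2⟩) (fun δ δ' h => by
        rcases h.lt_or_eq with h' | h'
        · exact (ih ⟨δ'.1, hS _ _ δ'.2.le γ.2⟩ δ'.2).2 ⟨δ.1, hS _ _ δ.2.le γ.2⟩ h'
        · obtain rfl : δ = δ' := Subtype.ext h'
          exact ConcreteCategory.congr_hom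
            (congrArg (fun q => HomologicalComplex.Hom.f q (n - 1))
              ((congrArg K.map (Subsingleton.elim _ (𝟙 _))).trans (K.map_id _))) _)
      have he : ((K.obj (op γ.1)).d n (n + 1)).hom (x γ - ((K.obj (op γ.1)).d (n - 1) n).hom y') = 0 := by
        rw [map_sub, hx0 γ, ← AddMonoidHom.comp_apply, ← AddCommGrpCat.hom_comp,
          HomologicalComplex.d_comp_d]
        simp
      obtain ⟨z, hz⟩ : ∃ z : (K.obj (op γ.1)).X (n - 1), ((K.obj (op γ.1)).d (n - 1) n).hom z = x γ - ((K.obj (op γ.1)).d (n - 1) n).hom y' :=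
        (ShortComplex.ab_exact_iff _).1
        ((HomologicalComplex.exactAt_iff' _ (n - 1) n (n + 1) (by simp) (by simp)).1 (hac γ.1 n)) _ he
      have hres : ∀ δ : {δ : I // δ < γ.1},
          ((K.obj (op δ.1)).d (n - 1) n).hom (res K δ.2.le (n - 1) z) = 0 := fun δ => by
        rw [← res_d, hz]
        change ((K.map (homOfLE δ.2.le).op).f n).hom (x γ - _) = 0
        rw [map_sub]
        change res K δ.2.le n (x γ) - res K δ.2.le n _ = 0
        rw [res_d, hy' δ, hx ⟨δ.1, hS _ _ δ.2.le γ.2⟩ γ δ.2.le, (ih ⟨δ.1, hS _ _ δ.2.le γ.2⟩ δ.2).1,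
          sub_self]
      obtain ⟨w, hw, hw'⟩ := hind γ.1 γ.2 (n - 1) (fun δ => res K δ.2.le (n - 1) z)
        (fun δ δ' h => res_res K h δ'.2.le _ _)
        (fun δ => by
          have e : n - 1 + 1 = n := by omega
          rw [e]
          exact hres δ)
      obtain ⟨w', hw''⟩ := hsurj γ.1 (n - 1 - 1) w hw
      refine ⟨y' + (z - ((K.obj (op γ.1)).d (n - 1 - 1) (n - 1)).hom w'), ?_, fun δ hδ => ?_⟩
      · rw [map_add, map_sub, hz, ← AddMonoidHom.comp_apply ((K.obj (op γ.1)).d (n - 1) n).hom,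
          ← AddCommGrpCat.hom_comp, HomologicalComplex.d_comp_d]
        simp
      · change ((K.map (homOfLE hδ.le).op).f (n - 1)).hom (y' + (z - _)) = y δ
        rw [map_add, map_sub]
        change res K hδ.le (n - 1) y' + (res K hδ.le (n - 1) z - res K hδ.le (n - 1) _) = y δ
        rw [res_d, hw'' ⟨δ.1, hδ⟩, hw' ⟨δ.1, hδ⟩, sub_self, add_zero]
        exact hy' ⟨δ.1, hδ⟩
  refine ⟨y, fun γ γ' h => ?_, fun γ => (main γ).1⟩
  rcases h.lt_or_eq with h' | h'
  · exact (main γ').2 γ h'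
  · obtain rfl : γ = γ' := Subtype.ext h'
    exact ConcreteCategory.congr_hom
      (congrArg (fun q => HomologicalComplex.Hom.f q (n - 1))
        ((congrArg K.map (Subsingleton.elim _ (𝟙 _))).trans (K.map_id _))) _

lemma primitive_below (β : I) : ∀ (n : ℤ) (x : ∀ γ : {γ : I // γ < β}, (K.obj (op γ.1)).X n),
      (∀ (γ γ' : {γ : I // γ < β}) (h : γ.1 ≤ γ'.1), res K h n (x γ') = x γ) →
      (∀ γ : {γ : I // γ < β}, ((K.obj (op γ.1)).d n (n + 1)).hom (x γ) = 0) →
      ∃ y : ∀ γ : {γ : I // γ < β}, (K.obj (op γ.1)).X (n - 1),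
        (∀ (γ γ' : {γ : I // γ < β}) (h : γ.1 ≤ γ'.1), res K h (n - 1) (y γ') = y γ) ∧
        ∀ γ : {γ : I // γ < β}, ((K.obj (op γ.1)).d (n - 1) n).hom (y γ) = x γ := by
  induction β using (wellFounded_lt (α := I)).induction
  rename_i β ih
  intro n x hx hx0
  exact exists_primitive K hac hsurj {γ | γ < β} (fun _ _ h h' => lt_of_le_of_lt h h')
    (fun γ (hγ : γ < β) => ih γ hγ) n x hx hx0

end

/-- Let I be a well-ordered type and K : Iᵒᵖ ⥤ CochainComplex Ab an inverse system of acyclic complexes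
of abelian groups such that for every β and every degree n, each family of elements of the Kⁿ_γ (γ <
β) compatible under the transition maps lifts to an element of Kⁿ_β (i.e. Kⁿ_β → lim_{γ<β} Kⁿ_γ is
surjective). Then the limit complex lim K is acyclic. -/
theorem result {I : Type w} [LinearOrder I] [WellFoundedLT I]
    (K : Iᵒᵖ ⥤ CochainComplex AddCommGrpCat.{w} ℤ)
    (hac : ∀ (β : I) (n : ℤ), (K.obj (op β)).ExactAt n)
    (hsurj : ∀ (β : I) (n : ℤ) (x : ∀ γ : {γ : I // γ < β}, (K.obj (op γ.1)).X n),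
      (∀ (γ γ' : {γ : I // γ < β}) (h : γ.1 ≤ γ'.1), ((K.map (homOfLE h).op).f n).hom (x γ') = x γ) →
      ∃ y : (K.obj (op β)).X n, ∀ γ : {γ : I // γ < β}, ((K.map (homOfLE γ.2.le).op).f n).hom y = x γ)
    (n : ℤ) : (limit K).ExactAt n := by
  rw [HomologicalComplex.exactAt_iff' _ (n - 1) n (n + 1) (by simp) (by simp), ShortComplex.ab_exact_iff]
  intro (x : (limit K).X n) (hx : ((limit K).d n (n + 1)).hom x = 0)
  let p : ∀ γ : I, limit K ⟶ K.obj (op γ) := fun γ => limit.π K (op γ)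
  have hpc : ∀ {γ γ' : I} (h : γ ≤ γ') (m : ℤ) (z : (limit K).X m),
      res K h m (((p γ').f m).hom z) = ((p γ).f m).hom z := fun {γ γ'} h m z =>
    ConcreteCategory.congr_hom (congrArg (fun q => HomologicalComplex.Hom.f q m) (limit.w K (homOfLE h).op)) z
  obtain ⟨y, hy, hy'⟩ := exists_primitive K hac hsurj Set.univ (fun _ _ _ _ => trivial)
    (fun β _ => primitive_below K hac hsurj β) n (fun γ => ((p γ.1).f n).hom x)
    (fun γ γ' h => hpc h n x)
    (fun γ => by
      have := ConcreteCategory.congr_hom ((p γ.1).comm n (n + 1)) x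
      change ((K.obj (op γ.1)).d n (n + 1)).hom (((p γ.1).f n).hom x) = ((p γ.1).f (n + 1)).hom (((limit K).d n (n + 1)).hom x) at this
      rw [this, hx, map_zero])
  let hl := isLimitOfPreserves (HomologicalComplex.eval AddCommGrpCat.{w} (ComplexShape.up ℤ) (n - 1) ⋙ forget AddCommGrpCat.{w}) (limit.isLimit K)
  let s : (K ⋙ HomologicalComplex.eval AddCommGrpCat.{w} (ComplexShape.up ℤ) (n - 1) ⋙ forget AddCommGrpCat.{w}).sections :=
    ⟨fun γ => y ⟨γ.unop, trivial⟩, fun {γ γ'} f => hy ⟨γ'.unop, trivial⟩ ⟨γ.unop, trivial⟩ f.unop.le⟩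
  refine ⟨(Types.isLimitEquivSections hl).symm s, ?_⟩
  let hl' := isLimitOfPreserves (HomologicalComplex.eval AddCommGrpCat.{w} (ComplexShape.up ℤ) n ⋙ forget AddCommGrpCat.{w}) (limit.isLimit K)
  refine (Types.isLimitEquivSections hl').injective (Subtype.ext (funext fun γ => ?_))
  have e1 := ConcreteCategory.congr_hom ((p γ.unop).comm (n - 1) n) ((Types.isLimitEquivSections hl).symm s)
  change ((K.obj γ).d (n - 1) n).hom (((limit.π K γ).f (n - 1)).hom _) = ((limit.π K γ).f n).hom _ at e1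
  change ((limit.π K γ).f n).hom _ = ((limit.π K γ).f n).hom x
  refine e1.symm.trans ?_
  have e2 := Types.isLimitEquivSections_symm_apply hl s γ
  change ((limit.π K γ).f (n - 1)).hom _ = y ⟨γ.unop, trivial⟩ at e2
  rw [e2]
  exact hy' ⟨γ.unop, trivial⟩

end Groth.Agent.S0992
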