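import Groth.Statements.S0996
import Groth.Agent.DerCat.PlusAcyclicUse
set_option autoImplicit false
universe w w' v v' u u'
open CategoryTheory CategoryTheory.Limits
open CohDer


namespace Groth.Agent.S0996

set_option backward.isDefEq.respectTransparency false
set_option backward.defeqAttrib.useBackward true

/-- Leray's acyclicity lemma. Let F : C ⥤ D be a left exact additive functor between abelian categories,
with C having enough injectives. If K is a bounded below cochain complex in C all of whose terms are
right F-acyclic (RⁱF(Kᵐ) = 0 for i > 0), then the canonical map F(K) → RF(K) in the bounded below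
derived category D⁺(D) is an isomorphism. -/
theorem result {C : Type u} [Category.{v} C] [Abelian C] [HasDerivedCategory.{w} C] [EnoughInjectives C]
    {D : Type u'} [Category.{v'} D] [Abelian D] [HasDerivedCategory.{w'} D]
    (F : C ⥤ D) [F.Additive] [PreservesFiniteLimits F] (K : CochainComplex.Plus C)
    (hK : ∀ (m : ℤ) (i : ℕ), 0 < i → IsZero ((F.rightDerived i).obj (K.obj.X m))) :
    IsIso (F.rightDerivedFunctorPlusUnit.app ((HomotopyCategory.Plus.quotient C).obj K)) := by
  obtain ⟨a, ha⟩ := K.property
  obtain ⟨L, i, hi, hL, hL'⟩ := DerCat.exists_injective_plus K.obj a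
  let L' : CochainComplex.Plus C := ⟨L, a, hL'⟩
  let s : K ⟶ L' := ObjectProperty.homMk i
  haveI : QuasiIso s.hom := hi
  refine (DerCat.isIso_unit_iff F s hL).2 ?_
  haveI : (CochainComplex.mappingCone i).IsStrictlyGE (a - 1) := DerCat.isStrictlyGE_cone i a
  refine DerCat.quasiIso_map F (DerCat.acyclicObj F) (fun Z hZ j hj => ((F.rightDerived j).map_isZero hZ))
    (fun S hS h1 h2 => DerCat.acyclicObj_ses F S hS h1 h2) i (a - 1) (fun n => ?_)
  refine (DerCat.acyclicObj F).prop_of_iso (HomologicalComplex.homotopyCofiber.XIsoBiprod i n (n + 1) rfl).symm ?_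
  refine DerCat.acyclicObj_biprod F (hK (n + 1)) fun j hj => ?_
  obtain ⟨j', rfl⟩ : ∃ j', j = j' + 1 := ⟨j - 1, by omega⟩
  haveI := hL n
  exact F.isZero_rightDerived_obj_injective_succ j' (L.X n)

end Groth.Agent.S0996
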