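import Groth.Statements.S10001
import Groth.Agent.AlgSpImage.CutOut

set_option backward.isDefEq.respectTransparency false
set_option linter.style.haveILetI false

set_option autoImplicit false
universe u
open CategoryTheory CategoryTheory.Limits AlgebraicGeometry Opposite
open AlgSp

namespace Groth.Agent.S10001

/-- Last assertion, on T-valued points for schemes T: if i : Z ⟶ X is the closed subspace cut out by the
sheaf of ideals I, a morphism h : h_T ⟶ X from a scheme T factors through Z exactly when h^*I ⟶ O_T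
vanishes, that is, when for every affine etale chart U of X the functions in I(U) pull back to zero
on T ×_X U (I is contained in the kernel family of h). -/
theorem result {S : Scheme.{u}} {Z X : AlgSp.Space S} (i : Z ⟶ X) (I : AlgSp.IdealEt X.obj)
    (hZ : AlgSp.IsCutOutBy I i.hom) {T : Over S} (h : (AlgSp.yon S).obj T ⟶ X.obj) (hh : AlgSp.Representable h) :
    (∃ k : (AlgSp.yon S).obj T ⟶ Z.obj, k ≫ i.hom = h) ↔ I ≤ AlgSp.idealOfRep hh := by
  obtain ⟨hi, rfl⟩ := hZ
  haveI := Groth.Agent.AlgSpLimit.mono_closed hi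
  have hcl : ∀ E : EtOver X.obj, IsClosedImmersion (EtOver.bcπ hi.1 E).left := fun E =>
    hi.2 _ _ _ (EtOver.isPullback_bcObj hi.1 E)
  constructor
  · rintro ⟨k, hk⟩ E hE
    haveI := hcl E
    haveI := hE
    have h₀ := (Groth.Agent.AlgSpImage.factor_iff_ker_closed (EtOver.isPullback_bcObj hi.1 E) (EtOver.bcπ hh E)).1
      ⟨(EtOver.bcObj hh E).obj.hom ≫ k, by rw [Category.assoc, hk]; exact (EtOver.isPullback_bcObj hh E).w⟩
    have h₁ := Scheme.IdealSheafData.le_def.1 h₀ ⟨⊤, isAffineOpen_top _⟩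
    rw [Groth.Agent.FpqcDescent.ker_ideal_top, Groth.Agent.FpqcDescent.ker_ideal_top] at h₁
    exact h₁
  · intro hle
    obtain ⟨U, p, hp, hps⟩ := X.property.atlas
    let kO : ∀ O : U.left.affineOpens, Over.mk (O.1.ι ≫ U.hom) ⟶ U := fun O => Over.homMk O.1.ι rfl
    have hkE : ∀ O : U.left.affineOpens, RepWith @Etale ((yon S).map (kO O) ≫ p) := fun O =>
      Groth.Agent.AlgSpc.repWith_comp
        ((repWith_yon_map_iff _ (kO O)).2 (inferInstanceAs (Etale O.1.ι))) hp
    let E : U.left.affineOpens → EtOver X.obj := fun O => EtOver.mk ((yon S).map (kO O) ≫ p) (hkE O)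
    have hm : ∀ O, ∃ m, m ≫ i.hom = (yon S).map (EtOver.bcπ hh (E O)) ≫ (E O).obj.hom := fun O => by
      haveI := hcl (E O)
      haveI : IsAffine (E O).obj.left.left := O.2
      refine (Groth.Agent.AlgSpImage.factor_iff_ker_closed (EtOver.isPullback_bcObj hi.1 (E O)) _).2 ?_
      rw [Scheme.ker_of_isAffine, Scheme.ker_of_isAffine]
      refine Scheme.IdealSheafData.le_of_isAffine ?_
      simp only [Scheme.IdealSheafData.ofIdealTop_ideal]
      exact Ideal.map_mono (hle (E O) O.2)
    choose m hm using hm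
    let B : U.left.affineOpens → Over S := fun O => (EtOver.bcObj hh (E O)).obj.left
    let φ : ∀ O, B O ⟶ T := fun O => Groth.Agent.AlgSpc.pre (EtOver.bcObj hh (E O)).obj.hom
    have hφ : ∀ O, (yon S).map (φ O) = (EtOver.bcObj hh (E O)).obj.hom := fun O => Groth.Agent.AlgSpc.map_pre _
    have hφe : ∀ O, Etale (φ O).left := fun O =>
      (repWith_yon_map_iff @Etale (φ O)).1 (by rw [hφ]; exact (EtOver.bcObj hh (E O)).property)
    let a : Over.mk (Limits.Sigma.desc fun O => (B O).hom) ⟶ T :=
      Over.homMk (Limits.Sigma.desc fun O => (φ O).left) (by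
        show Limits.Sigma.desc _ ≫ T.hom = Limits.Sigma.desc _
        apply Sigma.hom_ext; intro O; rw [Sigma.ι_desc_assoc, Sigma.ι_desc, Over.w])
    haveI hae : Etale a.left := by
      refine IsZariskiLocalAtSource.of_openCover (P := @Etale) (sigmaOpenCover fun O => (B O).left) fun O => ?_
      show Etale (Sigma.ι (fun O => (B O).left) O ≫ Limits.Sigma.desc _)
      rw [Sigma.ι_desc]
      exact hφe O
    haveI has : Surjective a.left := ⟨fun t => by
      obtain ⟨u, hu⟩ := Groth.Agent.AlgSpc.surjective_ofPt hps (Points.ofPt h t)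
      obtain ⟨O, hO, hx, -⟩ := exists_isAffineOpen_mem_and_subset (show u ∈ (⊤ : U.left.Opens) from trivial)
      obtain ⟨v, hv, -⟩ := Groth.Agent.AlgSpc.exists_point_of_sq (EtOver.isPullback_bcObj hh (E ⟨O, hO⟩))
        (Points.ofScheme T t) (⟨u, hx⟩ : ↥O) (by
          rw [← Points.ofPt_eq_map_ofScheme]
          refine hu.symm.trans ?_
          exact (Groth.Agent.AlgSpc.ofPt_comp (kO ⟨O, hO⟩) p (⟨u, hx⟩ : ↥O)).symm)
      refine ⟨Sigma.ι (fun O => (B O).left) ⟨O, hO⟩ v, ?_⟩
      refine (Scheme.Hom.comp_apply _ _ _).symm.trans ?_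
      show (Sigma.ι (fun O => (B O).left) ⟨O, hO⟩ ≫ Limits.Sigma.desc fun O => (φ O).left) v = t
      rw [Sigma.ι_desc]
      rw [Groth.Agent.AlgSpc.ofPt_pre] at hv
      exact (Points.schemeEquiv T).injective hv⟩
    obtain ⟨w, hw⟩ := Groth.Agent.AlgSpImage.exists_sigma_desc B m
    refine Groth.Agent.AlgSpImage.exists_factor_of_atlas ((repWith_yon_map_iff _ a).2 hae)
      ((repWith_yon_map_iff _ a).2 has) h i.hom
      ⟨w, Groth.Agent.AlgSpImage.sigma_hom_ext B fun O => ?_⟩
    rw [← Category.assoc, hw, hm]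
    refine ((EtOver.isPullback_bcObj hh (E O)).w).symm.trans ?_
    rw [← hφ, ← Functor.map_comp_assoc]
    congr 2
    ext1
    exact (Sigma.ι_desc (fun O => (φ O).left) O).symm

end Groth.Agent.S10001
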