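import Groth.Statements.S10016
import Groth.Agent.AlgSpLimit.DescendRep
import Groth.Agent.AlgSpLoc.Cover
import Groth.Agent.LimSch.DescendsSmooth
import Groth.Agent.AlgSpc.EtLocInst

set_option autoImplicit false
set_option backward.isDefEq.respectTransparency false
universe u
open CategoryTheory CategoryTheory.Limits AlgebraicGeometry
open AlgSp
open Groth.Agent.AlgSpc Groth.Agent.AlgSpLimit

namespace Groth.Agent.S10016

/-- Let `S` be a quasi-separated scheme and `B` the limit, in fppf sheaves over `S`, of a cofiltered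
system `(B_i)` of algebraic spaces over `S` whose transition maps are affine; fix an index `i₀` such
that `B_{i₀}` is quasi-compact and quasi-separated over `S`, and a morphism `f₀ : X₀ ⟶ Y₀` of
algebraic spaces over `B_{i₀}` whose source and target are quasi-compact and quasi-separated over
`S`. Write `f_i` (for `i` mapping to `i₀`) and `f` for the base changes of `f₀` to `B_i` and to `B`,
given by pullback squares. If `f` is universally injective and `f₀` locally of finite type, then for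
some `i` mapping to `i₀` every such base change `f_i` is universally injective. (The published
statement allows any base scheme and uses absolute quasi-separatedness; this row assumes the base
quasi-separated, over which quasi-separatedness relative to the base is the absolute notion.) -/
theorem result (S : Scheme.{u}) [QuasiSeparatedSpace S] {I : Type u} [SmallCategory I] [IsCofiltered I]
    (D : I ⥤ AlgSp.Sp S) (hD : ∀ i, AlgSp.IsAlgSpace (D.obj i))
    (hDa : ∀ (i j : I) (φ : i ⟶ j), AlgSp.IsAffineMor (D.map φ))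
    (c : Cone D) (hc : IsLimit c) (i₀ : I)
    (hBqc : AlgSp.IsQuasiCompactSp (D.obj i₀)) (hBqs : AlgSp.IsQuasiSeparatedSp (D.obj i₀))
    (X₀ Y₀ : AlgSp.Space S) (f₀ : X₀.obj ⟶ Y₀.obj) (b₀ : Y₀.obj ⟶ D.obj i₀)
    (hXqc : AlgSp.IsQuasiCompactSp X₀.obj) (hXqs : AlgSp.IsQuasiSeparatedSp X₀.obj)
    (hYqc : AlgSp.IsQuasiCompactSp Y₀.obj) (hYqs : AlgSp.IsQuasiSeparatedSp Y₀.obj)
    (X Y : AlgSp.Sp S) (f : X ⟶ Y) (pY : Y ⟶ Y₀.obj) (qY : Y ⟶ c.pt)
    (hY : IsPullback pY qY b₀ (c.π.app i₀)) (pX : X ⟶ X₀.obj) (hX : IsPullback pX f f₀ pY)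
    (hf : AlgSp.IsUnivInjectiveMor f) (hf₀ : AlgSp.LocP @LocallyOfFiniteType f₀) :
    ∃ (i : I) (φ : i ⟶ i₀), ∀ (Xi Yi : AlgSp.Sp S) (fi : Xi ⟶ Yi) (pYi : Yi ⟶ Y₀.obj) (qYi : Yi ⟶ D.obj i)
      (_ : IsPullback pYi qYi b₀ (D.map φ)) (pXi : Xi ⟶ X₀.obj) (_ : IsPullback pXi fi f₀ pYi),
      AlgSp.IsUnivInjectiveMor fi := by
  have sP := IsPullback.of_hasPullback f₀ f₀
  have hP := isAlgSpace_of_isPullback X₀.property Y₀.property X₀.property sP
  obtain ⟨hPc, hPs⟩ := Groth.Agent.AlgSpDesc.qcqs_pullback X₀.property Y₀.property X₀.property sP hXqc hXqs hYqs hXqc hXqs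
  obtain ⟨i, φ, h⟩ := descend_surjective D hDa c hc X₀.property hP (pullback.diagonal f₀)
    (pullback.fst f₀ f₀ ≫ f₀ ≫ b₀) hXqc hPc hPs (locP_lfp_diagonal X₀.property Y₀.property hf₀)
    (isPullback_map_self hY hX) (Groth.Agent.AlgSpLoc.isPullback_diagonal hX) (surjective_diagonal_of_univInjective' hf)
  refine ⟨i, φ, fun Xi Yi fi pYi qYi hYi pXi hXi => ?_⟩
  have hYa : IsAlgSpace Yi := isAlgSpace_of_isPullback Y₀.property (hD i₀) (hD i) hYi
  have hXa : IsAlgSpace Xi := isAlgSpace_of_isPullback X₀.property Y₀.property hYa hXi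
  have hs := h i (𝟙 i) _ _ (pullback.diagonal fi) (pullback.map fi fi f₀ f₀ pXi pXi pYi hXi.w.symm hXi.w.symm) (pullback.fst fi fi ≫ fi ≫ qYi)
    (by rw [Category.id_comp]; exact isPullback_map_self hYi hXi) pXi (Groth.Agent.AlgSpLoc.isPullback_diagonal hXi)
  exact Groth.Agent.AlgSpDesc.univInjective_of_fieldPts fun K _ str =>
    Groth.Agent.AlgSpDesc.fieldPts_of_surjective_diagonal hXa hs K str

end Groth.Agent.S10016
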