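import Groth.Statements.S1039
import Groth.Agent.DCohBridge.PerfectQCoh
import Groth.Agent.DCohBridge.TorQCoh

set_option autoImplicit false
universe u
open CategoryTheory CategoryTheory.Limits AlgebraicGeometry
attribute [local instance] HasDerivedCategory.standard
open Perf

open Groth.Agent.DCohBridge

namespace Groth.Agent.S1039

set_option backward.isDefEq.respectTransparency false
set_option backward.defeqAttrib.useBackward true

/-- A pseudo-coherent object is bounded above on a quasi-compact scheme. -/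
theorem exists_isLE {X : Scheme.{u}} [CompactSpace X] {E : DCoh.D X} {m : ℤ}
    (hE : DCoh.IsPseudoCoherentD m E) : ∃ c : ℤ, E.IsLE c := by
  classical
  have key : ∀ x : X, ∃ (U : X.Opens) (b : ℤ), x ∈ U ∧ ∀ i : ℤ, b < i →
      Limits.IsZero ((Scheme.Modules.restrictFunctor U.ι).obj (DCoh.HD E i)) := fun x => by
    obtain ⟨U, hxU, hF⟩ := hE x
    obtain ⟨P, f, hP, hf, -⟩ := hF _ ⟨DerivedCategory.Q.objObjPreimageIso E⟩
    obtain ⟨a, b, hv⟩ := hP.1
    refine ⟨U, max m b, hxU, fun i hi => ?_⟩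
    have hz : P.ExactAt i := ShortComplex.exact_of_isZero_X₂ _ (hv i (Or.inr (by omega)))
    haveI := hf i (by omega)
    exact hz.isZero_homology.of_iso ((nonempty_HD_restrictD U.ι E i).some.symm ≪≫
      (DerivedCategory.homologyFunctor _ i).mapIso ((DCoh.restrictD U.ι).mapIso
        (DerivedCategory.Q.objObjPreimageIso E).symm ≪≫ restrictObjIso U.ι _) ≪≫
      (asIso ((DerivedCategory.homologyFunctor _ i).map f)).symm ≪≫
      (DerivedCategory.homologyFunctorFactors _ i).app P)
  choose U b hxU hz using key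
  obtain ⟨t, ht⟩ := isCompact_univ.elim_finite_subcover (fun x : X => (U x : Set X)) (fun x => (U x).2)
    fun x _ => Set.mem_iUnion.2 ⟨x, hxU x⟩
  refine ⟨(t.sup fun x => (b x).toNat : ℕ), (DerivedCategory.isLE_iff E _).2 fun i hi => ?_⟩
  refine isZero_of_local fun y => ?_
  obtain ⟨x, hx, hy⟩ := Set.mem_iUnion₂.1 (ht (Set.mem_univ y))
  refine ⟨_, (U x).ι, inferInstance, ⟨y, hy⟩, rfl, hz x i ?_⟩
  have hb : (b x).toNat ≤ t.sup fun x => (b x).toNat := Finset.le_sup (f := fun x => (b x).toNat) hx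
  omega

/-- A module whose tilde is coherent is finite. -/
theorem finite_of_isCoh_tilde {R : CommRingCat.{u}} (N : ModuleCat.{u} R)
    (h : Coh.IsCoh ((tilde.functor R).obj N)) : Module.Finite R N := by
  have h1 : Module.Finite Γ(Spec R, ⊤) Γ(tilde N, ⊤) := ((QCohBase.isCoh_iff _).1 h).2 ⊤ (isAffineOpen_top _)
  have h2 : Module.Finite R Γ(Spec R, ⊤) :=
    Module.Finite.of_surjective (Algebra.linearMap R Γ(Spec R, ⊤)) (Scheme.ΓSpecIso R).commRingCatIsoToRingEquiv.symm.surjective
  have h3 : Module.Finite R Γ(tilde N, ⊤) := Module.Finite.trans Γ(Spec R, ⊤) _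
  exact @Module.Finite.equiv _ _ _ _ _ _ _ _ h3 (tilde.isoTop N).toLinearEquiv.symm

/-- Let X be a Noetherian scheme, E ∈ D(O_X) with quasi-coherent cohomology sheaves and m ∈ ℤ. Then
m-pseudo-coherence of E is equivalent to: Hⁱ(E) is coherent for every i ≥ m and vanishes for i
large. -/
theorem result (X : Scheme.{u}) [IsNoetherian X] (E : DCoh.D X) (hE : DCoh.IsQCohD E) (m : ℤ) :
    DCoh.IsPseudoCoherentD m E ↔ (∀ i : ℤ, m ≤ i → Coh.IsCoh (DCoh.HD E i)) ∧ ∃ b : ℤ, E.IsLE b := by
  refine ⟨fun h => ⟨fun i hi => isCoh_HD_of_pc hE h hi, exists_isLE h⟩, fun ⟨hc, b, hb⟩ => ?_⟩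
  refine (isPseudoCoherentD_iff m E).2 fun x => ?_
  obtain ⟨R, j, _, p, hp, -⟩ := exists_affine_chart ⊤ x trivial
  haveI := isNoetherianRing_chart j
  obtain ⟨M, ⟨e⟩⟩ := (Affine.isQCohD_iff R _).1 (isQCohD_restrictD j hE)
  let eH : ∀ i : ℤ, (tilde.functor R).obj ((DerivedCategory.homologyFunctor (ModuleCat.{u} R) i).obj M) ≅
      (Scheme.Modules.restrictFunctor j).obj (DCoh.HD E i) := fun i =>
    ((Affine.tildeHD R i).app M).symm ≪≫ (DerivedCategory.homologyFunctor _ i).mapIso e ≪≫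
      (nonempty_HD_restrictD j E i).some
  have hP : DRing.IsPseudoCoherent R m M := by
    refine (Groth.Agent.S6942.result R m M R).1.2 ⟨⟨b, fun i hi => ?_⟩, fun i hi => finite_of_isCoh_tilde _ ?_⟩
    · have h0 : Limits.IsZero ((tilde.functor R).obj ((DerivedCategory.homologyFunctor (ModuleCat.{u} R) i).obj M)) :=
        ((Scheme.Modules.restrictFunctor j).map_isZero ((DerivedCategory.isLE_iff E b).1 hb i hi)).of_iso (eH i)
      refine ModuleCat.subsingleton_of_isZero ((Limits.IsZero.iff_id_eq_zero _).2 ?_)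
      exact (tilde.functor R).map_injective (h0.eq_of_src _ _)
    · have h0 := QCohBase.isCoh_restrict j (hc i hi)
      exact QCohBase.isCoh_of_epi (eH i).inv h0 (TensorMod.isQCoh_of_iso (eH i).symm h0.1)
  exact PCAt.of_res j hp (PCAt.of_iso e ((isPseudoCoherentD_iff m _).1 ((isPseudoCoherentD_tildeD_iff M m).2 hP) p))

end Groth.Agent.S1039
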