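import Groth.Statements.S1005
import Groth.Agent.DCohBridge.PerfectQCoh
import Groth.Agent.S1039
import Groth.Agent.S7030
import Groth.Agent.S6962
import Groth.Agent.DRingKProj.Derived

set_option autoImplicit false
universe u
open CategoryTheory CategoryTheory.Limits AlgebraicGeometry
attribute [local instance] HasDerivedCategory.standard
open Perf

open Groth.Agent.DCohBridge

namespace Groth.Agent.S1005

set_option backward.isDefEq.respectTransparency false
set_option backward.defeqAttrib.useBackward true

lemma isRegular_chart {X : Scheme.{u}} (hreg : ∀ x : X, IsRegularLocalRing (X.presheaf.stalk x))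
    {R : CommRingCat.{u}} (j : Spec R ⟶ X) [IsOpenImmersion j] (p : PrimeSpectrum R) :
    IsRegularLocalRing (Localization.AtPrime p.asIdeal) := by
  let p' : Spec R := p
  haveI := hreg (j.base p')
  haveI : IsRegularLocalRing ((Spec R).presheaf.stalk p') :=
    IsRegularLocalRing.of_ringEquiv (asIso (j.stalkMap p')).commRingCatIsoToRingEquiv
  letI k : Algebra R ((Spec R).presheaf.stalk p') := StructureSheaf.stalkAlgebra (↑R) p
  haveI : IsLocalization.AtPrime ((Spec R).presheaf.stalk p') p.asIdeal :=
    StructureSheaf.IsLocalization.to_stalk R p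
  exact IsRegularLocalRing.of_ringEquiv
    (IsLocalization.algEquiv p.asIdeal.primeCompl ((Spec R).presheaf.stalk p') (Localization.AtPrime p.asIdeal)).toRingEquiv

/-- Let X be a locally Noetherian scheme all of whose local rings are regular. Then every object of
D(O_X) with bounded, coherent cohomology is perfect. -/
theorem result (X : Scheme.{u}) [IsLocallyNoetherian X]
    (hreg : ∀ x : X, IsRegularLocalRing (X.presheaf.stalk x))
    (K : DCoh.D X) (a b : ℤ) [K.IsGE a] [K.IsLE b] (hK : DCoh.IsCohD K) : DCoh.IsPerfect K := by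
  refine (isPerfect_iff K).2 fun x => ?_
  obtain ⟨R, j, _, p, hp, -⟩ := exists_affine_chart ⊤ x trivial
  haveI := isNoetherianRing_chart j
  haveI : ∀ M : ModuleCat.{u} R, DRing.HasLTensor R M := fun M => DRingKProj.hasLTensor M
  have hq : DCoh.IsQCohD K := fun i => (hK i).1
  obtain ⟨M, ⟨e⟩⟩ := (Affine.isQCohD_iff R _).1 (isQCohD_restrictD j hq)
  let eH : ∀ i : ℤ, (tilde.functor R).obj ((DerivedCategory.homologyFunctor (ModuleCat.{u} R) i).obj M) ≅
      (Scheme.Modules.restrictFunctor j).obj (DCoh.HD K i) := fun i =>
    ((Affine.tildeHD R i).app M).symm ≪≫ (DerivedCategory.homologyFunctor _ i).mapIso e ≪≫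
      (nonempty_HD_restrictD j K i).some
  have hb : ∀ i : ℤ, (i < a ∨ b < i) → Subsingleton (Dual.HD R M i) := fun i hi => by
    have h1 : Limits.IsZero (DCoh.HD K i) := by
      rcases hi with hi | hi
      · exact (DerivedCategory.isGE_iff K a).1 inferInstance i hi
      · exact (DerivedCategory.isLE_iff K b).1 inferInstance i hi
    have h0 := ((Scheme.Modules.restrictFunctor j).map_isZero h1).of_iso (eH i)
    refine ModuleCat.subsingleton_of_isZero ((Limits.IsZero.iff_id_eq_zero _).2 ?_)
    exact (tilde.functor R).map_injective (h0.eq_of_src _ _)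
  have hP : DRing.IsPerfect R M := Groth.Agent.S7030.result R M ⟨a, b, hb⟩ fun i => by
    refine (Groth.Agent.S6962.result R (isRegular_chart hreg j) _).2 ?_
    have h0 := QCohBase.isCoh_restrict j (hK i)
    exact Groth.Agent.S1039.finite_of_isCoh_tilde _
      (QCohBase.isCoh_of_epi (eH i).inv h0 (TensorMod.isQCoh_of_iso (eH i).symm h0.1))
  exact PerfAt.of_res j hp (PerfAt.of_iso e ((isPerfect_iff _).1 ((isPerfect_tildeD_iff M).2 hP) p))

end Groth.Agent.S1005
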