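import Groth.Statements.S10055
import Groth.Agent.AlgSpImage.CutOut
import Groth.Agent.AlgSpImage.Limit
import Groth.Agent.AlgSpLoc.AffineMor

set_option backward.isDefEq.respectTransparency false
set_option linter.style.haveILetI false

set_option autoImplicit false
universe u
open CategoryTheory CategoryTheory.Limits AlgebraicGeometry
open AlgSp

namespace Groth.Agent.S10055

/-- Let `(X_i) ⟶ (Y_i)` be a morphism of cofiltered systems of algebraic spaces over `S`, both with
affine transition morphisms, with every `X_i ⟶ Y_i` a closed immersion. Then the induced morphism of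
limits (in fppf sheaves) `lim X_i ⟶ lim Y_i` is a closed immersion. -/
theorem result (S : Scheme.{u}) {I : Type u} [SmallCategory I] [IsCofiltered I]
    (DX DY : I ⥤ AlgSp.Sp S) (hDX : ∀ i, AlgSp.IsAlgSpace (DX.obj i)) (hDY : ∀ i, AlgSp.IsAlgSpace (DY.obj i))
    (hXa : ∀ (i j : I) (φ : i ⟶ j), AlgSp.IsAffineMor (DX.map φ)) (hYa : ∀ (i j : I) (φ : i ⟶ j), AlgSp.IsAffineMor (DY.map φ))
    (τ : DX ⟶ DY) (hτ : ∀ i, AlgSp.RepWith @IsClosedImmersion (τ.app i))
    (cX : Cone DX) (hcX : IsLimit cX) (cY : Cone DY) (hcY : IsLimit cY)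
    (g : cX.pt ⟶ cY.pt) (hg : ∀ i, g ≫ cY.π.app i = cX.π.app i ≫ τ.app i) :
    AlgSp.RepWith @IsClosedImmersion g := by
  haveI : ∀ i, Mono (τ.app i) := fun i => Groth.Agent.AlgSpLimit.mono_closed (hτ i)
  haveI : Mono g := ⟨fun {F} a b hab => hcX.hom_ext fun i => by
    rw [← cancel_mono (τ.app i), Category.assoc, Category.assoc, ← hg, reassoc_of% hab]⟩
  refine Groth.Agent.AlgSpLoc.repWith_of_tested g fun T _ t => ?_
  choose V w q sq using fun i => Groth.Agent.AlgSpc.exists_sq (hτ i).1 (t ≫ cY.π.app i)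
  have hq : ∀ i, IsClosedImmersion (q i).left := fun i => (hτ i).2 _ _ _ (sq i)
  let K : T.left.IdealSheafData := ⨆ i, (q i).left.ker
  let C : Over S := Over.mk (K.subschemeι ≫ T.hom)
  let ι : C ⟶ T := Over.homMk K.subschemeι rfl
  have hm : ∀ i, ∃ m, m ≫ τ.app i = (yon S).map ι ≫ t ≫ cY.π.app i := fun i => by
    haveI := hq i
    refine (Groth.Agent.AlgSpImage.factor_iff_ker_closed (sq i) ι).2 ?_
    show _ ≤ K.subschemeι.ker
    rw [Scheme.IdealSheafData.ker_subschemeι]
    exact le_iSup (fun i => (q i).left.ker) i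
  choose m hm using hm
  let cm : Cone DX :=
    { pt := (yon S).obj C
      π := { app := m
             naturality := fun i j φ => by
              refine (Category.id_comp _).trans ((cancel_mono (τ.app j)).1 ?_)
              rw [Category.assoc, τ.naturality φ, reassoc_of% (hm i), hm, cY.w] } }
  let a := hcX.lift cm
  have ha : a ≫ g = (yon S).map ι ≫ t := hcY.hom_ext fun i => by
    rw [Category.assoc, Category.assoc, hg, reassoc_of% (hcX.fac cm i)]
    exact hm i
  haveI hι : IsClosedImmersion ι.left := inferInstanceAs (IsClosedImmersion K.subschemeι)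
  have hιr : RepWith @IsClosedImmersion ((yon S).map ι) := (repWith_yon_map_iff _ ι).2 hι
  haveI := Groth.Agent.AlgSpLimit.mono_closed hιr
  have hl : ∀ (F : AlgSp.Sp S) (x : F ⟶ cX.pt) (u : F ⟶ (yon S).obj T), x ≫ g = u ≫ t →
      ∃ l : F ⟶ (yon S).obj C, l ≫ (yon S).map ι = u := by
    intro F x u hxu
    refine Groth.Agent.AlgSpImage.exists_factor_of_points hιr u fun T' z => ?_
    have hle : ι.left.ker ≤ (Groth.Agent.AlgSpc.pre (z ≫ u)).left.ker := by
      show K.subschemeι.ker ≤ _
      rw [Scheme.IdealSheafData.ker_subschemeι]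
      refine iSup_le fun i => ?_
      haveI := hq i
      refine (Groth.Agent.AlgSpImage.factor_iff_ker_closed (sq i) _).1 ⟨z ≫ x ≫ cX.π.app i, ?_⟩
      rw [Groth.Agent.AlgSpc.map_pre, Category.assoc, Category.assoc, ← hg, reassoc_of% hxu, Category.assoc]
    obtain ⟨v, hv⟩ := (Groth.Agent.AlgSpImage.exists_factor_iff_ker ι.left _).2 hle
    let v' : T' ⟶ C := Over.homMk v (by rw [← Over.w ι, reassoc_of% hv, Over.w])
    refine ⟨(yon S).map v', ?_⟩
    rw [← Functor.map_comp, ← Groth.Agent.AlgSpc.map_pre (z ≫ u)]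
    congr 1
    ext1
    exact hv
  choose l hl using hl
  refine ⟨C, ι, a, ⟨⟨ha⟩, ⟨PullbackCone.IsLimit.mk _ (fun s => l s.pt s.fst s.snd s.condition) (fun s => ?_)
    (fun s => hl _ _ _ _) (fun s n _ h₂ => ?_)⟩⟩, hι⟩
  · rw [← cancel_mono g, Category.assoc, ha, reassoc_of% (hl _ _ _ s.condition), s.condition]
  · rw [← cancel_mono ((yon S).map ι), hl]
    exact h₂

end Groth.Agent.S10055
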