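import Groth.Statements.S1006
import Groth.Agent.DCohBridge.PerfectQCoh
import Groth.Agent.DCohBridge.TorQCoh

set_option autoImplicit false
universe u
open CategoryTheory CategoryTheory.Limits AlgebraicGeometry
attribute [local instance] HasDerivedCategory.standard
open Perf

open Groth.Agent.DCohBridge

namespace Groth.Agent.S1006

set_option backward.isDefEq.respectTransparency false
set_option backward.defeqAttrib.useBackward true

/-- A perfect object is bounded on a quasi-compact scheme. -/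
theorem exists_bounds {X : Scheme.{u}} [CompactSpace X] {E : DCoh.D X} (hE : DCoh.IsPerfect E) :
    ∃ a b : ℤ, ∀ i : ℤ, (i < a ∨ b < i) → Limits.IsZero (DCoh.HD E i) := by
  classical
  have key : ∀ x : X, ∃ (U : X.Opens) (a b : ℤ), x ∈ U ∧ ∀ i : ℤ, (i < a ∨ b < i) →
      Limits.IsZero ((Scheme.Modules.restrictFunctor U.ι).obj (DCoh.HD E i)) := fun x => by
    obtain ⟨U, hxU, hF⟩ := hE x
    obtain ⟨P, hP, ⟨e⟩⟩ := hF _ ⟨DerivedCategory.Q.objObjPreimageIso E⟩
    obtain ⟨a, b, hv⟩ := hP.1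
    refine ⟨U, a, b, hxU, fun i hi => ?_⟩
    have hz : P.ExactAt i := ShortComplex.exact_of_isZero_X₂ _ (hv i hi)
    exact hz.isZero_homology.of_iso ((nonempty_HD_restrictD U.ι E i).some.symm ≪≫
      (DerivedCategory.homologyFunctor _ i).mapIso ((DCoh.restrictD U.ι).mapIso
        (DerivedCategory.Q.objObjPreimageIso E).symm ≪≫ restrictObjIso U.ι _ ≪≫ e) ≪≫
      (DerivedCategory.homologyFunctorFactors _ i).app P)
  choose U a b hxU hz using key
  obtain ⟨t, ht⟩ := isCompact_univ.elim_finite_subcover (fun x : X => (U x : Set X)) (fun x => (U x).2)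
    fun x _ => Set.mem_iUnion.2 ⟨x, hxU x⟩
  refine ⟨-(t.sup fun x => (-a x).toNat : ℕ), (t.sup fun x => (b x).toNat : ℕ), fun i hi => ?_⟩
  refine isZero_of_local fun y => ?_
  obtain ⟨x, hx, hy⟩ := Set.mem_iUnion₂.1 (ht (Set.mem_univ y))
  refine ⟨_, (U x).ι, inferInstance, ⟨y, hy⟩, rfl, hz x i ?_⟩
  have ha : (-a x).toNat ≤ t.sup fun x => (-a x).toNat := Finset.le_sup (f := fun x => (-a x).toNat) hx
  have hb : (b x).toNat ≤ t.sup fun x => (b x).toNat := Finset.le_sup (f := fun x => (b x).toNat) hx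
  omega

/-- On a Noetherian scheme X every perfect object of D(O_X) has coherent cohomology sheaves and is
bounded. -/
theorem result (X : Scheme.{u}) [IsNoetherian X] (E : DCoh.D X) (hE : DCoh.IsPerfect E) :
    DCoh.IsCohD E ∧ ∃ a b : ℤ, E.IsGE a ∧ E.IsLE b := by
  obtain ⟨a, b, h⟩ := exists_bounds hE
  refine ⟨fun i => ?_, a, b, ?_, ?_⟩
  · exact isCoh_HD_of_pc (isQCohD_of_perfect hE) (m := i) ((isPseudoCoherentD_iff i E).2 fun x => by
      obtain ⟨V, j, hj, v, P, hv, hP, ⟨e⟩⟩ := (isPerfect_iff E).1 hE x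
      exact ⟨V, j, hj, v, P, e.inv, hv, hP, cond_isIso i e.inv⟩) le_rfl
  · exact (DerivedCategory.isGE_iff E a).2 fun i hi => h i (Or.inl hi)
  · exact (DerivedCategory.isLE_iff E b).2 fun i hi => h i (Or.inr hi)

end Groth.Agent.S1006
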