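import Groth.Statements.S10105
import Groth.Agent.AlgSpBoot.BaseCover

set_option autoImplicit false
universe u
open CategoryTheory CategoryTheory.Limits AlgebraicGeometry
open AlgSp

namespace Groth.Agent.S10105

/-- Let `F` be an fppf sheaf of sets over `S` and `{S_i ⟶ S}` an fppf covering. If every `h_{S_i} × F`
is an algebraic space and the coproduct `∐ h_{S_i} × F` (in sheaves) is an algebraic space, then `F`
is an algebraic space: being an algebraic space is fppf local on the base. -/
theorem result (S : Scheme.{u}) (F : AlgSp.Sp S) {ι : Type u} (Si : ι → Over S)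
    (hfl : ∀ i, Flat (Si i).hom) (hfp : ∀ i, LocallyOfFinitePresentation (Si i).hom)
    (hsurj : ∀ x : ↥S, ∃ (i : ι) (y : ↥(Si i).left), (Si i).hom.base y = x)
    (halg : ∀ i, AlgSp.IsAlgSpace ((AlgSp.yon S).obj (Si i) ⨯ F))
    (c : Cofan (fun i => (AlgSp.yon S).obj (Si i) ⨯ F)) (hc : IsColimit c) (hcop : AlgSp.IsAlgSpace c.pt) :
    AlgSp.IsAlgSpace F := by
  open Groth.Agent.AlgSpc Groth.Agent.AlgSpBoot in
    have hT : IsTerminal ((yon S).obj (Over.mk (𝟙 S))) :=
      IsTerminal.ofUniqueHom (fun Z => ObjectProperty.homMk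
        { app := fun T => TypeCat.ofHom fun _ => ⟨toBase T.unop⟩
          naturality := fun _ _ _ => by
            ext x
            exact congrArg ULift.up (toBase_unique _ _) })
        (fun Z m => yon_toBase_unique _ _)
    let p : F ⟶ (yon S).obj (Over.mk (𝟙 S)) := hT.from F
    have hX : IsAlgSpace ((yon S).obj (Over.mk (𝟙 S))) := IsAlgSpace.yon_obj _
    obtain ⟨W, j, w, hj, hjs, hjw, hw⟩ := exists_sigma_cover hX Si (fun i => (yon S).map (toBase (Si i)))
      (fun i => repWith_inf ((repWith_yon_map_iff @Flat _).2 (hfl i)) ((repWith_yon_map_iff @LocallyOfFinitePresentation _).2 (hfp i))) fun x => by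
        obtain ⟨z, rfl⟩ := (Points.schemeHomeo _).surjective x
        obtain ⟨i, y, hy⟩ := hsurj z
        refine ⟨i, y, ?_⟩
        rw [ofPt_pre, pre_map]
        exact congrArg _ hy
    refine isAlgSpace_of_cover_baseChange hw (IsPullback.of_hasPullback p w)
      (isAlgSpace_pullback_cover p Si j hj hjs w fun i => ?_)
    have h' : IsPullback (prod.snd : (yon S).obj (Si i) ⨯ F ⟶ F) prod.fst p ((yon S).map (j i) ≫ w) := by
      have := (IsPullback.of_is_product (prodIsProd ((yon S).obj (Si i)) F) hT).flip
      convert! this using 1 <;> exact hT.hom_ext _ _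
    exact (halg i).of_iso (h'.isoIsPullback _ _ (IsPullback.of_hasPullback p ((yon S).map (j i) ≫ w)))

end Groth.Agent.S10105
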