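import Groth.Statements.S10106
import Groth.Agent.AlgSpBoot.BaseCover

set_option autoImplicit false
universe u
open CategoryTheory CategoryTheory.Limits AlgebraicGeometry
open AlgSp

namespace Groth.Agent.S10106

/-- Let `a : F ⟶ G` and `b : G ⟶ H` be maps of fppf sheaves of sets over `S` where `a` is flat,
surjective, locally of finite presentation and representable by algebraic spaces, and the composite
`a ≫ b` is representable by algebraic spaces. Then so is `b`. -/
theorem result (S : Scheme.{u}) (F G H : AlgSp.Sp S) (a : F ⟶ G) (b : G ⟶ H)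
    (ha : AlgSp.RepBySpWith (AlgSp.IsSurjectiveMor ⊓ AlgSp.LocP @Flat ⊓ AlgSp.LocP @LocallyOfFinitePresentation) a.hom) (hab : AlgSp.RepBySp (a ≫ b).hom) :
    AlgSp.RepBySp b.hom := by
  rw [repBySp_hom_iff] at hab ⊢
  intro T ξ P fst snd sq
  have sq' := IsPullback.of_hasPullback a fst
  exact Groth.Agent.AlgSpBoot.isAlgSpace_of_fppf_cover (hab ξ _ _ (sq'.paste_vert sq.flip.flip |> fun h => h) ) (pullback.snd a fst)
    (Groth.Agent.AlgStB.repBySpWith_of_isPullback (sq'.map (sheafToPresheaf _ _)) ha)

end Groth.Agent.S10106
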