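import Groth.Statements.S10108
import Groth.Agent.AlgStB.EtaleSheafSmooth
import Groth.Agent.AlgSpc.EtLocInst

set_option autoImplicit false
universe u
open CategoryTheory CategoryTheory.Limits AlgebraicGeometry
open AlgSp

namespace Groth.Agent.S10108

/-- A presheaf of sets on schemes over `S` which is a sheaf for the etale topology, has diagonal
representable by schemes, and receives a representable surjective etale map from a scheme over `S`,
is an algebraic space (in particular an fppf sheaf): algebraic spaces defined with the etale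
topology are the same as with the fppf topology. -/
theorem result (S : Scheme.{u}) (F : AlgSp.PSp S)
    (h1 : Presheaf.IsSheaf (QuotSh.J Scheme.etalePrecoverage S) F)
    (h2 : (AlgSp.pyon S).relativelyRepresentable (Limits.diag F))
    (U : Over S) (p : (AlgSp.pyon S).obj U ⟶ F)
    (h3 : (MorphismProperty.inverseImage @Etale (Over.forget S)).relative (AlgSp.pyon S) p ∧
      (MorphismProperty.inverseImage @Surjective (Over.forget S)).relative (AlgSp.pyon S) p) :
    AlgSp.IsAlgSpaceP F := by
  refine Groth.Agent.AlgSpc.isAlgSpaceP_of_etale_sheaf h1 ((AlgSp.ofScheme S).obj U) p fun T ξ F' fst snd sq => ?_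
  obtain ⟨V, fst', snd', sq'⟩ : ∃ (V : Over S) (fst' : (AlgSp.pyon S).obj V ⟶ (AlgSp.pyon S).obj U) (snd' : V ⟶ T),
      IsPullback fst' ((AlgSp.pyon S).map snd') p ξ := ⟨_, _, _, h3.1.1.isPullback ξ⟩
  let e := sq'.isoIsPullback _ _ sq
  have hs : Presheaf.IsSheaf (AlgSp.J S) F' :=
    (Presheaf.isSheaf_of_iso_iff e).1 ((AlgSp.yon S).obj V).property
  let e' : (AlgSp.yon S).obj V ≅ (⟨F', hs⟩ : AlgSp.Sp S) :=
    (fullyFaithfulSheafToPresheaf (AlgSp.J S) _).preimageIso e
  have hA := (AlgSp.IsAlgSpace.yon_obj V).of_iso e'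
  have hsnd : (ObjectProperty.homMk snd : (⟨F', hs⟩ : AlgSp.Sp S) ⟶ (AlgSp.yon S).obj T) =
      e'.inv ≫ (AlgSp.yon S).map snd' := by
    apply ObjectProperty.hom_ext
    exact (IsPullback.isoIsPullback_inv_snd _ _ sq' sq).symm
  haveI : Smooth snd'.left := by
    haveI : Etale snd'.left := h3.1.2 _ _ _ sq'
    infer_instance
  refine ⟨hs, hA, ?_, ?_⟩
  · rw [hsnd]
    intro y
    obtain ⟨t, rfl⟩ := (AlgSp.Points.schemeEquiv T).surjective y
    haveI : Surjective snd'.left := h3.2.2 _ _ _ sq'
    obtain ⟨v, rfl⟩ := snd'.left.surjective t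
    refine ⟨AlgSp.Points.map e'.hom (AlgSp.Points.ofScheme V v), ?_⟩
    rw [← AlgSp.Points.map_comp, Iso.hom_inv_id_assoc]
    exact (AlgSp.Points.map_ofPt _ _ _).trans ((congrArg (fun g => AlgSp.Points.ofPt g v) (Category.comp_id _).symm).trans (Groth.Agent.AlgSpc.ofPt_comp snd' (𝟙 _) v))
  · rw [hsnd]
    haveI : MorphismProperty.RespectsIso (@Smooth : MorphismProperty Scheme.{u}) := MorphismProperty.IsStableUnderBaseChange.respectsIso
    haveI : MorphismProperty.ContainsIdentities (@Smooth : MorphismProperty Scheme.{u}) := ⟨fun X => (inferInstance : Smooth (𝟙 X))⟩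
    have hP : AlgSp.RepWith @Smooth (e'.inv ≫ (AlgSp.yon S).map snd') :=
      Groth.Agent.AlgSpc.repWith_comp (Groth.Agent.AlgSpc.repWith_iso e'.inv)
        ((AlgSp.repWith_yon_map_iff _ snd').2 ‹_›)
    exact Groth.Agent.AlgSpc.locP_of_repWith (fun a b ha hb => MorphismProperty.comp_mem @Smooth a b
      (haveI : Etale a := ha; inferInstance) hb) hP

end Groth.Agent.S10108
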