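import Groth.Statements.S10109
import Groth.Agent.AlgStB.EtaleSheafSmooth
import Groth.Agent.AlgSpc.EtLocInst

set_option autoImplicit false
universe u
open CategoryTheory CategoryTheory.Limits AlgebraicGeometry
open AlgSp

namespace Groth.Agent.S10109

/-- A presheaf of sets on schemes over `S` which is a sheaf for the etale topology and receives a map
from an algebraic space which is representable by algebraic spaces, surjective and etale, is an
algebraic space (in particular an fppf sheaf). -/
theorem result (S : Scheme.{u}) (F : AlgSp.PSp S)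
    (h1 : Presheaf.IsSheaf (QuotSh.J Scheme.etalePrecoverage S) F) (U : AlgSp.Space S) (p : U.obj.obj ⟶ F)
    (h2 : AlgSp.RepBySpWith (AlgSp.IsSurjectiveMor ⊓ AlgSp.IsEtaleMor) p) :
    AlgSp.IsAlgSpaceP F := by
  refine Groth.Agent.AlgSpc.isAlgSpaceP_of_etale_sheaf h1 U p fun T ξ F' fst snd sq => ?_
  obtain ⟨h, hA, hs, he⟩ := h2 ξ fst snd sq
  exact ⟨h, hA, hs, Groth.Agent.AlgSpc.locP_mono (P := @Etale) (Q := @Smooth) (fun _ _ g hg => (haveI : Etale g := hg; inferInstance))
    ((Groth.Agent.AlgSpc.isEtaleMor_iff_locP hA (AlgSp.IsAlgSpace.yon_obj T)).1 he)⟩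

end Groth.Agent.S10109
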