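import Groth.Statements.S10113
import Groth.Agent.AlgSpc.CoverTest2
import Groth.Agent.AlgSpc.LocSurj

set_option autoImplicit false
universe u
open CategoryTheory CategoryTheory.Limits AlgebraicGeometry
open AlgSp

namespace Groth.Agent.S10113

/-- Let `s, t : R ⟶ U` be a pre-relation of algebraic spaces, `M` an algebraic space and `U ⟶ M` a
morphism which coequalizes `s, t`, is a surjection of sheaves, and for which `(t, s) : R ⟶ U ×_M U`
is a surjection of sheaves. Then the induced map `U/R ⟶ M` is an isomorphism: `M` represents the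
quotient sheaf. -/
theorem result (S : Scheme.{u}) (R U M : AlgSp.Sp S)
    (hR : AlgSp.IsAlgSpace R) (hU : AlgSp.IsAlgSpace U) (hM : AlgSp.IsAlgSpace M) (s t : R ⟶ U)
    (q : U ⟶ M) (w : s ≫ q = t ≫ q) [Epi q] [Epi (pullback.lift t s w.symm : R ⟶ pullback q q)] :
    IsIso (AlgSp.quotSpDesc q w) := by
  haveI : Sheaf.IsLocallySurjective (AlgSp.quotSpπ s t) :=
    (Sheaf.isLocallySurjective_iff_epi' _ _).2 (inferInstanceAs (Epi (coequalizer.π s t)))
  haveI : Sheaf.IsLocallySurjective (pullback.lift t s w.symm : R ⟶ pullback q q) :=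
    (Sheaf.isLocallySurjective_iff_epi' _ _).2 inferInstance
  have hepi : ∀ {A B : Over S} (c : A ⟶ B), Flat c.left → LocallyOfFinitePresentation c.left → Surjective c.left →
      Epi ((AlgSp.yon S).map c) := fun c h1 h2 h3 => by
    haveI : Sheaf.IsLocallySurjective ((AlgSp.yon S).map c) := AlgSpc.isLocallySurjective_of_repWith
      ((AlgSp.repWith_yon_map_iff @Flat c).2 h1)
      ((AlgSp.repWith_yon_map_iff @LocallyOfFinitePresentation c).2 h2)
      ((AlgSp.repWith_yon_map_iff @Surjective c).2 h3)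
    exact (Sheaf.isLocallySurjective_iff_epi' _ _).1 inferInstance
  haveI : Epi (AlgSp.quotSpDesc q w) := epi_of_epi_fac (AlgSp.quotSpπ_desc s t q w)
  haveI : Mono (AlgSp.quotSpDesc q w) := AlgSpc.mono_of_cancel fun T a b h => by
    obtain ⟨T₁, c₁, u, i₁, i₂, i₃, hu⟩ := AlgSpc.exists_fppf_lift' (AlgSp.quotSpπ s t) a
    obtain ⟨T₂, c₂, v, k₁, k₂, k₃, hv⟩ := AlgSpc.exists_fppf_lift' (AlgSp.quotSpπ s t) ((AlgSp.yon S).map c₁ ≫ b)
    have hab : ((AlgSp.yon S).map c₂ ≫ u) ≫ q = v ≫ q := by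
      rw [← AlgSp.quotSpπ_desc s t q w, Category.assoc, ← reassoc_of% hu, ← reassoc_of% hv, h]
    obtain ⟨T₃, c₃, r, l₁, l₂, l₃, hr⟩ :=
      AlgSpc.exists_fppf_lift' (pullback.lift t s w.symm : R ⟶ pullback q q) (pullback.lift _ _ hab)
    haveI := hepi c₁ i₁ i₂ i₃
    haveI := hepi c₂ k₁ k₂ k₃
    haveI := hepi c₃ l₁ l₂ l₃
    have hr₁ : (AlgSp.yon S).map c₃ ≫ (AlgSp.yon S).map c₂ ≫ u = r ≫ t := by
      simpa [pullback.lift_fst] using congr($hr ≫ pullback.fst q q)
    have hr₂ : (AlgSp.yon S).map c₃ ≫ v = r ≫ s := by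
      simpa [pullback.lift_snd] using congr($hr ≫ pullback.snd q q)
    rw [← cancel_epi ((AlgSp.yon S).map c₁), ← cancel_epi ((AlgSp.yon S).map c₂),
      ← cancel_epi ((AlgSp.yon S).map c₃), hu, hv, ← Category.assoc ((AlgSp.yon S).map c₂),
      ← Category.assoc ((AlgSp.yon S).map c₃), ← Category.assoc ((AlgSp.yon S).map c₃) v, hr₁, hr₂,
      Category.assoc, Category.assoc, AlgSp.quotSp_condition]
  exact isIso_of_mono_of_epi _

end Groth.Agent.S10113
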