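import Groth.Statements.S10114
import Groth.Agent.AlgSpBoot.PreRestrict

set_option autoImplicit false
set_option backward.isDefEq.respectTransparency false
universe u
open CategoryTheory CategoryTheory.Limits AlgebraicGeometry
open AlgSp

namespace Groth.Agent.S10114

/-- Let `s, t : R ⟶ U` be a pre-equivalence relation of algebraic spaces, `g : U' ⟶ U` a morphism of
algebraic spaces and `s', t' : R' ⟶ U'` the restriction of the pre-relation along `g` (so `R' = (U'
× U') ×_{U × U} R`). Then the induced map of quotient sheaves `U'/R' ⟶ U/R` is injective, and it is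
an isomorphism when `g` is a surjection of sheaves. -/
theorem result (S : Scheme.{u}) (R U R' U' : AlgSp.Sp S)
    (hR : AlgSp.IsAlgSpace R) (hU : AlgSp.IsAlgSpace U) (hR' : AlgSp.IsAlgSpace R') (hU' : AlgSp.IsAlgSpace U')
    (s t : R ⟶ U) (hpre : AlgSp.IsPreEqvRelSp s t) (g : U' ⟶ U) (s' t' : R' ⟶ U') (r : R' ⟶ R)
    (hsq : IsPullback (prod.lift t' s') r (prod.map g g) (prod.lift t s))
    (ψ : AlgSp.quotSp s' t' ⟶ AlgSp.quotSp s t) (hψ : AlgSp.quotSpπ s' t' ≫ ψ = g ≫ AlgSp.quotSpπ s t) :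
    Mono ψ ∧ (Epi g → IsIso ψ) := by
    refine ⟨Groth.Agent.AlgSpBoot.mono_quot_restrict hpre g (fun ρ p q e₁ e₂ => ?_) ψ hψ, fun hg => ?_⟩
    · have w : prod.lift p q ≫ prod.map g g = ρ ≫ prod.lift t s := by
        apply Limits.prod.hom_ext <;> simp [e₁, e₂]
      exact ⟨hsq.lift _ _ w, by simpa using congrArg (· ≫ prod.fst) (hsq.lift_fst _ _ w),
        by simpa using congrArg (· ≫ prod.snd) (hsq.lift_fst _ _ w)⟩
    · haveI : Mono ψ := Groth.Agent.AlgSpBoot.mono_quot_restrict hpre g (fun ρ p q e₁ e₂ => by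
        have w : prod.lift p q ≫ prod.map g g = ρ ≫ prod.lift t s := by
          apply Limits.prod.hom_ext <;> simp [e₁, e₂]
        exact ⟨hsq.lift _ _ w, by simpa using congrArg (· ≫ prod.fst) (hsq.lift_fst _ _ w),
          by simpa using congrArg (· ≫ prod.snd) (hsq.lift_fst _ _ w)⟩) ψ hψ
      haveI : Epi (AlgSp.quotSpπ s t) := inferInstanceAs (Epi (coequalizer.π s t))
      haveI : Epi ψ := epi_of_epi_fac hψ
      exact isIso_of_mono_of_epi ψ

end Groth.Agent.S10114
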