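import Groth.Statements.S10115
import Groth.Agent.AlgSpBoot.PreRestrict

set_option autoImplicit false
set_option backward.isDefEq.respectTransparency false
universe u
open CategoryTheory CategoryTheory.Limits AlgebraicGeometry
open AlgSp AlgSp.GroupoidSp

namespace Groth.Agent.S10115

/-- For a groupoid `(U, R, s, t, c)` in algebraic spaces over `B`, let `(U', R', s', t', c')` be its
restriction along a morphism `g : U' ⟶ U` over `B`. Then `U'/R' ⟶ U/R` is injective; if the
composite `h : U' ×_{g, U, t} R ⟶ R ⟶ U` of the projection with `s` is a surjection of fppf sheaves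
(for instance if `g` is), then it is bijective. -/
theorem result (S : Scheme.{u}) (B : AlgSp.Sp S) (hB : AlgSp.IsAlgSpace B)
    (G G' : AlgSp.GroupoidSp B) (hU : AlgSp.IsAlgSpace G.U) (hR : AlgSp.IsAlgSpace G.R)
    (hU' : AlgSp.IsAlgSpace G'.U) (hR' : AlgSp.IsAlgSpace G'.R) (φ : AlgSp.GroupoidSp.Hom G' G)
    (hφ : φ.IsRestriction) (ψ : G'.quot ⟶ G.quot) (hψ : G'.quotπ ≫ ψ = φ.fU ≫ G.quotπ) :
    Mono ψ ∧ (Epi (pullback.snd φ.fU G.t ≫ G.s) → IsIso ψ) := by
    have hpre : AlgSp.IsPreEqvRelSp G.s G.t := fun T =>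
      ⟨fun x => ⟨x ≫ G.e, by rw [Category.assoc, G.e_t, Category.comp_id], by rw [Category.assoc, G.e_s, Category.comp_id]⟩,
        by
          rintro x y ⟨r, rfl, rfl⟩
          exact ⟨r ≫ G.i, by rw [Category.assoc, G.i_t], by rw [Category.assoc, G.i_s]⟩,
        by
          rintro x y z ⟨r, rfl, rfl⟩ ⟨r', h₁, rfl⟩
          exact ⟨pullback.lift r r' h₁.symm ≫ G.c, G.comp_t _ _ _, G.comp_s _ _ _⟩⟩
    have hmono : Mono ψ := Groth.Agent.AlgSpBoot.mono_quot_restrict hpre φ.fU (fun ρ p q e₁ e₂ => by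
        have e : p ≫ G'.pU = q ≫ G'.pU := by
          rw [← φ.fU_over, ← Category.assoc, ← e₁, ← Category.assoc, ← e₂, Category.assoc, Category.assoc,
            G.t_over, G.s_over]
        have e' : ρ ≫ G.j = pullback.lift p q e ≫ φ.prodMap := by
          apply pullback.hom_ext
          · simpa [AlgSp.GroupoidSp.Hom.prodMap, pullback.map] using e₁
          · simpa [AlgSp.GroupoidSp.Hom.prodMap, pullback.map] using e₂
        exact ⟨hφ.lift ρ _ e', by rw [← G'.j_fst, hφ.lift_snd_assoc, pullback.lift_fst],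
          by rw [← G'.j_snd, hφ.lift_snd_assoc, pullback.lift_snd]⟩) ψ hψ
    refine ⟨hmono, fun hg => ?_⟩
    haveI : Epi G.quotπ := inferInstanceAs (Epi (coequalizer.π G.s G.t))
    have hfac : (pullback.fst φ.fU G.t ≫ G'.quotπ) ≫ ψ = (pullback.snd φ.fU G.t ≫ G.s) ≫ G.quotπ := by
      rw [Category.assoc, hψ, pullback.condition_assoc, Category.assoc]
      exact congrArg (pullback.snd φ.fU G.t ≫ ·) (AlgSp.quotSp_condition G.s G.t).symm
    haveI : Epi ψ := epi_of_epi_fac hfac
    exact isIso_of_mono_of_epi ψ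

end Groth.Agent.S10115
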