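import Groth.Statements.S10116
import Groth.Agent.AlgSpDesc.DiagCancel
import Groth.Agent.AlgSpc.Compact
import Groth.Agent.AlgSpc.SepProper
import Groth.Agent.AlgSpLimit.ClosedApps

set_option backward.isDefEq.respectTransparency false
open scoped MonObj

set_option autoImplicit false
universe u
open CategoryTheory CategoryTheory.Limits AlgebraicGeometry MonoidalCategory MonObj
open AlgSp

namespace Groth.Agent.S10116

/-- Let `G` be a group algebraic space over an algebraic space `B` with unit `e : B ⟶ G`. Then `G ⟶ B`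
is separated if and only if `e` is a closed immersion, quasi-separated if and only if `e` is
quasi-compact, and if `G ⟶ B` is locally separated then `e` is an immersion. (The published
statement makes the last part an equivalence as well; this row states only that a locally separated
`G ⟶ B` has `e` an immersion.) -/
theorem result (S : Scheme.{u}) (B : AlgSp.Sp S) (hB : AlgSp.IsAlgSpace B)
    (G : Over B) [GrpObj G] (hG : AlgSp.IsAlgSpace G.left) :
    (AlgSp.IsSeparatedMor G.hom ↔ AlgSp.RepWith @IsClosedImmersion (η[G]).left) ∧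
      (AlgSp.IsQuasiSeparatedMor G.hom ↔ AlgSp.IsQuasiCompactMor (η[G]).left) ∧
      (AlgSp.IsLocallySeparatedMor G.hom → AlgSp.RepWith @IsImmersion (η[G]).left) := by
  let e := (η[G]).left
  have he : e ≫ G.hom = 𝟙 B := Over.w η[G]
  let p₁ : Over.mk (pullback.fst G.hom G.hom ≫ G.hom) ⟶ G := Over.homMk (pullback.fst G.hom G.hom) rfl
  let p₂ : Over.mk (pullback.fst G.hom G.hom ≫ G.hom) ⟶ G :=
    Over.homMk (pullback.snd G.hom G.hom) pullback.condition.symm
  let d := p₁ * p₂⁻¹
  have hd : d.left ≫ G.hom = pullback.fst G.hom G.hom ≫ G.hom := Over.w d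
  have one_left : ∀ (T : Over B), ((1 : T ⟶ G)).left = T.hom ≫ e := fun T => rfl
  have sq : IsPullback G.hom (pullback.diagonal G.hom) e d.left := by
    let Δ : G ⟶ Over.mk (pullback.fst G.hom G.hom ≫ G.hom) := Over.homMk (pullback.diagonal G.hom) (by simp)
    have w : G.hom ≫ e = pullback.diagonal G.hom ≫ d.left := by
      have h1 : Δ ≫ d = 1 := by
        show Δ ≫ (p₁ * p₂⁻¹) = 1
        rw [MonObj.comp_mul, GrpObj.comp_inv]
        rw [show Δ ≫ p₂ = Δ ≫ p₁ by ext; simp [Δ, p₁, p₂]]
        exact mul_inv_cancel _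
      exact ((congrArg CommaMorphism.left h1).trans (one_left G)).symm
    refine ⟨⟨w⟩, ⟨PullbackCone.IsLimit.mk w (fun s => s.snd ≫ pullback.fst _ _) (fun s => ?_) (fun s => ?_)
      (fun s n _ h₂ => by rw [← h₂, Category.assoc, pullback.diagonal_fst, Category.comp_id])⟩⟩
    · have := congrArg (· ≫ G.hom) s.condition
      simp only [Category.assoc, he, Category.comp_id, hd] at this
      rw [Category.assoc, this]
    · have hu := congrArg (· ≫ G.hom) s.condition
      simp only [Category.assoc, he, Category.comp_id, hd] at hu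
      let v : Over.mk s.fst ⟶ Over.mk (pullback.fst G.hom G.hom ≫ G.hom) := Over.homMk s.snd hu.symm
      have hv : v ≫ p₁ = v ≫ p₂ := by
        apply eq_of_mul_inv_eq_one
        rw [← GrpObj.comp_inv, ← MonObj.comp_mul]
        exact Over.OverMorphism.ext (s.condition.symm.trans (one_left (Over.mk s.fst)).symm)
      apply pullback.hom_ext
      · rw [Category.assoc, Category.assoc, pullback.diagonal_fst, Category.comp_id]
      · rw [Category.assoc, Category.assoc, pullback.diagonal_snd, Category.comp_id]
        exact congrArg CommaMorphism.left hv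
  have hΔ : Representable (pullback.diagonal G.hom) := by
    let m : pullback G.hom G.hom ⟶ G.left ⨯ G.left := prod.lift (pullback.fst _ _) (pullback.snd _ _)
    haveI : Mono m := ⟨fun a b hab => pullback.hom_ext
      (by simpa [m] using congrArg (· ≫ (Limits.prod.fst : G.left ⨯ G.left ⟶ G.left)) hab)
      (by simpa [m] using congrArg (· ≫ (Limits.prod.snd : G.left ⨯ G.left ⟶ G.left)) hab)⟩
    have hw : 𝟙 G.left ≫ Limits.diag G.left = pullback.diagonal G.hom ≫ m := by
      apply Limits.prod.hom_ext <;> simp [m]
    have sqΔ : IsPullback (𝟙 G.left) (pullback.diagonal G.hom) (Limits.diag G.left) m :=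
      ⟨⟨hw⟩, ⟨PullbackCone.IsLimit.mk hw (fun t => t.fst) (fun t => Category.comp_id _) (fun t => by
        rw [← cancel_mono m, Category.assoc, ← hw, Category.id_comp]; exact t.condition)
        (fun t n h₁ _ => by rw [← h₁, Category.comp_id])⟩⟩
    exact (Groth.Agent.AlgSpc.repWith_of_isPullback (P := ⊤) sqΔ ⟨hG.diag, fun _ _ _ _ _ _ => trivial⟩).1
  refine ⟨⟨fun h => Groth.Agent.AlgSpDesc.repWith_section he h, fun h => ?_⟩, ⟨fun h => ?_, fun h => ?_⟩,
    fun h => Groth.Agent.AlgSpDesc.repWith_section he h⟩
  · exact Groth.Agent.AlgSpc.repWith_of_isPullback sq h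
  · exact Groth.Agent.AlgSpc.isQuasiCompactMor_of_repWith (Groth.Agent.AlgSpDesc.repWith_section he h)
  · exact (Groth.Agent.AlgSpc.repWith_quasiCompact_iff hΔ).2
      (Groth.Agent.AlgSpc.isQuasiCompactMor_base_change sq h)

end Groth.Agent.S10116
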