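import Groth.Statements.S10117
import Groth.Agent.AlgSpBoot.FreeAct

set_option autoImplicit false
universe u
open CategoryTheory CategoryTheory.Limits AlgebraicGeometry MonoidalCategory MonObj
open AlgSp AlgSp.GAction

namespace Groth.Agent.S10117

/-- If a group algebraic space `G` over `B` acts freely on an algebraic space `X` over `B`, then `G ×_B
X ⟶ X ×_B X`, `(g, x) ↦ (g x, x)`, is a monomorphism. (The published statement is an equivalence;
this row states only the direction from free to monomorphism.) -/
theorem result (S : Scheme.{u}) (B : AlgSp.Sp S) (hB : AlgSp.IsAlgSpace B)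
    (G X : Over B) [GrpObj G] (hG : AlgSp.IsAlgSpace G.left) (hX : AlgSp.IsAlgSpace X.left)
    (a : AlgSp.GAction G X) (ha : a.IsFree) :
    Mono (CartesianMonoidalCategory.lift a.act (CartesianMonoidalCategory.snd G X)).left := by
  have h := AlgSpBoot.isEqvRelSp_action a ha
  refine ⟨fun {W} u v w => ?_⟩
  refine AlgSpc.hom_ext fun T z => h.injective T _ _ ?_ ?_
  · simpa [pullback.lift_fst] using congr(z ≫ $w ≫ (CartesianMonoidalCategory.fst X X).left)
  · simpa [pullback.lift_snd] using congr(z ≫ $w ≫ (CartesianMonoidalCategory.snd X X).left)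

end Groth.Agent.S10117
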