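import Groth.Statements.S10118
import Groth.Agent.AlgSpBoot.TorsorDesc

set_option autoImplicit false
universe u
open CategoryTheory CategoryTheory.Limits AlgebraicGeometry MonoidalCategory MonObj
open AlgSp AlgSp.GAction

namespace Groth.Agent.S10118

/-- Let `X` be a pseudo-torsor under a group algebraic space `G` over an algebraic space `B`, where both
`G` and `X` are locally of finite type over `B`. Whenever `G ⟶ B` is unramified, `X ⟶ B` is
unramified too; likewise, local quasi-finiteness passes from `G ⟶ B` to `X ⟶ B`. -/
theorem result (S : Scheme.{u}) (B : AlgSp.Sp S) (hB : AlgSp.IsAlgSpace B)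
    (G X : Over B) [GrpObj G] (hG : AlgSp.IsAlgSpace G.left) (hX : AlgSp.IsAlgSpace X.left)
    (a : AlgSp.GAction G X) (ha : a.IsPseudoTorsor)
    (hGt : AlgSp.LocP @LocallyOfFiniteType G.hom) (hXt : AlgSp.LocP @LocallyOfFiniteType X.hom) :
    (AlgSp.LocP (@LocallyOfFiniteType ⊓ @FormallyUnramified) G.hom →
        AlgSp.LocP (@LocallyOfFiniteType ⊓ @FormallyUnramified) X.hom) ∧
      (AlgSp.LocP (@LocallyQuasiFinite ⊓ @LocallyOfFiniteType) G.hom →
        AlgSp.LocP (@LocallyQuasiFinite ⊓ @LocallyOfFiniteType) X.hom) := by
  open Groth.Agent.AlgSpc Groth.Agent.AlgSpBoot in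
    haveI : (@LocallyOfFiniteType ⊓ @FormallyUnramified : MorphismProperty Scheme.{u}).IsStableUnderBaseChange :=
      MorphismProperty.IsStableUnderBaseChange.inf
    haveI : (@LocallyQuasiFinite ⊓ @LocallyOfFiniteType : MorphismProperty Scheme.{u}).IsStableUnderBaseChange :=
      MorphismProperty.IsStableUnderBaseChange.inf
    refine ⟨fun h => ?_, fun h => ?_⟩
    · refine locP_of_self_baseChange (P := @LocallyOfFiniteType ⊓ @FormallyUnramified) (fun e f he hf => ?_)
        (fun f hf hh => ⟨hf, ?_⟩) hX hB hXt (locP_snd_of_torsor a hB hG hX ha h)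
      · haveI : Etale e := he
        haveI : LocallyOfFiniteType f := hf.1
        exact ⟨inferInstance, MorphismProperty.comp_mem @FormallyUnramified e f inferInstance hf.2⟩
      · haveI := hf
        haveI : FormallyUnramified (pullback.snd f f) := hh.2
        exact formallyUnramified_of_self_baseChange f
    · refine locP_of_self_baseChange (P := @LocallyQuasiFinite ⊓ @LocallyOfFiniteType) (fun e f he hf => ?_)
        (fun f hf hh => ⟨?_, hf⟩) hX hB hXt (locP_snd_of_torsor a hB hG hX ha h)
      · haveI : Etale e := he
        haveI : LocallyOfFiniteType f := hf.2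
        haveI : FormallyUnramified e := inferInstance
        exact ⟨MorphismProperty.comp_mem @LocallyQuasiFinite e f (Groth.Agent.AlgSpc.lqf_of_etale e) hf.1, inferInstance⟩
      · haveI := hf
        haveI : LocallyQuasiFinite (pullback.snd f f) := hh.1
        exact lqf_of_self_baseChange f

end Groth.Agent.S10118
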