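import Groth.Statements.S10121
import Groth.Agent.AlgSpc.Basic

set_option autoImplicit false
universe u
open CategoryTheory CategoryTheory.Limits AlgebraicGeometry
open AlgSp

namespace Groth.Agent.S10121

/-- For a pre-equivalence relation `s, t : R ⟶ U` of algebraic spaces, the relation on points of `U`
given by `x ∼ y` when some point `r` of `R` has `t(r) = x` and `s(r) = y` is an equivalence relation
on `|U|`. -/
theorem result (S : Scheme.{u}) (R U : AlgSp.Sp S)
    (hR : AlgSp.IsAlgSpace R) (hU : AlgSp.IsAlgSpace U) (s t : R ⟶ U) (h : AlgSp.IsPreEqvRelSp s t) :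
    _root_.Equivalence (fun x y : AlgSp.Points U =>
      ∃ r : AlgSp.Points R, AlgSp.Points.map t r = x ∧ AlgSp.Points.map s r = y) := by
  have hrep : ∀ {F : AlgSp.Sp S} (x : AlgSp.Points F), ∃ (T : Over S) (g : (AlgSp.yon S).obj T ⟶ F) (z : AlgSp.Points ((AlgSp.yon S).obj T)),
      AlgSp.Points.map g z = x := fun x => by
    induction x using AlgSp.Points.ind with
    | h p => exact ⟨p.pt, p.toHom, AlgSp.Points.ofScheme _ (IsLocalRing.closedPoint _), by
        exact (AlgSp.Points.ofPt_eq_map_ofScheme _ _).symm.trans (AlgSp.Points.ofPt_toHom p _)⟩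
  refine ⟨fun x => ?_, fun {x y} hxy => ?_, fun {x y z} hxy hyz => ?_⟩
  · obtain ⟨T, g, w, rfl⟩ := hrep x
    obtain ⟨r, h₁, h₂⟩ := (h T).refl g
    exact ⟨AlgSp.Points.map r w, by rw [← AlgSp.Points.map_comp, h₁], by rw [← AlgSp.Points.map_comp, h₂]⟩
  · obtain ⟨q, rfl, rfl⟩ := hxy
    obtain ⟨T, g, w, rfl⟩ := hrep q
    obtain ⟨r, h₁, h₂⟩ := (h T).symm ⟨g, rfl, rfl⟩
    exact ⟨AlgSp.Points.map r w, by rw [← AlgSp.Points.map_comp, h₁, AlgSp.Points.map_comp],
      by rw [← AlgSp.Points.map_comp, h₂, AlgSp.Points.map_comp]⟩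
  · obtain ⟨q₁, rfl, rfl⟩ := hxy
    obtain ⟨q₂, e, rfl⟩ := hyz
    obtain ⟨q, hq₁, hq₂⟩ := AlgSpc.exists_point_of_isPullback (IsPullback.of_hasPullback s t) q₁ q₂ e.symm
    obtain ⟨T, g, w, rfl⟩ := hrep q
    obtain ⟨r, h₁, h₂⟩ := (h T).trans (x := g ≫ pullback.fst s t ≫ t) (y := g ≫ pullback.fst s t ≫ s)
      (z := g ≫ pullback.snd s t ≫ s) ⟨g ≫ pullback.fst s t, Category.assoc _ _ _, Category.assoc _ _ _⟩
      ⟨g ≫ pullback.snd s t, by rw [Category.assoc, pullback.condition], Category.assoc _ _ _⟩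
    refine ⟨AlgSp.Points.map r w, ?_, ?_⟩
    · rw [← AlgSp.Points.map_comp, h₁, AlgSp.Points.map_comp, AlgSp.Points.map_comp, hq₁]
    · rw [← AlgSp.Points.map_comp, h₂, AlgSp.Points.map_comp, AlgSp.Points.map_comp, hq₂]

end Groth.Agent.S10121
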