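import Groth.Statements.S10122
import Groth.Agent.AlgSpc.Basic
import Groth.Agent.AlgSpc.Compact
import Groth.Agent.AlgSpLoc.Diag
import Groth.Agent.AlgSpBoot.StabDiag

set_option autoImplicit false
set_option backward.isDefEq.respectTransparency false
universe u
open CategoryTheory CategoryTheory.Limits AlgebraicGeometry
open AlgSp AlgSp.GroupoidSp

namespace Groth.Agent.S10122

/-- Let `(U, R, s, t, c)` be a groupoid in algebraic spaces over `B` with stabilizer `G ⟶ U` and unit
section `e : U ⟶ G`. Then (1) `j : R ⟶ U ×_B U` is separated iff `G ⟶ U` is separated iff `e` is a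
closed immersion; (3) `j` is quasi-separated iff `G ⟶ U` is quasi-separated iff `e` is
quasi-compact; (2) if `j` or `G ⟶ U` is locally separated then `e` is an immersion. The unit section
is written as any morphism `U ⟶ G` lifting the identity `e : U ⟶ R` of the groupoid. (The published
part (2) is a three-way equivalence; this row states only that `j` locally separated, or `G ⟶ U`
locally separated, implies that `e` is an immersion.) -/
theorem result (S : Scheme.{u}) (B : AlgSp.Sp S) (hB : AlgSp.IsAlgSpace B)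
    (G : AlgSp.GroupoidSp B) (hU : AlgSp.IsAlgSpace G.U) (hR : AlgSp.IsAlgSpace G.R)
    (eG : G.U ⟶ G.stabilizer) (heG : eG ≫ G.stabilizerι = G.e) :
    ((AlgSp.IsSeparatedMor G.j ↔ AlgSp.IsSeparatedMor G.stabilizerToU) ∧
        (AlgSp.IsSeparatedMor G.j ↔ AlgSp.RepWith @IsClosedImmersion eG)) ∧
      ((AlgSp.IsQuasiSeparatedMor G.j ↔ AlgSp.IsQuasiSeparatedMor G.stabilizerToU) ∧
        (AlgSp.IsQuasiSeparatedMor G.j ↔ AlgSp.IsQuasiCompactMor eG)) ∧
      ((AlgSp.IsLocallySeparatedMor G.j → AlgSp.RepWith @IsImmersion eG) ∧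
        (AlgSp.IsLocallySeparatedMor G.stabilizerToU → AlgSp.RepWith @IsImmersion eG)) := by
    have heU : eG ≫ G.stabilizerToU = 𝟙 G.U := Groth.Agent.AlgSpBoot.eG_toU G eG heG
    have sq₁ := Groth.Agent.AlgSpBoot.isPullback_section_diagonal G.stabilizerToU eG heU
    obtain ⟨d, sq⟩ := Groth.Agent.AlgSpBoot.exists_isPullback_diagonal_j G eG heG
    have main : ∀ (P : MorphismProperty Scheme.{u}),
        (AlgSp.RepWith P (pullback.diagonal G.j) ↔ AlgSp.RepWith P (pullback.diagonal G.stabilizerToU)) ∧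
        (AlgSp.RepWith P (pullback.diagonal G.j) ↔ AlgSp.RepWith P eG) := fun P => by
      have f₁ : AlgSp.RepWith P (pullback.diagonal G.stabilizerToU) → AlgSp.RepWith P eG :=
        Groth.Agent.AlgSpc.repWith_of_isPullback sq₁
      have f₂ : AlgSp.RepWith P eG → AlgSp.RepWith P (pullback.diagonal G.j) := Groth.Agent.AlgSpc.repWith_of_isPullback sq
      have f₃ : AlgSp.RepWith P (pullback.diagonal G.j) → AlgSp.RepWith P (pullback.diagonal G.stabilizerToU) := fun h =>
        MorphismProperty.of_isPullback (P := (AlgSp.RepWith P : MorphismProperty (AlgSp.Sp S)).diagonal)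
          (IsPullback.of_hasPullback G.j G.diag) h
      exact ⟨⟨f₃, f₂ ∘ f₁⟩, ⟨f₁ ∘ f₃, f₂⟩⟩
    have hrep : AlgSp.Representable eG :=
      ((main ⊤).2.1 ⟨Groth.Agent.AlgSpLoc.representable_diagonal_mor hR G.j, fun _ _ _ _ _ _ => trivial⟩).1
    exact ⟨main @IsClosedImmersion, ⟨(main @QuasiCompact).1,
        (main @QuasiCompact).2.trans (Groth.Agent.AlgSpc.repWith_quasiCompact_iff hrep)⟩,
      (main @IsImmersion).2.1, (main @IsImmersion).2.1 ∘ (main @IsImmersion).1.2⟩

end Groth.Agent.S10122
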