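import Groth.Statements.S10123
import Groth.Agent.AlgSpc.LocP
import Groth.Agent.AlgSpc.Basic
import Groth.Agent.AlgSpc.DecentMor

set_option autoImplicit false
set_option backward.isDefEq.respectTransparency false
universe u
open CategoryTheory CategoryTheory.Limits AlgebraicGeometry
open AlgSp AlgSp.GroupoidSp

namespace Groth.Agent.S10123

/-- Let `(U', R', s', t', c')` be the restriction of a groupoid in algebraic spaces `(U, R, s, t, c)`
over `B` along `g : U' ⟶ U`. If `s, t, g` are locally of finite type (resp. locally of finite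
presentation, resp. flat) then so are `s', t'`. -/
theorem result (S : Scheme.{u}) (B : AlgSp.Sp S) (hB : AlgSp.IsAlgSpace B)
    (G G' : AlgSp.GroupoidSp B) (hU : AlgSp.IsAlgSpace G.U) (hR : AlgSp.IsAlgSpace G.R)
    (hU' : AlgSp.IsAlgSpace G'.U) (hR' : AlgSp.IsAlgSpace G'.R) (φ : AlgSp.GroupoidSp.Hom G' G)
    (hφ : φ.IsRestriction) :
    (AlgSp.LocP @LocallyOfFiniteType G.s → AlgSp.LocP @LocallyOfFiniteType G.t →
        AlgSp.LocP @LocallyOfFiniteType φ.fU →
        AlgSp.LocP @LocallyOfFiniteType G'.s ∧ AlgSp.LocP @LocallyOfFiniteType G'.t) ∧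
      (AlgSp.LocP @LocallyOfFinitePresentation G.s → AlgSp.LocP @LocallyOfFinitePresentation G.t →
        AlgSp.LocP @LocallyOfFinitePresentation φ.fU →
        AlgSp.LocP @LocallyOfFinitePresentation G'.s ∧ AlgSp.LocP @LocallyOfFinitePresentation G'.t) ∧
      (AlgSp.LocP @Flat G.s → AlgSp.LocP @Flat G.t → AlgSp.LocP @Flat φ.fU →
        AlgSp.LocP @Flat G'.s ∧ AlgSp.LocP @Flat G'.t) := by
    have key : ∀ (P : MorphismProperty Scheme.{u}) [Groth.Agent.AlgSpc.EtLoc P] [P.IsStableUnderBaseChange]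
        [P.IsStableUnderComposition] (a b : G.R ⟶ G.U) (a' b' : G'.R ⟶ G'.U),
        φ.fR ≫ a = a' ≫ φ.fU → φ.fR ≫ b = b' ≫ φ.fU →
        (∀ {T : AlgSp.Sp S} (x y : T ⟶ G'.R), x ≫ φ.fR = y ≫ φ.fR → x ≫ a' = y ≫ a' → x ≫ b' = y ≫ b' → x = y) →
        (∀ {T : AlgSp.Sp S} (r : T ⟶ G.R) (p q : T ⟶ G'.U), r ≫ a = p ≫ φ.fU → r ≫ b = q ≫ φ.fU →
          ∃ x : T ⟶ G'.R, x ≫ φ.fR = r ∧ x ≫ a' = p ∧ x ≫ b' = q) →
        AlgSp.LocP P b → AlgSp.LocP P φ.fU → AlgSp.LocP P b' := by
      intro P _ _ _ a b a' b' wa wb hext hex hb hf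
      let sq₁ := IsPullback.of_hasPullback φ.fU a
      have hP₁ := Groth.Agent.AlgSpc.isAlgSpace_of_isPullback hU' hU hR sq₁
      have h₁ : AlgSp.LocP P (pullback.snd φ.fU a ≫ b) :=
        Groth.Agent.AlgSpc.locP_comp hP₁ hR hU (Groth.Agent.AlgSpc.locP_base_change hU' hU hR sq₁ hf) hb
      let l : G'.R ⟶ pullback φ.fU a := pullback.lift a' φ.fR wa.symm
      have w : l ≫ pullback.snd φ.fU a ≫ b = b' ≫ φ.fU := by rw [pullback.lift_snd_assoc, wb]
      refine Groth.Agent.AlgSpc.locP_base_change hP₁ hU hU' (IsPullback.of_isLimit' ⟨w⟩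
        (PullbackCone.IsLimit.mk w
          (fun c => (hex (c.fst ≫ pullback.snd φ.fU a) (c.fst ≫ pullback.fst φ.fU a) c.snd
            (by rw [Category.assoc, Category.assoc, pullback.condition])
            (by rw [Category.assoc, c.condition])).choose)
          (fun c => ?_) (fun c => ?_) (fun c m hm₁ hm₂ => ?_))) h₁
      · obtain ⟨e₁, e₂, -⟩ := (hex (c.fst ≫ pullback.snd φ.fU a) (c.fst ≫ pullback.fst φ.fU a) c.snd
            (by rw [Category.assoc, Category.assoc, pullback.condition])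
            (by rw [Category.assoc, c.condition])).choose_spec
        ext
        · rw [Category.assoc, pullback.lift_fst, e₂]
        · rw [Category.assoc, pullback.lift_snd, e₁]
      · exact (hex (c.fst ≫ pullback.snd φ.fU a) (c.fst ≫ pullback.fst φ.fU a) c.snd
            (by rw [Category.assoc, Category.assoc, pullback.condition])
            (by rw [Category.assoc, c.condition])).choose_spec.2.2
      · obtain ⟨e₁, e₂, e₃⟩ := (hex (c.fst ≫ pullback.snd φ.fU a) (c.fst ≫ pullback.fst φ.fU a) c.snd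
            (by rw [Category.assoc, Category.assoc, pullback.condition])
            (by rw [Category.assoc, c.condition])).choose_spec
        refine hext _ _ ?_ ?_ (hm₂.trans e₃.symm)
        · rw [e₁, ← hm₁, Category.assoc, pullback.lift_snd]
        · rw [e₂, ← hm₁, Category.assoc, pullback.lift_fst]
    have hext : ∀ {T : AlgSp.Sp S} (x y : T ⟶ G'.R), x ≫ φ.fR = y ≫ φ.fR → x ≫ G'.t = y ≫ G'.t →
        x ≫ G'.s = y ≫ G'.s → x = y := fun x y e₁ e₂ e₃ =>
      hφ.hom_ext e₁ (pullback.hom_ext (by simpa [Category.assoc] using e₂) (by simpa [Category.assoc] using e₃))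
    have hex : ∀ {T : AlgSp.Sp S} (r : T ⟶ G.R) (p q : T ⟶ G'.U), r ≫ G.t = p ≫ φ.fU → r ≫ G.s = q ≫ φ.fU →
        ∃ x : T ⟶ G'.R, x ≫ φ.fR = r ∧ x ≫ G'.t = p ∧ x ≫ G'.s = q := by
      intro T r p q e₁ e₂
      have e : p ≫ G'.pU = q ≫ G'.pU := by
        rw [← φ.fU_over, ← Category.assoc, ← e₁, ← Category.assoc, ← e₂, Category.assoc, Category.assoc,
          G.t_over, G.s_over]
      have e' : r ≫ G.j = pullback.lift p q e ≫ φ.prodMap := by
        apply pullback.hom_ext
        · simpa [AlgSp.GroupoidSp.Hom.prodMap, pullback.map] using e₁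
        · simpa [AlgSp.GroupoidSp.Hom.prodMap, pullback.map] using e₂
      refine ⟨hφ.lift r _ e', hφ.lift_fst _ _ _, ?_, ?_⟩
      · rw [← G'.j_fst, hφ.lift_snd_assoc, pullback.lift_fst]
      · rw [← G'.j_snd, hφ.lift_snd_assoc, pullback.lift_snd]
    have both : ∀ (P : MorphismProperty Scheme.{u}) [Groth.Agent.AlgSpc.EtLoc P] [P.IsStableUnderBaseChange]
        [P.IsStableUnderComposition], AlgSp.LocP P G.s → AlgSp.LocP P G.t → AlgSp.LocP P φ.fU →
        AlgSp.LocP P G'.s ∧ AlgSp.LocP P G'.t := fun P _ _ _ hs ht hf =>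
      ⟨key P G.t G.s G'.t G'.s φ.comm_t φ.comm_s hext hex hs hf,
        key P G.s G.t G'.s G'.t φ.comm_s φ.comm_t (fun x y e₁ e₂ e₃ => hext x y e₁ e₃ e₂)
          (fun r p q e₁ e₂ => by
            obtain ⟨x, h₁, h₂, h₃⟩ := hex r q p e₂ e₁
            exact ⟨x, h₁, h₃, h₂⟩) ht hf⟩
    exact ⟨both _, both _, both _⟩

end Groth.Agent.S10123
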