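import Groth.Statements.S10124
import Mathlib.CategoryTheory.Comma.Over.Basic

set_option autoImplicit false
set_option backward.isDefEq.respectTransparency false
universe u
open CategoryTheory CategoryTheory.Limits AlgebraicGeometry
open AlgSp AlgSp.GroupoidSp

namespace Groth.Agent.S10124

/-- Let `(U, R, s, t, c)` be a groupoid in algebraic spaces over `B`, `K` a field and `r, r' : Spec K ⟶
R` with `t ∘ r = t ∘ r'`; put `u = s ∘ r`, `u' = s ∘ r'`. Then the fibres `Spec K ×_{u, U, s} R` and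
`Spec K ×_{u', U, s} R` are isomorphic as spaces over `Spec K` (existence of an isomorphism over
`Spec K`). -/
theorem result (S : Scheme.{u}) (B : AlgSp.Sp S) (hB : AlgSp.IsAlgSpace B)
    (G : AlgSp.GroupoidSp B) (hU : AlgSp.IsAlgSpace G.U) (hR : AlgSp.IsAlgSpace G.R)
    (K : Type u) [Field K] (σ : Spec (CommRingCat.of K) ⟶ S)
    (r r' : (AlgSp.yon S).obj (Over.mk σ) ⟶ G.R) (h : r ≫ G.t = r' ≫ G.t) :
    Nonempty (Over.mk (pullback.fst (r ≫ G.s) G.s) ≅ Over.mk (pullback.fst (r' ≫ G.s) G.s)) := by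
    let mul : ∀ {T : AlgSp.Sp S} (α β : T ⟶ G.R), α ≫ G.s = β ≫ G.t → (T ⟶ G.R) :=
      fun α β h => pullback.lift α β h ≫ G.c
    have mul_congr : ∀ {T : AlgSp.Sp S} (α α' β β' : T ⟶ G.R) (h₁ : α ≫ G.s = β ≫ G.t) (h₂ : α' ≫ G.s = β' ≫ G.t),
        α = α' → β = β' → mul α β h₁ = mul α' β' h₂ := by
      rintro T α α' β β' h₁ h₂ rfl rfl; rfl
    have pre_mul : ∀ {T T' : AlgSp.Sp S} (x : T' ⟶ T) (α β : T ⟶ G.R) (h : α ≫ G.s = β ≫ G.t),
        x ≫ mul α β h = mul (x ≫ α) (x ≫ β) (by rw [Category.assoc, h, Category.assoc]) := fun x α β h => by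
      show x ≫ pullback.lift α β h ≫ G.c = pullback.lift _ _ _ ≫ G.c
      rw [← Category.assoc]
      congr 1
      apply pullback.hom_ext <;> simp [pullback.lift_fst, pullback.lift_snd]
    let P := pullback (r ≫ G.s) G.s
    let P' := pullback (r' ≫ G.s) G.s
    have mk : ∀ (a b : (AlgSp.yon S).obj (Over.mk σ) ⟶ G.R), a ≫ G.t = b ≫ G.t →
        ∃ f : Over.mk (pullback.fst (a ≫ G.s) G.s) ⟶ Over.mk (pullback.fst (b ≫ G.s) G.s),
        ∃ h₁ : pullback.snd (a ≫ G.s) G.s ≫ G.s = (pullback.fst (a ≫ G.s) G.s ≫ a ≫ G.i) ≫ G.t,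
        ∃ h₂ : mul _ _ h₁ ≫ G.s = (pullback.fst (a ≫ G.s) G.s ≫ b) ≫ G.t,
          f.left ≫ pullback.snd (b ≫ G.s) G.s = mul _ _ h₂ := by
      intro a b e
      have h₁ : pullback.snd (a ≫ G.s) G.s ≫ G.s = (pullback.fst (a ≫ G.s) G.s ≫ a ≫ G.i) ≫ G.t := by
        rw [Category.assoc, Category.assoc, G.i_t, pullback.condition]
      have h₂ : mul _ _ h₁ ≫ G.s = (pullback.fst (a ≫ G.s) G.s ≫ b) ≫ G.t := by
        show (pullback.lift _ _ h₁ ≫ G.c) ≫ G.s = _
        rw [G.comp_s, Category.assoc, Category.assoc, G.i_s, e, Category.assoc]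
      refine ⟨Over.homMk (pullback.lift (pullback.fst _ _) (mul _ _ h₂) ?_) (pullback.lift_fst _ _ _), h₁, h₂,
        pullback.lift_snd _ _ _⟩
      show _ = (pullback.lift _ _ h₂ ≫ G.c) ≫ G.s
      rw [G.comp_s, Category.assoc]
    obtain ⟨f, h₁, h₂, hf⟩ := mk r r' h
    obtain ⟨g, k₁, k₂, hg⟩ := mk r' r h.symm
    have inv : ∀ (a b : (AlgSp.yon S).obj (Over.mk σ) ⟶ G.R), a ≫ G.t = b ≫ G.t →
        ∀ (f : Over.mk (pullback.fst (a ≫ G.s) G.s) ⟶ Over.mk (pullback.fst (b ≫ G.s) G.s))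
          (g : Over.mk (pullback.fst (b ≫ G.s) G.s) ⟶ Over.mk (pullback.fst (a ≫ G.s) G.s)) h₁ h₂ k₁ k₂,
          f.left ≫ pullback.snd (b ≫ G.s) G.s =
            mul (T := pullback (a ≫ G.s) G.s) (mul (pullback.snd (a ≫ G.s) G.s) (pullback.fst _ _ ≫ a ≫ G.i) h₁) (pullback.fst _ _ ≫ b) h₂ →
          g.left ≫ pullback.snd (a ≫ G.s) G.s =
            mul (T := pullback (b ≫ G.s) G.s) (mul (pullback.snd (b ≫ G.s) G.s) (pullback.fst _ _ ≫ b ≫ G.i) k₁) (pullback.fst _ _ ≫ a) k₂ →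
          f ≫ g = 𝟙 _ := by
      intro a b e f g h₁ h₂ k₁ k₂ hf hg
      ext1
      apply pullback.hom_ext
      · simpa using ((Category.assoc _ _ _).trans (congr_arg (f.left ≫ ·) (Over.w g))).trans (Over.w f)
      · have wf : f.left ≫ pullback.fst (b ≫ G.s) G.s = pullback.fst (a ≫ G.s) G.s := Over.w f
        rw [Over.comp_left, Category.assoc, hg, pre_mul, Over.id_left]
        refine Eq.trans ?_ (Category.id_comp _).symm
        have hA : ∀ hh, mul (pullback.fst (a ≫ G.s) G.s ≫ b) (pullback.fst (a ≫ G.s) G.s ≫ b ≫ G.i) hh =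
            pullback.fst (a ≫ G.s) G.s ≫ b ≫ G.t ≫ G.e := fun hh => by
          show pullback.lift _ _ _ ≫ G.c = _
          simpa [Category.assoc] using G.comp_i (pullback.fst (a ≫ G.s) G.s ≫ b)
        refine (mul_congr _ (mul (pullback.snd (a ≫ G.s) G.s) (pullback.fst _ _ ≫ a ≫ G.i) h₁) _
          (pullback.fst _ _ ≫ a) _ (by rw [h₂, Category.assoc, Category.assoc, e]) ?_ (by rw [← Category.assoc, wf])).trans ?_
        · rw [pre_mul]
          refine (mul_congr _ _ _ (pullback.fst (a ≫ G.s) G.s ≫ b ≫ G.i) _ (by show (pullback.lift _ _ h₂ ≫ G.c) ≫ G.s = _; rw [G.comp_s]; simp [G.i_t]) hf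
            (by rw [← Category.assoc, wf])).trans ?_
          refine (G.assoc _ _ _ h₂ (by simp [G.i_t])).trans ?_
          refine (mul_congr _ _ _ _ _ (by rw [h₂]; simp [G.e_t]) rfl (hA _)).trans ?_
          have := G.comp_e (mul _ _ h₁)
          refine Eq.trans ?_ this
          refine mul_congr _ _ _ _ _ _ rfl ?_
          rw [reassoc_of% h₂]
        · refine (G.assoc _ _ _ h₁ (by simp [G.i_s])).trans ?_
          have := G.comp_e (pullback.snd (a ≫ G.s) G.s)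
          refine Eq.trans ?_ this
          refine mul_congr _ _ _ _ _ _ rfl ?_
          refine Eq.trans ?_ ((G.i_comp (pullback.fst (a ≫ G.s) G.s ≫ a)).trans ?_)
          · exact mul_congr _ _ _ _ _ _ (Category.assoc _ _ _).symm rfl
          · rw [← pullback.condition_assoc]; simp [Category.assoc]
    exact ⟨⟨f, g, inv r r' h f g h₁ h₂ k₁ k₂ hf hg, inv r' r h.symm g f k₁ k₂ h₁ h₂ hg hf⟩⟩

end Groth.Agent.S10124
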