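import Groth.Statements.S10125
import Groth.Agent.AlgSpBoot.FieldFlat

set_option autoImplicit false
set_option backward.isDefEq.respectTransparency false
universe u
open CategoryTheory CategoryTheory.Limits AlgebraicGeometry MonoidalCategory MonObj
open AlgSp

namespace Groth.Agent.S10125

/-- For a group algebraic space `G` over a field `k`, the multiplication `m` of `G`, a morphism `G ×_k G
⟶ G`, is both flat and universally open. (The published situation allows any base scheme `S` with
`k` a field over `S`; this row takes `S = Spec k`.) -/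
theorem result (k : Type u) [Field k]
    (G : Over ((AlgSp.yon (Spec (CommRingCat.of k))).obj (Over.mk (𝟙 _)))) [GrpObj G]
    (hG : AlgSp.IsAlgSpace G.left) :
    AlgSp.LocP @Flat (μ[G]).left ∧ AlgSp.IsUnivOpenMor (μ[G]).left := by
    open CartesianMonoidalCategory in
    have sq : IsPullback (snd G G).left (μ[G]).left G.hom G.hom := by
      have sq₀ : IsPullback (fst G G).left (snd G G).left G.hom G.hom := IsPullback.of_hasPullback G.hom G.hom
      let φ := lift (μ[G]) (snd G G)
      let ψ := lift (lift (fst G G) (snd G G ≫ ι[G]) ≫ μ[G]) (snd G G)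
      have h₁ : φ ≫ ψ = 𝟙 _ := by
        apply hom_ext
        · simp only [ψ, Category.assoc, lift_fst, Category.id_comp]
          rw [← Category.assoc, comp_lift, lift_fst, ← Category.assoc φ, lift_snd]
          rw [show lift (μ[G]) (snd G G ≫ ι[G]) = lift (lift (fst G G) (snd G G) ≫ μ[G]) (snd G G ≫ ι[G]) by simp, MonObj.lift_lift_assoc]
          simp
        · simp [φ, ψ]
      have h₂ : ψ ≫ φ = 𝟙 _ := by
        apply hom_ext
        · simp only [φ, Category.assoc, lift_fst, Category.id_comp]
          rw [show (μ[G] : G ⊗ G ⟶ G) = lift (fst G G) (snd G G) ≫ μ[G] by simp, ← Category.assoc, comp_lift]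
          simp only [ψ, lift_fst, lift_snd]
          rw [MonObj.lift_lift_assoc]
          simp
        · simp [φ, ψ]
      let e : (G ⊗ G) ≅ (G ⊗ G) := ⟨φ, ψ, h₁, h₂⟩
      refine IsPullback.of_iso sq₀.flip ((Over.forget _).mapIso e.symm) (Iso.refl _) (Iso.refl _) (Iso.refl _)
        ?_ ?_ (by simp) (by simp)
      · simp only [Functor.mapIso_hom, Iso.symm_hom, Over.forget_map, Iso.refl_hom, Category.comp_id, e]
        rw [← Over.comp_left]; simp [ψ]
      · simp only [Functor.mapIso_hom, Iso.symm_hom, Over.forget_map, Iso.refl_hom, Category.comp_id, e]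
        rw [← Over.comp_left]
        congr 1
        haveI : IsIso φ := ⟨ψ, h₁, h₂⟩
        rw [← cancel_epi φ, ← Category.assoc, h₁, Category.id_comp]
        simp [φ]
    exact Groth.Agent.AlgSpBoot.flat_univOpen_of_isPullback_to_field hG (Iso.refl _) hG sq

end Groth.Agent.S10125
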