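import Groth.Statements.S10126
import Groth.Agent.AlgSpBoot.FieldFlat

set_option autoImplicit false
set_option backward.isDefEq.respectTransparency false
universe u
open CategoryTheory CategoryTheory.Limits AlgebraicGeometry
open AlgSp AlgSp.GroupoidSp

namespace Groth.Agent.S10126

/-- Let `(U, R, s, t, c)` be a groupoid in algebraic spaces over `B` whose object space is `U = Spec k`,
with `k` a field. Then the composition `c : R ×_{s, U, t} R ⟶ R` is flat and universally open. -/
theorem result (S : Scheme.{u}) (B : AlgSp.Sp S) (hB : AlgSp.IsAlgSpace B)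
    (G : AlgSp.GroupoidSp B) (hR : AlgSp.IsAlgSpace G.R) (k : Type u) [Field k]
    (σ : Spec (CommRingCat.of k) ⟶ S) (eU : G.U ≅ (AlgSp.yon S).obj (Over.mk σ)) :
    AlgSp.LocP @Flat G.c ∧ AlgSp.IsUnivOpenMor G.c := by
    have sq : IsPullback (pullback.snd G.s G.t) G.c G.s G.s := by
      have w : pullback.snd G.s G.t ≫ G.s = G.c ≫ G.s := by
        have h := G.comp_s (pullback.fst G.s G.t) (pullback.snd G.s G.t) pullback.condition
        rw [show pullback.lift (pullback.fst G.s G.t) (pullback.snd G.s G.t) pullback.condition = 𝟙 _ from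
          pullback.hom_ext (by simp [pullback.lift_fst]) (by simp [pullback.lift_snd]), Category.id_comp] at h
        exact h.symm
      have hw : ∀ c : PullbackCone G.s G.s, c.snd ≫ G.s = (c.fst ≫ G.i) ≫ G.t := fun c => by
        rw [Category.assoc, G.i_t]; exact c.condition.symm
      have hw₂ : ∀ c : PullbackCone G.s G.s, (pullback.lift c.snd (c.fst ≫ G.i) (hw c) ≫ G.c) ≫ G.s = c.fst ≫ G.t :=
        fun c => by rw [G.comp_s, Category.assoc, G.i_s]
      refine IsPullback.of_isLimit' ⟨w⟩ (PullbackCone.IsLimit.mk w
        (fun c => pullback.lift (pullback.lift c.snd (c.fst ≫ G.i) (hw c) ≫ G.c) c.fst (hw₂ c))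
        (fun c => pullback.lift_snd _ _ _) (fun c => ?_) (fun c m h₁ h₂ => ?_))
      · refine (G.assoc c.snd (c.fst ≫ G.i) c.fst (hw c) (by rw [Category.assoc, G.i_s])).trans ?_
        refine Eq.trans ?_ (G.comp_e c.snd)
        congr 1
        apply pullback.hom_ext
        · rw [pullback.lift_fst, pullback.lift_fst]
        · rw [pullback.lift_snd, pullback.lift_snd, G.i_comp, ← Category.assoc c.fst, ← Category.assoc c.snd, c.condition]
      · have hα : (m ≫ pullback.fst G.s G.t) ≫ G.s = c.fst ≫ G.t := by
          rw [Category.assoc, pullback.condition, ← Category.assoc, h₁]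
        have hm : pullback.lift (m ≫ pullback.fst G.s G.t) c.fst hα ≫ G.c = c.snd := by
          rw [← h₂]; congr 1
          exact (pullback.hom_ext (by simp [pullback.lift_fst]) (by simpa [pullback.lift_snd] using h₁)).symm
        apply pullback.hom_ext
        · rw [pullback.lift_fst]
          have e : pullback.lift c.snd (c.fst ≫ G.i) (hw c) =
              pullback.lift (pullback.lift (m ≫ pullback.fst G.s G.t) c.fst hα ≫ G.c) (c.fst ≫ G.i)
                (by rw [G.comp_s, Category.assoc, G.i_t]) :=
            pullback.hom_ext (by rw [pullback.lift_fst, pullback.lift_fst, hm]) (by rw [pullback.lift_snd, pullback.lift_snd])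
          rw [e]
          refine Eq.symm ((G.assoc (m ≫ pullback.fst G.s G.t) c.fst (c.fst ≫ G.i) hα (by rw [Category.assoc, G.i_t])).trans ?_)
          refine Eq.trans ?_ (G.comp_e (m ≫ pullback.fst G.s G.t))
          congr 1
          apply pullback.hom_ext
          · rw [pullback.lift_fst, pullback.lift_fst]
          · rw [pullback.lift_snd, pullback.lift_snd, G.comp_i, ← Category.assoc c.fst G.t, ← hα, Category.assoc]
        · rw [pullback.lift_snd, h₁]
    exact Groth.Agent.AlgSpBoot.flat_univOpen_of_isPullback_to_field hR eU hR sq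

end Groth.Agent.S10126
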