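import Groth.Statements.S10127
import Groth.Agent.S10116
import Groth.Agent.S10358
import Groth.Agent.AlgSpc.Basic

set_option autoImplicit false
set_option backward.isDefEq.respectTransparency false
universe u
open CategoryTheory CategoryTheory.Limits AlgebraicGeometry MonoidalCategory MonObj
open AlgSp

namespace Groth.Agent.S10127

/-- A group algebraic space over a field `k` which is a decent algebraic space is separated. (The
published situation allows any base scheme `S` with `k` a field over `S`; this row takes `S = Spec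
k`.) -/
theorem result (k : Type u) [Field k]
    (G : Over ((AlgSp.yon (Spec (CommRingCat.of k))).obj (Over.mk (𝟙 _)))) [GrpObj G]
    (hG : AlgSp.IsAlgSpace G.left) (hd : AlgSp.IsDecent G.left) : AlgSp.IsSeparatedSp G.left := by
    obtain ⟨⟨s, φ⟩, hφ⟩ : ∃ x : (Σ x, (Spec (CommRingCat.of k)).residueField x ⟶ CommRingCat.of k),
      Spec.map x.2 ≫ (Spec (CommRingCat.of k)).fromSpecResidueField x.1 = 𝟙 _ :=
    ⟨Scheme.SpecToEquivOfField k _ (𝟙 _), (Scheme.SpecToEquivOfField k _).left_inv (𝟙 _)⟩
    dsimp only at hφ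
    haveI : IsSplitMono (Spec.map φ) := IsSplitMono.mk' ⟨_, hφ⟩
    haveI : IsIso (Spec.map φ) := by
      haveI : IsSplitEpi ((Spec (CommRingCat.of k)).fromSpecResidueField s) := IsSplitEpi.mk' ⟨_, hφ⟩
      haveI : IsIso ((Spec (CommRingCat.of k)).fromSpecResidueField s) := isIso_of_mono_of_isSplitEpi _
      rw [(IsIso.eq_comp_inv _).2 hφ]
      infer_instance
    haveI : IsIso φ := (isIso_iff_of_reflects_iso φ.op Scheme.Spec).1 (inferInstanceAs (IsIso (Spec.map φ))) |> fun h => (isIso_op_iff φ).1 h
    have hb : Function.Bijective φ.hom := ConcreteCategory.bijective_of_isIso φ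
    have hs : IsClosed ({s} : Set ↥(Spec (CommRingCat.of k))) := by
      haveI : Subsingleton ↥(Spec (CommRingCat.of k)) := inferInstanceAs (Subsingleton (PrimeSpectrum k))
      exact isClosed_discrete _
    have e : Over.mk (Spec.map φ ≫ (Spec (CommRingCat.of k)).fromSpecResidueField s) = Over.mk (𝟙 _) := by rw [hφ]
    have he : AlgSp.RepWith @IsClosedImmersion (η[G]).left := by
      have h := (Groth.Agent.S10358.result ⟨G.left, hG⟩ hd s hs k φ (RingHom.Finite.of_surjective _ hb.2)
        (eqToHom (congrArg (AlgSp.yon (Spec (CommRingCat.of k))).obj e) ≫ (η[G]).left)).2 hb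
      simpa using Groth.Agent.AlgSpc.repWith_comp
        (Groth.Agent.AlgSpc.repWith_iso (eqToHom (congrArg (AlgSp.yon (Spec (CommRingCat.of k))).obj e.symm))) h
    have hsep := (Groth.Agent.S10116.result _ _ (IsAlgSpace.yon_obj _) G hG).1.2 he
    have hT : IsTerminal ((AlgSp.yon (Spec (CommRingCat.of k))).obj (Over.mk (𝟙 _))) :=
      IsTerminal.isTerminalObj (AlgSp.yon _) _ Over.mkIdTerminal
    let i : pullback G.hom G.hom ≅ G.left ⨯ G.left :=
      ⟨Limits.prod.lift (pullback.fst _ _) (pullback.snd _ _), pullback.lift Limits.prod.fst Limits.prod.snd (hT.hom_ext _ _),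
        by apply pullback.hom_ext <;> simp, by apply Limits.prod.hom_ext <;> simp⟩
    show AlgSp.RepWith @IsClosedImmersion (Limits.diag G.left)
    rw [show Limits.diag G.left = pullback.diagonal G.hom ≫ i.hom by apply Limits.prod.hom_ext <;> simp [i]]
    haveI : IsIso i.hom := Iso.isIso_hom i
    exact Groth.Agent.AlgSpc.repWith_comp hsep (Groth.Agent.AlgSpc.repWith_iso i.hom)

end Groth.Agent.S10127
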