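import Groth.Statements.S10128
import Groth.Agent.AlgSpc.DecentPoint
import Groth.Agent.AlgSpc.Basic
import Groth.Agent.AlgSpBoot.StabDiag

set_option autoImplicit false
set_option backward.isDefEq.respectTransparency false
universe u
open CategoryTheory CategoryTheory.Limits AlgebraicGeometry
open AlgSp AlgSp.GroupoidSp

namespace Groth.Agent.S10128

/-- Let `(U, R, s, t, c)` be a groupoid in algebraic spaces over `B` whose object space is `U = Spec k`,
with `k` a field, and assume `R` is a decent algebraic space. Then `R` is separated over the base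
scheme `S`. (The published statement concludes that `R` is separated in the absolute sense; this row
concludes that `R` is separated over `S`, which the absolute notion implies.) -/
theorem result (S : Scheme.{u}) (B : AlgSp.Sp S) (hB : AlgSp.IsAlgSpace B)
    (G : AlgSp.GroupoidSp B) (hR : AlgSp.IsAlgSpace G.R) (k : Type u) [Field k]
    (σ : Spec (CommRingCat.of k) ⟶ S) (eU : G.U ≅ (AlgSp.yon S).obj (Over.mk σ)) (hd : AlgSp.IsDecent G.R) :
    AlgSp.IsSeparatedSp G.R := by
    open Groth.Agent.AlgSpc in
      let U₀ : Over S := Over.mk σ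
      haveI : IsAffine U₀.left := inferInstanceAs (IsAffine (Spec (CommRingCat.of k)))
      let p : (AlgSp.yon S).obj U₀ ⟶ G.R := eU.inv ≫ G.e
      let q : G.R ⟶ (AlgSp.yon S).obj U₀ := G.s ≫ eU.hom
      have hpq : p ≫ q = 𝟙 _ := by simp [p, q, reassoc_of% G.e_s]
      haveI : Mono p := (IsSplitMono.mk' ⟨q, hpq⟩).mono
      have hp : AlgSp.RepWith @IsClosedImmersion p := by
        refine repWith_of_affine_charts hR (hR.representable_from_yon p) fun U a V fst snd hU ha sq => ?_
        haveI := hU
        have sq' : IsPullback ((AlgSp.yon S).map snd) ((AlgSp.yon S).map (pre fst)) a p := by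
          rw [map_pre]; exact sq.flip
        haveI := compactFibres_of_isDecent hd a k _ _ _ _ _ sq'
        haveI : IsFinite (pre fst).left := (finite_of_compact_fibre ha sq').2.2
        have hw : snd ≫ pre (a ≫ q) = pre fst := by
          apply (AlgSp.yon S).map_injective
          rw [Functor.map_comp, map_pre, ← Category.assoc, ← sq.w, Category.assoc, hpq, Category.comp_id, map_pre]
        haveI : IsSeparated (pre (a ≫ q)).left := isSeparated_of_isAffine_source _
        haveI : IsFinite (snd.left ≫ (pre (a ≫ q)).left) := by rw [← Over.comp_left, hw]; infer_instance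
        haveI : IsFinite snd.left := IsFinite.of_comp snd.left (pre (a ≫ q)).left
        haveI : Mono ((AlgSp.yon S).map snd) := ⟨fun b c h => sq.hom_ext ((cancel_mono p).1
          (by rw [Category.assoc, Category.assoc, sq.w, reassoc_of% h])) h⟩
        haveI := mono_of_map snd
        exact (IsClosedImmersion.iff_isFinite_and_mono _).2 ⟨inferInstance, inferInstance⟩
      have he : AlgSp.RepWith @IsClosedImmersion G.e := by
        simpa [p] using repWith_comp (repWith_iso eU.hom) hp
      obtain ⟨eG, heG⟩ : ∃ eG : G.U ⟶ pullback G.j G.diag, eG ≫ pullback.fst G.j G.diag = G.e :=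
        ⟨pullback.lift G.e (𝟙 _) (by apply pullback.hom_ext <;> simp [AlgSp.GroupoidSp.diag, G.e_s, G.e_t]), pullback.lift_fst _ _ _⟩
      haveI : IsSplitMono G.diag := IsSplitMono.mk' ⟨pullback.fst _ _, pullback.lift_fst _ _ _⟩
      haveI : Mono (pullback.fst G.j G.diag) := inferInstance
      have sqe : IsPullback (𝟙 G.U) eG G.e (pullback.fst G.j G.diag) := IsPullback.of_isLimit' ⟨by simp [heG]⟩
        (PullbackCone.IsLimit.mk _ (fun c => c.fst) (fun c => Category.comp_id _)
          (fun c => by rw [← cancel_mono (pullback.fst G.j G.diag), Category.assoc, heG, c.condition])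
          (fun c m h₁ h₂ => by simpa using h₁))
      obtain ⟨d, sqd⟩ := Groth.Agent.AlgSpBoot.exists_isPullback_diagonal_j G eG heG
      have hj : AlgSp.RepWith @IsClosedImmersion (pullback.diagonal G.j) :=
        repWith_of_isPullback sqd (repWith_of_isPullback sqe he)
      let T₀ : Over S := Over.mk (𝟙 S)
      have hT : IsTerminal ((AlgSp.yon S).obj T₀) := IsTerminal.isTerminalObj (AlgSp.yon S) _ Over.mkIdTerminal
      let f₀ : U₀ ⟶ T₀ := Over.homMk σ (Category.comp_id _)
      have hdU : AlgSp.RepWith @IsClosedImmersion (Limits.diag G.U) := by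
        have h := (AlgSp.isSeparatedMor_yon_map_iff f₀).2 (isSeparated_of_isAffine_source σ)
        let g := eU.hom ≫ (AlgSp.yon S).map f₀
        have h' : AlgSp.RepWith @IsClosedImmersion (pullback.diagonal g) := by
          have sqg : IsPullback eU.hom g ((AlgSp.yon S).map f₀) (𝟙 _) := IsPullback.of_horiz_isIso ⟨by simp [g]⟩
          exact MorphismProperty.of_isPullback (P := (AlgSp.RepWith @IsClosedImmersion : MorphismProperty (AlgSp.Sp S)).diagonal) sqg h
        let i : pullback g g ≅ G.U ⨯ G.U :=
          ⟨Limits.prod.lift (pullback.fst _ _) (pullback.snd _ _), pullback.lift Limits.prod.fst Limits.prod.snd (hT.hom_ext _ _),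
            by apply pullback.hom_ext <;> simp, by apply Limits.prod.hom_ext <;> simp⟩
        haveI : IsIso i.hom := Iso.isIso_hom i
        rw [show Limits.diag G.U = pullback.diagonal g ≫ i.hom by apply Limits.prod.hom_ext <;> simp [i]]
        exact repWith_comp h' (repWith_iso i.hom)
      let m₁ : pullback G.t G.t ⟶ G.R ⨯ G.R := Limits.prod.lift (pullback.fst _ _) (pullback.snd _ _)
      have sq₁ : IsPullback (pullback.fst G.t G.t ≫ G.t) m₁ (Limits.diag G.U) (Limits.prod.map G.t G.t) := by
        have w : (pullback.fst G.t G.t ≫ G.t) ≫ Limits.diag G.U = m₁ ≫ Limits.prod.map G.t G.t := by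
          apply Limits.prod.hom_ext <;> simp [m₁, pullback.condition]
        have hc : ∀ c : PullbackCone (Limits.diag G.U) (Limits.prod.map G.t G.t),
            c.fst = (c.snd ≫ Limits.prod.fst) ≫ G.t ∧ c.fst = (c.snd ≫ Limits.prod.snd) ≫ G.t := fun c =>
          ⟨by simpa using congrArg (· ≫ Limits.prod.fst) c.condition, by simpa using congrArg (· ≫ Limits.prod.snd) c.condition⟩
        refine IsPullback.of_isLimit' ⟨w⟩ (PullbackCone.IsLimit.mk w
          (fun c => pullback.lift _ _ ((hc c).1.symm.trans (hc c).2)) (fun c => ?_) (fun c => ?_) (fun c m h₁ h₂ => ?_))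
        · rw [pullback.lift_fst_assoc]; exact (hc c).1.symm
        · apply Limits.prod.hom_ext <;> simp [m₁]
        · apply pullback.hom_ext <;> simp [m₁, ← h₂]
      let m₂ : pullback G.j G.j ⟶ pullback G.t G.t := pullback.lift (pullback.fst _ _) (pullback.snd _ _)
        (by rw [← G.j_fst, ← Category.assoc, pullback.condition, Category.assoc])
      let ss : pullback G.t G.t ⟶ G.U ⨯ G.U := Limits.prod.lift (pullback.fst _ _ ≫ G.s) (pullback.snd _ _ ≫ G.s)
      have sq₂ : IsPullback (pullback.fst G.j G.j ≫ G.s) m₂ (Limits.diag G.U) ss := by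
        have w : (pullback.fst G.j G.j ≫ G.s) ≫ Limits.diag G.U = m₂ ≫ ss := by
          have hs : pullback.fst G.j G.j ≫ G.s = pullback.snd G.j G.j ≫ G.s := by
            rw [← G.j_snd, ← Category.assoc, pullback.condition, Category.assoc]
          apply Limits.prod.hom_ext <;> simp [m₂, ss, hs]
        have hc : ∀ c : PullbackCone (Limits.diag G.U) ss,
            c.fst = c.snd ≫ pullback.fst G.t G.t ≫ G.s ∧ c.fst = c.snd ≫ pullback.snd G.t G.t ≫ G.s := fun c =>
          ⟨by simpa [ss] using congrArg (· ≫ Limits.prod.fst) c.condition,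
            by simpa [ss] using congrArg (· ≫ Limits.prod.snd) c.condition⟩
        refine IsPullback.of_isLimit' ⟨w⟩ (PullbackCone.IsLimit.mk w
          (fun c => pullback.lift (c.snd ≫ pullback.fst _ _) (c.snd ≫ pullback.snd _ _) (by
            apply pullback.hom_ext
            · simp [pullback.condition]
            · simp only [Category.assoc, AlgSp.GroupoidSp.j_snd]; exact (hc c).1.symm.trans (hc c).2))
          (fun c => ?_) (fun c => ?_) (fun c m h₁ h₂ => ?_))
        · rw [pullback.lift_fst_assoc, Category.assoc]; exact (hc c).1.symm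
        · apply pullback.hom_ext <;> simp [m₂]
        · apply pullback.hom_ext <;> simp [m₂, ← h₂]
      show AlgSp.RepWith @IsClosedImmersion (Limits.diag G.R)
      rw [show Limits.diag G.R = pullback.diagonal G.j ≫ m₂ ≫ m₁ by apply Limits.prod.hom_ext <;> simp [m₁, m₂]]
      exact repWith_comp hj (repWith_comp (repWith_of_isPullback sq₂ hdU) (repWith_of_isPullback sq₁ hdU))

end Groth.Agent.S10128
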