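import Groth.Statements.S10129
import Groth.Agent.AlgSpImage.Main
import Groth.Agent.AlgSpImage.Dense
import Groth.Agent.AlgSpc.OpenSubspace
import Groth.Agent.AlgSpc.More
import Groth.Agent.AlgSpLoc.Cover

set_option backward.isDefEq.respectTransparency false
set_option linter.style.haveILetI false

set_option autoImplicit false
universe u
open CategoryTheory CategoryTheory.Limits AlgebraicGeometry
open AlgSp

namespace Groth.Agent.S10129

/-- Consider morphisms `g : X ⟶ Z` and `f : X ⟶ Y` of algebraic spaces over `B`, with `Y ⟶ B` separated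
and `g` surjective, flat and locally of finite presentation, and let `V ⊂ Z` be a scheme
theoretically dense open subspace with `V ⟶ Z` quasi-compact such that `f` restricted to `g⁻¹(V)`
factors through `g⁻¹(V) ⟶ V`. Then `f` factors through `g`. (The published statement does not ask
the open immersion `V ⟶ Z` to be quasi-compact; the published proof pulls the scheme theoretic
density of `V` back along a flat morphism by a lemma that requires it, so this row assumes it.) -/
theorem result (S : Scheme.{u}) (B : AlgSp.Sp S) (hB : AlgSp.IsAlgSpace B)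
    (X Y Z : AlgSp.Space S) (pX : X.obj ⟶ B) (pY : Y.obj ⟶ B) (pZ : Z.obj ⟶ B)
    (f : X.obj ⟶ Y.obj) (g : X.obj ⟶ Z.obj) (hf : f ≫ pY = pX) (hg : g ≫ pZ = pX)
    (hY : AlgSp.IsSeparatedMor pY)
    (hgs : AlgSp.IsSurjectiveMor g) (hgf : AlgSp.LocP @Flat g) (hgp : AlgSp.LocP @LocallyOfFinitePresentation g)
    (V : AlgSp.Sp S) (v : V ⟶ Z.obj) (hv : AlgSp.IsSchDense v) (hvq : AlgSp.IsQuasiCompactMor v)
    (hfac : ∃ φ : V ⟶ Y.obj, pullback.fst g v ≫ f = pullback.snd g v ≫ φ) :
    ∃ h : Z.obj ⟶ Y.obj, g ≫ h = f := by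
  haveI : Mono v := Groth.Agent.AlgSpc.mono_of_repWith (fun _ _ e (_ : IsOpenImmersion e) => inferInstance) hv.1
  have hV : IsAlgSpace V := Groth.Agent.AlgSpc.isAlgSpace_of_mono_representable Z.property v hv.1.1
  have himg : IsSchImage v (𝟙 Z.obj) :=
    (Groth.Agent.AlgSpImage.isSchDense_iff hV Z.property v hv.1 hvq).1 hv
  -- the morphism is an epimorphism
  haveI : Epi g := Groth.Agent.AlgSpLoc.epi_of_sq g fun T t => by
    have sqT := IsPullback.of_hasPullback g t
    have hP := Groth.Agent.AlgSpc.isAlgSpace_of_isPullback X.property Z.property (IsAlgSpace.yon_obj T) sqT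
    obtain ⟨U, a, ha, has⟩ := hP.atlas
    let h := Groth.Agent.AlgSpc.pre (a ≫ pullback.snd g t)
    have hh : a ≫ pullback.snd g t = (yon S).map h ≫ 𝟙 _ := by
      rw [Category.comp_id]; exact (Groth.Agent.AlgSpc.map_pre _).symm
    refine ⟨U, h, a ≫ pullback.fst g t, ?_, ?_, ?_, ?_⟩
    · exact Groth.Agent.AlgSpc.locP_base_change X.property Z.property (IsAlgSpace.yon_obj T) sqT hgf a (𝟙 _) h ha
        (Groth.Agent.AlgSpc.repWith_iso _) hh
    · refine ⟨fun x => ?_⟩
      obtain ⟨z, hz⟩ := Groth.Agent.AlgSpc.surjective_map_base_change sqT hgs (Points.ofScheme T x)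
      obtain ⟨u, rfl⟩ := Groth.Agent.AlgSpc.surjective_ofPt has z
      refine ⟨u, ?_⟩
      rw [Points.map_ofPt, Groth.Agent.AlgSpc.ofPt_pre] at hz
      exact (Points.schemeEquiv T).injective hz
    · exact Groth.Agent.AlgSpc.locP_base_change X.property Z.property (IsAlgSpace.yon_obj T) sqT hgp a (𝟙 _) h ha
        (Groth.Agent.AlgSpc.repWith_iso _) hh
    · rw [Category.assoc, pullback.condition, Groth.Agent.AlgSpc.map_pre, Category.assoc]
  haveI := Groth.Agent.AlgSpLoc.effectiveEpi_of_epi g
  obtain ⟨φ, hφ⟩ := hfac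
  -- the two maps from the relation agree
  have sR := IsPullback.of_hasPullback g g
  have hR := Groth.Agent.AlgSpc.isAlgSpace_of_isPullback X.property Z.property X.property sR
  let q := pullback.fst g g ≫ g
  have hq₂ : pullback.snd g g ≫ g = q := pullback.condition.symm
  have hqf : LocP @Flat q := Groth.Agent.AlgSpc.locP_comp hR X.property Z.property
    (Groth.Agent.AlgSpc.locP_base_change X.property Z.property X.property sR.flip hgf) hgf
  have sV := IsPullback.of_hasPullback v q
  let r := pullback.snd v q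
  have hRV := Groth.Agent.AlgSpc.isAlgSpace_of_isPullback hV Z.property hR sV
  have hr : ∀ (π : pullback g g ⟶ X.obj), π ≫ g = q → r ≫ π ≫ f = pullback.fst v q ≫ φ := by
    intro π hπ
    let l : pullback v q ⟶ pullback g v := pullback.lift (r ≫ π) (pullback.fst v q)
      (by rw [Category.assoc, hπ]; exact pullback.condition.symm)
    rw [← Category.assoc, ← show l ≫ pullback.fst g v = r ≫ π from pullback.lift_fst _ _ _, Category.assoc, hφ,
      ← Category.assoc, pullback.lift_snd]
  have hw : ∀ (π : pullback g g ⟶ X.obj), π ≫ g = q → (π ≫ f) ≫ pY = q ≫ pZ := by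
    intro π hπ
    rw [Category.assoc, hf, ← hg, reassoc_of% hπ]
  let δ : pullback g g ⟶ pullback pY pY := pullback.lift (pullback.fst g g ≫ f) (pullback.snd g g ≫ f)
    (by rw [hw _ rfl, hw _ hq₂])
  have sE := IsPullback.of_hasPullback (pullback.diagonal pY) δ
  have hE : RepWith @IsClosedImmersion (pullback.snd (pullback.diagonal pY) δ) :=
    Groth.Agent.AlgSpc.repWith_of_isPullback sE hY
  haveI := Groth.Agent.AlgSpLimit.mono_closed hE
  have hEa : IsAlgSpace (pullback (pullback.diagonal pY) δ) :=
    Groth.Agent.AlgSpc.isAlgSpace_of_mono_representable hR _ hE.1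
  have sq₁ : IsPullback q (𝟙 (pullback g g)) (𝟙 Z.obj) q := IsPullback.id_vert q
  have himgR := Groth.Agent.AlgSpImage.isSchImage_flat_bc hV Z.property hvq Z.property himg hR hRV hR hqf sV sq₁
  obtain ⟨k, hk⟩ := himgR.2.2 (pullback.snd (pullback.diagonal pY) δ) hEa hE
    ⟨pullback.lift (pullback.fst v q ≫ φ) r (by
      apply pullback.hom_ext
      · rw [Category.assoc, pullback.diagonal_fst, Category.comp_id, Category.assoc, pullback.lift_fst, hr _ rfl]
      · rw [Category.assoc, pullback.diagonal_snd, Category.comp_id, Category.assoc, pullback.lift_snd, hr _ hq₂]),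
      pullback.lift_snd _ _ _⟩
  have hcond : pullback.fst (pullback.diagonal pY) δ ≫ pullback.diagonal pY = pullback.snd _ _ ≫ δ := pullback.condition
  have e₁ := congrArg (fun m => k ≫ m ≫ pullback.fst pY pY) hcond
  have e₂ := congrArg (fun m => k ≫ m ≫ pullback.snd pY pY) hcond
  simp only [Category.assoc, pullback.diagonal_fst, pullback.diagonal_snd, Category.comp_id, δ, pullback.lift_fst,
    pullback.lift_snd] at e₁ e₂
  rw [reassoc_of% hk] at e₁ e₂
  have heq : pullback.fst g g ≫ f = pullback.snd g g ≫ f := e₁.symm.trans e₂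
  refine ⟨EffectiveEpi.desc g f fun {W} g₁ g₂ w => ?_, EffectiveEpi.fac g f _⟩
  have := congrArg (pullback.lift g₁ g₂ w ≫ ·) heq
  simpa [pullback.lift_fst_assoc, pullback.lift_snd_assoc] using this

end Groth.Agent.S10129
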