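import Groth.Statements.S10130
import Groth.Agent.AlgSpc.Basic
import Groth.Agent.S10194
import Groth.Agent.AlgSpLoc.OpenSubspace

set_option autoImplicit false
universe u
open CategoryTheory CategoryTheory.Limits AlgebraicGeometry
open AlgSp AlgSp.GroupoidSp

namespace Groth.Agent.S10130

/-- Let `(U, R, s, t, c)` be a groupoid in algebraic spaces over `B` with `s, t` open. For every open
subspace `W ⊂ U`, the open subspace `s(t⁻¹(W))` of `U` is `R`-invariant. -/
theorem result (S : Scheme.{u}) (B : AlgSp.Sp S) (hB : AlgSp.IsAlgSpace B)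
    (G : AlgSp.GroupoidSp B) (hU : AlgSp.IsAlgSpace G.U) (hR : AlgSp.IsAlgSpace G.R)
    (hs : AlgSp.IsOpenMor G.s) (ht : AlgSp.IsOpenMor G.t)
    (W W' : AlgSp.Sp S) (w : W ⟶ G.U) (w' : W' ⟶ G.U)
    (hw : AlgSp.RepWith @IsOpenImmersion w) (hw' : AlgSp.RepWith @IsOpenImmersion w')
    (himg : Set.range (AlgSp.Points.map w') =
      AlgSp.Points.map G.s '' (AlgSp.Points.map G.t ⁻¹' Set.range (AlgSp.Points.map w))) :
    G.IsInvariant w' := by
  let O := Set.range (AlgSp.Points.map w')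
  let m : pullback G.s G.s ⟶ G.R :=
    pullback.lift (pullback.fst G.s G.s) (pullback.snd G.s G.s ≫ G.i)
      (by rw [Category.assoc, G.i_t, pullback.condition]) ≫ G.c
  have hmt : m ≫ G.t = pullback.fst G.s G.s ≫ G.t := G.comp_t _ _ _
  have hms : m ≫ G.s = pullback.snd G.s G.s ≫ G.t := by
    rw [G.comp_s, Category.assoc, G.i_s]
  have key : ∀ x : AlgSp.Points G.R, AlgSp.Points.map G.s x ∈ O → AlgSp.Points.map G.t x ∈ O := by
    intro x hx
    simp only [O, himg] at hx ⊢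
    obtain ⟨y, hy, hyx⟩ := hx
    obtain ⟨z, hz₁, hz₂⟩ := AlgSpc.exists_point_of_isPullback (IsPullback.of_hasPullback G.s G.s) y x hyx
    refine ⟨AlgSp.Points.map m z, ?_, ?_⟩
    · show AlgSp.Points.map G.t (AlgSp.Points.map m z) ∈ Set.range (AlgSp.Points.map w)
      rw [← AlgSp.Points.map_comp, hmt, AlgSp.Points.map_comp, hz₁]
      exact hy
    · rw [← AlgSp.Points.map_comp, hms, AlgSp.Points.map_comp, hz₂]
  have key' : ∀ x : AlgSp.Points G.R, AlgSp.Points.map G.t x ∈ O ↔ AlgSp.Points.map G.s x ∈ O := fun x => by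
    refine ⟨fun h => ?_, key x⟩
    have h' := key (AlgSp.Points.map G.i x) (by rwa [← AlgSp.Points.map_comp, G.i_s])
    rwa [← AlgSp.Points.map_comp, G.i_t] at h'
  intro T r
  have hf : ∀ f : (AlgSp.yon S).obj T ⟶ G.U, (∃ a, a ≫ w' = f) ↔ Set.range (AlgSp.Points.map f) ⊆ O := by
    intro f
    refine ⟨?_, fun h => _root_.Groth.Agent.AlgSpLoc.exists_lift_openImm hw' f h⟩
    rintro ⟨a, rfl⟩ _ ⟨z, rfl⟩
    exact ⟨_, (AlgSp.Points.map_comp _ _ z).symm⟩
  rw [hf, hf]
  constructor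
  · rintro h _ ⟨z, rfl⟩
    rw [AlgSp.Points.map_comp]
    exact (key' _).1 (by rw [← AlgSp.Points.map_comp]; exact h ⟨z, rfl⟩)
  · rintro h _ ⟨z, rfl⟩
    rw [AlgSp.Points.map_comp]
    exact (key' _).2 (by rw [← AlgSp.Points.map_comp]; exact h ⟨z, rfl⟩)

end Groth.Agent.S10130
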