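import Groth.Statements.S10131
import Groth.Agent.S10130
import Groth.Agent.AlgSpc.More
import Groth.Agent.AlgSpLoc.OpenSubspace
import Groth.Agent.AlgSpc.Compact

set_option autoImplicit false
universe u
open CategoryTheory CategoryTheory.Limits AlgebraicGeometry
open AlgSp AlgSp.GroupoidSp

namespace Groth.Agent.S10131

/-- Let `(U, R, s, t, c)` be a groupoid in algebraic spaces over `B` with `s, t` open and quasi-compact.
Then `U` has an open covering by `R`-invariant quasi-compact open subspaces. -/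
theorem result (S : Scheme.{u}) (B : AlgSp.Sp S) (hB : AlgSp.IsAlgSpace B)
    (G : AlgSp.GroupoidSp B) (hU : AlgSp.IsAlgSpace G.U) (hR : AlgSp.IsAlgSpace G.R)
    (hs : AlgSp.IsOpenMor G.s ∧ AlgSp.IsQuasiCompactMor G.s) (ht : AlgSp.IsOpenMor G.t ∧ AlgSp.IsQuasiCompactMor G.t)
    (x : AlgSp.Points G.U) :
    ∃ (W : AlgSp.Sp S) (w : W ⟶ G.U), AlgSp.RepWith @IsOpenImmersion w ∧ G.IsInvariant w ∧
      AlgSp.IsQuasiCompactSp W ∧ x ∈ Set.range (AlgSp.Points.map w) := by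
  obtain ⟨U, p, hp, hps⟩ := hU.atlas
  obtain ⟨u, rfl⟩ := (AlgSpc.surjective_ofPt_iff hp.1).1 hps x
  obtain ⟨V, hV, huV, -⟩ := exists_isAffineOpen_mem_and_subset (x := u) (U := ⊤) trivial
  let W₀ : Set (AlgSp.Points G.U) := AlgSp.Points.ofPt p '' (V : Set U.left)
  have hW₀ : IsOpen W₀ := AlgSpc.isOpenMap_ofPt hp _ V.2
  have hW₀c : IsCompact W₀ := hV.isCompact.image (AlgSp.Points.continuous_ofPt p)
  let O : Set (AlgSp.Points G.U) := AlgSp.Points.map G.s '' (AlgSp.Points.map G.t ⁻¹' W₀)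
  have hO : IsOpen O := hs.1 _ (hW₀.preimage (AlgSp.Points.continuous_map _))
  have hOc : IsCompact O := (AlgSpc.isCompact_preimage_of_qcMor hU ht.2 hW₀ hW₀c).image (AlgSp.Points.continuous_map _)
  obtain ⟨Wa, w₀, hw₀, hr₀⟩ := AlgSpLoc.exists_openSubspace (⟨G.U, hU⟩ : AlgSp.Space S) hW₀
  obtain ⟨W', w', hw', hr'⟩ := AlgSpLoc.exists_openSubspace (⟨G.U, hU⟩ : AlgSp.Space S) hO
  refine ⟨W'.obj, w'.hom, hw', S10130.result S B hB G hU hR hs.1 ht.1 _ _ w₀.hom w'.hom hw₀ hw' ?_, ?_, ?_⟩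
  · rw [hr', hr₀]
  · obtain ⟨U', p', hp', hps'⟩ := hU.atlas
    have hemb := (AlgSpc.isEmbedding_of_immersion
      (AlgSpc.repWith_mono (Q := @IsImmersion) (fun _ _ k (hk : IsOpenImmersion k) => inferInstance) hw') hp' hps').1
    refine (AlgSpc.isQuasiCompactSp_iff W'.property).2 ⟨?_⟩
    rw [hemb.isCompact_iff, Set.image_univ, hr']
    exact hOc
  · rw [hr']
    refine ⟨AlgSp.Points.map G.e (AlgSp.Points.ofPt p u), ?_, ?_⟩
    · show AlgSp.Points.map G.t _ ∈ W₀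
      rw [← AlgSp.Points.map_comp, G.e_t, AlgSp.Points.map_id]
      exact ⟨u, huV, rfl⟩
    · rw [← AlgSp.Points.map_comp, G.e_s, AlgSp.Points.map_id]

end Groth.Agent.S10131
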