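import Groth.Statements.S10132
import Groth.Agent.AlgSpBoot.FieldFlat
import Groth.Agent.AlgSpc.TestedMor
import Groth.Agent.AlgSpc.SepProper
import Groth.Agent.AlgSpc.Basic
import Groth.Agent.AlgSpc.DecentMor

set_option autoImplicit false
set_option backward.isDefEq.respectTransparency false
universe u
open CategoryTheory CategoryTheory.Limits AlgebraicGeometry
open AlgSp AlgSp.GroupoidSp

namespace Groth.Agent.S10132

/-- Let `(U, R, s, t, c)` be a groupoid in algebraic spaces over `B` whose object space is `U = Spec k`,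
let `k ⊂ k'` be a field extension and `(U', R', s', t', c')` the restriction along `Spec k' ⟶ Spec
k`. Then `s, t, s', t'`, `Spec k' ⟶ Spec k` and `R' ⟶ R` are surjective, flat and universally open,
and `R' ⟶ R` is moreover affine. (The published statement lists every arrow of the restriction
diagram; this row omits the six arrows through `R ×_{s,U} U'` and `U' ×_{U,t} R`, each a base change
of `s`, `t` or `Spec k' ⟶ Spec k`.) -/
theorem result (S : Scheme.{u}) (B : AlgSp.Sp S) (hB : AlgSp.IsAlgSpace B)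
    (G G' : AlgSp.GroupoidSp B) (hR : AlgSp.IsAlgSpace G.R) (hR' : AlgSp.IsAlgSpace G'.R)
    (k k' : Type u) [Field k] [Field k'] [Algebra k k'] (σ : Spec (CommRingCat.of k) ⟶ S)
    (eU : G.U ≅ ((AlgSp.yon S).obj (Over.mk σ)))
    (eU' : G'.U ≅ ((AlgSp.yon S).obj (Over.mk (Spec.map (CommRingCat.ofHom (algebraMap k k')) ≫ σ))))
    (φ : AlgSp.GroupoidSp.Hom G' G) (hφ : φ.IsRestriction)
    (hfU : φ.fU = eU'.hom ≫ (AlgSp.yon S).map (Over.homMk (Spec.map (CommRingCat.ofHom (algebraMap k k'))) rfl :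
      Over.mk (Spec.map (CommRingCat.ofHom (algebraMap k k')) ≫ σ) ⟶ Over.mk σ) ≫ eU.inv) :
    (∀ f ∈ [G.s, G.t], AlgSp.IsSurjectiveMor f ∧ AlgSp.LocP @Flat f ∧ AlgSp.IsUnivOpenMor f) ∧
      (∀ f ∈ [G'.s, G'.t], AlgSp.IsSurjectiveMor f ∧ AlgSp.LocP @Flat f ∧ AlgSp.IsUnivOpenMor f) ∧
      (AlgSp.IsSurjectiveMor φ.fU ∧ AlgSp.LocP @Flat φ.fU ∧ AlgSp.IsUnivOpenMor φ.fU) ∧
      (AlgSp.IsSurjectiveMor φ.fR ∧ AlgSp.LocP @Flat φ.fR ∧ AlgSp.IsUnivOpenMor φ.fR ∧ AlgSp.IsAffineMor φ.fR) := by
    open Groth.Agent.AlgSpc Groth.Agent.AlgSpBoot in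
      have hU : AlgSp.IsAlgSpace G.U := isAlgSpace_of_isPullback (IsAlgSpace.yon_obj _) (IsAlgSpace.yon_obj _)
        (IsAlgSpace.yon_obj _) (IsPullback.of_vert_isIso (fst := eU.hom) (snd := eU.hom) (f := 𝟙 _) (g := 𝟙 _) ⟨rfl⟩)
      have hU' : AlgSp.IsAlgSpace G'.U := isAlgSpace_of_isPullback (IsAlgSpace.yon_obj _) (IsAlgSpace.yon_obj _)
        (IsAlgSpace.yon_obj _) (IsPullback.of_vert_isIso (fst := eU'.hom) (snd := eU'.hom) (f := 𝟙 _) (g := 𝟙 _) ⟨rfl⟩)
      have tofield : ∀ {k : Type u} [Field k] {σ : Spec (CommRingCat.of k) ⟶ S} {X U : AlgSp.Sp S}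
          (_ : AlgSp.IsAlgSpace X) (_ : AlgSp.IsAlgSpace U) (e : U ≅ (AlgSp.yon S).obj (Over.mk σ)) (f : X ⟶ U),
          Nonempty (AlgSp.Points X) → AlgSp.IsSurjectiveMor f ∧ AlgSp.LocP @Flat f ∧ AlgSp.IsUnivOpenMor f := by
        intro k _ σ X U hX hU e f hne
        refine ⟨fun y => ?_, flat_univOpen_of_isPullback_to_field hX e hU (IsPullback.id_horiz f)⟩
        obtain ⟨x⟩ := hne
        haveI : Subsingleton ↥(Over.mk σ).left := inferInstanceAs (Subsingleton (PrimeSpectrum k))
        haveI : Subsingleton (AlgSp.Points ((AlgSp.yon S).obj (Over.mk σ))) :=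
          (AlgSp.Points.schemeHomeo (Over.mk σ)).symm.injective.subsingleton
        refine ⟨x, ?_⟩
        have h := Subsingleton.elim (AlgSp.Points.map e.hom (AlgSp.Points.map f x)) (AlgSp.Points.map e.hom y)
        have := congrArg (AlgSp.Points.map e.inv) h
        rwa [← AlgSp.Points.map_comp, ← AlgSp.Points.map_comp e.hom, e.hom_inv_id, AlgSp.Points.map_id,
          AlgSp.Points.map_id] at this
      have sec : ∀ {X U : AlgSp.Sp S} {f : X ⟶ U} (g : U ⟶ X), Nonempty (AlgSp.Points U) → Nonempty (AlgSp.Points X) :=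
        fun g h => h.map (AlgSp.Points.map g)
      have hneU : Nonempty (AlgSp.Points G.U) :=
        ⟨AlgSp.Points.map eU.inv (AlgSp.Points.ofScheme _ (IsLocalRing.closedPoint k))⟩
      have hneU' : Nonempty (AlgSp.Points G'.U) :=
        ⟨AlgSp.Points.map eU'.inv (AlgSp.Points.ofScheme _ (IsLocalRing.closedPoint k'))⟩
      have hneR := sec (f := G.s) G.e hneU
      have hneR' := sec (f := G'.s) G'.e hneU'
      have hfU' := tofield hU' hU eU φ.fU hneU'
      have haU : AlgSp.IsAffineMor φ.fU := by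
        rw [repWith_affineHom_iff, hfU]
        exact repWith_comp (repWith_iso eU'.hom) (repWith_comp ((AlgSp.repWith_yon_map_iff _ _).2 (isAffineHom_of_isAffine (Spec.map (CommRingCat.ofHom (algebraMap k k')))))
          (repWith_iso eU.inv))
      -- `R' ⟶ R` is a composite of two base changes of `U' ⟶ U`
      let sq₁ := IsPullback.of_hasPullback φ.fU G.t
      let q := pullback.snd φ.fU G.t
      have hP := isAlgSpace_of_isPullback hU' hU hR sq₁
      let l : G'.R ⟶ pullback φ.fU G.t := pullback.lift G'.t φ.fR φ.comm_t.symm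
      have w : G'.s ≫ φ.fU = l ≫ q ≫ G.s := by rw [pullback.lift_snd_assoc, φ.comm_s]
      have sq₂ : IsPullback G'.s l φ.fU (q ≫ G.s) := by
        have he : ∀ c : PullbackCone φ.fU (q ≫ G.s), (c.snd ≫ pullback.fst φ.fU G.t) ≫ G'.pU = c.fst ≫ G'.pU := by
          intro c
          rw [← φ.fU_over, ← Category.assoc, ← Category.assoc c.fst, c.condition, Category.assoc c.snd, pullback.condition]
          simp only [q, Category.assoc, G.t_over, G.s_over]
        have hj : ∀ c : PullbackCone φ.fU (q ≫ G.s),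
            (c.snd ≫ q) ≫ G.j = pullback.lift (c.snd ≫ pullback.fst φ.fU G.t) c.fst (he c) ≫ φ.prodMap := by
          intro c
          apply pullback.hom_ext
          · simp [q, AlgSp.GroupoidSp.Hom.prodMap, pullback.map, pullback.lift_fst, pullback.condition]
          · simp [q, AlgSp.GroupoidSp.Hom.prodMap, pullback.map, pullback.lift_snd, c.condition]
        refine IsPullback.of_isLimit' ⟨w⟩ (PullbackCone.IsLimit.mk w (fun c => hφ.lift _ _ (hj c)) (fun c => ?_)
          (fun c => ?_) (fun c m h₁ h₂ => ?_))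
        · rw [← G'.j_snd, hφ.lift_snd_assoc, pullback.lift_snd]
        · apply pullback.hom_ext
          · rw [Category.assoc, pullback.lift_fst, ← G'.j_fst, hφ.lift_snd_assoc, pullback.lift_fst]
          · rw [Category.assoc, pullback.lift_snd, hφ.lift_fst]
        · refine hφ.hom_ext ?_ (pullback.hom_ext ?_ ?_)
          · rw [hφ.lift_fst, ← h₂, Category.assoc]; simp [q, l, pullback.lift_snd]
          · rw [hφ.lift_snd, pullback.lift_fst, ← h₂, Category.assoc, Category.assoc, G'.j_fst, pullback.lift_fst]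
          · rw [hφ.lift_snd, pullback.lift_snd, ← h₁, Category.assoc, G'.j_snd]
      have hfR : φ.fR = l ≫ q := (pullback.lift_snd _ _ _).symm
      have hopen : ∀ {A B C : AlgSp.Sp S} (a : A ⟶ B) (b : B ⟶ C),
          AlgSp.IsOpenMor a → AlgSp.IsOpenMor b → AlgSp.IsOpenMor (a ≫ b) := fun a b ha hb => by
        show IsOpenMap (AlgSp.Points.map (a ≫ b))
        rw [show AlgSp.Points.map (a ≫ b) = AlgSp.Points.map b ∘ AlgSp.Points.map a from funext fun x => AlgSp.Points.map_comp _ _ x]
        exact hb.comp ha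
      refine ⟨?_, ?_, hfU', ?_⟩
      · simp only [List.mem_cons, List.not_mem_nil, or_false, forall_eq_or_imp, forall_eq]
        exact ⟨tofield hR hU eU G.s hneR, tofield hR hU eU G.t hneR⟩
      · simp only [List.mem_cons, List.not_mem_nil, or_false, forall_eq_or_imp, forall_eq]
        exact ⟨tofield hR' hU' eU' G'.s hneR', tofield hR' hU' eU' G'.t hneR'⟩
      · rw [hfR]
        refine ⟨fun y => ?_, locP_comp hR' hP hR (locP_base_change hU' hU hP sq₂ hfU'.2.1) (locP_base_change hU' hU hR sq₁ hfU'.2.1),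
          univSp_comp hopen hP hR (univSp_base_change sq₂ hfU'.2.2) (univSp_base_change sq₁ hfU'.2.2),
          isAffineMor_comp (isAffineMor_base_change sq₂ haU) (isAffineMor_base_change sq₁ haU)⟩
        obtain ⟨z, hz⟩ := surjective_map_base_change sq₁ hfU'.1 y
        obtain ⟨x, hx⟩ := surjective_map_base_change sq₂ hfU'.1 z
        exact ⟨x, by rw [AlgSp.Points.map_comp, hx]; exact hz⟩

end Groth.Agent.S10132
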