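import Groth.Statements.S10138
import Groth.Agent.AlgSpBoot.BaseCover

set_option autoImplicit false
universe u
open CategoryTheory CategoryTheory.Limits AlgebraicGeometry
open AlgSp

namespace Groth.Agent.S10138

/-- Let `{X_i ⟶ X}` be an fppf covering of algebraic spaces over `S`. Then every descent datum for
algebraic spaces relative to it is effective; concretely, an fppf sheaf `F ⟶ X` all of whose base
changes `F ×_X X_i` are algebraic spaces is an algebraic space. (The published statement asks the
index set to be countable, which is only a size condition and may be ignored; this row allows any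
index type in the universe of `S`. The published part (2), which asks the `Y_i ⟶ X_i` to be of
finite type instead, is then a special case of this row.) -/
theorem result (S : Scheme.{u}) (X : AlgSp.Space S) {ι : Type u}
    (Xi : ι → AlgSp.Space S) (g : ∀ i, (Xi i).obj ⟶ X.obj) (hcov : AlgSp.IsFppfCover (fun i => (Xi i).obj) g)
    (F : AlgSp.Sp S) (p : F ⟶ X.obj)
    (h : ∀ (i : ι) (P : AlgSp.Sp S) (fst : P ⟶ F) (snd : P ⟶ (Xi i).obj), IsPullback fst snd p (g i) → AlgSp.IsAlgSpace P) :
    AlgSp.IsAlgSpace F := by
  open Groth.Agent.AlgSpc Groth.Agent.AlgSpBoot in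
    choose V a ha has using fun i => (Xi i).property.atlas
    have hfl : ∀ i, RepWith (@Flat ⊓ @LocallyOfFinitePresentation) (a i ≫ g i) := fun i => by
      have h1 : LocP @Flat (a i ≫ g i) := locP_comp (IsAlgSpace.yon_obj _) (Xi i).property X.property
        (locP_of_repWith (fun e f he hf => MorphismProperty.comp_mem @Flat e f
          (haveI : Etale e := he; inferInstance) hf)
          (repWith_mono (P := @Etale) (Q := @Flat) (fun _ _ f (h : Etale f) => inferInstance) (ha i))) (hcov.1 i).1
      have h2 : LocP @LocallyOfFinitePresentation (a i ≫ g i) := locP_comp (IsAlgSpace.yon_obj _) (Xi i).property X.property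
        (locP_of_repWith (fun e f he hf => MorphismProperty.comp_mem @LocallyOfFinitePresentation e f
          (haveI : Etale e := he; inferInstance) hf)
          (repWith_mono (P := @Etale) (Q := @LocallyOfFinitePresentation) (fun _ _ f (h : Etale f) => inferInstance) (ha i))) (hcov.1 i).2
      exact repWith_inf
        (Groth.Agent.AlgSpFormal.repWith_of_locP (IsAlgSpace.yon_obj _) X.property (X.property.representable_from_yon _) h1)
        (Groth.Agent.AlgSpFormal.repWith_of_locP (IsAlgSpace.yon_obj _) X.property (X.property.representable_from_yon _) h2)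
    obtain ⟨W, j, w, hj, hjs, hjw, hw⟩ := exists_sigma_cover X.property V (fun i => a i ≫ g i) hfl fun x => by
      obtain ⟨i, y, rfl⟩ := hcov.2 x
      obtain ⟨v, rfl⟩ := surjective_ofPt (has i) y
      exact ⟨i, v, (Points.map_ofPt _ _ _).symm⟩
    refine isAlgSpace_of_cover_baseChange hw (IsPullback.of_hasPullback p w)
      (isAlgSpace_pullback_cover p V j hj hjs w fun i => ?_)
    refine (fun y (hy : y = a i ≫ g i) => ?_ : ∀ y, y = a i ≫ g i → IsAlgSpace (pullback p y)) _ (hjw i)
    subst hy
    exact isAlgSpace_of_isPullback
      (h i _ _ _ (IsPullback.of_hasPullback p (g i))) (Xi i).property (IsAlgSpace.yon_obj _)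
      (IsPullback.of_right (h₁₁ := pullback.lift (pullback.fst p (a i ≫ g i)) (pullback.snd p (a i ≫ g i) ≫ a i)
        (by rw [pullback.condition, Category.assoc])) (v₁₁ := pullback.snd p (a i ≫ g i)) (h₂₁ := a i)
        (by rw [pullback.lift_fst]; exact IsPullback.of_hasPullback p (a i ≫ g i)) (pullback.lift_snd _ _ _)
        (IsPullback.of_hasPullback p (g i)))

end Groth.Agent.S10138
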