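import Groth.Statements.S10139
import Groth.Agent.AlgSpBoot.QfSlice

set_option autoImplicit false
universe u
open CategoryTheory CategoryTheory.Limits AlgebraicGeometry
open AlgSp

namespace Groth.Agent.S10139

/-- Take an equivalence relation `j : R ⟶ U ×_S U` of schemes over `S`, with `s, t` flat and locally of
finite presentation. Then there exist an equivalence relation `j' : R' ⟶ U' ×_S U'` on schemes over
`S` with `s', t'` flat, locally of finite presentation and locally quasi-finite, and a morphism `U'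
⟶ U` mapping `R'` into `R` which induces an isomorphism of fppf quotient sheaves `U'/R' ⟶ U/R`. -/
theorem result (S : Scheme.{u}) {R U : Over S} (s t : R ⟶ U)
    (h : AlgSp.IsEqvRel s t) [Flat s.left] [LocallyOfFinitePresentation s.left]
    [Flat t.left] [LocallyOfFinitePresentation t.left] :
    ∃ (R' U' : Over S) (s' t' : R' ⟶ U') (g : U' ⟶ U) (r : R' ⟶ R)
      (ψ : QuotSh.quot Scheme.fppfPrecoverage s' t' ⟶ QuotSh.quot Scheme.fppfPrecoverage s t),
      AlgSp.IsEqvRel s' t' ∧ r ≫ s = s' ≫ g ∧ r ≫ t = t' ≫ g ∧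
      Flat s'.left ∧ LocallyOfFinitePresentation s'.left ∧ LocallyQuasiFinite s'.left ∧
      Flat t'.left ∧ LocallyOfFinitePresentation t'.left ∧ LocallyQuasiFinite t'.left ∧
      QuotSh.quotπ Scheme.fppfPrecoverage s' t' ≫ ψ = QuotSh.repMap Scheme.fppfPrecoverage g ≫ QuotSh.quotπ Scheme.fppfPrecoverage s t ∧ IsIso ψ := by
  open Groth.Agent.AlgSpc Groth.Agent.AlgSpBoot in
    have sq := isPullback_quotMap h
    obtain ⟨U', g, hA, hsurj⟩ := exists_qf_cover (quotMap s t) sq
    let q' := (yon S).map g ≫ quotMap s t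
    obtain ⟨R', fst, s', sqR⟩ := exists_sq hA.1 q'
    let t' : R' ⟶ U' := pre fst
    have ht' : (yon S).map t' = fst := map_pre fst
    rw [← ht'] at sqR
    obtain ⟨⟨hs₁, hs₂⟩, hs₃⟩ := hA.2 _ _ _ sqR
    obtain ⟨⟨ht₁, ht₂⟩, ht₃⟩ := hA.2 _ _ _ sqR.flip
    haveI : Sheaf.IsLocallySurjective q' := Groth.Agent.AlgSpc.isLocallySurjective_of_repWith
      (repWith_mono (fun _ _ _ h => h.1.1) hA) (repWith_mono (fun _ _ _ h => h.1.2) hA) hsurj
    obtain ⟨ψ, hψ, hiso⟩ := exists_quot_iso q' sqR
    have hR' : AlgSp.IsEqvRel s' t' := by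
      refine ⟨fun T a b h₁ h₂ => (yon S).map_injective (sqR.hom_ext (by simp [← Functor.map_comp, h₁]) (by simp [← Functor.map_comp, h₂])),
        fun T => ?_⟩
      have key : ∀ a b : T ⟶ U', (∃ r : T ⟶ R', r ≫ t' = a ∧ r ≫ s' = b) ↔
          (yon S).map a ≫ q' = (yon S).map b ≫ q' := fun a b => by
        refine ⟨?_, fun e => ⟨pre (sqR.lift _ _ e), (yon S).map_injective (by simp), (yon S).map_injective (by simp)⟩⟩
        rintro ⟨r, rfl, rfl⟩
        rw [Functor.map_comp, Functor.map_comp, Category.assoc, Category.assoc]; exact congrArg _ sqR.w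
      exact ⟨fun a => (key a a).2 rfl, fun e => (key _ _).2 ((key _ _).1 e).symm,
        fun e e' => (key _ _).2 (((key _ _).1 e).trans ((key _ _).1 e'))⟩
    have hw : (yon S).map (t' ≫ g) ≫ quotMap s t = (yon S).map (s' ≫ g) ≫ quotMap s t := by
      simpa only [q', Functor.map_comp, Category.assoc] using sqR.w
    refine ⟨R', U', s', t', g, pre (sq.lift _ _ hw), ψ, hR', (yon S).map_injective (by simp),
      (yon S).map_injective (by simp), hs₁, hs₂, hs₃, ht₁, ht₂, ht₃, ?_, hiso⟩
    rw [← cancel_epi (QuotSh.repIsoUliftYoneda Scheme.fppfPrecoverage U').inv, ← Category.assoc, ← Category.assoc,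
      ← repIso_inv_naturality, Category.assoc]
    exact hψ

end Groth.Agent.S10139
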