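import Groth.Statements.S10141
import Groth.Agent.AlgSpBoot.QuotRestrict

set_option autoImplicit false
universe u
open CategoryTheory CategoryTheory.Limits AlgebraicGeometry
open AlgSp

namespace Groth.Agent.S10141

/-- Let `(U, R, s, t, c)` be a groupoid scheme over `S` and `g : U' ⟶ U` a morphism such that the
composite `h : U' ×_{g, U, t} R ⟶ R ⟶ U` of the projection with `s` has open image `W ⊂ U` and `h :
U' ×_{g, U, t} R ⟶ W` is a surjection of fppf sheaves. Then for the restriction `R' = R|_{U'}` the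
map of fppf quotient sheaves `U'/R' ⟶ U/R` is representable and an open immersion. -/
theorem result (S : Scheme.{u}) (G : Grpd.GroupoidScheme S)
    (U' : Scheme.{u}) (g : U' ⟶ G.U) (W : G.U.Opens)
    (hW : (W : Set ↥G.U) = Set.range ⇑(pullback.snd g G.t ≫ G.s))
    (hlift : pullback g G.t ⟶ ↑W) (hh : hlift ≫ W.ι = pullback.snd g G.t ≫ G.s)
    (hsurj : Sheaf.IsLocallySurjective ((AlgSp.yon S).map
      (Over.homMk hlift ((Category.assoc _ _ _).symm.trans (congrArg (· ≫ G.pU) hh)) :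
        Over.mk ((pullback.snd g G.t ≫ G.s) ≫ G.pU) ⟶ Over.mk (W.ι ≫ G.pU))))
    (R' : Over S) (s' t' : R' ⟶ Over.mk (g ≫ G.pU)) (r : R' ⟶ Over.mk G.pR)
    (hsq : IsPullback (prod.lift t' s') r
      (prod.map (Over.homMk g rfl : Over.mk (g ≫ G.pU) ⟶ Over.mk G.pU) (Over.homMk g rfl : Over.mk (g ≫ G.pU) ⟶ Over.mk G.pU))
      (prod.lift (Over.homMk G.t G.t_over : Over.mk G.pR ⟶ Over.mk G.pU) (Over.homMk G.s G.s_over : Over.mk G.pR ⟶ Over.mk G.pU)))
    (ψ : QuotSh.quot Scheme.fppfPrecoverage s' t' ⟶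
      QuotSh.quot Scheme.fppfPrecoverage (Over.homMk G.s G.s_over : Over.mk G.pR ⟶ Over.mk G.pU) (Over.homMk G.t G.t_over : Over.mk G.pR ⟶ Over.mk G.pU))
    (hψ : QuotSh.quotπ Scheme.fppfPrecoverage s' t' ≫ ψ =
      QuotSh.repMap Scheme.fppfPrecoverage (Over.homMk g rfl : Over.mk (g ≫ G.pU) ⟶ Over.mk G.pU) ≫ QuotSh.quotπ Scheme.fppfPrecoverage _ _) :
    AlgSp.RepWith @IsOpenImmersion ψ := by
  open Groth.Agent.AlgSpc Groth.Agent.AlgSpBoot in
    let t : Over.mk G.pR ⟶ Over.mk G.pU := Over.homMk G.t G.t_over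
    let s : Over.mk G.pR ⟶ Over.mk G.pU := Over.homMk G.s G.s_over
    let g₁ : Over.mk (g ≫ G.pU) ⟶ Over.mk G.pU := Over.homMk g rfl
    have sqg : IsPullback (pullback.fst g₁ t).left (pullback.snd g₁ t).left g G.t :=
      FppfDescent.isPullback_forget (IsPullback.of_hasPullback g₁ t)
    have sqst : IsPullback (pullback.fst s t).left (pullback.snd s t).left G.s G.t :=
      FppfDescent.isPullback_forget (IsPullback.of_hasPullback s t)
    let e : Over.mk G.pU ⟶ Over.mk G.pR := Over.homMk G.e (by show G.e ≫ G.pR = G.pU; rw [← G.s_over, ← Category.assoc, G.e_s, Category.id_comp])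
    let i : Over.mk G.pR ⟶ Over.mk G.pR := Over.homMk G.i (by show G.i ≫ G.pR = G.pR; conv_lhs => rw [← G.s_over, ← Category.assoc, G.i_s, G.t_over])
    obtain ⟨m, hm₁, hm₂⟩ : ∃ m : pullback s t ⟶ Over.mk G.pR, m ≫ t = pullback.fst s t ≫ t ∧ m ≫ s = pullback.snd s t ≫ s := by
      have w := sqst.w
      refine ⟨Over.homMk (pullback.lift _ _ w ≫ G.c) ?_, Over.OverMorphism.ext ?_, Over.OverMorphism.ext ?_⟩
      · show (pullback.lift _ _ w ≫ G.c) ≫ G.pR = _
        refine (congrArg ((pullback.lift _ _ w ≫ G.c) ≫ ·) G.s_over.symm).trans ?_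
        rw [← Category.assoc, G.comp_s _ _ w]
        exact Over.w (pullback.snd s t ≫ s)
      · exact G.comp_t _ _ w
      · exact G.comp_s _ _ w
    refine repWith_isOpenImmersion_restrict hsq ⟨e, Over.OverMorphism.ext G.e_t, Over.OverMorphism.ext G.e_s⟩
      ⟨i, Over.OverMorphism.ext G.i_t, Over.OverMorphism.ext G.i_s⟩ ⟨m, hm₁, hm₂⟩ W ?_ (fun {T} u hu => ?_) ψ ?_
    · have hsn : (pullback.snd g₁ t).left = sqg.isoPullback.hom ≫ pullback.snd g G.t := sqg.isoPullback_hom_snd.symm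
      rw [hW]
      show Set.range ⇑(pullback.snd g G.t ≫ G.s) = Set.range ⇑((pullback.snd g₁ t).left ≫ G.s)
      rw [hsn, Category.assoc]
      refine Set.ext fun x => ⟨fun ⟨z, hz⟩ => ?_, fun ⟨z, hz⟩ => ⟨sqg.isoPullback.hom z, ?_⟩⟩
      · obtain ⟨z', rfl⟩ := sqg.isoPullback.hom.surjective z
        exact ⟨z', hz⟩
      · exact hz
    · haveI := hsurj
      obtain ⟨u', hu'⟩ : ∃ u' : T ⟶ Over.mk (W.ι ≫ G.pU), u' ≫ (Over.homMk W.ι rfl : Over.mk (W.ι ≫ G.pU) ⟶ Over.mk G.pU) = u :=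
        Groth.Agent.AlgSpLoc.exists_openSub_lift (T := Over.mk G.pU) W u hu
      obtain ⟨T', c, z, h₁, h₂, h₃, hz⟩ := exists_fppf_lift ((yon S).map (Over.homMk hlift ((Category.assoc _ _ _).symm.trans (congrArg (· ≫ G.pU) hh)) : Over.mk ((pullback.snd g G.t ≫ G.s) ≫ G.pU) ⟶ Over.mk (W.ι ≫ G.pU))) ((yon S).map u')
      rw [← Functor.map_comp, ← Functor.map_comp] at hz
      have hz' := congrArg CommaMorphism.left ((yon S).map_injective hz)
      have hwp : sqg.isoPullback.inv ≫ (pullback g₁ t).hom = (pullback.snd g G.t ≫ G.s) ≫ G.pU := by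
        rw [← Over.w (pullback.snd g₁ t ≫ s), ← Category.assoc]
        show (sqg.isoPullback.inv ≫ (pullback.snd g₁ t).left ≫ G.s) ≫ G.pU = _
        rw [sqg.isoPullback_inv_snd_assoc]
      refine ⟨T', c, z ≫ (Over.homMk sqg.isoPullback.inv hwp : Over.mk ((pullback.snd g G.t ≫ G.s) ≫ G.pU) ⟶ pullback g₁ t), h₁, h₂, h₃, Over.OverMorphism.ext ?_⟩
      rw [← hu']
      show (z.left ≫ sqg.isoPullback.inv) ≫ (pullback.snd g₁ t).left ≫ G.s = c.left ≫ u'.left ≫ W.ι
      refine Eq.trans ?_ ((congrArg (· ≫ W.ι) hz'.symm).trans (Category.assoc _ _ _))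
      simp only [Category.assoc]
      refine (congrArg (z.left ≫ ·) ((sqg.isoPullback_inv_snd_assoc G.s).trans hh.symm)).trans ?_
      exact (Category.assoc z.left hlift W.ι).symm
    · dsimp only [quotMap]
      rw [Category.assoc, hψ, ← Category.assoc, ← Category.assoc, repIso_inv_naturality]

end Groth.Agent.S10141
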