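import Groth.Statements.S10145
import Mathlib.CategoryTheory.Limits.Shapes.Pullback.HasPullback

set_option autoImplicit false
universe u
open CategoryTheory CategoryTheory.Limits AlgebraicGeometry
open AlgSp AlgSp.GroupoidSp

namespace Groth.Agent.S10145

/-- Let `(U, R, s, t, c)` be a groupoid in algebraic spaces over `B` whose object space is `U = Spec k`,
and let `r : Spec k ⟶ R` be such that `s ∘ r` and `t ∘ r` are automorphisms of `Spec k`; write `a =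
r ∘ (s ∘ r)⁻¹`, so that `s ∘ a = id` and `t ∘ a` is an automorphism. Then `R ⟶ R`, `f ↦ c(a ∘ t ∘ f,
f)`, is an automorphism of `R` mapping `e` to `a` (the point `r`). -/
theorem result (S : Scheme.{u}) (B : AlgSp.Sp S) (hB : AlgSp.IsAlgSpace B)
    (G : AlgSp.GroupoidSp B) (hR : AlgSp.IsAlgSpace G.R) (k : Type u) [Field k]
    (σ : Spec (CommRingCat.of k) ⟶ S) (eU : G.U ≅ (AlgSp.yon S).obj (Over.mk σ))
    (a : G.U ⟶ G.R) (ha : a ≫ G.s = 𝟙 G.U) [IsIso (a ≫ G.t)] :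
    IsIso (pullback.lift (G.t ≫ a) (𝟙 G.R) (((Category.assoc _ _ _).trans (congrArg (G.t ≫ ·) ha)).trans ((Category.comp_id _).trans (Category.id_comp _).symm)) ≫ G.c) ∧
      G.e ≫ (pullback.lift (G.t ≫ a) (𝟙 G.R) (((Category.assoc _ _ _).trans (congrArg (G.t ≫ ·) ha)).trans ((Category.comp_id _).trans (Category.id_comp _).symm)) ≫ G.c) = a := by
  have hL : ∀ {T : AlgSp.Sp S} (x y x' y' : T ⟶ G.R) (h : x ≫ G.s = y ≫ G.t) (h' : x' ≫ G.s = y' ≫ G.t),
      x = x' → y = y' → pullback.lift x y h ≫ G.c = pullback.lift x' y' h' ≫ G.c := by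
    intro T x y x' y' h h' e₁ e₂
    subst e₁ e₂
    rfl
  have hcomp : ∀ {T : AlgSp.Sp S} (f : T ⟶ G.R) (x y : G.R ⟶ G.R) (h : x ≫ G.s = y ≫ G.t),
      f ≫ pullback.lift x y h ≫ G.c =
        pullback.lift (f ≫ x) (f ≫ y) (by rw [Category.assoc, Category.assoc, h]) ≫ G.c := by
    intro T f x y h
    rw [← Category.assoc]
    congr 1
    apply pullback.hom_ext <;> simp [pullback.lift_fst, pullback.lift_snd]
  have h₁ : (G.t ≫ a) ≫ G.s = 𝟙 G.R ≫ G.t := by rw [Category.assoc, ha, Category.comp_id, Category.id_comp]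
  set L := pullback.lift (G.t ≫ a) (𝟙 G.R) h₁ ≫ G.c with hLdef
  let β := G.t ≫ inv (a ≫ G.t) ≫ a
  have hβ : β ≫ G.t = G.t := by simp [β]
  have h₂ : (β ≫ G.i) ≫ G.s = 𝟙 G.R ≫ G.t := by rw [Category.assoc, G.i_s, hβ, Category.id_comp]
  set M := pullback.lift (β ≫ G.i) (𝟙 G.R) h₂ ≫ G.c with hMdef
  have hLt : L ≫ G.t = G.t ≫ a ≫ G.t := by rw [hLdef, G.comp_t, Category.assoc]
  have hMt : M ≫ G.t = G.t ≫ inv (a ≫ G.t) := by
    rw [hMdef, G.comp_t, Category.assoc, G.i_t]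
    simp [β, ha]
  have hLα : L ≫ β = G.t ≫ a := by
    simp only [β]
    rw [← Category.assoc, hLt, Category.assoc, IsIso.hom_inv_id_assoc (a ≫ G.t)]
  have hMα : M ≫ G.t ≫ a = β := by
    rw [← Category.assoc, hMt, Category.assoc]
  refine ⟨⟨M, ?_, ?_⟩, ?_⟩
  · conv_lhs => rw [hMdef]
    rw [hcomp]
    rw [hL _ _ ((G.t ≫ a) ≫ G.i) L _ (by rw [Category.assoc, G.i_s, hLt, Category.assoc])
      (by rw [← Category.assoc, hLα]) (Category.comp_id _)]
    rw [hL _ _ ((G.t ≫ a) ≫ G.i) (pullback.lift (G.t ≫ a) (𝟙 G.R) h₁ ≫ G.c) _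
      (by rw [Category.assoc, G.i_s, G.comp_t]) rfl hLdef, ← G.assoc ((G.t ≫ a) ≫ G.i) (G.t ≫ a) (𝟙 G.R)
      (by rw [Category.assoc, G.i_s]) h₁]
    rw [hL _ _ (G.t ≫ G.e) (𝟙 G.R) _ (by rw [Category.assoc, G.e_s, Category.comp_id, Category.id_comp])
      (by rw [G.i_comp, Category.assoc, reassoc_of% ha]) rfl]
    have := G.e_comp (𝟙 G.R)
    simpa using this
  · conv_lhs => rw [hLdef]
    rw [hcomp]
    rw [hL _ _ β (pullback.lift (β ≫ G.i) (𝟙 G.R) h₂ ≫ G.c) _ (((G.comp_t _ _ _).trans ((Category.assoc β G.i G.t).trans (congrArg (β ≫ ·) G.i_t))).symm)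
      hMα ((Category.comp_id _).trans hMdef), ← G.assoc β (β ≫ G.i) (𝟙 G.R) ((congrArg (β ≫ ·) G.i_t).symm.trans (Category.assoc β G.i G.t).symm) h₂]
    rw [hL _ _ (G.t ≫ G.e) (𝟙 G.R) _ (by rw [Category.assoc, G.e_s, Category.comp_id, Category.id_comp])
      (by rw [G.comp_i, ← Category.assoc, hβ]) rfl]
    have := G.e_comp (𝟙 G.R)
    simpa using this
  · rw [hcomp]
    rw [hL _ _ a (a ≫ G.s ≫ G.e) _ (by rw [Category.assoc, Category.assoc, G.e_t, Category.comp_id])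
      (by rw [← Category.assoc, G.e_t, Category.id_comp]) (by rw [Category.comp_id, reassoc_of% ha])]
    exact G.comp_e a

end Groth.Agent.S10145
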