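import Groth.Statements.S10148
import Groth.Agent.LinTopLib.Basic
import Mathlib.RingTheory.Henselian

set_option autoImplicit false
universe u
open LinTop

namespace Groth.Agent.S10148

/-- Let A be a weakly admissible topological ring (linearly topologized, Hausdorff and complete, having
a weak ideal of definition) and let I be a weak ideal of definition of A, that is, an open ideal
consisting of topologically nilpotent elements. Then (A, I) is a henselian pair. -/
theorem result
    (A : Type u) [CommRing A] [UniformSpace A] [IsUniformAddGroup A] [IsTopologicalRing A]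
    (hA : LinTop.IsWeaklyAdmissible A) (I : Ideal A) (hI : LinTop.IsWeakIdealOfDefinition A I) :
    HenselianRing A I := by
  have := hA.1.1
  have := hA.2.1
  have := hA.2.2
  have key : ∀ x : A, IsTopologicallyNilpotent x → IsAdicComplete (Ideal.span {x}) A := fun x hx =>
    Groth.Agent.LinTopLib.isAdicComplete_of_fg (Submodule.fg_span_singleton x) fun U hU => by
      obtain ⟨W, hW, hWU⟩ := Groth.Agent.LinTopLib.exists_isOpen_le hU
      obtain ⟨n, hn⟩ := Groth.Agent.LinTopLib.isTopologicallyNilpotent_iff.mp hx W hW
      refine ⟨n, Set.Subset.trans ?_ hWU⟩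
      rw [Ideal.span_singleton_pow]
      exact (Ideal.span_singleton_le_iff_mem _).mpr hn
  have hjac : I ≤ Ideal.jacobson ⊥ := fun x hx =>
    have := key x (hI.2 x hx)
    IsAdicComplete.le_jacobson_bot (Ideal.span {x}) (Ideal.mem_span_singleton_self x)
  refine ⟨hjac, fun f hf a₀ h0 hu => ?_⟩
  have hunit : IsUnit (f.derivative.eval a₀) := by
    obtain ⟨q, hq⟩ := isUnit_iff_exists_inv.mp hu
    obtain ⟨g, rfl⟩ := Ideal.Quotient.mk_surjective q
    rw [← map_mul, ← map_one (Ideal.Quotient.mk I), Ideal.Quotient.eq] at hq
    have := Ideal.mem_jacobson_bot.mp (hjac hq) 1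
    rw [mul_one, sub_add_cancel] at this
    exact isUnit_of_mul_isUnit_left this
  have := key _ (hI.2 _ h0)
  obtain ⟨a, ha, haI⟩ := HenselianRing.is_henselian (I := Ideal.span {f.eval a₀}) f hf a₀
    (Ideal.mem_span_singleton_self _) (hunit.map _)
  exact ⟨a, ha, (Ideal.span_singleton_le_iff_mem _).mpr h0 haI⟩

end Groth.Agent.S10148
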