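import Groth.Statements.S10149
import Groth.Agent.LinTopLib.Basic

set_option autoImplicit false
universe u v
open LinTop

namespace Groth.Agent.S10149

/-- In a linearly topologized ring B the ideal of topologically nilpotent elements is closed. Moreover,
if φ : A → B is a continuous homomorphism of linearly topologized rings and I is an ideal of A
consisting of topologically nilpotent elements, then every element of the closure of the ideal φ(I)B
is topologically nilpotent. -/
theorem result
    (A : Type u) [CommRing A] [TopologicalSpace A] [IsTopologicalRing A] [IsLinearTopology A A]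
    (B : Type v) [CommRing B] [TopologicalSpace B] [IsTopologicalRing B] [IsLinearTopology B B] :
    IsClosed ((topologicalNilradical B : Ideal B) : Set B) ∧
      ∀ (φ : A →+* B), Continuous φ → ∀ I : Ideal A, (∀ f ∈ I, IsTopologicallyNilpotent f) →
        ∀ g ∈ (I.map φ).closure, IsTopologicallyNilpotent g := by
  have key : ∀ x ∈ closure ((topologicalNilradical B : Ideal B) : Set B), IsTopologicallyNilpotent x := by
    intro x hx
    rw [Groth.Agent.LinTopLib.isTopologicallyNilpotent_iff]
    intro U hU
    obtain ⟨y, hy, u, hu, rfl⟩ := Submodule.mem_sup.mp (Groth.Agent.LinTopLib.mem_closure_iff.mp hx U hU)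
    obtain ⟨n, hn⟩ := Groth.Agent.LinTopLib.isTopologicallyNilpotent_iff.mp
      (IsTopologicallyNilpotent.mem_topologicalNilradical_iff.mp hy) U hU
    refine ⟨n + 1, U.add_pow_mem_of_pow_mem_of_le hn ((pow_one u).symm ▸ hu) ?_⟩
    omega
  refine ⟨isClosed_of_closure_subset fun x hx =>
    IsTopologicallyNilpotent.mem_topologicalNilradical_iff.mpr (key x hx), fun φ hφ I hI g hg => ?_⟩
  refine key g (closure_mono (?_ : I.map φ ≤ topologicalNilradical B) hg)
  exact Ideal.map_le_iff_le_comap.mpr fun f hf =>
    IsTopologicallyNilpotent.mem_topologicalNilradical_iff.mpr ((hI f hf).map hφ)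

end Groth.Agent.S10149
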