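import Groth.Statements.S10150
import Groth.Agent.LinTopLib.Basic

set_option autoImplicit false
universe u v
open LinTop

namespace Groth.Agent.S10150

/-- Let φ : A → B be a continuous ring homomorphism between weakly pre-admissible linearly topologized
rings. Then φ is taut if and only if, for each weak ideal of definition I of A, the closure of the
ideal generated by φ(I) is again a weak ideal of definition, now of B, and every neighbourhood of 0
in B contains one of these closures. (The published statement takes A and B weakly admissible, that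
is, moreover Hausdorff and complete; completeness plays no role and this row omits it.) -/
theorem result
    (A : Type u) [CommRing A] [TopologicalSpace A] [IsTopologicalRing A] [IsLinearTopology A A]
    (B : Type v) [CommRing B] [TopologicalSpace B] [IsTopologicalRing B] [IsLinearTopology B B]
    (hA : LinTop.IsWeaklyPreadmissible A) (hB : LinTop.IsWeaklyPreadmissible B)
    (φ : A →+* B) (hφ : Continuous φ) :
    LinTop.IsTaut φ ↔
      ((∀ I : Ideal A, LinTop.IsWeakIdealOfDefinition A I →
          LinTop.IsWeakIdealOfDefinition B (I.map φ).closure) ∧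
        ∀ U ∈ nhds (0 : B), ∃ I : Ideal A, LinTop.IsWeakIdealOfDefinition A I ∧
          ((I.map φ).closure : Set B) ⊆ U) := by
  constructor
  · intro h
    refine ⟨fun I hI => ⟨h.2.1 I hI.1, fun g hg => ?_⟩, fun U hU => ?_⟩
    · rw [Groth.Agent.LinTopLib.isTopologicallyNilpotent_iff]
      intro W hW
      have hle : I.map φ ≤ topologicalNilradical B := Ideal.map_le_iff_le_comap.mpr fun f hf =>
        IsTopologicallyNilpotent.mem_topologicalNilradical_iff.mpr ((hI.2 f hf).map hφ)
      obtain ⟨y, hy, u, hu, rfl⟩ :=
        Submodule.mem_sup.mp (Groth.Agent.LinTopLib.mem_closure_iff.mp hg W hW)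
      obtain ⟨n, hn⟩ := Groth.Agent.LinTopLib.isTopologicallyNilpotent_iff.mp
        (IsTopologicallyNilpotent.mem_topologicalNilradical_iff.mp (hle hy)) W hW
      refine ⟨n + 1, W.add_pow_mem_of_pow_mem_of_le hn ((pow_one u).symm ▸ hu) ?_⟩
      omega
    · obtain ⟨I', hI', hI'U⟩ := h.2.2 U hU
      obtain ⟨-, I₀, hI₀, hnil⟩ := hA
      exact ⟨I' ⊓ I₀, ⟨hI'.inter hI₀, fun f hf => hnil f (inf_le_right (a := I') hf)⟩,
        (closure_mono (Ideal.map_mono inf_le_left)).trans hI'U⟩
  · rintro ⟨h1, h2⟩
    refine ⟨hφ, fun I hI => ?_, fun U hU => ?_⟩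
    · obtain ⟨-, I₀, hI₀, hnil⟩ := hA
      exact Groth.Agent.LinTopLib.isOpen_of_le (I := ((I ⊓ I₀).map φ).closure) (J := (I.map φ).closure)
        (Groth.Agent.LinTopLib.closure_mono (Ideal.map_mono inf_le_left))
        (h1 _ ⟨hI.inter hI₀, fun f hf => hnil f (inf_le_right (a := I) hf)⟩).1
    · obtain ⟨I, hI, hIU⟩ := h2 U hU
      exact ⟨I, hI.1, hIU⟩

end Groth.Agent.S10150
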