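import Groth.Statements.S10152
import Groth.Agent.LinTopLib.Basic

set_option autoImplicit false
universe u v
open LinTop

namespace Groth.Agent.S10152

/-- Let φ : A → B be a taut homomorphism of linearly topologized rings. If A has a countable fundamental
system of open ideals, then so does B (equivalently, the neighbourhood filters of 0 are countably
generated). -/
theorem result
    (A : Type u) [CommRing A] [TopologicalSpace A] [IsTopologicalRing A] [IsLinearTopology A A]
    (B : Type v) [CommRing B] [TopologicalSpace B] [IsTopologicalRing B] [IsLinearTopology B B]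
    (φ : A →+* B) (hφ : LinTop.IsTaut φ) (hA : (nhds (0 : A)).IsCountablyGenerated) :
    (nhds (0 : B)).IsCountablyGenerated := by
  obtain ⟨s, hs⟩ := (nhds (0 : A)).exists_antitone_basis
  choose J hJ hJs using fun n => Groth.Agent.LinTopLib.exists_isOpen_le (hs.1.mem_of_mem (i := n) trivial)
  have hbasis : (nhds (0 : B)).HasBasis (fun _ : ℕ => True)
      (fun n => closure (((J n).map φ : Ideal B) : Set B)) :=
    ⟨fun U => ⟨fun hU => by
      obtain ⟨I, hI, hIU⟩ := hφ.2.2 U hU
      obtain ⟨n, -, hn⟩ := hs.1.mem_iff.mp (Groth.Agent.LinTopLib.mem_nhds_of_isOpen hI)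
      exact ⟨n, trivial, (closure_mono (Ideal.map_mono fun x hx => hn (hJs n hx))).trans hIU⟩,
      fun ⟨n, _, hn⟩ => Filter.mem_of_superset
        ((hφ.2.1 _ (hJ n)).mem_nhds (subset_closure (Ideal.zero_mem _))) hn⟩⟩
  exact hbasis.isCountablyGenerated

end Groth.Agent.S10152
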