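import Groth.Statements.S10153
import Groth.Agent.LinTopLib.Basic

set_option autoImplicit false
universe u v
open LinTop

namespace Groth.Agent.S10153

/-- Let φ : A → B be a taut homomorphism of linearly topologized rings. If A is weakly pre-admissible,
then B is weakly pre-admissible. -/
theorem result
    (A : Type u) [CommRing A] [TopologicalSpace A] [IsTopologicalRing A] [IsLinearTopology A A]
    (B : Type v) [CommRing B] [TopologicalSpace B] [IsTopologicalRing B] [IsLinearTopology B B]
    (φ : A →+* B) (hφ : LinTop.IsTaut φ) (hA : LinTop.IsWeaklyPreadmissible A) :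
    LinTop.IsWeaklyPreadmissible B := by
  obtain ⟨-, I, hI, hnil⟩ := hA
  refine ⟨inferInstance, (I.map φ).closure, hφ.2.1 I hI, fun g hg => ?_⟩
  rw [Groth.Agent.LinTopLib.isTopologicallyNilpotent_iff]
  intro U hU
  have hle : I.map φ ≤ topologicalNilradical B := Ideal.map_le_iff_le_comap.mpr fun f hf =>
    IsTopologicallyNilpotent.mem_topologicalNilradical_iff.mpr ((hnil f hf).map hφ.1)
  obtain ⟨y, hy, u, hu, rfl⟩ := Submodule.mem_sup.mp (Groth.Agent.LinTopLib.mem_closure_iff.mp hg U hU)
  obtain ⟨n, hn⟩ := Groth.Agent.LinTopLib.isTopologicallyNilpotent_iff.mp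
    (IsTopologicallyNilpotent.mem_topologicalNilradical_iff.mp (hle hy)) U hU
  refine ⟨n + 1, U.add_pow_mem_of_pow_mem_of_le hn ((pow_one u).symm ▸ hu) ?_⟩
  omega

end Groth.Agent.S10153
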