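import Groth.Statements.S10155
import Groth.Agent.LinTopLib.Completion

set_option autoImplicit false
universe u v
open LinTop

namespace Groth.Agent.S10155

/-- Let φ : A → B be a taut homomorphism of linearly topologized rings with dense image. Assume A is
Hausdorff and complete with a countable fundamental system of open ideals and B is Hausdorff. Then φ
is surjective and open, so that B is the quotient of A by the closed ideal ker φ with the quotient
topology, and B is complete. -/
theorem result
    (A : Type u) [CommRing A] [UniformSpace A] [IsUniformAddGroup A] [IsTopologicalRing A]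
    [IsLinearTopology A A] [T2Space A] [CompleteSpace A] (hA : (nhds (0 : A)).IsCountablyGenerated)
    (B : Type v) [CommRing B] [UniformSpace B] [IsUniformAddGroup B] [IsTopologicalRing B]
    [IsLinearTopology B B] [T2Space B]
    (φ : A →+* B) (hφ : LinTop.IsTaut φ) (hd : DenseRange φ) :
    Function.Surjective φ ∧ IsOpenQuotientMap φ ∧ CompleteSpace B := by
  obtain ⟨J, hJ, hJb⟩ := (IsLinearTopology.hasBasis_open_ideal (R := A)).exists_antitone_subbasis
  let U : ℕ → AddSubgroup A := fun n => (J n).toAddSubgroup
  have hanti : Antitone U := fun a b h x hx => hJb.antitone h hx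
  have hclosed : ∀ n, IsClosed (U n : Set A) := fun n => (U n).isClosed_of_isOpen (hJ n)
  have hUs : ∀ s ∈ nhds (0 : A), ∃ n, (U n : Set A) ⊆ s := fun s hs => by
    obtain ⟨n, -, hn⟩ := hJb.1.mem_iff.mp hs
    exact ⟨n, hn⟩
  have hVo : ∀ n, IsOpen (closure (φ '' (U n : Set A))) := fun n => by
    have := hφ.2.1 (J n) (hJ n)
    rwa [Groth.Agent.LinTopLib.closure_map_eq_of_denseRange φ hd] at this
  have hV : ∀ n, closure (φ '' (U n : Set A)) ∈ nhds (0 : B) := fun n =>
    (hVo n).mem_nhds (subset_closure ⟨0, (U n).zero_mem, map_zero φ⟩)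
  have hVs : ∀ s ∈ nhds (0 : B), ∃ n, closure (φ '' (U n : Set A)) ⊆ s := fun s hs => by
    obtain ⟨I, hI, hIs⟩ := hφ.2.2 s hs
    obtain ⟨n, hn⟩ := hUs _ (Groth.Agent.LinTopLib.mem_nhds_of_isOpen hI)
    exact ⟨n, (closure_mono (Set.image_subset_iff.mpr fun x hx =>
      Ideal.mem_map_of_mem φ (hn hx))).trans hIs⟩
  have himg : ∀ n, φ '' (U n : Set A) = closure (φ '' (U n : Set A)) := fun n =>
    Set.Subset.antisymm subset_closure fun y hy =>
      Groth.Agent.LinTopLib.mem_image_of_mem_closure φ.toAddMonoidHom hφ.1 U hanti hclosed hUs hV hVs hy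
  let ι : B →+ UniformSpace.Completion B := UniformSpace.Completion.toCompl
  let f : A →+ UniformSpace.Completion B := ι.comp φ.toAddMonoidHom
  have hfc : Continuous f := (UniformSpace.Completion.continuous_coe B).comp hφ.1
  have hV' : ∀ n, closure (f '' (U n : Set A)) ∈ nhds (0 : UniformSpace.Completion B) := fun n => by
    refine Filter.mem_of_superset (Groth.Agent.LinTopLib.closure_image_mem_nhds (hV n))
      (closure_minimal ?_ isClosed_closure)
    refine (image_closure_subset_closure_image (UniformSpace.Completion.continuous_coe B)).trans ?_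
    rw [← Set.image_comp]
    exact subset_rfl
  have hVs' : ∀ s ∈ nhds (0 : UniformSpace.Completion B), ∃ n, closure (f '' (U n : Set A)) ⊆ s :=
    fun s hs => by
      obtain ⟨t, ht, hts⟩ := (Groth.Agent.LinTopLib.hasBasis_completion (nhds (0 : B)).basis_sets).mem_iff.mp hs
      obtain ⟨n, hn⟩ := hVs t ht
      refine ⟨n, (closure_mono ?_).trans hts⟩
      rintro _ ⟨a, ha, rfl⟩
      exact ⟨φ a, hn (subset_closure ⟨a, ha, rfl⟩), rfl⟩
  have hfs : Function.Surjective f := fun z => by
    have hn : (fun w => z - w) ⁻¹' closure (f '' (U 0 : Set A)) ∈ nhds z :=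
      (continuous_const.sub continuous_id).tendsto' z 0 (sub_self z) (hV' 0)
    have hdense : DenseRange f :=
      UniformSpace.Completion.denseRange_coe.comp hd (UniformSpace.Completion.continuous_coe B)
    obtain ⟨_, hw, a, rfl⟩ := mem_closure_iff_nhds.mp (hdense z) _ hn
    obtain ⟨b, -, hb⟩ := Groth.Agent.LinTopLib.mem_image_of_mem_closure f hfc U hanti hclosed hUs hV' hVs' hw
    exact ⟨b + a, by rw [map_add, hb, sub_add_cancel]⟩
  have hsurj : Function.Surjective φ := fun b => by
    obtain ⟨a, ha⟩ := hfs (ι b)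
    exact ⟨a, UniformSpace.Completion.coe_injective B ha⟩
  refine ⟨hsurj, ⟨hsurj, hφ.1, ?_⟩, ?_⟩
  · rw [IsTopologicalAddGroup.isOpenMap_iff_nhds_zero]
    intro s hs
    obtain ⟨n, hn⟩ := hUs _ (Filter.mem_map.mp hs)
    exact Filter.mem_of_superset (hV n) (himg n ▸ Set.image_subset_iff.mpr hn)
  · rw [completeSpace_iff_isComplete_range (UniformSpace.Completion.isUniformInducing_coe B),
      Function.Surjective.range_eq fun z => (hfs z).elim fun a ha => ⟨φ a, ha⟩]
    exact completeSpace_iff_isComplete_univ.mp inferInstance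

end Groth.Agent.S10155
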