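import Groth.Statements.S10156
import Groth.Agent.LinTopLib.Basic

set_option autoImplicit false
universe u v w
open LinTop

namespace Groth.Agent.S10156

/-- Given pre-adic rings A, B, C and continuous ring maps ψ : B → C and φ : A → B, adicness of the
composite A → C implies that ψ is adic. -/
theorem result
    (A : Type u) [CommRing A] [TopologicalSpace A] [IsTopologicalRing A] (hA : LinTop.IsPreadic A)
    (B : Type v) [CommRing B] [TopologicalSpace B] [IsTopologicalRing B] (hB : LinTop.IsPreadic B)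
    (C : Type w) [CommRing C] [TopologicalSpace C] [IsTopologicalRing C] (hC : LinTop.IsPreadic C)
    (φ : A →+* B) (ψ : B →+* C) (hφ : Continuous φ) (hψ : Continuous ψ)
    (h : LinTop.IsAdicHom (ψ.comp φ)) : LinTop.IsAdicHom ψ := by
  obtain ⟨I, hI, hIC⟩ := h
  obtain ⟨J, hJ⟩ := hB
  have := Groth.Agent.LinTopLib.isLinearTopology_of_isAdic hIC
  have hJi := Groth.Agent.LinTopLib.isIdealOfDefinition_of_isAdic hJ
  obtain ⟨n, hn, hle⟩ := Groth.Agent.LinTopLib.exists_pow_le (U := J.comap φ) hI (hJi.1.preimage hφ)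
  rw [← Ideal.map_le_iff_le_comap, Ideal.map_pow] at hle
  have hK : LinTop.IsIdealOfDefinition B (I.map φ ⊔ J) :=
    Groth.Agent.LinTopLib.isIdealOfDefinition_of_pow_le hJi
      (Groth.Agent.LinTopLib.isOpen_of_le le_sup_right hJi.1) hn
      ((Groth.Agent.LinTopLib.sup_pow_le _ _ n).trans (sup_le hle le_rfl))
  refine ⟨_, hK, isAdic_iff.mpr ⟨fun k => ?_, fun U hU => ?_⟩⟩
  · refine Groth.Agent.LinTopLib.isOpen_of_le (Ideal.pow_right_mono ?_ k) ((isAdic_iff.mp hIC).1 k)
    rw [← Ideal.map_map]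
    exact Ideal.map_mono le_sup_left
  · obtain ⟨W, hW, hWU⟩ := Groth.Agent.LinTopLib.exists_isOpen_le hU
    obtain ⟨k, -, hk⟩ := Groth.Agent.LinTopLib.exists_pow_le (U := W.comap ψ) hK (hW.preimage hψ)
    rw [← Ideal.map_le_iff_le_comap, Ideal.map_pow] at hk
    exact ⟨k, fun x hx => hWU (hk hx)⟩

end Groth.Agent.S10156
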