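import Groth.Statements.S10157
import Groth.Agent.LinTopLib.Basic

set_option autoImplicit false
universe u v
open LinTop

namespace Groth.Agent.S10157

/-- A continuous adic homomorphism φ : A → B between pre-adic topological rings is taut. -/
theorem result
    (A : Type u) [CommRing A] [TopologicalSpace A] [IsTopologicalRing A] (hA : LinTop.IsPreadic A)
    (B : Type v) [CommRing B] [TopologicalSpace B] [IsTopologicalRing B] (hB : LinTop.IsPreadic B)
    (φ : A →+* B) (hφ : Continuous φ) (h : LinTop.IsAdicHom φ) : LinTop.IsTaut φ := by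
  obtain ⟨I, hI, hIB⟩ := h
  have hA' := Groth.Agent.LinTopLib.isAdic_of_isPreadic hA hI
  have := Groth.Agent.LinTopLib.isLinearTopology_of_isAdic hIB
  refine ⟨hφ, fun I' hI' => ?_, fun U hU => ?_⟩
  · obtain ⟨n, hn⟩ := (isAdic_iff.mp hA').2 _ (Groth.Agent.LinTopLib.mem_nhds_of_isOpen hI')
    refine Groth.Agent.LinTopLib.isOpen_of_le (I := (I.map φ) ^ n) (J := (I'.map φ).closure) ?_
      ((isAdic_iff.mp hIB).1 n)
    rw [← Ideal.map_pow]
    exact (Ideal.map_mono hn).trans (Groth.Agent.LinTopLib.le_closure _)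
  · obtain ⟨W, hW, hWU⟩ := Groth.Agent.LinTopLib.exists_isOpen_le hU
    obtain ⟨n, hn⟩ := (isAdic_iff.mp hIB).2 _ (Groth.Agent.LinTopLib.mem_nhds_of_isOpen hW)
    refine ⟨I ^ n, (isAdic_iff.mp hA').1 n, fun x hx => hWU ?_⟩
    exact Groth.Agent.LinTopLib.closure_le_of_isOpen ((Ideal.map_pow φ I n).trans_le hn) hW hx

end Groth.Agent.S10157
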