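import Groth.Statements.S10159
import Groth.Agent.LinTopLib.Taut

set_option autoImplicit false
universe u
open LinTop

namespace Groth.Agent.S10159

/-- For a ring A carrying a linear topology, the following four conditions are equivalent: (1) A is
weakly pre-adic; (2) there exist a pre-adic topological ring A' and a taut continuous ring
homomorphism A' → A (A' is taken in the universe of A, which suffices since A with an adic topology
serves); (3) A has an ideal of definition, and for at least one ideal of definition I every closure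
cl(I^n) with n ≥ 1 is open; (4) A has an ideal of definition, and for each of its ideals of
definition I every closure cl(I^n) with n ≥ 1 is open. -/
theorem result
    (A : Type u) [CommRing A] [TopologicalSpace A] [IsTopologicalRing A] [IsLinearTopology A A] :
    List.TFAE [LinTop.IsWeaklyPreadic A,
      ∃ (A' : Type u) (_ : CommRing A') (_ : TopologicalSpace A') (_ : IsTopologicalRing A')
        (φ : A' →+* A), LinTop.IsPreadic A' ∧ LinTop.IsTaut φ,
      LinTop.IsPreadmissible A ∧ ∃ I : Ideal A, LinTop.IsIdealOfDefinition A I ∧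
        ∀ n : ℕ, 0 < n → IsOpen (closure ((I ^ n : Ideal A) : Set A)),
      LinTop.IsPreadmissible A ∧ ∀ I : Ideal A, LinTop.IsIdealOfDefinition A I →
        ∀ n : ℕ, 0 < n → IsOpen (closure ((I ^ n : Ideal A) : Set A))] := by
  tfae_have 1 → 4 := fun h => by
    obtain ⟨I, hI, -⟩ := Groth.Agent.LinTopLib.exists_isIdealOfDefinition_of_isWeaklyPreadic h
    exact ⟨⟨inferInstance, I, hI⟩,
      fun J hJ n _ => Groth.Agent.LinTopLib.isOpen_closure_pow_of_isWeaklyPreadic h hJ n⟩
  tfae_have 4 → 3 := fun ⟨hp, h⟩ => by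
    obtain ⟨I, hI⟩ := hp.2
    exact ⟨hp, I, hI, h I hI⟩
  tfae_have 3 → 1 := fun ⟨_, I, hI, h⟩ =>
    Groth.Agent.LinTopLib.isWeaklyPreadic_of_isIdealOfDefinition hI h
  tfae_have 1 → 2 := fun h => by
    obtain ⟨I, hI, hopen⟩ := Groth.Agent.LinTopLib.exists_isIdealOfDefinition_of_isWeaklyPreadic h
    have hr : @IsTopologicalRing A I.adicTopology _ :=
      @NonarchimedeanRing.toIsTopologicalRing A _ I.adicTopology I.nonarchimedean
    refine ⟨A, inferInstance, I.adicTopology, hr, RingHom.id A, ⟨I, rfl⟩, ?_, fun J hJ => ?_, fun U hU => ?_⟩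
    · refine continuous_def.mpr fun s hs => (@isOpen_iff_mem_nhds A I.adicTopology _).mpr fun x hx => ?_
      obtain ⟨W, hW, hWs⟩ := Groth.Agent.LinTopLib.exists_isOpen_le
        ((continuous_const.add continuous_id).tendsto' (0 : A) x (add_zero x) (hs.mem_nhds hx))
      obtain ⟨n, -, hn⟩ := Groth.Agent.LinTopLib.exists_pow_le hI hW
      refine (I.hasBasis_nhds_adic x).mem_iff.mpr ⟨n, trivial, ?_⟩
      rintro _ ⟨y, hy, rfl⟩
      exact hWs (hn hy)
    · obtain ⟨n, -, hn⟩ := I.hasBasis_nhds_zero_adic.mem_iff.mp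
        (@IsOpen.mem_nhds A I.adicTopology _ _ hJ J.zero_mem)
      rw [Ideal.map_id]
      exact Groth.Agent.LinTopLib.isOpen_of_le (I := (I ^ n).closure) (J := J.closure)
        (Groth.Agent.LinTopLib.closure_mono hn) (hopen n)
    · obtain ⟨W, hW, hWU⟩ := Groth.Agent.LinTopLib.exists_isOpen_le hU
      obtain ⟨n, -, hn⟩ := Groth.Agent.LinTopLib.exists_pow_le hI hW
      refine ⟨I ^ n, @OpenAddSubgroup.isOpen' A _ I.adicTopology (I.openAddSubgroup n), fun x hx => hWU ?_⟩
      rw [Ideal.map_id] at hx
      exact Groth.Agent.LinTopLib.closure_le_of_isOpen hn hW hx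
  tfae_have 2 → 1 := fun ⟨A', _, _, _, φ, hA', hφ⟩ => by
    exact Groth.Agent.LinTopLib.isWeaklyPreadic_of_isTaut hφ
      (Groth.Agent.LinTopLib.isWeaklyPreadic_of_isPreadic hA')
  tfae_finish

end Groth.Agent.S10159
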