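import Groth.Statements.S10160
import Groth.Agent.LinTopLib.Taut

set_option autoImplicit false
universe u
open LinTop

namespace Groth.Agent.S10160

/-- A weakly adic topological ring is admissible and has a countable fundamental system of open ideals. -/
theorem result
    (A : Type u) [CommRing A] [UniformSpace A] [IsUniformAddGroup A] [IsTopologicalRing A] (hA : LinTop.IsWeaklyAdic A) :
    LinTop.IsAdmissible A ∧ (nhds (0 : A)).IsCountablyGenerated := by
  obtain ⟨hw, hT, hC⟩ := hA
  have := hw.1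
  obtain ⟨I, hI, -⟩ := Groth.Agent.LinTopLib.exists_isIdealOfDefinition_of_isWeaklyPreadic hw
  refine ⟨⟨⟨hw.1, I, hI⟩, hT, hC⟩, ?_⟩
  obtain ⟨-, J, hopen, hbasis⟩ := hw
  have hb : (nhds (0 : A)).HasBasis (fun _ : ℕ => True) (fun n => closure ((J ^ n : Ideal A) : Set A)) :=
    ⟨fun U => ⟨fun hU => by obtain ⟨n, hn⟩ := hbasis U hU; exact ⟨n, trivial, hn⟩,
      fun ⟨n, _, hn⟩ => Filter.mem_of_superset
        ((hopen n).mem_nhds (subset_closure (Ideal.zero_mem _))) hn⟩⟩
  exact hb.isCountablyGenerated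

end Groth.Agent.S10160
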