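import Groth.Statements.S10164
import Groth.Agent.LinTopLib.Taut

set_option autoImplicit false
universe u
open LinTop

namespace Groth.Agent.S10164

/-- Let A be weakly adic and I an ideal of definition of A with I/I₂ finitely generated, where I₂
denotes the closure of I^2 (here: I maps onto a finitely generated ideal of A/I₂). Then A is adic,
and some finitely generated ideal of A is an ideal of definition. -/
theorem result
    (A : Type u) [CommRing A] [UniformSpace A] [IsUniformAddGroup A] [IsTopologicalRing A] (hA : LinTop.IsWeaklyAdic A)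
    (I : Ideal A) (hI : LinTop.IsIdealOfDefinition A I)
    (hfg : (I.map (Ideal.Quotient.mk ((I ^ 2).closure))).FG) :
    LinTop.IsAdicRing A ∧ ∃ J : Ideal A, LinTop.IsIdealOfDefinition A J ∧ J.FG := by
  classical
  obtain ⟨hw, hT, hC⟩ := hA
  have := hw.1
  obtain ⟨s, hs⟩ := hfg
  have hpre : ∀ g ∈ s, ∃ x ∈ I, Ideal.Quotient.mk (I ^ 2).closure x = g := fun g hg =>
    (Ideal.mem_map_iff_of_surjective _ Ideal.Quotient.mk_surjective).mp (hs ▸ Submodule.subset_span hg)
  choose x hxI hxg using hpre
  let J : Ideal A := Ideal.span (s.attach.image fun g => x g.1 g.2 : Finset A)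
  have hJI : J ≤ I := Ideal.span_le.mpr fun y hy => by
    obtain ⟨g, -, rfl⟩ := Finset.mem_image.mp hy
    exact hxI _ _
  have hI2 : I ≤ J ⊔ (I ^ 2).closure := by
    have h : I.map (Ideal.Quotient.mk (I ^ 2).closure) ≤ J.map (Ideal.Quotient.mk (I ^ 2).closure) := by
      rw [← hs]
      refine Submodule.span_le.mpr fun g hg => ?_
      rw [← hxg g hg]
      exact Ideal.mem_map_of_mem _ (Submodule.subset_span (Finset.mem_image.mpr ⟨⟨g, hg⟩, Finset.mem_attach _ _, rfl⟩))
    rw [Ideal.map_le_iff_le_comap, Ideal.comap_map_of_surjective' _ Ideal.Quotient.mk_surjective,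
      Ideal.mk_ker] at h
    exact h
  have h1 : ∀ n, I ^ n ≤ J ^ n ⊔ (I ^ (n + 1)).closure := fun n => by
    induction n with
    | zero => simp
    | succ n ih =>
      rw [pow_succ I n]
      refine (mul_le_mul' ih hI2).trans ?_
      rw [Ideal.sup_mul, Ideal.mul_sup]
      refine sup_le (sup_le ?_ ?_) ?_
      · exact (pow_succ J n).symm.le.trans le_sup_left
      · refine le_trans ?_ le_sup_right
        refine (mul_le_mul' ((Ideal.pow_right_mono hJI n).trans
          (Groth.Agent.LinTopLib.le_closure _)) le_rfl).trans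
          ((Groth.Agent.LinTopLib.closure_mul_le _ _).trans ?_)
        rw [← pow_add]
      · refine le_trans ?_ le_sup_right
        refine (mul_le_mul' le_rfl (?_ : J ⊔ (I ^ 2).closure ≤ I.closure)).trans
          ((Groth.Agent.LinTopLib.closure_mul_le _ _).trans ?_)
        · exact sup_le (hJI.trans (Groth.Agent.LinTopLib.le_closure _))
            (Groth.Agent.LinTopLib.closure_mono (Ideal.pow_le_self two_ne_zero))
        · rw [← pow_succ]
  have hopen := Groth.Agent.LinTopLib.isOpen_closure_pow_of_isWeaklyPreadic hw hI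
  have h2 : ∀ n k, I ^ n ≤ J ^ n ⊔ (I ^ (n + k)).closure := fun n k => by
    induction k with
    | zero => exact (Groth.Agent.LinTopLib.le_closure _).trans le_sup_right
    | succ k ih =>
      refine ih.trans (sup_le le_sup_left fun y hy => ?_)
      have := Groth.Agent.LinTopLib.mem_closure_iff.mp hy (I ^ (n + k + 1)).closure (hopen _)
      exact sup_le ((h1 (n + k)).trans
        (sup_le_sup_right (Ideal.pow_le_pow_right (Nat.le_add_right n k)) _)) le_sup_right this
  have h3 : ∀ n, (I ^ n).closure ≤ (J ^ n).closure := fun n => by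
    refine closure_minimal (fun y hy => ?_) isClosed_closure
    refine Groth.Agent.LinTopLib.mem_closure_iff.mpr fun U hU => ?_
    obtain ⟨m, -, hm⟩ := Groth.Agent.LinTopLib.exists_pow_le hI hU
    exact sup_le le_sup_left ((Groth.Agent.LinTopLib.closure_le_of_isOpen
      ((Ideal.pow_le_pow_right (Nat.le_add_left m n)).trans hm) hU).trans le_sup_right) (h2 n m hy)
  have had : IsAdic J := by
    refine Groth.Agent.LinTopLib.isAdic_of_fg ⟨_, rfl⟩
      (fun n => Groth.Agent.LinTopLib.isOpen_of_le (J := (J ^ n).closure) (h3 n) (hopen n))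
      fun U hU => ?_
    obtain ⟨W, hW, hWU⟩ := Groth.Agent.LinTopLib.exists_isOpen_le hU
    obtain ⟨m, -, hm⟩ := Groth.Agent.LinTopLib.exists_pow_le hI hW
    exact ⟨m, fun y hy => hWU (Groth.Agent.LinTopLib.closure_le_of_isOpen
      ((Ideal.pow_right_mono hJI m).trans hm) hW hy)⟩
  exact ⟨⟨⟨J, had⟩, hT, hC⟩, J, Groth.Agent.LinTopLib.isIdealOfDefinition_of_isAdic had, ⟨_, rfl⟩⟩

end Groth.Agent.S10164
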