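import Groth.Statements.S10166
import Groth.Agent.LinTopLib.Taut

set_option autoImplicit false
universe u v
open LinTop

namespace Groth.Agent.S10166

/-- Let φ : A → B be a taut homomorphism of linearly topologized rings such that for every open ideal I
of A, with J the closure of φ(I)B, the induced map A/I → B/J is faithfully flat. If B has a
countable fundamental system of open ideals, then so does A. -/
theorem result
    (A : Type u) [CommRing A] [TopologicalSpace A] [IsTopologicalRing A] [IsLinearTopology A A]
    (B : Type v) [CommRing B] [TopologicalSpace B] [IsTopologicalRing B] [IsLinearTopology B B]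
    (φ : A →+* B) (hφ : LinTop.IsTautFFlat φ) (hB : (nhds (0 : B)).IsCountablyGenerated) :
    (nhds (0 : A)).IsCountablyGenerated := by
  obtain ⟨s, hs⟩ := (nhds (0 : B)).exists_antitone_basis
  choose J hJ hJs using fun n => hφ.1.2.2 _ (hs.1.mem_of_mem (i := n) trivial)
  have hbasis : (nhds (0 : A)).HasBasis (fun _ : ℕ => True) (fun n => (J n : Set A)) :=
    ⟨fun U => ⟨fun hU => by
      obtain ⟨W, hW, hWU⟩ := Groth.Agent.LinTopLib.exists_isOpen_le hU
      obtain ⟨n, -, hn⟩ := hs.1.mem_iff.mp
        ((hφ.1.2.1 W hW).mem_nhds (subset_closure (Ideal.zero_mem _)))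
      refine ⟨n, trivial, Set.Subset.trans ?_ hWU⟩
      exact Groth.Agent.LinTopLib.le_of_map_le_closure hφ hW fun x hx => hn (hJs n (subset_closure hx)),
      fun ⟨n, _, hn⟩ => Filter.mem_of_superset (Groth.Agent.LinTopLib.mem_nhds_of_isOpen (hJ n)) hn⟩⟩
  exact hbasis.isCountablyGenerated

end Groth.Agent.S10166
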