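import Groth.Statements.S10167
import Groth.Agent.LinTopLib.Taut

set_option autoImplicit false
universe u v
open LinTop

namespace Groth.Agent.S10167

/-- Let φ : A → B be a taut homomorphism of linearly topologized rings such that for every open ideal I
of A the induced ring map A/I → B/J, where J denotes the closure of φ(I)B, is faithfully flat. If B
has a weak ideal of definition (B is weakly pre-admissible), then so does A. -/
theorem result
    (A : Type u) [CommRing A] [TopologicalSpace A] [IsTopologicalRing A] [IsLinearTopology A A]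
    (B : Type v) [CommRing B] [TopologicalSpace B] [IsTopologicalRing B] [IsLinearTopology B B]
    (φ : A →+* B) (hφ : LinTop.IsTautFFlat φ) (hB : LinTop.IsWeaklyPreadmissible B) :
    LinTop.IsWeaklyPreadmissible A := by
  obtain ⟨-, J, hJ, hnil⟩ := hB
  obtain ⟨I, hI, hIJ⟩ := hφ.1.2.2 _ (Groth.Agent.LinTopLib.mem_nhds_of_isOpen hJ)
  refine ⟨inferInstance, I, hI, fun f hf => ?_⟩
  rw [Groth.Agent.LinTopLib.isTopologicallyNilpotent_iff]
  intro U hU
  obtain ⟨n, hn⟩ := Groth.Agent.LinTopLib.isTopologicallyNilpotent_iff.mp
    (hnil _ (hIJ (subset_closure (Ideal.mem_map_of_mem φ hf)))) (U.map φ).closure (hφ.1.2.1 U hU)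
  refine ⟨n, Groth.Agent.LinTopLib.le_of_map_le_closure hφ (I := Ideal.span {f ^ n}) hU ?_
    (Ideal.mem_span_singleton_self _)⟩
  rw [Ideal.map_span, Set.image_singleton, Ideal.span_singleton_le_iff_mem, map_pow]
  exact hn

end Groth.Agent.S10167
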