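import Groth.Statements.S10168
import Groth.Agent.LinTopLib.Taut

set_option autoImplicit false
universe u v
open LinTop

namespace Groth.Agent.S10168

/-- Let φ : A → B be a taut homomorphism of linearly topologized rings such that for every open ideal I
of A, with J the closure of φ(I)B, the induced map A/I → B/J is faithfully flat. If B is
pre-admissible, then A is pre-admissible. -/
theorem result
    (A : Type u) [CommRing A] [TopologicalSpace A] [IsTopologicalRing A] [IsLinearTopology A A]
    (B : Type v) [CommRing B] [TopologicalSpace B] [IsTopologicalRing B] [IsLinearTopology B B]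
    (φ : A →+* B) (hφ : LinTop.IsTautFFlat φ) (hB : LinTop.IsPreadmissible B) :
    LinTop.IsPreadmissible A := by
  obtain ⟨-, J, hJ⟩ := hB
  obtain ⟨I, hI, hIJ⟩ := hφ.1.2.2 _ (Groth.Agent.LinTopLib.mem_nhds_of_isOpen hJ.1)
  exact ⟨inferInstance, I, Groth.Agent.LinTopLib.isIdealOfDefinition_of_map_le hφ hJ hI
    fun x hx => hIJ (subset_closure hx)⟩

end Groth.Agent.S10168
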