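import Groth.Statements.S10169
import Groth.Agent.LinTopLib.Taut

set_option autoImplicit false
universe u v
open LinTop

namespace Groth.Agent.S10169

/-- Let φ : A → B be a taut homomorphism of linearly topologized rings such that for every open ideal I
of A the induced ring map A/I → B/J, where J denotes the closure of φ(I)B, is faithfully flat. Weak
pre-adicness then descends: when B is weakly pre-adic, A is as well. -/
theorem result
    (A : Type u) [CommRing A] [TopologicalSpace A] [IsTopologicalRing A] [IsLinearTopology A A]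
    (B : Type v) [CommRing B] [TopologicalSpace B] [IsTopologicalRing B] [IsLinearTopology B B]
    (φ : A →+* B) (hφ : LinTop.IsTautFFlat φ) (hB : LinTop.IsWeaklyPreadic B) :
    LinTop.IsWeaklyPreadic A := by
  obtain ⟨J, hJ, -⟩ := Groth.Agent.LinTopLib.exists_isIdealOfDefinition_of_isWeaklyPreadic hB
  obtain ⟨I, hI, hIJ⟩ := hφ.1.2.2 _ (Groth.Agent.LinTopLib.mem_nhds_of_isOpen hJ.1)
  have hIA := Groth.Agent.LinTopLib.isIdealOfDefinition_of_map_le hφ hJ hI
    fun x hx => hIJ (subset_closure hx)
  have hIB : LinTop.IsIdealOfDefinition B (I.map φ).closure :=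
    Groth.Agent.LinTopLib.isIdealOfDefinition_of_pow_le hJ (hφ.1.2.1 I hI) Nat.one_pos
      ((pow_one _).trans_le hIJ)
  refine Groth.Agent.LinTopLib.isWeaklyPreadic_of_isIdealOfDefinition hIA fun n _ => ?_
  have hopen : IsOpen (((I ^ n).map φ).closure : Set B) := by
    refine Groth.Agent.LinTopLib.isOpen_of_le (I := ((I.map φ).closure ^ n).closure) ?_
      (Groth.Agent.LinTopLib.isOpen_closure_pow_of_isWeaklyPreadic hB hIB n)
    rw [Ideal.map_pow]
    exact closure_minimal (Groth.Agent.LinTopLib.closure_pow_le _ n) isClosed_closure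
  obtain ⟨W, hW, hWn⟩ := hφ.1.2.2 _ (Groth.Agent.LinTopLib.mem_nhds_of_isOpen hopen)
  exact Groth.Agent.LinTopLib.isOpen_of_le (J := (I ^ n).closure)
    (Groth.Agent.LinTopLib.le_closure_of_map_le_closure hφ fun x hx => hWn (subset_closure hx)) hW

end Groth.Agent.S10169
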