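import Groth.Statements.S10170
import Groth.Agent.LinTopLib.Taut

set_option autoImplicit false
universe u v
open LinTop

namespace Groth.Agent.S10170

/-- Let φ : A → B be a taut homomorphism of linearly topologized rings such that for every open ideal I
of A the induced ring map A/I → B/J, where J denotes the closure of φ(I)B, is faithfully flat.
Suppose A is Hausdorff and complete, and B is adic with some finitely generated ideal of definition.
Then A is adic, and some finitely generated ideal of A is an ideal of definition. -/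
theorem result
    (A : Type u) [CommRing A] [UniformSpace A] [IsUniformAddGroup A] [IsTopologicalRing A] [IsLinearTopology A A] [T2Space A] [CompleteSpace A]
    (B : Type v) [CommRing B] [UniformSpace B] [IsUniformAddGroup B] [IsTopologicalRing B] (hB : LinTop.IsAdicRing B)
    (hJ : ∃ J : Ideal B, LinTop.IsIdealOfDefinition B J ∧ J.FG)
    (φ : A →+* B) (hφ : LinTop.IsTautFFlat φ) :
    LinTop.IsAdicRing A ∧ ∃ I : Ideal A, LinTop.IsIdealOfDefinition A I ∧ I.FG := by
  classical
  obtain ⟨J, hJ, hJfg⟩ := hJ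
  have hJad := Groth.Agent.LinTopLib.isAdic_of_isPreadic hB.1 hJ
  have := Groth.Agent.LinTopLib.isLinearTopology_of_isAdic hJad
  obtain ⟨I0, hI0, hI0J⟩ := hφ.1.2.2 _ (Groth.Agent.LinTopLib.mem_nhds_of_isOpen hJ.1)
  have hI0A := Groth.Agent.LinTopLib.isIdealOfDefinition_of_map_le hφ hJ hI0
    fun x hx => hI0J (subset_closure hx)
  obtain ⟨m, hm⟩ := (isAdic_iff.mp hJad).2 _
    ((hφ.1.2.1 I0 hI0).mem_nhds (subset_closure (Ideal.zero_mem _)))
  obtain ⟨t, ht⟩ : (J ^ m).FG := Submodule.FG.pow hJfg m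
  have hgen : ∀ b : t, ∃ a : Ideal A, a.FG ∧ a ≤ I0 ∧ (b : B) ∈ a.map φ ⊔ J ^ (m + 1) := fun b => by
    have hb : (b : B) ∈ J ^ m := ht ▸ Submodule.subset_span b.2
    obtain ⟨c, hc, r, hr, hcr⟩ := Submodule.mem_sup.mp (Groth.Agent.LinTopLib.mem_closure_iff.mp (hm hb)
      (J ^ (m + 1)) ((isAdic_iff.mp hJad).1 _))
    suffices h : ∀ c ∈ I0.map φ, ∃ a : Ideal A, a.FG ∧ a ≤ I0 ∧ c ∈ a.map φ by
      obtain ⟨a, h1, h2, h3⟩ := h c hc
      exact ⟨a, h1, h2, hcr ▸ add_mem (Submodule.mem_sup_left h3) (Submodule.mem_sup_right hr)⟩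
    intro c hc
    induction hc using Submodule.span_induction with
    | mem y hy =>
      obtain ⟨i, hi, rfl⟩ := hy
      exact ⟨Ideal.span {i}, Submodule.fg_span_singleton i, (Ideal.span_singleton_le_iff_mem _).mpr hi,
        Ideal.mem_map_of_mem φ (Ideal.mem_span_singleton_self i)⟩
    | zero => exact ⟨⊥, Submodule.fg_bot, bot_le, zero_mem _⟩
    | add y z _ _ hy hz =>
      obtain ⟨a, h1, h2, h3⟩ := hy
      obtain ⟨a', h1', h2', h3'⟩ := hz
      exact ⟨a ⊔ a', Submodule.FG.sup h1 h1', sup_le h2 h2', add_mem (Ideal.map_mono le_sup_left h3)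
        (Ideal.map_mono le_sup_right h3')⟩
    | smul r y _ hy =>
      obtain ⟨a, h1, h2, h3⟩ := hy
      exact ⟨a, h1, h2, Submodule.smul_mem _ r h3⟩
  choose a hafg haI0 hamem using hgen
  let aa : Ideal A := Finset.univ.sup a
  have haafg : aa.FG := Submodule.fg_finset_sup _ _ fun b _ => hafg b
  have haaI0 : aa ≤ I0 := Finset.sup_le fun b _ => haI0 b
  have hle : ∀ b, (a b).map φ ≤ aa.map φ := fun b =>
    Ideal.map_mono (Finset.le_sup (f := a) (Finset.mem_univ b))
  have h1 : J ^ m ≤ aa.map φ ⊔ J ^ (m + 1) := by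
    rw [← ht]
    refine Submodule.span_le.mpr fun b hb => ?_
    obtain ⟨c, hc, r, hr, hcr⟩ := Submodule.mem_sup.mp (hamem ⟨b, hb⟩)
    exact Submodule.mem_sup.mpr ⟨c, hle _ hc, r, hr, hcr⟩
  have h2 : ∀ i, J ^ m ≤ aa.map φ ⊔ J ^ (m + i) := fun i => by
    induction i with
    | zero => exact le_sup_right
    | succ i ih =>
      refine ih.trans (sup_le le_sup_left ?_)
      rw [add_comm m i, pow_add]
      refine (mul_le_mul' le_rfl h1).trans ?_
      rw [Ideal.mul_sup, ← pow_add]
      exact sup_le_sup Ideal.mul_le_right (Ideal.pow_le_pow_right (by omega))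
  have h3 : J ^ m ≤ (aa.map φ).closure := fun y hy =>
    Groth.Agent.LinTopLib.mem_closure_iff.mpr fun U hU => by
      obtain ⟨k, -, hk⟩ := Groth.Agent.LinTopLib.exists_pow_le hJ hU
      exact sup_le_sup_left ((Ideal.pow_le_pow_right (Nat.le_add_left k m)).trans hk) _ (h2 k hy)
  have hopen : ∀ n, IsOpen (closure ((aa ^ n : Ideal A) : Set A)) := fun n => by
    have hopenB : IsOpen (((aa ^ n).map φ).closure : Set B) := by
      refine Groth.Agent.LinTopLib.isOpen_of_le (I := J ^ (m * n)) ?_ ((isAdic_iff.mp hJad).1 _)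
      rw [pow_mul, Ideal.map_pow]
      exact (Ideal.pow_right_mono h3 n).trans (Groth.Agent.LinTopLib.closure_pow_le _ n)
    obtain ⟨W, hW, hWn⟩ := hφ.1.2.2 _ (Groth.Agent.LinTopLib.mem_nhds_of_isOpen hopenB)
    exact Groth.Agent.LinTopLib.isOpen_of_le (J := (aa ^ n).closure)
      (Groth.Agent.LinTopLib.le_closure_of_map_le_closure hφ fun x hx => hWn (subset_closure hx)) hW
  have had : IsAdic aa := by
    refine Groth.Agent.LinTopLib.isAdic_of_fg haafg hopen fun U hU => ?_
    obtain ⟨W, hW, hWU⟩ := Groth.Agent.LinTopLib.exists_isOpen_le hU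
    obtain ⟨k, -, hk⟩ := Groth.Agent.LinTopLib.exists_pow_le hI0A hW
    exact ⟨k, fun y hy => hWU (Groth.Agent.LinTopLib.closure_le_of_isOpen
      ((Ideal.pow_right_mono haaI0 k).trans hk) hW hy)⟩
  exact ⟨⟨⟨aa, had⟩, inferInstance, inferInstance⟩, aa,
    Groth.Agent.LinTopLib.isIdealOfDefinition_of_isAdic had, haafg⟩

end Groth.Agent.S10170
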