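import Groth.Statements.S10173
import Groth.Agent.LinTopLib.Quotient

set_option autoImplicit false
universe u v
open LinTop

namespace Groth.Agent.S10173

/-- Let R be a commutative ring, I a finitely generated ideal and M a topological R-module (additive
uniform structure, each scalar acting uniformly continuously) having an open submodule M' whose
topology is the I-adic one, i.e. the I^n M' are open in M and form a fundamental system of
neighbourhoods of 0. Then the separated completion M^ has an open submodule whose topology is I-adic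
in the same sense, and for every n ≥ 1 the map M → M^/I^n M^ is surjective with kernel I^n M,
identifying M^/I^n M^ with M/I^n M. -/
theorem result
    {R : Type u} [CommRing R] (I : Ideal R) (hI : I.FG)
    {M : Type v} [AddCommGroup M] [Module R M] [UniformSpace M] [IsUniformAddGroup M]
    [UniformContinuousConstSMul R M]
    (M' : Submodule R M) (hopen : ∀ n : ℕ, IsOpen ((I ^ n • M' : Submodule R M) : Set M))
    (hbasis : ∀ U ∈ nhds (0 : M), ∃ n : ℕ, ((I ^ n • M' : Submodule R M) : Set M) ⊆ U) :
    (∃ M'' : Submodule R (UniformSpace.Completion M),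
        (∀ n : ℕ, IsOpen ((I ^ n • M'' : Submodule R (UniformSpace.Completion M)) :
          Set (UniformSpace.Completion M))) ∧
        ∀ U ∈ nhds (0 : UniformSpace.Completion M), ∃ n : ℕ,
          ((I ^ n • M'' : Submodule R (UniformSpace.Completion M)) :
            Set (UniformSpace.Completion M)) ⊆ U) ∧
      ∀ n : ℕ, 0 < n →
        Function.Surjective ((QuotientAddGroup.mk' (I ^ n • ⊤ : Submodule R (UniformSpace.Completion M)).toAddSubgroup).comp
          (UniformSpace.Completion.toCompl : M →+ UniformSpace.Completion M)) ∧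
        ((QuotientAddGroup.mk' (I ^ n • ⊤ : Submodule R (UniformSpace.Completion M)).toAddSubgroup).comp
          (UniformSpace.Completion.toCompl : M →+ UniformSpace.Completion M)).ker = (I ^ n • ⊤ : Submodule R M).toAddSubgroup := by
  classical
  let C := UniformSpace.Completion M
  let c : ℕ → Submodule R C := fun n =>
    { ((I ^ n • M' : Submodule R M).toAddSubgroup.map
        (UniformSpace.Completion.toCompl : M →+ C)).topologicalClosure with
      smul_mem' := fun r x hx => map_mem_closure (continuous_const_smul r) hx (by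
        rintro _ ⟨m, hm, rfl⟩
        exact ⟨r • m, (I ^ n • M' : Submodule R M).smul_mem r hm, UniformSpace.Completion.coe_smul r m⟩) }
  have hcopen : ∀ n, IsOpen (c n : Set C) := fun n =>
    Groth.Agent.LinTopLib.isOpen_closure_image (U := (I ^ n • M' : Submodule R M).toAddSubgroup) (hopen n)
  have hcb : ∀ s ∈ nhds (0 : C), ∃ n, (c n : Set C) ⊆ s := fun s hs => by
    obtain ⟨t, ht, hts⟩ :=
      (Groth.Agent.LinTopLib.hasBasis_completion (nhds (0 : M)).basis_sets).mem_iff.mp hs
    obtain ⟨n, hn⟩ := hbasis t ht
    exact ⟨n, (closure_mono (Set.image_mono hn)).trans hts⟩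
  have hanti : ∀ {a b : ℕ}, a ≤ b → c b ≤ c a := fun {a b} h => closure_mono (Set.image_mono
    (Submodule.smul_mono_left (Ideal.pow_le_pow_right h)))
  have hsmul : ∀ n j, ∀ r ∈ I ^ n, ∀ z ∈ c j, r • z ∈ c (n + j) := fun n j r hr z hz =>
    map_mem_closure (continuous_const_smul r) hz (by
      rintro _ ⟨m, hm, rfl⟩
      refine ⟨r • m, ?_, UniformSpace.Completion.coe_smul r m⟩
      change r • m ∈ I ^ (n + j) • M'
      rw [pow_add, ← smul_eq_mul, smul_assoc]
      exact Submodule.smul_mem_smul hr hm)
  have hdec : ∀ (t : Finset R) (Q : Submodule R M), ∀ x ∈ Ideal.span (t : Set R) • Q,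
      ∃ z : t → M, (∀ i, z i ∈ Q) ∧ ∑ i : t, (i : R) • z i = x := by
    intro t Q x hx
    refine Submodule.smul_induction_on hx (fun r hr m hm => ?_) (fun y z hy hz => ?_)
    ·
      obtain ⟨f, hf⟩ := Submodule.mem_span_finset'.mp hr
      refine ⟨fun i => f i • m, fun i => Q.smul_mem _ hm, ?_⟩
      rw [← hf, Finset.sum_smul]
      exact Finset.sum_congr rfl fun i _ => by rw [smul_smul, smul_eq_mul, mul_comm]
    · obtain ⟨a, ha, rfl⟩ := hy
      obtain ⟨b, hb, rfl⟩ := hz
      exact ⟨a + b, fun i => add_mem (ha i) (hb i), by simp [Finset.sum_add_distrib]⟩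
  have hkey : ∀ n, c n ≤ I ^ n • c 0 := by
    intro n y hy
    obtain ⟨t, ht⟩ : (I ^ n).FG := Submodule.FG.pow hI n
    let f : (t → C) →+ C :=
      { toFun := fun z => ∑ i : t, (i : R) • z i
        map_zero' := by simp
        map_add' := fun a b => by simp [Finset.sum_add_distrib] }
    have hfc : Continuous f :=
      continuous_finsetSum _ fun i _ => (continuous_apply i).const_smul (i : R)
    let U : ℕ → AddSubgroup (t → C) := fun j => AddSubgroup.pi Set.univ fun _ => (c j).toAddSubgroup
    have hUmem : ∀ j z, z ∈ U j ↔ ∀ i, z i ∈ c j := fun j z => by simp [U, AddSubgroup.mem_pi]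
    have hsub : ∀ j, f '' (U j : Set (t → C)) ⊆ c (n + j) := by
      rintro j _ ⟨z, hz, rfl⟩
      exact sum_mem fun i _ => hsmul n j _ (ht ▸ Submodule.subset_span i.2) _ ((hUmem j z).mp hz i)
    have hsup : ∀ j, (c (n + j) : Set C) ⊆ closure (f '' (U j : Set (t → C))) := fun j => by
      refine closure_mono ?_
      rintro _ ⟨w, hw, rfl⟩
      change w ∈ I ^ (n + j) • M' at hw
      rw [pow_add, ← smul_eq_mul, smul_assoc, ← ht] at hw
      obtain ⟨z, hz, rfl⟩ := hdec t _ w hw
      refine ⟨fun i => (z i : C), (hUmem j _).mpr fun i => subset_closure ⟨z i, hz i, rfl⟩, ?_⟩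
      change ∑ i : t, (i : R) • ((z i : M) : C) = UniformSpace.Completion.toCompl _
      rw [map_sum]
      exact Finset.sum_congr rfl fun i _ => (UniformSpace.Completion.coe_smul _ _).symm
    obtain ⟨z, hz, rfl⟩ := Groth.Agent.LinTopLib.mem_image_of_mem_closure f hfc U
      (fun a b h z hz => (hUmem a z).mpr fun i => hanti h ((hUmem b z).mp hz i))
      (fun j => by
        rw [show (U j : Set (t → C)) = Set.pi Set.univ fun _ => (c j : Set C) from rfl]
        exact isClosed_set_pi fun _ _ => isClosed_closure)
      (fun s hs => by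
        rw [nhds_pi, Filter.mem_pi] at hs
        obtain ⟨S, -, w, hw, hws⟩ := hs
        choose k hk using fun i => hcb (w i) (hw i)
        exact ⟨Finset.univ.sup k, fun z hz => hws fun i _ => hk i
          (hanti (Finset.le_sup (f := k) (Finset.mem_univ i)) ((hUmem _ z).mp hz i))⟩)
      (fun j => Filter.mem_of_superset ((hcopen (n + j)).mem_nhds (c _).zero_mem) (hsup j))
      (fun s hs => by
        obtain ⟨j, hj⟩ := hcb s hs
        exact ⟨j, (closure_minimal ((hsub j).trans (hanti (Nat.le_add_left j n))) isClosed_closure).trans hj⟩)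
      (k := 0) (hsup 0 hy)
    exact sum_mem fun i _ => Submodule.smul_mem_smul (ht ▸ Submodule.subset_span i.2) ((hUmem 0 z).mp hz i)
  have hle : ∀ n, I ^ n • c 0 ≤ c n := fun n => Submodule.smul_le.mpr fun r hr z hz => hsmul n 0 r hr z hz
  have heq : ∀ n, I ^ n • c 0 = c n := fun n => le_antisymm (hle n) (hkey n)
  refine ⟨⟨c 0, fun n => heq n ▸ hcopen n, fun U hU => ?_⟩, fun n hn => ⟨?_, ?_⟩⟩
  · obtain ⟨n, hn⟩ := hcb U hU
    exact ⟨n, heq n ▸ hn⟩
  · intro z
    obtain ⟨x, rfl⟩ := QuotientAddGroup.mk'_surjective _ z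
    obtain ⟨m, hm⟩ := Groth.Agent.LinTopLib.exists_sub_coe_mem ((hcopen n).mem_nhds (c n).zero_mem) x
    refine ⟨m, QuotientAddGroup.eq.mpr ?_⟩
    rw [neg_add_eq_sub]
    exact Submodule.smul_mono le_rfl le_top (hkey n hm)
  · ext x
    rw [AddMonoidHom.mem_ker, AddMonoidHom.comp_apply, QuotientAddGroup.mk'_apply, QuotientAddGroup.eq_zero_iff]
    change (x : C) ∈ (I ^ n • ⊤ : Submodule R C) ↔ x ∈ (I ^ n • ⊤ : Submodule R M)
    constructor
    · intro hx
      let e : M →ₗ[R] C :=
        { toFun := fun m => (m : C)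
          map_add' := fun a b => UniformSpace.Completion.coe_add a b
          map_smul' := fun r m => UniformSpace.Completion.coe_smul r m }
      have hS : (I ^ n • ⊤ : Submodule R C) ≤ (I ^ n • ⊤ : Submodule R M).map e ⊔ c n := by
        refine Submodule.smul_le.mpr fun r hr z _ => ?_
        obtain ⟨m, hm⟩ := Groth.Agent.LinTopLib.exists_sub_coe_mem ((hcopen 0).mem_nhds (c 0).zero_mem) z
        refine Submodule.mem_sup.mpr ⟨e (r • m), ⟨r • m, Submodule.smul_mem_smul hr trivial, rfl⟩,
          r • (z - m), hsmul n 0 r hr _ hm, ?_⟩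
        rw [map_smul, smul_sub]
        exact add_sub_cancel (r • (m : C)) (r • z)
      obtain ⟨_, ⟨u, hu, rfl⟩, w, hw, huw⟩ := Submodule.mem_sup.mp (hS hx)
      have hxu : ((x - u : M) : C) ∈ c n := by
        have : ((x - u : M) : C) = w := by
          rw [UniformSpace.Completion.coe_sub, ← huw]
          exact add_sub_cancel_left (u : C) w
        rwa [this]
      have h2 : x - u ∈ (I ^ n • M' : Submodule R M).toAddSubgroup :=
        (Groth.Agent.LinTopLib.coe_mem_closure_image_of_isOpen
          (U := (I ^ n • M' : Submodule R M).toAddSubgroup) (hopen n)).mp hxu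
      simpa using add_mem hu (Submodule.smul_mono le_rfl le_top h2)
    · intro hx
      refine Submodule.smul_induction_on hx (fun r hr m _ => ?_) (fun a b ha hb => ?_)
      · rw [UniformSpace.Completion.coe_smul]; exact Submodule.smul_mem_smul hr trivial
      · rw [UniformSpace.Completion.coe_add]; exact add_mem ha hb

end Groth.Agent.S10173
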