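import Groth.Statements.S10188
import Groth.Agent.AlgSpc.Props2

set_option autoImplicit false
set_option backward.isDefEq.respectTransparency false
universe u
open CategoryTheory CategoryTheory.Limits AlgebraicGeometry Topology TopologicalSpace
open AlgSp

namespace Groth.Agent.S10188

/-- Let P be a property of schemes that is local in the etale topology (for every scheme V and every
etale covering family of V, V has P if and only if all members have P), and let X be an algebraic
space over a scheme S. Then X has P etale locally (some surjective etale chart from a scheme with P)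
if and only if every scheme admitting a representable etale map to X has P. -/
theorem result {S : Scheme.{u}} (P : Scheme.{u} → Prop)
    (hP : ∀ (V : Scheme.{u}) (𝒰 : Scheme.Cover.{u} (Scheme.precoverage @Etale) V), P V ↔ ∀ i, P (𝒰.X i))
    (X : AlgSp.Space S) :
    AlgSp.EtaleLocally P X.obj ↔
      ∀ (U : Over S) (a : (AlgSp.yon S).obj U ⟶ X.obj), AlgSp.RepWith @Etale a → P U.left := by
  refine ⟨fun ⟨U₀, p, hp, hs, h₀⟩ U a ha => ?_, fun h => ?_⟩
  · obtain ⟨W, q, r, sq⟩ := Groth.Agent.AlgSpc.exists_sq hp.1 a
    haveI : Etale r.left := hp.2 _ _ _ sq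
    haveI : Surjective r.left := hs.2 _ _ _ sq
    haveI : Etale (Groth.Agent.AlgSpc.pre q).left := Groth.Agent.AlgSpc.sq_etale sq ha
    let c₀ : Scheme.Cover.{u} (Scheme.precoverage @Etale) U₀.left :=
      (Scheme.coverOfIsIso (P := @Etale) (𝟙 U₀.left)).add (Groth.Agent.AlgSpc.pre q).left ‹_›
    have hW : P W.left := (hP _ c₀).1 h₀ none
    exact (hP _ (r.left.cover (P := @Etale) ‹_›)).2 fun _ => hW
  · obtain ⟨U, p, hp, hs⟩ := X.property.atlas
    exact ⟨U, p, hp, hs, h U p hp⟩

end Groth.Agent.S10188
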