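import Groth.Statements.S10193
import Groth.Agent.AlgSpc.LocP
import Groth.Agent.AlgSpLoc.Cover

set_option autoImplicit false
universe u
open CategoryTheory CategoryTheory.Limits AlgebraicGeometry Topology TopologicalSpace
open AlgSp

namespace Groth.Agent.S10193

/-- Let X, Y be algebraic spaces over a scheme S, i : Z ⟶ X a closed subspace (a morphism representable
by closed immersions) and assume Y is reduced. Then a morphism f : Y ⟶ X factors through Z if and
only if |f|(|Y|) is contained in |Z|. -/
theorem result {S : Scheme.{u}} {X Y Z : AlgSp.Space S}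
    (i : Z ⟶ X) (hi : AlgSp.RepWith @IsClosedImmersion i.hom) (hY : AlgSp.IsReducedSp Y.obj) (f : Y ⟶ X) :
    (∃ g : Y ⟶ Z, g ≫ i = f) ↔
      Set.range (AlgSp.Points.map f.hom) ⊆ Set.range (AlgSp.Points.map i.hom) := by
    constructor
    · rintro ⟨g, rfl⟩ _ ⟨y, rfl⟩
      exact ⟨AlgSp.Points.map g.hom y, (AlgSp.Points.map_comp g.hom i.hom y).symm⟩
    · intro hr
      obtain ⟨U, a, ha, has, hU⟩ := hY
      haveI : IsReduced U.left := hU
      obtain ⟨W, fst, snd, sq⟩ := Groth.Agent.AlgSpc.exists_sq hi.1 (a ≫ f.hom)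
      haveI : IsClosedImmersion snd.left := hi.2 _ _ _ sq
      haveI : Surjective snd.left := ⟨fun u => by
        obtain ⟨z, hz⟩ := hr ⟨AlgSp.Points.ofPt a u, rfl⟩
        obtain ⟨w, -, hw⟩ := Groth.Agent.AlgSpc.exists_point_of_sq sq z u
          (hz.trans (AlgSp.Points.map_ofPt a f.hom u))
        exact ⟨w, hw⟩⟩
      haveI : IsIso snd.left := isIso_of_isClosedImmersion_of_surjective _
      haveI : IsIso ((Over.forget S).map snd) := ‹IsIso snd.left›
      haveI : IsIso snd := isIso_of_reflects_iso snd (Over.forget S)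
      have hl : ((AlgSp.yon S).map (inv snd) ≫ fst) ≫ i.hom = a ≫ f.hom := by
        rw [Category.assoc, sq.w, ← Category.assoc, ← CategoryTheory.Functor.map_comp, IsIso.inv_hom_id,
          CategoryTheory.Functor.map_id, Category.id_comp]
      haveI : Mono i.hom := Groth.Agent.AlgSpc.mono_of_repWith
        (fun _ _ e (_ : IsClosedImmersion e) => inferInstance) hi
      haveI : Epi a := Groth.Agent.AlgSpLoc.epi_of_repWith ha has
      haveI : Mono (pullback.fst f.hom i.hom) := inferInstance
      haveI : Epi (pullback.fst f.hom i.hom) :=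
        epi_of_epi_fac ((IsPullback.of_hasPullback f.hom i.hom).lift_fst a _ hl.symm)
      haveI : IsIso (pullback.fst f.hom i.hom) := isIso_of_mono_of_epi _
      refine ⟨ObjectProperty.homMk (inv (pullback.fst f.hom i.hom) ≫ pullback.snd f.hom i.hom), ?_⟩
      ext : 1
      change (inv (pullback.fst f.hom i.hom) ≫ pullback.snd f.hom i.hom) ≫ i.hom = f.hom
      rw [Category.assoc, ← pullback.condition, IsIso.inv_hom_id_assoc]

end Groth.Agent.S10193
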