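import Groth.Statements.S10197
import Groth.Agent.AlgSpc.Props2

set_option autoImplicit false
universe u
open CategoryTheory CategoryTheory.Limits AlgebraicGeometry Topology TopologicalSpace
open AlgSp

namespace Groth.Agent.S10197

/-- An algebraic space X over a scheme S has a largest open subspace which is a scheme: there is an open
subspace X' ⟶ X whose underlying sheaf is representable by a scheme over S, through which every open
subspace of X with representable underlying sheaf factors. -/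
theorem result {S : Scheme.{u}} (X : AlgSp.Space S) :
    ∃ (X' : AlgSp.Space S) (j : X' ⟶ X), AlgSp.RepWith @IsOpenImmersion j.hom ∧ X'.obj.obj.IsRepresentable ∧
      ∀ (X'' : AlgSp.Space S) (j'' : X'' ⟶ X), AlgSp.RepWith @IsOpenImmersion j''.hom →
        X''.obj.obj.IsRepresentable → ∃ k : X'' ⟶ X', k ≫ j = j'' := by
  obtain ⟨O, hO, ⟨W, ⟨i⟩⟩, h⟩ := Groth.Agent.AlgSpc.exists_largest_scheme_open X.property
  refine ⟨⟨_, Groth.Agent.AlgSpc.isAlgSpace_ptsSheaf X.property hO⟩, ObjectProperty.homMk (Groth.Agent.AlgSpc.ptsIncl X.obj O), Groth.Agent.AlgSpc.repWith_ptsIncl hO, ?_, fun X'' j'' hj'' hr => ?_⟩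
  · exact (AlgSp.representableByOfIso i).isRepresentable
  · obtain ⟨V, ⟨v⟩⟩ : ∃ V, Nonempty ((AlgSp.yon S).obj V ≅ X''.obj) := ⟨_, ⟨AlgSp.isoOfRepresentableBy hr.has_representation.choose_spec.some⟩⟩
    obtain ⟨g, hg⟩ := (Groth.Agent.AlgSpc.exists_factor_iff (Groth.Agent.AlgSpc.repWith_ptsIncl hO) j''.hom).2 (by
      rw [Groth.Agent.AlgSpc.range_ptsIncl]
      rintro _ ⟨y, rfl⟩
      obtain ⟨w, hw⟩ := (AlgSp.Points.schemeHomeo V).surjective (AlgSp.Points.map v.inv y)
      refine h V (v.hom ≫ j''.hom) (Groth.Agent.AlgSpc.repWith_of_isPullback (IsPullback.of_horiz_isIso ⟨by simp⟩ : IsPullback v.hom (v.hom ≫ j''.hom) j''.hom (𝟙 _)) hj'') ⟨w, ?_⟩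
      rw [AlgSp.Points.ofPt_eq_map_ofScheme, show AlgSp.Points.ofScheme V w = _ from hw, ← AlgSp.Points.map_comp, Iso.inv_hom_id_assoc])
    exact ⟨ObjectProperty.homMk g, ObjectProperty.hom_ext _ hg⟩

end Groth.Agent.S10197
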