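import Groth.Statements.S10210
import Groth.Agent.AlgSpc.Listed

set_option autoImplicit false
universe u
open CategoryTheory CategoryTheory.Limits AlgebraicGeometry Topology TopologicalSpace
open AlgSp

namespace Groth.Agent.S10210

/-- Let X, Y, Z be algebraic spaces over a scheme S, g : X ⟶ Z and h : Y ⟶ Z etale morphisms and f : X ⟶
Y a morphism with f ≫ h = g. Then f is etale. -/
theorem result {S : Scheme.{u}} {X Y Z : AlgSp.Space S} (f : X ⟶ Y) (h : Y ⟶ Z) (g : X ⟶ Z)
    (w : f ≫ h = g) (hg : AlgSp.IsEtaleMor g.hom) (hh : AlgSp.IsEtaleMor h.hom) :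
    AlgSp.IsEtaleMor f.hom := by
  subst w
  rw [Groth.Agent.AlgSpc.isEtaleMor_iff_locP X.property Z.property] at hg
  rw [Groth.Agent.AlgSpc.isEtaleMor_iff_locP Y.property Z.property] at hh
  rw [Groth.Agent.AlgSpc.isEtaleMor_iff_locP X.property Y.property]
  exact Groth.Agent.AlgSpc.locP_of_comp (fun a b hab hb =>
    haveI : Etale (a ≫ b) := hab
    haveI : Etale b := hb
    Etale.of_comp a b) X.property Y.property Z.property hg hh

end Groth.Agent.S10210
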