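import Groth.Statements.S10213
import Groth.Agent.AlgSpc.Props2

set_option autoImplicit false
set_option backward.isDefEq.respectTransparency false
universe u
open CategoryTheory CategoryTheory.Limits AlgebraicGeometry Topology TopologicalSpace
open AlgSp

namespace Groth.Agent.S10213

/-- For an algebraic space X over a scheme S there is a surjective etale map h_U ⟶ X where U is a
disjoint union of affine schemes, each of which maps into an affine open of S. -/
theorem result {S : Scheme.{u}} (X : AlgSp.Space S) :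
    ∃ (ι : Type u) (V : ι → Scheme.{u}) (_ : ∀ i, IsAffine (V i)) (q : (∐ V) ⟶ S)
      (p : (AlgSp.yon S).obj (Over.mk q) ⟶ X.obj),
      AlgSp.RepWith @Etale p ∧ AlgSp.RepWith @Surjective p ∧
        ∀ i, ∃ W : S.Opens, IsAffineOpen W ∧ ∀ v : ↥(V i), (Sigma.ι V i ≫ q) v ∈ W := by
  obtain ⟨U, p, hp, hs⟩ := X.property.atlas
  let ι := {V : U.left.Opens // IsAffineOpen V ∧ ∃ W : S.Opens, IsAffineOpen W ∧ ∀ v ∈ V, U.hom v ∈ W}
  let g : ι → Scheme.{u} := fun i => i.1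
  let φ : (∐ g) ⟶ U.left := Sigma.desc fun i => i.1.ι
  have hφ : Etale φ := by
    refine IsZariskiLocalAtSource.of_openCover (P := @Etale) (sigmaOpenCover g) fun i => ?_
    change Etale (Sigma.ι g i ≫ φ)
    rw [Sigma.ι_desc]
    infer_instance
  let k : Over.mk (φ ≫ U.hom) ⟶ U := Over.homMk φ rfl
  have hk : AlgSp.RepWith @Etale ((AlgSp.yon S).map k ≫ p) :=
    Groth.Agent.AlgSpc.repWith_comp ((AlgSp.repWith_yon_map_iff _ k).2 hφ) hp
  refine ⟨ι, g, fun i => i.2.1, φ ≫ U.hom, (AlgSp.yon S).map k ≫ p, hk,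
    (Groth.Agent.AlgSpc.surjective_ofPt_iff hk.1).2 fun x => ?_, fun i => ?_⟩
  · obtain ⟨u, rfl⟩ := Groth.Agent.AlgSpc.surjective_ofPt hs x
    obtain ⟨W, hW, hu, -⟩ := exists_isAffineOpen_mem_and_subset (show U.hom u ∈ (⊤ : S.Opens) from trivial)
    obtain ⟨V, hV, hu', hVW⟩ := exists_isAffineOpen_mem_and_subset (show u ∈ U.hom ⁻¹ᵁ W from hu)
    let i : ι := ⟨V, hV, W, hW, fun v hv => hVW hv⟩
    refine ⟨Sigma.ι g i ⟨u, hu'⟩, (Groth.Agent.AlgSpc.ofPt_comp k p _).trans ?_⟩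
    congr 1
    change φ (Sigma.ι g i ⟨u, hu'⟩) = u
    rw [← Scheme.Hom.comp_apply, Sigma.ι_desc]
    rfl
  · obtain ⟨W, hW, h⟩ := i.2.2
    refine ⟨W, hW, fun v => ?_⟩
    change U.hom (φ (Sigma.ι g i v)) ∈ W
    rw [← Scheme.Hom.comp_apply (Sigma.ι g i), Sigma.ι_desc]
    exact h _ v.2

end Groth.Agent.S10213
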