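import Groth.Statements.S10214
import Groth.Agent.AlgSpDesc.ZarQS

set_option autoImplicit false
universe u
open CategoryTheory CategoryTheory.Limits AlgebraicGeometry Topology TopologicalSpace
open AlgSp

namespace Groth.Agent.S10214

/-- Every algebraic space X over a scheme S has a Zariski covering by open subspaces X_i such that each
X_i has a surjective etale map from an affine scheme; moreover the affine schemes may be taken to
map into affine opens of S. -/
theorem result {S : Scheme.{u}} (X : AlgSp.Space S) :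
    ∃ (ι : Type u) (Xi : ι → AlgSp.Space S) (j : ∀ i, Xi i ⟶ X),
      AlgSp.IsZarCover (fun i => (Xi i).obj) (fun i => (j i).hom) ∧
        ∀ i, ∃ (U : Over S) (p : (AlgSp.yon S).obj U ⟶ (Xi i).obj), IsAffine U.left ∧
          AlgSp.RepWith @Etale p ∧ AlgSp.RepWith @Surjective p ∧
          ∃ W : S.Opens, IsAffineOpen W ∧ ∀ v : ↥U.left, U.hom v ∈ W := by
    obtain ⟨κ, -, Y, k, hY, h⟩ := Groth.Agent.AlgSpDesc.exists_zar_affine_charts X (ι := PUnit.{u + 1})
      (Xi := fun _ => X) (j := fun _ => 𝟙 X)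
      ⟨fun _ => Groth.Agent.AlgSpc.repWith_iso (P := @IsOpenImmersion) (𝟙 X.obj), fun x => ⟨⟨⟩, x, by
        change AlgSp.Points.map (𝟙 X.obj) x = x
        rw [AlgSp.Points.map_id]⟩⟩
    refine ⟨κ, Y, fun z => k z ≫ 𝟙 X, hY, fun z => ?_⟩
    obtain ⟨-, U, p, O, hU, hO, hUO, hpe, hps⟩ := h z
    exact ⟨U, p, hU, hpe, hps, O, hO, hUO⟩

end Groth.Agent.S10214
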