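import Groth.Statements.S10222
import Groth.Agent.OEtStalk.Reduced

set_option autoImplicit false
universe u
open CategoryTheory CategoryTheory.Limits AlgebraicGeometry Topology TopologicalSpace
open AlgSp

namespace Groth.Agent.S10222

/-- (1) if and only if (2): an algebraic space X over a scheme S is reduced if and only if at each x ∈
|X| the local ring of X is reduced, the latter meaning that for some scheme U, some representable
etale h_U ⟶ X and some point u of U mapping to x, the local ring of U at u is reduced. (The
assertions about global sections in the published statement are not part of this row.) -/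
theorem result {S : Scheme.{u}} (X : AlgSp.Space S) :
    AlgSp.IsReducedSp X.obj ↔
      ∀ x : AlgSp.Points X.obj, AlgSp.HasAt (fun U u => _root_.IsReduced ↥(U.presheaf.stalk u)) X.obj x := by
  constructor
  · intro h x
    obtain ⟨U, a, u, ha, hu⟩ := OEtStalk.exists_chart X.property x
    haveI := OEtStalk.isReduced_of_etale_chart X.property h ha
    exact ⟨U, a, u, ha, hu, inferInstance⟩
  · intro h
    obtain ⟨U, a, ha, has⟩ := X.property.atlas
    refine ⟨U, a, ha, has, ?_⟩
    haveI : ∀ u : ↥U.left, _root_.IsReduced (U.left.presheaf.stalk u) := fun u => by
      obtain ⟨U', a', u', ha', hu', hr⟩ := h (Points.ofPt a u)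
      exact (OEtStalk.isReduced_stalk_iff X.property ha ha' hu'.symm).2 hr
    exact isReduced_of_isReduced_stalk _

end Groth.Agent.S10222
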