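import Groth.Statements.S10227
import Groth.Agent.OEtStalk.Apply

set_option autoImplicit false
universe u
open CategoryTheory CategoryTheory.Limits AlgebraicGeometry Topology TopologicalSpace
open AlgSp

namespace Groth.Agent.S10227

/-- (1) ⇔ (4) ⇔ (5): let X be an algebraic space over a scheme S and x ∈ |X|. The following are
equivalent: for every scheme U, every etale h_U ⟶ X and every point u of U over x, the local ring of
U at u has a unique minimal prime; for every such (U, u), the local ring of U at u is geometrically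
unibranch; for every geometric point x̄ over x, the etale local ring of X at x̄ has a unique minimal
prime. -/
theorem result {S : Scheme.{u}} (X : AlgSp.Space S) (x : AlgSp.Points X.obj) :
    ((∀ (U : Over S) (a : (AlgSp.yon S).obj U ⟶ X.obj) (u : ↥U.left),
        AlgSp.RepWith @Etale a → AlgSp.Points.ofPt a u = x → CAlgX.HasUniqueMinimalPrime ↥(U.left.presheaf.stalk u)) ↔
      (∀ (U : Over S) (a : (AlgSp.yon S).obj U ⟶ X.obj) (u : ↥U.left),
        AlgSp.RepWith @Etale a → AlgSp.Points.ofPt a u = x → CAlg2.IsGeomUnibranch ↥(U.left.presheaf.stalk u))) ∧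
    ((∀ (U : Over S) (a : (AlgSp.yon S).obj U ⟶ X.obj) (u : ↥U.left),
        AlgSp.RepWith @Etale a → AlgSp.Points.ofPt a u = x → CAlgX.HasUniqueMinimalPrime ↥(U.left.presheaf.stalk u)) ↔
      ∀ p : AlgSp.FieldPt X.obj, p.IsGeometric → AlgSp.Points.mk p = x →
        CAlgX.HasUniqueMinimalPrime ↥(AlgSp.OEtStalk p)) := by
  have hu1 : ∀ {A : Type (u + 1)} [CommRing A], CAlgX.HasUniqueMinimalPrime A ↔ (minimalPrimes A).encard = 1 := by
    intro A _
    rw [Set.encard_eq_one]
    constructor
    · rintro ⟨q, hq, huniq⟩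
      exact ⟨q, Set.eq_singleton_iff_unique_mem.2 ⟨hq, huniq⟩⟩
    · rintro ⟨q, hq⟩
      exact ⟨q, by simp [hq], fun r hr => by simpa [hq] using hr⟩
  have hu0 : ∀ {A : Type u} [CommRing A], CAlgX.HasUniqueMinimalPrime A ↔ (minimalPrimes A).encard = 1 := by
    intro A _
    rw [Set.encard_eq_one]
    constructor
    · rintro ⟨q, hq, huniq⟩
      exact ⟨q, Set.eq_singleton_iff_unique_mem.2 ⟨hq, huniq⟩⟩
    · rintro ⟨q, hq⟩
      exact ⟨q, by simp [hq], fun r hr => by simpa [hq] using hr⟩
  have hgu : ∀ (U : Scheme.{u}) (v : ↥U), CAlg2.IsGeomUnibranch ↥(U.presheaf.stalk v) ↔ Brnch.numGeomBranchesAt U v = 1 :=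
    fun U v => (BranchCount.numGeomBranches_eq_one_iff _).symm
  have h14 : (∀ (U : Over S) (a : (AlgSp.yon S).obj U ⟶ X.obj) (u : ↥U.left),
        AlgSp.RepWith @Etale a → AlgSp.Points.ofPt a u = x → CAlgX.HasUniqueMinimalPrime ↥(U.left.presheaf.stalk u)) ↔
      (∀ (U : Over S) (a : (AlgSp.yon S).obj U ⟶ X.obj) (u : ↥U.left),
        AlgSp.RepWith @Etale a → AlgSp.Points.ofPt a u = x → CAlg2.IsGeomUnibranch ↥(U.left.presheaf.stalk u)) := by
    constructor
    · intro h U a u ha hx
      rw [hgu]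
      refine le_antisymm (OEtStalk.numGeomBranchesAt_le_of_forall ha 1 fun U' a' u' ha' hx' => ?_)
        (BranchCount.one_le_numGeomBranches _)
      exact (hu0.1 (h U' a' u' ha' (hx'.trans hx))).le
    · intro h U a u ha hx
      rw [hu0]
      refine le_antisymm ((OEtStalk.minimalPrimes_le_numGeomBranchesAt u).trans ((hgu _ _).1 (h U a u ha hx)).le) ?_
      obtain ⟨q, hq, -⟩ := Ideal.exists_minimalPrimes_le (I := (⊥ : Ideal ↥(U.left.presheaf.stalk u)))
        (J := IsLocalRing.maximalIdeal _) bot_le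
      exact Set.one_le_encard_iff_nonempty.2 ⟨q, hq⟩
  refine ⟨h14, h14.trans ?_⟩
  constructor
  · intro h p hp hx
    obtain ⟨U, a, u, ha, hu⟩ := OEtStalk.exists_chart X.property (Points.mk p)
    rw [hu1, ← OEtStalk.numGeomBranchesAt_eq_encard X.property p hp ha hu, ← hgu]
    exact h U a u ha (hu.trans hx)
  · intro h U a u ha hx
    obtain ⟨p, hp, hpx⟩ := OEtStalk.exists_geometric x
    rw [hgu, OEtStalk.numGeomBranchesAt_eq_encard X.property p hp ha (hx.trans hpx.symm), ← hu1]
    exact h p hp hpx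

end Groth.Agent.S10227
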