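import Groth.Statements.S10232
import Groth.Agent.OEtStalk.Apply

set_option autoImplicit false
universe u
open CategoryTheory CategoryTheory.Limits AlgebraicGeometry Topology TopologicalSpace
open AlgSp

namespace Groth.Agent.S10232

/-- Let X be an algebraic space over a scheme S and x ∈ |X|. Then X is regular at x (for some etale
chart h_U ⟶ X and some point u of U over x, the local ring of U at u is regular) if and only if the
etale local ring of X at x̄ is regular for every geometric point x̄ lying over x, if and only if it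
is regular for some geometric point x̄ lying over x. -/
theorem result {S : Scheme.{u}} (X : AlgSp.Space S) (x : AlgSp.Points X.obj) :
    (AlgSp.HasAt (fun U u => IsRegularLocalRing ↥(U.presheaf.stalk u)) X.obj x ↔
      ∀ p : AlgSp.FieldPt X.obj, p.IsGeometric → AlgSp.Points.mk p = x → IsRegularLocalRing ↥(AlgSp.OEtStalk p)) ∧
    (AlgSp.HasAt (fun U u => IsRegularLocalRing ↥(U.presheaf.stalk u)) X.obj x ↔
      ∃ p : AlgSp.FieldPt X.obj, p.IsGeometric ∧ AlgSp.Points.mk p = x ∧ IsRegularLocalRing ↥(AlgSp.OEtStalk p)) := by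
  constructor
  · constructor
    · rintro ⟨U, a, u, ha, h, hr⟩ p hp rfl
      exact (OEtStalk.isRegularLocalRing_iff X.property p hp ha h).2 hr
    · intro hall
      obtain ⟨p, hp, rfl⟩ := OEtStalk.exists_geometric x
      obtain ⟨U, a, u, ha, h⟩ := OEtStalk.exists_chart X.property (Points.mk p)
      exact ⟨U, a, u, ha, h, (OEtStalk.isRegularLocalRing_iff X.property p hp ha h).1 (hall p hp rfl)⟩
  · constructor
    · rintro ⟨U, a, u, ha, h, hr⟩
      obtain ⟨p, hp, rfl⟩ := OEtStalk.exists_geometric x
      exact ⟨p, hp, rfl, (OEtStalk.isRegularLocalRing_iff X.property p hp ha h).2 hr⟩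
    · rintro ⟨p, hp, rfl, hr⟩
      obtain ⟨U, a, u, ha, h⟩ := OEtStalk.exists_chart X.property (Points.mk p)
      exact ⟨U, a, u, ha, h, (OEtStalk.isRegularLocalRing_iff X.property p hp ha h).1 hr⟩

end Groth.Agent.S10232
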