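import Groth.Statements.S10233
import Groth.Agent.AlgSpBoot.InvSub
import Groth.Agent.S10547
import Groth.Agent.S10534
import Groth.Agent.S10531

set_option autoImplicit false
universe u
open CategoryTheory CategoryTheory.Limits AlgebraicGeometry Topology TopologicalSpace
open AlgSp

namespace Groth.Agent.S10233

/-- Let X be an algebraic space over a scheme S with a presentation (U, R, s, t, p), and let i' : Z' ⟶ U
be an immersion of schemes that is R-invariant, meaning that one locally closed subscheme R' of R is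
at the same time the inverse image of Z' under s and under t. Then Z' descends to a locally closed
subspace of X: there is a morphism of algebraic spaces i : Z ⟶ X representable by immersions
together with a map h_{Z'} ⟶ Z making h_{Z'} the fibre product Z ×_X h_U; moreover i is a closed
(resp. open) immersion when i' is. -/
theorem result {S : Scheme.{u}} (X : AlgSp.Space S) {R U : Over S} (s t : R ⟶ U)
    (p : (AlgSp.yon S).obj U ⟶ X.obj) (hp : AlgSp.IsPresentation s t p)
    {Z' R' : Scheme.{u}} (i' : Z' ⟶ U.left) [IsImmersion i'] (k : R' ⟶ R.left) (s' t' : R' ⟶ Z')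
    (hs : IsPullback k s' s.left i') (ht : IsPullback k t' t.left i') :
    ∃ (Z : AlgSp.Space S) (i : Z ⟶ X) (q : (AlgSp.yon S).obj (Over.mk (i' ≫ U.hom)) ⟶ Z.obj),
      AlgSp.RepWith @IsImmersion i.hom ∧
      IsPullback q ((AlgSp.yon S).map (Over.homMk i' rfl : Over.mk (i' ≫ U.hom) ⟶ U)) i.hom p ∧
      (IsClosedImmersion i' → AlgSp.RepWith @IsClosedImmersion i.hom) ∧
      (IsOpenImmersion i' → AlgSp.RepWith @IsOpenImmersion i.hom) := by
  let Z₀ : Over S := Over.mk (i' ≫ U.hom)
  let R₀ : Over S := Over.mk (k ≫ R.hom)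
  let iU : Z₀ ⟶ U := Over.homMk i' rfl
  haveI : Mono iU := (Over.forget S).mono_of_mono_map (inferInstanceAs (Mono i'))
  let kR : R₀ ⟶ R := Over.homMk k rfl
  let s₀ : R₀ ⟶ Z₀ := Over.homMk s' (by
    show s' ≫ i' ≫ U.hom = k ≫ R.hom
    rw [← Category.assoc, ← hs.w, Category.assoc, Over.w s])
  let t₀ : R₀ ⟶ Z₀ := Over.homMk t' (by
    show t' ≫ i' ≫ U.hom = k ≫ R.hom
    rw [← Category.assoc, ← ht.w, Category.assoc, Over.w t])
  have hs₀ : IsPullback kR s₀ s iU := IsPullback.of_map (Over.forget S) (Over.OverMorphism.ext hs.w) hs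
  have ht₀ : IsPullback kR t₀ t iU := IsPullback.of_map (Over.forget S) (Over.OverMorphism.ext ht.w) ht
  obtain ⟨i, hZ, sq⟩ := AlgSpBoot.exists_invariant_sub hp hs₀ ht₀
    (MorphismProperty.of_isPullback (P := @Etale) hs hp.eqvRel.etale_left)
    (MorphismProperty.of_isPullback (P := @Etale) ht hp.eqvRel.etale_right)
  have hY := AlgSp.IsAlgSpace.yon_obj U
  have hX' := AlgSp.IsAlgSpace.yon_obj Z₀
  have hq := AlgSpLoc.isFpqcCover_atlas X.property hp.etale hp.surjective
  have hc : AlgSp.IsFppfCover (fun _ : PUnit.{u+1} => (AlgSp.yon S).obj U) (fun _ => p) := by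
    refine ⟨fun _ => ⟨?_, ?_⟩, fun x => ?_⟩
    · exact AlgSpc.locP_of_repWith (fun e f (_ : Etale e) (_ : Flat f) => inferInstanceAs (Flat (e ≫ f)))
        (AlgSpc.repWith_mono (fun _ _ f (_ : Etale f) => inferInstanceAs (Flat f)) hp.etale)
    · exact AlgSpc.locP_of_repWith (fun e f (_ : Etale e) (_ : LocallyOfFinitePresentation f) =>
        inferInstanceAs (LocallyOfFinitePresentation (e ≫ f)))
        (AlgSpc.repWith_mono (fun _ _ f (_ : Etale f) => inferInstanceAs (LocallyOfFinitePresentation f)) hp.etale)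
    · obtain ⟨y, hy⟩ := AlgSpc.surjective_map_of_repWith hp.surjective x
      exact ⟨PUnit.unit, y, hy⟩
  refine ⟨⟨_, hZ⟩, ObjectProperty.homMk i, AlgSpc.quotMap s₀ t₀, ?_, sq, ?_, ?_⟩
  · exact (S10547.result S _ _ X.property (fun _ => hY) hc i hZ _ (fun _ => (AlgSp.yon S).map iU)
      (fun _ => AlgSpc.quotMap s₀ t₀) (fun _ => hX') (fun _ => sq)).2
      fun _ => (AlgSp.repWith_yon_map_iff @IsImmersion iU).2 ‹IsImmersion i'›
  · intro h
    exact (S10534.result S _ _ X.property (fun _ => hY) hq i hZ _ (fun _ => (AlgSp.yon S).map iU)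
      (fun _ => AlgSpc.quotMap s₀ t₀) (fun _ => hX') (fun _ => sq)).2
      fun _ => (AlgSp.repWith_yon_map_iff @IsClosedImmersion iU).2 h
  · intro h
    exact (S10531.result S _ _ X.property (fun _ => hY) hq i hZ _ (fun _ => (AlgSp.yon S).map iU)
      (fun _ => AlgSpc.quotMap s₀ t₀) (fun _ => hX') (fun _ => sq)).2
      fun _ => (AlgSp.repWith_yon_map_iff @IsOpenImmersion iU).2 h

end Groth.Agent.S10233
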