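import Groth.Statements.S10239
import Groth.Agent.OEtStalk.Apply

set_option autoImplicit false
universe u
open CategoryTheory CategoryTheory.Limits AlgebraicGeometry Topology TopologicalSpace
open AlgSp

namespace Groth.Agent.S10239

/-- (1) ⇔ (4) ⇔ (5): let X be an algebraic space over a scheme S, x ∈ |X| and n ≥ 1 an integer. The
following are equivalent: (1) for every scheme U, etale h_U ⟶ X and u ∈ U over x the local ring of U
at u has at most n minimal primes, and for some such (U, u) exactly n; (4) for every such (U, u) the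
number of geometric branches of U at u is n; (5) for every geometric point x̄ over x the etale local
ring of X at x̄ has exactly n minimal primes. -/
theorem result {S : Scheme.{u}} (X : AlgSp.Space S) (x : AlgSp.Points X.obj)
    (n : ℕ) (hn : 1 ≤ n) :
    (((∀ (U : Over S) (a : (AlgSp.yon S).obj U ⟶ X.obj) (u : ↥U.left),
        AlgSp.RepWith @Etale a → AlgSp.Points.ofPt a u = x → (minimalPrimes ↥(U.left.presheaf.stalk u)).encard ≤ n) ∧
        AlgSp.HasAt (fun U u => (minimalPrimes ↥(U.presheaf.stalk u)).encard = n) X.obj x) ↔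
      (∀ (U : Over S) (a : (AlgSp.yon S).obj U ⟶ X.obj) (u : ↥U.left),
        AlgSp.RepWith @Etale a → AlgSp.Points.ofPt a u = x → Brnch.numGeomBranchesAt U.left u = n)) ∧
    ((∀ (U : Over S) (a : (AlgSp.yon S).obj U ⟶ X.obj) (u : ↥U.left),
        AlgSp.RepWith @Etale a → AlgSp.Points.ofPt a u = x → Brnch.numGeomBranchesAt U.left u = n) ↔
      ∀ p : AlgSp.FieldPt X.obj, p.IsGeometric → AlgSp.Points.mk p = x →
        (minimalPrimes ↥(AlgSp.OEtStalk p)).encard = n) := by
  refine ⟨⟨?_, ?_⟩, ⟨?_, ?_⟩⟩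
  · rintro ⟨hle, U₁, a₁, u₁, ha₁, hx₁, hn₁⟩ U a u ha hx
    refine le_antisymm (OEtStalk.numGeomBranchesAt_le_of_forall ha n fun U' a' u' ha' hx' => hle U' a' u' ha' (hx'.trans hx)) ?_
    rw [OEtStalk.numGeomBranchesAt_const X.property ha hx ha₁ hx₁, ← hn₁]
    exact OEtStalk.minimalPrimes_le_numGeomBranchesAt u₁
  · intro h
    refine ⟨fun U a u ha hx => (OEtStalk.minimalPrimes_le_numGeomBranchesAt u).trans (h U a u ha hx).le, ?_⟩
    obtain ⟨m, rfl⟩ : ∃ m, n = m + 1 := ⟨n - 1, by omega⟩
    by_contra hne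
    obtain ⟨U₀, a₀, u₀, ha₀, hx₀⟩ := OEtStalk.exists_chart X.property x
    have h5 := OEtStalk.numGeomBranchesAt_le_of_forall ha₀ (m : ℕ∞) fun U a u ha hx => by
      have hlt : (minimalPrimes ↥(U.left.presheaf.stalk u)).encard < ((m + 1 : ℕ) : ℕ∞) :=
        lt_of_le_of_ne ((OEtStalk.minimalPrimes_le_numGeomBranchesAt u).trans (h U a u ha (hx.trans hx₀)).le)
          fun he => hne ⟨U, a, u, ha, hx.trans hx₀, he⟩
      rw [Nat.cast_add, Nat.cast_one] at hlt
      exact ENat.lt_coe_add_one_iff.1 hlt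
    rw [h U₀ a₀ u₀ ha₀ hx₀, Nat.cast_le] at h5
    omega
  · intro h p hp hx
    obtain ⟨U, a, u, ha, hu⟩ := OEtStalk.exists_chart X.property (Points.mk p)
    rw [← OEtStalk.numGeomBranchesAt_eq_encard X.property p hp ha hu, h U a u ha (hu.trans hx)]
  · intro h U a u ha hx
    obtain ⟨p, hp, hpx⟩ := OEtStalk.exists_geometric x
    rw [OEtStalk.numGeomBranchesAt_eq_encard X.property p hp ha (hx.trans hpx.symm), h p hp hpx]

end Groth.Agent.S10239
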