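import Groth.Statements.S10245
import Groth.Agent.AlgSpBoot.RelGrpd
import Mathlib.AlgebraicGeometry.Sites.Fpqc

set_option autoImplicit false
universe u
open CategoryTheory CategoryTheory.Limits MonoidalCategory CartesianMonoidalCategory MonObj AlgebraicGeometry Topology TopologicalSpace
open AlgSp

namespace Groth.Agent.S10245

/-- Let G ⟶ S be a finite locally free group scheme over a scheme S acting on a scheme X over S by a : G
×_S X ⟶ X, freely on T-valued points for every S-scheme T. Assume one of the following: the
structure morphism X ⟶ S is affine; X admits an open immersion into some affine scheme; G ⟶ S is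
radicial (universally injective). Then the fppf quotient sheaf X/G is a scheme M: there is q : X ⟶ M
over S exhibiting h_M as the quotient of h_X by the projection and the action G ×_S X ⇉ X in fppf
sheaves; moreover the square formed by the action, the projection and q is cartesian (G ×_S X ≅ X
×_M X) and X ⟶ M has sections fppf locally on M, so that X ⟶ X/G is an fppf G-torsor. (The published
statement also allows X ⟶ S quasi-affine, projective or quasi-projective, or X an open subscheme of
Proj of a graded ring; those cases are not covered by this row.) -/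
theorem result {S : Scheme.{u}} (G X : Over S) [GrpObj G]
    (a : AlgGrp.Action G X) (hG : Mor2.IsFinLocFree G.hom)
    (hfree : ∀ (T : Over S) (g : T ⟶ G) (x : T ⟶ X), lift g x ≫ a.act = x → g = toUnit T ≫ η[G])
    (h3 : IsAffineHom X.hom ∨ (∃ (R : CommRingCat.{u}) (i : X.left ⟶ Spec R), IsOpenImmersion i) ∨
      UniversallyInjective G.hom) :
    ∃ (M : Over S) (q : X ⟶ M), QuotSh.IsQuotient Scheme.fppfPrecoverage (snd G X) a.act q ∧
      IsPullback a.act.left (snd G X).left q.left q.left ∧
      NonAbH1.IsLocallyTrivialFor Scheme.fppfPrecoverage (Over.mk q.left) := by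
  have heq := AlgSpBoot.isEqvRel_freeAct a hfree
  have sq : IsPullback (fst G X).left (snd G X).left G.hom X.hom := IsPullback.of_hasPullback G.hom X.hom
  obtain ⟨g₁, g₂, g₃⟩ := hG
  haveI := g₁; haveI := g₂; haveI := g₃
  have s₁ : IsFinite (snd G X).left := MorphismProperty.of_isPullback (P := @IsFinite) sq g₁
  have s₂ : Flat (snd G X).left := MorphismProperty.of_isPullback (P := @Flat) sq g₂
  have s₃ : LocallyOfFinitePresentation (snd G X).left :=
    MorphismProperty.of_isPullback (P := @LocallyOfFinitePresentation) sq g₃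
  haveI := s₁
  obtain ⟨M, m, hm, hsq, hq⟩ := AlgSpBoot.exists_quotient_of_isEqvRel heq ⟨s₁, s₂, s₃⟩ (fun x => by
    rcases h3 with h | ⟨A, i, hi⟩ | h
    · obtain ⟨V, hV, hxV, -⟩ := exists_isAffineOpen_mem_and_subset (x := X.hom x) (U := ⊤) trivial
      refine ⟨X.hom ⁻¹ᵁ V, hV.preimage X.hom, ?_⟩
      rintro _ ⟨r, hr, rfl⟩
      show X.hom (a.act.left r) ∈ V
      rw [← Scheme.Hom.comp_apply, Over.w, ← Over.w (snd G X), Scheme.Hom.comp_apply,
        show (snd G X).left r = x from hr]
      exact hxV
    · haveI := hi
      have hfin : (a.act.left.base '' ((snd G X).left.base ⁻¹' {x})).Finite :=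
        (IsFinite.finite_preimage_singleton (snd G X).left x).image _
      obtain ⟨f, hf₁, hf₂⟩ := GrpdQ.exists_basicOpen_finite (O := i.opensRange) (isAffineOpen_top (Spec A))
        (hfin.image i.base) (fun _ _ => trivial) (by rintro _ ⟨y, -, rfl⟩; exact ⟨y, rfl⟩)
      refine ⟨i ⁻¹ᵁ ((Spec A).basicOpen f), ((isAffineOpen_top (Spec A)).basicOpen f).preimage_of_isOpenImmersion i hf₂, ?_⟩
      intro y hy
      exact hf₁ ⟨y, hy, rfl⟩
    · haveI := h
      haveI : UniversallyInjective (snd G X).left := MorphismProperty.of_isPullback (P := @UniversallyInjective) sq h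
      rcases Set.eq_empty_or_nonempty ((snd G X).left.base ⁻¹' {x}) with he | ⟨r, hr⟩
      · obtain ⟨V, hV, -, -⟩ := exists_isAffineOpen_mem_and_subset (x := x) (U := ⊤) trivial
        exact ⟨V, hV, by rintro _ ⟨r, hr, rfl⟩; exact absurd hr (Set.eq_empty_iff_forall_notMem.1 he r)⟩
      · obtain ⟨V, hV, hrV, -⟩ := exists_isAffineOpen_mem_and_subset (x := a.act.left r) (U := ⊤) trivial
        refine ⟨V, hV, ?_⟩
        rintro _ ⟨r', hr', rfl⟩
        rw [(snd G X).left.injective (hr'.trans hr.symm)]
        exact hrV)
  refine ⟨M, m, hq, hsq, ?_⟩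
  haveI : Surjective m.left := AlgSpBoot.surjective_of_isQuotient m hq
  haveI := hm.2.1
  haveI := hm.2.2
  refine ⟨_, m.left.singleton_mem_fppfPrecoverage, ?_⟩
  rintro _ _ ⟨⟩
  exact ⟨𝟙 _, Category.id_comp _⟩

end Groth.Agent.S10245
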