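import Groth.Statements.S10263
import Groth.Agent.AlgSpc.Listed

set_option autoImplicit false
universe u
open CategoryTheory CategoryTheory.Limits AlgebraicGeometry
open AlgSp

namespace Groth.Agent.S10263

/-- If the composite X -> Y -> Z is unramified then X -> Y is unramified. -/
theorem result {S : Scheme.{u}} {X Y Z : AlgSp.Space S} (f : X ⟶ Y) (g : Y ⟶ Z)
    (h : AlgSp.LocP (@LocallyOfFiniteType ⊓ @FormallyUnramified) (f ≫ g).hom) :
    AlgSp.LocP (@LocallyOfFiniteType ⊓ @FormallyUnramified) f.hom := by
  exact Groth.Agent.AlgSpc.locP_of_comp (Q := ⊤) (fun h k hk _ =>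
    haveI : LocallyOfFiniteType (h ≫ k) := hk.1
    haveI : FormallyUnramified (h ≫ k) := hk.2
    ⟨locallyOfFiniteType_of_comp h k, FormallyUnramified.of_comp h k⟩)
    X.property Y.property Z.property h (Groth.Agent.AlgSpc.locP_top g.hom)

end Groth.Agent.S10263
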