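import Groth.Statements.S10265
import Groth.Agent.AlgSpc.EtLocInst
import Groth.Agent.AlgSpLoc.EtLocMore

set_option autoImplicit false
set_option backward.isDefEq.respectTransparency false
universe u
open CategoryTheory CategoryTheory.Limits AlgebraicGeometry
open AlgSp

namespace Groth.Agent.S10265

/-- Whenever a morphism of algebraic spaces is etale, it is, etale locally on both source and target,
smooth, flat, unramified, locally quasi-finite, locally of finite type and locally of finite
presentation. -/
theorem result {S : Scheme.{u}} {X Y : AlgSp.Space S} (f : X ⟶ Y) (hf : AlgSp.IsEtaleMor f.hom) :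
    AlgSp.LocP (@LocallyQuasiFinite ⊓ @LocallyOfFiniteType) f.hom ∧ AlgSp.LocP @Smooth f.hom ∧
    AlgSp.LocP @Flat f.hom ∧ AlgSp.LocP @LocallyOfFinitePresentation f.hom ∧
    AlgSp.LocP @LocallyOfFiniteType f.hom ∧ AlgSp.LocP (@LocallyOfFiniteType ⊓ @FormallyUnramified) f.hom := by
    have h := (Groth.Agent.AlgSpc.isEtaleMor_iff_locP X.property Y.property).1 hf
    refine ⟨?_, ?_, ?_, ?_, ?_, ?_⟩ <;> refine Groth.Agent.AlgSpc.locP_mono (fun A B e (he : Etale e) => ?_) h
    · exact ⟨Groth.Agent.AlgSpLoc.locallyQuasiFinite_of_etale _, inferInstance⟩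
    · exact (inferInstance : Smooth e)
    · exact (inferInstance : Flat e)
    · exact (inferInstance : LocallyOfFinitePresentation e)
    · exact (inferInstance : LocallyOfFiniteType e)
    · exact ⟨inferInstance, inferInstance⟩

end Groth.Agent.S10265
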