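import Groth.Statements.S10269
import Groth.Agent.AlgSpc.TestedMor

set_option autoImplicit false
universe u
open CategoryTheory CategoryTheory.Limits AlgebraicGeometry
open AlgSp

namespace Groth.Agent.S10269

/-- A finite morphism of algebraic spaces is integral; an integral morphism locally of finite type is
finite. -/
theorem result {S : Scheme.{u}} {X Y : AlgSp.Space S} (f : X ⟶ Y) :
    (AlgSp.IsFiniteMor f.hom → AlgSp.IsIntegralMor f.hom) ∧
    (AlgSp.IsIntegralMor f.hom → AlgSp.LocP @LocallyOfFiniteType f.hom → AlgSp.IsFiniteMor f.hom) := by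
  refine ⟨fun h => (Groth.Agent.AlgSpc.repWith_integralHom_iff _).2 (Groth.Agent.AlgSpc.repWith_mono (fun _ _ k (hk : IsFinite k) => (inferInstance : IsIntegralHom k))
      ((Groth.Agent.AlgSpc.repWith_finite_iff _).1 h)), fun h hl => (Groth.Agent.AlgSpc.repWith_finite_iff _).2 ?_⟩
  have hi := (Groth.Agent.AlgSpc.repWith_integralHom_iff _).1 h
  exact ⟨hi.1, fun T V g fst i sq => (IsFinite.iff_isIntegralHom_and_locallyOfFiniteType _).2
    ⟨hi.2 g fst i sq, Groth.Agent.AlgSpc.prop_of_locP_sq X.property Y.property hl sq⟩⟩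

end Groth.Agent.S10269
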