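import Groth.Statements.S10281
import Groth.Agent.AlgSpImage.Main
import Groth.Agent.AlgSpDesc.GraphFactor
import Groth.Agent.AlgSpc.Misc1
import Groth.Agent.AlgSpc.More
import Groth.Agent.AlgSpDesc.ZarQS

set_option backward.isDefEq.respectTransparency false
set_option linter.style.haveILetI false

set_option autoImplicit false
universe u
open CategoryTheory CategoryTheory.Limits AlgebraicGeometry
open AlgSp

namespace Groth.Agent.S10281

/-- The scheme theoretic image of a space proper over B in a space separated and locally of finite type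
over B is proper over B, and the source surjects onto it. -/
theorem result {S : Scheme.{u}} {X Y Z B : AlgSp.Space S} (h : X ⟶ Y) (f : X ⟶ B)
    (g : Y ⟶ B) (comm : h ≫ g = f) (hf : AlgSp.IsProperMor f.hom) (hg : AlgSp.IsSeparatedMor g.hom)
    (hg' : AlgSp.LocP @LocallyOfFiniteType g.hom) (i : Z ⟶ Y) (hZ : AlgSp.IsSchImage h.hom i.hom)
    (h' : X ⟶ Z) (fac : h' ≫ i = h) :
    AlgSp.IsProperMor (i ≫ g).hom ∧ AlgSp.IsSurjectiveMor h'.hom := by
  haveI : Mono i.hom := Groth.Agent.AlgSpLimit.mono_closed hZ.1
  have hc : h.hom ≫ g.hom = f.hom := congrArg InducedCategory.Hom.hom comm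
  have hfac : h'.hom ≫ i.hom = h.hom := congrArg InducedCategory.Hom.hom fac
  have hh : IsProperMor h.hom := Groth.Agent.AlgSpDesc.isProperMor_of_comp_separated X.property Y.property B.property hg
    (hc.symm ▸ hf)
  have hcl : IsClosed (Set.range (Points.map h.hom)) :=
    (show IsClosedMap (Points.map h.hom) from
      hh.2.2 Y.property (𝟙 Y.obj) (𝟙 X.obj) h.hom (IsPullback.id_horiz h.hom)).isClosed_range
  have hs : Function.Surjective (Points.map h'.hom) := fun z => by
    have hz : Points.map i.hom z ∈ Set.range (Points.map h.hom) := hcl.closure_eq ▸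
      Groth.Agent.AlgSpImage.range_subset_closure X.property Y.property hh.2.1.2 Z.property hZ ⟨z, rfl⟩
    obtain ⟨x, hx⟩ := hz
    refine ⟨x, Groth.Agent.AlgSpDesc.injective_map_of_mono i.hom ?_⟩
    rw [← Points.map_comp, hfac]
    exact hx
  have comm' : h'.hom ≫ i.hom ≫ g.hom = f.hom := by rw [← Category.assoc, hfac, hc]
  have hi : IsProperMor i.hom := Groth.Agent.AlgSpc.isProperMor_of_repWith_closedImmersion hZ.1
  refine ⟨⟨Groth.Agent.AlgSpc.repWith_diagonal_comp hi.1 hg,
    ⟨Groth.Agent.AlgSpc.locP_comp Z.property Y.property B.property hi.2.1.1 hg',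
      Groth.Agent.AlgSpc.isQuasiCompactMor_of_surjective Z.property B.property comm' hs hf.2.1.2⟩,
    Groth.Agent.AlgSpc.univClosed_of_surjective comm' hf.2.2 hs⟩, hs⟩

end Groth.Agent.S10281
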