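import Groth.Statements.S10294
import Groth.Agent.S9948
import Groth.Agent.AlgSpc.TestedMor
import Groth.Agent.AlgSpLoc.FlatFibres

set_option autoImplicit false
universe u
open CategoryTheory CategoryTheory.Limits AlgebraicGeometry
open AlgSp

namespace Groth.Agent.S10294

/-- Finite locally free is the same as finite, flat and locally of finite presentation; over a locally
Noetherian target it is the same as finite and flat. -/
theorem result {S : Scheme.{u}} {X Y : AlgSp.Space S} (f : X ⟶ Y) :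
    (AlgSp.IsFinLocFreeMor f.hom ↔
      (AlgSp.IsFiniteMor f.hom ∧ AlgSp.LocP @Flat f.hom ∧ AlgSp.LocP @LocallyOfFinitePresentation f.hom)) ∧
    (AlgSp.IsLocNoethSp Y.obj →
      (AlgSp.IsFinLocFreeMor f.hom ↔ (AlgSp.IsFiniteMor f.hom ∧ AlgSp.LocP @Flat f.hom))) := by
  have hfin : AlgSp.IsFinLocFreeMor f.hom ↔
      (AlgSp.IsFiniteMor f.hom ∧ AlgSp.LocP @Flat f.hom ∧ AlgSp.LocP @LocallyOfFinitePresentation f.hom) := by
    rw [AlgSpc.repWith_finite_iff]
    constructor
    · intro h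
      have h1 : AlgSp.RepWith @IsFinite f.hom := AlgSpc.repWith_mono (fun _ _ k (hk : AlgSp.finLocFree k) => hk.1) h
      exact ⟨h1, (S9948.result @Flat (Or.inr (Or.inr (Or.inl rfl))) f h.1).2 (AlgSpc.repWith_mono (fun _ _ k (hk : AlgSp.finLocFree k) => hk.2.1) h),
        (S9948.result @LocallyOfFinitePresentation (Or.inr (Or.inl rfl)) f h.1).2
          (AlgSpc.repWith_mono (fun _ _ k (hk : AlgSp.finLocFree k) => hk.2.2) h)⟩
    · rintro ⟨h1, h2, h3⟩
      have h2' := (S9948.result @Flat (Or.inr (Or.inr (Or.inl rfl))) f h1.1).1 h2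
      have h3' := (S9948.result @LocallyOfFinitePresentation (Or.inr (Or.inl rfl)) f h1.1).1 h3
      exact ⟨h1.1, fun T V g fst i sq => ⟨h1.2 g fst i sq, h2'.2 g fst i sq, h3'.2 g fst i sq⟩⟩
  refine ⟨hfin, fun hY => ⟨fun h => ⟨(hfin.1 h).1, (hfin.1 h).2.1⟩, fun h => hfin.2 ⟨h.1, h.2, ?_⟩⟩⟩
  have hlft : AlgSp.LocP @LocallyOfFiniteType f.hom :=
    (S9948.result @LocallyOfFiniteType (Or.inl rfl) f ((AlgSpc.repWith_finite_iff _).1 h.1).1).2
      (AlgSpc.repWith_mono (fun _ _ k (hk : IsFinite k) => inferInstanceAs (LocallyOfFiniteType k))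
        ((AlgSpc.repWith_finite_iff _).1 h.1))
  intro U V a b g ha hb w
  haveI : IsLocallyNoetherian V.left := AlgSpLoc.isLocallyNoetherian_chart hY hb
  exact LocallyOfFinitePresentation.iff_locallyOfFiniteType.2 (hlft a b g ha hb w)

end Groth.Agent.S10294
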