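import Groth.Statements.S10296
import Groth.Agent.S10272
import Groth.Agent.AlgSpc.TestedMor

set_option autoImplicit false
universe u
open CategoryTheory CategoryTheory.Limits AlgebraicGeometry
open AlgSp

namespace Groth.Agent.S10296

/-- The induced morphism from the normalization of X in Y to any integral Z -> X through which Y -> X
factors is the normalization of Z in Y. -/
theorem result {S : Scheme.{u}} {Y X X' Z : AlgSp.Space S} (f : Y ⟶ X)
    (hqc : AlgSp.IsQuasiCompactMor f.hom) (hqs : AlgSp.IsQuasiSeparatedMor f.hom) (ν : X' ⟶ X) (f' : Y ⟶ X')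
    (hn : AlgSp.IsRelNormalization f.hom ν.hom f'.hom) (π : Z ⟶ X) (hπ : AlgSp.IsIntegralMor π.hom) (g : Y ⟶ Z)
    (hg : g ≫ π = f) (h : X' ⟶ Z) (h1 : f' ≫ h = g) (h2 : h ≫ π = ν) :
    AlgSp.IsRelNormalization g.hom h.hom f'.hom := by
  have hπs : AlgSp.IsSeparatedMor π.hom := AlgSpc.isSeparatedMor_of_repWith_affineHom
    ((AlgSpc.repWith_affineHom_iff _).1 ((AlgSpc.isIntegralMor_iff _).1 hπ).1)
  have h2' : h.hom ≫ π.hom = ν.hom := congr($(h2).hom)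
  have h1' : f'.hom ≫ h.hom = g.hom := congr($(h1).hom)
  have hg' : g.hom ≫ π.hom = f.hom := congr($(hg).hom)
  refine ⟨h1', (S10272.result h π hπs).2 (by rw [h2]; exact hn.2.1), fun W hW ρ k hρ hk => ?_⟩
  have hρπ : AlgSp.IsIntegralMor (ρ ≫ π.hom) := (AlgSpc.repWith_integralHom_iff _).2
    (AlgSpc.repWith_comp ((AlgSpc.repWith_integralHom_iff _).1 hρ) ((AlgSpc.repWith_integralHom_iff _).1 hπ))
  obtain ⟨m, ⟨hm₁, hm₂⟩, hm₃⟩ := hn.2.2 hW (ρ ≫ π.hom) k hρπ (by rw [← Category.assoc, hk, hg'])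
  obtain ⟨m₀, -, hm₀⟩ := hn.2.2 Z.property π.hom g.hom hπ hg'
  have he : m ≫ ρ = h.hom := (hm₀ (m ≫ ρ) ⟨by rw [← Category.assoc, hm₁, hk], by rw [Category.assoc, hm₂]⟩).trans
    (hm₀ h.hom ⟨h1', h2'⟩).symm
  refine ⟨m, ⟨hm₁, he⟩, fun y hy => hm₃ y ⟨hy.1, ?_⟩⟩
  rw [← Category.assoc, hy.2, h2']

end Groth.Agent.S10296
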