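import Groth.Statements.S10298
import Groth.Agent.AlgSpc.TestedMor
import Mathlib.AlgebraicGeometry.Normalization

set_option autoImplicit false
universe u
open CategoryTheory CategoryTheory.Limits AlgebraicGeometry
open AlgSp

namespace Groth.Agent.S10298

/-- For a quasi-compact quasi-separated morphism of schemes, the relative normalization of schemes is
the normalization in the sense of algebraic spaces. -/
theorem result {S : Scheme.{u}} {V U N : Over S} (g : V ⟶ U)
    [QuasiCompact g.left] [QuasiSeparated g.left] (f' : V ⟶ N) (ν : N ⟶ U)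
    (e : N.left ≅ g.left.normalization) (he1 : f'.left ≫ e.hom = g.left.toNormalization)
    (he2 : e.hom ≫ g.left.fromNormalization = ν.left) :
    AlgSp.IsRelNormalization ((AlgSp.yon S).map g) ((AlgSp.yon S).map ν) ((AlgSp.yon S).map f') := by
  haveI : IsIso e.hom := inferInstance
  refine ⟨?_, ?_, fun Z hZ π k hπ hk => ?_⟩
  · rw [← Functor.map_comp]
    congr 1
    ext1
    rw [Over.comp_left, ← he2, reassoc_of% he1, Scheme.Hom.toNormalization_fromNormalization]
  · refine (AlgSpc.repWith_integralHom_iff _).2 ((AlgSp.repWith_yon_map_iff @IsIntegralHom ν).2 ?_)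
    rw [← he2]; infer_instance
  obtain ⟨W, fst, p, sq⟩ := AlgSpc.exists_sq ((AlgSpc.repWith_integralHom_iff _).1 hπ).1 (𝟙 ((AlgSp.yon S).obj U))
  haveI : IsIntegralHom p.left := ((AlgSpc.repWith_integralHom_iff _).1 hπ).2 _ fst p sq
  haveI : IsIso fst := sq.isIso_fst_of_isIso
  have hfp : fst ≫ π = (AlgSp.yon S).map p := by rw [sq.w, Category.comp_id]
  let k' : V ⟶ W := AlgSpc.pre (k ≫ inv fst)
  have hk' : k' ≫ p = g := (AlgSp.yon S).map_injective (by
    rw [Functor.map_comp, AlgSpc.map_pre, ← hfp, Category.assoc, IsIso.inv_hom_id_assoc, hk])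
  have H : g.left = k'.left ≫ p.left := by rw [← Over.comp_left, hk']
  let d : N ⟶ W := Over.homMk (e.hom ≫ g.left.normalizationDesc k'.left p.left H) (by
    rw [← Over.w p, Category.assoc, Scheme.Hom.normalizationDesc_comp_assoc, reassoc_of% he2]
    exact Over.w ν)
  have hd₁ : f' ≫ d = k' := Over.OverMorphism.ext (by
    show f'.left ≫ e.hom ≫ _ = _
    rw [reassoc_of% he1, Scheme.Hom.toNormalization_normalizationDesc])
  have hd₂ : d ≫ p = ν := Over.OverMorphism.ext (by
    show (e.hom ≫ _) ≫ p.left = _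
    rw [Category.assoc, Scheme.Hom.normalizationDesc_comp, he2])
  refine ⟨(AlgSp.yon S).map d ≫ fst, ⟨?_, ?_⟩, fun y hy => ?_⟩
  · rw [← Functor.map_comp_assoc, hd₁, AlgSpc.map_pre, Category.assoc, IsIso.inv_hom_id, Category.comp_id]
  · rw [Category.assoc, hfp, ← Functor.map_comp, hd₂]
  · let y' : N ⟶ W := AlgSpc.pre (y ≫ inv fst)
    have hy₁ : f' ≫ y' = k' := (AlgSp.yon S).map_injective (by
      rw [Functor.map_comp, AlgSpc.map_pre, AlgSpc.map_pre, reassoc_of% hy.1])
    have hy₂ : y' ≫ p = ν := (AlgSp.yon S).map_injective (by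
      rw [Functor.map_comp, AlgSpc.map_pre, ← hfp, Category.assoc, IsIso.inv_hom_id_assoc, hy.2])
    have : y' = d := Over.OverMorphism.ext (by
      rw [← cancel_epi e.inv]
      refine Scheme.Hom.normalization.hom_ext g.left _ _ p.left ?_ ?_ ?_
      · rw [← he1, Category.assoc, Category.assoc, e.hom_inv_id_assoc, e.hom_inv_id_assoc,
          ← Over.comp_left, ← Over.comp_left, hy₁, hd₁]
      · rw [Category.assoc, ← Over.comp_left, hy₂, ← he2, e.inv_hom_id_assoc]
      · rw [Category.assoc, ← Over.comp_left, hd₂, ← he2, e.inv_hom_id_assoc])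
    rw [← this, AlgSpc.map_pre, Category.assoc, IsIso.inv_hom_id, Category.comp_id]

end Groth.Agent.S10298
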