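import Groth.Statements.S1030
import Mathlib
import Groth.Agent.DerCat.LeftResolution

set_option autoImplicit false
universe v u
open CategoryTheory CategoryTheory.Limits
open CohDer


namespace Groth.Agent.S1030

set_option backward.isDefEq.respectTransparency false
set_option backward.defeqAttrib.useBackward true

open CategoryTheory CategoryTheory.Limits CochainComplex HomologicalComplex

set_option backward.isDefEq.respectTransparency false

section
variable {A : Type u} [Category.{v} A] [Abelian A]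

lemma isStrictlyLE_cone {S M : CochainComplex A ℤ} (g : S ⟶ M) (b : ℤ) [S.IsStrictlyLE b] [M.IsStrictlyLE b] :
    (mappingCone g).IsStrictlyLE b := by
  rw [CochainComplex.isStrictlyLE_iff]
  intro i hi
  rw [IsZero.iff_id_eq_zero]
  refine (mappingCone.id_X g i (i + 1) rfl).symm.trans ?_
  rw [(S.isZero_of_isStrictlyLE b (i + 1) (by omega)).eq_of_tgt ((mappingCone.fst g).1.v i (i + 1) rfl) 0,
    (M.isZero_of_isStrictlyLE b i hi).eq_of_tgt ((mappingCone.snd g).v i i (add_zero i)) 0]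
  simp

lemma quasiIso_cone_map {K₁ L₁ K₂ L₂ : CochainComplex A ℤ} (φ₁ : K₁ ⟶ L₁) (φ₂ : K₂ ⟶ L₂) (a : K₁ ⟶ K₂) (b : L₁ ⟶ L₂)
    (comm : φ₁ ≫ b = a ≫ φ₂) [QuasiIso a] [QuasiIso b] : QuasiIso (mappingCone.map φ₁ φ₂ a b comm) := by
  letI := HasDerivedCategory.standard A
  have h1 : IsIso (DerivedCategory.Q.map a) := (DerivedCategory.isIso_Q_map_iff_quasiIso (C := A) a).mpr ‹_›
  have h2 : IsIso (DerivedCategory.Q.map b) := (DerivedCategory.isIso_Q_map_iff_quasiIso (C := A) b).mpr ‹_›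
  exact (DerivedCategory.isIso_Q_map_iff_quasiIso (C := A) _).mp (Pretriangulated.isIso₃_of_isIso₁₂
    (DerivedCategory.Q.mapTriangle.map (mappingCone.triangleMap φ₁ φ₂ a b comm))
    (DerivedCategory.mappingCone_triangle_distinguished φ₁) (DerivedCategory.mappingCone_triangle_distinguished φ₂) h1 h2)

lemma step (P : ObjectProperty A) [P.IsClosedUnderIsomorphisms] {Z : A} (hZ : IsZero Z) (hPZ : P Z)
    (hsum : ∀ X Y : A, P X → P Y → P (X ⊞ Y)) (hP : ∀ X : A, ∃ (Y : A) (π : Y ⟶ X), P Y ∧ Epi π)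
    (Q T : CochainComplex A ℤ) (b : ℤ) [Q.IsStrictlyLE b] [T.IsStrictlyLE b] (hQ : ∀ i, P (Q.X i)) (α : Q ⟶ T) :
    ∃ (Q' : CochainComplex A ℤ) (ι : Q ⟶ Q') (π : Q' ⟶ T), Q'.IsStrictlyLE b ∧ (∀ i, P (Q'.X i)) ∧
      QuasiIso π ∧ (∀ i, Epi (π.f i)) ∧ ι ≫ π = α ∧
      ∀ i, (∃ r, ι.f i ≫ r = 𝟙 _) ∧ P (cokernel (ι.f i)) := by
  obtain ⟨R, β, hR, hRP, hβ, hβq⟩ := DerCat.LeftRes.exists_resolution P hP hZ hPZ T b
  let σ : Q ⊞ R ⟶ T := biprod.desc α β
  have hσ : ∀ i, Epi (σ.f i) := fun i => by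
    have h : (biprod.inr : R ⟶ Q ⊞ R).f i ≫ σ.f i = β.f i := by rw [← comp_f, biprod.inr_desc]
    have : Epi ((biprod.inr : R ⟶ Q ⊞ R).f i ≫ σ.f i) := h ▸ hβ i
    exact epi_of_epi ((biprod.inr : R ⟶ Q ⊞ R).f i) (σ.f i)
  have : Epi σ := HomologicalComplex.epi_of_epi_f _ hσ
  have hMLE : (Q ⊞ R).IsStrictlyLE b := (CochainComplex.isStrictlyLE_iff _ _).2 fun i hi =>
    IsZero.of_iso ((biprod_isZero_iff _ _).mpr ⟨Q.isZero_of_isStrictlyLE b i hi, R.isZero_of_isStrictlyLE b i hi⟩)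
      ((HomologicalComplex.eval A (ComplexShape.up ℤ) i).mapBiprod Q R)
  let E := kernel σ
  have hELE : E.IsStrictlyLE b := (CochainComplex.isStrictlyLE_iff _ _).2 fun i hi =>
    IsZero.of_mono ((kernel.ι σ).f i) ((Q ⊞ R).isZero_of_isStrictlyLE b i hi)
  obtain ⟨S, γ, hS, hSP, -, hγ⟩ := DerCat.LeftRes.exists_resolution P hP hZ hPZ E b
  let g : S ⟶ Q ⊞ R := γ ≫ kernel.ι σ
  let SC := ShortComplex.mk (kernel.ι σ) σ (kernel.condition σ)
  have hSC : SC.ShortExact := { exact := ShortComplex.exact_of_f_is_kernel SC (kernelIsKernel σ) }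
  let m : mappingCone g ⟶ mappingCone SC.f := mappingCone.map g SC.f γ (𝟙 _) (Category.comp_id _)
  have hm : QuasiIso m := quasiIso_cone_map _ _ _ _ _
  have hd : QuasiIso (mappingCone.descShortComplex SC) := mappingCone.quasiIso_descShortComplex hSC
  let π : mappingCone g ⟶ T := m ≫ mappingCone.descShortComplex SC
  have hinr : mappingCone.inr g ≫ π = σ := by simp [π, m, mappingCone.map, SC]; exact mappingCone.inr_descShortComplex SC
  refine ⟨mappingCone g, biprod.inl ≫ mappingCone.inr g, π, isStrictlyLE_cone g b, fun i => ?_, inferInstanceAs (QuasiIso (m ≫ _)), fun i => ?_, by rw [Category.assoc, hinr]; exact biprod.inl_desc _ _, fun i => ?_⟩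
  · exact P.prop_of_iso (HomologicalComplex.homotopyCofiber.XIsoBiprod g i (i + 1) rfl).symm
      (hsum _ _ (hSP _) (P.prop_of_iso ((HomologicalComplex.eval A (ComplexShape.up ℤ) i).mapBiprod Q R).symm (hsum _ _ (hQ i) (hRP i))))
  · have : Epi ((mappingCone.inr g).f i ≫ π.f i) := by rw [← comp_f, hinr]; exact hσ i
    exact epi_of_epi ((mappingCone.inr g).f i) (π.f i)
  · let e := (HomologicalComplex.eval A (ComplexShape.up ℤ) i).mapBiprod Q R
    let ε : (mappingCone g).X i ≅ Q.X i ⊞ (R.X i ⊞ S.X (i + 1)) :=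
      { hom := biprod.lift ((mappingCone.snd g).v i i (add_zero i) ≫ (biprod.fst : Q ⊞ R ⟶ Q).f i)
          (biprod.lift ((mappingCone.snd g).v i i (add_zero i) ≫ (biprod.snd : Q ⊞ R ⟶ R).f i) ((mappingCone.fst g).1.v i (i + 1) rfl))
        inv := biprod.desc ((biprod.inl : Q ⟶ Q ⊞ R).f i ≫ (mappingCone.inr g).f i)
          (biprod.desc ((biprod.inr : R ⟶ Q ⊞ R).f i ≫ (mappingCone.inr g).f i) ((mappingCone.inl g).v (i + 1) i (by omega)))
        hom_inv_id := by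
          have h : ((biprod.fst : Q ⊞ R ⟶ Q).f i ≫ (biprod.inl : Q ⟶ Q ⊞ R).f i) + (biprod.snd : Q ⊞ R ⟶ R).f i ≫ (biprod.inr : R ⟶ Q ⊞ R).f i = 𝟙 _ := by
            rw [← comp_f, ← comp_f, ← add_f_apply, biprod.total, id_f]
          have h' := mappingCone.id_X g i (i + 1) rfl
          rw [biprod.lift_desc, biprod.lift_desc, ← h']
          conv_rhs => arg 2; rw [← Category.comp_id ((mappingCone.snd g).v i i (add_zero i)), ← h]
          simp only [Preadditive.comp_add, Preadditive.add_comp, Category.assoc]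
          abel
        inv_hom_id := by
          apply biprod.hom_ext'
          · apply biprod.hom_ext
            · simp
            · apply biprod.hom_ext <;> simp
          · apply biprod.hom_ext'
            · apply biprod.hom_ext
              · simp
              · apply biprod.hom_ext <;> simp
            · apply biprod.hom_ext
              · simp
              · apply biprod.hom_ext <;> simp }
    have hι : (biprod.inl ≫ mappingCone.inr g : Q ⟶ _).f i = biprod.inl ≫ ε.inv := by simp [ε]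
    have : IsIso ε.inv := Iso.isIso_inv ε
    refine ⟨⟨ε.hom ≫ biprod.fst, by rw [hι]; simp⟩, ?_⟩
    exact P.prop_of_iso ((cokernelIsoOfEq hι).trans ((cokernelCompIsIso _ ε.inv).trans cokernelBiprodInlIso)).symm (hsum _ _ (hRP i) (hSP _))

lemma exists_transition (K : CochainComplex A ℤ) (n m : ℤ) (h : n ≤ m) :
    ∃ t : K.truncLE n ⟶ K.truncLE m, t ≫ K.ιTruncLE m = K.ιTruncLE n := by
  have : (K.truncLE n).IsStrictlyLE m := (K.truncLE n).isStrictlyLE_of_le n m h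
  exact ⟨inv ((K.truncLE n).ιTruncLE m) ≫ CochainComplex.truncLEMap (K.ιTruncLE n) m, by
    rw [Category.assoc, CochainComplex.ιTruncLE_naturality, IsIso.inv_hom_id_assoc]⟩

end

/-- Let P be a class of objects of an abelian category, closed under isomorphisms, which holds for some
zero object, is closed under binary direct sums, and such that every object is a quotient of an
object satisfying P. For any cochain complex K there are bounded above complexes Pₙ (n ≥ 0) with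
terms satisfying P, termwise surjective quasi-isomorphisms πₙ : Pₙ ⟶ τ_{≤ n}K and termwise split
injections ιₙ : Pₙ ⟶ Pₙ₊₁ whose cokernels satisfy P termwise, compatible in the sense that Pₙ ⟶
τ_{≤n}K ⟶ K equals Pₙ ⟶ Pₙ₊₁ ⟶ τ_{≤n+1}K ⟶ K. (The source indexes from 1.) -/
theorem result {A : Type u} [Category.{v} A] [Abelian A] (P : ObjectProperty A) [P.IsClosedUnderIsomorphisms]
    (hP0 : ∃ Z : A, IsZero Z ∧ P Z) (hPsum : ∀ X Y : A, P X → P Y → P (X ⊞ Y))
    (hP : ∀ X : A, ∃ (Y : A) (π : Y ⟶ X), P Y ∧ Epi π) (K : CochainComplex A ℤ) :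
    ∃ (Q : ℕ → CochainComplex A ℤ) (ι : ∀ n, Q n ⟶ Q (n + 1)) (π : ∀ n : ℕ, Q n ⟶ K.truncLE (n : ℤ)),
      (∀ n, QuasiIso (π n) ∧ ∀ i, Epi ((π n).f i)) ∧
      (∀ n, ∃ b : ℤ, (Q n).IsStrictlyLE b) ∧ (∀ n i, P ((Q n).X i)) ∧
      (∀ n i, (∃ r : (Q (n + 1)).X i ⟶ (Q n).X i, (ι n).f i ≫ r = 𝟙 _) ∧ P (cokernel ((ι n).f i))) ∧
      (∀ n : ℕ, π n ≫ K.ιTruncLE (n : ℤ) = ι n ≫ π (n + 1) ≫ K.ιTruncLE ((n + 1 : ℕ) : ℤ)) := by
  obtain ⟨Z, hZ, hPZ⟩ := hP0
  let D : ℕ → Type (max u v) := fun n => {x : Σ Q : CochainComplex A ℤ, Q ⟶ K.truncLE (n : ℤ) //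
    x.1.IsStrictlyLE (n : ℤ) ∧ (∀ i, P (x.1.X i)) ∧ QuasiIso x.2 ∧ ∀ i, Epi (x.2.f i)}
  have d0 : Nonempty (D 0) := by
    obtain ⟨Q, α, h1, h2, h3, h4⟩ := DerCat.LeftRes.exists_resolution P hP hZ hPZ (K.truncLE ((0 : ℕ) : ℤ)) ((0 : ℕ) : ℤ)
    exact ⟨⟨⟨Q, α⟩, h1, h2, h4, h3⟩⟩
  have ds : ∀ n (x : D n), ∃ (y : D (n + 1)) (ι : x.1.1 ⟶ y.1.1),
      (∀ i, (∃ r, ι.f i ≫ r = 𝟙 _) ∧ P (cokernel (ι.f i))) ∧
      x.1.2 ≫ K.ιTruncLE (n : ℤ) = ι ≫ y.1.2 ≫ K.ιTruncLE ((n + 1 : ℕ) : ℤ) := by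
    rintro n ⟨⟨Q, π⟩, h1, h2, h3, h4⟩
    have : Q.IsStrictlyLE ((n + 1 : ℕ) : ℤ) := Q.isStrictlyLE_of_le (n : ℤ) _ (by omega)
    obtain ⟨t, ht⟩ := exists_transition K (n : ℤ) ((n + 1 : ℕ) : ℤ) (by omega)
    obtain ⟨Q', ι, π', a1, a2, a3, a4, a5, a6⟩ := step P hZ hPZ hPsum hP Q (K.truncLE ((n + 1 : ℕ) : ℤ)) ((n + 1 : ℕ) : ℤ) h2 (π ≫ t)
    exact ⟨⟨⟨Q', π'⟩, a1, a2, a3, a4⟩, ι, a6, by rw [reassoc_of% a5, ht]⟩
  choose nx ι hι hc using ds
  let q : ∀ n, D n := fun n => Nat.rec d0.some (fun n x => nx n x) n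
  exact ⟨fun n => (q n).1.1, fun n => ι n (q n), fun n => (q n).1.2, fun n => ⟨(q n).2.2.2.1, (q n).2.2.2.2⟩,
    fun n => ⟨n, (q n).2.1⟩, fun n => (q n).2.2.1, fun n => hι n (q n), fun n => hc n (q n)⟩

end Groth.Agent.S1030
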