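import Groth.Statements.S10302
import Groth.Agent.AlgSpDesc.LqfDim

set_option autoImplicit false
universe u
open CategoryTheory CategoryTheory.Limits AlgebraicGeometry
open AlgSp

namespace Groth.Agent.S10302

/-- A flat morphism of algebraic spaces maps points of codimension 0 to points of codimension 0. -/
theorem result {S : Scheme.{u}} {X Y : AlgSp.Space S} (f : X ⟶ Y) (hf : AlgSp.LocP @Flat f.hom)
    (x : AlgSp.Points X.obj) (hx : AlgSp.HasAt (fun U u => ringKrullDim ↥(U.presheaf.stalk u) = 0) X.obj x) :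
    AlgSp.HasAt (fun U u => ringKrullDim ↥(U.presheaf.stalk u) = 0) Y.obj (AlgSp.Points.map f.hom x) := by
    obtain ⟨U, a, u, ha, rfl, hu⟩ := hx
    obtain ⟨V, b, hb, hbs⟩ := Y.property.atlas
    obtain ⟨W, fst, snd, sq⟩ := Groth.Agent.AlgSpc.exists_sq hb.1 (a ≫ f.hom)
    haveI : Etale snd.left := hb.2 _ _ _ sq
    haveI : Surjective snd.left := hbs.2 _ _ _ sq
    obtain ⟨w, rfl⟩ := snd.left.surjective u
    haveI : Flat (AlgSpc.pre fst).left := hf ((AlgSp.yon S).map snd ≫ a) b (AlgSpc.pre fst)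
      (Groth.Agent.AlgSpc.repWith_comp ((AlgSp.repWith_yon_map_iff _ snd).2 ‹_›) ha) hb
      (by rw [Groth.Agent.AlgSpc.map_pre, Category.assoc, sq.w])
    haveI : LocallyQuasiFinite snd.left := Groth.Agent.AlgSpLoc.locallyQuasiFinite_of_etale _
    refine ⟨V, b, (AlgSpc.pre fst).left w, hb, ?_, ?_⟩
    · rw [← Groth.Agent.AlgSpc.ofPt_comp, Groth.Agent.AlgSpc.map_pre, sq.w,
        Groth.Agent.AlgSpc.ofPt_comp, ← AlgSp.Points.map_ofPt]
    · change ringKrullDim _ = 0
      rw [ringKrullDim_stalk_eq_coheight, WithBot.coe_eq_zero] at hu ⊢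
      exact le_antisymm ((Groth.Agent.AlgSpDesc.coheight_apply_le_of_flat (AlgSpc.pre fst).left w).trans
        ((Groth.Agent.AlgSpDesc.coheight_le_apply_of_lqf snd.left w).trans hu.le)) bot_le

end Groth.Agent.S10302
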