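import Groth.Statements.S10306
import Groth.Agent.AlgSpDesc.RefinedVC
import Groth.Agent.AlgSpDesc.SepDescend

set_option autoImplicit false
set_option backward.isDefEq.respectTransparency false
universe u
open CategoryTheory CategoryTheory.Limits AlgebraicGeometry
open AlgSp

namespace Groth.Agent.S10306

/-- A refined valuative criterion: if f and h : U -> X are quasi-compact with |U| dense in |X|, and
valuative squares whose top arrow factors through U have at most one lift and a lift after a
dominating extension, then f is universally closed, and separated if it is quasi-separated. -/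
theorem result {S : Scheme.{u}} {U X Y : AlgSp.Space S} (f : X ⟶ Y) (h : U ⟶ X)
    (hf : AlgSp.IsQuasiCompactMor f.hom) (hh : AlgSp.IsQuasiCompactMor h.hom)
    (hd : DenseRange (AlgSp.Points.map h.hom))
    (hv : ∀ sq : AlgSp.ValSq f.hom, (∃ t : (AlgSp.yon S).obj sq.ptK ⟶ U.obj, t ≫ h.hom = sq.top) →
      sq.HasUniq ∧ sq.HasLiftExt) :
    AlgSp.IsUnivClosedMor f.hom ∧ (AlgSp.IsQuasiSeparatedMor f.hom → AlgSp.IsSeparatedMor f.hom) := by
  refine ⟨Groth.Agent.AlgSpDesc.isUnivClosedMor_of_along U.property X.property Y.property hf h.hom hh hd hv, fun hqs => ?_⟩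
  have hP := Groth.Agent.AlgSpc.isAlgSpace_of_isPullback X.property Y.property X.property
    (IsPullback.of_hasPullback f.hom f.hom)
  refine (Groth.Agent.AlgSpFormal.closedImmersion_iff X.property hP).2 ⟨?_, ?_, inferInstance⟩
  · refine Groth.Agent.AlgSpDesc.isUnivClosedMor_of_along U.property X.property hP
      (Groth.Agent.AlgSpc.isQuasiCompactMor_of_repWith hqs) h.hom hh hd fun sq ht => ?_
    have hmono : sq.HasUniq := fun l l' _ h₂ _ h₂' => (cancel_mono (pullback.diagonal f.hom)).1 (h₂.trans h₂'.symm)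
    refine ⟨hmono, ?_⟩
    let l₁ := sq.bot ≫ pullback.fst f.hom f.hom
    let l₂ := sq.bot ≫ pullback.snd f.hom f.hom
    have h₁ : (AlgSp.yon S).map sq.j ≫ l₁ = sq.top := by
      simp only [l₁, ← reassoc_of% sq.comm, pullback.diagonal_fst, Category.comp_id]
    have h₂ : (AlgSp.yon S).map sq.j ≫ l₂ = sq.top := by
      simp only [l₂, ← reassoc_of% sq.comm, pullback.diagonal_snd, Category.comp_id]
    let sq' : AlgSp.ValSq f.hom :=
      { A := sq.A, K := sq.K, str := sq.str, top := sq.top, bot := l₁ ≫ f.hom,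
        comm := by rw [← h₁, Category.assoc] }
    have e : l₁ = l₂ := (hv sq' ht).1 l₁ l₂ h₁ rfl h₂ (by
      change (_ ≫ _) ≫ _ = (_ ≫ _) ≫ _
      rw [Category.assoc, Category.assoc, pullback.condition])
    have hl : l₁ ≫ pullback.diagonal f.hom = sq.bot := by
      apply pullback.hom_ext
      · simp [l₁]
      · rw [e]; simp [l₂]
    let d : sq.DomExt :=
      { A' := sq.A, K' := sq.K, φ := RingHom.id _, ψ := RingHom.id _, comm := rfl, isLocalHom := ⟨fun _ h => h⟩ }
    let c : d.ptA' ⟶ sq.ptA := Over.homMk (Spec.map (CommRingCat.ofHom (RingHom.id sq.A))) rfl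
    refine ⟨d, (AlgSp.yon S).map c ≫ l₁, ?_, by rw [Category.assoc, hl]⟩
    rw [← h₁, ← Functor.map_comp_assoc, ← Functor.map_comp_assoc]
    congr 2
    ext
    change Spec.map _ ≫ Spec.map _ = Spec.map _ ≫ Spec.map _
    rw [← Spec.map_comp, ← Spec.map_comp]
    rfl
  · exact Groth.Agent.AlgSpc.locP_of_repWith Groth.Agent.AlgSpc.EtLoc.precomp
      (Groth.Agent.AlgSpc.repWith_mono (fun _ _ k h => h.1) (Groth.Agent.AlgStB.representable_lft_mono_diagonal X.property f.hom))

end Groth.Agent.S10306
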