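import Groth.Statements.S10309
import Groth.Agent.AlgSpDesc.RelDimInv
import Groth.Agent.FibreDimChart.Misc

set_option autoImplicit false
universe u
open CategoryTheory CategoryTheory.Limits AlgebraicGeometry
open AlgSp

namespace Groth.Agent.S10309

/-- For f locally of finite presentation, the locus where the relative dimension is at most n is
retrocompact in |X|. -/
theorem result {S : Scheme.{u}} {X Y : AlgSp.Space S} (f : X ⟶ Y)
    (hf : AlgSp.LocP @LocallyOfFinitePresentation f.hom) (n : ℕ) (V : Set (AlgSp.Points X.obj))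
    (hV : IsOpen V) (hVc : IsCompact V) :
    IsCompact (V ∩ {x : AlgSp.Points X.obj |
      AlgSp.HasAtMor (fun _ _ h u => FlatMor.fibreDimAt h u ≤ (n : WithBot ℕ∞)) f.hom x}) := by
  obtain ⟨U, W, a, b, k, ha, has, hb, -, w⟩ := Groth.Agent.AlgSpc.exists_chart X.property Y.property f.hom
  haveI : LocallyOfFinitePresentation k.left := hf a b k ha hb w
  have hq := Groth.Agent.AlgSpc.isQuotientMap_ofPt ha has
  have hc : ∀ y : ↥V, ∃ Q : Set U.left, IsOpen Q ∧ IsCompact Q ∧ Q ⊆ (Points.ofPt a) ⁻¹' V ∧ y.1 ∈ Points.ofPt a '' Q := by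
    rintro ⟨y, hy⟩
    obtain ⟨u, rfl⟩ := hq.surjective y
    obtain ⟨_, ⟨A, hA, rfl⟩, huA, hAV⟩ := U.left.isBasis_affineOpens.exists_subset_of_mem_open
      (show u ∈ (Points.ofPt a) ⁻¹' V from hy) (hV.preimage hq.continuous)
    exact ⟨A, A.2, hA.isCompact, hAV, u, huA, rfl⟩
  choose Q hQo hQc hQV hyQ using hc
  obtain ⟨t, ht⟩ := hVc.elim_finite_subcover (fun y => Points.ofPt a '' Q y)
    (fun y => Groth.Agent.AlgSpc.isOpenMap_ofPt ha _ (hQo y)) (fun y hy => Set.mem_iUnion.2 ⟨⟨y, hy⟩, hyQ ⟨y, hy⟩⟩)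
  have hQ : IsCompact (⋃ y ∈ t, Q y) := t.isCompact_biUnion fun y _ => hQc y
  convert! ((FibreDimChart.isRetrocompact_fibreDimAt_le k.left n) hQ (isOpen_biUnion fun y _ => hQo y)).image
    hq.continuous using 1
  ext y
  constructor
  · rintro ⟨hy, hL⟩
    obtain ⟨i, hi, u, hu, rfl⟩ := Set.mem_iUnion₂.1 (ht hy)
    exact ⟨u, ⟨(Groth.Agent.AlgSpDesc.hasAtMor_fibreDimAt_iff (· ≤ (n : WithBot ℕ∞)) ha hb w u).1 hL,
      Set.mem_iUnion₂.2 ⟨i, hi, hu⟩⟩, rfl⟩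
  · rintro ⟨u, ⟨hL, hu⟩, rfl⟩
    obtain ⟨i, hi, hu⟩ := Set.mem_iUnion₂.1 hu
    exact ⟨hQV i hu, (Groth.Agent.AlgSpDesc.hasAtMor_fibreDimAt_iff (· ≤ (n : WithBot ℕ∞)) ha hb w u).2 hL⟩

end Groth.Agent.S10309
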