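import Groth.Statements.S6581
import Groth.Agent.Triang.Basic

set_option autoImplicit false
set_option backward.isDefEq.respectTransparency false
set_option backward.defeqAttrib.useBackward true
universe v u
open CategoryTheory CategoryTheory.Limits
open CohDer

namespace Groth.Agent.S6581

open CategoryTheory.Pretriangulated in
/-- Let T = (X, Y, Z, f, g, h) and T' = (X', Y', Z', f', g', h') be triangles in a pretriangulated
category. The direct sum triangle (X ⊞ X', Y ⊞ Y', Z ⊞ Z', f ⊕ f', g ⊕ g', h ⊕ h') (whose third map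
Z ⊞ Z' ⟶ (X ⊞ X')⟦1⟧ has components h ≫ inl⟦1⟧ and h' ≫ inr⟦1⟧) is distinguished if and only if T
and T' are both distinguished. -/
theorem result {D : Type u} [Category.{v} D] [Preadditive D] [HasZeroObject D] [HasShift D ℤ]
    [∀ n : ℤ, (shiftFunctor D n).Additive] [Pretriangulated D]
    (T T' : Triangle D) :
    Triangle.mk (biprod.map T.mor₁ T'.mor₁) (biprod.map T.mor₂ T'.mor₂)
        (biprod.desc (T.mor₃ ≫ (shiftFunctor D (1 : ℤ)).map biprod.inl) (T'.mor₃ ≫ (shiftFunctor D (1 : ℤ)).map biprod.inr)) ∈ distinguishedTriangles ↔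
      (T ∈ distinguishedTriangles ∧ T' ∈ distinguishedTriangles) := by
  constructor
  · intro h
    constructor
    · refine Triang.distinguished_of_retract T _ h
        { hom₁ := biprod.inl, hom₂ := biprod.inl, hom₃ := biprod.inl, comm₁ := (biprod.inl_map _ _).symm, comm₂ := (biprod.inl_map _ _).symm, comm₃ := (biprod.inl_desc _ _).symm }
        { hom₁ := biprod.fst, hom₂ := biprod.fst, hom₃ := biprod.fst, comm₁ := biprod.map_fst _ _, comm₂ := biprod.map_fst _ _, comm₃ := ?_ }
        biprod.inl_fst biprod.inl_fst biprod.inl_fst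
      dsimp
      ext <;> simp [← Functor.map_comp]
    · refine Triang.distinguished_of_retract T' _ h
        { hom₁ := biprod.inr, hom₂ := biprod.inr, hom₃ := biprod.inr, comm₁ := (biprod.inr_map _ _).symm, comm₂ := (biprod.inr_map _ _).symm, comm₃ := (biprod.inr_desc _ _).symm }
        { hom₁ := biprod.snd, hom₂ := biprod.snd, hom₃ := biprod.snd, comm₁ := biprod.map_snd _ _, comm₂ := biprod.map_snd _ _, comm₃ := ?_ }
        biprod.inr_snd biprod.inr_snd biprod.inr_snd
      dsimp
      ext <;> simp [← Functor.map_comp]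
  · rintro ⟨hT, hT'⟩
    obtain ⟨Z, f₂, f₃, hS⟩ := distinguished_cocone_triangle (biprod.map T.mor₁ T'.mor₁)
    let p := completeDistinguishedTriangleMorphism _ _ hS hT biprod.fst biprod.fst (by simp)
    let q := completeDistinguishedTriangleMorphism _ _ hS hT' biprod.snd biprod.snd (by simp)
    have p₂ : f₂ ≫ p.hom₃ = biprod.fst ≫ T.mor₂ := p.comm₂
    have q₂ : f₂ ≫ q.hom₃ = biprod.snd ≫ T'.mor₂ := q.comm₂
    have p₃ : f₃ ≫ biprod.fst⟦(1 : ℤ)⟧' = p.hom₃ ≫ T.mor₃ := p.comm₃
    have q₃ : f₃ ≫ biprod.snd⟦(1 : ℤ)⟧' = q.hom₃ ≫ T'.mor₃ := q.comm₃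
    let S := Triangle.mk (biprod.map T.mor₁ T'.mor₁) (biprod.map T.mor₂ T'.mor₂)
      (biprod.desc (T.mor₃ ≫ biprod.inl⟦(1 : ℤ)⟧') (T'.mor₃ ≫ biprod.inr⟦(1 : ℤ)⟧'))
    let φ : Triangle.mk (biprod.map T.mor₁ T'.mor₁) f₂ f₃ ⟶ S :=
      { hom₁ := 𝟙 _
        hom₂ := 𝟙 _
        hom₃ := biprod.lift p.hom₃ q.hom₃
        comm₂ := by
          dsimp [S]
          ext <;> simp [p₂, q₂]
        comm₃ := by
          dsimp [S]
          rw [CategoryTheory.Functor.map_id, Category.comp_id, biprod.lift_desc, ← reassoc_of% p₃,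
            ← reassoc_of% q₃, ← Preadditive.comp_add, ← Functor.map_comp, ← Functor.map_comp,
            ← Functor.map_add, biprod.total, CategoryTheory.Functor.map_id, Category.comp_id] }
    have : IsIso φ.hom₁ := IsIso.id _
    have : IsIso φ.hom₂ := IsIso.id _
    refine Triang.distinguished_of_coyoneda_exact S _ hS φ ?_ ?_ ?_
    · intro A g hg
      dsimp [S] at hg ⊢
      obtain ⟨a, ha⟩ := T.coyoneda_exact₂ hT (g ≫ biprod.fst) (by simpa using hg =≫ biprod.fst)
      obtain ⟨b, hb⟩ := T'.coyoneda_exact₂ hT' (g ≫ biprod.snd) (by simpa using hg =≫ biprod.snd)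
      exact ⟨biprod.lift a b, by ext <;> simp [ha, hb]⟩
    · intro A g hg
      dsimp [S] at hg ⊢
      obtain ⟨a, ha⟩ := T.coyoneda_exact₃ hT (g ≫ biprod.fst) (by
        have := hg =≫ biprod.fst⟦(1 : ℤ)⟧'
        rw [Category.assoc, zero_comp] at this
        rw [Category.assoc, ← this]
        congr 1
        dsimp [S]
        ext <;> simp [← Functor.map_comp])
      obtain ⟨b, hb⟩ := T'.coyoneda_exact₃ hT' (g ≫ biprod.snd) (by
        have := hg =≫ biprod.snd⟦(1 : ℤ)⟧'
        rw [Category.assoc, zero_comp] at this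
        rw [Category.assoc, ← this]
        congr 1
        dsimp [S]
        ext <;> simp [← Functor.map_comp])
      exact ⟨biprod.lift a b, by ext <;> simp [ha, hb]⟩
    · dsimp [S]
      ext
      · simp only [biprod.inl_desc_assoc, Category.assoc, comp_zero, ← Functor.map_comp,
          biprod.inl_map]
        rw [Functor.map_comp, reassoc_of% comp_distTriang_mor_zero₃₁ _ hT, zero_comp]
      · simp only [biprod.inr_desc_assoc, Category.assoc, comp_zero, ← Functor.map_comp,
          biprod.inr_map]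
        rw [Functor.map_comp, reassoc_of% comp_distTriang_mor_zero₃₁ _ hT', zero_comp]

end Groth.Agent.S6581
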