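import Groth.Statements.S1031
import Mathlib.Tactic.Ring
import Groth.Agent.S6581

set_option autoImplicit false
set_option backward.isDefEq.respectTransparency false
set_option backward.defeqAttrib.useBackward true
universe v u
open CategoryTheory
open CohDer

namespace Groth.Agent.S1031

/-- Let D be a triangulated category admitting a strong generator G (every object is reached from G by
shifts, finite sums, summands and a uniformly bounded number of extensions). Then every classical
generator E of D (every object reached from E with some finite number of extensions) is itself a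
strong generator. -/
theorem result {D : Type u} [Category.{v} D] [Preadditive D] [Limits.HasZeroObject D] [HasShift D ℤ]
    [∀ n : ℤ, (shiftFunctor D n).Additive] [Pretriangulated D] [IsTriangulated D]
    (G E : D) (hG : ObjectProperty.IsStrongTriangulatedGenerator (fun X : D => X = G))
    (hE : ObjectProperty.IsClassicalTriangulatedGenerator (fun X : D => X = E)) :
    ObjectProperty.IsStrongTriangulatedGenerator (fun X : D => X = E) := by
  obtain ⟨n, hn⟩ := hG
  let P : ObjectProperty D := fun X => X = E
  obtain ⟨m, hm⟩ : ∃ m, P.triangEnvelopeIter m G := by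
    rw [← ObjectProperty.prop_triangEnvelope_iff, show P.triangEnvelope = ⊤ from hE]
    trivial
  have hsum : ∀ k (A B : D), P.triangEnvelopeIter k A → P.triangEnvelopeIter k B →
      P.triangEnvelopeIter k (A ⊞ B) := by
    suffices h : ∀ k (A B : D), (P.shiftClosure ℤ).binaryProductsClosure.retractClosure.extensionProductIter k A →
        (P.shiftClosure ℤ).binaryProductsClosure.retractClosure.extensionProductIter k B →
        (P.shiftClosure ℤ).binaryProductsClosure.retractClosure.extensionProductIter k (A ⊞ B) by
      rintro k A B ⟨A', hA', ⟨r⟩⟩ ⟨B', hB', ⟨s⟩⟩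
      exact ⟨A' ⊞ B', h k _ _ hA' hB',
        ⟨⟨Limits.biprod.map r.i s.i, Limits.biprod.map r.r s.r, by ext <;> simp⟩⟩⟩
    intro k
    induction k with
    | zero =>
      rintro A B ⟨A', hA', ⟨r⟩⟩ ⟨B', hB', ⟨s⟩⟩
      exact ⟨A' ⊞ B', ObjectProperty.prop_of_isLimit_binaryFan _
        (Limits.BinaryBiproduct.isLimit A' B') hA' hB',
        ⟨⟨Limits.biprod.map r.i s.i, Limits.biprod.map r.r s.r, by ext <;> simp⟩⟩⟩
    | succ k hk =>
      intro A B hA hB
      rw [ObjectProperty.extensionProductIter_succ] at hA hB ⊢
      obtain ⟨A₁, A₂, f, g, h, hT, hA₁, hA₂⟩ := hA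
      obtain ⟨B₁, B₂, f', g', h', hT', hB₁, hB₂⟩ := hB
      refine ⟨A₁ ⊞ B₁, A₂ ⊞ B₂, _, _, _, (S6581.result _ _).2 ⟨hT, hT'⟩, ?_, hk _ _ hA₂ hB₂⟩
      obtain ⟨A', hA', ⟨r⟩⟩ := hA₁
      obtain ⟨B', hB', ⟨s⟩⟩ := hB₁
      exact ⟨A' ⊞ B', ObjectProperty.prop_of_isLimit_binaryFan _
        (Limits.BinaryBiproduct.isLimit A' B') hA' hB',
        ⟨⟨Limits.biprod.map r.i s.i, Limits.biprod.map r.r s.r, by ext <;> simp⟩⟩⟩
  have : P.Nonempty := ObjectProperty.nonempty_of_prop (show P E from rfl)
  have : (P.triangEnvelopeIter m).IsClosedUnderBinaryProducts := ⟨fun X ⟨p⟩ => by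
    refine ObjectProperty.prop_of_iso _ ?_ (hsum m _ _ (p.prop_diag_obj ⟨Limits.WalkingPair.left⟩)
      (p.prop_diag_obj ⟨Limits.WalkingPair.right⟩))
    exact Limits.IsLimit.conePointUniqueUpToIso (Limits.BinaryBiproduct.isLimit _ _)
      ((Limits.IsLimit.postcomposeHomEquiv (Limits.diagramIsoPair p.diag) _).symm p.isLimit)⟩
  have hbase : (ObjectProperty.shiftClosure (fun X : D => X = G) ℤ).binaryProductsClosure.retractClosure ≤
      P.triangEnvelopeIter m := by
    rw [ObjectProperty.retractClosure_le_iff, ObjectProperty.binaryProductsClosure_le_iff,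
      ObjectProperty.shiftClosure_le_iff]
    rintro X rfl
    exact hm
  have hiter : ∀ k, (P.triangEnvelopeIter m).extensionProductIter k ≤
      P.triangEnvelopeIter (k * (m + 1) + m) := by
    intro k
    induction k with
    | zero => simp
    | succ k hk =>
      rw [ObjectProperty.extensionProductIter_succ]
      grw [ObjectProperty.monotone_extensionProduct_right _ hk]
      rw [show (k + 1) * (m + 1) + m = (m + 1) + (k * (m + 1) + m) by ring,
        ObjectProperty.triangEnvelopeIter_add (n := m + 1) (n' := m)]
      exact ObjectProperty.le_retractClosure _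
  refine ⟨n * (m + 1) + m, top_le_iff.1 ?_⟩
  rw [← hn]
  rw [ObjectProperty.retractClosure_le_iff]
  exact (ObjectProperty.monotone_extensionProductIter hbase n).trans (hiter n)

end Groth.Agent.S1031
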