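import Groth.Statements.S10311
import Groth.Agent.AlgSpDesc.RelDimBC

set_option autoImplicit false
universe u
open CategoryTheory CategoryTheory.Limits AlgebraicGeometry
open AlgSp

namespace Groth.Agent.S10311

/-- The relative dimension at a point of a morphism locally of finite type is preserved by base change. -/
theorem result {S : Scheme.{u}} {X Y Y' X' : AlgSp.Space S} (f : X ⟶ Y) (g : Y' ⟶ Y)
    (g' : X' ⟶ X) (f' : X' ⟶ Y') (sq : IsPullback g'.hom f'.hom f.hom g.hom)
    (hf : AlgSp.LocP @LocallyOfFiniteType f.hom) (x' : AlgSp.Points X'.obj) (d : WithBot ℕ∞)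
    (hd : AlgSp.HasAtMor (fun _ _ h u => FlatMor.fibreDimAt h u = d) f.hom (AlgSp.Points.map g'.hom x')) :
    AlgSp.HasAtMor (fun _ _ h u => FlatMor.fibreDimAt h u = d) f'.hom x' := by
    obtain ⟨U, V, U', V', a, b, a', b', k, k', ω, wU, u', ha, hb, ha', hb', w, w', sU, rfl, hu⟩ :=
      Groth.Agent.AlgSpDesc.exists_charts_isPullback sq x'
    haveI : LocallyOfFiniteType k.left := hf a b k ha hb w
    rw [← hu] at hd
    refine ⟨U', V', a', b', k', u', ha', hb', w', rfl, ?_⟩
    show FlatMor.fibreDimAt k'.left u' = d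
    rw [FibreDimChart.fibreDimAt_of_isPullback k.left ω.left wU.left k'.left sU u']
    exact (Groth.Agent.AlgSpDesc.hasAtMor_fibreDimAt_iff (· = d) ha hb w _).1 hd

end Groth.Agent.S10311
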