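import Groth.Statements.S10315
import Groth.Agent.AlgSpDesc.FlatDimFormula

set_option autoImplicit false
set_option backward.isDefEq.respectTransparency false
universe u
open CategoryTheory CategoryTheory.Limits AlgebraicGeometry
open AlgSp

namespace Groth.Agent.S10315

/-- For a smooth morphism of locally Noetherian algebraic spaces, the dimension of X at x is the
dimension of Y at the image of x plus the relative dimension of f at x. -/
theorem result {S : Scheme.{u}} {X Y : AlgSp.Space S} (f : X ⟶ Y)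
    (hX : AlgSp.IsLocNoethSp X.obj) (hY : AlgSp.IsLocNoethSp Y.obj) (hf : AlgSp.LocP @Smooth f.hom)
    (x : AlgSp.Points X.obj) (d dX dY : WithBot ℕ∞)
    (hd : AlgSp.HasAtMor (fun _ _ h u => FlatMor.fibreDimAt h u = d) f.hom x)
    (hx : AlgSp.HasAt (fun U u => FlatMor.localDim ↥U u = dX) X.obj x)
    (hy : AlgSp.HasAt (fun U u => FlatMor.localDim ↥U u = dY) Y.obj (AlgSp.Points.map f.hom x)) :
    dX = dY + d := by
  obtain ⟨V, b, hb, hbs, hV⟩ := hY
  obtain ⟨U₀, a₀, ha₀, ha₀s⟩ := X.property.atlas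
  obtain ⟨U, a, k, ha, has, w⟩ := Groth.Agent.AlgSpc.exists_chart_over f.hom ha₀ ha₀s hb hbs
  haveI := hV
  haveI : Smooth k.left := hf a b k ha hb w
  haveI : IsLocallyNoetherian U.left := LocallyOfFiniteType.isLocallyNoetherian k.left
  obtain ⟨u, rfl⟩ := Groth.Agent.AlgSpc.surjective_ofPt has x
  obtain ⟨U₁, a₁, u₁, ha₁, e₁, h₁⟩ := hx
  obtain ⟨V₁, b₁, v₁, hb₁, e₂, h₂⟩ := hy
  rw [← h₁, ← h₂, ← (Groth.Agent.AlgSpDesc.hasAtMor_fibreDimAt_iff (f := f.hom) (· = d) ha hb w u).1 hd,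
    Groth.Agent.AlgSpDesc.hasAt_unique (fun U u => FlatMor.localDim ↥U u)
      (fun h _ u => Groth.Agent.AlgSpDesc.localDim_eq_of_etale h u) ha₁ ha e₁,
    Groth.Agent.AlgSpDesc.hasAt_unique (fun U u => FlatMor.localDim ↥U u)
      (fun h _ u => Groth.Agent.AlgSpDesc.localDim_eq_of_etale h u) hb₁ hb (v := k.left u)
      (e₂.trans (by rw [Points.map_ofPt, w, Groth.Agent.AlgSpc.ofPt_comp]))]
  exact Groth.Agent.AlgSpDesc.localDim_eq_add_of_smooth k.left u

end Groth.Agent.S10315
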