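import Groth.Statements.S10318
import Groth.Agent.AlgSpDesc.ResTrdeg

set_option autoImplicit false
set_option backward.isDefEq.respectTransparency false
universe u
open CategoryTheory CategoryTheory.Limits AlgebraicGeometry
open AlgSp

namespace Groth.Agent.S10318

/-- Over a Jacobson algebraic space, a finite type point of a space locally of finite type over it has
transcendence degree 0 over its image. -/
theorem result {S : Scheme.{u}} {X Y : AlgSp.Space S} (f : X ⟶ Y)
    (hf : AlgSp.LocP @LocallyOfFiniteType f.hom) (hY : AlgSp.EtaleLocally (fun U => JacobsonSpace ↥U) Y.obj)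
    (x : AlgSp.Points X.obj) (hx : AlgSp.HasAt (fun U u => IsClosed ({u} : Set ↥U)) X.obj x) :
    AlgSp.HasAtMor (fun _ _ h u => Dual3.resTrdeg h u = 0) f.hom x := by
  obtain ⟨U, a, u, ha, rfl, hu⟩ := hx
  obtain ⟨V, b, hb, hbs⟩ := Y.property.atlas
  obtain ⟨U', q, r, sq⟩ := Groth.Agent.AlgSpc.exists_sq hb.1 (a ≫ f.hom)
  haveI : Etale r.left := hb.2 _ _ _ sq
  haveI : Surjective r.left := hbs.2 _ _ _ sq
  obtain ⟨u', rfl⟩ := r.left.surjective u
  have w : ((yon S).map r ≫ a) ≫ f.hom = (yon S).map (Groth.Agent.AlgSpc.pre q) ≫ b := by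
    rw [Category.assoc, ← sq.w, Groth.Agent.AlgSpc.map_pre]
  have ha' : RepWith @Etale ((yon S).map r ≫ a) :=
    Groth.Agent.AlgSpc.repWith_comp ((repWith_yon_map_iff _ _).2 ‹_›) ha
  haveI := hf _ b _ ha' hb w
  haveI : LocallyQuasiFinite r.left := AlgSpLoc.locallyQuasiFinite_of_etale r.left
  exact ⟨U', V, _, b, _, u', ha', hb, w, Groth.Agent.AlgSpc.ofPt_comp r a u',
    Groth.Agent.AlgSpDesc.resTrdeg_eq_zero_of_isClosed _ (Groth.Agent.AlgSpDesc.isClosed_singleton_of_lqf r.left hu)⟩

end Groth.Agent.S10318
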