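import Groth.Statements.S10319
import Groth.Agent.AlgSpDesc.ResTrdeg

set_option autoImplicit false
universe u
open CategoryTheory CategoryTheory.Limits AlgebraicGeometry
open AlgSp

namespace Groth.Agent.S10319

/-- Transcendence degrees at a point add up along a composition of morphisms locally of finite type. -/
theorem result {S : Scheme.{u}} {X Y Z : AlgSp.Space S} (f : X ⟶ Y) (g : Y ⟶ Z)
    (hf : AlgSp.LocP @LocallyOfFiniteType f.hom) (hg : AlgSp.LocP @LocallyOfFiniteType g.hom)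
    (x : AlgSp.Points X.obj) (r₁ r₂ : Cardinal.{u})
    (h1 : AlgSp.HasAtMor (fun _ _ h u => Dual3.resTrdeg h u = r₁) f.hom x)
    (h2 : AlgSp.HasAtMor (fun _ _ h u => Dual3.resTrdeg h u = r₂) g.hom (AlgSp.Points.map f.hom x)) :
    AlgSp.HasAtMor (fun _ _ h u => Dual3.resTrdeg h u = r₁ + r₂) (f ≫ g).hom x := by
  obtain ⟨U, V, W, a, b, c, k, l, u, ha, hb, hc, w, w', w'', rfl, hu⟩ :=
    Groth.Agent.AlgSpDesc.exists_charts_comp X.property Y.property Z.property f.hom g.hom x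
  rw [← hu] at h2
  rw [Groth.Agent.AlgSpDesc.hasAtMor_resTrdeg_iff (f := g.hom) (· = r₂) hb hc w'] at h2
  rw [Groth.Agent.AlgSpDesc.hasAtMor_resTrdeg_iff (f := f.hom) (· = r₁) ha hb w] at h1
  rw [Groth.Agent.AlgSpDesc.hasAtMor_resTrdeg_iff (f := (f ≫ g).hom) (· = r₁ + r₂) ha hc (k₀ := k ≫ l) w'',
    Over.comp_left, Groth.Agent.AlgSpDesc.resTrdeg_comp, h1, h2, add_comm]

end Groth.Agent.S10319
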