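import Groth.Statements.S10325
import Groth.Agent.AlgSpLoc.FpqcCriterion

set_option autoImplicit false
set_option backward.isDefEq.respectTransparency false
universe u
open CategoryTheory CategoryTheory.Limits AlgebraicGeometry
open AlgSp

namespace Groth.Agent.S10325

theorem isFinite_sigmaDesc {Z : Scheme.{u}} {κ : Type u} [Finite κ] :
    ∀ (X : κ → Scheme.{u}) (f : ∀ k, X k ⟶ Z), (∀ k, IsFinite (f k)) → IsFinite (Limits.Sigma.desc f) := by
  induction κ using Finite.induction_empty_option with
  | of_equiv e ih =>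
    intro X f hf
    haveI := ih _ _ (fun a => hf (e a))
    have h : (Limits.Sigma.desc fun a => f (e a)) = (Limits.Sigma.reindex e X).hom ≫ Limits.Sigma.desc f :=
      Limits.Sigma.hom_ext _ _ fun a => by
        rw [Limits.Sigma.ι_desc]
        erw [← Category.assoc, Limits.Sigma.ι_reindex_hom, Limits.Sigma.ι_desc]
    exact (MorphismProperty.cancel_left_of_respectsIso @IsFinite (Limits.Sigma.reindex e X).hom _).1 (h ▸ inferInstance)
  | h_empty =>
    intro X f _
    have hE : IsInitial (∐ X) := IsInitial.ofUniqueHom (fun Y => Limits.Sigma.desc fun k => k.elim) fun Y m => Limits.Sigma.hom_ext _ _ fun k => k.elim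
    haveI : IsEmpty ↥(∐ X) := ⟨fun x => by
      have e : (∐ X : Scheme.{u}) ⟶ ∅ := hE.to _
      exact IsEmpty.elim (α := (∅ : Scheme.{u})) inferInstance (e x)⟩
    haveI : IsOpenImmersion (Limits.Sigma.desc f) := isOpenImmersion_of_isEmpty _
    haveI : IsClosedImmersion (Limits.Sigma.desc f) :=
      IsClosedImmersion.iff_isPreimmersion.2 ⟨inferInstance, by simp [Set.range_eq_empty]⟩
    infer_instance
  | h_option ih =>
    intro X f hf
    haveI := hf none
    haveI := ih _ _ (fun a => hf (some a))
    let e : (∐ X) ⟶ (X none ⨿ ∐ fun a => X (some a)) :=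
      Limits.Sigma.desc fun | none => coprod.inl | some a => Limits.Sigma.ι (fun a => X (some a)) a ≫ coprod.inr
    let e' : (X none ⨿ ∐ fun a => X (some a)) ⟶ ∐ X :=
      coprod.desc (Limits.Sigma.ι X none) (Limits.Sigma.desc fun a => Limits.Sigma.ι X (some a))
    haveI : IsIso e := ⟨e', Limits.Sigma.hom_ext _ _ fun k => by cases k <;> simp [e, e'],
      coprod.hom_ext (by simp [e, e']) (Limits.Sigma.hom_ext _ _ fun a => by simp [e, e'])⟩
    rw [show Limits.Sigma.desc f = e ≫ coprod.desc (f none) (Limits.Sigma.desc fun a => f (some a)) from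
      Limits.Sigma.hom_ext _ _ fun k => by cases k <;> simp [e]]
    exact (MorphismProperty.cancel_left_of_respectsIso @IsFinite e _).2 inferInstance

/-- A finite disjoint union of algebraic spaces finite over Y is finite over Y. -/
theorem result {S : Scheme.{u}} {n : ℕ} (X : Fin n → AlgSp.Space S) (Y : AlgSp.Space S)
    (g : ∀ i, X i ⟶ Y) (hg : ∀ i, AlgSp.IsFiniteMor (g i).hom) (c : Cofan fun i => (X i).obj) (hc : IsColimit c)
    (d : c.pt ⟶ Y.obj) (hd : ∀ i, c.inj i ≫ d = (g i).hom) : AlgSp.IsFiniteMor d := by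
    intro Z hZ z
    let c' : Cofan (fun i : ULift.{u} (Fin n) => (X i.down).obj) := Cofan.mk c.pt fun i => c.inj i.down
    have hc' : IsColimit c' := mkCofanColimit _ (fun s => Cofan.IsColimit.desc hc fun i => s.inj ⟨i⟩)
      (fun s i => Cofan.IsColimit.fac hc _ i.down)
      (fun s m hm => Cofan.IsColimit.hom_ext hc _ _ fun i => (hm ⟨i⟩).trans (Cofan.IsColimit.fac hc (fun i => s.inj ⟨i⟩) i).symm)
    choose W w fst hsq hWa hwf using fun i : ULift.{u} (Fin n) => hg i.down hZ z
    obtain ⟨hW⟩ := Groth.Agent.AlgSpLoc.nonempty_isColimit_yon_sigma W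
    let WW : Over S := Over.mk (Limits.Sigma.desc fun k => (W k).hom)
    let p : WW ⟶ Z := Over.homMk (Limits.Sigma.desc fun k => (w k).left) (by
      apply Limits.Sigma.hom_ext; intro k; simp [WW, Over.w (w k)])
    have sq := IsUniversalColimit.isPullback_of_isColimit_left
      (FinitaryPreExtensive.isUniversal_finiteCoproducts hc') (fun i => (g i.down).hom) d z
      (fun i => (AlgSp.yon S).map (w i)) fst (fun i => (hsq i).flip) hW (fun i => hd i.down)
    refine ⟨WW, p, Cofan.IsColimit.desc hW (fun i => fst i ≫ c'.inj i), ?_, ?_, ?_⟩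
    · rw [show (AlgSp.yon S).map p = Cofan.IsColimit.desc hW (fun i => (AlgSp.yon S).map (w i)) from
        Cofan.IsColimit.hom_ext hW _ _ fun i => by
          rw [Cofan.IsColimit.fac]
          exact ((AlgSp.yon S).map_comp _ _).symm.trans (congrArg (AlgSp.yon S).map (Over.OverMorphism.ext (Limits.Sigma.ι_desc _ _)))]
      exact sq.flip
    · haveI : ∀ i, IsAffine (W i).left := hWa
      exact inferInstanceAs (IsAffine (∐ fun i => (W i).left))
    · haveI : ∀ i, IsAffine (W i).left := hWa
      haveI : IsAffine Z.left := hZ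
      haveI : IsAffine (∐ fun i => (W i).left) := inferInstance
      haveI : ∀ i, IsFinite (w i).left := hwf
      show IsFinite (Limits.Sigma.desc fun k => (w k).left)
      exact isFinite_sigmaDesc _ _ hwf

end Groth.Agent.S10325
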