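import Groth.Statements.S10327
import Groth.Agent.AlgSpDesc.ExistLift
import Groth.Agent.AlgSpDesc.SepValDescent
import Groth.Agent.AlgSpc.More
import Groth.Agent.AlgSpc.ValRep

set_option autoImplicit false
set_option backward.isDefEq.respectTransparency false
universe u
open CategoryTheory CategoryTheory.Limits AlgebraicGeometry
open AlgSp

namespace Groth.Agent.S10327

/-- For f quasi-compact and quasi-separated, f is separated and universally closed if and only if the
valuative criterion holds, if and only if every valuative square has a unique lift. -/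
theorem result {S : Scheme.{u}} {X Y : AlgSp.Space S} (f : X ⟶ Y)
    (hqc : AlgSp.IsQuasiCompactMor f.hom) (hqs : AlgSp.IsQuasiSeparatedMor f.hom) :
    ((AlgSp.IsSeparatedMor f.hom ∧ AlgSp.IsUnivClosedMor f.hom) ↔ AlgSp.VC f.hom) ∧
    ((AlgSp.IsSeparatedMor f.hom ∧ AlgSp.IsUnivClosedMor f.hom) ↔
      (AlgSp.UniqVC f.hom ∧ AlgSp.ExistVCStrict f.hom)) := by
  have h1 : AlgSp.UniqVC f.hom → AlgSp.ExistVC f.hom → (AlgSp.IsSeparatedMor f.hom ∧ AlgSp.IsUnivClosedMor f.hom) :=
    fun hu he => ⟨Groth.Agent.AlgSpDesc.isSeparatedMor_of_uniqVC X.property hqs hu,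
      Groth.Agent.AlgSpDesc.isUnivClosedMor_of_existVC X.property Y.property hqc he⟩
  have h2 : (AlgSp.IsSeparatedMor f.hom ∧ AlgSp.IsUnivClosedMor f.hom) → AlgSp.UniqVC f.hom ∧ AlgSp.ExistVC f.hom :=
    fun ⟨hs, hc⟩ => ⟨Groth.Agent.AlgSpc.uniqVC_of_isSeparatedMor hs,
      Groth.Agent.AlgSpDesc.existVC_of_univClosed X.property Y.property hqs hc⟩
  refine ⟨⟨fun h => ⟨(h2 h).1, (h2 h).2⟩, fun h => h1 h.1 h.2⟩, ⟨fun h => ⟨(h2 h).1, fun sq => ?_⟩,
    fun h => h1 h.1 (Groth.Agent.AlgSpc.existVC_of_strict h.2)⟩⟩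
  obtain ⟨e, he⟩ := (h2 h).2 sq
  exact Groth.Agent.AlgSpDesc.hasLift_of_domExt X.property Y.property h.1 sq e he

end Groth.Agent.S10327
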