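import Groth.Statements.S10329
import Groth.Agent.AlgSpDesc.LqfLocus
import Groth.Agent.AlgSpDesc.DimInvariant

set_option autoImplicit false
set_option backward.isDefEq.respectTransparency false
universe u
open CategoryTheory CategoryTheory.Limits AlgebraicGeometry
open AlgSp

namespace Groth.Agent.S10329

/-- If the fibre of a morphism locally of finite type has dimension 0 at a point, then the morphism is
locally quasi-finite on some open subspace containing the image of that point. -/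
theorem result {S : Scheme.{u}} {X Y F : AlgSp.Space S} (f : X ⟶ Y)
    (hf : AlgSp.LocP @LocallyOfFiniteType f.hom) (k : Type u) [Field k] (str : Spec (.of k) ⟶ S)
    (y : (AlgSp.yon S).obj (Over.mk str) ⟶ Y.obj) (p : F ⟶ X) (q : F.obj ⟶ (AlgSp.yon S).obj (Over.mk str))
    (sq : IsPullback p.hom q f.hom y) (z : AlgSp.Points F.obj)
    (hz : AlgSp.HasAt (fun U u => FlatMor.localDim ↥U u = 0) F.obj z) :
    ∃ (X' : AlgSp.Space S) (j : X' ⟶ X), AlgSp.RepWith @IsOpenImmersion j.hom ∧
      AlgSp.Points.map p.hom z ∈ Set.range (AlgSp.Points.map j.hom) ∧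
      AlgSp.LocP (@LocallyQuasiFinite ⊓ @LocallyOfFiniteType) (j ≫ f).hom := by
  obtain ⟨X', j, hj, hlqf, hr⟩ := Groth.Agent.AlgSpDesc.exists_lqf_locus f hf
  refine ⟨X', j, hj, ?_, hlqf⟩
  let P : AlgSp.Space S := ⟨(yon S).obj (Over.mk str), IsAlgSpace.yon_obj _⟩
  let q' : F ⟶ P := ObjectProperty.homMk q
  let g' : P ⟶ Y := ObjectProperty.homMk y
  have sq' : IsPullback p.hom q'.hom f.hom g'.hom := sq
  obtain ⟨U, V, U', V', a, c, a', c', m, m', ω, wU, u', ha, hc, ha', hc', w, w', sU, rfl, hu⟩ :=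
    Groth.Agent.AlgSpDesc.exists_charts_isPullback sq' z
  haveI : LocallyOfFiniteType m.left := hf a c m ha hc w
  haveI : Etale (Groth.Agent.AlgSpc.pre c').left :=
    (repWith_yon_map_iff _ _).1 ((Groth.Agent.AlgSpc.map_pre c').symm ▸ hc')
  haveI : IsLocallyArtinian V'.left :=
    Groth.Agent.AlgSpDesc.isLocallyArtinian_of_etale_field (k := k) (Groth.Agent.AlgSpc.pre c').left
  rw [hr, ← hu]
  refine ⟨U, V, a, c, m, _, ha, hc, w, rfl, ?_⟩
  show FlatMor.fibreDimAt m.left _ ≤ _
  rw [← FibreDimChart.fibreDimAt_of_isPullback m.left ω.left wU.left m'.left sU u',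
    FibreDimChart.fibreDimAt_eq_localDim_preimage,
    ← FieldExtLD.localDim_of_isOpenEmbedding
      ((isOpen_discrete {m'.left u'}).preimage m'.left.continuous).isOpenEmbedding_subtypeVal]
  obtain ⟨U₁, a₁, u₁, ha₁, e, h0⟩ := hz
  rw [← Groth.Agent.AlgSpDesc.hasAt_unique (fun U u => FlatMor.localDim ↥U u)
    (fun h _ u => Groth.Agent.AlgSpDesc.localDim_eq_of_etale h u) ha₁ ha' e, h0]
  exact le_of_eq Nat.cast_zero.symm

end Groth.Agent.S10329
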