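import Groth.Statements.S10333
import Groth.Agent.S10193
import Groth.Agent.AlgSpRedSub.Basic
import Groth.Agent.AlgSpc.TestedMor

set_option autoImplicit false
set_option backward.isDefEq.respectTransparency false
universe u
open CategoryTheory CategoryTheory.Limits AlgebraicGeometry
open AlgSp

namespace Groth.Agent.S10333

/-- Let f : Y -> X be a morphism of algebraic spaces over S that is quasi-compact and quasi-separated,
and X' -> X the normalization of X in Y (an integral morphism through which f factors, initial among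
such factorizations). If Y is reduced then X' is reduced. -/
theorem result {S : Scheme.{u}} {Y X X' : AlgSp.Space S} (f : Y ⟶ X)
    (hqc : AlgSp.IsQuasiCompactMor f.hom) (hqs : AlgSp.IsQuasiSeparatedMor f.hom) (ν : X' ⟶ X) (f' : Y ⟶ X')
    (hn : AlgSp.IsRelNormalization f.hom ν.hom f'.hom) (hY : AlgSp.IsReducedSp Y.obj) :
    AlgSp.IsReducedSp X'.obj := by
  obtain ⟨Z, i, hi, hZr, hrange⟩ := AlgSpRedSub.exists_redSub X' isClosed_univ
  obtain ⟨g, hg⟩ := (S10193.result i hi hY f').2 (by rw [hrange]; exact Set.subset_univ _)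
  have hg' : g.hom ≫ i.hom = f'.hom := congr($(hg).hom)
  haveI : Mono i.hom := AlgSpc.mono_of_repWith (fun _ _ e (_ : IsClosedImmersion e) => inferInstance) hi
  have hπ : AlgSp.IsIntegralMor (i.hom ≫ ν.hom) := (AlgSpc.repWith_integralHom_iff _).2
    (AlgSpc.repWith_comp (AlgSpc.repWith_mono (Q := @IsIntegralHom) (fun _ _ e (_ : IsClosedImmersion e) => inferInstance) hi)
      ((AlgSpc.repWith_integralHom_iff _).1 hn.2.1))
  obtain ⟨h, ⟨h₁, h₂⟩, -⟩ := hn.2.2 Z.property (i.hom ≫ ν.hom) g.hom hπ (by rw [← Category.assoc, hg']; exact hn.1)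
  obtain ⟨m, -, hm⟩ := hn.2.2 X'.property ν.hom f'.hom hn.2.1 hn.1
  have e : h ≫ i.hom = 𝟙 X'.obj :=
    (hm _ ⟨by rw [← Category.assoc, h₁, hg'], by rw [Category.assoc, h₂]⟩).trans
      (hm (𝟙 X'.obj) ⟨Category.comp_id _, Category.id_comp _⟩).symm
  haveI : IsSplitEpi i.hom := IsSplitEpi.mk' ⟨h, e⟩
  haveI : IsIso i.hom := isIso_of_mono_of_isSplitEpi i.hom
  obtain ⟨U, p, hp, hps, hU⟩ := hZr
  exact ⟨U, p ≫ i.hom, AlgSpc.repWith_comp hp (AlgSpc.repWith_iso i.hom), AlgSpc.repWith_comp hps (AlgSpc.repWith_iso i.hom), hU⟩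

end Groth.Agent.S10333
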