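import Groth.Statements.S10336
import Groth.Agent.S10539
import Groth.Agent.S10540
import Groth.Agent.S10545
import Groth.Agent.AlgSpLoc.Covers
import Groth.Agent.AlgSpc.LocP
import Groth.Agent.AlgSpc.EqvRel
import Groth.Agent.AlgSpc.FibreProd

set_option autoImplicit false
universe u
open CategoryTheory CategoryTheory.Limits AlgebraicGeometry
open AlgSp

namespace Groth.Agent.S10336

/-- Integrality, finiteness and finite local freeness of a morphism f : X -> Y of algebraic spaces over
S can be checked on the restrictions of f over the members of a Zariski covering of Y by open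
subspaces. -/
theorem result {S : Scheme.{u}} {X Y : AlgSp.Space S} (f : X ⟶ Y) {ι : Type u}
    (Yi : ι → AlgSp.Space S) (j : ∀ i, Yi i ⟶ Y) (hj : AlgSp.IsZarCover (fun i => (Yi i).obj) (fun i => (j i).hom))
    (Xi : ι → AlgSp.Sp S) (p : ∀ i, Xi i ⟶ X.obj) (q : ∀ i, Xi i ⟶ (Yi i).obj)
    (sq : ∀ i, IsPullback (p i) (q i) f.hom (j i).hom) :
    ((∀ i, AlgSp.IsIntegralMor (q i)) → AlgSp.IsIntegralMor f.hom) ∧
    ((∀ i, AlgSp.IsFiniteMor (q i)) → AlgSp.IsFiniteMor f.hom) ∧
    ((∀ i, AlgSp.IsFinLocFreeMor (q i)) → AlgSp.IsFinLocFreeMor f.hom) := by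
  have hflat : ∀ i, AlgSp.LocP @Flat (j i).hom ∧ AlgSp.LocP @LocallyOfFinitePresentation (j i).hom := fun i =>
    ⟨AlgSpc.locP_of_repWith (fun e f (_ : Etale e) (_ : Flat f) => inferInstanceAs (Flat (e ≫ f)))
        (AlgSpc.repWith_mono (fun _ _ f (_ : IsOpenImmersion f) => inferInstanceAs (Flat f)) (hj.1 i)),
      AlgSpc.locP_of_repWith (fun e f (_ : Etale e) (_ : LocallyOfFinitePresentation f) =>
        inferInstanceAs (LocallyOfFinitePresentation (e ≫ f)))
        (AlgSpc.repWith_mono (fun _ _ f (_ : IsOpenImmersion f) => inferInstanceAs (LocallyOfFinitePresentation f)) (hj.1 i))⟩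
  have hc := AlgSpLoc.isFpqcCover_of_isFppfCover Y.property (fun i => (Yi i).property) ⟨hflat, hj.2⟩
  have hX : ∀ i, AlgSp.IsAlgSpace (Xi i) := fun i =>
    AlgSpc.isAlgSpace_of_isPullback (Yi i).property Y.property X.property (sq i).flip
  exact ⟨fun h => (S10539.result S _ _ Y.property (fun i => (Yi i).property) hc f.hom X.property Xi q p hX sq).2 h,
    fun h => (S10540.result S _ _ Y.property (fun i => (Yi i).property) hc f.hom X.property Xi q p hX sq).2 h,
    fun h => (S10545.result S _ _ Y.property (fun i => (Yi i).property) hc f.hom X.property Xi q p hX sq).2 h⟩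

end Groth.Agent.S10336
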