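import Groth.Statements.S1034
import Groth.Agent.DerLimLib.Compact
import Mathlib
set_option autoImplicit false
universe v v' u u'
open CategoryTheory CategoryTheory.Limits
open DerLim

noncomputable section

namespace Groth.Agent.S1034

set_option backward.isDefEq.respectTransparency false
set_option backward.defeqAttrib.useBackward true

open CategoryTheory.Pretriangulated

variable {D : Type u} [Category.{v} D] [Preadditive D] [HasColimitsOfShape (Discrete ℕ) D]
    {A : Type u'} [Category.{v'} A] [Abelian A] [HasColimitsOfShape ℕ A] [HasExactColimitsOfShape ℕ A]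
    (H : D ⥤ A) [H.Additive] [PreservesColimitsOfShape (Discrete ℕ) H]
    (K : ℕ → D) (f : ∀ n, K n ⟶ K (n + 1))

/-- The sequence of values. -/
abbrev seq : ℕ ⥤ A := Functor.ofSequence (fun n => H.map (f n))

instance : HasCoproduct (fun n => H.obj (K n)) :=
  ⟨⟨⟨Cofan.mk (H.obj (∐ K)) (fun n => H.map (Sigma.ι K n)),
    isColimitCofanMkObjOfIsColimit H _ _ (coproductIsCoproduct K)⟩⟩⟩

instance : HasCoproduct (seq H K f).obj :=
  ⟨⟨⟨Cofan.mk (H.obj (∐ K)) (fun n => H.map (Sigma.ι K n)),
    isColimitCofanMkObjOfIsColimit H _ _ (coproductIsCoproduct K)⟩⟩⟩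

/-- Comparison of coproducts. -/
def comp : (∐ (seq H K f).obj) ≅ H.obj (∐ K) :=
  IsColimit.coconePointUniqueUpToIso (colimit.isColimit _)
    (isColimitCofanMkObjOfIsColimit H _ _ (coproductIsCoproduct K))

lemma ι_comp (n : ℕ) : Sigma.ι (seq H K f).obj n ≫ (comp H K f).hom = H.map (Sigma.ι K n) :=
  IsColimit.comp_coconePointUniqueUpToIso_hom (colimit.isColimit _)
    (isColimitCofanMkObjOfIsColimit H _ _ (coproductIsCoproduct K)) ⟨n⟩

lemma comm₁ : (comp H K f).hom ≫ H.map (𝟙 (∐ K) - DerLim.shiftMap K f) =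
    (𝟙 _ - DerLim.shiftMap (seq H K f).obj (fun n => (seq H K f).map (homOfLE (Nat.le_succ n)))) ≫
      (comp H K f).hom := by
  refine Sigma.hom_ext _ _ fun n => ?_
  rw [← Category.assoc, ι_comp, ← Functor.map_comp, Preadditive.comp_sub, Category.comp_id,
    Preadditive.sub_comp, Preadditive.comp_sub, Category.id_comp, ι_comp, DerLim.shiftMap,
    DerLim.shiftMap, Sigma.ι_desc, Sigma.ι_desc_assoc, Functor.map_sub, Functor.map_comp,
    Category.assoc, ι_comp, Functor.ofSequence_map_homOfLE_succ]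

lemma mono_map : Mono (H.map (𝟙 (∐ K) - DerLim.shiftMap K f)) := by
  have := Groth.Agent.DerLimLib.mono_one_sub_shift (seq H K f).obj
    (fun n => (seq H K f).map (homOfLE (Nat.le_succ n)))
  rw [← (comp H K f).inv_hom_id_assoc (H.map (𝟙 (∐ K) - DerLim.shiftMap K f)), comm₁]
  infer_instance

open CategoryTheory.Pretriangulated in
/-- Let D be a pretriangulated category with countable direct sums, A an abelian category with exact
colimits of shape ℕ, and H : D ⥤ A a homological functor that preserves countable direct sums. If L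
(with maps iₙ : Kₙ ⟶ L) is a homotopy colimit of a system (Kₙ, fₙ), then H(L) is the colimit of the
H(Kₙ): there is an isomorphism colimₙ H(Kₙ) ≅ H(L) compatible with the maps H(iₙ). -/
theorem result {D : Type u} [Category.{v} D] [Preadditive D] [Limits.HasZeroObject D] [HasShift D ℤ]
    [∀ n : ℤ, (shiftFunctor D n).Additive] [Pretriangulated D] [IsTriangulated D] [HasColimitsOfShape (Discrete ℕ) D]
    {A : Type u'} [Category.{v'} A] [Abelian A] [HasColimitsOfShape ℕ A] [HasExactColimitsOfShape ℕ A]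
    (H : D ⥤ A) [H.IsHomological] [PreservesColimitsOfShape (Discrete ℕ) H]
    (K : ℕ → D) (f : ∀ n, K n ⟶ K (n + 1)) (L : D) (i : ∀ n, K n ⟶ L) (hL : DerLim.IsHocolim K f L i) :
    ∃ e : colimit (Functor.ofSequence (fun n => H.map (f n))) ≅ H.obj L,
      ∀ n : ℕ, colimit.ι (Functor.ofSequence (fun n => H.map (f n))) n ≫ e.hom = H.map (i n) := by
  obtain ⟨c, hc⟩ := hL
  let T := Triangle.mk (𝟙 (∐ K) - DerLim.shiftMap K f) (Sigma.desc i) c
  haveI : HasColimit (seq H K f) := inferInstance
  have hex := H.map_distinguished_exact T hc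
  have h1 : Mono (H.map ((shiftFunctor D (1 : ℤ)).map T.mor₁)) :=
    mono_map (shiftFunctor D (1 : ℤ) ⋙ H) K f
  have hc0 : H.map T.mor₃ = 0 := by
    rw [← cancel_mono (H.map ((shiftFunctor D (1 : ℤ)).map T.mor₁)), zero_comp, ← Functor.map_comp,
      comp_distTriang_mor_zero₃₁ _ hc, H.map_zero]
  have hepi : Epi (H.map T.mor₂) :=
    (H.map_distinguished_exact T.rotate (rot_of_distTriang _ hc)).epi_f hc0
  haveI : Epi ((shortComplexOfDistTriangle T hc).map H).g := hepi
  have hw : (𝟙 _ - DerLim.shiftMap (seq H K f).obj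
      (fun n => (seq H K f).map (homOfLE (Nat.le_succ n)))) ≫ (comp H K f).hom ≫ H.map T.mor₂ = 0 := by
    rw [← Category.assoc, ← comm₁, Category.assoc, ← Functor.map_comp,
      show (𝟙 (∐ K) - DerLim.shiftMap K f) ≫ T.mor₂ = 0 from comp_distTriang_mor_zero₁₂ _ hc,
      H.map_zero, comp_zero]
  let hcok' : IsColimit (CokernelCofork.ofπ ((comp H K f).hom ≫ H.map T.mor₂) hw) :=
    CokernelCofork.IsColimit.ofπ' _ _ fun {W} k hk =>
      have h0 : H.map T.mor₁ ≫ (comp H K f).inv ≫ k = 0 := by
        rw [← cancel_epi (comp H K f).hom, ← Category.assoc,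
          show (comp H K f).hom ≫ H.map T.mor₁ = _ from comm₁ H K f, Category.assoc,
          Iso.hom_inv_id_assoc, hk, comp_zero]
      ⟨hex.desc ((comp H K f).inv ≫ k) h0, by
        rw [Category.assoc]
        exact (congrArg ((comp H K f).hom ≫ ·) (hex.g_desc ((comp H K f).inv ≫ k) h0)).trans
          ((comp H K f).hom_inv_id_assoc k)⟩
  refine ⟨IsColimit.coconePointUniqueUpToIso
    (Groth.Agent.DerLimLib.colimitIsCokernel (seq H K f)) hcok', fun n => ?_⟩
  have e := IsColimit.comp_coconePointUniqueUpToIso_hom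
    (Groth.Agent.DerLimLib.colimitIsCokernel (seq H K f)) hcok' WalkingParallelPair.one
  have e' := Sigma.ι (seq H K f).obj n ≫= e
  simp only [Cofork.ofπ_ι_app, parallelPair_obj_one] at e'
  erw [Sigma.ι_desc_assoc, reassoc_of% (ι_comp H K f n), ← Functor.map_comp, Sigma.ι_desc] at e'
  exact e' 

end Groth.Agent.S1034
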