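import Groth.Statements.S10368
import Groth.Agent.AlgSpDesc.OnePoint

set_option autoImplicit false
universe u
open CategoryTheory CategoryTheory.Limits AlgebraicGeometry Topology TopologicalSpace
open AlgSp

namespace Groth.Agent.S10368

/-- An algebraic space Z over a scheme S is reduced, locally Noetherian and has |Z| a single point if
and only if there is a locally finitely presented, flat, surjective morphism Spec k ⟶ Z from the
spectrum of a field. -/
theorem result {S : Scheme.{u}} (Z : AlgSp.Space S) :
    (AlgSp.EtaleLocally (fun U => IsReduced U) Z.obj ∧ AlgSp.IsLocNoethSp Z.obj ∧ Nonempty (AlgSp.Points Z.obj) ∧ Subsingleton (AlgSp.Points Z.obj)) ↔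
      ∃ (k : Type u) (_ : Field k) (str : Spec (CommRingCat.of k) ⟶ S) (p : (AlgSp.yon S).obj (Over.mk str) ⟶ Z.obj),
        AlgSp.LocP @LocallyOfFinitePresentation p ∧ AlgSp.LocP @Flat p ∧ AlgSp.IsSurjectiveMor p := by
    constructor
    · rintro ⟨hr, hN, hne, hsub⟩
      haveI := hne
      haveI := hsub
      exact Groth.Agent.AlgSpDesc.exists_lfp_flat_point hr hN
    · rintro ⟨k, _, str, p, hp, hf, hs⟩
      exact ⟨Groth.Agent.AlgSpDesc.isReduced_of_flat_point Z.property hf hs,
        Groth.Agent.AlgSpDesc.isLocNoeth_of_lfp_flat_point Z.property hp hf hs,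
        Groth.Agent.AlgSpDesc.subsingleton_points hs⟩

end Groth.Agent.S10368
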