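import Groth.Statements.S10390
import Groth.Agent.AlgSpDesc.FactorPoint
import Groth.Agent.AlgSpc.EtLocInst

set_option autoImplicit false
universe u
open CategoryTheory CategoryTheory.Limits AlgebraicGeometry Topology TopologicalSpace
open AlgSp

namespace Groth.Agent.S10390

set_option backward.isDefEq.respectTransparency false
open CategoryTheory CategoryTheory.Limits Groth.Agent.AlgSpc

/-- Let S be a scheme, X and Y algebraic spaces over S, and f : X ⟶ Y a morphism, and let y ∈ |Y| be a
point represented by a monomorphism Spec k ⟶ Y which is representable quasi-compact. Then for the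
fibre X_k = Spec k ×_Y X the map |X_k| → |X| is a homeomorphism of |X_k| onto f⁻¹({y}) with its
induced topology. -/
theorem result {S : Scheme.{u}} {X Y : AlgSp.Space S} (f : X ⟶ Y)
    (r : AlgSp.FieldPt Y.obj) (hm : Mono r.toHom) (hq : AlgSp.RepWith @QuasiCompact r.toHom)
    (Xk : AlgSp.Space S) (fst : Xk ⟶ X) (snd : Xk.obj ⟶ (AlgSp.yon S).obj r.pt) (hsq : IsPullback fst.hom snd f.hom r.toHom) :
    IsEmbedding (AlgSp.Points.map fst.hom) ∧
      Set.range (AlgSp.Points.map fst.hom) = AlgSp.Points.map f.hom ⁻¹' {AlgSp.Points.mk r} := by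
  haveI := hm
  haveI : Mono fst.hom := hsq.mono_fst_of_mono
  have hinj : Function.Injective (AlgSp.Points.map fst.hom) := fun x x' he => by
    obtain ⟨z, h1, h2⟩ := exists_point_of_isPullback
      (IsKernelPair.id_of_mono fst.hom : IsPullback (𝟙 _) (𝟙 _) fst.hom fst.hom) x x' he
    exact h1.symm.trans h2
  have hrange : Set.range (AlgSp.Points.map fst.hom) = AlgSp.Points.map f.hom ⁻¹' {AlgSp.Points.mk r} := by
    ext x
    constructor
    · rintro ⟨z, rfl⟩
      obtain ⟨t, ht⟩ := (AlgSp.Points.schemeEquiv r.pt).surjective (AlgSp.Points.map snd z)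
      rw [Set.mem_preimage, Set.mem_singleton_iff, ← AlgSp.Points.map_comp, hsq.w, AlgSp.Points.map_comp, ← ht]
      exact (AlgSp.Points.map_ofPt _ _ t).trans (by rw [Category.id_comp]; exact AlgSp.Points.ofPt_toHom r t)
    · intro hx
      obtain ⟨z, hz, -⟩ := exists_point_of_isPullback hsq x (AlgSp.Points.ofScheme r.pt (IsLocalRing.closedPoint r.K))
        (hx.trans ((AlgSp.Points.map_ofPt _ _ _).trans (by rw [Category.id_comp]; exact AlgSp.Points.ofPt_toHom r _)).symm)
      exact ⟨z, hz⟩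
  refine ⟨?_, hrange⟩
  obtain ⟨V, b, hb, hbs⟩ := Y.property.atlas
  obtain ⟨P, fP, sP', sP⟩ := exists_sq hb.1 r.toHom
  haveI : Etale sP'.left := hb.2 _ _ _ sP
  haveI := AlgSpDesc.isReduced_of_etale_field (k := r.K) sP'.left
  haveI := AlgSpDesc.isLocallyArtinian_of_etale_field (k := r.K) sP'.left
  haveI : Mono fP := sP.mono_fst_of_mono
  haveI : Mono ((AlgSp.yon S).map (pre fP)) := by rw [map_pre]; infer_instance
  haveI := mono_of_map (pre fP)
  have hfin := AlgSpDesc.finite_of_qc_point ⟨r, rfl, hm, hq⟩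
  have hPy : ∀ z, AlgSp.Points.ofPt b ((pre fP).left z) = AlgSp.Points.mk r := fun z => by
    have h₁ := ofPt_comp (pre fP) b z
    rw [map_pre, sP.w, ofPt_comp] at h₁
    exact h₁.symm.trans (AlgSp.Points.ofPt_toHom r _)
  haveI : IsPreimmersion (pre fP).left := AlgSpDesc.isPreimmersion_of_mono_discrete _ fun v => by
    obtain ⟨O, hO, hvO, hu⟩ := AlgSpDesc.isolated_of_finite hfin hb (hPy v)
    exact ⟨O, hO, hvO, fun v' hv' => (pre fP).left.injective (hu _ (hPy v') hv')⟩
  have sX := IsPullback.of_hasPullback f.hom b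
  obtain ⟨U, c, hc, hcs⟩ :=
    (isAlgSpace_of_isPullback X.property Y.property (AlgSp.IsAlgSpace.yon_obj V) sX).atlas
  let a := c ≫ pullback.fst f.hom b
  let k : U ⟶ V := pre (c ≫ pullback.snd f.hom b)
  have ha : AlgSp.RepWith @Etale a := repWith_comp hc (repWith_of_isPullback sX.flip hb)
  have has : AlgSp.RepWith @Surjective a := repWith_comp hcs (repWith_of_isPullback sX.flip hbs)
  have w : a ≫ f.hom = (AlgSp.yon S).map k ≫ b := by rw [map_pre, Category.assoc, Category.assoc, sX.w]
  let T : Over S := Over.mk (pullback.fst k.left (pre fP).left ≫ U.hom)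
  let tU : T ⟶ U := Over.homMk (pullback.fst k.left (pre fP).left) rfl
  let tP : T ⟶ P := Over.homMk (pullback.snd k.left (pre fP).left) (by
    show _ = pullback.fst k.left (pre fP).left ≫ U.hom
    rw [← Over.w k, ← Over.w (pre fP), pullback.condition_assoc])
  have ht : tU ≫ k = tP ≫ pre fP := Over.OverMorphism.ext pullback.condition
  have w₁ : ((AlgSp.yon S).map tU ≫ a) ≫ f.hom = ((AlgSp.yon S).map (tP ≫ sP')) ≫ r.toHom := by
    rw [Category.assoc, w, ← Category.assoc, ← Functor.map_comp, ht, Functor.map_comp, map_pre, Category.assoc,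
      sP.w, ← Category.assoc, ← Functor.map_comp]
  let q := hsq.lift _ _ w₁
  have hq' : ∀ t, AlgSp.Points.map fst.hom (AlgSp.Points.ofPt q t) = AlgSp.Points.ofPt a (tU.left t) := fun t => by
    rw [AlgSp.Points.map_ofPt, hsq.lift_fst, ofPt_comp]
  refine ⟨⟨le_antisymm (AlgSp.Points.continuous_map _).le_induced fun O hO => ?_⟩, hinj⟩
  haveI : IsPreimmersion tU.left :=
    MorphismProperty.of_isPullback (P := @IsPreimmersion) (IsPullback.of_hasPullback k.left (pre fP).left).flip ‹_›
  obtain ⟨OU, hOU, hOU'⟩ := tU.left.isEmbedding.isInducing.isOpen_iff.1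
    (hO.preimage (AlgSp.Points.continuous_ofPt q))
  refine isOpen_induced_iff.2 ⟨AlgSp.Points.ofPt a '' OU, isOpenMap_ofPt ha _ hOU, ?_⟩
  have hmem : ∀ (x' : AlgSp.Points Xk.obj) (u : ↥U.left), AlgSp.Points.ofPt a u = AlgSp.Points.map fst.hom x' →
      (u ∈ OU ↔ x' ∈ O) := fun x' u hu => by
    have hy : AlgSp.Points.ofPt b (k.left u) = AlgSp.Points.mk r := by
      rw [← map_ofPt_sq w, hu]; exact hrange.le ⟨x', rfl⟩
    obtain ⟨z, hz, -⟩ := exists_point_of_sq sP (AlgSp.Points.ofScheme V (k.left u))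
      (IsLocalRing.closedPoint r.K) (by rw [← AlgSp.Points.ofPt_eq_map_ofScheme, hy, AlgSp.Points.ofPt_toHom])
    rw [ofPt_pre] at hz
    obtain ⟨t, ht₁, -⟩ := Scheme.Pullback.exists_preimage_pullback (f := k.left) (g := (pre fP).left) u z
      (by simpa using (congrArg (AlgSp.Points.toScheme V) hz).symm)
    obtain rfl : tU.left t = u := ht₁
    rw [show x' = AlgSp.Points.ofPt q t from hinj (hu.symm.trans (hq' t).symm), show tU.left t ∈ OU ↔ _ from Iff.of_eq (congrArg (t ∈ ·) hOU')]
    exact Iff.rfl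
  ext x'
  refine ⟨fun ⟨u, hu, he⟩ => (hmem x' u he).1 hu, fun hx' => ?_⟩
  obtain ⟨u, hu⟩ := surjective_ofPt has (AlgSp.Points.map fst.hom x')
  exact ⟨u, (hmem x' u hu).2 hx', hu⟩

end Groth.Agent.S10390
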