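import Groth.Statements.S10392
import Groth.Agent.AlgSpIsolated.Basic
import Groth.Agent.S10346
import Groth.Agent.AlgSpc.Decent2

set_option autoImplicit false
set_option backward.isDefEq.respectTransparency false
universe u
open CategoryTheory CategoryTheory.Limits AlgebraicGeometry Topology TopologicalSpace
open AlgSp

namespace Groth.Agent.S10392

/-- Let k be a field and X a nonempty algebraic space over k which is locally of finite type. Then (2)
|X| is discrete if and only if (4) dim X = 0, and these imply (3) dim |X| = 0; if X is decent then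
(3) implies (2) and (1) |X| finite implies (4). (The published statement asserts (2) ⇔ (3) ⇔ (4) for
every such X and does not exclude the empty space; for the quotient of the affine line over a field
of characteristic zero by the translation action of the integers, |X| is an infinite set with the
indiscrete topology, so (3) holds while (2) and (4) fail, and for the empty space (2) holds while
dim X = ⊥. The equivalence with local quasi-finiteness of X → Spec k is not part of this row.) -/
theorem result (k : Type u) [Field k] (X : AlgSp.Space (Spec (CommRingCat.of k)))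
    (p : X.obj ⟶ (AlgSp.yon (Spec (CommRingCat.of k))).obj (Over.mk (𝟙 _))) (hp : AlgSp.LocP @LocallyOfFiniteType p) [Nonempty (AlgSp.Points X.obj)] :
    (DiscreteTopology (AlgSp.Points X.obj) ↔ AlgSp.dim X.obj = 0) ∧
      (DiscreteTopology (AlgSp.Points X.obj) → topologicalKrullDim (AlgSp.Points X.obj) = 0) ∧
      (AlgSp.IsDecent X.obj → topologicalKrullDim (AlgSp.Points X.obj) = 0 → DiscreteTopology (AlgSp.Points X.obj)) ∧
      (AlgSp.IsDecent X.obj → Finite (AlgSp.Points X.obj) → AlgSp.dim X.obj = 0) := by
  have hnoeth : ∀ {A : Over (Spec (CommRingCat.of k))} {a : (yon _).obj A ⟶ X.obj}, RepWith @Etale a →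
      IsLocallyNoetherian A.left := fun {A a} ha => by
    haveI := Groth.Agent.AlgSpIsolated.lft_chart p hp ha
    exact LocallyOfFiniteType.isLocallyNoetherian A.hom
  obtain ⟨x₀⟩ := ‹Nonempty (Points X.obj)›
  obtain ⟨A₀, a₀, u₀, ha₀, rfl⟩ := Groth.Agent.AlgSpGeomRed.exists_chart_pt X.property x₀
  have disc : (∀ {A : Over (Spec (CommRingCat.of k))} (a : (yon _).obj A ⟶ X.obj) (u : ↥A.left),
      RepWith @Etale a → IsOpen ({u} : Set ↥A.left)) → DiscreteTopology (Points X.obj) := fun h => by
    refine discreteTopology_iff_isOpen_singleton.2 fun x => ?_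
    obtain ⟨A, a, u, ha, rfl⟩ := Groth.Agent.AlgSpGeomRed.exists_chart_pt X.property x
    exact (Groth.Agent.AlgSpIsolated.isolated_iff p hp ha u).2 (h a u ha)
  have back : ∀ (_ : DiscreteTopology (Points X.obj)), AlgSp.dim X.obj = 0 := fun hd => by
    have hU : ∀ {A : Over (Spec (CommRingCat.of k))} {a : (yon _).obj A ⟶ X.obj}, RepWith @Etale a →
        DiscreteTopology ↥A.left := fun {A a} ha => discreteTopology_iff_isOpen_singleton.2 fun u =>
      (Groth.Agent.AlgSpIsolated.isolated_iff p hp ha u).1 (isOpen_discrete _)
    refine le_antisymm (iSup_le fun A => iSup_le fun a => iSup_le fun ha => ?_)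
      (le_iSup_of_le A₀ (le_iSup_of_le a₀ (le_trans ?_
        (le_iSup (fun _ : RepWith @Etale a₀ => topologicalKrullDim ↥A₀.left) ha₀))))
    · haveI := hU ha
      exact topologicalKrullDim_zero_of_discreteTopology _
    · haveI : Nonempty (TopologicalSpace.IrreducibleCloseds ↥A₀.left) :=
        ⟨⟨closure {u₀}, isIrreducible_singleton.closure, isClosed_closure⟩⟩
      exact Order.krullDim_nonneg
  refine ⟨⟨back, fun hd => disc fun {A} a u ha => ?_⟩, fun hd => ?_, fun hX hd => disc fun {A} a u ha => ?_,
    fun hX hf => back (disc fun {A} a u ha => ?_)⟩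
  · haveI := hnoeth ha
    haveI : IsLocallyArtinian A.left := IsLocallyArtinian.of_topologicalKrullDim_le_zero
      (le_trans (le_iSup_of_le A (le_iSup_of_le a
        (le_iSup (fun _ : RepWith @Etale a => topologicalKrullDim ↥A.left) ha))) (le_of_eq hd))
    exact isOpen_discrete _
  · haveI : Nonempty (TopologicalSpace.IrreducibleCloseds (Points X.obj)) :=
      ⟨⟨closure {Points.ofPt a₀ u₀}, isIrreducible_singleton.closure, isClosed_closure⟩⟩
    exact le_antisymm (topologicalKrullDim_zero_of_discreteTopology _) Order.krullDim_nonneg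
  · haveI := hnoeth ha
    refine Groth.Agent.AlgSpIsolated.localDim_eq_zero_iff.1 ?_
    rw [S10346.result X hX a ha u]
    refine le_antisymm (le_trans (iInf_le _ ⟨⊤, trivial⟩) ?_) (le_iInf fun V => ?_)
    · exact hd ▸ topologicalKrullDim_subspace_le _ _
    · haveI : Nonempty (TopologicalSpace.IrreducibleCloseds (V.1 : Set (Points X.obj))) :=
        ⟨⟨closure {⟨Points.ofPt a u, V.2⟩}, isIrreducible_singleton.closure, isClosed_closure⟩⟩
      exact Order.krullDim_nonneg
  · haveI := Groth.Agent.AlgSpIsolated.lft_chart p hp ha
    obtain ⟨W, hW, huW, -⟩ := exists_isAffineOpen_mem_and_subset (U := ⊤) (x := u) trivial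
    have hfin : (W : Set ↥A.left).Finite :=
      (Set.finite_iUnion fun x => Groth.Agent.AlgSpc.finite_preimage_point_inter hX ha hW x).subset
        fun w hw => Set.mem_iUnion.2 ⟨Points.ofPt a w, rfl, hw⟩
    haveI : Finite ↥W := hfin.to_subtype
    haveI : JacobsonSpace ↥A.left := LocallyOfFiniteType.jacobsonSpace A.hom
    haveI : JacobsonSpace ↥W := JacobsonSpace.of_isOpenEmbedding W.isOpen.isOpenEmbedding_subtypeVal
    have := W.isOpen.isOpenMap_subtype_val _ (isOpen_discrete ({⟨u, huW⟩} : Set ↥W))
    rwa [Set.image_singleton] at this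

end Groth.Agent.S10392
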