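import Groth.Statements.S10396
import Groth.Agent.AlgSpc.DecentGeneric
-- import your own Groth.Agent.* helpers here

set_option autoImplicit false
universe u
open CategoryTheory CategoryTheory.Limits AlgebraicGeometry Topology TopologicalSpace
open AlgSp

namespace Groth.Agent.S10396

/-- Let S be a scheme, X a decent algebraic space over S, and T ⊆ |X| an irreducible closed subset with
generic point ξ. Then codim(T, |X|) equals the dimension of the local ring at ξ of X, read on any
etale chart (U, u) ⟶ (X, ξ) as the Krull dimension of O_{U,u}. -/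
theorem result {S : Scheme.{u}} (X : AlgSp.Space S)
    (hX : AlgSp.IsDecent X.obj) (T : TopologicalSpace.IrreducibleCloseds (AlgSp.Points X.obj)) (ξ : AlgSp.Points X.obj)
    (hξ : IsGenericPoint ξ (T : Set (AlgSp.Points X.obj))) {U : Over S} (a : (AlgSp.yon S).obj U ⟶ X.obj)
    (ha : AlgSp.RepWith @Etale a) (u : ↥U.left) (hu : AlgSp.Points.ofPt a u = ξ) :
    (Order.coheight T : WithBot ℕ∞) = ringKrullDim ↥(U.left.presheaf.stalk u) := by
  haveI := AlgSpc.t0Space_of_isDecent X.property hX
  haveI := AlgSpc.quasiSober_of_isDecent X.property hX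
  letI := specializationOrder (AlgSp.Points X.obj)
  have hT : irreducibleSetEquivPoints T = ξ := T.2.isGenericPoint_genericPoint_closure.eq
    (by rw [T.3.closure_eq]; exact hξ)
  rw [ringKrullDim_stalk_eq_coheight, WithBot.coe_inj, ← Order.coheight_orderIso irreducibleSetEquivPoints T, hT, ← hu]
  refine (Order.coheight_eq_of_strictMono (AlgSp.Points.ofPt a) ?_ ?_ u).symm
  · intro p q hpq
    have h₁ : q ⤳ p := hpq.le
    have h₂ : AlgSp.Points.ofPt a q ⤳ AlgSp.Points.ofPt a p := h₁.map (AlgSp.Points.continuous_ofPt a)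
    refine lt_of_le_of_ne h₂ fun e => ?_
    have e' := AlgSpc.eq_of_specializes_of_isDecent hX ha e h₁
    subst e'
    exact lt_irrefl _ hpq
  · intro p y hy
    obtain ⟨p', hp', rfl⟩ := AlgSpc.exists_specializes_lift hX ha (show y ⤳ AlgSp.Points.ofPt a p from hy.le)
    refine ⟨p', lt_of_le_not_ge (show p' ⤳ p from hp') fun h => hy.not_ge ?_, rfl⟩
    exact (show p ⤳ p' from h).map (AlgSp.Points.continuous_ofPt a)

end Groth.Agent.S10396
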