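import Groth.Statements.S10399
import Groth.Agent.AlgSpDesc.LqfDim
import Groth.Agent.AlgSpDesc.LqfLocus
-- import your own Groth.Agent.* helpers here

set_option autoImplicit false
universe u
open CategoryTheory CategoryTheory.Limits AlgebraicGeometry Topology TopologicalSpace
open AlgSp

namespace Groth.Agent.S10399

open Groth.Agent.AlgSpc Groth.Agent.AlgSpDesc

set_option backward.isDefEq.respectTransparency false

theorem dim_zero_of_chart {S : Scheme.{u}} {X : Sp S} {U V : Over S} {a : (yon S).obj U ⟶ X} {b : (yon S).obj V ⟶ X}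
    (ha : RepWith @Etale a) (hb : RepWith @Etale b) {u : ↥U.left} {v : ↥V.left}
    (e : Points.ofPt a u = Points.ofPt b v) (hv : ringKrullDim ↥(V.left.presheaf.stalk v) = 0) :
    ringKrullDim ↥(U.left.presheaf.stalk u) = 0 := by
  obtain ⟨W, fst, snd, sq⟩ := exists_sq hb.1 a
  obtain ⟨w, hw₁, hw₂⟩ := exists_point_of_sq sq (Points.ofScheme V v) u
    (by rw [← Points.ofPt_eq_map_ofScheme, e])
  rw [ofPt_pre] at hw₁
  replace hw₁ : (pre fst).left w = v := by simpa using congrArg (Points.toScheme V) hw₁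
  haveI : Etale snd.left := hb.2 _ _ _ sq
  have h1 : RepWith @Etale fst := repWith_of_isPullback sq.flip ha
  haveI : Etale (pre fst).left := (repWith_yon_map_iff _ _).1 (by rwa [map_pre])
  haveI : LocallyQuasiFinite (pre fst).left := AlgSpLoc.locallyQuasiFinite_of_etale _
  rw [ringKrullDim_stalk_eq_coheight, WithBot.coe_eq_zero] at hv ⊢
  subst hw₁ hw₂
  exact le_antisymm ((coheight_apply_le_of_flat snd.left w).trans
    ((coheight_le_apply_of_lqf (pre fst).left w).trans hv.le)) bot_le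

theorem dim_zero_iff {X : Scheme.{u}} (x : X) : ringKrullDim ↥(X.presheaf.stalk x) = 0 ↔ ∀ g : X, g ⤳ x → x ⤳ g := by
  rw [ringKrullDim_stalk_eq_coheight, WithBot.coe_eq_zero, Order.coheight_eq_zero]
  exact ⟨fun h g hg => h (show x ≤ g from hg), fun h g hg => h g hg⟩

theorem eq_of_qf {X Y : Scheme.{u}} (k : X ⟶ Y) [LocallyOfFiniteType k] {g x : X} (hg : k.QuasiFiniteAt g)
    (hs : g ⤳ x) (e : k x = k g) : x = g := by
  have hc := hg.isClopen_singleton_asFiber.1
  have hh : (⟨g, rfl⟩ : k ⁻¹' {k g}) ⤳ ⟨x, e⟩ := (subtype_specializes_iff _ _).2 hs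
  have := (hh.map (k.fiberHomeo (k g)).symm.continuous).mem_closed hc rfl
  exact congrArg Subtype.val ((k.fiberHomeo (k g)).symm.injective this)

theorem qf_of_forall {X Y : Scheme.{u}} (k : X ⟶ Y) [LocallyOfFiniteType k] (x : X)
    (h : ∀ x' : X, k x' = k x → ∀ g : X, g ⤳ x' → x' ⤳ g) : k.QuasiFiniteAt x := by
  rw [Scheme.Hom.quasiFiniteAt_iff_isOpen_singleton_asFiber]
  haveI : LocallyOfFiniteType (k.fiberToSpecResidueField (k x)) :=
    MorphismProperty.pullback_snd (P := @LocallyOfFiniteType) k _ ‹_›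
  haveI : IsLocallyNoetherian (k.fiber (k x)) :=
    LocallyOfFiniteType.isLocallyNoetherian (k.fiberToSpecResidueField (k x))
  haveI : IsLocallyArtinian (k.fiber (k x)) := IsLocallyArtinian.of_topologicalKrullDim_le_zero (by
    change Order.krullDim _ ≤ 0
    rw [Order.krullDim_eq_of_orderIso (irreducibleSetEquivPoints (α := k.fiber (k x)))]
    refine Order.krullDim_nonpos_iff_forall_isMax.2 fun a b hab => ?_
    let p := k.fiberHomeo (k x)
    have hm : (p b).1 ⤳ (p a).1 := (subtype_specializes_iff _ _).1 ((show b ⤳ a from hab).map p.continuous)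
    have h2 := (subtype_specializes_iff (p a) (p b)).2 (h (p a).1 (p a).2 (p b).1 hm)
    show a ⤳ b
    simpa using h2.map p.symm.continuous)
  exact isOpen_discrete _

theorem exists_max {X : Scheme.{u}} (x : X) : ∃ g : X, g ⤳ x ∧ ∀ h : X, h ⤳ g → g ⤳ h := by
  obtain ⟨g, hg⟩ := QuasiSober.sober (isIrreducible_irreducibleComponent (x := x)) isClosed_irreducibleComponent
  refine ⟨g, hg.specializes mem_irreducibleComponent, fun h hh => hg.specializes ?_⟩
  rw [← eq_irreducibleComponent isIrreducible_singleton.closure.isPreirreducible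
    (hg.def ▸ (specializes_iff_closure_subset.1 hh))]
  exact subset_closure rfl

/-- Let f : X ⟶ Y be a morphism locally of finite type of algebraic spaces over a scheme S and y a
codimension 0 point of Y. The following are equivalent: (1) every point of |X| over y has
codimension 0 on X; (2) f is quasi-finite at all points over y; (3) f is quasi-finite at all
codimension 0 points of X over y. Stated as (1) ⇔ (2) together with (3) ⇒ (1). -/
theorem result {S : Scheme.{u}} {X Y : AlgSp.Space S} (f : X ⟶ Y)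
    (hf : AlgSp.LocP @LocallyOfFiniteType f.hom) (y : AlgSp.Points Y.obj) (hy : AlgSp.HasAt (fun U u => ringKrullDim ↥(U.presheaf.stalk u) = 0) Y.obj y) :
    ((∀ x : AlgSp.Points X.obj, AlgSp.Points.map f.hom x = y → AlgSp.HasAt (fun U u => ringKrullDim ↥(U.presheaf.stalk u) = 0) X.obj x) ↔
        (∀ x : AlgSp.Points X.obj, AlgSp.Points.map f.hom x = y → AlgSp.HasAtMor (fun U _ h u => ∃ W : U.Opens, u ∈ W ∧ LocallyQuasiFinite (W.ι ≫ h) ∧ LocallyOfFiniteType (W.ι ≫ h)) f.hom x)) ∧
      ((∀ x : AlgSp.Points X.obj, AlgSp.Points.map f.hom x = y → AlgSp.HasAt (fun U u => ringKrullDim ↥(U.presheaf.stalk u) = 0) X.obj x → AlgSp.HasAtMor (fun U _ h u => ∃ W : U.Opens, u ∈ W ∧ LocallyQuasiFinite (W.ι ≫ h) ∧ LocallyOfFiniteType (W.ι ≫ h)) f.hom x) →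
        ∀ x : AlgSp.Points X.obj, AlgSp.Points.map f.hom x = y → AlgSp.HasAt (fun U u => ringKrullDim ↥(U.presheaf.stalk u) = 0) X.obj x) := by
  obtain ⟨U, V, a, b, k, ha, has, hb, -, w⟩ := exists_chart X.property Y.property f.hom
  haveI : LocallyOfFiniteType k.left := hf a b k ha hb w
  have hmap : ∀ u, Points.map f.hom (Points.ofPt a u) = Points.ofPt b (k.left u) := fun u => by
    rw [Points.map_ofPt, w, ofPt_comp]
  have hc : ∀ u, AlgSp.HasAt (fun U u => ringKrullDim ↥(U.presheaf.stalk u) = 0) X.obj (Points.ofPt a u) ↔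
      ∀ g, g ⤳ u → u ⤳ g := fun u => by
    rw [← dim_zero_iff]
    exact ⟨fun ⟨U', a', u', ha', e, h'⟩ => dim_zero_of_chart ha ha' e.symm h', fun h' => ⟨U, a, u, ha, rfl, h'⟩⟩
  have hq : ∀ u, AlgSp.HasAtMor (fun U _ h u => ∃ W : U.Opens, u ∈ W ∧ LocallyQuasiFinite (W.ι ≫ h) ∧
      LocallyOfFiniteType (W.ι ≫ h)) f.hom (Points.ofPt a u) ↔ k.left.QuasiFiniteAt u := fun u => by
    refine ⟨?_, fun h0 => ⟨U, V, a, b, k, u, ha, hb, w, rfl, _, h0,
      (lqf_restrict_quasiFiniteLocus k.left).1, (lqf_restrict_quasiFiniteLocus k.left).2⟩⟩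
    rintro ⟨U', V', a', b', k', u', ha', hb', w', e, W, hW, h1, h2⟩
    rw [quasiFiniteAt_iff_fibreDimAt, fibreDimAt_unique ha hb w ha' hb' w' e.symm]
    exact fibreDimAt_eq_zero_of_lqf_near W hW h1 h2
  obtain ⟨V', b', v', hb', e', hv'⟩ := hy
  have hv : ∀ u, Points.map f.hom (Points.ofPt a u) = y → ∀ g, g ⤳ u → k.left g = k.left u :=
    fun u hu g hg => by
      have hm : k.left g ⤳ k.left u := hg.map k.left.continuous
      exact (hm.antisymm ((dim_zero_iff _).1 (dim_zero_of_chart hb hb' ((hmap u ▸ hu).trans e'.symm) hv') _ hm)).eq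
  refine ⟨⟨fun h x hx => ?_, fun h x hx => ?_⟩, fun h x hx => ?_⟩ <;>
    obtain ⟨u, rfl⟩ := surjective_ofPt has x
  · exact (hq u).2 (qf_of_forall _ u fun u' hu' => (hc u').1 (h _ (by rw [hmap, hu', ← hmap, hx])))
  · refine (hc u).2 fun g hg => ?_
    have hk := hv u hx g hg
    exact specializes_of_eq (eq_of_qf k.left ((hq g).1 (h _ (by rw [hmap, hk, ← hmap, hx]))) hg hk.symm)
  · obtain ⟨g, hg, hmax⟩ := exists_max u
    have hk := hv u hx g hg
    have hxg : Points.map f.hom (Points.ofPt a g) = y := by rw [hmap, hk, ← hmap, hx]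
    obtain rfl := eq_of_qf k.left ((hq g).1 (h _ hxg ((hc g).2 hmax))) hg hk.symm
    exact (hc _).2 hmax

end Groth.Agent.S10399
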