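import Groth.Statements.S1040
import Groth.Agent.DCohBridge.PushDerived
import Groth.Agent.DerCat.CoprodHomology
import Groth.Agent.QCohBase.Criteria
import Groth.Agent.TensorMod.Invertible

set_option autoImplicit false
universe u
open CategoryTheory CategoryTheory.Limits AlgebraicGeometry
attribute [local instance] HasDerivedCategory.standard
open Perf

namespace Groth.Agent.S1040

/-- Let X be a scheme and Kᵢ a family of objects of D(O_X) with quasi-coherent cohomology sheaves,
indexed by a small type, whose direct sum exists in D(O_X). Then ∐ Kᵢ has quasi-coherent cohomology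
sheaves. -/
theorem result (X : Scheme.{u}) {ι : Type u} (K : ι → DCoh.D X) (hK : ∀ i, DCoh.IsQCohD (K i)) [HasCoproduct K] :
    DCoh.IsQCohD (∐ K) := by
  haveI : IsGrothendieckAbelian.{u} X.Modules := inferInstance
  haveI : AB4OfSize.{u} X.Modules := inferInstance
  let N : ι → CochainComplex X.Modules ℤ := fun i => DerivedCategory.Q.objPreimage (K i)
  let e : ∀ i, DerivedCategory.Q.obj (N i) ≅ K i := fun i => DerivedCategory.Q.objObjPreimageIso (K i)
  obtain ⟨hc⟩ := Groth.Agent.DerCat.nonempty_isColimit_cofan (Groth.Agent.DCohBridge.exists_kInj X) K N e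
  intro n
  obtain ⟨h⟩ := Groth.Agent.DerCat.nonempty_homology_sigma N n
  have hq : ∀ i, Coh.IsQCoh ((N i).homology n) := fun i => Groth.Agent.TensorMod.isQCoh_of_iso
    ((DerivedCategory.homologyFunctor X.Modules n).mapIso (e i).symm ≪≫
      (DerivedCategory.homologyFunctorFactors X.Modules n).app (N i)) (hK i n)
  exact Groth.Agent.TensorMod.isQCoh_of_iso
    (h.symm ≪≫ ((DerivedCategory.homologyFunctorFactors X.Modules n).app (∐ N)).symm ≪≫
      (DerivedCategory.homologyFunctor X.Modules n).mapIso
        (hc.coconePointUniqueUpToIso (coproductIsCoproduct K)))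
    (Groth.Agent.QCohBase.isQuasicoherent_colimit _ fun j => hq j.as)

end Groth.Agent.S1040
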