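import Groth.Statements.S10402
import Groth.Agent.AlgSpc.DecentJacobson
-- import your own Groth.Agent.* helpers here

set_option autoImplicit false
universe u
open CategoryTheory CategoryTheory.Limits AlgebraicGeometry Topology TopologicalSpace
open AlgSp

namespace Groth.Agent.S10402

/-- Let S be a scheme and X a Jacobson algebraic space over S. Fix a finite type point x of |X|, and let
g : W ⟶ X be locally of finite type, where W is a scheme. If x lies in the image of |W| → |X|, then
some closed point of W is mapped to x. -/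
theorem result {S : Scheme.{u}} (X : AlgSp.Space S) (hX : AlgSp.EtaleLocally (fun U => JacobsonSpace ↥U) X.obj)
    (x : AlgSp.Points X.obj) (hx : AlgSp.HasAt (fun U u => IsClosed ({u} : Set ↥U)) X.obj x) {W : Over S} (g : (AlgSp.yon S).obj W ⟶ X.obj)
    (hg : AlgSp.LocP @LocallyOfFiniteType g) (hxW : x ∈ Set.range (AlgSp.Points.ofPt g)) :
    ∃ w : ↥W.left, IsClosed ({w} : Set ↥W.left) ∧ AlgSp.Points.ofPt g w = x := by
  obtain ⟨V, b, hb, hbs, hV⟩ := hX
  haveI := hV
  obtain ⟨U, a, u, ha, hax, hu⟩ := hx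
  obtain ⟨v, hv⟩ := AlgSpc.surjective_ofPt hbs x
  have hvc := AlgSpc.isClosed_point_of_chart ha hb (hax.trans hv.symm) hu
  obtain ⟨P, fst, snd, sq⟩ := AlgSpc.exists_sq hb.1 g
  haveI : Etale snd.left := hb.2 _ _ _ sq
  haveI : Surjective snd.left := hbs.2 _ _ _ sq
  haveI : LocallyOfFiniteType (AlgSpc.pre fst).left := hg ((AlgSp.yon S).map snd) b (AlgSpc.pre fst)
    ((AlgSp.repWith_yon_map_iff _ _).2 ‹_›) hb (by rw [AlgSpc.map_pre]; exact sq.w.symm)
  haveI : JacobsonSpace ↥P.left := LocallyOfFiniteType.jacobsonSpace (AlgSpc.pre fst).left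
  haveI : LocallyQuasiFinite snd.left := AlgSpLoc.locallyQuasiFinite_of_etale _
  obtain ⟨w, hw⟩ := hxW
  obtain ⟨q, hq₁, hq₂⟩ := AlgSpc.exists_point_of_sq sq (AlgSp.Points.ofScheme V v) w
    (by rw [← AlgSp.Points.ofPt_eq_map_ofScheme, hv, hw])
  have hqv : (AlgSpc.pre fst).left q = v := by
    have h' := congrArg (AlgSp.Points.toScheme V) hq₁
    rwa [← AlgSpc.map_pre fst, AlgSp.Points.toScheme_ofPt, AlgSp.Points.toScheme_ofScheme] at h'
  obtain ⟨p, hpv, hp⟩ := nonempty_inter_closedPoints (Z := (AlgSpc.pre fst).left ⁻¹' {v}) ⟨q, hqv⟩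
    (hvc.preimage (AlgSpc.pre fst).left.continuous).isLocallyClosed
  refine ⟨snd.left p, isClosed_of_closure_subset fun y hy => ?_, ?_⟩
  · obtain ⟨r, rfl⟩ := snd.left.surjective y
    obtain ⟨p', hp', he⟩ := Flat.generalizingMap snd.left (specializes_iff_mem_closure.2 hy)
    have h1 : r ∈ closure {p'} := hp'.mem_closure
    rw [(AlgSpc.isClosed_of_map_eq snd.left hp he).closure_eq] at h1
    rw [Set.mem_singleton_iff.1 h1, he]
    rfl
  · have e := congrArg (fun c => AlgSp.Points.ofPt c p) sq.w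
    rw [← AlgSpc.map_pre fst, AlgSpc.ofPt_comp, AlgSpc.ofPt_comp,
      show (AlgSpc.pre fst).left p = v from hpv, hv] at e
    exact e.symm

end Groth.Agent.S10402
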