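import Groth.Statements.S10406
import Groth.Agent.S10271
import Groth.Agent.AlgSpc.Basic

set_option autoImplicit false
set_option backward.isDefEq.respectTransparency false
universe u
open CategoryTheory CategoryTheory.Limits AlgebraicGeometry Topology TopologicalSpace
open AlgSp

namespace Groth.Agent.S10406

/-- Let S be a scheme, Y and X decent, locally Noetherian algebraic spaces over S, and f : Y ⟶ X a
surjective finite morphism, and let δ : |X| → ℤ be a function. Suppose δ ∘ |f| is a dimension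
function on |Y| (it decreases strictly along nontrivial specializations and by exactly one along
immediate specializations). Then δ is a dimension function on |X|. -/
theorem result {S : Scheme.{u}} {X Y : AlgSp.Space S} (f : Y ⟶ X)
    (hf : AlgSp.IsFiniteMor f.hom) (hs : AlgSp.IsSurjectiveMor f.hom) (hX : AlgSp.IsDecent X.obj)
    (hY : AlgSp.IsDecent Y.obj) (hXN : AlgSp.IsLocNoethSp X.obj) (hYN : AlgSp.IsLocNoethSp Y.obj)
    (δ : AlgSp.Points X.obj → ℤ)
    (hδ : (∀ a b : AlgSp.Points Y.obj, a ⤳ b → a ≠ b → (δ ∘ AlgSp.Points.map f.hom) b < (δ ∘ AlgSp.Points.map f.hom) a ∧ ((∀ c : AlgSp.Points Y.obj, a ⤳ c → c ⤳ b → c = a ∨ c = b) → (δ ∘ AlgSp.Points.map f.hom) a = (δ ∘ AlgSp.Points.map f.hom) b + 1))) :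
    (∀ a b : AlgSp.Points X.obj, a ⤳ b → a ≠ b → δ b < δ a ∧ ((∀ c : AlgSp.Points X.obj, a ⤳ c → c ⤳ b → c = a ∨ c = b) → δ a = δ b + 1)) := by
  have hp := ((S10271.result f).1 hf).2
  have hcl : IsClosedMap (Points.map f.hom) :=
    hp.2.2 X.property (𝟙 X.obj) (𝟙 Y.obj) f.hom (IsPullback.of_horiz_isIso ⟨by simp⟩)
  intro a b hab hne
  obtain ⟨a', rfl⟩ := hs a
  obtain ⟨b', hab', rfl⟩ : ∃ b', a' ⤳ b' ∧ Points.map f.hom b' = b := by
    obtain ⟨b', hb', e⟩ := hab.mem_closed (hcl (closure {a'}) isClosed_closure) ⟨a', subset_closure rfl, rfl⟩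
    exact ⟨b', specializes_iff_mem_closure.2 hb', e⟩
  obtain ⟨h1, h2⟩ := hδ a' b' hab' (fun e => hne (congrArg _ e))
  refine ⟨h1, fun him => h2 fun c hc hc' => ?_⟩
  rcases him (Points.map f.hom c) (hc.map (Points.continuous_map f.hom)) (hc'.map (Points.continuous_map f.hom)) with e | e
  · refine Or.inl ?_
    by_contra hne'
    have h3 := (hδ a' c hc (Ne.symm hne')).1
    simp only [Function.comp, e, lt_irrefl] at h3
  · refine Or.inr ?_
    by_contra hne'
    have h3 := (hδ c b' hc' hne').1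
    simp only [Function.comp, e, lt_irrefl] at h3

end Groth.Agent.S10406
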