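import Groth.Statements.S10407
import Groth.Agent.AlgSpc.MonoPoint
-- import your own Groth.Agent.* helpers here

set_option autoImplicit false
universe u
open CategoryTheory CategoryTheory.Limits AlgebraicGeometry Topology TopologicalSpace
open AlgSp

set_option backward.isDefEq.respectTransparency false
namespace Groth.Agent.S10407

/-- (1) ⇒ (4): let X be an algebraic space over a scheme S, φ : U ⟶ X etale with U a scheme, and u, u' ∈
U points over the same x ∈ |X| such that, with R = U ×_X U, the map |R| → |U| ×_{|X|} |U| has finite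
fibre over (u, u'). Then x is represented by a monomorphism Spec k ⟶ X with k a field. -/
theorem result {S : Scheme.{u}} (X : AlgSp.Space S) {U : Over S}
    (φ : (AlgSp.yon S).obj U ⟶ X.obj) (hφ : AlgSp.RepWith @Etale φ) (u u' : ↥U.left)
    (he : AlgSp.Points.ofPt φ u = AlgSp.Points.ofPt φ u')
    (hfin : ∀ (R : Over S) (s t : R ⟶ U), IsPullback ((AlgSp.yon S).map t) ((AlgSp.yon S).map s) φ φ →
          {r : ↥R.left | s.left r = u ∧ t.left r = u'}.Finite) :
    ∃ p : AlgSp.FieldPt X.obj, AlgSp.Points.mk p = AlgSp.Points.ofPt φ u ∧ Mono p.toHom := by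
  obtain ⟨R, fst, s, sR⟩ := AlgSpc.exists_sq hφ.1 φ
  let t := AlgSpc.pre fst
  rw [← AlgSpc.map_pre fst] at sR
  have hT := hfin R s t sR
  haveI : Etale s.left := hφ.2 _ _ _ sR
  haveI : LocallyQuasiFinite s.left := AlgSpLoc.locallyQuasiFinite_of_etale _
  obtain ⟨r₀, hr₀', hr₀⟩ := AlgSpc.exists_point_of_sq sR (AlgSp.Points.ofScheme U u') u
    (by rw [← AlgSp.Points.ofPt_eq_map_ofScheme, he])
  have ht₀ : t.left r₀ = u' := by
    have h' := congrArg (AlgSp.Points.toScheme U) hr₀'
    rwa [AlgSp.Points.toScheme_ofPt, AlgSp.Points.toScheme_ofScheme] at h'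
  refine AlgSpc.exists_mono_point_of_finite hφ u fun P p₁ p₂ sP => ?_
  -- residue fields of points of `R` over `u`
  haveI : Etale t.left := AlgSpc.sq_etale (by rw [AlgSpc.map_pre fst] at sR; exact sR) hφ
  haveI : LocallyQuasiFinite t.left := AlgSpLoc.locallyQuasiFinite_of_etale _
  have hres' : ∀ {q : R.left ⟶ U.left} [LocallyQuasiFinite q] [LocallyOfFiniteType q] (r : ↥R.left) (w : ↥U.left),
      q r = w → ∃ c : Spec (R.left.residueField r) ⟶ Spec (U.left.residueField w),
      c ≫ U.left.fromSpecResidueField w = R.left.fromSpecResidueField r ≫ q ∧ IsFinite c := by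
    intro q _ _ r w hw
    subst hw
    refine ⟨_, Scheme.Hom.SpecMap_residueFieldMap_fromSpecResidueField _ _, ?_⟩
    haveI : DiscreteTopology ↥(q.fiber (q r)) :=
      haveI := (q.isDiscrete_preimage_singleton (q r)).to_subtype
      (q.fiberHomeo (q r)).isEmbedding.discreteTopology
    haveI : IsClosedImmersion (q.asFiberHom r) :=
      IsClosedImmersion.of_isPreimmersion _ (isClosed_discrete _)
    haveI : LocallyOfFiniteType (q.fiberToSpecResidueField (q r)) :=
      MorphismProperty.pullback_snd _ _ inferInstance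
    haveI : LocallyOfFiniteType (Spec.map (q.residueFieldMap r)) := by
      rw [← Scheme.Hom.asFiberHom_fiberToSpecResidueField]; infer_instance
    haveI : JacobsonSpace ↥(Spec (U.left.residueField (q r))) :=
      inferInstanceAs (JacobsonSpace (PrimeSpectrum (U.left.residueField (q r))))
    haveI : Subsingleton ↥(Spec (R.left.residueField r)) :=
      inferInstanceAs (Subsingleton (PrimeSpectrum (R.left.residueField r)))
    exact isFinite_iff_locallyOfFiniteType_of_jacobsonSpace.2 ‹_›
  obtain ⟨c₀, hc₀, -⟩ := hres' (q := s.left) r₀ u hr₀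
  have hres := fun r hr => hres' (q := t.left) r u' hr
  let L₀ : Over S := Over.mk (R.left.fromSpecResidueField r₀ ≫ R.hom)
  let j₀ : L₀ ⟶ R := Over.homMk (R.left.fromSpecResidueField r₀) rfl
  let L : Over S := Over.mk (U.left.fromSpecResidueField u ≫ U.hom)
  let ju : L ⟶ U := Over.homMk (U.left.fromSpecResidueField u) rfl
  let e₀ : L₀ ⟶ L := Over.homMk c₀ (by
    change c₀ ≫ U.left.fromSpecResidueField u ≫ U.hom = R.left.fromSpecResidueField r₀ ≫ R.hom
    rw [reassoc_of% hc₀, Over.w])
  have he₀ : e₀ ≫ ju = j₀ ≫ s := by ext : 1; exact hc₀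
  haveI : Mono ju.left := inferInstanceAs (Mono (U.left.fromSpecResidueField u))
  haveI : Mono ju := (Over.forget S).mono_of_mono_map (inferInstanceAs (Mono ju.left))
  let Z := pullback p₂ e₀
  haveI : Surjective (pullback.fst p₂ e₀).left := by
    haveI : Surjective e₀.left := ⟨fun x => ⟨IsLocalRing.closedPoint _,
      @Subsingleton.elim (PrimeSpectrum (U.left.residueField u)) _ _ _⟩⟩
    exact MorphismProperty.of_isPullback (P := @Surjective)
      ((IsPullback.of_hasPullback p₂ e₀).map (Over.forget S)).flip ‹_›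
  let μ : Z ⟶ R := AlgSpc.pre (sR.lift ((AlgSp.yon S).map (pullback.snd p₂ e₀ ≫ j₀ ≫ t))
    ((AlgSp.yon S).map (pullback.fst p₂ e₀ ≫ p₁ ≫ ju)) (by
      have := sP.w
      simp only [← Functor.map_comp_assoc] at this
      calc (AlgSp.yon S).map (pullback.snd p₂ e₀ ≫ j₀ ≫ t) ≫ φ
          = (AlgSp.yon S).map (pullback.snd p₂ e₀ ≫ j₀ ≫ s) ≫ φ := by
            simp only [Functor.map_comp, Category.assoc]; rw [sR.w]
        _ = (AlgSp.yon S).map (pullback.fst p₂ e₀) ≫ (AlgSp.yon S).map p₂ ≫ (AlgSp.yon S).map ju ≫ φ := by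
            rw [← he₀, ← pullback.condition_assoc]; simp [Functor.map_comp]
        _ = _ := by
            simp only [Functor.map_comp, Category.assoc]
            exact congrArg (_ ≫ ·) sP.w.symm))
  have hμs : μ ≫ s = pullback.fst p₂ e₀ ≫ p₁ ≫ ju := (AlgSp.yon S).map_injective (by simp [μ])
  have hμt : μ ≫ t = pullback.snd p₂ e₀ ≫ j₀ ≫ t := (AlgSp.yon S).map_injective (by rw [(AlgSp.yon S).map_comp μ t]; simp only [μ, AlgSpc.map_pre (sR.lift _ _ _)]; exact sR.lift_fst _ _ _)
  have hmemT : ∀ z : ↥Z.left, μ.left z ∈ {r : ↥R.left | s.left r = u ∧ t.left r = u'} := fun z => by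
    refine ⟨?_, ?_⟩
    · have h := congrArg (fun k : Z ⟶ U => k.left z) hμs
      exact h.trans (Scheme.fromSpecResidueField_apply u _)
    · have h := congrArg (fun k : Z ⟶ U => k.left z) hμt
      refine h.trans ?_
      change t.left (j₀.left ((pullback.snd p₂ e₀).left z)) = u'
      exact (congrArg t.left (Scheme.fromSpecResidueField_apply r₀ _)).trans ht₀
  let N := pullback t (j₀ ≫ t)
  let n : Z ⟶ N := pullback.lift μ (pullback.snd p₂ e₀) hμt
  haveI : Mono n := ⟨fun {W} b b' h => by
    have h₂ : b ≫ pullback.snd p₂ e₀ = b' ≫ pullback.snd p₂ e₀ := by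
      simpa [n] using congrArg (fun k => k ≫ pullback.snd _ _) h
    have h₁ : b ≫ μ ≫ s = b' ≫ μ ≫ s := by
      simpa [n] using congrArg (fun k => k ≫ pullback.fst _ _ ≫ s) h
    rw [hμs] at h₁
    have h₁' : (b ≫ pullback.fst p₂ e₀ ≫ p₁) ≫ ju = (b' ≫ pullback.fst p₂ e₀ ≫ p₁) ≫ ju := by simpa using h₁
    have h₁'' := (cancel_mono ju).1 h₁'
    refine pullback.hom_ext ?_ h₂
    apply (AlgSp.yon S).map_injective
    apply sP.hom_ext
    · rw [← Functor.map_comp, ← Functor.map_comp]
      exact congrArg _ (by simpa using h₁'')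
    · rw [← Functor.map_comp, ← Functor.map_comp]
      refine congrArg _ ?_
      rw [Category.assoc, pullback.condition, Category.assoc, pullback.condition, reassoc_of% h₂]⟩
  haveI : Mono n.left := inferInstanceAs (Mono ((Over.forget S).map n))
  have hN : {x : ↥N.left | (pullback.fst t (j₀ ≫ t)).left x ∈ {r : ↥R.left | s.left r = u ∧ t.left r = u'}}.Finite := by
    refine (hT.biUnion (t := fun r => {x : ↥N.left | (pullback.fst t (j₀ ≫ t)).left x = r}) fun r hr => ?_).subset
      (fun x hx => Set.mem_biUnion hx (show (pullback.fst t (j₀ ≫ t)).left x = (pullback.fst t (j₀ ≫ t)).left x from rfl))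
    have sN : IsPullback (pullback.fst t (j₀ ≫ t)).left (pullback.snd t (j₀ ≫ t)).left t.left (j₀ ≫ t).left :=
      (IsPullback.of_hasPullback t (j₀ ≫ t)).map (Over.forget S)
    obtain ⟨c, hc, hcf⟩ := hres r hr.2
    obtain ⟨c', hc', hcf'⟩ := hres r₀ ht₀
    haveI := hcf
    haveI := hcf'
    haveI : IsArtinianScheme (Spec (R.left.residueField r)) :=
      Scheme.isArtinianScheme_Spec.2 (inferInstanceAs (IsArtinianRing (R.left.residueField r)))
    haveI : IsFinite (pullback.fst c c') := MorphismProperty.pullback_fst _ _ inferInstance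
    haveI : IsLocallyArtinian (pullback c c') := IsLocallyArtinian.of_locallyQuasiFinite (pullback.fst c c')
    haveI : CompactSpace ↥(pullback c c') := QuasiCompact.compactSpace_of_compactSpace (pullback.fst c c')
    haveI : Finite ↥(pullback c c') := finite_of_compact_of_discrete
    let ν := pullback.map c c' t.left (j₀ ≫ t).left (R.left.fromSpecResidueField r) (𝟙 _)
      (U.left.fromSpecResidueField u') hc (by rw [Category.id_comp]; exact hc')
    refine ((Set.finite_range ν).image sN.isoPullback.inv).subset fun x hx => ?_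
    refine ⟨sN.isoPullback.hom x, ?_, by rw [← Scheme.Hom.comp_apply, Iso.hom_inv_id]; rfl⟩
    rw [Scheme.Pullback.range_map]
    constructor
    · refine (Scheme.range_fromSpecResidueField r).ge ?_
      rw [← Scheme.Hom.comp_apply, sN.isoPullback_hom_fst]
      exact hx
    · exact ⟨_, rfl⟩
  have hfinZ : Finite ↥Z.left := by
    refine Set.finite_univ_iff.1 ((hN.preimage n.left.injective.injOn).subset fun z _ => ?_)
    have h : n ≫ pullback.fst t (j₀ ≫ t) = μ := pullback.lift_fst _ _ _
    have h' : (pullback.fst t (j₀ ≫ t)).left (n.left z) = μ.left z := congrArg (fun k : Z ⟶ R => k.left z) h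
    exact show (pullback.fst t (j₀ ≫ t)).left (n.left z) ∈ {r : ↥R.left | s.left r = u ∧ t.left r = u'} by
      rw [h']; exact hmemT z
  exact Finite.of_surjective _ (pullback.fst p₂ e₀).left.surjective

end Groth.Agent.S10407
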