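import Groth.Statements.S10408
import Groth.Agent.AlgSpc.Misc2
import Groth.Agent.AlgSpc.Decent
-- import your own Groth.Agent.* helpers here

set_option autoImplicit false
universe u
open CategoryTheory CategoryTheory.Limits AlgebraicGeometry Topology TopologicalSpace
open AlgSp

set_option backward.isDefEq.respectTransparency false
namespace Groth.Agent.S10408

/-- (4) ⇒ (2): let S be a scheme and X an algebraic space over S. Suppose x ∈ |X| is a point represented
by a monomorphism Spec k ⟶ X, where k is a field. Then for every etale φ : U ⟶ X with U a scheme and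
all u, u' ∈ U over x, the map |U ×_X U| → |U| ×_{|X|} |U| has finite fibre over the point (u, u'). -/
theorem result {S : Scheme.{u}} (X : AlgSp.Space S) (x : AlgSp.Points X.obj)
    (hx : ∃ p : AlgSp.FieldPt X.obj, AlgSp.Points.mk p = x ∧ Mono p.toHom) {U : Over S}
    (φ : (AlgSp.yon S).obj U ⟶ X.obj) (hφ : AlgSp.RepWith @Etale φ) (u u' : ↥U.left)
    (hu : AlgSp.Points.ofPt φ u = x) (hu' : AlgSp.Points.ofPt φ u' = x) :
    ∀ (R : Over S) (s t : R ⟶ U), IsPullback ((AlgSp.yon S).map t) ((AlgSp.yon S).map s) φ φ →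
          {r : ↥R.left | s.left r = u ∧ t.left r = u'}.Finite := by
  intro R s t sR
  obtain ⟨p, hp, hm⟩ := hx
  haveI := hm
  obtain ⟨V, fst, snd, sq⟩ := AlgSpc.exists_sq hφ.1 p.toHom
  haveI : Etale snd.left := hφ.2 _ _ _ sq
  haveI : Mono (AlgSpc.pre fst) := by
    constructor
    intro Z a b h
    apply (AlgSp.yon S).map_injective
    have h' : (AlgSp.yon S).map a ≫ fst = (AlgSp.yon S).map b ≫ fst := by
      rw [← AlgSpc.map_pre fst, ← Functor.map_comp, h, Functor.map_comp]
    refine sq.hom_ext h' ((cancel_mono p.toHom).1 ?_)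
    rw [Category.assoc, Category.assoc, ← sq.w, ← Category.assoc, ← Category.assoc, h']
  haveI : Mono (AlgSpc.pre fst).left := inferInstanceAs (Mono ((Over.forget S).map (AlgSpc.pre fst)))
  let W := pullback snd snd
  let w₁ : W ⟶ V := pullback.fst snd snd
  let w₂ : W ⟶ V := pullback.snd snd snd
  let m : W ⟶ R := AlgSpc.pre (sR.lift ((AlgSp.yon S).map (w₂ ≫ AlgSpc.pre fst))
    ((AlgSp.yon S).map (w₁ ≫ AlgSpc.pre fst)) (by
      rw [Functor.map_comp, Functor.map_comp, AlgSpc.map_pre, Category.assoc, Category.assoc, sq.w,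
        ← Functor.map_comp_assoc, ← Functor.map_comp_assoc]
      exact congrArg (fun k => (AlgSp.yon S).map k ≫ p.toHom) pullback.condition.symm))
  have hm₁ : m ≫ s = w₁ ≫ AlgSpc.pre fst := (AlgSp.yon S).map_injective (by simp [m])
  have hm₂ : m ≫ t = w₂ ≫ AlgSpc.pre fst := (AlgSp.yon S).map_injective (by simp [m])
  -- the fibre of `R` is the image of a fibre of `W`
  have hsub : {r : ↥R.left | s.left r = u ∧ t.left r = u'} ⊆
      m.left '' {w | (AlgSpc.pre fst).left (w₁.left w) = u ∧ (AlgSpc.pre fst).left (w₂.left w) = u'} := by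
    rintro r ⟨hr₁, hr₂⟩
    obtain ⟨Z, z₁, z₂, sZ⟩ := AlgSpc.exists_sq (X.property.representable_from_yon ((AlgSp.yon S).map s ≫ φ)) p.toHom
    obtain ⟨z, hz, -⟩ := AlgSpc.exists_point_of_sq sZ (AlgSp.Points.ofScheme R r) (IsLocalRing.closedPoint p.K)
      (by rw [← AlgSp.Points.ofPt_eq_map_ofScheme, AlgSpc.ofPt_comp, hr₁, hu, AlgSp.Points.ofPt_toHom, hp])
    have hz' : (AlgSpc.pre z₁).left z = r := by
      have h' := congrArg (AlgSp.Points.toScheme R) hz
      rwa [← AlgSpc.map_pre z₁, AlgSp.Points.toScheme_ofPt, AlgSp.Points.toScheme_ofScheme] at h'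
    have e₁ : (z₁ ≫ (AlgSp.yon S).map s) ≫ φ = (AlgSp.yon S).map z₂ ≫ p.toHom := by
      rw [Category.assoc]; exact sZ.w
    have e₂ : (z₁ ≫ (AlgSp.yon S).map t) ≫ φ = (AlgSp.yon S).map z₂ ≫ p.toHom := by
      rw [Category.assoc, sR.w, ← Category.assoc]; exact e₁
    let c : Z ⟶ W := pullback.lift (AlgSpc.pre (sq.lift _ _ e₁)) (AlgSpc.pre (sq.lift _ _ e₂))
      ((AlgSp.yon S).map_injective (by simp))
    have hc : c ≫ m = AlgSpc.pre z₁ := by
      apply (AlgSp.yon S).map_injective
      apply sR.hom_ext
      · rw [← Functor.map_comp, Category.assoc, hm₂]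
        simp [c, w₂]
      · rw [← Functor.map_comp, Category.assoc, hm₁]
        simp [c, w₁]
    have hcr : m.left (c.left z) = r :=
      (congrArg (fun k : Z ⟶ R => k.left z) hc).trans hz'
    refine ⟨c.left z, ⟨?_, ?_⟩, hcr⟩
    · exact (congrArg (fun k : W ⟶ U => k.left (c.left z)) hm₁).symm.trans ((congrArg s.left hcr).trans hr₁)
    · exact (congrArg (fun k : W ⟶ U => k.left (c.left z)) hm₂).symm.trans ((congrArg t.left hcr).trans hr₂)
  refine (Set.Finite.image _ ?_).subset hsub
  -- at most one pair of points of `V`, and finitely many points over it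
  by_cases hv : (∃ v, (AlgSpc.pre fst).left v = u) ∧ ∃ v', (AlgSpc.pre fst).left v' = u'
  · obtain ⟨⟨v, rfl⟩, v', rfl⟩ := hv
    haveI : ∀ y : ↥V.left, IsFinite (V.left.fromSpecResidueField y ≫ snd.left) := fun y => by
      haveI : LocallyQuasiFinite snd.left := AlgSpLoc.locallyQuasiFinite_of_etale _
      haveI : IsLocallyArtinian p.pt.left :=
        (Scheme.isLocallyArtinianScheme_Spec (R := CommRingCat.of p.K)).2 (inferInstanceAs (IsArtinianRing p.K))
      haveI : IsLocallyArtinian V.left := IsLocallyArtinian.of_locallyQuasiFinite snd.left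
      haveI : IsClosedImmersion (V.left.fromSpecResidueField y) :=
        IsClosedImmersion.of_isPreimmersion _ (isClosed_discrete _)
      haveI : JacobsonSpace ↥p.pt.left := inferInstanceAs (JacobsonSpace ↥(Spec (CommRingCat.of p.K)))
      haveI : Subsingleton ↥(Spec (V.left.residueField y)) :=
        inferInstanceAs (Subsingleton (PrimeSpectrum (V.left.residueField y)))
      exact isFinite_iff_locallyOfFiniteType_of_jacobsonSpace.2 inferInstance
    let P := pullback (V.left.fromSpecResidueField v ≫ snd.left) (V.left.fromSpecResidueField v' ≫ snd.left)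
    haveI : Finite ↥P := by
      haveI : IsFinite (pullback.fst (V.left.fromSpecResidueField v ≫ snd.left)
          (V.left.fromSpecResidueField v' ≫ snd.left)) :=
        MorphismProperty.pullback_fst _ _ inferInstance
      haveI : IsArtinianScheme (Spec (V.left.residueField v)) :=
        Scheme.isArtinianScheme_Spec.2 (inferInstanceAs (IsArtinianRing (V.left.residueField v)))
      haveI : IsLocallyArtinian P := IsLocallyArtinian.of_locallyQuasiFinite
        (pullback.fst (V.left.fromSpecResidueField v ≫ snd.left) (V.left.fromSpecResidueField v' ≫ snd.left))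
      haveI : CompactSpace ↥P := QuasiCompact.compactSpace_of_compactSpace
        (pullback.fst (V.left.fromSpecResidueField v ≫ snd.left) (V.left.fromSpecResidueField v' ≫ snd.left))
      exact finite_of_compact_of_discrete
    have sW : IsPullback w₁.left w₂.left snd.left snd.left :=
      (IsPullback.of_hasPullback snd snd).map (Over.forget S)
    let μ := pullback.map (V.left.fromSpecResidueField v ≫ snd.left) (V.left.fromSpecResidueField v' ≫ snd.left)
      snd.left snd.left (V.left.fromSpecResidueField v) (V.left.fromSpecResidueField v') (𝟙 _)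
      (by simp) (by simp)
    refine ((Set.finite_range μ).image sW.isoPullback.inv).subset ?_
    rintro w ⟨h₁, h₂⟩
    have i₁ : w₁.left w = v := (AlgSpc.pre fst).left.injective h₁
    have i₂ : w₂.left w = v' := (AlgSpc.pre fst).left.injective h₂
    refine ⟨sW.isoPullback.hom w, ?_, by rw [← Scheme.Hom.comp_apply, Iso.hom_inv_id]; rfl⟩
    rw [Scheme.Pullback.range_map]
    constructor
    · refine (Scheme.range_fromSpecResidueField v).ge ?_
      rw [← Scheme.Hom.comp_apply, sW.isoPullback_hom_fst]
      exact i₁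
    · refine (Scheme.range_fromSpecResidueField v').ge ?_
      rw [← Scheme.Hom.comp_apply, sW.isoPullback_hom_snd]
      exact i₂
  · refine Set.Finite.subset Set.finite_empty fun w hw => ?_
    exact (hv ⟨⟨_, hw.1⟩, _, hw.2⟩).elim

end Groth.Agent.S10408
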