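import Groth.Statements.S10409
import Groth.Agent.AlgSpc.MonoPoint
-- import your own Groth.Agent.* helpers here

set_option autoImplicit false
universe u
open CategoryTheory CategoryTheory.Limits AlgebraicGeometry Topology TopologicalSpace
open AlgSp

set_option backward.isDefEq.respectTransparency false
namespace Groth.Agent.S10409

/-- (3) ⇔ (4): for an algebraic space X over a scheme S and x ∈ |X|, there is a monomorphism Spec k ⟶ X
representing x if and only if there is a morphism Spec k' ⟶ X representing x whose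
self-fibre-product has etale and quasi-compact projections to Spec k'. -/
theorem result {S : Scheme.{u}} (X : AlgSp.Space S)
    (x : AlgSp.Points X.obj) :
    (∃ p : AlgSp.FieldPt X.obj, AlgSp.Points.mk p = x ∧ Mono p.toHom) ↔
      ∃ q : AlgSp.FieldPt X.obj, AlgSp.Points.mk q = x ∧
        ∀ (P : AlgSp.Sp S) (fst snd : P ⟶ (AlgSp.yon S).obj q.pt), IsPullback fst snd q.toHom q.toHom →
          AlgSp.RepWith @Etale fst ∧ AlgSp.RepWith @QuasiCompact fst := by
  constructor
  · rintro ⟨p, hp, hm⟩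
    haveI := hm
    refine ⟨p, hp, fun P fst snd sq => ?_⟩
    have e : fst = snd := (cancel_mono p.toHom).1 sq.w
    haveI : IsIso fst := ⟨sq.lift (𝟙 _) (𝟙 _) rfl,
      sq.hom_ext (by simp) (by simp [e]), sq.lift_fst _ _ _⟩
    have h : ∀ Q : MorphismProperty Scheme.{u}, [Q.RespectsIso] → Q (𝟙 p.pt : p.pt ⟶ p.pt).left →
        AlgSp.RepWith Q ((AlgSp.yon S).map (𝟙 p.pt)) → AlgSp.RepWith Q fst := fun Q _ _ h => by
      have := MorphismProperty.RespectsIso.precomp (AlgSp.RepWith Q) fst _ h
      rwa [CategoryTheory.Functor.map_id, Category.comp_id] at this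
    refine ⟨h _ ?_ ((AlgSp.repWith_yon_map_iff _ _).2 ?_), h _ ?_ ((AlgSp.repWith_yon_map_iff _ _).2 ?_)⟩
    · exact (inferInstance : Etale (𝟙 p.pt.left))
    · exact (inferInstance : Etale (𝟙 p.pt.left))
    · exact (inferInstance : QuasiCompact (𝟙 p.pt.left))
    · exact (inferInstance : QuasiCompact (𝟙 p.pt.left))
  · rintro ⟨q, hq, h⟩
    obtain ⟨P, p₁, p₂, sP⟩ := AlgSpc.exists_sq (X.property.representable_from_yon q.toHom) q.toHom
    obtain ⟨he, hc⟩ := h _ _ _ sP
    rw [← AlgSpc.map_pre p₁] at he hc sP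
    haveI : Etale (AlgSpc.pre p₁).left := (AlgSp.repWith_yon_map_iff _ _).1 he
    haveI : QuasiCompact (AlgSpc.pre p₁).left := (AlgSp.repWith_yon_map_iff _ _).1 hc
    haveI : LocallyQuasiFinite (AlgSpc.pre p₁).left := AlgSpLoc.locallyQuasiFinite_of_etale _
    haveI : IsLocallyArtinian q.pt.left :=
      (Scheme.isLocallyArtinianScheme_Spec (R := CommRingCat.of q.K)).2 (inferInstanceAs (IsArtinianRing q.K))
    haveI : IsFinite (AlgSpc.pre p₁).left := IsFinite.of_locallyQuasiFinite _
    obtain ⟨k, _, str', c, q', hm, hcq, -, -, -, -, -⟩ :=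
      AlgSpc.FieldRel.exists_mono_factor q.toHom sP ‹IsFinite (AlgSpc.pre p₁).left›
    obtain ⟨p, hp, hpm, -⟩ := AlgSpc.exists_fieldPt_toHom_eq q'
    refine ⟨p, ?_, hpm hm⟩
    have := AlgSpc.ofPt_comp c q' (IsLocalRing.closedPoint q.K)
    rw [hcq, AlgSp.Points.ofPt_toHom] at this
    rw [← hq, this, hp]
    exact congrArg _ (@Subsingleton.elim (PrimeSpectrum k) _ _ _)

end Groth.Agent.S10409
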