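import Groth.Statements.S10410
import Groth.Agent.AlgSpDesc.FinFibre
import Groth.Agent.AlgSpc.MonoPoint

set_option autoImplicit false
universe u
open CategoryTheory CategoryTheory.Limits AlgebraicGeometry Topology TopologicalSpace
open AlgSp

namespace Groth.Agent.S10410

set_option backward.isDefEq.respectTransparency false
open CategoryTheory CategoryTheory.Limits Groth.Agent.AlgSpc

/-- Let X be an algebraic space over a scheme S, x ∈ |X|, and φ : U ⟶ X etale with U a scheme. Then x
lies in the image of |U| and the fibres of |U| → |X| and |U ×_X U| → |X| over x are finite, if and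
only if x is represented by a monomorphism Spec k ⟶ X such that Spec k ×_X U is a nonempty scheme
finite over k. -/
theorem result {S : Scheme.{u}} (X : AlgSp.Space S) (x : AlgSp.Points X.obj)
    {U : Over S} (φ : (AlgSp.yon S).obj U ⟶ X.obj) (hφ : AlgSp.RepWith @Etale φ) :
    (x ∈ Set.range (AlgSp.Points.ofPt φ) ∧ (AlgSp.Points.ofPt φ ⁻¹' {x}).Finite ∧
        ∀ (R : Over S) (s t : R ⟶ U), IsPullback ((AlgSp.yon S).map t) ((AlgSp.yon S).map s) φ φ →
          (AlgSp.Points.ofPt ((AlgSp.yon S).map t ≫ φ) ⁻¹' {x}).Finite) ↔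
      ∃ p : AlgSp.FieldPt X.obj, AlgSp.Points.mk p = x ∧ Mono p.toHom ∧
        ∀ (T : Over S) (c : T ⟶ p.pt) (snd : (AlgSp.yon S).obj T ⟶ (AlgSp.yon S).obj U),
          IsPullback ((AlgSp.yon S).map c) snd p.toHom φ → Nonempty ↥T.left ∧ IsFinite c.left := by
  constructor
  · rintro ⟨⟨u, rfl⟩, h1, h2⟩
    obtain ⟨R, t₀, s, sqR⟩ := exists_sq hφ.1 φ
    obtain ⟨t, rfl⟩ := (AlgSp.yon S).map_surjective t₀
    have hR := h2 R s t sqR
    obtain ⟨p, hp, hm⟩ := exists_mono_point_of_finite hφ u fun P p₁ p₂ sqP => by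
      let ju : Over.mk (U.left.fromSpecResidueField u ≫ U.hom) ⟶ U :=
        Over.homMk (U.left.fromSpecResidueField u) rfl
      have w : ((AlgSp.yon S).map p₁ ≫ (AlgSp.yon S).map ju) ≫ φ =
          ((AlgSp.yon S).map p₂ ≫ (AlgSp.yon S).map ju) ≫ φ := by
        rw [Category.assoc, Category.assoc]; exact sqP.w
      let m : P ⟶ R := pre (sqR.lift _ _ w)
      haveI : Mono ((AlgSp.yon S).map ju) := mono_of_repWith (P := MorphismProperty.monomorphisms _)
        (fun _ _ _ h => h) ((AlgSp.repWith_yon_map_iff _ ju).2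
          (show Mono ju.left from inferInstanceAs (Mono (U.left.fromSpecResidueField u))))
      haveI : Mono ((AlgSp.yon S).map m) := ⟨fun g₁ g₂ e => by
        rw [map_pre] at e
        apply sqP.hom_ext
        · rw [← cancel_mono ((AlgSp.yon S).map ju)]
          simpa [sqR.lift_fst] using congrArg (· ≫ (AlgSp.yon S).map t) e
        · rw [← cancel_mono ((AlgSp.yon S).map ju)]
          simpa [sqR.lift_snd] using congrArg (· ≫ (AlgSp.yon S).map s) e⟩
      haveI := mono_of_map m
      have hinj : Function.Injective m.left := Scheme.Hom.injective m.left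
      have hmem : ∀ z, m.left z ∈
          AlgSp.Points.ofPt ((AlgSp.yon S).map t ≫ φ) ⁻¹' {AlgSp.Points.ofPt φ u} := fun z => by
        rw [Set.mem_preimage, Set.mem_singleton_iff, ← ofPt_comp, map_pre, ← Category.assoc, sqR.lift_fst,
          ← Functor.map_comp, ofPt_comp, Over.comp_left, Scheme.Hom.comp_apply]
        exact congrArg (AlgSp.Points.ofPt φ) (Scheme.fromSpecResidueField_apply u _)
      haveI := hR.to_subtype
      exact Finite.of_injective (fun z => (⟨m.left z, hmem z⟩ :
        AlgSp.Points.ofPt ((AlgSp.yon S).map t ≫ φ) ⁻¹' {AlgSp.Points.ofPt φ u}))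
        fun z z' e => hinj (congrArg Subtype.val e)
    refine ⟨p, hp, hm, fun T c snd sqT => ?_⟩
    haveI := hm
    haveI : Mono snd := sqT.mono_snd_of_mono
    haveI : Mono ((AlgSp.yon S).map (pre snd)) := by rw [map_pre]; infer_instance
    haveI := mono_of_map (pre snd)
    have hinj : Function.Injective (pre snd).left := Scheme.Hom.injective (pre snd).left
    have hmem : ∀ z, (pre snd).left z ∈ AlgSp.Points.ofPt φ ⁻¹' {AlgSp.Points.ofPt φ u} := fun z => by
      rw [Set.mem_preimage, Set.mem_singleton_iff, ← hp, ← AlgSp.Points.ofPt_toHom p (c.left z), ← ofPt_comp,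
        ← ofPt_comp, map_pre, sqT.w]
    haveI := h1.to_subtype
    haveI : Finite ↥T.left := Finite.of_injective (fun z => (⟨(pre snd).left z, hmem z⟩ :
      AlgSp.Points.ofPt φ ⁻¹' {AlgSp.Points.ofPt φ u})) fun z z' e => hinj (congrArg Subtype.val e)
    haveI : CompactSpace ↥T.left := Finite.compactSpace
    obtain ⟨z, -, -⟩ := exists_point_of_sq sqT.flip (AlgSp.Points.ofScheme U u) (IsLocalRing.closedPoint p.K)
      (by rw [← AlgSp.Points.ofPt_eq_map_ofScheme, AlgSp.Points.ofPt_toHom]; exact hp.symm)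
    exact ⟨⟨z⟩, (finite_of_compact_fibre hφ sqT.flip).2.2⟩
  · rintro ⟨p, hp, hm, h⟩
    subst hp
    obtain ⟨T, snd, c, sq⟩ := exists_sq hφ.1 p.toHom
    obtain ⟨⟨w₀⟩, hcf⟩ := h T c snd sq.flip
    haveI := hcf
    have hpt : Finite ↥p.pt.left := inferInstanceAs (Finite (PrimeSpectrum p.K))
    have finite_of : ∀ {A B : Scheme.{u}} (g : A ⟶ B) [IsFinite g] (_ : Finite ↥B), Finite ↥A := fun g _ _ =>
      Set.finite_univ_iff.1 ((Set.finite_iUnion fun y => g.finite_preimage_singleton y).subset
        fun a _ => Set.mem_iUnion.2 ⟨g a, rfl⟩)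
    haveI : Finite ↥T.left := finite_of c.left hpt
    have hsur : AlgSp.Points.ofPt φ ⁻¹' {AlgSp.Points.mk p} ⊆ Set.range (pre snd).left := by
      intro v hv
      obtain ⟨w, hw, -⟩ := exists_point_of_sq sq (AlgSp.Points.ofScheme U v) (IsLocalRing.closedPoint p.K)
        (by rw [← AlgSp.Points.ofPt_eq_map_ofScheme, AlgSp.Points.ofPt_toHom]; exact hv)
      refine ⟨w, ?_⟩
      have := congrArg (AlgSp.Points.toScheme U) hw
      rwa [← map_pre snd, AlgSp.Points.toScheme_ofPt, AlgSp.Points.toScheme_ofScheme] at this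
    refine ⟨⟨(pre snd).left w₀, ?_⟩, (Set.finite_range _).subset hsur, fun R s t sqR => ?_⟩
    · rw [← ofPt_comp, map_pre, sq.w, ofPt_comp, AlgSp.Points.ofPt_toHom]
    · have ht : AlgSp.RepWith @Etale ((AlgSp.yon S).map t) := repWith_of_isPullback sqR.flip hφ
      obtain ⟨V, f₁, c', sqV⟩ := exists_sq (repWith_comp ht hφ).1 p.toHom
      have w₁ : (f₁ ≫ (AlgSp.yon S).map t) ≫ φ = (AlgSp.yon S).map c' ≫ p.toHom := by
        rw [Category.assoc]; exact sqV.w
      have w₂ : (f₁ ≫ (AlgSp.yon S).map s) ≫ φ = (AlgSp.yon S).map c' ≫ p.toHom := by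
        rw [Category.assoc, ← sqR.w]; exact sqV.w
      let g₁ := sq.lift _ _ w₁
      let g₂ := sq.lift _ _ w₂
      let TT := pullback c c
      have sqTT := (IsPullback.of_hasPullback c c).map (AlgSp.yon S)
      have w₃ : g₁ ≫ (AlgSp.yon S).map c = g₂ ≫ (AlgSp.yon S).map c := by simp [g₁, g₂]
      let m : V ⟶ TT := pre (sqTT.lift _ _ w₃)
      haveI : Mono ((AlgSp.yon S).map m) := ⟨fun a₁ a₂ e => by
        rw [map_pre] at e
        have e₁ := congrArg (· ≫ (AlgSp.yon S).map (pullback.fst c c)) e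
        have e₂ := congrArg (· ≫ (AlgSp.yon S).map (pullback.snd c c)) e
        simp only [Category.assoc, sqTT.lift_fst, sqTT.lift_snd] at e₁ e₂
        refine sqV.hom_ext (sqR.hom_ext ?_ ?_) ?_
        · simpa [g₁] using congrArg (· ≫ snd) e₁
        · simpa [g₂] using congrArg (· ≫ snd) e₂
        · simpa [g₁] using congrArg (· ≫ (AlgSp.yon S).map c) e₁⟩
      haveI := mono_of_map m
      have hTT : IsFinite (pullback.snd c c).left :=
        MorphismProperty.of_isPullback (P := @IsFinite) ((IsPullback.of_hasPullback c c).map (Over.forget S)) hcf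
      haveI : Finite ↥TT.left := finite_of (pullback.snd c c).left inferInstance
      haveI : Finite ↥V.left := Finite.of_injective m.left (Scheme.Hom.injective m.left)
      refine (Set.finite_range (pre f₁).left).subset fun r hr => ?_
      obtain ⟨w, hw, -⟩ := exists_point_of_sq sqV (AlgSp.Points.ofScheme R r) (IsLocalRing.closedPoint p.K)
        (by rw [← AlgSp.Points.ofPt_eq_map_ofScheme, AlgSp.Points.ofPt_toHom]; exact hr)
      refine ⟨w, ?_⟩
      have := congrArg (AlgSp.Points.toScheme R) hw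
      rwa [← map_pre f₁, AlgSp.Points.toScheme_ofPt, AlgSp.Points.toScheme_ofScheme] at this

end Groth.Agent.S10410
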