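import Groth.Statements.S10412
import Groth.Agent.AlgSpc.OpenSubspace
import Groth.Agent.AlgSpLoc.OpenSubspace
import Groth.Agent.AlgSpc.DecentMor
-- import your own Groth.Agent.* helpers here

set_option autoImplicit false
universe u
open CategoryTheory CategoryTheory.Limits AlgebraicGeometry Topology TopologicalSpace
open AlgSp

set_option backward.isDefEq.respectTransparency false
namespace Groth.Agent.S10412

/-- For an algebraic space X over a scheme S the following are equivalent: (1) X has a Zariski covering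
by open subspaces X_i, each X_i admitting a surjective, etale and quasi-compact morphism U_i ⟶ X_i
with U_i a scheme; (2) there are etale morphisms U_i ⟶ X from schemes, jointly surjective, such that
for each i both projection morphisms from U_i ×_X U_i to U_i are quasi-compact. -/
theorem result {S : Scheme.{u}} (X : AlgSp.Space S) :
    (∃ (ι : Type u) (Xi : ι → AlgSp.Space S) (j : ∀ i, Xi i ⟶ X) (U : ι → Over S)
        (a : ∀ i, (AlgSp.yon S).obj (U i) ⟶ (Xi i).obj),
        AlgSp.IsZarCover (fun i => (Xi i).obj) (fun i => (j i).hom) ∧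
          ∀ i, AlgSp.RepWith @Etale (a i) ∧ AlgSp.RepWith @Surjective (a i) ∧ AlgSp.RepWith @QuasiCompact (a i)) ↔
      ∃ (ι : Type u) (U : ι → Over S) (φ : ∀ i, (AlgSp.yon S).obj (U i) ⟶ X.obj),
        (∀ i, AlgSp.RepWith @Etale (φ i)) ∧
          (∀ x : AlgSp.Points X.obj, ∃ (i : ι) (v : ↥(U i).left), AlgSp.Points.ofPt (φ i) v = x) ∧
          ∀ (i : ι) (R : Over S) (s t : R ⟶ U i), IsPullback ((AlgSp.yon S).map t) ((AlgSp.yon S).map s) (φ i) (φ i) →
            QuasiCompact s.left ∧ QuasiCompact t.left := by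
  constructor
  · rintro ⟨ι, Xi, j, U, a, hj, ha⟩
    have hjE : ∀ i, AlgSp.RepWith @Etale (j i).hom := fun i =>
      ⟨(hj.1 i).1, fun _ _ g fst snd sq => haveI : IsOpenImmersion snd.left := (hj.1 i).2 g fst snd sq; (inferInstance : Etale snd.left)⟩
    haveI : ∀ i, Mono (j i).hom := fun i =>
      AlgSpc.mono_of_repWith (fun _ _ e (_ : IsOpenImmersion e) => inferInstance) (hj.1 i)
    refine ⟨ι, U, fun i => a i ≫ (j i).hom, fun i => AlgSpc.repWith_comp (ha i).1 (hjE i), fun x => ?_, fun i R s t sR => ?_⟩
    · obtain ⟨i, y, rfl⟩ := hj.2 x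
      obtain ⟨v, rfl⟩ := AlgSpc.surjective_ofPt (ha i).2.1 y
      exact ⟨i, v, (AlgSp.Points.map_ofPt _ _ _).symm⟩
    · have h := AlgSpc.isPullback_of_mono (j i).hom sR
      rw [← AlgSpc.map_pre ((AlgSp.yon S).map t)] at h
      exact ⟨(ha i).2.2.2 (a i) _ s (by simpa using h), (ha i).2.2.2 (a i) _ t (by simpa using h.flip)⟩
  · rintro ⟨ι, U, φ, hφ, hsurj, hqc⟩
    choose Xi j hj hr using fun i => AlgSpLoc.exists_openSubspace X (W := Set.range (AlgSp.Points.ofPt (φ i)))
      (AlgSpc.isOpenMap_ofPt (hφ i)).isOpen_range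
    choose a ha using fun i => AlgSpLoc.exists_lift_openImm (hj i) (φ i) (by
      rintro _ ⟨z, rfl⟩
      obtain ⟨t, rfl⟩ := (AlgSp.Points.schemeEquiv (U i)).surjective z
      rw [hr i]
      exact ⟨t, AlgSp.Points.ofPt_eq_map_ofScheme _ _⟩)
    haveI : ∀ i, Mono (j i).hom := fun i =>
      AlgSpc.mono_of_repWith (fun _ _ e (_ : IsOpenImmersion e) => inferInstance) (hj i)
    have sa : ∀ i, IsPullback (𝟙 _) (a i) (φ i) (j i).hom := fun i =>
      IsPullback.of_isLimit' ⟨by simp [ha i]⟩ (PullbackCone.IsLimit.mk _ (fun x => x.fst) (fun x => Category.comp_id _)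
        (fun x => by rw [← cancel_mono (j i).hom, Category.assoc, ha i]; exact x.condition)
        (fun x m h _ => by simpa using h))
    have he : ∀ i, AlgSp.RepWith @Etale (a i) := fun i => AlgSpc.repWith_of_isPullback (sa i) (hφ i)
    have hes : ∀ i, AlgSp.RepWith @Surjective (a i) := fun i =>
      (AlgSpc.surjective_ofPt_iff (he i).1).2 fun y => by
        obtain ⟨t, ht⟩ : AlgSp.Points.map (j i).hom y ∈ Set.range (AlgSp.Points.ofPt (φ i)) := by
          rw [← hr i]; exact ⟨y, rfl⟩
        refine ⟨t, ?_⟩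
        have hinj := AlgSpc.injective_map_of_repWith (P := @IsOpenImmersion)
          (fun _ _ e (_ : IsOpenImmersion e) => e.isOpenEmbedding.injective) (hj i)
        apply hinj
        rw [AlgSp.Points.map_ofPt, ha i, ht]
    refine ⟨ι, Xi, j, U, a, ⟨hj, fun x => ?_⟩, fun i => ⟨he i, hes i, ?_⟩⟩
    · obtain ⟨i, v, hv⟩ := hsurj x
      exact ⟨i, by rw [hr i]; exact ⟨v, hv⟩⟩
    · refine AlgSpc.repWith_qc_of_charts (Xi i).property (he i).1 fun T b V fst snd hT hb sq => ?_
      haveI := hT
      haveI : Etale snd.left := (he i).2 _ _ _ sq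
      haveI : Surjective snd.left := (hes i).2 _ _ _ sq
      obtain ⟨t, ht⟩ := isCompact_univ.elim_finite_subcover
        (fun O : V.left.affineOpens => snd.left '' (O.1 : Set V.left)) (fun O => snd.left.isOpenMap _ O.1.2)
        (fun z _ => by
          obtain ⟨x, rfl⟩ := snd.left.surjective z
          obtain ⟨_, ⟨O, hO, rfl⟩, hx, -⟩ :=
            V.left.isBasis_affineOpens.exists_subset_of_mem_open (Set.mem_univ x) isOpen_univ
          exact Set.mem_iUnion.2 ⟨⟨O, hO⟩, x, hx, rfl⟩)
      have hK : IsCompact (⋃ O ∈ t, (O.1 : Set V.left)) := t.finite_toSet.isCompact_biUnion fun O _ => O.2.isCompact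
      obtain ⟨R, r₁, r₂, sR⟩ := AlgSpc.exists_sq (he i).1 (a i)
      have hs : QuasiCompact r₂.left := (hqc i R r₂ (AlgSpc.pre r₁) (by
        rw [AlgSpc.map_pre]
        refine IsPullback.of_isLimit' ⟨by rw [← ha i, reassoc_of% sR.w]⟩ (PullbackCone.IsLimit.mk _
          (fun x => sR.lift x.fst x.snd ((cancel_mono (j i).hom).1 (by
            rw [Category.assoc, Category.assoc, ha i]; exact x.condition)))
          (fun x => sR.lift_fst _ _ _) (fun x => sR.lift_snd _ _ _)
          (fun x m h₁ h₂ => sR.hom_ext (by rw [sR.lift_fst]; exact h₁) (by rw [sR.lift_snd]; exact h₂))))).1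
      let m : pullback snd snd ⟶ R := AlgSpc.pre (sR.lift ((AlgSp.yon S).map (pullback.fst snd snd) ≫ fst)
        ((AlgSp.yon S).map (pullback.snd snd snd) ≫ fst) (by
          rw [Category.assoc, Category.assoc, sq.w, ← Functor.map_comp_assoc, pullback.condition, Functor.map_comp_assoc]))
      have s₂ := (IsPullback.of_hasPullback snd snd).map (AlgSp.yon S)
      have hm₁ : (AlgSp.yon S).map m ≫ r₁ = (AlgSp.yon S).map (pullback.fst snd snd) ≫ fst := by
        simp only [m, AlgSpc.map_pre]; exact sR.lift_fst _ _ _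
      have hm₂ : (AlgSp.yon S).map m ≫ (AlgSp.yon S).map r₂ = (AlgSp.yon S).map (pullback.snd snd snd) ≫ fst := by
        simp only [m, AlgSpc.map_pre]; exact sR.lift_snd _ _ _
      have big : IsPullback ((AlgSp.yon S).map m ≫ r₁) ((AlgSp.yon S).map (pullback.snd snd snd)) (a i) (fst ≫ a i) := by
        rw [hm₁, sq.w]; exact s₂.paste_horiz sq
      have sm : IsPullback m (pullback.snd snd snd) r₂ (AlgSpc.pre fst) := IsPullback.of_map (AlgSp.yon S)
        ((AlgSp.yon S).map_injective (by rw [Functor.map_comp, Functor.map_comp, AlgSpc.map_pre fst]; exact hm₂))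
        (by rw [AlgSpc.map_pre fst]; exact IsPullback.of_right big hm₂ sR)
      haveI : QuasiCompact (pullback.snd snd snd).left :=
        MorphismProperty.of_isPullback (P := @QuasiCompact) (sm.map (Over.forget S)) hs
      have sW : IsPullback (pullback.fst snd snd).left (pullback.snd snd snd).left snd.left snd.left :=
        (IsPullback.of_hasPullback snd snd).map (Over.forget S)
      haveI : QuasiCompact (pullback.fst snd snd).left := by
        have e := (IsPullback.of_hasPullback snd snd).flip.isoPullback_hom_snd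
        rw [← e, Over.comp_left]
        haveI : IsIso (IsPullback.of_hasPullback snd snd).flip.isoPullback.hom.left :=
          inferInstanceAs (IsIso ((Over.forget S).map _))
        infer_instance
      have hc : IsCompact ((pullback.fst snd snd).left ⁻¹' (⋃ O ∈ t, (O.1 : Set V.left))) :=
        (pullback.fst snd snd).left.isSpectralMap.isCompact_preimage_of_isOpen
          (isOpen_biUnion fun O _ => O.1.2) hK
      refine ⟨?_⟩
      convert hc.image (pullback.snd snd snd).left.continuous
      refine (Set.eq_univ_of_forall fun v => ?_).symm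
      obtain ⟨O, hO, o, ho, hov⟩ := Set.mem_iUnion₂.1 (ht (Set.mem_univ (snd.left v)))
      obtain ⟨w, hw₁, hw₂⟩ := Scheme.exists_preimage_of_isPullback sW o v hov
      exact ⟨w, show (pullback.fst snd snd).left w ∈ _ by rw [hw₁]; exact Set.mem_biUnion (t := fun O : V.left.affineOpens => (O.1 : Set V.left)) hO ho, hw₂⟩

end Groth.Agent.S10412
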