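import Groth.Statements.S10413
import Groth.Agent.AlgSpc.MonoPoint
-- import your own Groth.Agent.* helpers here

set_option autoImplicit false
universe u
open CategoryTheory CategoryTheory.Limits AlgebraicGeometry Topology TopologicalSpace
open AlgSp

set_option backward.isDefEq.respectTransparency false
namespace Groth.Agent.S10413

/-- Let S be a scheme, X and Y algebraic spaces over S, and X ⟶ Y a representable morphism. If every
point of Y can be represented by a monomorphism into Y from the spectrum of a field, then every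
point of X can likewise be represented by such a monomorphism into X. -/
theorem result {S : Scheme.{u}} {X Y : AlgSp.Space S} (f : X ⟶ Y) (hf : AlgSp.Representable f.hom)
    (hY : ∀ y : AlgSp.Points Y.obj, ∃ q : AlgSp.FieldPt Y.obj, AlgSp.Points.mk q = y ∧ Mono q.toHom)
    (x : AlgSp.Points X.obj) : ∃ p : AlgSp.FieldPt X.obj, AlgSp.Points.mk p = x ∧ Mono p.toHom := by
  obtain ⟨p, hp, hm⟩ := hY (AlgSp.Points.map f.hom x)
  haveI := hm
  obtain ⟨Z, fst, snd, sq⟩ := AlgSpc.exists_sq hf p.toHom
  obtain ⟨z, hz, -⟩ := AlgSpc.exists_point_of_sq sq x (IsLocalRing.closedPoint p.K)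
    (by rw [AlgSp.Points.ofPt_toHom, hp])
  haveI : Mono fst := ⟨fun a b h => sq.hom_ext h ((cancel_mono p.toHom).1
    (by rw [Category.assoc, Category.assoc, ← sq.w, reassoc_of% h]))⟩
  let j : Over.mk (Z.left.fromSpecResidueField z ≫ Z.hom) ⟶ Z := Over.homMk (Z.left.fromSpecResidueField z) rfl
  haveI : Mono j.left := inferInstanceAs (Mono (Z.left.fromSpecResidueField z))
  haveI : Mono ((AlgSp.yon S).map j) := AlgSpc.mono_of_repWith (P := MorphismProperty.monomorphisms _)
    (fun _ _ _ h => h) ((AlgSp.repWith_yon_map_iff _ j).2 (MorphismProperty.monomorphisms.infer_property j.left))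
  obtain ⟨p', h₁, h₂, -⟩ := AlgSpc.exists_fieldPt_toHom_eq (K := Z.left.residueField z) ((AlgSp.yon S).map j ≫ fst)
  refine ⟨p', ?_, h₂ inferInstance⟩
  rw [h₁, AlgSpc.ofPt_comp j fst, ← hz]
  exact congrArg _ (Scheme.fromSpecResidueField_apply z _)

end Groth.Agent.S10413
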