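import Groth.Statements.S10582
import Mathlib.AlgebraicGeometry.Morphisms.LocalFlatDescent
import Mathlib.CategoryTheory.Sites.EpiMono
import Mathlib.CategoryTheory.Sites.RegularEpi
import Groth.Agent.AlgSpc.OpenSubspace
import Groth.Agent.AlgSpc.LocSurj
import Groth.Agent.AlgSpc.EtLocInst
import Groth.Agent.AlgSpc.FibreProd
import Groth.Agent.AlgSpc.More
import Groth.Agent.AlgSpc.Compact
import Groth.Agent.AlgSpLoc.Glue
-- import your own Groth.Agent.* helpers here

set_option autoImplicit false
universe u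
open CategoryTheory CategoryTheory.Limits AlgebraicGeometry
open AlgSp

set_option backward.isDefEq.respectTransparency false
namespace Groth.Agent.S10582

/-- A monomorphism of algebraic spaces that is quasi-compact, flat and surjective is an isomorphism. -/
theorem result {S : Scheme.{u}} {X Y : AlgSp.Space S} (f : X ⟶ Y)
    (hqc : AlgSp.IsQuasiCompactMor f.hom) (hflat : AlgSp.LocP @Flat f.hom) (hsurj : AlgSp.IsSurjectiveMor f.hom)
    [Mono f.hom] : IsIso f.hom := by
  have key : ∀ (W : Over S), IsAffine W.left → ∀ g : (AlgSp.yon S).obj W ⟶ Y.obj,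
      ∃ (U : Over S) (q : U ⟶ W) (a : (AlgSp.yon S).obj U ⟶ X.obj),
        Etale q.left ∧ Surjective q.left ∧ a ≫ f.hom = (AlgSp.yon S).map q ≫ g := by
    intro W hW g
    have sP := IsPullback.of_hasPullback f.hom g
    have hP := AlgSpc.isAlgSpace_of_isPullback X.property Y.property (AlgSp.IsAlgSpace.yon_obj W) sP
    obtain ⟨U, p, hUa, hp, hps⟩ := (AlgSpc.isQuasiCompactSp_iff_affine hP).1
      (hqc (AlgSp.IsAlgSpace.yon_obj W) AlgSpc.isQuasiCompactSp_yon g _ _ sP)
    let q : U ⟶ W := AlgSpc.pre (p ≫ pullback.snd f.hom g)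
    have hq : (AlgSp.yon S).map q = p ≫ pullback.snd f.hom g := AlgSpc.map_pre _
    have hid : AlgSp.RepWith @Etale (𝟙 ((AlgSp.yon S).obj W)) := AlgSp.repWith_id _ W
    have hfl : Flat q.left := AlgSpc.locP_base_change X.property Y.property (AlgSp.IsAlgSpace.yon_obj W) sP hflat
      p _ q hp hid (by rw [Category.comp_id]; exact hq.symm)
    have hsu : Surjective q.left := ⟨fun t => by
      obtain ⟨x, hx⟩ := AlgSpc.surjective_map_base_change sP hsurj (AlgSp.Points.ofScheme W t)
      obtain ⟨v, rfl⟩ := AlgSpc.surjective_ofPt hps x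
      refine ⟨v, ?_⟩
      rw [AlgSp.Points.map_ofPt, ← hq] at hx
      have := congrArg (AlgSp.Points.toScheme W) hx
      rwa [AlgSp.Points.toScheme_ofPt, AlgSp.Points.toScheme_ofScheme] at this⟩
    have sk := (IsPullback.of_hasPullback q q).map (AlgSp.yon S)
    rw [hq] at sk
    have sp : IsPullback ((AlgSp.yon S).map (pullback.fst q q)) ((AlgSp.yon S).map (pullback.snd q q)) p p :=
      AlgSpc.isPullback_of_mono (pullback.snd f.hom g) sk
    have het : Etale (pullback.snd q q).left := hp.2 p _ _ sp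
    have sl := (IsPullback.of_hasPullback q q).map (Over.forget S)
    haveI : QuasiCompact q.left := inferInstance
    refine ⟨U, q, p ≫ pullback.fst f.hom g, ?_, hsu, by rw [Category.assoc, pullback.condition, hq, Category.assoc]⟩
    exact MorphismProperty.of_isPullback_of_descendsAlong (P := @Etale) (Q := @Surjective ⊓ @Flat ⊓ @QuasiCompact)
      sl.flip ⟨⟨hsu, hfl⟩, ‹_›⟩ het
  have : Sheaf.IsLocallySurjective f.hom := ⟨fun {T} s => by
    obtain ⟨g, rfl⟩ := ((AlgSp.J S).uliftYonedaEquiv.{u + 1}).surjective s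
    choose U q a hq hqs w using fun (i : T.left.affineOpens) =>
      key (AlgSpLoc.openSub T i.1) i.2 ((AlgSp.yon S).map (AlgSpLoc.openSubι T i.1) ≫ g)
    refine GrothendieckTopology.superset_covering _ ?_
      (AlgSpLoc.ofArrows_mem_J U (fun i => q i ≫ AlgSpLoc.openSubι T i.1) (fun i => ?_) (fun i => ?_) fun t => ?_)
    · rintro W c ⟨_, d, _, ⟨i⟩, rfl⟩
      apply (Presheaf.imageSieve f.hom.hom _).downward_closed
      refine ⟨(AlgSp.J S).uliftYonedaEquiv.{u + 1} (a i), ?_⟩
      rw [← GrothendieckTopology.uliftYonedaEquiv_comp, w i, ← Functor.map_comp_assoc]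
      exact ((AlgSp.J S).uliftYonedaEquiv_naturality g _).symm
    · haveI := hq i
      rw [Over.comp_left]
      infer_instance
    · haveI := hq i
      rw [Over.comp_left]
      infer_instance
    · obtain ⟨_, ⟨O, hO, rfl⟩, ht, -⟩ :=
        (T.left.isBasis_affineOpens.exists_subset_of_mem_open (Set.mem_univ t) isOpen_univ)
      obtain ⟨y, hy⟩ := (hqs ⟨O, hO⟩).surj ⟨t, ht⟩
      exact ⟨⟨O, hO⟩, y, by rw [Over.comp_left, Scheme.Hom.comp_apply, hy]; rfl⟩⟩
  have : Epi f.hom := inferInstance
  exact isIso_of_mono_of_epi f.hom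

end Groth.Agent.S10582
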