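import Groth.Statements.S10414
import Groth.Agent.AlgSpFormal.Mono
import Groth.Agent.AlgSpc.Misc2
import Groth.Agent.AlgSpc.Decent2
import Groth.Agent.S10582
-- import your own Groth.Agent.* helpers here

set_option autoImplicit false
universe u
open CategoryTheory CategoryTheory.Limits AlgebraicGeometry Topology TopologicalSpace
open AlgSp

set_option backward.isDefEq.respectTransparency false
namespace Groth.Agent.S10414

theorem flat_to_field {W : Scheme.{u}} {K : Type u} [Field K] (f : W ⟶ Spec (CommRingCat.of K)) : Flat f := by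
  refine IsZariskiLocalAtSource.of_openCover (P := @Flat) W.affineCover fun i => ?_
  obtain ⟨φ, hφ⟩ := Spec.map_surjective (W.affineCover.f i ≫ f)
  rw [← hφ, Flat.SpecMap_iff]
  letI := φ.hom.toAlgebra
  exact RingHom.flat_algebraMap_iff.2 inferInstance

/-- Let S be a scheme, X an algebraic space over S, x ∈ |X|, and Z_x ⟶ X the residual space of x (a
monomorphism with image {x} from a space which admits a locally finitely presented, flat, surjective
morphism whose source is the spectrum of a field). Then Z_x is isomorphic to Spec k' for some field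
k' if and only if the point x is represented by some monomorphism Spec k ⟶ X. (The decent case, in
which the right side holds at every point, is not part of this row.) -/
theorem result {S : Scheme.{u}} (X : AlgSp.Space S) (x : AlgSp.Points X.obj)
    {Z : AlgSp.Space S} (i : Z ⟶ X) [Mono i.hom] (hi : Set.range (AlgSp.Points.map i.hom) = {x})
    (hZ : ∃ (k : Type u) (_ : Field k) (str : Spec (CommRingCat.of k) ⟶ S) (p : (AlgSp.yon S).obj (Over.mk str) ⟶ Z.obj),
        AlgSp.LocP @LocallyOfFinitePresentation p ∧ AlgSp.LocP @Flat p ∧ AlgSp.IsSurjectiveMor p) :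
    (∃ (k : Type u) (_ : Field k) (str : Spec (CommRingCat.of k) ⟶ S), Nonempty (Z.obj ≅ (AlgSp.yon S).obj (Over.mk str))) ↔
      ∃ p : AlgSp.FieldPt X.obj, AlgSp.Points.mk p = x ∧ Mono p.toHom := by
  constructor
  · rintro ⟨k, _, str, ⟨e⟩⟩
    obtain ⟨p, hp, hpm, -⟩ := AlgSpc.exists_fieldPt_toHom_eq (e.inv ≫ i.hom)
    refine ⟨p, ?_, hpm inferInstance⟩
    have h : AlgSp.Points.mk p ∈ ({x} : Set (AlgSp.Points X.obj)) := by
      rw [← hi, hp, ← AlgSp.Points.map_ofPt]; exact ⟨_, rfl⟩
    exact h
  · rintro ⟨p, hp, hm⟩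
    haveI := hm
    obtain ⟨k₀, _, str, p₀, hlfp, hfl, hs⟩ := hZ
    have hr := Z.property.representable_from_yon p₀
    have hfl' := AlgSpFormal.repWith_of_locP (AlgSp.IsAlgSpace.yon_obj _) Z.property hr hfl
    have hlfp' := AlgSpFormal.repWith_of_locP (AlgSp.IsAlgSpace.yon_obj _) Z.property hr hlfp
    have hs' : AlgSp.RepWith @Surjective p₀ := (AlgSpc.repWith_surjective_iff hr).2 hs
    haveI := AlgSpc.isLocallySurjective_of_repWith hfl' hlfp' hs'
    haveI : Epi p₀ := inferInstance
    haveI := AlgSpLoc.effectiveEpi_of_epi p₀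
    let q : AlgSp.FieldPt X.obj := { K := k₀, str := str, val := (AlgSp.J S).uliftYonedaEquiv (p₀ ≫ i.hom) }
    have hq : q.toHom = p₀ ≫ i.hom := Equiv.symm_apply_apply _ _
    obtain ⟨c, hc, -⟩ := AlgSpc.existsUnique_factor_of_mono X.property p q (by
      rw [hp, ← AlgSp.Points.ofPt_toHom q (IsLocalRing.closedPoint k₀), hq, ← AlgSp.Points.map_ofPt]
      exact ((Set.ext_iff.1 hi _).1 ⟨_, rfl⟩).symm)
    rw [hq] at hc
    let g : Z.obj ⟶ (AlgSp.yon S).obj p.pt := EffectiveEpi.desc p₀ ((AlgSp.yon S).map c) (fun g₁ g₂ w =>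
      (cancel_mono p.toHom).1 (by
        rw [Category.assoc, Category.assoc, hc, ← Category.assoc, ← Category.assoc]
        exact congrArg (· ≫ i.hom) w))
    have hg₀ : p₀ ≫ g = (AlgSp.yon S).map c := EffectiveEpi.fac _ _ _
    have hg : g ≫ p.toHom = i.hom := by rw [← cancel_epi p₀, reassoc_of% hg₀]; exact hc
    haveI : Mono g := ⟨fun a b h => (cancel_mono i.hom).1 (by rw [← hg, reassoc_of% h])⟩
    have hZa := Z.property
    haveI : IsAffine p.pt.left := inferInstanceAs (IsAffine (Spec (CommRingCat.of p.K)))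
    have hgf : AlgSp.LocP @Flat g := fun U V a b h ha hb _ => by
      haveI : IsLocallyArtinian p.pt.left :=
        (Scheme.isLocallyArtinianScheme_Spec (R := CommRingCat.of p.K)).2 (inferInstanceAs (IsArtinianRing p.K))
      haveI : IsReduced p.pt.left := inferInstanceAs (IsReduced (Spec (CommRingCat.of p.K)))
      haveI : Etale (AlgSpc.pre b).left := (AlgSp.repWith_yon_map_iff _ _).1 ((AlgSpc.map_pre b).symm ▸ hb)
      haveI : Flat (h.left ≫ (AlgSpc.pre b).left) :=
        show Flat ((h ≫ AlgSpc.pre b).left : U.left ⟶ Spec (CommRingCat.of p.K)) from flat_to_field _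
      exact AlgSpc.EtLoc.cancel (P := @Flat) h.left (AlgSpc.pre b).left inferInstance ‹_›
    have hgs : AlgSp.IsSurjectiveMor g := fun y => by
      obtain ⟨t, rfl⟩ := (AlgSp.Points.schemeEquiv p.pt).surjective y
      refine ⟨AlgSp.Points.ofPt p₀ (IsLocalRing.closedPoint k₀), ?_⟩
      obtain ⟨t', ht'⟩ := (AlgSp.Points.schemeEquiv p.pt).surjective (AlgSp.Points.map g (AlgSp.Points.ofPt p₀ (IsLocalRing.closedPoint k₀)))
      rw [← ht']
      exact congrArg _ (@Subsingleton.elim (PrimeSpectrum p.K) _ _ _)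
    have hgq : AlgSp.IsQuasiCompactMor g := by
      intro W W' hW hWq h fst snd sq
      have hW' := AlgSpc.isAlgSpace_of_isPullback hZa (AlgSp.IsAlgSpace.yon_obj _) hW sq
      have hcq : AlgSp.RepWith @QuasiCompact ((AlgSp.yon S).map c) := by
        haveI : IsAffine q.pt.left := inferInstanceAs (IsAffine (Spec (CommRingCat.of k₀)))
        exact (AlgSp.repWith_yon_map_iff _ _).2 inferInstance
      have sP := IsPullback.of_hasPullback p₀ fst
      refine AlgSpc.isQuasiCompactSp_of_surjective hW' (f := pullback.snd p₀ fst)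
        (AlgSpc.surjective_map_base_change sP hs) ?_
      refine AlgSpc.isQuasiCompactMor_of_repWith hcq hW hWq h (pullback.fst p₀ fst) (pullback.snd p₀ fst ≫ snd) ?_
      rw [← hg₀]
      exact sP.paste_vert sq
    let gS : Z ⟶ (⟨(AlgSp.yon S).obj p.pt, AlgSp.IsAlgSpace.yon_obj _⟩ : AlgSp.Space S) := ObjectProperty.homMk g
    haveI : Mono gS.hom := inferInstanceAs (Mono g)
    haveI : IsIso g := Groth.Agent.S10582.result gS hgq hgf hgs
    exact ⟨p.K, inferInstance, p.str, ⟨asIso g⟩⟩

end Groth.Agent.S10414
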