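import Groth.Statements.S10415
import Groth.Agent.AlgSpDesc.FactorPoint
import Groth.Agent.AlgSpDesc.MonoField
import Groth.Agent.AlgSpc.FibreProd
import Groth.Agent.FpqcDescent.Specialization
import Groth.Agent.AlgSpLoc.Glue
import Groth.Agent.S10342

set_option autoImplicit false
set_option backward.isDefEq.respectTransparency false
universe u
open CategoryTheory CategoryTheory.Limits AlgebraicGeometry Topology TopologicalSpace
open AlgSp TopologicalSpace

namespace Groth.Agent.S10415

open Groth.Agent.AlgSpc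

/-- A set without internal specializations into which an affine scheme maps onto is finite. -/
theorem finite_range_of_no_spec {O A : Scheme.{u}} [IsNoetherian A] (h : O ⟶ A) [QuasiCompact h]
    (hT : ∀ s ∈ Set.range h, ∀ t ∈ Set.range h, s ⤳ t → s = t) : (Set.range h).Finite := by
  let C : Set ↥A := closure (Set.range h)
  let Z : ↥C → Set ↥A := fun s => Subtype.val '' irreducibleComponent s
  have hgen : ∀ s (hs : s ∈ Set.range h), IsGenericPoint s (Z ⟨s, subset_closure hs⟩) := by
    intro s hs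
    have hirr : IsIrreducible (Z ⟨s, subset_closure hs⟩) :=
      isIrreducible_irreducibleComponent.image _ continuous_subtype_val.continuousOn
    have hcl : IsClosed (Z ⟨s, subset_closure hs⟩) :=
      isClosed_closure.isClosedMap_subtype_val _ isClosed_irreducibleComponent
    have hsZ : s ∈ Z ⟨s, subset_closure hs⟩ := ⟨⟨s, subset_closure hs⟩, mem_irreducibleComponent, rfl⟩
    obtain ⟨g, hg⟩ := QuasiSober.sober hirr hcl
    obtain ⟨c, -, hc⟩ := hg.mem
    obtain ⟨z, hz⟩ := Groth.Agent.FpqcDescent.exists_specializes_of_mem_closure_range h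
      (show g ∈ closure (Set.range h) from hc ▸ c.2)
    have h1 : g ⤳ s := hg.specializes hsZ
    have h2 : h z = s := hT _ ⟨z, rfl⟩ _ hs (hz.trans h1)
    have h3 : g = s := (h1.antisymm (h2 ▸ hz)).eq
    exact h3 ▸ hg
  have : Finite ↥(Set.range h) :=
    haveI : Finite ↥(irreducibleComponents ↥C) := NoetherianSpace.finite_irreducibleComponents.to_subtype
    Finite.of_injective
      (fun s : ↥(Set.range h) => (⟨irreducibleComponent (⟨s.1, subset_closure s.2⟩ : ↥C),
        irreducibleComponent_mem_irreducibleComponents _⟩ : ↥(irreducibleComponents ↥C)))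
      fun s t e => Subtype.ext ((hgen s.1 s.2).eq
        (by
          have e' : Z ⟨s.1, subset_closure s.2⟩ = Z ⟨t.1, subset_closure t.2⟩ :=
            congrArg (fun W : ↥(irreducibleComponents ↥C) => Subtype.val '' W.1) e
          rw [e']; exact hgen t.1 t.2))
  exact Set.toFinite _


/-- Let S be a scheme, Y and X algebraic spaces over S with Y reduced and X locally Noetherian, and f :
Y ⟶ X a morphism with |f|(|Y|) ⊆ {x}. Then f factors through Z_x ⟶ X, where Z_x denotes the residual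
space of X at the point x. -/
theorem result {S : Scheme.{u}} {Y X Z : AlgSp.Space S} (f : Y ⟶ X)
    (x : AlgSp.Points X.obj) (hf : ∀ y : AlgSp.Points Y.obj, AlgSp.Points.map f.hom y = x) (hY : AlgSp.EtaleLocally (fun U => IsReduced U) Y.obj)
    (hX : AlgSp.IsLocNoethSp X.obj) (i : Z ⟶ X) [Mono i.hom] (hi : Set.range (AlgSp.Points.map i.hom) = {x})
    (hZ : ∃ (k : Type u) (_ : Field k) (str : Spec (CommRingCat.of k) ⟶ S) (p : (AlgSp.yon S).obj (Over.mk str) ⟶ Z.obj),
        AlgSp.LocP @LocallyOfFinitePresentation p ∧ AlgSp.LocP @Flat p ∧ AlgSp.IsSurjectiveMor p) :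
    ∃ g : Y ⟶ Z, g ≫ i = f := by
  obtain ⟨U₀, a₀, ha₀, ha₀s, hU₀⟩ := hY
  haveI : IsReduced U₀.left := hU₀
  obtain ⟨U, b, hb, hbs⟩ := X.property.atlas
  obtain ⟨V, fstV, sndV, sqV⟩ := exists_sq hb.1 (a₀ ≫ f.hom)
  haveI : Etale sndV.left := hb.2 _ _ _ sqV
  haveI : IsReduced V.left := Groth.Agent.SmoothReduced.isReduced_of_smooth_scheme sndV.left
  let φ : V ⟶ U := pre fstV
  have hφ : (yon S).map φ ≫ b = (yon S).map sndV ≫ a₀ ≫ f.hom := by rw [map_pre]; exact sqV.w
  have hpt : ∀ v : ↥V.left, Points.ofPt b (φ.left v) = x := fun v => by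
    rw [← ofPt_comp, hφ, ← Category.assoc, ← Points.map_ofPt]
    exact hf _
  haveI : IsLocallyNoetherian U.left := Groth.Agent.AlgSpLoc.isLocallyNoetherian_chart hX hb
  have piece : ∀ v : ↥V.left, ∃ (O : V.left.Opens) (xO : (yon S).obj (Over.mk (O.ι ≫ V.hom)) ⟶ Z.obj),
      v ∈ O ∧ xO ≫ i.hom =
        (yon S).map (Over.homMk O.ι rfl : Over.mk (O.ι ≫ V.hom) ⟶ V) ≫ (yon S).map φ ≫ b := by
    intro v
    obtain ⟨A, hA, hvA, -⟩ := exists_isAffineOpen_mem_and_subset (U := (⊤ : U.left.Opens)) (x := φ.left v) trivial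
    obtain ⟨O₁, hO₁, hvO, hle⟩ := exists_isAffineOpen_mem_and_subset (U := φ.left ⁻¹ᵁ A) (x := v) hvA
    haveI : IsAffine A.toScheme := hA
    haveI : IsAffine O₁.toScheme := hO₁
    haveI : IsNoetherian A.toScheme := ⟨⟩
    let h := φ.left.resLE A O₁ hle
    have hval : ∀ w : ↥O₁.toScheme, (h w).1 = φ.left w.1 := fun w => by
      exact congrArg (fun k : O₁.toScheme ⟶ U.left => k w) (φ.left.resLE_comp_ι hle)
    have hfin := finite_range_of_no_spec h (by
      rintro _ ⟨s, rfl⟩ _ ⟨t, rfl⟩ hst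
      apply Subtype.ext
      refine (Groth.Agent.AlgSpDesc.eq_of_specializes_of_isLocNoethSp hX hb ?_
        (hst.map continuous_subtype_val)).symm
      rw [hval, hval, hpt, hpt])
    let t := φ.left v
    let B : Set ↥U.left := ⋃ s ∈ (Subtype.val '' Set.range h) \ {t}, closure {s}
    have hB : IsClosed B := ((hfin.image _).sdiff).isClosed_biUnion fun s _ => isClosed_closure
    let O : V.left.Opens := ⟨(O₁ : Set V.left) ∩ φ.left ⁻¹' Bᶜ, O₁.isOpen.inter (hB.isOpen_compl.preimage φ.left.continuous)⟩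
    have hvB : v ∈ O := ⟨hvO, fun hmem => by
      obtain ⟨s, ⟨⟨_, ⟨w, rfl⟩, hs⟩, hne⟩, hst⟩ := Set.mem_iUnion₂.1 hmem
      rw [hval] at hs
      refine hne ?_
      refine (Groth.Agent.AlgSpDesc.eq_of_specializes_of_isLocNoethSp hX hb ?_
        (specializes_iff_mem_closure.2 hst)).symm
      rw [← hs, hpt, hpt]⟩
    have hO : ∀ w : ↥V.left, w ∈ O → φ.left w = t := fun w hw => by
      by_contra hne
      exact hw.2 (Set.mem_iUnion₂.2 ⟨φ.left w, ⟨⟨_, ⟨⟨w, hw.1⟩, rfl⟩, hval _⟩, hne⟩, subset_closure rfl⟩)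
    haveI : IsReduced O.toScheme := isReduced_of_isOpenImmersion O.ι
    obtain ⟨l, hl⟩ := Groth.Agent.AlgSpDesc.exists_lift_of_preimmersion (O.ι ≫ φ.left) (U.left.fromSpecResidueField t)
      fun w => ⟨IsLocalRing.closedPoint _, (U.left.fromSpecResidueField_apply t _).trans (hO w.1 w.2).symm⟩
    let T : Over S := Over.mk (U.left.fromSpecResidueField t ≫ U.hom)
    let ιt : T ⟶ U := Over.homMk (U.left.fromSpecResidueField t) rfl
    have sq := IsPullback.of_hasPullback ((yon S).map ιt ≫ b) i.hom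
    have hP := isAlgSpace_of_isPullback (IsAlgSpace.yon_obj T) X.property Z.property sq
    obtain ⟨z, hz⟩ : x ∈ Set.range (Points.map i.hom) := hi ▸ rfl
    obtain ⟨q, -, -⟩ := exists_point_of_isPullback sq (Points.ofScheme T (IsLocalRing.closedPoint _)) z (by
      rw [Points.map_ofPt, Category.id_comp, ofPt_comp, hz]
      refine Eq.trans (congrArg _ ?_) (hpt v)
      exact U.left.fromSpecResidueField_apply t _)
    haveI : IsIso (pullback.fst ((yon S).map ιt ≫ b) i.hom) := Groth.Agent.AlgSpDesc.isIso_of_mono_field hP _ q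
    let L : Over.mk (O.ι ≫ V.hom) ⟶ T := Over.homMk l (by
      change l ≫ U.left.fromSpecResidueField t ≫ U.hom = _
      rw [reassoc_of% hl, Over.w φ]; rfl)
    refine ⟨O, (yon S).map L ≫ inv (pullback.fst ((yon S).map ιt ≫ b) i.hom) ≫ pullback.snd _ _, hvB, ?_⟩
    rw [Category.assoc, Category.assoc, ← pullback.condition, IsIso.inv_hom_id_assoc, ← Functor.map_comp_assoc,
      ← Functor.map_comp_assoc]
    congr 2
    exact Over.OverMorphism.ext hl
  choose O xO hvO hxO using piece
  obtain ⟨y, hy, -⟩ := Groth.Agent.AlgSpLoc.existsUnique_glue (fun v => Over.mk ((O v).ι ≫ V.hom))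
    (fun v => Over.homMk (O v).ι rfl) (fun v => inferInstanceAs (IsOpenImmersion (O v).ι))
    (fun v => ⟨v, ⟨v, hvO v⟩, rfl⟩) xO (fun v v' W a a' w => by
      rw [← cancel_mono i.hom, Category.assoc, Category.assoc, hxO, hxO, ← Functor.map_comp_assoc, w,
        Functor.map_comp_assoc])
  have hyi : y ≫ i.hom = (yon S).map sndV ≫ a₀ ≫ f.hom := by
    refine Groth.Agent.AlgSpLoc.hom_ext_of_openCover (fun v => Over.mk ((O v).ι ≫ V.hom))
      (fun v => Over.homMk (O v).ι rfl) (fun v => inferInstanceAs (IsOpenImmersion (O v).ι))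
      (fun v => ⟨v, ⟨v, hvO v⟩, rfl⟩) fun v => ?_
    rw [← Category.assoc, hy, hxO, hφ]
  haveI : Epi ((yon S).map sndV ≫ a₀) := Groth.Agent.AlgSpLoc.epi_of_repWith
    (repWith_comp ((repWith_yon_map_iff _ _).2 (hb.2 _ _ _ sqV)) ha₀)
    (repWith_comp ((repWith_yon_map_iff _ _).2 (hbs.2 _ _ _ sqV)) ha₀s)
  have sW := IsPullback.of_hasPullback f.hom i.hom
  haveI : Mono (pullback.fst f.hom i.hom) := sW.mono_fst_of_mono
  haveI : Epi (pullback.fst f.hom i.hom) :=
    epi_of_epi_fac (sW.lift_fst ((yon S).map sndV ≫ a₀) y ((Category.assoc _ _ _).trans hyi.symm))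
  haveI : IsIso (pullback.fst f.hom i.hom) := isIso_of_mono_of_epi _
  exact ⟨ObjectProperty.homMk (inv (pullback.fst f.hom i.hom) ≫ pullback.snd f.hom i.hom), by
    ext : 1
    show (inv (pullback.fst f.hom i.hom) ≫ pullback.snd f.hom i.hom) ≫ i.hom = f.hom
    rw [Category.assoc, ← pullback.condition, IsIso.inv_hom_id_assoc]⟩

end Groth.Agent.S10415
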