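import Groth.Statements.S10416
import Groth.Agent.S10415
import Groth.Agent.S10366
import Groth.Agent.S10193
import Groth.Agent.S9934
import Groth.Agent.AlgSpDesc.Atlas
import Groth.Agent.AlgSpLoc.Inst3
import Groth.Agent.AlgSpGeomRed.Space
import Groth.Agent.FpqcDescent.ReducedSub

set_option autoImplicit false
set_option backward.isDefEq.respectTransparency false
universe u
open CategoryTheory CategoryTheory.Limits AlgebraicGeometry Topology TopologicalSpace
open AlgSp

namespace Groth.Agent.S10416

open Groth.Agent.AlgSpc (repWith_of_isPullback repWith_comp repWith_iso repWith_mono ofPt_comp isAlgSpace_of_isPullback)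


/-- Let S be a scheme, X a locally Noetherian algebraic space over S, x ∈ |X|, and i : Z_x ⟶ X the
residual space at x. Then x is closed in |X| if and only if i is a closed immersion. -/
theorem result {S : Scheme.{u}} {X Z : AlgSp.Space S}
    (hX : AlgSp.IsLocNoethSp X.obj) (x : AlgSp.Points X.obj) (i : Z ⟶ X) [Mono i.hom]
    (hi : Set.range (AlgSp.Points.map i.hom) = {x}) (hZ : ∃ (k : Type u) (_ : Field k) (str : Spec (CommRingCat.of k) ⟶ S) (p : (AlgSp.yon S).obj (Over.mk str) ⟶ Z.obj),
        AlgSp.LocP @LocallyOfFinitePresentation p ∧ AlgSp.LocP @Flat p ∧ AlgSp.IsSurjectiveMor p) :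
    IsClosed ({x} : Set (AlgSp.Points X.obj)) ↔ AlgSp.RepWith @IsClosedImmersion i.hom := by
  obtain ⟨k, hk, str, p, hlfp, hfl, hsp⟩ := hZ
  constructor
  · intro hx
    have hred : EtaleLocally (fun U => IsReduced U) Z.obj := ((S10366.result Z).2 ⟨k, hk, str, p, hfl, hsp⟩).1
    obtain ⟨V, b, hb, hbs⟩ := X.property.atlas
    have sq := IsPullback.of_hasPullback i.hom b
    have hPA := isAlgSpace_of_isPullback Z.property X.property (IsAlgSpace.yon_obj V) sq
    have hfst : RepWith @Etale (pullback.fst i.hom b) := repWith_of_isPullback sq.flip hb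
    obtain ⟨C₀, c, hc, hcs⟩ := hPA.atlas
    have hPr : AlgSp.IsReducedSp (pullback i.hom b) := ⟨C₀, c, hc, hcs,
      Groth.Agent.AlgSpGeomRed.isReduced_of_chart hred (c ≫ pullback.fst i.hom b) (repWith_comp hc hfst)⟩
    have hT : IsClosed (Points.ofPt b ⁻¹' ({x} : Set (Points X.obj))) := hx.preimage (Points.continuous_ofPt b)
    let I := Scheme.IdealSheafData.vanishingIdeal (X := V.left) ⟨_, hT⟩
    haveI : IsReduced I.subscheme := inferInstance
    let C : Over S := Over.mk (I.subschemeι ≫ V.hom)
    let ι : C ⟶ V := Over.homMk I.subschemeι rfl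
    have hrange : Set.range ι.left = Points.ofPt b ⁻¹' ({x} : Set (Points X.obj)) := by
      change Set.range I.subschemeι = _
      rw [Scheme.IdealSheafData.range_subschemeι, Scheme.IdealSheafData.coe_support_vanishingIdeal]
      rfl
    have hι : RepWith @IsClosedImmersion ((yon S).map ι) :=
      (repWith_yon_map_iff _ _).2 (inferInstanceAs (IsClosedImmersion I.subschemeι))
    let PS : AlgSp.Space S := ⟨pullback i.hom b, hPA⟩
    obtain ⟨g, hg⟩ := (S10193.result (X := (ofScheme S).obj V) (Y := PS) (Z := (ofScheme S).obj C)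
      ((ofScheme S).map ι) hι hPr (ObjectProperty.homMk (pullback.snd i.hom b))).2 (by
        rintro _ ⟨q, rfl⟩
        obtain ⟨v, hv⟩ := (Points.schemeEquiv V).surjective (Points.map (pullback.snd i.hom b) q)
        have h1 : Points.ofPt b v = x := by
          rw [Points.ofPt_eq_map_ofScheme]
          change Points.map b ((Points.schemeEquiv V) v) = x
          rw [hv, ← Points.map_comp, ← pullback.condition, Points.map_comp]
          exact hi.le ⟨_, rfl⟩
        obtain ⟨w, hw⟩ : v ∈ Set.range ι.left := hrange ▸ h1
        refine ⟨Points.ofScheme C w, ?_⟩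
        change Points.map ((yon S).map ι) _ = Points.map (pullback.snd i.hom b) q
        rw [Points.map_ofPt, Category.id_comp, ← hv, ← Category.comp_id ((yon S).map ι), ofPt_comp, hw]
        rfl)
    obtain ⟨h, hh⟩ := S10415.result (Y := (ofScheme S).obj C) (X := X)
      (ObjectProperty.homMk ((yon S).map ι ≫ b)) x (fun y => by
        obtain ⟨w, rfl⟩ := (Points.schemeEquiv C).surjective y
        change Points.map ((yon S).map ι ≫ b) (Points.ofScheme C w) = x
        rw [Points.map_ofPt, Category.id_comp, ofPt_comp]
        exact hrange.le ⟨w, rfl⟩) ⟨C, 𝟙 _, repWith_id _ C, repWith_id _ C, inferInstanceAs (IsReduced I.subscheme)⟩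
      hX i hi ⟨k, hk, str, p, hlfp, hfl, hsp⟩
    have hh' : h.hom ≫ i.hom = (yon S).map ι ≫ b := congrArg (·.hom) hh
    have hg' : g.hom ≫ (yon S).map ι = pullback.snd i.hom b := congrArg (·.hom) hg
    haveI : Mono (pullback.snd i.hom b) := inferInstance
    haveI : Mono ι := by
      haveI : Mono ι.left := inferInstanceAs (Mono I.subschemeι)
      exact Functor.mono_of_mono_map (Over.forget S) ‹Mono ι.left›
    let l := sq.lift h.hom ((yon S).map ι) hh'
    haveI : IsIso g.hom := by
      refine ⟨l, ?_, ?_⟩
      · rw [← cancel_mono (pullback.snd i.hom b), Category.assoc, sq.lift_snd, hg', Category.id_comp]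
      · haveI : Mono ((yon S).map ι) := inferInstance
        rw [← cancel_mono ((yon S).map ι), Category.assoc, hg', sq.lift_snd, Category.id_comp]
    refine Groth.Agent.AlgSpDesc.of_fpqc Z.property X.property hb hbs sq
      Groth.Agent.AlgSpLoc.isLocalOnBase_closedImmersion ?_
    rw [← hg']
    exact repWith_comp (repWith_iso g.hom) hι
  · intro hc
    have := (S9934.result i (repWith_mono (fun _ _ f (_ : IsClosedImmersion f) =>
      (inferInstance : IsImmersion f)) hc)).1 hc
    rwa [hi] at this

end Groth.Agent.S10416
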