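import Groth.Statements.S10420
import Groth.Agent.AlgSpc.LocP
import Groth.Agent.AlgSpc.FibreProd
import Groth.Agent.AlgSpDesc.MonoField

set_option autoImplicit false
set_option backward.isDefEq.respectTransparency false
universe u
open CategoryTheory CategoryTheory.Limits AlgebraicGeometry Topology TopologicalSpace
open AlgSp

namespace Groth.Agent.S10420

open Groth.Agent.AlgSpc

variable {S : Scheme.{u}}

/-- The residue point of a scheme over `S`. -/
noncomputable abbrev resObj {U : Over S} (u : ↥U.left) : Over S := Over.mk (U.left.fromSpecResidueField u ≫ U.hom)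

noncomputable abbrev resι {U : Over S} (u : ↥U.left) : resObj u ⟶ U :=
  Over.homMk (U.left.fromSpecResidueField u) rfl

theorem toHom_ofPt {F : Sp S} {U : Over S} (a : (yon S).obj U ⟶ F) (u : ↥U.left) :
    (FieldPt.ofPt a u).toHom = (yon S).map (resι u) ≫ a := by
  change (QuotSh.J Scheme.fppfPrecoverage S).uliftYonedaEquiv.symm _ = _
  rw [Equiv.symm_apply_eq]
  rfl

theorem resι_apply {U : Over S} (u : ↥U.left) (t : ↥(resObj u).left) : (resι u).left t = u :=
  U.left.fromSpecResidueField_apply u t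

/-- A field point lands in the residue point of its image. -/
theorem exists_desc {K : Type u} [Field K] {s : Spec (CommRingCat.of K) ⟶ S} {W : Over S}
    (l : Over.mk s ⟶ W) : ∃ d : Over.mk s ⟶ resObj (l.left (IsLocalRing.closedPoint K)), d ≫ resι _ = l := by
  let d₀ := Spec.map (Scheme.descResidueField (Scheme.stalkClosedPointTo l.left))
  have h : d₀ ≫ W.left.fromSpecResidueField _ = l.left :=
    Scheme.descResidueField_stalkClosedPointTo_fromSpecResidueField K W.left l.left
  refine ⟨Over.homMk d₀ ?_, Over.OverMorphism.ext h⟩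
  change d₀ ≫ W.left.fromSpecResidueField _ ≫ W.hom = s
  rw [reassoc_of% h]
  exact Over.w l

theorem exists_desc' {K : Type u} [Field K] {s : Spec (CommRingCat.of K) ⟶ S} {W : Over S}
    (l : Over.mk s ⟶ W) {v : ↥W.left} (hv : ∀ t, l.left t = v) : ∃ d : Over.mk s ⟶ resObj v, d ≫ resι _ = l := by
  have h : v = l.left (IsLocalRing.closedPoint K) := (hv _).symm
  subst h
  exact exists_desc l

theorem mono_resι {U : Over S} (u : ↥U.left) : Mono (resι u) :=
  haveI : Mono (resι u).left := inferInstanceAs (Mono (U.left.fromSpecResidueField u))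
  Functor.mono_of_mono_map (Over.forget S) ‹Mono (resι u).left›

/-- An etale map to an elementary neighbourhood through which the residue point lifts gives one. -/
theorem elem_of_lift {X : Sp S} {x : Points X} {U W : Over S} {a : (yon S).obj U ⟶ X} {u : ↥U.left}
    (hu : IsElemEtaleNbhd a u x) (h : W ⟶ U) (hW : RepWith @Etale ((yon S).map h ≫ a))
    (l : resObj u ⟶ W) (hl : l ≫ h = resι u) :
    ∃ w : ↥W.left, IsElemEtaleNbhd ((yon S).map h ≫ a) w x ∧ h.left w = u ∧
      w = l.left (IsLocalRing.closedPoint (U.left.residueField u)) := by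
  let w := l.left (IsLocalRing.closedPoint (U.left.residueField u))
  have hw : h.left w = u := by
    change (l ≫ h).left _ = u
    rw [hl]
    exact resι_apply u _
  refine ⟨w, ⟨hW, ?_, ?_⟩, hw, rfl⟩
  · rw [ofPt_comp, hw]; exact hu.ofPt_eq
  · obtain ⟨d, hd⟩ := exists_desc' l (v := w) fun t => congrArg l.left (Subsingleton.elim (α := PrimeSpectrum _) t _)
    -- the residue map backwards
    obtain ⟨e, he⟩ : ∃ e : resObj w ⟶ resObj u, e ≫ resι u = resι w ≫ h := by
      exact exists_desc' (resι w ≫ h) fun t => by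
        rw [Over.comp_left, Scheme.Hom.comp_apply]
        exact (congrArg h.left (resι_apply w t)).trans hw
    haveI := mono_resι u
    haveI := mono_resι w
    have hde : d ≫ e = 𝟙 _ := by
      rw [← cancel_mono (resι u), Category.assoc, he, reassoc_of% hd, hl, Category.id_comp]
    haveI : IsIso d := by
      have hd' : d.left ≫ e.left = 𝟙 _ := congrArg CommaMorphism.left hde
      let g : W.left.residueField w ⟶ U.left.residueField u := Spec.preimage d.left
      let f : U.left.residueField u ⟶ W.left.residueField w := Spec.preimage e.left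
      have hfg : f ≫ g = 𝟙 _ := Spec.map_injective (by
        rw [Spec.map_comp, Spec.map_preimage, Spec.map_preimage, Spec.map_id]; exact hd')
      haveI : IsIso g := (ConcreteCategory.isIso_iff_bijective g).2 ⟨g.hom.injective, fun z =>
        ⟨f z, congrArg (fun k => k z) hfg⟩⟩
      haveI : IsIso d.left := by rw [← Spec.map_preimage d.left]; infer_instance
      haveI : IsIso ((Over.forget S).map d) := ‹IsIso d.left›
      exact isIso_of_reflects_iso d (Over.forget S)
    have hm := hu.mono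
    rw [toHom_ofPt] at hm ⊢
    have e2 : inv d ≫ resι u = resι w ≫ h := by
      rw [IsIso.inv_comp_eq, reassoc_of% hd, hl]
    have : (yon S).map (resι w) ≫ (yon S).map h ≫ a = (yon S).map (inv d) ≫ (yon S).map (resι u) ≫ a := by
      rw [← Functor.map_comp_assoc, ← Functor.map_comp_assoc, e2]
    rw [this]
    exact mono_comp _ _

/-- Monomorphic residue points of the same point are isomorphic. -/
theorem exists_res_map {X : Sp S} (hX : IsAlgSpace X) {x : Points X} {U₁ U₂ : Over S}
    {a₁ : (yon S).obj U₁ ⟶ X} {a₂ : (yon S).obj U₂ ⟶ X} {u₁ : ↥U₁.left} {u₂ : ↥U₂.left}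
    (h₁ : IsElemEtaleNbhd a₁ u₁ x) (h₂ : IsElemEtaleNbhd a₂ u₂ x) :
    ∃ c : resObj u₁ ⟶ resObj u₂, (yon S).map (c ≫ resι u₂) ≫ a₂ = (yon S).map (resι u₁) ≫ a₁ := by
  have hm := h₂.mono
  rw [toHom_ofPt] at hm
  have sq := IsPullback.of_hasPullback ((yon S).map (resι u₁) ≫ a₁) ((yon S).map (resι u₂) ≫ a₂)
  have hZ := isAlgSpace_of_isPullback (IsAlgSpace.yon_obj _) hX (IsAlgSpace.yon_obj _) sq
  obtain ⟨z, -, -⟩ := exists_point_of_isPullback sq (Points.ofScheme (resObj u₁) (IsLocalRing.closedPoint _))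
    (Points.ofScheme (resObj u₂) (IsLocalRing.closedPoint _)) (by
      rw [Points.map_ofPt, Points.map_ofPt, Category.id_comp, Category.id_comp, ofPt_comp, ofPt_comp,
        resι_apply, resι_apply, h₁.ofPt_eq, h₂.ofPt_eq])
  haveI := hm
  haveI : IsIso (pullback.fst ((yon S).map (resι u₁) ≫ a₁) ((yon S).map (resι u₂) ≫ a₂)) :=
    AlgSpDesc.isIso_of_mono_field hZ _ z
  refine ⟨pre (inv (pullback.fst ((yon S).map (resι u₁) ≫ a₁) ((yon S).map (resι u₂) ≫ a₂)) ≫ pullback.snd _ _), ?_⟩
  rw [Functor.map_comp, map_pre, Category.assoc, Category.assoc, ← pullback.condition, IsIso.inv_hom_id_assoc]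


/-- For a decent algebraic space X over a scheme S and x ∈ |X|, the category of elementary etale
neighbourhoods (U, u) ⟶ (X, x) is cofiltered: two objects are dominated by a third and two parallel
morphisms are equalized from some object (it is nonempty by the existence of elementary etale
neighbourhoods). -/
theorem result {S : Scheme.{u}} (X : AlgSp.Space S) (hX : AlgSp.IsDecent X.obj)
    (x : AlgSp.Points X.obj) :
    (∀ (U₁ U₂ : Over S) (a₁ : (AlgSp.yon S).obj U₁ ⟶ X.obj) (a₂ : (AlgSp.yon S).obj U₂ ⟶ X.obj) (u₁ : ↥U₁.left)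
        (u₂ : ↥U₂.left), AlgSp.IsElemEtaleNbhd a₁ u₁ x → AlgSp.IsElemEtaleNbhd a₂ u₂ x →
        ∃ (U : Over S) (a : (AlgSp.yon S).obj U ⟶ X.obj) (v : ↥U.left) (h₁ : U ⟶ U₁) (h₂ : U ⟶ U₂),
          AlgSp.IsElemEtaleNbhd a v x ∧ (AlgSp.yon S).map h₁ ≫ a₁ = a ∧ (AlgSp.yon S).map h₂ ≫ a₂ = a ∧
            h₁.left v = u₁ ∧ h₂.left v = u₂) ∧
      (∀ (U₁ U₂ : Over S) (a₁ : (AlgSp.yon S).obj U₁ ⟶ X.obj) (a₂ : (AlgSp.yon S).obj U₂ ⟶ X.obj) (u₁ : ↥U₁.left)
        (u₂ : ↥U₂.left) (b c : U₁ ⟶ U₂), AlgSp.IsElemEtaleNbhd a₁ u₁ x → AlgSp.IsElemEtaleNbhd a₂ u₂ x →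
        (AlgSp.yon S).map b ≫ a₂ = a₁ → (AlgSp.yon S).map c ≫ a₂ = a₁ → b.left u₁ = u₂ → c.left u₁ = u₂ →
        ∃ (U : Over S) (a : (AlgSp.yon S).obj U ⟶ X.obj) (v : ↥U.left) (h : U ⟶ U₁),
          AlgSp.IsElemEtaleNbhd a v x ∧ (AlgSp.yon S).map h ≫ a₁ = a ∧ h.left v = u₁ ∧ h ≫ b = h ≫ c) := by
  refine ⟨fun U₁ U₂ a₁ a₂ u₁ u₂ h₁ h₂ => ?_, fun U₁ U₂ a₁ a₂ u₁ u₂ b c h₁ h₂ hb hc hbu hcu => ?_⟩
  · obtain ⟨k, hk⟩ := exists_res_map X.property h₁ h₂
    obtain ⟨W, fst, snd, sq⟩ := exists_sq h₁.etale.1 a₂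
    have hW : RepWith @Etale ((yon S).map (pre fst) ≫ a₁) := by
      rw [map_pre, sq.w]
      exact repWith_comp ((repWith_yon_map_iff _ _).2 (h₁.etale.2 _ _ _ sq)) h₂.etale
    obtain ⟨l, hl₁, hl₂⟩ : ∃ l : resObj u₁ ⟶ W, l ≫ pre fst = resι u₁ ∧ l ≫ snd = k ≫ resι u₂ := by
      refine ⟨pre (sq.lift ((yon S).map (resι u₁)) ((yon S).map (k ≫ resι u₂)) hk.symm), ?_, ?_⟩
      · exact (yon S).map_injective (by simp)
      · exact (yon S).map_injective (by simp)
    obtain ⟨w, hw, hw₁, hwl⟩ := elem_of_lift h₁ (pre fst) hW l hl₁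
    refine ⟨W, _, w, pre fst, snd, hw, rfl, ?_, hw₁, ?_⟩
    · rw [map_pre, sq.w]
    · rw [hwl]
      change (l ≫ snd).left _ = u₂
      rw [hl₂, Over.comp_left, Scheme.Hom.comp_apply]
      exact resι_apply u₂ _
  · obtain ⟨R, fst, snd, sq⟩ := exists_sq h₂.etale.1 a₂
    let Δ : U₂ ⟶ R := pre (sq.lift (𝟙 _) ((yon S).map (𝟙 U₂)) (by simp))
    have hΔ₂ : Δ ≫ snd = 𝟙 _ := (yon S).map_injective (by simp [Δ])
    have hΔ₁ : Δ ≫ pre fst = 𝟙 _ := (yon S).map_injective (by simp [Δ])
    let q : U₁ ⟶ R := pre (sq.lift ((yon S).map b) ((yon S).map c) (hb.trans hc.symm))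
    have hq₁ : q ≫ pre fst = b := (yon S).map_injective (by simp [q])
    have hq₂ : q ≫ snd = c := (yon S).map_injective (by simp [q])
    haveI : Etale snd.left := h₂.etale.2 _ _ _ sq
    haveI : Etale Δ.left := by
      haveI : Etale (Δ.left ≫ snd.left) := by rw [← Over.comp_left, hΔ₂, Over.id_left]; infer_instance
      exact Etale.of_comp Δ.left snd.left
    have sqH := IsPullback.of_hasPullback q Δ
    haveI : Etale (pullback.fst q Δ).left :=
      MorphismProperty.of_isPullback (sqH.map (Over.forget S)).flip ‹Etale Δ.left›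
    have hres : resι u₁ ≫ b = resι u₁ ≫ c := by
      obtain ⟨d, hd⟩ := exists_desc' (resι u₁ ≫ b) (v := u₂) fun t => by
        rw [Over.comp_left, Scheme.Hom.comp_apply]; exact (congrArg b.left (resι_apply u₁ t)).trans hbu
      obtain ⟨d', hd'⟩ := exists_desc' (resι u₁ ≫ c) (v := u₂) fun t => by
        rw [Over.comp_left, Scheme.Hom.comp_apply]; exact (congrArg c.left (resι_apply u₁ t)).trans hcu
      have hm := h₂.mono
      rw [toHom_ofPt] at hm
      have : (yon S).map d = (yon S).map d' := hm.right_cancellation _ _ (by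
        rw [← Functor.map_comp_assoc, ← Functor.map_comp_assoc, hd, hd', Functor.map_comp, Functor.map_comp,
          Category.assoc, Category.assoc, hb, hc])
      rw [← hd, (yon S).map_injective this, hd']
    have hl : resι u₁ ≫ q = (resι u₁ ≫ b) ≫ Δ := by
      refine (yon S).map_injective (sq.hom_ext ?_ ?_)
      · rw [← map_pre fst, ← Functor.map_comp, ← Functor.map_comp, Category.assoc, Category.assoc, hq₁, hΔ₁,
          Category.comp_id]
      · rw [← Functor.map_comp, ← Functor.map_comp, Category.assoc, Category.assoc, hq₂, hΔ₂,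
          Category.comp_id, hres]
    obtain ⟨w, hw, hw₁, -⟩ := elem_of_lift h₁ (pullback.fst q Δ)
      (repWith_comp ((repWith_yon_map_iff _ _).2 ‹Etale (pullback.fst q Δ).left›) h₁.etale)
      (sqH.lift (resι u₁) (resι u₁ ≫ b) hl) (sqH.lift_fst _ _ _)
    refine ⟨_, _, w, pullback.fst q Δ, hw, rfl, hw₁, ?_⟩
    have e₁ := congrArg (· ≫ pre fst) (pullback.condition (f := q) (g := Δ))
    have e₂ := congrArg (· ≫ snd) (pullback.condition (f := q) (g := Δ))
    simp only [Category.assoc, hq₁, hq₂, hΔ₁, hΔ₂, Category.comp_id] at e₁ e₂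
    rw [e₁, e₂]

end Groth.Agent.S10420
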