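import Groth.Statements.S10428
import Groth.Agent.AlgSpc.UnivBdd
-- import your own Groth.Agent.* helpers here

set_option autoImplicit false
universe u
open CategoryTheory CategoryTheory.Limits AlgebraicGeometry Topology TopologicalSpace
open AlgSp

set_option backward.isDefEq.respectTransparency false
namespace Groth.Agent.S10428

/-- Let X be an algebraic space over a scheme S and φ : U ⟶ X a morphism from a scheme with universally
bounded fibres. Then for some integer n, every fibre of |U| → |X| contains at most n elements. -/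
theorem result {S : Scheme.{u}} (X : AlgSp.Space S) {U : Over S}
    (φ : (AlgSp.yon S).obj U ⟶ X.obj) (hφ : W4dec.HasUnivBddFibres φ) :
    ∃ n : ℕ, ∀ x : AlgSp.Points X.obj, (AlgSp.Points.ofPt φ ⁻¹' {x}).encard ≤ n := by
  obtain ⟨n, hn⟩ := hφ
  refine ⟨n, fun x => ?_⟩
  induction x using AlgSp.Points.ind with
  | h p =>
    obtain ⟨T, fst, snd, sq⟩ := AlgSpc.exists_sq (X.property.representable_from_yon φ) p.toHom
    obtain ⟨_, hcard⟩ := BddFibLib.natCard_le (k := p.K) (AlgSpc.degFibresLE_iff.1 hn p.K p.str p.toHom T fst snd sq)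
    have hsub : AlgSp.Points.ofPt φ ⁻¹' {AlgSp.Points.mk p} ⊆ (AlgSpc.pre fst).left '' Set.univ := by
      intro u hu
      obtain ⟨t, ht, -⟩ := AlgSpc.exists_point_of_sq sq (AlgSp.Points.ofScheme U u) (IsLocalRing.closedPoint p.K)
        (by rw [← AlgSp.Points.ofPt_eq_map_ofScheme, AlgSp.Points.ofPt_toHom]; exact hu)
      refine ⟨t, trivial, ?_⟩
      have h' := congrArg (AlgSp.Points.toScheme U) ht
      rwa [← AlgSpc.map_pre fst, AlgSp.Points.toScheme_ofPt, AlgSp.Points.toScheme_ofScheme] at h'
    refine (Set.encard_le_encard hsub).trans ((Set.encard_image_le _ _).trans ?_)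
    rw [Set.encard_univ, ENat.card_eq_coe_natCard]
    exact Nat.cast_le.2 hcard

end Groth.Agent.S10428
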