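import Groth.Statements.S10430
import Groth.Agent.AlgSpc.DecentMor
-- import your own Groth.Agent.* helpers here

set_option autoImplicit false
universe u
open CategoryTheory CategoryTheory.Limits AlgebraicGeometry Topology TopologicalSpace
open AlgSp

namespace Groth.Agent.S10430

/-- If every etale morphism U ⟶ X from an affine scheme to the algebraic space X has universally bounded
fibres, then X is decent. -/
theorem result {S : Scheme.{u}} (X : AlgSp.Space S)
    (h : ∀ (U : Over S) (φ : (AlgSp.yon S).obj U ⟶ X.obj), IsAffine U.left → AlgSp.RepWith @Etale φ → W4dec.HasUnivBddFibres φ) :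
    AlgSp.IsDecent X.obj := by
  refine AlgSpc.isDecent_of_hasCompactFibres X.property fun U a hU ha K _ str g V fst snd sq => ?_
  obtain ⟨n, hn⟩ := h U a hU ha
  have hq : AlgSp.FieldPt.toHom ({ K := K, str := str, val := (AlgSp.J S).uliftYonedaEquiv g } : AlgSp.FieldPt X.obj) = g :=
    Equiv.symm_apply_apply _ g
  obtain ⟨hf, -⟩ := hn { K := K, str := str, val := (AlgSp.J S).uliftYonedaEquiv g } V snd fst
    (by rw [hq]; exact sq.flip)
  haveI := hf
  haveI : CompactSpace ↥(Over.mk str).left := inferInstanceAs (CompactSpace (PrimeSpectrum K))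
  exact QuasiCompact.compactSpace_of_compactSpace snd.left

end Groth.Agent.S10430
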