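import Groth.Statements.S10431
import Groth.Agent.AlgSpc.UnivBdd
-- import your own Groth.Agent.* helpers here

set_option autoImplicit false
universe u
open CategoryTheory CategoryTheory.Limits AlgebraicGeometry Topology TopologicalSpace
open AlgSp

set_option backward.isDefEq.respectTransparency false
namespace Groth.Agent.S10431

/-- Let S be a scheme, X and Y algebraic spaces over S, and X ⟶ Y a representable morphism. If every
etale morphism from an affine scheme to Y has universally bounded fibres, then so does every etale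
morphism from an affine scheme to X. -/
theorem result {S : Scheme.{u}} {X Y : AlgSp.Space S} (f : X ⟶ Y)
    (hf : AlgSp.Representable f.hom)
    (hY : ∀ (V : Over S) (ψ : (AlgSp.yon S).obj V ⟶ Y.obj), IsAffine V.left → AlgSp.RepWith @Etale ψ → W4dec.HasUnivBddFibres ψ)
    (U : Over S) (φ : (AlgSp.yon S).obj U ⟶ X.obj) (hU : IsAffine U.left) (hφ : AlgSp.RepWith @Etale φ) :
    W4dec.HasUnivBddFibres φ := by
  haveI := hU
  obtain ⟨V, b, hb, hbs⟩ := Y.property.atlas
  choose T t₁ t₂ sq using fun A : V.left.affineOpens =>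
    AlgSpc.exists_sq (f := f.hom) hf ((AlgSp.yon S).map (AlgSpLoc.openSubι V A.1) ≫ b)
  have hA : ∀ A : V.left.affineOpens, AlgSp.RepWith @Etale ((AlgSp.yon S).map (AlgSpLoc.openSubι V A.1) ≫ b) := fun A =>
    AlgSpc.repWith_comp ((AlgSp.repWith_yon_map_iff _ _).2 (inferInstanceAs (Etale A.1.ι))) hb
  have hb' : ∀ A, ∃ n, AlgSpc.FibreLE n (t₁ A) := fun A => by
    obtain ⟨n, hn⟩ := hY _ ((AlgSp.yon S).map (AlgSpLoc.openSubι V A.1) ≫ b) A.2 (hA A)
    exact ⟨n, AlgSpc.fibreLE_base_change (sq A).flip (AlgSpc.degFibresLE_iff.1 hn)⟩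
  have hs : ∀ u, ∃ A w, AlgSp.Points.ofPt (t₁ A) w = AlgSp.Points.ofPt φ u := fun u => by
    obtain ⟨v, hv⟩ := AlgSpc.surjective_ofPt hbs (AlgSp.Points.map f.hom (AlgSp.Points.ofPt φ u))
    obtain ⟨_, ⟨A, hA', rfl⟩, hvA, -⟩ :=
      V.left.isBasis_affineOpens.exists_subset_of_mem_open (Set.mem_univ v) isOpen_univ
    obtain ⟨w, hw, -⟩ := AlgSpc.exists_point_of_sq (sq ⟨A, hA'⟩) (AlgSp.Points.ofPt φ u) ⟨v, hvA⟩
      (by rw [AlgSpc.ofPt_comp]; exact hv.symm)
    exact ⟨⟨A, hA'⟩, w, hw⟩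
  obtain ⟨n, hn⟩ := AlgSpc.exists_fibreLE_of_family X.property
    (fun A => AlgSpc.repWith_of_isPullback (sq A).flip (hA A)) hb' hφ hs
  exact ⟨n, AlgSpc.degFibresLE_iff.2 hn⟩

end Groth.Agent.S10431
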