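import Groth.Statements.S10432
import Groth.Agent.AlgSpc.UnivBdd
-- import your own Groth.Agent.* helpers here

set_option autoImplicit false
universe u
open CategoryTheory CategoryTheory.Limits AlgebraicGeometry Topology TopologicalSpace
open AlgSp

set_option backward.isDefEq.respectTransparency false
namespace Groth.Agent.S10432

/-- Let X be an algebraic space over a scheme S with a Zariski covering by open subspaces X_i ⟶ X such
that every etale morphism from an affine scheme to X_i has universally bounded fibres. Then every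
etale morphism from an affine scheme to X has universally bounded fibres. -/
theorem result {S : Scheme.{u}} (X : AlgSp.Space S) {ι : Type u}
    (Xi : ι → AlgSp.Space S) (j : ∀ i, Xi i ⟶ X) (hj : AlgSp.IsZarCover (fun i => (Xi i).obj) (fun i => (j i).hom))
    (h : ∀ (i : ι) (V : Over S) (ψ : (AlgSp.yon S).obj V ⟶ (Xi i).obj), IsAffine V.left → AlgSp.RepWith @Etale ψ → W4dec.HasUnivBddFibres ψ)
    (U : Over S) (φ : (AlgSp.yon S).obj U ⟶ X.obj) (hU : IsAffine U.left) (hφ : AlgSp.RepWith @Etale φ) :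
    W4dec.HasUnivBddFibres φ := by
  haveI := hU
  choose V b hb hbs using fun i => (Xi i).property.atlas
  let φA : ∀ A : (Σ i, (V i).left.affineOpens), (AlgSp.yon S).obj (AlgSpLoc.openSub (V A.1) A.2.1) ⟶ (Xi A.1).obj :=
    fun A => (AlgSp.yon S).map (AlgSpLoc.openSubι (V A.1) A.2.1) ≫ b A.1
  have hA : ∀ A, AlgSp.RepWith @Etale (φA A) := fun A =>
    AlgSpc.repWith_comp ((AlgSp.repWith_yon_map_iff _ _).2 (inferInstanceAs (Etale A.2.1.ι))) (hb A.1)
  have hb' : ∀ A, ∃ n, AlgSpc.FibreLE n (φA A ≫ (j A.1).hom) := fun A => by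
    obtain ⟨n, hn⟩ := h A.1 _ (φA A) A.2.2 (hA A)
    haveI : Mono (j A.1).hom :=
      AlgSpc.mono_of_repWith (fun _ _ e (_ : IsOpenImmersion e) => inferInstance) (hj.1 A.1)
    exact ⟨n, AlgSpc.fibreLE_comp_mono (AlgSpc.degFibresLE_iff.1 hn)⟩
  have hjE : ∀ i, AlgSp.RepWith @Etale (j i).hom := fun i =>
    ⟨(hj.1 i).1, fun _ _ g fst snd sq => haveI : IsOpenImmersion snd.left := (hj.1 i).2 g fst snd sq; (inferInstance : Etale snd.left)⟩
  obtain ⟨n, hn⟩ := AlgSpc.exists_fibreLE_of_family X.property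
    (φ := fun A => φA A ≫ (j A.1).hom) (fun A => AlgSpc.repWith_comp (hA A) (hjE A.1)) hb' hφ (fun u => by
      obtain ⟨i, y, hy⟩ := hj.2 (AlgSp.Points.ofPt φ u)
      obtain ⟨v, rfl⟩ := AlgSpc.surjective_ofPt (hbs i) y
      obtain ⟨_, ⟨A, hA', rfl⟩, hvA, -⟩ :=
        (V i).left.isBasis_affineOpens.exists_subset_of_mem_open (Set.mem_univ v) isOpen_univ
      refine ⟨⟨i, A, hA'⟩, ⟨v, hvA⟩, ?_⟩
      rw [Category.assoc, AlgSpc.ofPt_comp]
      exact (AlgSp.Points.map_ofPt _ _ _).symm.trans hy)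
  exact ⟨n, AlgSpc.degFibresLE_iff.2 hn⟩

end Groth.Agent.S10432
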