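import Groth.Statements.S10439
import Groth.Agent.AlgSpc.DecentSober
import Mathlib.Topology.Sober

set_option backward.isDefEq.respectTransparency false

set_option autoImplicit false
universe u
open CategoryTheory CategoryTheory.Limits AlgebraicGeometry Topology TopologicalSpace
open AlgSp

namespace Groth.Agent.S10439

/-- A birational morphism between decent algebraic spaces over a scheme S, each with only finitely many
irreducible components, is dominant: the image of |X| is dense in |Y|. -/
theorem result {S : Scheme.{u}} {X Y : AlgSp.Space S} (f : X ⟶ Y)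
    (hX : AlgSp.IsDecent X.obj) (hY : AlgSp.IsDecent Y.obj)
    (hXf : (irreducibleComponents (AlgSp.Points X.obj)).Finite)
    (hYf : (irreducibleComponents (AlgSp.Points Y.obj)).Finite)
    (hf : W4stk3decentspacesp2.IsBirational f.hom) : AlgSp.IsDominantMor f.hom := by
  haveI : QuasiSober (AlgSp.Points Y.obj) := Groth.Agent.AlgSpc.quasiSober_of_isDecent Y.property hY
  intro y
  obtain ⟨C, hC, hyC⟩ : ∃ C ∈ irreducibleComponents (AlgSp.Points Y.obj), y ∈ C :=
    ⟨irreducibleComponent y, irreducibleComponent_mem_irreducibleComponents y, mem_irreducibleComponent⟩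
  obtain ⟨η, hη⟩ := QuasiSober.sober hC.1 (isClosed_of_mem_irreducibleComponents C hC)
  obtain ⟨ξ, -, hξ⟩ := hf.bijOn.surjOn (show η ∈ genericPoints (AlgSp.Points Y.obj) by
    show closure {η} ∈ irreducibleComponents _
    rw [hη.def]; exact hC)
  rw [← hη.def] at hyC
  exact closure_mono (Set.singleton_subset_iff.2 (Set.mem_range.2 ⟨ξ, hξ⟩)) hyC

end Groth.Agent.S10439
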