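import Groth.Statements.S10441
import Groth.Agent.BranchCount.ElemNbhd
import Groth.Agent.Branch.Main

set_option autoImplicit false
universe u
open CategoryTheory CategoryTheory.Limits AlgebraicGeometry Topology TopologicalSpace
open AlgSp

namespace Groth.Agent.S10441

/-- For a decent algebraic space X over a scheme S and x ∈ |X|, fix an elementary etale neighbourhood
(U₀, u₀) of (X, x) and a henselization R of O_{U₀, u₀} (a model of the henselian local ring at x).
The following are equivalent: (1) O_{U, u} has exactly one minimal prime whenever (U, u) is an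
elementary etale neighbourhood of (X, x); (2) a unique irreducible component of U passes through u
for all such (U, u); (3) O_{U, u} is unibranch for all such (U, u); (4) R has exactly one minimal
prime. -/
theorem result {S : Scheme.{u}} (X : AlgSp.Space S)
    (hX : AlgSp.IsDecent X.obj) (x : AlgSp.Points X.obj) {U₀ : Over S}
    (a₀ : (AlgSp.yon S).obj U₀ ⟶ X.obj) (u₀ : ↥U₀.left) (h₀ : AlgSp.IsElemEtaleNbhd a₀ u₀ x)
    (R : Type u) [CommRing R] [IsLocalRing R] [Algebra ↥(U₀.left.presheaf.stalk u₀) R]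
    [IsLocalHom (algebraMap ↥(U₀.left.presheaf.stalk u₀) R)] [Hensel.IsHenselization ↥(U₀.left.presheaf.stalk u₀) R] :
    ((∀ (U : Over S) (a : (AlgSp.yon S).obj U ⟶ X.obj) (u : ↥U.left), AlgSp.IsElemEtaleNbhd a u x →
        CAlgX.HasUniqueMinimalPrime ↥(U.left.presheaf.stalk u)) ↔
      (∀ (U : Over S) (a : (AlgSp.yon S).obj U ⟶ X.obj) (u : ↥U.left), AlgSp.IsElemEtaleNbhd a u x →
        {Z : Set ↥U.left | Z ∈ irreducibleComponents ↥U.left ∧ u ∈ Z}.encard = 1)) ∧
    ((∀ (U : Over S) (a : (AlgSp.yon S).obj U ⟶ X.obj) (u : ↥U.left), AlgSp.IsElemEtaleNbhd a u x →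
        {Z : Set ↥U.left | Z ∈ irreducibleComponents ↥U.left ∧ u ∈ Z}.encard = 1) ↔
      (∀ (U : Over S) (a : (AlgSp.yon S).obj U ⟶ X.obj) (u : ↥U.left), AlgSp.IsElemEtaleNbhd a u x →
        CAlg2.IsUnibranch ↥(U.left.presheaf.stalk u))) ∧
    ((∀ (U : Over S) (a : (AlgSp.yon S).obj U ⟶ X.obj) (u : ↥U.left), AlgSp.IsElemEtaleNbhd a u x →
        CAlg2.IsUnibranch ↥(U.left.presheaf.stalk u)) ↔ CAlgX.HasUniqueMinimalPrime R) := by
  have hcomp : ∀ (U : Over S) (u : ↥U.left),
      {Z : Set ↥U.left | Z ∈ irreducibleComponents ↥U.left ∧ u ∈ Z}.encard =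
        (minimalPrimes ↥(U.left.presheaf.stalk u)).encard := fun U u => by
    rw [BranchCount.card_components, ENat.card_coe_set_eq]
  have huniq : ∀ (A : Type u) [CommRing A], (CAlgX.HasUniqueMinimalPrime A ↔ (minimalPrimes A).encard = 1) := fun A _ => by
    rw [Set.encard_eq_one]
    exact ⟨fun ⟨p, hp, hu⟩ => ⟨p, Set.eq_singleton_iff_unique_mem.2 ⟨hp, hu⟩⟩,
      fun ⟨p, hp⟩ => ⟨p, hp ▸ rfl, fun q hq => by rw [hp] at hq; exact hq⟩⟩
  have hone : ∀ (A : Type u) [CommRing A] [IsLocalRing A], 1 ≤ (minimalPrimes A).encard := fun A _ _ => by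
    obtain ⟨p, hp, -⟩ := Ideal.exists_minimalPrimes_le (I := (⊥ : Ideal A)) (J := IsLocalRing.maximalIdeal A) bot_le
    exact Set.one_le_encard_iff_nonempty.2 ⟨p, hp⟩
  have hbr : ∀ (A : Type u) [CommRing A] [IsLocalRing A], CAlg2.IsUnibranch A ↔ Brnch.numBranches A = 1 := fun A _ _ => by
    rw [Groth.Agent.Branch.isUnibranch_iff (A := A) (S := Groth.Agent.Hensel.Hens A (IsLocalRing.ResidueField A)), huniq,
      ← BranchCount.card_henselization (A := A) (S := Groth.Agent.Hensel.Hens A (IsLocalRing.ResidueField A)),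
      ENat.card_coe_set_eq]
  have hR : (minimalPrimes R).encard = Brnch.numBranchesAt U₀.left u₀ := by
    rw [Brnch.numBranchesAt, ← BranchCount.card_henselization (A := ↥(U₀.left.presheaf.stalk u₀)) (S := R),
      ENat.card_coe_set_eq]
  have hN : ∀ (U : Over S) (a : (AlgSp.yon S).obj U ⟶ X.obj) (u : ↥U.left), AlgSp.IsElemEtaleNbhd a u x →
      Brnch.numBranchesAt U.left u = (minimalPrimes R).encard := fun U a u h =>
    hR ▸ BranchCount.numBranchesAt_eq_of_elem X hX h h₀
  have h34 : (∀ (U : Over S) (a : (AlgSp.yon S).obj U ⟶ X.obj) (u : ↥U.left), AlgSp.IsElemEtaleNbhd a u x →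
        CAlg2.IsUnibranch ↥(U.left.presheaf.stalk u)) ↔ CAlgX.HasUniqueMinimalPrime R := by
    rw [huniq R]
    refine ⟨fun h => ?_, fun h U a u hu => (hbr _).2 ((hN U a u hu).trans h)⟩
    exact hR.trans ((hbr _).1 (h U₀ a₀ u₀ h₀))
  have h12 : (∀ (U : Over S) (a : (AlgSp.yon S).obj U ⟶ X.obj) (u : ↥U.left), AlgSp.IsElemEtaleNbhd a u x →
        CAlgX.HasUniqueMinimalPrime ↥(U.left.presheaf.stalk u)) ↔
      (∀ (U : Over S) (a : (AlgSp.yon S).obj U ⟶ X.obj) (u : ↥U.left), AlgSp.IsElemEtaleNbhd a u x →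
        {Z : Set ↥U.left | Z ∈ irreducibleComponents ↥U.left ∧ u ∈ Z}.encard = 1) :=
    forall₃_congr fun U a u => imp_congr_right fun _ => (huniq _).trans (by rw [hcomp])
  refine ⟨h12, h12.symm.trans ?_, h34⟩
  rw [h34, huniq R]
  constructor
  · intro h
    refine le_antisymm (hR ▸ BranchCount.numBranchesAt_le_of_forall X h₀ 1 fun U a u hu => ((huniq _).1 (h U a u hu)).le) ?_
    exact hone R
  · intro h U a u hu
    exact (huniq _).2 (le_antisymm ((BranchCount.minimalPrimes_le_numBranchesAt u).trans ((hN U a u hu).le.trans h.le)) (hone _))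

end Groth.Agent.S10441
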