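import Groth.Statements.S10448
import Groth.Agent.AlgSpc.TestedMor
import Groth.Agent.AlgSpDesc.LqfDim
import Groth.Agent.GrpSch.Dim
import Groth.Agent.AlgSpc.EtLocInst

set_option autoImplicit false
universe u
open CategoryTheory CategoryTheory.Limits AlgebraicGeometry Topology TopologicalSpace
open AlgSp

namespace Groth.Agent.S10448

set_option backward.isDefEq.respectTransparency false
open CategoryTheory Groth.Agent.AlgSpc

/-- For an integral morphism f : X ⟶ Y of algebraic spaces over a scheme S, the dimension of X is at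
most the dimension of Y. -/
theorem result {S : Scheme.{u}} {X Y : AlgSp.Space S} (f : X ⟶ Y)
    (hf : AlgSp.IsIntegralMor f.hom) : AlgSp.dim X.obj ≤ AlgSp.dim Y.obj := by
  refine iSup_le fun U => iSup_le fun a => iSup_le fun ha => ?_
  obtain ⟨V, b, hb, hbs⟩ := Y.property.atlas
  have h := (repWith_integralHom_iff f.hom).1 hf
  obtain ⟨P, fst, snd, sq⟩ := exists_sq h.1 b
  haveI : IsIntegralHom snd.left := h.2 _ _ _ sq
  have hp : AlgSp.RepWith @Etale fst := repWith_of_isPullback sq.flip hb
  have hps : AlgSp.RepWith @Surjective fst := repWith_of_isPullback sq.flip hbs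
  obtain ⟨W, w₁, w₂, sW⟩ := exists_sq hp.1 a
  haveI : Etale w₂.left := hp.2 _ _ _ sW
  haveI : Surjective w₂.left := hps.2 _ _ _ sW
  haveI : Etale (pre w₁).left := (repWith_pre w₁).1 (repWith_of_isPullback sW.flip ha)
  haveI := lqf_of_etale (pre w₁).left
  refine (FpqcDescent.topologicalKrullDim_le_of_generalizingMap w₂.left (Flat.generalizingMap w₂.left)
    w₂.left.surjective).trans ((AlgSpDesc.topologicalKrullDim_le_of_lqf (pre w₁).left).trans
      ((topologicalKrullDim_le_of_injOn_fibres snd.left snd.left.continuous fun x y hxy he =>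
        GrpSch.eq_of_specializes_of_isIntegralHom snd.left hxy he).trans ?_))
  exact le_iSup_of_le V (le_iSup₂_of_le b hb le_rfl)

end Groth.Agent.S10448
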