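import Groth.Statements.S7552
import Mathlib.Topology.KrullDimension

set_option autoImplicit false
universe u
open PtTop

namespace Groth.Agent.S7552

/-- Let f : X → Y be a continuous surjective map of topological spaces with Y sober, and assume that
specializations lift along f or that generalizations lift along f. Then dim X ≥ dim Y (Krull
dimensions as suprema of lengths of chains of irreducible closed subsets). -/
theorem result {X Y : Type u}
    [TopologicalSpace X] [TopologicalSpace Y] [QuasiSober Y] [T0Space Y]
    (f : X → Y) (hf : Continuous f) (hsurj : Function.Surjective f)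
    (hlift : SpecializingMap f ∨ GeneralizingMap f) :
    topologicalKrullDim Y ≤ topologicalKrullDim X := by
  open Topology TopologicalSpace Set in
  have key : ∀ (n : ℕ) (y : Fin (n + 1) → Y), (∀ i : Fin n, y i.succ ⤳ y i.castSucc) →
      ∃ x : Fin (n + 1) → X, (∀ i : Fin n, x i.succ ⤳ x i.castSucc) ∧ ∀ i, f (x i) = y i := by
    intro n
    induction n with
    | zero => exact fun y _ => ⟨fun i => (hsurj (y i)).choose, fun i => i.elim0, fun i => (hsurj (y i)).choose_spec⟩
    | succ n ih =>
      intro y hy
      rcases hlift with h | h
      · obtain ⟨x, hx, hfx⟩ := ih (fun i => y i.succ) fun i => by simpa using hy i.succ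
        obtain ⟨x₀, hx₀, hfx₀⟩ := h (show f (x 0) ⤳ y 0 from by rw [hfx]; simpa using hy 0)
        refine ⟨Fin.cons x₀ x, Fin.cases (by simpa [flip] using hx₀) fun i => ?_, Fin.cases (by simpa using hfx₀) (by simpa using hfx)⟩
        simpa using hx i
      · obtain ⟨x, hx, hfx⟩ := ih (fun i => y i.castSucc) fun i => by simpa using hy i.castSucc
        obtain ⟨x₀, hx₀, hfx₀⟩ := h (show y (Fin.last (n + 1)) ⤳ f (x (Fin.last n)) from by
          rw [hfx]; simpa using hy (Fin.last n))
        refine ⟨Fin.snoc x x₀, Fin.lastCases (by simpa using hx₀) fun i => ?_, Fin.lastCases (by simpa using hfx₀) (by simpa using hfx)⟩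
        rw [show i.castSucc.succ = i.succ.castSucc from rfl, Fin.snoc_castSucc, Fin.snoc_castSucc]
        exact hx i
  refine iSup_le fun p => ?_
  obtain ⟨x, hx, hfx⟩ := key p.length (fun i => (p i).isIrreducible.genericPoint) fun i =>
    ((p i.succ).isIrreducible.isGenericPoint_genericPoint (p i.succ).isClosed).specializes
      ((show p i.castSucc < p i.succ from p.step i).le
        ((p i.castSucc).isIrreducible.isGenericPoint_genericPoint (p i.castSucc).isClosed).mem)
  let g : Fin (p.length + 1) → IrreducibleCloseds X := fun i =>
    ⟨closure {x i}, isIrreducible_singleton.closure, isClosed_closure⟩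
  have hg : ∀ i : Fin p.length, g i.castSucc < g i.succ := by
    intro i
    refine lt_of_le_not_ge (show closure {x i.castSucc} ⊆ closure {x i.succ} from
      closure_minimal (singleton_subset_iff.2 (hx i).mem_closure) isClosed_closure) fun hge => ?_
    have h' : x i.castSucc ⤳ x i.succ :=
      specializes_iff_mem_closure.2 ((show closure {x i.succ} ⊆ closure {x i.castSucc} from hge) (subset_closure rfl))
    have := h'.map hf
    rw [hfx, hfx] at this
    exact (show p i.castSucc < p i.succ from p.step i).ne (le_antisymm (show p i.castSucc < p i.succ from p.step i).le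
      (show (p i.succ : Set Y) ⊆ p i.castSucc from by
        rw [← ((p i.succ).isIrreducible.isGenericPoint_genericPoint (p i.succ).isClosed)]
        exact (p i.castSucc).isClosed.closure_subset_iff.2 (singleton_subset_iff.2
          (this.mem_closed (p i.castSucc).isClosed ((p i.castSucc).isIrreducible.isGenericPoint_genericPoint (p i.castSucc).isClosed).mem))))
  exact Order.LTSeries.length_le_krullDim (⟨p.length, g, hg⟩ : LTSeries (IrreducibleCloseds X))

end Groth.Agent.S7552
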