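import Groth.Statements.S10449
import Groth.Agent.AlgSpc.TestedMor
import Groth.Agent.AlgSpDesc.LqfDim
import Groth.Agent.GrpSch.Dim
import Groth.Agent.S7552

set_option autoImplicit false
universe u
open CategoryTheory CategoryTheory.Limits AlgebraicGeometry Topology TopologicalSpace
open AlgSp

namespace Groth.Agent.S10449

set_option backward.isDefEq.respectTransparency false
open CategoryTheory Groth.Agent.AlgSpc

/-- For an integral surjective morphism f : X ⟶ Y of algebraic spaces over a scheme S, the dimension of
Y is at most the dimension of X (together with the inequality dim X ≤ dim Y, which holds for every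
integral morphism, the two dimensions are equal). -/
theorem result {S : Scheme.{u}} {X Y : AlgSp.Space S} (f : X ⟶ Y)
    (hf : AlgSp.IsIntegralMor f.hom) (hs : AlgSp.IsSurjectiveMor f.hom) :
    AlgSp.dim Y.obj ≤ AlgSp.dim X.obj := by
  refine iSup_le fun U => iSup_le fun b => iSup_le fun hb => ?_
  have h := (repWith_integralHom_iff f.hom).1 hf
  obtain ⟨P, fst, snd, sq⟩ := exists_sq h.1 b
  haveI : IsIntegralHom snd.left := h.2 _ _ _ sq
  haveI : Surjective snd.left := surjective_of_sq hs sq
  refine (S7552.result snd.left snd.left.continuous snd.left.surjective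
    (Or.inl snd.left.isClosedMap.specializingMap)).trans ?_
  exact le_iSup_of_le P (le_iSup₂_of_le fst (repWith_of_isPullback sq.flip hb) le_rfl)

end Groth.Agent.S10449
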