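import Groth.Statements.S10482
import Groth.Agent.AlgSpLQFField.Basic
import Groth.Agent.AlgSpc.LocP

set_option autoImplicit false
set_option backward.isDefEq.respectTransparency false
universe u
open CategoryTheory CategoryTheory.Limits AlgebraicGeometry Topology TopologicalSpace
open AlgSp

namespace Groth.Agent.S10482

/-- (1) ⇔ (2): let k be a field and X an algebraic space over k. Then X is locally quasi-finite over k
if and only if X is locally of finite type over k of dimension at most 0. (The published statement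
says dimension 0; dimension at most 0 is used so that the empty space, whose dimension is the bottom
element, is covered by both sides.) -/
theorem result (k : Type u) [Field k] (X : AlgSp.Space (Spec (CommRingCat.of k))) (p : X.obj ⟶ (AlgSp.yon (Spec (CommRingCat.of k))).obj (Over.mk (𝟙 _))) :
    AlgSp.LocP (@LocallyQuasiFinite ⊓ @LocallyOfFiniteType : MorphismProperty Scheme.{u}) p ↔ AlgSp.LocP @LocallyOfFiniteType p ∧ AlgSp.dim X.obj ≤ 0 := by
  have e : ∀ {U : Over (Spec (CommRingCat.of k))} (a : (yon _).obj U ⟶ X.obj),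
      a ≫ p = (yon _).map (Groth.Agent.AlgSpc.pre (a ≫ p)) ≫ 𝟙 _ := fun a => by
    rw [Category.comp_id, Groth.Agent.AlgSpc.map_pre]
  constructor
  · intro h
    refine ⟨Groth.Agent.AlgSpc.locP_mono (fun _ _ f (hf : LocallyQuasiFinite f ∧ LocallyOfFiniteType f) => hf.2) h, ?_⟩
    refine iSup_le fun U => iSup_le fun a => iSup_le fun ha => ?_
    have h1 := h a (𝟙 _) _ ha (repWith_id _ _) (e a)
    haveI : LocallyOfFiniteType (Groth.Agent.AlgSpc.pre (a ≫ p)).left := h1.2
    exact (Groth.Agent.AlgSpLQFField.lqf_iff_dim _).1 h1.1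
  · rintro ⟨hft, hdim⟩ U V a b h ha hb w
    have h1 : LocallyOfFiniteType h.left := hft a b h ha hb w
    haveI : LocallyOfFiniteType (Groth.Agent.AlgSpc.pre (a ≫ p)).left := hft a (𝟙 _) _ ha (repWith_id _ _) (e a)
    have h2 : topologicalKrullDim ↥U.left ≤ 0 :=
      le_trans (le_iSup_of_le U (le_iSup_of_le a (le_iSup (fun _ : RepWith @Etale a => topologicalKrullDim ↥U.left) ha))) hdim
    haveI : LocallyQuasiFinite (Groth.Agent.AlgSpc.pre (a ≫ p)).left :=
      (Groth.Agent.AlgSpLQFField.lqf_iff_dim _).2 h2
    haveI : DiscreteTopology ↥U.left :=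
      Groth.Agent.AlgSpc.discreteTopology_of_lqf_to_field (Groth.Agent.AlgSpc.pre (a ≫ p)).left
    haveI := h1
    exact ⟨locallyQuasiFinite_iff_isDiscrete_preimage_singleton.2 fun x => ⟨inferInstance⟩, h1⟩

end Groth.Agent.S10482
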