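import Groth.Statements.S10451
import Groth.Agent.AlgSpLQFField.Basic
import Groth.Agent.AlgSpc.LocP
import Groth.Agent.S10482

set_option autoImplicit false
set_option backward.isDefEq.respectTransparency false
universe u
open CategoryTheory CategoryTheory.Limits AlgebraicGeometry Topology TopologicalSpace
open AlgSp

namespace Groth.Agent.S10451

/-- Let k be a field and X an algebraic space locally of finite type over k with dim X = 0. Then X is a
separated scheme and every quasi-compact open of X is affine. -/
theorem result (k : Type u) [Field k]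
    (X : AlgSp.Space (Spec (CommRingCat.of k))) (p : X.obj ⟶ (AlgSp.yon (Spec (CommRingCat.of k))).obj (Over.mk (𝟙 _)))
    (hp : AlgSp.LocP @LocallyOfFiniteType p) (hd : AlgSp.dim X.obj = 0) :
    ∃ (U : Over (Spec (CommRingCat.of k))) (_ : (AlgSp.yon (Spec (CommRingCat.of k))).obj U ≅ X.obj), U.left.IsSeparated ∧
      ∀ V : U.left.Opens, IsCompact (V : Set ↥U.left) → IsAffineOpen V := by
  have h := (S10482.result k X p).2 ⟨hp, le_of_eq hd⟩
  obtain ⟨U, ⟨R⟩⟩ := (Groth.Agent.AlgSpLQFField.isRepresentable_of_lqf_field X.property (𝟙 _) p h).has_representation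
  let i : (yon (Spec (CommRingCat.of k))).obj U ≅ X.obj :=
    (fullyFaithfulSheafToPresheaf _ _).preimageIso
      (NatIso.ofComponents (fun T => (Equiv.ulift.trans R.homEquiv).toIso) fun {T T'} g => by
        ext ⟨t⟩
        exact R.homEquiv_comp g.unop t)
  refine ⟨U, i, ?_⟩
  have hi : RepWith @Etale i.hom := Groth.Agent.AlgSpc.repWith_iso i.hom
  have h1 := h i.hom (𝟙 _) (Groth.Agent.AlgSpc.pre (i.hom ≫ p)) hi (repWith_id _ _) (by
    rw [Category.comp_id, Groth.Agent.AlgSpc.map_pre])
  haveI : LocallyQuasiFinite U.hom := by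
    rw [← Over.w (Groth.Agent.AlgSpc.pre (i.hom ≫ p))]
    simp only [Over.mk_hom]
    erw [Category.comp_id]
    exact h1.1
  haveI : LocallyOfFiniteType U.hom := by
    rw [← Over.w (Groth.Agent.AlgSpc.pre (i.hom ≫ p))]
    simp only [Over.mk_hom]
    erw [Category.comp_id]
    exact h1.2
  haveI : IsLocallyArtinian U.left := IsLocallyArtinian.of_locallyQuasiFinite U.hom
  haveI : LocallyQuasiFinite (pullback.fst U.hom U.hom ≫ U.hom) := inferInstance
  haveI : DiscreteTopology ↥(pullback U.hom U.hom) :=
    Groth.Agent.AlgSpc.discreteTopology_of_lqf_to_field (pullback.fst U.hom U.hom ≫ U.hom)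
  haveI : IsSeparated U.hom :=
    ⟨IsClosedImmersion.of_isPreimmersion _ (isClosed_discrete _)⟩
  refine ⟨⟨?_⟩, fun V hV => ?_⟩
  · rw [← terminal.comp_from U.hom]
    infer_instance
  · haveI : Finite ↥V.toScheme := hV.finite_of_discrete.to_subtype
    exact (inferInstance : IsAffine V.toScheme)

end Groth.Agent.S10451
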