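import Groth.Statements.S10466
import Groth.Agent.AlgSpConn.Field
-- import your own Groth.Agent.* helpers here

set_option backward.isDefEq.respectTransparency false
open Groth.Agent.AlgSpConn

set_option autoImplicit false
universe u
open CategoryTheory CategoryTheory.Limits AlgebraicGeometry Topology TopologicalSpace
open AlgSp

namespace Groth.Agent.S10466

/-- Let k be a field and X, Y algebraic spaces over k with X geometrically connected over k. Then the
projection X ×_k Y ⟶ Y induces a bijection between connected components of |X ×_k Y| and of |Y|. -/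
theorem result (k : Type u) [Field k]
    (X Y : AlgSp.Space (Spec (CommRingCat.of k))) (hX : (∀ (K : Type u) [Field K] [Algebra k K], ConnectedSpace (AlgSp.Points (X.obj ⨯ (AlgSp.yon (Spec (CommRingCat.of k))).obj (Over.mk (Spec.map (CommRingCat.ofHom (algebraMap k K)))))))) :
    Function.Bijective (Continuous.connectedComponentsMap
      (AlgSp.Points.continuous_map (Limits.prod.snd : X.obj ⨯ Y.obj ⟶ Y.obj))) := by
  obtain ⟨f, g, sq⟩ := isPullback_prod X.obj Y.obj
  refine bijective_components _ (isOpenMap_snd X.property Y.property sq) fun y => ?_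
  induction y using Points.ind with
  | h p =>
  letI : Algebra k p.K := (Spec.preimage p.pt.hom).hom.toAlgebra
  obtain ⟨ht⟩ := isTerminal_o (k := k)
  obtain ⟨f', g', sqQ⟩ := isPullback_prod X.obj ((AlgSp.yon _).obj p.pt)
  have sqQ' : IsPullback (Limits.prod.fst : X.obj ⨯ (AlgSp.yon _).obj p.pt ⟶ X.obj) Limits.prod.snd f (p.toHom ≫ g) := by
    rw [show f = f' from ht.hom_ext _ _, show p.toHom ≫ g = g' from ht.hom_ext _ _]; exact sqQ
  have e : p.pt = fld k p.K := congrArg Over.mk (Spec.map_preimage p.pt.hom).symm
  haveI : ConnectedSpace (AlgSp.Points (X.obj ⨯ (AlgSp.yon _).obj p.pt)) := by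
    rw [e]; exact hX p.K
  exact isConnected_fibre sq p sqQ'

end Groth.Agent.S10466
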