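import Groth.Statements.S10467
import Groth.Agent.AlgSpConn.Field
-- import your own Groth.Agent.* helpers here

set_option backward.isDefEq.respectTransparency false
open Groth.Agent.AlgSpConn

set_option autoImplicit false
universe u
open CategoryTheory CategoryTheory.Limits AlgebraicGeometry Topology TopologicalSpace
open AlgSp

namespace Groth.Agent.S10467

/-- Let k be a separably closed field, K an extension field of k and X an algebraic space over k. Then
X_K ⟶ X induces a bijection of connected components. -/
theorem result (k : Type u) [Field k] [IsSepClosed k]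
    (X : AlgSp.Space (Spec (CommRingCat.of k))) (K : Type u) [Field K] [Algebra k K] :
    Function.Bijective (Continuous.connectedComponentsMap
      (AlgSp.Points.continuous_map (Limits.prod.fst : (X.obj ⨯ (AlgSp.yon (Spec (CommRingCat.of k))).obj (Over.mk (Spec.map (CommRingCat.ofHom (algebraMap k K))))) ⟶ X.obj))) := by
  obtain ⟨ht⟩ := isTerminal_o (k := k)
  obtain ⟨f, g, sq⟩ := isPullback_prod X.obj ((AlgSp.yon _).obj (fld k K))
  have e : ptObj (Spec.map (CommRingCat.ofHom (algebraMap k K)) ≫ 𝟙 _) = fld k K := by rw [Category.comp_id]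
  have key : ∀ (T : Over (Spec (CommRingCat.of k))), T = ptObj (Spec.map (CommRingCat.ofHom (algebraMap k K)) ≫ 𝟙 _) →
      IsOpenMap (AlgSp.Points.map (Limits.prod.fst : X.obj ⨯ (AlgSp.yon _).obj T ⟶ X.obj)) ∧
        ∀ y, IsConnected (AlgSp.Points.map (Limits.prod.fst : X.obj ⨯ (AlgSp.yon _).obj T ⟶ X.obj) ⁻¹' {y}) := by
    rintro T rfl
    obtain ⟨f₁, g₁, sq₁⟩ := isPullback_prod X.obj ((AlgSp.yon _).obj (ptObj (Spec.map (CommRingCat.ofHom (algebraMap k K)) ≫ 𝟙 _)))
    rw [show g₁ = (AlgSp.yon _).map (extHom k K (𝟙 _)) from ht.hom_ext _ _] at sq₁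
    exact open_connected_fibres X.property sq₁.flip
  obtain ⟨ho, hf⟩ := key _ e.symm
  exact bijective_components _ ho hf

end Groth.Agent.S10467
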