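import Groth.Statements.S10470
import Groth.Agent.AlgSpc.Universal
import Mathlib.FieldTheory.Normal.Defs
import Mathlib.FieldTheory.Galois.Basic
import Mathlib.AlgebraicGeometry.Morphisms.UniversallyClosed
import Mathlib.AlgebraicGeometry.Morphisms.Integral

set_option backward.isDefEq.respectTransparency false
set_option linter.style.haveILetI false

set_option autoImplicit false
universe u
open CategoryTheory CategoryTheory.Limits AlgebraicGeometry Topology TopologicalSpace
open AlgSp

namespace Groth.Agent.S10470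

/-- Let k be a field, K/k a (possibly infinite) Galois extension and X an algebraic space over k. A
closed subset of |X_K| stable under the action of every element of Gal(K/k) is the inverse image of
a closed subset of |X|. -/
theorem result (k : Type u) [Field k] (X : AlgSp.Space (Spec (CommRingCat.of k))) (K : Type u) [Field K] [Algebra k K] [IsGalois k K]
    (T : Set (AlgSp.Points (X.obj ⨯ (AlgSp.yon (Spec (CommRingCat.of k))).obj (Over.mk (Spec.map (CommRingCat.ofHom (algebraMap k K))))))) (hT : IsClosed T)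
    (hσ : ∀ (σ : K ≃ₐ[k] K) (g : (Over.mk (Spec.map (CommRingCat.ofHom (algebraMap k K))) : Over (Spec (CommRingCat.of k))) ⟶ Over.mk (Spec.map (CommRingCat.ofHom (algebraMap k K)))),
      g.left = Spec.map (CommRingCat.ofHom (σ : K ≃ₐ[k] K).toRingHom) →
        AlgSp.Points.map (Limits.prod.map (𝟙 X.obj) ((AlgSp.yon (Spec (CommRingCat.of k))).map g)) '' T = T) :
    ∃ T₀ : Set (AlgSp.Points X.obj), IsClosed T₀ ∧
      AlgSp.Points.map (Limits.prod.fst : (X.obj ⨯ (AlgSp.yon (Spec (CommRingCat.of k))).obj (Over.mk (Spec.map (CommRingCat.ofHom (algebraMap k K))))) ⟶ X.obj) ⁻¹' T₀ = T := by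
  let sK := Spec.map (CommRingCat.ofHom (algebraMap k K))
  let SK : Over (Spec (CommRingCat.of k)) := Over.mk sK
  let pr : X.obj ⨯ (yon _).obj SK ⟶ X.obj := Limits.prod.fst
  haveI : IsIntegralHom sK :=
    (IsIntegralHom.SpecMap_iff (φ := CommRingCat.ofHom (algebraMap k K))).2
      (algebraMap_isIntegral_iff.mpr inferInstance)
  let t : IsTerminal ((yon (Spec (CommRingCat.of k))).obj (Over.mk (𝟙 _))) :=
    Over.mkIdTerminal.isTerminalObj (yon _)
  have sq : IsPullback pr Limits.prod.snd (t.from X.obj) (t.from ((yon _).obj SK)) :=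
    IsPullback.of_is_product (limit.isLimit _) t
  have hrep : RepWith @UniversallyClosed (t.from ((yon _).obj SK)) := by
    rw [show t.from ((yon _).obj SK) = (yon _).map (Over.homMk sK (Category.comp_id _) : SK ⟶ Over.mk (𝟙 _)) from
      t.hom_ext _ _]
    exact (repWith_yon_map_iff _ _).2 (inferInstanceAs (UniversallyClosed sK))
  have hcl : IsClosedMap (Points.map pr) :=
    Groth.Agent.AlgSpc.isClosedMap_map_of_repWith (fun _ _ f (_ : UniversallyClosed f) => f.isClosedMap)
      (Groth.Agent.AlgSpc.repWith_of_isPullback sq.flip hrep)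
  refine ⟨Points.map pr '' T, hcl _ hT, Set.Subset.antisymm ?_ (Set.subset_preimage_image _ _)⟩
  rintro y ⟨x, hx, hxy⟩
  induction x using Points.ind with
  | h p =>
  induction y using Points.ind with
  | h q =>
  obtain ⟨Ω, _, w, a, b, hab⟩ := Points.mk_eq_mk_iff.1 hxy
  let a' : Over.mk w ⟶ p.pt := a
  let b' : Over.mk w ⟶ q.pt := b
  let P := (yon _).map a' ≫ p.toHom
  let Q := (yon _).map b' ≫ q.toHom
  have hP : Points.ofPt P (IsLocalRing.closedPoint Ω) = Points.mk p :=
    (Groth.Agent.AlgSpc.ofPt_comp a' p.toHom _).trans (Points.ofPt_toHom p _)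
  have hQ : Points.ofPt Q (IsLocalRing.closedPoint Ω) = Points.mk q :=
    (Groth.Agent.AlgSpc.ofPt_comp b' q.toHom _).trans (Points.ofPt_toHom q _)
  have w' : P ≫ pr = Q ≫ pr :=
    calc P ≫ pr = (yon _).map a' ≫ (p.toHom ≫ pr) := Category.assoc _ _ _
      _ = (J _).uliftYonedaEquiv.symm (X.obj.obj.map a.op (p.map pr).val) :=
          (congrArg ((yon _).map a' ≫ ·) (FieldPt.toHom_map pr p).symm).trans
            (Groth.Agent.AlgSpc.toHom_map_eq (p.map pr) a)
      _ = (J _).uliftYonedaEquiv.symm (X.obj.obj.map b.op (q.map pr).val) := congrArg _ hab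
      _ = (yon _).map b' ≫ (q.toHom ≫ pr) :=
          ((congrArg ((yon _).map b' ≫ ·) (FieldPt.toHom_map pr q).symm).trans
            (Groth.Agent.AlgSpc.toHom_map_eq (q.map pr) b)).symm
      _ = Q ≫ pr := (Category.assoc _ _ _).symm
  let u := Groth.Agent.AlgSpc.pre (P ≫ Limits.prod.snd)
  let v := Groth.Agent.AlgSpc.pre (Q ≫ Limits.prod.snd)
  obtain ⟨τ₁, hτ₁⟩ := Spec.map_surjective u.left
  obtain ⟨τ₂, hτ₂⟩ := Spec.map_surjective v.left
  have he : CommRingCat.ofHom (algebraMap k K) ≫ τ₁ = CommRingCat.ofHom (algebraMap k K) ≫ τ₂ := Spec.map_injective (by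
    rw [Spec.map_comp, Spec.map_comp, hτ₁, hτ₂]
    exact (Over.w u).trans (Over.w v).symm)
  letI : Algebra k Ω := (τ₁.hom.comp (algebraMap k K)).toAlgebra
  letI : Algebra K Ω := τ₁.hom.toAlgebra
  haveI : IsScalarTower k K Ω := IsScalarTower.of_algebraMap_eq' rfl
  let t₂ : K →ₐ[k] Ω :=
    { τ₂.hom with commutes' := fun r => (congrArg (fun m : CommRingCat.of k ⟶ CommRingCat.of Ω => m.hom r) he).symm }
  obtain ⟨σ, hσ'⟩ : ∃ σ : K ≃ₐ[k] K, (IsScalarTower.toAlgHom k K Ω).comp σ.toAlgHom = t₂ :=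
    ⟨Normal.algHomEquivAut k Ω K t₂, (Normal.algHomEquivAut k Ω K).left_inv t₂⟩
  have hστ : CommRingCat.ofHom σ.toRingHom ≫ τ₁ = τ₂ := by
    apply CommRingCat.hom_ext
    exact RingHom.ext fun z => congrArg (fun m : K →ₐ[k] Ω => m z) hσ'
  let g : SK ⟶ SK := Over.homMk (Spec.map (CommRingCat.ofHom σ.toRingHom)) (by
    show Spec.map _ ≫ sK = sK
    rw [← Spec.map_comp, ← CommRingCat.ofHom_comp]
    congr 2
    exact σ.toAlgHom.comp_algebraMap)
  have hPQ : P ≫ Limits.prod.map (𝟙 X.obj) ((yon _).map g) = Q := by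
    apply Limits.prod.hom_ext
    · rw [Category.assoc, Limits.prod.map_fst, Category.comp_id]
      exact w'
    · rw [Category.assoc, Limits.prod.map_snd, ← Category.assoc, ← Groth.Agent.AlgSpc.map_pre (P ≫ Limits.prod.snd),
        ← Functor.map_comp, ← Groth.Agent.AlgSpc.map_pre (Q ≫ Limits.prod.snd)]
      congr 1
      ext1
      show u.left ≫ Spec.map _ = v.left
      rw [← hτ₁, ← hτ₂, ← Spec.map_comp, hστ]
  rw [← hσ σ g rfl]
  refine ⟨Points.mk p, hx, ?_⟩
  rw [← hP, ← hQ, Points.map_ofPt, hPQ]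

end Groth.Agent.S10470
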