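import Groth.Statements.S10474
import Groth.Agent.AlgSpGeomRed.Space
-- import your own Groth.Agent.* helpers here

set_option backward.isDefEq.respectTransparency false
open Groth.Agent.AlgSpGeomRed

set_option autoImplicit false
universe u
open CategoryTheory CategoryTheory.Limits AlgebraicGeometry Topology TopologicalSpace
open AlgSp

namespace Groth.Agent.S10474

/-- (2) ⇒ (3): let k be a field and X an algebraic space over k. If some surjective etale chart U ⟶ X
from a scheme has U geometrically reduced over k, then every scheme etale over X is geometrically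
reduced over k. -/
theorem result (k : Type u) [Field k] (X : AlgSp.Space (Spec (CommRingCat.of k)))
    (U : Over (Spec (CommRingCat.of k))) (a : (AlgSp.yon (Spec (CommRingCat.of k))).obj U ⟶ X.obj) (ha : AlgSp.RepWith @Etale a)
    (hs : AlgSp.RepWith @Surjective a) (hU : ∀ u : ↥U.left, FBase.IsGeomReducedAt U.hom u)
    (V : Over (Spec (CommRingCat.of k))) (b : (AlgSp.yon (Spec (CommRingCat.of k))).obj V ⟶ X.obj) (hb : AlgSp.RepWith @Etale b) (v : ↥V.left) :
    FBase.IsGeomReducedAt V.hom v := by
  obtain ⟨z, hz⟩ := Groth.Agent.AlgSpc.surjective_map_of_repWith hs (Points.ofPt b v)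
  obtain ⟨u, rfl⟩ : ∃ u, Points.ofScheme U u = z := ⟨_, Points.ofScheme_toScheme U z⟩
  rw [Points.map_ofPt, Category.id_comp] at hz
  exact (gr_iff_of_chart b hb v).1 (hz ▸ (gr_iff_of_chart a ha u).2 (hU u))

end Groth.Agent.S10474
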