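import Groth.Statements.S10475
import Groth.Agent.AlgSpGeomRed.Space
-- import your own Groth.Agent.* helpers here

set_option backward.isDefEq.respectTransparency false
open Groth.Agent.AlgSpGeomRed

set_option autoImplicit false
universe u
open CategoryTheory CategoryTheory.Limits AlgebraicGeometry Topology TopologicalSpace
open AlgSp

namespace Groth.Agent.S10475

/-- Let k be a perfect field and X a reduced algebraic space over k. Then X is geometrically reduced
over k (geometrically reduced at every point). -/
theorem result (k : Type u) [Field k] [PerfectField k]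
    (X : AlgSp.Space (Spec (CommRingCat.of k))) (hX : AlgSp.EtaleLocally (fun U => IsReduced U) X.obj) (x : AlgSp.Points X.obj) :
    (∃ (U : Over (Spec (CommRingCat.of k))) (a : (AlgSp.yon (Spec (CommRingCat.of k))).obj U ⟶ X.obj) (u : ↥U.left),
      AlgSp.RepWith @Etale a ∧ AlgSp.Points.ofPt a u = x ∧ FBase.IsGeomReducedAt U.hom u) := by
  obtain ⟨U, a, u, ha, hu⟩ := exists_chart_pt X.property x
  refine ⟨U, a, u, ha, hu, ?_⟩
  haveI := isReduced_of_chart hX a ha
  haveI : IsIso (Spec.map (CommRingCat.ofHom (algebraMap k k))) := by
    rw [show CommRingCat.ofHom (algebraMap k k) = 𝟙 (CommRingCat.of k) from rfl, Spec.map_id]; infer_instance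
  haveI : IsIso (FBase.bcπ U.hom k) := pullback_fst_iso_of_right_iso U.hom _
  haveI : IsReduced (FBase.bc U.hom k) := isReduced_of_isOpenImmersion (FBase.bcπ U.hom k)
  exact forall_geomRedAt_of_perfect U.hom k u

end Groth.Agent.S10475
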