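import Groth.Statements.S10481
import Groth.Agent.AlgSpGeomRed.Space
-- import your own Groth.Agent.* helpers here

set_option backward.isDefEq.respectTransparency false
open Groth.Agent.AlgSpGeomRed

set_option autoImplicit false
universe u
open CategoryTheory CategoryTheory.Limits AlgebraicGeometry Topology TopologicalSpace
open AlgSp

namespace Groth.Agent.S10481

/-- Let k be a field, f : X ⟶ Y a morphism of algebraic spaces over k and x a point of X at which f is
etale. Then X is geometrically reduced at x if and only if Y is geometrically reduced at the image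
of x. -/
theorem result (k : Type u) [Field k] {X Y : AlgSp.Space (Spec (CommRingCat.of k))} (f : X ⟶ Y)
    (x : AlgSp.Points X.obj)
    (he : AlgSp.HasAtMor (fun U _ h u => ∃ W : U.Opens, u ∈ W ∧ Etale (W.ι ≫ h)) f.hom x) :
    (∃ (U : Over (Spec (CommRingCat.of k))) (a : (AlgSp.yon (Spec (CommRingCat.of k))).obj U ⟶ X.obj) (u : ↥U.left),
      AlgSp.RepWith @Etale a ∧ AlgSp.Points.ofPt a u = x ∧ FBase.IsGeomReducedAt U.hom u) ↔ (∃ (U : Over (Spec (CommRingCat.of k))) (a : (AlgSp.yon (Spec (CommRingCat.of k))).obj U ⟶ Y.obj) (u : ↥U.left),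
      AlgSp.RepWith @Etale a ∧ AlgSp.Points.ofPt a u = (AlgSp.Points.map f.hom x) ∧ FBase.IsGeomReducedAt U.hom u) := by
  obtain ⟨U, V, a, b, h, u, ha, hb, w, rfl, W, huW, hW⟩ := he
  let W' : Over (Spec (CommRingCat.of k)) := Over.mk (W.ι ≫ U.hom)
  let j : W' ⟶ U := Over.homMk W.ι rfl
  have hh : h.left ≫ V.hom = U.hom := Over.w h
  change GR X.obj (Points.ofPt a u) ↔ GR Y.obj (Points.map f.hom (Points.ofPt a u))
  rw [Points.map_ofPt, w, Groth.Agent.AlgSpc.ofPt_comp, gr_iff_of_chart a ha u, gr_iff_of_chart b hb]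
  have e := geomRedAt_iff_etale (W.ι ≫ h.left) (by rw [Category.assoc, hh]; rfl : (W.ι ≫ h.left) ≫ V.hom = W'.hom)
    (⟨u, huW⟩ : W.toScheme)
  have e' := geomRedAt_iff_etale W.ι (rfl : W.ι ≫ U.hom = W'.hom) (⟨u, huW⟩ : W.toScheme)
  exact e'.symm.trans e

end Groth.Agent.S10481
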