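import Groth.Statements.S10483
import Groth.Agent.AlgSpLQFField.Basic
import Groth.Agent.AlgSpc.LocP

set_option autoImplicit false
set_option backward.isDefEq.respectTransparency false
universe u
open CategoryTheory CategoryTheory.Limits AlgebraicGeometry Topology TopologicalSpace
open AlgSp

namespace Groth.Agent.S10483

/-- (1) ⇔ (5): let k be a field and X an algebraic space over k. Then X is locally quasi-finite over k
if and only if X decomposes as a disjoint union of spectra of finite-dimensional Artinian local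
k-algebras: X is a scheme every point of which has an affine open neighbourhood with Artinian local
coordinate ring, finite over k. -/
theorem result (k : Type u) [Field k] (X : AlgSp.Space (Spec (CommRingCat.of k))) (p : X.obj ⟶ (AlgSp.yon (Spec (CommRingCat.of k))).obj (Over.mk (𝟙 _))) :
    AlgSp.LocP (@LocallyQuasiFinite ⊓ @LocallyOfFiniteType : MorphismProperty Scheme.{u}) p ↔
      ∃ (U : Over (Spec (CommRingCat.of k))) (_ : (AlgSp.yon (Spec (CommRingCat.of k))).obj U ≅ X.obj), ∀ u : ↥U.left, ∃ V : U.left.Opens,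
        u ∈ V ∧ IsAffineOpen V ∧ IsArtinianRing ↥Γ(U.left, V) ∧ IsLocalRing ↥Γ(U.left, V) ∧
          IsFinite (V.ι ≫ U.hom) := by
  constructor
  · intro h
    obtain ⟨U, ⟨R⟩⟩ := (Groth.Agent.AlgSpLQFField.isRepresentable_of_lqf_field X.property (𝟙 _) p h).has_representation
    let i : (yon (Spec (CommRingCat.of k))).obj U ≅ X.obj :=
      (fullyFaithfulSheafToPresheaf _ _).preimageIso
        (NatIso.ofComponents (fun T => (Equiv.ulift.trans R.homEquiv).toIso) fun {T T'} g => by
          ext ⟨t⟩
          exact R.homEquiv_comp g.unop t)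
    refine ⟨U, i, fun u => ?_⟩
    have hi : RepWith @Etale i.hom := Groth.Agent.AlgSpc.repWith_iso i.hom
    have h1 := h i.hom (𝟙 _) (Groth.Agent.AlgSpc.pre (i.hom ≫ p)) hi (repWith_id _ _) (by
      rw [Category.comp_id, Groth.Agent.AlgSpc.map_pre])
    haveI : LocallyQuasiFinite U.hom := by
      rw [← Over.w (Groth.Agent.AlgSpc.pre (i.hom ≫ p))]
      simp only [Over.mk_hom]
      erw [Category.comp_id]
      exact h1.1
    haveI : LocallyOfFiniteType U.hom := by
      rw [← Over.w (Groth.Agent.AlgSpc.pre (i.hom ≫ p))]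
      simp only [Over.mk_hom]
      erw [Category.comp_id]
      exact h1.2
    haveI : IsLocallyArtinian U.left := IsLocallyArtinian.of_locallyQuasiFinite U.hom
    let V : U.left.Opens := ⟨{u}, isOpen_discrete _⟩
    haveI : Subsingleton ↥V.toScheme := inferInstanceAs (Subsingleton ({u} : Set U.left))
    have hV : IsAffineOpen V := (inferInstance : IsAffine V.toScheme)
    haveI : IsArtinianRing ↥Γ(U.left, V) := IsLocallyArtinian.isArtinianRing_presheaf_obj ⟨V, hV⟩
    haveI : Subsingleton (PrimeSpectrum ↥Γ(U.left, V)) :=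
      hV.isoSpec.inv.homeomorph.injective.subsingleton
    haveI : Nonempty (PrimeSpectrum ↥Γ(U.left, V)) := ⟨hV.isoSpec.hom ⟨u, rfl⟩⟩
    haveI : Nontrivial ↥Γ(U.left, V) := PrimeSpectrum.nonempty_iff_nontrivial.1 inferInstance
    refine ⟨V, rfl, hV, inferInstance, Groth.Agent.AlgSpLQFField.isLocalRing_of_subsingleton_spec, ?_⟩
    haveI : QuasiCompact (V.ι ≫ U.hom) := ⟨fun O _ _ => (Set.toFinite _).isCompact⟩
    exact IsFinite.of_locallyQuasiFinite _
  · rintro ⟨U, i, hU⟩ A V a b h ha hb w
    choose W hW _ _ _ hfin using hU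
    have hcov : iSup W = ⊤ := top_le_iff.1 fun u _ => TopologicalSpace.Opens.mem_iSup.2 ⟨u, hW u⟩
    haveI : LocallyQuasiFinite U.hom :=
      (IsZariskiLocalAtSource.iff_of_iSup_eq_top (P := @LocallyQuasiFinite) W hcov).2 fun u => by
        haveI := hfin u; infer_instance
    haveI : LocallyOfFiniteType U.hom :=
      (IsZariskiLocalAtSource.iff_of_iSup_eq_top (P := @LocallyOfFiniteType) W hcov).2 fun u => by
        haveI := hfin u; infer_instance
    let g : A ⟶ U := Groth.Agent.AlgSpc.pre (a ≫ i.inv)
    have hg : Etale g.left := (repWith_yon_map_iff @Etale g).1 (by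
      rw [Groth.Agent.AlgSpc.map_pre]
      exact Groth.Agent.AlgSpc.repWith_comp ha (Groth.Agent.AlgSpc.repWith_iso i.inv))
    have hA : A.hom = g.left ≫ U.hom := (Over.w g).symm
    have hh : h.left ≫ V.hom = g.left ≫ U.hom := by rw [Over.w]; exact hA
    haveI := Groth.Agent.AlgSpc.lqf_of_etale g.left
    haveI : LocallyQuasiFinite (h.left ≫ V.hom) := by rw [hh]; infer_instance
    haveI : LocallyOfFiniteType (h.left ≫ V.hom) := by rw [hh]; infer_instance
    exact ⟨LocallyQuasiFinite.of_comp h.left V.hom, locallyOfFiniteType_of_comp h.left V.hom⟩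

end Groth.Agent.S10483
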