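import Groth.Statements.S10489
import Groth.Agent.AlgSpc.LocP
import Groth.Agent.SmoothStalk.Basic

set_option autoImplicit false
universe u
open CategoryTheory CategoryTheory.Limits AlgebraicGeometry Topology TopologicalSpace
open AlgSp

namespace Groth.Agent.S10489

set_option backward.isDefEq.respectTransparency false
open CategoryTheory CategoryTheory.Limits Groth.Agent.AlgSpc

/-- Let k be a field and X an algebraic space which is smooth over k. Then X is regular as an algebraic
space. -/
theorem result (k : Type u) [Field k] (X : AlgSp.Space (Spec (CommRingCat.of k))) (p : X.obj ⟶ (AlgSp.yon (Spec (CommRingCat.of k))).obj (Over.mk (𝟙 _))) (hp : AlgSp.LocP @Smooth p) :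
    AlgSp.EtaleLocally (fun U => IsLocallyNoetherian U ∧ ∀ u : ↥U, IsRegularLocalRing ↥(U.presheaf.stalk u)) X.obj := by
  obtain ⟨U, a, ha, has⟩ := X.property.atlas
  haveI : Smooth (pre (a ≫ p)).left :=
    hp a (𝟙 _) (pre (a ≫ p)) ha (AlgSp.repWith_id _ _) (by rw [Category.comp_id, map_pre])
  haveI : IsLocallyNoetherian (Over.mk (𝟙 (Spec (CommRingCat.of k)))).left :=
    inferInstanceAs (IsLocallyNoetherian (Spec (CommRingCat.of k)))
  haveI := LocallyOfFiniteType.isLocallyNoetherian (pre (a ≫ p)).left
  refine ⟨U, a, ha, has, inferInstance, fun u => ?_⟩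
  refine (SmoothStalk.regular_stalk (pre (a ≫ p)).left u
    ((pre (a ≫ p)).left.smoothLocus_eq_top ▸ trivial)).2 ?_
  let _ : Field ((Over.mk (𝟙 (Spec (CommRingCat.of k)))).left.presheaf.stalk ((pre (a ≫ p)).left u)) :=
    (isField_stalk_of_closure_mem_irreducibleComponents (X := (Spec (CommRingCat.of k))) _ (by
      rw [irreducibleComponents_eq_singleton, Set.mem_singleton_iff]
      exact Set.eq_univ_of_forall fun y => Subsingleton.elim (α := PrimeSpectrum k) _ y ▸ subset_closure rfl)).toField
  infer_instance

end Groth.Agent.S10489
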