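import Groth.Statements.S10491
import Groth.Agent.S10202
import Mathlib.Topology.NoetherianSpace

set_option autoImplicit false
set_option backward.isDefEq.respectTransparency false
universe u
open CategoryTheory CategoryTheory.Limits AlgebraicGeometry Topology TopologicalSpace
open AlgSp

namespace Groth.Agent.S10491

/-- Let X be an algebraic space over a scheme S which is locally Noetherian, and T ⊂ |X| a closed
subset. Then every point of |X| has a neighbourhood meeting only finitely many irreducible
components of T. -/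
theorem result {S : Scheme.{u}} (X : AlgSp.Space S)
    (hX : AlgSp.IsLocNoethSp X.obj) (T : Set (AlgSp.Points X.obj)) (hT : IsClosed T) :
    LocallyFinite (fun Z : ↥(irreducibleComponents ↥T) => ((↑) : ↥T → AlgSp.Points X.obj) '' (Z : Set ↥T)) := by
  intro x
  obtain ⟨W, hW, hxW, hn⟩ := S10202.result X hX x
  refine ⟨W, hW.mem_nhds hxW, ?_⟩
  have ho : TopologicalSpace.NoetherianSpace ↥(Subtype.val ⁻¹' W : Set ↥T) :=
    Topology.IsInducing.noetherianSpace (α := W) (i := fun t => ⟨t.1.1, t.2⟩)
      ⟨by rw [instTopologicalSpaceSubtype, instTopologicalSpaceSubtype, instTopologicalSpaceSubtype,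
        induced_compose, induced_compose]; rfl⟩
  let O : Set ↥T := Subtype.val ⁻¹' W
  have hO : IsOpen O := hW.preimage continuous_subtype_val
  refine Set.Finite.of_injOn (f := fun Z : ↥(irreducibleComponents ↥T) => (Subtype.val ⁻¹' (Z : Set ↥T) : Set ↥O))
    (t := irreducibleComponents ↥O) ?_ ?_ TopologicalSpace.NoetherianSpace.finite_irreducibleComponents
  · rintro Z ⟨-, ⟨t, ht, rfl⟩, htW⟩
    exact preimage_mem_irreducibleComponents Z.2 hO.isOpenEmbedding_subtypeVal ⟨t, ht, ⟨⟨t, htW⟩, rfl⟩⟩
  · rintro Z hZ Z' hZ' heq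
    have key : ∀ Z : ↥(irreducibleComponents ↥T),
        ((fun Z : ↥(irreducibleComponents ↥T) => ((↑) : ↥T → AlgSp.Points X.obj) '' (Z : Set ↥T)) Z ∩ W).Nonempty →
        closure ((Z : Set ↥T) ∩ O) = Z := by
      rintro ⟨Z, hZ⟩ ⟨-, ⟨t, ht, rfl⟩, htW⟩
      exact subset_antisymm (closure_minimal Set.inter_subset_left (isClosed_of_mem_irreducibleComponents Z hZ))
        (subset_closure_inter_of_isPreirreducible_of_isOpen hZ.prop.isPreirreducible hO ⟨t, ht, htW⟩)
    apply Subtype.ext
    rw [← key Z hZ, ← key Z' hZ']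
    congr 1
    have h2 := congrArg (Subtype.val '' ·) heq
    simp only [Subtype.image_preimage_coe] at h2
    rwa [Set.inter_comm, Set.inter_comm (Z' : Set ↥T)]

end Groth.Agent.S10491
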