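import Groth.Statements.S10494
import Groth.Agent.AlgSpGeomRed.Space
import Groth.Prelude.Def_AlgSpOX

set_option autoImplicit false
set_option backward.isDefEq.respectTransparency false
universe u
open CategoryTheory CategoryTheory.Limits AlgebraicGeometry Topology TopologicalSpace
open AlgSp

namespace Groth.Agent.S10494

/-- Let X be an integral algebraic space over a scheme S. Then Γ(X, O_X) is a domain. -/
theorem result {S : Scheme.{u}} (X : AlgSp.Space S)
    (hX : AlgSp.IsIntegralSp X.obj) : IsDomain ↥(AlgSp.gsectEt (AlgSp.OEt X.obj)) := by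
  obtain ⟨hred, -, hirr⟩ := hX
  haveI := hirr
  let ev : ∀ E : EtOver X.obj, ↥(gsectEt (OEt X.obj)) →+* Γ(E.obj.left.left, ⊤) := fun E =>
    (ULift.ringEquiv : ULift.{u + 1} Γ(E.obj.left.left, ⊤) ≃+* _).toRingHom.comp
      (limit.π (OEt X.obj).obj (Opposite.op E)).hom
  have ev_w : ∀ {E E' : EtOver X.obj} (g : E ⟶ E') (f : ↥(gsectEt (OEt X.obj))),
      g.hom.left.left.appTop.hom (ev E' f) = ev E f := by
    intro E E' g f
    have h1 : (OEt X.obj).obj.map g.op ((limit.π (OEt X.obj).obj (Opposite.op E')).hom f) =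
        (limit.π (OEt X.obj).obj (Opposite.op E)).hom f :=
      congrArg (fun φ => φ.hom f) (limit.w (OEt X.obj).obj g.op)
    exact congrArg ULift.down h1
  have hne : ∀ f : ↥(gsectEt (OEt X.obj)), f ≠ 0 →
      ∃ (E : EtOver X.obj) (u : ↥E.obj.left.left), u ∈ E.obj.left.left.basicOpen (ev E f) := by
    intro f hf
    by_contra hno
    push Not at hno
    refine hf (Concrete.limit_ext _ _ _ fun E => ?_)
    haveI : IsReduced E.unop.obj.left.left := Groth.Agent.AlgSpGeomRed.isReduced_of_chart hred _ E.unop.property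
    have h1 : ev E.unop f = 0 :=
      (basicOpen_eq_bot_iff _).1 (TopologicalSpace.Opens.ext (Set.eq_empty_of_forall_notMem (hno E.unop)))
    refine ULift.ext _ _ (h1.trans ?_)
    exact (map_zero (ev E.unop)).symm
  haveI : Nontrivial ↥(gsectEt (OEt X.obj)) := by
    obtain ⟨x⟩ := (inferInstance : Nonempty (Points X.obj))
    obtain ⟨U, a, u, ha, -⟩ := Groth.Agent.AlgSpGeomRed.exists_chart_pt X.property x
    refine ⟨1, 0, fun h => ?_⟩
    have h1 := congrArg (ev (EtOver.mk a ha)) h
    rw [map_one, map_zero] at h1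
    have h2 : u ∈ U.left.basicOpen (1 : Γ(U.left, ⊤)) := by
      rw [Scheme.basicOpen_of_isUnit _ isUnit_one]; trivial
    have h3 : U.left.basicOpen (1 : Γ(U.left, ⊤)) = U.left.basicOpen (0 : Γ(U.left, ⊤)) := congrArg _ h1
    rw [h3, Scheme.basicOpen_zero] at h2
    exact h2
  haveI : NoZeroDivisors ↥(gsectEt (OEt X.obj)) := by
    refine ⟨fun {f g} hfg => ?_⟩
    by_contra hno
    push Not at hno
    obtain ⟨E, u, hu⟩ := hne f hno.1
    obtain ⟨E', v, hv⟩ := hne g hno.2
    obtain ⟨x, ⟨u', hu', hx⟩, ⟨v', hv', rfl⟩⟩ := nonempty_preirreducible_inter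
      (Groth.Agent.AlgSpc.isOpenMap_ofPt E.property _ (E.obj.left.left.basicOpen (ev E f)).isOpen)
      (Groth.Agent.AlgSpc.isOpenMap_ofPt E'.property _ (E'.obj.left.left.basicOpen (ev E' g)).isOpen)
      ⟨_, u, hu, rfl⟩ ⟨_, v, hv, rfl⟩
    obtain ⟨W, h₁, h₂, w, he₁, -, rfl, rfl, hw⟩ :=
      Groth.Agent.AlgSpGeomRed.exists_common E.property E'.property u' v' hx
    have hc : RepWith @Etale ((yon S).map h₁ ≫ E.obj.hom) :=
      Groth.Agent.AlgSpc.repWith_comp ((repWith_yon_map_iff _ _).2 he₁) E.property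
    have e1 : h₁.left.appTop.hom (ev E f) = ev (EtOver.mk _ hc) f :=
      ev_w (EtOver.homMk (E := EtOver.mk _ hc) (E' := E) h₁ rfl) f
    have e2 : h₂.left.appTop.hom (ev E' g) = ev (EtOver.mk _ hc) g :=
      ev_w (EtOver.homMk (E := EtOver.mk _ hc) (E' := E') h₂ hw.symm) g
    have h4 : w ∈ W.left.basicOpen (h₁.left.appTop.hom (ev E f) * h₂.left.appTop.hom (ev E' g)) := by
      rw [Scheme.basicOpen_mul]
      refine ⟨?_, ?_⟩
      · rw [← Scheme.preimage_basicOpen_top]; exact hu'
      · rw [← Scheme.preimage_basicOpen_top]; exact hv'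
    have h5 : h₁.left.appTop.hom (ev E f) * h₂.left.appTop.hom (ev E' g) = 0 := by
      rw [e1, e2]
      exact ((map_mul _ _ _).symm.trans (congrArg _ hfg)).trans (map_zero _)
    rw [h5, Scheme.basicOpen_zero] at h4
    exact h4
  exact NoZeroDivisors.to_isDomain _

end Groth.Agent.S10494
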