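import Groth.Statements.S10496
import Groth.Agent.AlgSpRedSub.Basic
import Groth.Agent.AlgSpc.Decent2
import Groth.Agent.S10191

set_option autoImplicit false
universe u
open CategoryTheory CategoryTheory.Limits AlgebraicGeometry Topology TopologicalSpace
open AlgSp

namespace Groth.Agent.S10496

set_option backward.isDefEq.respectTransparency false
open CategoryTheory Groth.Agent.AlgSpc Groth.Agent.AlgSpRedSub

/-- Let X be a decent algebraic space over a scheme S. For every irreducible closed subset T of |X|
there is an integral closed subspace Z of X with |Z| = T. -/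
theorem result {S : Scheme.{u}} (X : AlgSp.Space S)
    (hX : AlgSp.IsDecent X.obj) (T : Set (AlgSp.Points X.obj)) (hT : IsClosed T) (hTi : IsIrreducible T) :
    ∃ (Z : AlgSp.Space S) (i : Z ⟶ X), AlgSp.RepWith @IsClosedImmersion i.hom ∧ AlgSp.IsIntegralSp Z.obj ∧
      Set.range (AlgSp.Points.map i.hom) = T := by
  obtain ⟨Z, i, hi, hr, hrange⟩ := exists_redSub X hT
  refine ⟨Z, i, hi, ⟨hr, isDecent_of_representable hi.1 hX, ?_⟩, hrange⟩
  have he := (S10191.result i (AlgSpc.repWith_mono
    (fun _ _ k (hk : IsClosedImmersion k) => inferInstanceAs (IsImmersion k)) hi)).1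
  haveI : IrreducibleSpace ↥T := Subtype.irreducibleSpace hTi
  exact ((he.toHomeomorph).trans (Homeomorph.setCongr hrange)).symm.surjective.irreducibleSpace
    (Homeomorph.continuous _)

end Groth.Agent.S10496
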