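import Groth.Statements.S10498
import Groth.Agent.Hensel.HenselizationNormal
import Groth.Agent.Hensel.IndEtale
import Groth.Agent.SmoothReduced.Basic

set_option autoImplicit false
universe u
open TensorProduct
open Hensel
open scoped TensorProduct

namespace Groth.Agent.S10498

/-- (1) ⇔ (2): let k be a field, A a local k-algebra and R a strict henselization of A. Then A is
geometrically reduced over k (K ⊗_k A reduced for every field extension K of k) if and only if R is
geometrically reduced over k. -/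
theorem result (k : Type u) [Field k]
    (A : Type u) [CommRing A] [IsLocalRing A] [Algebra k A]
    (R : Type u) [CommRing R] [IsLocalRing R] [Algebra A R] [IsLocalHom (algebraMap A R)]
    [Hensel.IsStrictHenselization A R] [Algebra k R] [IsScalarTower k A R] :
    (∀ (K : Type u) [Field K] [Algebra k K], IsReduced (TensorProduct k K A)) ↔
      ∀ (K : Type u) [Field K] [Algebra k K], IsReduced (TensorProduct k K R) := by
  classical
  haveI : Module.FaithfullyFlat A R := Groth.Agent.Hensel.strictHenselization_faithfullyFlat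
  constructor
  swap
  · intro h K _ _
    haveI := h K
    refine isReduced_of_injective (Algebra.TensorProduct.map (AlgHom.id k K) (IsScalarTower.toAlgHom k A R)) ?_
    exact Module.Flat.lTensor_preserves_injective_linearMap (IsScalarTower.toAlgHom k A R).toLinearMap
      (FaithfulSMul.algebraMap_injective A R)
  intro h K _ _
  haveI := h K
  obtain ⟨e, -⟩ := Groth.Agent.Hensel.exists_algEquiv_hens_strict (R := A) (S := R)
  let N := Groth.Agent.Hensel.Nbhd A (IsLocalRing.ResidueField R)
  letI : ∀ X : N, Algebra k X.carrier := fun X => ((algebraMap A X.carrier).comp (algebraMap k A)).toAlgebra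
  haveI : ∀ X : N, IsScalarTower k A X.carrier := fun X => IsScalarTower.of_algebraMap_eq fun _ => rfl
  let g : ∀ X : N, X.carrier →ₐ[k] R := fun X => (e.toAlgHom.comp (Groth.Agent.Hensel.Hens.of X)).restrictScalars k
  let Φ : ∀ X : N, K ⊗[k] X.carrier →ₐ[k] K ⊗[k] R := fun X => Algebra.TensorProduct.map (AlgHom.id k K) (g X)
  let tr : ∀ {X Y : N}, (X ⟶ Y) → (K ⊗[k] X.carrier →ₐ[k] K ⊗[k] Y.carrier) := fun {X Y} f =>
    Algebra.TensorProduct.map (AlgHom.id k K) (f.1.restrictScalars k)
  have hcomp : ∀ {X Y : N} (f : X ⟶ Y) (z : K ⊗[k] X.carrier), Φ Y (tr f z) = Φ X z := fun {X Y} f z => by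
    induction z using TensorProduct.induction_on with
    | zero => simp
    | tmul a b => simp [Φ, tr, g, Groth.Agent.Hensel.Hens.of_hom]
    | add x y hx hy => simp only [map_add, hx, hy]
  have hsurj : ∀ z : K ⊗[k] R, ∃ (X : N) (z' : K ⊗[k] X.carrier), Φ X z' = z := by
    intro z
    induction z using TensorProduct.induction_on with
    | zero =>
      obtain ⟨X, x, -⟩ := Groth.Agent.Hensel.Hens.exists_rep (e.symm 0)
      exact ⟨X, 0, map_zero _⟩
    | tmul a b =>
      obtain ⟨X, x, hx⟩ := Groth.Agent.Hensel.Hens.exists_rep (e.symm b)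
      exact ⟨X, a ⊗ₜ x, by simp [Φ, g, hx]⟩
    | add x y hx hy =>
      obtain ⟨X, x', rfl⟩ := hx
      obtain ⟨Y, y', rfl⟩ := hy
      exact ⟨CategoryTheory.IsFiltered.max X Y, tr (CategoryTheory.IsFiltered.leftToMax X Y) x' +
        tr (CategoryTheory.IsFiltered.rightToMax X Y) y', by rw [map_add, hcomp, hcomp]⟩
  let bK := Module.Free.chooseBasis k K
  have hzero : ∀ (s : Finset (Module.Free.ChooseBasisIndex k K)) (X : N) (c : _ → X.carrier),
      (∀ i ∈ s, g X (c i) = 0) → ∃ (Y : N) (f : X ⟶ Y), ∀ i ∈ s, f.1 (c i) = 0 := by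
    intro s
    induction s using Finset.induction_on with
    | empty => exact fun X c _ => ⟨X, CategoryTheory.CategoryStruct.id X, by simp⟩
    | insert a s ha ih =>
      intro X c hc
      obtain ⟨Y, f, hf⟩ := ih X c fun i hi => hc i (Finset.mem_insert_of_mem hi)
      have h0 : Groth.Agent.Hensel.Hens.of Y (f.1 (c a)) = Groth.Agent.Hensel.Hens.of Y 0 := by
        rw [map_zero, Groth.Agent.Hensel.Hens.of_hom]
        exact e.injective (by rw [map_zero]; exact hc a (Finset.mem_insert_self _ _))
      obtain ⟨W, t, ht⟩ := (Groth.Agent.Hensel.Hens.of_eq_iff _ _).mp h0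
      rw [map_zero] at ht
      refine ⟨W, CategoryTheory.CategoryStruct.comp f t, fun i hi => ?_⟩
      rcases Finset.mem_insert.1 hi with rfl | hi
      · exact ht
      · show t.1 (f.1 (c i)) = 0
        rw [hf i hi, map_zero]
  refine ⟨fun z hz => ?_⟩
  obtain ⟨n, hn⟩ := hz
  obtain ⟨X, z', rfl⟩ := hsurj z
  rw [← map_pow] at hn
  obtain ⟨c, hc⟩ : ∃ c : Module.Free.ChooseBasisIndex k K →₀ X.carrier, z' ^ n = c.sum fun i x => bK i ⊗ₜ[k] x :=
    ⟨_, ((TensorProduct.eq_repr_basis_left bK (z' ^ n)).choose_spec).symm⟩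
  have hcoef : ∀ i ∈ c.support, g X (c i) = 0 := by
    intro i _
    have h1 : (c.mapRange (g X) (map_zero _)).sum (fun i x => bK i ⊗ₜ[k] x) = 0 := by
      rw [← hn, hc, map_finsuppSum, Finsupp.sum_mapRange_index (fun _ => TensorProduct.tmul_zero _ _)]
      exact Finsupp.sum_congr fun _ _ => rfl
    have h2 := TensorProduct.sum_tmul_basis_left_injective bK (a₁ := c.mapRange (g X) (map_zero _)) (a₂ := 0) (by first | exact h1 | exact h1.trans Finsupp.sum_zero_index.symm)
    exact DFunLike.congr_fun h2 i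
  obtain ⟨Y, f, hf⟩ := hzero c.support X c hcoef
  have hY : (tr f z') ^ n = 0 := by
    rw [← map_pow, hc, map_finsuppSum]
    refine Finset.sum_eq_zero fun i hi => ?_
    show bK i ⊗ₜ[k] f.1 (c i) = 0
    rw [hf i hi, TensorProduct.tmul_zero]
  haveI : IsReduced (A ⊗[k] K) := isReduced_of_injective (Algebra.TensorProduct.comm k A K) (Algebra.TensorProduct.comm k A K).injective
  haveI : IsReduced ((A ⊗[k] K) ⊗[A] Y.carrier) := Groth.Agent.SmoothReduced.isReduced_of_smooth (A ⊗[k] K) _
  let eY : K ⊗[k] Y.carrier ≃+* (A ⊗[k] K) ⊗[A] Y.carrier :=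
    (Algebra.TensorProduct.comm k K Y.carrier).toRingEquiv.trans
      ((Algebra.TensorProduct.cancelBaseChange k A A Y.carrier K).symm.toRingEquiv.trans
        (Algebra.TensorProduct.comm A Y.carrier (A ⊗[k] K)).toRingEquiv)
  haveI : IsReduced (K ⊗[k] Y.carrier) := isReduced_of_injective eY eY.injective
  rw [← hcomp f, (IsNilpotent.eq_zero ⟨n, hY⟩), map_zero]

end Groth.Agent.S10498
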