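import Groth.Statements.S1050
import Mathlib
import Groth.Agent.DerCatFF.EssImage
import Groth.Agent.DerCatFF.Basic

set_option autoImplicit false
universe w w' v u
open CategoryTheory CategoryTheory.Limits
open CohDer


namespace Groth.Agent.S1050

set_option backward.isDefEq.respectTransparency false
set_option backward.defeqAttrib.useBackward true

section

open HomologicalComplex Opposite

variable {A : Type u} [Category.{v} A] [Abelian A]
    (P : ObjectProperty A) [P.IsSerreClass] [P.IsClosedUnderKernels] [P.IsClosedUnderCokernels]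
    [P.IsClosedUnderFiniteProducts] [PreservesFiniteLimits P.ι] [PreservesFiniteColimits P.ι]

omit [P.IsClosedUnderKernels] [P.IsClosedUnderCokernels] [P.IsClosedUnderFiniteProducts]
  [PreservesFiniteLimits P.ι] [PreservesFiniteColimits P.ι] in
lemma essImage_op_iff (X : Aᵒᵖ) : P.ι.op.essImage X ↔ P X.unop :=
  ⟨fun ⟨Y, ⟨e⟩⟩ => P.prop_of_iso e.unop.symm Y.unop.property, fun h => ⟨op ⟨X.unop, h⟩, ⟨Iso.refl _⟩⟩⟩

lemma left_resolution (hlift : ∀ (X Y : A) (π : X ⟶ Y), Epi π → P Y → ∃ (X' : A) (i : X' ⟶ X), Mono i ∧ P X' ∧ Epi (i ≫ π))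
    (X : CochainComplex A ℤ) (b : ℤ) [X.IsStrictlyLE b] (hX : ∀ n, P (X.homology n)) :
    ∃ (M : CochainComplex P.FullSubcategory ℤ) (φ : (P.ι.mapHomologicalComplex (ComplexShape.up ℤ)).obj M ⟶ X),
      M.IsStrictlyLE b ∧ QuasiIso φ := by
  let F := (CochainComplex.opEquivalence A).functor
  let K := F.obj (op X)
  haveI : K.IsStrictlyGE (-b) := by
    rw [CochainComplex.isStrictlyGE_iff]
    intro i hi
    exact (X.isZero_of_isStrictlyLE b (-i) (by omega)).op
  have hK : ∀ i, P.ι.op.essImage (K.homology i) := fun i => by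
    rw [essImage_op_iff]
    let e := (K.sc' (i - 1) i (i + 1)).homologyMapIso (Iso.refl _)
    have e1 : K.homology i ≅ op ((X.sc' (-(i + 1)) (-i) (-(i - 1))).homology) :=
      K.homologyIsoSc' (i - 1) i (i + 1) (by simp) (by simp) ≪≫
        (X.sc' (-(i + 1)) (-i) (-(i - 1))).homologyOpIso
    exact P.prop_of_iso (X.homologyIsoSc' (-(i + 1)) (-i) (-(i - 1)) (by simp only [CochainComplex.prev]; omega) (by simp only [CochainComplex.next]; omega) ≪≫ e1.unop) (hX (-i))
  obtain ⟨Z, hZ⟩ : ∃ Z : (P.FullSubcategory)ᵒᵖ, IsZero Z := ⟨op ⟨_, P.prop_of_isZero (Limits.isZero_zero A)⟩,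
    (IsZero.of_full_of_faithful_of_isZero P.ι (X := ⟨_, P.prop_of_isZero (Limits.isZero_zero A)⟩) (Limits.isZero_zero A)).op⟩
  haveI := Limits.preservesFiniteLimits_op P.ι
  haveI := Limits.preservesFiniteColimits_op P.ι
  obtain ⟨I, α, hI, -, hα⟩ := DerCatFF.EssImage.exists_resolution P.ι.op (fun _ => True) K
    (fun S hS h1 h3 => by
      rw [essImage_op_iff] at h1 h3 ⊢
      exact P.prop_X₂_of_shortExact hS.unop h3 h1)
    (fun P0 W k hk hW => by
      rw [essImage_op_iff] at hW
      obtain ⟨X', i, hi, hX', hiπ⟩ := hlift _ _ k.unop inferInstance hW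
      refine ⟨op ⟨X', hX'⟩, i.op, trivial, ?_⟩
      change Mono ((i ≫ k.unop).op)
      infer_instance) hK (-b) hZ trivial
  let G := CochainComplex.opEquivalence P.FullSubcategory
  let M := (G.inverse.obj I).unop
  let c := G.counitIso.app I
  let e : (P.ι.op.mapHomologicalComplex (ComplexShape.up ℤ)).obj (G.functor.obj (op M)) ≅
      F.obj (op ((P.ι.mapHomologicalComplex (ComplexShape.up ℤ)).obj M)) :=
    HomologicalComplex.Hom.isoOfComponents (fun _ => Iso.refl _) (fun i j _ =>
      (Category.id_comp _).trans (Category.comp_id _).symm)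
  let α' := α ≫ (P.ι.op.mapHomologicalComplex (ComplexShape.up ℤ)).map c.inv ≫ e.hom
  haveI : QuasiIso α' := by
    haveI := hα
    infer_instance
  obtain ⟨ψ, hψ⟩ := F.map_surjective α'
  refine ⟨M, ψ.unop, ?_, ⟨fun n => ?_⟩⟩
  · rw [CochainComplex.isStrictlyLE_iff]
    intro i hi
    have h1 : IsZero ((G.functor.obj (op M)).X (-i)) := IsZero.of_iso (I.isZero_of_isStrictlyGE (-b) (-i) (by omega))
      ((HomologicalComplex.eval _ _ (-i)).mapIso c)
    have h2 : IsZero (M.X (- -i)) := h1.unop
    rwa [neg_neg] at h2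
  · have h : QuasiIsoAt (F.map ψ) (-n) := by rw [hψ]; infer_instance
    have key : ∀ m, QuasiIsoAt (F.map ψ) m → QuasiIsoAt ψ.unop (-m) := fun m hm => by
      rw [quasiIsoAt_iff' _ (m - 1) m (m + 1) (by simp) (by simp)] at hm
      rw [quasiIsoAt_iff' _ (-(m + 1)) (-m) (-(m - 1)) (by simp only [CochainComplex.prev]; omega) (by simp only [CochainComplex.next]; omega), ← ShortComplex.quasiIso_opMap_iff]
      exact hm
    have := key _ h
    rwa [neg_neg] at this


section FF

variable [HasDerivedCategory.{w} A] [HasDerivedCategory.{w'} P.FullSubcategory]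

local notation "ιC" => P.ι.mapHomologicalComplex (ComplexShape.up ℤ)

omit [HasDerivedCategory A] [HasDerivedCategory P.FullSubcategory] [P.IsClosedUnderKernels]
  [P.IsClosedUnderCokernels] [P.IsClosedUnderFiniteProducts] [PreservesFiniteLimits P.ι] [PreservesFiniteColimits P.ι] in
lemma preim [P.IsClosedUnderFiniteProducts] {M N : CochainComplex P.FullSubcategory ℤ} (g : (ιC).obj M ⟶ (ιC).obj N) :
    ∃ g' : M ⟶ N, (ιC).map g' = g :=
  ⟨{ f := fun i => ObjectProperty.homMk (g.f i)
     comm' := fun i j _ => ObjectProperty.hom_ext _ (g.comm i j) }, rfl⟩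

omit [HasDerivedCategory A] [HasDerivedCategory P.FullSubcategory] in
lemma homology_mem (M : CochainComplex P.FullSubcategory ℤ) (n : ℤ) : P (((ιC).obj M).homology n) :=
  P.prop_of_epi (((ιC).obj M).homologyπ n) (P.prop_of_mono (((ιC).obj M).iCycles n) (M.X n).property)

variable (hlift : ∀ (X Y : A) (π : X ⟶ Y), Epi π → P Y → ∃ (X' : A) (i : X' ⟶ X), Mono i ∧ P X' ∧ Epi (i ≫ π))

include hlift in
omit [HasDerivedCategory P.FullSubcategory] in
lemma refine_source (M : CochainComplex P.FullSubcategory ℤ) (X : CochainComplex A ℤ) (b : ℤ) [X.IsStrictlyLE b]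
    (s : X ⟶ (ιC).obj M) [IsIso (DerivedCategory.Q.map s)] :
    ∃ (M' : CochainComplex P.FullSubcategory ℤ) (φ : (ιC).obj M' ⟶ X) (s' : M' ⟶ M),
      M'.IsStrictlyLE b ∧ QuasiIso φ ∧ QuasiIso s' ∧ (ιC).map s' = φ ≫ s := by
  haveI : QuasiIso s := by rw [← DerivedCategory.isIso_Q_map_iff_quasiIso]; infer_instance
  obtain ⟨M', φ, hM', hφ⟩ := left_resolution P hlift X b (fun n =>
    P.prop_of_iso (isoOfQuasiIsoAt s n).symm (homology_mem P M n))
  obtain ⟨s', hs'⟩ := preim P (φ ≫ s)
  refine ⟨M', φ, s', hM', hφ, ?_, hs'⟩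
  haveI := hφ
  have : QuasiIso ((ιC).map s') := by rw [hs']; infer_instance
  exact (quasiIso_map_iff_of_preservesHomology s' P.ι).1 this

include hlift in
lemma bijective_complex (M N : CochainComplex P.FullSubcategory ℤ) (b : ℤ) [M.IsStrictlyLE b] :
    Function.Bijective (fun φ : DerivedCategory.Q.obj M ⟶ DerivedCategory.Q.obj N => P.ι.mapDerivedCategory.map φ) := by
  let ν := P.ι.mapDerivedCategoryFactors
  have hν : ∀ {U V : CochainComplex P.FullSubcategory ℤ} (g : U ⟶ V),
      P.ι.mapDerivedCategory.map (DerivedCategory.Q.map g) = ν.hom.app U ≫ DerivedCategory.Q.map ((ιC).map g) ≫ ν.inv.app V :=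
    fun g => (NatIso.naturality_2 ν g).symm
  have hz : ∀ (U : CochainComplex P.FullSubcategory ℤ), U.IsStrictlyLE b → CochainComplex.IsLE ((ιC).obj U) b := fun U hU => by
    haveI : CochainComplex.IsStrictlyLE ((ιC).obj U) b := by
      rw [CochainComplex.isStrictlyLE_iff]
      exact fun i hi => P.ι.map_isZero (U.isZero_of_isStrictlyLE b i hi)
    infer_instance
  have hinj : ∀ h : DerivedCategory.Q.obj M ⟶ DerivedCategory.Q.obj N, P.ι.mapDerivedCategory.map h = 0 → h = 0 := by
    intro h h0
    obtain ⟨X, hX, s, hs, g, rfl⟩ := DerivedCategory.right_fac_of_isStrictlyLE h b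
    haveI := hX
    rw [Functor.map_comp, Preadditive.IsIso.comp_left_eq_zero, hν, Preadditive.IsIso.comp_left_eq_zero,
      Preadditive.IsIso.comp_right_eq_zero] at h0
    have h1 : DerivedCategory.Qh.map ((HomotopyCategory.quotient _ _).map ((ιC).map g)) =
        DerivedCategory.Qh.map 0 := by
      rw [Functor.map_zero, ← cancel_mono ((DerivedCategory.quotientCompQhIso A).hom.app _)]
      exact ((DerivedCategory.quotientCompQhIso A).hom.naturality ((ιC).map g)).trans
        (((congrArg (_ ≫ ·) h0).trans comp_zero).trans zero_comp.symm)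
    rw [MorphismProperty.map_eq_iff_precomp DerivedCategory.Qh (HomotopyCategory.quasiIso A _)] at h1
    obtain ⟨Z, t, ht, ht0⟩ := h1
    obtain ⟨Z, rfl⟩ := HomotopyCategory.quotient_obj_surjective Z
    obtain ⟨t, rfl⟩ := (HomotopyCategory.quotient _ _).map_surjective t
    rw [HomotopyCategory.quotient_map_mem_quasiIso_iff, HomologicalComplex.mem_quasiIso_iff] at ht
    haveI := ht
    haveI : CochainComplex.IsLE Z b := by
      haveI := hz X hX
      rw [← DerivedCategory.isLE_Q_obj_iff]
      haveI : (DerivedCategory.Q.obj ((ιC).obj X)).IsLE b := (DerivedCategory.isLE_Q_obj_iff _ _).2 inferInstance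
      exact DerivedCategory.TStructure.t.isLE_of_iso (asIso (DerivedCategory.Q.map t)).symm b
    haveI : QuasiIso (CochainComplex.ιTruncLE Z b) := (CochainComplex.quasiIso_ιTruncLE_iff _ _).2 inferInstance
    obtain ⟨M', φ, s', hM', hφ, hs', hcomp⟩ := refine_source P hlift X _ b (CochainComplex.ιTruncLE Z b ≫ t)
    haveI := hs'
    have h2 : (HomotopyCategory.quotient P.FullSubcategory (ComplexShape.up ℤ)).map (s' ≫ g) = 0 := by
      refine (DerCatFF.mapHomotopy_bijective P.ι M' N).1 ?_
      change (HomotopyCategory.quotient A (ComplexShape.up ℤ)).map ((ιC).map (s' ≫ g)) =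
        (P.ι.mapHomotopyCategory (ComplexShape.up ℤ)).map 0
      rw [Functor.map_zero, Functor.map_comp, hcomp, Functor.map_comp, Functor.map_comp, Functor.map_comp,
        Category.assoc, Category.assoc, ht0, comp_zero, comp_zero, comp_zero]
    have h3 : DerivedCategory.Q.map (s' ≫ g) = 0 := by
      rw [← cancel_epi ((DerivedCategory.quotientCompQhIso P.FullSubcategory).hom.app _)]
      exact ((DerivedCategory.quotientCompQhIso P.FullSubcategory).hom.naturality (s' ≫ g)).symm.trans
        (((congrArg (· ≫ _) ((congrArg DerivedCategory.Qh.map h2).trans (Functor.map_zero _ _ _))).trans zero_comp).trans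
          comp_zero.symm)
    rw [Functor.map_comp, Preadditive.IsIso.comp_left_eq_zero] at h3
    rw [h3, comp_zero]
  refine ⟨fun f g h => sub_eq_zero.1 (hinj _ ?_), fun f => ?_⟩
  · rw [Functor.map_sub]; exact sub_eq_zero.2 h
  · haveI : CochainComplex.IsStrictlyLE ((ιC).obj M) b := by
      rw [CochainComplex.isStrictlyLE_iff]
      exact fun i hi => P.ι.map_isZero (M.isZero_of_isStrictlyLE b i hi)
    obtain ⟨X, hX, s, hs, g, hf⟩ := DerivedCategory.right_fac_of_isStrictlyLE (ν.inv.app M ≫ f ≫ ν.hom.app N) b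
    haveI := hX
    obtain ⟨M', φ, s', hM', hφ, hs', hcomp⟩ := refine_source P hlift M X b s
    haveI := hφ
    haveI := hs'
    obtain ⟨g', hg'⟩ := preim P (φ ≫ g)
    refine ⟨inv (DerivedCategory.Q.map s') ≫ DerivedCategory.Q.map g', ?_⟩
    change P.ι.mapDerivedCategory.map _ = f
    have hmain : DerivedCategory.Q.map ((ιC).map s') ≫ (ν.inv.app M ≫ f ≫ ν.hom.app N) = DerivedCategory.Q.map ((ιC).map g') := by
      rw [hf, hcomp, hg', Functor.map_comp, Functor.map_comp, Category.assoc, IsIso.hom_inv_id_assoc]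
    rw [Functor.map_comp, Functor.map_inv, IsIso.inv_comp_eq, hν, hν, ← hmain]
    simp

end FF

end

/-- Let P be a Serre class in an abelian category A (so that the full subcategory on P is abelian; its
closure under kernels, cokernels, finite products and the exactness of the inclusion are carried as
instance hypotheses) such that for every epimorphism X ⟶ Y with P Y there is a subobject X' of X
with P X' mapping onto Y. Then the induced functor D(P) ⥤ D(A) is fully faithful on bounded above
objects, and every bounded above object of D(A) all of whose cohomology objects satisfy P is in its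
essential image from a bounded above object; that is, D⁻(P) ≃ D⁻_P(A). -/
theorem result {A : Type u} [Category.{v} A] [Abelian A] [HasDerivedCategory.{w} A]
    (P : ObjectProperty A) [P.IsSerreClass] [P.IsClosedUnderKernels] [P.IsClosedUnderCokernels]
    [P.IsClosedUnderFiniteProducts] [HasDerivedCategory.{w'} P.FullSubcategory]
    [PreservesFiniteLimits P.ι] [PreservesFiniteColimits P.ι]
    (hlift : ∀ (X Y : A) (π : X ⟶ Y), Epi π → P Y → ∃ (X' : A) (i : X' ⟶ X), Mono i ∧ P X' ∧ Epi (i ≫ π)) :
    (∀ (M N : DerivedCategory P.FullSubcategory) (b : ℤ), M.IsLE b → N.IsLE b →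
      Function.Bijective (fun φ : M ⟶ N => P.ι.mapDerivedCategory.map φ)) ∧
    ∀ (K : DerivedCategory A) (b : ℤ), K.IsLE b → (∀ n : ℤ, P ((DerivedCategory.homologyFunctor A n).obj K)) →
      ∃ M : DerivedCategory P.FullSubcategory, M.IsLE b ∧ Nonempty (P.ι.mapDerivedCategory.obj M ≅ K) := by
  refine ⟨fun M N b hM hN => ?_, fun K b hK hP => ?_⟩
  · obtain ⟨M', hM', ⟨eM⟩⟩ := M.exists_iso_Q_obj_of_isLE b
    let eN := (DerivedCategory.Q.objObjPreimageIso N).symm
    have h := bijective_complex P hlift M' (DerivedCategory.Q.objPreimage N) b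
    constructor
    · intro f g hfg
      have hfg' : P.ι.mapDerivedCategory.map f = P.ι.mapDerivedCategory.map g := hfg
      have := h.1 (a₁ := eM.inv ≫ f ≫ eN.hom) (a₂ := eM.inv ≫ g ≫ eN.hom) (by
        change P.ι.mapDerivedCategory.map _ = P.ι.mapDerivedCategory.map _
        simp only [Functor.map_comp, hfg'])
      exact (cancel_mono eN.hom).1 ((cancel_epi eM.inv).1 this)
    · intro g
      obtain ⟨f, hf⟩ := h.2 (P.ι.mapDerivedCategory.map eM.inv ≫ g ≫ P.ι.mapDerivedCategory.map eN.hom)
      have hf' : P.ι.mapDerivedCategory.map f = P.ι.mapDerivedCategory.map eM.inv ≫ g ≫ P.ι.mapDerivedCategory.map eN.hom := hf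
      refine ⟨eM.hom ≫ f ≫ eN.inv, ?_⟩
      change P.ι.mapDerivedCategory.map (eM.hom ≫ f ≫ eN.inv) = g
      simp only [Functor.map_comp, hf', Category.assoc]
      rw [← Functor.map_comp_assoc, eM.hom_inv_id, CategoryTheory.Functor.map_id, Category.id_comp, ← Functor.map_comp,
        eN.hom_inv_id, CategoryTheory.Functor.map_id, Category.comp_id]
  · obtain ⟨X, hX, ⟨e⟩⟩ := K.exists_iso_Q_obj_of_isLE b
    obtain ⟨M, φ, hM, hφ⟩ := left_resolution P hlift X b (fun n => P.prop_of_iso
      ((DerivedCategory.homologyFunctor A n).mapIso e ≪≫ (DerivedCategory.homologyFunctorFactors A n).app X) (hP n))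
    haveI := hφ
    exact ⟨DerivedCategory.Q.obj M, inferInstance,
      ⟨P.ι.mapDerivedCategoryFactors.app M ≪≫ asIso (DerivedCategory.Q.map φ) ≪≫ e.symm⟩⟩

end Groth.Agent.S1050
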