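import Groth.Statements.S10509
import Groth.Agent.AlgStB.EtaleSection
import Groth.Agent.AlgSpc.LocP

set_option autoImplicit false
set_option backward.isDefEq.respectTransparency false
universe u
open CategoryTheory CategoryTheory.Limits AlgebraicGeometry
open AlgSp
open Groth.Agent.AlgSpc (repWith_comp)

namespace Groth.Agent.S10509

/-- A smooth covering of an algebraic space `X` over `S` by algebraic spaces can be refined by an etale
covering of `X` by algebraic spaces: there is an etale covering `{U_j ⟶ X}` each member of which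
factors through some member of the given smooth covering. -/
theorem result {S : Scheme.{u}} (X : AlgSp.Space S) {ι : Type u}
    (Xi : ι → AlgSp.Space S) (g : ∀ i, Xi i ⟶ X)
    (h : AlgSp.IsSmCover (fun i => (Xi i).obj) (fun i => (g i).hom)) :
    ∃ (κ : Type u) (U : κ → AlgSp.Space S) (c : ∀ j, U j ⟶ X),
      AlgSp.IsEtCover (fun j => (U j).obj) (fun j => (c j).hom) ∧
      ∀ j, ∃ (i : ι) (r : U j ⟶ Xi i), r ≫ g i = c j := by
  classical
  obtain ⟨V, q, hq, hqs⟩ := X.property.atlas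
  have ch : ∀ i, ∃ (U : Over S) (a : (yon S).obj U ⟶ (Xi i).obj) (e : U ⟶ V),
      RepWith @Etale a ∧ RepWith @Surjective a ∧ a ≫ (g i).hom = (yon S).map e ≫ q := by
    intro i
    obtain ⟨U₀, a₀, h₁, h₂⟩ := (Xi i).property.atlas
    exact Groth.Agent.AlgSpc.exists_chart_over (g i).hom h₁ h₂ hq hqs
  choose U a e ha has w using ch
  have hsm : ∀ i, Smooth (e i).left := fun i => h.1 i (a i) q (e i) (ha i) hq (w i)
  have pc : ∀ i (u : (U i).left), ∃ (W : Scheme.{u}) (v : W ⟶ (U i).left),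
      Etale (v ≫ (e i).left) ∧ (e i).left u ∈ Set.range (v ≫ (e i).left) := fun i u => by
    haveI := hsm i
    exact Groth.Agent.AlgStB.exists_etale_piece (e i).left u
  choose W v hv hx using pc
  let T : (Σ i, ↥(U i).left) → Over S := fun p => Over.mk (v p.1 p.2 ≫ (U p.1).hom)
  let l : ∀ p, T p ⟶ U p.1 := fun p => Over.homMk (v p.1 p.2)
  refine ⟨Σ i, ↥(U i).left, fun p => (ofScheme S).obj (T p),
    fun p => ObjectProperty.homMk ((yon S).map (l p ≫ e p.1) ≫ q), ⟨fun p => ?_, fun x => ?_⟩,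
    fun p => ⟨p.1, ObjectProperty.homMk ((yon S).map (l p) ≫ a p.1), ?_⟩⟩
  · have : RepWith @Etale ((yon S).map (l p ≫ e p.1) ≫ q) :=
      repWith_comp ((repWith_yon_map_iff _ _).2 (hv p.1 p.2)) hq
    exact fun _ φ hφ => repWith_comp hφ this
  · obtain ⟨i, y, rfl⟩ := h.2 x
    obtain ⟨u, rfl⟩ := Groth.Agent.AlgSpc.surjective_ofPt (has i) y
    obtain ⟨t, ht⟩ := hx i u
    refine ⟨⟨i, u⟩, Points.ofScheme (T ⟨i, u⟩) t, ?_⟩
    show Points.map ((yon S).map (l ⟨i, u⟩ ≫ e i) ≫ q) _ = _
    dsimp only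
    rw [Points.map_ofPt, Points.map_ofPt, Category.id_comp, w, Groth.Agent.AlgSpc.ofPt_comp,
      Groth.Agent.AlgSpc.ofPt_comp]
    exact congrArg (Points.ofPt q) ht
  · ext : 1
    show ((yon S).map (l p) ≫ a p.1) ≫ (g p.1).hom = (yon S).map (l p ≫ e p.1) ≫ q
    rw [Category.assoc, w, ← Category.assoc, ← Functor.map_comp]

end Groth.Agent.S10509
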