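import Groth.Statements.S1051
import Groth.Agent.Postnikov.Basic
import Mathlib
set_option autoImplicit false
universe v u
open CategoryTheory
open CohDer


namespace Groth.Agent.S1051

set_option backward.isDefEq.respectTransparency false
set_option backward.defeqAttrib.useBackward true

open CategoryTheory.Limits CategoryTheory.Pretriangulated Groth.Agent.Postnikov

variable {D : Type u} [Category.{v} D] [Preadditive D] [HasZeroObject D] [HasShift D ℤ]
    [∀ n : ℤ, (shiftFunctor D n).Additive] [Pretriangulated D]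
    (X : ChainComplex D ℕ) (n : ℕ)

/-- One stage. -/
structure Stage (k : ℕ) where
  Y : D
  a : Y ⟶ X.X k
  b : X.X (k + 1) ⟶ Y
  hba : k < n → b ≫ a = X.d (k + 1) k
  van : ∀ i, k + 2 < i → i ≤ n → V (X.X i) Y (-((i : ℤ) - k - 2))
  hd : k + 1 < n → X.d (k + 2) (k + 1) ≫ b = 0

lemma exists_step (hX : ∀ i j : ℕ, j + 2 < i → i ≤ n → ∀ φ : (shiftFunctor D ((i : ℤ) - j - 2)).obj (X.X i) ⟶ X.X j, φ = 0)
    (k : ℕ) (S : Stage X n k) :
    ∃ (S' : Stage X n (k + 1)) (c : S.Y ⟶ (shiftFunctor D (1 : ℤ)).obj S'.Y),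
      Triangle.mk S'.a S.b c ∈ distTriang D := by
  obtain ⟨Y', a', c, hT⟩ := distinguished_cocone_triangle₁ S.b
  obtain ⟨b', hb'⟩ : ∃ b' : X.X (k + 2) ⟶ Y', k + 1 < n → b' ≫ a' = X.d (k + 2) (k + 1) := by
    by_cases h : k + 1 < n
    · obtain ⟨b', hb'⟩ := Triangle.coyoneda_exact₂ _ hT (X.d (k + 2) (k + 1)) (S.hd h)
      exact ⟨b', fun _ => hb'.symm⟩
    · exact ⟨0, fun h' => absurd h' h⟩
  refine ⟨⟨Y', a', b', hb', fun i hi hin => ?_, fun h => ?_⟩, c, hT⟩
  · refine V.obj₁ (T := Triangle.mk a' S.b c) hT (m' := -((i : ℤ) - k - 2)) (by push_cast; omega)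
      (V.of_left ((i : ℤ) - (k + 1 : ℕ) - 2) (by omega) (hX i (k + 1) hi hin))
      (S.van i (by omega) hin)
  · obtain ⟨η, hη⟩ := Triangle.coyoneda_exact₂ _ (inv_rot_of_distTriang _ hT)
      (X.d (k + 1 + 2) (k + 1 + 1) ≫ b') (by
        change (X.d (k + 1 + 2) (k + 1 + 1) ≫ b') ≫ a' = 0
        rw [Category.assoc, hb' (by omega)]
        exact X.d_comp_d _ _ _)
    have hη0 : η = 0 := by
      have := S.van (k + 1 + 2) (by omega) (by omega)
      rw [show (-(((k + 1 + 2 : ℕ) : ℤ) - k - 2)) = -1 by omega] at this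
      exact this η
    rw [hη, hη0]
    exact zero_comp

open CategoryTheory.Pretriangulated in
/-- Let X be a chain complex in a triangulated category D and n a natural number; consider the finite
complex Xₙ → Xₙ₋₁ → … → X₀. If every morphism Xᵢ[i - j - 2] ⟶ Xⱼ with j + 2 < i ≤ n vanishes, then
there is a Postnikov system for it: objects Yₖ (k ≤ n), an isomorphism Y₀ ⟶ X₀, and for each k < n a
distinguished triangle Yₖ₊₁ ⟶ Xₖ₊₁ ⟶ Yₖ ⟶ Yₖ₊₁[1] such that Xₖ₊₁ ⟶ Yₖ ⟶ Xₖ is the differential of X. -/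
theorem result {D : Type u} [Category.{v} D] [Preadditive D] [Limits.HasZeroObject D] [HasShift D ℤ]
    [∀ n : ℤ, (shiftFunctor D n).Additive] [Pretriangulated D] [IsTriangulated D]
    (X : ChainComplex D ℕ) (n : ℕ)
    (hX : ∀ i j : ℕ, j + 2 < i → i ≤ n → ∀ φ : (shiftFunctor D ((i : ℤ) - j - 2)).obj (X.X i) ⟶ X.X j, φ = 0) :
    ∃ (Y : ℕ → D) (a : ∀ k, Y k ⟶ X.X k) (b : ∀ k, X.X (k + 1) ⟶ Y k) (c : ∀ k, Y k ⟶ (shiftFunctor D (1 : ℤ)).obj (Y (k + 1))),
      IsIso (a 0) ∧ ∀ k, k < n → Triangle.mk (a (k + 1)) (b k) (c k) ∈ distinguishedTriangles ∧ b k ≫ a k = X.d (k + 1) k := by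
  let S₀ : Stage X n 0 :=
    { Y := X.X 0
      a := 𝟙 _
      b := X.d 1 0
      hba := fun _ => Category.comp_id _
      van := fun i hi hin => V.of_left ((i : ℤ) - 0 - 2) (by omega) (hX i 0 hi hin)
      hd := fun _ => X.d_comp_d _ _ _ }
  choose step c hc using exists_step X n hX
  let S : ∀ k, Stage X n k := fun k => Nat.rec (motive := Stage X n) S₀ step k
  exact ⟨fun k => (S k).Y, fun k => (S k).a, fun k => (S k).b, fun k => c k (S k),
    (inferInstance : IsIso (𝟙 (X.X 0))), fun k hk => ⟨hc k (S k), (S k).hba hk⟩⟩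

end Groth.Agent.S1051
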