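import Groth.Statements.S10512
import Groth.Agent.AlgSpc.LocP

set_option autoImplicit false
set_option backward.isDefEq.respectTransparency false
universe u
open CategoryTheory CategoryTheory.Limits AlgebraicGeometry
open AlgSp

namespace Groth.Agent.S10512

/-- A covering of a space lifts along etale coverings of schemes mapping to it. -/
theorem exists_lift {S : Scheme.{u}} {Z : AlgSp.Space S} {R : Sieve Z}
    (hR : R ∈ AlgSp.spacesTop S AlgSp.IsEtaleMor Z) :
    ∀ (U : Over S) (φ : (AlgSp.ofScheme S).obj U ⟶ Z) (u : ↥U.left),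
      ∃ (W : Over S) (e : W ⟶ U), Etale e.left ∧ u ∈ Set.range e.left ∧
        R ((AlgSp.ofScheme S).map e ≫ φ) := by
  induction hR with
  | of Z R hR =>
    intro U φ u
    obtain ⟨Y, g, hg, hx⟩ := hR.2 (Points.ofPt φ.hom u)
    obtain ⟨y, hy⟩ := hx
    obtain ⟨A, a, ha, has⟩ := Y.property.atlas
    obtain ⟨α, rfl⟩ := Groth.Agent.AlgSpc.surjective_ofPt has y
    have hag : RepWith @Etale (a ≫ g.hom) := hR.1 g hg a ha
    obtain ⟨W, fst, snd, sq⟩ := Groth.Agent.AlgSpc.exists_sq hag.1 φ.hom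
    obtain ⟨w, -, hw⟩ := Groth.Agent.AlgSpc.exists_point_of_sq sq (Points.ofScheme A α) u
      (by rw [Points.map_ofPt, Category.id_comp, ← Points.map_ofPt]; exact hy)
    refine ⟨W, snd, hag.2 _ _ _ sq, ⟨w, hw⟩, ?_⟩
    refine ⟨Y, (ObjectProperty.homMk (fst ≫ a) : (ofScheme S).obj W ⟶ Y), g, hg, ?_⟩
    ext : 1
    show (fst ≫ a) ≫ g.hom = (yon S).map snd ≫ φ.hom
    rw [Category.assoc]
    exact sq.w
  | top =>
    intro U φ u
    exact ⟨U, 𝟙 U, (inferInstance : Etale (𝟙 U.left)), ⟨u, rfl⟩, trivial⟩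
  | pullback Z R hR Y f ih =>
    intro U φ u
    obtain ⟨W, e, he, hu, h⟩ := ih U (φ ≫ f) u
    exact ⟨W, e, he, hu, by show R (((ofScheme S).map e ≫ φ) ≫ f); rwa [Category.assoc]⟩
  | transitive Z R T hR hT ih1 ih2 =>
    intro U φ u
    obtain ⟨W, e, he, ⟨w, rfl⟩, h⟩ := ih1 U φ u
    obtain ⟨W', e', he', ⟨w', rfl⟩, h'⟩ := ih2 h W (𝟙 _) w
    refine ⟨W', e' ≫ e, ?_, ⟨w', rfl⟩, ?_⟩
    · rw [Over.comp_left]
      infer_instance
    · rw [Category.comp_id] at h'
      rw [Functor.map_comp, Category.assoc]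
      exact h'


/-- For a morphism `f : Y ⟶ X` of algebraic spaces over `S`, the functor from the small etale site of
`Y` (scheme objects) to the big etale site `(Spaces/X)_{etale}` sending `h_U ⟶ Y` to `h_U ⟶ Y ⟶ X`
is cocontinuous; for `f = 𝟙` this is the cocontinuity of the inclusion of the small etale site of
`X` into its big etale site. (Stated for the small etale site with scheme objects, which defines the
same topos as the one with algebraic-space objects.) -/
theorem result {S : Scheme.{u}} {X Y : AlgSp.Space S} (f : Y ⟶ X) :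
    (AlgSp.EtOver.toEtSpOver Y ⋙ ObjectProperty.ι (fun E : Over Y => AlgSp.IsEtaleMor E.hom.hom) ⋙
        Over.map f).IsCocontinuous (AlgSp.etTop Y.obj) (AlgSp.spacesTopOver AlgSp.IsEtaleMor X) := by
  set G := AlgSp.EtOver.toEtSpOver Y ⋙ ObjectProperty.ι (fun E : Over Y => AlgSp.IsEtaleMor E.hom.hom) ⋙
        Over.map f with hG
  refine ⟨fun {E} R hR => ?_⟩
  rw [GrothendieckTopology.mem_over_iff] at hR
  have key := fun u => exists_lift hR E.obj.left (𝟙 _) u
  choose W e he hu h using key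
  let E' : ↥E.obj.left.left → EtOver Y.obj := fun u => EtOver.mk ((yon S).map (e u) ≫ E.obj.hom)
    (Groth.Agent.AlgSpc.repWith_comp ((repWith_yon_map_iff _ _).2 (he u)) E.property)
  let g : ∀ u, E' u ⟶ E := fun u => EtOver.homMk (E := E' u) (E' := E) (e u) rfl
  refine (etTop Y.obj).superset_covering ?_ (ofArrows_mem_etTop E' g fun u => ⟨u, hu u⟩)
  rw [Sieve.ofArrows, Sieve.generate_le_iff]
  rintro _ _ ⟨u⟩
  have h1 := (Sieve.overEquiv_iff _ _).1 (h u)
  have h2 := R.downward_closed h1 (Z := G.obj (E' u)) (Over.homMk (𝟙 _) ?_)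
  · exact (congrArg (R.arrows ·) (Over.OverMorphism.ext (by simp [g, G]; rfl))).mp h2
  · ext : 1
    simp [E', G, EtOver.toEtSpOver, EtOver.mk]
    rfl

end Groth.Agent.S10512
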