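import Groth.Statements.S10513
import Groth.Agent.AlgSpc.LocP

set_option autoImplicit false
set_option backward.isDefEq.respectTransparency false
universe u
open CategoryTheory CategoryTheory.Limits AlgebraicGeometry
open AlgSp

namespace Groth.Agent.S10513

/-- Coverings of the small etale site contain jointly surjective families. -/
theorem exists_cover {S : Scheme.{u}} {Y : AlgSp.Sp S} {E : EtOver Y} {R : Sieve E} (hR : R ∈ etTop Y E) :
    ∀ (E' : EtOver Y) (φ : E' ⟶ E) (u : ↥E'.obj.left.left),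
      ∃ (W : EtOver Y) (e : W ⟶ E'), u ∈ Set.range e.hom.left.left ∧ R (e ≫ φ) := by
  induction hR with
  | of E R hR =>
    intro E' φ u
    have hmem : Presieve.ofArrows (fun p : Σ W, {e : W ⟶ E // R e} => p.1) (fun p => p.2.1) ∈ etPre Y E := by
      have : Presieve.ofArrows (fun p : Σ W, {e : W ⟶ E // R e} => p.1) (fun p => p.2.1) = R := by
        funext Z
        ext g
        exact ⟨fun ⟨p⟩ => p.2.2, fun hg => Presieve.ofArrows.mk (⟨Z, g, hg⟩ : Σ W, {e : W ⟶ E // R e})⟩
      rw [this]; exact hR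
    obtain ⟨⟨W, g, hg⟩, w, hw⟩ := (ofArrows_mem_etPre_iff _ _).1 hmem (φ.hom.left.left u)
    have sq := (AlgSp.EtOver.isPullback φ g).map (EtOver.toScheme Y)
    obtain ⟨t, ht, -⟩ := Scheme.Pullback.exists_preimage_pullback (f := φ.hom.left.left) (g := g.hom.left.left)
      u w hw.symm
    refine ⟨AlgSp.EtOver.pullbackObj φ g, AlgSp.EtOver.pullbackFst φ g, ⟨sq.isoPullback.inv t, ?_⟩, ?_⟩
    · exact (congrArg (fun k => k t) sq.isoPullback_inv_fst).trans ht
    · exact ⟨W, AlgSp.EtOver.pullbackSnd φ g, g, hg, (AlgSp.EtOver.isPullback φ g).w.symm⟩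
  | top =>
    intro E' φ u
    exact ⟨E', 𝟙 _, ⟨u, rfl⟩, trivial⟩
  | pullback E R hR E₁ f ih =>
    intro E' φ u
    obtain ⟨W, e, hu, h⟩ := ih E' (φ ≫ f) u
    exact ⟨W, e, hu, by show R ((e ≫ φ) ≫ f); rwa [Category.assoc]⟩
  | transitive E R T hR hT ih1 ih2 =>
    intro E' φ u
    obtain ⟨W, e, ⟨w, rfl⟩, h⟩ := ih1 E' φ u
    obtain ⟨W', e', ⟨w', rfl⟩, h'⟩ := ih2 h W (𝟙 _) w
    refine ⟨W', e' ≫ e, ⟨w', rfl⟩, ?_⟩
    rw [Category.comp_id] at h'
    rw [Category.assoc]
    exact h'


/-- For a morphism `f : Y ⟶ X` of algebraic spaces over `S`, the functor from the small etale site of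
`Y` (scheme objects) to the big etale site `(Spaces/X)_{etale}` sending `h_U ⟶ Y` to `h_U ⟶ Y ⟶ X`
is continuous (precomposition with it carries sheaves of types to sheaves); for `f = 𝟙` this is the
continuity of the inclusion of the small etale site of `X` into its big etale site. (Stated for the
small etale site with scheme objects, which defines the same topos as the one with algebraic-space
objects.) -/
theorem result {S : Scheme.{u}} {X Y : AlgSp.Space S} (f : Y ⟶ X) :
    (AlgSp.EtOver.toEtSpOver Y ⋙ ObjectProperty.ι (fun E : Over Y => AlgSp.IsEtaleMor E.hom.hom) ⋙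
        Over.map f).IsContinuous (AlgSp.etTop Y.obj) (AlgSp.spacesTopOver AlgSp.IsEtaleMor X) := by
  set G := AlgSp.EtOver.toEtSpOver Y ⋙ ObjectProperty.ι (fun E : Over Y => AlgSp.IsEtaleMor E.hom.hom) ⋙
        Over.map f with hG
  apply Functor.isContinuous_of_coverPreserving
  · refine ⟨fun ℱ Z T x hx Y₁ Y₂ Q f₁ f₂ g₁ g₂ hg₁ hg₂ hf => ?_⟩
    have sq := ((AlgSp.EtOver.isPullback g₁ g₂).map (EtOver.forget Y.obj)).map (yon S)
    have hw : f₁.left.hom ≫ (yon S).map g₁.hom.left = f₂.left.hom ≫ (yon S).map g₂.hom.left :=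
      congrArg (fun k => k.left.hom) hf
    let l₀ : Q.left ⟶ (ofScheme S).obj (EtOver.pullbackObj g₁ g₂).obj.left :=
      ObjectProperty.homMk (sq.lift f₁.left.hom f₂.left.hom hw)
    have l₁ : l₀ ≫ (ofScheme S).map (EtOver.pullbackFst g₁ g₂).hom.left = f₁.left := by
      ext : 1; exact sq.lift_fst _ _ _
    have l₂ : l₀ ≫ (ofScheme S).map (EtOver.pullbackSnd g₁ g₂).hom.left = f₂.left := by
      ext : 1; exact sq.lift_snd _ _ _
    let l : Q ⟶ G.obj (EtOver.pullbackObj g₁ g₂) := Over.homMk l₀ (by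
      rw [← Over.w f₁, ← l₁, Category.assoc]
      exact congrArg (l₀ ≫ ·) (Over.w (G.map (EtOver.pullbackFst g₁ g₂))).symm)
    have e₁ : f₁ = l ≫ G.map (EtOver.pullbackFst g₁ g₂) := Over.OverMorphism.ext l₁.symm
    have e₂ : f₂ = l ≫ G.map (EtOver.pullbackSnd g₁ g₂) := Over.OverMorphism.ext l₂.symm
    rw [e₁, e₂]
    simp only [op_comp, Functor.map_comp, types_comp_apply]
    exact congrArg _ (hx _ _ hg₁ hg₂ (AlgSp.EtOver.isPullback g₁ g₂).w)
  · refine ⟨fun {E} R hR => ?_⟩
    rw [GrothendieckTopology.mem_over_iff]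
    choose W e hu h using fun u => exists_cover hR E (𝟙 _) u
    have hmem : Presieve.ofArrows (fun u => (ofScheme S).obj (W u).obj.left)
        (fun u => (ofScheme S).map (e u).hom.left) ∈ spacesPre S IsEtaleMor ((ofScheme S).obj E.obj.left) := by
      rw [ofArrows_mem_spacesPre_iff]
      refine ⟨fun u => (isEtaleMor_yon_map_iff _).2 (EtOver.etale_left (e u)), fun x => ?_⟩
      obtain ⟨w, hw⟩ := hu (Points.toScheme E.obj.left x)
      refine ⟨Points.toScheme E.obj.left x, Points.ofScheme _ w, ?_⟩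
      show Points.map ((yon S).map _) _ = x
      rw [Points.map_ofPt, Category.id_comp, ← Category.comp_id ((yon S).map _), Groth.Agent.AlgSpc.ofPt_comp]
      exact (congrArg (Points.ofScheme _) hw).trans (Points.ofScheme_toScheme _ x)
    refine GrothendieckTopology.superset_covering _ ?_ (Precoverage.generate_mem_toGrothendieck hmem)
    rw [Sieve.generate_le_iff]
    rintro _ _ ⟨u⟩
    have h' := h u
    rw [Category.comp_id] at h'
    exact ⟨G.obj (W u), G.map (e u), 𝟙 _, ⟨W u, e u, 𝟙 (G.obj (W u)), h', (Category.id_comp (G.map (e u))).symm⟩,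
      (Category.id_comp _).symm⟩

end Groth.Agent.S10513
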