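import Groth.Statements.S1053
import Groth.Agent.DerCat.KInjLib
import Mathlib.Algebra.Homology.DerivedCategory.KProjective

set_option autoImplicit false
set_option backward.isDefEq.respectTransparency false
set_option backward.defeqAttrib.useBackward true
universe w v u
open CategoryTheory CategoryTheory.Limits
open CohDer

namespace Groth.Agent.S1053

/-- Let P and K be cochain complexes in an abelian category with P bounded, consisting of projective
objects and zero in degrees below n, and with Hⁱ(K) = 0 for all i ≥ n. Then every morphism P ⟶ K in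
the homotopy category and every morphism P ⟶ K in the derived category is zero. -/
theorem result {A : Type u} [Category.{v} A] [Abelian A] [HasDerivedCategory.{w} A]
    (P K : CochainComplex A ℤ) (n b : ℤ) [P.IsStrictlyGE n] [P.IsStrictlyLE b] (hP : ∀ i : ℤ, Projective (P.X i))
    (hK : ∀ i : ℤ, n ≤ i → IsZero (K.homology i)) :
    (∀ φ : (HomotopyCategory.quotient A (ComplexShape.up ℤ)).obj P ⟶ (HomotopyCategory.quotient A (ComplexShape.up ℤ)).obj K, φ = 0) ∧
    (∀ φ : DerivedCategory.Q.obj P ⟶ DerivedCategory.Q.obj K, φ = 0) := by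
  have hex : ∀ i, n ≤ i → K.ExactAt i := fun i hi ↦
    (K.exactAt_iff_isZero_homology i).2 (hK i hi)
  have h1 : ∀ φ : (HomotopyCategory.quotient A (ComplexShape.up ℤ)).obj P ⟶
      (HomotopyCategory.quotient A (ComplexShape.up ℤ)).obj K, φ = 0 := by
    intro φ
    obtain ⟨f, rfl⟩ := (HomotopyCategory.quotient A (ComplexShape.up ℤ)).map_surjective φ
    obtain ⟨h⟩ := DerCat.nullHomotopic_of_projective n b hP hex f
    rw [HomotopyCategory.eq_of_homotopy _ _ h, Functor.map_zero]
  haveI := hP
  haveI : P.IsKProjective := CochainComplex.isKProjective_of_projective P b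
  refine ⟨h1, fun φ ↦ ?_⟩
  let e := DerivedCategory.quotientCompQhIso A
  obtain ⟨g, hg⟩ := (CochainComplex.IsKProjective.Qh_map_bijective P
    ((HomotopyCategory.quotient A (ComplexShape.up ℤ)).obj K)).2 (e.hom.app P ≫ φ ≫ e.inv.app K)
  rw [h1 g, Functor.map_zero] at hg
  rw [← cancel_epi (e.hom.app P), ← cancel_mono (e.inv.app K), Category.assoc, ← hg, comp_zero, zero_comp]

end Groth.Agent.S1053
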