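import Groth.Statements.S10559
import Groth.Agent.AlgSpLoc.DescendMor
-- import your own Groth.Agent.* helpers here

set_option autoImplicit false
universe u
open CategoryTheory CategoryTheory.Limits AlgebraicGeometry
open AlgSp

namespace Groth.Agent.S10559

/-- Let f : X ⟶ Y and q : Y ⟶ B be morphisms of algebraic spaces over S. If f is surjective and smooth
and f ≫ q is smooth, then q is smooth; if f is surjective and etale and f ≫ q is etale, then q is
etale. (The syntomic case of the published statement is not included.) -/
theorem result {S : Scheme.{u}} {X Y B : AlgSp.Space S} (f : X ⟶ Y) (q : Y ⟶ B)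
    (hs : AlgSp.IsSurjectiveMor f.hom) :
    (AlgSp.LocP @Smooth f.hom → AlgSp.LocP @Smooth (f ≫ q).hom → AlgSp.LocP @Smooth q.hom) ∧
    (AlgSp.IsEtaleMor f.hom → AlgSp.IsEtaleMor (f ≫ q).hom → AlgSp.IsEtaleMor q.hom) := by
  open Groth.Agent.AlgSpLoc in
  exact ⟨fun hf h => smooth_of_fppf_comp X.property Y.property B.property hs (flat_lfp_of_smooth hf) h,
    fun hf h => isEtaleMor_of_fppf_comp X.property Y.property B.property hs
      (flat_lfp_of_etale X.property Y.property hf) h⟩

end Groth.Agent.S10559
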