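import Groth.Statements.S10564
import Groth.Agent.AlgSpLoc.DescendPropSp
-- import your own Groth.Agent.* helpers here

set_option autoImplicit false
universe u
open CategoryTheory CategoryTheory.Limits AlgebraicGeometry
open AlgSp

namespace Groth.Agent.S10564

/-- For a smooth morphism f : X ⟶ Y of algebraic spaces over S, reducedness of Y implies reducedness of
X, and when f is moreover surjective, reducedness of X implies reducedness of Y. -/
theorem result {S : Scheme.{u}} {X Y : AlgSp.Space S} (f : X ⟶ Y) (hf : AlgSp.LocP @Smooth f.hom) :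
    (AlgSp.IsReducedSp Y.obj → AlgSp.IsReducedSp X.obj) ∧
    (AlgSp.IsSurjectiveMor f.hom → AlgSp.IsReducedSp X.obj → AlgSp.IsReducedSp Y.obj) := by
  open Groth.Agent.AlgSpc in
  refine ⟨fun hY => ?_, fun hs hX => ?_⟩
  · obtain ⟨V, b, hb, hbs, hV⟩ := hY
    have sR := IsPullback.of_hasPullback f.hom b
    obtain ⟨W, c, hc, hcs⟩ :=
      (isAlgSpace_of_isPullback X.property Y.property (IsAlgSpace.yon_obj V) sR).atlas
    let h := pre (c ≫ pullback.snd f.hom b)
    have hm : RepWith @Etale (c ≫ pullback.fst f.hom b) := repWith_comp hc (repWith_of_isPullback sR.flip hb)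
    have hms : RepWith @Surjective (c ≫ pullback.fst f.hom b) :=
      repWith_comp hcs (repWith_of_isPullback sR.flip hbs)
    have : Smooth h.left := hf _ b h hm hb (by simp [h, pullback.condition])
    exact ⟨W, _, hm, hms, Groth.Agent.SmoothReduced.isReduced_of_smooth_scheme h.left⟩
  · exact Groth.Agent.AlgSpLoc.isReducedSp_of_flat_surjective Y.property
      (locP_mono (fun _ _ e (_ : Smooth e) => inferInstanceAs (Flat e)) hf) hs hX

end Groth.Agent.S10564
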