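import Groth.Statements.S10572
import Groth.Agent.AlgSpDesc.FpqcSheaf
-- import your own Groth.Agent.* helpers here

set_option autoImplicit false
universe u
open CategoryTheory CategoryTheory.Limits AlgebraicGeometry
open AlgSp

set_option backward.isDefEq.respectTransparency false
set_option maxHeartbeats 1000000

namespace Groth.Agent.S10572

open Groth.Agent.AlgSpc Groth.Agent.AlgSpDesc

theorem isCover_of_affines {Z : Scheme.{u}} [IsAffine Z] {m : ℕ} {W : Fin m → Scheme.{u}} (c : ∀ j, W j ⟶ Z)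
    (hW : ∀ j, IsAffine (W j)) (hc : ∀ j, Flat (c j)) (hs : ∀ z : Z, ∃ j, z ∈ Set.range (c j)) :
    SchDescent.IsCover c := by
  refine ⟨(Scheme.presieve₀_mem_qcPrecoverage_iff (E := PreZeroHypercover.mk (Fin m) W c)).mpr
    ⟨fun {U} hU => ?_⟩, (Scheme.ofArrows_mem_precoverage_iff (P := @Flat)).mpr ⟨hs, hc⟩⟩
  refine IsCompactOpenCovered.of_finite_of_isSpectralMap (S := Z) (fun j => ?_) (fun z _ => ?_) U.2 hU.isCompact
  · haveI := hW j
    haveI : QuasiCompact (c j) := inferInstance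
    exact (c j).isSpectralMap
  · exact hs z

/-- Let {g_i : T_i ⟶ T} be a family of algebraic spaces over S forming an fpqc covering, and B an
algebraic space over S. Then Mor(T, B) ⟶ ∏ Mor(T_i, B) ⇉ ∏ Mor(T_i ×_T T_j, B) is an equalizer
diagram: a morphism T ⟶ B is determined by its restrictions to the T_i, and every family T_i ⟶ B
agreeing on the fibre products T_i ×_T T_j comes from a morphism T ⟶ B. -/
theorem result {S : Scheme.{u}} {ι : Type u} {T : AlgSp.Space S}
    (Ti : ι → AlgSp.Space S) (g : ∀ i, Ti i ⟶ T)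
    (hg : AlgSp.IsFpqcCover (fun i => (Ti i).obj) (fun i => (g i).hom)) (B : AlgSp.Space S) :
    (∀ a b : T ⟶ B, (∀ i, g i ≫ a = g i ≫ b) → a = b) ∧
    (∀ bi : ∀ i, Ti i ⟶ B,
      (∀ i j, pullback.fst (g i).hom (g j).hom ≫ (bi i).hom = pullback.snd (g i).hom (g j).hom ≫ (bi j).hom) →
      ∃ b : T ⟶ B, ∀ i, g i ≫ b = bi i) := by
  classical
  let P : ∀ (Z : Over S), ((AlgSp.yon S).obj Z ⟶ T.obj) → ∀ (bi : ∀ i, (Ti i).obj ⟶ B.obj),
      ((AlgSp.yon S).obj Z ⟶ B.obj) → Prop := fun Z x bi y =>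
    ∀ (V : Over S) (z : V ⟶ Z) (i : ι) (l : (AlgSp.yon S).obj V ⟶ (Ti i).obj),
      l ≫ (g i).hom = (AlgSp.yon S).map z ≫ x → (AlgSp.yon S).map z ≫ y = l ≫ bi i
  -- uniqueness
  have huniq : ∀ (Z : Over S) (x : (AlgSp.yon S).obj Z ⟶ T.obj) (y y' : (AlgSp.yon S).obj Z ⟶ B.obj),
      (∀ (V : Over S) (z : V ⟶ Z) (i : ι) (l : (AlgSp.yon S).obj V ⟶ (Ti i).obj),
        l ≫ (g i).hom = (AlgSp.yon S).map z ≫ x → (AlgSp.yon S).map z ≫ y = (AlgSp.yon S).map z ≫ y') →
      y = y' := by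
    intro Z x y y' h
    refine AlgSpLoc.hom_ext_of_openCover (fun O : Z.left.affineOpens => AlgSpLoc.openSub Z O.1)
      (fun O => AlgSpLoc.openSubι Z O.1) (fun O => inferInstance) (fun t => by
        obtain ⟨_, ⟨O, hO, rfl⟩, ht, -⟩ :=
          Z.left.isBasis_affineOpens.exists_subset_of_mem_open (Set.mem_univ t) isOpen_univ
        exact ⟨⟨O, hO⟩, ⟨t, ht⟩, rfl⟩) fun O => ?_
    haveI : IsAffine (AlgSpLoc.openSub Z O.1).left := O.2
    obtain ⟨m, W, c, hW, hc, hs, hl⟩ := hg.2 (AlgSpLoc.openSub Z O.1) O.2 ((AlgSp.yon S).map (AlgSpLoc.openSubι Z O.1) ≫ x)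
    refine eq_of_cover B.property c (isCover_of_affines _ hW hc hs) _ _ fun k => ?_
    obtain ⟨i, l, hli⟩ := hl k
    rw [← Functor.map_comp_assoc, ← Functor.map_comp_assoc]
    exact h _ _ i l (by rw [Functor.map_comp, Category.assoc]; exact hli)
  refine ⟨fun a b h => ?_, fun bi hbi => ?_⟩
  · apply ObjectProperty.hom_ext
    have key : ∀ (Z : Over S) (x : (AlgSp.yon S).obj Z ⟶ T.obj), x ≫ a.hom = x ≫ b.hom := fun Z x =>
      huniq Z x _ _ fun V z i l hl => by
        have h' := congrArg (fun e : Ti i ⟶ B => l ≫ e.hom) (h i)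
        simp only [ObjectProperty.FullSubcategory.comp_hom, ← Category.assoc] at h'
        rw [← Category.assoc, ← Category.assoc, ← hl, h']
    ext1
    ext Z t
    have := congrArg (AlgSp.J S).uliftYonedaEquiv (key Z.unop ((AlgSp.J S).uliftYonedaEquiv.symm t))
    rw [GrothendieckTopology.uliftYonedaEquiv_comp, GrothendieckTopology.uliftYonedaEquiv_comp,
      Equiv.apply_symm_apply] at this
    exact this
  -- existence
  have compat : ∀ {V : Over S} {i i' : ι} (l : (AlgSp.yon S).obj V ⟶ (Ti i).obj)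
      (l' : (AlgSp.yon S).obj V ⟶ (Ti i').obj), l ≫ (g i).hom = l' ≫ (g i').hom →
      l ≫ (bi i).hom = l' ≫ (bi i').hom := by
    intro V i i' l l' h
    have h2 := congrArg (fun e => pullback.lift l l' h ≫ e) (hbi i i')
    simpa using h2
  have haff : ∀ (Z : Over S), IsAffine Z.left → ∀ x : (AlgSp.yon S).obj Z ⟶ T.obj,
      ∃ y, P Z x (fun i => (bi i).hom) y := by
    intro Z hZ x
    haveI := hZ
    obtain ⟨m, W, c, hW, hc, hs, hl⟩ := hg.2 Z hZ x
    choose i l hli using hl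
    have hcov := isCover_of_affines (fun j => (c j).left) hW hc hs
    obtain ⟨y, hy, -⟩ := existsUnique_desc B.property c hcov (fun j => l j ≫ (bi (i j)).hom)
      fun j j' V z z' hzz => by
        rw [← Category.assoc, ← Category.assoc]
        refine compat _ _ ?_
        rw [Category.assoc, Category.assoc, hli, hli, ← Functor.map_comp_assoc, ← Functor.map_comp_assoc, hzz]
    refine ⟨y, fun V z i₀ l₀ hl₀ => ?_⟩
    let V' : Fin m → Over S := fun j => Over.mk (pullback.fst z.left (c j).left ≫ V.hom)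
    let e : ∀ j, V' j ⟶ V := fun j => Over.homMk (pullback.fst z.left (c j).left) rfl
    let q : ∀ j, V' j ⟶ W j := fun j => Over.homMk (pullback.snd z.left (c j).left) (by
      change _ = pullback.fst z.left (c j).left ≫ V.hom
      rw [← Over.w (c j), ← pullback.condition_assoc, Over.w])
    have he : ∀ j, e j ≫ z = q j ≫ c j := fun j => by ext; exact pullback.condition
    refine eq_of_cover B.property e (SchDescent.isCover_pullback hcov z.left) _ _ fun j => ?_
    rw [← Functor.map_comp_assoc, he, Functor.map_comp_assoc, hy, ← Category.assoc, ← Category.assoc]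
    refine compat _ _ ?_
    rw [Category.assoc, Category.assoc, hli, hl₀, ← Functor.map_comp_assoc, ← Functor.map_comp_assoc, he]
  have hall : ∀ (Z : Over S) (x : (AlgSp.yon S).obj Z ⟶ T.obj), ∃ y, P Z x (fun i => (bi i).hom) y := by
    intro Z x
    choose y hy using fun O : Z.left.affineOpens =>
      haff (AlgSpLoc.openSub Z O.1) O.2 ((AlgSp.yon S).map (AlgSpLoc.openSubι Z O.1) ≫ x)
    have hs : ∀ t : ↥Z.left, ∃ O : Z.left.affineOpens, t ∈ Set.range (AlgSpLoc.openSubι Z O.1).left := fun t => by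
      obtain ⟨_, ⟨O, hO, rfl⟩, ht, -⟩ :=
        Z.left.isBasis_affineOpens.exists_subset_of_mem_open (Set.mem_univ t) isOpen_univ
      exact ⟨⟨O, hO⟩, ⟨t, ht⟩, rfl⟩
    obtain ⟨y₀, hy₀, -⟩ := AlgSpLoc.existsUnique_glue (fun O : Z.left.affineOpens => AlgSpLoc.openSub Z O.1)
      (fun O => AlgSpLoc.openSubι Z O.1) (fun O => inferInstance) hs y fun O O' V z z' h => by
        refine huniq V ((AlgSp.yon S).map z ≫ (AlgSp.yon S).map (AlgSpLoc.openSubι Z O.1) ≫ x) _ _
          fun V' w i l hl => ?_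
        rw [← Functor.map_comp_assoc, ← Functor.map_comp_assoc, hy O V' (w ≫ z) i l,
          hy O' V' (w ≫ z') i l]
        · rw [hl, ← Functor.map_comp_assoc (AlgSp.yon S) z, h]
          simp
        · rw [hl]; simp
    refine ⟨y₀, fun V z i l hl => ?_⟩
    refine AlgSpLoc.hom_ext_of_openCover
      (fun O : Z.left.affineOpens => AlgSpLoc.openSub V (z.left ⁻¹ᵁ O.1))
      (fun O => AlgSpLoc.openSubι V _) (fun O => inferInstance) (fun v => ?_) fun O => ?_
    · obtain ⟨_, ⟨O, hO, rfl⟩, ht, -⟩ :=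
        Z.left.isBasis_affineOpens.exists_subset_of_mem_open (Set.mem_univ (z.left v)) isOpen_univ
      exact ⟨⟨O, hO⟩, ⟨v, ht⟩, rfl⟩
    · let r : AlgSpLoc.openSub V (z.left ⁻¹ᵁ O.1) ⟶ AlgSpLoc.openSub Z O.1 :=
        Over.homMk (z.left ∣_ O.1) (by
          change _ ≫ O.1.ι ≫ Z.hom = (z.left ⁻¹ᵁ O.1).ι ≫ V.hom
          rw [morphismRestrict_ι_assoc, Over.w])
      have hr : AlgSpLoc.openSubι V _ ≫ z = r ≫ AlgSpLoc.openSubι Z O.1 := by
        ext; exact (morphismRestrict_ι _ _).symm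
      rw [← Functor.map_comp_assoc, hr, Functor.map_comp_assoc, hy₀, ← Category.assoc]
      refine hy O _ r i _ ?_
      rw [Category.assoc, hl, ← Functor.map_comp_assoc, hr, Functor.map_comp_assoc]
  choose y hy using hall
  have hnat : ∀ {Z Z' : Over S} (w : Z' ⟶ Z) (x : (AlgSp.yon S).obj Z ⟶ T.obj),
      y Z' ((AlgSp.yon S).map w ≫ x) = (AlgSp.yon S).map w ≫ y Z x := fun {Z Z'} w x =>
    huniq Z' ((AlgSp.yon S).map w ≫ x) _ _ fun V z i l hl => by
      rw [hy Z' _ V z i l hl, ← Functor.map_comp_assoc,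
        hy Z x V (z ≫ w) i l (by rw [hl, Functor.map_comp_assoc])]
  let η : T.obj.obj ⟶ B.obj.obj :=
    { app := fun Z => ↾fun t => (AlgSp.J S).uliftYonedaEquiv (y Z.unop ((AlgSp.J S).uliftYonedaEquiv.symm t))
      naturality := fun Z Z' w => by
        ext t
        obtain ⟨w', rfl⟩ : ∃ w', w = w'.op := ⟨w.unop, rfl⟩
        dsimp
        erw [GrothendieckTopology.uliftYonedaEquiv_naturality]
        rw [← hnat w']
        congr 2
        apply (AlgSp.J S).uliftYonedaEquiv.injective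
        rw [← GrothendieckTopology.uliftYonedaEquiv_naturality]
        simp }
  let b₀ : T.obj ⟶ B.obj := ObjectProperty.homMk η
  have hb₀ : ∀ (Z : Over S) (x : (AlgSp.yon S).obj Z ⟶ T.obj), x ≫ b₀ = y Z x := fun Z x => by
    apply (AlgSp.J S).uliftYonedaEquiv.injective
    rw [GrothendieckTopology.uliftYonedaEquiv_comp]
    change (AlgSp.J S).uliftYonedaEquiv (y Z ((AlgSp.J S).uliftYonedaEquiv.symm _)) = _
    rw [Equiv.symm_apply_apply]
  refine ⟨ObjectProperty.homMk b₀, fun i => ?_⟩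
  apply ObjectProperty.hom_ext
  change (g i).hom ≫ b₀ = (bi i).hom
  ext1
  ext Z t
  have h := hb₀ Z.unop ((AlgSp.J S).uliftYonedaEquiv.symm t ≫ (g i).hom)
  have h2 := hy Z.unop ((AlgSp.J S).uliftYonedaEquiv.symm t ≫ (g i).hom) _ (𝟙 _) i
    ((AlgSp.J S).uliftYonedaEquiv.symm t) (by simp)
  rw [CategoryTheory.Functor.map_id, Category.id_comp, ← h, Category.assoc] at h2
  have h3 := congrArg (AlgSp.J S).uliftYonedaEquiv h2
  rw [GrothendieckTopology.uliftYonedaEquiv_comp, GrothendieckTopology.uliftYonedaEquiv_comp,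
    Equiv.apply_symm_apply] at h3
  exact h3

end Groth.Agent.S10572
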