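import Groth.Statements.S10579
import Groth.Agent.BranchCount.Descent
import Groth.Agent.AlgSpc.Basic

set_option autoImplicit false
universe u
open CategoryTheory CategoryTheory.Limits AlgebraicGeometry
open AlgSp

namespace Groth.Agent.S10579

/-- Let f : X ⟶ Y be a morphism of algebraic spaces over S and x ∈ |X|. If X is geometrically unibranch
at x and f is flat at x, then Y is geometrically unibranch at the image point f(x). Here an
algebraic space is geometrically unibranch at a point when for every etale chart from a scheme U and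
every point u of U over it the local ring of U at u is geometrically unibranch. -/
theorem result {S : Scheme.{u}} {X Y : AlgSp.Space S} (f : X ⟶ Y) (x : AlgSp.Points X.obj)
    (hf : AlgSp.IsFlatAtMor f.hom x)
    (hX : ∀ (U : Over S) (a : (AlgSp.yon S).obj U ⟶ X.obj) (v : ↥U.left), AlgSp.RepWith @Etale a →
      AlgSp.Points.ofPt a v = x → CAlg2.IsGeomUnibranch ↥(U.left.presheaf.stalk v))
    (V : Over S) (b : (AlgSp.yon S).obj V ⟶ Y.obj) (w : ↥V.left) (hb : AlgSp.RepWith @Etale b)
    (hw : AlgSp.Points.ofPt b w = AlgSp.Points.map f.hom x) :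
    CAlg2.IsGeomUnibranch ↥(V.left.presheaf.stalk w) := by
  obtain ⟨U, a, ha, has⟩ := X.property.atlas
  obtain ⟨u, hu⟩ := AlgSpc.surjective_ofPt has x
  obtain ⟨W, fst, snd, sq⟩ := AlgSpc.exists_sq hb.1 (a ≫ f.hom)
  obtain ⟨ω, hω₁, hω₂⟩ := AlgSpc.exists_point_of_sq sq (AlgSp.Points.ofScheme V w) u (by
    rw [← AlgSp.Points.ofPt_eq_map_ofScheme, hw, ← AlgSp.Points.map_ofPt, hu])
  haveI : Etale snd.left := hb.2 _ fst snd sq
  have ha' : AlgSp.RepWith @Etale ((AlgSp.yon S).map snd ≫ a) :=
    AlgSpc.repWith_comp ((AlgSp.repWith_yon_map_iff (P := @Etale) _).2 inferInstance) ha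
  have hw' : (AlgSpc.pre fst).left ω = w := by
    rw [AlgSpc.ofPt_pre] at hω₁
    exact (AlgSp.Points.schemeEquiv V).injective hω₁
  have hfl := hf ((AlgSp.yon S).map snd ≫ a) b (AlgSpc.pre fst) ω ha' hb
    (by rw [AlgSpc.map_pre, Category.assoc, ← sq.w]) (by rw [AlgSpc.ofPt_comp, hω₂, hu])
  rw [← hw']
  exact BranchCount.isGeomUnibranch_of_flat_stalkMap _ ω hfl
    (hX _ _ ω ha' (by rw [AlgSpc.ofPt_comp, hω₂, hu]))

end Groth.Agent.S10579
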