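import Groth.Statements.S10580
import Groth.Agent.AlgSpLoc.Source
-- import your own Groth.Agent.* helpers here

set_option autoImplicit false
universe u
open CategoryTheory CategoryTheory.Limits AlgebraicGeometry
open AlgSp

namespace Groth.Agent.S10580

/-- Let P be a property of morphisms of schemes and P_spaces the induced property of morphisms of
algebraic spaces over S (P on every etale chart diagram). For τ one of fpqc, fppf, smooth, etale: if
P is τ local on the source for morphisms of schemes, then P_spaces is τ local on the source for
morphisms of algebraic spaces. (The published statement assumes P etale local on the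
source-and-target, which is what makes the chart-wise property the right notion; the implication
itself holds for every P and is stated that way. The syntomic case is not included. τ-locality on
the source for schemes is taken in the form that includes invariance of P under isomorphisms, which
the published definition requires implicitly.) -/
theorem result (S : Scheme.{u}) (P : MorphismProperty Scheme.{u}) :
    (P.IsLocalAtSource Scheme.fpqcPrecoverage → AlgSp.IsLocalOnSource (AlgSp.IsFpqcCover (S := S)) (AlgSp.LocP P)) ∧
    (P.IsLocalAtSource Scheme.fppfPrecoverage → AlgSp.IsLocalOnSource (AlgSp.IsFppfCover (S := S)) (AlgSp.LocP P)) ∧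
    (P.IsLocalAtSource (Scheme.precoverage @Smooth) → AlgSp.IsLocalOnSource (AlgSp.IsSmCover (S := S)) (AlgSp.LocP P)) ∧
    (P.IsLocalAtSource Scheme.etalePrecoverage → AlgSp.IsLocalOnSource (AlgSp.IsEtCover (S := S)) (AlgSp.LocP P)) := by
  have hfl : ∀ A : Scheme.{u}, Flat (𝟙 A) := fun A => inferInstance
  refine ⟨fun h => Groth.Agent.AlgSpLoc.isLocalOnSource_fpqc P, fun h => ?_, fun h => ?_, fun h => ?_⟩
  · have : P.IsLocalAtSource (Scheme.precoverage (@Flat ⊓ @LocallyOfFinitePresentation)) := h
    exact Groth.Agent.AlgSpLoc.isLocalOnSource_of_precoverage (@Flat ⊓ @LocallyOfFinitePresentation) _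
      (fun A => ⟨hfl A, inferInstance⟩) (fun e he => by have : Etale e := he; exact ⟨inferInstance, inferInstance⟩)
      (fun A B g _ _ hg => Groth.Agent.AlgSpc.locP_inf.2 hg) P
  · exact Groth.Agent.AlgSpLoc.isLocalOnSource_of_precoverage @Smooth _
      (fun A => inferInstance) (fun e he => by have : Etale e := he; infer_instance)
      (fun A B g _ _ hg => hg) P
  · have : P.IsLocalAtSource (Scheme.precoverage @Etale) := h
    exact Groth.Agent.AlgSpLoc.isLocalOnSource_of_precoverage @Etale _
      (fun A => inferInstance) (fun e he => he)
      (fun A B g _ hB hg U V a b k ha hb w =>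
        Groth.Agent.AlgSpc.etale_of_comp (hg a ha) hb k w.symm) P

end Groth.Agent.S10580
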