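import Groth.Statements.S10583
import Groth.Agent.AlgSpc.Universal
import Groth.Agent.AlgSpLoc.OpenSubspace
-- import your own Groth.Agent.* helpers here

set_option autoImplicit false
universe u
open CategoryTheory CategoryTheory.Limits AlgebraicGeometry
open AlgSp

namespace Groth.Agent.S10583

/-- Let i : X ⟶ X' be a thickening of algebraic spaces (representable, every base change to a scheme a
surjective closed immersion) and let u : U ⟶ X be an open immersion. Then there is an open immersion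
u' : U' ⟶ X' with U = X ×_{X'} U' (a pullback square), and any two open subspaces of X' with this
property are isomorphic over X'. -/
theorem result {S : Scheme.{u}} {X X' U : AlgSp.Space S} (i : X ⟶ X')
    (hi : AlgSp.IsThickMor i.hom)
    (u : U ⟶ X) (hu : AlgSp.RepWith @IsOpenImmersion u.hom) :
    (∃ (U' : AlgSp.Space S) (u' : U' ⟶ X') (k : U ⟶ U'),
      AlgSp.RepWith @IsOpenImmersion u'.hom ∧ IsPullback u.hom k.hom i.hom u'.hom) ∧
    (∀ (U₁ U₂ : AlgSp.Space S) (u₁ : U₁ ⟶ X') (u₂ : U₂ ⟶ X') (k₁ : U ⟶ U₁) (k₂ : U ⟶ U₂),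
      AlgSp.RepWith @IsOpenImmersion u₁.hom → IsPullback u.hom k₁.hom i.hom u₁.hom →
      AlgSp.RepWith @IsOpenImmersion u₂.hom → IsPullback u.hom k₂.hom i.hom u₂.hom →
      ∃ e : U₁ ≅ U₂, e.hom ≫ u₂ = u₁) := by
  have hhom : IsHomeomorph (AlgSp.Points.map i.hom) := AlgSpc.isHomeomorph_map_of_repWith (P := AlgSp.thick) (fun _ _ f (h : IsClosedImmersion f ∧ Surjective f) =>
    have h1 := h.1
    have h2 := h.2
    IsHomeomorph.mk (Scheme.Hom.continuous f) (f.isClosedEmbedding.isEmbedding.isOpenEmbedding_of_surjective f.surjective).isOpenMap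
      ⟨f.isClosedEmbedding.injective, f.surjective⟩) hi
  have hopen : ∀ {A B : AlgSp.Sp S} {j : A ⟶ B}, AlgSp.RepWith @IsOpenImmersion j → IsOpen (Set.range (AlgSp.Points.map j)) :=
    fun hj => (AlgSpc.isOpenMap_map_of_repWith (P := @IsOpenImmersion) (fun _ _ k (_ : IsOpenImmersion k) => k.isOpenEmbedding.isOpenMap) hj).isOpen_range
  have hmono : ∀ {A B : AlgSp.Sp S} {j : A ⟶ B}, AlgSp.RepWith @IsOpenImmersion j → Mono j :=
    fun hj => AlgSpc.mono_of_repWith (fun _ _ e (_ : IsOpenImmersion e) => inferInstance) hj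
  haveI := hmono hu
  refine ⟨?_, ?_⟩
  · obtain ⟨U', u', hu', hr⟩ := AlgSpLoc.exists_openSubspace X' (hhom.isOpenMap _ (hopen hu))
    haveI := hmono hu'
    obtain ⟨k, hk⟩ := AlgSpLoc.exists_lift_openImm hu' (u.hom ≫ i.hom) (by
      rintro _ ⟨y, rfl⟩
      rw [hr, AlgSp.Points.map_comp]
      exact ⟨_, ⟨y, rfl⟩, rfl⟩)
    have hl : ∀ {Z : AlgSp.Sp S} (a : Z ⟶ X.obj) (b : Z ⟶ U'.obj), a ≫ i.hom = b ≫ u'.hom →
        ∃ l, l ≫ u.hom = a := by
      intro Z a b w
      refine AlgSpLoc.exists_lift_openImm hu a ?_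
      rintro _ ⟨z, rfl⟩
      have h1 : AlgSp.Points.map i.hom (AlgSp.Points.map a z) ∈ AlgSp.Points.map i.hom '' Set.range (AlgSp.Points.map u.hom) := by
        rw [← hr, ← AlgSp.Points.map_comp, w, AlgSp.Points.map_comp]
        exact ⟨_, rfl⟩
      exact hhom.injective.mem_set_image.1 h1
    refine ⟨U', u', ObjectProperty.homMk k, hu', ⟨⟨hk.symm⟩, ⟨PullbackCone.IsLimit.mk hk.symm
      (fun s => (hl s.fst s.snd s.condition).choose) (fun s => (hl s.fst s.snd s.condition).choose_spec)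
      (fun s => ?_) (fun s m h₁ h₂ => ?_)⟩⟩⟩
    · rw [← cancel_mono u'.hom]
      change ((hl s.fst s.snd s.condition).choose ≫ k) ≫ u'.hom = _
      rw [Category.assoc, hk, reassoc_of% (hl s.fst s.snd s.condition).choose_spec]
      exact s.condition
    · rw [← cancel_mono u.hom, (hl s.fst s.snd s.condition).choose_spec]
      exact h₁
  · intro U₁ U₂ u₁ u₂ k₁ k₂ h₁ sq₁ h₂ sq₂
    have hr : ∀ {V : AlgSp.Space S} (v : V ⟶ X') (k : U ⟶ V), AlgSp.RepWith @IsOpenImmersion v.hom →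
        IsPullback u.hom k.hom i.hom v.hom →
        Set.range (AlgSp.Points.map v.hom) = AlgSp.Points.map i.hom '' Set.range (AlgSp.Points.map u.hom) := by
      intro V v k hv sq
      refine Set.Subset.antisymm ?_ ?_
      · rintro x' ⟨y, rfl⟩
        obtain ⟨x, hx⟩ := hhom.surjective (AlgSp.Points.map v.hom y)
        induction x using AlgSp.Points.ind with
        | h p =>
          obtain ⟨l, hl⟩ := AlgSpLoc.exists_lift_openImm hv (p.toHom ≫ i.hom) (by
            rintro _ ⟨z, rfl⟩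
            obtain ⟨t, rfl⟩ := (AlgSp.Points.schemeEquiv p.pt).surjective z
            refine ⟨y, ?_⟩
            rw [AlgSp.Points.map_comp, ← hx]
            exact congrArg _ (((AlgSp.Points.ofPt_eq_map_ofScheme p.toHom t).symm.trans (AlgSp.Points.ofPt_toHom p t)).symm))
          refine ⟨_, ⟨AlgSp.Points.ofPt (sq.lift p.toHom l hl.symm) (IsLocalRing.closedPoint p.K), ?_⟩, hx⟩
          exact ((AlgSp.Points.map_ofPt _ u.hom _).trans (congrArg (fun g => AlgSp.Points.ofPt g _) (sq.lift_fst _ _ _))).trans (AlgSp.Points.ofPt_toHom p _)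
      · rintro _ ⟨_, ⟨z, rfl⟩, rfl⟩
        exact ⟨AlgSp.Points.map k.hom z, by rw [← AlgSp.Points.map_comp, ← sq.w, AlgSp.Points.map_comp]⟩
    haveI := hmono h₁
    haveI := hmono h₂
    have e₁ := hr u₁ k₁ h₁ sq₁
    have e₂ := hr u₂ k₂ h₂ sq₂
    obtain ⟨a, ha⟩ := AlgSpLoc.exists_lift_openImm h₂ u₁.hom (e₁.trans e₂.symm).le
    obtain ⟨b, hb⟩ := AlgSpLoc.exists_lift_openImm h₁ u₂.hom (e₂.trans e₁.symm).le
    refine ⟨⟨ObjectProperty.homMk a, ObjectProperty.homMk b, ?_, ?_⟩, ?_⟩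
    · ext1
      change a ≫ b = 𝟙 _
      rw [← cancel_mono u₁.hom, Category.assoc, hb, ha, Category.id_comp]
    · ext1
      change b ≫ a = 𝟙 _
      rw [← cancel_mono u₂.hom, Category.assoc, ha, hb, Category.id_comp]
    · ext1
      exact ha

end Groth.Agent.S10583
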