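import Groth.Statements.S10591
import Groth.Agent.AlgSpThickUnr.FiniteType
import Groth.Agent.AlgSpFibDim.Finite
import Groth.Agent.AlgSpDesc.Pointwise
import Groth.Agent.AlgSpc.Decent2
import Groth.Agent.S10593

set_option autoImplicit false
universe u
open CategoryTheory CategoryTheory.Limits AlgebraicGeometry
open AlgSp

namespace Groth.Agent.S10591

set_option backward.isDefEq.respectTransparency false
open CategoryTheory CategoryTheory.Limits Groth.Agent.AlgSpc

/-- Consider a morphism (f, f') from the thickening X ⊂ X' to the thickening Y ⊂ Y' of algebraic spaces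
over S, meaning: i : X ⟶ X' and j : Y ⟶ Y' are thickenings (representable, every base change to a
scheme a surjective closed immersion) and i ≫ f' = f ≫ j. Assume moreover that the square is
cartesian (X = Y ×_{Y'} X') and that i is a finite order thickening (for one n, on every affine
etale scheme chart of X' the (n+1)-st power of the ideal of the base change of X vanishes). Then f
is locally of finite type of relative dimension d, resp. locally of finite type, resp. locally
quasi-finite, resp. unramified, if and only if f' is (relative dimension d at a point: some chart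
diagram through the point has fibre of local dimension d there) (all in the etale-local sense,
locally quasi-finite and unramified including locally of finite type). -/
theorem result {S : Scheme.{u}} {X X' Y Y' : AlgSp.Space S} (i : X ⟶ X') (j : Y ⟶ Y')
    (f : X ⟶ Y) (f' : X' ⟶ Y')
    (hi : AlgSp.IsThickMor i.hom)
    (hj : AlgSp.IsThickMor j.hom) (w : i ≫ f' = f ≫ j)
    (hcart : IsPullback i.hom f.hom f'.hom j.hom)
    (hfo : AlgSp.IsFinThickMor i.hom) (d : ℕ) :
    ((AlgSp.LocP @LocallyOfFiniteType f.hom ∧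
        ∀ x, AlgSp.HasAtMor (fun _ _ h u => FlatMor.fibreDimAt h u = (d : WithBot ℕ∞)) f.hom x) ↔
      (AlgSp.LocP @LocallyOfFiniteType f'.hom ∧
        ∀ x', AlgSp.HasAtMor (fun _ _ h u => FlatMor.fibreDimAt h u = (d : WithBot ℕ∞)) f'.hom x')) ∧
    (AlgSp.LocP @LocallyOfFiniteType f.hom ↔ AlgSp.LocP @LocallyOfFiniteType f'.hom) ∧
    (AlgSp.LocP (@LocallyQuasiFinite ⊓ @LocallyOfFiniteType) f.hom ↔
      AlgSp.LocP (@LocallyQuasiFinite ⊓ @LocallyOfFiniteType) f'.hom) ∧
    (AlgSp.LocP (@LocallyOfFiniteType ⊓ @FormallyUnramified) f.hom ↔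
      AlgSp.LocP (@LocallyOfFiniteType ⊓ @FormallyUnramified) f'.hom) := by
  have hsurj : Function.Surjective (AlgSp.Points.map i.hom) :=
    surjective_map_of_repWith (repWith_mono (fun _ _ k (hk : AlgSp.thick k) => hk.2) hi)
  have hlft : AlgSp.LocP @LocallyOfFiniteType f.hom ↔ AlgSp.LocP @LocallyOfFiniteType f'.hom := by
    refine ⟨fun h => ?_, fun h => AlgSpc.locP_base_change X'.property Y'.property Y.property hcart h⟩
    obtain ⟨n, -, hn⟩ := hfo
    refine (AlgSpDesc.locP_iff_hasAtMor X'.property Y'.property _).2 fun x' => ?_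
    obtain ⟨U₁, V₁, a₁, b₁, k₁, ha₁, ha₁s, hb₁, -, w₁⟩ := exists_chart X'.property Y'.property f'.hom
    obtain ⟨u₁, rfl⟩ := surjective_ofPt ha₁s x'
    obtain ⟨V, jV, v, hV, hjV, hv, -⟩ := exists_affine_chart (k₁.left u₁) ⊤ trivial
    obtain ⟨U, jU, u, hU, hjU, hu, hle⟩ := exists_affine_chart u₁
      (k₁.left ⁻¹ᵁ jV.left.opensRange) ⟨v, hv⟩
    haveI := hjV
    haveI := hjU
    let k' : U.left ⟶ V.left := IsOpenImmersion.lift jV.left (jU ≫ k₁).left (by
      rintro _ ⟨z, rfl⟩
      exact hle ⟨z, rfl⟩)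
    let k : U ⟶ V := Over.homMk k' (by
      rw [← Over.w jV, ← Category.assoc, IsOpenImmersion.lift_fac]; exact Over.w _)
    have hk : k ≫ jV = jU ≫ k₁ := Over.OverMorphism.ext (IsOpenImmersion.lift_fac _ _ _)
    let a := (AlgSp.yon S).map jU ≫ a₁
    let b := (AlgSp.yon S).map jV ≫ b₁
    have ha : AlgSp.RepWith @Etale a := repWith_comp ((repWith_yon_map_iff @Etale jU).2 inferInstance) ha₁
    have hb : AlgSp.RepWith @Etale b := repWith_comp ((repWith_yon_map_iff @Etale jV).2 inferInstance) hb₁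
    have w' : a ≫ f'.hom = (AlgSp.yon S).map k ≫ b := by
      rw [Category.assoc, w₁, ← Category.assoc, ← Category.assoc, ← Functor.map_comp, ← Functor.map_comp, hk]
    obtain ⟨V0, t, s, sqj⟩ := exists_sq hj.1 b
    haveI : IsClosedImmersion s.left := (hj.2 _ _ _ sqj).1
    obtain ⟨W, wX, wU, sqi⟩ := exists_sq hi.1 a
    have hwX : AlgSp.RepWith @Etale wX := repWith_of_isPullback sqi.flip ha
    have ht : AlgSp.RepWith @Etale t := repWith_of_isPullback sqj.flip hb
    have e1 : (wX ≫ f.hom) ≫ j.hom = (AlgSp.yon S).map (wU ≫ k) ≫ b := by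
      rw [Category.assoc, ← hcart.w, ← Category.assoc, sqi.w, Category.assoc, w', Functor.map_comp, Category.assoc]
    let l : W ⟶ V0 := pre (sqj.lift _ _ e1)
    have hl₁ : (AlgSp.yon S).map l ≫ t = wX ≫ f.hom := by rw [map_pre, sqj.lift_fst]
    have hl₂ : (AlgSp.yon S).map l ≫ (AlgSp.yon S).map s = (AlgSp.yon S).map wU ≫ (AlgSp.yon S).map k := by
      rw [map_pre, sqj.lift_snd, Functor.map_comp]
    have sW : IsPullback ((AlgSp.yon S).map wU) ((AlgSp.yon S).map l) ((AlgSp.yon S).map k) ((AlgSp.yon S).map s) := by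
      refine (IsPullback.of_right ?_ hl₂ sqj).flip
      rw [hl₁, ← w']
      exact sqi.paste_horiz hcart.flip
    have sWo : IsPullback wU l k s := IsPullback.of_map (AlgSp.yon S) ((AlgSp.yon S).map_injective (by
      rw [Functor.map_comp, Functor.map_comp, sW.w])) sW
    have sWs : IsPullback wU.left l.left k.left s.left := sWo.map (Over.forget S)
    haveI : LocallyOfFiniteType l.left := h wX t l hwX ht hl₁.symm
    haveI : IsClosedImmersion wU.left := (hi.2 _ _ _ sqi).1
    have hker : wU.left.ker ^ (n + 1) = ⊥ := hn a wX wU hU ha sqi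
    refine ⟨U, V, a, b, k, u, ha, hb, w', ?_, ⊤, trivial, ?_⟩
    · rw [ofPt_comp, hu]
    haveI : IsAffine U.left := hU
    haveI : IsAffine V.left := hV
    suffices LocallyOfFiniteType k.left from inferInstance
    obtain ⟨φ, hφ⟩ : ∃ φ, Spec.map φ = U.left.isoSpec.inv ≫ k.left ≫ V.left.isoSpec.hom := ⟨_, Spec.map_preimage _⟩
    haveI : IsClosedImmersion (s.left ≫ V.left.isoSpec.hom) := inferInstance
    have sq' : IsPullback (wU.left ≫ U.left.isoSpec.hom) l.left (Spec.map φ) (s.left ≫ V.left.isoSpec.hom) :=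
      IsPullback.of_iso sWs (Iso.refl _) U.left.isoSpec (Iso.refl _) V.left.isoSpec
        (by simp) (by simp) (by rw [hφ]; simp) (by simp)
    haveI : LocallyOfFiniteType (pullback.snd (Spec.map φ) (s.left ≫ V.left.isoSpec.hom)) := by
      rw [← sq'.isoPullback_inv_snd]; infer_instance
    have hker' : (pullback.fst (Spec.map φ) (s.left ≫ V.left.isoSpec.hom)).ker ^ (n + 1) = ⊥ := by
      rw [← sq'.isoPullback_inv_fst, ← Iso.symm_hom, AlgSpThickUnr.ker_iso_comp]
      exact AlgSpThickUnr.ker_comp_iso_pow wU.left U.left.isoSpec (n + 1) hker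
    haveI := AlgSpThickUnr.locallyOfFiniteType_of_thick φ (s.left ≫ V.left.isoSpec.hom) n hker'
    rw [show k.left = U.left.isoSpec.hom ≫ Spec.map φ ≫ V.left.isoSpec.inv by rw [hφ]; simp]
    infer_instance
  have hdim : ∀ (hf : AlgSp.LocP @LocallyOfFiniteType f'.hom) (x : AlgSp.Points X.obj),
      AlgSp.HasAtMor (fun _ _ h u => FlatMor.fibreDimAt h u = (d : WithBot ℕ∞)) f.hom x ↔
        AlgSp.HasAtMor (fun _ _ h u => FlatMor.fibreDimAt h u = (d : WithBot ℕ∞)) f'.hom (AlgSp.Points.map i.hom x) :=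
    fun hf => AlgSpFibDim.hasAtMor_baseChange_iff hf hcart (fun t => t = (d : WithBot ℕ∞))
  refine ⟨⟨fun ⟨h1, h2⟩ => ⟨hlft.1 h1, fun x' => ?_⟩, fun ⟨h1, h2⟩ => ⟨hlft.2 h1, fun x => (hdim h1 x).2 (h2 _)⟩⟩,
    hlft, ⟨fun h => ?_, fun h => ?_⟩, ⟨fun h => ?_, fun h => ?_⟩⟩
  · obtain ⟨x, rfl⟩ := hsurj x'
    exact (hdim (hlft.1 h1) x).1 (h2 x)
  · exact (S10593.result i j f f' hi hj w hcart (locP_inf.1 h).2 (hlft.1 (locP_inf.1 h).2)).1.1 h
  · exact (S10593.result i j f f' hi hj w hcart (hlft.2 (locP_inf.1 h).2) (locP_inf.1 h).2).1.2 h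
  · exact (S10593.result i j f f' hi hj w hcart (locP_inf.1 h).1 (hlft.1 (locP_inf.1 h).1)).2.1 h
  · exact (S10593.result i j f f' hi hj w hcart (hlft.2 (locP_inf.1 h).1) (locP_inf.1 h).1).2.2 h

end Groth.Agent.S10591
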