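import Groth.Statements.S10595
import Groth.Agent.AlgSpThickUnr.DeformSpace
import Groth.Agent.RegLocus.GeomMisc

set_option autoImplicit false
universe u
open CategoryTheory CategoryTheory.Limits AlgebraicGeometry
open AlgSp

namespace Groth.Agent.S10595

set_option backward.isDefEq.respectTransparency false
open CategoryTheory CategoryTheory.Limits Groth.Agent.AlgSpc Groth.Agent.AlgSpThickUnr

/-- Let iB : B ⟶ B' be a finite order thickening of algebraic spaces over S (a thickening such that for
one n the (n+1)-st power of the ideal vanishes on every affine etale scheme chart), f' : X' ⟶ Y' a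
morphism of algebraic spaces over B' (via g' : Y' ⟶ B') with X' flat over B', and f : X ⟶ Y, g : Y ⟶
B its base change to B (both squares to iB cartesian, iX ≫ f' = f ≫ iY). If f is flat, then f' is
flat and g' : Y' ⟶ B' is flat at every point of Y' in the image of f'. -/
theorem result {S : Scheme.{u}} {X X' Y Y' B B' : AlgSp.Space S} (iX : X ⟶ X') (iY : Y ⟶ Y') (iB : B ⟶ B')
    (f : X ⟶ Y) (f' : X' ⟶ Y') (g : Y ⟶ B) (g' : Y' ⟶ B')
    (hcX : IsPullback iX.hom (f ≫ g).hom (f' ≫ g').hom iB.hom) (hcY : IsPullback iY.hom g.hom g'.hom iB.hom)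
    (w : iX ≫ f' = f ≫ iY)
    (hB : AlgSp.IsFinThickMor iB.hom) (hflat : AlgSp.LocP @Flat (f' ≫ g').hom)
    (hf : AlgSp.LocP @Flat f.hom) :
    AlgSp.LocP @Flat f'.hom ∧
    ∀ x' : AlgSp.Points X'.obj, AlgSp.IsFlatAtMor g'.hom (AlgSp.Points.map f'.hom x') := by
  refine ⟨locP_flat_of_deform hcX hcY w hB hflat hf, fun x' => ?_⟩
  have hfl' := locP_flat_of_deform hcX hcY w hB hflat hf
  obtain ⟨U, V, U0, V0, W, W0, a, b, a0, b0, c, k, k0, h, h0, wU, wV, s, ha, has, hb, ha0, hb0, hc, wk, wk0, wh,
    -, -, -, -, -, -, hcomp⟩ := exists_deform_charts hcX hcY w hB hflat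
  haveI := hcomp
  haveI : Flat k.left := hfl' a b k ha hb wk
  obtain ⟨u, rfl⟩ := surjective_ofPt has x'
  rw [map_ofPt_sq wk, AlgSpLoc.isFlatAtMor_iff hb hc wh]
  have e := Scheme.Hom.stalkMap_comp k.left h.left u
  have hk : (k.left.stalkMap u).hom.Flat := Flat.stalkMap _ _
  have hkh : ((k.left ≫ h.left).stalkMap u).hom.Flat := Flat.stalkMap _ _
  rw [e, CommRingCat.hom_comp] at hkh
  have hloc : IsLocalHom (k.left.stalkMap u).hom := inferInstance
  letI := (h.left.stalkMap (k.left u)).hom.toAlgebra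
  letI := (k.left.stalkMap u).hom.toAlgebra
  letI := ((k.left.stalkMap u).hom.comp (h.left.stalkMap (k.left u)).hom).toAlgebra
  haveI : IsScalarTower (W.left.presheaf.stalk (h.left (k.left u))) (V.left.presheaf.stalk (k.left u))
      (U.left.presheaf.stalk u) := IsScalarTower.of_algebraMap_eq fun _ => rfl
  haveI : Module.Flat (V.left.presheaf.stalk (k.left u)) (U.left.presheaf.stalk u) := hk
  haveI : IsLocalHom (algebraMap (V.left.presheaf.stalk (k.left u)) (U.left.presheaf.stalk u)) := hloc
  haveI : Module.FaithfullyFlat (V.left.presheaf.stalk (k.left u)) (U.left.presheaf.stalk u) :=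
    Module.FaithfullyFlat.of_flat_of_isLocalHom
  haveI : Module.Flat (W.left.presheaf.stalk (h.left (k.left u))) (U.left.presheaf.stalk u) := hkh
  exact RegLocus.flat_of_comp_faithfullyFlat _ (V.left.presheaf.stalk (k.left u)) (U.left.presheaf.stalk u)

end Groth.Agent.S10595
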