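import Groth.Statements.S10596
import Groth.Agent.AlgSpThickUnr.DeformSpace

set_option autoImplicit false
universe u
open CategoryTheory CategoryTheory.Limits AlgebraicGeometry
open AlgSp

namespace Groth.Agent.S10596

set_option backward.isDefEq.respectTransparency false
open CategoryTheory CategoryTheory.Limits Groth.Agent.AlgSpc Groth.Agent.AlgSpThickUnr

/-- Let iB : B ⟶ B' be a finite order thickening of algebraic spaces over S (a thickening such that for
one n the (n+1)-st power of the ideal vanishes on every affine etale scheme chart), f' : X' ⟶ Y' a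
morphism of algebraic spaces over B' (via g' : Y' ⟶ B') with X' flat over B', and f : X ⟶ Y, g : Y ⟶
B its base change to B (both squares to iB cartesian, iX ≫ f' = f ≫ iY). Then f is locally of finite
type of relative dimension d, resp. flat, resp. locally of finite type, locally quasi-finite,
locally of finite presentation, smooth, unramified, etale, if and only if f' is (etale-local sense;
locally quasi-finite and unramified include locally of finite type). -/
theorem result {S : Scheme.{u}} {X X' Y Y' B B' : AlgSp.Space S} (iX : X ⟶ X') (iY : Y ⟶ Y') (iB : B ⟶ B')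
    (f : X ⟶ Y) (f' : X' ⟶ Y') (g : Y ⟶ B) (g' : Y' ⟶ B')
    (hcX : IsPullback iX.hom (f ≫ g).hom (f' ≫ g').hom iB.hom) (hcY : IsPullback iY.hom g.hom g'.hom iB.hom)
    (w : iX ≫ f' = f ≫ iY)
    (hB : AlgSp.IsFinThickMor iB.hom) (hflat : AlgSp.LocP @Flat (f' ≫ g').hom) (d : ℕ) :
    ((AlgSp.LocP @LocallyOfFiniteType f.hom ∧
        ∀ x, AlgSp.HasAtMor (fun _ _ h u => FlatMor.fibreDimAt h u = (d : WithBot ℕ∞)) f.hom x) ↔
      (AlgSp.LocP @LocallyOfFiniteType f'.hom ∧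
        ∀ x', AlgSp.HasAtMor (fun _ _ h u => FlatMor.fibreDimAt h u = (d : WithBot ℕ∞)) f'.hom x')) ∧
    (AlgSp.LocP @Flat f.hom ↔ AlgSp.LocP @Flat f'.hom) ∧
    (AlgSp.LocP @LocallyOfFiniteType f.hom ↔ AlgSp.LocP @LocallyOfFiniteType f'.hom) ∧
    (AlgSp.LocP (@LocallyQuasiFinite ⊓ @LocallyOfFiniteType) f.hom ↔
      AlgSp.LocP (@LocallyQuasiFinite ⊓ @LocallyOfFiniteType) f'.hom) ∧
    (AlgSp.LocP @LocallyOfFinitePresentation f.hom ↔ AlgSp.LocP @LocallyOfFinitePresentation f'.hom) ∧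
    (AlgSp.LocP @Smooth f.hom ↔ AlgSp.LocP @Smooth f'.hom) ∧
    (AlgSp.LocP (@LocallyOfFiniteType ⊓ @FormallyUnramified) f.hom ↔
      AlgSp.LocP (@LocallyOfFiniteType ⊓ @FormallyUnramified) f'.hom) ∧
    (AlgSp.IsEtaleMor f.hom ↔ AlgSp.IsEtaleMor f'.hom) := by
  obtain ⟨n, hn⟩ := hB
  have hiY : AlgSp.IsThickMor iY.hom := repWith_of_isPullback hcY.flip hn.1
  have hiX : AlgSp.IsThickMor iX.hom := repWith_of_isPullback hcX.flip hn.1
  have hcart : IsPullback iX.hom f.hom f'.hom iY.hom :=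
    IsPullback.of_bot hcX (congrArg (fun k => k.hom) w) hcY
  have hbc : ∀ {P : MorphismProperty Scheme.{u}} [EtLoc P] [P.IsStableUnderBaseChange],
      AlgSp.LocP P f'.hom → AlgSp.LocP P f.hom :=
    fun {P} _ _ h => AlgSpc.locP_base_change X'.property Y'.property Y.property hcart h
  have hlft : AlgSp.LocP @LocallyOfFiniteType f.hom ↔ AlgSp.LocP @LocallyOfFiniteType f'.hom :=
    ⟨locP_lft_of_deform hcX hcY w ⟨n, hn⟩ hflat, hbc⟩
  have hsurj : Function.Surjective (AlgSp.Points.map iX.hom) :=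
    surjective_map_of_repWith (repWith_mono (fun _ _ k (hk : AlgSp.thick k) => hk.2) hiX)
  refine ⟨⟨fun ⟨h1, h2⟩ => ⟨hlft.1 h1, fun x' => ?_⟩, fun ⟨h1, h2⟩ => ⟨hlft.2 h1, fun x =>
      (AlgSpFibDim.hasAtMor_baseChange_iff h1 hcart (fun t => t = (d : WithBot ℕ∞)) x).2 (h2 _)⟩⟩,
    ⟨locP_flat_of_deform hcX hcY w ⟨n, hn⟩ hflat, hbc⟩, hlft, ?_,
    ⟨locP_lfp_of_deform hcX hcY w ⟨n, hn⟩ hflat, hbc⟩,
    ⟨fun h => locP_of_deform (P := @Smooth)
      (fun hk hx hy hw hfl hf => haveI := hfl; haveI := hf; FlatBasics.smooth_of_deform hk hx hy hw)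
      hcX hcY w ⟨n, hn⟩ hflat h, hbc⟩, ?_, ?_⟩
  · obtain ⟨x, rfl⟩ := hsurj x'
    exact (AlgSpFibDim.hasAtMor_baseChange_iff (hlft.1 h1) hcart (fun t => t = (d : WithBot ℕ∞)) x).1 (h2 x)
  · exact ⟨fun h => (S10593.result iX iY f f' hiX hiY w hcart (locP_inf.1 h).2 (hlft.1 (locP_inf.1 h).2)).1.1 h, hbc⟩
  · exact ⟨fun h => (S10593.result iX iY f f' hiX hiY w hcart (locP_inf.1 h).1 (hlft.1 (locP_inf.1 h).1)).2.1 h, hbc⟩
  · rw [isEtaleMor_iff_locP X.property Y.property, isEtaleMor_iff_locP X'.property Y'.property]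
    exact ⟨locP_etale_of_deform hcX hcY w ⟨n, hn⟩ hflat, hbc⟩

end Groth.Agent.S10596
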