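import Groth.Statements.S10597
import Groth.Agent.AlgSpThickUnr.DeformSpace

set_option autoImplicit false
universe u
open CategoryTheory CategoryTheory.Limits AlgebraicGeometry
open AlgSp

namespace Groth.Agent.S10597

set_option backward.isDefEq.respectTransparency false
open CategoryTheory CategoryTheory.Limits Groth.Agent.AlgSpc Groth.Agent.AlgSpThickUnr

/-- Let iB : B ⟶ B' be a finite order thickening of algebraic spaces over S (a thickening such that for
one n the (n+1)-st power of the ideal vanishes on every affine etale scheme chart), f' : X' ⟶ Y' a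
morphism of algebraic spaces over B' (via g' : Y' ⟶ B') with X' flat over B', and f : X ⟶ Y, g : Y ⟶
B its base change to B (both squares to iB cartesian, iX ≫ f' = f ≫ iY). Then f is an isomorphism,
resp. an open immersion, resp. a monomorphism, resp. finite locally free, resp. finite locally free
of degree d, if and only if f' is. -/
theorem result {S : Scheme.{u}} {X X' Y Y' B B' : AlgSp.Space S} (iX : X ⟶ X') (iY : Y ⟶ Y') (iB : B ⟶ B')
    (f : X ⟶ Y) (f' : X' ⟶ Y') (g : Y ⟶ B) (g' : Y' ⟶ B')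
    (hcX : IsPullback iX.hom (f ≫ g).hom (f' ≫ g').hom iB.hom) (hcY : IsPullback iY.hom g.hom g'.hom iB.hom)
    (w : iX ≫ f' = f ≫ iY)
    (hB : AlgSp.IsFinThickMor iB.hom) (hflat : AlgSp.LocP @Flat (f' ≫ g').hom) :
    (IsIso f.hom ↔ IsIso f'.hom) ∧
    (AlgSp.RepWith @IsOpenImmersion f.hom ↔ AlgSp.RepWith @IsOpenImmersion f'.hom) ∧
    (Mono f.hom ↔ Mono f'.hom) ∧
    (AlgSp.IsFinLocFreeMor f.hom ↔ AlgSp.IsFinLocFreeMor f'.hom) ∧
    (∀ d : ℕ, AlgSp.IsFinLocFreeOfDegMor d f.hom ↔ AlgSp.IsFinLocFreeOfDegMor d f'.hom) := by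
  obtain ⟨n, hn⟩ := hB
  have hiY : AlgSp.IsThickMor iY.hom := repWith_of_isPullback hcY.flip hn.1
  have hiX : AlgSp.IsThickMor iX.hom := repWith_of_isPullback hcX.flip hn.1
  have hcart : IsPullback iX.hom f.hom f'.hom iY.hom :=
    IsPullback.of_bot hcX (congrArg (fun k => k.hom) w) hcY
  have hfl : AlgSp.RepWith @Flat f.hom → AlgSp.LocP @Flat f'.hom := fun h =>
    locP_flat_of_deform hcX hcY w ⟨n, hn⟩ hflat (locP_of_repWith (P := @Flat) EtLoc.precomp h)
  have hflf : AlgSp.IsFinLocFreeMor f.hom → AlgSp.IsFinLocFreeMor f'.hom := fun h => by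
    have h1 := hfl (repWith_mono (Q := @Flat) (fun _ _ k hk => hk.2.1) h)
    have h2 := locP_lfp_of_deform hcX hcY w ⟨n, hn⟩ hflat (locP_of_repWith (P := @LocallyOfFinitePresentation) EtLoc.precomp
      (repWith_mono (Q := @LocallyOfFinitePresentation) (fun _ _ k hk => hk.2.2) h))
    have hfin := (repWith_finite_iff f'.hom).1 ((isFiniteMor_thick_iff hiX hiY w hcart
      (fun _ _ a b k ha hb wk => haveI := h2 a b k ha hb wk; inferInstance)).1
      ((repWith_finite_iff f.hom).2 (repWith_mono (Q := @IsFinite) (fun _ _ k hk => hk.1) h)))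
    exact ⟨hfin.1, fun T W t a p sq => ⟨hfin.2 t a p sq,
      prop_of_locP_sq (P := @Flat) X'.property Y'.property h1 sq,
      prop_of_locP_sq (P := @LocallyOfFinitePresentation) X'.property Y'.property h2 sq⟩⟩
  refine ⟨⟨isIso_of_deform hcX hcY w ⟨n, hn⟩ hflat, fun h => MorphismProperty.of_isPullback (P := MorphismProperty.isomorphisms _) hcart h⟩,
    ⟨fun h => (isOpenImmersion_of_deform hcX hcY w ⟨n, hn⟩ hflat h).1, fun h => repWith_of_isPullback hcart h⟩,
    ⟨mono_of_deform hcX hcY w ⟨n, hn⟩ hflat, fun h => MorphismProperty.of_isPullback (P := MorphismProperty.monomorphisms _) hcart h⟩,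
    ⟨hflf, fun h => repWith_of_isPullback hcart h⟩, fun d => ⟨fun h => ?_, fun h => repWith_of_isPullback hcart h⟩⟩
  have h' := hflf (repWith_mono (Q := AlgSp.finLocFree) (fun _ _ k hk => hk.1) h)
  have hft' : AlgSp.LocP @LocallyOfFiniteType f'.hom :=
    locP_of_repWith (P := @LocallyOfFiniteType) EtLoc.precomp
      (repWith_mono (Q := @LocallyOfFiniteType) (fun _ _ k hk => haveI : IsFinite k := hk.1; inferInstance) h')
  have key := repWith_of_thick (P := fun _ T k => Mor2.IsFinLocFree k → ∀ y : T, k.finrank y = d)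
    (fun k _ s _ _ hk hflf y => by
      obtain ⟨h1, h2, h3⟩ := hflf
      obtain ⟨y₀, rfl⟩ := s.surjective y
      have sq := IsPullback.of_hasPullback k s
      rw [← Scheme.Hom.finrank_of_isPullback _ _ _ _ sq y₀]
      exact hk ⟨MorphismProperty.of_isPullback sq h1, MorphismProperty.of_isPullback sq h2,
        MorphismProperty.of_isPullback sq h3⟩ y₀)
    hiY hcart hft' h'.1 (repWith_mono (fun _ _ k hk _ => hk.2) h)
  exact ⟨h'.1, fun T W t a p sq => ⟨h'.2 t a p sq, key.2 t a p sq (h'.2 t a p sq)⟩⟩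

end Groth.Agent.S10597
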