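import Groth.Statements.S10598
import Groth.Agent.AlgSpThickUnr.Fibres
import Groth.Agent.AlgSpLoc.FlatFibres
import Groth.Agent.AlgSpLoc.FlatLocusSp
import Groth.Agent.S10603
import Groth.Agent.S1386

set_option autoImplicit false
universe u
open CategoryTheory CategoryTheory.Limits AlgebraicGeometry
open AlgSp

namespace Groth.Agent.S10598

set_option backward.isDefEq.respectTransparency false
open CategoryTheory CategoryTheory.Limits Groth.Agent.AlgSpc Groth.Agent.AlgSpThickUnr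

/-- Let iB : B ⟶ B' be a thickening of algebraic spaces over S (representable, every base change to a
scheme a surjective closed immersion), f' : X' ⟶ Y' a morphism of algebraic spaces over B' (via g' :
Y' ⟶ B') with Y' locally of finite type over B' and X' flat and locally of finite presentation over
B', and f : X ⟶ Y, g : Y ⟶ B its base change to B (both squares to iB cartesian, iX ≫ f' = f ≫ iY).
If f is flat, then f' is flat and g' : Y' ⟶ B' is flat at every point of Y' in the image of f'. -/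
theorem result {S : Scheme.{u}} {X X' Y Y' B B' : AlgSp.Space S} (iX : X ⟶ X') (iY : Y ⟶ Y') (iB : B ⟶ B')
    (f : X ⟶ Y) (f' : X' ⟶ Y') (g : Y ⟶ B) (g' : Y' ⟶ B')
    (hcX : IsPullback iX.hom (f ≫ g).hom (f' ≫ g').hom iB.hom) (hcY : IsPullback iY.hom g.hom g'.hom iB.hom)
    (w : iX ≫ f' = f ≫ iY)
    (hB : AlgSp.IsThickMor iB.hom)
    (hg' : AlgSp.LocP @LocallyOfFiniteType g'.hom)
    (hflat : AlgSp.LocP @Flat (f' ≫ g').hom) (hfp : AlgSp.LocP @LocallyOfFinitePresentation (f' ≫ g').hom)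
    (hf : AlgSp.LocP @Flat f.hom) :
    AlgSp.LocP @Flat f'.hom ∧
    ∀ x' : AlgSp.Points X'.obj, AlgSp.IsFlatAtMor g'.hom (AlgSp.Points.map f'.hom x') := by
  have w' : iX.hom ≫ f'.hom = f.hom ≫ iY.hom := congrArg (fun k => k.hom) w
  have hfib : ∀ (K : Type u) [Field K] (sK : Spec (CommRingCat.of K) ⟶ S)
      (z : (AlgSp.yon S).obj (Over.mk sK) ⟶ B'.obj) (Xz Yz : AlgSp.Sp S)
      (pX : Xz ⟶ X'.obj) (qX : Xz ⟶ (AlgSp.yon S).obj (Over.mk sK))
      (pY : Yz ⟶ Y'.obj) (qY : Yz ⟶ (AlgSp.yon S).obj (Over.mk sK)) (fz : Xz ⟶ Yz),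
      IsPullback pX qX (f' ≫ g').hom z → IsPullback pY qY g'.hom z → fz ≫ pY = pX ≫ f'.hom → fz ≫ qY = qX →
      AlgSp.LocP @Flat fz := by
    intro K _ sK z Xz Yz pX qX pY qY fz hX hY h1 h2
    obtain ⟨zB, rfl⟩ := exists_fieldPt_lift hB z
    let lY := hcY.lift pY (qY ≫ zB) (by rw [hY.w, Category.assoc])
    have sY : IsPullback lY qY g.hom zB :=
      IsPullback.of_right (by rw [hcY.lift_fst]; exact hY) (hcY.lift_snd _ _ _) hcY
    let lX := hcX.lift pX (qX ≫ zB) (by rw [hX.w, Category.assoc])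
    have sX : IsPullback lX qX (f ≫ g).hom zB :=
      IsPullback.of_right (by rw [hcX.lift_fst]; exact hX) (hcX.lift_snd _ _ _) hcX
    have hc : lX ≫ f.hom = fz ≫ lY := by
      apply hcY.hom_ext
      · rw [Category.assoc, ← w', ← Category.assoc, hcX.lift_fst, Category.assoc, hcY.lift_fst, h1]
      · rw [Category.assoc, Category.assoc, hcY.lift_snd, ← Category.assoc fz, h2]
        exact hcX.lift_snd _ _ _
    have hYz := isAlgSpace_of_isPullback Y'.property B'.property (AlgSp.IsAlgSpace.yon_obj _) hY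
    exact AlgSpc.locP_base_change X.property Y.property hYz
      (IsPullback.of_bot (by rw [h2]; exact sX) hc sY) hf
  refine ⟨(S10603.result f' g' hfp hflat hg' hfib).1, fun x' => ?_⟩
  obtain ⟨U, V, W, a, b, c, f₁, h₁, ha, has, hb, hbs, hc, hcs, w₁, w₂, -, hfl'⟩ :=
    AlgSpLoc.exists_charts_flat_fibres f' g' hfib
  have wc : a ≫ (f' ≫ g').hom = (AlgSp.yon S).map (f₁ ≫ h₁) ≫ c := by
    change a ≫ f'.hom ≫ g'.hom = _
    rw [← Category.assoc, w₁, Category.assoc, w₂, ← Category.assoc, ← Functor.map_comp]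
  have : LocallyOfFinitePresentation (f₁.left ≫ h₁.left) := hfp a c (f₁ ≫ h₁) ha hc wc
  have : LocallyOfFiniteType h₁.left := hg' b c h₁ hb hc w₂
  have hcomp : Flat (f₁.left ≫ h₁.left) := hflat a c (f₁ ≫ h₁) ha hc wc
  obtain ⟨u, rfl⟩ := surjective_ofPt has x'
  rw [map_ofPt_sq w₁, AlgSpLoc.isFlatAtMor_iff hb hc w₂]
  exact (((S1386.result f₁.left h₁.left).1 u).1 ⟨Flat.stalkMap _ u,
    haveI := hfl' (h₁.left (f₁.left u)); Flat.stalkMap _ _⟩).1

end Groth.Agent.S10598
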