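import Groth.Statements.S10599
import Groth.Agent.AlgSpThickUnr.Descend
import Groth.Agent.AlgSpFibDim.Basic
import Groth.Agent.FlatLocus.Scheme
import Groth.Agent.S10593
import Groth.Agent.S10598
import Groth.Agent.AlgSpLoc.Inst

set_option autoImplicit false
universe u
open CategoryTheory CategoryTheory.Limits AlgebraicGeometry
open AlgSp

namespace Groth.Agent.S10599

set_option backward.isDefEq.respectTransparency false
open CategoryTheory CategoryTheory.Limits Groth.Agent.AlgSpc Groth.Agent.AlgSpThickUnr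

/-- Let iB : B ⟶ B' be a thickening of algebraic spaces over S (representable, every base change to a
scheme a surjective closed immersion), f' : X' ⟶ Y' a morphism of algebraic spaces over B' (via g' :
Y' ⟶ B') with Y' locally of finite type over B' and X' flat and locally of finite presentation over
B', and f : X ⟶ Y, g : Y ⟶ B its base change to B (both squares to iB cartesian, iX ≫ f' = f ≫ iY).
Then f is locally of finite type of relative dimension d, resp. flat, resp. locally quasi-finite,
smooth, unramified, etale, if and only if f' is (etale-local sense; locally quasi-finite and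
unramified include locally of finite type). -/
theorem result {S : Scheme.{u}} {X X' Y Y' B B' : AlgSp.Space S} (iX : X ⟶ X') (iY : Y ⟶ Y') (iB : B ⟶ B')
    (f : X ⟶ Y) (f' : X' ⟶ Y') (g : Y ⟶ B) (g' : Y' ⟶ B')
    (hcX : IsPullback iX.hom (f ≫ g).hom (f' ≫ g').hom iB.hom) (hcY : IsPullback iY.hom g.hom g'.hom iB.hom)
    (w : iX ≫ f' = f ≫ iY)
    (hB : AlgSp.IsThickMor iB.hom)
    (hg' : AlgSp.LocP @LocallyOfFiniteType g'.hom)
    (hflat : AlgSp.LocP @Flat (f' ≫ g').hom) (hfp : AlgSp.LocP @LocallyOfFinitePresentation (f' ≫ g').hom) (d : ℕ) :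
    ((AlgSp.LocP @LocallyOfFiniteType f.hom ∧
        ∀ x, AlgSp.HasAtMor (fun _ _ h u => FlatMor.fibreDimAt h u = (d : WithBot ℕ∞)) f.hom x) ↔
      (AlgSp.LocP @LocallyOfFiniteType f'.hom ∧
        ∀ x', AlgSp.HasAtMor (fun _ _ h u => FlatMor.fibreDimAt h u = (d : WithBot ℕ∞)) f'.hom x')) ∧
    (AlgSp.LocP @Flat f.hom ↔ AlgSp.LocP @Flat f'.hom) ∧
    (AlgSp.LocP (@LocallyQuasiFinite ⊓ @LocallyOfFiniteType) f.hom ↔
      AlgSp.LocP (@LocallyQuasiFinite ⊓ @LocallyOfFiniteType) f'.hom) ∧
    (AlgSp.LocP @Smooth f.hom ↔ AlgSp.LocP @Smooth f'.hom) ∧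
    (AlgSp.LocP (@LocallyOfFiniteType ⊓ @FormallyUnramified) f.hom ↔
      AlgSp.LocP (@LocallyOfFiniteType ⊓ @FormallyUnramified) f'.hom) ∧
    (AlgSp.IsEtaleMor f.hom ↔ AlgSp.IsEtaleMor f'.hom) := by
  have hiY : AlgSp.IsThickMor iY.hom := repWith_of_isPullback hcY.flip hB
  have hiX : AlgSp.IsThickMor iX.hom := repWith_of_isPullback hcX.flip hB
  have hsurj : Function.Surjective (AlgSp.Points.map iX.hom) :=
    surjective_map_of_repWith (repWith_mono (fun _ _ k (hk : AlgSp.thick k) => hk.2) hiX)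
  have hcart : IsPullback iX.hom f.hom f'.hom iY.hom :=
    IsPullback.of_bot hcX (congrArg (fun k => k.hom) w) hcY
  have hfp' : AlgSp.LocP @LocallyOfFinitePresentation f'.hom :=
    locP_of_comp (R := @LocallyOfFinitePresentation) (P := @LocallyOfFinitePresentation) (Q := @LocallyOfFiniteType)
      (fun h k hh hk => haveI := hh; haveI := hk; FlatLocus.locallyOfFinitePresentation_of_comp h k)
      X'.property Y'.property B'.property hfp hg'
  have hft' : AlgSp.LocP @LocallyOfFiniteType f'.hom := fun _ _ a b k ha hb wk =>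
    haveI := hfp' a b k ha hb wk; inferInstance
  have hft := AlgSpc.locP_base_change X'.property Y'.property Y.property hcart hft'
  have hfl : AlgSp.LocP @Flat f.hom ↔ AlgSp.LocP @Flat f'.hom :=
    ⟨fun h => (S10598.result iX iY iB f f' g g' hcX hcY w hB hg' hflat hfp h).1,
      fun h => AlgSpc.locP_base_change X'.property Y'.property Y.property hcart h⟩
  have hsm : AlgSp.LocP @Smooth f.hom ↔ AlgSp.LocP @Smooth f'.hom := by
    refine ⟨fun h => ?_, fun h => AlgSpc.locP_base_change X'.property Y'.property Y.property hcart h⟩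
    have h' := hfl.1 (fun _ _ a b k ha hb wk => haveI := h a b k ha hb wk; inferInstance)
    exact locP_of_thick (P := @Smooth) (Q := @Flat ⊓ @LocallyOfFinitePresentation)
      (fun k s _ _ hQ hk => haveI := hQ.1; haveI := hQ.2; haveI := hk; smooth_of_thick k s) hiY hcart
      (locP_inf.2 ⟨h', hfp'⟩) h
  obtain ⟨hlqf, hunr⟩ := S10593.result iX iY f f' hiX hiY w hcart hft hft'
  have hdim := AlgSpFibDim.hasAtMor_baseChange_iff hft' hcart (fun t => t = (d : WithBot ℕ∞))
  refine ⟨⟨fun ⟨_, h2⟩ => ⟨hft', fun x' => ?_⟩, fun ⟨_, h2⟩ => ⟨hft, fun x => (hdim x).2 (h2 _)⟩⟩,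
    hfl, hlqf, hsm, hunr, ?_⟩
  · obtain ⟨x, rfl⟩ := hsurj x'
    exact (hdim x).1 (h2 x)
  · rw [isEtaleMor_iff_locP X.property Y.property, isEtaleMor_iff_locP X'.property Y'.property]
    refine ⟨fun h => fun _ _ a b k ha hb wk => ?_, fun h => AlgSpc.locP_base_change X'.property Y'.property Y.property hcart h⟩
    haveI := hsm.1 (fun _ _ a b k ha hb wk => haveI := h a b k ha hb wk; inferInstance) a b k ha hb wk
    haveI := (hunr.1 (fun _ _ a b k ha hb wk => haveI := h a b k ha hb wk; ⟨inferInstance, inferInstance⟩) a b k ha hb wk).2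
    exact Unram.etale_of_smooth_of_formallyUnramified _

end Groth.Agent.S10599
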