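import Groth.Statements.S10600
import Groth.Agent.AlgSpThickUnr.Mono
import Groth.Agent.AlgSpThickUnr.Descend
import Groth.Agent.S10598
import Groth.Agent.S10587
import Groth.Agent.FlatLocus.Scheme
import Groth.Agent.AlgSpLimit.ClosedApps
import Mathlib.AlgebraicGeometry.Morphisms.FlatMono

set_option autoImplicit false
universe u
open CategoryTheory CategoryTheory.Limits AlgebraicGeometry
open AlgSp

namespace Groth.Agent.S10600

set_option backward.isDefEq.respectTransparency false
open CategoryTheory CategoryTheory.Limits Groth.Agent.AlgSpc Groth.Agent.AlgSpThickUnr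

/-- Let iB : B ⟶ B' be a thickening of algebraic spaces over S (representable, every base change to a
scheme a surjective closed immersion), f' : X' ⟶ Y' a morphism of algebraic spaces over B' (via g' :
Y' ⟶ B') with Y' locally of finite type over B' and X' flat and locally of finite presentation over
B', and f : X ⟶ Y, g : Y ⟶ B its base change to B (both squares to iB cartesian, iX ≫ f' = f ≫ iY).
Then f is an isomorphism, resp. an open immersion, resp. a monomorphism, resp. finite locally free,
resp. finite locally free of degree d, if and only if f' is. -/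
theorem result {S : Scheme.{u}} {X X' Y Y' B B' : AlgSp.Space S} (iX : X ⟶ X') (iY : Y ⟶ Y') (iB : B ⟶ B')
    (f : X ⟶ Y) (f' : X' ⟶ Y') (g : Y ⟶ B) (g' : Y' ⟶ B')
    (hcX : IsPullback iX.hom (f ≫ g).hom (f' ≫ g').hom iB.hom) (hcY : IsPullback iY.hom g.hom g'.hom iB.hom)
    (w : iX ≫ f' = f ≫ iY)
    (hB : AlgSp.IsThickMor iB.hom)
    (hg' : AlgSp.LocP @LocallyOfFiniteType g'.hom)
    (hflat : AlgSp.LocP @Flat (f' ≫ g').hom) (hfp : AlgSp.LocP @LocallyOfFinitePresentation (f' ≫ g').hom) :
    (IsIso f.hom ↔ IsIso f'.hom) ∧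
    (AlgSp.RepWith @IsOpenImmersion f.hom ↔ AlgSp.RepWith @IsOpenImmersion f'.hom) ∧
    (Mono f.hom ↔ Mono f'.hom) ∧
    (AlgSp.IsFinLocFreeMor f.hom ↔ AlgSp.IsFinLocFreeMor f'.hom) ∧
    (∀ d : ℕ, AlgSp.IsFinLocFreeOfDegMor d f.hom ↔ AlgSp.IsFinLocFreeOfDegMor d f'.hom) := by
  have hiY : AlgSp.IsThickMor iY.hom := repWith_of_isPullback hcY.flip hB
  have hiX : AlgSp.IsThickMor iX.hom := repWith_of_isPullback hcX.flip hB
  have hcart : IsPullback iX.hom f.hom f'.hom iY.hom :=
    IsPullback.of_bot hcX (congrArg (fun k => k.hom) w) hcY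
  have hfp' : AlgSp.LocP @LocallyOfFinitePresentation f'.hom :=
    locP_of_comp (R := @LocallyOfFinitePresentation) (P := @LocallyOfFinitePresentation) (Q := @LocallyOfFiniteType)
      (fun h k hh hk => haveI := hh; haveI := hk; FlatLocus.locallyOfFinitePresentation_of_comp h k)
      X'.property Y'.property B'.property hfp hg'
  have hft' : AlgSp.LocP @LocallyOfFiniteType f'.hom := fun _ _ a b k ha hb wk =>
    haveI := hfp' a b k ha hb wk; inferInstance
  have hflat' : AlgSp.RepWith @Flat f.hom → AlgSp.LocP @Flat f'.hom := fun h =>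
    (S10598.result iX iY iB f f' g g' hcX hcY w hB hg' hflat hfp
      (locP_of_repWith (P := @Flat) EtLoc.precomp h)).1
  have hmono := mono_thick_iff hiX hiY w hcart hft'
  have hopen : AlgSp.RepWith @IsOpenImmersion f.hom → AlgSp.RepWith @IsOpenImmersion f'.hom := fun h => by
    haveI : Mono f.hom := mono_of_repWith (fun _ _ k (hk : IsOpenImmersion k) => inferInstance) h
    have hfl := hflat' (repWith_mono (Q := @Flat) (fun _ _ k (hk : IsOpenImmersion k) => inferInstance) h)
    haveI : Mono f'.hom := hmono.1 ‹_›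
    have hlqf := lqf_of_mono (f := f') hft'
    have hm := repWith_mono_of_mono (f := f')
      (S10260.result f' hlqf (repWith_iso (pullback.diagonal f'.hom)))
    refine ⟨hm.1, fun T W t a p sq => ?_⟩
    haveI : Mono p.left := hm.2 t a p sq
    haveI : Flat p.left := prop_of_locP_sq (P := @Flat) X'.property Y'.property hfl sq
    haveI : LocallyOfFinitePresentation p.left :=
      prop_of_locP_sq (P := @LocallyOfFinitePresentation) X'.property Y'.property hfp' sq
    exact IsOpenImmersion.of_flat_of_mono p.left
  have hflf : AlgSp.IsFinLocFreeMor f.hom → AlgSp.IsFinLocFreeMor f'.hom := fun h => by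
    have hfl := hflat' (repWith_mono (Q := @Flat) (fun _ _ k hk => hk.2.1) h)
    have hfin := (repWith_finite_iff f'.hom).1 ((isFiniteMor_thick_iff hiX hiY w hcart hft').1
      ((repWith_finite_iff f.hom).2 (repWith_mono (Q := @IsFinite) (fun _ _ k hk => hk.1) h)))
    exact ⟨hfin.1, fun T W t a p sq => ⟨hfin.2 t a p sq,
      prop_of_locP_sq (P := @Flat) X'.property Y'.property hfl sq,
      prop_of_locP_sq (P := @LocallyOfFinitePresentation) X'.property Y'.property hfp' sq⟩⟩
  refine ⟨⟨fun h => ?_, fun h => MorphismProperty.of_isPullback (P := MorphismProperty.isomorphisms _) hcart h⟩,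
    ⟨hopen, fun h => repWith_of_isPullback hcart h⟩, hmono,
    ⟨hflf, fun h => repWith_of_isPullback hcart h⟩, fun d => ⟨fun h => ?_, fun h => repWith_of_isPullback hcart h⟩⟩
  · haveI := h
    have ho := hopen (repWith_iso f.hom)
    have hs : Function.Surjective (AlgSp.Points.map f'.hom) :=
      (S10587.result iX iY f f' hiX hiY w).1.1 (surjective_map_of_repWith (repWith_iso (P := @Surjective) f.hom))
    refine AlgSpLimit.isIso_of_repWith ⟨ho.1, fun T W t a p sq => ?_⟩
    haveI : IsOpenImmersion p.left := ho.2 t a p sq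
    haveI : Surjective p.left := surjective_of_sq hs sq
    exact (isIso_of_isOpenImmersion_of_opensRange_eq_top p.left (eq_top_iff.mpr fun z _ => p.left.surjective z) :)
  · have h' := hflf (repWith_mono (Q := AlgSp.finLocFree) (fun _ _ k hk => hk.1) h)
    have key := repWith_of_thick (P := fun _ T k => Mor2.IsFinLocFree k → ∀ y : T, k.finrank y = d)
      (fun k _ s _ _ hk hflf y => by
        obtain ⟨h1, h2, h3⟩ := hflf
        obtain ⟨y₀, rfl⟩ := s.surjective y
        have sq := IsPullback.of_hasPullback k s
        rw [← Scheme.Hom.finrank_of_isPullback _ _ _ _ sq y₀]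
        exact hk ⟨MorphismProperty.of_isPullback sq h1, MorphismProperty.of_isPullback sq h2,
          MorphismProperty.of_isPullback sq h3⟩ y₀)
      hiY hcart hft' h'.1 (repWith_mono (fun _ _ k hk _ => hk.2) h)
    exact ⟨h'.1, fun T W t a p sq => ⟨h'.2 t a p sq, key.2 t a p sq (h'.2 t a p sq)⟩⟩

end Groth.Agent.S10600
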