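import Groth.Statements.S10604
import Groth.Agent.AlgSpc.EtLocInst
import Groth.Agent.AlgSpLoc.FlatFibres
-- import your own Groth.Agent.* helpers here

set_option autoImplicit false
universe u
open CategoryTheory CategoryTheory.Limits AlgebraicGeometry
open AlgSp

namespace Groth.Agent.S10604

/-- Let f : X ⟶ Y and h : Y ⟶ Z be morphisms of algebraic spaces over S with X, Y and Z locally
Noetherian. Assume X is flat over Z and for every field K and every z : Spec K ⟶ Z the base change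
X_z ⟶ Y_z of f is flat (fibres taken as pullback squares of fppf sheaves). Then f is flat; if
moreover f is surjective, then h is flat. -/
theorem result {S : Scheme.{u}} {X Y Z : AlgSp.Space S} (f : X ⟶ Y) (h : Y ⟶ Z)
    (hX : AlgSp.IsLocNoethSp X.obj) (hYn : AlgSp.IsLocNoethSp Y.obj) (hZ : AlgSp.IsLocNoethSp Z.obj)
    (hfl : AlgSp.LocP @Flat (f ≫ h).hom)
    (hfib : ∀ (K : Type u) [Field K] (sK : Spec (CommRingCat.of K) ⟶ S)
      (z : (AlgSp.yon S).obj (Over.mk sK) ⟶ Z.obj) (Xz Yz : AlgSp.Sp S)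
      (pX : Xz ⟶ X.obj) (qX : Xz ⟶ (AlgSp.yon S).obj (Over.mk sK))
      (pY : Yz ⟶ Y.obj) (qY : Yz ⟶ (AlgSp.yon S).obj (Over.mk sK)) (fz : Xz ⟶ Yz),
      IsPullback pX qX (f ≫ h).hom z → IsPullback pY qY h.hom z → fz ≫ pY = pX ≫ f.hom → fz ≫ qY = qX →
      AlgSp.LocP @Flat fz) :
    AlgSp.LocP @Flat f.hom ∧ (AlgSp.IsSurjectiveMor f.hom → AlgSp.LocP @Flat h.hom) := by
  obtain ⟨U, V, W, a, b, c, f', h', ha, has, hb, hbs, hc, hcs, w₁, w₂, hsurj, hfl'⟩ :=
    AlgSpLoc.exists_charts_flat_fibres f h hfib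
  have w : a ≫ (f ≫ h).hom = (yon S).map (f' ≫ h') ≫ c := by
    change a ≫ f.hom ≫ h.hom = _
    rw [← Category.assoc, w₁, Category.assoc, w₂, ← Category.assoc, ← Functor.map_comp]
  have := AlgSpLoc.isLocallyNoetherian_chart hX ha
  have := AlgSpLoc.isLocallyNoetherian_chart hYn hb
  have := AlgSpLoc.isLocallyNoetherian_chart hZ hc
  have hcomp : Flat (f'.left ≫ h'.left) := hfl a c (f' ≫ h') ha hc w
  have key : ∀ x : U.left, (h'.left.stalkMap (f'.left x)).hom.Flat ∧ (f'.left.stalkMap x).hom.Flat := fun x => by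
    have := hfl' (h'.left (f'.left x))
    have e := AlgSpLoc.flat_of_flat_fiberMap_noetherian f'.left h'.left (h'.left (f'.left x))
      ((f'.left ≫ h'.left).asFiber x) (Flat.stalkMap _ _) (Flat.stalkMap _ _)
    rwa [show (f'.left ≫ h'.left).fiberι (h'.left (f'.left x)) ((f'.left ≫ h'.left).asFiber x) = x from
      (f'.left ≫ h'.left).fiberι_asFiber x] at e
  refine ⟨AlgSpc.locP_of_chart ha has hb w₁ (Flat.of_stalkMap _ fun x => (key x).2), fun hs => ?_⟩
  have := hsurj hs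
  refine AlgSpc.locP_of_chart hb hbs hc w₂ (Flat.of_stalkMap _ fun y => ?_)
  obtain ⟨x, rfl⟩ := f'.left.surjective y
  exact (key x).1

end Groth.Agent.S10604
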