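import Groth.Statements.S10605
import Groth.Agent.AlgSpLoc.Topological
import Groth.Agent.AlgSpc.More
import Groth.Agent.AlgSpc.Compact
import Groth.Agent.AlgSpc.Universal
import Groth.Agent.S10534
-- import your own Groth.Agent.* helpers here

set_option autoImplicit false
universe u
open CategoryTheory CategoryTheory.Limits AlgebraicGeometry
open AlgSp

namespace Groth.Agent.S10605

/-- The property of a morphism of algebraic spaces over S of being a thickening (representable, every
base change to a scheme a surjective closed immersion) is local on the base for the fpqc topology.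
(The published statement also claims the same for first order thickenings; this row states only the
thickening clause.) -/
theorem result {S : Scheme.{u}} :
    AlgSp.IsLocalOnBase (S := S) AlgSp.IsFpqcCover
      AlgSp.IsThickMor := by
  intro ι Y Yi g hY hYi hcov X f hX Xi p q hXi hsq
  refine ⟨fun h i => AlgSpc.repWith_of_isPullback (hsq i) h, fun h => ?_⟩
  have h1 : RepWith @IsClosedImmersion f :=
    (S10534.result S Yi g hY hYi hcov f hX Xi p q hXi hsq).2 fun i =>
      AlgSpc.repWith_mono (fun _ _ _ hh => hh.1) (h i)
  refine AlgSpc.repWith_inf h1 ((AlgSpc.repWith_surjective_iff h1.1).2 ?_)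
  have hp : ∀ i, UnivSp (fun _ _ b => Function.Surjective (Points.map b)) (p i) := fun i _ _ _ _ _ snd sq =>
    AlgSpc.surjective_map_base_change sq (AlgSpc.surjective_map_of_repWith
      (AlgSpc.repWith_mono (fun _ _ _ hh => hh.2) (h i)))
  exact AlgSpLoc.surjective_of_cover hcov hsq (fun _ _ _ hb => hb) hp hY (IsPullback.of_horiz_isIso ⟨by simp⟩ :
    IsPullback (𝟙 X) f f (𝟙 Y))

end Groth.Agent.S10605
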