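import Groth.Statements.S10606
import Mathlib.Algebra.TrivSqZeroExt.Basic
import Mathlib.AlgebraicGeometry.Morphisms.Flat
import Mathlib.AlgebraicGeometry.Pullbacks
import Groth.Agent.AlgSpLoc.PureFlat
import Groth.Agent.AlgSpc.FibreProd
import Groth.Agent.AlgSpc.Compact
import Groth.Agent.AlgSpc.EtLocInst
import Groth.Agent.AlgSpc.LocP
import Groth.Agent.AlgSpLoc.Glue
import Groth.Agent.AlgSpc.OpenSubspace
import Groth.Agent.S1432
import Groth.Agent.S10582

set_option autoImplicit false
universe u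
open CategoryTheory CategoryTheory.Limits AlgebraicGeometry
open AlgSp
open scoped TensorProduct

set_option backward.isDefEq.respectTransparency false

namespace Groth.Agent.S10606


theorem flat_tensor_self {V T : Scheme.{u}} [IsAffine V] [IsAffine T] (q : V ⟶ T)
    (h : Etale (pullback.fst q q)) :
    letI := q.appTop.hom.toAlgebra
    Module.Flat Γ(V, ⊤) (Γ(V, ⊤) ⊗[Γ(T, ⊤)] Γ(V, ⊤)) := by
  letI := q.appTop.hom.toAlgebra
  have hn : q ≫ T.isoSpec.hom = V.isoSpec.hom ≫ Spec.map q.appTop := (Scheme.isoSpec_hom_naturality q).symm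
  have sq := (IsPullback.of_hasPullback q q).of_iso (e₁ := Iso.refl _) (e₂ := V.isoSpec) (e₃ := V.isoSpec)
    (e₄ := T.isoSpec) (fst' := pullback.fst q q ≫ V.isoSpec.hom) (snd' := pullback.snd q q ≫ V.isoSpec.hom)
    (f' := Spec.map q.appTop) (g' := Spec.map q.appTop) (by simp) (by simp) hn hn
  have hp : Etale (pullback.fst (Spec.map q.appTop) (Spec.map q.appTop)) := by
    rw [← sq.isoPullback_inv_fst]
    infer_instance
  have hl : Flat (Spec.map (CommRingCat.ofHom
      (Algebra.TensorProduct.includeLeftRingHom : Γ(V, ⊤) →+* Γ(V, ⊤) ⊗[Γ(T, ⊤)] Γ(V, ⊤)))) := by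
    haveI : Etale (pullback.fst (Spec.map (CommRingCat.ofHom (algebraMap Γ(T, ⊤) Γ(V, ⊤))))
      (Spec.map (CommRingCat.ofHom (algebraMap Γ(T, ⊤) Γ(V, ⊤))))) := hp
    rw [← pullbackSpecIso_inv_fst Γ(T, ⊤) Γ(V, ⊤) Γ(V, ⊤)]
    infer_instance
  exact RingHom.flat_algebraMap_iff.1 ((HasRingHomProperty.Spec_iff (P := @Flat)).1 hl)

theorem isoSpec_inv_appTop (T : Scheme.{u}) [IsAffine T] :
    T.isoSpec.inv.appTop = (Scheme.ΓSpecIso Γ(T, ⊤)).inv := by
  rw [← cancel_mono T.isoSpec.hom.appTop, ← Scheme.Hom.comp_appTop, Iso.hom_inv_id]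
  simp [Scheme.isoSpec, Scheme.toSpecΓ_appTop]

/-- Let f : X ⟶ Y be a monomorphism of algebraic spaces over S that is quasi-compact, and suppose that
for every T ⟶ Y the map from the structure sheaf of T to the direct image of the structure sheaf of
X ×_Y T is injective. Then f must be an isomorphism. The injectivity is spelled out on sections: for
every scheme T over S, every T ⟶ Y, every pullback square with corner P = X ×_Y T and every global
function s on T, if the pullback of s along every morphism from a scheme to P vanishes, then s = 0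
(this is injectivity on global sections over every scheme etale over every base, which is the
sheaf-level injectivity). -/
theorem result {S : Scheme.{u}} {X Y : AlgSp.Space S} (f : X ⟶ Y)
    (hqc : AlgSp.IsQuasiCompactMor f.hom) [Mono f.hom]
    (hinj : ∀ (T : Over S) (g : (AlgSp.yon S).obj T ⟶ Y.obj) (P : AlgSp.Sp S) (fst : P ⟶ X.obj)
      (snd : P ⟶ (AlgSp.yon S).obj T), IsPullback fst snd f.hom g →
      ∀ s : Γ(T.left, ⊤),
        (∀ (W : Over S) (a : (AlgSp.yon S).obj W ⟶ P) (c : W ⟶ T),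
          a ≫ snd = (AlgSp.yon S).map c → c.left.appTop s = 0) → s = 0) :
    IsIso f.hom := by
  have key : ∀ (T : Over S), IsAffine T.left → ∀ g : (AlgSp.yon S).obj T ⟶ Y.obj,
      ∃ (V : Over S) (p : (AlgSp.yon S).obj V ⟶ pullback f.hom g) (q : V ⟶ T), RepWith @Etale p ∧
        RepWith @Surjective p ∧ p ≫ pullback.snd f.hom g = (AlgSp.yon S).map q ∧ Flat q.left ∧
        Surjective q.left := by
    intro T hT g
    have sP := IsPullback.of_hasPullback f.hom g
    have hP := AlgSpc.isAlgSpace_of_isPullback X.property Y.property (AlgSp.IsAlgSpace.yon_obj T) sP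
    obtain ⟨V, p, hVa, hp, hps⟩ := (AlgSpc.isQuasiCompactSp_iff_affine hP).1
      (hqc (AlgSp.IsAlgSpace.yon_obj T) AlgSpc.isQuasiCompactSp_yon g _ _ sP)
    let q : V ⟶ T := AlgSpc.pre (p ≫ pullback.snd f.hom g)
    have hq : (AlgSp.yon S).map q = p ≫ pullback.snd f.hom g := AlgSpc.map_pre _
    refine ⟨V, p, q, hp, hps, hq.symm, ?_⟩
    letI := q.left.appTop.hom.toAlgebra
    have hflat : Module.Flat Γ(V.left, ⊤) (Γ(V.left, ⊤) ⊗[Γ(T.left, ⊤)] Γ(V.left, ⊤)) := by
      refine flat_tensor_self q.left ?_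
      have sk := (IsPullback.of_hasPullback q q).map (AlgSp.yon S)
      rw [hq] at sk
      have sp : IsPullback ((AlgSp.yon S).map (pullback.fst q q)) ((AlgSp.yon S).map (pullback.snd q q)) p p :=
        AlgSpc.isPullback_of_mono (pullback.snd f.hom g) sk
      have het : Etale (pullback.fst q q).left := hp.2 p _ _ sp.flip
      have sl : IsPullback (pullback.fst q q).left (pullback.snd q q).left q.left q.left :=
        (IsPullback.of_hasPullback q q).map (Over.forget S)
      rw [← sl.isoPullback_inv_fst]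
      infer_instance
    have hpure : ∀ (M : Type u) [AddCommGroup M] [Module Γ(T.left, ⊤) M],
        Function.Injective fun m : M => m ⊗ₜ[Γ(T.left, ⊤)] (1 : Γ(V.left, ⊤)) := by
      intro M _ _
      refine (injective_iff_map_eq_zero ((TensorProduct.mk Γ(T.left, ⊤) M Γ(V.left, ⊤)).flip 1)).2
        fun m hm => ?_
      letI : Module Γ(T.left, ⊤)ᵐᵒᵖ M := Module.compHom _ ((RingHom.id Γ(T.left, ⊤)).fromOpposite mul_comm)
      haveI : IsCentralScalar Γ(T.left, ⊤) M := ⟨fun r x => rfl⟩
      let inl : Γ(T.left, ⊤) →+* TrivSqZeroExt Γ(T.left, ⊤) M := TrivSqZeroExt.inlHom _ M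
      let T' : Over S := Over.mk ((Spec.map (CommRingCat.ofHom inl) ≫ T.left.isoSpec.inv) ≫ T.hom)
      let π : T' ⟶ T := Over.homMk (Spec.map (CommRingCat.ofHom inl) ≫ T.left.isoSpec.inv)
      let Φ := Scheme.ΓSpecIso (CommRingCat.of (TrivSqZeroExt Γ(T.left, ⊤) M))
      have sP' := IsPullback.of_hasPullback f.hom ((AlgSp.yon S).map π ≫ g)
      have hs : Φ.inv (TrivSqZeroExt.inr m) = 0 := by
        refine hinj T' _ _ _ _ sP' _ fun W a c hac => ?_
        let a' : (AlgSp.yon S).obj W ⟶ pullback f.hom g :=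
          pullback.lift (a ≫ pullback.fst _ _) ((AlgSp.yon S).map (c ≫ π)) (by
            rw [Category.assoc, pullback.condition, reassoc_of% hac, Functor.map_comp_assoc])
        obtain ⟨W₁, u₁, e, sq⟩ := AlgSpc.exists_sq hp.1 a'
        haveI : Etale e.left := hp.2 a' u₁ e sq
        haveI : Surjective e.left := hps.2 a' u₁ e sq
        apply S1432.app_injective_of_flat_of_surjective e.left ⊤
        rw [map_zero]
        let d : W₁ ⟶ V := AlgSpc.pre u₁
        have hd : d ≫ q = e ≫ c ≫ π := (AlgSp.yon S).map_injective (by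
          rw [Functor.map_comp, AlgSpc.map_pre, hq, reassoc_of% sq.w, pullback.lift_snd, ← Functor.map_comp])
        let φ : TrivSqZeroExt Γ(T.left, ⊤) M →+* Γ(W₁.left, ⊤) := (e.left ≫ c.left).appTop.hom.comp Φ.inv.hom
        have hcomp : q.left.appTop ≫ d.left.appTop = CommRingCat.ofHom inl ≫ CommRingCat.ofHom φ := by
          rw [← Scheme.Hom.comp_appTop, ← Over.comp_left, hd]
          simp only [Over.comp_left, Scheme.Hom.comp_appTop, π, Over.homMk_left, isoSpec_inv_appTop,
            ← Category.assoc, ← Scheme.ΓSpecIso_inv_naturality]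
          rfl
        have hr : ∀ r, d.left.appTop (q.left.appTop r) = φ (TrivSqZeroExt.inl r) := fun r =>
          congr($hcomp r)
        let L : M ⊗[Γ(T.left, ⊤)] Γ(V.left, ⊤) →+ Γ(W₁.left, ⊤) := TensorProduct.liftAddHom
          { toFun := fun x =>
              { toFun := fun b => φ (TrivSqZeroExt.inr x) * d.left.appTop b
                map_zero' := by rw [map_zero, mul_zero]
                map_add' := fun b b' => by rw [map_add, mul_add] }
            map_zero' := by ext b; simp
            map_add' := fun x y => by ext b; simp [add_mul] }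
          (fun r x b => by
            change φ (TrivSqZeroExt.inr (r • x)) * d.left.appTop b =
              φ (TrivSqZeroExt.inr x) * d.left.appTop (q.left.appTop r * b)
            rw [← TrivSqZeroExt.inl_mul_inr, map_mul, map_mul, hr]
            ring)
        have hL : L (m ⊗ₜ[Γ(T.left, ⊤)] (1 : Γ(V.left, ⊤))) = φ (TrivSqZeroExt.inr m) := by
          change φ _ * d.left.appTop 1 = _
          rw [map_one, mul_one]
        have hm' : m ⊗ₜ[Γ(T.left, ⊤)] (1 : Γ(V.left, ⊤)) = 0 := hm
        rw [hm', map_zero] at hL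
        exact hL.symm
      have h0 : TrivSqZeroExt.inr m = (0 : TrivSqZeroExt Γ(T.left, ⊤) M) :=
        (ConcreteCategory.bijective_of_isIso Φ.inv).1 (hs.trans (map_zero Φ.inv.hom).symm)
      simpa using congrArg TrivSqZeroExt.snd h0
    have hflatA := AlgSpLoc.flat_of_pure_of_flat_tensor hpure hflat
    refine ⟨(HasRingHomProperty.iff_of_isAffine (P := @Flat)).2 hflatA, ?_⟩
    have hsurj : Function.Surjective (PrimeSpectrum.comap (algebraMap Γ(T.left, ⊤) Γ(V.left, ⊤))) := fun 𝔭 => by
      haveI : Nontrivial (𝔭.asIdeal.ResidueField ⊗[Γ(T.left, ⊤)] Γ(V.left, ⊤)) :=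
        (hpure 𝔭.asIdeal.ResidueField).nontrivial
      exact 𝔭.nontrivial_iff_mem_rangeComap.1 ‹_›
    haveI : Surjective (Spec.map q.left.appTop) := ⟨hsurj⟩
    rw [show q.left = V.left.isoSpec.hom ≫ Spec.map q.left.appTop ≫ T.left.isoSpec.inv by
      rw [Scheme.isoSpec_inv_naturality, Iso.hom_inv_id_assoc]]
    infer_instance
  refine S10582.result f hqc (fun U V a b h ha hb w => ?_) ?_
  · rw [IsZariskiLocalAtTarget.iff_of_iSup_eq_top (P := @Flat) _ (iSup_affineOpens_eq_top V.left)]
    rintro ⟨O, hO⟩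
    let T : Over S := AlgSpLoc.openSub V O
    obtain ⟨V₀, p, q, hp, hps, hpq, hqf, -⟩ := key T hO ((AlgSp.yon S).map (AlgSpLoc.openSubι V O) ≫ b)
    let U' : Over S := AlgSpLoc.openSub U (h.left ⁻¹ᵁ O)
    let h' : U' ⟶ T := Over.homMk (h.left ∣_ O) (by
      change (h.left ∣_ O) ≫ O.ι ≫ V.hom = _
      rw [morphismRestrict_ι_assoc, Over.w]; rfl)
    have hh' : h' ≫ AlgSpLoc.openSubι V O = AlgSpLoc.openSubι U (h.left ⁻¹ᵁ O) ≫ h :=
      Over.OverMorphism.ext (morphismRestrict_ι _ _)
    let a' : (AlgSp.yon S).obj U' ⟶ pullback f.hom ((AlgSp.yon S).map (AlgSpLoc.openSubι V O) ≫ b) :=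
      pullback.lift ((AlgSp.yon S).map (AlgSpLoc.openSubι U _) ≫ a) ((AlgSp.yon S).map h') (by
        rw [Category.assoc, w, ← Functor.map_comp_assoc, ← hh', Functor.map_comp_assoc])
    obtain ⟨W, u₁, e, sq⟩ := AlgSpc.exists_sq hp.1 a'
    haveI : Etale e.left := hp.2 a' u₁ e sq
    have hes : Surjective e.left := hps.2 a' u₁ e sq
    haveI : Etale (AlgSpLoc.openSubι U (h.left ⁻¹ᵁ O)).left := inferInstanceAs (Etale (Scheme.Opens.ι _))
    haveI : Etale (AlgSpLoc.openSubι V O).left := inferInstanceAs (Etale (Scheme.Opens.ι _))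
    have hg : RepWith @Etale ((AlgSp.yon S).map (AlgSpLoc.openSubι V O) ≫ b) :=
      AlgSpc.repWith_comp ((repWith_yon_map_iff _ _).2 inferInstance) hb
    have hpX : RepWith @Etale (p ≫ pullback.fst f.hom _) := AlgSpc.repWith_comp hp
      (AlgSpc.repWith_of_isPullback (IsPullback.of_hasPullback _ _).flip hg)
    have hW : RepWith @Etale ((AlgSp.yon S).map (e ≫ AlgSpLoc.openSubι U _) ≫ a) :=
      AlgSpc.repWith_comp ((repWith_yon_map_iff _ _).2 (by rw [Over.comp_left]; infer_instance)) ha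
    haveI : Etale (AlgSpc.pre u₁).left := AlgSpc.etale_of_comp hW hpX (AlgSpc.pre u₁) (by
      rw [AlgSpc.map_pre, reassoc_of% sq.w, pullback.lift_fst, Functor.map_comp_assoc])
    have heq : e ≫ h' = AlgSpc.pre u₁ ≫ q := (AlgSp.yon S).map_injective (by
      rw [Functor.map_comp, Functor.map_comp, AlgSpc.map_pre, ← hpq, reassoc_of% sq.w, pullback.lift_snd])
    refine AlgSpc.EtLoc.descend (P := @Flat) e.left h'.left inferInstance hes ?_
    rw [← Over.comp_left, heq, Over.comp_left]
    infer_instance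
  · intro y
    obtain ⟨T₀, b, hb, hbs⟩ := Y.property.atlas
    obtain ⟨t, rfl⟩ := AlgSpc.surjective_ofPt hbs y
    obtain ⟨_, ⟨O, hO, rfl⟩, ht, -⟩ :=
      (T₀.left.isBasis_affineOpens.exists_subset_of_mem_open (Set.mem_univ t) isOpen_univ)
    obtain ⟨V₀, p, q, hp, hps, hpq, -, hqs⟩ :=
      key (AlgSpLoc.openSub T₀ O) hO ((AlgSp.yon S).map (AlgSpLoc.openSubι T₀ O) ≫ b)
    obtain ⟨v, hv⟩ := hqs.surj ⟨t, ht⟩
    refine ⟨AlgSp.Points.ofPt (p ≫ pullback.fst _ _) v, ?_⟩
    rw [AlgSp.Points.map_ofPt, Category.assoc, pullback.condition, reassoc_of% hpq, AlgSpc.ofPt_comp,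
      AlgSpc.ofPt_comp, hv]
    rfl

end Groth.Agent.S10606
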