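import Groth.Statements.S10615
import Groth.Agent.AlgSpLoc.SmoothThickLift
-- import your own Groth.Agent.* helpers here

set_option autoImplicit false
universe u
open CategoryTheory CategoryTheory.Limits AlgebraicGeometry
open AlgSp Groth.Agent.AlgSpc

namespace Groth.Agent.S10615

/-- Take a smooth morphism f : X ⟶ Y of algebraic spaces over S, let i : T ⟶ T' be a thickening of
algebraic spaces (representable, every base change to a scheme a surjective closed immersion) and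
let a : T ⟶ X, b : T' ⟶ Y satisfy a ≫ f = i ≫ b. Then there is an etale covering of T' on whose
members the dotted arrow exists: for every point t' of T' there are a scheme V, a representable
etale e : V ⟶ T' whose image contains t', and ℓ : V ⟶ X with ℓ ≫ f = e ≫ b whose restriction to T
×_{T'} V (any pullback square) is the restriction of a. -/
theorem result {S : Scheme.{u}} {X Y T T' : AlgSp.Space S} (f : X ⟶ Y)
    (hf : AlgSp.LocP @Smooth f.hom) (i : T ⟶ T')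
    (hi : AlgSp.IsThickMor i.hom)
    (a : T ⟶ X) (b : T' ⟶ Y) (w : a ≫ f = i ≫ b) (t' : AlgSp.Points T'.obj) :
    ∃ (V : Over S) (e : (AlgSp.yon S).obj V ⟶ T'.obj) (ℓ : (AlgSp.yon S).obj V ⟶ X.obj),
      AlgSp.RepWith @Etale e ∧ t' ∈ Set.range (AlgSp.Points.ofPt e) ∧ ℓ ≫ f.hom = e ≫ b.hom ∧
      ∀ (P : AlgSp.Sp S) (p₁ : P ⟶ T.obj) (p₂ : P ⟶ (AlgSp.yon S).obj V),
        IsPullback p₁ p₂ i.hom e → p₂ ≫ ℓ = p₁ ≫ a.hom := by
  obtain ⟨V₀, b₀, hb₀, hb₀s⟩ := Y.property.atlas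
  obtain ⟨D, d, hd, hds⟩ := T'.property.atlas
  obtain ⟨V', fst, snd, sV'⟩ := AlgSpc.exists_sq hb₀.1 (d ≫ b.hom)
  let β : V' ⟶ V₀ := pre fst
  let e₀ := (yon S).map snd ≫ d
  have he₀ : RepWith @Etale e₀ := AlgSpc.repWith_comp (AlgSpc.repWith_of_isPullback sV' hb₀) hd
  have heβ : e₀ ≫ b.hom = (yon S).map β ≫ b₀ := by rw [map_pre, Category.assoc, sV'.w]
  obtain ⟨v', hv'⟩ : ∃ v' : V'.left, Points.ofPt e₀ v' = t' := by
    obtain ⟨z, hz⟩ := AlgSpc.surjective_ofPt hds t'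
    obtain ⟨y, hy⟩ := AlgSpc.surjective_ofPt hb₀s (Points.ofPt (d ≫ b.hom) z)
    obtain ⟨v, -, hv⟩ := AlgSpc.exists_point_of_sq sV' (Points.ofScheme V₀ y) z
      (by rw [← Points.ofPt_eq_map_ofScheme, hy])
    exact ⟨v, by rw [AlgSpc.ofPt_comp, hv, hz]⟩
  obtain ⟨P, fstP, j, sP⟩ := AlgSpc.exists_sq hi.1 e₀
  have hj : thick j.left := hi.2 _ _ _ sP
  have : IsClosedImmersion j.left := hj.1
  have : Surjective j.left := hj.2
  have sX := IsPullback.of_hasPullback f.hom b₀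
  let m := sX.lift (fstP ≫ a.hom) ((yon S).map (j ≫ β)) (by
    rw [Category.assoc, show a.hom ≫ f.hom = i.hom ≫ b.hom from congrArg InducedCategory.Hom.hom w, ← Category.assoc,
      sP.w, Category.assoc, heβ, Functor.map_comp, Category.assoc])
  obtain ⟨U, au, hau, haus⟩ :=
    (AlgSpc.isAlgSpace_of_isPullback X.property Y.property (IsAlgSpace.yon_obj V₀) sX).atlas
  let aU := au ≫ pullback.fst f.hom b₀
  let h : U ⟶ V₀ := pre (au ≫ pullback.snd f.hom b₀)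
  have wh : aU ≫ f.hom = (yon S).map h ≫ b₀ := by rw [map_pre, Category.assoc, Category.assoc, sX.w]
  have : Smooth h.left := hf aU b₀ h
    (AlgSpc.repWith_comp hau (AlgSpc.repWith_of_isPullback sX.flip hb₀)) hb₀ wh
  obtain ⟨W, fstW, q, sW⟩ := AlgSpc.exists_sq hau.1 m
  have : Etale q.left := hau.2 _ _ _ sW
  have : Surjective q.left := haus.2 _ _ _ sW
  let g : W ⟶ U := pre fstW
  have hg : q ≫ j ≫ β = g ≫ h := (yon S).map_injective (by
    rw [(yon S).map_comp q, (yon S).map_comp g, map_pre, map_pre, ← Category.assoc fstW, sW.w, Category.assoc,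
      sX.lift_snd])
  obtain ⟨p₀, hp₀⟩ := j.left.surjective v'
  obtain ⟨w₀, hw₀⟩ := q.left.surjective p₀
  obtain ⟨V₁, P₁, ε, ℓ, p₁, p₂, σ, v₁, hε, hℓ, sP₁, hσ₁, hσ₂, hv₁⟩ :=
    AlgSpLoc.exists_etale_smooth_lift j.left q.left w₀ h.left g.left β.left (congrArg CommaMorphism.left hg)
  let V : Over S := Over.mk (ε ≫ V'.hom)
  let εO : V ⟶ V' := Over.homMk ε rfl
  let ℓO : V ⟶ U := Over.homMk ℓ (by
    change ℓ ≫ U.hom = ε ≫ V'.hom
    rw [← Over.w h, reassoc_of% hℓ, Over.w β])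
  let P₁O : Over S := Over.mk (p₂ ≫ V.hom)
  let p₂O : P₁O ⟶ V := Over.homMk p₂ rfl
  let p₁O : P₁O ⟶ P := Over.homMk p₁ (by
    change p₁ ≫ P.hom = p₂ ≫ ε ≫ V'.hom
    rw [← Over.w j, reassoc_of% sP₁.w])
  let σO : P₁O ⟶ W := Over.homMk σ (by
    rw [← Over.w q, reassoc_of% hσ₁]
    exact Over.w p₁O)
  refine ⟨V, (yon S).map εO ≫ e₀, (yon S).map ℓO ≫ aU,
    AlgSpc.repWith_comp ((repWith_yon_map_iff _ εO).2 hε) he₀, ⟨v₁, ?_⟩, ?_, fun Q q₁ q₂ sQ => ?_⟩
  · rw [AlgSpc.ofPt_comp]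
    change Points.ofPt e₀ (ε v₁) = t'
    rw [hv₁, hw₀, hp₀, hv']
  · rw [Category.assoc, wh, Category.assoc, heβ, ← Functor.map_comp_assoc, ← Functor.map_comp_assoc,
      show ℓO ≫ h = εO ≫ β from Over.OverMorphism.ext hℓ]
  · have sT : IsPullback ((yon S).map p₁O ≫ fstP) ((yon S).map p₂O) i.hom ((yon S).map εO ≫ e₀) :=
      ((AlgSpLoc.isPullback_over (a := p₁O) (b := p₂O) (c := j) (d := εO) sP₁).map (yon S)).paste_horiz sP
    obtain ⟨ι, hι₁, hι₂⟩ : ∃ ι : Q ⟶ (yon S).obj P₁O, ι ≫ (yon S).map p₁O ≫ fstP = q₁ ∧ ι ≫ (yon S).map p₂O = q₂ :=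
      ⟨sT.lift q₁ q₂ sQ.w, sT.lift_fst _ _ _, sT.lift_snd _ _ _⟩
    rw [← hι₁, ← hι₂, Category.assoc, Category.assoc]
    congr 1
    rw [← Functor.map_comp_assoc, show p₂O ≫ ℓO = σO ≫ g from Over.OverMorphism.ext hσ₂.symm, Functor.map_comp,
      map_pre, Category.assoc]
    simp only [aU]
    rw [← Category.assoc fstW, sW.w, Category.assoc, sX.lift_fst, ← Functor.map_comp_assoc,
      show σO ≫ q = p₁O from Over.OverMorphism.ext hσ₁, Category.assoc]

end Groth.Agent.S10615
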