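import Groth.Statements.S10626
import Groth.Agent.FlatMorLib.FlatUnramifiedFE
import Groth.Agent.AlgSpFormal.Charts
-- import your own Groth.Agent.* helpers here

set_option autoImplicit false
universe u
open CategoryTheory CategoryTheory.Limits AlgebraicGeometry
open AlgSp

namespace Groth.Agent.S10626

/-- An unramified and flat morphism of algebraic spaces over S is formally etale (lifting sense). -/
theorem result {S : Scheme.{u}} {X Y : AlgSp.Space S} (f : X ⟶ Y)
    (h1 : AlgSp.LocP (@LocallyOfFiniteType ⊓ @FormallyUnramified) f.hom) (h2 : AlgSp.LocP @Flat f.hom) :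
    AlgSp.IsFormallyEtaleMor f.hom := by
  refine (AlgSpFormal.etale_iff_locP X.property Y.property).2 fun U V a b h ha hb w => ?_
  obtain ⟨hft, hu⟩ := h1 a b h ha hb w
  have := hft; have := hu; have : Flat h.left := h2 a b h ha hb w
  refine (FlatMorLib.isFormallyEtaleHom_iff_appLE h.left).2 fun U' V' hU hV e => ?_
  have hu' := h.left.formallyUnramified_appLE hV hU e
  have hf' := h.left.flat_appLE hV hU e
  have ht := h.left.finiteType_appLE hV hU e
  algebraize [(h.left.appLE V' U' e).hom]
  exact Groth.Agent.FlatMorLib.FlatUnramifiedFE.formallyEtale_of_flat _ _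

end Groth.Agent.S10626
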