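import Groth.Statements.S10641
import Groth.Agent.S10278
import Groth.Agent.AlgSpc.SepProper
import Groth.Agent.AlgSpFormal.Mono
import Groth.Agent.AlgSpLoc.WhereInj
-- import your own Groth.Agent.* helpers here

set_option autoImplicit false
universe u
open CategoryTheory CategoryTheory.Limits AlgebraicGeometry
open AlgSp

namespace Groth.Agent.S10641

/-- For morphisms f : X ⟶ Y, p : X ⟶ Z and q : Y ⟶ Z of algebraic spaces over S with f ≫ q = p, where p
is universally closed and locally of finite type and q is separated, there is an open subspace W of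
Z with the following property: a morphism of algebraic spaces g : Z' ⟶ Z factors through W exactly
when the base change X' ⟶ Y' of f along g is a closed immersion (representable, and a closed
immersion on every represented pullback). Here the base change of f along g is any f' : X' ⟶ Y'
obtained from pullback squares Y' = Y ×_Z Z' and X' = X ×_Y Y' of algebraic spaces over S, and W ⊂ Z
is given as a representable open immersion w : W ⟶ Z. -/
theorem result {S : Scheme.{u}} {X Y Z : AlgSp.Space S}
    (f : X ⟶ Y) (p : X ⟶ Z) (q : Y ⟶ Z) (hc : f ≫ q = p)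
    (hp1 : AlgSp.LocP @LocallyOfFiniteType p.hom) (hp2 : AlgSp.IsUnivClosedMor p.hom)
    (hq : AlgSp.IsSeparatedMor q.hom) :
    ∃ (W : AlgSp.Space S) (w : W ⟶ Z), AlgSp.RepWith @IsOpenImmersion w.hom ∧
      ∀ (Z' : AlgSp.Space S) (g : Z' ⟶ Z),
        (∃ k : Z' ⟶ W, k ≫ w = g) ↔
          ∀ (Y' : AlgSp.Space S) (gY : Y' ⟶ Y) (q' : Y' ⟶ Z'),
            IsPullback gY.hom q'.hom q.hom g.hom →
            ∀ (X' : AlgSp.Space S) (gX : X' ⟶ X) (f' : X' ⟶ Y'),
              IsPullback gX.hom f'.hom f.hom gY.hom →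
                AlgSp.RepWith @IsClosedImmersion f'.hom := by
  have huc : AlgSp.IsUnivClosedMor f.hom := ((S10278.result f p q hc hq).1 hp2).1
  let XX : AlgSp.Space S := ⟨pullback f.hom f.hom,
    AlgSpc.isAlgSpace_of_isPullback X.property Y.property X.property (IsPullback.of_hasPullback _ _)⟩
  let pr0 : XX ⟶ X := ObjectProperty.homMk (pullback.fst f.hom f.hom)
  let pr1 : XX ⟶ X := ObjectProperty.homMk (pullback.snd f.hom f.hom)
  have hXX : IsPullback pr0.hom pr1.hom f.hom f.hom := IsPullback.of_hasPullback _ _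
  have hcl : ∀ {A B : AlgSp.Space S} {k : A ⟶ B}, AlgSp.IsUnivClosedMor k.hom → AlgSp.IsClosedMor k.hom :=
    fun {A B k} hk => hk B.property (𝟙 _) (𝟙 _) _ (IsPullback.id_horiz _)
  have hpr : AlgSp.IsClosedMor pr1.hom := hcl (AlgSpc.univSp_base_change hXX huc)
  obtain ⟨W, w, hw, H⟩ := AlgSpLoc.where_unramified_univInjective f p q hc XX pr0 pr1 hXX hp1 (hcl hp2)
    (AlgSpc.isClosedMor_comp pr1.hom p.hom hpr (hcl hp2))
  refine ⟨W, w, hw, fun Z' g => (H Z' g).trans (forall₄_congr fun Y' gY q' sY => forall₄_congr fun X' gX f' sX => ?_)⟩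
  have huc' : AlgSp.IsUnivClosedMor f'.hom := AlgSpc.univSp_base_change sX huc
  rw [AlgSpFormal.closedImmersion_iff X'.property Y'.property]
  constructor
  · rintro ⟨h1, h2⟩
    exact ⟨huc', (AlgSpc.locP_inf.1 h1).1,
      ((AlgSpFormal.unramified_mono_tfae X'.property Y'.property).1.2 ⟨h1, h2⟩).2⟩
  · rintro ⟨-, hft, hm⟩
    have hu := (AlgSpFormal.unramified_mono_tfae X'.property Y'.property).2.1.2 ⟨hft, hm⟩
    exact (AlgSpFormal.unramified_mono_tfae X'.property Y'.property).1.1 hu

end Groth.Agent.S10641
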