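import Groth.Statements.S10644
import Groth.Agent.S10582
import Groth.Agent.S10641
import Groth.Agent.S10643
import Groth.Agent.AlgSpc.LocP
import Groth.Agent.AlgSpc.Compact
import Groth.Agent.AlgSpLoc.WhereOpen
-- import your own Groth.Agent.* helpers here

set_option autoImplicit false
universe u
open CategoryTheory CategoryTheory.Limits AlgebraicGeometry
open AlgSp

namespace Groth.Agent.S10644

/-- For morphisms f : X ⟶ Y, p : X ⟶ Z and q : Y ⟶ Z of algebraic spaces over S with f ≫ q = p, where p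
is flat, universally closed and locally of finite presentation and q is closed, separated and
locally of finite type, there is an open subspace W of Z with the following property: a morphism of
algebraic spaces g : Z' ⟶ Z factors through W exactly when the base change X' ⟶ Y' of f along g is
an isomorphism. Here the base change of f along g is any f' : X' ⟶ Y' obtained from pullback squares
Y' = Y ×_Z Z' and X' = X ×_Y Y' of algebraic spaces over S, and W ⊂ Z is given as a representable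
open immersion w : W ⟶ Z. -/
theorem result {S : Scheme.{u}} {X Y Z : AlgSp.Space S}
    (f : X ⟶ Y) (p : X ⟶ Z) (q : Y ⟶ Z) (hc : f ≫ q = p)
    (hp1 : AlgSp.LocP @LocallyOfFinitePresentation p.hom) (hp2 : AlgSp.LocP @Flat p.hom)
    (hp3 : AlgSp.IsUnivClosedMor p.hom) (hq1 : AlgSp.LocP @LocallyOfFiniteType q.hom)
    (hq2 : AlgSp.IsClosedMor q.hom) (hq3 : AlgSp.IsSeparatedMor q.hom) :
    ∃ (W : AlgSp.Space S) (w : W ⟶ Z), AlgSp.RepWith @IsOpenImmersion w.hom ∧
      ∀ (Z' : AlgSp.Space S) (g : Z' ⟶ Z),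
        (∃ k : Z' ⟶ W, k ≫ w = g) ↔
          ∀ (Y' : AlgSp.Space S) (gY : Y' ⟶ Y) (q' : Y' ⟶ Z'),
            IsPullback gY.hom q'.hom q.hom g.hom →
            ∀ (X' : AlgSp.Space S) (gX : X' ⟶ X) (f' : X' ⟶ Y'),
              IsPullback gX.hom f'.hom f.hom gY.hom →
                IsIso f'.hom := by
  have hp3' : AlgSp.IsClosedMor p.hom := hp3 Z.property (𝟙 _) (𝟙 _) _ (IsPullback.id_horiz _)
  have hpf : AlgSp.LocP @LocallyOfFiniteType p.hom :=
    AlgSpc.locP_mono (fun _ _ k (_ : LocallyOfFinitePresentation k) => (inferInstance : LocallyOfFiniteType k)) hp1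
  obtain ⟨W₁, w₁, hw₁, H₁⟩ := S10643.result f p q hc hp1 hp2 hp3' hq1 hq2
  obtain ⟨W₂, w₂, hw₂, H₂⟩ := S10641.result f p q hc hpf hp3 hq3
  have hop : ∀ {A : AlgSp.Space S} {w : A ⟶ Z}, AlgSp.RepWith @IsOpenImmersion w.hom → IsOpen (Set.range (AlgSp.Points.map w.hom)) :=
    fun hw => (AlgSpc.isOpenMap_map_of_repWith (P := @IsOpenImmersion) (fun _ _ k (_ : IsOpenImmersion k) => k.isOpenEmbedding.isOpenMap) hw).isOpen_range
  have hfac : ∀ {A : AlgSp.Space S} {w : A ⟶ Z}, AlgSp.RepWith @IsOpenImmersion w.hom → ∀ (Z' : AlgSp.Space S) (g : Z' ⟶ Z),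
      (∃ k : Z' ⟶ A, k ≫ w = g) ↔ Set.range (AlgSp.Points.map g.hom) ⊆ Set.range (AlgSp.Points.map w.hom) := by
    intro A w hw Z' g
    refine ⟨?_, fun h => ?_⟩
    · rintro ⟨k, rfl⟩ _ ⟨z, rfl⟩
      exact ⟨AlgSp.Points.map k.hom z, (AlgSp.Points.map_comp k.hom w.hom z).symm⟩
    · obtain ⟨k, hk⟩ := AlgSpLoc.exists_lift_openImm hw g.hom h
      exact ⟨ObjectProperty.homMk k, by ext : 1; exact hk⟩
  refine AlgSpLoc.exists_openSubspace_where f q (fun f' => IsIso f'.hom) ((hop hw₁).inter (hop hw₂))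
    fun Z' g Y' gY q' sY X' gX f' sX => ?_
  have hsplit : ∀ (Y'' : AlgSp.Space S) (gY'' : Y'' ⟶ Y) (q'' : Y'' ⟶ Z'), IsPullback gY''.hom q''.hom q.hom g.hom →
      ∀ (X'' : AlgSp.Space S) (gX'' : X'' ⟶ X) (f'' : X'' ⟶ Y''), IsPullback gX''.hom f''.hom f.hom gY''.hom →
        (IsIso f''.hom ↔ (AlgSp.IsSurjectiveMor f''.hom ∧ AlgSp.LocP @Flat f''.hom) ∧
          AlgSp.RepWith @IsClosedImmersion f''.hom) := by
    intro Y'' _ _ _ X'' _ f'' _
    constructor
    · intro hi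
      exact ⟨⟨AlgSpc.surjective_map_of_repWith (AlgSpc.repWith_iso f''.hom),
        AlgSpc.locP_of_repWith (fun e k (_ : Etale e) (_ : Flat k) => (inferInstance : Flat (e ≫ k)))
          (AlgSpc.repWith_iso (P := @Flat) f''.hom)⟩, AlgSpc.repWith_iso f''.hom⟩
    · rintro ⟨⟨hs, hf⟩, hci⟩
      haveI : Mono f''.hom := AlgSpc.mono_of_repWith (fun _ _ k (_ : IsClosedImmersion k) => inferInstance) hci
      exact S10582.result f'' (AlgSpc.isQuasiCompactMor_of_repWith
        (AlgSpc.repWith_mono (fun _ _ k (_ : IsClosedImmersion k) => (inferInstance : QuasiCompact k)) hci)) hf hs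
  rw [hsplit Y' gY q' sY X' gX f' sX, Set.subset_inter_iff]
  refine ⟨fun h => ?_, fun h => ⟨(H₁ Z' g).1 ((hfac hw₁ Z' g).2 h.1) Y' gY q' sY X' gX f' sX,
    (H₂ Z' g).1 ((hfac hw₂ Z' g).2 h.2) Y' gY q' sY X' gX f' sX⟩⟩
  have uniq : ∀ (Y'' : AlgSp.Space S) (gY'' : Y'' ⟶ Y) (q'' : Y'' ⟶ Z'), IsPullback gY''.hom q''.hom q.hom g.hom →
      ∀ (X'' : AlgSp.Space S) (gX'' : X'' ⟶ X) (f'' : X'' ⟶ Y''), IsPullback gX''.hom f''.hom f.hom gY''.hom →
        IsIso f''.hom := by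
    intro Y'' gY'' q'' sY'' X'' gX'' f'' sX''
    haveI : IsIso f'.hom := (hsplit Y' gY q' sY X' gX f' sX).2 h
    let eY := sY''.isoIsPullback _ _ sY
    have sX₂ : IsPullback gX.hom (f'.hom ≫ eY.inv) f.hom gY''.hom :=
      IsPullback.of_iso sX (Iso.refl _) (Iso.refl _) eY.symm (Iso.refl _) (by simp) (by simp) (by simp) (by simp [eY])
    rw [← sX''.isoIsPullback_hom_snd _ _ sX₂]
    infer_instance
  exact ⟨(hfac hw₁ Z' g).1 ((H₁ Z' g).2 fun Y'' a b s X'' c d t => ((hsplit Y'' a b s X'' c d t).1 (uniq Y'' a b s X'' c d t)).1),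
    (hfac hw₂ Z' g).1 ((H₂ Z' g).2 fun Y'' a b s X'' c d t => ((hsplit Y'' a b s X'' c d t).1 (uniq Y'' a b s X'' c d t)).2)⟩

end Groth.Agent.S10644
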