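import Groth.Statements.S10653
import Groth.Agent.AlgSpDesc.RelDimInv
import Groth.Agent.S1240
import Groth.Agent.AlgSpc.OpenSubspace
import Groth.Agent.AlgSpc.Compact

set_option autoImplicit false
universe u
open CategoryTheory CategoryTheory.Limits AlgebraicGeometry
open AlgSp

namespace Groth.Agent.S10653

set_option backward.isDefEq.respectTransparency false
open CategoryTheory CategoryTheory.Limits Groth.Agent.AlgSpc

/-- For a flat morphism f : X ⟶ Y of algebraic spaces over S which is locally of finite type, and an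
open subspace j : V ⟶ Y with |V| dense in |Y| such that the base change X ×_Y V ⟶ V has relative
dimension at most d (at every point some etale chart diagram has top arrow with local fibre
dimension at most d): if either j is quasi-compact or f is locally of finite presentation, then f
has relative dimension at most d at every point of |X|. -/
theorem result {S : Scheme.{u}} {X Y V : AlgSp.Space S} (f : X ⟶ Y) (j : V ⟶ Y) (d : ℕ)
    (hf1 : AlgSp.LocP @Flat f.hom) (hf2 : AlgSp.LocP @LocallyOfFiniteType f.hom)
    (hj1 : AlgSp.RepWith @IsOpenImmersion j.hom) (hj2 : Dense (Set.range (AlgSp.Points.map j.hom)))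
    (P : AlgSp.Space S) (fst : P ⟶ X) (snd : P ⟶ V) (hP : IsPullback fst.hom snd.hom f.hom j.hom)
    (hV : ∀ x, AlgSp.HasAtMor (fun _ _ h u => FlatMor.fibreDimAt h u ≤ (d : WithBot ℕ∞)) snd.hom x)
    (h : AlgSp.LocP @LocallyOfFinitePresentation f.hom ∨ AlgSp.IsQuasiCompactMor j.hom) :
    ∀ x, AlgSp.HasAtMor (fun _ _ h u => FlatMor.fibreDimAt h u ≤ (d : WithBot ℕ∞)) f.hom x := by
  intro x
  obtain ⟨V₀, b, hb, hbs⟩ := Y.property.atlas
  have sX := IsPullback.of_hasPullback f.hom b
  obtain ⟨U, c, hc, hcs⟩ :=
    (isAlgSpace_of_isPullback X.property Y.property (AlgSp.IsAlgSpace.yon_obj V₀) sX).atlas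
  let a := c ≫ pullback.fst f.hom b
  let k : U ⟶ V₀ := pre (c ≫ pullback.snd f.hom b)
  have ha : AlgSp.RepWith @Etale a := repWith_comp hc (repWith_of_isPullback sX.flip hb)
  have has : AlgSp.RepWith @Surjective a := repWith_comp hcs (repWith_of_isPullback sX.flip hbs)
  have w : a ≫ f.hom = (AlgSp.yon S).map k ≫ b := by
    rw [map_pre, Category.assoc, Category.assoc, sX.w]
  obtain ⟨u, rfl⟩ := surjective_ofPt has x
  rw [AlgSpDesc.hasAtMor_fibreDimAt_iff (fun t => t ≤ (d : WithBot ℕ∞)) ha hb w]
  haveI : Flat k.left := hf1 a b k ha hb w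
  haveI : LocallyOfFiniteType k.left := hf2 a b k ha hb w
  obtain ⟨T, t, s, sq⟩ := exists_sq hj1.1 b
  haveI : IsOpenImmersion s.left := hj1.2 _ _ _ sq
  have hW : (s.left.opensRange : Set V₀.left) = AlgSp.Points.ofPt b ⁻¹' Set.range (AlgSp.Points.map j.hom) := by
    rw [← Set.image_univ, preimage_ofPt_image sq, Set.preimage_univ, Set.image_univ, Scheme.Hom.coe_opensRange]
  haveI : Mono j.hom := mono_of_repWith (fun _ _ i (hi : IsOpenImmersion i) => inferInstance) hj1
  haveI : Mono fst.hom := MorphismProperty.of_isPullback (P := MorphismProperty.monomorphisms _) hP.flip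
    (show MorphismProperty.monomorphisms _ j.hom from inferInstanceAs (Mono j.hom))
  refine S1240.result k.left s.left.opensRange ?_ d ?_ ?_ u
  · rw [hW]; exact hj2.preimage (isOpenMap_ofPt hb)
  · rintro u' ⟨t₀, ht₀⟩
    let T' : Over S := Over.mk (pullback.fst k.left s.left ≫ U.hom)
    let wU : T' ⟶ U := Over.homMk (pullback.fst k.left s.left) rfl
    let kT : T' ⟶ T := Over.homMk (pullback.snd k.left s.left) (by
      show _ = pullback.fst k.left s.left ≫ U.hom
      rw [← Over.w k, ← Over.w s, pullback.condition_assoc])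
    have hkT : wU ≫ k = kT ≫ s := Over.OverMorphism.ext pullback.condition
    have w₁ : ((AlgSp.yon S).map wU ≫ a) ≫ f.hom = ((AlgSp.yon S).map kT ≫ t) ≫ j.hom := by
      rw [Category.assoc, w, Category.assoc, sq.w, ← Category.assoc, ← Category.assoc,
        ← Functor.map_comp, ← Functor.map_comp, hkT]
    let aT := hP.lift _ _ w₁
    have haT : AlgSp.RepWith @Etale aT := by
      have h' : AlgSp.RepWith @Etale ((AlgSp.yon S).map wU ≫ a) :=
        repWith_comp ((repWith_yon_map_iff @Etale wU).2 (inferInstanceAs (Etale (pullback.fst k.left s.left)))) ha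
      refine repWith_of_isPullback (fst := 𝟙 _) (f := (AlgSp.yon S).map wU ≫ a) (g := fst.hom)
        (IsPullback.of_isLimit' ⟨by rw [Category.id_comp]; exact (hP.lift_fst _ _ w₁).symm⟩
          (PullbackCone.IsLimit.mk _ (fun y => y.fst) (fun y => Category.comp_id _)
            (fun y => (cancel_mono fst.hom).1 (by rw [Category.assoc, hP.lift_fst, y.condition]))
            (fun y n h₁ _ => (Category.comp_id n).symm.trans h₁))) h'
    obtain ⟨u'', hu₁, -⟩ := Scheme.Pullback.exists_preimage_pullback u' t₀ ht₀.symm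
    have hd := (AlgSpDesc.hasAtMor_fibreDimAt_iff (fun t => t ≤ (d : WithBot ℕ∞)) haT
      (repWith_of_isPullback sq.flip hb) (hP.lift_snd _ _ w₁) u'').1 (hV _)
    haveI : Etale s.left := inferInstance
    haveI : Etale wU.left := inferInstanceAs (Etale (pullback.fst k.left s.left))
    rw [← AlgSpDesc.fibreDimAt_comp_etale kT.left s.left,
      show kT.left ≫ s.left = wU.left ≫ k.left from pullback.condition.symm,
      AlgSpDesc.fibreDimAt_etale_comp, show wU.left u'' = u' from hu₁] at hd
    exact hd
  · refine h.imp (fun hl => hl a b k ha hb w) fun hqc O hOo hO => ?_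
    let TO : Over S := Over.mk ((Scheme.Opens.ι (⟨O, hO⟩ : V₀.left.Opens)) ≫ V₀.hom)
    let o : TO ⟶ V₀ := Over.homMk (Scheme.Opens.ι (⟨O, hO⟩ : V₀.left.Opens)) rfl
    haveI : CompactSpace ↥TO.left := isCompact_iff_compactSpace.1 hOo
    obtain ⟨T', t', s', sq'⟩ := exists_sq hj1.1 ((AlgSp.yon S).map o ≫ b)
    have := compactSpace_points (hqc (AlgSp.IsAlgSpace.yon_obj TO) isQuasiCompactSp_yon _ _ _ sq')
    haveI : CompactSpace ↥T'.left := (AlgSp.Points.schemeHomeo T').symm.compactSpace
    have e : (s.left.opensRange : Set V₀.left) ∩ O = o.left '' Set.range s'.left := by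
      rw [hW, ← Set.image_univ (f := AlgSp.Points.map j.hom)]
      ext v
      constructor
      · rintro ⟨hv, hvO⟩
        refine ⟨⟨v, hvO⟩, ?_, rfl⟩
        have h' : (⟨v, hvO⟩ : ↥TO.left) ∈ AlgSp.Points.ofPt ((AlgSp.yon S).map o ≫ b) ⁻¹'
            (AlgSp.Points.map j.hom '' Set.univ) := by
          rw [Set.mem_preimage, ofPt_comp]; exact hv
        rw [preimage_ofPt_image sq', Set.preimage_univ, Set.image_univ] at h'
        exact h'
      · rintro ⟨w', hw', rfl⟩
        refine ⟨?_, w'.2⟩
        have h' : w' ∈ AlgSp.Points.ofPt ((AlgSp.yon S).map o ≫ b) ⁻¹'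
            (AlgSp.Points.map j.hom '' Set.univ) := by
          rw [preimage_ofPt_image sq', Set.preimage_univ, Set.image_univ]; exact hw'
        rw [Set.mem_preimage, ofPt_comp] at h'
        exact h'
    rw [e]
    exact (isCompact_range s'.left.continuous).image o.left.continuous

end Groth.Agent.S10653
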