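import Groth.Statements.S10659
import Groth.Agent.AlgSpc.LocP

set_option autoImplicit false
universe u
open CategoryTheory CategoryTheory.Limits AlgebraicGeometry
open AlgSp

namespace Groth.Agent.S10659

set_option backward.isDefEq.respectTransparency false
open CategoryTheory CategoryTheory.Limits Groth.Agent.AlgSpc

/-- For a property P of morphisms of schemes that is etale local on the target (local for the etale
precoverage) and a representable morphism f : X ⟶ Y of algebraic spaces over S: if for one scheme V
with a representable etale surjective b : h_V ⟶ Y and one pullback square of f along b with corner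
h_W the projection W ⟶ V has P, then f has P etale locally on the target in the representable sense,
i.e. every such projection along every etale h_V ⟶ Y has P. (The published statement also asserts
the converse direction and that, for X and Y representable, the condition is equivalent to f having
P; this row states only that one surjective etale chart suffices.) -/
theorem result {S : Scheme.{u}} (P : MorphismProperty Scheme.{u}) [P.IsLocalAtTarget Scheme.etalePrecoverage]
    {X Y : AlgSp.Space S} (f : X ⟶ Y) (hf : AlgSp.Representable f.hom)
    {V W : Over S} (b : (AlgSp.yon S).obj V ⟶ Y.obj) (hb1 : AlgSp.RepWith @Etale b) (hb2 : AlgSp.RepWith @Surjective b)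
    (fst : (AlgSp.yon S).obj W ⟶ X.obj) (snd : W ⟶ V)
    (sq : IsPullback fst ((AlgSp.yon S).map snd) f.hom b) (hP : P snd.left) :
    AlgSp.RepLocT P f.hom := by
  refine ⟨hf, fun V' W' b' fst' snd' hb' sq' => ?_⟩
  obtain ⟨V'', a₀, c, sV⟩ := exists_sq hb1.1 b'
  obtain ⟨a, rfl⟩ := (AlgSp.yon S).map_surjective a₀
  haveI hc : Etale c.left := hb1.2 _ _ _ sV
  haveI hcs : Surjective c.left := hb2.2 _ _ _ sV
  haveI ha : Etale a.left := by
    have := sq_etale sV hb'
    rwa [pre_map] at this
  let X₀ : Option PUnit.{1} → Scheme.{u} := fun i => i.elim V.left fun _ => V''.left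
  let f₀ : ∀ i, X₀ i ⟶ V.left := fun i => match i with | none => 𝟙 _ | some _ => a.left
  have hR : Presieve.ofArrows X₀ f₀ ∈ Scheme.etalePrecoverage V.left := by
    refine (Scheme.ofArrows_mem_precoverage_iff _).2 ⟨fun x => ⟨none, x, rfl⟩, fun i => ?_⟩
    match i with
    | none => exact inferInstanceAs (Etale (𝟙 V.left))
    | some _ => exact ha
  have h1 : P (pullback.snd snd.left a.left) :=
    MorphismProperty.IsLocalAtTarget.pullbackSnd hR (Presieve.ofArrows.mk (some PUnit.unit)) hP
  have sA := (IsPullback.of_hasPullback snd a)
  have sB := (IsPullback.of_hasPullback snd' c)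
  have hA := (sA.map (AlgSp.yon S)).paste_horiz sq
  have hB := (sB.map (AlgSp.yon S)).paste_horiz sq'
  rw [← sV.w] at hB
  let e₀ := hB.isoIsPullback _ _ hA
  let e : pullback snd' c ≅ pullback snd a := (Functor.FullyFaithful.ofFullyFaithful (AlgSp.yon S)).preimageIso e₀
  have he : e.hom ≫ pullback.snd snd a = pullback.snd snd' c := by
    apply (AlgSp.yon S).map_injective
    rw [Functor.map_comp]
    simp only [e, Functor.FullyFaithful.preimageIso_hom, Functor.FullyFaithful.map_preimage]
    exact hB.isoIsPullback_hom_snd _ _ hA
  have sA' := sA.map (Over.forget S)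
  have sB' := sB.map (Over.forget S)
  have h2 : P (pullback.snd snd a).left := by
    rw [show (pullback.snd snd a).left = sA'.isoPullback.hom ≫ pullback.snd snd.left a.left from
      sA'.isoPullback_hom_snd.symm]
    exact MorphismProperty.RespectsIso.precomp P sA'.isoPullback.hom _ h1
  have h3 : P (pullback.snd snd' c).left := by
    rw [← he, Over.comp_left]
    exact MorphismProperty.RespectsIso.precomp P e.hom.left _ h2
  refine MorphismProperty.IsLocalAtTarget.of_forall_pullbackSnd (K := Scheme.etalePrecoverage)
    (R := Presieve.singleton c.left) ((Scheme.singleton_mem_precoverage_iff _ _).2 ⟨c.left.surjective, hc⟩) ?_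
  intro U g _ hg
  obtain ⟨⟩ := hg
  rw [show pullback.snd snd'.left c.left = sB'.isoPullback.inv ≫ (pullback.snd snd' c).left from
    sB'.isoPullback_inv_snd.symm]
  exact MorphismProperty.RespectsIso.precomp P sB'.isoPullback.inv _ h3

end Groth.Agent.S10659
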