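import Groth.Statements.S8905
import Groth.Agent.KoszulExt.Conormal
import Groth.Agent.KoszulExt.Homology
import Groth.Prelude.Def_CAlgX
import Groth.Agent.CAlgT1.Misc6
-- import your own Groth.Agent.* helpers here

set_option autoImplicit false
universe u
open CategoryTheory CategoryTheory.Limits AlgebraicGeometry TopologicalSpace
open SDiv

namespace Groth.Agent.S8905

/-- An exact Koszul sequence is `H₁`-regular. -/
theorem isH1Regular_of_isExact {A : Type u} [CommRing A] {c : ℕ} {f : Fin c → A} (hf : Groth.Agent.KoszulExt.IsExact f) :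
    CAlgX.IsH1Regular f := by
  classical
  intro v hv
  set T := Submodule.span A {v : Fin c → A | ∃ i j : Fin c, v = Pi.single i (f j) - Pi.single j (f i)}
  have hG1 : ExteriorAlgebra.ι A v ∈ Groth.Agent.KoszulExt.G A c 1 := by
    rw [Groth.Agent.KoszulExt.G, ExteriorAlgebra.exteriorPower, pow_one]; exact LinearMap.mem_range_self _ _
  obtain ⟨y, hy⟩ := (hf 0 ⟨ExteriorAlgebra.ι A v, hG1⟩).1 (Subtype.ext (by
    rw [Groth.Agent.KoszulExt.dk_coe]; simp [Groth.Agent.KoszulExt.ct_ι, hv]))
  have hy2 : (y : ExteriorAlgebra A (Fin c → A)) ∈ Groth.Agent.KoszulExt.G A c 2 := y.2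
  change (y : ExteriorAlgebra A (Fin c → A)) ∈ LinearMap.range (ExteriorAlgebra.ι A : (Fin c → A) →ₗ[A] _) ^ 2 at hy2
  rw [pow_two] at hy2
  have key : Groth.Agent.KoszulExt.ct f y.1 ∈ T.map (ExteriorAlgebra.ι A) := by
    refine Submodule.mul_induction_on hy2 ?_ fun a b ha hb => by rw [map_add]; exact add_mem ha hb
    rintro _ ⟨a, rfl⟩ _ ⟨b, rfl⟩
    rw [Groth.Agent.KoszulExt.ct_ι_mul, Groth.Agent.KoszulExt.ct_ι]
    refine ⟨(∑ i, a i * f i) • b - (∑ i, b i * f i) • a, ?_, ?_⟩
    · have : (∑ i, a i * f i) • b - (∑ i, b i * f i) • a =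
          ∑ i, ∑ j, (a i * b j) • (Pi.single j (f i) - Pi.single i (f j)) := by
        funext k
        simp only [Pi.sub_apply, Pi.smul_apply, Finset.sum_apply, smul_eq_mul, mul_sub,
          Finset.sum_sub_distrib, Pi.single_apply, mul_ite, mul_zero, Finset.sum_ite_eq,
          Finset.mem_univ, if_true, Finset.sum_mul]
        congr 1
        · exact Finset.sum_congr rfl fun i _ => by ring
        · rw [Finset.sum_comm]
          simp only [Finset.sum_ite_eq, Finset.mem_univ, if_true]
          exact Finset.sum_congr rfl fun i _ => by ring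
      rw [this]
      exact Submodule.sum_mem _ fun i _ => Submodule.sum_mem _ fun j _ =>
        Submodule.smul_mem _ _ (Submodule.subset_span ⟨j, i, rfl⟩)
    · rw [map_sub, map_smul, map_smul]
      congr 1
      rw [← Algebra.commutes, ← Algebra.smul_def]
  rw [show Groth.Agent.KoszulExt.ct f y.1 = ExteriorAlgebra.ι A v from congrArg Subtype.val hy] at key
  obtain ⟨w, hw, hwv⟩ := key
  exact ExteriorAlgebra.ι_leftInverse.injective hwv ▸ hw



/-- Let i : Z ⟶ X be an immersion of schemes. If i is a regular immersion then it is Koszul-regular; if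
Koszul-regular then H_1-regular; if H_1-regular then quasi-regular. -/
theorem result {Z X : Scheme.{u}} (i : Z ⟶ X) :
    (RegImm.IsRegularImmersion RegImm.Kind.regular i → RegImm.IsRegularImmersion RegImm.Kind.koszul i) ∧
      (RegImm.IsRegularImmersion RegImm.Kind.koszul i → RegImm.IsRegularImmersion RegImm.Kind.h1 i) ∧
      (RegImm.IsRegularImmersion RegImm.Kind.h1 i → RegImm.IsRegularImmersion RegImm.Kind.quasi i) := by
  have step : ∀ (k k' : RegImm.Kind), (∀ (R : Type u) [CommRing R] (rs : List R), k.Seq R rs → k'.Seq R rs) →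
      RegImm.IsRegularImmersion k i → RegImm.IsRegularImmersion k' i := fun k k' hk h =>
    ⟨h.1, fun z => by
      obtain ⟨U, hzU, hcl, rs, hrs, hker⟩ := h.2 z
      exact ⟨U, hzU, hcl, rs, hk _ rs hrs, hker⟩⟩
  refine ⟨step _ _ fun R _ rs h => Groth.Agent.KoszulExt.isKoszulRegularSeq_of_isWeaklyRegular h.toIsWeaklyRegular,
    step _ _ fun R _ rs h => isH1Regular_of_isExact
      ((Groth.Agent.KoszulExt.isExact_iff rs.get).2 (by rw [List.ofFn_get]; exact h)),
    step _ _ fun R _ rs h => Groth.Agent.CAlgT1.isQuasiRegular_of_isH1Regular rs.get h⟩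

end Groth.Agent.S8905
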