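import Groth.Statements.S5003
import Groth.Agent.QuasiRegNoeth.Basic

set_option autoImplicit false
universe u
open CategoryTheory CategoryTheory.Limits AlgebraicGeometry TopologicalSpace
open Nrm16

namespace Groth.Agent.S5003

/-- Let X be a locally Noetherian scheme and j : Y ⟶ X a morphism. Then j is a regular immersion if and
only if j is a quasi-regular immersion. -/
theorem result {X Y : Scheme.{u}} [IsLocallyNoetherian X] (j : Y ⟶ X) :
    RegImm.IsRegularImmersion RegImm.Kind.regular j ↔ RegImm.IsRegularImmersion RegImm.Kind.quasi j := by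
  constructor
  · rintro ⟨h1, h2⟩
    refine ⟨h1, fun z => ?_⟩
    obtain ⟨U, hzU, hcl, rs, hrs, hk⟩ := h2 z
    exact ⟨U, hzU, hcl, rs, Groth.Agent.QuasiRegNoeth.quasi_of_regular hrs, hk⟩
  rintro ⟨h1, h2⟩
  refine ⟨h1, fun z => ?_⟩
  obtain ⟨U, hzU, hcl, rs, hrs, hk⟩ := h2 z
  haveI : IsNoetherianRing Γ(X, U.1) := IsLocallyNoetherian.component_noetherian U
  haveI := hcl
  haveI : IsAffine (U.1 : Scheme) := U.2
  have hV : IsAffineOpen (j ⁻¹ᵁ U.1) := isAffine_of_isAffineHom (j ∣_ U.1)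
  let p := (U.2.primeIdealOf ⟨j z, hzU⟩).asIdeal
  have hmem : ∀ s : Γ(X, U.1), j z ∈ X.basicOpen s ↔ s ∉ p := fun s => by
    have h := SetLike.ext_iff.1 (U.2.fromSpec_preimage_basicOpen s) (U.2.primeIdealOf ⟨j z, hzU⟩)
    conv_lhs => rw [show j z = (⟨j z, hzU⟩ : U.1).1 from rfl, ← U.2.fromSpec_primeIdealOf ⟨j z, hzU⟩]
    exact h
  have hp : Ideal.ofList rs ≤ p := by
    rw [← hk]
    intro s hs
    by_contra hsp
    have h3 : z ∈ j ⁻¹ᵁ X.basicOpen s := (hmem s).2 hsp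
    rw [Scheme.preimage_basicOpen, RingHom.mem_ker.1 hs, Scheme.basicOpen_zero] at h3
    exact h3
  obtain ⟨g, hgp, hg⟩ := Groth.Agent.QuasiRegNoeth.exists_away rs hrs p hp
  haveI hL := U.2.isLocalization_basicOpen g
  refine ⟨X.affineBasicOpen g, (hmem g).2 hgp, ?_, rs.map (algebraMap Γ(X, U.1) Γ(X, X.basicOpen g)), hg Γ(X, X.basicOpen g), ?_⟩
  · exact (MorphismProperty.arrow_mk_iso_iff @IsClosedImmersion (morphismRestrictRestrictBasicOpen j U.1 g)).1
      (IsZariskiLocalAtTarget.restrict hcl _)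
  refine Eq.trans ?_ (Ideal.map_ofList (algebraMap Γ(X, U.1) Γ(X, X.basicOpen g)) rs)
  rw [← hk]
  show RingHom.ker (j.app (X.basicOpen g)).hom = _
  let V := j ⁻¹ᵁ U.1
  let W := j ⁻¹ᵁ X.basicOpen g
  have hWV : W ≤ V := j.preimage_mono (X.basicOpen_le g)
  letI : Algebra Γ(Y, V) Γ(Y, W) := (Y.presheaf.map (homOfLE hWV).op).hom.toAlgebra
  haveI : IsLocalization.Away (j.app U.1 g) Γ(Y, W) :=
    hV.isLocalization_of_eq_basicOpen (j.app U.1 g) (homOfLE hWV) (Scheme.preimage_basicOpen j g)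
  have hnat : ∀ s : Γ(X, U.1), j.app (X.basicOpen g) (algebraMap Γ(X, U.1) Γ(X, X.basicOpen g) s) =
      algebraMap Γ(Y, V) Γ(Y, W) (j.app U.1 s) := fun s =>
    congrArg (fun φ => φ.hom s) (j.naturality (homOfLE (X.basicOpen_le g)).op)
  refine le_antisymm ?_ (Ideal.map_le_iff_le_comap.2 fun s hs => ?_)
  · intro x hx
    obtain ⟨⟨a, s⟩, hxs⟩ := IsLocalization.surj (Submonoid.powers g) x
    simp only at hxs
    have h3 : algebraMap Γ(Y, V) Γ(Y, W) (j.app U.1 a) = 0 := by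
      rw [← hnat, ← hxs, map_mul]
      rw [RingHom.mem_ker] at hx
      rw [show j.app (X.basicOpen g) x = 0 from hx, zero_mul]
    obtain ⟨⟨_, n, rfl⟩, hn⟩ := (IsLocalization.map_eq_zero_iff (Submonoid.powers (j.app U.1 g)) _ _).1 h3
    simp only at hn
    have h4 : g ^ n * a ∈ RingHom.ker (j.app U.1).hom := by
      rw [RingHom.mem_ker, map_mul, map_pow]
      exact hn
    have h5 := Ideal.mem_map_of_mem (algebraMap Γ(X, U.1) Γ(X, X.basicOpen g)) h4
    rw [map_mul, ← hxs, mul_left_comm] at h5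
    exact (Ideal.mul_unit_mem_iff_mem _ ((IsLocalization.map_units (S := Γ(X, X.basicOpen g))
      (⟨g ^ n, n, rfl⟩ : Submonoid.powers g)).mul (IsLocalization.map_units _ s))).1 h5
  · rw [Ideal.mem_comap, RingHom.mem_ker]
    rw [RingHom.mem_ker] at hs
    exact (hnat s).trans (by rw [show j.app U.1 s = 0 from hs, map_zero])

end Groth.Agent.S5003
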