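import Groth.Statements.S10661
import Groth.Agent.S8905
import Groth.Agent.S5003
import Groth.Agent.AlgSpLoc.FlatFibres

set_option autoImplicit false
universe u
open CategoryTheory CategoryTheory.Limits AlgebraicGeometry
open AlgSp

namespace Groth.Agent.S10661

/-- For an immersion i : Z ⟶ X of algebraic spaces over S with X locally Noetherian (some etale
surjective chart is a locally Noetherian scheme), the three conditions Koszul-regular immersion,
H_1-regular immersion and quasi-regular immersion on i are equivalent. -/
theorem result {S : Scheme.{u}} {Z X : AlgSp.Space S} (i : Z ⟶ X) (hi : AlgSp.RepWith @IsImmersion i.hom)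
    (hX : AlgSp.IsLocNoethSp X.obj) :
    (AlgSp.IsRegImmMor RegImm.Kind.koszul i.hom ↔ AlgSp.IsRegImmMor RegImm.Kind.h1 i.hom) ∧
      (AlgSp.IsRegImmMor RegImm.Kind.h1 i.hom ↔ AlgSp.IsRegImmMor RegImm.Kind.quasi i.hom) := by
  have qk : ∀ {V : Over S} {W : Over S} (b : (yon S).obj V ⟶ X.obj) (snd : W ⟶ V), AlgSp.RepWith @Etale b →
      RegImm.IsRegularImmersion RegImm.Kind.quasi snd.left →
      RegImm.IsRegularImmersion RegImm.Kind.koszul snd.left := by
    intro V W b snd hb h
    haveI := Groth.Agent.AlgSpLoc.isLocallyNoetherian_chart hX hb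
    exact (S8905.result snd.left).1 ((S5003.result snd.left).2 h)
  constructor
  · constructor
    · exact fun h => ⟨h.1, fun V W b fst snd hb sq => (S8905.result snd.left).2.1 (h.2 b fst snd hb sq)⟩
    · exact fun h => ⟨h.1, fun V W b fst snd hb sq => qk b snd hb ((S8905.result snd.left).2.2 (h.2 b fst snd hb sq))⟩
  · constructor
    · exact fun h => ⟨h.1, fun V W b fst snd hb sq => (S8905.result snd.left).2.2 (h.2 b fst snd hb sq)⟩
    · exact fun h => ⟨h.1, fun V W b fst snd hb sq => (S8905.result snd.left).2.1 (qk b snd hb (h.2 b fst snd hb sq))⟩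

end Groth.Agent.S10661
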