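import Groth.Statements.S9773
import Groth.Agent.KoszulExt.Homology
-- import your own Groth.Agent.* helpers here

set_option autoImplicit false
universe u
open FlatMor

namespace Groth.Agent.S9773

open AlgebraicGeometry CategoryTheory Limits in
/-- A regular immersion of schemes, and likewise a Koszul-regular immersion, is a local complete
intersection morphism (Koszul at every point). -/
theorem result {Z X : Scheme.{u}} (i : Z ⟶ X) (k : RegImm.Kind)
    (hk : k = RegImm.Kind.regular ∨ k = RegImm.Kind.koszul) (hi : RegImm.IsRegularImmersion k i) (z : Z) :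
    Synt.IsKoszulAt i z := by
  obtain ⟨himm, hreg⟩ := hi
  haveI := himm
  let j := (⊤ : Z.Opens).ι
  haveI : IsIso j := (inferInstance : IsIso Z.topIso.hom)
  refine ⟨⊤, X, j ≫ i, 𝟙 X, trivial, inferInstance, ⟨inferInstance, fun z' => ?_⟩, inferInstance,
    Category.comp_id _⟩
  obtain ⟨U, hzU, hci, rs, hrs, hker⟩ := hreg (j z')
  haveI := hci
  refine ⟨U, hzU, ?_, rs, ?_, ?_⟩
  · rw [morphismRestrict_comp]
    haveI : IsIso (j ∣_ i ⁻¹ᵁ U.1) := inferInstance
    exact MorphismProperty.comp_mem _ _ _ (inferInstance : IsClosedImmersion (j ∣_ i ⁻¹ᵁ U.1)) hci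
  · rcases hk with rfl | rfl
    · exact KoszulExt.isKoszulRegularSeq_of_isWeaklyRegular hrs.toIsWeaklyRegular
    · exact hrs
  · rw [← hker, Scheme.Hom.comp_app]
    ext a
    exact map_eq_zero_iff (j.app (i ⁻¹ᵁ U.1)).hom (ConcreteCategory.bijective_of_isIso (j.app (i ⁻¹ᵁ U.1))).1
end Groth.Agent.S9773
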