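import Groth.Statements.S10665
import Groth.Agent.AlgSpLCI.Sch
import Groth.Agent.S9773

set_option autoImplicit false
universe u
open CategoryTheory CategoryTheory.Limits AlgebraicGeometry
open AlgSp

namespace Groth.Agent.S10665

set_option backward.isDefEq.respectTransparency false
open CategoryTheory CategoryTheory.Limits Groth.Agent.AlgSpc Groth.Agent.AlgSpLCI

/-- A Koszul-regular immersion between algebraic spaces over S (representable, Koszul-regular immersion
on every etale scheme chart of the target) is a local complete intersection morphism (Koszul at
every point, etale locally on source and target). -/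
theorem result {S : Scheme.{u}} {X Y : AlgSp.Space S} (i : X ⟶ Y) (hi : AlgSp.IsRegImmMor RegImm.Kind.koszul i.hom) :
    AlgSp.IsLCIMor i.hom := by
  intro U V a b h ha hb w
  obtain ⟨W, fst, snd, sq⟩ := exists_sq hi.1 b
  have hr := hi.2 b fst snd hb sq
  have hl : AlgSp.lci snd.left := S9773.result snd.left RegImm.Kind.koszul (Or.inr rfl) hr
  let l : U ⟶ W := pre (sq.lift a ((AlgSp.yon S).map h) w)
  have hle : h = l ≫ snd := (AlgSp.yon S).map_injective (by rw [Functor.map_comp, map_pre, sq.lift_snd])
  have hlet : Etale l.left := by
    have h1 : AlgSp.RepWith @Etale fst := repWith_of_isPullback sq.flip hb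
    exact etale_of_comp ha h1 l (by rw [map_pre, sq.lift_fst])
  rw [hle, Over.comp_left]
  exact EtLoc.precomp l.left snd.left hlet hl

end Groth.Agent.S10665
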