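import Groth.Statements.S10666
import Groth.Agent.AlgSpLCI.Sch

set_option autoImplicit false
universe u
open CategoryTheory CategoryTheory.Limits AlgebraicGeometry
open AlgSp

namespace Groth.Agent.S10666

set_option backward.isDefEq.respectTransparency false
open CategoryTheory CategoryTheory.Limits Groth.Agent.AlgSpc Groth.Agent.AlgSpLCI

/-- For morphisms f : X ⟶ Y, p : X ⟶ Z, q : Y ⟶ Z of algebraic spaces over S with f ≫ q = p: if q is
smooth and p is a local complete intersection morphism, then so is f. -/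
theorem result {S : Scheme.{u}} {X Y Z : AlgSp.Space S} (f : X ⟶ Y) (p : X ⟶ Z) (q : Y ⟶ Z) (hc : f ≫ q = p)
    (hq : AlgSp.LocP @Smooth q.hom) (hp : AlgSp.IsLCIMor p.hom) :
    AlgSp.IsLCIMor f.hom := by
  subst hc
  intro U V a b h ha hb w
  obtain ⟨W, c, hc, hcs⟩ := Z.property.atlas
  obtain ⟨V', fst, t, sV⟩ := exists_sq hc.1 (b ≫ q.hom)
  haveI : Etale t.left := hc.2 _ _ _ sV
  haveI : Surjective t.left := hcs.2 _ _ _ sV
  let U' := pullback h t
  have sU := (IsPullback.of_hasPullback h t).map (Over.forget S)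
  have hu : Etale (pullback.fst h t).left := MorphismProperty.of_isPullback sU.flip ‹Etale t.left›
  have hus : Surjective (pullback.fst h t).left := MorphismProperty.of_isPullback sU.flip ‹Surjective t.left›
  have hb' : AlgSp.RepWith @Etale ((AlgSp.yon S).map t ≫ b) :=
    repWith_comp ((AlgSp.repWith_yon_map_iff _ t).2 ‹_›) hb
  have ha' : AlgSp.RepWith @Etale ((AlgSp.yon S).map (pullback.fst h t) ≫ a) :=
    repWith_comp ((AlgSp.repWith_yon_map_iff _ _).2 hu) ha
  have wq : ((AlgSp.yon S).map t ≫ b) ≫ q.hom = (AlgSp.yon S).map (pre fst) ≫ c := by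
    rw [map_pre, Category.assoc]; exact sV.w.symm
  have wp : ((AlgSp.yon S).map (pullback.fst h t) ≫ a) ≫ (f ≫ q).hom =
      (AlgSp.yon S).map (pullback.snd h t ≫ pre fst) ≫ c := by
    rw [Functor.map_comp, Category.assoc, Category.assoc, ← wq]
    change _ ≫ a ≫ f.hom ≫ q.hom = _
    rw [← Category.assoc a, w]
    simp only [Category.assoc, ← Functor.map_comp_assoc, pullback.condition]
  have h1 : AlgSp.lci ((pullback.snd h t).left ≫ (pre fst).left) := hp _ c _ ha' hc wp
  haveI : Smooth (pre fst).left := hq _ c _ hb' hc wq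
  have h2 : AlgSp.lci (pullback.snd h t).left := (lci_iff _).2 fun x =>
    (lciAt_comp_smooth_iff _ _ x).1 ((lci_iff _).1 h1 x)
  have h3 : AlgSp.lci ((pullback.fst h t).left ≫ h.left) := by
    rw [show (pullback.fst h t).left ≫ h.left = (pullback.snd h t).left ≫ t.left from sU.w]
    exact EtLoc.postcomp _ t.left ‹_› h2
  exact EtLoc.descend _ h.left hu hus h3

end Groth.Agent.S10666
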