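import Groth.Statements.S10687
import Groth.Agent.AlgSpLoc.GorensteinComp
import Groth.Agent.FlatLocalDepth.CMAt
import Groth.Agent.AlgSpLoc.FlatLocusSp

set_option autoImplicit false
set_option backward.isDefEq.respectTransparency false
universe u
open CategoryTheory CategoryTheory.Limits AlgebraicGeometry
open AlgSp CategoryTheory.Limits Groth.Agent.AlgSpc Groth.Agent.AlgSpLoc

namespace Groth.Agent.S10687

open _root_.AlgSp CategoryTheory.Limits Groth.Agent.AlgSpc Groth.Agent.AlgSpLoc

/-- For morphisms f : X ⟶ Y and g : Y ⟶ Z between algebraic spaces over S whose fibres, and those of f ≫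
g, are locally Noetherian, and a point x of |X|: (1) if g is Gorenstein at the image of x and f is
Gorenstein at x itself, then so is f ≫ g at x; (2) if f ≫ g is Gorenstein at x and f is flat there,
then f is Gorenstein at x and g at the image of x. Here f is Gorenstein at x when in every etale
chart diagram through x the top arrow is Gorenstein at the point over x (flat there, with Gorenstein
local ring of its fibre), and the fibres of a morphism are locally Noetherian when every fibre over
a field point (pullback in fppf sheaves) is a locally Noetherian algebraic space. -/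
theorem result {S : Scheme.{u}} {X Y Z : AlgSp.Space S} (f : X ⟶ Y) (g : Y ⟶ Z)
    (hf : ∀ (k : AlgSp.FieldPt Y.obj) (Xk : AlgSp.Sp S) (a : Xk ⟶ X.obj) (b : Xk ⟶ (AlgSp.yon S).obj k.pt),
        IsPullback a b f.hom k.toHom → AlgSp.IsLocNoethSp Xk)
    (hg : ∀ (k : AlgSp.FieldPt Z.obj) (Xk : AlgSp.Sp S) (a : Xk ⟶ Y.obj) (b : Xk ⟶ (AlgSp.yon S).obj k.pt),
        IsPullback a b g.hom k.toHom → AlgSp.IsLocNoethSp Xk)
    (hfg : ∀ (k : AlgSp.FieldPt Z.obj) (Xk : AlgSp.Sp S) (a : Xk ⟶ X.obj) (b : Xk ⟶ (AlgSp.yon S).obj k.pt),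
        IsPullback a b (f ≫ g).hom k.toHom → AlgSp.IsLocNoethSp Xk)
    (x : AlgSp.Points X.obj) :
    (AlgSp.LocPAt (fun h u => Dual3.IsGorensteinAt h u) f.hom x → AlgSp.LocPAt (fun h u => Dual3.IsGorensteinAt h u) g.hom (AlgSp.Points.map f.hom x) →
        AlgSp.LocPAt (fun h u => Dual3.IsGorensteinAt h u) (f ≫ g).hom x) ∧
      (AlgSp.LocPAt (fun h u => Dual3.IsGorensteinAt h u) (f ≫ g).hom x → AlgSp.IsFlatAtMor f.hom x →
        AlgSp.LocPAt (fun h u => Dual3.IsGorensteinAt h u) f.hom x ∧ AlgSp.LocPAt (fun h u => Dual3.IsGorensteinAt h u) g.hom (AlgSp.Points.map f.hom x)) := by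
  obtain ⟨U, V, W, c, b₀, a₁, f', g', hc, hcs, hb₀, hb₀s, ha₁, ha₁s, e₁, e₂, e₃⟩ :=
    exists_charts_nested f g
  have sX := IsPullback.of_hasPullback (f ≫ g).hom c
  have sY := IsPullback.of_hasPullback g.hom c
  let a := a₁ ≫ pullback.fst (f ≫ g).hom c
  let b := b₀ ≫ pullback.fst g.hom c
  have ha : RepWith @Etale a := repWith_comp ha₁ (repWith_of_isPullback sX.flip hc)
  have has : RepWith @Surjective a := repWith_comp ha₁s (repWith_of_isPullback sX.flip hcs)
  have hb : RepWith @Etale b := repWith_comp hb₀ (repWith_of_isPullback sY.flip hc)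
  have wf : a ≫ f.hom = (yon S).map f' ≫ b := by rw [Category.assoc]; exact e₁
  have wg : b ≫ g.hom = (yon S).map g' ≫ c := by
    rw [Category.assoc, sY.w, ← Category.assoc, e₂]
  have wfg : a ≫ (f ≫ g).hom = (yon S).map (f' ≫ g') ≫ c := by
    rw [Category.assoc, sX.w, ← Category.assoc, e₃]
  obtain ⟨u, rfl⟩ := surjective_ofPt has x
  have hy : Points.map f.hom (Points.ofPt a u) = Points.ofPt b (f'.left u) := by
    rw [Points.map_ofPt, wf, ofPt_comp]
  rw [hy, gorensteinAt_iff_chart ha hc wfg, gorensteinAt_iff_chart ha hb wf,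
    gorensteinAt_iff_chart hb hc wg, isFlatAtMor_iff ha hb wf]
  have hN : ∀ w : W.left, IsLocallyNoetherian ((f' ≫ g').left.fiber w) :=
    isLocallyNoetherian_fiber_chart hfg ha hc wfg
  have key : ∀ hfl : (f'.left.stalkMap u).hom.Flat,
      (Dual3.IsGorensteinAt (f' ≫ g').left u ↔
        Dual3.IsGorensteinAt f'.left u ∧ Dual3.IsGorensteinAt g'.left (f'.left u)) := fun hfl =>
    isGorensteinAt_comp_iff f'.left g'.left u hfl
      (FlatLocalDepth.isNoetherianRing_fibre_quotient (f'.left ≫ g'.left) u (hN _))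
  exact ⟨fun h1 h2 => (key h1.1).mpr ⟨h1, h2⟩, fun h hfl => (key hfl).mp h⟩

end Groth.Agent.S10687
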