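import Groth.Statements.S10688
import Groth.Agent.AlgSpLoc.GorensteinChart
import Groth.Agent.AlgSpLoc.FlatLocusSp
import Groth.Agent.FlatOverBC.GorScheme

set_option autoImplicit false
set_option backward.isDefEq.respectTransparency false
universe u
open CategoryTheory CategoryTheory.Limits AlgebraicGeometry
open AlgSp

namespace Groth.Agent.S10688

open _root_.AlgSp CategoryTheory.Limits Groth.Agent.AlgSpc Groth.Agent.AlgSpLoc

/-- For a morphism f : X ⟶ Y between algebraic spaces over S with locally Noetherian fibres, g : Y' ⟶ Y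
locally of finite type, f' : X' ⟶ Y' the base change (a pullback square of algebraic spaces) with
projection g' : X' ⟶ X, and x' a point of |X'| with image x: (1) if f is Gorenstein at x then so is
f' at x'; (2) when f is flat at x, Gorensteinness of f' at x' implies that of f at x; (3) the same
conclusion holds if instead g is flat at the image of x' and f' is Gorenstein at x'. Here f is
Gorenstein at x when in every etale chart diagram through x the top arrow is Gorenstein at the point
over x (flat there, with Gorenstein local ring of its fibre), and the fibres of a morphism are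
locally Noetherian when every fibre over a field point (pullback in fppf sheaves) is a locally
Noetherian algebraic space. -/
theorem result {S : Scheme.{u}} {X Y X' Y' : AlgSp.Space S} (f : X ⟶ Y) (g : Y' ⟶ Y) (g' : X' ⟶ X) (f' : X' ⟶ Y')
    (hsq : IsPullback g'.hom f'.hom f.hom g.hom)
    (hf : ∀ (k : AlgSp.FieldPt Y.obj) (Xk : AlgSp.Sp S) (a : Xk ⟶ X.obj) (b : Xk ⟶ (AlgSp.yon S).obj k.pt),
        IsPullback a b f.hom k.toHom → AlgSp.IsLocNoethSp Xk)
    (hg : AlgSp.LocP @LocallyOfFiniteType g.hom) (x' : AlgSp.Points X'.obj) :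
    (AlgSp.LocPAt (fun h u => Dual3.IsGorensteinAt h u) f.hom (AlgSp.Points.map g'.hom x') → AlgSp.LocPAt (fun h u => Dual3.IsGorensteinAt h u) f'.hom x') ∧
      (AlgSp.IsFlatAtMor f.hom (AlgSp.Points.map g'.hom x') → AlgSp.LocPAt (fun h u => Dual3.IsGorensteinAt h u) f'.hom x' →
        AlgSp.LocPAt (fun h u => Dual3.IsGorensteinAt h u) f.hom (AlgSp.Points.map g'.hom x')) ∧
      (AlgSp.IsFlatAtMor g.hom (AlgSp.Points.map f'.hom x') → AlgSp.LocPAt (fun h u => Dual3.IsGorensteinAt h u) f'.hom x' →
        AlgSp.LocPAt (fun h u => Dual3.IsGorensteinAt h u) f.hom (AlgSp.Points.map g'.hom x')) := by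
  obtain ⟨W, c, hc, hcs⟩ := Y.property.atlas
  have sY := IsPullback.of_hasPullback f.hom c
  obtain ⟨V, b₀, hb₀, hb₀s⟩ :=
    (isAlgSpace_of_isPullback X.property Y.property (IsAlgSpace.yon_obj W) sY).atlas
  let k : V ⟶ W := pre (b₀ ≫ pullback.snd f.hom c)
  have wk : b₀ ≫ pullback.snd f.hom c = (yon S).map k := (map_pre _).symm
  have hb : RepWith @Etale (b₀ ≫ pullback.fst f.hom c) :=
    repWith_comp hb₀ (repWith_of_isPullback sY.flip hc)
  have wbc : (b₀ ≫ pullback.fst f.hom c) ≫ f.hom = (yon S).map k ≫ c := by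
    rw [Category.assoc, sY.w, ← Category.assoc, wk]
  obtain ⟨W', ω, c', wc, hc', hc's⟩ : ∃ (W' : Over S) (ω : W' ⟶ W)
      (c' : (yon S).obj W' ⟶ Y'.obj), c' ≫ g.hom = (yon S).map ω ≫ c ∧
        RepWith @Etale c' ∧ RepWith @Surjective c' := by
    have sZ := IsPullback.of_hasPullback g.hom c
    obtain ⟨W', d, hd, hds⟩ :=
      (isAlgSpace_of_isPullback Y'.property Y.property (IsAlgSpace.yon_obj W) sZ).atlas
    exact ⟨W', pre (d ≫ pullback.snd g.hom c), d ≫ pullback.fst g.hom c,
      by rw [map_pre, Category.assoc, Category.assoc, sZ.w],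
      repWith_comp hd (repWith_of_isPullback sZ.flip hc),
      repWith_comp hds (repWith_of_isPullback sZ.flip hcs)⟩
  let V' : Over S := Over.mk (pullback.snd k.left ω.left ≫ W'.hom)
  let k' : V' ⟶ W' := Over.homMk (pullback.snd k.left ω.left) rfl
  let wV : V' ⟶ V := Over.homMk (pullback.fst k.left ω.left) (by
    change _ = pullback.snd k.left ω.left ≫ W'.hom
    rw [← Over.w k, ← Over.w ω, ← Category.assoc, pullback.condition, Category.assoc])
  have sV : IsPullback wV.left k'.left k.left ω.left := IsPullback.of_hasPullback _ _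
  obtain ⟨b', hb', hb's, wb₁, wb₂⟩ := exists_chart_baseChange hsq wc hc' hc's hb₀ hb₀s wk sV
  obtain ⟨v', rfl⟩ := surjective_ofPt hb's x'
  have hgx : Points.map g'.hom (Points.ofPt b' v') =
      Points.ofPt (b₀ ≫ pullback.fst f.hom c) (wV.left v') := by
    rw [Points.map_ofPt, wb₂, ofPt_comp]
  have hfx : Points.map f'.hom (Points.ofPt b' v') = Points.ofPt c' (k'.left v') := by
    rw [Points.map_ofPt, wb₁, ofPt_comp]
  rw [hgx, hfx, gorensteinAt_iff_chart hb hc wbc, gorensteinAt_iff_chart hb' hc' wb₁,
    isFlatAtMor_iff hb hc wbc, isFlatAtMor_iff hc' hc wc]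
  have : LocallyOfFiniteType ω.left := hg c' c ω hc' hc wc
  exact FlatOverBC.isGorensteinAt_baseChange sV v'
    (isLocallyNoetherian_fiber_chart hf hb hc wbc _)

end Groth.Agent.S10688
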