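import Groth.Statements.S10690
import Groth.Agent.AlgSpLoc.GorensteinSpace
import Groth.Agent.AlgSpLoc.FlatFibres

set_option autoImplicit false
set_option backward.isDefEq.respectTransparency false
universe u
open CategoryTheory CategoryTheory.Limits AlgebraicGeometry
open AlgSp

namespace Groth.Agent.S10690

open _root_.AlgSp CategoryTheory.Limits Groth.Agent.AlgSpc Groth.Agent.AlgSpLoc

variable {S : Scheme.{u}}

/-- The fibre of a scheme chart over a point is a chart of the fibre of the space. -/
theorem fibre_chart {X Y : Sp S} (f : X ⟶ Y) {V U : Over S} {b : (yon S).obj V ⟶ Y}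
    {a₁ : (yon S).obj U ⟶ pullback f b} (ha₁ : RepWith @Etale a₁) (ha₁s : RepWith @Surjective a₁)
    {h : U ⟶ V} (hh : a₁ ≫ pullback.snd f b = (yon S).map h) (v : V.left) {Xv : Sp S} {p : Xv ⟶ X}
    {c : Xv ⟶ (yon S).obj (Over.mk (V.left.fromSpecResidueField v ≫ V.hom))}
    (sq : IsPullback p c f ((yon S).map (Over.homMk (V.left.fromSpecResidueField v) rfl :
      Over.mk (V.left.fromSpecResidueField v ≫ V.hom) ⟶ V) ≫ b)) :
    ∃ (T : Over S) (q : (yon S).obj T ⟶ Xv), RepWith @Etale q ∧ RepWith @Surjective q ∧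
      T.left = h.left.fiber v := by
  let sK := V.left.fromSpecResidueField v ≫ V.hom
  let ι : Over.mk sK ⟶ V := Over.homMk (V.left.fromSpecResidueField v) rfl
  have wU : h.left.fiberι v ≫ U.hom = h.left.fiberToSpecResidueField v ≫ sK := by
    rw [← Over.w h, ← Category.assoc, h.left.fiber_fac v, Category.assoc]
  let T : Over S := Over.mk (h.left.fiberToSpecResidueField v ≫ sK)
  let tK : T ⟶ Over.mk sK := Over.homMk (h.left.fiberToSpecResidueField v) rfl
  let tU : T ⟶ U := Over.homMk (h.left.fiberι v) wU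
  have qT : IsPullback ((yon S).map tU) ((yon S).map tK) ((yon S).map h) ((yon S).map ι) :=
    isPullback_yon (IsPullback.of_hasPullback _ _)
  have sX := IsPullback.of_hasPullback f b
  let k := sX.lift p (c ≫ (yon S).map ι) (by rw [Category.assoc]; exact sq.w)
  have sk : IsPullback k c (pullback.snd f b) ((yon S).map ι) :=
    IsPullback.of_right (by rw [sX.lift_fst]; exact sq) (sX.lift_snd _ _ _) sX
  let q := sk.lift ((yon S).map tU ≫ a₁) ((yon S).map tK) (by rw [Category.assoc, hh]; exact qT.w)
  have sa : IsPullback ((yon S).map tU) q a₁ k :=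
    IsPullback.of_bot (by rw [sk.lift_snd, hh]; exact qT) (sk.lift_fst _ _ _).symm sk
  exact ⟨T, q, repWith_of_isPullback sa ha₁, repWith_of_isPullback sa ha₁s, rfl⟩

theorem isGorenstein_fiber_iff {X Y : Scheme.{u}} (h : X ⟶ Y) (v : Y) :
    Dual3.IsGorenstein (h.fiber v) → ∀ u : X, h u = v → LocCoh.IsGorensteinLocalRing
      (X.presheaf.stalk u ⧸
        (IsLocalRing.maximalIdeal (Y.presheaf.stalk (h u))).map (h.stalkMap u).hom) := by
  rintro hG u rfl
  obtain ⟨e⟩ := FlatLocalDepth.nonempty_asFiber_stalk_equiv h u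
  exact GorenSG.gorenstein_of_ringEquiv e (hG.2 _)

/-- For a morphism f : X ⟶ Y between algebraic spaces over S whose fibres are locally Noetherian, the
following are equivalent: (1) f is Gorenstein at every point of |X|; (2) f is flat and for some
scheme V with a representable etale surjective b : h_V ⟶ Y every fibre of X ×_Y V ⟶ V over a point v
of V (pullback along the residue field point of v) is a Gorenstein algebraic space (some etale
surjective scheme chart is a Gorenstein scheme); (3) f is flat and the same holds for every scheme V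
with a representable etale b : h_V ⟶ Y. Here f is Gorenstein at x when in every etale chart diagram
through x the top arrow is Gorenstein at the point over x (flat there, with Gorenstein local ring of
its fibre), and the fibres of a morphism are locally Noetherian when every fibre over a field point
(pullback in fppf sheaves) is a locally Noetherian algebraic space. (The published statement also
characterises being Gorenstein at a single point through strict henselizations; that part is stated
separately and not included here.) -/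
theorem result {S : Scheme.{u}} {X Y : AlgSp.Space S} (f : X ⟶ Y)
    (hf : ∀ (k : AlgSp.FieldPt Y.obj) (Xk : AlgSp.Sp S) (a : Xk ⟶ X.obj) (b : Xk ⟶ (AlgSp.yon S).obj k.pt),
        IsPullback a b f.hom k.toHom → AlgSp.IsLocNoethSp Xk) :
    [∀ x : AlgSp.Points X.obj, AlgSp.LocPAt (fun h u => Dual3.IsGorensteinAt h u) f.hom x,
      AlgSp.LocP @Flat f.hom ∧ ∃ (V : Over S) (b : (AlgSp.yon S).obj V ⟶ Y.obj),
        AlgSp.RepWith @Etale b ∧ AlgSp.RepWith @Surjective b ∧
          ∀ (v : ↥V.left) (Xv : AlgSp.Sp S) (a : Xv ⟶ X.obj)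
            (c : Xv ⟶ (AlgSp.yon S).obj (Over.mk (V.left.fromSpecResidueField v ≫ V.hom))),
            IsPullback a c f.hom ((AlgSp.yon S).map (Over.homMk (V.left.fromSpecResidueField v) rfl :
              Over.mk (V.left.fromSpecResidueField v ≫ V.hom) ⟶ V) ≫ b) →
            AlgSp.EtaleLocally Dual3.IsGorenstein Xv,
      AlgSp.LocP @Flat f.hom ∧ ∀ (V : Over S) (b : (AlgSp.yon S).obj V ⟶ Y.obj), AlgSp.RepWith @Etale b →
          ∀ (v : ↥V.left) (Xv : AlgSp.Sp S) (a : Xv ⟶ X.obj)
            (c : Xv ⟶ (AlgSp.yon S).obj (Over.mk (V.left.fromSpecResidueField v ≫ V.hom))),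
            IsPullback a c f.hom ((AlgSp.yon S).map (Over.homMk (V.left.fromSpecResidueField v) rfl :
              Over.mk (V.left.fromSpecResidueField v ≫ V.hom) ⟶ V) ≫ b) →
            AlgSp.EtaleLocally Dual3.IsGorenstein Xv].TFAE := by
  have hchart : ∀ (V : Over S) (b : (yon S).obj V ⟶ Y.obj), RepWith @Etale b →
      ∃ (U : Over S) (a₁ : (yon S).obj U ⟶ pullback f.hom b) (h : U ⟶ V),
        RepWith @Etale a₁ ∧ RepWith @Surjective a₁ ∧ a₁ ≫ pullback.snd f.hom b = (yon S).map h ∧
        RepWith @Etale (a₁ ≫ pullback.fst f.hom b) ∧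
        (RepWith @Surjective b → RepWith @Surjective (a₁ ≫ pullback.fst f.hom b)) ∧
        (a₁ ≫ pullback.fst f.hom b) ≫ f.hom = (yon S).map h ≫ b := by
    intro V b hb
    have sX := IsPullback.of_hasPullback f.hom b
    obtain ⟨U, a₁, h1, h2⟩ :=
      (isAlgSpace_of_isPullback X.property Y.property (IsAlgSpace.yon_obj V) sX).atlas
    refine ⟨U, a₁, pre (a₁ ≫ pullback.snd f.hom b), h1, h2, (map_pre _).symm,
      repWith_comp h1 (repWith_of_isPullback sX.flip hb),
      fun hbs => repWith_comp h2 (repWith_of_isPullback sX.flip hbs), ?_⟩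
    rw [Category.assoc, sX.w, map_pre, Category.assoc]
  tfae_have 1 → 3 := by
    intro H
    refine ⟨fun U V a b h ha hb w => (Flat.iff_flat_stalkMap _).2 fun u =>
      (H (Points.ofPt a u) a b h u ha hb w rfl).1, fun V b hb v Xv p c sq => ?_⟩
    obtain ⟨U, a₁, h, h1, h1s, hh, ha, -, w⟩ := hchart V b hb
    obtain ⟨T, q, hq, hqs, hT⟩ := fibre_chart f.hom h1 h1s hh v sq
    refine ⟨T, q, hq, hqs, ?_⟩
    rw [hT]
    refine ⟨isLocallyNoetherian_fiber_chart hf ha hb w v, fun z => ?_⟩
    have hz : h.left (h.left.fiberι v z) = v := by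
      have := congr($(h.left.fiber_fac v) z)
      rw [Scheme.Hom.comp_apply, Scheme.Hom.comp_apply] at this
      rw [this]
      exact Scheme.fromSpecResidueField_apply v _
    have hG := (isGorensteinAt_iff _ _).1
      (H (Points.ofPt _ (h.left.fiberι v z)) _ b h (h.left.fiberι v z) ha hb w rfl)
    obtain ⟨e⟩ : Nonempty ((U.left.presheaf.stalk (h.left.fiberι v z) ⧸
        (IsLocalRing.maximalIdeal (V.left.presheaf.stalk (h.left (h.left.fiberι v z)))).map
          (h.left.stalkMap (h.left.fiberι v z)).hom) ≃+* (h.left.fiber v).presheaf.stalk z) :=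
      FlatLocalDepth.nonempty_fibre_stalk_equiv h.left v z (h.left.fiberι v z) rfl
    exact GorenSG.gorenstein_of_ringEquiv e.symm hG.2
  tfae_have 3 → 2 := by
    rintro ⟨hfl, H⟩
    obtain ⟨V, b, hb, hbs⟩ := Y.property.atlas
    exact ⟨hfl, V, b, hb, hbs, H V b hb⟩
  tfae_have 2 → 1 := by
    rintro ⟨hfl, V, b, hb, hbs, H⟩ x
    obtain ⟨U, a₁, h, h1, h1s, hh, ha, has, w⟩ := hchart V b hb
    obtain ⟨u, rfl⟩ := surjective_ofPt (has hbs) x
    rw [gorensteinAt_iff_chart ha hb w, isGorensteinAt_iff]
    have : Flat h.left := hfl _ b h ha hb w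
    refine ⟨Flat.stalkMap h.left u, isGorenstein_fiber_iff h.left (h.left u) ?_ u rfl⟩
    have hX := IsPullback.of_hasPullback f.hom ((yon S).map (Over.homMk
      (V.left.fromSpecResidueField (h.left u)) rfl :
        Over.mk (V.left.fromSpecResidueField (h.left u) ≫ V.hom) ⟶ V) ≫ b)
    obtain ⟨T, q, hq, -, hT⟩ := fibre_chart f.hom h1 h1s hh (h.left u) hX
    have hE := H (h.left u) _ _ _ hX
    have hN : IsLocNoethSp (pullback f.hom ((yon S).map (Over.homMk
      (V.left.fromSpecResidueField (h.left u)) rfl :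
        Over.mk (V.left.fromSpecResidueField (h.left u) ≫ V.hom) ⟶ V) ≫ b)) := by
      obtain ⟨U₀, a₀, ha₀, ha₀s, hU₀⟩ := hE
      exact ⟨U₀, a₀, ha₀, ha₀s, hU₀.1⟩
    rw [← hT]
    exact ⟨isLocallyNoetherian_chart hN hq, fun z => isGorenstein_chart hE hq z⟩
  tfae_finish

end Groth.Agent.S10690
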