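import Groth.Statements.S10691
import Groth.Agent.AlgSpLoc.GorensteinSpace
import Groth.Agent.S0538
import Groth.Agent.S0539
import Groth.Agent.S0540

set_option autoImplicit false
set_option backward.isDefEq.respectTransparency false
universe u
open CategoryTheory CategoryTheory.Limits AlgebraicGeometry
open AlgSp

namespace Groth.Agent.S10691

open _root_.AlgSp CategoryTheory.Limits Groth.Agent.AlgSpc Groth.Agent.AlgSpLoc

/-- For locally Noetherian algebraic spaces X, Y over S and a flat morphism f : X ⟶ Y, with X Gorenstein
(some etale surjective scheme chart is a Gorenstein scheme): f is Gorenstein at every point of |X|,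
and for every point x of |X| the etale local ring of Y at a geometric point over f(x), presented as
a strict henselization R of the local ring of an etale scheme chart V of Y at a point v over f(x),
is a Gorenstein local ring. Here f is Gorenstein at x when in every etale chart diagram through x
the top arrow is Gorenstein at the point over x (flat there, with Gorenstein local ring of its
fibre), and the fibres of a morphism are locally Noetherian when every fibre over a field point
(pullback in fppf sheaves) is a locally Noetherian algebraic space. -/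
theorem result {S : Scheme.{u}} {X Y : AlgSp.Space S} (f : X ⟶ Y) (hf : AlgSp.LocP @Flat f.hom)
    (hX1 : AlgSp.IsLocNoethSp X.obj) (hY1 : AlgSp.IsLocNoethSp Y.obj)
    (hX2 : AlgSp.EtaleLocally Dual3.IsGorenstein X.obj) :
    (∀ x : AlgSp.Points X.obj, AlgSp.LocPAt (fun h u => Dual3.IsGorensteinAt h u) f.hom x) ∧
      ∀ (x : AlgSp.Points X.obj) (V : Over S) (b : (AlgSp.yon S).obj V ⟶ Y.obj), AlgSp.RepWith @Etale b →
        ∀ (v : ↥V.left), AlgSp.Points.ofPt b v = AlgSp.Points.map f.hom x →
          ∀ (R : Type u) [CommRing R] [IsLocalRing R] [Algebra ↥(V.left.presheaf.stalk v) R]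
            [IsLocalHom (algebraMap ↥(V.left.presheaf.stalk v) R)]
            [Hensel.IsStrictHenselization ↥(V.left.presheaf.stalk v) R],
            LocCoh.IsGorensteinLocalRing R := by
  refine ⟨fun x => ?_, ?_⟩
  · obtain ⟨U, V, a, b, h, ha, has, hb, -, w⟩ := exists_chart X.property Y.property f.hom
    obtain ⟨u, rfl⟩ := surjective_ofPt has x
    rw [gorensteinAt_iff_chart ha hb w]
    exact (gorenstein_of_flat_chart hf hX1 hY1 hX2 ha hb w u).1
  · intro x V b hb v hv R _ _ _ _ _
    obtain ⟨U₀, a₀, ha₀, ha₀s⟩ := X.property.atlas
    obtain ⟨u₀, rfl⟩ := surjective_ofPt ha₀s x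
    obtain ⟨U, fst, snd, sq⟩ := exists_sq hb.1 (a₀ ≫ f.hom)
    let a := (yon S).map snd ≫ a₀
    have ha : RepWith @Etale a :=
      repWith_comp ((repWith_yon_map_iff _ _).2 (hb.2 _ _ _ sq)) ha₀
    have w : a ≫ f.hom = (yon S).map (pre fst) ≫ b := by
      rw [Category.assoc, ← sq.w, map_pre]
    obtain ⟨u, hu, -⟩ := exists_point_of_sq sq (Points.ofScheme V v) u₀ (by
      rw [← Points.ofPt_eq_map_ofScheme, hv, Points.map_ofPt])
    rw [ofPt_pre] at hu
    have hu' : (pre fst).left u = v := (Points.schemeEquiv V).injective hu
    have hG : LocCoh.IsGorensteinLocalRing ↥(V.left.presheaf.stalk v) := by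
      rw [← hu']
      exact (gorenstein_of_flat_chart hf hX1 hY1 hX2 ha hb w u).2
    have := hG.1
    have := (S0540.result ↥(V.left.presheaf.stalk v) R).mp inferInstance
    have := S0539.result ↥(V.left.presheaf.stalk v) R
    exact (GorenBasic.isGorensteinLocalRing_iff_of_map_eq
      (S0538.result ↥(V.left.presheaf.stalk v) R)).mpr hG

end Groth.Agent.S10691
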