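import Groth.Statements.S10693
import Groth.Agent.AlgSpLoc.GorensteinChart
import Groth.Agent.Hensel.StrictQuot
import Groth.Agent.IndEt.Ops
import Groth.Agent.WEtale.Basic
import Groth.Agent.WEtale.Descent
import Groth.Agent.S12237
import Groth.Agent.S0538
import Groth.Agent.S0539
import Groth.Agent.S0540

set_option autoImplicit false
universe u
open CategoryTheory CategoryTheory.Limits AlgebraicGeometry
open AlgSp

namespace Groth.Agent.S10693

/-- (pointwise part) for a morphism f : X ⟶ Y between algebraic spaces over S with locally Noetherian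
fibres and a point x of |X|, take an etale chart diagram through x: schemes U, V over S with
representable etale a : h_U ⟶ X, b : h_V ⟶ Y, a morphism h : U ⟶ V over S with a ≫ f = h_h ≫ b, and
a point u of U over x; let R be a strict henselization of the local ring of U at u, R' one of the
local ring of V at h u, and φ : R' ⟶ R a local homomorphism compatible with the map of local rings
induced by h (these present the etale local rings of Y and X at compatible geometric points). Then f
is Gorenstein at x if and only if φ is flat and R / m_{R'} R is a Gorenstein local ring. Here f is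
Gorenstein at x when in every etale chart diagram through x the top arrow is Gorenstein at the point
over x (flat there, with Gorenstein local ring of its fibre), and the fibres of a morphism are
locally Noetherian when every fibre over a field point (pullback in fppf sheaves) is a locally
Noetherian algebraic space. -/
theorem result {S : Scheme.{u}} {X Y : AlgSp.Space S} (f : X ⟶ Y)
    (hf : ∀ (k : AlgSp.FieldPt Y.obj) (Xk : AlgSp.Sp S) (a : Xk ⟶ X.obj) (b : Xk ⟶ (AlgSp.yon S).obj k.pt),
        IsPullback a b f.hom k.toHom → AlgSp.IsLocNoethSp Xk)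
    (x : AlgSp.Points X.obj) {U V : Over S} (a : (AlgSp.yon S).obj U ⟶ X.obj) (b : (AlgSp.yon S).obj V ⟶ Y.obj)
    (h : U ⟶ V) (ha : AlgSp.RepWith @Etale a) (hb : AlgSp.RepWith @Etale b) (hc : a ≫ f.hom = (AlgSp.yon S).map h ≫ b)
    (u : ↥U.left) (hu : AlgSp.Points.ofPt a u = x)
    (R : Type u) [CommRing R] [IsLocalRing R] [Algebra ↥(U.left.presheaf.stalk u) R]
    [IsLocalHom (algebraMap ↥(U.left.presheaf.stalk u) R)] [Hensel.IsStrictHenselization ↥(U.left.presheaf.stalk u) R]
    (R' : Type u) [CommRing R'] [IsLocalRing R'] [Algebra ↥(V.left.presheaf.stalk (h.left u)) R']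
    [IsLocalHom (algebraMap ↥(V.left.presheaf.stalk (h.left u)) R')]
    [Hensel.IsStrictHenselization ↥(V.left.presheaf.stalk (h.left u)) R']
    (φ : R' →+* R) [IsLocalHom φ]
    (hφ : φ.comp (algebraMap ↥(V.left.presheaf.stalk (h.left u)) R') =
      (algebraMap ↥(U.left.presheaf.stalk u) R).comp (h.left.stalkMap u).hom) :
    AlgSp.LocPAt (fun h u => Dual3.IsGorensteinAt h u) f.hom x ↔
      φ.Flat ∧ LocCoh.IsGorensteinLocalRing (R ⧸ (IsLocalRing.maximalIdeal R').map φ) := by
  subst hu
  rw [AlgSpLoc.gorensteinAt_iff_chart ha hb hc, AlgSpLoc.isGorensteinAt_iff]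
  set ψ := (h.left.stalkMap u).hom
  letI := φ.toAlgebra
  letI : Algebra ↥(U.left.presheaf.stalk u) R := inferInstance
  letI := ψ.toAlgebra
  letI : Algebra ↥(V.left.presheaf.stalk (h.left u)) R :=
    ((algebraMap ↥(U.left.presheaf.stalk u) R).comp ψ).toAlgebra
  have : IsScalarTower ↥(V.left.presheaf.stalk (h.left u)) ↥(U.left.presheaf.stalk u) R :=
    .of_algebraMap_eq fun a => rfl
  have : IsScalarTower ↥(V.left.presheaf.stalk (h.left u)) R' R :=
    .of_algebraMap_eq fun a => (DFunLike.congr_fun hφ a).symm
  have hR := S0539.result ↥(U.left.presheaf.stalk u) R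
  have hR' := S0539.result ↥(V.left.presheaf.stalk (h.left u)) R'
  have hwe : Algebra.WeaklyEtale ↥(V.left.presheaf.stalk (h.left u)) R' :=
    IndEt.EtFactors.weaklyEtale
      (IndEt.isIndEtale_iff.mp (S12237.result ↥(V.left.presheaf.stalk (h.left u)) R'))
  have hfl : ψ.Flat ↔ φ.Flat := by
    constructor
    · intro H
      have : Module.Flat ↥(V.left.presheaf.stalk (h.left u)) ↥(U.left.presheaf.stalk u) := H
      have : Module.Flat ↥(V.left.presheaf.stalk (h.left u)) R :=
        Module.Flat.trans _ ↥(U.left.presheaf.stalk u) R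
      exact WEtale.flat_of_flat_lmul' (A := ↥(V.left.presheaf.stalk (h.left u))) (B := R') (N := R)
        (Algebra.WeaklyEtale.flat_lmul' _ R')
    · intro H
      have : Module.Flat R' R := H
      have : Module.Flat ↥(V.left.presheaf.stalk (h.left u)) R := Module.Flat.trans _ R' R
      exact WEtale.flat_of_faithfullyFlat_tower ↥(V.left.presheaf.stalk (h.left u))
        ↥(U.left.presheaf.stalk u) R
  refine and_congr hfl (AlgSpLoc.gorenstein_fibre_iff (φ := ψ) hφ ?_ ?_ ?_ ?_).symm
  · exact RingHom.flat_algebraMap_iff.mpr inferInstance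
  · exact S0538.result ↥(V.left.presheaf.stalk (h.left u)) R'
  · exact S0538.result ↥(U.left.presheaf.stalk u) R
  · intro hN
    set I := (IsLocalRing.maximalIdeal ↥(V.left.presheaf.stalk (h.left u))).map ψ
    have hI : I ≤ IsLocalRing.maximalIdeal ↥(U.left.presheaf.stalk u) :=
      ((IsLocalRing.local_hom_TFAE ψ).out 0 2 rfl rfl).mp
        (inferInstanceAs (IsLocalHom (h.left.stalkMap u).hom))
    have hJ : I.map (algebraMap ↥(U.left.presheaf.stalk u) R) ≤ IsLocalRing.maximalIdeal R :=
      S0538.result ↥(U.left.presheaf.stalk u) R ▸ Ideal.map_mono hI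
    have : Nontrivial (↥(U.left.presheaf.stalk u) ⧸ I) := Ideal.Quotient.nontrivial_iff.mpr
      (ne_top_of_le_ne_top (IsLocalRing.maximalIdeal.isMaximal _).ne_top hI)
    have : IsLocalRing (↥(U.left.presheaf.stalk u) ⧸ I) :=
      .of_surjective' _ Ideal.Quotient.mk_surjective
    let Q := R ⧸ I.map (algebraMap ↥(U.left.presheaf.stalk u) R)
    have : Nontrivial Q := Ideal.Quotient.nontrivial_iff.mpr
      (ne_top_of_le_ne_top (IsLocalRing.maximalIdeal.isMaximal _).ne_top hJ)
    have : IsLocalRing Q := .of_surjective' _ Ideal.Quotient.mk_surjective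
    have : IsLocalHom (algebraMap (↥(U.left.presheaf.stalk u) ⧸ I) Q) := by
      refine ⟨fun y hy => ?_⟩
      obtain ⟨x, rfl⟩ := Ideal.Quotient.mk_surjective y
      have : IsLocalHom (Ideal.Quotient.mk (I.map (algebraMap ↥(U.left.presheaf.stalk u) R))) :=
        IsLocalHom.of_surjective _ Ideal.Quotient.mk_surjective
      exact (IsUnit.of_map (algebraMap ↥(U.left.presheaf.stalk u) R) x
        (IsUnit.of_map (Ideal.Quotient.mk (I.map (algebraMap _ R))) _ hy)).map _
    have := Hensel.isStrictHenselization_quotient (R := ↥(U.left.presheaf.stalk u)) (S := R) I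
    exact (S0540.result (↥(U.left.presheaf.stalk u) ⧸ I) Q).mp hN

end Groth.Agent.S10693
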