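import Groth.Statements.S10695
import Groth.Agent.S10572
import Groth.Agent.AlgSpc.OpenSubspace
import Groth.Agent.AlgSpLoc.Covers
import Groth.Agent.AlgSpFormal.UnramDiag
-- import your own Groth.Agent.* helpers here

set_option backward.isDefEq.respectTransparency false
set_option maxHeartbeats 800000
open Groth.Agent.AlgSpc

set_option autoImplicit false
universe u
open CategoryTheory CategoryTheory.Limits AlgebraicGeometry
open AlgSp

namespace Groth.Agent.S10695

theorem isIso_snd_of_mem {S : Scheme.{u}} {T W : AlgSp.Sp S} {i : T ⟶ W} (hi : RepWith @IsClosedImmersion i)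
    (p : FieldPt W) (h : Points.mk p ∈ Set.range (Points.map i)) : ∃ g, g ≫ i = p.toHom := by
  obtain ⟨X, fst, snd, sq⟩ := exists_sq hi.1 p.toHom
  haveI : IsClosedImmersion snd.left := hi.2 _ _ _ sq
  obtain ⟨t, ht⟩ := h
  obtain ⟨v, -, -⟩ := exists_point_of_sq sq t (IsLocalRing.closedPoint p.K)
    (by rw [ht, Points.ofPt_toHom])
  haveI : Subsingleton ↥p.pt.left := inferInstanceAs (Subsingleton (PrimeSpectrum p.K))
  haveI : Surjective snd.left := ⟨fun z => ⟨v, Subsingleton.elim _ _⟩⟩
  haveI : IsReduced p.pt.left := inferInstanceAs (IsReduced (Spec (.of p.K)))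
  haveI : IsIso snd.left := AlgebraicGeometry.isIso_of_isClosedImmersion_of_surjective snd.left
  haveI : IsIso ((Over.forget S).map snd) := this
  haveI : IsIso snd := isIso_of_reflects_iso snd (Over.forget S)
  exact ⟨(yon S).map (inv snd) ≫ fst, by
    rw [Category.assoc, sq.w, ← Category.assoc, ← Functor.map_comp, IsIso.inv_hom_id,
      CategoryTheory.Functor.map_id, Category.id_comp]⟩

/-- Suppose `(U ⊂ W, f : V → W)`, a square of algebraic spaces over `S`, is elementary distinguished
(`j` an open immersion, `f` etale and an isomorphism over the reduced closed complement of `U`) and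
let `P` with its two projections be a fibre product `U ×_W V`. Then `W` is the pushout of `U` and
`V` along `P` among algebraic spaces over `S`. -/
theorem result {S : Scheme.{u}} {U V W P : AlgSp.Space S} (j : U ⟶ W) (f : V ⟶ W)
    (hsq : AlgSp.IsElemDistSq j.hom f.hom) (p : P ⟶ U) (q : P ⟶ V)
    (hP : IsPullback p.hom q.hom j.hom f.hom) : IsPushout p q j f := by
  classical
  obtain ⟨hj, hf, T, P', i, p₁, p₂, ⟨hi, hiR, -⟩, hsq', hp₁⟩ := hsq
  haveI : Mono j.hom := mono_of_repWith (fun _ _ k (_ : IsOpenImmersion k) => inferInstance) hj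
  have hfe : LocP @Etale f.hom := (isEtaleMor_iff_locP V.property W.property).1 hf
  have hje : LocP @Etale j.hom := locP_of_repWith
    (fun e k (_ : Etale e) (_ : Etale k) => (inferInstance : Etale (e ≫ k)))
    (repWith_mono (fun _ _ k (_ : IsOpenImmersion k) => (inferInstance : Etale k)) hj)
  have hfd : RepWith @IsOpenImmersion (pullback.diagonal f.hom) :=
    (AlgSpFormal.diagonal_iff V.property W.property).1
      (locP_mono (fun _ _ e (_ : Etale e) => ⟨inferInstance, inferInstance⟩) hfe)
  have hcovW : IsFpqcCover (fun b : ULift.{u} Bool => (bif b.down then U else V).obj)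
      (fun b => (show (bif b.down then U else V) ⟶ W from match b with | ⟨true⟩ => j | ⟨false⟩ => f).hom) := by
    refine AlgSpLoc.isFpqcCover_of_isFppfCover W.property (fun b => (bif b.down then U else V).property)
      ⟨fun b => ?_, fun x => ?_⟩
    · rcases b with ⟨_ | _⟩
      · exact locP_inf.1 (locP_mono (fun _ _ e (_ : Etale e) => ⟨inferInstance, inferInstance⟩) hfe)
      · exact locP_inf.1 (locP_mono (fun _ _ e (_ : Etale e) => ⟨inferInstance, inferInstance⟩) hje)
    · by_cases hx : x ∈ Set.range (Points.map j.hom)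
      · obtain ⟨u, hu⟩ := hx
        exact ⟨⟨true⟩, u, hu⟩
      · obtain ⟨t, ht⟩ : x ∈ Set.range (Points.map i) := hiR ▸ hx
        obtain ⟨z, hz⟩ : ∃ z, Points.map p₁ z = t := ⟨Points.map (inv p₁) t, by
          rw [← Points.map_comp, IsIso.inv_hom_id, Points.map_id]⟩
        refine ⟨⟨false⟩, Points.map p₂ z, ?_⟩
        change Points.map f.hom (Points.map p₂ z) = x
        rw [← Points.map_comp, ← hsq'.w, Points.map_comp, hz, ht]
  have hw : p ≫ j = q ≫ f := ObjectProperty.hom_ext _ hP.w
  let g : ∀ b : ULift.{u} Bool, (bif b.down then U else V) ⟶ W :=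
    fun b => match b with | ⟨true⟩ => j | ⟨false⟩ => f
  have hex : ∀ s : PushoutCocone p q, ∃ m : W ⟶ s.pt, j ≫ m = s.inl ∧ f ≫ m = s.inr := by
    intro s
    suffices hc : _ by
      obtain ⟨m, hm⟩ := (Groth.Agent.S10572.result _ g hcovW s.pt).2
        (fun b => match b with | ⟨true⟩ => s.inl | ⟨false⟩ => s.inr) hc
      exact ⟨m, hm ⟨true⟩, hm ⟨false⟩⟩
    have hs : p.hom ≫ s.inl.hom = q.hom ≫ s.inr.hom := congrArg (fun k => k.hom) s.condition
    have hUV : pullback.fst j.hom f.hom ≫ s.inl.hom = pullback.snd j.hom f.hom ≫ s.inr.hom := by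
      have := congrArg (hP.lift _ _ (pullback.condition (f := j.hom) (g := f.hom)) ≫ ·) hs
      simpa only [hP.lift_fst_assoc, hP.lift_snd_assoc] using this
    rintro ⟨_ | _⟩ ⟨_ | _⟩
    · let Q : AlgSp.Space S := ⟨pullback f.hom f.hom,
        isAlgSpace_of_isPullback V.property W.property V.property (IsPullback.of_hasPullback _ _)⟩
      let R : AlgSp.Space S := ⟨pullback (pullback.fst f.hom f.hom ≫ f.hom) j.hom,
        isAlgSpace_of_isPullback Q.property W.property U.property (IsPullback.of_hasPullback _ _)⟩
      let d : V ⟶ Q := ObjectProperty.homMk (pullback.diagonal f.hom)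
      let r : R ⟶ Q := ObjectProperty.homMk (pullback.fst _ _)
      have hr : RepWith @IsOpenImmersion r.hom := repWith_of_isPullback (IsPullback.of_hasPullback _ _).flip hj
      have hcovQ : IsFpqcCover (fun b : ULift.{u} Bool => (bif b.down then R else V).obj)
          (fun b => (show (bif b.down then R else V) ⟶ Q from match b with | ⟨true⟩ => r | ⟨false⟩ => d).hom) := by
        refine AlgSpLoc.isFpqcCover_of_isFppfCover Q.property (fun b => (bif b.down then R else V).property)
          ⟨fun b => ?_, fun w => ?_⟩
        · rcases b with ⟨_ | _⟩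
          · exact locP_inf.1 (locP_of_repWith (fun e k (_ : Etale e) (h : (@Flat ⊓ @LocallyOfFinitePresentation) k) =>
              ⟨(by haveI := h.1; infer_instance : Flat (e ≫ k)), (by haveI := h.2; infer_instance : LocallyOfFinitePresentation (e ≫ k))⟩)
              (repWith_mono (fun _ _ k (_ : IsOpenImmersion k) => ⟨inferInstance, inferInstance⟩) hfd))
          · exact locP_inf.1 (locP_of_repWith (fun e k (_ : Etale e) (h : (@Flat ⊓ @LocallyOfFinitePresentation) k) =>
              ⟨(by haveI := h.1; infer_instance : Flat (e ≫ k)), (by haveI := h.2; infer_instance : LocallyOfFinitePresentation (e ≫ k))⟩)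
              (repWith_mono (fun _ _ k (_ : IsOpenImmersion k) => ⟨inferInstance, inferInstance⟩) hr))
        · by_cases hx : Points.map (pullback.fst f.hom f.hom ≫ f.hom) w ∈ Set.range (Points.map j.hom)
          · obtain ⟨u, hu⟩ := hx
            obtain ⟨z, hz, -⟩ := exists_point_of_isPullback
              (IsPullback.of_hasPullback (pullback.fst f.hom f.hom ≫ f.hom) j.hom) w u hu.symm
            exact ⟨⟨true⟩, z, hz⟩
          · rw [← Set.mem_compl_iff, ← hiR] at hx
            induction w using Points.ind with
            | h a =>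
            rw [Points.map_mk] at hx
            obtain ⟨g, hg⟩ := isIso_snd_of_mem hi _ hx
            rw [FieldPt.toHom_map] at hg
            have h1 : g ≫ i = (a.toHom ≫ pullback.fst f.hom f.hom) ≫ f.hom := by
              rw [Category.assoc]; exact hg
            have h2 : g ≫ i = (a.toHom ≫ pullback.snd f.hom f.hom) ≫ f.hom := by
              rw [h1, Category.assoc, pullback.condition, Category.assoc]
            have key : hsq'.lift _ _ h1 = hsq'.lift _ _ h2 := by
              rw [← cancel_mono p₁, hsq'.lift_fst, hsq'.lift_fst]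
            have heq : a.toHom ≫ pullback.fst f.hom f.hom = a.toHom ≫ pullback.snd f.hom f.hom := by
              rw [← hsq'.lift_snd _ _ h1, key, hsq'.lift_snd]
            have hd : (a.toHom ≫ pullback.fst f.hom f.hom) ≫ pullback.diagonal f.hom = a.toHom := by
              apply pullback.hom_ext
              · simp
              · simpa using heq
            refine ⟨⟨false⟩, Points.ofPt (a.toHom ≫ pullback.fst f.hom f.hom) (IsLocalRing.closedPoint a.K), ?_⟩
            exact (Points.map_ofPt _ (pullback.diagonal f.hom) _).trans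
              ((congrArg (fun k => Points.ofPt k _) hd).trans (Points.ofPt_toHom a _))
      have key := (Groth.Agent.S10572.result _ _ hcovQ s.pt).1
        (ObjectProperty.homMk (pullback.fst f.hom f.hom ≫ s.inr.hom))
        (ObjectProperty.homMk (pullback.snd f.hom f.hom ≫ s.inr.hom)) ?_
      · exact congrArg (fun k => k.hom) key
      rintro ⟨_ | _⟩ <;> apply ObjectProperty.hom_ext
      · change pullback.diagonal f.hom ≫ pullback.fst f.hom f.hom ≫ s.inr.hom =
          pullback.diagonal f.hom ≫ pullback.snd f.hom f.hom ≫ s.inr.hom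
        simp
      · change pullback.fst _ j.hom ≫ pullback.fst f.hom f.hom ≫ s.inr.hom =
          pullback.fst _ j.hom ≫ pullback.snd f.hom f.hom ≫ s.inr.hom
        have hc := pullback.condition (f := pullback.fst f.hom f.hom ≫ f.hom) (g := j.hom)
        have l1 := hP.lift_snd (pullback.snd _ j.hom) (pullback.fst _ j.hom ≫ pullback.fst f.hom f.hom)
          (by rw [← hc]; simp)
        have l2 := hP.lift_snd (pullback.snd _ j.hom) (pullback.fst _ j.hom ≫ pullback.snd f.hom f.hom)
          (by rw [← hc]; simp [pullback.condition])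
        rw [← Category.assoc, ← l1, Category.assoc, ← hs, hP.lift_fst_assoc]
        rw [← Category.assoc, ← l2, Category.assoc, ← hs, hP.lift_fst_assoc]
    · change pullback.fst f.hom j.hom ≫ s.inr.hom = pullback.snd f.hom j.hom ≫ s.inl.hom
      have := congrArg ((pullbackSymmetry f.hom j.hom).hom ≫ ·) hUV
      simpa using this.symm
    · exact hUV
    · change pullback.fst j.hom j.hom ≫ s.inl.hom = pullback.snd j.hom j.hom ≫ s.inl.hom
      rw [(cancel_mono j.hom).1 (pullback.condition (f := j.hom) (g := j.hom))]
  choose m hm₁ hm₂ using hex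
  refine ⟨⟨hw⟩, ⟨PushoutCocone.IsColimit.mk hw m hm₁ hm₂ fun s k h₁ h₂ => ?_⟩⟩
  refine (Groth.Agent.S10572.result _ g hcovW s.pt).1 _ _ ?_
  rintro ⟨_ | _⟩
  · exact h₂.trans (hm₂ s).symm
  · exact h₁.trans (hm₁ s).symm

end Groth.Agent.S10695
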