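import Groth.Statements.S10702
import Groth.Agent.AlgSpc.Basic
import Groth.Agent.AlgSpLoc.Cover
-- import your own Groth.Agent.* helpers here

set_option autoImplicit false
universe u
open CategoryTheory CategoryTheory.Limits AlgebraicGeometry
open AlgSp

namespace Groth.Agent.S10702

/-- Consider a commutative diagram of algebraic spaces over `S` with top row `A → C → E`, bottom row `B
→ D → F` and vertical maps `A → B`, `C → D`, `E → F`. If the left square and the outer rectangle are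
cartesian and `B → D` is surjective etale, then the right square is cartesian. -/
theorem result {S : Scheme.{u}} {A B C D E F : AlgSp.Space S} (ac : A ⟶ C) (ab : A ⟶ B)
    (cd : C ⟶ D) (bd : B ⟶ D) (ce : C ⟶ E) (df : D ⟶ F) (ef : E ⟶ F)
    (hl : IsPullback ac.hom ab.hom cd.hom bd.hom) (hcomm : cd ≫ df = ce ≫ ef)
    (hout : IsPullback (ac ≫ ce).hom ab.hom ef.hom (bd ≫ df).hom) (hsurj : AlgSp.IsSurjectiveMor bd.hom)
    (het : AlgSp.IsEtaleMor bd.hom) : IsPullback ce.hom cd.hom ef.hom df.hom := by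
  obtain ⟨U, p, hp, hps⟩ := B.property.atlas
  have hq : AlgSp.RepWith @Etale (p ≫ bd.hom) := het p hp
  have hqs : AlgSp.RepWith @Surjective (p ≫ bd.hom) := (AlgSpc.repWith_surjective_iff hq.1).2 (by
    intro x
    obtain ⟨y, rfl⟩ := hsurj x
    obtain ⟨z, rfl⟩ := AlgSpc.surjective_map_of_repWith hps y
    exact ⟨z, AlgSp.Points.map_comp _ _ z⟩)
  have hcov : ∀ {Z : AlgSp.Sp S} (d : Z ⟶ D.obj), EffectiveEpi (pullback.snd (p ≫ bd.hom) d) := by
    intro Z d
    have := AlgSpLoc.epi_of_repWith (AlgSpc.repWith_of_isPullback (IsPullback.of_hasPullback (p ≫ bd.hom) d) hq)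
      (AlgSpc.repWith_of_isPullback (IsPullback.of_hasPullback (p ≫ bd.hom) d) hqs)
    exact AlgSpLoc.effectiveEpi_of_epi _
  have hw : cd.hom ≫ df.hom = ce.hom ≫ ef.hom := congrArg InducedCategory.Hom.hom hcomm
  have hb : ∀ {Z : AlgSp.Sp S} (d : Z ⟶ D.obj),
      (pullback.fst (p ≫ bd.hom) d ≫ p) ≫ bd.hom = pullback.snd (p ≫ bd.hom) d ≫ d := fun d => by
    rw [Category.assoc]; exact pullback.condition
  have huniq : ∀ {Z : AlgSp.Sp S} (c₁ c₂ : Z ⟶ C.obj), c₁ ≫ ce.hom = c₂ ≫ ce.hom → c₁ ≫ cd.hom = c₂ ≫ cd.hom →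
      c₁ = c₂ := by
    intro Z c₁ c₂ he hd
    let d := c₁ ≫ cd.hom
    haveI := hcov d
    rw [← cancel_epi (pullback.snd (p ≫ bd.hom) d)]
    have w₁ : (pullback.snd (p ≫ bd.hom) d ≫ c₁) ≫ cd.hom = (pullback.fst (p ≫ bd.hom) d ≫ p) ≫ bd.hom := by
      rw [hb, Category.assoc]
    have w₂ : (pullback.snd (p ≫ bd.hom) d ≫ c₂) ≫ cd.hom = (pullback.fst (p ≫ bd.hom) d ≫ p) ≫ bd.hom := by
      rw [hb, Category.assoc, ← hd]
    have key : hl.lift _ _ w₁ = hl.lift _ _ w₂ := by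
      apply hout.hom_ext
      · change hl.lift _ _ w₁ ≫ ac.hom ≫ ce.hom = hl.lift _ _ w₂ ≫ ac.hom ≫ ce.hom
        rw [hl.lift_fst_assoc, hl.lift_fst_assoc, Category.assoc, Category.assoc, he]
      · rw [hl.lift_snd, hl.lift_snd]
    rw [← hl.lift_fst _ _ w₁, key, hl.lift_fst]
  have hex : ∀ {Z : AlgSp.Sp S} (e : Z ⟶ E.obj) (d : Z ⟶ D.obj), e ≫ ef.hom = d ≫ df.hom →
      ∃! c : Z ⟶ C.obj, c ≫ ce.hom = e ∧ c ≫ cd.hom = d := by
    intro Z e d w
    haveI := hcov d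
    let π := pullback.snd (p ≫ bd.hom) d
    have w' : (π ≫ e) ≫ ef.hom = (pullback.fst (p ≫ bd.hom) d ≫ p) ≫ (bd ≫ df).hom := by
      change _ = _ ≫ bd.hom ≫ df.hom
      rw [← Category.assoc _ bd.hom, hb, Category.assoc, w, Category.assoc]
    let c' := hout.lift _ _ w' ≫ ac.hom
    have h1 : c' ≫ ce.hom = π ≫ e := (Category.assoc _ _ _).trans (hout.lift_fst _ _ w')
    have h2 : c' ≫ cd.hom = π ≫ d := by
      rw [Category.assoc, hl.w, hout.lift_snd_assoc]
      exact hb d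
    let c := EffectiveEpi.desc π c' (fun g₁ g₂ hg => huniq _ _
      (by rw [Category.assoc g₁ c', Category.assoc g₂ c', h1, reassoc_of% hg])
      (by rw [Category.assoc g₁ c', Category.assoc g₂ c', h2, reassoc_of% hg]))
    have hc : π ≫ c = c' := EffectiveEpi.fac _ _ _
    refine ⟨c, ⟨?_, ?_⟩, fun c₂ h => ?_⟩
    · rw [← cancel_epi π, reassoc_of% hc, h1]
    · rw [← cancel_epi π, reassoc_of% hc, h2]
    · refine huniq _ _ ?_ ?_
      · rw [h.1, ← cancel_epi π, reassoc_of% hc, h1]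
      · rw [h.2, ← cancel_epi π, reassoc_of% hc, h2]
  refine ⟨⟨hw.symm⟩, ⟨PullbackCone.IsLimit.mk _ (fun s => (hex s.fst s.snd s.condition).choose)
    (fun s => (hex s.fst s.snd s.condition).choose_spec.1.1) (fun s => (hex s.fst s.snd s.condition).choose_spec.1.2)
    (fun s m h₁ h₂ => (hex s.fst s.snd s.condition).choose_spec.2 m ⟨h₁, h₂⟩)⟩⟩

end Groth.Agent.S10702
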