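import Groth.Statements.S10716
import Groth.Agent.S10572
import Groth.Agent.AlgSpLoc.Covers
import Groth.Agent.AlgSpc.Basic
-- import your own Groth.Agent.* helpers here

set_option autoImplicit false
universe w v u
open CategoryTheory CategoryTheory.Limits AlgebraicGeometry
open AlgSp

set_option backward.isDefEq.respectTransparency false
set_option maxHeartbeats 800000
open Groth.Agent.AlgSpc

namespace Groth.Agent.S10716

variable {S : Scheme.{u}} {I : Type v} [Category.{w} I]

theorem locP_flat_lfp {X Y : Over S} (g : X ⟶ Y) (hg : Etale g.left) :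
    LocP @Flat ((yon S).map g) ∧ LocP @LocallyOfFinitePresentation ((yon S).map g) :=
  ⟨locP_of_repWith (fun e k (_ : Etale e) (_ : Flat k) => (inferInstance : Flat (e ≫ k)))
      ((repWith_yon_map_iff @Flat g).2 inferInstance),
    locP_of_repWith (fun e k (_ : Etale e) (_ : LocallyOfFinitePresentation k) =>
      (inferInstance : LocallyOfFinitePresentation (e ≫ k)))
      ((repWith_yon_map_iff @LocallyOfFinitePresentation g).2 inferInstance)⟩

/-- A colimit in schemes gives morphisms over `S`. -/
theorem exists_desc {D : I ⥤ Over S} {c : Cocone D} (h : IsColimit ((Over.forget S).mapCocone c))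
    {Y : Over S} (f : D ⟶ (Functor.const I).obj Y) : ∃ m : c.pt ⟶ Y, ∀ i, c.ι.app i ≫ m = f.app i := by
  let m₀ := h.desc ((Over.forget S).mapCocone (Cocone.mk Y f))
  have hm : ∀ i, (c.ι.app i).left ≫ m₀ = (f.app i).left := fun i =>
    h.fac ((Over.forget S).mapCocone (Cocone.mk Y f)) i
  refine ⟨Over.homMk m₀ (h.hom_ext fun i => ?_), fun i => Over.OverMorphism.ext (hm i)⟩
  change (c.ι.app i).left ≫ m₀ ≫ Y.hom = (c.ι.app i).left ≫ c.pt.hom
  rw [← Category.assoc, hm]
  exact (Over.w (f.app i : _ ⟶ Y)).trans (Over.w (c.ι.app i)).symm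

theorem hom_ext {D : I ⥤ Over S} {c : Cocone D} (h : IsColimit ((Over.forget S).mapCocone c))
    {Y : Over S} (a b : c.pt ⟶ Y) (hab : ∀ i, c.ι.app i ≫ a = c.ι.app i ≫ b) : a = b :=
  Over.OverMorphism.ext (h.hom_ext fun i => congrArg CommaMorphism.left (hab i))

/-- Let `D : I ⥤ Over S` be a diagram of schemes over `S` with a cocone `c` such that (1) `c` is a
colimit in the category of schemes, (2) the coprojections are jointly surjective, (3) for every
etale `U → c.pt` and every cocone of cartesian squares `U_i = D_i ×_{c.pt} U`, `U` is the colimit of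
the `U_i` in the category of schemes, and (4) every equifibered system of separated etale morphisms
`U_i → D_i` (all transition squares cartesian) comes from some etale `U → c.pt` by base change. Then
the image of `c` in algebraic spaces over `S` is a colimit there. -/
theorem result {S : Scheme.{u}} {I : Type v} [Category.{w} I] (D : I ⥤ Over S) (c : Cocone D)
    (h₁ : IsColimit ((Over.forget S).mapCocone c))
    (h₂ : ∀ x : ↥c.pt.left, ∃ (i : I) (y : ↥(D.obj i).left), (c.ι.app i).left y = x)
    (h₃ : ∀ (D' : I ⥤ Over S) (α : D' ⟶ D) (c' : Cocone D') (a : c'.pt ⟶ c.pt), Etale a.left →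
      (∀ i, IsPullback (c'.ι.app i) (α.app i) a (c.ι.app i)) → Nonempty (IsColimit ((Over.forget S).mapCocone c')))
    (h₄ : ∀ (D' : I ⥤ Over S) (α : D' ⟶ D), NatTrans.Equifibered α → (∀ i, Etale (α.app i).left) →
      (∀ i, IsSeparated (α.app i).left) →
      ∃ (c' : Cocone D') (a : c'.pt ⟶ c.pt), Etale a.left ∧ ∀ i, IsPullback (c'.ι.app i) (α.app i) a (c.ι.app i)) :
    Nonempty (IsColimit ((AlgSp.ofScheme S).mapCocone c)) := by
  classical
  refine ⟨IsColimit.ofExistsUnique fun s => ?_⟩
  let B : Space S := s.pt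
  let f : ∀ i, (yon S).obj (D.obj i) ⟶ B.obj := fun i => (s.ι.app i).hom
  have hf : ∀ {i j : I} (g : i ⟶ j), (yon S).map (D.map g) ≫ f j = f i := fun {i j} g =>
    (congrArg (fun k => k.hom) (s.w g) :)
  obtain ⟨U₀, p₀, hp₀, hp₀s⟩ := B.property.atlas
  let A := {O : U₀.left.Opens // IsAffineOpen O}
  let U : A → Over S := fun O => Over.mk (O.1.ι ≫ U₀.hom)
  let q : ∀ O : A, (yon S).obj (U O) ⟶ B.obj := fun O =>
    (yon S).map (Over.homMk O.1.ι rfl : U O ⟶ U₀) ≫ p₀
  have hq : ∀ O, RepWith @Etale (q O) := fun O =>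
    repWith_comp ((repWith_yon_map_iff @Etale _).2 (inferInstanceAs (Etale O.1.ι))) hp₀
  choose V fst snd sqV using fun (O : A) i => exists_sq (hq O).1 (f i)
  have hsndE : ∀ O i, Etale (snd O i).left := fun O i => (hq O).2 _ _ _ (sqV O i)
  have hsndS : ∀ O i, IsSeparated (snd O i).left := by
    intro O i
    have := O.2
    haveI : IsSeparated (U O).hom := by
      haveI : IsAffine (U O).left := O.2
      haveI : (U O).left.IsSeparated := inferInstance
      infer_instance
    let l : (V O i).left ⟶ pullback (U O).hom (D.obj i).hom :=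
      pullback.lift (pre (fst O i)).left (snd O i).left (by rw [Over.w, Over.w])
    haveI : Mono l := by
      refine ⟨fun {Z} a b h => ?_⟩
      have e2 : a ≫ (snd O i).left = b ≫ (snd O i).left := by
        simpa [l] using congrArg (· ≫ pullback.snd _ _) h
      have e1 : a ≫ (pre (fst O i)).left = b ≫ (pre (fst O i)).left := by
        simpa [l] using congrArg (· ≫ pullback.fst _ _) h
      have ew : a ≫ (V O i).hom = b ≫ (V O i).hom := by
        rw [← Over.w (snd O i), reassoc_of% e2]
      let a' : Over.mk (a ≫ (V O i).hom) ⟶ V O i := Over.homMk a rfl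
      let b' : Over.mk (a ≫ (V O i).hom) ⟶ V O i := Over.homMk b ew.symm
      refine congrArg CommaMorphism.left (show a' = b' from (yon S).map_injective ((sqV O i).hom_ext ?_ ?_))
      · rw [← map_pre (fst O i), ← Functor.map_comp, ← Functor.map_comp]
        exact congrArg _ (Over.OverMorphism.ext e1)
      · rw [← Functor.map_comp, ← Functor.map_comp]
        exact congrArg _ (Over.OverMorphism.ext e2)
    rw [show (snd O i).left = l ≫ pullback.snd _ _ from (pullback.lift_snd _ _ _).symm]
    infer_instance
  let t : ∀ (O : A) {i j : I} (_ : i ⟶ j), V O i ⟶ V O j := fun O {i j} g =>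
    pre ((sqV O j).lift (fst O i) ((yon S).map (snd O i ≫ D.map g))
      (by rw [Functor.map_comp, Category.assoc, hf, (sqV O i).w]))
  have ht₁ : ∀ (O : A) {i j : I} (g : i ⟶ j), (yon S).map (t O g) ≫ fst O j = fst O i := fun O {i j} g => by
    simp only [t, map_pre, IsPullback.lift_fst]
  have ht₂ : ∀ (O : A) {i j : I} (g : i ⟶ j), t O g ≫ snd O j = snd O i ≫ D.map g := fun O {i j} g =>
    (yon S).map_injective (by simp only [t, Functor.map_comp, map_pre, IsPullback.lift_snd])
  let D' : A → (I ⥤ Over S) := fun O =>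
    { obj := V O
      map := t O
      map_id := fun i => (yon S).map_injective ((sqV O i).hom_ext
        (by rw [ht₁, CategoryTheory.Functor.map_id, Category.id_comp])
        (by rw [← Functor.map_comp, ← Functor.map_comp, ht₂, D.map_id, Category.comp_id, Category.id_comp]))
      map_comp := fun {i j k} g g' => (yon S).map_injective ((sqV O k).hom_ext
        (by rw [ht₁, Functor.map_comp, Category.assoc, ht₁, ht₁])
        (by rw [← Functor.map_comp, ← Functor.map_comp, ht₂, Category.assoc, ht₂, reassoc_of% ht₂ O g,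
          D.map_comp])) }
  let α : ∀ O, D' O ⟶ D := fun O => { app := snd O, naturality := fun i j g => ht₂ O g }
  have hα : ∀ O, NatTrans.Equifibered (α O) := fun O {i j} g => by
    refine IsPullback.of_map (yon S) (ht₂ O g) (IsPullback.of_right (h₁₂ := fst O j) (v₁₃ := q O) (h₂₂ := f j)
      ?_ (by rw [← Functor.map_comp, ← Functor.map_comp]; exact congrArg _ (ht₂ O g)) (sqV O j))
    change IsPullback ((yon S).map (t O g) ≫ fst O j) ((yon S).map (snd O i)) (q O) ((yon S).map (D.map g) ≫ f j)
    rw [ht₁, hf]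
    exact sqV O i
  choose c' a ha hpb using fun O => h₄ (D' O) (α O) (hα O) (hsndE O) (hsndS O)
  have hcol : ∀ O, IsColimit ((Over.forget S).mapCocone (c' O)) := fun O =>
    (h₃ (D' O) (α O) (c' O) (a O) (ha O) (hpb O)).some
  choose φ hφ using fun O => exists_desc (hcol O) (Y := U O)
    { app := fun i => pre (fst O i), naturality := fun i j g => (yon S).map_injective (by
        change (yon S).map (t O g ≫ pre (fst O j)) = (yon S).map (pre (fst O i) ≫ 𝟙 _)
        simp only [t, Category.comp_id, Functor.map_comp, map_pre, IsPullback.lift_fst]) }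
  let ψ : ∀ O, (ofScheme S).obj (c' O).pt ⟶ B := fun O => ObjectProperty.homMk ((yon S).map (φ O) ≫ q O)
  have hψ : ∀ O i, (yon S).map ((c' O).ι.app i) ≫ (ψ O).hom = (yon S).map (snd O i) ≫ f i := by
    intro O i
    change (yon S).map ((c' O).ι.app i) ≫ (yon S).map (φ O) ≫ q O = _
    rw [← Category.assoc, ← Functor.map_comp, hφ, map_pre, (sqV O i).w]
  have hjs : ∀ i (y : ↥(D.obj i).left), ∃ (O : A) (v : ↥(V O i).left), (snd O i).left v = y := by
    intro i y
    obtain ⟨z, hz⟩ := surjective_map_of_repWith hp₀s (Points.ofPt (f i) y)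
    obtain ⟨u, rfl⟩ : ∃ u, Points.ofScheme U₀ u = z := ⟨_, Points.ofScheme_toScheme U₀ z⟩
    obtain ⟨O, hO, hu, -⟩ := exists_isAffineOpen_mem_and_subset (show u ∈ (⊤ : U₀.left.Opens) from trivial)
    obtain ⟨v, -, hv⟩ := exists_point_of_sq (sqV ⟨O, hO⟩ i) (Points.ofScheme (U ⟨O, hO⟩) ⟨u, hu⟩) y (by
      rw [← hz, Points.map_ofPt, Category.id_comp, Points.map_ofPt, Category.id_comp]
      exact ofPt_comp _ p₀ _)
    exact ⟨⟨O, hO⟩, v, hv⟩
  have hcover : IsFpqcCover (fun O : A => ((ofScheme S).obj (c' O).pt).obj)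
      (fun O => ((ofScheme S).map (a O)).hom) := by
    refine AlgSpLoc.isFpqcCover_of_isFppfCover (IsAlgSpace.yon_obj c.pt) (fun O => IsAlgSpace.yon_obj _)
      ⟨fun O => ?_, fun x => ?_⟩
    · have := ha O
      exact locP_flat_lfp _ inferInstance
    · obtain ⟨x, rfl⟩ : ∃ y, Points.ofScheme c.pt y = x := ⟨_, Points.ofScheme_toScheme c.pt x⟩
      obtain ⟨i, y, rfl⟩ := h₂ x
      obtain ⟨O, v, rfl⟩ := hjs i y
      refine ⟨O, Points.ofScheme _ (((c' O).ι.app i).left v), ?_⟩
      change Points.map ((yon S).map (a O)) _ = _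
      rw [Points.map_ofPt, Category.id_comp, ← Category.comp_id ((yon S).map (a O)), ofPt_comp]
      exact congrArg (Points.ofScheme c.pt) (congrArg (fun k => k.left v) (hpb O i).w)
  obtain ⟨huniq, hex⟩ := Groth.Agent.S10572.result (T := (ofScheme S).obj c.pt) (fun O => (ofScheme S).obj (c' O).pt)
    (fun O => (ofScheme S).map (a O)) hcover B
  obtain ⟨m, hm⟩ := hex ψ (by
    intro O O'
    have sqW := (IsPullback.of_hasPullback (a O) (a O')).map (yon S)
    let W := pullback (a O) (a O')
    change pullback.fst ((yon S).map (a O)) ((yon S).map (a O')) ≫ (ψ O).hom =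
      pullback.snd ((yon S).map (a O)) ((yon S).map (a O')) ≫ (ψ O').hom
    rw [← cancel_epi sqW.isoPullback.hom, sqW.isoPullback_hom_fst_assoc, sqW.isoPullback_hom_snd_assoc]
    change (yon S).map (pullback.fst (a O) (a O')) ≫ (yon S).map (φ O) ≫ q O =
      (yon S).map (pullback.snd (a O) (a O')) ≫ (yon S).map (φ O') ≫ q O'
    let w : W ⟶ c.pt := pullback.fst _ _ ≫ a O
    let DW : I ⥤ Over S :=
      { obj := fun i => pullback w (c.ι.app i)
        map := fun {i j} g => pullback.lift (pullback.fst _ _) (pullback.snd _ _ ≫ D.map g)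
          (by rw [Category.assoc, c.w, pullback.condition])
        map_id := fun i => by apply pullback.hom_ext <;> simp
        map_comp := fun {i j k} g g' => by apply pullback.hom_ext <;> simp }
    let cW : Cocone DW :=
      { pt := W
        ι := ({ app := fun i => pullback.fst _ _
                naturality := fun i j g => (pullback.lift_fst _ _ _).trans (Category.comp_id _).symm } : DW ⟶ (Functor.const I).obj W) }
    let αW : DW ⟶ D :=
      { app := fun i => pullback.snd _ _
        naturality := fun i j g => pullback.lift_snd _ _ _ }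
    haveI : Etale w.left := by
      have := ha O; have := ha O'
      haveI : Etale (pullback.fst (a O) (a O')).left := MorphismProperty.of_isPullback
        ((IsPullback.of_hasPullback (a O) (a O')).map (Over.forget S)).flip (ha O')
      exact inferInstanceAs (Etale ((pullback.fst (a O) (a O')).left ≫ (a O).left))
    have hW := (h₃ DW αW cW w ‹_› (fun i => IsPullback.of_hasPullback _ _)).some
    obtain ⟨R, r₁, r₂, sqR⟩ := exists_sq (hq O).1 (q O')
    have key : ∀ (O'' : A) (e : W ⟶ (c' O'').pt), e ≫ a O'' = w → ∀ i,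
        (yon S).map (pullback.fst w (c.ι.app i) ≫ e ≫ φ O'') ≫ q O'' =
          (yon S).map (pullback.snd w (c.ι.app i)) ≫ f i := by
      intro O'' e he i
      let k := (hpb O'' i).lift (pullback.fst w (c.ι.app i) ≫ e) (pullback.snd w (c.ι.app i))
        (by rw [Category.assoc, he, pullback.condition])
      have h' := congrArg ((yon S).map k ≫ ·) (hψ O'' i)
      change (yon S).map k ≫ (yon S).map ((c' O'').ι.app i) ≫ (yon S).map (φ O'') ≫ q O'' = _ at h'
      simp only [← Category.assoc, ← Functor.map_comp] at h'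
      simpa only [k, IsPullback.lift_fst, IsPullback.lift_snd, Category.assoc,
        show k ≫ snd O'' i = pullback.snd w (c.ι.app i) from (hpb O'' i).lift_snd _ _ _] using h'
    let li : ∀ i, DW.obj i ⟶ R := fun i =>
      pre (sqR.lift ((yon S).map (pullback.fst w (c.ι.app i) ≫ pullback.fst _ _ ≫ φ O))
        ((yon S).map (pullback.fst w (c.ι.app i) ≫ pullback.snd _ _ ≫ φ O'))
        ((key O (pullback.fst _ _) rfl i).trans (key O' (pullback.snd _ _) pullback.condition.symm i).symm))
    have hl₁ : ∀ i, li i ≫ pre r₁ = pullback.fst w (c.ι.app i) ≫ pullback.fst _ _ ≫ φ O := fun i =>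
      (yon S).map_injective (by simp only [li, Functor.map_comp, map_pre, IsPullback.lift_fst])
    have hl₂ : ∀ i, li i ≫ r₂ = pullback.fst w (c.ι.app i) ≫ pullback.snd _ _ ≫ φ O' := fun i =>
      (yon S).map_injective (by simp only [li, Functor.map_comp, map_pre, IsPullback.lift_snd])
    obtain ⟨l, hl⟩ := exists_desc hW (Y := R) {
      app := li
      naturality := fun i j g => by
          have e : DW.map g ≫ pullback.fst w (c.ι.app j) = pullback.fst w (c.ι.app i) := pullback.lift_fst _ _ _
          refine (yon S).map_injective (sqR.hom_ext ?_ ?_)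
          · rw [← map_pre r₁, ← Functor.map_comp, ← Functor.map_comp]
            congr 1
            change (DW.map g ≫ li j) ≫ _ = (li i ≫ 𝟙 _) ≫ _
            rw [Category.comp_id, Category.assoc, hl₁, hl₁, reassoc_of% e]
          · rw [← Functor.map_comp, ← Functor.map_comp]
            congr 1
            change (DW.map g ≫ li j) ≫ _ = (li i ≫ 𝟙 _) ≫ _
            rw [Category.comp_id, Category.assoc, hl₂, hl₂, reassoc_of% e] }
    have e₁ : l ≫ pre r₁ = pullback.fst _ _ ≫ φ O := hom_ext hW _ _ fun i => by
      rw [← Category.assoc, hl]; exact hl₁ i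
    have e₂ : l ≫ r₂ = pullback.snd _ _ ≫ φ O' := hom_ext hW _ _ fun i => by
      rw [← Category.assoc, hl]; exact hl₂ i
    rw [← Category.assoc ((yon S).map _) _ (q O), ← Functor.map_comp, ← e₁,
      ← Category.assoc ((yon S).map _) _ (q O'), ← Functor.map_comp, ← e₂]
    simp only [Functor.map_comp, map_pre, Category.assoc, sqR.w])
  have hfacm : ∀ i, (ofScheme S).map (c.ι.app i) ≫ m = s.ι.app i := by
    intro i
    have hcovi : IsFpqcCover (fun O : A => ((ofScheme S).obj (V O i)).obj)
        (fun O => ((ofScheme S).map (snd O i)).hom) := by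
      refine AlgSpLoc.isFpqcCover_of_isFppfCover (IsAlgSpace.yon_obj (D.obj i)) (fun O => IsAlgSpace.yon_obj _)
        ⟨fun O => ?_, fun x => ?_⟩
      · have := hsndE O i
        exact locP_flat_lfp _ inferInstance
      · obtain ⟨y, rfl⟩ : ∃ y, Points.ofScheme (D.obj i) y = x := ⟨_, Points.ofScheme_toScheme (D.obj i) x⟩
        obtain ⟨O, v, rfl⟩ := hjs i y
        refine ⟨O, Points.ofScheme _ v, ?_⟩
        change Points.map ((yon S).map (snd O i)) _ = _
        rw [Points.map_ofPt, Category.id_comp, ← Category.comp_id ((yon S).map (snd O i)), ofPt_comp]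
    refine (Groth.Agent.S10572.result _ _ hcovi B).1 _ _ fun O => ObjectProperty.hom_ext _ ?_
    change (yon S).map (snd O i) ≫ (yon S).map (c.ι.app i) ≫ m.hom = (yon S).map (snd O i) ≫ f i
    rw [← hψ O i, ← congrArg (fun k => k.hom) (hm O), ← Category.assoc, ← Functor.map_comp]
    change _ = (yon S).map ((c' O).ι.app i) ≫ (yon S).map (a O) ≫ m.hom
    rw [← Category.assoc, ← Functor.map_comp, (hpb O i).w]
  refine ⟨m, hfacm, fun m' hm' => ?_⟩
  obtain ⟨R, r₀, r, sqR⟩ := exists_sq B.property.diag (prod.lift m'.hom m.hom)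
  have hfac : ∀ i, (yon S).map (c.ι.app i) ≫ m'.hom = f i := fun i => congrArg (fun k => k.hom) (hm' i)
  have hfac2 : ∀ i, (yon S).map (c.ι.app i) ≫ m.hom = f i := fun i => congrArg (fun k => k.hom) (hfacm i)
  let k : ∀ i, D.obj i ⟶ R := fun i => pre (sqR.lift (f i) ((yon S).map (c.ι.app i))
    (by apply Limits.prod.hom_ext <;> simp [hfac, hfac2]))
  obtain ⟨l, hl⟩ := exists_desc h₁ (Y := R) {
    app := k
    naturality := fun i j g => by
        refine (yon S).map_injective (sqR.hom_ext ?_ ?_)
        · change (yon S).map (D.map g ≫ k j) ≫ r₀ = (yon S).map (k i ≫ 𝟙 _) ≫ r₀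
          simp only [Category.comp_id, Functor.map_comp, Category.assoc, k, map_pre, IsPullback.lift_fst, hf]
        · change (yon S).map (D.map g ≫ k j) ≫ _ = (yon S).map (k i ≫ 𝟙 _) ≫ _
          simp only [Category.comp_id, Functor.map_comp, Category.assoc, k, map_pre, IsPullback.lift_snd]
          rw [← Functor.map_comp, c.w] }
  have hlr : l ≫ r = 𝟙 _ := hom_ext h₁ _ _ fun i => (yon S).map_injective (by
    rw [← Category.assoc, hl]
    change (yon S).map (k i ≫ r) = (yon S).map (c.ι.app i ≫ 𝟙 _)
    rw [CategoryTheory.Functor.map_comp (yon S) (c.ι.app i), CategoryTheory.Functor.map_id, Category.comp_id]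
    simp only [k, Functor.map_comp, map_pre, IsPullback.lift_snd])
  apply ObjectProperty.hom_ext
  have e := congrArg ((yon S).map l ≫ ·) sqR.w
  simp only [← Category.assoc, ← Functor.map_comp, hlr, CategoryTheory.Functor.map_id, Category.id_comp] at e
  have e1 := congrArg (· ≫ Limits.prod.fst) e
  have e2 := congrArg (· ≫ Limits.prod.snd) e
  simp only [Category.assoc, Limits.prod.lift_fst, Limits.prod.lift_snd, Category.comp_id] at e1 e2
  exact e1.symm.trans e2

end Groth.Agent.S10716
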