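import Groth.Statements.S10719
import Groth.Agent.S10572
import Groth.Agent.AlgSpLoc.AffineDescent
import Groth.Agent.AlgSpc.FibreProd
-- import your own Groth.Agent.* helpers here

set_option autoImplicit false
universe w v u
open CategoryTheory CategoryTheory.Limits AlgebraicGeometry
open AlgSp

set_option backward.isDefEq.respectTransparency false
set_option maxHeartbeats 1000000

namespace Groth.Agent.S10719

variable {S : Scheme.{u}} {B : AlgSp.Space S}

theorem w' {X Y : Over B} (f : X ⟶ Y) : f.left.hom ≫ Y.hom.hom = X.hom.hom :=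
  congrArg (fun k => k.hom) (Over.w f)

theorem comp_left_hom {X Y Z : Over B} (f : X ⟶ Y) (g : Y ⟶ Z) :
    (f ≫ g).left.hom = f.left.hom ≫ g.left.hom := rfl

theorem over_ext {X Y : Over B} {f g : X ⟶ Y} (h : f.left.hom = g.left.hom) : f = g :=
  Over.OverMorphism.ext (ObjectProperty.hom_ext _ h)

/-- The base change of a diagram over `X` along `U ⟶ X`. -/
theorem exists_bc {I : Type v} [Category.{w} I] (D : I ⥤ Over B) (c : Cocone D) (U : Over B)
    (u : U ⟶ c.pt) :
    ∃ (D' : I ⥤ Over B) (α : D' ⟶ D) (ι : D' ⟶ (Functor.const I).obj U),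
      ∀ i, IsPullback (ι.app i).left.hom (α.app i).left.hom u.left.hom (c.ι.app i).left.hom := by
  have hsp : ∀ i, AlgSp.IsAlgSpace (pullback u.left.hom (c.ι.app i).left.hom) := fun i =>
    AlgSpc.isAlgSpace_of_isPullback U.left.property c.pt.left.property (D.obj i).left.property
      (IsPullback.of_hasPullback _ _)
  let O : I → Over B := fun i => Over.mk (Y := (⟨_, hsp i⟩ : AlgSp.Space S))
    (ObjectProperty.homMk (pullback.fst u.left.hom (c.ι.app i).left.hom ≫ U.hom.hom))
  have hc : ∀ {i j : I} (g : i ⟶ j), (D.map g).left.hom ≫ (c.ι.app j).left.hom = (c.ι.app i).left.hom :=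
    fun g => (congrArg (fun k => k.left.hom) (c.w g) :)
  let m : ∀ {i j : I}, (i ⟶ j) → (O i ⟶ O j) := fun {i j} g =>
    Over.homMk (ObjectProperty.homMk (pullback.lift (pullback.fst _ _)
      (pullback.snd u.left.hom (c.ι.app i).left.hom ≫ (D.map g).left.hom)
      (by rw [Category.assoc, hc, pullback.condition]))) (ObjectProperty.hom_ext _ (pullback.lift_fst_assoc _ _ _ _))
  let D' : I ⥤ Over B :=
    { obj := O
      map := m
      map_id := fun i => over_ext (by
        apply pullback.hom_ext
        · exact (pullback.lift_fst _ _ _).trans (Category.id_comp _).symm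
        · refine (pullback.lift_snd _ _ _).trans ?_
          rw [D.map_id]
          exact (Category.comp_id _).trans (Category.id_comp _).symm)
      map_comp := fun {i j k} g h => over_ext (by
        rw [comp_left_hom]
        apply pullback.hom_ext
        · refine (pullback.lift_fst _ _ _).trans (Eq.symm ?_)
          exact (Category.assoc _ _ _).trans ((congrArg (_ ≫ ·) (pullback.lift_fst _ _ _)).trans (pullback.lift_fst _ _ _))
        · refine (pullback.lift_snd _ _ _).trans (Eq.symm ?_)
          refine (Category.assoc _ _ _).trans ((congrArg (_ ≫ ·) (pullback.lift_snd _ _ _)).trans ?_)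
          rw [← Category.assoc]
          refine (congrArg (· ≫ _) (pullback.lift_snd _ _ _)).trans ?_
          rw [Category.assoc, D.map_comp, comp_left_hom]) }
  let α : D' ⟶ D :=
    { app := fun i => Over.homMk (ObjectProperty.homMk (pullback.snd u.left.hom (c.ι.app i).left.hom))
        (ObjectProperty.hom_ext _ (by
          change pullback.snd _ _ ≫ (D.obj i).hom.hom = pullback.fst _ _ ≫ U.hom.hom
          rw [← w' (c.ι.app i), ← w' u, pullback.condition_assoc]
          rfl))
      naturality := fun i j g => over_ext (pullback.lift_snd _ _ _) }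
  let ι : D' ⟶ (Functor.const I).obj U :=
    { app := fun i => Over.homMk (ObjectProperty.homMk (pullback.fst u.left.hom (c.ι.app i).left.hom))
        (ObjectProperty.hom_ext _ rfl)
      naturality := fun i j g => over_ext ((pullback.lift_fst _ _ _).trans (Category.comp_id _).symm) }
  exact ⟨D', α, ι, fun i => IsPullback.of_hasPullback _ _⟩

/-- Let `B` be an algebraic space over `S`, `D : I ⥤ Over B` a diagram of algebraic spaces over `B` with
a cocone `c`, and `{U_a → c.pt}` an fpqc covering (by algebraic spaces over `B`). If (1) for every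
`a`, every cocone of cartesian squares `D_i ×_{c.pt} U_a → U_a` is a colimit in algebraic spaces
over `B`, and (2) the same holds for every fibre product `U_a ×_{c.pt} U_b`, then `c` is a colimit
in algebraic spaces over `B`. -/
theorem result {S : Scheme.{u}} {B : AlgSp.Space S} {I : Type v} [Category.{w} I] (D : I ⥤ Over B)
    (c : Cocone D) {κ : Type u} (Ua : κ → Over B) (ua : ∀ a, Ua a ⟶ c.pt)
    (hcov : AlgSp.IsFpqcCover (fun a => (Ua a).left.obj) (fun a => (ua a).left.hom))
    (h₁ : ∀ (a : κ) (Da : I ⥤ Over B) (α : Da ⟶ D) (ι : Da ⟶ (Functor.const I).obj (Ua a)),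
      (∀ i, IsPullback (ι.app i).left.hom (α.app i).left.hom (ua a).left.hom (c.ι.app i).left.hom) →
        Nonempty (IsColimit (Cocone.mk (Ua a) ι)))
    (h₂ : ∀ (a b : κ) (Uab : Over B) (pa : Uab ⟶ Ua a) (pb : Uab ⟶ Ua b),
      IsPullback pa.left.hom pb.left.hom (ua a).left.hom (ua b).left.hom →
      ∀ (Dab : I ⥤ Over B) (α : Dab ⟶ D) (ι : Dab ⟶ (Functor.const I).obj Uab),
        (∀ i, IsPullback (ι.app i).left.hom (α.app i).left.hom (pa ≫ ua a).left.hom (c.ι.app i).left.hom) →
          Nonempty (IsColimit (Cocone.mk Uab ι))) :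
    Nonempty (IsColimit c) := by
  classical
  choose Da α ι hpb using fun a => exists_bc D c (Ua a) (ua a)
  have hcol : ∀ a, IsColimit (Cocone.mk (Ua a) (ι a)) := fun a => (h₁ a (Da a) (α a) (ι a) (hpb a)).some
  refine ⟨IsColimit.ofExistsUnique fun s => ?_⟩
  let d : ∀ a, Ua a ⟶ s.pt := fun a => (hcol a).desc (Cocone.mk s.pt (α a ≫ s.ι))
  have hd : ∀ a i, (ι a).app i ≫ d a = (α a).app i ≫ s.ι.app i := fun a i =>
    (hcol a).fac (Cocone.mk s.pt (α a ≫ s.ι)) i
  have hcompat : ∀ a b, pullback.fst (ua a).left.hom (ua b).left.hom ≫ (d a).left.hom =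
      pullback.snd (ua a).left.hom (ua b).left.hom ≫ (d b).left.hom := by
    intro a b
    let Uab : Over B := Over.mk (Y := (⟨_, AlgSpc.isAlgSpace_of_isPullback (Ua a).left.property
      c.pt.left.property (Ua b).left.property (IsPullback.of_hasPullback (ua a).left.hom (ua b).left.hom)⟩ : AlgSp.Space S))
      (ObjectProperty.homMk (pullback.fst (ua a).left.hom (ua b).left.hom ≫ (Ua a).hom.hom))
    let pa : Uab ⟶ Ua a := Over.homMk (ObjectProperty.homMk (pullback.fst _ _)) rfl
    let pb : Uab ⟶ Ua b := Over.homMk (ObjectProperty.homMk (pullback.snd (ua a).left.hom (ua b).left.hom))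
      (ObjectProperty.hom_ext _ (by
        change pullback.snd _ _ ≫ (Ua b).hom.hom = pullback.fst _ _ ≫ (Ua a).hom.hom
        rw [← w' (ua a), ← w' (ua b), pullback.condition_assoc]))
    have hab : pa ≫ ua a = pb ≫ ua b := over_ext pullback.condition
    obtain ⟨Dab, αab, ιab, hpab⟩ := exists_bc D c Uab (pa ≫ ua a)
    have hcolab := (h₂ a b Uab pa pb (IsPullback.of_hasPullback _ _) Dab αab ιab hpab).some
    have key : ∀ (a' : κ) (p : Uab ⟶ Ua a'), p ≫ ua a' = pa ≫ ua a → ∀ i,
        ιab.app i ≫ p ≫ d a' = αab.app i ≫ s.ι.app i := by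
      intro a' p hp i
      let k := (hpb a' i).lift ((ιab.app i).left.hom ≫ p.left.hom) (αab.app i).left.hom (by
        rw [Category.assoc, ← comp_left_hom, hp]; exact (hpab i).w)
      have h' := congrArg (fun e => k ≫ e.left.hom) (hd a' i)
      simp only [comp_left_hom, ← Category.assoc] at h'
      rw [(hpb a' i).lift_fst, (hpb a' i).lift_snd] at h'
      exact over_ext ((Category.assoc _ _ _).symm.trans h')
    have : pa ≫ d a = pb ≫ d b := hcolab.hom_ext fun i =>
      (key a pa rfl i).trans (key b pb hab.symm i).symm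
    exact congrArg (fun e => e.left.hom) this
  obtain ⟨huniq, hex⟩ := Groth.Agent.S10572.result (fun a => (Ua a).left) (fun a => (ua a).left) hcov s.pt.left
  obtain ⟨φ, hφ⟩ := hex (fun a => (d a).left) hcompat
  have hφw : φ ≫ s.pt.hom = c.pt.hom := by
    refine (Groth.Agent.S10572.result (fun a => (Ua a).left) (fun a => (ua a).left) hcov B).1 _ _ fun a => ?_
    rw [← Category.assoc, hφ a]
    exact (Over.w (d a)).trans (Over.w (ua a)).symm
  let φ' : c.pt ⟶ s.pt := Over.homMk φ hφw
  have hua : ∀ a, ua a ≫ φ' = d a := fun a => Over.OverMorphism.ext (hφ a)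
  refine ⟨φ', fun i => ?_, fun ψ hψ => ?_⟩
  · apply Over.OverMorphism.ext
    refine (Groth.Agent.S10572.result (fun a => ((Da a).obj i).left) (fun a => ((α a).app i).left)
      ?_ s.pt.left).1 _ _ fun a => ?_
    · exact AlgSpLoc.isFpqcCover_of_isPullback c.pt.left.property (D.obj i).left.property
        (fun a => (Ua a).left.property) (fun a => (hpb a i).flip) hcov
    · have h1 : (α a).app i ≫ c.ι.app i = (ι a).app i ≫ ua a := over_ext (hpb a i).w.symm
      have h2 : (α a).app i ≫ c.ι.app i ≫ φ' = (α a).app i ≫ s.ι.app i := by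
        rw [← Category.assoc, h1, Category.assoc, hua, hd]
      exact congrArg (fun e => e.left) h2
  · apply Over.OverMorphism.ext
    refine huniq _ _ fun a => ?_
    have : ua a ≫ ψ = ua a ≫ φ' := by
      rw [hua]
      refine (hcol a).hom_ext fun i => ?_
      change (ι a).app i ≫ ua a ≫ ψ = (ι a).app i ≫ d a
      rw [hd, ← hψ i, ← Category.assoc, ← Category.assoc]
      congr 1
      exact over_ext (hpb a i).w
    exact congrArg (fun e => e.left) this

end Groth.Agent.S10719
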