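import Groth.Statements.S1072
import Mathlib
set_option autoImplicit false
universe v v' u u'
open CategoryTheory CategoryTheory.Limits
open CohDer

noncomputable section

namespace Groth.Agent.S1072

set_option backward.isDefEq.respectTransparency false
set_option backward.defeqAttrib.useBackward true

section
variable {A : Type u} [Category.{v} A] [Abelian A]
    (W : MorphismProperty A) [W.HasLeftCalculusOfFractions] [W.HasRightCalculusOfFractions]
    {D : Type u'} [Category.{v'} D] [Preadditive D] (L : A ⥤ D) [L.Additive] [L.IsLocalization W]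

include W L

omit [W.HasLeftCalculusOfFractions] in
lemma map_eq_zero_iff {X Y : A} (f : X ⟶ Y) :
    L.map f = 0 ↔ ∃ (Z : A) (s : Z ⟶ X), W s ∧ s ≫ f = 0 := by
  rw [← L.map_zero, MorphismProperty.map_eq_iff_precomp L W]
  simp

omit [W.HasRightCalculusOfFractions] in
lemma map_eq_zero_iff' {X Y : A} (f : X ⟶ Y) :
    L.map f = 0 ↔ ∃ (Z : A) (s : Y ⟶ Z), W s ∧ f ≫ s = 0 := by
  rw [← L.map_zero, MorphismProperty.map_eq_iff_postcomp L W]
  simp

omit [W.HasLeftCalculusOfFractions] in
lemma mono_map {X Y : A} (f : X ⟶ Y) [Mono f] : Mono (L.map f) := by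
  have := Localization.essSurj L W
  rw [Preadditive.mono_iff_cancel_zero]
  intro Z z hz
  obtain ⟨φ, hφ⟩ := Localization.exists_rightFraction L W ((L.objObjPreimageIso Z).hom ≫ z)
  have e : L.map φ.s ≫ (L.objObjPreimageIso Z).hom ≫ z = L.map φ.f := by
    rw [hφ, φ.map_s_comp_map]
  have h0 : L.map (φ.f ≫ f) = 0 := by
    rw [L.map_comp, ← e, Category.assoc, Category.assoc, hz, comp_zero, comp_zero]
  obtain ⟨Z', s, hs, h1⟩ := (map_eq_zero_iff W L _).1 h0
  have h2 : s ≫ φ.f = 0 := (cancel_mono f).1 (by rw [Category.assoc, h1, zero_comp])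
  have := Localization.inverts L W s hs
  have := Localization.inverts L W φ.s φ.hs
  rw [← cancel_epi (L.objObjPreimageIso Z).hom, comp_zero, ← cancel_epi (L.map φ.s), comp_zero, e,
    ← cancel_epi (L.map s), comp_zero, ← L.map_comp, h2, L.map_zero]

omit [W.HasRightCalculusOfFractions] in
lemma epi_map {X Y : A} (f : X ⟶ Y) [Epi f] : Epi (L.map f) := by
  have := Localization.essSurj L W
  rw [Preadditive.epi_iff_cancel_zero]
  intro Z z hz
  obtain ⟨φ, hφ⟩ := Localization.exists_leftFraction L W (z ≫ (L.objObjPreimageIso Z).inv)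
  have e : z ≫ (L.objObjPreimageIso Z).inv ≫ L.map φ.s = L.map φ.f := by
    rw [← Category.assoc, hφ, φ.map_comp_map_s]
  have h0 : L.map (f ≫ φ.f) = 0 := by
    rw [L.map_comp, ← e, reassoc_of% hz, zero_comp]
  obtain ⟨Z', s, hs, h1⟩ := (map_eq_zero_iff' W L _).1 h0
  have h2 : φ.f ≫ s = 0 := (cancel_epi f).1 (by rw [← Category.assoc, h1, comp_zero])
  have := Localization.inverts L W s hs
  have := Localization.inverts L W φ.s φ.hs
  rw [← cancel_mono (L.objObjPreimageIso Z).inv, zero_comp, ← cancel_mono (L.map φ.s), zero_comp,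
    Category.assoc, e, ← cancel_mono (L.map s), zero_comp, ← L.map_comp, h2, L.map_zero]

lemma preservesKernel {X Y : A} (f : X ⟶ Y) : PreservesLimit (parallelPair f 0) L := by
  have := mono_map W L (kernel.ι f)
  have := Localization.essSurj L W
  suffices ∀ (V : D) (z : V ⟶ L.obj X) (hz : z ≫ L.map f = 0),
      ∃ (l : V ⟶ L.obj (kernel f)), l ≫ L.map (kernel.ι f) = z from
    preservesLimit_of_preserves_limit_cone (kernelIsKernel f)
      ((KernelFork.isLimitMapConeEquiv _ L).2
        (Fork.IsLimit.ofExistsUnique
          (fun s ↦ existsUnique_of_exists_of_unique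
            (this _ _ (KernelFork.condition s))
            (fun _ _ h₁ h₂ ↦ by simpa [cancel_mono] using h₁.trans h₂.symm))))
  intro V z hz
  obtain ⟨φ, hφ⟩ := Localization.exists_rightFraction L W ((L.objObjPreimageIso V).hom ≫ z)
  have e : L.map φ.s ≫ (L.objObjPreimageIso V).hom ≫ z = L.map φ.f := by rw [hφ, φ.map_s_comp_map]
  obtain ⟨V', t, ht, fac⟩ := (map_eq_zero_iff W L (φ.f ≫ f)).1 (by
    rw [L.map_comp, ← e, Category.assoc, Category.assoc, hz, comp_zero, comp_zero])
  have := Localization.inverts L W t ht
  have := Localization.inverts L W φ.s φ.hs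
  rw [← Category.assoc] at fac
  refine ⟨(L.objObjPreimageIso V).inv ≫ inv (L.map φ.s) ≫ inv (L.map t) ≫ L.map (kernel.lift _ _ fac), ?_⟩
  simp [← L.map_comp, ← e]

lemma preservesCokernel {X Y : A} (f : X ⟶ Y) : PreservesColimit (parallelPair f 0) L := by
  have := epi_map W L (cokernel.π f)
  have := Localization.essSurj L W
  suffices ∀ (V : D) (z : L.obj Y ⟶ V) (hz : L.map f ≫ z = 0),
      ∃ (l : L.obj (cokernel f) ⟶ V), L.map (cokernel.π f) ≫ l = z from
    preservesColimit_of_preserves_colimit_cocone (cokernelIsCokernel f)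
      ((CokernelCofork.isColimitMapCoconeEquiv _ L).2
        (Cofork.IsColimit.ofExistsUnique
          (fun s ↦ existsUnique_of_exists_of_unique
            (this _ _ (CokernelCofork.condition s))
            (fun _ _ h₁ h₂ ↦ by simpa [cancel_epi] using h₁.trans h₂.symm))))
  intro V z hz
  obtain ⟨φ, hφ⟩ := Localization.exists_leftFraction L W (z ≫ (L.objObjPreimageIso V).inv)
  have e : z ≫ (L.objObjPreimageIso V).inv ≫ L.map φ.s = L.map φ.f := by
    rw [← Category.assoc, hφ, φ.map_comp_map_s]
  obtain ⟨V', t, ht, fac⟩ := (map_eq_zero_iff' W L (f ≫ φ.f)).1 (by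
    rw [L.map_comp, ← e, reassoc_of% hz, zero_comp])
  have := Localization.inverts L W t ht
  have := Localization.inverts L W φ.s φ.hs
  rw [Category.assoc] at fac
  refine ⟨L.map (cokernel.desc _ _ fac) ≫ inv (L.map t) ≫ inv (L.map φ.s) ≫ (L.objObjPreimageIso V).hom, ?_⟩
  rw [← L.map_comp_assoc, cokernel.π_desc, L.map_comp_assoc, IsIso.hom_inv_id_assoc, ← e]
  simp

lemma isIso_map_factorThruImage_of_mono {X Y : A} (f : X ⟶ Y) [Mono (L.map f)]
    [PreservesColimit (parallelPair (kernel.ι f) 0) L] :
    IsIso (L.map (Abelian.factorThruImage f)) := by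
  have hk : L.map (kernel.ι f) = 0 := by
    rw [← cancel_mono (L.map f), zero_comp, ← L.map_comp, kernel.condition, L.map_zero]
  have hc := CokernelCofork.mapIsColimit (CokernelCofork.ofπ (cokernel.π (kernel.ι f)) (cokernel.condition _))
    (cokernelIsCokernel (kernel.ι f)) L
  have : IsIso (L.map (cokernel.π (kernel.ι f))) := CokernelCofork.IsColimit.isIso_π _ hc hk
  have e : cokernel.π (kernel.ι f) ≫ (Abelian.coimageImageComparison f) = Abelian.factorThruImage f := by
    rw [← cancel_mono (Abelian.image.ι f), Category.assoc, Abelian.image.fac]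
    exact Abelian.coimage_image_factorisation f
  rw [← e, L.map_comp]
  infer_instance

lemma isIso_map_imageι_of_epi {X Y : A} (f : X ⟶ Y) [Epi (L.map f)]
    [PreservesLimit (parallelPair (cokernel.π f) 0) L] :
    IsIso (L.map (Abelian.image.ι f)) := by
  have hk : L.map (cokernel.π f) = 0 := by
    rw [← cancel_epi (L.map f), comp_zero, ← L.map_comp, cokernel.condition, L.map_zero]
  have hc := KernelFork.mapIsLimit (KernelFork.ofι (kernel.ι (cokernel.π f)) (kernel.condition _))
    (kernelIsKernel (cokernel.π f)) L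
  exact KernelFork.IsLimit.isIso_ι _ hc hk

/-- The localization is abelian. -/
lemma nonempty_abelian : Nonempty (Abelian D) := by
  have := Localization.essSurj L W
  have := Localization.essSurj_mapArrow L W
  have : HasFiniteProducts D := L.hasFiniteProducts_of_additive_of_essSurj
  have hker : HasKernels D := ⟨fun {X Y} f => by
    obtain ⟨g, ⟨e⟩⟩ := (Localization.essSurj_mapArrow L W).mem_essImage (Arrow.mk f)
    have := preservesKernel W L g.hom
    have : HasLimit (parallelPair (L.map g.hom) 0) :=
      ⟨_, (KernelFork.isLimitMapConeEquiv _ L).1 (isLimitOfPreserves L (kernelIsKernel g.hom))⟩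
    exact hasLimit_of_iso (show parallelPair (L.map g.hom) 0 ≅ _ from
      parallelPair.ext (Arrow.leftFunc.mapIso e) (Arrow.rightFunc.mapIso e)
        (by simpa using e.hom.w.symm) (by simp))⟩
  have hcok : HasCokernels D := ⟨fun {X Y} f => by
    obtain ⟨g, ⟨e⟩⟩ := (Localization.essSurj_mapArrow L W).mem_essImage (Arrow.mk f)
    have := preservesCokernel W L g.hom
    have : HasColimit (parallelPair (L.map g.hom) 0) :=
      ⟨_, (CokernelCofork.isColimitMapCoconeEquiv _ L).1 (isColimitOfPreserves L (cokernelIsCokernel g.hom))⟩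
    exact hasColimit_of_iso (show _ ≅ parallelPair (L.map g.hom) 0 from
      parallelPair.ext (Arrow.leftFunc.mapIso e.symm) (Arrow.rightFunc.mapIso e.symm)
        (by simpa using e.inv.w.symm) (by simp))⟩
  have hnm : IsNormalMonoCategory D := ⟨fun {X Y} f hf => by
    let g := L.mapArrow.objPreimage (Arrow.mk f)
    let e := L.mapArrow.objObjPreimageIso (Arrow.mk f)
    have : Mono (L.map g.hom) := ((MorphismProperty.monomorphisms D).arrow_iso_iff e).2 hf
    have := preservesCokernel W L (kernel.ι g.hom)
    have := isIso_map_factorThruImage_of_mono W L g.hom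
    let e' : Arrow.mk (L.map (Abelian.image.ι g.hom)) ≅ Arrow.mk (L.map g.hom) :=
      (show Arrow.mk (L.map g.hom) ≅ Arrow.mk (L.map (Abelian.image.ι g.hom)) from
        Arrow.isoMk (asIso (L.map (Abelian.factorThruImage g.hom))) (Iso.refl _)
          (by simp [← L.map_comp])).symm
    let hm := normalMonoOfMono (Abelian.image.ι g.hom)
    have := preservesKernel W L hm.g
    refine ⟨NormalMono.ofArrowIso ?_ (e' ≪≫ e)⟩
    exact {
      Z := L.obj hm.Z
      g := L.map hm.g
      w := by rw [← L.map_comp, hm.w, L.map_zero]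
      isLimit := (KernelFork.isLimitMapConeEquiv _ L).1 (isLimitOfPreserves L hm.isLimit) }⟩
  have hne : IsNormalEpiCategory D := ⟨fun {X Y} f hf => by
    let g := L.mapArrow.objPreimage (Arrow.mk f)
    let e := L.mapArrow.objObjPreimageIso (Arrow.mk f)
    have : Epi (L.map g.hom) := ((MorphismProperty.epimorphisms D).arrow_iso_iff e).2 hf
    have := preservesKernel W L (cokernel.π g.hom)
    have := isIso_map_imageι_of_epi W L g.hom
    let e' : Arrow.mk (L.map (Abelian.factorThruImage g.hom)) ≅ Arrow.mk (L.map g.hom) :=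
      Arrow.isoMk (Iso.refl _) (asIso (L.map (Abelian.image.ι g.hom))) (by simp [← L.map_comp])
    let hm := normalEpiOfEpi (Abelian.factorThruImage g.hom)
    have := preservesCokernel W L hm.g
    refine ⟨NormalEpi.ofArrowIso ?_ (e' ≪≫ e)⟩
    exact {
      W := L.obj hm.W
      g := L.map hm.g
      w := by rw [← L.map_comp, hm.w, L.map_zero]
      isColimit := (CokernelCofork.isColimitMapCoconeEquiv _ L).1 (isColimitOfPreserves L hm.isColimit) }⟩
  exact ⟨{ }⟩

end

/-- Let A be an abelian category, W a class of morphisms admitting both left and right calculus of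
fractions, and L : A ⥤ D a localization functor for W. Then D admits the structure of an abelian
category and L is exact (preserves finite limits and finite colimits). -/
theorem result {A : Type u} [Category.{v} A] [Abelian A]
    (W : MorphismProperty A) [W.HasLeftCalculusOfFractions] [W.HasRightCalculusOfFractions]
    {D : Type u'} [Category.{v'} D] (L : A ⥤ D) [L.IsLocalization W] :
    Nonempty (Abelian D) ∧ PreservesFiniteLimits L ∧ PreservesFiniteColimits L := by
  letI : Preadditive D := Localization.preadditive L W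
  haveI : L.Additive := Localization.functor_additive L W
  obtain ⟨hab⟩ := nonempty_abelian W L
  haveI : PreservesBinaryBiproducts L := preservesBinaryBiproducts_of_preservesBiproducts L
  haveI : HasZeroObject D := L.hasZeroObject_of_additive
  haveI : HasFiniteProducts D := @Abelian.has_finite_products _ _ hab
  refine ⟨⟨hab⟩, ?_, ?_⟩
  · haveI : ∀ {X Y : A} (f : X ⟶ Y), PreservesLimit (parallelPair f 0) L := preservesKernel W L
    exact Functor.preservesFiniteLimits_of_preservesKernels L
  · haveI : ∀ {X Y : A} (f : X ⟶ Y), PreservesColimit (parallelPair f 0) L := preservesCokernel W L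
    exact Functor.preservesFiniteColimits_of_preservesCokernels L

end Groth.Agent.S1072
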