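import Groth.Statements.S10721
import Mathlib
import Groth.Agent.CAlgH.BLGlue5
import Groth.Agent.CAlgH.BLGlue6

set_option autoImplicit false
universe u
open TensorProduct
open EtAlg

namespace Groth.Agent.S10721

/-- Glueing along a glueing pair detects closed immersions of affine schemes, stated for coordinate
rings. Let `(R → R', f)` be a glueing pair and `φ : A → B` a homomorphism of `R`-algebras with `A`,
`B` glueable as `R`-modules (so `Spec A`, `Spec B` are affine and glueable over `Spec R`). Then `φ`
is surjective (a closed immersion on spectra) if and only if `A_f → B_f` and `R' ⊗_R A → R' ⊗_R B`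
are surjective. -/
theorem result (R : Type u) [CommRing R] (R' : Type u) [CommRing R'] [Algebra R R'] (f : R)
    (hRR' : EtGlue.IsGlueingPair R R' f) (A B : Type u) [CommRing A] [Algebra R A] [CommRing B] [Algebra R B]
    (hA : EtGlue.IsGlueable R R' f A) (hB : EtGlue.IsGlueable R R' f B) (φ : A →ₐ[R] B) :
    Function.Surjective φ ↔
      Function.Surjective (Localization.awayMap φ.toRingHom (algebraMap R A f)) ∧ Function.Surjective (Algebra.TensorProduct.map (AlgHom.id R R') φ).toRingHom := by
  open Groth.Agent.CAlgH.BLGlue in
  letI : Algebra A B := φ.toRingHom.toAlgebra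
  have : IsScalarTower R A B := IsScalarTower.of_algebraMap_eq fun r => (φ.commutes r).symm
  refine Iff.trans ?_ (and_congr (iff_awayMap φ (fun g => Function.Surjective g) RingHom.surjective_respectsIso (fun _ => rfl) _).symm
    (iff_tensor_map φ (fun g => Function.Surjective g) RingHom.surjective_respectsIso (fun _ => rfl)).symm)
  letI := (Algebra.TensorProduct.rightAlgebra : Algebra A (R' ⊗[R] A))
  show Function.Surjective (algebraMap A B) ↔ _
  refine ⟨fun hs => ?_, fun ⟨h1, h2⟩ => surjective_of_tensor (relPair hRR' hA) h1 h2⟩
  have key : ∀ (S : Type u) [CommRing S] [Algebra A S], Function.Surjective (algebraMap S (S ⊗[A] B)) := by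
    intro S _ _ z
    induction z using TensorProduct.induction_on with
    | zero => exact ⟨0, map_zero _⟩
    | tmul s b =>
      obtain ⟨a, rfl⟩ := hs b
      refine ⟨a • s, ?_⟩
      rw [Algebra.TensorProduct.algebraMap_apply, Algebra.algebraMap_self, RingHom.id_apply,
        Algebra.algebraMap_eq_smul_one a, TensorProduct.tmul_smul, TensorProduct.smul_tmul']
    | add a b ha hb =>
      obtain ⟨x, rfl⟩ := ha
      obtain ⟨y, rfl⟩ := hb
      exact ⟨x + y, map_add _ _ _⟩
  exact ⟨key _, key _⟩

end Groth.Agent.S10721
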