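import Groth.Statements.S10723
import Mathlib
import Groth.Agent.CAlgH.BLGlue5
import Groth.Agent.CAlgH.BLGlue6

set_option autoImplicit false
universe u
open TensorProduct
open EtAlg

namespace Groth.Agent.S10723

/-- Glueing along a glueing pair detects morphisms of affine schemes that are flat and of finite
presentation, stated for coordinate rings. Let `(R → R', f)` be a glueing pair and `φ : A → B` a
homomorphism of `R`-algebras with `A`, `B` glueable as `R`-modules (so `Spec A`, `Spec B` are affine
and glueable over `Spec R`). Then `φ` is flat and of finite presentation if and only if `A_f → B_f`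
and `R' ⊗_R A → R' ⊗_R B` are. -/
theorem result (R : Type u) [CommRing R] (R' : Type u) [CommRing R'] [Algebra R R'] (f : R)
    (hRR' : EtGlue.IsGlueingPair R R' f) (A B : Type u) [CommRing A] [Algebra R A] [CommRing B] [Algebra R B]
    (hA : EtGlue.IsGlueable R R' f A) (hB : EtGlue.IsGlueable R R' f B) (φ : A →ₐ[R] B) :
    (φ.toRingHom.Flat ∧ φ.toRingHom.FinitePresentation) ↔
      ((Localization.awayMap φ.toRingHom (algebraMap R A f)).Flat ∧ (Localization.awayMap φ.toRingHom (algebraMap R A f)).FinitePresentation) ∧
        ((Algebra.TensorProduct.map (AlgHom.id R R') φ).toRingHom.Flat ∧ (Algebra.TensorProduct.map (AlgHom.id R R') φ).toRingHom.FinitePresentation) := by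
  open Groth.Agent.CAlgH.BLGlue in
  letI : Algebra A B := φ.toRingHom.toAlgebra
  have : IsScalarTower R A B := IsScalarTower.of_algebraMap_eq fun r => (φ.commutes r).symm
  rw [iff_awayMap φ RingHom.Flat RingHom.Flat.respectsIso (fun _ => rfl),
    iff_tensor_map φ RingHom.Flat RingHom.Flat.respectsIso (fun _ => rfl), RingHom.flat_algebraMap_iff,
    RingHom.flat_algebraMap_iff, iff_awayMap φ RingHom.FinitePresentation RingHom.finitePresentation_respectsIso (fun _ => rfl),
    iff_tensor_map φ RingHom.FinitePresentation RingHom.finitePresentation_respectsIso (fun _ => rfl),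
    RingHom.finitePresentation_algebraMap, RingHom.finitePresentation_algebraMap]
  show Module.Flat A B ∧ Algebra.FinitePresentation A B ↔ _
  letI := (Algebra.TensorProduct.rightAlgebra : Algebra A (R' ⊗[R] A))
  refine ⟨fun ⟨_, _⟩ => ⟨⟨inferInstance, inferInstance⟩, inferInstance, inferInstance⟩, fun ⟨⟨_, _⟩, _, _⟩ => ?_⟩
  have := flat_of (relPair hRR' hA) B
  exact ⟨this, finitePresentation_of (relPair hRR' hA)⟩

end Groth.Agent.S10723
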