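import Groth.Statements.S10727
import Mathlib
import Groth.Agent.CAlgH.BLGlue4

set_option autoImplicit false
universe u
open TensorProduct
open EtAlg

namespace Groth.Agent.S10727

/-- Glueing affine schemes along a glueing pair, stated for their coordinate rings. Let `(R → R', f)` be
a glueing pair, `A₁` an `R`-algebra in which `f` is invertible, `A'` an `R'`-algebra and `φ : A'_f ≅
R' ⊗_R A₁` an isomorphism of `R'`-algebras. Then there is an `R`-algebra `A`, glueable as an
`R`-module, with isomorphisms `A_f ≅ A₁` of `R`-algebras and `R' ⊗_R A ≅ A'` of `R'`-algebras under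
which `φ` is the canonical identification `(R' ⊗_R A)_f = R' ⊗_R A_f`. (The published statement is
that base change is an equivalence between affine schemes over `Spec R` that are glueable and
triples of affine schemes over `Spec R_f`, `Spec R'_f`, `Spec R'` with cartesian squares; this row
states only that every such triple arises, on coordinate rings.) -/
theorem result (R : Type u) [CommRing R] (R' : Type u) [CommRing R'] [Algebra R R']
    (f : R) (hRR' : EtGlue.IsGlueingPair R R' f) (A₁ : Type u) [CommRing A₁] [Algebra R A₁]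
    (h₁ : IsUnit (algebraMap R A₁ f)) (A' : Type u) [CommRing A'] [Algebra R A'] [Algebra R' A']
    [IsScalarTower R R' A'] (φ : Localization.Away (algebraMap R A' f) ≃ₐ[R'] R' ⊗[R] A₁) :
    ∃ (A : Type u) (_ : CommRing A) (_ : Algebra R A) (_ : EtGlue.IsGlueable R R' f A)
      (e₁ : Localization.Away (algebraMap R A f) ≃ₐ[R] A₁) (e' : R' ⊗[R] A ≃ₐ[R'] A'),
      ∀ a : A, φ (algebraMap A' (Localization.Away (algebraMap R A' f)) (e' ((1 : R') ⊗ₜ[R] a))) =
        (1 : R') ⊗ₜ[R] e₁ (algebraMap A (Localization.Away (algebraMap R A f)) a) := by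
  let γ : A' →ₐ[R'] R' ⊗[R] A₁ := φ.toAlgHom.comp (IsScalarTower.toAlgHom R' A' (Localization.Away (algebraMap R A' f)))
  let l : A' × A₁ →ₐ[R] R' ⊗[R] A₁ := (γ.restrictScalars R).comp (AlgHom.fst R A' A₁)
  let r : A' × A₁ →ₐ[R] R' ⊗[R] A₁ := Algebra.TensorProduct.includeRight.comp (AlgHom.snd R A' A₁)
  let A := AlgHom.equalizer l r
  let q' : A →ₐ[R] A' := (AlgHom.fst R A' A₁).comp A.val
  let q₁ : A →ₐ[R] A₁ := (AlgHom.snd R A' A₁).comp A.val
  have d : Groth.Agent.CAlgH.BLGlue.PullData f γ.toLinearMap q'.toLinearMap q₁.toLinearMap :=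
    { bij := by
        have : (fun x : A₁ => f • x) = fun x => algebraMap R A₁ f * x := funext fun x => Algebra.smul_def f x
        rw [this]
        obtain ⟨v, hv⟩ := h₁; rw [← hv]; exact v.mulLeft_bijective
      comm := fun m => m.2
      ext := fun m e1 e2 => Subtype.ext (Prod.ext e1 e2)
      lift := fun x' x₁ hx => ⟨⟨(x', x₁), hx⟩, rfl, rfl⟩
      ker_torsion := fun x hx => by
        obtain ⟨⟨_, n, rfl⟩, hn⟩ := (IsLocalization.map_eq_zero_iff (Submonoid.powers (algebraMap R A' f))
          (Localization.Away (algebraMap R A' f)) x).mp (φ.injective (hx.trans (map_zero φ).symm))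
        exact ⟨n, by rw [Algebra.smul_def, map_pow]; exact hn⟩
      surj := fun k => by
        obtain ⟨n, x, hx⟩ := IsLocalization.Away.surj (algebraMap R A' f) (φ.symm k)
        refine ⟨n, x, ?_⟩
        have h2 := congrArg φ hx
        rw [map_mul, φ.apply_symm_apply, map_pow, ← IsScalarTower.algebraMap_apply R A',
          IsScalarTower.algebraMap_apply R R' (Localization.Away (algebraMap R A' f)), φ.commutes, mul_comm,
          ← IsScalarTower.algebraMap_apply, ← map_pow, ← Algebra.smul_def] at h2
        exact h2 }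
  letI : Algebra A A₁ := q₁.toRingHom.toAlgebra
  have : IsScalarTower R A A₁ := IsScalarTower.of_algebraMap_eq fun a => rfl
  have hl : IsLocalizedModule (Submonoid.powers f) (IsScalarTower.toAlgHom R A A₁).toLinearMap := d.isLocalizedModule
  have hl' : IsLocalization (Submonoid.powers (algebraMap R A f)) A₁ := by
    have := isLocalizedModule_iff_isLocalization.mp hl
    rwa [Algebra.algebraMapSubmonoid, Submonoid.map_powers] at this
  let e₁ : Localization.Away (algebraMap R A f) ≃ₐ[R] A₁ :=
    (IsLocalization.algEquiv (Submonoid.powers (algebraMap R A f)) (Localization.Away (algebraMap R A f)) A₁).restrictScalars R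
  let θ : R' ⊗[R] A →ₐ[R'] A' := Algebra.TensorProduct.lift (Algebra.ofId R' A') q' (fun _ _ => Commute.all _ _)
  have hθ : ∀ z, θ z = q'.toLinearMap.liftBaseChange R' z := by
    intro z
    induction z using TensorProduct.induction_on with
    | zero => simp
    | tmul s a => simp [θ, Algebra.ofId_apply, Algebra.smul_def]
    | add a b ha hb => simp only [map_add, ha, hb]
  have hb : Function.Bijective θ := by
    rw [funext hθ]; exact ⟨d.injective hRR', d.surjective hRR'⟩
  refine ⟨A, inferInstance, inferInstance, d.isGlueable hRR', e₁, AlgEquiv.ofBijective θ hb, fun a => ?_⟩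
  have h1 : e₁ (algebraMap A (Localization.Away (algebraMap R A f)) a) = q₁ a :=
    (IsLocalization.algEquiv (Submonoid.powers (algebraMap R A f)) (Localization.Away (algebraMap R A f)) A₁).commutes a
  rw [h1]
  have h2 : θ ((1 : R') ⊗ₜ[R] a) = q' a := by simp [θ]
  show γ (θ ((1 : R') ⊗ₜ[R] a)) = _
  rw [h2]
  exact a.2

end Groth.Agent.S10727
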