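import Groth.Statements.S1075
import Groth.Agent.DerCat.KInjProducts
import Mathlib.Algebra.Homology.Factorizations.CM5a
import Mathlib.Algebra.Homology.DerivedCategory.TStructure

set_option autoImplicit false
set_option backward.isDefEq.respectTransparency false
set_option backward.defeqAttrib.useBackward true
universe w v u
open CategoryTheory CategoryTheory.Limits
open CohDer

namespace Groth.Agent.S1075

/-- In D(A), for A abelian with enough injectives and countable products, every sequence of
bounded-below objects has a product, so derived limits of such sequences exist. -/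
theorem result {A : Type u} [Category.{v} A] [Abelian A] [HasDerivedCategory.{w} A]
    [HasLimitsOfShape (Discrete ℕ) A] [EnoughInjectives A]
    (K : ℕ → DerivedCategory A) (hK : ∀ n, ∃ a : ℤ, (K n).IsGE a) : HasProduct K := by
  choose a ha using hK
  have hI : ∀ n, ∃ I : CochainComplex A ℤ, I.IsKInjective ∧
      Nonempty (DerivedCategory.Q.obj I ≅ K n) := fun n ↦ by
    haveI := ha n
    obtain ⟨M, hM, ⟨e⟩⟩ := DerivedCategory.exists_iso_Q_obj_of_isGE (K n) (a n)
    obtain ⟨L, i, hi, hL, hge⟩ := CochainComplex.Plus.modelCategoryQuillen.exists_quasiIso_injective M (a n)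
    haveI := hL
    exact ⟨L, CochainComplex.isKInjective_of_injective L (a n),
      ⟨(asIso (DerivedCategory.Q.map i)).symm ≪≫ e.symm⟩⟩
  choose I hI hiso using hI
  haveI := hI
  exact DerCat.hasProduct_of_isKInjective K I fun n ↦ (hiso n).some

end Groth.Agent.S1075
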