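import Groth.Statements.S1076
-- import your own Groth.Agent.* helpers here

set_option autoImplicit false
universe v u
open CategoryTheory
open DerLim

namespace Groth.Agent.S1076

open CategoryTheory.Limits CategoryTheory.Pretriangulated ZeroObject

section

variable {D : Type u} [Category.{v} D] [Preadditive D] [HasCoproducts.{v} D]

/-- Projection from a direct sum to a summand. -/
noncomputable def proj {ι : Type v} (X : ι → D) (i : ι) : (∐ X) ⟶ X i :=
  open Classical in Sigma.desc fun k => if h : k = i then eqToHom (by rw [h]) else 0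

@[reassoc]
lemma ι_proj_self {ι : Type v} (X : ι → D) (i : ι) : Sigma.ι X i ≫ proj X i = 𝟙 _ := by
  simp [proj]

@[reassoc]
lemma ι_proj_ne {ι : Type v} (X : ι → D) {k i : ι} (h : k ≠ i) :
    Sigma.ι X k ≫ proj X i = 0 := by
  simp [proj, h]

/-- The idempotent of a finite set of summands. -/
noncomputable def idem {ι : Type v} (X : ι → D) (S : Finset ι) : (∐ X) ⟶ ∐ X :=
  ∑ i ∈ S, proj X i ≫ Sigma.ι X i

@[reassoc]
lemma ι_idem {ι : Type v} (X : ι → D) {S : Finset ι} {k : ι} (hk : k ∈ S) :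
    Sigma.ι X k ≫ idem X S = Sigma.ι X k := by
  rw [idem, Preadditive.comp_sum, Finset.sum_eq_single k]
  · rw [ι_proj_self_assoc]
  · intro b _ hb
    rw [ι_proj_ne_assoc _ hb.symm, zero_comp]
  · exact fun h => absurd hk h

lemma idem_comp {ι : Type v} (X : ι → D) {S T : Finset ι} (h : S ⊆ T) :
    idem X S ≫ idem X T = idem X S := by
  rw [idem, Preadditive.sum_comp]
  refine Finset.sum_congr rfl fun i hi => ?_
  rw [Category.assoc, ι_idem X (h hi)]

/-- An object all whose maps to direct sums live on finitely many summands. -/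
def Small (K : D) : Prop :=
  ∀ (ι : Type v) (X : ι → D) (f : K ⟶ ∐ X), ∃ S : Finset ι, f ≫ idem X S = f

lemma small_aux {ι : Type v} (X : ι → D) {K : D} {S T : Finset ι} (h : S ⊆ T) {f : K ⟶ ∐ X}
    (hf : f ≫ idem X S = f) : f ≫ idem X T = f := by
  conv_lhs => rw [← hf, Category.assoc, idem_comp X h]
  exact hf

lemma small_of_isCompactObject {K : D} (hK : CohDer.IsCompactObject K) : Small K := by
  classical
  intro ι X f
  obtain ⟨x, rfl⟩ := (hK ι X).2 f
  induction x using DirectSum.induction_on with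
  | zero => exact ⟨∅, by simp⟩
  | of i a =>
    refine ⟨{i}, ?_⟩
    simp [CohDer.homSumToHomCoprod, Preadditive.rightComp, ι_idem]
  | add a b ha hb =>
    obtain ⟨S, hS⟩ := ha
    obtain ⟨T, hT⟩ := hb
    refine ⟨S ∪ T, ?_⟩
    rw [map_add, Preadditive.add_comp, small_aux X Finset.subset_union_left hS,
      small_aux X Finset.subset_union_right hT]

variable [HasZeroObject D] [HasShift D ℤ]
    [∀ n : ℤ, (shiftFunctor D n).Additive] [Pretriangulated D]

/-- `Small` as an object property. -/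
def smallProp : ObjectProperty D := fun K => Small K

instance : (smallProp (D := D)).IsStableUnderRetracts where
  of_retract := by
    intro X Y r hY ι Z f
    obtain ⟨S, hS⟩ := hY ι Z (r.r ≫ f)
    refine ⟨S, ?_⟩
    have := congrArg (fun q => r.i ≫ q) hS
    simpa [Category.assoc, reassoc_of% r.retract] using this

instance : (smallProp (D := D)).ContainsZero where
  exists_zero := ⟨0, isZero_zero D, fun ι X f => ⟨∅, (isZero_zero D).eq_of_src _ _⟩⟩

instance : (smallProp (D := D)).IsStableUnderShift ℤ where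
  isStableUnderShiftBy a := ObjectProperty.IsStableUnderShiftBy.mk <| by
    intro K hK
    rw [ObjectProperty.prop_shift_iff]
    intro ι X f
    let F := shiftFunctor D a
    let Y : ι → D := fun i => F.objPreimage (X i)
    let κ : F.obj (∐ Y) ≅ ∐ X :=
      PreservesCoproduct.iso F Y ≪≫ Sigma.mapIso (fun i => F.objObjPreimageIso (X i))
    obtain ⟨g, hg⟩ := F.map_surjective (f ≫ κ.inv)
    obtain ⟨S, hS⟩ := hK ι Y g
    refine ⟨S, ?_⟩
    have hι : ∀ i, F.map (Sigma.ι Y i) ≫ κ.hom =
        (F.objObjPreimageIso (X i)).hom ≫ Sigma.ι X i := by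
      intro i
      have : F.map (Sigma.ι Y i) ≫ (PreservesCoproduct.iso F Y).hom =
          Sigma.ι (fun i => F.obj (Y i)) i := by
        rw [← cancel_mono (PreservesCoproduct.iso F Y).inv, Category.assoc, Iso.hom_inv_id, Category.comp_id, PreservesCoproduct.inv_hom, ι_comp_sigmaComparison]
      simp [κ, reassoc_of% this]
    have hf : f = ∑ i ∈ S,
        (F.map (g ≫ proj Y i) ≫ (F.objObjPreimageIso (X i)).hom) ≫ Sigma.ι X i := by
      have h1 : f = F.map g ≫ κ.hom := by rw [hg, Category.assoc, κ.inv_hom_id, Category.comp_id]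
      conv_lhs => rw [h1, ← hS]
      simp [idem, Preadditive.comp_sum, Preadditive.sum_comp, hι]
    conv_lhs => rw [hf, Preadditive.sum_comp]
    conv_rhs => rw [hf]
    exact Finset.sum_congr rfl fun i hi => by rw [Category.assoc, ι_idem X hi]

instance : (smallProp (D := D)).IsTriangulatedClosed₂ :=
  ObjectProperty.IsTriangulatedClosed₂.mk' <| by
    intro T hT hA hC ι X f
    classical
    obtain ⟨S, hS⟩ := hA ι X (T.mor₁ ≫ f)
    obtain ⟨c, hc⟩ := T.yoneda_exact₂ hT (f - f ≫ idem X S) (by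
      rw [Preadditive.comp_sub, ← Category.assoc, hS, sub_self])
    obtain ⟨S', hS'⟩ := hC ι X c
    refine ⟨S ∪ S', ?_⟩
    have h1 : (f - f ≫ idem X S) ≫ idem X (S ∪ S') = f - f ≫ idem X S := by
      rw [hc, Category.assoc, small_aux X Finset.subset_union_right hS']
    rw [Preadditive.sub_comp, Category.assoc, idem_comp X Finset.subset_union_left] at h1
    simpa using h1

instance : (smallProp (D := D)).IsTriangulated where

variable [IsTriangulated D] {ι : Type v} (E : ι → D)

/-- The finite subfamily of `E`. -/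
abbrev sub (s : Finset ι) : ObjectProperty D := fun Y => ∃ i ∈ s, Y = E i

omit [HasCoproducts.{v} D] in
lemma env_mono {s t : Finset ι} (h : s ⊆ t) {Y : D}
    (hY : (sub E s).triangEnvelope Y) : (sub E t).triangEnvelope Y :=
  ObjectProperty.monotone_triangEnvelope
    (P := sub E s) (Q := sub E t) (fun _ ⟨i, hi, e⟩ => ⟨i, h hi, e⟩) _ hY

omit [HasCoproducts.{v} D] [IsTriangulated D] in
lemma sub_nonempty {s : Finset ι} (h : s.Nonempty) : (sub E s).Nonempty :=
  ⟨⟨E h.choose, h.choose, h.choose_spec, rfl⟩⟩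

lemma small_of_env (hc : ∀ i, CohDer.IsCompactObject (E i)) {s : Finset ι} {Y : D}
    (hY : (sub E s).triangEnvelope Y) : Small Y :=
  (ObjectProperty.triangEnvelope_le_iff (P := sub E s) (Q := smallProp)).2
    (fun _ ⟨i, _, e⟩ => e ▸ small_of_isCompactObject (hc i)) _ hY

/-- Factorisation through the envelope of a finite subfamily. -/
def Fac {C Z : D} (f : C ⟶ Z) : Prop :=
  ∃ (s : Finset ι) (_ : s.Nonempty) (E' : D) (g : C ⟶ E') (h : E' ⟶ Z),
    (sub E s).triangEnvelope E' ∧ g ≫ h = f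

omit [HasCoproducts.{v} D] in
lemma Fac.add {C Z : D} {f f' : C ⟶ Z} (h1 : Fac E f) (h2 : Fac E f') : Fac E (f + f') := by
  classical
  obtain ⟨s, hs, E1, g1, k1, hE1, rfl⟩ := h1
  obtain ⟨t, _, E2, g2, k2, hE2, rfl⟩ := h2
  refine ⟨s ∪ t, hs.mono Finset.subset_union_left, E1 ⊞ E2, biprod.lift g1 g2,
    biprod.desc k1 k2, ?_, biprod.lift_desc⟩
  exact (sub E (s ∪ t)).triangEnvelope.ext_of_isTriangulatedClosed₂ _
    (binaryBiproductTriangle_distinguished E1 E2)
    (env_mono E Finset.subset_union_left hE1) (env_mono E Finset.subset_union_right hE2)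

omit [HasCoproducts.{v} D] in
lemma Fac.zero [Nonempty ι] {C Z : D} : Fac E (0 : C ⟶ Z) := by
  classical
  obtain ⟨i⟩ := ‹Nonempty ι›
  have := sub_nonempty E (Finset.singleton_nonempty i)
  obtain ⟨O, hO, hO'⟩ :=
    (sub E {i}).triangEnvelope.exists_prop_of_containsZero
  exact ⟨{i}, Finset.singleton_nonempty i, O, 0, 0, hO', by simp⟩

lemma fac_of_small [Nonempty ι] {κ : Type v} (X : κ → D)
    (hX : ∀ k, ∃ i, (sub E {i}).triangEnvelope (X k)) {C : D} (hC : Small C) {Z : D}
    (e : Z ≅ ∐ X) (f : C ⟶ Z) : Fac E f := by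
  classical
  obtain ⟨S, hS⟩ := hC κ X (f ≫ e.hom)
  have : f = ∑ k ∈ S, (f ≫ e.hom ≫ proj X k) ≫ (Sigma.ι X k ≫ e.inv) := by
    have h1 := congrArg (fun q => q ≫ e.inv) hS
    simp only [idem, Preadditive.comp_sum, Preadditive.sum_comp, Category.assoc, e.hom_inv_id,
      Category.comp_id] at h1
    simpa only [Category.assoc] using h1.symm
  rw [this]
  refine Finset.sum_induction _ (fun q => Fac E q) (fun _ _ => Fac.add E) (Fac.zero E) ?_
  intro k _
  obtain ⟨i, hi⟩ := hX k
  exact ⟨{i}, Finset.singleton_nonempty i, _, _, _, hi, rfl⟩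

end

lemma main {D : Type u} [Category.{v} D] [Preadditive D] [Limits.HasZeroObject D] [HasShift D ℤ]
    [∀ n : ℤ, (shiftFunctor D n).Additive] [Pretriangulated D] [IsTriangulated D] [HasCoproducts.{v} D]
    {ι : Type v} [Nonempty ι] (E : ι → D) (hc : ∀ i, CohDer.IsCompactObject (E i))
    (K : ℕ → D) (f : ∀ n, K n ⟶ K (n + 1))
    (h0 : ∃ (κ : Type v) (a : κ → ι) (m : κ → ℤ), Nonempty (K 0 ≅ ∐ (fun k => (shiftFunctor D (m k)).obj (E (a k)))))
    (hstep : ∀ n, ∃ (κ : Type v) (a : κ → ι) (m : κ → ℤ) (y : (∐ fun k => (shiftFunctor D (m k)).obj (E (a k))) ⟶ K n)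
      (z : K (n + 1) ⟶ (shiftFunctor D (1 : ℤ)).obj (∐ fun k => (shiftFunctor D (m k)).obj (E (a k)))),
      Triangle.mk y (f n) z ∈ distinguishedTriangles)
    (n : ℕ) : ∀ (C : D), Small C → ∀ φ : C ⟶ K n, Fac E φ := by
  classical
  have henv : ∀ (i : ι) (m : ℤ), (sub E {i}).triangEnvelope ((shiftFunctor D m).obj (E i)) :=
    fun i m => (sub E {i}).triangEnvelope.le_shift m _
      (ObjectProperty.le_triangEnvelope _ _ ⟨i, Finset.mem_singleton_self i, rfl⟩)
  induction n with
  | zero =>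
    intro C hC φ
    obtain ⟨κ, a, m, ⟨e⟩⟩ := h0
    exact fac_of_small E _ (fun k => ⟨a k, henv (a k) (m k)⟩) hC e φ
  | succ n ih =>
    intro C hC φ
    obtain ⟨κ, a, m, y, z, hT⟩ := hstep n
    obtain ⟨s, hs, E0, g0, h0, hE0, hu⟩ := fac_of_small E _
      (fun k => ⟨a k, (sub E {a k}).triangEnvelope.le_shift (1 : ℤ) _ (henv (a k) (m k))⟩) hC
      (PreservesCoproduct.iso (shiftFunctor D (1 : ℤ))
        (fun k => (shiftFunctor D (m k)).obj (E (a k)))) (φ ≫ z)
    let Y' := (shiftFunctor D (1 : ℤ)).objPreimage E0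
    let ε : (shiftFunctor D (1 : ℤ)).obj Y' ≅ E0 := (shiftFunctor D (1 : ℤ)).objObjPreimageIso E0
    obtain ⟨j, hj⟩ := (shiftFunctor D (1 : ℤ)).map_surjective (ε.hom ≫ h0)
    have := sub_nonempty E hs
    have hY1 : (sub E s).triangEnvelope ((shiftFunctor D (1 : ℤ)).obj Y') :=
      (sub E s).triangEnvelope.prop_of_iso ε.symm hE0
    have hY : (sub E s).triangEnvelope Y' :=
      (sub E s).triangEnvelope.prop_of_iso ((shiftEquiv D (1 : ℤ)).unitIso.app Y').symm
        ((sub E s).triangEnvelope.le_shift (-1 : ℤ) _ hY1)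
    obtain ⟨C', a', b', hT'⟩ := distinguished_cocone_triangle₂ (g0 ≫ ε.inv)
    have hC' : Small C' :=
      (smallProp (D := D)).ext_of_isTriangulatedClosed₂ _ hT' (small_of_env E hc hY) hC
    obtain ⟨φ', hφ'1, hφ'2⟩ := complete_distinguished_triangle_morphism₂ _ _ hT' hT j φ
      (show (g0 ≫ ε.inv) ≫ (shiftFunctor D (1 : ℤ)).map j = φ ≫ z by
        rw [hj, Category.assoc, Iso.inv_hom_id_assoc, hu])
    change C' ⟶ K n at φ'
    replace hφ'1 : a' ≫ φ' = j ≫ y := hφ'1
    replace hφ'2 : b' ≫ φ = φ' ≫ f n := hφ'2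
    obtain ⟨t, ht, E1, g', h', hE1, hg'⟩ := ih C' hC' φ'
    obtain ⟨E2, p, q, hT2⟩ := distinguished_cocone_triangle (a' ≫ g')
    obtain ⟨g, hg1, hg2⟩ := complete_distinguished_triangle_morphism _ _ hT' hT2 (𝟙 Y') g'
      (Category.id_comp _).symm
    obtain ⟨h, hh1, hh2⟩ := complete_distinguished_triangle_morphism _ _ hT2 hT j h'
      (show (a' ≫ g') ≫ h' = j ≫ y by rw [Category.assoc, hg']; exact hφ'1)
    replace hg1 : b' ≫ g = g' ≫ p := hg1
    replace hh1 : p ≫ h = h' ≫ f n := hh1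
    change E2 ⟶ K (n + 1) at h
    change C ⟶ E2 at g
    have hd : b' ≫ (φ - g ≫ h) = 0 := by
      rw [Preadditive.comp_sub, sub_eq_zero]
      calc b' ≫ φ = φ' ≫ f n := hφ'2
        _ = g' ≫ (h' ≫ f n) := by rw [← hg', Category.assoc]
        _ = g' ≫ (p ≫ h) := congrArg (fun q => g' ≫ q) hh1.symm
        _ = (g' ≫ p) ≫ h := (Category.assoc _ _ _).symm
        _ = (b' ≫ g) ≫ h := congrArg (fun q => q ≫ h) hg1.symm
        _ = b' ≫ g ≫ h := Category.assoc _ _ _
    obtain ⟨d, hd'⟩ : ∃ d, φ - g ≫ h = (g0 ≫ ε.inv) ≫ d :=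
      Triangle.yoneda_exact₃ _ hT' (φ - g ≫ h) hd
    have hE2 : Fac E (g ≫ h) := by
      have := sub_nonempty E (hs.mono (Finset.subset_union_left (s₂ := t)))
      exact ⟨s ∪ t, hs.mono Finset.subset_union_left, E2, g, h,
        (sub E (s ∪ t)).triangEnvelope.ext_of_isTriangulatedClosed₃ _ hT2
          (env_mono E Finset.subset_union_left hY) (env_mono E Finset.subset_union_right hE1),
        rfl⟩
    have hd2 : Fac E (φ - g ≫ h) := ⟨s, hs, _, _, d, hY1, hd'.symm⟩
    simpa using Fac.add E hE2 hd2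

open CategoryTheory.Limits CategoryTheory.Pretriangulated in
/-- Let D be a triangulated category with all small direct sums and E a small nonempty family of compact
objects (nonempty so that the envelope of a finite subfamily can contain a zero object). Let X₀ → X₁
→ … be a sequential system in which X₀ is a direct sum of shifts of members of E and each Xₙ → Xₙ₊₁
sits in a distinguished triangle Yₙ → Xₙ → Xₙ₊₁ → Yₙ[1] with Yₙ a direct sum of shifts of members of
E. Then every morphism from a compact object C to some Xₙ factors through an object of the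
triangulated envelope (closure under shifts, finite sums, summands and extensions) of finitely many
members of E. -/
theorem result {D : Type u} [Category.{v} D] [Preadditive D] [Limits.HasZeroObject D] [HasShift D ℤ]
    [∀ n : ℤ, (shiftFunctor D n).Additive] [Pretriangulated D] [IsTriangulated D] [HasCoproducts.{v} D]
    {ι : Type v} [Nonempty ι] (E : ι → D) (hc : ∀ i, CohDer.IsCompactObject (E i))
    (K : ℕ → D) (f : ∀ n, K n ⟶ K (n + 1))
    (h0 : ∃ (κ : Type v) (a : κ → ι) (m : κ → ℤ), Nonempty (K 0 ≅ ∐ (fun k => (shiftFunctor D (m k)).obj (E (a k)))))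
    (hstep : ∀ n, ∃ (κ : Type v) (a : κ → ι) (m : κ → ℤ) (y : (∐ fun k => (shiftFunctor D (m k)).obj (E (a k))) ⟶ K n)
      (z : K (n + 1) ⟶ (shiftFunctor D (1 : ℤ)).obj (∐ fun k => (shiftFunctor D (m k)).obj (E (a k)))),
      Triangle.mk y (f n) z ∈ distinguishedTriangles)
    (C : D) (hC : CohDer.IsCompactObject C) (n : ℕ) (φ : C ⟶ K n) :
    ∃ (s : Finset ι) (E' : D) (g : C ⟶ E') (h : E' ⟶ K n),
      ObjectProperty.triangEnvelope (fun Y : D => ∃ i ∈ s, Y = E i) E' ∧ g ≫ h = φ := by
  obtain ⟨s, -, E', g, h, hE, hgh⟩ := main E hc K f h0 hstep n C (small_of_isCompactObject hC) φ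
  exact ⟨s, E', g, h, hE, hgh⟩

end Groth.Agent.S1076
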