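import Groth.Statements.S1077
import Mathlib

set_option autoImplicit false
universe v u
open CategoryTheory CategoryTheory.Limits
open CohDer


namespace Groth.Agent.S1077

set_option backward.isDefEq.respectTransparency false
set_option backward.defeqAttrib.useBackward true

section

variable {A : Type u} [Category.{v} A] [Abelian A] {X : A}

lemma simple_cokernel_iff {a b : Subobject X} (h : a ≤ b) :
    Simple (cokernel (Subobject.ofLE a b h)) ↔ a ⋖ b := by
  constructor
  · intro hs
    refine ⟨lt_of_le_of_ne h fun e => ?_, fun c hac hcb => ?_⟩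
    · subst e
      haveI : IsIso (Subobject.ofLE a a h) := by rw [Subobject.ofLE_refl]; infer_instance
      exact Simple.not_isZero (cokernel (Subobject.ofLE a a h)) (isZero_cokernel_of_epi _)
    · let π := cokernel.π (Subobject.ofLE a b h)
      let g := Subobject.ofLE c b hcb.le ≫ π
      by_cases hg : g = 0
      · refine hac.not_ge (Subobject.le_of_comm (Abelian.monoLift (Subobject.ofLE a b h) (Subobject.ofLE c b hcb.le) hg) ?_)
        rw [← Subobject.ofLE_arrow h, ← Category.assoc, Abelian.monoLift_comp, Subobject.ofLE_arrow]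
      · haveI : Epi g := epi_of_nonzero_to_simple hg
        haveI : Epi (Subobject.ofLE c b hcb.le) := Preadditive.epi_of_cancel_zero _ fun {R} q hq => by
          have ha : Subobject.ofLE a b h ≫ q = 0 := by
            rw [← Subobject.ofLE_comp_ofLE a c b hac.le hcb.le, Category.assoc, hq, comp_zero]
          have h2 : g ≫ cokernel.desc _ q ha = 0 := by
            simp only [g, π, Category.assoc, cokernel.π_desc, hq]
          rw [← cokernel.π_desc _ q ha, show cokernel.desc _ q ha = 0 from zero_of_epi_comp g h2, comp_zero]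
        haveI := isIso_of_mono_of_epi (Subobject.ofLE c b hcb.le)
        exact hcb.not_ge (Subobject.le_of_comm (inv (Subobject.ofLE c b hcb.le)) (by simp))
  · intro hc
    let π := cokernel.π (Subobject.ofLE a b h)
    refine ⟨fun {Y} f _ => ⟨fun _ h0 => ?_, fun hf => ?_⟩⟩
    · subst h0
      haveI : Epi (Subobject.ofLE a b h) := Preadditive.epi_of_cokernel_zero (by
        rw [← Category.comp_id (cokernel.π _),
          show 𝟙 (cokernel (Subobject.ofLE a b h)) = 0 from zero_of_epi_comp (0 : Y ⟶ _) (by simp), comp_zero])
      haveI := isIso_of_mono_of_epi (Subobject.ofLE a b h)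
      exact hc.lt.not_ge (Subobject.le_of_comm (inv (Subobject.ofLE a b h)) (by simp))
    · let i := pullback.fst π f
      let c := Subobject.mk (i ≫ b.arrow)
      have hcb : c ≤ b := Subobject.mk_le_of_comm i rfl
      have hac : a ≤ c := Subobject.le_mk_of_comm (pullback.lift (Subobject.ofLE a b h) 0 (by simp [π])) (by
        simp [i, pullback.lift_fst_assoc])
      rcases hc.eq_or_eq hac hcb with e | e
      · exfalso
        apply hf
        have e2 : i = Subobject.ofMkLE (i ≫ b.arrow) a (le_of_eq e) ≫ Subobject.ofLE a b h := by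
          rw [← cancel_mono b.arrow, Category.assoc, Subobject.ofLE_arrow, Subobject.ofMkLE_arrow]
        refine zero_of_epi_comp (pullback.snd π f) ?_
        rw [← pullback.condition]
        change i ≫ π = 0
        rw [e2, Category.assoc, cokernel.condition, comp_zero]
      · let j := Subobject.ofLEMk b (i ≫ b.arrow) (ge_of_eq e)
        have hj : j ≫ i = 𝟙 _ := by
          rw [← cancel_mono b.arrow, Category.assoc, Subobject.ofLEMk_comp, Category.id_comp]
        haveI : Epi f := epi_of_epi_fac (f := j ≫ pullback.snd π f) (h := π) (by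
          rw [Category.assoc, ← pullback.condition, ← Category.assoc, hj, Category.id_comp])
        exact isIso_of_mono_of_epi f

lemma artinian_noetherian_of_ses {S : ShortComplex A} (hS : S.ShortExact)
    (h₁ : IsArtinianObject S.X₁ ∧ IsNoetherianObject S.X₁) (h₃ : IsArtinianObject S.X₃ ∧ IsNoetherianObject S.X₃) :
    IsArtinianObject S.X₂ ∧ IsNoetherianObject S.X₂ := by
  obtain ⟨_, _⟩ := h₁
  obtain ⟨_, _⟩ := h₃
  haveI := hS.mono_f
  let φ : Subobject S.X₂ → Subobject S.X₁ × Subobject S.X₃ :=
    fun c => ((Subobject.pullback S.f).obj c, imageSubobject (c.arrow ≫ S.g))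
  have hmono : StrictMono φ := by
    have hm : Monotone φ := by
      intro c c' h
      refine ⟨((Subobject.pullback S.f).map (homOfLE h)).le, ?_⟩
      change imageSubobject (c.arrow ≫ S.g) ≤ imageSubobject (c'.arrow ≫ S.g)
      rw [← Subobject.ofLE_arrow h, Category.assoc]
      exact imageSubobject_comp_le _ _
    have main : ∀ {c c' : Subobject S.X₂}, φ c = φ c' → c ≤ c' → c' ≤ c := by
      intro c c' e h
      have e1 : (Subobject.pullback S.f).obj c = (Subobject.pullback S.f).obj c' := congrArg Prod.fst e
      have e2 : imageSubobject (c.arrow ≫ S.g) = imageSubobject (c'.arrow ≫ S.g) := congrArg Prod.snd e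
      haveI : Epi (Subobject.ofLE c c' h) := by
        rw [epi_iff_surjective_up_to_refinements]
        intro T x
        have hfac : (imageSubobject (c.arrow ≫ S.g)).Factors (x ≫ c'.arrow ≫ S.g) := by
          rw [e2]
          exact imageSubobject_factors_comp_self (f := c'.arrow ≫ S.g) x
        haveI : Epi (factorThruImageSubobject (c.arrow ≫ S.g)) := inferInstance
        obtain ⟨T₁, π, _, y, hy⟩ := surjective_up_to_refinements_of_epi (factorThruImageSubobject (c.arrow ≫ S.g))
          ((imageSubobject (c.arrow ≫ S.g)).factorThru _ hfac)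
        have hy' : π ≫ x ≫ c'.arrow ≫ S.g = y ≫ c.arrow ≫ S.g := by
          rw [← Subobject.factorThru_arrow _ _ hfac, ← Category.assoc, hy, Category.assoc,
            imageSubobject_arrow_comp]
        have hz : (π ≫ x - y ≫ Subobject.ofLE c c' h) ≫ c'.arrow ≫ S.g = 0 := by
          rw [Preadditive.sub_comp, Category.assoc, Category.assoc, hy', Subobject.ofLE_arrow_assoc, sub_self]
        obtain ⟨T₂, π', _, u, hu⟩ := hS.exact.exact_up_to_refinements
          ((π ≫ x - y ≫ Subobject.ofLE c c' h) ≫ c'.arrow) (by rw [Category.assoc]; exact hz)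
        have hu' : ((Subobject.pullback S.f).obj c).Factors u := by
          rw [e1]
          exact (CategoryTheory.Limits.pullback_factors_iff S.f c' u).2 (hu ▸ Subobject.factors_of_factors_right _ (Subobject.factors_comp_arrow _))
        have hc : c.Factors (u ≫ S.f) := (CategoryTheory.Limits.pullback_factors_iff S.f c u).1 hu'
        refine ⟨T₂, π' ≫ π, inferInstance, c.factorThru _ hc + π' ≫ y, ?_⟩
        rw [← cancel_mono c'.arrow]
        simp only [Category.assoc, Preadditive.add_comp, Subobject.ofLE_arrow, Subobject.factorThru_arrow]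
        rw [← hu, Preadditive.sub_comp, Preadditive.comp_sub, Category.assoc, Category.assoc, Subobject.ofLE_arrow]
        abel
      haveI := isIso_of_mono_of_epi (Subobject.ofLE c c' h)
      exact Subobject.le_of_comm (inv (Subobject.ofLE c c' h)) (by simp)
    exact fun c c' h => (hm h.le).lt_of_ne fun e => h.not_ge (main e h.le)
  exact ⟨ObjectProperty.is_of_prop _ (hmono.wellFoundedLT), ObjectProperty.is_of_prop _ (hmono.wellFoundedGT)⟩

end

/-- An object X of an abelian category is Artinian and Noetherian if and only if there is a finite chain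
of subobjects ⊥ = F₀ ≤ F₁ ≤ … ≤ Fₙ = ⊤ of X whose successive quotients Fᵢ₊₁/Fᵢ are simple. -/
theorem result {A : Type u} [Category.{v} A] [Abelian A] (X : A) :
    (IsArtinianObject X ∧ IsNoetherianObject X) ↔
      ∃ (n : ℕ) (F : Fin (n + 1) → Subobject X) (hF : Monotone F), F 0 = ⊥ ∧ F (Fin.last n) = ⊤ ∧
        ∀ i : Fin n, Simple (cokernel (Subobject.ofLE (F (Fin.castSucc i)) (F (Fin.succ i)) (hF (Fin.castSucc_lt_succ (i := i)).le))) := by
  constructor
  · rintro ⟨_, _⟩
    have key : ∀ c : Subobject X, ∃ (n : ℕ) (F : Fin (n + 1) → Subobject X) (hF : Monotone F),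
        F 0 = ⊥ ∧ F (Fin.last n) = c ∧ ∀ i : Fin n, F i.castSucc ⋖ F i.succ := by
      intro c
      induction c using (wellFounded_lt (α := Subobject X)).induction
      rename_i c ih
      by_cases hc : c = ⊥
      · exact ⟨0, fun _ => c, monotone_const, hc, rfl, fun i => i.elim0⟩
      obtain ⟨d, hd : d < c, hmax⟩ := (wellFounded_gt (α := Subobject X)).has_min {d | d < c} ⟨⊥, Ne.bot_lt hc⟩
      obtain ⟨n, F, hF, h0, hl, hcov⟩ := ih d hd
      have hdc : d ⋖ c := ⟨hd, fun e he he' => hmax e he' he⟩
      have hcov' : ∀ i : Fin (n + 1), (Fin.snoc F c : Fin (n + 2) → Subobject X) i.castSucc ⋖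
          (Fin.snoc F c : Fin (n + 2) → Subobject X) i.succ := fun i => by
        induction i using Fin.lastCases with
        | last => rw [Fin.snoc_castSucc, Fin.succ_last, Fin.snoc_last, hl]; exact hdc
        | cast i => rw [Fin.snoc_castSucc, Fin.succ_castSucc, Fin.snoc_castSucc]; exact hcov i
      refine ⟨n + 1, Fin.snoc F c, Fin.monotone_iff_le_succ.2 fun i => (hcov' i).le, ?_, Fin.snoc_last _ _, hcov'⟩
      rw [show (0 : Fin (n + 2)) = Fin.castSucc 0 from rfl, Fin.snoc_castSucc, h0]
    obtain ⟨n, F, hF, h0, hl, hcov⟩ := key ⊤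
    exact ⟨n, F, hF, h0, hl, fun i => (simple_cokernel_iff _).2 (hcov i)⟩
  · rintro ⟨n, F, hF, h0, hl, hs⟩
    have key : ∀ i : Fin (n + 1), IsArtinianObject (F i : A) ∧ IsNoetherianObject (F i : A) := by
      intro i
      induction i using Fin.induction with
      | zero =>
        have hz : IsZero (F 0 : A) := by
          rw [h0]; exact (isZero_zero A).of_iso (Subobject.botCoeIsoZero)
        exact ⟨isArtinianObject_of_isZero hz, isNoetherianObject_of_isZero hz⟩
      | succ i ih =>
        have hle := hF (Fin.castSucc_lt_succ (i := i)).le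
        let S := ShortComplex.mk (Subobject.ofLE _ _ hle) (cokernel.π _) (cokernel.condition _)
        refine artinian_noetherian_of_ses (S := S) { exact := ShortComplex.exact_cokernel _ } ih ?_
        haveI := (simple_iff_subobject_isSimpleOrder _).1 (hs i)
        classical haveI : Finite (Subobject (cokernel (Subobject.ofLE _ _ hle))) := Finite.of_equiv _ IsSimpleOrder.equivBool.symm
        exact ⟨ObjectProperty.is_of_prop _ (inferInstance : WellFoundedLT _), ObjectProperty.is_of_prop _ (inferInstance : WellFoundedGT _)⟩
    obtain ⟨_, _⟩ := key (Fin.last n)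
    haveI : IsIso (F (Fin.last n)).arrow := by rw [hl]; infer_instance
    exact ⟨isArtinianObject_of_mono (inv (F (Fin.last n)).arrow), isNoetherianObject_of_mono (inv (F (Fin.last n)).arrow)⟩

end Groth.Agent.S1077
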