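import Groth.Statements.S1078
import Mathlib

set_option autoImplicit false
universe v u
open CategoryTheory CategoryTheory.Limits
open CohDer

set_option maxHeartbeats 2000000
namespace Groth.Agent.S1078

set_option backward.isDefEq.respectTransparency false
set_option backward.defeqAttrib.useBackward true

open CategoryTheory CategoryTheory.Limits

section
variable {A : Type u} [Category.{v} A] [Abelian A] {X : A}

lemma simple_cokernel_iff {a b : Subobject X} (h : a ≤ b) :
    Simple (cokernel (Subobject.ofLE a b h)) ↔ a ⋖ b := by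
  constructor
  · intro hs
    refine ⟨lt_of_le_of_ne h fun e => ?_, fun c hac hcb => ?_⟩
    · subst e
      haveI : IsIso (Subobject.ofLE a a h) := by rw [Subobject.ofLE_refl]; infer_instance
      exact Simple.not_isZero (cokernel (Subobject.ofLE a a h)) (isZero_cokernel_of_epi _)
    · let π := cokernel.π (Subobject.ofLE a b h)
      let g := Subobject.ofLE c b hcb.le ≫ π
      by_cases hg : g = 0
      · refine hac.not_ge (Subobject.le_of_comm (Abelian.monoLift (Subobject.ofLE a b h) (Subobject.ofLE c b hcb.le) hg) ?_)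
        rw [← Subobject.ofLE_arrow h, ← Category.assoc, Abelian.monoLift_comp, Subobject.ofLE_arrow]
      · haveI : Epi g := epi_of_nonzero_to_simple hg
        haveI : Epi (Subobject.ofLE c b hcb.le) := Preadditive.epi_of_cancel_zero _ fun {R} q hq => by
          have ha : Subobject.ofLE a b h ≫ q = 0 := by
            rw [← Subobject.ofLE_comp_ofLE a c b hac.le hcb.le, Category.assoc, hq, comp_zero]
          have h2 : g ≫ cokernel.desc _ q ha = 0 := by
            simp only [g, π, Category.assoc, cokernel.π_desc, hq]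
          rw [← cokernel.π_desc _ q ha, show cokernel.desc _ q ha = 0 from zero_of_epi_comp g h2, comp_zero]
        haveI := isIso_of_mono_of_epi (Subobject.ofLE c b hcb.le)
        exact hcb.not_ge (Subobject.le_of_comm (inv (Subobject.ofLE c b hcb.le)) (by simp))
  · intro hc
    let π := cokernel.π (Subobject.ofLE a b h)
    refine ⟨fun {Y} f _ => ⟨fun _ h0 => ?_, fun hf => ?_⟩⟩
    · subst h0
      haveI : Epi (Subobject.ofLE a b h) := Preadditive.epi_of_cokernel_zero (by
        rw [← Category.comp_id (cokernel.π _),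
          show 𝟙 (cokernel (Subobject.ofLE a b h)) = 0 from zero_of_epi_comp (0 : Y ⟶ _) (by simp), comp_zero])
      haveI := isIso_of_mono_of_epi (Subobject.ofLE a b h)
      exact hc.lt.not_ge (Subobject.le_of_comm (inv (Subobject.ofLE a b h)) (by simp))
    · let i := pullback.fst π f
      let c := Subobject.mk (i ≫ b.arrow)
      have hcb : c ≤ b := Subobject.mk_le_of_comm i rfl
      have hac : a ≤ c := Subobject.le_mk_of_comm (pullback.lift (Subobject.ofLE a b h) 0 (by simp [π])) (by
        simp [i, pullback.lift_fst_assoc])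
      rcases hc.eq_or_eq hac hcb with e | e
      · exfalso
        apply hf
        have e2 : i = Subobject.ofMkLE (i ≫ b.arrow) a (le_of_eq e) ≫ Subobject.ofLE a b h := by
          rw [← cancel_mono b.arrow, Category.assoc, Subobject.ofLE_arrow, Subobject.ofMkLE_arrow]
        refine zero_of_epi_comp (pullback.snd π f) ?_
        rw [← pullback.condition]
        change i ≫ π = 0
        rw [e2, Category.assoc, cokernel.condition, comp_zero]
      · let j := Subobject.ofLEMk b (i ≫ b.arrow) (ge_of_eq e)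
        have hj : j ≫ i = 𝟙 _ := by
          rw [← cancel_mono b.arrow, Category.assoc, Subobject.ofLEMk_comp, Category.id_comp]
        haveI : Epi f := epi_of_epi_fac (f := j ≫ pullback.snd π f) (h := π) (by
          rw [Category.assoc, ← pullback.condition, ← Category.assoc, hj, Category.id_comp])
        exact isIso_of_mono_of_epi f


lemma secondIso (x y : Subobject X) :
    Nonempty (cokernel (Subobject.ofLE x (x ⊔ y) le_sup_left) ≅ cokernel (Subobject.ofLE (x ⊓ y) y inf_le_right)) := by
  let π := cokernel.π (Subobject.ofLE x (x ⊔ y) le_sup_left)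
  let φ := Subobject.ofLE y (x ⊔ y) le_sup_right ≫ π
  have hz : Subobject.ofLE (x ⊓ y) y inf_le_right ≫ φ = 0 := by
    simp only [φ, π, Subobject.ofLE_comp_ofLE_assoc]
    rw [← Subobject.ofLE_comp_ofLE (x ⊓ y) x (x ⊔ y) inf_le_left le_sup_left, Category.assoc, cokernel.condition, comp_zero]
  have hker : ∀ {W : A} (k : W ⟶ (y : A)), k ≫ φ = 0 → ∃ l, l ≫ Subobject.ofLE (x ⊓ y) y inf_le_right = k := by
    intro W k hk
    let l := Abelian.monoLift (Subobject.ofLE x (x ⊔ y) le_sup_left) (k ≫ Subobject.ofLE y (x ⊔ y) le_sup_right) (by rw [Category.assoc]; exact hk)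
    have hl : l ≫ x.arrow = k ≫ y.arrow := by
      rw [← Subobject.ofLE_arrow (le_sup_left : x ≤ x ⊔ y), ← Category.assoc, Abelian.monoLift_comp, Category.assoc, Subobject.ofLE_arrow]
    have hf : (x ⊓ y).Factors (k ≫ y.arrow) := (Subobject.inf_factors _).mpr
      ⟨(Subobject.factors_iff _ _).mpr ⟨l, hl⟩, Subobject.factors_comp_arrow k⟩
    exact ⟨(x ⊓ y).factorThru _ hf, by rw [← cancel_mono y.arrow, Category.assoc, Subobject.ofLE_arrow, Subobject.factorThru_arrow]⟩
  have hepi : Epi φ := Preadditive.epi_of_cancel_zero _ fun {R} g hg => by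
    let g' := π ≫ g
    let K := Subobject.mk (kernel.ι g' ≫ (x ⊔ y).arrow)
    have hx : Subobject.ofLE x (x ⊔ y) le_sup_left ≫ g' = 0 := by simp [g', π]
    have hy : Subobject.ofLE y (x ⊔ y) le_sup_right ≫ g' = 0 := by simpa [g', φ] using hg
    have h1 : x ≤ K := Subobject.le_mk_of_comm (kernel.lift g' _ hx) (by simp)
    have h2 : y ≤ K := Subobject.le_mk_of_comm (kernel.lift g' _ hy) (by simp)
    let j := Subobject.ofLEMk (x ⊔ y) (kernel.ι g' ≫ (x ⊔ y).arrow) (sup_le h1 h2)
    have hj : j ≫ kernel.ι g' = 𝟙 _ := by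
      rw [← cancel_mono (x ⊔ y).arrow, Category.assoc, Category.id_comp]
      exact Subobject.ofLEMk_comp _
    have h0 : g' = 0 := by rw [← Category.id_comp g', ← hj, Category.assoc, kernel.condition, comp_zero]
    exact (cancel_epi π).mp (h0.trans comp_zero.symm)
  let S := ShortComplex.mk _ φ hz
  have hex : S.Exact := ShortComplex.exact_of_f_is_kernel S (KernelFork.IsLimit.ofι' _ _ fun {W} k hk => ⟨(hker k hk).choose, (hker k hk).choose_spec⟩)
  exact ⟨((cokernelIsCokernel S.f).coconePointUniqueUpToIso hex.gIsCokernel).symm⟩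

noncomputable abbrev Qt (p : Subobject X × Subobject X) : A := cokernel (Subobject.ofLE (p.1 ⊓ p.2) p.2 inf_le_right)

lemma qtIso (a b : Subobject X) (h : a ≤ b) : Nonempty (Qt (a, b) ≅ cokernel (Subobject.ofLE a b h)) := by
  have : ∀ (c : Subobject X) (hc : c ≤ b), c = a → Nonempty (cokernel (Subobject.ofLE c b hc) ≅ cokernel (Subobject.ofLE a b h)) := by
    rintro c hc rfl; exact ⟨Iso.refl _⟩
  exact this _ _ (inf_eq_left.mpr h)

noncomputable instance jhl : JordanHolderLattice (Subobject X) where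
  IsMaximal := (· ⋖ ·)
  lt_of_isMaximal := CovBy.lt
  sup_eq_of_isMaximal hxz hyz := hxz.wcovBy.sup_eq hyz.wcovBy
  isMaximal_inf_left_of_isMaximal_sup {x y} hx hy := by
    have hy' : y ⋖ y ⊔ x := by rwa [sup_comm]
    have hs := (simple_cokernel_iff le_sup_left).mpr hy'
    obtain ⟨e⟩ := secondIso y x
    have : Simple (cokernel (Subobject.ofLE (y ⊓ x) x inf_le_right)) := Simple.of_iso e.symm
    rw [inf_comm]
    exact (simple_cokernel_iff inf_le_right).mp this

lemma iso_rel {p q : Subobject X × Subobject X} (h : JordanHolderLattice.Iso p q) : Nonempty (Qt p ≅ Qt q) := by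
  refine JordanHolderLattice.Iso.rel (fun p q => Nonempty (Qt p ≅ Qt q)) ⟨Iso.refl _⟩ (fun ⟨e⟩ => ⟨e.symm⟩) (fun ⟨e⟩ ⟨e'⟩ => ⟨e.trans e'⟩) ?_ h
  intro x y _
  obtain ⟨a⟩ := qtIso x (x ⊔ y) le_sup_left
  obtain ⟨b⟩ := qtIso (x ⊓ y) y inf_le_right
  obtain ⟨c⟩ := secondIso x y
  exact ⟨a.trans (c.trans b.symm)⟩

end

/-- Let X be an object of an abelian category with two finite chains of subobjects ⊥ = F₀ ≤ … ≤ Fₙ = ⊤
and ⊥ = G₀ ≤ … ≤ Gₘ = ⊤ whose successive quotients are simple. Then n = m, and after transporting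
along this equality there is a permutation σ of the indices with Fᵢ₊₁/Fᵢ ≅ G_{σ(i)+1}/G_{σ(i)} for
all i. -/
theorem result {A : Type u} [Category.{v} A] [Abelian A] (X : A)
    (n : ℕ) (F : Fin (n + 1) → Subobject X) (hF : Monotone F) (hF0 : F 0 = ⊥) (hFn : F (Fin.last n) = ⊤) (hFs : ∀ i : Fin n, Simple (cokernel (Subobject.ofLE (F (Fin.castSucc i)) (F (Fin.succ i)) (hF (Fin.castSucc_lt_succ (i := i)).le))))
    (m : ℕ) (G : Fin (m + 1) → Subobject X) (hG : Monotone G) (hG0 : G 0 = ⊥) (hGm : G (Fin.last m) = ⊤) (hGs : ∀ j : Fin m, Simple (cokernel (Subobject.ofLE (G (Fin.castSucc j)) (G (Fin.succ j)) (hG (Fin.castSucc_lt_succ (i := j)).le)))) :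
    ∃ (e : n = m) (σ : Equiv.Perm (Fin m)), ∀ i : Fin n,
      Nonempty (cokernel (Subobject.ofLE (F (Fin.castSucc i)) (F (Fin.succ i)) (hF (Fin.castSucc_lt_succ (i := i)).le)) ≅
        cokernel (Subobject.ofLE (G (Fin.castSucc (σ (Fin.cast e i)))) (G (Fin.succ (σ (Fin.cast e i)))) (hG (Fin.castSucc_lt_succ (i := σ (Fin.cast e i))).le))) := by
  let s : CompositionSeries (Subobject X) := ⟨n, F, fun i => (simple_cokernel_iff _).mp (hFs i)⟩
  let t : CompositionSeries (Subobject X) := ⟨m, G, fun i => (simple_cokernel_iff _).mp (hGs i)⟩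
  obtain ⟨f, hf⟩ := CompositionSeries.jordan_holder s t (hF0.trans hG0.symm) (hFn.trans hGm.symm)
  have e : n = m := by simpa [s, t] using Fintype.card_congr f
  refine ⟨e, (finCongr e.symm).trans f, fun i => ?_⟩
  obtain ⟨a⟩ := iso_rel (hf i)
  obtain ⟨b⟩ := qtIso (F i.castSucc) (F i.succ) (hF (Fin.castSucc_lt_succ (i := i)).le)
  obtain ⟨c⟩ := qtIso (G (f i).castSucc) (G (f i).succ) (hG (Fin.castSucc_lt_succ (i := f i)).le)
  have hcast : ((finCongr e.symm).trans f) (Fin.cast e i) = f i := by simp; rfl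
  rw [hcast]
  exact ⟨b.symm.trans (a.trans c)⟩

end Groth.Agent.S1078
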