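import Groth.Statements.S10787
import Groth.Agent.InjHullBasic.Noetherian
import Mathlib
-- import your own Groth.Agent.* helpers here

set_option autoImplicit false
universe u
open CategoryTheory CategoryTheory.Limits
open CAlg

namespace Groth.Agent.S10787
open InjHull LocCoh Groth.Agent.InjHullBasic

variable {A : Type u} [CommRing A]

/-- finite over an Artinian algebra -/
def Fin' (A : Type u) [CommRing A] (N : Type u) [AddCommGroup N] [Module A N] : Prop :=
  ∃ (B : Type u) (_ : CommRing B) (_ : Algebra A B) (_ : IsArtinianRing B) (_ : Module B N)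
    (_ : IsScalarTower A B N), Module.Finite B N

theorem Fin'.congr {N N' : Type u} [AddCommGroup N] [Module A N] [AddCommGroup N'] [Module A N']
    (e : N ≃ₗ[A] N') (h : Fin' A N') : Fin' A N := by
  obtain ⟨B, _, _, _, _, _, _⟩ := h
  letI : Module B N := e.toAddEquiv.module B
  have hs : ∀ (b : B) (x : N), e (b • x) = b • e x := fun b x => e.apply_symm_apply _
  have : IsScalarTower A B N := ⟨fun a b x => e.injective (by rw [hs, map_smul, hs, smul_assoc])⟩
  let e' : N ≃ₗ[B] N' := { e.toAddEquiv with map_smul' := hs }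
  exact ⟨B, inferInstance, inferInstance, inferInstance, inferInstance, this, Module.Finite.equiv e'.symm⟩

theorem Fin'.of_subsingleton (N : Type u) [AddCommGroup N] [Module A N] [Subsingleton N] : Fin' A N := by
  have ht : Module.IsTorsionBySet A N ((⊤ : Ideal A) : Set A) := fun _ _ => Subsingleton.elim _ _
  letI := ht.module
  have : Subsingleton (A ⧸ (⊤ : Ideal A)) := Ideal.Quotient.subsingleton_iff.2 rfl
  exact ⟨A ⧸ (⊤ : Ideal A), inferInstance, inferInstance, inferInstance, inferInstance,
    ⟨fun _ _ _ => Subsingleton.elim _ _⟩, inferInstance⟩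

theorem Fin'.prod {N N' : Type u} [AddCommGroup N] [Module A N] [AddCommGroup N'] [Module A N']
    (h : Fin' A N) (h' : Fin' A N') : Fin' A (N × N') := by
  obtain ⟨B, _, _, _, _, _, hf⟩ := h
  obtain ⟨B', _, _, _, _, _, hf'⟩ := h'
  letI : Module (B × B') N := Module.compHom N (RingHom.fst B B')
  letI : Module (B × B') N' := Module.compHom N' (RingHom.snd B B')
  have : IsScalarTower A (B × B') (N × N') := ⟨fun a b x => Prod.ext (smul_assoc a b.1 x.1) (smul_assoc a b.2 x.2)⟩
  have : Module.Finite (B × B') N := by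
    obtain ⟨s, hs⟩ := hf.fg_top
    refine ⟨⟨s, eq_top_iff.2 fun x hxt => ?_⟩⟩
    clear hxt
    have hx : x ∈ Submodule.span B (s : Set N) := hs ▸ Submodule.mem_top
    induction hx using Submodule.span_induction with
    | mem x hx => exact Submodule.subset_span hx
    | zero => exact zero_mem _
    | add x y _ _ hx hy => exact add_mem hx hy
    | smul b x _ hx => exact Submodule.smul_mem _ ((b, 0) : B × B') hx
  have : Module.Finite (B × B') N' := by
    obtain ⟨s, hs⟩ := hf'.fg_top
    refine ⟨⟨s, eq_top_iff.2 fun x hxt => ?_⟩⟩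
    clear hxt
    have hx : x ∈ Submodule.span B' (s : Set N') := hs ▸ Submodule.mem_top
    induction hx using Submodule.span_induction with
    | mem x hx => exact Submodule.subset_span hx
    | zero => exact zero_mem _
    | add x y _ _ hx hy => exact add_mem hx hy
    | smul b x _ hx => exact Submodule.smul_mem _ ((0, b) : B × B') hx
  exact ⟨B × B', inferInstance, inferInstance, inferInstance, inferInstance, ‹_›, inferInstance⟩

theorem Fin'.sup {M : Type u} [AddCommGroup M] [Module A M] {N N' : Submodule A M} (hd : Disjoint N N')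
    (h : Fin' A N) (h' : Fin' A N') : Fin' A ↥(N ⊔ N') := by
  refine Fin'.congr ?_ (h.prod h')
  exact ((LinearEquiv.ofInjective (N.subtype.coprod N'.subtype) (by
      rw [← LinearMap.ker_eq_bot, LinearMap.ker_coprod_of_disjoint_range]
      · simp
      · simpa using hd)).trans (LinearEquiv.ofEq _ _ (by simp [LinearMap.range_coprod]))).symm

theorem Fin'.finsetSup {M : Type u} [AddCommGroup M] [Module A M] {ι : Type u} [DecidableEq ι]
    (f : ι → Submodule A M) (hf : iSupIndep f) (F : Finset ι) (h : ∀ i ∈ F, Fin' A (f i)) :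
    Fin' A ↥(F.sup f) := by
  induction F using Finset.induction with
  | empty => rw [Finset.sup_empty]; exact Fin'.of_subsingleton _
  | @insert a F ha ih =>
    rw [Finset.sup_insert]
    refine Fin'.sup ?_ (h a (Finset.mem_insert_self a F)) (ih fun i hi => h i (Finset.mem_insert_of_mem hi))
    exact (hf a).mono_right (Finset.sup_le fun i hi => le_iSup₂_of_le (f := fun j (_ : j ≠ a) => f j) i
      (fun e => ha (e ▸ hi)) le_rfl)

variable [IsNoetherianRing A] {M : Type u} [AddCommGroup M] [Module A M]

/-- saturation with respect to `p` -/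
def sat (p : Ideal A) [p.IsPrime] (E : Submodule A M) (N : Submodule A M) : Submodule A M where
  carrier := {y | y ∈ E ∧ ∃ t : p.primeCompl, (t : A) • y ∈ N}
  zero_mem' := ⟨E.zero_mem, 1, by simp⟩
  add_mem' := by
    rintro x y ⟨hx, t, ht⟩ ⟨hy, u, hu⟩
    refine ⟨E.add_mem hx hy, t * u, ?_⟩
    rw [Submonoid.coe_mul, smul_add, mul_comm, mul_smul, mul_comm, mul_smul]
    exact N.add_mem (N.smul_mem _ ht) (N.smul_mem _ hu)
  smul_mem' := by
    rintro a x ⟨hx, t, ht⟩
    exact ⟨E.smul_mem a hx, t, by rw [smul_comm]; exact N.smul_mem a ht⟩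

theorem sat_mono (p : Ideal A) [p.IsPrime] (E : Submodule A M) {N N' : Submodule A M} (h : N ≤ N') :
    sat p E N ≤ sat p E N' := fun _ ⟨h1, t, ht⟩ => ⟨h1, t, h ht⟩

theorem fin'_sat (p : Ideal A) [p.IsPrime] (E : Submodule A M) (hbij : ∀ s ∉ p, Function.Bijective fun x : E => s • x)
    (htor : IsPowerTorsion p E) (G : Finset M) (hG : (G : Set M) ⊆ E) :
    Fin' A (sat p E (Submodule.span A (G : Set M))) := by
  let N := Submodule.span A (G : Set M)
  have hNE : N ≤ E := Submodule.span_le.2 hG
  let D := sat p E N
  let inc : N →ₗ[A] D := Submodule.inclusion fun x hx => ⟨hNE hx, 1, by simpa using hx⟩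
  have : IsLocalizedModule p.primeCompl inc :=
    { map_units := fun t => by
        rw [Module.End.isUnit_iff]
        refine ⟨fun x y h => Subtype.ext ?_, fun y => ?_⟩
        · exact congrArg (fun z : E => (z : M)) ((hbij t t.2).1 (a₁ := ⟨x.1, x.2.1⟩) (a₂ := ⟨y.1, y.2.1⟩)
            (Subtype.ext (congrArg Subtype.val h : (t : A) • x.1 = (t : A) • y.1)))
        · obtain ⟨x, hx⟩ := (hbij t t.2).2 ⟨y.1, y.2.1⟩
          have hx' : (t : A) • (x : M) = y.1 := congrArg Subtype.val hx
          obtain ⟨u, hu⟩ := y.2.2
          refine ⟨⟨x.1, x.2, u * t, ?_⟩, Subtype.ext hx'⟩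
          rw [Submonoid.coe_mul, mul_smul, hx']
          exact hu
      surj := fun y => by
        obtain ⟨t, ht⟩ := y.2.2
        exact ⟨⟨⟨_, ht⟩, t⟩, Subtype.ext rfl⟩
      exists_of_eq := fun h => ⟨1, by rw [Submodule.inclusion_injective _ h]⟩ }
  refine Fin'.congr (N' := LocalizedModule p.primeCompl N) (IsLocalizedModule.iso p.primeCompl inc).symm ?_
  have hn : ∀ x : M, ∃ n : ℕ, x ∈ G → ∀ a ∈ p ^ n, a • x = 0 := fun x => by
    by_cases hx : x ∈ G
    · obtain ⟨n, hn⟩ := htor ⟨x, hG hx⟩
      exact ⟨n, fun _ a ha => congrArg Subtype.val (hn a ha)⟩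
    · exact ⟨0, fun h => absurd h hx⟩
  choose n hn using hn
  let m := G.sup n + 1
  have hkill : ∀ (a : A), a ∈ p ^ m → ∀ x : N, a • x = 0 := fun a ha => by
    rintro ⟨x, hx⟩
    refine Subtype.ext ?_
    show a • x = 0
    induction hx using Submodule.span_induction with
    | mem x hx =>
      exact hn x hx a (Ideal.pow_le_pow_right (le_add_right (Finset.le_sup hx)) ha)
    | zero => simp
    | add x y _ _ hx hy => rw [smul_add, hx, hy, add_zero]
    | smul r x _ hx => rw [smul_comm, hx, smul_zero]
  let L := Localization.AtPrime p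
  let I : Ideal L := (p ^ m).map (algebraMap A L)
  have hI : Module.IsTorsionBySet L (LocalizedModule p.primeCompl N) (I : Set L) := fun z a => by
    have : I ≤ (⊤ : Submodule L (LocalizedModule p.primeCompl N)).annihilator := by
      refine Ideal.map_le_iff_le_comap.2 fun b hb => ?_
      rw [Ideal.mem_comap, Submodule.mem_annihilator]
      intro w _
      induction w using LocalizedModule.induction_on with
      | h x s => rw [algebraMap_smul, LocalizedModule.smul'_mk, hkill b hb, LocalizedModule.zero_mk]
    exact Submodule.mem_annihilator.1 (this a.2) z Submodule.mem_top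
  letI := hI.module
  have hmax : I = (IsLocalRing.maximalIdeal L) ^ m := by
    show (p ^ m).map _ = _
    rw [Ideal.map_pow, Localization.AtPrime.map_eq_maximalIdeal]
  have : Nontrivial (L ⧸ I) := Ideal.Quotient.nontrivial_iff.2 fun e => by
    have : I ≤ IsLocalRing.maximalIdeal L := hmax ▸ Ideal.pow_le_self (by omega)
    exact (IsLocalRing.maximalIdeal.isMaximal L).ne_top (top_le_iff.1 (e ▸ this))
  have : IsLocalRing (L ⧸ I) := IsLocalRing.of_surjective' (Ideal.Quotient.mk I) Ideal.Quotient.mk_surjective
  have : IsArtinianRing (L ⧸ I) := by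
    refine (isArtinianRing_iff_isNilpotent_maximalIdeal _).2 ⟨m, ?_⟩
    have hle : RingHom.ker (Ideal.Quotient.mk I) ≤ IsLocalRing.maximalIdeal L := by
      rw [Ideal.mk_ker, hmax]; exact Ideal.pow_le_self (by omega)
    have : IsLocalRing.maximalIdeal (L ⧸ I) = (IsLocalRing.maximalIdeal L).map (Ideal.Quotient.mk I) :=
      (IsLocalRing.eq_maximalIdeal ((IsLocalRing.maximalIdeal.isMaximal L).map_of_surjective_of_ker_le
        Ideal.Quotient.mk_surjective hle)).symm
    rw [this, ← Ideal.map_pow, ← hmax, Ideal.map_quotient_self, Ideal.zero_eq_bot]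
  have : Module.Finite A N := Module.Finite.iff_fg.2 ⟨G, rfl⟩
  have : Module.Finite L (LocalizedModule p.primeCompl N) :=
    Module.Finite.of_isLocalizedModule p.primeCompl (LocalizedModule.mkLinearMap p.primeCompl N)
  have : IsScalarTower A (L ⧸ I) (LocalizedModule p.primeCompl N) := ⟨fun a b z => by
    obtain ⟨b, rfl⟩ := Ideal.Quotient.mk_surjective b
    show (Ideal.Quotient.mk I (a • b)) • z = a • (Ideal.Quotient.mk I b • z)
    exact smul_assoc a b z⟩
  refine ⟨L ⧸ I, inferInstance, inferInstance, inferInstance, inferInstance, this, ?_⟩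
  have : IsScalarTower L (L ⧸ I) (LocalizedModule p.primeCompl N) := hI.isScalarTower
  exact Module.Finite.of_restrictScalars_finite L _ _

open CategoryTheory Limits in
theorem main (A : Type u) [CommRing A] [IsNoetherianRing A] (J : Type u) [AddCommGroup J] [Module A J]
    [Module.Injective A J] :
    ∃ (ι : Type u) (_ : SmallCategory ι) (_ : IsFiltered ι) (D : ι ⥤ ModuleCat.{u} A)
      (c : Cocone D) (_ : IsColimit c), Nonempty (c.pt ≅ ModuleCat.of A J) ∧
      ∀ i : ι, Fin' A (D.obj i) := by
  classical
  obtain ⟨s, hind, htop, hs⟩ := exists_isInternal_indecomposable (R := A) J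
  have hp : ∀ E : s, ∃ (p : Ideal A) (_ : p.IsPrime),
      (∀ t ∉ p, Function.Bijective fun x : (E : Submodule A J) => t • x) ∧ IsPowerTorsion p (E : Submodule A J) := fun E => by
    have := (hs E E.2).2
    obtain ⟨p, hp, g, hg⟩ := exists_prime_hull (hs E E.2).1
    exact ⟨p, hp, fun t ht => smul_bijective_of_prime hg ht, isPowerTorsion_of_prime hg⟩
  choose p hpp hbij htor using hp
  have : ∀ E, (p E).IsPrime := hpp
  let pr (G : Finset ((E : s) × (E : Submodule A J))) (E : s) : Finset J :=
    (G.filter fun x => x.1 = E).image fun x => (x.2 : J)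
  have hpr : ∀ G E, (pr G E : Set J) ⊆ (E : Submodule A J) := fun G E y hy => by
    simp only [pr, Finset.coe_image, Set.mem_image, Finset.mem_coe, Finset.mem_filter] at hy
    obtain ⟨⟨E', x⟩, ⟨-, rfl⟩, rfl⟩ := hy
    exact x.2
  let f (G : Finset ((E : s) × (E : Submodule A J))) (E : s) : Submodule A J :=
    sat (p E) (E : Submodule A J) (Submodule.span A (pr G E : Set J))
  let N (G : Finset ((E : s) × (E : Submodule A J))) : Submodule A J := (G.image Sigma.fst).sup (f G)
  have hmono : Monotone N := fun G G' h => Finset.sup_le fun E hE =>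
    le_trans (sat_mono (p E) (E : Submodule A J) (Submodule.span_mono (Finset.coe_subset.2
      (Finset.image_subset_image (Finset.filter_subset_filter _ h)))))
      (Finset.le_sup (f := f G') (Finset.image_subset_image h hE))
  have hcov : ∀ x : J, ∃ G, x ∈ N G := by
    intro x
    have hx : x ∈ ⨆ E : s, (E : Submodule A J) := by rw [← sSup_eq_iSup', htop]; exact Submodule.mem_top
    induction hx using Submodule.iSup_induction' with
    | mem E x hx =>
      refine ⟨{⟨E, x, hx⟩}, Finset.le_sup (f := f {⟨E, x, hx⟩}) (b := E) (by simp) ⟨hx, 1, ?_⟩⟩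
      rw [OneMemClass.coe_one, one_smul]
      exact Submodule.subset_span (Finset.mem_coe.2 (Finset.mem_image.2 ⟨⟨E, x, hx⟩, by simp, rfl⟩))
    | zero => exact ⟨∅, zero_mem _⟩
    | add x y _ _ hx hy =>
      obtain ⟨G, hG⟩ := hx; obtain ⟨G', hG'⟩ := hy
      exact ⟨G ∪ G', add_mem (hmono Finset.subset_union_left hG) (hmono Finset.subset_union_right hG')⟩
  have hfin : ∀ G, Fin' A (N G) := fun G => by
    refine Fin'.finsetSup (f G) ?_ _ fun E _ => ?_
    · exact (sSupIndep_iff s |>.1 hind).mono fun E => fun y hy => hy.1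
    · exact fin'_sat (p E) (E : Submodule A J) (hbij E) (htor E) _ (hpr G E)
  let F : Finset ((E : s) × (E : Submodule A J)) ⥤ ModuleCat.{u} A :=
    { obj := fun G => ModuleCat.of A (N G)
      map := fun h => ModuleCat.ofHom (Submodule.inclusion (hmono (leOfHom h)))
      map_id := fun _ => rfl
      map_comp := fun _ _ => rfl }
  let c : Cocone F :=
    { pt := ModuleCat.of A J
      ι := { app := fun G => ModuleCat.ofHom (N G).subtype
             naturality := fun _ _ _ => rfl } }
  choose g hg using hcov
  have key : ∀ (t : Cocone F) (x : J) (G) (h : x ∈ N G), (t.ι.app G) ⟨x, h⟩ = (t.ι.app (g x)) ⟨x, hg x⟩ :=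
    fun t x G h => by
      have h1 := congrArg (fun q => q.hom ⟨x, h⟩) (t.w (homOfLE (Finset.subset_union_left (s₁ := G) (s₂ := g x))))
      have h2 := congrArg (fun q => q.hom ⟨x, hg x⟩) (t.w (homOfLE (Finset.subset_union_right (s₁ := G) (s₂ := g x))))
      exact h1.symm.trans h2
  let d (t : Cocone F) : J →ₗ[A] t.pt :=
    { toFun := fun x => (t.ι.app (g x)) ⟨x, hg x⟩
      map_add' := fun x y => by
        have hx := hmono (Finset.subset_union_left (s₁ := g x) (s₂ := g y)) (hg x)
        have hy := hmono (Finset.subset_union_right (s₁ := g x) (s₂ := g y)) (hg y)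
        rw [← key t x _ hx, ← key t y _ hy, ← key t (x + y) _ (add_mem hx hy), ← map_add]
        rfl
      map_smul' := fun a x => by
        rw [← key t (a • x) _ ((N (g x)).smul_mem a (hg x))]
        show (t.ι.app (g x)).hom (a • ⟨x, hg x⟩) = _
        rw [map_smul]; rfl }
  have hc : IsColimit c :=
    { desc := fun t => ModuleCat.ofHom (d t)
      fac := fun t G => ModuleCat.hom_ext (LinearMap.ext fun x => (key t x.1 G x.2).symm)
      uniq := fun t m hm => ModuleCat.hom_ext (LinearMap.ext fun x => by
        have := congrArg (fun q => q.hom ⟨x, hg x⟩) (hm (g x))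
        exact this) }
  exact ⟨_, inferInstance, inferInstance, F, c, hc, ⟨Iso.refl _⟩, hfin⟩

end Groth.Agent.S10787

namespace Groth.Agent.S10787

/-- Let A be a Noetherian ring and J an injective A-module (an injective object of QCoh of the affine
scheme Spec A, through the equivalence with A-modules). Then J is a filtered colimit of A-modules
each of which is a finite module over some Artinian A-algebra B, the A-module structure being
restricted from B; these are the modules underlying pushforwards to Spec A of coherent sheaves on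
spectra of Artinian rings. -/
theorem result (A : Type u) [CommRing A] [IsNoetherianRing A]
    (J : Type u) [AddCommGroup J] [Module A J] [Module.Injective A J] :
    ∃ (ι : Type u) (_ : SmallCategory ι) (_ : IsFiltered ι) (D : ι ⥤ ModuleCat.{u} A)
      (c : Cocone D) (_ : IsColimit c), Nonempty (c.pt ≅ ModuleCat.of A J) ∧
      ∀ i : ι, ∃ (B : Type u) (_ : CommRing B) (_ : Algebra A B) (_ : IsArtinianRing B)
        (_ : Module B (D.obj i)) (_ : IsScalarTower A B (D.obj i)), Module.Finite B (D.obj i) := by
  obtain ⟨ι, _, _, D, c, hc, hiso, h⟩ := main A J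
  exact ⟨ι, inferInstance, inferInstance, D, c, hc, hiso, fun i => h i⟩

end Groth.Agent.S10787
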