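import Groth.Statements.S1079
import Groth.Agent.Triang.Idempotent

set_option autoImplicit false
set_option backward.isDefEq.respectTransparency false
set_option backward.defeqAttrib.useBackward true
universe v u
open CategoryTheory CategoryTheory.Limits
open CohDer

namespace Groth.Agent.S1079

/-- A pretriangulated category which has countable coproducts, or countable products, is Karoubian
(idempotent complete). -/
theorem result {D : Type u} [Category.{v} D] [Preadditive D] [Limits.HasZeroObject D] [HasShift D ℤ]
    [∀ n : ℤ, (shiftFunctor D n).Additive] [Pretriangulated D]
    (h : HasColimitsOfShape (Discrete ℕ) D ∨ HasLimitsOfShape (Discrete ℕ) D) : IsIdempotentComplete D := by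
  rcases h with h | h
  · exact Triang.isIdempotentComplete_of_coproducts fun X Y f _ => Triang.hasCokernel_of_mono f
  · exact Triang.isIdempotentComplete_of_products fun X Y f _ => Triang.hasKernel_of_epi f

end Groth.Agent.S1079
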