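import Groth.Statements.S10792
import Groth.Agent.AlgSpCartier.Chart
-- import your own Groth.Agent.* helpers here

set_option backward.isDefEq.respectTransparency false

set_option autoImplicit false
universe u
open CategoryTheory CategoryTheory.Limits AlgebraicGeometry Topology TopologicalSpace
open AlgSp

namespace Groth.Agent.S10792

/-- (2) ⇔ (4): let X be an algebraic space over a scheme S and D ⟶ X a closed subspace (representable by
closed immersions). Then D is an effective Cartier divisor in the one-chart sense if and only if for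
every point x of |D| there are an affine scheme U over S, a representable etale h_U ⟶ X, a point u
of U mapping to the image of x in |X|, and a nonzerodivisor f of the ring A of global functions of U
such that the inverse image of D in U is the closed subscheme Spec (A/(f)), that is, the closed
subscheme of the quasi-coherent ideal sheaf of U whose ideal of global sections is generated by f. -/
theorem result {S : Scheme.{u}} (X D : AlgSp.Space S) (i : D ⟶ X)
    (hi : AlgSp.RepWith @IsClosedImmersion i.hom) :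
    AlgSp.IsEffCartierSub i.hom ↔
      ∀ x : AlgSp.Points D.obj,
        ∃ (U : Over S) (_ : IsAffine U.left) (a : (AlgSp.yon S).obj U ⟶ X.obj) (u : ↥U.left)
          (f : Γ(U.left, ⊤)) (I : U.left.IdealSheafData)
          (fst : (AlgSp.yon S).obj (Over.mk (I.subschemeι ≫ U.hom)) ⟶ D.obj),
          AlgSp.RepWith @Etale a ∧ AlgSp.Points.ofPt a u = AlgSp.Points.map i.hom x ∧
            f ∈ nonZeroDivisors Γ(U.left, ⊤) ∧
            I.ideal ⟨⊤, isAffineOpen_top U.left⟩ = Ideal.span {f} ∧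
            IsPullback fst ((AlgSp.yon S).map (Over.homMk I.subschemeι rfl : Over.mk (I.subschemeι ≫ U.hom) ⟶ U)) i.hom a := by
  constructor
  · intro h x
    obtain ⟨V, p, hp, hps⟩ := X.property.atlas
    obtain ⟨v, hv⟩ : ∃ v, Points.ofPt p v = Points.map i.hom x := by
      obtain ⟨z, hz⟩ := Groth.Agent.AlgSpc.surjective_map_of_repWith hps (Points.map i.hom x)
      refine ⟨Points.toScheme V z, ?_⟩
      rw [Points.ofPt_eq_map_ofScheme, Points.ofScheme_toScheme, hz]
    obtain ⟨I₀, hI₀⟩ := Groth.Agent.AlgSpCartier.exists_cutsOut hi p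
    obtain ⟨O, hvO, f₀, hf₀, hIf⟩ := Groth.Agent.AlgSpCartier.cartier_of_chart X.property h p hp hI₀ v
    let U : Over S := Over.mk (O.1.ι ≫ V.hom)
    let j : U ⟶ V := Over.homMk O.1.ι rfl
    haveI hUa : IsAffine U.left := O.2
    have ha : RepWith @Etale ((AlgSp.yon S).map j ≫ p) :=
      Groth.Agent.AlgSpc.repWith_comp ((repWith_yon_map_iff @Etale j).2 (inferInstanceAs (Etale O.1.ι))) hp
    obtain ⟨I, fst, sq⟩ := Groth.Agent.AlgSpCartier.exists_cutsOut hi ((AlgSp.yon S).map j ≫ p)
    have hc : I = I₀.comap O.1.ι := by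
      have := Groth.Agent.AlgSpCartier.comap_eq (W := U) ⟨fst, sq⟩ hI₀ (𝟙 U) j
        (by rw [CategoryTheory.Functor.map_id, Category.id_comp])
      rwa [show (𝟙 U : U ⟶ U).left = 𝟙 U.left from rfl, Scheme.IdealSheafData.comap_id] at this
    have hle : (⊤ : U.left.Opens) ≤ O.1.ι ⁻¹ᵁ O.1 := fun z _ => z.2
    refine ⟨U, hUa, (AlgSp.yon S).map j ≫ p, ⟨v, hvO⟩, (O.1.ι.appLE O.1 ⊤ hle).hom f₀, I, fst, ha, ?_,
      ?_, ?_, sq⟩
    · rw [Groth.Agent.AlgSpc.ofPt_comp]; exact hv
    · refine Groth.Agent.ModPairLib.nzd_of_span (I := I) (Groth.Agent.AlgSpCartier.cartier_of_chart X.property h _ ha ⟨fst, sq⟩)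
        ⟨⊤, isAffineOpen_top U.left⟩ ?_
      rw [hc, Groth.Agent.FpqcDescent.ideal_comap I₀ O.1.ι O ⟨⊤, isAffineOpen_top U.left⟩ hle, hIf, Ideal.map_span,
        Set.image_singleton]
      rfl
    · rw [hc, Groth.Agent.FpqcDescent.ideal_comap I₀ O.1.ι O ⟨⊤, isAffineOpen_top U.left⟩ hle, hIf, Ideal.map_span,
        Set.image_singleton]
      rfl
  · intro h
    obtain ⟨V, p, hp, hps⟩ := X.property.atlas
    obtain ⟨I₀, hI₀⟩ := Groth.Agent.AlgSpCartier.exists_cutsOut hi p
    obtain ⟨a₀, sq₀⟩ := hI₀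
    refine ⟨hi, V, p, I₀, a₀, hp, hps, sq₀, Groth.Agent.ModPairLib.isEffCartier_of_local fun v => ?_⟩
    by_cases hv : v ∈ I₀.support
    · obtain ⟨d, hd⟩ : v ∈ Set.range I₀.subschemeι := by rw [Scheme.IdealSheafData.range_subschemeι]; exact hv
      obtain ⟨U, hU, a, u, f, I, fst, ha, hau, hf, hIf, sq⟩ := h (Points.ofPt a₀ d)
      obtain ⟨W, w₁, w₂, sqW⟩ := Groth.Agent.AlgSpc.exists_sq ha.1 p
      haveI : Etale w₂.left := ha.2 _ _ _ sqW
      haveI : Etale (Groth.Agent.AlgSpc.pre w₁).left := (repWith_yon_map_iff @Etale _).1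
        (by rw [Groth.Agent.AlgSpc.map_pre]; exact Groth.Agent.AlgSpc.repWith_of_isPullback sqW.flip hp)
      have hIc : BlowUp.IsEffCartierIdeal I := fun _ => ⟨⟨⊤, isAffineOpen_top U.left⟩, trivial, f, hf, hIf⟩
      have h1 := Groth.Agent.ModPairLib.isEffCartier_comap_flat hIc (Groth.Agent.AlgSpc.pre w₁).left
      rw [Groth.Agent.AlgSpCartier.comap_eq ⟨fst, sq⟩ ⟨a₀, sq₀⟩ (Groth.Agent.AlgSpc.pre w₁) w₂
        (by rw [Groth.Agent.AlgSpc.map_pre]; exact sqW.w)] at h1
      obtain ⟨w, -, hw⟩ := Groth.Agent.AlgSpc.exists_point_of_sq sqW (Points.ofScheme U u) v (by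
        rw [Points.map_ofPt, Category.id_comp, hau, Points.map_ofPt, sq₀.w, Groth.Agent.AlgSpc.ofPt_comp]
        exact congrArg _ hd)
      let O : V.left.Opens := ⟨Set.range w₂.left, w₂.left.isOpenMap.isOpen_range⟩
      let g : W.left ⟶ O.toScheme := IsOpenImmersion.lift O.ι w₂.left (by rw [Scheme.Opens.range_ι]; rfl)
      have hg : g ≫ O.ι = w₂.left := IsOpenImmersion.lift_fac _ _ _
      haveI : Etale g := by
        haveI : Etale (g ≫ O.ι) := hg.symm ▸ inferInstance
        exact Etale.of_comp g O.ι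
      haveI : Surjective g := ⟨fun z => by
        obtain ⟨y, hy⟩ := z.2
        refine ⟨y, Subtype.ext ?_⟩
        change (g ≫ O.ι) y = _
        rw [hg]; exact hy⟩
      refine ⟨_, O.ι, inferInstance, ⟨⟨v, w, hw⟩, rfl⟩, ?_⟩
      refine Groth.Agent.AlgSpCartier.isEffCartierIdeal_of_comap g g.isOpenMap ?_
      rw [← Scheme.IdealSheafData.comap_comp, hg]
      exact h1
    · refine ⟨_, Scheme.Opens.ι (X := V.left) I₀.support.compl, inferInstance, ⟨⟨v, hv⟩, rfl⟩, fun z => ?_⟩
      obtain ⟨O, hO, hzO, -⟩ := exists_isAffineOpen_mem_and_subset (U := ⊤) (x := z) trivial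
      refine ⟨⟨O, hO⟩, hzO, 1, one_mem _, ?_⟩
      rw [Ideal.span_singleton_one]
      by_contra hne
      obtain ⟨P, hP, hle⟩ := Ideal.exists_le_maximal _ hne
      obtain ⟨q, hq, hqP⟩ := Groth.Agent.AssPts.exists_point hO P
      have hq' := (Groth.Agent.DivPts.mem_support_iff_le_prime _ ⟨O, hO⟩ hq).2 (hqP ▸ hle)
      have hq'' : q ∈ ((I₀.comap (Scheme.Opens.ι (X := V.left) I₀.support.compl)).support : Set _) := hq'
      rw [Scheme.IdealSheafData.support_comap] at hq''
      exact q.2 hq''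

end Groth.Agent.S10792
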