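import Groth.Statements.S10793
import Groth.Agent.AlgSpCartier.Chart
import Groth.Agent.AlgSpc.AffineLocal
-- import your own Groth.Agent.* helpers here

set_option backward.isDefEq.respectTransparency false

set_option autoImplicit false
universe u
open CategoryTheory CategoryTheory.Limits AlgebraicGeometry Topology TopologicalSpace
open AlgSp

namespace Groth.Agent.S10793

/-- For an algebraic space X over a scheme S, an effective Cartier divisor D ⟶ X (in the one-chart
sense) and the open subspace U ⟶ X complementary to D, that is, a morphism representable by open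
immersions whose image in |X| is the complement of the image of |D|: the inclusion of U in X is an
affine morphism, and in the scheme-theoretic sense (one-chart form) U is dense in X. -/
theorem result {S : Scheme.{u}} (X D U : AlgSp.Space S)
    (i : D ⟶ X) (hD : AlgSp.IsEffCartierSub i.hom) (j : U ⟶ X) (hj : AlgSp.RepWith @IsOpenImmersion j.hom)
    (hU : Set.range (AlgSp.Points.map j.hom) = (Set.range (AlgSp.Points.map i.hom))ᶜ) :
    AlgSp.IsAffineMor j.hom ∧ AlgSp.IsSchDense j.hom := by
  obtain ⟨-, V, φ, I, a, hφ, hφs, sq, hI⟩ := hD
  obtain ⟨O, b, rfl, sqO⟩ := Groth.Agent.AlgSpCartier.compl_chart hj hU ⟨a, sq⟩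
  haveI := Groth.Agent.ModPairLib.isAffineHom_interior hI
  haveI := Groth.Agent.ModPairLib.std_interior hI
  refine ⟨Groth.Agent.AlgSpc.isAffineMor_of_atlas U.property X.property hφ hφs sqO
    ((Groth.Agent.AlgSpc.repWith_affineHom_iff _).2 ((repWith_yon_map_iff @IsAffineHom _).2
      (Groth.Agent.ModPairLib.isAffineHom_interior hI))), hj, V, φ, _, b, hφ, hφs, sqO, ?_⟩
  haveI : IsSchemeTheoreticallyDominant (Scheme.Opens.ι (X := V.left) I.support.compl) :=
    Groth.Agent.ModPairLib.std_interior hI
  haveI : IsAffineHom (Scheme.Opens.ι (X := V.left) I.support.compl) :=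
    Groth.Agent.ModPairLib.isAffineHom_interior hI
  exact Groth.Agent.ModPairLib.app_injective_of_std

end Groth.Agent.S10793
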