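import Groth.Statements.S10795
import Groth.Agent.AlgSpCartier.Chart
import Groth.Agent.AlgSpc.EtLocInst
-- import your own Groth.Agent.* helpers here

set_option backward.isDefEq.respectTransparency false

set_option autoImplicit false
universe u
open CategoryTheory CategoryTheory.Limits AlgebraicGeometry Topology TopologicalSpace
open AlgSp

namespace Groth.Agent.S10795

/-- For algebraic spaces X and Y over a scheme S, a flat morphism f : X ⟶ Y and an effective Cartier
divisor D ⟶ Y (one-chart sense), the inverse image of D under f is an effective Cartier divisor on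
X: for every pullback square of D ⟶ Y along f, the projection to X is an effective Cartier divisor
(one-chart sense). -/
theorem result {S : Scheme.{u}} (X Y D P : AlgSp.Space S) (f : X ⟶ Y)
    (hf : AlgSp.LocP @Flat f.hom) (i : D ⟶ Y) (hD : AlgSp.IsEffCartierSub i.hom)
    (fst : P ⟶ D) (snd : P ⟶ X) (hP : IsPullback fst.hom snd.hom i.hom f.hom) :
    AlgSp.IsEffCartierSub snd.hom := by
  obtain ⟨W, a, ha, has⟩ := X.property.atlas
  obtain ⟨hi, V, φ, I, d, hφ, hφs, sqI, hI⟩ := hD
  obtain ⟨T, k, b, sqT⟩ := Groth.Agent.AlgSpc.exists_sq hφ.1 (a ≫ f.hom)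
  haveI : Etale b.left := hφ.2 _ _ _ sqT
  haveI : Surjective b.left := hφs.2 _ _ _ sqT
  have hbe : RepWith @Etale ((AlgSp.yon S).map b) := (repWith_yon_map_iff @Etale b).2 inferInstance
  haveI : Flat (Groth.Agent.AlgSpc.pre k).left :=
    hf ((AlgSp.yon S).map b ≫ a) φ (Groth.Agent.AlgSpc.pre k) (Groth.Agent.AlgSpc.repWith_comp hbe ha) hφ
      (by rw [Category.assoc, Groth.Agent.AlgSpc.map_pre]; exact sqT.w.symm)
  have hsnd : RepWith @IsClosedImmersion snd.hom := Groth.Agent.AlgSpc.repWith_of_isPullback hP hi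
  obtain ⟨J, e, sqJ⟩ := Groth.Agent.AlgSpCartier.exists_cutsOut hsnd a
  refine ⟨hsnd, W, a, J, e, ha, has, sqJ, ?_⟩
  have h1 := Groth.Agent.ModPairLib.isEffCartier_comap_flat hI (Groth.Agent.AlgSpc.pre k).left
  rw [Groth.Agent.AlgSpCartier.comap_eq ⟨d, sqI⟩ ⟨e ≫ fst.hom, sqJ.paste_horiz hP⟩ (Groth.Agent.AlgSpc.pre k) b
    (by rw [Groth.Agent.AlgSpc.map_pre]; exact sqT.w)] at h1
  exact Groth.Agent.AlgSpCartier.isEffCartierIdeal_of_comap b.left b.left.isOpenMap h1

end Groth.Agent.S10795
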