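import Groth.Statements.S10797
import Groth.Agent.AlgSpCartier.FlatBase
import Groth.Agent.AlgSpc.FibreProd
import Groth.Agent.AlgSpc.EtLocInst
-- import your own Groth.Agent.* helpers here

set_option backward.isDefEq.respectTransparency false
set_option maxHeartbeats 800000
open Groth.Agent.AlgSpc Groth.Agent.AlgSpCartier

set_option autoImplicit false
universe u
open CategoryTheory CategoryTheory.Limits AlgebraicGeometry Topology TopologicalSpace
open AlgSp

namespace Groth.Agent.S10797

/-- Let f : X ⟶ Y be a morphism of algebraic spaces over a scheme S and D ⟶ X an effective Cartier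
divisor (one-chart sense) such that the composite D ⟶ Y is flat. Then for every morphism g : Y' ⟶ Y
and every pullback square exhibiting X' as Y' ×_Y X with projection g' : X' ⟶ X, the inverse image
of D under g' (the projection to X' from any pullback of D ⟶ X along g') is an effective Cartier
divisor on X'. (The published statement takes g to be a morphism from a scheme Y'; this row allows
Y' to be an algebraic space, to which the same etale-local reduction to schemes applies.) -/
theorem result {S : Scheme.{u}} (X Y D Y' X' D' : AlgSp.Space S)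
    (f : X ⟶ Y) (i : D ⟶ X) (hD : AlgSp.IsEffCartierSub i.hom) (hflat : AlgSp.LocP @Flat (i ≫ f).hom)
    (g : Y' ⟶ Y) (g' : X' ⟶ X) (f' : X' ⟶ Y') (hX' : IsPullback g'.hom f'.hom f.hom g.hom)
    (k : D' ⟶ D) (i' : D' ⟶ X') (hD' : IsPullback k.hom i'.hom i.hom g'.hom) :
    AlgSp.IsEffCartierSub i'.hom := by
  classical
  obtain ⟨V, b, hb, hbs⟩ := Y.property.atlas
  obtain ⟨U₀, a₀, ha₀, ha₀s⟩ := X.property.atlas
  obtain ⟨U, kk, sU, sqU⟩ := exists_sq hb.1 (a₀ ≫ f.hom)
  let a : (AlgSp.yon S).obj U ⟶ X.obj := (AlgSp.yon S).map sU ≫ a₀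
  have ha : RepWith @Etale a := repWith_comp ((repWith_yon_map_iff @Etale sU).2 (hb.2 _ _ _ sqU)) ha₀
  have has : RepWith @Surjective a := repWith_comp ((repWith_yon_map_iff @Surjective sU).2 (hbs.2 _ _ _ sqU)) ha₀s
  have hka : a ≫ f.hom = (AlgSp.yon S).map (pre kk) ≫ b := by
    rw [map_pre]; simp only [a, Category.assoc]; exact sqU.w.symm
  obtain ⟨I, ai, sqI⟩ := exists_cutsOut hD.1 a
  have hI := cartier_of_chart X.property hD a ha ⟨ai, sqI⟩
  haveI : Flat (I.subschemeι ≫ (pre kk).left) :=
    hflat ai b (subι I ≫ pre kk) (repWith_of_isPullback sqI.flip ha) hb (by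
      change ai ≫ i.hom ≫ f.hom = (AlgSp.yon S).map (subι I ≫ pre kk) ≫ b
      rw [← Category.assoc, sqI.w, Category.assoc, hka, Functor.map_comp, Category.assoc])
  obtain ⟨W₀, c, hc, hcs⟩ := Y'.property.atlas
  obtain ⟨V', v, c', sqV⟩ := exists_sq hb.1 (c ≫ g.hom)
  let c'' : (AlgSp.yon S).obj V' ⟶ Y'.obj := (AlgSp.yon S).map c' ≫ c
  have hc'' : RepWith @Etale c'' := repWith_comp ((repWith_yon_map_iff @Etale c').2 (hb.2 _ _ _ sqV)) hc
  have hc''s : RepWith @Surjective c'' := repWith_comp ((repWith_yon_map_iff @Surjective c').2 (hbs.2 _ _ _ sqV)) hcs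
  let U' : Over S := pullback (pre kk) (pre v)
  have sqU' := (IsPullback.of_hasPullback (pre kk) (pre v)).map (AlgSp.yon S)
  -- U' = U ×_Y W₀
  have sqV' : IsPullback ((AlgSp.yon S).map (pre v)) ((AlgSp.yon S).map c') b (c ≫ g.hom) := by
    rw [map_pre]; exact sqV
  have sqW := sqU'.paste_vert sqV'
  rw [← hka, ← Functor.map_comp] at sqW
  let P : Sp S := pullback a g'.hom
  have sqQ : IsPullback (pullback.fst a g'.hom) (pullback.snd a g'.hom ≫ f'.hom) (a ≫ f.hom) g.hom :=
    (IsPullback.of_hasPullback a g'.hom).paste_vert hX'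
  let l : (AlgSp.yon S).obj U' ⟶ P := sqQ.lift ((AlgSp.yon S).map (pullback.fst _ _))
    ((AlgSp.yon S).map (pullback.snd (pre kk) (pre v) ≫ c') ≫ c) (by rw [sqW.w, Category.assoc])
  have sqL : IsPullback l ((AlgSp.yon S).map (pullback.snd (pre kk) (pre v) ≫ c'))
      (pullback.snd a g'.hom ≫ f'.hom) c :=
    IsPullback.of_right (h₁₂ := pullback.fst a g'.hom) (v₁₃ := a ≫ f.hom) (h₂₂ := g.hom)
      (by rw [IsPullback.lift_fst]; exact sqW) (sqQ.lift_snd _ _ _) sqQ
  have hl : RepWith @Etale l := repWith_of_isPullback sqL.flip hc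
  have hls : RepWith @Surjective l := repWith_of_isPullback sqL.flip hcs
  let a' : (AlgSp.yon S).obj U' ⟶ X'.obj := l ≫ pullback.snd a g'.hom
  have ha' : RepWith @Etale a' :=
    repWith_comp hl (repWith_of_isPullback (IsPullback.of_hasPullback a g'.hom) ha)
  have ha's : RepWith @Surjective a' :=
    repWith_comp hls (repWith_of_isPullback (IsPullback.of_hasPullback a g'.hom) has)
  have hi' : RepWith @IsClosedImmersion i'.hom := repWith_of_isPullback hD' hD.1
  obtain ⟨J, e, sqJ⟩ := exists_cutsOut hi' a'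
  refine ⟨hi', U', a', J, e, ha', ha's, sqJ, ?_⟩
  have hJ := comap_eq (W := U') ⟨ai, sqI⟩ ⟨e ≫ k.hom, sqJ.paste_horiz hD'⟩ (pullback.fst (pre kk) (pre v)) (𝟙 U') (by
    rw [CategoryTheory.Functor.map_id, Category.id_comp]
    change (AlgSp.yon S).map (pullback.fst (pre kk) (pre v)) ≫ a = (l ≫ pullback.snd a g'.hom) ≫ g'.hom
    rw [Category.assoc, ← pullback.condition]
    exact (congrArg (· ≫ a) (sqQ.lift_fst _ _ _)).symm.trans (Category.assoc _ _ _))
  rw [show (𝟙 U' : U' ⟶ U').left = 𝟙 U'.left from rfl, Scheme.IdealSheafData.comap_id] at hJ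
  rw [← hJ]
  have sq' := (IsPullback.of_hasPullback (pre kk) (pre v)).map (Over.forget S)
  rw [show (pullback.fst (pre kk) (pre v)).left = sq'.isoPullback.hom ≫ pullback.fst (pre kk).left (pre v).left from
    sq'.isoPullback_hom_fst.symm, Scheme.IdealSheafData.comap_comp]
  exact Groth.Agent.ModPairLib.isEffCartier_comap_flat (cartier_pullback (pre kk).left (pre v).left I hI) _

end Groth.Agent.S10797
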