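import Groth.Statements.S1080
import Groth.Agent.FilDLib.Injective

set_option autoImplicit false
universe v u
open CategoryTheory CategoryTheory.Limits Opposite
open FilD

open Groth.Agent.FilDLib

namespace Groth.Agent.S1080

set_option backward.isDefEq.respectTransparency false
set_option backward.defeqAttrib.useBackward true

/-- Let A be an abelian category and u : I ⟶ X a strict monomorphism of finite filtered objects with I
filtered injective (all graded pieces injective). Then u admits a retraction. -/
theorem result {A : Type u} [Category.{v} A] [Abelian A] {I X : FilD.FilF A} (u : I ⟶ X) [Mono u]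
    (hu : FilD.IsStrict u) (hI : FilD.IsFilteredInjective I) : ∃ r : X ⟶ I, u ≫ r = 𝟙 I := by
  obtain ⟨g, hg⟩ := exists_extension u.hom (strictMonoHom_of_isStrict u hu) X.property I.property hI (𝟙 I.obj)
  exact ⟨ObjectProperty.homMk g, (FilD.IsFinFil A).ι.map_injective hg⟩

end Groth.Agent.S1080
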