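import Groth.Statements.S10802
import Groth.Agent.AlgSpc.LocP
import Groth.Agent.AlgSpc.FibreProd
import Groth.Agent.AlgSpc.EtLocInst

set_option autoImplicit false
universe u
open CategoryTheory CategoryTheory.Limits AlgebraicGeometry Topology TopologicalSpace
open AlgSp

namespace Groth.Agent.S10802

set_option backward.isDefEq.respectTransparency false
open CategoryTheory CategoryTheory.Limits Groth.Agent.AlgSpc

/-- For algebraic spaces X and Y over a scheme S and a morphism f : X ⟶ Y which is locally of finite
type, every fibre of f over a field-valued point of Y is a locally Noetherian algebraic space: for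
every field k and every point p : Spec k ⟶ Y, the fibre X_p = Spec k ×_Y X (any pullback of f along
the morphism of p) admits a representable etale surjective chart from a locally Noetherian scheme. -/
theorem result {S : Scheme.{u}} (X Y : AlgSp.Space S) (f : X ⟶ Y)
    (hf : AlgSp.LocP @LocallyOfFiniteType f.hom) (p : AlgSp.FieldPt Y.obj)
    {P : AlgSp.Sp S} (fst : P ⟶ X.obj) (snd : P ⟶ (AlgSp.yon S).obj p.pt) (hP : IsPullback fst snd f.hom p.toHom) :
    AlgSp.IsLocNoethSp P := by
  have hA : AlgSp.IsAlgSpace P := isAlgSpace_of_isPullback X.property Y.property (AlgSp.IsAlgSpace.yon_obj _) hP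
  obtain ⟨U, a, ha, has⟩ := hA.atlas
  have h := locP_base_change X.property Y.property (AlgSp.IsAlgSpace.yon_obj _) hP hf
  haveI : LocallyOfFiniteType (pre (a ≫ snd)).left :=
    h a (𝟙 _) (pre (a ≫ snd)) ha (AlgSp.repWith_id _ _) (by rw [Category.comp_id, map_pre])
  haveI : IsLocallyNoetherian p.pt.left := inferInstanceAs (IsLocallyNoetherian (Spec (CommRingCat.of p.K)))
  exact ⟨U, a, ha, has, LocallyOfFiniteType.isLocallyNoetherian (pre (a ≫ snd)).left⟩

end Groth.Agent.S10802
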