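import Groth.Statements.S10803
import Groth.Agent.AlgSpFieldNoeth.Basic
import Groth.Agent.AlgSpc.EtLocInst
import Groth.Agent.AlgSpDesc.LqfDim
import Groth.Agent.AlgSpc.SepLQF2

set_option autoImplicit false
universe u
open CategoryTheory CategoryTheory.Limits AlgebraicGeometry Topology TopologicalSpace
open AlgSp

namespace Groth.Agent.S10803

set_option backward.isDefEq.respectTransparency false
open CategoryTheory CategoryTheory.Limits Groth.Agent.AlgSpc Groth.Agent.AlgSpFieldNoeth

/-- (3) ⇒ (2) (with (2) ⇒ (1) ⇒ (3) immediate, this gives the equivalence of the three conditions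
defining a locally Noetherian fibre over y): take a morphism f : X ⟶ Y of algebraic spaces over a
scheme S and a point y of |Y|. Suppose that for some field k and some point p : Spec k ⟶ Y
representing y the fibre X_p (any pullback of f along the morphism of p) is locally Noetherian. Then
for every scheme V, every representable etale h_V ⟶ Y and every point v of V mapping to y, the fibre
X_v = Spec κ(v) ×_Y X is locally Noetherian. -/
theorem result {S : Scheme.{u}} (X Y : AlgSp.Space S) (f : X ⟶ Y)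
    (y : AlgSp.Points Y.obj) (p : AlgSp.FieldPt Y.obj) (hp : AlgSp.Points.mk p = y)
    (hNoeth : ∀ ⦃P : AlgSp.Sp S⦄ (fst : P ⟶ X.obj) (snd : P ⟶ (AlgSp.yon S).obj p.pt),
      IsPullback fst snd f.hom p.toHom → AlgSp.IsLocNoethSp P)
    (V : Over S) (b : (AlgSp.yon S).obj V ⟶ Y.obj) (hb : AlgSp.RepWith @Etale b) (v : ↥V.left)
    (hv : AlgSp.Points.ofPt b v = y)
    {Q : AlgSp.Sp S} (qfst : Q ⟶ X.obj) (qsnd : Q ⟶ (AlgSp.yon S).obj (AlgSp.FieldPt.ofPt b v).pt)
    (hQ : IsPullback qfst qsnd f.hom (AlgSp.FieldPt.ofPt b v).toHom) :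
    AlgSp.IsLocNoethSp Q := by
  obtain ⟨W, fst, c₀, sW⟩ := exists_sq hb.1 p.toHom
  haveI : Etale c₀.left := hb.2 _ _ _ sW
  obtain ⟨w, hw, -⟩ := exists_point_of_sq sW (AlgSp.Points.ofScheme V v) (IsLocalRing.closedPoint p.K)
    (by rw [← AlgSp.Points.ofPt_eq_map_ofScheme, AlgSp.Points.ofPt_toHom, hv, hp])
  have hwv : (pre fst).left w = v := by
    have := congrArg (AlgSp.Points.toScheme V) hw
    rwa [← map_pre fst, AlgSp.Points.toScheme_ofPt, AlgSp.Points.toScheme_ofScheme] at this
  subst hwv
  let T' : Over S := Over.mk (W.left.fromSpecResidueField w ≫ W.hom)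
  let j : T' ⟶ W := Over.homMk (W.left.fromSpecResidueField w) rfl
  have he : Spec.map ((pre fst).left.residueFieldMap w) ≫ V.left.fromSpecResidueField ((pre fst).left w) =
      W.left.fromSpecResidueField w ≫ (pre fst).left := Scheme.Hom.SpecMap_residueFieldMap_fromSpecResidueField _ _
  let c₂ : T' ⟶ (AlgSp.FieldPt.ofPt b ((pre fst).left w)).pt :=
    Over.homMk (Spec.map ((pre fst).left.residueFieldMap w)) (by
      change Spec.map _ ≫ (V.left.fromSpecResidueField _ ≫ V.hom) = W.left.fromSpecResidueField w ≫ W.hom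
      rw [reassoc_of% he, Over.w])
  haveI := lqf_of_etale c₀.left
  haveI : DiscreteTopology ↥W.left := discreteTopology_of_lqf_to_field (K := p.K) c₀.left
  haveI : IsClosedImmersion (W.left.fromSpecResidueField w) :=
    IsClosedImmersion.of_isPreimmersion _ (isClosed_discrete _)
  haveI : LocallyOfFiniteType (j ≫ c₀).left := by
    rw [Over.comp_left]
    exact inferInstanceAs (LocallyOfFiniteType (W.left.fromSpecResidueField w ≫ c₀.left))
  have sP := IsPullback.of_hasPullback f.hom p.toHom
  have s₁ := IsPullback.of_hasPullback (pullback.snd f.hom p.toHom) ((AlgSp.yon S).map (j ≫ c₀))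
  have h₁ := isLocNoethSp_of_lft s₁ (hNoeth _ _ sP)
  have e : (AlgSp.yon S).map c₂ ≫ (AlgSp.FieldPt.ofPt b ((pre fst).left w)).toHom =
      (AlgSp.yon S).map (j ≫ c₀) ≫ p.toHom := by
    have eq : (AlgSp.FieldPt.ofPt b ((pre fst).left w)).toHom = (AlgSp.yon S).map (Over.homMk
      (V.left.fromSpecResidueField ((pre fst).left w)) rfl : (AlgSp.FieldPt.ofPt b ((pre fst).left w)).pt ⟶ V) ≫ b := by
      apply (AlgSp.J S).uliftYonedaEquiv.injective
      rw [AlgSp.FieldPt.uliftYonedaEquiv_toHom, GrothendieckTopology.uliftYonedaEquiv_comp]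
      rfl
    rw [eq, ← Functor.map_comp_assoc, (AlgSp.yon S).map_comp j c₀, Category.assoc, ← sW.w]
    refine Eq.trans ?_ (congrArg (fun k => (AlgSp.yon S).map j ≫ k ≫ b) (map_pre fst))
    rw [← Functor.map_comp_assoc]
    congr 2
    exact Over.OverMorphism.ext he
  have sQ : IsPullback (pullback.fst (pullback.snd f.hom p.toHom) ((AlgSp.yon S).map (j ≫ c₀)) ≫ pullback.fst f.hom p.toHom)
      (pullback.snd (pullback.snd f.hom p.toHom) ((AlgSp.yon S).map (j ≫ c₀))) f.hom
      ((AlgSp.yon S).map c₂ ≫ (AlgSp.FieldPt.ofPt b ((pre fst).left w)).toHom) := e.symm ▸ s₁.paste_horiz sP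
  have s₂ := IsPullback.of_right (h₁₁ := hQ.lift _ (pullback.snd _ _ ≫ (AlgSp.yon S).map c₂)
      (sQ.w.trans (Category.assoc _ _ _).symm))
    (by rw [hQ.lift_fst]; exact sQ) (hQ.lift_snd _ _ _) hQ
  haveI : Flat c₂.left := flat_to_field (K := V.left.residueField ((pre fst).left w)) c₂.left
  haveI : Surjective c₂.left := ⟨fun x => ⟨IsLocalRing.closedPoint (W.left.residueField w),
    @Subsingleton.elim (PrimeSpectrum (V.left.residueField ((pre fst).left w))) _ _ _⟩⟩
  haveI : IsAffine T'.left := inferInstanceAs (IsAffine (Spec (W.left.residueField w)))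
  haveI : IsAffine (AlgSp.FieldPt.ofPt b ((pre fst).left w)).pt.left :=
    inferInstanceAs (IsAffine (Spec (V.left.residueField ((pre fst).left w))))
  exact isLocNoethSp_of_cover (isAlgSpace_of_isPullback X.property Y.property (AlgSp.IsAlgSpace.yon_obj _) hQ) s₂ h₁

end Groth.Agent.S10803
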