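import Groth.Statements.S10804
import Groth.Agent.AlgSpFieldNoeth.Basic
import Groth.Agent.S10215

set_option autoImplicit false
universe u
open CategoryTheory CategoryTheory.Limits AlgebraicGeometry Topology TopologicalSpace
open AlgSp

namespace Groth.Agent.S10804

set_option backward.isDefEq.respectTransparency false
open CategoryTheory CategoryTheory.Limits Groth.Agent.AlgSpc Groth.Agent.AlgSpFieldNoeth

/-- (3) ⇒ (4): let f : X ⟶ Y be a morphism of algebraic spaces over a scheme S, and let p : Spec k ⟶ Y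
and p₀ : Spec k₀ ⟶ Y be field-valued points defining the same point of |Y|, with h_{Spec k₀} ⟶ Y a
monomorphism. If the fibre X_p = Spec k ×_Y X (any pullback of f along the morphism of p) is locally
Noetherian, then the fibre X_{p₀} is locally Noetherian. -/
theorem result {S : Scheme.{u}} (X Y : AlgSp.Space S) (f : X ⟶ Y)
    (p p₀ : AlgSp.FieldPt Y.obj) (hpp : AlgSp.Points.mk p = AlgSp.Points.mk p₀) (hmono : Mono p₀.toHom)
    (hNoeth : ∀ ⦃P : AlgSp.Sp S⦄ (fst : P ⟶ X.obj) (snd : P ⟶ (AlgSp.yon S).obj p.pt),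
      IsPullback fst snd f.hom p.toHom → AlgSp.IsLocNoethSp P)
    {Q : AlgSp.Sp S} (qfst : Q ⟶ X.obj) (qsnd : Q ⟶ (AlgSp.yon S).obj p₀.pt)
    (hQ : IsPullback qfst qsnd f.hom p₀.toHom) :
    AlgSp.IsLocNoethSp Q := by
  haveI := hmono
  obtain ⟨c, hc, -⟩ := S10215.result Y p₀ p hpp.symm
  have sP := IsPullback.of_hasPullback qsnd ((AlgSp.yon S).map c)
  have h := hNoeth _ _ (hc ▸ sP.paste_horiz hQ : IsPullback (pullback.fst qsnd ((AlgSp.yon S).map c) ≫ qfst)
    (pullback.snd qsnd ((AlgSp.yon S).map c)) f.hom p.toHom)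
  haveI : Flat c.left := flat_to_field (K := p₀.K) c.left
  haveI : Surjective c.left := ⟨fun x => ⟨IsLocalRing.closedPoint p.K,
    @Subsingleton.elim (PrimeSpectrum p₀.K) _ _ _⟩⟩
  haveI : IsAffine p.pt.left := inferInstanceAs (IsAffine (Spec (CommRingCat.of p.K)))
  haveI : IsAffine p₀.pt.left := inferInstanceAs (IsAffine (Spec (CommRingCat.of p₀.K)))
  exact isLocNoethSp_of_cover (isAlgSpace_of_isPullback X.property Y.property (AlgSp.IsAlgSpace.yon_obj _) hQ) sP h

end Groth.Agent.S10804
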