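import Groth.Statements.S10813
import Groth.Agent.AlgSpCartier.IdealEt
import Groth.Agent.LeadAlg.CartierFactor
-- import your own Groth.Agent.* helpers here

set_option backward.isDefEq.respectTransparency false

set_option autoImplicit false
universe u
open CategoryTheory CategoryTheory.Limits AlgebraicGeometry Topology TopologicalSpace
open AlgSp

namespace Groth.Agent.S10813

/-- Let X be an algebraic space over a scheme S, let Z ⟶ X and Y ⟶ X be closed subspaces cut out by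
quasi-coherent sheaves of ideals I and J, and let D ⟶ X be the closed subspace which the product I·J
cuts out. If D is an effective Cartier divisor (one-chart sense), then so are Z and Y, and D is
their sum. -/
theorem result {S : Scheme.{u}} (X Z Y D : AlgSp.Space S)
    (iZ : Z ⟶ X) (iY : Y ⟶ X) (iD : D ⟶ X) (I J : AlgSp.IdealEt X.obj) (hI : I.IsQCoh) (hJ : J.IsQCoh)
    (hZ : AlgSp.IsCutOutBy I iZ.hom) (hY : AlgSp.IsCutOutBy J iY.hom) (hD : AlgSp.IsCutOutBy (I * J) iD.hom)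
    (hDc : AlgSp.IsEffCartierSub iD.hom) :
    AlgSp.IsEffCartierSub iZ.hom ∧ AlgSp.IsEffCartierSub iY.hom := by
  obtain ⟨V, p, hp, hps⟩ := X.property.atlas
  obtain ⟨J₁, hJ₁⟩ := Groth.Agent.AlgSpCartier.exists_cutsOut hZ.1 p
  obtain ⟨J₂, hJ₂⟩ := Groth.Agent.AlgSpCartier.exists_cutsOut hY.1 p
  obtain ⟨J, hJ'⟩ := Groth.Agent.AlgSpCartier.exists_cutsOut hD.1 p
  have he := Groth.Agent.AlgSpCartier.cutsOut_mul hZ hY hD hp hJ₁ hJ₂ hJ'
  have hc := Groth.Agent.AlgSpCartier.cartier_of_chart X.property hDc p hp hJ'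
  rw [he] at hc
  obtain ⟨a, sqa⟩ := hJ₁
  obtain ⟨b, sqb⟩ := hJ₂
  exact ⟨⟨hZ.1, V, p, J₁, a, hp, hps, sqa, Groth.Agent.LeadAlg.CartierFactor.left J₁ J₂ hc⟩,
    ⟨hY.1, V, p, J₂, b, hp, hps, sqb, Groth.Agent.LeadAlg.CartierFactor.left J₂ J₁ (by rwa [mul_comm])⟩⟩

end Groth.Agent.S10813
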