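import Groth.Statements.S1082
import Groth.Agent.FilDLib.Resolution

set_option autoImplicit false
universe v u
open CategoryTheory CategoryTheory.Limits Opposite
open FilD

open Groth.Agent.FilDLib
open ZeroObject

namespace Groth.Agent.S1082

set_option backward.isDefEq.respectTransparency false
set_option backward.defeqAttrib.useBackward true

section

variable {A : Type u} [Category.{v} A] [Abelian A] (J : ℤ → FilD.FilF A)

/-- A contractible complex. -/
noncomputable def contr : CochainComplex (FilD.FilF A) ℤ :=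
  CochainComplex.of (fun n => J n ⊞ J (n + 1)) (fun n => biprod.snd ≫ biprod.inl) (fun n => by simp)

lemma contr_d (n : ℤ) : (contr J).d n (n + 1) = (biprod.snd ≫ biprod.inl : J n ⊞ J (n + 1) ⟶ J (n + 1) ⊞ J (n + 1 + 1)) := by
  simp [contr]

lemma contr_acyclic (p : ℤ) (n : ℤ) : ((FilD.grCx p).obj (contr J)).ExactAt n := by
  obtain ⟨m, rfl⟩ : ∃ m, n = m + 1 := ⟨n - 1, by omega⟩
  let G := FilD.grF A p
  rw [HomologicalComplex.exactAt_iff' _ m (m + 1) (m + 1 + 1) (by simp) (by simp),
    ShortComplex.exact_iff_exact_up_to_refinements]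
  intro T (x : T ⟶ G.obj (J (m + 1) ⊞ J (m + 1 + 1))) hx
  change x ≫ G.map ((contr J).d (m + 1) (m + 1 + 1)) = 0 at hx
  rw [contr_d, G.map_comp, ← Category.assoc] at hx
  have h0 : x ≫ G.map biprod.snd = 0 := (cancel_mono (G.map biprod.inl)).1 (hx.trans zero_comp.symm)
  refine ⟨T, 𝟙 T, inferInstance, x ≫ G.map biprod.fst ≫ G.map (biprod.inr : J (m + 1) ⟶ J m ⊞ J (m + 1)), ?_⟩
  change 𝟙 T ≫ x = (x ≫ G.map biprod.fst ≫ G.map biprod.inr) ≫ G.map ((contr J).d m (m + 1))
  rw [contr_d, Category.id_comp, Category.assoc, Category.assoc, ← G.map_comp, biprod.inr_snd_assoc, ← G.map_comp]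
  conv_lhs => rw [← Category.comp_id x, ← G.map_id, ← biprod.total, G.map_add, Preadditive.comp_add]
  rw [G.map_comp biprod.snd, reassoc_of% h0, zero_comp, add_zero]

end

/-- Let A be an abelian category with enough injectives and K a bounded below cochain complex of finite
filtered objects. There are a bounded below complex I of filtered injective objects and a filtered
quasi-isomorphism K ⟶ I each of whose components Kⁿ ⟶ Iⁿ is a strict monomorphism. -/
theorem result {A : Type u} [Category.{v} A] [Abelian A] [EnoughInjectives A] (K : CochainComplex (FilD.FilF A) ℤ) (a : ℤ) [K.IsStrictlyGE a] :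
    ∃ (I : CochainComplex (FilD.FilF A) ℤ) (a' : ℤ) (φ : K ⟶ I), I.IsStrictlyGE a' ∧ (∀ n, FilD.IsFilteredInjective (I.X n)) ∧
      FilD.IsFilteredQuasiIso φ ∧ ∀ n, Mono (φ.f n) ∧ FilD.IsStrict (φ.f n) := by
  classical
  obtain ⟨I, φ, hI0, hI, hφ⟩ := exists_resolution K a
  have hz : FilD.IsFilteredInjective (0 : FilD.FilF A) := fun p =>
    ((FilD.grF A p).map_isZero (isZero_zero _)).injective
  have hJ' : ∀ n, ∃ (J : FilD.FilF A) (e : K.X n ⟶ J), FilD.IsFilteredInjective J ∧
      (∀ p, Mono ((FilD.gr A p).map e.hom)) ∧ (n < a → IsZero J) := fun n => by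
    by_cases hn : n < a
    · exact ⟨0, 0, hz, fun p => ⟨fun _ _ _ => ((FilD.gr A p).map_isZero
        (isZero_obj_of_isZero (K.isZero_of_isStrictlyGE a n hn))).eq_of_tgt _ _⟩, fun _ => isZero_zero _⟩
    · obtain ⟨J, e, h1, h2⟩ := exists_embedding (K.X n)
      exact ⟨J, e, h1, h2, fun h => absurd h hn⟩
  choose J e hJ he hJ0 using hJ'
  let E := contr J
  let ε : K ⟶ E :=
    { f := fun n => biprod.lift (e n) (K.d n (n + 1) ≫ e (n + 1))
      comm' := fun i j (h : i + 1 = j) => by
        subst h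
        change biprod.lift (e i) (K.d i (i + 1) ≫ e (i + 1)) ≫ E.d i (i + 1) = K.d i (i + 1) ≫ biprod.lift (e (i + 1)) (K.d (i + 1) (i + 1 + 1) ≫ e (i + 1 + 1))
        rw [contr_d]
        refine biprod.hom_ext _ _ ?_ ?_ <;> simp }
  let φ' : K ⟶ I ⊞ E := biprod.lift φ ε
  haveI : ∀ p, (FilD.grCx (A := A) p).Additive := fun p => inferInstance
  have hXz : ∀ n, n < a - 1 → IsZero ((I ⊞ E).X n) := fun n hn => by
    have hE : IsZero (J n ⊞ J (n + 1)) := by
      rw [IsZero.iff_id_eq_zero]
      exact biprod.hom_ext' _ _ ((hJ0 n (by omega)).eq_of_src _ _) ((hJ0 _ (by omega)).eq_of_src _ _)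
    refine IsZero.of_iso ?_ (HomologicalComplex.biprodXIso I E n)
    rw [IsZero.iff_id_eq_zero]
    exact biprod.hom_ext' _ _ ((I.isZero_of_isStrictlyGE a n (by omega)).eq_of_src _ _) (hE.eq_of_src _ _)
  refine ⟨I ⊞ E, a - 1, φ', (CochainComplex.isStrictlyGE_iff _ _).2 hXz, fun n p => ?_, fun p => ⟨fun n => ?_⟩, fun n => ?_⟩
  · let G := FilD.grF A p
    haveI : PreservesBinaryBiproducts G := preservesBinaryBiproducts_of_preservesBiproducts G
    haveI := hI n p
    haveI := hJ n p
    haveI := hJ (n + 1) p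
    haveI : Injective (G.obj (J n ⊞ J (n + 1))) := Injective.of_iso (G.mapBiprod _ _).symm inferInstance
    haveI : Injective (G.obj (E.X n)) := inferInstanceAs (Injective (G.obj (J n ⊞ J (n + 1))))
    exact Injective.of_iso (G.mapIso (HomologicalComplex.biprodXIso I E n) ≪≫ G.mapBiprod _ _).symm inferInstance
  · let Φ := FilD.grCx (A := A) p ⋙ HomologicalComplex.homologyFunctor A (ComplexShape.up ℤ) n
    have h0 : IsZero (Φ.obj E) := (contr_acyclic J p n).isZero_homology
    haveI : IsIso (Φ.map (biprod.fst : I ⊞ E ⟶ I)) := ⟨Φ.map biprod.inl, by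
      rw [← Φ.map_comp, ← Φ.map_id, ← biprod.total, Φ.map_add, Φ.map_comp biprod.snd,
        h0.eq_of_tgt (Φ.map (biprod.snd : I ⊞ E ⟶ E)) 0, zero_comp, add_zero],
      by rw [← Φ.map_comp, biprod.inl_fst, Φ.map_id]⟩
    rw [quasiIsoAt_iff_isIso_homologyMap]
    have : IsIso (Φ.map φ' ≫ Φ.map biprod.fst) := by
      rw [← Φ.map_comp, biprod.lift_fst]
      haveI := hφ p
      change IsIso (HomologicalComplex.homologyMap ((FilD.grCx p).map φ) n)
      infer_instance
    exact IsIso.of_isIso_comp_right (Φ.map φ') (Φ.map biprod.fst)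
  · refine isStrictMono_of_mono_gr _ fun p => ?_
    let pr : (I ⊞ E).X n ⟶ J n := (biprod.snd : I ⊞ E ⟶ E).f n ≫ (biprod.fst : J n ⊞ J (n + 1) ⟶ J n)
    have h : φ'.f n ≫ pr = e n := by
      simp only [φ', pr, ← Category.assoc, ← HomologicalComplex.comp_f, biprod.lift_snd]
      exact biprod.lift_fst _ _
    haveI : Mono ((FilD.grF A p).map (φ'.f n) ≫ (FilD.grF A p).map pr) := by
      rw [← Functor.map_comp, h]; exact he n p
    exact (mono_of_mono ((FilD.grF A p).map (φ'.f n)) ((FilD.grF A p).map pr) : Mono ((FilD.grF A p).map (φ'.f n)))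

end Groth.Agent.S1082
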