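import Groth.Statements.S10821
import Mathlib
import Groth.Agent.ConeDim.Hypersurface

set_option autoImplicit false
universe u
open AlgebraicGeometry Topology TopologicalSpace
open Variety

namespace Groth.Agent.S10821

theorem zeroLocus_eq_closure {k : Type u} [Field k] {n : ℕ} {g : MvPolynomial (Fin (n + 1)) k}
    (x : ProjectiveSpectrum (CohB1.polyGrading n k)) (hx : ConeDim.pr x = Ideal.span {g}) :
    closure {x} = ProjectiveSpectrum.zeroLocus (CohB1.polyGrading n k) ({g} : Set (MvPolynomial (Fin (n + 1)) k)) := by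
  ext y
  rw [← specializes_iff_mem_closure, ConeDim.specializes_iff, ConeDim.mem_zeroLocus_iff, hx]

theorem exists_homogeneous_mem {k : Type u} [Field k] {n : ℕ}
    (x : ProjectiveSpectrum (CohB1.polyGrading n k)) (hx : ConeDim.pr x ≠ ⊥) :
    ∃ (d : ℕ) (f : MvPolynomial (Fin (n + 1)) k), f ≠ 0 ∧ f.IsHomogeneous d ∧ f ∈ ConeDim.pr x := by
  obtain ⟨h, hh, h0⟩ := Submodule.exists_mem_ne_zero_of_ne_bot hx
  obtain ⟨j, hj⟩ : ∃ j, MvPolynomial.homogeneousComponent j h ≠ 0 := by
    by_contra hc
    push Not at hc
    exact h0 (by rw [← MvPolynomial.sum_homogeneousComponent h]; simp [hc])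
  refine ⟨j, _, hj, MvPolynomial.homogeneousComponent_isHomogeneous j h, ?_⟩
  rw [← MvPolynomial.decomposition.decompose'_apply]
  exact x.asHomogeneousIdeal.isHomogeneous j hh

/-- For a field k and an irreducible closed subset Z of projective n-space over k, Z has codimension 1
(the longest chain of irreducible closed subsets strictly above Z has length 1) if and only if Z is
the zero set V_+(f) of an irreducible homogeneous polynomial f in n + 1 variables. -/
theorem result (k : Type u) [Field k] (n : ℕ)
    (Z : TopologicalSpace.IrreducibleCloseds (ProjectiveSpectrum (CohB1.polyGrading n k))) :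
    Order.coheight Z = 1 ↔
      ∃ (d : ℕ) (f : MvPolynomial (Fin (n + 1)) k), f.IsHomogeneous d ∧ Irreducible f ∧
        (Z : Set (ProjectiveSpectrum (CohB1.polyGrading n k))) =
          ProjectiveSpectrum.zeroLocus (CohB1.polyGrading n k) ({f} : Set (MvPolynomial (Fin (n + 1)) k)) := by
  obtain ⟨x, hx⟩ : ∃ x, IsGenericPoint x (Z : Set (ProjectiveSpectrum (CohB1.polyGrading n k))) :=
    ConeDim.exists_isGenericPoint Z.isClosed Z.isIrreducible
  let Cl : ProjectiveSpectrum (CohB1.polyGrading n k) →
      TopologicalSpace.IrreducibleCloseds (ProjectiveSpectrum (CohB1.polyGrading n k)) := fun y =>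
    ⟨closure {y}, isIrreducible_singleton.closure, isClosed_closure⟩
  have hZ : Z = Cl x := IrreducibleCloseds.ext hx.def.symm
  have hb : (⊥ : Ideal (MvPolynomial (Fin (n + 1)) k)).IsHomogeneous (CohB1.polyGrading n k) :=
    Ideal.IsHomogeneous.bot _
  have hmono : ∀ y z, ConeDim.pr z < ConeDim.pr y → Cl y < Cl z := fun y z h => by
    refine lt_of_le_of_ne ?_ fun e => ?_
    · exact closure_minimal (Set.singleton_subset_iff.2
        (specializes_iff_mem_closure.1 (ConeDim.specializes_iff.2 h.le))) isClosed_closure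
    · have : closure {y} = closure {z} := congrArg IrreducibleCloseds.carrier e
      have hyz : y ⤳ z := specializes_iff_mem_closure.2 (this ▸ subset_closure rfl)
      exact h.not_ge (ConeDim.specializes_iff.1 hyz)
  let ξ := ConeDim.pt ⊥ hb (by rw [ConeDim.qdim_bot]; omega)
  have hxle : ConeDim.qd x ≤ n + 1 := ConeDim.qd_le x
  constructor
  · intro hco
    have hne : ConeDim.pr x ≠ ⊥ := fun e => by
      have : IsMax Z := fun W hW => by
        intro w _
        show w ∈ (Z : Set (ProjectiveSpectrum (CohB1.polyGrading n k)))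
        rw [← hx.def, ← specializes_iff_mem_closure, ConeDim.specializes_iff, e]
        exact bot_le
      rw [Order.coheight_eq_zero.2 this] at hco
      exact zero_ne_one hco
    obtain ⟨d, f, hf0, hf, hfx⟩ := exists_homogeneous_mem x hne
    obtain ⟨Q, hQ, hQx⟩ := Ideal.exists_minimalPrimes_le
      (I := Ideal.span {f}) (Ideal.span_le.2 (Set.singleton_subset_iff.2 hfx))
    have := hQ.1.1
    have hQh := ConeDim.isHomogeneous_minimalPrime
      (Ideal.homogeneous_span _ _ fun g hg => ⟨d, by rw [Set.mem_singleton_iff.1 hg]; exact hf⟩) hQ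
    have hQ0 : (⊥ : Ideal (MvPolynomial (Fin (n + 1)) k)) < Q := bot_lt_iff_ne_bot.2 fun e =>
      hf0 (by simpa [e] using hQ.1.2 (Ideal.subset_span rfl))
    have hQ1 : 1 ≤ ConeDim.qdim Q := (ConeDim.qd_pos x).trans (ConeDim.qdim_anti k hQx)
    have heq : Q = ConeDim.pr x := by
      by_contra hne'
      have h1 : Z < Cl (ConeDim.pt Q hQh hQ1) := hZ ▸ hmono _ _ (lt_of_le_of_ne hQx hne')
      have h2 : Cl (ConeDim.pt Q hQh hQ1) < Cl ξ := hmono _ _ hQ0
      have h3 := Order.coheight_add_one_le h2
      have h4 := Order.coheight_add_one_le h1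
      rw [hco] at h4
      have h5 : (1 : ℕ∞) + 1 ≤ 1 := le_trans (add_le_add (le_trans le_add_self h3) le_rfl) h4
      have h6 : (2 : ℕ) ≤ 1 := by exact_mod_cast h5
      omega
    obtain ⟨g, hg, hgp⟩ := Ideal.IsPrime.exists_mem_prime_of_ne_bot x.isPrime hne
    have := (Ideal.span_singleton_prime hgp.ne_zero).2 hgp
    have hgeq : Ideal.span {g} = ConeDim.pr x := by
      refine ((Ideal.span_le.2 (Set.singleton_subset_iff.2 hg)).lt_or_eq).resolve_left fun h => ?_
      have h1 := ConeDim.qdim_lt k h
      rw [ConeDim.qdim_span_of_prime hgp] at h1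
      change ConeDim.qdim (ConeDim.pr x) < n at h1
      rw [← heq] at h1
      have h2 := ConeDim.qdim_le_add_card k (p := (⊥ : Ideal (MvPolynomial (Fin (n + 1)) k)))
        (Set.finite_singleton f) (M := Q) ⟨⟨hQ.1.1, sup_le bot_le hQ.1.2⟩,
          fun R hR => hQ.2 ⟨hR.1, le_sup_right.trans hR.2⟩⟩
      rw [ConeDim.qdim_bot, Set.ncard_singleton] at h2
      omega
    refine ⟨g.totalDegree, g, ConeDim.isHomogeneous_of_span_singleton
      (hgeq ▸ x.asHomogeneousIdeal.isHomogeneous), hgp.irreducible, ?_⟩
    rw [← hx.def]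
    exact zeroLocus_eq_closure x hgeq.symm
  · rintro ⟨d, f, hf, hirr, hZf⟩
    have hfp : Prime f := hirr.prime
    have := (Ideal.span_singleton_prime hfp.ne_zero).2 hfp
    have hh : (Ideal.span {f}).IsHomogeneous (CohB1.polyGrading n k) :=
      Ideal.homogeneous_span _ _ fun g hg => ⟨d, by rw [Set.mem_singleton_iff.1 hg]; exact hf⟩
    have hfx : Ideal.span {f} ≤ ConeDim.pr x := ConeDim.mem_zeroLocus_iff.1 (hZf ▸ hx.mem)
    have hP : 1 ≤ ConeDim.qdim (Ideal.span {f}) := (ConeDim.qd_pos x).trans (ConeDim.qdim_anti k hfx)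
    have hxp : ConeDim.pr x = Ideal.span {f} := by
      refine le_antisymm ?_ hfx
      exact ConeDim.specializes_iff.1 (hx.specializes
        (y := ConeDim.pt _ hh hP) (hZf.symm ▸ ConeDim.mem_zeroLocus_iff.2 le_rfl))
    refine le_antisymm ?_ ?_
    · rw [Order.coheight_eq_iSup_head_eq]
      refine iSup₂_le fun l hl => ?_
      let g : TopologicalSpace.IrreducibleCloseds (ProjectiveSpectrum (CohB1.polyGrading n k)) → ℕ :=
        fun W => ConeDim.qd W.isIrreducible.genericPoint
      have hg : StrictMono g := by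
        intro U W hUW
        have hU := U.isIrreducible.isGenericPoint_genericPoint U.isClosed
        have hW := W.isIrreducible.isGenericPoint_genericPoint W.isClosed
        refine ConeDim.qdim_lt k (lt_of_le_of_ne
          (ConeDim.specializes_iff.1 (hW.specializes (hUW.le hU.mem))) fun e => hUW.ne ?_)
        refine IrreducibleCloseds.ext ?_
        rw [← hU.def, ← hW.def, ConeDim.pr_inj e]
      have h1 := LTSeries.head_add_length_le_nat (l.map g hg)
      rw [LTSeries.head_map, LTSeries.last_map, hl] at h1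
      have h2 : g Z = n := by
        show ConeDim.qd _ = n
        rw [(Z.isIrreducible.isGenericPoint_genericPoint Z.isClosed).eq hx]
        unfold ConeDim.qd
        rw [hxp, ConeDim.qdim_span_of_prime hfp]
      have h3 := ConeDim.qd_le l.last.isIrreducible.genericPoint
      have h4 : (l.map g hg).length = l.length := rfl
      have h5 : l.length ≤ 1 := by
        change g l.last ≤ n + 1 at h3
        omega
      exact_mod_cast h5
    · have h1 : Z < Cl ξ := hZ ▸ hmono _ _ (show (⊥ : Ideal (MvPolynomial (Fin (n + 1)) k)) < _ by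
        rw [hxp]
        exact bot_lt_iff_ne_bot.2 fun e => hfp.ne_zero (Ideal.span_singleton_eq_bot.1 e))
      exact le_trans le_add_self (Order.coheight_add_one_le h1)

end Groth.Agent.S10821
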