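import Groth.Statements.S10822
import Mathlib
import Groth.Agent.ConeDim.Proj

set_option autoImplicit false
universe u
open AlgebraicGeometry Topology TopologicalSpace
open Variety

namespace Groth.Agent.S10822

/-- Let k be a field, X an irreducible closed subset of projective n-space over k of positive dimension,
and f a homogeneous polynomial in n + 1 variables whose zero set V_+(f) is nonempty and does not
contain X. Then X meets V_+(f), and every irreducible component C of X ∩ V_+(f) has dim C + 1 = dim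
X, i.e. codimension 1 in X (all maximal chains of irreducible closed subsets of X have length dim
X). -/
theorem result (k : Type u) [Field k] (n d : ℕ)
    (X : Set (ProjectiveSpectrum (CohB1.polyGrading n k))) (hXc : IsClosed X) (hXi : IsIrreducible X)
    (hXd : 0 < topologicalKrullDim ↥X)
    (f : MvPolynomial (Fin (n + 1)) k) (hf : f.IsHomogeneous d)
    (hV : (ProjectiveSpectrum.zeroLocus (CohB1.polyGrading n k)
      ({f} : Set (MvPolynomial (Fin (n + 1)) k))).Nonempty)
    (hX : ¬ X ⊆ ProjectiveSpectrum.zeroLocus (CohB1.polyGrading n k)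
      ({f} : Set (MvPolynomial (Fin (n + 1)) k))) :
    (X ∩ ProjectiveSpectrum.zeroLocus (CohB1.polyGrading n k)
        ({f} : Set (MvPolynomial (Fin (n + 1)) k))).Nonempty ∧
      ∀ C ∈ irreducibleComponents ↥(X ∩ ProjectiveSpectrum.zeroLocus (CohB1.polyGrading n k)
          ({f} : Set (MvPolynomial (Fin (n + 1)) k))),
        topologicalKrullDim ↥C + 1 = topologicalKrullDim ↥X := by
  obtain ⟨x, hx⟩ := ConeDim.exists_isGenericPoint hXc hXi
  rw [ConeDim.topologicalKrullDim_eq_of_isGenericPoint hx] at hXd ⊢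
  have hx2 : 2 ≤ ConeDim.qd x := by
    have : 0 < ConeDim.qd x - 1 := by exact_mod_cast hXd
    omega
  have hfx : x ∉ ProjectiveSpectrum.zeroLocus (CohB1.polyGrading n k) ({f} : Set (MvPolynomial (Fin (n + 1)) k)) :=
    fun h => hX fun y hy => (hx.specializes hy).mem_closed (ProjectiveSpectrum.isClosed_zeroLocus _ _) h
  have hd : 0 < d := by
    by_contra hd0
    obtain rfl : d = 0 := by omega
    have hf' : f = MvPolynomial.C (f.coeff 0) := by
      conv_lhs => rw [← MvPolynomial.homogeneousComponent_of_mem (n := 0) (m := 0) hf |>.trans (if_pos rfl),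
        MvPolynomial.homogeneousComponent_zero]
    obtain ⟨y, hy⟩ := hV
    have hfy : f ∈ ConeDim.pr y := hy rfl
    by_cases hc : f.coeff 0 = 0
    · refine hfx (Set.singleton_subset_iff.2 ?_)
      rw [hf', hc, map_zero]
      exact (ConeDim.pr x).zero_mem
    · exact y.isPrime.ne_top (Ideal.eq_top_of_isUnit_mem _ (hf' ▸ hfy) ((Ne.isUnit hc).map MvPolynomial.C))
  have hcl := hXc.inter (ProjectiveSpectrum.isClosed_zeroLocus (CohB1.polyGrading n k)
    ({f} : Set (MvPolynomial (Fin (n + 1)) k)))
  obtain ⟨y, hxy, hy, -⟩ := ConeDim.exists_specializes_zeroLocus x (Set.finite_singleton f)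
    (fun g hg => ⟨d, hd, by rw [Set.mem_singleton_iff.1 hg]; exact hf⟩) (by rw [Set.ncard_singleton]; omega)
  refine ⟨⟨y, hxy.mem_closed hXc hx.mem, hy⟩, fun C hC => ?_⟩
  obtain ⟨c, hc, hmin, hCd⟩ := ConeDim.exists_minimal_of_mem_irreducibleComponents hcl hC
  have hle := ConeDim.qd_le_of_minimal x c (Set.finite_singleton f)
    (fun g hg => ⟨d, by rw [Set.mem_singleton_iff.1 hg]; exact hf⟩) (hx.specializes hc.1) hc.2
    (fun z hz hz' hzc => hmin z ⟨hz.mem_closed hXc hx.mem, hz'⟩ hzc)
  have hlt : ConeDim.qd c < ConeDim.qd x :=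
    ConeDim.qdim_lt k (lt_of_le_of_ne (ConeDim.specializes_iff.1 (hx.specializes hc.1))
      fun e => hfx (ConeDim.pr_inj e ▸ hc.2))
  have h1 := ConeDim.qd_pos c
  rw [Set.ncard_singleton] at hle
  rw [hCd]
  have h4 : ConeDim.qd c - 1 + 1 = ConeDim.qd x - 1 := by omega
  exact_mod_cast h4

end Groth.Agent.S10822
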