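import Groth.Statements.S10823
import Mathlib
import Groth.Agent.ConeDim.Proj

set_option autoImplicit false
universe u
open AlgebraicGeometry Topology TopologicalSpace
open Variety

namespace Groth.Agent.S10823

/-- Let k be a field, X an irreducible closed subset of projective n-space over k, and f_1, …, f_r
nonzero homogeneous polynomials of positive degrees in n + 1 variables. Then every irreducible
component C of X ∩ V_+(f_1, …, f_r) has codimension at most r in X, i.e. dim X ≤ dim C + r, and if
dim X ≥ r the intersection is nonempty. -/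
theorem result (k : Type u) [Field k] (n r : ℕ)
    (X : Set (ProjectiveSpectrum (CohB1.polyGrading n k))) (hXc : IsClosed X) (hXi : IsIrreducible X)
    (f : Fin r → MvPolynomial (Fin (n + 1)) k) (d : Fin r → ℕ)
    (hf : ∀ i, (f i).IsHomogeneous (d i)) (hd : ∀ i, 0 < d i) (hf0 : ∀ i, f i ≠ 0) :
    (∀ C ∈ irreducibleComponents ↥(X ∩ ProjectiveSpectrum.zeroLocus (CohB1.polyGrading n k) (Set.range f)),
        topologicalKrullDim ↥X ≤ topologicalKrullDim ↥C + (r : WithBot ℕ∞)) ∧
      ((r : WithBot ℕ∞) ≤ topologicalKrullDim ↥X →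
        (X ∩ ProjectiveSpectrum.zeroLocus (CohB1.polyGrading n k) (Set.range f)).Nonempty) := by
  obtain ⟨x, hx⟩ := ConeDim.exists_isGenericPoint hXc hXi
  rw [ConeDim.topologicalKrullDim_eq_of_isGenericPoint hx]
  have hfin : (Set.range f).Finite := Set.finite_range f
  have hcard : (Set.range f).ncard ≤ r := by
    rw [← Set.image_univ]
    exact (Set.ncard_image_le Set.finite_univ).trans (by simp)
  have hx1 := ConeDim.qd_pos x
  have hcl := hXc.inter (ProjectiveSpectrum.isClosed_zeroLocus (CohB1.polyGrading n k) (Set.range f))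
  refine ⟨fun C hC => ?_, fun hr => ?_⟩
  · obtain ⟨c, hc, hmin, hCd⟩ := ConeDim.exists_minimal_of_mem_irreducibleComponents hcl hC
    have hle := ConeDim.qd_le_of_minimal x c hfin
      (by rintro _ ⟨i, rfl⟩; exact ⟨d i, hf i⟩) (hx.specializes hc.1) hc.2
      (fun z hz hz' hzc => hmin z ⟨hz.mem_closed hXc hx.mem, hz'⟩ hzc)
    have h1 := ConeDim.qd_pos c
    rw [hCd]
    have h4 : ConeDim.qd x - 1 ≤ ConeDim.qd c - 1 + r := by omega
    exact_mod_cast h4
  · have hr' : r ≤ ConeDim.qd x - 1 := by exact_mod_cast hr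
    obtain ⟨y, hxy, hy, -⟩ := ConeDim.exists_specializes_zeroLocus x hfin
      (by rintro _ ⟨i, rfl⟩; exact ⟨d i, hd i, hf i⟩) (by omega)
    exact ⟨y, hxy.mem_closed hXc hx.mem, hy⟩

end Groth.Agent.S10823
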