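import Groth.Statements.S10825
import Groth.Agent.DimTheory.Algebra
import Mathlib
-- import your own Groth.Agent.* helpers here

set_option autoImplicit false
universe u
open Topology
open CAlg

namespace Groth.Agent.S10825Aux

open Polynomial

theorem topDim_zeroLocus {R : Type u} [CommRing R] (I : Ideal R) :
    topologicalKrullDim ↥(PrimeSpectrum.zeroLocus (I : Set R)) = ringKrullDim (R ⧸ I) := by
  have hemb := PrimeSpectrum.isClosedEmbedding_comap_of_surjective (R ⧸ I) (Ideal.Quotient.mk I)
    Ideal.Quotient.mk_surjective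
  have hrange : Set.range (PrimeSpectrum.comap (Ideal.Quotient.mk I)) = PrimeSpectrum.zeroLocus (I : Set R) := by
    rw [range_comap_of_surjective _ _ Ideal.Quotient.mk_surjective, Ideal.mk_ker]
  let e := hemb.isEmbedding.toHomeomorph.trans (Homeomorph.setCongr hrange)
  rw [← PrimeSpectrum.topologicalKrullDim_eq_ringKrullDim]
  exact (IsHomeomorph.topologicalKrullDim_eq _ e.isHomeomorph).symm

theorem image_eq (A B : Type u) [CommRing A] [IsDomain A] [IsIntegrallyClosed A] [CommRing B] [IsDomain B]
    [Algebra A B] [Algebra.IsIntegral A B] (hinj : Function.Injective (algebraMap A B)) (b : B) :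
    PrimeSpectrum.comap (algebraMap A B) '' PrimeSpectrum.zeroLocus ({b} : Set B) =
      PrimeSpectrum.zeroLocus ({(minpoly A b).coeff 0} : Set A) := by
  have : Module.IsTorsionFree A B :=
    Module.IsTorsionFree.of_smul_eq_zero fun r x h => by
      rw [Algebra.smul_def, mul_eq_zero, map_eq_zero_iff _ hinj] at h; exact h
  have hb : IsIntegral A b := Algebra.IsIntegral.isIntegral b
  have hdvd : b ∣ algebraMap A B ((minpoly A b).coeff 0) := by
    have h := minpoly.aeval A b
    conv_lhs at h => rw [← X_mul_divX_add (minpoly A b)]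
    rw [map_add, map_mul, aeval_X, aeval_C] at h
    exact ⟨-(aeval b (divX (minpoly A b))), by rw [mul_neg]; exact eq_neg_of_add_eq_zero_right h⟩
  apply subset_antisymm
  · rintro _ ⟨q, hq, rfl⟩
    rw [PrimeSpectrum.mem_zeroLocus, Set.singleton_subset_iff] at hq ⊢
    exact Ideal.mem_of_dvd q.asIdeal hdvd hq
  · intro p hp
    rw [PrimeSpectrum.mem_zeroLocus, Set.singleton_subset_iff] at hp
    let S := Algebra.adjoin A ({b} : Set B)
    have h0 : (minpoly A b).eval₂ (Ideal.Quotient.mk p.asIdeal) 0 = 0 := by
      rw [eval₂_at_zero, Ideal.Quotient.eq_zero_iff_mem]; exact hp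
    let ψ : S →+* A ⧸ p.asIdeal :=
      (AdjoinRoot.lift (Ideal.Quotient.mk p.asIdeal) 0 h0).comp (minpoly.equivAdjoin hb).symm.toAlgHom.toRingHom
    have : Algebra.IsIntegral S B := Algebra.IsIntegral.tower_top A
    have hP1 : (RingHom.ker ψ).IsPrime := RingHom.ker_isPrime ψ
    obtain ⟨Q, -, hQ, hQc⟩ := Ideal.exists_ideal_over_prime_of_isIntegral (RingHom.ker ψ) (⊥ : Ideal B) (by
      rw [← RingHom.ker_eq_comap_bot]
      intro x hx
      have : x = 0 := Subtype.ext hx
      rw [this]; exact zero_mem _)
    refine ⟨⟨Q, hQ⟩, ?_, PrimeSpectrum.ext ?_⟩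
    · rw [PrimeSpectrum.mem_zeroLocus, Set.singleton_subset_iff]
      have hroot : (⟨b, Algebra.subset_adjoin rfl⟩ : S) ∈ Q.comap (algebraMap S B) := by
        rw [hQc, RingHom.mem_ker]
        have : (minpoly.equivAdjoin hb).symm ⟨b, Algebra.subset_adjoin rfl⟩ = AdjoinRoot.root (minpoly A b) := by
          rw [AlgEquiv.symm_apply_eq]
          exact Subtype.ext (by simp [minpoly.coe_equivAdjoin, AdjoinRoot.Minpoly.toAdjoin, AdjoinRoot.liftAlgHom_root])
        show AdjoinRoot.lift _ 0 h0 ((minpoly.equivAdjoin hb).symm _) = 0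
        rw [this, AdjoinRoot.lift_root]
      exact hroot
    · show Q.comap (algebraMap A B) = p.asIdeal
      rw [IsScalarTower.algebraMap_eq A S B, ← Ideal.comap_comap, hQc]
      ext x
      rw [Ideal.mem_comap, RingHom.mem_ker]
      show AdjoinRoot.lift _ 0 h0 ((minpoly.equivAdjoin hb).symm (algebraMap A S x)) = 0 ↔ _
      rw [AlgEquiv.commutes, AdjoinRoot.algebraMap_eq, AdjoinRoot.lift_of, Ideal.Quotient.eq_zero_iff_mem]

end Groth.Agent.S10825Aux


namespace Groth.Agent.S10825

/-- Let A → B be an injective integral homomorphism of integral domains with fraction fields K and L, L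
a finite extension of K, and A integrally closed. For b in B the norm N_{L/K}(b) lies in A; if a
denotes this element of A, then the image of the closed set V(b) of Spec B under Spec B → Spec A is
exactly V(a), and V(b) and V(a) have the same dimension. -/
theorem result
    (A B K L : Type u) [CommRing A] [IsDomain A] [CommRing B] [IsDomain B] [Algebra A B]
    [Field K] [Field L] [Algebra A K] [IsFractionRing A K] [Algebra B L] [IsFractionRing B L]
    [Algebra A L] [Algebra K L] [IsScalarTower A B L] [IsScalarTower A K L]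
    [FiniteDimensional K L] [Algebra.IsIntegral A B] [IsIntegrallyClosed A]
    (hinj : Function.Injective (algebraMap A B))
    (b : B) (a : A) (ha : algebraMap A K a = Algebra.norm K (algebraMap B L b)) :
    PrimeSpectrum.comap (algebraMap A B) '' PrimeSpectrum.zeroLocus ({b} : Set B) =
        PrimeSpectrum.zeroLocus ({a} : Set A) ∧
      topologicalKrullDim ↥(PrimeSpectrum.zeroLocus ({b} : Set B)) =
        topologicalKrullDim ↥(PrimeSpectrum.zeroLocus ({a} : Set A)) := by
  classical
  have : Module.IsTorsionFree A B :=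
    Module.IsTorsionFree.of_smul_eq_zero fun r x h => by
      rw [Algebra.smul_def, mul_eq_zero, map_eq_zero_iff _ hinj] at h; exact h
  have hb : IsIntegral A b := Algebra.IsIntegral.isIntegral b
  set x := algebraMap B L b with hxdef
  have hxA : IsIntegral A x := hb.map (IsScalarTower.toAlgHom A B L)
  have hxK : IsIntegral K x := hxA.tower_top
  have hminx : minpoly A x = minpoly A b :=
    minpoly.algHom_eq (IsScalarTower.toAlgHom A B L) (IsFractionRing.injective B L) b
  let pb := IntermediateField.adjoin.powerBasis hxK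
  have hn : Algebra.norm K x = ((-1) ^ pb.dim * (minpoly K x).coeff 0) ^
      Module.finrank (IntermediateField.adjoin K ({x} : Set L)) L := by
    rw [Algebra.norm_eq_norm_adjoin K x, show IntermediateField.AdjoinSimple.gen K x = pb.gen from
      (IntermediateField.adjoin.powerBasis_gen hxK).symm, Algebra.PowerBasis.norm_gen_eq_coeff_zero_minpoly,
      IntermediateField.adjoin.powerBasis_gen, IntermediateField.minpoly_gen]
  set m := Module.finrank (IntermediateField.adjoin K ({x} : Set L)) L with hm
  have hm0 : m ≠ 0 := Module.finrank_pos.ne'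
  have ha' : a = ((-1) ^ pb.dim * (minpoly A b).coeff 0) ^ m := by
    apply IsFractionRing.injective A K
    rw [ha, hn, minpoly.isIntegrallyClosed_eq_field_fractions' K hxA, hminx]
    simp [Polynomial.coeff_map]
  have hV : PrimeSpectrum.zeroLocus ({a} : Set A) =
      PrimeSpectrum.zeroLocus ({(minpoly A b).coeff 0} : Set A) := by
    rw [ha', PrimeSpectrum.zeroLocus_singleton_pow _ _ (Nat.pos_of_ne_zero hm0)]
    ext p
    simp only [PrimeSpectrum.mem_zeroLocus, Set.singleton_subset_iff, SetLike.mem_coe]
    exact Ideal.unit_mul_mem_iff_mem _ ((isUnit_one.neg).pow _)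
  have himg := Groth.Agent.S10825Aux.image_eq A B hinj b
  rw [← hV] at himg
  refine ⟨himg, ?_⟩
  let Ib := Ideal.span ({b} : Set B)
  let J := Ib.comap (algebraMap A B)
  have hJ : PrimeSpectrum.zeroLocus ({a} : Set A) = PrimeSpectrum.zeroLocus (J : Set A) := by
    apply subset_antisymm
    · rw [← himg]
      rintro _ ⟨q, hq, rfl⟩
      rw [← PrimeSpectrum.zeroLocus_span] at hq
      intro z hz
      exact hq hz
    · intro p hp
      rw [PrimeSpectrum.mem_zeroLocus, Set.singleton_subset_iff]
      have hc : (minpoly A b).coeff 0 ∈ J := by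
        refine Ideal.mem_span_singleton.2 ⟨-(Polynomial.aeval b (Polynomial.divX (minpoly A b))), ?_⟩
        have h := minpoly.aeval A b
        conv_lhs at h => rw [← Polynomial.X_mul_divX_add (minpoly A b)]
        rw [map_add, map_mul, Polynomial.aeval_X, Polynomial.aeval_C] at h
        rw [mul_neg]; exact eq_neg_of_add_eq_zero_right h
      rw [ha']
      exact Ideal.pow_mem_of_mem _ (Ideal.mul_mem_left _ _ (hp hc)) _ (Nat.pos_of_ne_zero hm0)
  rw [hJ, Groth.Agent.S10825Aux.topDim_zeroLocus J,
    show PrimeSpectrum.zeroLocus ({b} : Set B) = PrimeSpectrum.zeroLocus (Ib : Set B) from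
      (PrimeSpectrum.zeroLocus_span _).symm, Groth.Agent.S10825Aux.topDim_zeroLocus Ib]
  have : FaithfulSMul (A ⧸ J) (B ⧸ Ib) :=
    (faithfulSMul_iff_algebraMap_injective _ _).2 Ideal.algebraMap_quotient_injective
  exact Groth.Agent.DimTheory.ringKrullDim_eq_of_integral (A ⧸ J) (B ⧸ Ib)

end Groth.Agent.S10825
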