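import Groth.Statements.S10826
import Groth.Agent.MvPSLib.Eval
-- import your own Groth.Agent.* helpers here

set_option autoImplicit false
open CAlg

namespace Groth.Agent.S10826

/-- Let R be a commutative ring, n ≥ 1, and φ an R-algebra homomorphism from the power series ring in n
variables over R to itself that sends each variable to a power series without constant term. If the
Jacobian matrix at the origin, whose (i, j) entry is the coefficient of X_j in φ(X_i), has
invertible determinant in R, then φ is an isomorphism (bijective). -/
theorem result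
    (R : Type*) [CommRing R] (n : ℕ) (hn : 1 ≤ n)
    (φ : MvPowerSeries (Fin n) R →ₐ[R] MvPowerSeries (Fin n) R)
    (h0 : ∀ i, MvPowerSeries.constantCoeff (φ (MvPowerSeries.X i)) = 0)
    (hJ : IsUnit (Matrix.det (Matrix.of fun i j : Fin n =>
      MvPowerSeries.coeff (Finsupp.single j 1) (φ (MvPowerSeries.X i))))) :
    Function.Bijective φ := by
  classical
  set I := Groth.Agent.FSAdic.augIdeal R n
  refine MvPSLib.bijective_of_span φ (le_antisymm ?_ ?_)
  · rw [MvPSLib.map_augIdeal, Ideal.span_le]
    rintro _ ⟨i, rfl⟩
    exact h0 i
  · refine Submodule.le_of_le_smul_of_le_jacobson_bot (I := I) ?_ (IsAdicComplete.le_jacobson_bot I) ?_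
    · show (Groth.Agent.FSAdic.augIdeal R n).FG
      rw [Groth.Agent.FSAdic.augIdeal_eq_span]
      exact Submodule.fg_span (Set.finite_range _)
    · set J : Matrix (Fin n) (Fin n) R := Matrix.of fun i j : Fin n =>
        MvPowerSeries.coeff (Finsupp.single j 1) (φ (MvPowerSeries.X i)) with hJdef
      have hlin : ∀ i, φ (MvPowerSeries.X i) - ∑ j, MvPowerSeries.C (J i j) * MvPowerSeries.X j ∈ I ^ 2 := by
        intro i
        rw [MvPSLib.mem_augIdeal_pow_iff]
        intro d hd
        rw [map_sub, map_sum]
        simp only [MvPowerSeries.coeff_C_mul, MvPowerSeries.coeff_X, mul_ite, mul_one, mul_zero]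
        rcases Nat.lt_succ_iff.1 hd |>.lt_or_eq with h | h
        · have hd0 : d = 0 := (Finsupp.degree_eq_zero_iff _).1 (by omega)
          subst hd0
          rw [MvPowerSeries.coeff_zero_eq_constantCoeff_apply, h0, zero_sub, neg_eq_zero]
          exact Finset.sum_eq_zero fun j _ => if_neg (Ne.symm (by simp))
        · obtain ⟨j, rfl⟩ : ∃ j, d = Finsupp.single j 1 := by
            obtain ⟨j, hj⟩ : ∃ j, d j ≠ 0 := by
              by_contra hne
              push Not at hne
              rw [show d = 0 from Finsupp.ext hne, map_zero] at h
              omega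
            refine ⟨j, ?_⟩
            have hle : Finsupp.single j 1 ≤ d := Finsupp.single_le_iff.2 (by omega)
            obtain ⟨e, rfl⟩ := exists_add_of_le hle
            rw [map_add, Finsupp.degree_single] at h
            rw [(Finsupp.degree_eq_zero_iff e).1 (by omega), add_zero]
          rw [Finset.sum_eq_single j, if_pos rfl, hJdef, Matrix.of_apply, sub_self]
          · intro b _ hb
            rw [if_neg]
            intro h'
            exact hb (Finsupp.single_left_injective one_ne_zero h').symm
          · simp
      show I ≤ I.map φ ⊔ I * I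
      conv_lhs => rw [show I = Groth.Agent.FSAdic.augIdeal R n from rfl, Groth.Agent.FSAdic.augIdeal_eq_span]
      rw [Ideal.span_le]
      rintro _ ⟨j, rfl⟩
      have hinv := Matrix.nonsing_inv_mul J hJ
      have hXj : MvPowerSeries.X j = ∑ i, MvPowerSeries.C (J⁻¹ j i) *
          (∑ k, MvPowerSeries.C (J i k) * MvPowerSeries.X k) := by
        have hk : ∀ k, ∑ i, MvPowerSeries.C (J⁻¹ j i) * (MvPowerSeries.C (J i k) * MvPowerSeries.X k) =
            (if j = k then MvPowerSeries.X k else (0 : MvPowerSeries (Fin n) R)) := by
          intro k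
          simp only [← mul_assoc, ← map_mul, ← Finset.sum_mul, ← map_sum]
          have := congrFun (congrFun hinv j) k
          rw [Matrix.mul_apply] at this
          rw [this, Matrix.one_apply]
          split_ifs <;> simp
        simp only [Finset.mul_sum]
        rw [Finset.sum_comm, Finset.sum_congr rfl (fun k _ => hk k), Finset.sum_ite_eq]
        simp
      rw [SetLike.mem_coe, hXj]
      refine Ideal.sum_mem _ fun i _ => Ideal.mul_mem_left _ _ ?_
      rw [show (∑ k, MvPowerSeries.C (J i k) * MvPowerSeries.X k) = φ (MvPowerSeries.X i) -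
        (φ (MvPowerSeries.X i) - ∑ k, MvPowerSeries.C (J i k) * MvPowerSeries.X k) by ring]
      refine sub_mem (Ideal.mem_sup_left (Ideal.mem_map_of_mem φ ?_)) (Ideal.mem_sup_right ?_)
      · exact Groth.Agent.FSAdic.X_mem_augIdeal i
      · rw [← pow_two]; exact hlin i

end Groth.Agent.S10826
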