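import Groth.Statements.S10829
import Mathlib
import Groth.Agent.ConeDim.Proj

set_option autoImplicit false
universe u
open AlgebraicGeometry
open Variety

namespace Groth.Agent.S10829

theorem dim_univ (k : Type u) [Field k] (n : ℕ) :
    topologicalKrullDim (ProjectiveSpectrum (CohB1.polyGrading n k)) = (n : WithBot ℕ∞) := by
  have hb : (⊥ : Ideal (MvPolynomial (Fin (n + 1)) k)).IsHomogeneous (CohB1.polyGrading n k) :=
    Ideal.IsHomogeneous.bot _
  let x := ConeDim.pt ⊥ hb (by rw [ConeDim.qdim_bot]; omega)
  have hx : IsGenericPoint x (Set.univ : Set (ProjectiveSpectrum (CohB1.polyGrading n k))) :=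
    isGenericPoint_iff_specializes.2 fun y => iff_of_true (ConeDim.specializes_iff.2 bot_le) trivial
  rw [← IsHomeomorph.topologicalKrullDim_eq _ (Homeomorph.Set.univ _).isHomeomorph,
    ConeDim.topologicalKrullDim_eq_of_isGenericPoint hx]
  show ((ConeDim.qdim _ - 1 : ℕ) : WithBot ℕ∞) = _
  rw [ConeDim.pr_pt, ConeDim.qdim_bot]
  norm_num

/-- For a field k and a natural number n, projective n-space over k (Proj of the polynomial ring in n +
1 variables graded by degree) has Krull dimension n as a topological space. (The published statement
also gives affine n-space dimension n; that half is the Krull dimension of a polynomial ring and is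
not restated here.) -/
theorem result (k : Type u) [Field k] (n : ℕ) :
    topologicalKrullDim ↥(CohB1.ProjSpace n k) = (n : WithBot ℕ∞) := by
  exact dim_univ k n

end Groth.Agent.S10829
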