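import Groth.Statements.S10830
import Groth.Agent.TopDimLib.Basic

set_option autoImplicit false
universe u
open Topology TopologicalSpace
open TopDim

namespace Groth.Agent.S10830

/-- In an irreducible topological space X of finite Krull dimension, every proper closed subset Y has
strictly smaller Krull dimension than X. -/
theorem result (X : Type u) [TopologicalSpace X]
    [IrreducibleSpace X] (hfin : topologicalKrullDim X ≠ ⊤) (Y : Set X) (hY : IsClosed Y) (hYX : Y ≠ Set.univ) :
    topologicalKrullDim ↥Y < topologicalKrullDim X := by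
  open Groth.Agent.TopDimLib in
  let T : TopologicalSpace.IrreducibleCloseds X :=
    ⟨Set.univ, IrreducibleSpace.isIrreducible_univ X, isClosed_univ⟩
  have : Nonempty (TopologicalSpace.IrreducibleCloseds X) := ⟨T⟩
  obtain ⟨n, hn⟩ : ∃ n : ℕ, topologicalKrullDim X = n := by
    have h0 : (0 : WithBot ℕ∞) ≤ topologicalKrullDim X := Order.krullDim_nonneg
    revert hfin h0
    generalize topologicalKrullDim X = d
    intro hfin h0
    match d with
    | ⊥ => simp at h0
    | (⊤ : ℕ∞) => exact absurd rfl hfin
    | ((m : ℕ) : ℕ∞) => exact ⟨m, rfl⟩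
  have key : ∀ q : LTSeries (TopologicalSpace.IrreducibleCloseds Y), q.length + 1 ≤ n := by
    intro q
    let g := TopologicalSpace.IrreducibleCloseds.map (Subtype.val : Y → X) continuous_subtype_val
    let p := q.map g (TopologicalSpace.IrreducibleCloseds.map_strictMono_of_isInducing Topology.IsInducing.subtypeVal)
    have hlast : p.last < T := by
      refine SetLike.coe_ssubset_coe.1 ⟨Set.subset_univ _, fun h => hYX (Set.eq_univ_of_univ_subset (h.trans ?_))⟩
      rw [LTSeries.last_map]
      exact closure_minimal (fun z hz => by obtain ⟨a, _, rfl⟩ := hz; exact a.2) hY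
    have := Order.LTSeries.length_le_krullDim (p.snoc T hlast)
    rw [show Order.krullDim (TopologicalSpace.IrreducibleCloseds X) = topologicalKrullDim X from rfl, hn] at this
    exact (Nat.cast_le (α := WithBot ℕ∞)).1 this
  rw [hn]
  rcases Set.eq_empty_or_nonempty Y with rfl | ⟨y, hy⟩
  · have : IsEmpty (TopologicalSpace.IrreducibleCloseds ↥(∅ : Set X)) :=
      ⟨fun Z => Z.isIrreducible.nonempty.elim fun z _ => z.2⟩
    rw [topologicalKrullDim, Order.krullDim_eq_bot]
    exact WithBot.bot_lt_coe _
  · have hn1 := key (RelSeries.singleton _ ⟨closure {⟨y, hy⟩}, isIrreducible_singleton.closure, isClosed_closure⟩)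
    refine lt_of_le_of_lt (b := ((n - 1 : ℕ) : WithBot ℕ∞)) (dim_le fun q => ?_) (Nat.cast_lt.2 (by omega))
    exact Nat.cast_le.2 (by have := key q; omega)

end Groth.Agent.S10830
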