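import Groth.Statements.S10831
import Groth.Agent.TopDimLib.Basic

set_option autoImplicit false
universe u
open Topology TopologicalSpace
open TopDim

namespace Groth.Agent.S10831

/-- The Krull dimension of a topological space is the supremum of the Krull dimensions of its
irreducible components. -/
theorem result (X : Type u) [TopologicalSpace X] :
    topologicalKrullDim X = ⨆ Y ∈ irreducibleComponents X, topologicalKrullDim ↥Y := by
  open Groth.Agent.TopDimLib in
  refine le_antisymm (dim_le fun p => ?_) (iSup₂_le fun Y _ => topologicalKrullDim_subspace_le X Y)
  obtain ⟨u, hu, hsub⟩ := exists_mem_irreducibleComponents_subset_of_isIrreducible _ p.last.isIrreducible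
  exact (length_le_of_last_subset p hsub).trans (le_iSup₂_of_le u hu le_rfl)

end Groth.Agent.S10831
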