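import Groth.Statements.S10832
import Groth.Agent.DimTheory.ZeroDim

set_option autoImplicit false
universe u
open CategoryTheory AlgebraicGeometry Topology
open Variety

namespace Groth.Agent.S10832

/-- For a nonempty scheme X of finite type over a field k the following are equivalent: X has Krull
dimension 0; X is affine with ring of global sections finite over k and equal to the product of all
its local rings via the germ maps; the underlying space of X is discrete; the underlying space of X
is finite. -/
theorem result (k : Type u) [Field k] {X : Scheme.{u}} [Nonempty X]
    (f : X ⟶ Spec (CommRingCat.of k)) [LocallyOfFiniteType f] [QuasiCompact f] :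
    [topologicalKrullDim ↥X = 0,
      IsAffine X ∧ f.appTop.hom.Finite ∧
        Function.Bijective (fun s : Γ(X, ⊤) => fun x : X => X.presheaf.germ ⊤ x trivial s),
      DiscreteTopology ↥X,
      Finite ↥X].TFAE := by
  tfae_have 1 → 2 := fun h => by
    have := DimTheory.ZeroDim.finite_of_dim_le_zero f h.le
    have hf := DimTheory.ZeroDim.isFinite_of_finite f
    have := DimTheory.ZeroDim.discreteTopology_of_isFinite f
    exact ⟨isAffine_of_isAffineHom f, Scheme.Hom.finite_appTop f,
      DimTheory.ZeroDim.germ_top_bijective⟩
  tfae_have 2 → 3 := fun ⟨h, h', _⟩ => by
    have : IsFinite f := (HasAffineProperty.iff_of_isAffine (P := @IsFinite)).2 ⟨h, h'⟩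
    exact DimTheory.ZeroDim.discreteTopology_of_isFinite f
  tfae_have 3 → 4 := fun h => by
    have : CompactSpace X := QuasiCompact.compactSpace_of_compactSpace f
    exact finite_of_compact_of_discrete
  tfae_have 4 → 1 := fun h => by
    have := DimTheory.ZeroDim.isFinite_of_finite f
    have := DimTheory.ZeroDim.discreteTopology_of_isFinite f
    refine le_antisymm (topologicalKrullDim_zero_of_discreteTopology X) ?_
    have : Nonempty (TopologicalSpace.IrreducibleCloseds X) := ⟨⟨closure {Classical.arbitrary X},
      isIrreducible_singleton.closure, isClosed_closure⟩⟩
    exact Order.krullDim_nonneg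
  tfae_finish

end Groth.Agent.S10832
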