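import Groth.Statements.S10834
import Mathlib
import Groth.Agent.CAlgReg.AusBuch
import Groth.Agent.Depth.SeqDepth
import Groth.Agent.RegNormal.Basic
-- import your own Groth.Agent.* helpers here

set_option autoImplicit false
universe u
open CAlg

namespace Groth.Agent.S10834

open IsLocalRing RingTheory.Sequence
open scoped Pointwise

theorem dim_eq_length (R : Type u) [CommRing R] [IsRegularLocalRing R] (rs : List R)
    (hreg : IsWeaklyRegular R rs) (hm : ∀ r ∈ rs, r ∈ maximalIdeal R) (a : R)
    (ha : a ∉ Ideal.ofList rs) (hma : ∀ r ∈ maximalIdeal R, r * a ∈ Ideal.ofList rs) :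
    ringKrullDim R = (rs.length : WithBot ℕ∞) := by
  obtain ⟨d, hd⟩ := Groth.Agent.CAlgReg.exists_dim (R := R)
  have hQ := Groth.Agent.Depth.idealDepth_quot_ofList_add_length rs R hreg hm
  have e1 : Ideal.ofList rs • (⊤ : Submodule R R) = Ideal.ofList rs := by
    rw [Ideal.smul_eq_mul]; exact Ideal.mul_top _
  have hle : Ideal.ofList rs ≤ maximalIdeal R := Groth.Agent.Depth.ofList_le hm
  haveI : Nontrivial (R ⧸ Ideal.ofList rs • (⊤ : Submodule R R)) :=
    Submodule.Quotient.nontrivial_iff.mpr
      (by rw [e1]; exact ne_top_of_le_ne_top (maximalIdeal.isMaximal R).ne_top hle)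
  have h0 : LocCoh.depth R (R ⧸ Ideal.ofList rs • (⊤ : Submodule R R)) = 0 := by
    rw [Groth.Agent.Depth.depth_eq_zero_iff]
    refine AssociatedPrimes.mem_iff.mpr
      (isAssociatedPrime_iff.mpr ⟨inferInstance, Submodule.Quotient.mk a, ?_⟩)
    refine (maximalIdeal.isMaximal R).eq_of_le (fun htop => ha ?_) (fun r hr => ?_)
    · have := htop.ge (Submodule.mem_top : (1 : R) ∈ _)
      rw [Submodule.mem_colon_singleton, one_smul, Submodule.mem_bot,
        Submodule.Quotient.mk_eq_zero, e1] at this
      exact this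
    · rw [Submodule.mem_colon_singleton, ← Submodule.Quotient.mk_smul, Submodule.mem_bot,
        Submodule.Quotient.mk_eq_zero, e1, smul_eq_mul]
      exact hma r hr
  have h1 : LocCoh.depth R (R ⧸ Ideal.ofList rs • (⊤ : Submodule R R)) + rs.length =
      LocCoh.depth R R := hQ
  rw [h0, zero_add, Groth.Agent.CAlgReg.depth_self_eq_dim hd] at h1
  rw [hd]
  have h2 : rs.length = d := by exact_mod_cast h1
  rw [h2]

/-- At an associated prime of `B/bB` the local ring of `B = A/(f)` has dimension one. -/
theorem dim_eq_one (A : Type u) [CommRing A] [IsNoetherianRing A] (f : A)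
    (hf : (Ideal.span ({f} : Set A)).IsPrime) (q : Ideal (A ⧸ Ideal.span ({f} : Set A))) [q.IsPrime]
    (hreg : IsRegularLocalRing (Localization.AtPrime (q.comap (Ideal.Quotient.mk _))))
    (b y : A) (hb : b ∉ Ideal.span ({f} : Set A)) (hbq : b ∈ q.comap (Ideal.Quotient.mk _))
    (hq : ∀ c, c ∈ q.comap (Ideal.Quotient.mk (Ideal.span ({f} : Set A))) ↔
      c * y ∈ Ideal.span ({f, b} : Set A)) :
    ringKrullDim (Localization.AtPrime q) = 1 := by
  classical
  haveI := hf
  let P := q.comap (Ideal.Quotient.mk (Ideal.span ({f} : Set A)))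
  have hfP : Ideal.span ({f} : Set A) ≤ P := fun x hx => by
    rw [Ideal.mem_comap, Ideal.Quotient.eq_zero_iff_mem.2 hx]; exact q.zero_mem
  let R := Localization.AtPrime P
  let φ := algebraMap A R
  have hdisj : Disjoint (P.primeCompl : Set A) (Ideal.span ({f} : Set A) : Set A) :=
    Set.disjoint_left.2 fun x hx hx' => hx (hfP hx')
  have hfprime : (Ideal.span ({φ f} : Set R)).IsPrime := by
    have := IsLocalization.isPrime_of_isPrime_disjoint P.primeCompl R _ hf hdisj
    rwa [Ideal.map_span, Set.image_singleton] at this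
  have hbnot : φ b ∉ Ideal.span ({φ f} : Set R) := by
    intro h
    rw [← Set.image_singleton, ← Ideal.map_span,
      IsLocalization.algebraMap_mem_map_algebraMap_iff P.primeCompl] at h
    obtain ⟨s, hs, hsb⟩ := h
    exact (hf.mem_or_mem hsb).elim (fun h' => hs (hfP h')) hb
  have hmem : ∀ x ∈ P, φ x ∈ maximalIdeal R := fun x hx =>
    (IsLocalization.AtPrime.to_map_mem_maximal_iff R P x).2 hx
  haveI : IsDomain R := Groth.Agent.CAlgReg.isDomain
  -- witness
  have hspan : ∀ x : A, φ x ∈ Ideal.span ({φ f, φ b} : Set R) ↔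
      ∃ s ∉ P, s * x ∈ Ideal.span ({f, b} : Set A) := by
    intro x
    rw [← Set.image_pair, ← Ideal.map_span,
      IsLocalization.algebraMap_mem_map_algebraMap_iff P.primeCompl]
    rfl
  have hy : φ y ∉ Ideal.span ({φ f, φ b} : Set R) := by
    rw [hspan]
    rintro ⟨s, hs, hsy⟩
    exact hs ((hq s).2 hsy)
  have hmy : ∀ r ∈ maximalIdeal R, r * φ y ∈ Ideal.span ({φ f, φ b} : Set R) := by
    intro r hr
    rw [← IsLocalization.AtPrime.map_eq_maximalIdeal P R] at hr
    induction hr using Submodule.span_induction with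
    | mem z hz =>
      obtain ⟨c, hc, rfl⟩ := hz
      rw [← map_mul, hspan]
      exact ⟨1, fun h => (Ideal.IsPrime.ne_top inferInstance) ((Ideal.eq_top_iff_one P).2 h),
        by rw [one_mul]; exact (hq c).1 hc⟩
    | zero => rw [zero_mul]; exact zero_mem _
    | add x z _ _ hx hz => rw [add_mul]; exact add_mem hx hz
    | smul c x _ hx => rw [smul_eq_mul, mul_assoc]; exact Ideal.mul_mem_left _ _ hx
  -- the surjection `R/(f) → B_q`
  let g : R →+* Localization.AtPrime q :=
    Localization.localRingHom P q (Ideal.Quotient.mk _) rfl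
  have hg : Function.Surjective g :=
    RingHom.surjective_localRingHom_of_surjective _ Ideal.Quotient.mk_surjective q
  have hgf : g (φ f) = 0 := by
    rw [Localization.localRingHom_to_map, Ideal.Quotient.eq_zero_iff_mem.2
      (Ideal.mem_span_singleton_self f), map_zero]
  have hle : ringKrullDim (Localization.AtPrime q) ≤ ringKrullDim (R ⧸ Ideal.span ({φ f} : Set R)) :=
    ringKrullDim_le_of_surjective
      (Ideal.Quotient.lift _ g (fun a ha => by
        obtain ⟨c, rfl⟩ := Ideal.mem_span_singleton'.1 ha
        rw [map_mul, hgf, mul_zero]))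
      fun z => by obtain ⟨w, rfl⟩ := hg z; exact ⟨Ideal.Quotient.mk _ w, rfl⟩
  have hge : 1 ≤ ringKrullDim (Localization.AtPrime q) := by
    haveI : IsDomain (Localization.AtPrime q) :=
      IsLocalization.isDomain_localization q.primeCompl_le_nonZeroDivisors
    have hne : maximalIdeal (Localization.AtPrime q) ≠ ⊥ := by
      intro h
      have h1 : algebraMap _ (Localization.AtPrime q) (Ideal.Quotient.mk _ b) ∈
          maximalIdeal (Localization.AtPrime q) :=
        (IsLocalization.AtPrime.to_map_mem_maximal_iff _ q _).2 hbq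
      rw [h, Ideal.mem_bot, IsLocalization.to_map_eq_zero_iff _ q.primeCompl_le_nonZeroDivisors,
        Ideal.Quotient.eq_zero_iff_mem] at h1
      exact hb h1
    rw [← IsLocalRing.maximalIdeal_height_eq_ringKrullDim]
    haveI : (⊥ : Ideal (Localization.AtPrime q)).IsPrime := Ideal.isPrime_bot
    have h2 := Ideal.height_strict_mono_of_isPrime (bot_lt_iff_ne_bot.2 hne)
    exact_mod_cast Order.one_le_iff_pos.2 (lt_of_le_of_lt zero_le h2)
  refine le_antisymm ?_ hge
  by_cases hf0 : φ f = 0
  · have hb0 : IsSMulRegular R (φ b) := by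
      refine IsSMulRegular.of_right_eq_zero_of_smul fun z hz => ?_
      refine (mul_eq_zero.1 hz).resolve_left fun h => hbnot ?_
      rw [h]; exact zero_mem _
    have heq : Ideal.ofList [φ b] = Ideal.span ({φ f, φ b} : Set R) := by
      simp [Ideal.ofList, hf0]
    have hd := dim_eq_length R [φ b]
      ((RingTheory.Sequence.isWeaklyRegular_singleton_iff R (φ b)).2 hb0)
      (by simpa using hmem b hbq) (φ y) (heq ▸ hy) (heq ▸ hmy)
    refine hle.trans ((ringKrullDim_quotient_le _).trans ?_)
    rw [hd]; simp
  · have hf0' : IsSMulRegular R (φ f) := IsSMulRegular.of_right_eq_zero_of_smul fun z hz =>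
      (mul_eq_zero.1 hz).resolve_left hf0
    have hquot : IsSMulRegular (QuotSMulTop (φ f) R) (φ b) := by
      refine IsSMulRegular.of_right_eq_zero_of_smul fun z hz => ?_
      obtain ⟨z, rfl⟩ := Submodule.Quotient.mk_surjective _ z
      rw [← Submodule.Quotient.mk_smul, Submodule.Quotient.mk_eq_zero,
        ← Submodule.ideal_span_singleton_smul, Ideal.smul_eq_mul, Ideal.mul_top] at hz
      rw [Submodule.Quotient.mk_eq_zero, ← Submodule.ideal_span_singleton_smul, Ideal.smul_eq_mul,
        Ideal.mul_top]
      exact (hfprime.mem_or_mem hz).resolve_left hbnot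
    have heq : Ideal.ofList [φ f, φ b] = Ideal.span ({φ f, φ b} : Set R) := by
      simp [Ideal.ofList, Set.pair_comm, ← Ideal.span_union, Set.insert_def]
    have hd := dim_eq_length R [φ f, φ b]
      ((RingTheory.Sequence.isWeaklyRegular_cons_iff R (φ f) [φ b]).2
        ⟨hf0', (RingTheory.Sequence.isWeaklyRegular_singleton_iff _ (φ b)).2 hquot⟩)
      (by simpa using And.intro (hmem f (hfP (Ideal.mem_span_singleton_self f))) (hmem b hbq))
      (φ y) (heq ▸ hy) (heq ▸ hmy)
    have h := ringKrullDim_quotient_succ_le_of_nonZeroDivisor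
      (mem_nonZeroDivisors_of_ne_zero hf0)
    rw [hd] at h
    refine hle.trans ?_
    have h' : ringKrullDim (R ⧸ Ideal.span ({φ f} : Set R)) + 1 ≤ (1 : WithBot ℕ∞) + 1 :=
      h.trans (by norm_num)
    exact ENat.WithBot.add_le_add_one_right_iff.1 h'

theorem aux (A : Type u) [CommRing A]
    [IsNoetherianRing A] (hreg : ∀ (p : Ideal A) (_ : p.IsPrime), IsRegularLocalRing (Localization.AtPrime p))
    (f : A) (hf : (Ideal.span ({f} : Set A)).IsPrime) :
    IsIntegrallyClosed (A ⧸ Ideal.span ({f} : Set A)) ↔
      ∀ q : PrimeSpectrum (A ⧸ Ideal.span ({f} : Set A)),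
        ringKrullDim (Localization.AtPrime q.asIdeal) = 1 →
          IsRegularLocalRing (Localization.AtPrime q.asIdeal) := by
  classical
  haveI := hf
  let B := A ⧸ Ideal.span ({f} : Set A)
  constructor
  · intro hic q hdim
    haveI : IsDomain (Localization.AtPrime q.asIdeal) :=
      IsLocalization.isDomain_localization q.asIdeal.primeCompl_le_nonZeroDivisors
    haveI : IsIntegrallyClosed (Localization.AtPrime q.asIdeal) :=
      isIntegrallyClosed_of_isLocalization _ q.asIdeal.primeCompl q.asIdeal.primeCompl_le_nonZeroDivisors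
    haveI : Ring.KrullDimLE 1 (Localization.AtPrime q.asIdeal) :=
      (Order.krullDimLE_iff _ _).2 (le_of_eq hdim)
    haveI : IsPrincipalIdealRing (Localization.AtPrime q.asIdeal) :=
      ((tfae_of_isNoetherianRing_of_isLocalRing_of_isDomain (Localization.AtPrime q.asIdeal)).out 3 0
        rfl rfl).1 ⟨inferInstance, fun P hP hPp =>
          IsLocalRing.eq_maximalIdeal (hPp.isMaximal_of_ne_bot hP)⟩
    infer_instance
  · intro hR1
    let K := FractionRing B
    rw [isIntegrallyClosed_iff K]
    intro x hx
    obtain ⟨a, b, hb0, rfl⟩ := IsFractionRing.div_surjective (A := B) x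
    have hbK : algebraMap B K b ≠ 0 :=
      IsFractionRing.to_map_ne_zero_of_mem_nonZeroDivisors hb0
    by_cases hmem : a ∈ Ideal.span ({b} : Set B)
    · obtain ⟨c, rfl⟩ := Ideal.mem_span_singleton'.1 hmem
      exact ⟨c, by rw [eq_div_iff hbK, ← map_mul]⟩
    exfalso
    have ha0 : Ideal.Quotient.mk (Ideal.span ({b} : Set B)) a ≠ 0 :=
      fun h => hmem (Ideal.Quotient.eq_zero_iff_mem.1 h)
    obtain ⟨q, hq, hJq⟩ := exists_le_isAssociatedPrime_of_isNoetherianRing (R := B) _ ha0
    obtain ⟨hqp, y, hqy⟩ := isAssociatedPrime_iff.1 hq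
    obtain ⟨y, rfl⟩ := Ideal.Quotient.mk_surjective y
    haveI := hqp
    have hqmem : ∀ c, c ∈ q ↔ c * y ∈ Ideal.span ({b} : Set B) := fun c => by
      rw [hqy, Submodule.mem_colon_singleton, Submodule.mem_bot, ← Ideal.Quotient.eq_zero_iff_mem]
      exact Iff.rfl
    obtain ⟨y, rfl⟩ := Ideal.Quotient.mk_surjective y
    obtain ⟨b, rfl⟩ := Ideal.Quotient.mk_surjective b
    have hbf : b ∉ Ideal.span ({f} : Set A) := fun h =>
      nonZeroDivisors.ne_zero hb0 (Ideal.Quotient.eq_zero_iff_mem.2 h)
    have hbq : b ∈ q.comap (Ideal.Quotient.mk (Ideal.span ({f} : Set A))) := by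
      rw [Ideal.mem_comap, hqmem]
      exact Ideal.mul_mem_right _ _ (Ideal.mem_span_singleton_self _)
    have hdim : ringKrullDim (Localization.AtPrime q) = 1 :=
      dim_eq_one A f hf q (hreg _ inferInstance) b y hbf hbq fun c => by
        rw [Ideal.mem_comap, hqmem, ← map_mul, Ideal.mem_span_singleton', Ideal.mem_span_pair]
        constructor
        · rintro ⟨z, hz⟩
          obtain ⟨z, rfl⟩ := Ideal.Quotient.mk_surjective z
          rw [← map_mul] at hz
          obtain ⟨w, hw⟩ := Ideal.mem_span_singleton'.1 (Ideal.Quotient.eq.1 hz.symm)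
          exact ⟨w, z, by linear_combination hw⟩
        · rintro ⟨w, z, hz⟩
          refine ⟨Ideal.Quotient.mk _ z, ?_⟩
          rw [← map_mul, Ideal.Quotient.eq]
          exact Ideal.mem_span_singleton'.2 ⟨-w, by linear_combination -hz⟩
    haveI : IsRegularLocalRing (Localization.AtPrime q) := hR1 ⟨q, hqp⟩ hdim
    haveI : IsIntegrallyClosed (Localization.AtPrime q) :=
      Groth.Agent.RegNormal.isIntegrallyClosed _
    have hle : q.primeCompl ≤ nonZeroDivisors B := q.primeCompl_le_nonZeroDivisors
    let Bq := Localization.AtPrime q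
    letI : Algebra Bq K := (IsLocalization.map (M := q.primeCompl) (T := nonZeroDivisors B)
      (S := Bq) K (RingHom.id B) hle).toAlgebra
    haveI : IsScalarTower B Bq K := IsScalarTower.of_algebraMap_eq fun c =>
      (IsLocalization.map_eq (M := q.primeCompl) (T := nonZeroDivisors B) (S := Bq) (Q := K)
        (g := RingHom.id B) hle c).symm
    haveI : IsFractionRing Bq K :=
      IsFractionRing.isFractionRing_of_isDomain_of_isLocalization q.primeCompl Bq K
    obtain ⟨z, hz⟩ := (isIntegrallyClosed_iff K).1 inferInstance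
      (hx.tower_top (A := Bq))
    obtain ⟨c, s, rfl⟩ := IsLocalization.exists_mk'_eq q.primeCompl z
    refine s.2 (hJq ?_)
    rw [Submodule.mem_colon_singleton, Submodule.mem_bot]
    change Ideal.Quotient.mk (Ideal.span ({Ideal.Quotient.mk _ b} : Set B)) ((s : B) * a) = 0
    rw [Ideal.Quotient.eq_zero_iff_mem, Ideal.mem_span_singleton']
    refine ⟨c, IsFractionRing.injective B K ?_⟩
    have h1 : algebraMap Bq K (IsLocalization.mk' Bq c s) * algebraMap B K s = algebraMap B K c := by
      rw [IsScalarTower.algebraMap_apply B Bq K, ← map_mul, IsLocalization.mk'_spec,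
        ← IsScalarTower.algebraMap_apply]
    rw [hz] at h1
    rw [map_mul, map_mul, ← h1, mul_right_comm, div_mul_cancel₀ _ hbK, mul_comm]

end Groth.Agent.S10834

namespace Groth.Agent.S10834

/-- Let A be a Noetherian ring whose localizations at all prime ideals are regular local rings, and f an
element of A generating a prime ideal, so that A/(f) is an integral domain (an integral hypersurface
in the regular affine scheme Spec A). Then A/(f) is normal (integrally closed in its fraction field)
if and only if it is regular in codimension 1, i.e. its localization at every prime at which the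
local ring has dimension 1 is a regular local ring. -/
theorem result (A : Type u) [CommRing A]
    [IsNoetherianRing A] (hreg : ∀ (p : Ideal A) (_ : p.IsPrime), IsRegularLocalRing (Localization.AtPrime p))
    (f : A) (hf : (Ideal.span ({f} : Set A)).IsPrime) :
    IsIntegrallyClosed (A ⧸ Ideal.span ({f} : Set A)) ↔
      ∀ q : PrimeSpectrum (A ⧸ Ideal.span ({f} : Set A)),
        ringKrullDim (Localization.AtPrime q.asIdeal) = 1 →
          IsRegularLocalRing (Localization.AtPrime q.asIdeal) := by
  exact aux A hreg f hf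

end Groth.Agent.S10834
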