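import Groth.Statements.S10836
import Mathlib

set_option autoImplicit false
universe u
open Coh

open TensorProduct

namespace Groth.Agent.S10836

theorem finrank_quotient_tensor {R : Type u} [CommRing R] (Q : Ideal R) [Q.IsMaximal] (N : Type u)
    [AddCommGroup N] [Module R N] :
    Module.finrank (R ⧸ Q) ((R ⧸ Q) ⊗[R] N) = Module.finrank Q.ResidueField (Q.Fiber N) := by
  letI := Ideal.Quotient.field Q
  exact (Module.finrank_baseChange (R := Q.ResidueField) (S := R ⧸ Q) (M' := (R ⧸ Q) ⊗[R] N)).symm.trans
    (TensorProduct.AlgebraTensorModule.cancelBaseChange R (R ⧸ Q) Q.ResidueField Q.ResidueField N).finrank_eq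

/-- Let A be a commutative ring, M a finitely generated projective A-module whose rank at every prime is
r, and Z a finite set of prime ideals of A. Then there is an element s of A outside every prime of Z
such that the localized module M_s has a basis of r elements over A_s. (The published statement is
for a finite locally free module of constant rank r on a scheme and a finite set of points inside an
affine open Spec A, and produces a basic open D(s) containing the points on which the module is free
of rank r; its argument begins by replacing the scheme with Spec A, and this row states that case.) -/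
theorem result (A : Type u) [CommRing A]
    (M : Type u) [AddCommGroup M] [Module A M] [Module.Finite A M] [Module.Projective A M] (r : ℕ)
    (hr : ∀ p : PrimeSpectrum A, Module.rankAtStalk M p = r)
    (Z : Set (PrimeSpectrum A)) (hZ : Z.Finite) :
    ∃ s : A, (∀ p ∈ Z, s ∉ p.asIdeal) ∧
      Nonempty (Module.Basis (Fin r) (Localization.Away s) (LocalizedModule (Submonoid.powers s) M)) := by
  classical
  rcases subsingleton_or_nontrivial A with hA | hA
  · refine ⟨0, fun p _ => absurd (Subsingleton.elim p.asIdeal ⊤) p.2.ne_top, ?_⟩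
    haveI : Subsingleton (Localization.Away (0 : A)) := IsLocalization.subsingleton (M := Submonoid.powers (0 : A)) ⟨1, pow_one 0⟩
    haveI : Subsingleton (LocalizedModule (Submonoid.powers (0 : A)) M) := Module.subsingleton (Localization.Away (0 : A)) _
    exact ⟨Module.Basis.ofRepr (LinearEquiv.ofSubsingleton _ _)⟩
  obtain ⟨P₀⟩ : Nonempty (PrimeSpectrum A) := inferInstance
  let Z' : Set (PrimeSpectrum A) := insert P₀ Z
  let S : Submonoid A := ⨅ p : Z', (p : PrimeSpectrum A).asIdeal.primeCompl
  have memS : ∀ a, a ∈ S ↔ ∀ p ∈ Z', a ∉ p.asIdeal := fun a => by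
    simp only [S, Submonoid.mem_iInf, Subtype.forall]
    rfl
  let R := Localization S
  haveI : Nontrivial R := not_subsingleton_iff_nontrivial.1 fun h =>
    (memS 0).1 ((IsLocalization.subsingleton_iff (M := S) (S := R)).1 h) P₀ (Set.mem_insert _ _) (zero_mem _)
  have key : ∀ Q : MaximalSpectrum R, ∃ p ∈ Z', Q.asIdeal.under A = p.asIdeal := fun Q => by
    have hd := ((IsLocalization.isPrime_iff_isPrime_disjoint S R Q.asIdeal).1 Q.isMaximal.isPrime).2
    have hsub : (Q.asIdeal.comap (algebraMap A R) : Set A) ⊆ ⋃ p ∈ Z', (p.asIdeal : Set A) := fun a ha => by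
      have hna := Set.disjoint_right.1 hd ha
      have : ¬ ∀ p ∈ Z', a ∉ p.asIdeal := fun h => hna ((memS a).2 h)
      push Not at this
      obtain ⟨p, hp, hap⟩ := this
      exact Set.mem_biUnion hp hap
    obtain ⟨p, hp, hle⟩ := (Ideal.subset_union_prime_finite (hZ.insert P₀) (f := fun p => p.asIdeal) P₀ P₀
      (fun p _ _ _ => p.2)).1 hsub
    have hdp : Disjoint (S : Set A) p.asIdeal := Set.disjoint_left.2 fun a ha => (memS a).1 ha p hp
    have hpr := IsLocalization.isPrime_of_isPrime_disjoint S R p.asIdeal p.2 hdp
    have hQ : Q.asIdeal ≤ Ideal.map (algebraMap A R) p.asIdeal :=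
      (IsLocalization.map_under S R Q.asIdeal).ge.trans (Ideal.map_mono hle)
    refine ⟨p, hp, ?_⟩
    rw [Q.isMaximal.eq_of_le hpr.ne_top hQ, IsLocalization.under_map_of_isPrime_disjoint S R p.2 hdp]
  choose g hg hgc using key
  haveI : Finite (MaximalSpectrum R) := by
    haveI : Finite Z' := (hZ.insert P₀).to_subtype
    refine Finite.of_injective (fun Q => (⟨g Q, hg Q⟩ : Z')) fun Q Q' h => ?_
    apply MaximalSpectrum.ext
    rw [← IsLocalization.map_under S R Q.asIdeal, ← IsLocalization.map_under S R Q'.asIdeal, hgc, hgc]
    exact congrArg (fun p : PrimeSpectrum A => Ideal.map (algebraMap A R) p.asIdeal) (congrArg Subtype.val h)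
  have rk : ∀ Q : MaximalSpectrum R, Module.finrank (R ⧸ Q.1) ((R ⧸ Q.1) ⊗[R] (R ⊗[A] M)) = r := fun Q => by
    haveI := Q.isMaximal
    refine (Groth.Agent.S10836.finrank_quotient_tensor Q.1 (R ⊗[A] M)).trans ?_
    refine (Ideal.finrank_fiber_eq_rankAtStalk (M := R ⊗[A] M) Q.1).trans ?_
    rw [Module.rankAtStalk_baseChange]
    exact hr _
  haveI : Module.Free R (R ⊗[A] M) := Module.free_of_flat_of_finrank_eq R (R ⊗[A] M) r rk
  obtain ⟨b⟩ := Module.nonempty_basis_of_flat_of_finrank_eq R (R ⊗[A] M) r rk
  haveI := Module.finitePresentation_of_projective A M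
  obtain ⟨s, hs, hfree, hrank⟩ :=
    Module.FinitePresentation.exists_free_localizedModule_powers S (TensorProduct.mk A R M 1) R
  refine ⟨s, fun p hp => (memS s).1 hs p (Set.mem_insert_of_mem _ hp), ?_⟩
  haveI : Nontrivial (Localization.Away s) := not_subsingleton_iff_nontrivial.1 fun h => by
    obtain ⟨n, hn⟩ := (IsLocalization.subsingleton_iff (M := Submonoid.powers s) (S := Localization.Away s)).1 h
    exact (memS s).1 hs P₀ (Set.mem_insert _ _) (P₀.2.mem_of_pow_mem n (by simp only at hn; rw [hn]; exact zero_mem _))
  haveI : Module.Finite (Localization.Away s) (LocalizedModule (Submonoid.powers s) M) :=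
    Module.Finite.of_isLocalizedModule (Submonoid.powers s) (LocalizedModule.mkLinearMap (Submonoid.powers s) M)
  haveI := hfree
  exact ⟨Module.finBasisOfFinrankEq _ _ (hrank.trans ((Module.finrank_eq_card_basis b).trans (Fintype.card_fin r)))⟩

end Groth.Agent.S10836
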