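import Groth.Statements.S10839
import Groth.Agent.DimTheory.Points

set_option autoImplicit false
universe u
open CategoryTheory AlgebraicGeometry Topology
open Variety

namespace Groth.Agent.S10839

/-- A closed immersion i : Y → X into an integral scheme X with dim X = dim Y < ∞ is an isomorphism. -/
theorem result {X Y : Scheme.{u}} (i : Y ⟶ X)
    [IsClosedImmersion i] [IsIntegral X] (hfin : topologicalKrullDim ↥X ≠ ⊤)
    (hdim : topologicalKrullDim ↥X = topologicalKrullDim ↥Y) : IsIso i := by
  suffices Surjective i from isIso_of_isClosedImmersion_of_surjective i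
  refine ⟨Set.range_eq_univ.1 ?_⟩
  by_contra hne
  have hη : genericPoint X ∉ Set.range i.base := fun h => hne (Set.eq_univ_of_univ_subset
    ((genericPoint_spec X).def.symm.subset.trans
      (closure_minimal (Set.singleton_subset_iff.2 h) i.isClosedEmbedding.isClosed_range)))
  have hXd : topologicalKrullDim X ≠ ⊥ := fun h => by
    rw [topologicalKrullDim, Order.krullDim_eq_bot_iff] at h
    exact h.false ((irreducibleSetEquivPoints (α := X)).symm (genericPoint X))
  obtain ⟨n, hn⟩ : ∃ n : ℕ, topologicalKrullDim X = n := by
    revert hfin hXd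
    cases topologicalKrullDim X with
    | bot => exact fun _ h => absurd rfl h
    | coe d =>
      cases d with
      | top => exact fun h _ => absurd rfl h
      | coe d => exact fun _ _ => ⟨d, rfl⟩
  rw [hn, DimTheory.topologicalKrullDim_eq_iSup_height] at hdim
  have hle : ∀ y : Y, (Order.height y : WithBot ℕ∞) + 1 ≤ n := fun y => by
    have hlt : i y < genericPoint X :=
      lt_of_le_not_ge (genericPoint_specializes (i y)) fun h =>
        hη ⟨y, (Specializes.antisymm h (genericPoint_specializes (i y))).eq⟩
    have h1 := Order.height_le_height_apply_of_strictMono (fun z : Y => i z) (fun a b h => by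
      rw [lt_iff_le_not_ge] at h ⊢
      exact ⟨i.isClosedEmbedding.isInducing.specializes_iff.2 h.1,
        fun h' => h.2 (i.isClosedEmbedding.isInducing.specializes_iff.1 h')⟩) y
    have h2 := WithBot.coe_le_coe.2 ((add_le_add h1 le_rfl).trans (Order.height_add_one_le hlt))
    rw [← DimTheory.topologicalKrullDim_eq_height_genericPoint, hn] at h2
    exact le_trans (le_of_eq (by push_cast; rfl)) h2
  by_cases hY : IsEmpty Y
  · rw [iSup_of_empty] at hdim
    exact absurd hdim.symm (WithBot.bot_ne_natCast n)
  obtain ⟨y, hy⟩ : ∃ y : Y, (n : ℕ∞) ≤ Order.height y := by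
    by_contra hcon
    push Not at hcon
    have : ∀ y : Y, (Order.height y : WithBot ℕ∞) ≤ ((n - 1 : ℕ) : ℕ∞) := fun y => by
      refine WithBot.coe_le_coe.2 ?_
      have := hcon y
      cases hh : Order.height y with
      | top => rw [hh] at this; exact absurd this (by simp)
      | coe d => rw [hh] at this; have := ENat.natCast_lt_natCast.1 this; exact Nat.cast_le.2 (by omega)
    have h := hdim.le.trans (iSup_le this)
    have h' : n ≤ n - 1 := Nat.cast_le.1 (WithBot.coe_le_coe.1 h)
    obtain ⟨y₀⟩ := not_isEmpty_iff.1 hY
    have := hcon y₀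
    have hn0 : n = 0 := by omega
    simp [hn0] at this
  have := (add_le_add (WithBot.coe_le_coe.2 hy) (le_refl (1 : WithBot ℕ∞))).trans (hle y)
  have h' : n + 1 ≤ n := Nat.cast_le.1 (WithBot.coe_le_coe.1 (le_trans (le_of_eq (by push_cast; rfl)) this))
  omega

end Groth.Agent.S10839
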