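import Groth.Statements.S1084
import Groth.Agent.FilDLib.Complexes

set_option autoImplicit false
universe v u
open CategoryTheory CategoryTheory.Limits Opposite
open FilD

open Groth.Agent.FilDLib

namespace Groth.Agent.S1084

set_option backward.isDefEq.respectTransparency false
set_option backward.defeqAttrib.useBackward true

/-- Let A be an abelian category, I a bounded below complex of filtered injective objects, and α : K ⟶ L
a filtered quasi-isomorphism of complexes of finite filtered objects. Then precomposition with α is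
a bijection from homotopy classes of maps L ⟶ I to homotopy classes of maps K ⟶ I. -/
theorem result {A : Type u} [Category.{v} A] [Abelian A] (I : CochainComplex (FilD.FilF A) ℤ)
    (a : ℤ) [I.IsStrictlyGE a] (hI : ∀ n, FilD.IsFilteredInjective (I.X n))
    {K L : CochainComplex (FilD.FilF A) ℤ} (α : K ⟶ L) (hα : FilD.IsFilteredQuasiIso α) :
    Function.Bijective (fun β : (HomotopyCategory.quotient (FilD.FilF A) (ComplexShape.up ℤ)).obj L ⟶
        (HomotopyCategory.quotient (FilD.FilF A) (ComplexShape.up ℤ)).obj I =>
      (HomotopyCategory.quotient (FilD.FilF A) (ComplexShape.up ℤ)).map α ≫ β) := by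
  let Q := HomotopyCategory.quotient (FilD.FilF A) (ComplexShape.up ℤ)
  let T := Q.mapTriangle.obj (CochainComplex.mappingCone.triangle α)
  have hT : T ∈ Pretriangulated.distinguishedTriangles := HomotopyCategory.mappingCone_triangleh_distinguished α
  let C := CochainComplex.mappingCone α
  have hC := filteredAcyclic_cone α hα
  have h0 : ∀ g : Q.obj C ⟶ Q.obj I, g = 0 := homotopyCategory_hom_eq_zero C I hC a hI
  refine ⟨fun β β' hb => ?_, fun f => ?_⟩
  · rw [← sub_eq_zero]
    obtain ⟨γ, hγ⟩ := Pretriangulated.Triangle.yoneda_exact₂ T hT (β - β') (by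
      change Q.map α ≫ (β - β') = 0
      rw [Preadditive.comp_sub, sub_eq_zero]
      exact hb)
    rw [hγ]
    exact (congrArg (fun x => T.mor₂ ≫ x) (h0 γ)).trans comp_zero
  · have h1 : ∀ g : (Q.obj C)⟦(-1 : ℤ)⟧ ⟶ Q.obj I, g = 0 := fun g => by
      have := homotopyCategory_hom_eq_zero _ I (filteredAcyclic_shift C hC (-1)) a hI ((Q.commShiftIso (-1 : ℤ)).hom.app C ≫ g)
      simpa using congrArg (fun x => (Q.commShiftIso (-1 : ℤ)).inv.app C ≫ x) this
    obtain ⟨γ, hγ⟩ := Pretriangulated.Triangle.yoneda_exact₂ _ (Pretriangulated.inv_rot_of_distTriang _ hT) f (h1 _)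
    exact ⟨γ, hγ.symm⟩

end Groth.Agent.S1084
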