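import Groth.Statements.S10840
import Mathlib
import Groth.Agent.ConeDim.Hypersurface

set_option autoImplicit false
universe u
open AlgebraicGeometry Topology
open Variety

namespace Groth.Agent.S10840

/-- For a field k and nonzero homogeneous polynomials f, g of positive degrees in three variables, the
common zero set V_+(f, g) in the projective plane over k is zero-dimensional as a topological
subspace exactly when f and g are coprime, i.e. their only common divisors are the non-zero
constants. -/
theorem result (k : Type u) [Field k] (n m : ℕ)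
    (f g : MvPolynomial (Fin 3) k) (hf : f.IsHomogeneous n) (hg : g.IsHomogeneous m)
    (hn : 0 < n) (hm : 0 < m) (hf0 : f ≠ 0) (hg0 : g ≠ 0) :
    topologicalKrullDim ↥(ProjectiveSpectrum.zeroLocus (CohB1.polyGrading 2 k)
        ({f, g} : Set (MvPolynomial (Fin 3) k))) = 0 ↔ IsRelPrime f g := by
  have hcl := ProjectiveSpectrum.isClosed_zeroLocus (CohB1.polyGrading 2 k) ({f, g} : Set (MvPolynomial (Fin 3) k))
  have hb : (⊥ : Ideal (MvPolynomial (Fin 3) k)).IsHomogeneous (CohB1.polyGrading 2 k) :=
    Ideal.IsHomogeneous.bot _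
  have hcard : ({f, g} : Set (MvPolynomial (Fin 3) k)).ncard ≤ 2 :=
    (Set.ncard_insert_le _ _).trans (by rw [Set.ncard_singleton])
  let ξ := ConeDim.pt ⊥ hb (by rw [ConeDim.qdim_bot]; omega)
  have hξ : ConeDim.qd ξ = 3 := ConeDim.qdim_bot
  obtain ⟨y, -, hy, -⟩ := ConeDim.exists_specializes_zeroLocus ξ (s := {f, g}) (Set.toFinite _)
    (fun h hh => by
      rcases hh with rfl | rfl
      exacts [⟨n, hn, hf⟩, ⟨m, hm, hg⟩]) (by omega)
  constructor
  · intro h0 d hdf hdg
    by_contra hdu
    have hd0 : d ≠ 0 := fun e => hf0 (by rwa [e, zero_dvd_iff] at hdf)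
    obtain ⟨π, hπ, hπd⟩ := WfDvdMonoid.exists_irreducible_factor hdu hd0
    have := (Ideal.span_singleton_prime hπ.prime.ne_zero).2 hπ.prime
    have hq : ConeDim.qdim (Ideal.span {π}) = 2 := ConeDim.qdim_span_of_prime (n := 2) hπ.prime
    have hh := ConeDim.isHomogeneous_span_of_dvd hf hf0 hπ.prime (hπd.trans hdf)
    have hmem : ConeDim.pt (Ideal.span {π}) hh (by omega) ∈
        ProjectiveSpectrum.zeroLocus (CohB1.polyGrading 2 k) ({f, g} : Set (MvPolynomial (Fin 3) k)) := by
      refine ConeDim.mem_zeroLocus_iff.2 (Ideal.span_le.2 ?_)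
      rintro h (rfl | rfl)
      exacts [Ideal.mem_span_singleton.2 (hπd.trans hdf), Ideal.mem_span_singleton.2 (hπd.trans hdg)]
    have h1 := ConeDim.le_topologicalKrullDim hcl hmem
    rw [h0] at h1
    have h2 : ConeDim.qdim (Ideal.span {π}) - 1 ≤ 0 := by exact_mod_cast h1
    omega
  · intro hfg
    refine le_antisymm ?_ (le_trans ?_ (ConeDim.le_topologicalKrullDim hcl hy))
    swap
    · exact_mod_cast Nat.zero_le _
    rw [ConeDim.topologicalKrullDim_closed hcl]
    refine iSup_le fun z => ?_
    have hz := ConeDim.mem_zeroLocus_iff.1 z.2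
    have hzf : f ∈ ConeDim.pr z.1 := hz (Ideal.subset_span (Or.inl rfl))
    have hzg : g ∈ ConeDim.pr z.1 := hz (Ideal.subset_span (Or.inr rfl))
    obtain ⟨π, hπ, hπz⟩ : ∃ π ∈ UniqueFactorizationMonoid.factors f, π ∈ ConeDim.pr z.1 := by
      obtain ⟨u, hu⟩ := UniqueFactorizationMonoid.factors_prod hf0
      refine (z.1.isPrime.multiset_prod_mem_iff_exists_mem _).1 ?_
      exact (z.1.isPrime.mem_or_mem (hu.symm ▸ hzf)).resolve_right
        (fun h => z.1.isPrime.ne_top (Ideal.eq_top_of_isUnit_mem _ h u.isUnit))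
    have hπp : Prime π := UniqueFactorizationMonoid.prime_of_factor π hπ
    have := (Ideal.span_singleton_prime hπp.ne_zero).2 hπp
    have hlt : Ideal.span {π} < ConeDim.pr z.1 := by
      refine lt_of_le_of_ne (Ideal.span_le.2 (Set.singleton_subset_iff.2 hπz)) fun e => ?_
      rw [← e, Ideal.mem_span_singleton] at hzg
      exact hπp.not_unit (hfg (UniqueFactorizationMonoid.dvd_of_mem_factors hπ) hzg)
    have h1 := ConeDim.qdim_lt k hlt
    rw [ConeDim.qdim_span_of_prime hπp] at h1
    have h2 : ConeDim.qd (n := 2) z.1 - 1 ≤ 0 := by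
      unfold ConeDim.qd
      omega
    exact_mod_cast h2

end Groth.Agent.S10840
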