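import Groth.Statements.S10842
import Groth.Agent.AssPts.Basic
import Mathlib.RingTheory.Localization.LocalizationLocalization
import Mathlib.RingTheory.IntegralClosure.IntegrallyClosed
-- import your own Groth.Agent.* helpers here

set_option autoImplicit false
universe u
open CategoryTheory AlgebraicGeometry
open Variety

namespace Groth.Agent.S10842

/-- A quasi-compact scheme whose local rings at all closed points are integrally closed domains is
normal, i.e. all of its local rings are integrally closed domains. -/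
theorem result (X : Scheme.{u}) [CompactSpace ↥X]
    (h : ∀ x : X, IsClosed ({x} : Set X) →
      IsDomain (X.presheaf.stalk x) ∧ IsIntegrallyClosed (X.presheaf.stalk x)) :
    Pi1.IsNormalScheme X := by
  intro y
  obtain ⟨x, hx, hxc⟩ := IsClosed.exists_closed_singleton (S := closure {y}) isClosed_closure
    ⟨y, subset_closure rfl⟩
  have hyx : y ⤳ x := specializes_iff_mem_closure.2 hx
  obtain ⟨U, hU, hxU, -⟩ := exists_isAffineOpen_mem_and_subset (U := (⊤ : X.Opens)) (x := x) trivial
  have hyU : y ∈ U := hyx.mem_open U.2 hxU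
  obtain ⟨hdom, hic⟩ := h x hxc
  letI := (X.presheaf.germ U x hxU).hom.toAlgebra
  letI := (X.presheaf.germ U y hyU).hom.toAlgebra
  letI := (X.presheaf.stalkSpecializes hyx).hom.toAlgebra
  haveI : IsScalarTower Γ(X, U) (X.presheaf.stalk x) (X.presheaf.stalk y) :=
    IsScalarTower.of_algebraMap_eq fun r => (TopCat.Presheaf.germ_stalkSpecializes_apply X.presheaf hxU hyx r).symm
  haveI : IsLocalization.AtPrime (X.presheaf.stalk x) (hU.primeIdealOf ⟨x, hxU⟩).asIdeal :=
    hU.isLocalization_stalk ⟨x, hxU⟩
  haveI : IsLocalization.AtPrime (X.presheaf.stalk y) (hU.primeIdealOf ⟨y, hyU⟩).asIdeal :=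
    hU.isLocalization_stalk ⟨y, hyU⟩
  have hle := (Groth.Agent.AssPts.specializes_iff hU x hxU hyU).1 hyx
  haveI := IsLocalization.isLocalization_of_submonoid_le (X.presheaf.stalk x) (X.presheaf.stalk y)
    (hU.primeIdealOf ⟨x, hxU⟩).asIdeal.primeCompl (hU.primeIdealOf ⟨y, hyU⟩).asIdeal.primeCompl
    (fun r hr hrq => hr (hle hrq))
  set M := (hU.primeIdealOf ⟨y, hyU⟩).asIdeal.primeCompl.map (algebraMap Γ(X, U) (X.presheaf.stalk x)) with hM
  have hM0 : M ≤ nonZeroDivisors (X.presheaf.stalk x) := by
    refine le_nonZeroDivisors_of_noZeroDivisors fun h0 => ?_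
    obtain ⟨r, hr, hr0⟩ := h0
    exact hr (by
      have h2 := congrArg (algebraMap (X.presheaf.stalk x) (X.presheaf.stalk y)) hr0
      rw [← IsScalarTower.algebraMap_apply, map_zero] at h2
      have hu := IsLocalization.map_units (X.presheaf.stalk y)
        (⟨r, hr⟩ : (hU.primeIdealOf ⟨y, hyU⟩).asIdeal.primeCompl)
      exact absurd (h2 ▸ hu) not_isUnit_zero)
  haveI := IsLocalization.isDomain_of_le_nonZeroDivisors (X.presheaf.stalk y) hM0
  exact ⟨inferInstance, isIntegrallyClosed_of_isLocalization (X.presheaf.stalk y) M hM0⟩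

end Groth.Agent.S10842
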