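import Groth.Statements.S10844
import Groth.Agent.S4357
import Groth.Agent.QCohBase.FiniteTypePullback
import Groth.Agent.QCohBase.Criteria
-- import your own Groth.Agent.* helpers here

set_option autoImplicit false
universe u
open CategoryTheory
open RepF

namespace Groth.Agent.S10844

/-- Generating sections transported along an epimorphism. -/
noncomputable def genOfEpi {X : AlgebraicGeometry.Scheme.{u}} {M N : SheafOfModules.{u} X.ringCatSheaf}
    (G : M.GeneratingSections) (p : M ⟶ N) (hp : CategoryTheory.Epi p) : N.GeneratingSections :=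
  haveI := hp
  G.ofEpi p

open AlgebraicGeometry CategoryTheory in
/-- For a scheme S and a homomorphism v : E → F of quasi-coherent O_S-modules with F of finite type,
there is an open subscheme U of S such that a morphism of schemes f : T → S factors through U (its
image lies in U) if and only if the pulled-back homomorphism f^*v : f^*E → f^*F is an epimorphism. -/
theorem result {S : Scheme.{u}} {E F : S.Modules}
    [Coh.IsQCoh E] [Coh.IsQCoh F] (hF : CohB1.IsFT F) (v : E ⟶ F) :
    ∃ U : S.Opens, ∀ (T : Scheme.{u}) (f : T ⟶ S),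
      Set.range f.base ⊆ (U : Set S) ↔ Epi ((Scheme.Modules.pullback f).map v) := by
  haveI : (Limits.cokernel v).IsQuasicoherent :=
    Groth.Agent.QCohBase.isQuasicoherent_cokernel v ‹Coh.IsQCoh E› ‹Coh.IsQCoh F›
  haveI : Coh.IsQCoh (Limits.cokernel v) := ‹(Limits.cokernel v).IsQuasicoherent›
  have hC : CohB1.IsFT (Limits.cokernel v) := by
    refine Groth.Agent.QCohBase.isFT_of_generators fun x => ?_
    obtain ⟨W, hW, G, hG⟩ := Groth.Agent.QCohBase.exists_generators_of_isFT hF x
    haveI := hG
    haveI : Limits.PreservesColimitsOfSize.{0, 0} (Scheme.Modules.restrictFunctor W.ι) :=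
      (Scheme.Modules.restrictAdjunction W.ι).leftAdjoint_preservesColimits
    haveI : Epi ((Scheme.Modules.restrictFunctor W.ι).map (Limits.cokernel.π v)) := inferInstance
    exact ⟨W, hW, genOfEpi G ((Scheme.Modules.restrictFunctor W.ι).map (Limits.cokernel.π v)) ‹_›, hG⟩
  refine ⟨⟨(CohB1.support (Limits.cokernel v))ᶜ,
    (Groth.Agent.QCohBase.isClosed_support _ hC).isOpen_compl⟩, fun T f => ?_⟩
  haveI : Limits.PreservesColimitsOfSize.{0, 0} (Scheme.Modules.pullback f) :=
    (Scheme.Modules.pullbackPushforwardAdjunction f).leftAdjoint_preservesColimits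
  let e := Limits.PreservesCokernel.iso (Scheme.Modules.pullback f) v
  have hs := Groth.Agent.S4357.result f (Limits.cokernel v) hC
  have h1 : Epi ((Scheme.Modules.pullback f).map v) ↔
      Limits.IsZero ((Scheme.Modules.pullback f).obj (Limits.cokernel v)) :=
    ⟨fun _ => (Limits.isZero_cokernel_of_epi _).of_iso e,
      fun h => Preadditive.epi_of_isZero_cokernel _ (h.of_iso e.symm)⟩
  rw [h1]
  constructor
  · intro h
    refine Groth.Agent.QCohBase.isZero_of_stalks fun t => not_not.1 fun ht => ?_
    exact h ⟨t, rfl⟩ ((Set.ext_iff.1 hs t).1 ht)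
  · rintro h _ ⟨t, rfl⟩ ht
    exact ((Set.ext_iff.1 hs t).2 ht) (Groth.Agent.QCohBase.subsingleton_stalk_of_isZero h t)

end Groth.Agent.S10844
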