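import Groth.Statements.S1085
import Groth.Agent.FilDLib.Injective

set_option autoImplicit false
universe v u
open CategoryTheory CategoryTheory.Limits Opposite
open FilD

open Groth.Agent.FilDLib

namespace Groth.Agent.S1085

set_option backward.isDefEq.respectTransparency false
set_option backward.defeqAttrib.useBackward true

/-- Let A be an abelian category and S = (X ⟶ Y ⟶ Z) a short complex (composite zero) of finite filtered
objects such that grᵖ X ⟶ grᵖ Y ⟶ grᵖ Z is exact for every p. Then for every p the sequence of p-th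
filtration steps Fᵖ X ⟶ Fᵖ Y ⟶ Fᵖ Z is exact, and both morphisms of S are strict. -/
theorem result {A : Type u} [Category.{v} A] [Abelian A] (S : ShortComplex (FilD.FilF A))
    (hS : ∀ p : ℤ, (S.map (FilD.grF A p)).Exact) :
    (∀ p : ℤ, (S.map ((FilD.IsFinFil A).ι ⋙ (evaluation ℤᵒᵖ A).obj (op p))).Exact) ∧
      FilD.IsStrict S.f ∧ FilD.IsStrict S.g := by
  let S' : ShortComplex (ℤᵒᵖ ⥤ A) := S.map (FilD.IsFinFil A).ι
  have hS' : ∀ p, GrExact S' p := fun p => (exact_gr_iff S' p).1 (hS p)
  have hm := mono_t S.X₃.property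
  obtain ⟨b, hb⟩ := S.X₂.property.2.1
  have h0 : ∀ p, S.f.hom.app (op p) ≫ S.g.hom.app (op p) = 0 := fun p => by
    rw [← NatTrans.comp_app, show S.f.hom ≫ S.g.hom = 0 from congrArg (fun q => q.hom) S.zero]
    rfl
  refine ⟨fun p => exact_eval hS' hm hb p, ?_, ?_⟩
  · rw [isStrict_iff]
    intro p T x y hxy
    haveI := hm p
    have hy : y ≫ S.g.hom.app (op (p + 1)) = 0 := by
      rw [← cancel_mono (t S.X₃.obj p), Category.assoc, zero_comp, ← S.g.hom.naturality, ← Category.assoc]
      change (y ≫ t S.X₂.obj p) ≫ _ = 0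
      rw [hxy, Category.assoc, h0, comp_zero]
    exact lift_of_grExact hS' hm hb (p + 1) y hy
  · rw [isStrict_iff]
    intro p T x y hxy
    haveI := hm p
    obtain ⟨T', π, hπ, w, x', hx'⟩ := hS' p T x y hxy.symm
    refine ⟨T', π, hπ, x', ?_⟩
    change π ≫ x = w ≫ S.f.hom.app (op p) + x' ≫ t S.X₂.obj p at hx'
    rw [← cancel_mono (t S.X₃.obj p), Category.assoc, hxy, ← Category.assoc π x, hx', Preadditive.add_comp,
      Category.assoc w, h0, Category.assoc, Category.assoc, S.g.hom.naturality]
    simp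

end Groth.Agent.S1085
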