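import Groth.Statements.S10854
import Groth.Agent.Birat.Spread


set_option autoImplicit false
set_option backward.isDefEq.respectTransparency.types false
universe u
open FinCond

namespace Groth.Agent.S10854

section aux

open AlgebraicGeometry CategoryTheory

lemma exists_homOfLE_eq {Z T B : Scheme.{u}} (sT : T ⟶ B) [LocallyOfFiniteType sT] {U : Z.Opens}
    {z : Z} (hz : z ∈ U) (a b : U.toScheme ⟶ T) (hab : a ≫ sT = b ≫ sT)
    (h : U.fromSpecStalkOfMem z hz ≫ a = U.fromSpecStalkOfMem z hz ≫ b) :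
    ∃ (W : Z.Opens) (hle : W ≤ U), z ∈ W ∧ Z.homOfLE hle ≫ a = Z.homOfLE hle ≫ b := by
  have h' : U.toScheme.fromSpecStalk ⟨z, hz⟩ ≫ a = U.toScheme.fromSpecStalk ⟨z, hz⟩ ≫ b := by
    rw [Scheme.Opens.fromSpecStalkOfMem, Category.assoc, Category.assoc] at h
    haveI : IsIso (U.ι.stalkMap ⟨z, hz⟩) := inferInstance
    haveI : IsIso (Spec.map (inv (U.ι.stalkMap ⟨z, hz⟩))) := inferInstance
    exact (cancel_epi _).1 h
  obtain ⟨U', hzU', hU'⟩ :=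
    Groth.Agent.RatMapLib.exists_eq_of_fromSpecStalk_comp_eq sT a b hab h'
  refine ⟨U.ι ''ᵁ U', U.ι_image_le U', ⟨⟨z, hz⟩, hzU', rfl⟩, ?_⟩
  have hr : Set.range (Z.homOfLE (U.ι_image_le U')) ⊆ Set.range U'.ι := by
    rintro _ ⟨w, rfl⟩
    obtain ⟨u', hu', e'⟩ := w.2
    rw [Scheme.Opens.range_ι]
    have : Z.homOfLE (U.ι_image_le U') w = u' :=
      U.ι.isOpenEmbedding.injective (by
        refine Eq.trans ?_ e'.symm; rw [← Scheme.Hom.comp_apply, Scheme.homOfLE_ι]; rfl)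
    rw [this]; exact hu'
  rw [← IsOpenImmersion.lift_fac U'.ι _ hr, Category.assoc, Category.assoc, hU']

lemma apply_eq_of_fromSpecStalk {X Y : Scheme.{u}} {x : X} {y : Y}
    (φ : Y.presheaf.stalk y ⟶ X.presheaf.stalk x) [IsIso φ]
    {U : X.Opens} {hxU : x ∈ U} (f : U.toScheme ⟶ Y)
    (hf : Spec.map φ ≫ Y.fromSpecStalk y = U.fromSpecStalkOfMem x hxU ≫ f) :
    f ⟨x, hxU⟩ = y := by
  haveI : IsLocalHom φ.hom := isLocalHom_of_isIso φ
  have e := congrArg (fun m : Spec (X.presheaf.stalk x) ⟶ Y =>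
    m.base (IsLocalRing.closedPoint (X.presheaf.stalk x))) hf
  have hl : ∀ {A B : CommRingCat.{u}} [IsLocalRing A] [IsLocalRing B] (ψ : A ⟶ B) [IsIso ψ],
      (Spec.map ψ).base (IsLocalRing.closedPoint B) = IsLocalRing.closedPoint A := by
    intro A B _ _ ψ _
    haveI : IsLocalHom ψ.hom := isLocalHom_of_isIso ψ
    exact IsLocalRing.comap_closedPoint ψ.hom
  haveI : IsIso (U.ι.stalkMap ⟨x, hxU⟩) := inferInstance
  simp only [Scheme.Hom.comp_apply, Scheme.Opens.fromSpecStalkOfMem, hl φ,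
    hl (inv (U.ι.stalkMap ⟨x, hxU⟩)), Scheme.fromSpecStalk_closedPoint] at e
  refine Eq.trans (congrArg f.base ?_) e.symm
  refine Eq.trans ?_ (congrArg (U.toScheme.fromSpecStalk ⟨x, hxU⟩).base (hl (inv (U.ι.stalkMap ⟨x, hxU⟩))).symm)
  exact (Scheme.fromSpecStalk_closedPoint (X := U.toScheme) (x := ⟨x, hxU⟩)).symm

lemma exists_iso_nhds {X Y S : Scheme.{u}} (sX : X ⟶ S) (sY : Y ⟶ S)
    [LocallyOfFinitePresentation sX] [LocallyOfFinitePresentation sY]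
    {x : X} {y : Y} (φ : Y.presheaf.stalk y ⟶ X.presheaf.stalk x) [IsIso φ]
    {U : X.Opens} {hxU : x ∈ U} (f : U.toScheme ⟶ Y)
    (hf : Spec.map φ ≫ Y.fromSpecStalk y = U.fromSpecStalkOfMem x hxU ≫ f)
    (hfs : f ≫ sY = U.ι ≫ sX)
    {V : Y.Opens} {hyV : y ∈ V} (g : V.toScheme ⟶ X)
    (hg : Spec.map (inv φ) ≫ X.fromSpecStalk x = V.fromSpecStalkOfMem y hyV ≫ g)
    (hgs : g ≫ sX = V.ι ≫ sY) :
    ∃ (U : X.Opens) (hxU : x ∈ U) (V : Y.Opens) (f : U.toScheme ⟶ V.toScheme), IsIso f ∧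
      Spec.map φ ≫ Y.fromSpecStalk y = U.fromSpecStalkOfMem x hxU ≫ f ≫ V.ι ∧
        f ≫ V.ι ≫ sY = U.ι ≫ sX := by
  have hfx : f ⟨x, hxU⟩ = y := apply_eq_of_fromSpecStalk φ f hf
  have hgy : g ⟨y, hyV⟩ = x := apply_eq_of_fromSpecStalk (inv φ) g hg
  -- `U₁ = f⁻¹ V`
  let U₁ : X.Opens := U.ι ''ᵁ (f ⁻¹ᵁ V)
  have hU₁ : U₁ ≤ U := U.ι_image_le _
  have hxU₁ : x ∈ U₁ := ⟨⟨x, hxU⟩, show f ⟨x, hxU⟩ ∈ V by rw [hfx]; exact hyV, rfl⟩
  let V₁ : Y.Opens := V.ι ''ᵁ (g ⁻¹ᵁ U)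
  have hV₁ : V₁ ≤ V := V.ι_image_le _
  have hyV₁ : y ∈ V₁ := ⟨⟨y, hyV⟩, show g ⟨y, hyV⟩ ∈ U by rw [hgy]; exact hxU, rfl⟩
  have hr₁ : Set.range (X.homOfLE hU₁ ≫ f) ⊆ Set.range V.ι := by
    rintro _ ⟨w, rfl⟩
    obtain ⟨u', hu', e'⟩ := w.2
    rw [Scheme.Opens.range_ι, Scheme.Hom.comp_apply]
    have : X.homOfLE hU₁ w = u' := U.ι.isOpenEmbedding.injective (by
      refine Eq.trans ?_ e'.symm; rw [← Scheme.Hom.comp_apply, Scheme.homOfLE_ι]; rfl)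
    rw [this]; exact hu'
  have hr₂ : Set.range (Y.homOfLE hV₁ ≫ g) ⊆ Set.range U.ι := by
    rintro _ ⟨w, rfl⟩
    obtain ⟨u', hu', e'⟩ := w.2
    rw [Scheme.Opens.range_ι, Scheme.Hom.comp_apply]
    have : Y.homOfLE hV₁ w = u' := V.ι.isOpenEmbedding.injective (by
      refine Eq.trans ?_ e'.symm; rw [← Scheme.Hom.comp_apply, Scheme.homOfLE_ι]; rfl)
    rw [this]; exact hu'
  let f₁ := IsOpenImmersion.lift V.ι (X.homOfLE hU₁ ≫ f) hr₁
  let g₁ := IsOpenImmersion.lift U.ι (Y.homOfLE hV₁ ≫ g) hr₂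
  have hf₁ : f₁ ≫ V.ι = X.homOfLE hU₁ ≫ f := IsOpenImmersion.lift_fac _ _ _
  have hg₁ : g₁ ≫ U.ι = Y.homOfLE hV₁ ≫ g := IsOpenImmersion.lift_fac _ _ _
  have key₁ : U₁.fromSpecStalkOfMem x hxU₁ ≫ f₁ = Spec.map φ ≫ V.fromSpecStalkOfMem y hyV := by
    rw [← cancel_mono V.ι, Category.assoc, Category.assoc, hf₁, Scheme.Opens.fromSpecStalkOfMem_ι, hf,
      ← Category.assoc]
    congr 1
    rw [← cancel_mono U.ι, Category.assoc, Scheme.homOfLE_ι, Scheme.Opens.fromSpecStalkOfMem_ι,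
      Scheme.Opens.fromSpecStalkOfMem_ι]
  have key₂ : V₁.fromSpecStalkOfMem y hyV₁ ≫ g₁ = Spec.map (inv φ) ≫ U.fromSpecStalkOfMem x hxU := by
    rw [← cancel_mono U.ι, Category.assoc, Category.assoc, hg₁, Scheme.Opens.fromSpecStalkOfMem_ι, hg,
      ← Category.assoc]
    congr 1
    rw [← cancel_mono V.ι, Category.assoc, Scheme.homOfLE_ι, Scheme.Opens.fromSpecStalkOfMem_ι,
      Scheme.Opens.fromSpecStalkOfMem_ι]
  obtain ⟨U₂, hU₂, hxU₂, hfg⟩ := exists_homOfLE_eq sX hxU₁ (f₁ ≫ g) U₁.ι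
    (by rw [Category.assoc, hgs, ← Category.assoc, hf₁, Category.assoc, hfs, ← Category.assoc,
      Scheme.homOfLE_ι])
    (by rw [← Category.assoc, key₁, Category.assoc, ← hg, ← Spec.map_comp_assoc,
      Scheme.Opens.fromSpecStalkOfMem_ι]; simp)
  obtain ⟨V₂, hV₂, hyV₂, hgf⟩ := exists_homOfLE_eq sY hyV₁ (g₁ ≫ f) V₁.ι
    (by rw [Category.assoc, hfs, ← Category.assoc, hg₁, Category.assoc, hgs, ← Category.assoc,
      Scheme.homOfLE_ι])
    (by rw [← Category.assoc, key₂, Category.assoc, ← hf, ← Spec.map_comp_assoc,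
      Scheme.Opens.fromSpecStalkOfMem_ι]; simp)
  let F : U₂.toScheme ⟶ Y := X.homOfLE (hU₂.trans hU₁) ≫ f
  let G : V₂.toScheme ⟶ X := Y.homOfLE (hV₂.trans hV₁) ≫ g
  have hF : F = X.homOfLE hU₂ ≫ f₁ ≫ V.ι := by
    rw [hf₁, ← Category.assoc, Scheme.homOfLE_homOfLE]
  have hG : G = Y.homOfLE hV₂ ≫ g₁ ≫ U.ι := by
    rw [hg₁, ← Category.assoc, Scheme.homOfLE_homOfLE]
  let U₃ : X.Opens := U₂.ι ''ᵁ (F ⁻¹ᵁ V₂)
  let V₃ : Y.Opens := V₂.ι ''ᵁ (G ⁻¹ᵁ U₂)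
  have hU₃ : U₃ ≤ U₂ := U₂.ι_image_le _
  have hV₃ : V₃ ≤ V₂ := V₂.ι_image_le _
  -- the composites as maps into the ambient schemes
  have GF : ∀ (T : Scheme.{u}) (s : T ⟶ U₂.toScheme) (t : T ⟶ V₂.toScheme),
      s ≫ F = t ≫ V₂.ι → t ≫ G = s ≫ U₂.ι := by
    intro T s t hst
    have h1 : s ≫ X.homOfLE hU₂ ≫ f₁ = t ≫ Y.homOfLE (hV₂.trans hV₁) := by
      rw [← cancel_mono V.ι]
      simpa [hF] using hst
    calc t ≫ G = (t ≫ Y.homOfLE (hV₂.trans hV₁)) ≫ g := by simp only [G, Category.assoc]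
      _ = s ≫ X.homOfLE hU₂ ≫ f₁ ≫ g := by rw [← h1]; simp only [Category.assoc]
      _ = s ≫ U₂.ι := by rw [hfg, Scheme.homOfLE_ι]
  have FG : ∀ (T : Scheme.{u}) (t : T ⟶ V₂.toScheme) (s : T ⟶ U₂.toScheme),
      t ≫ G = s ≫ U₂.ι → s ≫ F = t ≫ V₂.ι := by
    intro T t s hst
    have h1 : t ≫ Y.homOfLE hV₂ ≫ g₁ = s ≫ X.homOfLE (hU₂.trans hU₁) := by
      rw [← cancel_mono U.ι]
      simpa [hG] using hst
    calc s ≫ F = (s ≫ X.homOfLE (hU₂.trans hU₁)) ≫ f := by simp only [F, Category.assoc]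
      _ = t ≫ Y.homOfLE hV₂ ≫ g₁ ≫ f := by rw [← h1]; simp only [Category.assoc]
      _ = t ≫ V₂.ι := by rw [hgf, Scheme.homOfLE_ι]
  have hFr : Set.range (X.homOfLE hU₃ ≫ F) ⊆ Set.range V₂.ι := by
    rintro _ ⟨w, rfl⟩
    obtain ⟨u', hu', e'⟩ := w.2
    rw [Scheme.Opens.range_ι, Scheme.Hom.comp_apply]
    have : X.homOfLE hU₃ w = u' := U₂.ι.isOpenEmbedding.injective (by
      refine Eq.trans ?_ e'.symm; rw [← Scheme.Hom.comp_apply, Scheme.homOfLE_ι]; rfl)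
    rw [this]; exact hu'
  have hGr : Set.range (Y.homOfLE hV₃ ≫ G) ⊆ Set.range U₂.ι := by
    rintro _ ⟨w, rfl⟩
    obtain ⟨u', hu', e'⟩ := w.2
    rw [Scheme.Opens.range_ι, Scheme.Hom.comp_apply]
    have : Y.homOfLE hV₃ w = u' := V₂.ι.isOpenEmbedding.injective (by
      refine Eq.trans ?_ e'.symm; rw [← Scheme.Hom.comp_apply, Scheme.homOfLE_ι]; rfl)
    rw [this]; exact hu'
  let a := IsOpenImmersion.lift V₂.ι _ hFr
  let b := IsOpenImmersion.lift U₂.ι _ hGr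
  have ha : (X.homOfLE hU₃) ≫ F = a ≫ V₂.ι := (IsOpenImmersion.lift_fac _ _ _).symm
  have hb : (Y.homOfLE hV₃) ≫ G = b ≫ U₂.ι := (IsOpenImmersion.lift_fac _ _ _).symm
  have ha' : a ≫ G = X.homOfLE hU₃ ≫ U₂.ι := GF _ _ _ ha
  have hb' : b ≫ F = Y.homOfLE hV₃ ≫ V₂.ι := FG _ _ _ hb
  have har : Set.range (a ≫ V₂.ι) ⊆ Set.range V₃.ι := by
    rintro _ ⟨w, rfl⟩
    rw [Scheme.Opens.range_ι]
    refine ⟨a w, ?_, rfl⟩
    change G (a w) ∈ U₂
    rw [← Scheme.Hom.comp_apply, ha', Scheme.homOfLE_ι]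
    exact hU₃ w.2
  have hbr : Set.range (b ≫ U₂.ι) ⊆ Set.range U₃.ι := by
    rintro _ ⟨w, rfl⟩
    rw [Scheme.Opens.range_ι]
    refine ⟨b w, ?_, rfl⟩
    change F (b w) ∈ V₂
    rw [← Scheme.Hom.comp_apply, hb', Scheme.homOfLE_ι]
    exact hV₃ w.2
  let A := IsOpenImmersion.lift V₃.ι _ har
  let B := IsOpenImmersion.lift U₃.ι _ hbr
  have hA : A ≫ V₃.ι = a ≫ V₂.ι := IsOpenImmersion.lift_fac _ _ _
  have hB : B ≫ U₃.ι = b ≫ U₂.ι := IsOpenImmersion.lift_fac _ _ _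
  have hA2 : A ≫ Y.homOfLE hV₃ = a := by
    rw [← cancel_mono V₂.ι, Category.assoc, Scheme.homOfLE_ι, hA]
  have hB2 : B ≫ X.homOfLE hU₃ = b := by
    rw [← cancel_mono U₂.ι, Category.assoc, Scheme.homOfLE_ι, hB]
  have hAB : A ≫ B = 𝟙 _ := by
    rw [← cancel_mono U₃.ι, Category.assoc, hB, ← hb, ← Category.assoc, hA2, ha', Scheme.homOfLE_ι,
      Category.id_comp]
  have hBA : B ≫ A = 𝟙 _ := by
    rw [← cancel_mono V₃.ι, Category.assoc, hA, ← ha, ← Category.assoc, hB2, hb', Scheme.homOfLE_ι,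
      Category.id_comp]
  have hxU₃ : x ∈ U₃ := by
    refine ⟨⟨x, hxU₂⟩, ?_, rfl⟩
    change F ⟨x, hxU₂⟩ ∈ V₂
    have : F ⟨x, hxU₂⟩ = y := by
      rw [← hfx]
      change f (X.homOfLE (hU₂.trans hU₁) ⟨x, hxU₂⟩) = f ⟨x, hxU⟩
      refine congrArg f.base (U.ι.isOpenEmbedding.injective ?_)
      rw [← Scheme.Hom.comp_apply, Scheme.homOfLE_ι]; rfl
    rw [this]; exact hyV₂
  refine ⟨U₃, hxU₃, V₃, A, ⟨B, hAB, hBA⟩, ?_, ?_⟩
  · rw [hA, ← ha, hf]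
    simp only [F, ← Category.assoc]
    congr 1
    rw [← cancel_mono U.ι]
    simp
  · rw [← Category.assoc, hA, ← ha]
    simp only [F, Category.assoc]
    rw [hfs]
    simp

end aux

open AlgebraicGeometry CategoryTheory in
/-- Let S be a scheme and X, Y two S-schemes locally of finite presentation over S. Let x be a point of
X and y a point of Y over the same point of S, and let φ : O_{Y,y} → O_{X,x} be an isomorphism
compatible with the two homomorphisms from the local ring of S. Then there exist open neighbourhoods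
U of x and V of y and an S-isomorphism f : U → V whose composite with Spec O_{X,x} → U and V → Y
equals Spec φ followed by Spec O_{Y,y} → Y. (The published statement assumes the finiteness
conditions only at the points x and y; this row assumes them everywhere.) -/
theorem result
    {X Y S : Scheme.{u}} (sX : X ⟶ S) (sY : Y ⟶ S)
    [LocallyOfFinitePresentation sX] [LocallyOfFinitePresentation sY]
    {x : X} {y : Y} (e : sX x = sY y)
    (φ : Y.presheaf.stalk y ⟶ X.presheaf.stalk x) [IsIso φ]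
    (h : sY.stalkMap y ≫ φ =
      S.presheaf.stalkSpecializes (Inseparable.of_eq e).specializes ≫ sX.stalkMap x) :
    ∃ (U : X.Opens) (hxU : x ∈ U) (V : Y.Opens) (f : U.toScheme ⟶ V.toScheme), IsIso f ∧
      Spec.map φ ≫ Y.fromSpecStalk y = U.fromSpecStalkOfMem x hxU ≫ f ≫ V.ι ∧
        f ≫ V.ι ≫ sY = U.ι ≫ sX := by
  have h' : sX.stalkMap x ≫ inv φ =
      S.presheaf.stalkSpecializes (Inseparable.of_eq e.symm).specializes ≫ sY.stalkMap y := by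
    rw [IsIso.comp_inv_eq, Category.assoc, h, ← Category.assoc,
      TopCat.Presheaf.stalkSpecializes_comp]
    simp
  obtain ⟨U, hxU, f, hf, hfs⟩ := Groth.Agent.Birat.spread_out sX sY e φ h
  obtain ⟨V, hyV, g, hg, hgs⟩ := Groth.Agent.Birat.spread_out sY sX e.symm (inv φ) h'
  exact exists_iso_nhds sX sY φ f hf hfs g hg hgs

end Groth.Agent.S10854
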