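import Groth.Statements.S10857
import Groth.Agent.ModColimLib.Sections
import Groth.Agent.SectCmpLib.Basic
import Groth.Agent.QCohBase.CohProps
import Groth.Agent.QCohBase.Support
import Groth.Agent.QCohBase.Criteria
import Groth.Agent.DCohBridge.Support

set_option backward.isDefEq.respectTransparency.types false

set_option autoImplicit false
universe u
open QCohSup

namespace Groth.Agent.S10857

open AlgebraicGeometry CategoryTheory CategoryTheory.Limits in
/-- Take a quasi-compact scheme X, a finite-type quasi-coherent O_X-module F, and G a quasi-coherent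
O_X-module which is the colimit of a filtered diagram of quasi-coherent O_X-modules G_j. A
homomorphism u : G → F is an epimorphism if and only if there is an index j₀ such that for every
index j admitting a map from j₀ the composite G_j → G → F is an epimorphism. -/
theorem result {X : Scheme.{u}} [CompactSpace X]
    {J : Type u} [SmallCategory J] [IsFiltered J] (D : J ⥤ X.Modules) [∀ j, Coh.IsQCoh (D.obj j)]
    (c : Cocone D) (hc : IsColimit c) [Coh.IsQCoh c.pt]
    (F : X.Modules) [Coh.IsQCoh F] (hF : CohB1.IsFT F) (u : c.pt ⟶ F) :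
    Epi u ↔ ∃ j₀ : J, ∀ j : J, Nonempty (j₀ ⟶ j) → Epi (c.ι.app j ≫ u) := by
  open Groth.Agent.QCohBase Limits TopologicalSpace in
  classical
  refine ⟨fun hu => ?_, fun ⟨j₀, hj⟩ => ?_⟩
  swap
  · haveI := hj j₀ ⟨𝟙 _⟩
    exact epi_of_epi (c.ι.app j₀) u
  have key : ∀ x : X, ∃ (W : X.Opens) (j : J), x ∈ W ∧ ∀ k : J, Nonempty (j ⟶ k) → ∀ y ∈ W,
      Subsingleton ((cokernel (c.ι.app k ≫ u)).presheaf.stalk y) := by
    intro x
    obtain ⟨U, hU, hxU, -⟩ := Opens.isBasis_iff_nbhd.1 X.isBasis_affineOpens (U := ⊤) (Opens.mem_top x)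
    obtain ⟨t, ht⟩ := (finite_sections F hF hU).fg_top
    choose W₁ hW₁ a hx₁ ha using fun s : t => Groth.Agent.SectCmpLib.exists_local_preimage u U s.1 hxU
    choose W₂ hW₂ j b hx₂ hb using fun s : t =>
      Groth.Agent.ModColimLib.exists_local_rep hc (a s) x (hx₁ s)
    obtain ⟨j₀, hj₀⟩ := IsFiltered.sup_objs_exists (Finset.univ.image j)
    obtain ⟨W, hxW, hW⟩ : ∃ W : X.Opens, x ∈ W ∧ ∀ s, W ≤ W₂ s :=
      ⟨Finset.univ.inf W₂, by simpa [← SetLike.mem_coe, Opens.coe_finset_inf] using fun s => hx₂ s,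
        fun s => Finset.inf_le (Finset.mem_univ s)⟩
    refine ⟨W ⊓ U, j₀, ⟨hxW, hxU⟩, fun k ⟨g⟩ y ⟨hyW, hyU⟩ => ?_⟩
    let φ := c.ι.app k ≫ u
    haveI : (cokernel φ).IsQuasicoherent := isQuasicoherent_cokernel φ inferInstance inferInstance
    let q := cokernel.π φ
    have hzero : ∀ s : t, mres (cokernel φ) ((hW₂ s).trans (hW₁ s)) (q.app U s.1) = 0 := by
      intro s
      obtain ⟨m⟩ := hj₀ (Finset.mem_image.2 ⟨s, Finset.mem_univ s, rfl⟩)
      have h1 : mres F ((hW₂ s).trans (hW₁ s)) s.1 = u.app (W₂ s) ((c.ι.app (j s)).app (W₂ s) (b s)) := by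
        rw [hb s]
        refine (mres_mres F (hW₁ s) (hW₂ s) s.1).symm.trans ?_
        exact (congrArg (mres F (hW₂ s)) (ha s)).symm.trans
          (ConcreteCategory.congr_hom (u.mapPresheaf.naturality (homOfLE (hW₂ s)).op) (a s)).symm
      have h2 : φ.app (W₂ s) ((D.map (m ≫ g)).app (W₂ s) (b s)) = mres F ((hW₂ s).trans (hW₁ s)) s.1 := by
        rw [h1, ← c.w (m ≫ g)]
        rfl
      rw [app_nat, ← h2]
      exact ConcreteCategory.congr_hom (congrArg (fun r => Scheme.Modules.Hom.app r (W₂ s)) (cokernel.condition φ)) _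
    refine (subsingleton_stalk_iff _ hU y hyU).2 fun z => ?_
    haveI : Epi q := inferInstanceAs (Epi (cokernel.π φ))
    obtain ⟨w, rfl⟩ := app_surjective_of_epi q inferInstance inferInstance hU z
    obtain ⟨f, hfW, hyf⟩ := hU.exists_basicOpen_le ⟨y, hyW⟩ hyU
    have hkill : ∀ s : t, ∃ n : ℕ, f ^ n • q.app U s.1 = 0 := fun s => by
      refine exists_pow_smul_eq_zero (cokernel φ) hU f rfl (X.basicOpen_le f) _ ?_
      rw [← mres_mres (cokernel φ) ((hW₂ s).trans (hW₁ s)) (hfW.trans (hW s)) (q.app U s.1), hzero s, map_zero]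
    choose n hn using hkill
    refine ⟨f ^ (Finset.univ.sup n + 1), by rw [Scheme.basicOpen_pow _ _ (Nat.succ_pos _)]; exact hyf, ?_⟩
    have hw : w ∈ Submodule.span Γ(X, U) (t : Set Γ(F, U)) := ht ▸ Submodule.mem_top
    induction hw using Submodule.span_induction with
    | mem v hv =>
      obtain ⟨d, hd⟩ := Nat.le.dest (Finset.le_sup (f := n) (Finset.mem_univ (⟨v, hv⟩ : t)))
      rw [show f ^ (Finset.univ.sup n + 1) = f ^ (d + 1) * f ^ n ⟨v, hv⟩ by rw [← pow_add]; congr 1; omega,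
        mul_smul, hn, smul_zero]
    | zero => rw [map_zero, smul_zero]
    | add p r _ _ hp hr => rw [map_add, smul_add, hp, hr, add_zero]
    | smul r p _ hp => rw [Scheme.Modules.Hom.app_smul, smul_comm, hp, smul_zero]
  choose W j hxW hW using key
  obtain ⟨S, hS⟩ := isCompact_univ.elim_finite_subcover (fun x => (W x : Set X)) (fun x => (W x).2)
    (fun x _ => Set.mem_iUnion.2 ⟨x, hxW x⟩)
  obtain ⟨j₀, hj₀⟩ := IsFiltered.sup_objs_exists (S.image j)
  refine ⟨j₀, fun k ⟨g⟩ => Preadditive.epi_of_isZero_cokernel _ (isZero_of_stalks fun y => ?_)⟩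
  obtain ⟨x, hxS, hy⟩ := Set.mem_iUnion₂.1 (hS (Set.mem_univ y))
  obtain ⟨m⟩ := hj₀ (Finset.mem_image_of_mem j hxS)
  exact hW x k ⟨m ≫ g⟩ y hy

end Groth.Agent.S10857
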