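import Groth.Statements.S1086
import Groth.Agent.FilDLib.Injective

set_option autoImplicit false
universe v u
open CategoryTheory CategoryTheory.Limits Opposite
open FilD

open Groth.Agent.FilDLib

namespace Groth.Agent.S1086

set_option backward.isDefEq.respectTransparency false
set_option backward.defeqAttrib.useBackward true

/-- Let φ : X ⟶ Y be a morphism of finite filtered objects of an abelian category and let Ker φ carry
the induced filtration (the kernel computed levelwise). Then φ is strict if and only if for every p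
the sequence grᵖ(Ker φ) ⟶ grᵖ X ⟶ grᵖ Y is exact. -/
theorem result {A : Type u} [Category.{v} A] [Abelian A] {X Y : FilD.FilF A} (φ : X ⟶ Y) :
    FilD.IsStrict φ ↔
      ∀ p : ℤ, ((ShortComplex.mk (kernel.ι φ.hom) φ.hom (kernel.condition φ.hom)).map (FilD.gr A p)).Exact := by
  haveI : ∀ p, Mono (t Y.obj p) := mono_t Y.property
  let S : ShortComplex (ℤᵒᵖ ⥤ A) := ShortComplex.mk (kernel.ι φ.hom) φ.hom (kernel.condition φ.hom)
  rw [isStrict_iff]
  constructor
  · intro h p
    refine (exact_gr_iff S p).2 fun T x z hxz => ?_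
    obtain ⟨T₁, π₁, _, x', hx'⟩ := h p T x z hxz.symm
    have h0 : (π₁ ≫ x - x' ≫ t X.obj p) ≫ φ.hom.app (op p) = 0 := by
      rw [Preadditive.sub_comp, Category.assoc, hxz, ← Category.assoc π₁ z, hx', Category.assoc, Category.assoc,
        sub_eq_zero]
      exact congrArg (x' ≫ ·) (φ.hom.naturality _).symm
    obtain ⟨T₂, π₂, _, w, hw⟩ := ((ShortComplex.exact_of_f_is_kernel S (kernelIsKernel φ.hom)).map
      ((evaluation ℤᵒᵖ A).obj (op p))).exact_up_to_refinements _ h0
    refine ⟨T₂, π₂ ≫ π₁, inferInstance, w, π₂ ≫ x', ?_⟩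
    change π₂ ≫ (π₁ ≫ x - x' ≫ t X.obj p) = w ≫ S.f.app (op p) at hw
    rw [← hw, Preadditive.comp_sub]
    change (π₂ ≫ π₁) ≫ x = π₂ ≫ π₁ ≫ x - π₂ ≫ x' ≫ t X.obj p + (π₂ ≫ x') ≫ t X.obj p
    simp
  · intro h p T x y hxy
    obtain ⟨T', π, hπ, w, x', hx'⟩ := (exact_gr_iff S p).1 (h p) T x y hxy.symm
    refine ⟨T', π, hπ, x', ?_⟩
    change π ≫ x = w ≫ (kernel.ι φ.hom).app (op p) + x' ≫ t X.obj p at hx'
    rw [← cancel_mono (t Y.obj p), Category.assoc, hxy, ← Category.assoc π x, hx', Preadditive.add_comp,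
      Category.assoc w, ← NatTrans.comp_app, kernel.condition, Category.assoc, Category.assoc, φ.hom.naturality]
    simp

end Groth.Agent.S1086
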