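import Groth.Statements.S10860
import Mathlib.AlgebraicGeometry.ZariskisMainTheorem


set_option autoImplicit false
set_option backward.isDefEq.respectTransparency false
set_option backward.isDefEq.respectTransparency.types false
universe u
open Mor

namespace Groth.Agent.S10860

open CategoryTheory AlgebraicGeometry in
/-- For a proper morphism f : X → Y, the set V of points of Y with finite fibre is open, and f
restricted over V is finite (stated as the existence of an open subscheme of Y whose underlying set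
is exactly V and over which f is finite). -/
theorem result {X Y : Scheme.{u}} (f : X ⟶ Y) [IsProper f] :
    ∃ U : Y.Opens, (U : Set Y) = {y : Y | (f.base ⁻¹' {y}).Finite} ∧ IsFinite (f ∣_ U) := by
  let 𝒱 : {V : Y.Opens // IsFinite (f ∣_ V)} → Y.Opens := Subtype.val
  refine ⟨iSup 𝒱, Set.ext fun y => ⟨fun hy => ?_, fun hy => ?_⟩, ?_⟩
  · obtain ⟨⟨V, hV⟩, hyV⟩ := TopologicalSpace.Opens.mem_iSup.1 hy
    have := hV
    show (f.base ⁻¹' {y}).Finite
    have h := (f ∣_ V).finite_preimage_singleton ⟨y, hyV⟩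
    refine (h.image (f ⁻¹ᵁ V).ι).subset fun x hx => ?_
    obtain rfl : f.base x = y := hx
    exact ⟨⟨x, hyV⟩, Subtype.ext (morphismRestrict_base_coe f V ⟨x, hyV⟩), rfl⟩
  · obtain ⟨V, hyV, hV⟩ := exists_isFinite_morphismRestrict_of_finite_preimage_singleton f y hy
    exact TopologicalSpace.Opens.mem_iSup.2 ⟨⟨V, hV⟩, hyV⟩
  · refine IsZariskiLocalAtTarget.of_iSup_eq_top (P := @IsFinite) (fun i => (iSup 𝒱).ι ⁻¹ᵁ 𝒱 i) ?_ fun i => ?_
    · ext1
      simp only [TopologicalSpace.Opens.coe_iSup, TopologicalSpace.Opens.coe_top]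
      refine Set.eq_univ_of_forall fun w => ?_
      obtain ⟨i, hi⟩ := TopologicalSpace.Opens.mem_iSup.1 (show w.1 ∈ iSup 𝒱 from w.2)
      exact Set.mem_iUnion.2 ⟨i, hi⟩
    · refine (MorphismProperty.arrow_mk_iso_iff @IsFinite (morphismRestrictRestrict f _ _)).2 ?_
      have e : (iSup 𝒱).ι ''ᵁ ((iSup 𝒱).ι ⁻¹ᵁ 𝒱 i) = 𝒱 i := by
        rw [Scheme.Hom.image_preimage_eq_opensRange_inf, Scheme.Opens.opensRange_ι, inf_eq_right]
        exact le_iSup 𝒱 i
      rw [e]
      exact i.2

end Groth.Agent.S10860
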