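import Groth.Statements.S10867
import Groth.Agent.OnePointFibre.Basic
import Groth.Agent.Unram.Pointwise
import Groth.Agent.EtLocalLib.StalkCrit
import Groth.Agent.Unram.Mono
import Mathlib.AlgebraicGeometry.ZariskisMainTheorem
import Mathlib.AlgebraicGeometry.AlgClosed.Basic
import Mathlib.RingTheory.Unramified.LocalStructure


set_option autoImplicit false
set_option backward.isDefEq.respectTransparency false
set_option backward.isDefEq.respectTransparency.types false
universe u
open Mor

namespace Groth.Agent.S10867

open CategoryTheory AlgebraicGeometry in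
/-- In the case of an algebraically closed base field k and K = k: let X, Y be k-schemes of finite type
and f : X → Y a proper k-morphism which is injective on closed points and such that for every closed
point x of X the ideal generated by the image of the maximal ideal of the local ring at f(x),
together with the square of the maximal ideal at x, is the whole maximal ideal at x (the cotangent
map is surjective, i.e. the tangent map at x is injective). Then f is a closed immersion. (The
published statement allows any field k and tests points and tangent spaces with values in an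
algebraically closed extension K of k; this row is the case K = k.) -/
theorem result (k : Type u) [Field k] [IsAlgClosed k]
    {X Y : Scheme.{u}} (f : X ⟶ Y) (q : Y ⟶ Spec (CommRingCat.of k)) [LocallyOfFiniteType q] [QuasiCompact q]
    [LocallyOfFiniteType (f ≫ q)] [IsProper f]
    (hinj : Set.InjOn f.base {x : X | IsClosed ({x} : Set X)})
    (hT : ∀ x : X, IsClosed ({x} : Set X) →
      Ideal.map (f.stalkMap x).hom (IsLocalRing.maximalIdeal (Y.presheaf.stalk (f.base x))) ⊔
        IsLocalRing.maximalIdeal (X.presheaf.stalk x) ^ 2 = IsLocalRing.maximalIdeal (X.presheaf.stalk x)) :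
    IsClosedImmersion f := by
  haveI : JacobsonSpace ↥Y := LocallyOfFiniteType.jacobsonSpace q
  haveI : JacobsonSpace ↥X := LocallyOfFiniteType.jacobsonSpace (f ≫ q)
  haveI : IsLocallyNoetherian X := LocallyOfFiniteType.isLocallyNoetherian (f ≫ q)
  haveI : IsLocallyNoetherian Y := LocallyOfFiniteType.isLocallyNoetherian q
  have hcl : ∀ x : X, IsClosed ({x} : Set X) → IsClosed ({f.base x} : Set Y) := fun x hx => by
    rw [← Set.image_singleton]
    exact f.isClosedMap _ hx
  have hκ : ∀ x : X, IsClosed ({x} : Set X) → Function.Bijective (f.residueFieldMap x) := by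
    intro x hx
    have e : (residueFieldIsoBase (f ≫ q) x hx).inv =
        (residueFieldIsoBase q (f.base x) (hcl x hx)).inv ≫ f.residueFieldMap x := by
      apply Spec.map_injective
      rw [Spec.map_comp, SpecMap_residueFieldIsoBase_inv, SpecMap_residueFieldIsoBase_inv,
        Scheme.Hom.SpecMap_residueFieldMap_fromSpecResidueField_assoc]
    have : IsIso (f.residueFieldMap x) := by
      haveI : IsIso ((residueFieldIsoBase q (f.base x) (hcl x hx)).inv ≫ f.residueFieldMap x) := by
        rw [← e]; infer_instance
      exact IsIso.of_isIso_comp_left (residueFieldIsoBase q (f.base x) (hcl x hx)).inv _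
    exact ConcreteCategory.bijective_of_isIso _
  -- unramified at closed points, hence everywhere
  have hu : ∀ x : X, IsClosed ({x} : Set X) → (f.stalkMap x).hom.FormallyUnramified := by
    intro x hx
    rw [Groth.Agent.EtLocalLib.formallyUnramified_iff_local _ (LocallyOfFiniteType.stalkMap f x)]
    refine ⟨le_antisymm (IsLocalRing.map_maximalIdeal_le _) ?_, ?_⟩
    · refine Submodule.le_of_le_smul_of_le_jacobson_bot (I := IsLocalRing.maximalIdeal (X.presheaf.stalk x))
        (IsNoetherian.noetherian _) (IsLocalRing.maximalIdeal_le_jacobson _) ?_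
      rw [smul_eq_mul, ← pow_two]
      exact (hT x hx).ge
    · let φ := IsLocalRing.ResidueField.map (f.stalkMap x).hom
      letI := φ.toAlgebra
      have hs : Function.Surjective φ := (hκ x hx).2
      refine ⟨Module.Finite.of_surjective (Algebra.linearMap _ _) hs, ⟨fun z => ?_⟩⟩
      obtain ⟨w, rfl⟩ := hs z
      exact isSeparable_algebraMap w
  have hall : ∀ x : X, (f.stalkMap x).hom.FormallyUnramified := by
    intro x
    by_contra hx
    obtain ⟨z, hz, hzc⟩ := nonempty_inter_closedPoints (Z := {x : X | (f.stalkMap x).hom.FormallyUnramified}ᶜ)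
      ⟨x, hx⟩ (Groth.Agent.Unram.isOpen_unramified_stalkMap f).isClosed_compl.isLocallyClosed
    exact hz (hu z hzc)
  haveI : FormallyUnramified f := (Groth.Agent.Unram.formallyUnramified_iff_stalkMap f).2 hall
  haveI : LocallyQuasiFinite f := by
    rw [HasRingHomProperty.iff_appLE (P := @LocallyQuasiFinite)]
    intro U' V e
    have h : (f.appLE U'.1 V.1 e).hom.FormallyUnramified := HasRingHomProperty.appLE @FormallyUnramified f ‹_› U' V e
    have h' : (f.appLE U'.1 V.1 e).hom.FiniteType := f.finiteType_appLE U'.2 V.2 e
    algebraize [(f.appLE U'.1 V.1 e).hom]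
    exact (inferInstance : Algebra.QuasiFinite Γ(Y, U'.1) Γ(X, V.1))
  haveI : IsFinite f := IsFinite.of_isProper_of_locallyQuasiFinite f
  -- fibres over closed points
  have hfib : ∀ x : X, IsClosed ({x} : Set X) → f.base ⁻¹' {f x} = {x} := by
    intro x hx
    refine Set.Subset.antisymm (fun z hz => ?_) (fun z hz => hz ▸ rfl)
    by_contra hne
    obtain ⟨w, ⟨hw, hwx⟩, hwc⟩ := nonempty_inter_closedPoints (Z := closure {z} ∩ {x}ᶜ)
      ⟨z, subset_closure rfl, hne⟩ (isClosed_closure.isLocallyClosed.inter hx.isOpen_compl.isLocallyClosed)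
    have : f.base w = f.base x :=
      closure_minimal (t := f.base ⁻¹' {f x}) (Set.singleton_subset_iff.2 hz)
        ((hcl x hx).preimage f.continuous) hw
    exact hwx (hinj hwc hx this)
  let U : {U : Y.Opens // IsClosedImmersion (f ∣_ U)} → Y.Opens := Subtype.val
  have hU : iSup U = ⊤ := by
    by_contra hne
    obtain ⟨y, hy, hyc⟩ := nonempty_inter_closedPoints (Z := ((iSup U : Y.Opens) : Set Y)ᶜ)
      (Set.nonempty_compl.2 fun h => hne (TopologicalSpace.Opens.ext h))
      (iSup U : Y.Opens).2.isClosed_compl.isLocallyClosed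
    apply hy
    rw [SetLike.mem_coe, TopologicalSpace.Opens.mem_iSup]
    by_cases hy' : y ∈ Set.range f.base
    · obtain ⟨z, hz⟩ := hy'
      obtain ⟨x, hxz, hxc⟩ := nonempty_inter_closedPoints (Z := f.base ⁻¹' {y}) ⟨z, hz⟩
        (hyc.preimage f.continuous).isLocallyClosed
      obtain ⟨V, hxV, hV⟩ := Groth.Agent.OnePointFibre.exists_isClosedImmersion f x (hfib x hxc) (hκ x hxc).2
      exact ⟨⟨V, hV⟩, (show f.base x = y from hxz) ▸ hxV⟩
    · let V : Y.Opens := ⟨(Set.range f.base)ᶜ, f.isClosedMap.isClosed_range.isOpen_compl⟩
      haveI : IsEmpty ↥((f ⁻¹ᵁ V) : Scheme) := ⟨fun p => p.2 ⟨p.1, rfl⟩⟩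
      exact ⟨⟨V, inferInstance⟩, hy'⟩
  exact IsZariskiLocalAtTarget.of_iSup_eq_top U hU fun i => i.2

end Groth.Agent.S10867
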