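import Groth.Statements.S10868
import Mathlib.AlgebraicGeometry.QuasiAffine
import Mathlib.AlgebraicGeometry.Morphisms.Proper

set_option autoImplicit false
universe u
open Mor

namespace Groth.Agent.S10868

open CategoryTheory AlgebraicGeometry in
/-- f : X → Y is a finite morphism exactly when it is proper and quasi-affine (quasi-compact, with the
inverse image of every affine open subscheme of Y a quasi-affine scheme). -/
theorem result {X Y : Scheme.{u}} (f : X ⟶ Y) :
    IsFinite f ↔ IsProper f ∧ Mor2.IsQuasiAffine f := by
  constructor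
  · intro h
    refine ⟨inferInstance, inferInstance, fun V hV => ?_⟩
    have : IsAffine (f ⁻¹ᵁ V : Scheme.{u}) := hV.preimage f
    infer_instance
  · rintro ⟨hp, -, hqa⟩
    have : IsAffineHom f := ⟨fun V hV => by
      have := hqa V hV
      have : IsAffine (V : Scheme.{u}) := hV
      have hW : IsProper (f ∣_ V) := MorphismProperty.of_isPullback (isPullback_morphismRestrict f V).flip hp
      let W : Scheme.{u} := f ⁻¹ᵁ V
      have h1 : IsProper (W.toSpecΓ ≫ Spec.map (f ∣_ V).appTop) := by
        rw [← Scheme.toSpecΓ_naturality]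
        infer_instance
      have h2 : IsProper W.toSpecΓ := IsProper.of_comp _ (Spec.map (f ∣_ V).appTop)
      have h3 : IsClosedImmersion W.toSpecΓ := .of_isPreimmersion _ W.toSpecΓ.isClosedMap.isClosed_range
      exact (isAffine_of_isAffineHom W.toSpecΓ : IsAffine (f ⁻¹ᵁ V : Scheme.{u}))⟩
    exact IsFinite.iff_isProper_and_isAffineHom.mpr ⟨hp, this⟩

end Groth.Agent.S10868
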