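import Groth.Statements.S10870
import Groth.Agent.GrassLib.DetCM
import Groth.Agent.FieldExtDim.Basic
import Groth.Agent.McCoy.Split
import Mathlib.RingTheory.KrullDimension.Polynomial
import Mathlib.RingTheory.TensorProduct.Quotient
import Mathlib.FieldTheory.IsAlgClosed.AlgebraicClosure

set_option autoImplicit false
universe u
open CAlgX

namespace Groth.Agent.S10870

/-- For a field k and 0 ≤ r ≤ min(n, m), the affine determinantal scheme of n × m matrices of rank at
most r over k — the spectrum of the polynomial ring on the entries of the generic n × m matrix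
modulo the ideal of its (r+1) × (r+1) minors — has dimension r(m + n − r). -/
theorem result (k : Type u) [Field k] (n m r : ℕ) (hr : r ≤ min n m) :
    ringKrullDim (MvPolynomial (Fin n × Fin m) k ⧸ CAlgX.minorIdeal (Matrix.of fun (i : Fin n) (j : Fin m) => (MvPolynomial.X (i, j) : MvPolynomial (Fin n × Fin m) k)) (r + 1)) =
      ((r * (m + n - r) : ℕ) : WithBot ℕ∞) := by
  classical
  have hinf : ∀ (K : Type u) [Field K] [Infinite K],
      ringKrullDim (MvPolynomial (Fin n × Fin m) K ⧸ CAlgX.minorIdeal (Matrix.of fun (i : Fin n) (j : Fin m) => (MvPolynomial.X (i, j) : MvPolynomial (Fin n × Fin m) K)) (r + 1)) =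
        ((r * (m + n - r) : ℕ) : WithBot ℕ∞) := by
    intro K _ _
    by_cases h : r < min n m
    · have := (GrassLib.determinantal_facts (K := K) (m := n) (n := m) (t := r + 1) (by omega)
        (by omega) (by omega)).2.2.2
      rw [show r * (m + n - r) = (r + 1 - 1) * (n + m - (r + 1) + 1) by
        rw [Nat.add_sub_cancel]; congr 1; omega]
      exact this
    · obtain rfl : r = min n m := le_antisymm hr (not_lt.1 h)
      rw [Groth.Agent.McCoy.minorIdeal_eq_bot_of_lt _ (show n < min n m + 1 ∨ m < min n m + 1 by omega)]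
      rw [ringKrullDim_eq_of_ringEquiv (RingEquiv.quotientBot _), MvPolynomial.ringKrullDim_of_isNoetherianRing,
        ringKrullDim_eq_zero_of_field]
      rcases le_total n m with hnm | hnm
      · rw [min_eq_left hnm, Nat.add_sub_cancel]; simp
      · rw [min_eq_right hnm, Nat.add_sub_cancel_left]; simp [mul_comm]
  let K := AlgebraicClosure k
  rw [← hinf K, ← Groth.Agent.FieldExtDim.ringKrullDim_tensor_field (k := k) (K := K)]
  let e := MvPolynomial.algebraTensorAlgEquiv (R := k) (σ := Fin n × Fin m) (A := K)
  refine ringKrullDim_eq_of_ringEquiv ((Algebra.TensorProduct.tensorQuotientEquiv (A := K) (S := K) (R := k)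
    (T := MvPolynomial (Fin n × Fin m) k) _).toRingEquiv.trans (Ideal.quotientEquiv _ _ e.toRingEquiv ?_))
  have hX : ∀ p : MvPolynomial (Fin n × Fin m) k,
      e ((1 : K) ⊗ₜ[k] p) = MvPolynomial.map (algebraMap k K) p := fun p => by
    rw [MvPolynomial.algebraTensorAlgEquiv_tmul, one_smul]
  simp only [CAlgX.minorIdeal, Ideal.map_span, ← Set.range_comp]
  congr 2
  funext fg
  refine Eq.trans ?_ (hX _).symm
  rw [RingHom.map_det]
  congr 1
  ext i j
  simp

end Groth.Agent.S10870
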