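import Groth.Statements.S10871
import Mathlib

set_option autoImplicit false
universe u
open AlgebraicGeometry
open Curves

namespace Groth.Agent.S10871

/-- Every open subscheme of the spectrum of a Dedekind domain is affine. -/
theorem result (A : Type u) [CommRing A] [IsDedekindDomain A]
    (U : (Spec (CommRingCat.of A)).Opens) : IsAffineOpen U := by
  have : IsAffineHom U.ι := by
    refine isAffineHom_of_forall_exists_isAffineOpen U.ι fun x => ?_
    obtain ⟨I, hI⟩ := (PrimeSpectrum.isClosed_iff_zeroLocus_ideal (R := A)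
      (U.carrier : Set (PrimeSpectrum A))ᶜ).1 U.isOpen.isClosed_compl
    let x' : PrimeSpectrum A := x
    let L := Localization.AtPrime x'.asIdeal
    have : IsPrincipalIdealRing L := inferInstance
    obtain ⟨b, hb⟩ := IsPrincipalIdealRing.principal (I.map (algebraMap A L))
    have hbm : b ∈ I.map (algebraMap A L) := hb ▸ Ideal.subset_span rfl
    obtain ⟨⟨a, s⟩, has⟩ := (IsLocalization.mem_map_algebraMap_iff x'.asIdeal.primeCompl L).1 hbm
    obtain ⟨t, ht⟩ := (IsNoetherian.noetherian I)
    have key : ∀ i ∈ t, ∃ g ∉ x'.asIdeal, g * i ∈ Ideal.span {(a : A)} := by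
      intro i hi
      have hiI : i ∈ I := ht ▸ Ideal.subset_span hi
      have h1 : algebraMap A L i ∈ (Ideal.span {(a : A)}).map (algebraMap A L) := by
        rw [Ideal.map_span, Set.image_singleton, ← has, Ideal.span_singleton_mul_right_unit
          (IsLocalization.map_units L s)]
        have := Ideal.mem_map_of_mem (algebraMap A L) hiI
        rw [hb] at this
        exact this
      exact IsLocalization.algebraMap_mem_map_algebraMap_iff x'.asIdeal.primeCompl L _ _ |>.1 h1
    choose g hg hgm using key
    let G := ∏ i ∈ t.attach, g i.1 i.2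
    have hG : G ∉ x'.asIdeal := by
      rw [Ideal.IsPrime.prod_mem_iff]
      rintro ⟨i, -, h⟩
      exact hg i.1 i.2 h
    have hGI : ∀ i ∈ I, G * i ∈ Ideal.span {(a : A)} := by
      suffices I ≤ (Ideal.span {(a : A)}).colon {G} by
        intro i hi
        simpa [Submodule.mem_colon_singleton, mul_comm] using this hi
      refine ht.ge.trans (Submodule.span_le.2 ?_)
      intro i hi
      simp only [SetLike.mem_coe, Submodule.mem_colon_singleton, smul_eq_mul, mul_comm i]
      have hd : g i hi ∣ G :=
        Finset.dvd_prod_of_mem (fun j : {x // x ∈ t} => g j.1 j.2) (Finset.mem_attach t ⟨i, hi⟩)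
      obtain ⟨c, hc⟩ := hd
      rw [show G = g i hi * c from hc, mul_right_comm]
      exact Ideal.mul_mem_right _ _ (hgm i hi)
    have hcap : U.ι ''ᵁ (U.ι ⁻¹ᵁ PrimeSpectrum.basicOpen G) =
        PrimeSpectrum.basicOpen (G * (a : A)) := by
      rw [Scheme.Hom.image_preimage_eq_opensRange_inf, Scheme.Opens.opensRange_ι]
      ext y
      let y' : PrimeSpectrum A := y
      have hy : y ∈ U ↔ ¬ (I ≤ y'.asIdeal) := by
        rw [← not_iff_not, not_not]
        exact Iff.trans Iff.rfl ((Set.ext_iff.1 hI y').trans Iff.rfl)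
      show y ∈ U ∧ G ∉ y'.asIdeal ↔ G * (a : A) ∉ y'.asIdeal
      rw [hy, Ideal.IsPrime.mul_mem_iff_mem_or_mem inferInstance, not_or, and_comm]
      refine and_congr_right fun hGy => ⟨fun h ha => h fun i hi => ?_, fun h hle => h (hle a.2)⟩
      refine (Ideal.IsPrime.mem_or_mem inferInstance
        (Ideal.span_le.2 (Set.singleton_subset_iff.2 ha) (hGI i hi))).resolve_left hGy
    refine ⟨PrimeSpectrum.basicOpen G, hG, IsAffineOpen.Spec_basicOpen (R := CommRingCat.of A) G, ?_⟩
    rw [← Scheme.Hom.isAffineOpen_iff_of_isOpenImmersion U.ι, hcap]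
    exact IsAffineOpen.Spec_basicOpen (R := CommRingCat.of A) _
  exact isAffine_of_isAffineHom U.ι

end Groth.Agent.S10871
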