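import Groth.Statements.S10877
import Mathlib.AlgebraicGeometry.Morphisms.Separated

set_option autoImplicit false
set_option linter.style.haveILetI false
universe u
open CategoryTheory AlgebraicGeometry
open FlatMor

namespace Groth.Agent.S10877

/-- A separated morphism f : X → Y, with X having finitely many irreducible components, which restricts
to an open immersion on each member of a cover of X by dense open subsets, is an open immersion. -/
theorem result {X Y : Scheme.{u}} (f : X ⟶ Y) [IsSeparated f]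
    (hfin : (irreducibleComponents (X : Type u)).Finite) {ι : Type u} (U : ι → X.Opens)
    (hU : ⨆ i, U i = ⊤) (hd : ∀ i, Dense (U i : Set X)) (h : ∀ i, IsOpenImmersion ((U i).ι ≫ f)) :
    IsOpenImmersion f := by
  refine IsOpenImmersion.of_openCover_source f (Scheme.openCoverOfIsOpenCover X U hU) ?_ (fun i => h i)
  intro x y hxy
  obtain ⟨i, hi⟩ := TopologicalSpace.Opens.mem_iSup.1 (hU.ge (trivial : x ∈ (⊤ : X.Opens)))
  haveI := h i
  let V := ((U i).ι ≫ f).opensRange
  have hle : U i ≤ f ⁻¹ᵁ V := fun z hz => ⟨⟨z, hz⟩, rfl⟩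
  have hcomp : X.homOfLE hle ≫ (f ∣_ V) = ((U i).ι ≫ f).isoOpensRange.hom := by
    rw [← cancel_mono V.ι, Category.assoc, morphismRestrict_ι, Scheme.homOfLE_ι_assoc,
      Scheme.Hom.isoOpensRange_hom_ι]
  haveI : IsClosedImmersion (X.homOfLE hle ≫ (f ∣_ V)) := by rw [hcomp]; infer_instance
  haveI : IsClosedImmersion (X.homOfLE hle) := IsClosedImmersion.of_comp (X.homOfLE hle) (f ∣_ V)
  have hy : y ∈ f ⁻¹ᵁ V := by
    show f y ∈ V
    rw [← hxy]
    exact hle hi
  have hyU : y ∈ U i := by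
    obtain ⟨C, hC, hCeq⟩ := isClosed_induced_iff.1 (X.homOfLE hle).isClosedEmbedding.isClosed_range
    have hsub : (U i : Set X) ⊆ C := fun z hz => by
      have : (⟨z, hle hz⟩ : (f ⁻¹ᵁ V : X.Opens)) ∈ Set.range (X.homOfLE hle) := ⟨⟨z, hz⟩, Subtype.ext (by simp)⟩
      rw [← hCeq] at this
      exact this
    have hyC : y ∈ C := (hC.closure_subset_iff.2 hsub) ((hd i).closure_eq ▸ Set.mem_univ y)
    obtain ⟨w, hw⟩ := (Set.ext_iff.1 hCeq ⟨y, hy⟩).1 hyC
    have hwy : w.1 = y := (Scheme.homOfLE_apply (X := X) (e := hle) w).symm.trans (congrArg Subtype.val hw)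
    exact hwy ▸ w.2
  exact congrArg Subtype.val (((U i).ι ≫ f).isOpenEmbedding.injective (a₁ := ⟨x, hi⟩) (a₂ := ⟨y, hyU⟩) hxy)

end Groth.Agent.S10877
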