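import Groth.Statements.S10878
-- import your own Groth.Agent.* helpers here

set_option autoImplicit false
universe u
open CategoryTheory AlgebraicGeometry
open FlatMor

namespace Groth.Agent.S10878

/-- A separated morphism f : X → Y, with X having finitely many irreducible components, which restricts
to an immersion on each member of a cover of X by dense open subsets, is an immersion. -/
theorem result {X Y : Scheme.{u}} (f : X ⟶ Y) [IsSeparated f]
    (hfin : (irreducibleComponents (X : Type u)).Finite) {ι : Type u} (U : ι → X.Opens)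
    (hU : ⨆ i, U i = ⊤) (hd : ∀ i, Dense (U i : Set X)) (h : ∀ i, IsImmersion ((U i).ι ≫ f)) :
    IsImmersion f := by
  let V : ι → Y.Opens := fun i => haveI := h i; ((U i).ι ≫ f).coborderRange
  have hle : ∀ i, U i ≤ f ⁻¹ᵁ V i := fun i x hx => by
    haveI := h i
    exact subset_coborder ⟨⟨x, hx⟩, rfl⟩
  have hcl : ∀ i, IsClosedImmersion (f ∣_ V i) := fun i => by
    haveI := h i
    let j := X.homOfLE (hle i)
    have hj : j ≫ (f ∣_ V i) = ((U i).ι ≫ f).liftCoborder := by
      rw [← cancel_mono (V i).ι, Category.assoc, morphismRestrict_ι, Scheme.homOfLE_ι_assoc]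
      exact ((U i).ι ≫ f).liftCoborder_ι.symm
    haveI : IsSeparated (f ∣_ V i) := IsZariskiLocalAtTarget.restrict ‹IsSeparated f› (V i)
    haveI : IsClosedImmersion (j ≫ (f ∣_ V i)) := hj.symm ▸ inferInstance
    haveI hjc : IsClosedImmersion j := IsClosedImmersion.of_comp j (f ∣_ V i)
    have heq : U i = f ⁻¹ᵁ V i := by
      refine le_antisymm (hle i) fun x hx => ?_
      have hr : Set.range j = (Subtype.val ⁻¹' (U i : Set X) : Set (f ⁻¹ᵁ V i : X.Opens)) := by
        ext z
        constructor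
        · rintro ⟨a, rfl⟩
          change (f ⁻¹ᵁ V i).ι (j a) ∈ U i
          rw [← Scheme.Hom.comp_apply, Scheme.homOfLE_ι]
          exact a.2
        · intro hz
          refine ⟨⟨z.1, hz⟩, (f ⁻¹ᵁ V i).ι.isOpenEmbedding.injective ?_⟩
          rw [← Scheme.Hom.comp_apply, Scheme.homOfLE_ι]
          rfl
      have hd' : DenseRange j := by
        rw [DenseRange, hr]
        exact (hd i).preimage (f ⁻¹ᵁ V i).isOpen.isOpenMap_subtype_val
      have hz : (⟨x, hx⟩ : (f ⁻¹ᵁ V i : X.Opens)) ∈ Set.range j := by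
        rw [← j.isClosedEmbedding.isClosed_range.closure_eq]
        exact hd' _
      rw [hr] at hz
      exact hz
    haveI : IsIso j := ⟨X.homOfLE heq.ge, by simp [j], by simp [j]⟩
    exact (MorphismProperty.cancel_left_of_respectsIso @IsClosedImmersion j (f ∣_ V i)).1 inferInstance
  have hT : f ⁻¹ᵁ (⨆ i, V i) = ⊤ := by
    refine eq_top_iff.2 fun x hx => ?_
    obtain ⟨i, hi⟩ := TopologicalSpace.Opens.mem_iSup.1 (hU.ge hx)
    exact TopologicalSpace.Opens.mem_iSup.2 ⟨i, hle i hi⟩
  haveI : IsClosedImmersion (f ∣_ (⨆ i, V i)) := by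
    refine IsZariskiLocalAtTarget.of_iSup_eq_top (P := @IsClosedImmersion) (fun i => (⨆ i, V i).ι ⁻¹ᵁ V i) ?_ fun i => ?_
    · refine eq_top_iff.2 fun y _ => ?_
      obtain ⟨i, hi⟩ := TopologicalSpace.Opens.mem_iSup.1 y.2
      exact TopologicalSpace.Opens.mem_iSup.2 ⟨i, hi⟩
    · rw [MorphismProperty.arrow_mk_iso_iff @IsClosedImmersion (morphismRestrictRestrict f _ _)]
      have e : (⨆ i, V i).ι ''ᵁ ((⨆ i, V i).ι ⁻¹ᵁ V i) = V i := by
        rw [Scheme.Hom.image_preimage_eq_opensRange_inf, Scheme.Opens.opensRange_ι]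
        exact inf_eq_right.2 (le_iSup V i)
      rw [e]
      exact hcl i
  haveI : IsIso (f ⁻¹ᵁ (⨆ i, V i)).ι := by rw [hT]; exact X.topIso.isIso_hom
  have e : f = inv (f ⁻¹ᵁ (⨆ i, V i)).ι ≫ (f ∣_ (⨆ i, V i)) ≫ (⨆ i, V i).ι := by
    rw [IsIso.eq_inv_comp, morphismRestrict_ι]
  rw [e]
  infer_instance

end Groth.Agent.S10878
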