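import Groth.Statements.S10880
import Mathlib

set_option autoImplicit false
universe u
open CategoryTheory CategoryTheory.Limits AlgebraicGeometry
open FlatMor

namespace Groth.Agent.S10880

lemma flat_key (R A : Type u) [CommRing R] [IsDomain R] [IsDiscreteValuationRing R] [CommRing A]
    [IsNoetherianRing A] [Algebra R A]
    (hred : _root_.IsReduced (A ⧸ (IsLocalRing.maximalIdeal R).map (algebraMap R A)))
    (hd : Dense (PrimeSpectrum.comap (algebraMap R A) ⁻¹' {genericPoint (PrimeSpectrum R)})) :
    Module.Flat R A := by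
  obtain ⟨p, hp⟩ := IsDiscreteValuationRing.exists_irreducible R
  set t := algebraMap R A p with ht
  rw [hp.maximalIdeal_eq, Ideal.map_span, Set.image_singleton] at hred
  rw [IsDedekindDomain.flat_iff_torsion_eq_bot, eq_bot_iff]
  let T : Submodule A A :=
    { carrier := {a | ∃ n : ℕ, t ^ n * a = 0}
      zero_mem' := ⟨0, by simp⟩
      add_mem' := by
        rintro a b ⟨n, hn⟩ ⟨m, hm⟩
        refine ⟨n + m, ?_⟩
        rw [pow_add, mul_add, show t ^ n * t ^ m * a = t ^ m * (t ^ n * a) by ring, hn, mul_assoc, hm]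
        simp
      smul_mem' := by
        rintro c a ⟨n, hn⟩
        exact ⟨n, by rw [smul_eq_mul, mul_left_comm, hn, mul_zero]⟩ }
  have hle : T ≤ (Ideal.span {t} : Ideal A) • T := by
    rintro a ⟨n, hn⟩
    have hnil : IsNilpotent a := by
      rw [← mem_nilradical, nilradical_eq_sInf, Ideal.mem_sInf]
      intro I hI
      by_contra haI
      obtain ⟨q, hq, hqa⟩ := hd.exists_mem_open (PrimeSpectrum.basicOpen a).2
        ⟨⟨I, hI⟩, (PrimeSpectrum.mem_basicOpen _ _).2 haI⟩
      have hpq : t ∉ q.asIdeal := fun h => by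
        have h' : p ∈ (PrimeSpectrum.comap (algebraMap R A) q).asIdeal := h
        rw [show PrimeSpectrum.comap (algebraMap R A) q = genericPoint (PrimeSpectrum R) from ?_] at h'
        · have hg : genericPoint (PrimeSpectrum R) = ⊥ :=
            (genericPoint_spec _).eq (by
              rw [IsGenericPoint, PrimeSpectrum.closure_singleton]; simp)
          rw [hg] at h'
          exact hp.ne_zero (by simpa using h')
        · first | exact hqa.1 | exact hq
      have : a ∈ q.asIdeal :=
        ((q.2.mem_or_mem (hn ▸ q.asIdeal.zero_mem : t ^ n * a ∈ q.asIdeal)).resolve_left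
          fun h => hpq (q.2.mem_of_pow_mem _ h))
      first | exact hq this | exact hqa this | exact hqa.2 this
    have ha : a ∈ Ideal.span {t} := by
      rw [← Ideal.Quotient.eq_zero_iff_mem]
      exact (hnil.map _).eq_zero
    obtain ⟨b, rfl⟩ := Ideal.mem_span_singleton'.1 ha
    rw [mul_comm b t, ← smul_eq_mul]
    refine Submodule.smul_mem_smul (Ideal.mem_span_singleton_self t) ⟨n + 1, ?_⟩
    rw [← hn]; ring
  obtain ⟨r, hr1, hr⟩ := Submodule.exists_sub_one_mem_and_smul_eq_zero_of_fg_of_le_smul
    (Ideal.span {t}) T (IsNoetherian.noetherian T) hle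
  obtain ⟨c, hc⟩ := Ideal.mem_span_singleton'.1 hr1
  rintro a ⟨⟨s, hs⟩, hsa⟩
  rw [Submodule.mem_bot]
  obtain ⟨n, hn⟩ := IsDiscreteValuationRing.associated_pow_irreducible (nonZeroDivisors.ne_zero hs) hp
  obtain ⟨w, rfl⟩ := hn.symm
  have hsa' : algebraMap R A (p ^ n * w) * a = 0 := by
    rw [← Algebra.smul_def]; exact hsa
  have hna : t ^ n * a = 0 := by
    rw [map_mul, map_pow, mul_right_comm] at hsa'
    exact ((w.isUnit.map (algebraMap R A)).mul_left_eq_zero).1 hsa'
  have h1 : a = -(c * t) * a := by
    have := hr a ⟨n, hna⟩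
    rw [smul_eq_mul, show r = 1 + c * t by rw [hc]; ring] at this
    linear_combination this
  have h2 : ∀ m : ℕ, a = (-c) ^ m * (t ^ m * a) := by
    intro m
    induction m with
    | zero => simp
    | succ m ih =>
      nth_rw 1 [ih]
      nth_rw 1 [h1]
      ring
  rw [h2 n, hna, mul_zero]


lemma reduced_key (R : Type u) [CommRing R] [IsLocalRing R] {A : CommRingCat.{u}} [Algebra R A]
    (hr : IsReduced ((Spec.map (CommRingCat.ofHom (algebraMap R A))).fiber (IsLocalRing.closedPoint R))) :
    _root_.IsReduced (A ⧸ (IsLocalRing.maximalIdeal R).map (algebraMap R A)) := by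
  let e := Spec.fiberToSpecResidueFieldIso R A (IsLocalRing.closedPoint R)
  haveI := hr
  have hr' : IsReduced (Spec (CommRingCat.of ((IsLocalRing.maximalIdeal R).Fiber A))) :=
    @isReduced_of_isOpenImmersion _ _ (Arrow.leftFunc.mapIso e).inv _ hr
  have : _root_.IsReduced ((IsLocalRing.maximalIdeal R).Fiber A) := (affine_isReduced_iff _).1 hr'
  let e1 := Algebra.TensorProduct.congr
    (AlgEquiv.ofBijective (IsScalarTower.toAlgHom R (R ⧸ IsLocalRing.maximalIdeal R)
      (IsLocalRing.maximalIdeal R).ResidueField)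
      (IsLocalRing.maximalIdeal R).bijective_algebraMap_quotient_residueField) (AlgEquiv.refl : A ≃ₐ[R] A)
  refine isReduced_of_injective _ ((((Algebra.TensorProduct.quotIdealMapEquivQuotTensor A
    (IsLocalRing.maximalIdeal R)).restrictScalars R).trans e1).injective)


/-- Let R be a discrete valuation ring and X a locally Noetherian scheme over Spec R whose
scheme-theoretic special fibre is reduced and such that every maximal point of the special fibre
lies in the closure of the generic fibre, i.e. the generic fibre is dense in X. Then X is flat over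
R. -/
theorem result (R : Type u) [CommRing R] [IsDomain R]
    [IsDiscreteValuationRing R] {X : Scheme.{u}} (f : X ⟶ Spec (CommRingCat.of R)) [IsLocallyNoetherian X]
    (hred : IsReduced (f.fiber (IsLocalRing.closedPoint R)))
    (hdense : Dense (f.base ⁻¹' {genericPoint (Spec (CommRingCat.of R))})) : Flat f := by
  let 𝒰 := X.affineCover
  refine IsZariskiLocalAtSource.of_openCover 𝒰 fun i => ?_
  obtain ⟨φ, hφ⟩ : ∃ φ, Spec.map φ = 𝒰.f i ≫ f := ⟨_, Spec.map_preimage _⟩
  haveI : IsLocallyNoetherian (𝒰.X i) := isLocallyNoetherian_of_isOpenImmersion (𝒰.f i)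
  haveI : IsNoetherianRing _ := isLocallyNoetherian_Spec.1 ‹IsLocallyNoetherian (𝒰.X i)›
  let := φ.hom.toAlgebra
  have hd : Dense ((𝒰.f i ≫ f).base ⁻¹' {genericPoint (Spec (CommRingCat.of R))}) :=
    hdense.preimage (𝒰.f i).isOpenEmbedding.isOpenMap
  rw [← hφ] at hd ⊢
  refine (HasRingHomProperty.Spec_iff (P := @Flat)).2 (flat_key R _ ?_ hd)
  have hr : IsReduced ((Spec.map φ).fiber (IsLocalRing.closedPoint R)) := by
    rw [hφ]
    haveI : IsReduced (pullback f ((Spec (CommRingCat.of R)).fromSpecResidueField
        (IsLocalRing.closedPoint R))) := hred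
    exact isReduced_of_isOpenImmersion
      ((pullbackRightPullbackFstIso f ((Spec (CommRingCat.of R)).fromSpecResidueField
        (IsLocalRing.closedPoint R)) (𝒰.f i)).inv ≫ pullback.snd _ _)
  exact reduced_key R hr

end Groth.Agent.S10880
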