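import Groth.Statements.S10882
import Groth.Agent.FlatLocalDepth.Miracle
import Groth.Agent.FlatLocalDepth.CMAt
import Groth.Agent.FlatDim.Basic

set_option autoImplicit false
universe u
open CategoryTheory AlgebraicGeometry
open FlatMor

namespace Groth.Agent.S10882

/-- Let X and Y be schemes locally of finite type over a field k and f : X → Y a k-morphism, with Y
regular (all local rings regular), X Cohen–Macaulay (all local rings Cohen–Macaulay), X
equidimensional of dimension e, Y equidimensional of dimension d ≤ e, and all fibres of f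
equidimensional of dimension e − d (every irreducible component of every fibre has dimension e − d).
Then f is flat. -/
theorem result (k : Type u) [Field k] {X Y : Scheme.{u}}
    (q : Y ⟶ Spec (CommRingCat.of k)) [LocallyOfFiniteType q] (f : X ⟶ Y) [LocallyOfFiniteType (f ≫ q)]
    (hY : ∀ y : Y, IsRegularLocalRing (Y.presheaf.stalk y))
    (hX : ∀ x : X, LocCoh.IsCohenMacaulayLocalRing (X.presheaf.stalk x))
    (e d : ℕ) (hde : d ≤ e)
    (hXe : ∀ Z ∈ irreducibleComponents (X : Type u), topologicalKrullDim Z = e)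
    (hYd : ∀ Z ∈ irreducibleComponents (Y : Type u), topologicalKrullDim Z = d)
    (hfib : ∀ y : Y, ∀ Z ∈ irreducibleComponents (f.base ⁻¹' {y}), topologicalKrullDim Z = (e - d : ℕ)) :
    Flat f := by
  have : LocallyOfFiniteType f := locallyOfFiniteType_of_comp f q
  have sumX : ∀ x : X, Order.height x + Order.coheight x = e := fun x => by
    obtain ⟨m, -, hm, he⟩ := Groth.Agent.DimTheory.exists_height_eq_add_coheight (f ≫ q) x
    rw [← he]
    exact WithBot.coe_inj.1 ((Groth.Agent.FlatDim.forall_components_iff _).1 hXe m fun w hw =>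
      (hw.antisymm (hm w hw)).eq)
  have sumY : ∀ y : Y, Order.height y + Order.coheight y = d := fun y => by
    obtain ⟨m, -, hm, he⟩ := Groth.Agent.DimTheory.exists_height_eq_add_coheight q y
    rw [← he]
    exact WithBot.coe_inj.1 ((Groth.Agent.FlatDim.forall_components_iff _).1 hYd m fun w hw =>
      (hw.antisymm (hm w hw)).eq)
  have sumF : ∀ (y : Y) (z : f.fiber y), Order.height z + Order.coheight z = ((e - d : ℕ) : ℕ∞) := fun y z => by
    have : LocallyOfFiniteType (f.fiberToSpecResidueField y) :=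
      MorphismProperty.pullback_snd _ _ ‹LocallyOfFiniteType f›
    obtain ⟨m, -, hm, he⟩ := Groth.Agent.DimTheory.exists_height_eq_add_coheight
      (k := Y.residueField y) (f.fiberToSpecResidueField y) z
    rw [← he]
    have hcomp : ∀ Z ∈ irreducibleComponents (f.fiber y : Type u), topologicalKrullDim Z = (e - d : ℕ) := by
      intro Z hZ
      have h' : f.fiberHomeo y '' Z ∈ irreducibleComponents (f.base ⁻¹' {y}) := by
        refine ⟨hZ.1.image _ (f.fiberHomeo y).continuous.continuousOn, fun T hT hle => ?_⟩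
        have := hZ.2 (hT.image _ (f.fiberHomeo y).symm.continuous.continuousOn)
          (fun a ha => ⟨f.fiberHomeo y a, hle ⟨a, ha, rfl⟩, by simp⟩)
        intro a ha
        exact ⟨(f.fiberHomeo y).symm a, this ⟨a, ha, rfl⟩, by simp⟩
      rw [IsHomeomorph.topologicalKrullDim_eq _ ((f.fiberHomeo y).image Z).isHomeomorph]
      exact hfib y _ h'
    exact WithBot.coe_inj.1 ((Groth.Agent.FlatDim.forall_components_iff _).1 hcomp m fun w hw =>
      (hw.antisymm (hm w hw)).eq)
  refine (Flat.iff_flat_stalkMap f).2 fun x => ?_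
  letI := (f.stalkMap x).hom.toAlgebra
  have : IsLocalHom (algebraMap (Y.presheaf.stalk (f x)) (X.presheaf.stalk x)) :=
    inferInstanceAs (IsLocalHom (f.stalkMap x).hom)
  have := hY (f x)
  have := hX x
  refine Groth.Agent.FlatLocalDepth.miracle_flatness ?_
  obtain ⟨ε⟩ := Groth.Agent.FlatLocalDepth.nonempty_asFiber_stalk_equiv f x
  rw [ringKrullDim_eq_of_ringEquiv (R := X.presheaf.stalk x ⧸ (IsLocalRing.maximalIdeal (Y.presheaf.stalk (f x))).map
      (algebraMap (Y.presheaf.stalk (f x)) (X.presheaf.stalk x))) ε,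
    ringKrullDim_stalk_eq_coheight, ringKrullDim_stalk_eq_coheight, ringKrullDim_stalk_eq_coheight]
  have h1 := Groth.Agent.DimTheory.height_fiberι f q (f x) (f.asFiber x)
  rw [f.fiberι_asFiber] at h1
  have h2 := sumX x
  have h3 := sumY (f x)
  have h4 := sumF (f x) (f.asFiber x)
  obtain ⟨a, -, ha⟩ := Groth.Agent.DimTheory.exists_height_eq q (f x)
  have : LocallyOfFiniteType (f.fiberToSpecResidueField (f x)) :=
    MorphismProperty.pullback_snd _ _ ‹LocallyOfFiniteType f›
  obtain ⟨b, -, hb⟩ := Groth.Agent.DimTheory.exists_height_eq (k := Y.residueField (f x))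
    (f.fiberToSpecResidueField (f x)) (f.asFiber x)
  obtain ⟨c, hc⟩ := ENat.ne_top_iff_exists.1 (Groth.Agent.DimTheory.coheight_lt_top (f ≫ q) x).ne
  obtain ⟨c', hc'⟩ := ENat.ne_top_iff_exists.1 (Groth.Agent.DimTheory.coheight_lt_top q (f x)).ne
  obtain ⟨c'', hc''⟩ := ENat.ne_top_iff_exists.1 (Groth.Agent.DimTheory.coheight_lt_top
    (k := Y.residueField (f x)) (f.fiberToSpecResidueField (f x)) (f.asFiber x)).ne
  rw [ha, hb] at h1
  rw [h1, ← hc] at h2
  rw [ha, ← hc'] at h3
  rw [hb, ← hc''] at h4
  rw [← hc, ← hc', ← hc'']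
  norm_cast at h2 h3 h4 ⊢
  omega

end Groth.Agent.S10882
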