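import Groth.Statements.S10884
import Mathlib
import Groth.Agent.DimTheory.Fibre
import Groth.Agent.FpqcDescent.Specialization

set_option autoImplicit false
universe u
open CategoryTheory AlgebraicGeometry
open Variety

namespace Groth.Agent.S10884

/-- Let Y be a scheme of finite type over a field k and f : X → Y a dominant morphism of finite type all
of whose non-empty fibres have dimension r. Then dim X = r + dim Y. -/
theorem result (k : Type u) [Field k] {X Y : Scheme.{u}}
    (q : Y ⟶ Spec (CommRingCat.of k)) [LocallyOfFiniteType q] [QuasiCompact q]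
    (f : X ⟶ Y) [LocallyOfFiniteType f] [QuasiCompact f] (hdom : DenseRange f.base) (r : ℕ)
    (hfib : ∀ y : Y, (f.base ⁻¹' {y}).Nonempty → topologicalKrullDim (f.base ⁻¹' {y}) = r) :
    topologicalKrullDim X = (r : WithBot ℕ∞) + topologicalKrullDim Y := by
  have hmem : ∀ η : Y, (∀ w : Y, w ⤳ η → w = η) → η ∈ Set.range f.base := fun η hη => by
    obtain ⟨z, hz⟩ := Groth.Agent.FpqcDescent.exists_specializes_of_mem_closure_range f (hdom η)
    exact ⟨z, hη _ hz⟩
  rw [Groth.Agent.DimTheory.topologicalKrullDim_eq_iSup_height X,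
    Groth.Agent.DimTheory.topologicalKrullDim_eq_iSup_height Y]
  rcases isEmpty_or_nonempty Y with hY | hY
  · have : IsEmpty X := Function.isEmpty f.base
    rw [iSup_of_empty, iSup_of_empty]; simp
  have hX : Nonempty X := by
    exact hdom.nonempty_iff.2 hY
  rw [← WithBot.coe_iSup (OrderTop.bddAbove _), ← WithBot.coe_iSup (OrderTop.bddAbove _),
    ← WithBot.coe_natCast, ← WithBot.coe_add, ENat.add_iSup, WithBot.coe_inj]
  refine le_antisymm (iSup_le fun x => ?_) (iSup_le fun y => ?_)
  · let z : f.fiber (f x) := f.asFiber x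
    have hz : f.fiberι (f x) z = x := f.fiberι_asFiber x
    rw [← hz, Groth.Agent.DimTheory.height_fiberι f q (f x) z, add_comm]
    refine le_trans (add_le_add ?_ le_rfl) (le_iSup (fun y : Y => (r : ℕ∞) + Order.height y) (f x))
    have h := hfib (f x) ⟨x, rfl⟩
    rw [Groth.Agent.DimTheory.fiber_dim_eq, Groth.Agent.DimTheory.topologicalKrullDim_eq_iSup_height] at h
    have h' := (le_iSup (fun z : f.fiber (f x) => (Order.height z : WithBot ℕ∞)) z).trans h.le
    exact_mod_cast h'
  · obtain ⟨η, hyη, hmax, -⟩ := Groth.Agent.DimTheory.exists_height_eq_add_coheight q y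
    have hη : ∀ w : Y, w ⤳ η → w = η := fun w hw => (hw.antisymm (hmax w hw)).eq
    obtain ⟨x, hx⟩ := hmem η hη
    have hd := (hfib η ⟨x, hx⟩).ge
    rw [Groth.Agent.DimTheory.fiber_dim_eq] at hd
    obtain ⟨z, hz⟩ := Groth.Agent.DimTheory.exists_height_ge_of_dim hd
    refine le_trans ?_ (le_iSup _ (f.fiberι η z))
    rw [Groth.Agent.DimTheory.height_fiberι f q η z, add_comm]
    exact add_le_add (Order.height_mono hyη) hz

end Groth.Agent.S10884
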