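import Groth.Statements.S10885
import Mathlib
import Groth.Agent.DimTheory.Fibre

set_option autoImplicit false
universe u
open CategoryTheory AlgebraicGeometry
open Variety

namespace Groth.Agent.S10885

/-- Let Y be a scheme of finite type over a field k, r ≥ 0, and f : X → Y a morphism of finite type
whose fibre over every maximal point of Y has dimension at least r. Then dim X ≥ r + dim Y. -/
theorem result (k : Type u) [Field k] {X Y : Scheme.{u}}
    (q : Y ⟶ Spec (CommRingCat.of k)) [LocallyOfFiniteType q] [QuasiCompact q]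
    (f : X ⟶ Y) [LocallyOfFiniteType f] [QuasiCompact f] (r : ℕ)
    (hfib : ∀ η : Y, (∀ y : Y, y ⤳ η → y = η) → (r : WithBot ℕ∞) ≤ topologicalKrullDim (f.base ⁻¹' {η})) :
    (r : WithBot ℕ∞) + topologicalKrullDim Y ≤ topologicalKrullDim X := by
  rw [Groth.Agent.DimTheory.topologicalKrullDim_eq_iSup_height Y]
  have key : ∀ y : Y, ∃ x : X, (r : ℕ∞) + Order.height y ≤ Order.height x := by
    intro y
    obtain ⟨η, hyη, hmax, -⟩ := Groth.Agent.DimTheory.exists_height_eq_add_coheight q y
    have hη : ∀ w : Y, w ⤳ η → w = η := fun w hw =>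
      (hw.antisymm (hmax w hw)).eq
    have hd := hfib η hη
    rw [Groth.Agent.DimTheory.fiber_dim_eq] at hd
    obtain ⟨z, hz⟩ := Groth.Agent.DimTheory.exists_height_ge_of_dim hd
    refine ⟨f.fiberι η z, ?_⟩
    rw [Groth.Agent.DimTheory.height_fiberι f q η z, add_comm]
    exact add_le_add (Order.height_mono hyη) hz
  rcases isEmpty_or_nonempty Y with hY | hY
  · rw [iSup_of_empty]; simp
  · rw [← WithBot.coe_iSup (OrderTop.bddAbove _), ← WithBot.coe_natCast, ← WithBot.coe_add, ENat.add_iSup]
    rw [Groth.Agent.DimTheory.topologicalKrullDim_eq_iSup_height X]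
    obtain ⟨x₀, -⟩ := key (Classical.arbitrary Y)
    have : Nonempty X := ⟨x₀⟩
    rw [← WithBot.coe_iSup (OrderTop.bddAbove _), WithBot.coe_le_coe]
    exact iSup_le fun y => by
      obtain ⟨x, hx⟩ := key y
      exact hx.trans (le_iSup _ x)

end Groth.Agent.S10885
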