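import Groth.Statements.S10886
import Mathlib
import Groth.Agent.VarLib.Noetherian
import Groth.Agent.ConstrSets.Basic

set_option autoImplicit false
universe u
open CategoryTheory AlgebraicGeometry
open Curves

namespace Groth.Agent.S10886

theorem aux {X : Scheme.{u}} [IsNoetherian X] [IrreducibleSpace X] (hX : topologicalKrullDim X = 1)
    (t : Set X) (ht : Topology.IsConstructible t) (hη : genericPoint X ∈ t) :
    tᶜ.Finite ∧ ∀ x ∈ tᶜ, IsClosed ({x} : Set X) := by
  have hd : (Set.univ : Set X) ⊆ closure (t ∩ Set.univ) := by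
    rw [Set.inter_univ, ← (genericPoint_spec X).def]
    exact closure_mono (Set.singleton_subset_iff.2 hη)
  obtain ⟨U, hU, hne, hUt⟩ := ConstrSets.exists_open_of_dense' ht
    (IrreducibleSpace.isIrreducible_univ X) hd
  rw [Set.inter_univ] at hne hUt
  have hηU : genericPoint X ∈ U := ((genericPoint_spec X).mem_open_set_iff hU).2 (by simpa using hne)
  have hcl : ∀ x ∈ Uᶜ, IsClosed ({x} : Set X) := fun x hx =>
    VarLib.isClosed_singleton_of_dim_le_one hX.le fun e => hx (e ▸ hηU)
  have hfin : Uᶜ.Finite := (VarLib.finite_maximal_points hU.isClosed_compl).subset fun x hx =>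
    ⟨hx, fun y hy h => ((hcl y hy).closure_eq ▸ h.mem_closure : x ∈ ({y} : Set X)).symm⟩
  exact ⟨hfin.subset (Set.compl_subset_compl.2 hUt), fun x hx => hcl x fun h => hx (hUt h)⟩

/-- In an irreducible Noetherian scheme of dimension one every constructible subset is either a finite
set of closed points or the complement of such a set; in particular it is open or closed. -/
theorem result {X : Scheme.{u}} [IsNoetherian X]
    [IrreducibleSpace X] (hX : topologicalKrullDim X = 1) (s : Set X) (hs : Topology.IsConstructible s) :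
    (s.Finite ∧ (∀ x ∈ s, IsClosed ({x} : Set X))) ∨ (sᶜ.Finite ∧ ∀ x ∈ sᶜ, IsClosed ({x} : Set X)) := by
  by_cases hη : genericPoint X ∈ s
  · exact Or.inr (aux hX s hs hη)
  · refine Or.inl ?_
    simpa using aux hX sᶜ hs.compl hη

end Groth.Agent.S10886
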