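import Groth.Statements.S10890
import Groth.Agent.McCoy.Basic
import Mathlib.RingTheory.LocalRing.Module
import Mathlib.RingTheory.LocalRing.ResidueField.Basic
import Mathlib.LinearAlgebra.Matrix.Adjugate
import Mathlib.LinearAlgebra.Projection
import Mathlib.RingTheory.Finiteness.Projective
import Mathlib.LinearAlgebra.Dimension.Free

set_option autoImplicit false
universe u
open CAlgX

namespace Groth.Agent.S10890

/-- (i) ⇔ (ii): let R be a local ring, A an n × m matrix over R regarded as a linear map R^m → R^n, and
1 ≤ r ≤ n. Then the image of A is a direct summand of R^n of rank r if and only if every (r+1) ×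
(r+1) minor of A is zero and the r × r minors of A generate the unit ideal. (The printed statement
is over an arbitrary ring with 'direct summand of rank r'; its proof localises at once, and this row
states the local case, where a direct summand of R^n is free and its rank is its finrank.) -/
theorem result (R : Type u) [CommRing R] [IsLocalRing R] (n m r : ℕ)
    (hr : 1 ≤ r) (hrn : r ≤ n) (A : Matrix (Fin n) (Fin m) R) :
    (∃ N' : Submodule R (Fin n → R), IsCompl (LinearMap.range (Matrix.mulVecLin A)) N' ∧
        Module.finrank R (LinearMap.range (Matrix.mulVecLin A)) = r) ↔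
      (CAlgX.minorIdeal A (r + 1) = ⊥ ∧ CAlgX.minorIdeal A r = ⊤) := by
  classical
  constructor
  · rintro ⟨N', hN', hr'⟩
    set N := LinearMap.range (Matrix.mulVecLin A) with hN
    have hproj : Module.Projective R N := Module.Projective.of_split N.subtype
      (Submodule.projectionOnto N N' hN') (LinearMap.ext fun x => Submodule.projectionOnto_apply_left hN' x)
    haveI : Module.Free R N := Module.free_of_flat_of_isLocalRing
    let b : Module.Basis (Fin r) R N := Module.finBasisOfFinrankEq R N hr'
    let B : Matrix (Fin n) (Fin r) R := Matrix.of fun i k => ((b k : N) : Fin n → R) i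
    have hcol : ∀ j, A.mulVec (Pi.single j 1) ∈ N := fun j => ⟨Pi.single j 1, rfl⟩
    let D : Matrix (Fin r) (Fin m) R := Matrix.of fun k j => b.repr ⟨_, hcol j⟩ k
    have hAB : A = B * D := by
      ext i j
      have h1 := congr_arg (fun x : N => (x : Fin n → R) i) (b.sum_repr ⟨_, hcol j⟩)
      simp only [Submodule.coe_sum, Finset.sum_apply, Submodule.coe_smul, Pi.smul_apply,
        smul_eq_mul, Matrix.mulVec_single_one, Matrix.col_apply] at h1
      rw [← h1, Matrix.mul_apply]
      exact Finset.sum_congr rfl fun k _ => by
        simp only [B, D, Matrix.of_apply, Matrix.mulVec_single_one]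
        exact mul_comm _ _
    have hv : ∀ k, ∃ v, A.mulVec v = ((b k : N) : Fin n → R) := fun k => (b k).2
    choose v hv using hv
    let E : Matrix (Fin m) (Fin r) R := Matrix.of fun j k => v k j
    have hAE : A * E = B := by
      ext i k
      exact congr_fun (hv k) i
    refine ⟨?_, ?_⟩
    · rw [CAlgX.minorIdeal, Ideal.span_eq_bot]
      rintro _ ⟨⟨f, g⟩, rfl⟩
      let B' : Matrix (Fin (r + 1)) (Fin (r + 1)) R := Matrix.of fun p => Fin.cons 0 (B (f p))
      let D' : Matrix (Fin (r + 1)) (Fin (r + 1)) R :=
        Matrix.of (Fin.cons 0 (fun k p => D k (g p)))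
      have : A.submatrix f g = B' * D' := by
        ext p q
        simp [hAB, Matrix.mul_apply, Fin.sum_univ_succ, B', D']
      change (A.submatrix f g).det = 0
      rw [this, Matrix.det_mul, Matrix.det_eq_zero_of_column_eq_zero 0 (fun p => by simp [B']),
        zero_mul]
    · by_contra hne
      have hle := IsLocalRing.le_maximalIdeal hne
      let k := IsLocalRing.ResidueField R
      let π := IsLocalRing.residue R
      let L : (Fin n → R) →ₗ[R] (Fin r → R) :=
        (b.equivFun.toLinearMap).comp (Submodule.projectionOnto N N' hN')
      have hLB : LinearMap.toMatrix' L * B = 1 := by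
        ext p q
        have : (LinearMap.toMatrix' L * B) p q = L ((b q : N) : Fin n → R) p := by
          rw [← LinearMap.toMatrix'_mulVec]
          rfl
        rw [this]
        simp [L, Submodule.projectionOnto_apply_left, Matrix.one_apply, Finsupp.single_apply, eq_comm]
      let φ := π.mapMatrix (m := Fin r)
      have hinjB : Function.Injective (B.map π).mulVecLin := by
        refine LinearMap.ker_eq_bot.1 (LinearMap.ker_eq_bot'.2 fun x hx => ?_)
        have h1 := congr_arg (((LinearMap.toMatrix' L).map π).mulVec ·) hx
        simp only [Matrix.mulVecLin_apply, Matrix.mulVec_mulVec, ← Matrix.map_mul, hLB,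
          Matrix.map_one _ (map_zero π) (map_one π), Matrix.one_mulVec, Matrix.mulVec_zero] at h1
        exact h1
      obtain ⟨f, hf⟩ : ∃ f : Fin r → Fin n, ((B.map π).submatrix f id).det ≠ 0 := by
        by_contra hall
        push Not at hall
        obtain ⟨x, hx, hx'⟩ := Groth.Agent.McCoy.exists_ker_of_annihilator (B.map π) one_ne_zero
          (fun f g => by
            rw [one_mul]
            by_cases hg : Function.Bijective g
            · rw [show (B.map π).submatrix f g =
                ((B.map π).submatrix f id).submatrix id (Equiv.ofBijective g hg) from rfl,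
                Matrix.det_permute', hall f, mul_zero]
            · have : ¬ Function.Injective g := fun h => hg (Finite.injective_iff_bijective.1 h)
              simp only [Function.Injective, not_forall] at this
              obtain ⟨a, c, hac, hne⟩ := this
              exact Matrix.det_zero_of_column_eq hne fun i => by simp [hac])
        exact hx (hinjB (by simpa using hx'))
      let Af : Matrix (Fin r) (Fin m) k := (A.map π).submatrix f id
      have hAf : Af * E.map π = (B.map π).submatrix f id := by
        rw [← hAE, Matrix.map_mul]
        rfl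
      have hinjA : Function.Injective Af.transpose.mulVecLin := by
        refine LinearMap.ker_eq_bot.1 (LinearMap.ker_eq_bot'.2 fun x hx => ?_)
        have h1 := congr_arg ((E.map π).transpose.mulVec ·) hx
        simp only [Matrix.mulVecLin_apply, Matrix.mulVec_mulVec, ← Matrix.transpose_mul, hAf,
          Matrix.mulVec_zero] at h1
        exact Matrix.eq_zero_of_mulVec_eq_zero (by rwa [Matrix.det_transpose]) h1
      have hann := (Groth.Agent.McCoy.injective_iff Af.transpose).1 hinjA
      have : CAlgX.minorIdeal Af.transpose r = ⊥ := by
        rw [CAlgX.minorIdeal, Ideal.span_eq_bot]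
        rintro _ ⟨⟨p, q⟩, rfl⟩
        change (Af.transpose.submatrix p q).det = 0
        rw [← Matrix.transpose_submatrix, Matrix.det_transpose]
        have : (A.submatrix (f ∘ q) p).det ∈ IsLocalRing.maximalIdeal R :=
          hle (Ideal.subset_span ⟨(f ∘ q, p), rfl⟩)
        rw [show Af.submatrix q p = π.mapMatrix (A.submatrix (f ∘ q) p) from rfl,
          ← RingHom.map_det]
        exact (IsLocalRing.residue_eq_zero_iff _).2 this
      rw [this, Submodule.annihilator_bot] at hann
      exact top_ne_bot hann
  · rintro ⟨h0, h1⟩
    obtain ⟨f, g, hu⟩ : ∃ f g, IsUnit (A.submatrix f g : Matrix (Fin r) (Fin r) R).det := by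
      by_contra hne
      push Not at hne
      have : CAlgX.minorIdeal A r ≤ IsLocalRing.maximalIdeal R := by
        rw [CAlgX.minorIdeal, Ideal.span_le]
        rintro _ ⟨⟨f, g⟩, rfl⟩
        exact (IsLocalRing.mem_maximalIdeal _).2 (hne f g)
      rw [h1] at this
      exact (IsLocalRing.maximalIdeal.isMaximal R).ne_top (top_le_iff.1 this)
    set S := A.submatrix f g with hS
    let C : Matrix (Fin n) (Fin r) R := A.submatrix id g
    have hcol : ∀ j i, (C.mulVec (S.adjugate.mulVec fun p => A (f p) j)) i = S.det * A i j := by
      intro j i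
      set x := S.adjugate.mulVec fun p => A (f p) j with hx
      have hx' : S.mulVec x = S.det • fun p => A (f p) j := by
        rw [hx, Matrix.mulVec_mulVec, Matrix.mul_adjugate, Matrix.smul_mulVec, Matrix.one_mulVec]
      let B : Matrix (Fin (r + 1)) (Fin (r + 1)) R := A.submatrix (Fin.cons i f) (Fin.cons j g)
      have hB : B.det = 0 := by
        have := h0.le (Ideal.subset_span ⟨((Fin.cons i f : Fin (r + 1) → Fin n),
          (Fin.cons j g : Fin (r + 1) → Fin m)), rfl⟩)
        exact (Submodule.mem_bot R).1 this
      have hy : B.mulVec (Fin.cons (-S.det) x) =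
          (Fin.cons ((C.mulVec x) i - S.det * A i j) 0 : Fin (r + 1) → R) := by
        funext p
        induction p using Fin.cases with
        | zero =>
          simp [B, C, Matrix.mulVec, dotProduct, Fin.sum_univ_succ]
          ring
        | succ q =>
          have h3 := congr_fun hx' q
          simp only [Matrix.mulVec, dotProduct, Pi.smul_apply, smul_eq_mul, hS,
            Matrix.submatrix_apply] at h3
          simp [B, Matrix.mulVec, dotProduct, Fin.sum_univ_succ, h3, hS]
          ring
      have h4 := congr_fun (congr_arg (B.adjugate.mulVec ·) hy) 0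
      simp only [Matrix.mulVec_mulVec, Matrix.adjugate_mul, hB, zero_smul, Matrix.zero_mulVec,
        Pi.zero_apply] at h4
      rw [Matrix.mulVec, dotProduct, Fin.sum_univ_succ] at h4
      simp only [Fin.cons_zero, Fin.cons_succ, Pi.zero_apply, mul_zero, Finset.sum_const_zero,
        add_zero, Matrix.adjugate_fin_succ_eq_det_submatrix, Fin.val_zero, pow_zero, one_mul] at h4
      rw [show B.submatrix (Fin.succAbove 0) (Fin.succAbove 0) = S by ext; simp [B, hS]] at h4
      exact sub_eq_zero.1 (hu.mul_right_eq_zero.1 h4.symm)
    let L : (Fin n → R) →ₗ[R] (Fin r → R) := (S⁻¹).mulVecLin.comp (LinearMap.funLeft R R f)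
    have hLC : ∀ y, L (C.mulVec y) = y := fun y => by
      change S⁻¹.mulVec (S.mulVec y) = y
      rw [Matrix.mulVec_mulVec, Matrix.nonsing_inv_mul _ hu, Matrix.one_mulVec]
    have hrange : LinearMap.range A.mulVecLin = LinearMap.range C.mulVecLin := by
      apply le_antisymm
      · rw [Matrix.range_mulVecLin, Submodule.span_le]
        rintro _ ⟨j, rfl⟩
        refine ⟨(↑hu.unit⁻¹ : R) • S.adjugate.mulVec (fun p => A (f p) j), funext fun i => ?_⟩
        simp only [Matrix.mulVecLin_apply, Matrix.mulVec_smul, Pi.smul_apply, hcol, smul_eq_mul,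
          ← mul_assoc]
        rw [IsUnit.val_inv_mul, one_mul, Matrix.col_apply]
      · rw [Matrix.range_mulVecLin, Submodule.span_le]
        rintro _ ⟨p, rfl⟩
        exact ⟨Pi.single (g p) 1, by ext i; simp [C]⟩
    have hinj : Function.Injective C.mulVecLin := Function.LeftInverse.injective hLC
    refine ⟨LinearMap.ker L, ⟨?_, ?_⟩, ?_⟩
    · rw [disjoint_iff, eq_bot_iff, hrange]
      rintro _ ⟨⟨y, rfl⟩, hy⟩
      rw [SetLike.mem_coe, LinearMap.mem_ker, Matrix.mulVecLin_apply, hLC] at hy
      simp [hy]
    · rw [codisjoint_iff, eq_top_iff, hrange]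
      intro z _
      refine Submodule.mem_sup.2 ⟨C.mulVecLin (L z), ⟨_, rfl⟩, z - C.mulVecLin (L z), ?_, by simp⟩
      rw [LinearMap.mem_ker, map_sub, Matrix.mulVecLin_apply, hLC, sub_self]
    · rw [hrange, ← (LinearEquiv.ofInjective C.mulVecLin hinj).finrank_eq, Module.finrank_fin_fun]

end Groth.Agent.S10890
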