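import Groth.Statements.S10891
import Mathlib
-- import your own Groth.Agent.* helpers here

set_option autoImplicit false
universe u
open CAlg

open MvPolynomial

namespace Groth.Agent.S10891

theorem mon_mem {k : Type u} [Field k] (r a : ℕ) (hr : 0 < r) :
    ∀ D i j : ℕ, i + j ≤ D → r ∣ i + a * j → (X 0 ^ i * X 1 ^ j : MvPolynomial (Fin 2) k) ∈
      Algebra.adjoin k {q : MvPolynomial (Fin 2) k | ∃ i j : ℕ, i ≤ r ∧ j ≤ r ∧ ¬ (i = r ∧ j = r) ∧
        r ∣ i + a * j ∧ q = MvPolynomial.X 0 ^ i * MvPolynomial.X 1 ^ j} := by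
  intro D
  induction D with
  | zero =>
    intro i j h _
    obtain ⟨rfl, rfl⟩ : i = 0 ∧ j = 0 := by omega
    simp
  | succ D ih =>
    intro i j h hd
    by_cases h1 : i ≤ r ∧ j ≤ r ∧ ¬ (i = r ∧ j = r)
    · exact Algebra.subset_adjoin ⟨i, j, h1.1, h1.2.1, h1.2.2, hd, rfl⟩
    · by_cases hi : r ≤ i
      · obtain ⟨i', rfl⟩ := Nat.exists_eq_add_of_le hi
        rw [pow_add, mul_assoc]
        refine mul_mem (Algebra.subset_adjoin ⟨r, 0, le_rfl, Nat.zero_le _, by omega, by simp, by simp⟩) (ih i' j (by omega) ?_)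
        rw [add_assoc] at hd
        exact (Nat.dvd_add_right dvd_rfl).1 hd
      · obtain ⟨j', rfl⟩ := Nat.exists_eq_add_of_le (show r ≤ j by omega)
        rw [pow_add, mul_left_comm]
        refine mul_mem (Algebra.subset_adjoin ⟨0, r, Nat.zero_le _, le_rfl, by omega, by simp, by simp⟩) (ih i j' (by omega) ?_)
        rw [mul_add, add_left_comm] at hd
        exact (Nat.dvd_add_right (dvd_mul_left r a)).1 hd

theorem main (k : Type u) [Field k] (r a : ℕ) (hr : 0 < r)
    (ζ : k) (hζ : IsPrimitiveRoot ζ r) (p : MvPolynomial (Fin 2) k) :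
    MvPolynomial.aeval (fun i : Fin 2 => if i = 0 then MvPolynomial.C ζ⁻¹ * MvPolynomial.X 0
        else MvPolynomial.C (ζ⁻¹ ^ a) * (MvPolynomial.X 1 : MvPolynomial (Fin 2) k)) p = p ↔
      p ∈ Algebra.adjoin k {q : MvPolynomial (Fin 2) k | ∃ i j : ℕ, i ≤ r ∧ j ≤ r ∧ ¬ (i = r ∧ j = r) ∧
        r ∣ i + a * j ∧ q = MvPolynomial.X 0 ^ i * MvPolynomial.X 1 ^ j} := by
  set φ := MvPolynomial.aeval (R := k) (fun i : Fin 2 => if i = 0 then MvPolynomial.C ζ⁻¹ * MvPolynomial.X 0
        else MvPolynomial.C (ζ⁻¹ ^ a) * (MvPolynomial.X 1 : MvPolynomial (Fin 2) k)) with hφ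
  have hX : ∀ i j : ℕ, φ (X 0 ^ i * X 1 ^ j) = C (ζ⁻¹ ^ (i + a * j)) * (X 0 ^ i * X 1 ^ j) := by
    intro i j
    simp only [hφ, map_mul, map_pow, aeval_X, if_pos, ↓reduceIte, if_neg (show (1 : Fin 2) ≠ 0 by decide), mul_pow, pow_add, pow_mul]
    ring
  have hmono : ∀ (e : Fin 2 →₀ ℕ) (c : k), (monomial e c : MvPolynomial (Fin 2) k) = C c * (X 0 ^ e 0 * X 1 ^ e 1) := by
    intro e c
    rw [monomial_eq, Finsupp.prod_fintype _ _ (fun i => by simp), Fin.prod_univ_two]
  constructor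
  · intro h
    have hcoef : ∀ e, coeff e p = ζ⁻¹ ^ (e 0 + a * e 1) * coeff e p := by
      intro e
      classical
      conv_lhs => rw [← h, p.as_sum, map_sum]
      rw [coeff_sum]
      rw [Finset.sum_eq_single e]
      · rw [hmono, map_mul, algHom_C, hX, ← mul_assoc, MvPolynomial.algebraMap_eq]
        rw [← C_mul, ← hmono, coeff_monomial, if_pos rfl, mul_comm]
      · intro b _ hb
        rw [hmono, map_mul, algHom_C, hX, ← mul_assoc, MvPolynomial.algebraMap_eq]
        rw [← C_mul, ← hmono, coeff_monomial, if_neg hb]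
      · intro he
        rw [notMem_support_iff.1 he, monomial_zero, map_zero, coeff_zero]
    rw [p.as_sum]
    refine sum_mem fun e he => ?_
    rw [hmono]
    refine mul_mem (Subalgebra.algebraMap_mem _ _) (mon_mem r a hr _ _ _ le_rfl ?_)
    rw [← hζ.inv.pow_eq_one_iff_dvd]
    exact (mul_left_eq_self₀.1 (hcoef e).symm).resolve_right (mem_support_iff.1 he)
  · intro h
    have hle : Algebra.adjoin k {q : MvPolynomial (Fin 2) k | ∃ i j : ℕ, i ≤ r ∧ j ≤ r ∧ ¬ (i = r ∧ j = r) ∧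
        r ∣ i + a * j ∧ q = MvPolynomial.X 0 ^ i * MvPolynomial.X 1 ^ j} ≤ AlgHom.equalizer φ (AlgHom.id k _) := by
      refine Algebra.adjoin_le ?_
      rintro _ ⟨i, j, -, -, -, hd, rfl⟩
      show φ _ = _
      rw [hX, (hζ.inv.pow_eq_one_iff_dvd _).2 hd, C_1, one_mul]
      rfl
    exact hle h

end Groth.Agent.S10891

namespace Groth.Agent.S10891

/-- Let k be a field containing a primitive r-th root of unity ζ and 0 < a < r. The cyclic group of r-th
roots of unity acts on k[X, Y] through the generator X ↦ ζ⁻¹ X, Y ↦ ζ^(−a) Y, and the ring of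
invariants of this action is generated as a k-algebra by the monomials X^i Y^j with 0 ≤ i, j ≤ r,
(i, j) ≠ (r, r) and i + a·j ≡ 0 (mod r). (The printed statement writes n for the order of the group,
which the surrounding section calls r.) -/
theorem result (k : Type u) [Field k] (r a : ℕ) (ha : 0 < a) (har : a < r)
    (ζ : k) (hζ : IsPrimitiveRoot ζ r) (p : MvPolynomial (Fin 2) k) :
    MvPolynomial.aeval (fun i : Fin 2 => if i = 0 then MvPolynomial.C ζ⁻¹ * MvPolynomial.X 0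
        else MvPolynomial.C (ζ⁻¹ ^ a) * (MvPolynomial.X 1 : MvPolynomial (Fin 2) k)) p = p ↔
      p ∈ Algebra.adjoin k {q : MvPolynomial (Fin 2) k | ∃ i j : ℕ, i ≤ r ∧ j ≤ r ∧ ¬ (i = r ∧ j = r) ∧
        r ∣ i + a * j ∧ q = MvPolynomial.X 0 ^ i * MvPolynomial.X 1 ^ j} := by
  exact Groth.Agent.S10891.main k r a (by omega) ζ hζ p

end Groth.Agent.S10891
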