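import Groth.Statements.S10893
import Groth.Agent.MeroDivLead.Curve
import Groth.Agent.MeroFrac.Regular
import Groth.Agent.AssPtsMore.Basic
-- import your own Groth.Agent.* helpers here

set_option autoImplicit false
universe u
open CategoryTheory AlgebraicGeometry
open Curves

namespace Groth.Agent.S10893

/-- Let C be an absolute curve (Noetherian, local rings at closed points one-dimensional) none of whose
points is open, and U ⊆ C an open dense subset. Then there is an effective divisor D on C with
support contained in U and meeting every irreducible component of C. -/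
theorem result {C : Scheme.{u}} [IsNoetherian C]
    (hC : ∀ x : C, IsClosed ({x} : Set C) → ringKrullDim (C.presheaf.stalk x) = 1)
    (hpt : ∀ x : C, ¬ IsOpen ({x} : Set C)) (U : C.Opens) (hU : Dense (U : Set C)) :
    ∃ D : Mero.Divisor C, Mero.IsEffective D ∧ Mero.supp D ⊆ (U : Set C) ∧
      ∀ Z ∈ irreducibleComponents (C : Type u), (Mero.supp D ∩ Z).Nonempty := by
  classical
  haveI := Groth.Agent.AssPts.isQuasicoherent_structureModule C
  have maxnc : ∀ w : C, ¬ IsClosed ({w} : Set C) → ∀ g : C, g ⤳ w → g = w := by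
    intro w hw g hg
    obtain ⟨c, hc, hcc⟩ := (isClosed_closure (s := ({w} : Set C))).exists_closed_singleton ⟨w, subset_closure rfl⟩
    obtain ⟨_, ⟨A, hA, rfl⟩, hcA, -⟩ := C.isBasis_affineOpens.exists_subset_of_mem_open (Set.mem_univ c) isOpen_univ
    have hwc : w ⤳ c := specializes_iff_mem_closure.2 hc
    have hwA : w ∈ A := hwc.mem_open A.2 hcA
    have hgA : g ∈ A := hg.mem_open A.2 hwA
    haveI : IsNoetherianRing Γ(C, A) := IsLocallyNoetherian.component_noetherian ⟨A, hA⟩
    by_contra hne
    have lt : ∀ {a b : C} (ha : a ∈ A) (hb : b ∈ A), a ⤳ b → a ≠ b →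
        (hA.primeIdealOf ⟨a, ha⟩).asIdeal.height < (hA.primeIdealOf ⟨b, hb⟩).asIdeal.height := by
      intro a b ha hb hab hne'
      refine Ideal.height_strict_mono_of_isPrime_of_isPrime (lt_of_le_of_ne ((Groth.Agent.AssPts.specializes_iff hA b hb ha).1 hab) fun e => hne' ?_)
      exact (hA.fromSpec_primeIdealOf ⟨a, ha⟩).symm.trans
        ((congrArg hA.fromSpec (PrimeSpectrum.ext e)).trans (hA.fromSpec_primeIdealOf ⟨b, hb⟩))
    have h1 := lt hgA hwA hg hne
    have h2 := lt hwA hcA hwc (fun e => hw (e ▸ hcc))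
    let := TopCat.Presheaf.algebra_section_stalk C.presheaf (⟨c, hcA⟩ : A)
    have : IsLocalization.AtPrime (C.presheaf.stalk c) (hA.primeIdealOf ⟨c, hcA⟩).asIdeal := hA.isLocalization_stalk ⟨c, hcA⟩
    have h3 := hC c hcc
    rw [IsLocalization.AtPrime.ringKrullDim_eq_height (hA.primeIdealOf ⟨c, hcA⟩).asIdeal] at h3
    rw [show (hA.primeIdealOf ⟨c, hcA⟩).asIdeal.height = 1 from WithBot.coe_eq_one.1 h3, Order.lt_one_iff] at h2
    rw [h2] at h1
    exact absurd h1 (by simp)
  have choicePt : ∀ Z ∈ irreducibleComponents (C : Type u), ∃ x : C, x ∈ Z ∧ x ∈ U ∧ IsClosed ({x} : Set C) ∧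
      ¬ Curv2.IsWeakAssPoint (Coh.structureModule C) x := by
    intro Z hZ
    have hfinC : (irreducibleComponents (C : Type u)).Finite := TopologicalSpace.NoetherianSpace.finite_irreducibleComponents
    let O : Set C := (⋃ Z' ∈ irreducibleComponents (C : Type u) \ {Z}, Z')ᶜ
    have hO : IsOpen O := ((hfinC.subset Set.sdiff_subset).isClosed_biUnion fun Z' h => isClosed_of_mem_irreducibleComponents Z' h.1).isOpen_compl
    have hg := hZ.1.isGenericPoint_genericPoint_closure
    rw [(isClosed_of_mem_irreducibleComponents Z hZ).closure_eq] at hg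
    let η := hZ.1.genericPoint
    have hηmax : ∀ w : C, w ⤳ η → w = η := fun w hw => by
      have hsub : Z ⊆ closure {w} := by
        rw [← show closure ({η} : Set C) = Z from hg]
        exact specializes_iff_closure_subset.1 hw
      have h2 : η ⤳ w := hg.specializes (hZ.2 isIrreducible_singleton.closure hsub (subset_closure rfl))
      exact (hw.antisymm h2).eq
    have hηO : η ∈ O := fun h => by
      obtain ⟨Z', ⟨hZ', hne⟩, hη⟩ := Set.mem_iUnion₂.1 h
      refine hne (Set.mem_singleton_iff.2 (le_antisymm (hZ.2 hZ'.1 ?_) ?_))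
      all_goals
        rw [← show closure ({η} : Set C) = Z from hg]
        exact (isClosed_of_mem_irreducibleComponents Z' hZ').closure_subset_iff.2 (Set.singleton_subset_iff.2 hη)
    have hOZ : ∀ y ∈ O, η ⤳ y := fun y hy => by
      obtain ⟨g, hgy, hgmax⟩ := Groth.Agent.MeroFrac.exists_maximal_generization y
      have hcg : closure ({g} : Set C) ∈ irreducibleComponents (C : Type u) := by
        refine ⟨isIrreducible_singleton.closure, fun S hS hle => ?_⟩
        have hgS := hS.isGenericPoint_genericPoint_closure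
        have hw : hS.genericPoint ⤳ g := hgS.specializes (subset_closure (hle (subset_closure rfl)))
        rw [← hgmax _ hw, show closure ({hS.genericPoint} : Set C) = closure S from hgS]
        exact subset_closure
      by_contra hn
      refine hy (Set.mem_iUnion₂.2 ⟨closure {g}, ⟨hcg, fun e => hn ?_⟩, specializes_iff_mem_closure.1 hgy⟩)
      exact hg.specializes (by rw [← Set.mem_singleton_iff.1 e]; exact specializes_iff_mem_closure.1 hgy)
    by_contra hcon
    push Not at hcon
    obtain ⟨y, hy⟩ := hU.inter_open_nonempty O hO ⟨η, hηO⟩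
    have hηU : η ∈ (U : Set C) := (hOZ y hy.1).mem_open U.2 hy.2
    obtain ⟨_, ⟨A, hA, rfl⟩, hηA, hAle⟩ := C.isBasis_affineOpens.exists_subset_of_mem_open (show η ∈ O ∩ U from ⟨hηO, hηU⟩) (hO.inter U.2)
    let S : Set C := {z | z ∈ Groth.Agent.MeroFrac.wass A ∧ IsClosed ({z} : Set C)}
    have hS : IsClosed S := by
      rw [← Set.biUnion_of_singleton S]
      exact ((Groth.Agent.MeroFrac.finite_wass hA).subset fun z hz => hz.1).isClosed_biUnion fun z hz => hz.2
    have hηc : ¬ IsClosed ({η} : Set C) := by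
      intro h
      have h1 := hC η h
      let := TopCat.Presheaf.algebra_section_stalk C.presheaf (⟨η, hηA⟩ : A)
      haveI : IsNoetherianRing Γ(C, A) := IsLocallyNoetherian.component_noetherian ⟨A, hA⟩
      haveI : Ring.KrullDimLE 0 (C.presheaf.stalk η) := by
        haveI : (nilradical (C.presheaf.stalk η)).IsMaximal := by
          have e : nilradical (C.presheaf.stalk η) = IsLocalRing.maximalIdeal _ := by
            refine le_antisymm (IsLocalRing.le_maximalIdeal fun e0 => ?_) fun a ha =>
              mem_nilradical.2 (Groth.Agent.MeroFrac.isNilpotent_of_maximal hηmax ha)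
            exact not_isNilpotent_one (mem_nilradical.1 (e0 ▸ Submodule.mem_top))
          rw [e]; infer_instance
        exact Ring.KrullDimLE.of_isMaximal_nilradical _
      have h0 : ringKrullDim (C.presheaf.stalk η) ≤ 0 := Ring.krullDimLE_iff.1 inferInstance
      rw [h1] at h0
      exact absurd h0 (by norm_num)
    refine hpt η ?_
    have e : ({η} : Set C) = (A : Set C) ∩ Sᶜ := by
      ext z
      refine ⟨fun h => ?_, fun ⟨hzA, hzS⟩ => ?_⟩
      · rw [Set.mem_singleton_iff] at h; subst h
        exact ⟨hηA, fun h => hηc h.2⟩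
      · by_contra hne
        have hzc : IsClosed ({z} : Set C) := by
          by_contra hzc
          exact hne (Set.mem_singleton_iff.2 (maxnc z hzc η (hOZ z (hAle hzA).1)).symm)
        exact hzS ⟨⟨hzA, hcon z (specializes_iff_mem_closure.1 (hOZ z (hAle hzA).1) |> fun h => (show closure ({η} : Set C) = Z from hg) ▸ h)
          (hAle hzA).2 hzc⟩, hzc⟩
    rw [e]
    exact A.2.inter hS.isOpen_compl
  choose p hpZ hpU hpc hpw using choicePt
  have germEx : ∀ x : C, ¬ Curv2.IsWeakAssPoint (Coh.structureModule C) x →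
      ∃ a : Mero.regStalk C x, ¬ IsUnit (a : C.presheaf.stalk x) := by
    intro x hx
    by_contra hcon
    push Not at hcon
    obtain ⟨_, ⟨A, hA, rfl⟩, hxA, -⟩ := C.isBasis_affineOpens.exists_subset_of_mem_open (Set.mem_univ x) isOpen_univ
    have heq := Groth.Agent.MeroFrac.regStalk_eq hA (Groth.Agent.MeroFrac.finite_wass hA) hxA
    apply hx
    refine (Groth.Agent.AssPts.isAssPoint_iff_isWeakAssPoint _ x).1 ((Groth.Agent.AssPtsMore.isAssociatedPrime_stalk_iff x).1 ?_)
    have hsub : (IsLocalRing.maximalIdeal (C.presheaf.stalk x) : Set (C.presheaf.stalk x)) ⊆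
        ⋃ p ∈ associatedPrimes (C.presheaf.stalk x) (C.presheaf.stalk x), p := fun a ha => by
      rw [biUnion_associatedPrimes_eq_compl_regular]
      intro hr
      exact (IsLocalRing.mem_maximalIdeal a).1 ha (hcon ⟨a, heq.symm ▸ mem_nonZeroDivisors_iff_right.2 fun c hc => hr (by simpa [mul_comm] using hc)⟩)
    obtain ⟨q, hq, hle⟩ := (Ideal.subset_union_prime_finite (associatedPrimes.finite _ _) ⊥ ⊥ (fun p hp _ _ => hp.1)).1 hsub
    rwa [(IsLocalRing.maximalIdeal.isMaximal _).eq_of_le hq.1.ne_top hle]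
  let P : Set C := {x | ∃ (Z : _) (hZ : Z ∈ irreducibleComponents (C : Type u)), p Z hZ = x}
  have hPfin : P.Finite := by
    haveI := (TopologicalSpace.NoetherianSpace.finite_irreducibleComponents (α := (C : Type u))).to_subtype
    exact (Set.finite_range (fun Z : irreducibleComponents (C : Type u) => p Z.1 Z.2)).subset fun x ⟨Z, hZ, e⟩ => ⟨⟨Z, hZ⟩, e⟩
  have hP : ∀ x ∈ P, x ∈ U ∧ IsClosed ({x} : Set C) ∧ ¬ Curv2.IsWeakAssPoint (Coh.structureModule C) x := by
    rintro x ⟨Z, hZ, rfl⟩; exact ⟨hpU Z hZ, hpc Z hZ, hpw Z hZ⟩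
  choose a ha using germEx
  let g : ∀ x : C, Mero.Germ C x := fun x => if h : x ∈ P then
    QuotientGroup.mk (IsLocalization.map_units (Mero.KStalk C x) (a x (hP x h).2.2)).unit else 1
  have hg : g ∈ Mero.divisorGroup C := Groth.Agent.MeroDivLead.mem_divisorGroup_of_finite hC g
    (hPfin.subset fun x hx => by_contra fun h => hx (dif_neg h))
    (fun x hx => dif_neg fun h => hx (hP x h).2.1)
  refine ⟨⟨g, hg⟩, fun x => ?_, fun x hx => (hP x (by_contra fun h => hx (dif_neg h))).1, fun Z hZ => ⟨p Z hZ, ?_, hpZ Z hZ⟩⟩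
  · by_cases h : x ∈ P
    · exact ⟨a x (hP x h).2.2, dif_pos h⟩
    · exact Groth.Agent.MeroDivLead.effectiveAt_of_eq_one (dif_neg h)
  · intro h1
    have hmem : p Z hZ ∈ P := ⟨Z, hZ, rfl⟩
    change g (p Z hZ) = 1 at h1
    rw [show g (p Z hZ) = _ from dif_pos hmem, QuotientGroup.eq_one_iff, Groth.Agent.MeroDivLead.mem_stalkUnits] at h1
    obtain ⟨v, hv⟩ := h1
    rw [IsUnit.unit_spec] at hv
    exact ha _ (hP _ hmem).2.2 (Mero.algebraMap_KStalk_injective _ hv ▸ v.isUnit)
end Groth.Agent.S10893
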