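import Groth.Statements.S10895
import Mathlib.AlgebraicGeometry.Morphisms.FlatMono
import Mathlib.AlgebraicGeometry.Morphisms.Smooth
import Mathlib.AlgebraicGeometry.Morphisms.ClosedImmersion
import Groth.Agent.FpqcDescent.Flat

set_option autoImplicit false
universe u
open CategoryTheory AlgebraicGeometry
open FlatMor

namespace Groth.Agent.S10895

/-- A closed immersion of finite presentation which is flat at a point x is an isomorphism over some
open neighbourhood of the image of x. -/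
theorem result {X Y : Scheme.{u}} (f : X ⟶ Y) [IsClosedImmersion f]
    [LocallyOfFinitePresentation f] (x : X) (hflat : (f.stalkMap x).hom.Flat) :
    ∃ V : Y.Opens, f.base x ∈ V ∧ IsIso (f ∣_ V) := by
  have hbij : Function.Bijective (f.stalkMap x).hom :=
    ⟨(Groth.Agent.FpqcDescent.faithfullyFlat_stalkMap f x hflat).injective,
      f.stalkMap_surjective x⟩
  let U := f.smoothLocus
  have hxU : x ∈ U := RingHom.FormallySmooth.of_bijective hbij
  have : LocallyOfFinitePresentation (U.ι ≫ f) := inferInstance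
  have hsm : Smooth (U.ι ≫ f) := by
    rw [← Scheme.Hom.smoothLocus_eq_top_iff, ← Scheme.Hom.preimage_smoothLocus_eq]
    exact eq_top_iff.mpr fun y _ ↦ y.2
  have : IsOpenImmersion (U.ι ≫ f) := IsOpenImmersion.of_flat_of_mono _
  let W := (U.ι ≫ f).opensRange
  obtain ⟨V₀, hV₀o, hV₀⟩ := f.isClosedEmbedding.isInducing.isOpen_iff.mp U.isOpen
  let V : Y.Opens := ⟨V₀, hV₀o⟩ ⊓ W
  have hxV₀ : f x ∈ V₀ := by
    have : x ∈ f ⁻¹' V₀ := by rw [hV₀]; exact hxU
    exact this
  refine ⟨V, ⟨hxV₀, ⟨⟨x, hxU⟩, rfl⟩⟩, ?_⟩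
  have hle : f ⁻¹ᵁ V ≤ U := fun y hy ↦ by
    have : y ∈ f ⁻¹' V₀ := hy.1
    rwa [hV₀] at this
  have : IsOpenImmersion (f ∣_ V) := by
    have : IsOpenImmersion ((f ∣_ V) ≫ V.ι) := by
      rw [morphismRestrict_ι, ← X.homOfLE_ι hle, Category.assoc]
      infer_instance
    exact IsOpenImmersion.of_comp _ V.ι
  have : Surjective (f ∣_ V) := ⟨fun v ↦ by
    obtain ⟨⟨y, hyU⟩, hy⟩ := v.2.2
    change f y = v.1 at hy
    have hyV : y ∈ f ⁻¹ᵁ V := by show f y ∈ V; rw [hy]; exact v.2
    refine ⟨⟨y, hyV⟩, V.ι.isOpenEmbedding.injective ?_⟩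
    rw [← Scheme.Hom.comp_apply, morphismRestrict_ι]
    exact hy⟩
  exact Flat.isIso_of_surjective_of_mono _

end Groth.Agent.S10895
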