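import Groth.Statements.S10896
import Groth.Agent.S12425
import Groth.Agent.S10897

set_option autoImplicit false
universe u
open Cubic

namespace Groth.Agent.S10896

/-- Over an algebraically closed field of characteristic zero, a smooth cubic surface S = V_+(f) ⊂ P^3
which contains a line contains two disjoint lines (2-dimensional subspaces of k^4 on which f
vanishes and which intersect trivially). -/
theorem result (k : Type u) [Field k] [IsAlgClosed k] [CharZero k]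
    (f : MvPolynomial (Fin 4) k) (hf : f.IsHomogeneous 3) (hf0 : f ≠ 0)
    (hsm : ∀ v : Fin 4 → k, v ≠ 0 → MvPolynomial.eval v f = 0 →
      ∃ i : Fin 4, MvPolynomial.eval v (MvPolynomial.pderiv i f) ≠ 0)
    (hL : ∃ U : Submodule k (Fin 4 → k), (Module.finrank k ↥U = 2 ∧ ∀ u ∈ U, MvPolynomial.eval u f = 0)) :
    ∃ U₁ U₂ : Submodule k (Fin 4 → k), (Module.finrank k ↥U₁ = 2 ∧ ∀ u ∈ U₁, MvPolynomial.eval u f = 0) ∧ (Module.finrank k ↥U₂ = 2 ∧ ∀ u ∈ U₂, MvPolynomial.eval u f = 0) ∧ U₁ ⊓ U₂ = ⊥ := by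
  classical
  obtain ⟨L, hL2, hLS⟩ := hL
  set S := {H : Submodule k (Fin 4 → k) | Module.finrank k ↥H = 3 ∧ L ≤ H ∧
    ∃ L' L'' : Submodule k (Fin 4 → k), Module.finrank k ↥L' = 2 ∧ Module.finrank k ↥L'' = 2 ∧
      L' ≠ L ∧ L'' ≠ L ∧ L' ≠ L'' ∧ L' ≤ H ∧ L'' ≤ H ∧
      (∀ u ∈ L', MvPolynomial.eval u f = 0) ∧ (∀ u ∈ L'', MvPolynomial.eval u f = 0)}
  have h5 : S.ncard = 5 := S12425.result k f hf hf0 hsm L hL2 hLS
  obtain ⟨H₁, hH₁, H₂, hH₂, hne⟩ := (Set.one_lt_ncard (Set.finite_of_ncard_ne_zero (by omega))).1 (by omega : 1 < S.ncard)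
  obtain ⟨f1, le1, A, A'', rA, -, nA, -, -, sA, -, vA, -⟩ := hH₁
  obtain ⟨f2, le2, B, B'', rB, -, nB, -, -, sB, -, vB, -⟩ := hH₂
  refine ⟨A, B, ⟨rA, vA⟩, ⟨rB, vB⟩, ?_⟩
  by_contra hbot
  obtain ⟨p, hp, hp0⟩ := Submodule.exists_mem_ne_zero_of_ne_bot hbot
  have h12 : H₁ ⊓ H₂ = L := by
    refine (Submodule.eq_of_le_of_finrank_le (le_inf le1 le2) ?_).symm
    rw [hL2]
    have hlt : H₁ < H₁ ⊔ H₂ := lt_of_le_of_ne le_sup_left fun h =>
      hne (Submodule.eq_of_le_of_finrank_eq (h ▸ le_sup_right : H₂ ≤ H₁) (f2.trans f1.symm)).symm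
    have := Submodule.finrank_lt_finrank_of_lt hlt
    have := Submodule.finrank_sup_add_finrank_inf_eq H₁ H₂
    omega
  have hpL : p ∈ L := h12 ▸ ⟨sA hp.1, sB hp.2⟩
  obtain ⟨-, -, H, hH3, hcop⟩ := S10897.result k f hf hf0 hsm p hp0 (hLS p hpL)
  have hsup : ∀ (U : Submodule k (Fin 4 → k)) (H' : Submodule k (Fin 4 → k)), Module.finrank k ↥U = 2 → U ≠ L →
      Module.finrank k ↥H' = 3 → L ≤ H' → U ≤ H' → U ≤ H → H' = H := by
    intro U H' rU nU rH' lL lU hU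
    have hlt : L < L ⊔ U := lt_of_le_of_ne le_sup_left fun h =>
      nU (Submodule.eq_of_le_of_finrank_eq (h ▸ le_sup_right : U ≤ L) (rU.trans hL2.symm))
    have h1 := Submodule.finrank_lt_finrank_of_lt hlt
    have e1 : L ⊔ U = H' := Submodule.eq_of_le_of_finrank_le (sup_le lL lU) (by omega)
    exact Submodule.eq_of_le_of_finrank_eq (e1 ▸ sup_le (hcop L hpL ⟨hL2, hLS⟩) hU) (rH'.trans hH3.symm)
  exact hne ((hsup A H₁ rA nA f1 le1 sA (hcop A hp.1 ⟨rA, vA⟩)).trans (hsup B H₂ rB nB f2 le2 sB (hcop B hp.2 ⟨rB, vB⟩)).symm)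

end Groth.Agent.S10896
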