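import Groth.Statements.S10898


set_option autoImplicit false
universe u
open Polynomial
open WDiv

namespace Groth.Agent.S10898

/-- Let A be a Noetherian integral domain and P a prime ideal of height 1 of the polynomial ring A[X].
Then either P meets A in 0 only, or its contraction p = P ∩ A is a prime of height 1 of A and P is
the extension p·A[X]. (The published lemma also assumes A regular in codimension 1; that hypothesis
is not used for this assertion.) -/
theorem result (A : Type u) [CommRing A] [IsDomain A]
    [IsNoetherianRing A] (P : Ideal A[X]) [P.IsPrime] (hP : P.height = 1) :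
    P.comap (C : A →+* A[X]) = ⊥ ∨
      ((P.comap (C : A →+* A[X])).height = 1 ∧ P = (P.comap (C : A →+* A[X])).map C) := by
  by_cases h0 : P.comap (C : A →+* A[X]) = ⊥
  · exact Or.inl h0
  refine Or.inr ?_
  set p := P.comap (C : A →+* A[X]) with hp
  have : p.IsPrime := Ideal.IsPrime.comap (C : A →+* A[X])
  have hmap : (p.map (C : A →+* A[X])).IsPrime := Ideal.isPrime_map_C_of_isPrime
  have hle : p.map (C : A →+* A[X]) ≤ P := Ideal.map_comap_le
  have hne : p.map (C : A →+* A[X]) ≠ ⊥ := by
    rw [Ne, Ideal.map_eq_bot_iff_of_injective Polynomial.C_injective]; exact h0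
  have heq : p.map (C : A →+* A[X]) = P := by
    by_contra hcon
    have hlt := lt_of_le_of_ne hle hcon
    have h1 := Ideal.height_strict_mono_of_isPrime_of_isPrime hlt
    rw [hP] at h1
    exact hne (by simpa using h1)
  refine ⟨le_antisymm ?_ ?_, heq.symm⟩
  · by_contra hcon
    rw [not_le] at hcon
    obtain ⟨q, hqp, hq, hqh⟩ : ∃ q, q < p ∧ q.IsPrime ∧ q ≠ ⊥ := by
      by_contra hno
      push Not at hno
      refine absurd hcon (not_lt.mpr ?_)
      exact (Ideal.height_le_iff (n := 1)).mpr fun q hq hlt => by
        rw [hno q hlt hq, Ideal.height_bot]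
        exact_mod_cast zero_lt_one
    have hmq : (q.map (C : A →+* A[X])).IsPrime := Ideal.isPrime_map_C_of_isPrime
    have hlt : q.map (C : A →+* A[X]) < P := by
      refine lt_of_le_of_ne ((Ideal.map_mono hqp.le).trans hle) fun e => ?_
      have : p ≤ q := by
        intro a ha
        have : C a ∈ q.map (C : A →+* A[X]) := by rw [e]; exact ha
        rw [Ideal.mem_map_C_iff] at this
        simpa using this 0
      exact absurd (hqp.trans_le this) (lt_irrefl q)
    have h1 := Ideal.height_strict_mono_of_isPrime_of_isPrime hlt
    rw [hP] at h1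
    exact hqh ((Ideal.map_eq_bot_iff_of_injective Polynomial.C_injective).mp (by simpa using h1))
  · rw [Order.one_le_iff_pos, pos_iff_ne_zero, Ne, Ideal.height_eq_zero_iff_eq_bot]
    exact h0

end Groth.Agent.S10898
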