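import Groth.Statements.S1090
import Groth.Agent.S1084

set_option autoImplicit false
universe v u
open CategoryTheory CategoryTheory.Limits Opposite
open FilD

open Groth.Agent.FilDLib

namespace Groth.Agent.S1090

set_option backward.isDefEq.respectTransparency false
set_option backward.defeqAttrib.useBackward true

/-- Let A be an abelian category with enough injectives, f : X ⟶ Y a morphism of finite filtered
objects, and X[0] ⟶ I, Y[0] ⟶ J filtered quasi-isomorphisms into complexes of filtered injective
objects vanishing in negative degrees. Then there is a morphism of complexes I ⟶ J making the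
evident square with f[0] commute. -/
theorem result {A : Type u} [Category.{v} A] [Abelian A] [EnoughInjectives A] {X Y : FilD.FilF A} (f : X ⟶ Y)
    (I : CochainComplex (FilD.FilF A) ℤ) [I.IsStrictlyGE 0] (hI : ∀ n, FilD.IsFilteredInjective (I.X n))
    (a : (CochainComplex.singleFunctor (FilD.FilF A) 0).obj X ⟶ I) (ha : FilD.IsFilteredQuasiIso a)
    (J : CochainComplex (FilD.FilF A) ℤ) [J.IsStrictlyGE 0] (hJ : ∀ n, FilD.IsFilteredInjective (J.X n))
    (b : (CochainComplex.singleFunctor (FilD.FilF A) 0).obj Y ⟶ J) (hb : FilD.IsFilteredQuasiIso b) :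
    ∃ φ : I ⟶ J, a ≫ φ = (CochainComplex.singleFunctor (FilD.FilF A) 0).map f ≫ b := by
  let Q := HomotopyCategory.quotient (FilD.FilF A) (ComplexShape.up ℤ)
  let S0 := CochainComplex.singleFunctor (FilD.FilF A) 0
  obtain ⟨β, hβ⟩ := (Groth.Agent.S1084.result J 0 hJ a ha).2 (Q.map (S0.map f ≫ b))
  obtain ⟨φ, rfl⟩ := Q.map_surjective β
  refine ⟨φ, ?_⟩
  have h := HomotopyCategory.homotopyOfEq (a ≫ φ) (S0.map f ≫ b) (by rw [Q.map_comp]; exact hβ)
  refine HomologicalComplex.from_single_hom_ext ?_
  have h0 := h.comm 0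
  rw [dNext_eq h.hom (show (ComplexShape.up ℤ).Rel 0 1 by simp), prevD_eq h.hom (show (ComplexShape.up ℤ).Rel (-1) 0 by simp),
    (J.isZero_of_isStrictlyGE 0 (-1) (by omega)).eq_of_tgt (h.hom 0 (-1)) 0] at h0
  simpa [S0, CochainComplex.singleFunctor, CochainComplex.singleFunctors] using h0

end Groth.Agent.S1090
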