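import Groth.Statements.S7619
import Mathlib
-- import your own Groth.Agent.* helpers here

set_option autoImplicit false
universe u
open CategoryTheory CategoryTheory.Limits AlgebraicGeometry
open scoped TensorProduct
open Variety TensorProduct

namespace Groth.Agent.S7619

/-- Let A → B be a finite type ring map (a finite type morphism of affine schemes), q a prime of B and r
= dim_{κ(q)} Ω_{B/A} ⊗_B κ(q). Then there is an A-algebra homomorphism A[x_1, …, x_r] → B for which
B is unramified over A[x_1, …, x_r] at q. -/
theorem result (A B : Type u) [CommRing A] [CommRing B] [Algebra A B] [Algebra.FiniteType A B]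
    (q : Ideal B) [q.IsPrime] (r : ℕ) (hr : Module.finrank q.ResidueField (q.ResidueField ⊗[B] Ω[B⁄A]) = r) :
    ∃ φ : MvPolynomial (Fin r) A →ₐ[A] B,
      letI := φ.toRingHom.toAlgebra
      Algebra.IsUnramifiedAt (MvPolynomial (Fin r) A) q := by
  classical
  set K := q.ResidueField
  let G : Set (K ⊗[B] Ω[B⁄A]) := Set.range fun b : B => (1 : K) ⊗ₜ[B] KaehlerDifferential.D A B b
  have hG : Submodule.span K G = ⊤ := by
    have h := Submodule.baseChange_span (R := B) (A := K) (M := Ω[B⁄A]) (Set.range (KaehlerDifferential.D A B))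
    rw [KaehlerDifferential.span_range_derivation, Submodule.baseChange_top] at h
    rw [h, ← Set.range_comp]
    rfl
  obtain ⟨f, hfG, hfspan, -⟩ := Submodule.exists_fun_fin_finrank_span_eq K G
  have e : r = Module.finrank K (Submodule.span K G) := by rw [hG, finrank_top, hr]
  choose b hb using fun i : Fin r => hfG (Fin.cast e i)
  refine ⟨MvPolynomial.aeval b, ?_⟩
  set P := MvPolynomial (Fin r) A
  letI := (MvPolynomial.aeval b : P →ₐ[A] B).toRingHom.toAlgebra
  haveI : IsScalarTower A P B := IsScalarTower.of_algebraMap_eq fun a => ((MvPolynomial.aeval b : P →ₐ[A] B).commutes a).symm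
  haveI : Algebra.FiniteType P B := Algebra.FiniteType.of_restrictScalars_finiteType A P B
  change (⟨q, ‹_›⟩ : PrimeSpectrum B) ∈ Algebra.unramifiedLocus P B
  rw [Algebra.unramifiedLocus_eq_compl_support, Set.mem_compl_iff,
    Module.mem_support_iff_nontrivial_residueField_tensorProduct, not_nontrivial_iff_subsingleton]
  let m := (KaehlerDifferential.map A P B B).baseChange K
  have hsurj : Function.Surjective m :=
    LinearMap.lTensor_surjective K (KaehlerDifferential.map_surjective A P B)
  have hm : Submodule.span K (Set.range f) ≤ LinearMap.ker m := Submodule.span_le.2 fun x hx => by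
    obtain ⟨i, rfl⟩ := hx
    have hi := hb (Fin.cast e.symm i)
    simp only [Fin.cast_cast, Fin.cast_refl, id_eq] at hi
    rw [SetLike.mem_coe, LinearMap.mem_ker, ← hi]
    simp only [m, LinearMap.baseChange_tmul, KaehlerDifferential.map_D, Algebra.algebraMap_self, RingHom.id_apply]
    rw [show b (Fin.cast e.symm i) = algebraMap P B (MvPolynomial.X (Fin.cast e.symm i)) from
      (MvPolynomial.aeval_X b _).symm, Derivation.map_algebraMap, TensorProduct.tmul_zero]
  rw [hfspan, hG] at hm
  refine subsingleton_iff_forall_eq (0 : K ⊗[B] Ω[B⁄P]) |>.2 fun y => ?_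
  obtain ⟨x, rfl⟩ := hsurj y
  exact hm (Submodule.mem_top (x := x))

end Groth.Agent.S7619
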