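import Groth.Statements.S10902
import Groth.Agent.S7619
import Groth.Agent.DimTheory.Algebra
-- import your own Groth.Agent.* helpers here

set_option autoImplicit false
universe u
open TensorProduct
open SmVar

namespace Groth.Agent.S10902

/-- Let k be a field and A a k-algebra of finite type (X = Spec A a k-scheme of finite type), P a prime
ideal of A, and suppose P contains a prime q with dim A/q ≥ n, i.e. the point P lies on an
irreducible component of X of dimension at least n. Then the fibre at P of the sheaf of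
differentials of X over k has dimension at least n over the residue field: dim_{κ(P)} (κ(P) ⊗_A
Ω_{A/k}) ≥ n. (The published statement asks every irreducible component of X to have dimension ≥ n
and concludes this at every point.) -/
theorem result (k : Type u) [Field k]
    (A : Type u) [CommRing A] [Algebra k A] [Algebra.FiniteType k A] (n : ℕ)
    (P : Ideal A) [P.IsPrime] (q : Ideal A) [q.IsPrime] (hqP : q ≤ P)
    (hq : (n : WithBot ℕ∞) ≤ ringKrullDim (A ⧸ q)) :
    n ≤ Module.finrank P.ResidueField (P.ResidueField ⊗[A] (Ω[A⁄k])) := by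
  classical
  obtain ⟨φ, hφ⟩ := Groth.Agent.S7619.result k A P _ rfl
  generalize Module.finrank P.ResidueField (P.ResidueField ⊗[A] Ω[A⁄k]) = r at φ hφ ⊢
  letI := φ.toRingHom.toAlgebra
  haveI : IsScalarTower k (MvPolynomial (Fin r) k) A :=
    IsScalarTower.of_algebraMap_eq fun x => (φ.commutes x).symm
  haveI : Algebra.FiniteType (MvPolynomial (Fin r) k) A :=
    Algebra.FiniteType.of_restrictScalars_finiteType k _ A
  obtain ⟨f, hfP, hf⟩ := @Algebra.exists_formallyUnramified_of_isUnramifiedAt (MvPolynomial (Fin r) k) A _ _ _ _ P _ hφ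
  have hsub := (Algebra.basicOpen_subset_unramifiedLocus_iff (R := MvPolynomial (Fin r) k) (f := f)).2 hf
  haveI := Algebra.FiniteType.isNoetherianRing k A
  haveI : IsJacobsonRing (A ⧸ q) := isJacobsonRing_of_finiteType (A := k)
  obtain ⟨m, hm, hfm⟩ : ∃ m : Ideal (A ⧸ q), m.IsMaximal ∧ Ideal.Quotient.mk q f ∉ m := by
    by_contra! hall
    have h0 : Ideal.Quotient.mk q f ∈ (⊥ : Ideal (A ⧸ q)).jacobson :=
      Ideal.mem_sInf.2 fun {J} hJ => hall J hJ.2
    rw [IsJacobsonRing.out ‹IsJacobsonRing (A ⧸ q)› (I := ⊥) Ideal.isPrime_bot.isRadical] at h0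
    exact hfP (hqP (Ideal.Quotient.eq_zero_iff_mem.1 (Ideal.mem_bot.1 h0)))
  let x : PrimeSpectrum (A ⧸ q) := ⟨m, hm.isPrime⟩
  let ψ : Set.Iic x → PrimeSpectrum (MvPolynomial (Fin r) k) := fun y =>
    PrimeSpectrum.comap ((Ideal.Quotient.mk q).comp (algebraMap (MvPolynomial (Fin r) k) A)) y.1
  have hψ : StrictMono ψ := by
    intro a b hab
    refine lt_of_le_of_ne (Ideal.comap_mono hab.le) fun he => hab.ne ?_
    let P₁ := a.1.asIdeal.comap (Ideal.Quotient.mk q)
    let P₂ := b.1.asIdeal.comap (Ideal.Quotient.mk q)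
    have hf2 : f ∉ P₂ := fun h => hfm (b.2 h)
    haveI : Algebra.IsUnramifiedAt (MvPolynomial (Fin r) k) P₂ :=
      hsub (show (⟨P₂, inferInstance⟩ : PrimeSpectrum A) ∈ PrimeSpectrum.basicOpen f from hf2)
    haveI : Algebra.QuasiFiniteAt (MvPolynomial (Fin r) k) P₂ :=
      (inferInstance : Algebra.QuasiFinite (MvPolynomial (Fin r) k) (Localization.AtPrime P₂))
    have h12 : P₁ = P₂ := Algebra.QuasiFiniteAt.eq_of_le_of_under_eq (R := MvPolynomial (Fin r) k)
      (Ideal.comap_mono hab.le) (congrArg PrimeSpectrum.asIdeal he)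
    exact Subtype.ext (PrimeSpectrum.ext (Ideal.comap_injective_of_surjective _ Ideal.Quotient.mk_surjective h12))
  have h := Order.krullDim_le_of_strictMono ψ hψ
  rw [← Order.height_eq_krullDim_Iic, ← PrimeSpectrum.height_eq_orderHeight x,
    Groth.Agent.DimTheory.height_maximal k (A ⧸ q) m] at h
  have hr' : ringKrullDim (MvPolynomial (Fin r) k) = r := Groth.Agent.DimTheory.ringKrullDim_mvPolynomial_fin k r
  exact_mod_cast hq.trans (h.trans hr'.le)

end Groth.Agent.S10902
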