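import Groth.Statements.S10903
import Mathlib.RingTheory.RegularLocalRing.Polynomial
import Groth.Agent.LocCohBasic.RegularPd
import Groth.Agent.Depth.SeqDepth
-- import your own Groth.Agent.* helpers here

set_option autoImplicit false
universe u
open CInt

namespace Groth.Agent.S10903

open MvPolynomial

section aux

variable (k : Type u) [Field k] (N : ℕ)

/-- Kill the first `i` variables. -/
noncomputable def killVar (i : ℕ) : MvPolynomial (Fin N) k →ₐ[k] MvPolynomial (Fin N) k :=
  aeval fun j => if (j : ℕ) < i then 0 else MvPolynomial.X j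

lemma isPrime_idealOfVars : (idealOfVars (Fin N) k).IsPrime := by
  have h : RingHom.ker (killVar k N N).toRingHom = idealOfVars (Fin N) k := by
    have hC : ∀ p : MvPolynomial (Fin N) k, killVar k N N p = MvPolynomial.C (constantCoeff p) := fun p => by
      induction p using MvPolynomial.induction_on with
      | C a => simp [killVar]
      | add p q hp hq => simp [map_add, hp, hq]
      | mul_X p i hp => simp [map_mul, killVar]
    ext p
    rw [← pow_one (idealOfVars (Fin N) k), mem_pow_idealOfVars_iff', RingHom.mem_ker,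
      AlgHom.toRingHom_eq_coe, RingHom.coe_coe, hC, map_eq_zero_iff _ (MvPolynomial.C_injective _ _)]
    refine ⟨fun h x hx => ?_, fun h => h 0 (by simp)⟩
    rw [(Finsupp.degree_eq_zero_iff x).mp (by omega), ← h]
    rfl
  exact h ▸ RingHom.ker_isPrime _

lemma ker_killVar_le (i : ℕ) : RingHom.ker (killVar k N i).toRingHom ≤ idealOfVars (Fin N) k := by
  intro p hp
  rw [← pow_one (idealOfVars (Fin N) k), mem_pow_idealOfVars_iff']
  intro x hx
  rw [(Finsupp.degree_eq_zero_iff x).mp (by omega)]
  have key : ∀ q : MvPolynomial (Fin N) k, constantCoeff (killVar k N i q) = constantCoeff q := fun q => by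
    clear hp
    induction q using MvPolynomial.induction_on with
    | C a => simp [killVar]
    | add p q hp hq => simp [map_add, hp, hq]
    | mul_X p j hp =>
      rcases lt_or_ge (j : ℕ) i with h | h
      · simp [map_mul, killVar, h]
      · simp [map_mul, killVar, not_lt.mpr h]
  have := key p
  rw [AlgHom.toRingHom_eq_coe, RingHom.mem_ker, RingHom.coe_coe] at hp
  rw [hp, map_zero] at this
  exact this.symm

lemma le_height_idealOfVars : (N : ℕ∞) ≤ (idealOfVars (Fin N) k).height := by
  have hp : ∀ i, (RingHom.ker (killVar k N i).toRingHom).IsPrime := fun i => RingHom.ker_isPrime _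
  suffices ∀ i ≤ N, (i : ℕ∞) ≤ (RingHom.ker (killVar k N i).toRingHom).height from
    (this N le_rfl).trans (Ideal.height_mono (ker_killVar_le k N N))
  intro i hi
  induction i with
  | zero => simp
  | succ i ih =>
    have := hp i
    have := hp (i + 1)
    have hlt : RingHom.ker (killVar k N i).toRingHom < RingHom.ker (killVar k N (i + 1)).toRingHom := by
      refine SetLike.lt_iff_le_and_exists.mpr ⟨fun p hp => ?_, MvPolynomial.X ⟨i, hi⟩, ?_, ?_⟩
      · have hcomp : (killVar k N (i + 1)).comp (killVar k N i) = killVar k N (i + 1) := by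
          refine MvPolynomial.algHom_ext fun j => ?_
          rcases lt_or_ge (j : ℕ) i with h | h
          · simp [killVar, h, show ¬ i < (j : ℕ) by omega]
          · simp [killVar, not_lt.mpr h]
        rw [AlgHom.toRingHom_eq_coe, RingHom.mem_ker, RingHom.coe_coe] at hp ⊢
        rw [← hcomp, AlgHom.comp_apply, hp, map_zero]
      · simp [killVar]
      · simp [killVar]
    exact le_trans (by rw [Nat.cast_succ]; exact add_le_add (ih (by omega)) le_rfl)
      (Ideal.height_add_one_le_of_lt_of_isPrime hlt)

end aux

/-- Let k be a field, S = k[x_0, …, x_n], and f_1, …, f_r with r ≤ n homogeneous polynomials of positive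
degrees whose ideal J = (f_1, …, f_r) has height r — the subscheme of P^n_k cut out by the
hypersurfaces f_i = 0 has codimension r, an ideal-theoretic complete intersection. Then J is
saturated with respect to the irrelevant ideal (x_0, …, x_n): an element g of S such that, for each
i, x_i^m g ∈ J for some m, already lies in J. Hence J is the full homogeneous ideal of that
subscheme (a global complete intersection). -/
theorem result (k : Type u) [Field k] (n r : ℕ)
    (hr : r ≤ n) (f : Fin r → MvPolynomial (Fin (n + 1)) k) (d : Fin r → ℕ)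
    (hf : ∀ i, (f i).IsHomogeneous (d i)) (hd : ∀ i, 0 < d i)
    (hJ : (Ideal.span (Set.range f)).height = r) (g : MvPolynomial (Fin (n + 1)) k)
    (hg : ∀ i : Fin (n + 1), ∃ m : ℕ, MvPolynomial.X i ^ m * g ∈ Ideal.span (Set.range f)) :
    g ∈ Ideal.span (Set.range f) := by
  classical
  set J := Ideal.span (Set.range f) with hJdef
  let R := MvPolynomial (Fin (n + 1)) k
  let m := idealOfVars (Fin (n + 1)) k
  have hm : m.IsPrime := isPrime_idealOfVars k (n + 1)
  let S := Localization.AtPrime m
  have hSreg : IsRegularLocalRing S := IsRegularRing.isRegularLocalRing_localization (R := R) m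
  have : LocCoh.IsCohenMacaulayLocalRing S := LocCohBasic.isCohenMacaulayLocalRing_of_isRegularLocalRing
  have : LocCoh.IsCohenMacaulayRing S := Depth.isCohenMacaulayRing_of_local
  -- the colon ideal
  let K : Ideal R := J.colon {g}
  have hK : m ≤ K.radical := by
    refine Ideal.span_le.mpr ?_
    rintro _ ⟨i, rfl⟩
    obtain ⟨a, ha⟩ := hg i
    exact ⟨a, Submodule.mem_colon_singleton.mpr (by simpa [mul_comm] using ha)⟩
  suffices ∃ s, s ∉ m ∧ s * g ∈ J by
    obtain ⟨s, hs, hsg⟩ := this
    by_contra hgJ
    have hKtop : K ≠ ⊤ := fun h => hgJ (by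
      simpa using Submodule.mem_colon_singleton.mp (h ▸ Submodule.mem_top : (1 : R) ∈ K))
    obtain ⟨P, hP, hKP⟩ := Ideal.exists_le_maximal K hKtop
    have hmP : m ≤ P := hK.trans ((Ideal.radical_mono hKP).trans hP.isPrime.radical.le)
    have hmmax : m.IsMaximal := by
      have he : m = RingHom.ker (constantCoeff : R →+* k) := by
        ext p
        rw [show m = m ^ 1 from (pow_one m).symm, mem_pow_idealOfVars_iff', RingHom.mem_ker]
        refine ⟨fun h => h 0 (by simp), fun h x hx => ?_⟩
        rw [(Finsupp.degree_eq_zero_iff x).mp (by omega), ← h]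
        rfl
      rw [he]
      exact RingHom.ker_isMaximal_of_surjective _ fun c => ⟨MvPolynomial.C c, constantCoeff_C _ c⟩
    exact hs ((hmmax.eq_of_le hP.ne_top hmP) ▸ hKP (Submodule.mem_colon_singleton.mpr (by simpa using hsg)))
  let φ := algebraMap R S
  let ys := (List.ofFn f).map φ
  have hJle : J ≤ m := by
    rw [hJdef, Ideal.span_le]
    rintro _ ⟨i, rfl⟩
    change f i ∈ m
    rw [show m = m ^ 1 from (pow_one m).symm, mem_pow_idealOfVars_iff']
    intro x hx
    refine (hf i).coeff_eq_zero (d := x) ?_
    have := hd i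
    omega
  have hys : ∀ y ∈ ys, y ∈ IsLocalRing.maximalIdeal S := by
    intro y hy
    obtain ⟨x, hx, rfl⟩ := List.mem_map.mp hy
    obtain ⟨i, rfl⟩ := List.mem_ofFn.mp hx
    exact (IsLocalization.AtPrime.to_map_mem_maximal_iff S m _).mpr (hJle (Ideal.subset_span ⟨i, rfl⟩))
  have hofList : Ideal.ofList ys = J.map φ := by
    simp only [ys, ← Ideal.map_ofList, hJdef, Ideal.ofList]
    congr 2
    ext x
    simp [List.mem_ofFn]
  have hlen : ys.length = r := by simp [ys]
  have hge : (r : ℕ∞) ≤ LocCoh.idealDepth (Ideal.ofList ys) S := by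
    rw [Depth.idealDepth_eq_height, hofList, Ideal.height_eq_inf_minimalPrimes]
    refine le_iInf₂ fun Q hQ => ?_
    have := hQ.isPrime
    rw [← IsLocalization.height_under m.primeCompl Q, ← hJ]
    exact Ideal.height_mono (Ideal.map_le_iff_le_comap.mp hQ.1.2)
  have hreg : RingTheory.Sequence.IsWeaklyRegular S ys :=
    (Depth.idealDepth_ofList_eq_length_iff ys hys).mp
      (le_antisymm (Depth.idealDepth_ofList_le_length ys hys) (by rw [hlen]; exact hge))
  have hdim := Depth.idealDepth_quot_ofList_add_length ys S hreg hys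
  have hdepth : ((n + 1 : ℕ) : ℕ∞) ≤ LocCoh.idealDepth (IsLocalRing.maximalIdeal S) S := by
    rw [Depth.idealDepth_eq_height, ← Localization.AtPrime.map_eq_maximalIdeal,
      IsLocalization.height_map_of_disjoint m.primeCompl m (Set.disjoint_compl_left_iff_subset.mpr le_rfl)]
    exact le_height_idealOfVars k (n + 1)
  rw [← hdim, hlen] at hdepth
  let Q := S ⧸ Ideal.ofList ys • (⊤ : Submodule S S)
  have h1 : 1 ≤ LocCoh.idealDepth (IsLocalRing.maximalIdeal S) Q := by
    change _ ≤ LocCoh.idealDepth (IsLocalRing.maximalIdeal S) Q + _ at hdepth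
    cases hq : LocCoh.idealDepth (IsLocalRing.maximalIdeal S) Q using ENat.recTopCoe with
    | top => exact le_top
    | coe a => rw [hq] at hdepth; norm_cast at hdepth ⊢; omega
  have hne : IsLocalRing.maximalIdeal S • (⊤ : Submodule S Q) ≠ ⊤ := by
    have : Nontrivial Q := by
      refine Submodule.Quotient.nontrivial_iff.mpr ?_
      rw [smul_eq_mul, Ideal.mul_top]
      exact ne_top_of_le_ne_top (IsLocalRing.maximalIdeal.isMaximal S).ne_top (Ideal.span_le.mpr hys)
    exact Depth.maximalIdeal_smul_top_ne_top
  obtain ⟨y, hy, hyreg⟩ := (Depth.one_le_idealDepth_iff hne).mp h1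
  have hy' : y ∈ (K.map φ).radical := Ideal.map_radical_le φ
    (Ideal.map_mono hK (by rwa [Localization.AtPrime.map_eq_maximalIdeal]))
  obtain ⟨a, ha⟩ := hy'
  have hgQ : (Submodule.Quotient.mk (φ g) : Q) = 0 := by
    refine (hyreg.pow a) ?_
    change y ^ a • (Submodule.Quotient.mk (φ g) : Q) = y ^ a • 0
    rw [smul_zero, ← Submodule.Quotient.mk_smul, Submodule.Quotient.mk_eq_zero, smul_eq_mul, smul_eq_mul,
      Ideal.mul_top, hofList]
    have : K.map φ * Ideal.span {φ g} ≤ J.map φ := by
      rw [← Set.image_singleton, ← Ideal.map_span, ← Ideal.map_mul]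
      refine Ideal.map_mono (Ideal.mul_le.mpr fun u hu v hv => ?_)
      obtain ⟨c, rfl⟩ := Ideal.mem_span_singleton'.mp hv
      rw [mul_left_comm]
      exact Ideal.mul_mem_left _ _ (by simpa using Submodule.mem_colon_singleton.mp hu)
    exact this (Ideal.mul_mem_mul ha (Ideal.mem_span_singleton_self _))
  rw [Submodule.Quotient.mk_eq_zero, smul_eq_mul, Ideal.mul_top, hofList,
    IsLocalization.algebraMap_mem_map_algebraMap_iff m.primeCompl] at hgQ
  obtain ⟨s, hs, hsg⟩ := hgQ
  exact ⟨s, hs, hsg⟩

end Groth.Agent.S10903
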