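import Groth.Statements.S10904
import Mathlib.Algebra.Polynomial.Taylor
import Mathlib.Algebra.Polynomial.Roots
import Mathlib.RingTheory.MvPolynomial.Homogeneous
import Mathlib.LinearAlgebra.FiniteDimensional.Lemmas
-- import your own Groth.Agent.* helpers here

set_option autoImplicit false
universe u
open Polynomial
open ProjDeg

namespace Groth.Agent.S10904

/-- Let k be a field, R = k[X_0, …, X_n] graded by degree, I a homogeneous prime ideal of R, f a
homogeneous element of degree d ≥ 1 not in I, and I' = I + (f). Let P be the Hilbert polynomial of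
R/I and Q that of R/I': rational polynomials whose value at every large integer m is the k-dimension
of the degree-m piece, i.e. dim R_m − dim (I ∩ R_m). Assume P has degree at least 1, i.e. the
projective variety V(I) ⊆ P^n_k has dimension ≥ 1. Then Q has degree deg P − 1, and the degrees of
the projective schemes, (degree of the Hilbert polynomial)! times its leading coefficient, satisfy
deg V(I') = d · deg V(I). (The published statement has no dimension hypothesis; for V(I) a single
point the left side is 0 and the right side is d · deg V(I) ≠ 0, and the printed proof uses dim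
V(I') = dim V(I) − 1.) -/
theorem result (k : Type u) [Field k] (n : ℕ)
    (I : Ideal (MvPolynomial (Fin (n + 1)) k)) (hIh : I.IsHomogeneous (CohB1.polyGrading n k)) [I.IsPrime]
    (f : MvPolynomial (Fin (n + 1)) k) (d : ℕ) (hd : 0 < d) (hf : f.IsHomogeneous d) (hfI : f ∉ I)
    (P Q : ℚ[X])
    (hP : ∃ m₀ : ℕ, ∀ m : ℕ, m₀ ≤ m → P.eval (m : ℚ) =
      (Module.finrank k ↥(CohB1.polyGrading n k m) : ℚ) -
        Module.finrank k ↥(Submodule.restrictScalars k I ⊓ CohB1.polyGrading n k m))
    (hQ : ∃ m₀ : ℕ, ∀ m : ℕ, m₀ ≤ m → Q.eval (m : ℚ) =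
      (Module.finrank k ↥(CohB1.polyGrading n k m) : ℚ) -
        Module.finrank k ↥(Submodule.restrictScalars k (I ⊔ Ideal.span {f}) ⊓ CohB1.polyGrading n k m))
    (hdim : 1 ≤ P.natDegree) :
    Q.natDegree + 1 = P.natDegree ∧
      (Q.natDegree.factorial : ℚ) * Q.leadingCoeff =
        d * ((P.natDegree.factorial : ℚ) * P.leadingCoeff) := by
  classical
  obtain ⟨m₁, hP⟩ := hP
  obtain ⟨m₂, hQ⟩ := hQ
  let 𝒜 := CohB1.polyGrading n k
  haveI : ∀ j, Module.Finite k (𝒜 j) := fun j =>
    Module.Finite.iff_fg.2 (MvPolynomial.homogeneousSubmodule_fg (σ := Fin (n + 1)) (R := k) j)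
  have hf' : f ∈ 𝒜 d := hf
  have hrec : ∀ m : ℕ, m₁ + m₂ + d ≤ m → Q.eval (m : ℚ) = P.eval (m : ℚ) - P.eval ((m - d : ℕ) : ℚ) := by
    intro m hm
    rw [hP m (by omega), hP (m - d) (by omega), hQ m (by omega)]
    let μ := LinearMap.mulLeft k f
    have hμ : Function.Injective μ := fun a b h => mul_left_cancel₀ (fun h0 : f = 0 => hfI (h0 ▸ I.zero_mem)) h
    let A := Submodule.restrictScalars k I ⊓ 𝒜 m
    let B := (𝒜 (m - d)).map μ
    haveI : Module.Finite k A := Submodule.finiteDimensional_of_le (inf_le_right : A ≤ 𝒜 m)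
    haveI : Module.Finite k B := Module.Finite.map _ _
    have hBm : B ≤ 𝒜 m := by
      rintro _ ⟨b, hb, rfl⟩
      have := SetLike.mul_mem_graded hf' hb
      rwa [Nat.add_sub_cancel' (by omega : d ≤ m)] at this
    have hsup : Submodule.restrictScalars k (I ⊔ Ideal.span {f}) ⊓ 𝒜 m = A ⊔ B := by
      refine le_antisymm ?_ (sup_le (inf_le_inf_right _ fun x hx => Ideal.mem_sup_left hx) (le_inf ?_ hBm))
      · rintro x ⟨hx, hxm⟩
        obtain ⟨i, hi, y, hy, rfl⟩ := Submodule.mem_sup.1 hx
        obtain ⟨r, rfl⟩ := Ideal.mem_span_singleton'.1 hy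
        rw [← DirectSum.decompose_of_mem_same 𝒜 hxm, DirectSum.decompose_add, DirectSum.add_apply, Submodule.coe_add]
        refine Submodule.add_mem_sup ⟨hIh m hi, SetLike.coe_mem _⟩ ⟨(DirectSum.decompose 𝒜 r (m - d) : _), SetLike.coe_mem _, ?_⟩
        rw [mul_comm r f, DirectSum.coe_decompose_mul_of_left_mem 𝒜 m hf', if_pos (by omega : d ≤ m)]
        rfl
      · rintro _ ⟨b, -, rfl⟩
        exact Ideal.mem_sup_right (Ideal.mul_mem_right b _ (Ideal.mem_span_singleton_self f))
    have hinf : A ⊓ B = (Submodule.restrictScalars k I ⊓ 𝒜 (m - d)).map μ := by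
      refine le_antisymm ?_ ?_
      · rintro _ ⟨⟨hx, -⟩, b, hb, rfl⟩
        exact ⟨b, ⟨((‹I.IsPrime›).mem_or_mem hx).resolve_left hfI, hb⟩, rfl⟩
      · rintro _ ⟨b, ⟨hb, hb'⟩, rfl⟩
        exact ⟨⟨Ideal.mul_mem_left _ f hb, hBm ⟨b, hb', rfl⟩⟩, b, hb', rfl⟩
    have hd1 := Submodule.finrank_sup_add_finrank_inf_eq A B
    rw [hinf, (Submodule.equivMapOfInjective μ hμ _).symm.finrank_eq] at hd1
    have hBdim : Module.finrank k B = Module.finrank k (𝒜 (m - d)) :=
      (Submodule.equivMapOfInjective μ hμ _).symm.finrank_eq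
    rw [hBdim] at hd1
    have hd2 := congrArg (fun j : ℕ => (j : ℚ)) hd1
    simp only [Nat.cast_add] at hd2
    rw [hsup]
    simp only [A, 𝒜] at hd2 ⊢
    linarith
  let T := Polynomial.taylor (-(d : ℚ)) P
  have hQP : Q = P - T := by
    refine Polynomial.eq_of_infinite_eval_eq _ _ (Set.Infinite.mono ?_ ((Set.Ici_infinite (m₁ + m₂ + d)).image Nat.cast_injective.injOn))
    rintro _ ⟨m, hm, rfl⟩
    have hm' : m₁ + m₂ + d ≤ m := hm
    show Q.eval (m : ℚ) = (P - T).eval (m : ℚ)
    rw [hrec m hm', Polynomial.eval_sub, show T.eval (m : ℚ) = P.eval ((m : ℚ) - d) from by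
      simp [T, Polynomial.taylor_apply, sub_eq_add_neg], Nat.cast_sub (by omega : d ≤ m)]
  obtain ⟨N, hN⟩ : ∃ N, P.natDegree = N + 1 := ⟨P.natDegree - 1, by omega⟩
  have hlin : T.coeff N = P.coeff N - ((N : ℚ) + 1) * d * P.coeff (N + 1) := by
    rw [Polynomial.taylor_coeff,
      Polynomial.eval_eq_sum_range' (show (Polynomial.hasseDeriv N P).natDegree < 2 from by
        have := Polynomial.natDegree_hasseDeriv_le P N; omega)]
    simp [Finset.sum_range_succ, Polynomial.hasseDeriv_coeff, Nat.choose_succ_self_right, add_comm 1 N]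
    ring
  have hhigh : ∀ j, N + 1 ≤ j → T.coeff j = P.coeff j := fun j hj => by
    rw [Polynomial.taylor_coeff,
      Polynomial.eval_eq_sum_range' (show (Polynomial.hasseDeriv j P).natDegree < 1 from by
        have := Polynomial.natDegree_hasseDeriv_le P j; omega)]
    simp [Polynomial.hasseDeriv_coeff]
  have ha : P.coeff (N + 1) ≠ 0 := by
    rw [← hN]
    exact Polynomial.leadingCoeff_ne_zero.2 fun h => by simp [h] at hdim
  have hQN : Q.coeff N = ((N : ℚ) + 1) * d * P.coeff (N + 1) := by
    rw [hQP, Polynomial.coeff_sub, hlin]; ring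
  have hQdeg : Q.natDegree = N := by
    refine le_antisymm (Polynomial.natDegree_le_iff_coeff_eq_zero.2 fun j hj => ?_) (Polynomial.le_natDegree_of_ne_zero ?_)
    · rw [hQP, Polynomial.coeff_sub, hhigh j (by omega), sub_self]
    · rw [hQN]
      have : (d : ℚ) ≠ 0 := by exact_mod_cast hd.ne'
      exact mul_ne_zero (mul_ne_zero (by positivity) this) ha
  refine ⟨by omega, ?_⟩
  rw [Polynomial.leadingCoeff, hQdeg, hQN, Polynomial.leadingCoeff, hN, Nat.factorial_succ]
  push_cast
  ring

end Groth.Agent.S10904
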