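import Groth.Statements.S1091
import Groth.Agent.S1084

set_option autoImplicit false
universe v u
open CategoryTheory CategoryTheory.Limits Opposite
open FilD

open Groth.Agent.FilDLib

namespace Groth.Agent.S1091

set_option backward.isDefEq.respectTransparency false
set_option backward.defeqAttrib.useBackward true

section

variable {A : Type u} [Category.{v} A] [Abelian A]

lemma exists_desc_shortExact {S : ShortComplex (FilD.FilF A)}
    (hS : ∀ p : ℤ, (S.map ((FilD.IsFinFil A).ι ⋙ (evaluation ℤᵒᵖ A).obj (op p))).ShortExact)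
    {W : FilD.FilF A} (φ : S.X₂ ⟶ W) (hφ : S.f ≫ φ = 0) : ∃ ψ : S.X₃ ⟶ W, S.g ≫ ψ = φ := by
  have hepi : ∀ p : ℤ, Epi (S.g.hom.app (op p)) := fun p => (hS p).epi_g
  have h0 : ∀ p : ℤ, S.f.hom.app (op p) ≫ φ.hom.app (op p) = 0 := fun p => by
    rw [← NatTrans.comp_app, show S.f.hom ≫ φ.hom = 0 from congrArg (fun q : S.X₁ ⟶ W => q.hom) hφ]; rfl
  let d : ∀ p : ℤ, S.X₃.obj.obj (op p) ⟶ W.obj.obj (op p) := fun p =>
    haveI := (hS p).epi_g
    (hS p).exact.desc (φ.hom.app (op p)) (h0 p)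
  have hd : ∀ p, S.g.hom.app (op p) ≫ d p = φ.hom.app (op p) := fun p =>
    haveI := (hS p).epi_g
    (hS p).exact.g_desc _ (h0 p)
  refine ⟨ObjectProperty.homMk (ofStep d fun p => ?_), (FilD.IsFinFil A).ι.map_injective ?_⟩
  · haveI := hepi (p + 1)
    rw [← cancel_epi (S.g.hom.app (op (p + 1))), ← Category.assoc, ← S.g.hom.naturality, Category.assoc, hd,
      ← Category.assoc, hd, φ.hom.naturality]
  · ext ⟨p⟩
    exact hd p

lemma strictMono_of_shortExact {S : ShortComplex (FilD.FilF A)}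
    (hS : ∀ p : ℤ, (S.map ((FilD.IsFinFil A).ι ⋙ (evaluation ℤᵒᵖ A).obj (op p))).ShortExact) :
    StrictMonoHom S.f.hom := by
  refine ⟨fun p => (hS p).mono_f, fun p T x y hxy => ?_⟩
  haveI := mono_t S.X₃.property p
  refine (hS (p + 1)).exact.exact_up_to_refinements y ?_
  change y ≫ S.g.hom.app (op (p + 1)) = 0
  rw [← cancel_mono (t S.X₃.obj p), Category.assoc, zero_comp, ← S.g.hom.naturality, ← Category.assoc]
  change (y ≫ t S.X₂.obj p) ≫ _ = 0
  rw [hxy, Category.assoc, ← NatTrans.comp_app,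
    show S.f.hom ≫ S.g.hom = 0 from congrArg (fun q : S.X₁ ⟶ S.X₃ => q.hom) S.zero]
  simp

lemma twist_comp_zero {I J : CochainComplex (FilD.FilF A) ℤ} (σ : ∀ n, J.X n ⟶ I.X (n + 1))
    (hσ : ∀ n, σ n ≫ I.d (n + 1) (n + 1 + 1) + J.d n (n + 1) ≫ σ (n + 1) = 0) (n : ℤ) :
    (biprod.desc (I.d n (n + 1) ≫ biprod.inl) (σ n ≫ biprod.inl + J.d n (n + 1) ≫ biprod.inr) :
        I.X n ⊞ J.X n ⟶ I.X (n + 1) ⊞ J.X (n + 1)) ≫
      (biprod.desc (I.d (n + 1) (n + 1 + 1) ≫ biprod.inl)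
        (σ (n + 1) ≫ biprod.inl + J.d (n + 1) (n + 1 + 1) ≫ biprod.inr) :
        I.X (n + 1) ⊞ J.X (n + 1) ⟶ I.X (n + 1 + 1) ⊞ J.X (n + 1 + 1)) = 0 := by
  refine biprod.hom_ext' _ _ ?_ ?_
  · simp
  · rw [biprod.inr_desc_assoc, Preadditive.add_comp, Category.assoc, biprod.inl_desc, Category.assoc,
      biprod.inr_desc, Preadditive.comp_add, ← Category.assoc (J.d n (n + 1)) (J.d (n + 1) (n + 1 + 1)),
      J.d_comp_d, zero_comp, add_zero, ← Category.assoc, ← Category.assoc, ← Preadditive.add_comp, hσ,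
      zero_comp, comp_zero]

end

/-- Let A be an abelian category with enough injectives and S = (X ⟶ Y ⟶ Z) a short complex of finite
filtered objects which is short exact at every filtration level (a short exact sequence of
Fil^f(A)). Given filtered quasi-isomorphisms X[0] ⟶ I and Z[0] ⟶ J into complexes of filtered
injective objects vanishing in negative degrees, there are a complex M, morphisms I ⟶ M ⟶ J which
are termwise split short exact (each Mⁿ is the direct sum of Iⁿ and Jⁿ via these maps), and a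
morphism Y[0] ⟶ M making the two squares commute. -/
theorem result {A : Type u} [Category.{v} A] [Abelian A] [EnoughInjectives A] (S : ShortComplex (FilD.FilF A))
    (hS : ∀ p : ℤ, (S.map ((FilD.IsFinFil A).ι ⋙ (evaluation ℤᵒᵖ A).obj (op p))).ShortExact)
    (I : CochainComplex (FilD.FilF A) ℤ) [I.IsStrictlyGE 0] (hI : ∀ n, FilD.IsFilteredInjective (I.X n))
    (a : (CochainComplex.singleFunctor (FilD.FilF A) 0).obj S.X₁ ⟶ I) (ha : FilD.IsFilteredQuasiIso a)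
    (J : CochainComplex (FilD.FilF A) ℤ) [J.IsStrictlyGE 0] (hJ : ∀ n, FilD.IsFilteredInjective (J.X n))
    (c : (CochainComplex.singleFunctor (FilD.FilF A) 0).obj S.X₃ ⟶ J) (hc : FilD.IsFilteredQuasiIso c) :
    ∃ (M : CochainComplex (FilD.FilF A) ℤ) (α : I ⟶ M) (β : M ⟶ J) (b : (CochainComplex.singleFunctor (FilD.FilF A) 0).obj S.X₂ ⟶ M),
      (∀ n, ∃ (r : M.X n ⟶ I.X n) (s : J.X n ⟶ M.X n), α.f n ≫ r = 𝟙 _ ∧ s ≫ β.f n = 𝟙 _ ∧ α.f n ≫ β.f n = 0 ∧
        r ≫ α.f n + β.f n ≫ s = 𝟙 _) ∧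
      a ≫ α = (CochainComplex.singleFunctor (FilD.FilF A) 0).map S.f ≫ b ∧ b ≫ β = (CochainComplex.singleFunctor (FilD.FilF A) 0).map S.g ≫ c := by
  let S0 := CochainComplex.singleFunctor (FilD.FilF A) 0
  let Q := HomotopyCategory.quotient (FilD.FilF A) (ComplexShape.up ℤ)
  let e : ∀ X : FilD.FilF A, (S0.obj X).X 0 ≅ X := fun X => HomologicalComplex.singleObjXSelf (ComplexShape.up ℤ) 0 X
  have hmap : ∀ {X Y : FilD.FilF A} (f : X ⟶ Y), (S0.map f).f 0 = (e X).hom ≫ f ≫ (e Y).inv := fun f =>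
    HomologicalComplex.single_map_f_self _ _ f
  have hsd : ∀ (X : FilD.FilF A) (i j : ℤ), (S0.obj X).d i j = 0 := fun X i j =>
    HomologicalComplex.single_obj_d _ _ _ i j
  let a₀ := (e S.X₁).inv ≫ a.f 0
  obtain ⟨θ', hθ'⟩ := exists_extension S.f.hom (strictMono_of_shortExact hS) S.X₂.property (I.X 0).property (hI 0) a₀.hom
  let θ : S.X₂ ⟶ I.X 0 := ObjectProperty.homMk θ'
  have hθ : S.f ≫ θ = a₀ := (FilD.IsFinFil A).ι.map_injective hθ'
  obtain ⟨z, hz⟩ := exists_desc_shortExact hS (θ ≫ I.d 0 1) (by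
    rw [← Category.assoc, hθ, Category.assoc, a.comm, hsd, zero_comp, comp_zero])
  have hepi : Epi S.g := by
    haveI : ∀ X, Epi (S.g.hom.app X) := fun X => (hS X.unop).epi_g
    haveI : Epi ((FilD.IsFinFil A).ι.map S.g) := @NatTrans.epi_of_epi_app _ _ _ _ _ _ _ this
    exact (FilD.IsFinFil A).ι.epi_of_epi_map inferInstance
  have hz0 : z ≫ I.d 1 2 = 0 := by
    rw [← cancel_epi S.g, reassoc_of% hz, comp_zero, I.d_comp_d, comp_zero]
  let I' := I⟦(1 : ℤ)⟧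
  haveI : I'.IsStrictlyGE (-1) := I.isStrictlyGE_shift 0 1 (-1) (by omega)
  have hId : ∀ i j : ℤ, I'.d i j = -I.d (i + 1) (j + 1) := fun i j => by simp [I']
  let f₁ : S0.obj S.X₃ ⟶ I' := HomologicalComplex.mkHomFromSingle (-z : S.X₃ ⟶ I'.X 0) (fun k hk => by
    obtain rfl : k = 1 := by simp at hk; omega
    rw [hId]
    change (-z) ≫ (-I.d 1 2) = 0
    simp [hz0])
  obtain ⟨τ', hτ'⟩ := (Groth.Agent.S1084.result I' (-1) (fun n => hI (n + 1)) c hc).2 (Q.map f₁)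
  obtain ⟨τ, rfl⟩ := Q.map_surjective τ'
  have hh := HomotopyCategory.homotopyOfEq (c ≫ τ) f₁ (by rw [Q.map_comp]; exact hτ')
  let h : S.X₃ ⟶ I.X 0 := ((e S.X₃).inv ≫ hh.hom 0 (-1) :)
  let c₀ := (e S.X₃).inv ≫ c.f 0
  have hcτ : c₀ ≫ τ.f 0 = -(h ≫ I.d 0 1) - z := by
    have h0 := hh.comm 0
    rw [dNext_eq hh.hom (show (ComplexShape.up ℤ).Rel 0 1 by simp),
      prevD_eq hh.hom (show (ComplexShape.up ℤ).Rel (-1) 0 by simp), hsd, zero_comp, zero_add, hId] at h0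
    have h1 := congrArg ((e S.X₃).inv ≫ ·) h0
    simp only [HomologicalComplex.comp_f, f₁, HomologicalComplex.mkHomFromSingle_f, Preadditive.comp_add,
      Preadditive.comp_neg] at h1
    change (e S.X₃).inv ≫ c.f 0 ≫ τ.f 0 = -((e S.X₃).inv ≫ hh.hom 0 (-1) ≫ I.d 0 1) +
      -((e S.X₃).inv ≫ (e S.X₃).hom ≫ z) at h1
    rw [Iso.inv_hom_id_assoc] at h1
    simp only [c₀, h, Category.assoc, h1, sub_eq_add_neg]
  let σ : ∀ n, J.X n ⟶ I.X (n + 1) := fun n => τ.f n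
  have hσ : ∀ n, σ n ≫ I.d (n + 1) (n + 1 + 1) + J.d n (n + 1) ≫ σ (n + 1) = 0 := fun n => by
    have := τ.comm n (n + 1)
    rw [hId, Preadditive.comp_neg] at this
    change -(σ n ≫ I.d (n + 1) (n + 1 + 1)) = J.d n (n + 1) ≫ σ (n + 1) at this
    rw [← this, add_neg_cancel]
  let dM : ∀ n, I.X n ⊞ J.X n ⟶ I.X (n + 1) ⊞ J.X (n + 1) := fun n =>
    biprod.desc (I.d n (n + 1) ≫ biprod.inl) (σ n ≫ biprod.inl + J.d n (n + 1) ≫ biprod.inr)
  let M : CochainComplex (FilD.FilF A) ℤ := CochainComplex.of (fun n => I.X n ⊞ J.X n) dM (twist_comp_zero σ hσ)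
  have hM : ∀ n, M.d n (n + 1) = dM n := fun n => by simp [M]
  let α : I ⟶ M :=
    { f := fun n => (biprod.inl : I.X n ⟶ I.X n ⊞ J.X n)
      comm' := fun i j (hij : i + 1 = j) => by
        subst hij
        change biprod.inl ≫ M.d i (i + 1) = I.d i (i + 1) ≫ biprod.inl
        rw [hM]
        simp [dM] }
  let β : M ⟶ J :=
    { f := fun n => (biprod.snd : I.X n ⊞ J.X n ⟶ J.X n)
      comm' := fun i j (hij : i + 1 = j) => by
        subst hij
        change biprod.snd ≫ J.d i (i + 1) = M.d i (i + 1) ≫ biprod.snd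
        rw [hM]
        apply biprod.hom_ext' <;> simp [dM] }
  let θ₁ : S.X₂ ⟶ I.X 0 := θ + S.g ≫ h
  let b₀ : S.X₂ ⟶ I.X 0 ⊞ J.X 0 := biprod.lift θ₁ (S.g ≫ c₀)
  let b : S0.obj S.X₂ ⟶ M := HomologicalComplex.mkHomFromSingle (b₀ : S.X₂ ⟶ M.X 0) (fun k hk => by
    obtain rfl : k = 0 + 1 := by simp at hk; omega
    rw [hM]
    have hcd : c₀ ≫ J.d 0 (0 + 1) = 0 := by
      simp only [c₀, Category.assoc]
      rw [c.comm, show ((CochainComplex.singleFunctor (FilD.FilF A) 0).obj S.X₃).d 0 (0 + 1) = 0 from hsd _ _ _,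
        zero_comp, comp_zero]
    change b₀ ≫ dM 0 = 0
    simp only [b₀, dM, biprod.lift_desc, Preadditive.comp_add, Category.assoc, reassoc_of% hcd, zero_comp,
      comp_zero, add_zero]
    simp only [← Category.assoc, ← Preadditive.add_comp]
    rw [show θ₁ ≫ I.d 0 (0 + 1) + (S.g ≫ c₀) ≫ σ 0 = 0 from ?_, zero_comp]
    change θ₁ ≫ I.d 0 1 + ((S.g ≫ c₀) ≫ σ 0 : S.X₂ ⟶ I.X 1) = 0
    have hcτ' : (c₀ ≫ σ 0 : S.X₃ ⟶ I.X 1) = -(h ≫ I.d 0 1) - z := hcτ
    rw [Category.assoc, hcτ', Preadditive.comp_sub, Preadditive.comp_neg, hz]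
    simp only [θ₁, Preadditive.add_comp, Category.assoc]
    abel)
  refine ⟨M, α, β, b, fun n => ⟨biprod.fst, biprod.inr, biprod.inl_fst, biprod.inr_snd, biprod.inl_snd, biprod.total⟩, ?_, ?_⟩
  · refine HomologicalComplex.from_single_hom_ext ?_
    rw [HomologicalComplex.comp_f, HomologicalComplex.comp_f, hmap]
    simp only [b, HomologicalComplex.mkHomFromSingle_f, Category.assoc]
    change a.f 0 ≫ biprod.inl = (e S.X₁).hom ≫ S.f ≫ (e S.X₂).inv ≫ (e S.X₂).hom ≫ b₀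
    rw [Iso.inv_hom_id_assoc]
    refine biprod.hom_ext _ _ ?_ ?_
    · simp [b₀, θ₁, Preadditive.comp_add, hθ, a₀, S.zero_assoc]
    · simp [b₀, S.zero_assoc]
  · refine HomologicalComplex.from_single_hom_ext ?_
    rw [HomologicalComplex.comp_f, HomologicalComplex.comp_f, hmap]
    simp only [b, HomologicalComplex.mkHomFromSingle_f, Category.assoc]
    change (e S.X₂).hom ≫ b₀ ≫ biprod.snd = (e S.X₂).hom ≫ S.g ≫ (e S.X₃).inv ≫ c.f 0
    simp [b₀, c₀]

end Groth.Agent.S1091
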