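import Groth.Statements.S10914
import Groth.Agent.DimTheory.IrrFibres
-- import your own Groth.Agent.* helpers here

set_option autoImplicit false
universe u
open CategoryTheory CategoryTheory.Limits AlgebraicGeometry TopologicalSpace
open ProjDeg
open Groth.Agent

namespace Groth.Agent.S10914

/-- Let k be a field, X and Y reduced schemes proper over k and f : X → Y a k-morphism with (i) f
surjective, (ii) every fibre X_y over a closed point y irreducible, (iii) all these fibres of the
same dimension m, and (iv) Y irreducible. Then X is irreducible and dim X = dim Y + m. (The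
published statement takes X, Y projective over k and f projective; its proof uses only that f is a
closed map and upper semicontinuity of fibre dimension, i.e. properness.) -/
theorem result (k : Type u) [Field k] {X Y : Scheme.{u}}
    (pX : X ⟶ Spec (CommRingCat.of k)) (pY : Y ⟶ Spec (CommRingCat.of k)) [IsProper pX] [IsProper pY]
    [IsReduced X] [IsReduced Y] (f : X ⟶ Y) (hf : f ≫ pY = pX) (hsurj : Function.Surjective f)
    [IrreducibleSpace ↥Y] (m : ℕ)
    (hirr : ∀ y : ↥Y, IsClosed ({y} : Set ↥Y) → IrreducibleSpace ↥(f.fiber y))
    (hdim : ∀ y : ↥Y, IsClosed ({y} : Set ↥Y) → topologicalKrullDim ↥(f.fiber y) = m) :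
    IrreducibleSpace ↥X ∧ topologicalKrullDim ↥X = topologicalKrullDim ↥Y + m := by
  subst hf
  have : LocallyOfFiniteType f := locallyOfFiniteType_of_comp f pY
  have : QuasiCompact f := QuasiCompact.of_comp f pY
  have : IsProper f := IsProper.of_comp f pY
  have hirr' : ∀ y : Y, IsClosed ({y} : Set Y) → IsIrreducible (f.base ⁻¹' {y}) := fun y hy => by
    have := hirr y hy
    rw [← f.range_fiberι]
    exact IrreducibleSpace.isIrreducible_univ _ |>.image (f.fiberι y) (f.fiberι y).continuous.continuousOn |> fun h => by
      rwa [Set.image_univ] at h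
  have hdim' : ∀ y : Y, IsClosed ({y} : Set Y) → topologicalKrullDim (f.base ⁻¹' {y}) = m := fun y hy => by
    rw [DimTheory.fiber_dim_eq]; exact hdim y hy
  obtain ⟨ξ, hξ, hξη⟩ := DimTheory.exists_dominant_component pY f hirr'
  have hall : ∀ x : X, ξ ⤳ x := by
    have hcl : closedPoints X ⊆ closure {ξ} := fun x hx => by
      have hy := DimTheory.isClosed_image_closedPoint pY f hx
      obtain ⟨x₀, hx₀, hfx⟩ : f x ∈ f.base '' closure {ξ} := by
        have hc : IsClosed (f.base '' closure {ξ}) := f.isClosedMap _ isClosed_closure
        have h1 : (genericPoint Y) ∈ f.base '' closure {ξ} := ⟨ξ, subset_closure rfl, hξη⟩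
        exact (genericPoint_specializes (f x)).mem_closed hc h1
      have hfx' : f x₀ = f x := hfx
      exact (DimTheory.mem_closure_of_fibre pY f m hirr' hdim' hξ (specializes_iff_mem_closure.2 hx₀)
        (hfx' ▸ hy) hfx'.symm).mem_closure
    intro x
    have := LocallyOfFiniteType.jacobsonSpace (f ≫ pY)
    refine specializes_iff_mem_closure.2 ?_
    have hd : closure (closedPoints X) = Set.univ := by
      rw [← Set.univ_inter (closedPoints X), JacobsonSpace.closure_inter_closedPoints_eq_closure
        isOpen_univ.isLocallyClosed, closure_univ]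
    exact closure_minimal hcl isClosed_closure (hd ▸ Set.mem_univ x)
  have := DimTheory.irreducibleSpace_of_forall_specializes hall
  refine ⟨this, ?_⟩
  rw [DimTheory.dim_eq_height_of_forall_specializes hall, DimTheory.height_component pY f m hirr' hdim' hξ,
    hξη, DimTheory.topologicalKrullDim_eq_height_genericPoint, add_comm]
  rfl

end Groth.Agent.S10914
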