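import Groth.Statements.S10935
import Groth.Agent.MeroFrac.Regular
import Mathlib.RingTheory.Flat.TorsionFree
import Mathlib
-- import your own Groth.Agent.* helpers here

set_option autoImplicit false
universe u
open CategoryTheory CategoryTheory.Limits AlgebraicGeometry
open FlatMor

namespace Groth.Agent.S10935

/-- Let Y be an integral, regular (every local ring a regular local ring), one-dimensional scheme with
generic point η, X a Noetherian scheme and f : X → Y a morphism. Then f is flat if and only if every
associated point x of X — a point such that the maximal ideal of O_{X,x} is an associated prime of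
O_{X,x} — satisfies f(x) = η. -/
theorem result {X Y : Scheme.{u}} (f : X ⟶ Y)
    [IsIntegral Y] (hreg : ∀ y : Y, IsRegularLocalRing (Y.presheaf.stalk y))
    (hY : topologicalKrullDim ↥Y = 1) [IsNoetherian X] :
    Flat f ↔ ∀ x : X, Curv2.IsAssPoint (Coh.structureModule X) x → f.base x = genericPoint ↥Y := by
  haveI := Groth.Agent.AssPts.isQuasicoherent_structureModule X
  have hd1 : ∀ y : Y, ringKrullDim (Y.presheaf.stalk y) ≤ 1 := fun y => by
    rw [AlgebraicGeometry.ringKrullDim_stalk_eq_coheight y]
    refine (Order.coheight_le_krullDim y).trans ?_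
    rw [← Order.krullDim_eq_of_orderIso (irreducibleSetEquivPoints (α := ↥Y))]
    exact hY.le
  have hbez : ∀ y : Y, IsBezout (Y.presheaf.stalk y) := fun y => by
    haveI := hreg y
    have h2 : (IsLocalRing.maximalIdeal (Y.presheaf.stalk y)).spanFinrank ≤ 1 := by
      have h1 := IsRegularLocalRing.spanFinrank_maximalIdeal (R := Y.presheaf.stalk y)
      have h3 := hd1 y
      rw [← h1] at h3
      exact_mod_cast h3
    have hp : (IsLocalRing.maximalIdeal (Y.presheaf.stalk y)).IsPrincipal := by
      rcases Nat.le_one_iff_eq_zero_or_eq_one.1 h2 with h0 | h1'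
      · have hb : IsLocalRing.maximalIdeal (Y.presheaf.stalk y) = ⊥ :=
          (Submodule.spanFinrank_eq_zero_iff_eq_bot (IsNoetherian.noetherian _)).1 h0
        rw [hb]
        infer_instance
      · exact ((Submodule.spanFinrank_eq_one_iff _).1 h1').1
    have : IsPrincipalIdealRing (Y.presheaf.stalk y) := ((tfae_of_isNoetherianRing_of_isLocalRing_of_isDomain (R := Y.presheaf.stalk y)).out 4 0).mp hp
    infer_instance
  constructor
  · intro hf x hx
    by_contra hne
    haveI : IsDomain (Y.presheaf.stalk (f x)) := inferInstance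
    have hns : ¬ IsField (Y.presheaf.stalk (f x)) := fun hF => hne (by
      have h0 := ringKrullDim_eq_zero_of_isField hF
      rw [AlgebraicGeometry.ringKrullDim_stalk_eq_coheight (f x)] at h0
      have h0' : Order.coheight (f x) = 0 := WithBot.coe_eq_zero.1 h0
      exact ((Specializes.antisymm ((Order.coheight_eq_zero.1 h0') (genericPoint_specializes _)) (genericPoint_specializes _)).eq))
    obtain ⟨r, hr0, hru⟩ := Ring.exists_not_isUnit_of_not_isField hns
    letI := (f.stalkMap x).hom.toAlgebra
    haveI : Module.Flat (Y.presheaf.stalk (f x)) (X.presheaf.stalk x) := Flat.stalkMap f x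
    have hnzd : (f.stalkMap x).hom r ∈ nonZeroDivisors (X.presheaf.stalk x) := mem_nonZeroDivisors_iff_right.2 fun c hc => by
      have hreg' : IsSMulRegular (X.presheaf.stalk x) r :=
        Module.Flat.isSMulRegular_of_isRegular (IsRegular.of_ne_zero hr0)
      refine hreg' ?_
      simp only [Algebra.smul_def, mul_zero]
      rw [mul_comm]; exact hc
    exact hru ((isUnit_map_iff (f.stalkMap x).hom r).1 (Groth.Agent.MeroFrac.unit_of_nzd
      ((Groth.Agent.AssPts.isAssPoint_iff_isWeakAssPoint _ x).1 hx) hnzd))
  · intro h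
    refine Flat.of_stalkMap _ fun x => ?_
    letI := (f.stalkMap x).hom.toAlgebra
    haveI := hbez (f x)
    change Module.Flat (Y.presheaf.stalk (f x)) (X.presheaf.stalk x)
    rw [Module.Flat.flat_iff_torsion_eq_bot_of_isBezout, eq_bot_iff]
    rintro c ⟨⟨r, hr⟩, hrc⟩
    rw [Submodule.mem_bot]
    obtain ⟨W, hyW, ρ, rfl⟩ := Y.presheaf.exists_germ_eq r
    obtain ⟨_, ⟨A, hA, rfl⟩, hxA, hAW⟩ := X.isBasis_affineOpens.exists_subset_of_mem_open
      (show x ∈ f ⁻¹ᵁ W from hyW) (f ⁻¹ᵁ W).2
    have hreg' : X.presheaf.map (homOfLE (SetLike.coe_subset_coe.mp hAW : A ≤ f ⁻¹ᵁ W)).op (f.app W ρ) ∈ Mero.regSub X A :=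
      Groth.Agent.MeroFrac.mem_regSub_of_units hA fun z hz => by
        rw [TopCat.Presheaf.germ_res_apply, ← Scheme.Hom.germ_stalkMap_apply]
        have hzη : f z = genericPoint ↥Y := h z ((Groth.Agent.AssPts.isAssPoint_iff_isWeakAssPoint _ z).2 hz.2)
        refine IsUnit.map _ ?_
        by_contra hn
        haveI : IsDomain (Y.presheaf.stalk (f z)) := inferInstance
        have hgen : genericPoint ↥Y ∈ W := by
          have : f z ∈ W := hAW hz.1
          rwa [hzη] at this
        have hnil : IsNilpotent (Y.presheaf.germ W (f z) (hAW hz.1) ρ) :=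
          Groth.Agent.MeroFrac.isNilpotent_of_maximal (fun w hw => by
            rw [hzη] at hw ⊢
            exact (hw.antisymm (genericPoint_specializes w)).eq) hn
        refine nonZeroDivisors.ne_zero hr ?_
        have hg0 : Y.presheaf.germ W (genericPoint ↥Y) hgen ρ = 0 := by
          have e0 : Y.presheaf.germ W (f z) (hAW hz.1) ρ = 0 := hnil.eq_zero
          have : ∀ (y : Y) (e : f z = y) (hy : y ∈ W), Y.presheaf.germ W y hy ρ = 0 := by
            rintro _ rfl _; exact e0
          exact this _ hzη hgen
        haveI : Nonempty W := ⟨⟨_, hyW⟩⟩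
        have hρ : ρ = 0 := Scheme.germToFunctionField_injective Y W (hg0.trans (map_zero _).symm)
        rw [hρ, map_zero]
    have h1 := hreg' ⟨x, hxA⟩
    rw [TopCat.Presheaf.germ_res_apply, ← Scheme.Hom.germ_stalkMap_apply _ _ x hyW] at h1
    refine (mem_nonZeroDivisors_iff_right.1 h1) c ?_
    rw [mul_comm]
    exact hrc
end Groth.Agent.S10935
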