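import Groth.Statements.S10941
import Groth.Agent.FlatDim.BaseChange

set_option autoImplicit false
universe u
open CategoryTheory CategoryTheory.Limits AlgebraicGeometry
open FlatMor

namespace Groth.Agent.S10941

/-- Let k be a field, X, Y and Y' schemes of finite type over k with Y irreducible, f : X → Y a flat
k-morphism and n a natural number such that every irreducible component of X has dimension dim Y +
n. Let g : Y' → Y be a k-morphism and f' : X ×_Y Y' → Y' the base change of f. Then for every
irreducible closed subset V of Y', every irreducible component of the preimage of V under f' (with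
the subspace topology) has dimension dim V + n. In particular (Y' = Y) every irreducible component
of f⁻¹(V) has dimension dim V + n for every irreducible closed V ⊆ Y. -/
theorem result (k : Type u) [Field k]
    {X Y Y' : Scheme.{u}} (qX : X ⟶ Spec (CommRingCat.of k)) (qY : Y ⟶ Spec (CommRingCat.of k))
    (qY' : Y' ⟶ Spec (CommRingCat.of k))
    [LocallyOfFiniteType qX] [QuasiCompact qX] [LocallyOfFiniteType qY] [QuasiCompact qY]
    [LocallyOfFiniteType qY'] [QuasiCompact qY']
    [IrreducibleSpace ↥Y] (f : X ⟶ Y) (hf : f ≫ qY = qX) [Flat f] (n : ℕ)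
    (hX : ∀ Z : Set ↥X, Z ∈ irreducibleComponents ↥X →
      topologicalKrullDim ↥Z = topologicalKrullDim ↥Y + (n : WithBot ℕ∞))
    (g : Y' ⟶ Y) (hg : g ≫ qY = qY')
    (V : Set ↥Y') (hV : IsClosed V) (hVirr : IsIrreducible V)
    (W : Set ↥((pullback.snd f g).base ⁻¹' V))
    (hW : W ∈ irreducibleComponents ↥((pullback.snd f g).base ⁻¹' V)) :
    topologicalKrullDim ↥W = topologicalKrullDim ↥V + (n : WithBot ℕ∞) := by
  subst hf
  have : LocallyOfFiniteType f := locallyOfFiniteType_of_comp f qY
  have : LocallyOfFiniteType (pullback.snd f g) := MorphismProperty.pullback_snd _ _ inferInstance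
  have : Flat (pullback.snd f g) := MorphismProperty.pullback_snd _ _ ‹Flat f›
  obtain ⟨d, -, hd⟩ := Groth.Agent.DimTheory.exists_height_eq qY (genericPoint Y)
  have hY' : ∀ η : Y, (∀ y : Y, y ⤳ η → y = η) → Order.height η = d := fun η hη => by
    rw [Groth.Agent.FlatDim.eq_genericPoint hη, hd]
  have hdim : topologicalKrullDim Y + (n : WithBot ℕ∞) = (((d + n : ℕ) : ℕ∞) : WithBot ℕ∞) := by
    rw [Groth.Agent.DimTheory.topologicalKrullDim_eq_height_genericPoint, hd]
    push_cast; rfl
  rw [hdim] at hX
  have key := (Groth.Agent.FlatDim.equidim_iff qY f d n hY').1 fun ξ hξ =>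
    WithBot.coe_inj.1 ((Groth.Agent.FlatDim.forall_components_iff _).1 hX ξ hξ)
  rw [Groth.Agent.FlatDim.dim_component_preimage (pullback.snd f g ≫ qY') qY' (pullback.snd f g) (n : ℕ∞) V hV hVirr
    (fun y' => Groth.Agent.FlatDim.fibre_height_baseChange f (IsPullback.of_hasPullback f g) y' n (key (g y'))) W hW]
  rfl

end Groth.Agent.S10941
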