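import Groth.Statements.S10944
import Mathlib

set_option autoImplicit false
universe u
open CategoryTheory AlgebraicGeometry
open FlatMor

namespace Groth.Agent.S10944

/-- Let f : X → Y be a flat morphism of Noetherian schemes and Y' an irreducible component of Y. Then
f⁻¹(Y') is the union of the irreducible components Z of X with f(Z) ⊆ Y'. -/
theorem result {X Y : Scheme.{u}}
    [IsNoetherian X] [IsNoetherian Y] (f : X ⟶ Y) [Flat f]
    (Y' : Set ↥Y) (hY' : Y' ∈ irreducibleComponents ↥Y) :
    f.base ⁻¹' Y' = ⋃₀ {Z : Set ↥X | Z ∈ irreducibleComponents ↥X ∧ f.base '' Z ⊆ Y'} := by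
  refine Set.Subset.antisymm (fun x hx => ?_) ?_
  swap
  · rintro x ⟨Z, ⟨-, hZ⟩, hxZ⟩
    exact hZ ⟨x, hxZ, rfl⟩
  have hcl : IsClosed Y' := isClosed_of_mem_irreducibleComponents _ hY'
  have hir : IsIrreducible Y' := hY'.prop
  have hg : IsGenericPoint hir.genericPoint Y' := by
    simpa only [hcl.closure_eq] using hir.isGenericPoint_genericPoint_closure
  obtain ⟨x', hx', hfx⟩ := Flat.generalizingMap f (hg.specializes hx)
  refine ⟨irreducibleComponent x', ⟨irreducibleComponent_mem_irreducibleComponents x', ?_⟩,
    hx'.mem_closed isClosed_irreducibleComponent mem_irreducibleComponent⟩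
  have hirr : IsIrreducible (closure (f.base '' irreducibleComponent x')) :=
    ((irreducibleComponent_mem_irreducibleComponents x').prop.image _ f.continuous.continuousOn).closure
  have hle : Y' ⊆ closure (f.base '' irreducibleComponent x') := by
    rw [← hg.def]
    exact closure_minimal (Set.singleton_subset_iff.2
      (subset_closure ⟨x', mem_irreducibleComponent, hfx⟩)) isClosed_closure
  exact subset_closure.trans (hY'.2 hirr hle)

end Groth.Agent.S10944
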