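import Groth.Statements.S10945
import Groth.Agent.GenLocus.Extend

set_option autoImplicit false
universe u
open CategoryTheory AlgebraicGeometry Opposite
open Coherent

namespace Groth.Agent.S10945

/-- Let X be a scheme and 0 → F' → F → F'' → 0 a short exact sequence of O_X-modules whose map on global
sections Γ(X, F) → Γ(X, F'') is surjective. If F' and F'' are generated by global sections (each is
a quotient of a free O_X-module), then F is generated by global sections. -/
theorem result (X : Scheme.{u})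
    (S : ShortComplex X.Modules) (hS : S.ShortExact)
    (hsurj : Function.Surjective (S.g.val.app (op ⊤)).hom)
    (h1 : Curv2.IsGloballyGenerated S.X₁) (h3 : Curv2.IsGloballyGenerated S.X₃) :
    Curv2.IsGloballyGenerated S.X₂ := by
  have ext₀ : ∀ {M : X.Modules} (a b : Coh.structureModule X ⟶ M),
      GenLocus.sect a ⊤ = GenLocus.sect b ⊤ → a = b := fun {M} a b h =>
    M.unitHomEquiv.injective (PresheafOfModules.sections_ext _ _ fun U =>
      (GenLocus.mres_sect a (le_top : U.unop ≤ ⊤)).symm.trans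
        ((congrArg _ h).trans (GenLocus.mres_sect b (le_top : U.unop ≤ ⊤))))
  obtain ⟨ι₁, p₁', hp₁⟩ := h1
  obtain ⟨ι₃, p₃', hp₃⟩ := h3
  let p₁ : (SheafOfModules.free ι₁ : X.Modules) ⟶ S.X₁ := p₁'
  let p₃ : (SheafOfModules.free ι₃ : X.Modules) ⟶ S.X₃ := p₃'
  haveI : Epi p₁ := hp₁
  haveI : Epi p₃ := hp₃
  haveI := hS.epi_g
  let ι := (Coh.structureModule X ⟶ S.X₂)
  let p : (SheafOfModules.free ι : X.Modules) ⟶ S.X₂ := Limits.Sigma.desc fun a => a
  refine ⟨ι, p, Preadditive.epi_of_cancel_zero p fun {P'} c' hc' => ?_⟩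
  let P : X.Modules := P'
  let c : S.X₂ ⟶ P := c'
  have hc : p ≫ c = 0 := hc'
  show c = 0
  have hall : ∀ a : Coh.structureModule X ⟶ S.X₂, a ≫ c = 0 := fun a => by
    have h := congrArg (fun t => (SheafOfModules.ιFree a : Coh.structureModule X ⟶ _) ≫ t) hc
    exact ((congrArg (fun t => t ≫ c) (Limits.Sigma.ι_desc (fun a : ι => a) a).symm).trans
      (Category.assoc _ _ _)).trans (h.trans Limits.comp_zero)
  have hfc : S.f ≫ c = 0 := by
    refine (cancel_epi (f := p₁)).1 ?_
    refine Limits.Sigma.hom_ext _ _ fun i => ?_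
    exact ((Category.assoc _ _ _).symm.trans ((Category.assoc _ _ _).symm.trans (hall _))).trans
      ((Limits.comp_zero).symm.trans (congrArg (fun z => (SheafOfModules.ιFree i : Coh.structureModule X ⟶ _) ≫ z) Limits.comp_zero.symm))
  let φ : S.X₃ ⟶ P := hS.gIsCokernel.desc (Limits.CokernelCofork.ofπ c hfc)
  have hφ : S.g ≫ φ = c := hS.gIsCokernel.fac (Limits.CokernelCofork.ofπ c hfc) Limits.WalkingParallelPair.one
  suffices φ = 0 by rw [← hφ, this, Limits.comp_zero]
  refine ((cancel_epi (f := p₃)).1 (?_ : p₃ ≫ φ = p₃ ≫ 0))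
  refine (?_ : p₃ ≫ φ = 0).trans Limits.comp_zero.symm
  refine Limits.Sigma.hom_ext _ _ fun j => ?_
  obtain ⟨t, ht⟩ := hsurj (GenLocus.sect ((SheafOfModules.ιFree j : Coh.structureModule X ⟶ _) ≫ p₃) ⊤)
  have hj : (SheafOfModules.ιFree j : Coh.structureModule X ⟶ _) ≫ p₃ = GenLocus.homOfSection S.X₂ t ≫ S.g := by
    refine ext₀ _ _ (ht.symm.trans ?_)
    exact congrArg _ ((GenLocus.sect_homOfSection S.X₂ t ⊤).trans (QCohBase.mres_refl _ _ _)).symm
  refine ((Category.assoc _ _ _).symm.trans ?_).trans Limits.comp_zero.symm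
  exact (congrArg (fun z => z ≫ φ) hj).trans ((Category.assoc _ _ _).trans
    ((congrArg (fun z => GenLocus.homOfSection S.X₂ t ≫ z) hφ).trans (hall _)))

end Groth.Agent.S10945
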