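import Groth.Statements.S10954
import Groth.Agent.AffinenessLift.Basic

set_option autoImplicit false
universe u
open Coherent

namespace Groth.Agent.S10954

open AlgebraicGeometry CategoryTheory CategoryTheory.Limits Opposite in
/-- Let X be a quasi-compact scheme such that, for every short exact sequence 0 → F' → F → F'' → 0 of
quasi-coherent O_X-modules whose first term F' admits a monomorphism into a finite direct sum of
copies of O_X, taking global sections gives a surjection F(X) → F''(X). Then X is affine. (The
published statement is an equivalence of three conditions on a quasi-compact scheme; this row states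
the implication from exactness of global sections on such sequences to affineness.) -/
theorem result (X : Scheme.{u}) [CompactSpace X]
    (h : ∀ (S : ShortComplex X.Modules) (n : ℕ)
      (j : S.X₁ ⟶ ∏ᶜ (fun _ : Fin n => Coh.structureModule X)),
      S.ShortExact → Mono j → Coh.IsQCoh S.X₁ → Coh.IsQCoh S.X₂ → Coh.IsQCoh S.X₃ →
        Function.Surjective (S.g.val.app (op ⊤)).hom) :
    IsAffine X := by
  refine Groth.Agent.AffinenessLift.isAffine_of_liftsTop fun T hT i hi h1 h2 h3 => ?_
  haveI := hi
  haveI : Mono (Pi.lift (fun _ : Fin 1 => i)) :=
    mono_of_mono_fac (Pi.lift_π (fun _ : Fin 1 => i) 0)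
  exact h T 1 (Pi.lift fun _ : Fin 1 => i) hT inferInstance h1 h2 h3

end Groth.Agent.S10954
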