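import Groth.Statements.S10955
import Groth.Agent.Unram.Tower


set_option autoImplicit false
universe u
open scoped TensorProduct
open Unram

namespace Groth.Agent.S10955

/-- Let A → B → C be ring homomorphisms with B and C finitely presented over A, let q be a prime ideal
of C and p its inverse image in B, and assume that C is smooth over A at q and that B is smooth over
A at p. Then C is smooth over B at q if and only if the map obtained from the canonical map C ⊗_B
Ω_{B/A} → Ω_{C/A} by tensoring over C with the residue field k(q) is injective. -/
theorem result (A B C : Type u) [CommRing A] [CommRing B]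
    [CommRing C] [Algebra A B] [Algebra B C] [Algebra A C] [IsScalarTower A B C]
    [Algebra.FinitePresentation A B] [Algebra.FinitePresentation A C] (q : Ideal C) [q.IsPrime]
    (hC : Algebra.IsSmoothAt A q) (hB : Algebra.IsSmoothAt A (q.under B)) :
    Algebra.IsSmoothAt B q ↔
      Function.Injective ((KaehlerDifferential.mapBaseChange A B C).lTensor q.ResidueField) := by
  let L := Localization.AtPrime q
  let p := q.under B
  let Bp := Localization.AtPrime p
  have : q.LiesOver p := ⟨rfl⟩
  let := Localization.AtPrime.algebraOfLiesOver p q
  have : Algebra.FormallySmooth A Bp := hB
  have : Algebra.FormallySmooth A L := hC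
  have : Algebra.FormallyEtale B Bp := .of_isLocalization p.primeCompl
  have : Algebra.FormallyEtale C L := .of_isLocalization q.primeCompl
  have : Module.Projective Bp (TensorProduct B Bp (KaehlerDifferential A B)) :=
    .of_equiv (KaehlerDifferential.tensorKaehlerEquivOfFormallyEtale A B Bp).symm
  have : Module.Projective L (TensorProduct B L (KaehlerDifferential A B)) :=
    .of_equiv (TensorProduct.AlgebraTensorModule.cancelBaseChange B Bp L L (KaehlerDifferential A B))
  have : Module.Free L (TensorProduct B L (KaehlerDifferential A B)) :=
    Module.free_of_flat_of_isLocalRing
  have : Module.Free L (KaehlerDifferential A L) :=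
    haveI : Algebra.EssFiniteType A L := .comp A C L
    Module.free_of_flat_of_isLocalRing
  have : Algebra.EssFiniteType A L := .comp A C L
  refine (Groth.Agent.Unram.formallySmooth_iff_exists_retraction A B L).trans ?_
  rw [IsLocalRing.split_injective_iff_lTensor_residueField_injective]
  exact (Groth.Agent.Unram.injective_lTensor_mapBaseChange_iff A B C L q.ResidueField).symm

end Groth.Agent.S10955
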