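import Groth.Statements.S10956
import Mathlib
-- import your own Groth.Agent.* helpers here

set_option autoImplicit false
universe u
open scoped TensorProduct
open CAlg

namespace Groth.Agent.S10956

/-- Let R be a commutative ring, A and B commutative R-algebras and T = A ⊗_R B, an A-algebra through
the left factor. There is a T-linear map r from Ω_{T/R} to T ⊗_A Ω_{A/R} sending d(a ⊗ b) to (1 ⊗ b)
⊗ da for all a in A and b in B, and together with the canonical map Ω_{T/R} → Ω_{T/A} it identifies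
Ω_{T/R} with the product (T ⊗_A Ω_{A/R}) × Ω_{T/A}. (The published statement is the isomorphism of
(Ω_{A/R} ⊗_R B) ⊕ (A ⊗_R Ω_{B/R}) with Ω_{T/R} matching the exterior differentials; it is stated
here through the canonical identifications T ⊗_A Ω_{A/R} = Ω_{A/R} ⊗_R B and Ω_{T/A} = A ⊗_R
Ω_{B/R}.) -/
theorem result (R A B : Type u) [CommRing R] [CommRing A] [CommRing B]
    [Algebra R A] [Algebra R B] :
    ∃ r : Ω[(A ⊗[R] B)⁄R] →ₗ[A ⊗[R] B] ((A ⊗[R] B) ⊗[A] Ω[A⁄R]),
      (∀ (a : A) (b : B), r (KaehlerDifferential.D R (A ⊗[R] B) (a ⊗ₜ[R] b)) =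
          ((1 : A) ⊗ₜ[R] b) ⊗ₜ[A] KaehlerDifferential.D R A a) ∧
        Function.Bijective (fun ω : Ω[(A ⊗[R] B)⁄R] =>
          (r ω, KaehlerDifferential.map R A (A ⊗[R] B) (A ⊗[R] B) ω)) := by
  letI : Algebra B (A ⊗[R] B) := Algebra.TensorProduct.rightAlgebra
  let e := KaehlerDifferential.tensorKaehlerEquiv R B A (A ⊗[R] B)
  let r : Ω[(A ⊗[R] B)⁄R] →ₗ[A ⊗[R] B] ((A ⊗[R] B) ⊗[A] Ω[A⁄R]) :=
    e.symm.toLinearMap ∘ₗ KaehlerDifferential.map R B (A ⊗[R] B) (A ⊗[R] B)
  have hD : ∀ (a : A) (b : B), r (KaehlerDifferential.D R (A ⊗[R] B) (a ⊗ₜ[R] b)) =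
      ((1 : A) ⊗ₜ[R] b) ⊗ₜ[A] KaehlerDifferential.D R A a := by
    intro a b
    show e.symm (KaehlerDifferential.map R B (A ⊗[R] B) (A ⊗[R] B) (KaehlerDifferential.D R (A ⊗[R] B) (a ⊗ₜ[R] b))) = _
    rw [KaehlerDifferential.map_D]
    exact KaehlerDifferential.tensorKaehlerEquiv_symm_D_tmul' R B A b a
  refine ⟨r, hD, ?_⟩
  let j := KaehlerDifferential.mapBaseChange R A (A ⊗[R] B)
  have hrj : ∀ x, r (j x) = x := by
    intro x
    induction x using TensorProduct.induction_on with
    | zero => simp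
    | add x y hx hy => rw [map_add, map_add, hx, hy]
    | tmul t ω =>
      rw [KaehlerDifferential.mapBaseChange_tmul, map_smul]
      have : ω ∈ Submodule.span A (Set.range (KaehlerDifferential.D R A)) := by
        rw [KaehlerDifferential.span_range_derivation]; trivial
      induction this using Submodule.span_induction with
      | mem y hy =>
        obtain ⟨a, rfl⟩ := hy
        rw [KaehlerDifferential.map_D, Algebra.TensorProduct.algebraMap_apply]
        show t • r (KaehlerDifferential.D R (A ⊗[R] B) (a ⊗ₜ[R] (1 : B))) = _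
        rw [hD, show ((1 : A) ⊗ₜ[R] (1 : B)) = 1 from rfl, TensorProduct.smul_tmul', smul_eq_mul, mul_one]
      | zero => simp
      | add x y _ _ hx hy => rw [map_add, map_add, smul_add, hx, hy, TensorProduct.tmul_add]
      | smul c y _ hy =>
        rw [map_smul, ← IsScalarTower.algebraMap_smul (A ⊗[R] B) c (KaehlerDifferential.map R R A (A ⊗[R] B) y),
          map_smul, IsScalarTower.algebraMap_smul, smul_comm, hy, TensorProduct.tmul_smul]
  have hex := KaehlerDifferential.exact_mapBaseChange_map R A (A ⊗[R] B)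
  constructor
  · intro x y h
    simp only [Prod.mk.injEq] at h
    have h0 : KaehlerDifferential.map R A (A ⊗[R] B) (A ⊗[R] B) (x - y) = 0 := by rw [map_sub, h.2, sub_self]
    obtain ⟨z, hz⟩ := (hex _).1 h0
    have h1 : r (j z) = 0 := by
      show r (KaehlerDifferential.mapBaseChange R A (A ⊗[R] B) z) = 0
      rw [hz, map_sub, h.1, sub_self]
    rw [hrj] at h1
    rw [← sub_eq_zero, ← hz, h1, map_zero]
  · rintro ⟨u, v⟩
    obtain ⟨w, hw⟩ := KaehlerDifferential.map_surjective R A (A ⊗[R] B) v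
    refine ⟨w + j (u - r w), Prod.ext ?_ ?_⟩
    · show r (w + j (u - r w)) = u
      rw [map_add, hrj]; abel
    · show KaehlerDifferential.map R A (A ⊗[R] B) (A ⊗[R] B) (w + j (u - r w)) = v
      rw [map_add, hw, (hex _).2 ⟨_, rfl⟩, add_zero]
end Groth.Agent.S10956
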