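import Groth.Statements.S10957
import Mathlib
-- import your own Groth.Agent.* helpers here

set_option autoImplicit false
universe u
open CAlg

namespace Groth.Agent.S10957

/-- Let A be a Noetherian local integral domain that is normal (integrally closed in its field of
fractions). If there is a nonzero element a of A such that the maximal ideal of A is an associated
prime of the A-module A/(a), then A is a discrete valuation ring. (The other conditions listed in
the published result — normal of dimension one, maximal ideal nonzero principal, regular of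
dimension one — are the library's standard characterisations; this row records the criterion through
an associated prime.) -/
theorem result
    (A : Type u) [CommRing A] [IsDomain A] [IsNoetherianRing A] [IsLocalRing A] [IsIntegrallyClosed A]
    (a : A) (ha : a ≠ 0)
    (hass : IsLocalRing.maximalIdeal A ∈ associatedPrimes A (A ⧸ Ideal.span ({a} : Set A))) :
    IsDiscreteValuationRing A := by
  classical
  obtain ⟨-, x, hx⟩ := isAssociatedPrime_iff.1 hass
  obtain ⟨b, rfl⟩ := Ideal.Quotient.mk_surjective x
  have hcol : ∀ r, r ∈ IsLocalRing.maximalIdeal A ↔ a ∣ r * b := by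
    intro r
    conv_lhs => rw [hx]
    rw [Submodule.mem_colon_singleton, Submodule.mem_bot, Algebra.smul_def,
      Ideal.Quotient.algebraMap_eq, ← map_mul, Ideal.Quotient.eq_zero_iff_mem, Ideal.mem_span_singleton]
  have hab : ¬ a ∣ b := fun h => (IsLocalRing.maximalIdeal.isMaximal A).ne_top
    ((Ideal.eq_top_iff_one _).2 ((hcol 1).2 (by rwa [one_mul])))
  have hF : ¬ IsField A := fun hF => by
    obtain ⟨c, hc⟩ := hF.mul_inv_cancel ha
    exact hab ⟨c * b, by rw [← mul_assoc, hc, one_mul]⟩
  let K := FractionRing A
  have ha' : algebraMap A K a ≠ 0 := by simpa using ha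
  set z : K := algebraMap A K b / algebraMap A K a with hz
  have hmz : ∀ r ∈ IsLocalRing.maximalIdeal A, ∃ c, algebraMap A K c = z * algebraMap A K r := by
    intro r hr
    obtain ⟨c, hc⟩ := (hcol r).1 hr
    refine ⟨c, ?_⟩
    rw [hz, div_mul_eq_mul_div, eq_div_iff ha', ← map_mul, ← map_mul]
    congr 1
    rw [mul_comm c a, ← hc, mul_comm]
  suffices h : ∃ t ∈ IsLocalRing.maximalIdeal A, ∃ u, IsUnit u ∧ algebraMap A K u = z * algebraMap A K t by
    obtain ⟨t, ht, u, hu, hut⟩ := h
    have hiff : IsDiscreteValuationRing A ↔ (IsLocalRing.maximalIdeal A).IsPrincipal :=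
      (IsDiscreteValuationRing.TFAE A hF).out 0 4
    refine hiff.2 ⟨t, ?_⟩
    refine le_antisymm (fun r hr => Ideal.mem_span_singleton.2 ?_) ((Ideal.span_singleton_le_iff_mem _).2 ht)
    obtain ⟨c, hc⟩ := hmz r hr
    refine ⟨c * ↑hu.unit⁻¹, ?_⟩
    apply IsFractionRing.injective A K
    have hu0 : algebraMap A K u ≠ 0 := by simpa using hu.ne_zero
    apply mul_left_cancel₀ hu0
    rw [← map_mul, ← map_mul, show u * (t * (c * ↑hu.unit⁻¹)) = t * c * (u * ↑hu.unit⁻¹) by ring,
      IsUnit.mul_val_inv, mul_one, map_mul, map_mul, hut, hc]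
    ring
  by_contra hne
  push Not at hne
  have hint : IsIntegral A z := by
    refine isIntegral_of_smul_mem_submodule
      (Submodule.map (Algebra.linearMap A K) (IsLocalRing.maximalIdeal A)) ?_
      (Submodule.FG.map _ (IsLocalRing.maximalIdeal A).fg_of_isNoetherianRing) z ?_
    · intro h
      refine (IsLocalRing.isField_iff_maximalIdeal_eq.not.1 hF) ?_
      rw [← Submodule.map_bot (Algebra.linearMap A K)] at h
      exact Submodule.map_injective_of_injective (IsFractionRing.injective A K) h
    · rintro _ ⟨r, hr, rfl⟩
      obtain ⟨c, hc⟩ := hmz r hr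
      refine ⟨c, ?_, hc⟩
      exact fun hcu => hne r hr c hcu hc
  obtain ⟨c, hc⟩ := (isIntegrallyClosed_iff K).1 inferInstance hint
  refine hab ⟨c, ?_⟩
  apply IsFractionRing.injective A K
  rw [map_mul, hc, hz, mul_div_cancel₀ _ ha']

end Groth.Agent.S10957
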