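import Groth.Statements.S8869
import Groth.Agent.AssPts.Basic
import Groth.Agent.RefDiv.IsoLocus
-- import your own Groth.Agent.* helpers here

set_option autoImplicit false
universe u
open CategoryTheory CategoryTheory.Limits AlgebraicGeometry TopologicalSpace
open SDiv

namespace Groth.Agent.S8869

/-- Assume X is a reduced scheme and x is a point of X. Then x is weakly associated to the structure
sheaf O_X exactly when every generization of x equals x itself; equivalently, x is a generic point
of some irreducible component of X. -/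
theorem result (X : Scheme.{u}) [IsReduced X] (x : ↥X) :
    Curv2.IsWeakAssPoint (Coh.structureModule X) x ↔ ∀ y : ↥X, y ⤳ x → y = x := by
  haveI hred : _root_.IsReduced (X.presheaf.stalk x) := inferInstance
  rw [AssPts.isWeakAssPoint_iff']
  let e : X.presheaf.stalk x ≃ₗ[X.presheaf.stalk x] (Coh.structureModule X).presheaf.stalk x :=
    LinearEquiv.ofBijective (LinearMap.toSpanSingleton _ _
      ((Coh.structureModule X).presheaf.germ ⊤ x trivial
        ((1 : X.ringCatSheaf.obj.obj (Opposite.op ⊤)) : (Coh.structureModule X).val.obj (Opposite.op ⊤))))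
      (RefDiv.bijective_one_smul x)
  constructor
  · rintro ⟨z, hz, hnil⟩ y hy
    let z' : X.presheaf.stalk x := e.symm z
    obtain ⟨q, hq, hzq⟩ : ∃ q ∈ minimalPrimes (X.presheaf.stalk x), z' ∉ q := by
      by_contra! hall
      apply hz
      refine e.symm.injective (Eq.trans ?_ (map_zero e.symm).symm)
      have h2 : z' ∈ sInf (minimalPrimes (X.presheaf.stalk x)) := Submodule.mem_sInf.2 hall
      rw [show minimalPrimes (X.presheaf.stalk x) = (⊥ : Ideal (X.presheaf.stalk x)).minimalPrimes from rfl,
        Ideal.sInf_minimalPrimes] at h2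
      obtain ⟨n, hn⟩ := h2
      exact eq_zero_of_pow_eq_zero (Ideal.mem_bot.1 hn)
    haveI := hq.1.1
    have hmax : IsLocalRing.maximalIdeal (X.presheaf.stalk x) ≤ q := fun a ha => by
      obtain ⟨n, hn⟩ := hnil a ha
      have hn' : a ^ n * z' = 0 := by
        show a ^ n • e.symm z = 0
        rw [← map_smul, hn, map_zero]
      exact hq.1.1.mem_of_pow_mem n ((hq.1.1.mem_or_mem (show a ^ n * z' ∈ q by rw [hn']; exact q.zero_mem)).resolve_right hzq)
    have hmem : y ∈ Set.range (X.fromSpecStalk x) := by rwa [Scheme.range_fromSpecStalk]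
    obtain ⟨p, rfl⟩ := hmem
    have hp : p = IsLocalRing.closedPoint (X.presheaf.stalk x) := by
      refine PrimeSpectrum.ext (le_antisymm (IsLocalRing.le_maximalIdeal p.isPrime.ne_top) (hmax.trans ?_))
      exact hq.2 ⟨p.isPrime, bot_le⟩ ((IsLocalRing.le_maximalIdeal p.isPrime.ne_top).trans hmax)
    rw [hp]
    exact Scheme.fromSpecStalk_closedPoint
  · intro h
    refine ⟨e 1, fun h0 => one_ne_zero (α := X.presheaf.stalk x) (e.injective (h0.trans (map_zero e).symm)),
      fun a ha => ⟨1, ?_⟩⟩
    have huniq : ∀ q : PrimeSpectrum (X.presheaf.stalk x),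
        q.asIdeal = IsLocalRing.maximalIdeal (X.presheaf.stalk x) := by
      intro q
      have hq : (X.fromSpecStalk x) q ⤳ x := by
        have hm : (X.fromSpecStalk x) q ∈ Set.range (X.fromSpecStalk x) := ⟨q, rfl⟩
        rwa [Scheme.range_fromSpecStalk] at hm
      rw [(X.fromSpecStalk x).injective ((h _ hq).trans Scheme.fromSpecStalk_closedPoint.symm)]
      rfl
    have hnil : IsNilpotent a := by
      rw [nilpotent_iff_mem_prime]
      intro J hJ
      rw [show J = _ from huniq ⟨J, hJ⟩]
      exact ha
    rw [pow_one, hnil.eq_zero, zero_smul]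

end Groth.Agent.S8869
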