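import Groth.Statements.S10961
import Groth.Agent.MeroFrac.Regular
import Groth.Agent.S8869
-- import your own Groth.Agent.* helpers here

set_option autoImplicit false
universe u
open CategoryTheory AlgebraicGeometry TopologicalSpace
open Mero

namespace Groth.Agent.S10961

/-- Let X be a reduced scheme with only finitely many irreducible components, with generic points x_1,
…, x_r, and let U be an open subset of X. Then the ring of sections over U of the sheaf of
meromorphic functions K_X maps bijectively, by evaluation, onto the product of the rings K_{X,x_i}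
over those generic points x_i that lie in U; moreover for each generic point x_i the local ring of X
at x_i is a field and maps bijectively onto K_{X,x_i}, so that K_{X,x_i} is the residue field of
x_i. (The hypothesis holds for every Noetherian scheme; for X integral it says that K_X is the
constant sheaf with value the function field.) -/
theorem result
    (X : Scheme.{u}) [IsReduced X] (hfin : (irreducibleComponents (X : Type u)).Finite) (U : X.Opens) :
    Function.Bijective (fun s : Γ(Mero.kmod X, U) =>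
      fun x : {x : U // closure ({x.1} : Set X) ∈ irreducibleComponents (X : Type u)} =>
        Mero.evalK X U x.1 s) ∧
    (∀ x : X, closure ({x} : Set X) ∈ irreducibleComponents (X : Type u) →
      IsField (X.presheaf.stalk x) ∧
        Function.Bijective (algebraMap (X.presheaf.stalk x) (Mero.KStalk X x))) := by
  classical
  have ha : ∀ x : ↥X, Curv2.IsWeakAssPoint (Coh.structureModule X) x → ∀ y : ↥X, y ⤳ x → y = x :=
    fun x hx => (Groth.Agent.S8869.result X x).1 hx
  have cmax : ∀ g : ↥X, closure ({g} : Set ↥X) ∈ irreducibleComponents ↥X ↔ ∀ w, w ⤳ g → w = g := by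
    intro g
    refine ⟨fun hg w hw => ?_, fun hgmax => ⟨isIrreducible_singleton.closure, fun S hS hle => ?_⟩⟩
    · have h2 : g ⤳ w := specializes_iff_mem_closure.2
        (hg.2 isIrreducible_singleton.closure (specializes_iff_closure_subset.1 hw) (subset_closure rfl))
      exact (hw.antisymm h2).eq
    · have hg := hS.isGenericPoint_genericPoint_closure
      have hw : hS.genericPoint ⤳ g := hg.specializes (subset_closure (hle (subset_closure rfl)))
      rw [← hgmax _ hw, show closure ({hS.genericPoint} : Set ↥X) = closure S from hg]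
      exact subset_closure
  have hfield : ∀ x : X, closure ({x} : Set X) ∈ irreducibleComponents (X : Type u) →
      IsField (X.presheaf.stalk x) ∧ Function.Bijective (algebraMap (X.presheaf.stalk x) (Mero.KStalk X x)) := by
    intro x hx
    have hunit : ∀ a : X.presheaf.stalk x, a ≠ 0 → IsUnit a := fun a ha0 => by
      by_contra hn
      exact ha0 (Groth.Agent.MeroFrac.isNilpotent_of_maximal ((cmax x).1 hx) hn).eq_zero
    refine ⟨⟨⟨0, 1, zero_ne_one⟩, mul_comm, fun {a} ha0 => (hunit a ha0).exists_right_inv⟩,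
      Mero.algebraMap_KStalk_injective x, fun q => ?_⟩
    obtain ⟨⟨c, w⟩, hcw⟩ := IsLocalization.surj (Mero.regStalk X x) q
    obtain ⟨v, hv⟩ := hunit (w : X.presheaf.stalk x) (fun h0 => zero_ne_one
      ((mem_nonZeroDivisors_iff_right.1 (Mero.regStalk_le_nonZeroDivisors x w.2) 1 (by rw [h0, mul_zero])).symm))
    refine ⟨c * (↑v⁻¹ : X.presheaf.stalk x), ?_⟩
    rw [map_mul, ← hcw, ← hv, mul_assoc, ← map_mul, Units.mul_inv, map_one, mul_one]
  have hwfin : ∀ A : X.Opens, (Groth.Agent.MeroFrac.wass A).Finite := fun A => by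
    refine Set.Finite.of_finite_image (f := fun z : ↥X => closure ({z} : Set ↥X))
      (hfin.subset (by rintro _ ⟨z, hz, rfl⟩; exact (cmax z).2 (ha z hz.2))) ?_
    intro z _ w _ h
    exact (inseparable_iff_closure_eq.2 h).eq
  refine ⟨⟨fun s t hst => ?_, fun v => ?_⟩, hfield⟩
  · rw [← sub_eq_zero]
    refine Groth.Agent.MeroFrac.k_eq_zero _ fun z hz => ?_
    rw [map_sub, sub_eq_zero]
    exact congrFun hst ⟨⟨z, hz.1⟩, (cmax z).2 (ha z hz.2)⟩
  · choose c hc using fun z : {x : U // closure ({x.1} : Set X) ∈ irreducibleComponents (X : Type u)} =>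
      (hfield z.1.1 z.2).2.2 (v z)
    have loc : ∀ y : U, ∃ (A : X.Opens) (_ : y.1 ∈ A) (hAU : A ≤ U) (t : Γ(Mero.kmod X, A)),
        ∀ z (hz : z ∈ Groth.Agent.MeroFrac.wass A), Mero.evalK X A ⟨z, hz.1⟩ t =
          v ⟨⟨z, hAU hz.1⟩, (cmax z).2 (ha z hz.2)⟩ := by
      intro y
      obtain ⟨_, ⟨A, hA, rfl⟩, hyA, hAU⟩ := X.isBasis_affineOpens.exists_subset_of_mem_open y.2 U.2
      obtain ⟨a, b, hb, hab⟩ := Groth.Agent.MeroFrac.exists_frac_of_values hA (hwfin A) ha
        (fun z => c ⟨⟨z.1, hAU z.2.1⟩, (cmax z.1).2 (ha z.1 z.2.2)⟩)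
      refine ⟨A, hyA, hAU, ⟨fun w => Localization.mk (X.presheaf.germ A w.1 w.2 a) (Mero.regGerm w ⟨b, hb⟩),
        fun w => ⟨A, w.2, 𝟙 _, a, ⟨b, hb⟩, fun _ => rfl⟩⟩, fun z hz => ?_⟩
      change Localization.mk _ _ = _
      rw [← hc, Localization.mk_eq_mk', IsLocalization.mk'_eq_iff_eq_mul, ← map_mul]
      exact congrArg _ (hab ⟨z, hz⟩)
    choose A hyA hAU t ht using loc
    have agree : ∀ (y : U) (w : A y), Mero.evalK X (A y) w (t y) =
        Mero.evalK X (A ⟨w.1, hAU y w.2⟩) ⟨w.1, hyA ⟨w.1, hAU y w.2⟩⟩ (t ⟨w.1, hAU y w.2⟩) := by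
      intro y w
      let y' : U := ⟨w.1, hAU y w.2⟩
      let T : X.Opens := A y ⊓ A y'
      have h0 := Groth.Agent.MeroFrac.k_eq_zero
        ((Mero.kmod X).presheaf.map (homOfLE (inf_le_left : T ≤ A y)).op (t y) -
          (Mero.kmod X).presheaf.map (homOfLE (inf_le_right : T ≤ A y')).op (t y')) (fun z hz => by
          rw [map_sub, sub_eq_zero]
          exact (ht y z ⟨hz.1.1, hz.2⟩).trans (ht y' z ⟨hz.1.2, hz.2⟩).symm)
      have h1 := congrArg (fun u : Γ(Mero.kmod X, T) => Mero.evalK X T ⟨w.1, w.2, hyA y'⟩ u) h0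
      rw [map_sub, map_zero, sub_eq_zero] at h1
      exact h1
    refine ⟨⟨fun y => Mero.evalK X (A y) ⟨y.1, hyA y⟩ (t y), fun y => ?_⟩, funext fun z => ?_⟩
    · obtain ⟨B, hB, i, a, b, hab⟩ := (t y).2 ⟨y.1, hyA y⟩
      exact ⟨B, hB, i ≫ homOfLE (hAU y), a, b, fun w => (agree y ⟨w.1, i.le w.2⟩).symm.trans (hab w)⟩
    · exact ht z.1 z.1.1 ⟨hyA z.1, (Groth.Agent.S8869.result X z.1.1).2 ((cmax z.1.1).1 z.2)⟩
end Groth.Agent.S10961
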