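import Mathlib.AlgebraicGeometry.QuasiAffine
import Mathlib.AlgebraicGeometry.Morphisms.QuasiSeparated
import Groth.Statements.S10967
-- import your own Groth.Agent.* helpers here

set_option autoImplicit false
set_option backward.isDefEq.respectTransparency false
set_option backward.isDefEq.respectTransparency.types false
universe u
open CategoryTheory AlgebraicGeometry TopologicalSpace
open MoreMor

namespace Groth.Agent.S10967

/-- Quasi-affine over an affine base: call a morphism f : X → Y quasi-affine when Y has a cover by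
affine opens V_i whose preimages f⁻¹(V_i) are quasi-affine schemes (quasi-compact open subschemes of
affine schemes; equivalently quasi-compact with X → Spec Γ(X, O_X) an immersion). If Y is affine and
f is quasi-affine in this sense, then X is a quasi-affine scheme. -/
theorem result {X Y : Scheme.{u}} [IsAffine Y]
    (f : X ⟶ Y) {ι : Type u} (V : ι → Y.Opens) (hV : iSup V = ⊤) (hVa : ∀ i, IsAffineOpen (V i))
    (hq : ∀ i, Scheme.IsQuasiAffine (↑(f ⁻¹ᵁ V i) : Scheme.{u})) :
    X.IsQuasiAffine := by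
  classical
  have hc : QuasiCompact f := by
    rw [HasAffineProperty.iff_of_iSup_eq_top (P := @QuasiCompact) (fun i => ⟨V i, hVa i⟩) hV]
    exact fun i => (hq i).toCompactSpace
  have hs : QuasiSeparated f := by
    rw [HasAffineProperty.iff_of_iSup_eq_top (P := @QuasiSeparated) (fun i => ⟨V i, hVa i⟩) hV]
    intro i
    haveI := hq i
    infer_instance
  haveI : CompactSpace X := QuasiCompact.compactSpace_of_compactSpace f
  haveI : QuasiSeparatedSpace X := quasiSeparatedSpace_of_quasiSeparated f
  refine Scheme.IsQuasiAffine.of_forall_exists_mem_basicOpen X fun x => ?_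
  obtain ⟨i, hxi⟩ := TopologicalSpace.Opens.mem_iSup.1 (hV.ge (show f x ∈ (⊤ : Y.Opens) from trivial))
  obtain ⟨_, ⟨_, ⟨s, rfl⟩, rfl⟩, hxs, hsV⟩ := (isBasis_basicOpen Y).exists_subset_of_mem_open hxi (V i).2
  haveI := hq i
  let t : Γ(X, ⊤) := f.appTop s
  have hst : X.basicOpen t = f ⁻¹ᵁ Y.basicOpen s := (Scheme.preimage_basicOpen_top f s).symm
  have hle : X.basicOpen t ≤ f ⁻¹ᵁ V i := by rw [hst]; exact f.preimage_mono hsV
  haveI : CompactSpace (X.basicOpen t : Scheme.{u}) :=
    isCompact_iff_compactSpace.1 (isRetrocompact_basicOpen t |>.isCompact)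
  haveI := Scheme.IsQuasiAffine.of_isImmersion (X.homOfLE hle)
  obtain ⟨_, ⟨_, ⟨r, hr, rfl⟩, rfl⟩, hxr, -⟩ := (Scheme.IsQuasiAffine.isBasis_basicOpen
    (X.basicOpen t : Scheme.{u})).exists_subset_of_mem_open
      (Set.mem_univ (⟨x, show x ∈ X.basicOpen t by rw [hst]; exact hxs⟩ : (X.basicOpen t : Scheme.{u}))) isOpen_univ
  haveI := isLocalization_basicOpen_of_qcqs isCompact_univ isQuasiSeparated_univ t
  obtain ⟨⟨z, ⟨_, n, rfl⟩⟩, hz⟩ := IsLocalization.surj (Submonoid.powers t) ((X.basicOpen t).topIso.hom r)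
  let r' := (X.basicOpen t).topIso.hom r
  have h1 : (X.basicOpen t).ι ''ᵁ (X.basicOpen t : Scheme.{u}).basicOpen r = X.basicOpen r' := by
    rw [Scheme.image_basicOpen]
    simp [r', Scheme.Opens.topIso]
    exact (X.basicOpen_res_eq r (eqToHom _)).symm
  have h2 : X.basicOpen r' = X.basicOpen (z * t) := by
    rw [Scheme.basicOpen_mul]
    have hu := IsLocalization.map_units (M := Submonoid.powers t) Γ(X, X.basicOpen t) ⟨t ^ n, n, rfl⟩
    have h3 := congrArg X.basicOpen hz
    rw [Scheme.basicOpen_mul, X.basicOpen_of_isUnit hu, inf_eq_left.2 (X.basicOpen_le r')] at h3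
    rw [h3]
    exact (X.basicOpen_res _ (homOfLE le_top).op).trans (inf_comm _ _)
  refine ⟨z * t, ?_, ?_⟩
  · rw [← h2, ← h1]; exact hr.image_of_isOpenImmersion _
  · rw [← h2, ← h1]; exact ⟨_, hxr, rfl⟩

end Groth.Agent.S10967
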