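import Groth.Statements.S10969
import Groth.Agent.FunFldLib.Cor

set_option autoImplicit false
open FunFld

namespace Groth.Agent.S10969

/-- For `x` transcendental over `k` in a function field of one variable `K/k`, the degree of the divisor
of zeros of `x` equals `[K : k(x)]`. -/
theorem result (k K : Type*) [Field k] [Field K] [Algebra k K]
    (hK : FunFld.IsFunctionField k K) (x : K) (hx : Transcendental k x) :
    (∑ P ∈ (FunFld.div k x).support with 0 < FunFld.div k x P,
        FunFld.div k x P * (P.deg : ℤ)) =
      Module.finrank (IntermediateField.adjoin k ({x} : Set K)) K := by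
  classical
  have h := FunFldLib.deg_poles hK.1 (x := x⁻¹) (fun h => hx (IsAlgebraic.inv_iff.1 h))
  have hadj : IntermediateField.adjoin k ({x⁻¹} : Set K) = IntermediateField.adjoin k ({x} : Set K) := by
    apply le_antisymm <;> rw [IntermediateField.adjoin_simple_le_iff]
    · exact inv_mem (IntermediateField.mem_adjoin_simple_self k x)
    · simpa using inv_mem (IntermediateField.mem_adjoin_simple_self k x⁻¹)
  rw [hadj, FunFldLib.div_inv hK.1, neg_neg] at h
  rw [← h, FunFldLib.deg_eq_sum _ ((FunFld.div k x).support.filter (fun P => 0 < FunFld.div k x P))]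
  · refine Finset.sum_congr rfl fun P hP => ?_
    rw [Finset.mem_filter] at hP
    rw [Finsupp.sup_apply, Finsupp.zero_apply, max_eq_left hP.2.le]
  · intro P hP
    rw [Finsupp.mem_support_iff, Finsupp.sup_apply, Finsupp.zero_apply] at hP
    rw [Finset.mem_filter, Finsupp.mem_support_iff]
    have h0 : 0 < FunFld.div k x P := by
      by_contra hc
      exact hP (max_eq_right (not_lt.1 hc))
    exact ⟨h0.ne', h0⟩

end Groth.Agent.S10969
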