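import Groth.Statements.S10972
import Groth.Agent.FunFldLib.Cor

set_option autoImplicit false
open FunFld

namespace Groth.Agent.S10972

/-- A nonconstant element of a function field of one variable has at least one zero and at least one
pole. -/
theorem result (k K : Type*) [Field k] [Field K] [Algebra k K]
    (hK : FunFld.IsFunctionField k K) (x : K) (hx : x ∉ Set.range (algebraMap k K)) :
    (∃ P : FunFld.Place k K, 0 < P.ord x) ∧ ∃ Q : FunFld.Place k K, Q.ord x < 0 := by
  have hT : Transcendental k x := fun h => hx (hK.2 x h)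
  have hx0 : x ≠ 0 := fun h => hx ⟨0, by rw [map_zero, h]⟩
  obtain ⟨P, hP⟩ := FunFldLib.exists_place_val_lt_one hK.1 hT
  obtain ⟨Q, hQ⟩ := FunFldLib.exists_place_val_lt_one hK.1 (y := x⁻¹) (fun h => hT (IsAlgebraic.inv_iff.1 h))
  rw [FunFldLib.val_lt_one_iff P hx0] at hP
  rw [FunFldLib.val_lt_one_iff Q (inv_ne_zero hx0), FunFldLib.ord_inv] at hQ
  exact ⟨⟨P, hP⟩, ⟨Q, by omega⟩⟩

end Groth.Agent.S10972
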