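import Groth.Statements.S10973
import Groth.Agent.FunFldLib.Cor

set_option autoImplicit false
open FunFld

namespace Groth.Agent.S10973

/-- Two nonzero elements of a function field of one variable with the same principal divisor differ by a
constant multiple. -/
theorem result (k K : Type*) [Field k] [Field K] [Algebra k K]
    (hK : FunFld.IsFunctionField k K) (x y : K) (hx : x ≠ 0) (hy : y ≠ 0)
    (h : ∀ P : FunFld.Place k K, P.ord x = P.ord y) : ∃ c : k, x = c • y := by
  have halg : IsAlgebraic k (x / y) := by
    by_contra hT
    obtain ⟨P, hP⟩ := FunFldLib.exists_place_val_lt_one hK.1 (y := x / y) hT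
    rw [FunFldLib.val_lt_one_iff P (div_ne_zero hx hy), FunFldLib.ord_div P hx hy, h P, sub_self] at hP
    exact lt_irrefl _ hP
  obtain ⟨c, hc⟩ := hK.2 _ halg
  exact ⟨c, by rw [Algebra.smul_def, hc, div_mul_cancel₀ _ hy]⟩

end Groth.Agent.S10973
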