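import Groth.Statements.S10975
import Groth.Agent.FunFldLib.Cor

set_option autoImplicit false
open FunFld

namespace Groth.Agent.S10975

/-- `A(D₁ ⊔ D₂) = A(D₁) + A(D₂)` for divisors of a function field of one variable. -/
theorem result (k K : Type*) [Field k] [Field K] [Algebra k K] (D₁ D₂ : FunFld.Divisor k K) :
    FunFld.AD (D₁ ⊔ D₂) = FunFld.AD D₁ ⊔ FunFld.AD D₂ := by
  classical
  refine le_antisymm (fun a ha => ?_) (sup_le (FunFldLib.AD_mono le_sup_left) (FunFldLib.AD_mono le_sup_right))
  refine Submodule.mem_sup.2 ⟨fun P => if D₂ P ≤ D₁ P then a P else 0, fun P => ?_,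
    fun P => if D₂ P ≤ D₁ P then 0 else a P, fun P => ?_, funext fun P => ?_⟩
  · dsimp only; split_ifs with h
    · exact (ha P).trans (WithZero.exp_le_exp.2 (by rw [Finsupp.sup_apply]; exact sup_le le_rfl h))
    · simp
  · dsimp only; split_ifs with h
    · simp
    · exact (ha P).trans (WithZero.exp_le_exp.2 (by rw [Finsupp.sup_apply]; exact sup_le (not_le.1 h).le le_rfl))
  · simp only [Pi.add_apply]; split_ifs <;> simp

end Groth.Agent.S10975
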