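import Groth.Statements.S10981
import Groth.Agent.FunFldLib.FundEq
import Groth.Agent.FunFldLib.QuadPlace
import Groth.Agent.FunFldLib.PlaceIntClosure

set_option autoImplicit false
open FunFld

namespace Groth.Agent.S10981

open Groth.Agent.FunFldLib WithZero IsLocalRing in
theorem span_ok {k K K' : Type*} [Field k] [Field K] [Field K'] [Algebra k K] [Algebra K K'] [Algebra k K']
    [IsScalarTower k K K'] [FiniteDimensional K K'] {P : FunFld.Place k K} [Algebra P.O K'] [IsScalarTower P.O K K']
    {ι : Type*} [Fintype ι] (b : ι → K') (S : Finset (FunFld.Place k K')) (e : FunFld.Place k K' → ℕ)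
    (he : ∀ R ∈ S, FunFld.IsOverWith R P (e R)) (hcard : Fintype.card ι = Module.finrank K K')
    (hind : ∀ c : ι → P.O, (∀ R ∈ S, R.1 (∑ j, algebraMap P.O K' (c j) * b j) ≤ exp (-(e R : ℤ))) →
      ∀ j, P.1 (c j : K) < 1) (z : K') (hz : ∀ R ∈ S, R.1 z ≤ 1) :
    z ∈ Submodule.span P.O (Set.range b) := by
  classical
  have scale : ∀ (g : ι → K) (j₀ : ι), (∀ j, P.1 (g j) ≤ P.1 (g j₀)) → g j₀ ≠ 0 →
      ∃ c : ι → P.O, c j₀ = 1 ∧ ∑ j, algebraMap P.O K' (c j) * b j = (∑ j, g j • b j) * (algebraMap K K' (g j₀))⁻¹ := by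
    intro g j₀ hle h0
    refine ⟨fun j => ⟨g j / g j₀, (Valuation.mem_valuationSubring_iff P.1 _).2 (by
      rw [map_div₀, div_le_one₀ (zero_lt_iff.2 ((Valuation.ne_zero_iff _).2 h0))]; exact hle j)⟩,
      Subtype.ext (div_self h0), ?_⟩
    rw [Finset.sum_mul]
    refine Finset.sum_congr rfl fun j _ => ?_
    rw [algebraMap_O, Algebra.smul_def, map_div₀, div_eq_mul_inv]; ring
  have hli : LinearIndependent K b := Fintype.linearIndependent_iff.2 fun g hg j => by
    by_contra hj
    obtain ⟨j₀, -, hmax⟩ := Finset.exists_max_image Finset.univ (fun i => P.1 (g i)) ⟨j, Finset.mem_univ j⟩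
    have h0 : g j₀ ≠ 0 := fun h => (hmax j (Finset.mem_univ j)).not_gt (by
      show P.1 (g j₀) < P.1 (g j)
      rw [h, map_zero]; exact zero_lt_iff.2 ((Valuation.ne_zero_iff _).2 hj))
    obtain ⟨c, hc1, hc⟩ := scale g j₀ (fun i => hmax i (Finset.mem_univ i)) h0
    have := hind c (fun R _ => by rw [hc, hg, zero_mul, map_zero]; exact zero_le) j₀
    rw [hc1] at this
    simp at this
  rcases isEmpty_or_nonempty ι with hι | hι
  · have := Module.finrank_pos (R := K) (M := K'); rw [← hcard, Fintype.card_eq_zero] at this; omega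
  set B := basisOfLinearIndependentOfCardEqFinrank hli hcard
  set g := fun j => B.repr z j
  have hzg : ∑ j, g j • b j = z := by
    have := B.sum_repr z
    simpa [B, g, coe_basisOfLinearIndependentOfCardEqFinrank] using this
  obtain ⟨j₀, -, hmax⟩ := Finset.exists_max_image Finset.univ (fun i => P.1 (g i)) Finset.univ_nonempty
  have hle : ∀ j, P.1 (g j) ≤ 1 := fun j => by
    by_contra hgt
    rw [not_le] at hgt
    have hbig : 1 < P.1 (g j₀) := hgt.trans_le (hmax j (Finset.mem_univ j))
    have h0 : g j₀ ≠ 0 := fun h => by rw [h, map_zero] at hbig; exact (not_lt_zero hbig)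
    obtain ⟨c, hc1, hc⟩ := scale g j₀ (fun i => hmax i (Finset.mem_univ i)) h0
    have hinv : P.1 (g j₀)⁻¹ ≤ exp (-1 : ℤ) := by
      refine (lt_exp_iff_le P _ 0).1 ?_
      rw [map_inv₀, exp_zero, inv_lt_one₀ (zero_lt_iff.2 ((Valuation.ne_zero_iff _).2 h0))]
      exact hbig
    have := hind c (fun R hR => by
      rw [hc, hzg, ← map_inv₀, map_mul, he R hR]
      refine (mul_le_mul' (hz R hR) (pow_le_pow_left₀ zero_le hinv _)).trans ?_
      rw [one_mul, ← exp_nsmul, nsmul_eq_mul, mul_neg, mul_one]) j₀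
    rw [hc1] at this
    simp at this
  rw [← hzg]
  refine Submodule.sum_mem _ fun j _ => ?_
  rw [show g j • b j = (⟨g j, (Valuation.mem_valuationSubring_iff P.1 _).2 (hle j)⟩ : P.O) • b j from
    (IsScalarTower.algebraMap_smul K (⟨g j, (Valuation.mem_valuationSubring_iff P.1 _).2 (hle j)⟩ : P.O) (b j))]
  exact Submodule.smul_mem _ _ (Submodule.subset_span (Set.mem_range_self j))

set_option backward.isDefEq.respectTransparency false in
open Groth.Agent.FunFldLib WithZero IsLocalRing in
theorem exists_lifts {k K K' : Type*} [Field k] [Field K] [Field K'] [Algebra k K] [Algebra K K'] [Algebra k K']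
    [IsScalarTower k K K'] [FiniteDimensional K K'] (hK : IsFF k K) {Q : FunFld.Place k K'} {P : FunFld.Place k K} {e : ℕ}
    (he : FunFld.IsOverWith Q P e) :
    ∃ (d : ℕ) (u : Fin d → K'), Q.deg = d * P.deg ∧ (∀ l, Q.1 (u l) ≤ 1) ∧
      ∀ c : Fin d → K, (∀ l, P.1 (c l) ≤ 1) → Q.1 (∑ l, algebraMap K K' (c l) * u l) < 1 → ∀ l, P.1 (c l) < 1 := by
  haveI := finite_residue (isFF_extension (K' := K') hK) Q
  set L := (resMap he).fieldRange
  have h4 : Module.finrank k L = Module.finrank k (ResidueField P.O) :=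
    (AlgEquiv.ofInjectiveField (resMap he)).toLinearEquiv.finrank_eq.symm
  haveI : FiniteDimensional L (ResidueField Q.O) := Module.Finite.of_restrictScalars_finite k L _
  let B := Module.finBasis L (ResidueField Q.O)
  choose u hu using fun l => residue_surjective (R := Q.O) (B l)
  refine ⟨_, fun l => (u l : K'), ?_, fun l => (Valuation.mem_valuationSubring_iff Q.1 _).1 (u l).2, fun c hc hlt => ?_⟩
  · rw [mul_comm]
    show Module.finrank k (ResidueField Q.O) = Module.finrank k (ResidueField P.O) * _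
    rw [← h4, Module.finrank_mul_finrank]
  let cO : Fin _ → P.O := fun l => ⟨c l, (Valuation.mem_valuationSubring_iff P.1 _).2 (hc l)⟩
  have h1 : residue Q.O (∑ l, oMap he (cO l) * u l) = 0 := by
    rw [residue_eq_zero_iff_val]
    have : ((∑ l, oMap he (cO l) * u l : Q.O) : K') = ∑ l, algebraMap K K' (c l) * (u l : K') := by
      rw [show ((∑ l, oMap he (cO l) * u l : Q.O) : K') = Q.O.subtype (∑ l, oMap he (cO l) * u l) from rfl, map_sum]
      rfl
    rw [this]; exact hlt
  rw [map_sum] at h1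
  have h2 : ∑ l, (⟨residue Q.O (oMap he (cO l)), ⟨residue P.O (cO l), rfl⟩⟩ : L) • B l = 0 := by
    rw [← h1]
    exact Finset.sum_congr rfl fun l _ => by rw [map_mul, hu]; rfl
  intro l
  have h3 := Fintype.linearIndependent_iff.1 B.linearIndependent _ h2 l
  have h5 : resMap he (residue P.O (cO l)) = 0 := congrArg Subtype.val h3
  exact (residue_eq_zero_iff_val P (cO l)).1 ((resMap he).toRingHom.injective (h5.trans (map_zero _).symm))

open Groth.Agent.FunFldLib WithZero IsLocalRing in
theorem core {k K K' : Type*} [Field k] [Field K] [Field K'] [Algebra k K] [Algebra K K'] [Algebra k K']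
    [IsScalarTower k K K'] [FiniteDimensional K K'] (hK : IsFF k K) (P : FunFld.Place k K) [Algebra P.O K']
    [IsScalarTower P.O K K'] : Module.Finite P.O (integralClosure P.O K') := by
  classical
  haveI := isPID_O P
  set S := (finite_over (K' := K') hK P).toFinset
  have hmem : ∀ R, R ∈ S → FunFld.IsOver R P := fun R hR => (finite_over (K' := K') hK P).mem_toFinset.1 hR
  have hov : ∀ R ∈ S, FunFld.IsOverWith R P (eAt hK R) := fun R hR => by
    have h := (isOver_iff hK R P).1 (hmem R hR)
    exact h ▸ isOverWith_below hK R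
  choose d u hd hu1 hu using fun R : {R // R ∈ S} => exists_lifts hK (hov R.1 R.2)
  choose s hs0 hs using fun R : FunFld.Place k K' => exists_val_eq R (-1)
  set N := ∑ R ∈ S, eAt (K := K) hK R
  have hN : ∀ R ∈ S, eAt (K := K) hK R ≤ N := fun R hR =>
    Finset.single_le_sum (f := fun R => eAt (K := K) hK R) (fun _ _ => Nat.zero_le _) hR
  let ι := Σ R : {R // R ∈ S}, Fin (eAt (K := K) hK R.1) × Fin (d R)
  choose b hb using fun j : ι => exists_approx S
    (fun R => if R = j.1.1 then s j.1.1 ^ (j.2.1 : ℕ) * u j.1 j.2.2 else 0) (fun _ => -(N : ℤ))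
  have hval : ∀ (R : {R // R ∈ S}) (i : Fin (eAt (K := K) hK R.1)) (l : Fin (d R)),
      R.1.1 (s R.1 ^ (i : ℕ) * u R l) ≤ exp (-(i : ℤ)) := fun R i l => by
    rw [map_mul, map_pow, hs, ← exp_nsmul, nsmul_eq_mul, mul_neg, mul_one]
    exact mul_le_of_le_one_right' (hu1 R l)
  have hb1 : ∀ j : ι, ∀ R ∈ S, R.1 (b j) ≤ 1 := fun j R hR => by
    have h := (hb j R hR).trans (show exp (-(N : ℤ)) ≤ 1 by rw [← exp_zero, exp_le_exp]; omega)
    split_ifs at h with hRj
    · subst hRj
      rw [show b j = (b j - s j.1.1 ^ (j.2.1 : ℕ) * u j.1 j.2.2) + s j.1.1 ^ (j.2.1 : ℕ) * u j.1 j.2.2 by ring]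
      exact Valuation.map_add_le _ h ((hval j.1 j.2.1 j.2.2).trans (by rw [← exp_zero, exp_le_exp]; omega))
    · rwa [sub_zero] at h
  have hcard : Fintype.card ι = Module.finrank K K' := by
    have h1 := sum_ram_mul_deg' (K' := K') hK P S fun R => Set.Finite.mem_toFinset _
    have h2 : ∀ R : {R // R ∈ S}, FunFld.ramIdx R.1 P * R.1.deg = eAt (K := K) hK R.1 * d R * P.deg := fun R => by
      rw [hd R, ← (isOver_iff hK R.1 P).1 (hmem R.1 R.2), ramIdx_below]; ring
    rw [← Finset.sum_coe_sort, Finset.sum_congr rfl (fun R _ => h2 R), ← Finset.sum_mul] at h1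
    rw [Fintype.card_sigma]
    simp only [Fintype.card_prod, Fintype.card_fin]
    exact Nat.eq_of_mul_eq_mul_right (deg_pos hK P) h1
  have hind : ∀ c : ι → P.O, (∀ R ∈ S, R.1 (∑ j, algebraMap P.O K' (c j) * b j) ≤ exp (-(eAt (K := K) hK R : ℤ))) →
      ∀ j, P.1 (c j : K) < 1 := by
    intro c hc j
    obtain ⟨⟨R, hR⟩, ii, ll⟩ := j
    revert ii ll
    set RR : {R // R ∈ S} := ⟨R, hR⟩
    set e := eAt (K := K) hK R
    have hcv : ∀ j, R.1 (algebraMap P.O K' (c j)) ≤ 1 := fun j => by
      rw [algebraMap_O, hov R hR]; exact pow_le_one₀ zero_le ((Valuation.mem_valuationSubring_iff P.1 _).1 (c j).2)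
    have hw : R.1 (∑ j, algebraMap P.O K' (c j) * (if R = j.1.1 then s j.1.1 ^ (j.2.1 : ℕ) * u j.1 j.2.2 else 0)) ≤ exp (-(e : ℤ)) := by
      rw [show (∑ j, algebraMap P.O K' (c j) * (if R = j.1.1 then s j.1.1 ^ (j.2.1 : ℕ) * u j.1 j.2.2 else 0)) =
        (∑ j, algebraMap P.O K' (c j) * b j) + ∑ j, (-(algebraMap P.O K' (c j) * (b j - if R = j.1.1 then s j.1.1 ^ (j.2.1 : ℕ) * u j.1 j.2.2 else 0))) by
          rw [← Finset.sum_add_distrib]; exact Finset.sum_congr rfl fun j _ => by ring]
      refine Valuation.map_add_le _ (hc R hR) (Valuation.map_sum_le _ fun j _ => ?_)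
      rw [Valuation.map_neg, map_mul]
      exact (mul_le_of_le_one_left' (hcv j)).trans ((hb j R hR).trans (exp_le_exp.2 (by have := hN R hR; omega)))
    have hsum : (∑ j, algebraMap P.O K' (c j) * (if R = j.1.1 then s j.1.1 ^ (j.2.1 : ℕ) * u j.1 j.2.2 else 0)) =
        ∑ i : Fin e, s R ^ (i : ℕ) * ∑ l : Fin (d RR), algebraMap K K' (c ⟨RR, i, l⟩ : K) * u RR l := by
      rw [Fintype.sum_sigma, Fintype.sum_eq_single RR (fun R' hne => Finset.sum_eq_zero fun x _ => by
        rw [if_neg (fun h => hne (Subtype.ext h.symm)), mul_zero]), Fintype.sum_prod_type]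
      refine Finset.sum_congr rfl fun i _ => ?_
      rw [Finset.mul_sum]
      refine Finset.sum_congr rfl fun l _ => ?_
      rw [if_pos rfl, algebraMap_O]; ring
    rw [hsum] at hw
    suffices H : ∀ n : ℕ, ∀ i : Fin e, (i : ℕ) = n → ∀ l, P.1 (c ⟨RR, i, l⟩ : K) < 1 from fun ii ll => H _ ii rfl ll
    intro n
    induction n using Nat.strong_induction_on with
    | _ n ih =>
      intro i hi
      refine hu RR _ (fun l => (Valuation.mem_valuationSubring_iff P.1 _).1 (c _).2) ?_
      set U := fun i : Fin e => ∑ l : Fin (d RR), algebraMap K K' (c ⟨RR, i, l⟩ : K) * u RR l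
      have hothers : ∀ i' : Fin e, i' ≠ i → R.1 (s R ^ (i' : ℕ) * U i') ≤ exp (-((i : ℤ) + 1)) := fun i' hne => by
        rw [map_mul, map_pow, hs, ← exp_nsmul, nsmul_eq_mul, mul_neg, mul_one]
        rcases lt_or_gt_of_ne (fun h : (i' : ℕ) = i => hne (Fin.ext h)) with hlt | hgt
        · have hU : R.1 (U i') ≤ exp (-(e : ℤ)) := Valuation.map_sum_le _ fun l _ => by
            rw [map_mul, hov R hR]
            refine (mul_le_of_le_one_right' (hu1 RR l)).trans ?_
            refine (pow_le_pow_left₀ zero_le ((lt_exp_iff_le P _ 0).1 ((ih i' (hi ▸ hlt) i' rfl l).trans_eq exp_zero.symm)) _).trans ?_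
            rw [← exp_nsmul, nsmul_eq_mul, zero_sub, mul_neg, mul_one]
          refine (mul_le_mul' le_rfl hU).trans ?_
          rw [← exp_add, exp_le_exp]; have := i.2; omega
        · have hU : R.1 (U i') ≤ 1 := Valuation.map_sum_le _ fun l _ => by
            rw [map_mul, hov R hR]
            exact mul_le_one' (pow_le_one₀ zero_le ((Valuation.mem_valuationSubring_iff P.1 _).1 (c _).2)) (hu1 RR l)
          exact (mul_le_of_le_one_right' hU).trans (exp_le_exp.2 (by omega))
      have hmain : R.1 (s R ^ (i : ℕ) * U i) ≤ exp (-((i : ℤ) + 1)) := by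
        rw [show s R ^ (i : ℕ) * U i = (∑ i' : Fin e, s R ^ (i' : ℕ) * U i') + -∑ i' ∈ Finset.univ.erase i, s R ^ (i' : ℕ) * U i' by
          rw [← Finset.add_sum_erase _ _ (Finset.mem_univ i)]; ring]
        refine Valuation.map_add_le _ (hw.trans (exp_le_exp.2 (by have := i.2; omega))) ?_
        rw [Valuation.map_neg]
        exact Valuation.map_sum_le _ fun i' hi' => hothers i' (Finset.ne_of_mem_erase hi')
      show R.1 (U i) < 1
      by_contra h1
      rw [not_lt] at h1
      rw [map_mul, map_pow, hs, ← exp_nsmul, nsmul_eq_mul, mul_neg, mul_one] at hmain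
      have := (le_mul_of_one_le_right' h1).trans hmain
      rw [exp_le_exp] at this
      omega
  have hspan := span_ok b S (fun R => eAt (K := K) hK R) hov hcard hind
  have hle : ∀ z : K', IsIntegral P.O z → ∀ R ∈ S, R.1 z ≤ 1 := fun z hz R hR => integral_le_one (hov R hR) hz
  set M := Submodule.span P.O (Set.range b)
  have hM : Subalgebra.toSubmodule (integralClosure P.O K') ≤ M := fun z hz => hspan z (hle z hz)
  haveI : Module.Finite P.O M := Module.Finite.span_of_finite P.O (Set.finite_range b)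
  exact Module.Finite.of_injective (Submodule.inclusion hM) (Submodule.inclusion_injective hM)

/-- Let `P` be a place of a function field of one variable `K/k` and let `K'` be a field of finite
degree over `K`, separable or not; then `O_P` has a module-finite integral closure in `K'`. -/
theorem result (k K : Type*) [Field k] [Field K] [Algebra k K]
    (hK : FunFld.IsFunctionField k K) (P : FunFld.Place k K) (K' : Type*) [Field K'] [Algebra K K']
    [FiniteDimensional K K'] [Algebra P.O K'] [IsScalarTower P.O K K'] :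
    Module.Finite P.O (integralClosure P.O K') := by
  letI : Algebra k K' := ((algebraMap K K').comp (algebraMap k K)).toAlgebra
  haveI : IsScalarTower k K K' := IsScalarTower.of_algebraMap_eq fun _ => rfl
  exact core hK.1 P

end Groth.Agent.S10981
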