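import Groth.Statements.S10986
import Groth.Agent.FunFldLib.Cor

set_option autoImplicit false
open FunFld

namespace Groth.Agent.S10986

/-- `L(D) · W(C) ⊆ W(C - D)`: if `x ∈ L(D)` and `ω` vanishes on `A(C) + K` then `xω` vanishes on `A(C -
D) + K`. -/
theorem result (k K : Type*) [Field k] [Field K] [Algebra k K]
    (C D : FunFld.Divisor k K) (x : K) (hxD : x ∈ FunFld.L D)
    (hx : ∀ a ∈ FunFld.adele k K, x • a ∈ FunFld.adele k K)
    (ω : Module.Dual k (FunFld.adele k K)) (hω : ω ∈ FunFld.WD C) :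
    FunFld.mulW x hx ω ∈ FunFld.WD (C - D) := by
  refine FunFldLib.mem_WD_iff.2 fun a ha => ?_
  rw [FunFldLib.mulW_apply]
  refine FunFldLib.mem_WD_iff.1 hω _ ?_
  obtain ⟨b, hb, c, ⟨z, rfl⟩, hbc⟩ := Submodule.mem_sup.1 ha
  show x • (a : FunFld.Place k K → K) ∈ FunFld.AD C ⊔ FunFldLib.KK
  rw [← hbc, smul_add]
  refine Submodule.add_mem _ (Submodule.mem_sup_left (fun P => ?_)) (Submodule.mem_sup_right ⟨x * z, rfl⟩)
  rw [Pi.smul_apply, smul_eq_mul, map_mul]
  refine (mul_le_mul' (hxD P) (hb P)).trans_eq ?_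
  rw [← WithZero.exp_add, Finsupp.sub_apply]; congr 1; ring

end Groth.Agent.S10986
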