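import Groth.Statements.S10987
import Groth.Agent.FunFldLib.Cor

set_option autoImplicit false
open FunFld

namespace Groth.Agent.S10987

/-- `[xω] = [x] + [ω]` for `x ≠ 0` and a Weil differential `ω` with a divisor, in a function field of
one variable. -/
theorem result (k K : Type*) [Field k] [Field K] [Algebra k K]
    (hK : FunFld.IsFunctionField k K) (x : K) (h0 : x ≠ 0) (hx : ∀ a ∈ FunFld.adele k K, x • a ∈ FunFld.adele k K)
    (ω : Module.Dual k (FunFld.adele k K)) (C : FunFld.Divisor k K) (hω : FunFld.IsDivOf ω C) :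
    FunFld.IsDivOf (FunFld.mulW x hx ω) (C + FunFld.div k x) := by
  intro E
  refine ⟨fun hE => ?_, fun hle => FunFldLib.WD_anti hle (FunFldLib.mulW_mem hK h0 ((hω C).2 le_rfl))⟩
  have h1 := FunFldLib.mulW_mem hK (inv_ne_zero h0) hE
  rw [FunFldLib.mulW_mulW hK] at h1
  simp only [inv_mul_cancel₀ h0, FunFldLib.mulW_one hK] at h1
  rw [FunFldLib.div_inv hK.1, ← sub_eq_add_neg] at h1
  exact sub_le_iff_le_add.1 ((hω _).1 h1)

end Groth.Agent.S10987
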