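import Groth.Statements.S10989
import Groth.Agent.FunFldLib.Cor

set_option autoImplicit false
open FunFld

namespace Groth.Agent.S10989

/-- Any two canonical divisors of a function field of one variable are linearly equivalent. -/
theorem result (k K : Type*) [Field k] [Field K] [Algebra k K]
    (hK : FunFld.IsFunctionField k K) (C₁ C₂ : FunFld.Divisor k K) (h₁ : FunFld.IsCanonical k K C₁) (h₂ : FunFld.IsCanonical k K C₂) :
    ∃ x : K, x ≠ 0 ∧ C₂ = C₁ + FunFld.div k x := by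
  obtain ⟨w1, hw1, hd1⟩ := h₁
  obtain ⟨w2, hw2, hd2⟩ := h₂
  obtain ⟨x, hx⟩ := FunFldLib.exists_mulW_eq' hK hw1 ⟨C₁, (hd1 C₁).2 le_rfl⟩ ⟨C₂, (hd2 C₂).2 le_rfl⟩
  have hx0 : x ≠ 0 := by
    rintro rfl
    exact hw2 (hx ▸ (FunFldLib.mulWLin hK w1).map_zero)
  refine ⟨x, hx0, le_antisymm ?_ ((hd2 _).1 (hx ▸ FunFldLib.mulW_mem hK hx0 ((hd1 C₁).2 le_rfl)))⟩
  have h1 := FunFldLib.mulW_mem hK (inv_ne_zero hx0) ((hd2 C₂).2 le_rfl)
  rw [← hx, FunFldLib.mulW_mulW hK] at h1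
  simp only [inv_mul_cancel₀ hx0, FunFldLib.mulW_one hK] at h1
  rw [FunFldLib.div_inv hK.1, ← sub_eq_add_neg] at h1
  exact sub_le_iff_le_add.1 ((hd1 _).1 h1)

end Groth.Agent.S10989
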