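import Groth.Statements.S10991
import Groth.Agent.FunFldLib.Cor

set_option autoImplicit false
open FunFld

namespace Groth.Agent.S10991

/-- For a Weil differential `ω` with divisor `C`, every element of `W(D)` is `xω` for a unique `x ∈ L(C
- D)` (together with the fact that `xω` vanishes on `A(D)+K` for `x ∈ L(C - D)`, multiplication by
`ω` is a bijection `L(C - D) → W(D)`). -/
theorem result (k K : Type*) [Field k] [Field K] [Algebra k K]
    (hK : FunFld.IsFunctionField k K) (h : ∀ (x : K), ∀ a ∈ FunFld.adele k K, x • a ∈ FunFld.adele k K)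
    (ω : Module.Dual k (FunFld.adele k K)) (C : FunFld.Divisor k K) (hω : FunFld.IsDivOf ω C)
    (D : FunFld.Divisor k K) (ω' : Module.Dual k (FunFld.adele k K)) (hω' : ω' ∈ FunFld.WD D) :
    ∃! x : K, x ∈ FunFld.L (C - D) ∧ FunFld.mulW x (h x) ω = ω' := by
  rcases eq_or_ne ω 0 with rfl | hne
  · exact absurd ((hω (C + Finsupp.single (FunFldLib.exists_place_val_lt_one hK.1 (FunFldLib.exists_transcendental hK).choose_spec).choose 1)).1 (zero_mem _))
      (fun hle => by have := hle (FunFldLib.exists_place_val_lt_one hK.1 (FunFldLib.exists_transcendental hK).choose_spec).choose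
                     rw [Finsupp.add_apply, Finsupp.single_eq_same] at this; omega)
  obtain ⟨x, hx⟩ := FunFldLib.exists_mulW_eq' hK hne ⟨C, (hω C).2 le_rfl⟩ ⟨D, hω'⟩
  refine ⟨x, ⟨?_, hx⟩, fun y hy => ?_⟩
  · rcases eq_or_ne x 0 with rfl | hx0
    · exact zero_mem _
    have h1 := FunFldLib.mulW_mem hK (inv_ne_zero hx0) hω'
    rw [← hx, FunFldLib.mulW_mulW hK] at h1
    simp only [inv_mul_cancel₀ hx0, FunFldLib.mulW_one hK] at h1
    have h2 := (hω _).1 h1
    rw [FunFldLib.mem_L_iff hx0]
    intro P
    have := h2 P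
    rw [Finsupp.add_apply, FunFldLib.div_apply hK.1, FunFldLib.ord_inv] at this
    rw [Finsupp.sub_apply]; omega
  · by_contra hne'
    refine FunFldLib.mulW_ne_zero hK (sub_ne_zero.2 hne') hne ?_
    show FunFldLib.mulWLin hK ω (y - x) = 0
    rw [map_sub, sub_eq_zero]
    exact hy.2.trans hx.symm

end Groth.Agent.S10991
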