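import Groth.Statements.S10996
import Groth.Agent.FunFldLib.Cor

set_option autoImplicit false
open FunFld

namespace Groth.Agent.S10996

/-- In a function field of one variable of positive genus, distinct places of degree one are not
linearly equivalent. -/
theorem result (k K : Type*) [Field k] [Field K] [Algebra k K]
    (hK : FunFld.IsFunctionField k K) (hg : 0 < FunFld.genus k K) (P P' : FunFld.Place k K) (hP : P.deg = 1) (hP' : P'.deg = 1)
    (x : K) (hx : x ≠ 0) (h : Finsupp.single P 1 - Finsupp.single P' 1 = FunFld.div k x) : P = P' := by
  classical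
  by_contra hne
  have hev : ∀ Q : FunFld.Place k K, Q.ord x = (if P = Q then 1 else 0) - (if P' = Q then 1 else 0) := fun Q => by
    have := DFunLike.congr_fun h Q
    rw [FunFldLib.div_apply hK.1, Finsupp.sub_apply, Finsupp.single_apply, Finsupp.single_apply] at this
    exact this.symm
  have htop : IntermediateField.adjoin k ({x} : Set K) = ⊤ := by
    refine FunFldLib.adjoin_eq_top_of_simple_pole hK hP' ?_ fun Q hQ => ?_
    · rw [hev]; simp [hne]
    · rw [hev, if_neg (Ne.symm hQ)]; split_ifs <;> omega
  obtain ⟨-, -, -, -, h0⟩ := FunFldLib.exists_simple_pole_of_top hK htop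
  omega

end Groth.Agent.S10996
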