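import Groth.Statements.S10997
import Groth.Agent.FunFldLib.Cor

set_option autoImplicit false
open FunFld

namespace Groth.Agent.S10997

/-- Given distinct places `P∞, P_1, …, P_n` of a function field of one variable, elements `x_i` and
integers `m_i`, some `x ∈ K` has `ord_{P_i}(x - x_i) = m_i` for all `i` and is integral outside
`{P∞, P_1, …, P_n}`. -/
theorem result (k K : Type*) [Field k] [Field K] [Algebra k K]
    (hK : FunFld.IsFunctionField k K) (Pinf : FunFld.Place k K) (n : ℕ) (P : Fin n → FunFld.Place k K) (hP : Function.Injective P)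
    (hinf : Pinf ∉ Set.range P) (x : Fin n → K) (m : Fin n → ℤ) :
    ∃ y : K, (∀ i, (P i).1 (y - x i) = WithZero.exp (-(m i))) ∧
      ∀ Q : FunFld.Place k K, Q ≠ Pinf → Q ∉ Set.range P → Q.1 y ≤ 1 := by
  classical
  let D0 : FunFld.Divisor k K := ∑ i, Finsupp.single (P i) (-(m i) - 1)
  obtain ⟨N, hN⟩ := FunFldLib.exists_delta_large hK
  let n0 := (N - D0.deg).toNat
  let D : FunFld.Divisor k K := D0 + Finsupp.single Pinf (n0 : ℤ)
  have hdeg : N ≤ D.deg := by
    have := FunFldLib.deg_pos hK.1 Pinf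
    have h1 := Int.self_le_toNat (N - D0.deg)
    simp only [D, FunFldLib.deg_add, FunFldLib.deg_single]
    nlinarith
  obtain ⟨hf, hd⟩ := FunFldLib.adele_quot hK D
  rw [hN D hdeg, sub_self, Int.natCast_eq_zero] at hd
  haveI := hf
  have hsub : Subsingleton (↥(FunFld.adele k K) ⧸ FunFld.ADK D) := Module.finrank_zero_iff.1 hd
  choose t ht0 ht using fun i => FunFldLib.exists_val_eq (P i) (-(m i))
  let f : Fin n → K := fun i => x i + t i
  let a : FunFld.Place k K → K := fun Q => if h : ∃ i, P i = Q then f h.choose else 0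
  have ha : a ∈ FunFld.adele k K := by
    show ∀ᶠ Q : FunFld.Place k K in Filter.cofinite, Q.1 (a Q) ≤ 1
    rw [Filter.eventually_cofinite]
    refine (Set.finite_range P).subset fun Q (hQ : ¬ Q.1 (a Q) ≤ 1) => ?_
    by_contra hr
    exact hQ (by simp [a, dif_neg (show ¬ ∃ i, P i = Q from hr)])
  have hmem : a ∈ FunFld.AD D ⊔ LinearMap.range (FunFld.diag k K) :=
    ((Submodule.Quotient.mk_eq_zero _).1 (Subsingleton.elim (Submodule.Quotient.mk ⟨a, ha⟩ : ↥(FunFld.adele k K) ⧸ FunFld.ADK D) 0) :)
  obtain ⟨b, hb, c, ⟨y, rfl⟩, hsum⟩ := Submodule.mem_sup.1 hmem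
  refine ⟨y, fun i => ?_, fun Q hQ hQr => ?_⟩
  · have hai : a (P i) = x i + t i := by
      have h : ∃ j, P j = P i := ⟨i, rfl⟩
      simp only [a, dif_pos h, f, hP h.choose_spec]
    have hs : b (P i) + y = x i + t i := (congrFun hsum (P i)).trans hai
    have hDi : D (P i) = -(m i) - 1 := by
      simp only [D, D0, Finsupp.add_apply, Finsupp.finsetSum_apply]
      rw [Finset.sum_eq_single i (fun j _ hj => Finsupp.single_eq_of_ne (fun h => hj (hP h).symm)) (by simp),
        Finsupp.single_eq_same, Finsupp.single_eq_of_ne (fun h => hinf ⟨i, h⟩), add_zero]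
    have hbv : (P i).1 (b (P i)) < (P i).1 (t i) := by
      refine (hb (P i)).trans_lt ?_
      rw [hDi, ht, WithZero.exp_lt_exp]; omega
    rw [show y - x i = t i + -(b (P i)) from by linear_combination hs,
      (P i).1.map_add_eq_of_lt_left (by rwa [Valuation.map_neg]), ht]
  · have haQ : a Q = 0 := dif_neg hQr
    have hs : b Q + y = 0 := (congrFun hsum Q).trans haQ
    have hDQ : D Q = 0 := by
      simp only [D, D0, Finsupp.add_apply, Finsupp.finsetSum_apply]
      rw [Finset.sum_eq_zero (fun j _ => Finsupp.single_eq_of_ne (fun h => hQr ⟨j, h.symm⟩)),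
        Finsupp.single_eq_of_ne hQ, add_zero]
    have h9 := hb Q
    rw [hDQ, WithZero.exp_zero] at h9
    rw [show y = -(b Q) from by linear_combination hs, Valuation.map_neg]
    exact h9

end Groth.Agent.S10997
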