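import Groth.Statements.S10998
import Groth.Agent.FunFldLib.GenusOne

set_option autoImplicit false
open FunFld

namespace Groth.Agent.S10998

/-- A genus-one function field with a place `P₀` of degree one is `k(x, y)` with `x ∈ L(2P₀)`, `y ∈
L(3P₀)` of pole orders `2` and `3`, and `y² + f(x) y + g(x) = 0` for polynomials `f` of degree `≤ 1`
and `g` of degree `3`. -/
theorem result (k K : Type*) [Field k] [Field K] [Algebra k K]
    (hK : FunFld.IsFunctionField k K) (hg : FunFld.genus k K = 1) (P₀ : FunFld.Place k K) (hP : P₀.deg = 1) :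
    ∃ x y : K, x ∈ FunFld.L (Finsupp.single P₀ 2) ∧ y ∈ FunFld.L (Finsupp.single P₀ 3) ∧
      P₀.ord x = -2 ∧ P₀.ord y = -3 ∧
      IntermediateField.adjoin k ({x, y} : Set K) = ⊤ ∧
      ∃ f g : Polynomial k, f.natDegree ≤ 1 ∧ g.natDegree = 3 ∧
        y ^ 2 + Polynomial.aeval x f * y + Polynomial.aeval x g = 0 := by
  classical
  obtain ⟨x, hx, hx0, hxo⟩ := FunFldLib.exists_ord_eq_of_large hK hP (m := 2) (by omega)
  obtain ⟨y, hy, hy0, hyo⟩ := FunFldLib.exists_ord_eq_of_large hK hP (m := 3) (by omega)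
  push_cast at hx hxo hy hyo
  have hTx := FunFldLib.transcendental_of_ord_ne_zero hK (P := P₀) (x := x) (by omega)
  have hTy := FunFldLib.transcendental_of_ord_ne_zero hK (P := P₀) (x := y) (by omega)
  refine ⟨x, y, hx, hy, hxo, hyo, FunFldLib.adjoin_pair_eq_top_of_coprime hK hTx hTy ?_, ?_⟩
  · have a := FunFldLib.finrank_eq_of_one_pole hK (by omega) hx hxo
    have b := FunFldLib.finrank_eq_of_one_pole hK (by omega) hy hyo
    rw [hP, Nat.cast_one, mul_one] at a b
    have a2 : Module.finrank (IntermediateField.adjoin k ({x} : Set K)) K = 2 := by exact_mod_cast a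
    have b3 : Module.finrank (IntermediateField.adjoin k ({y} : Set K)) K = 3 := by exact_mod_cast b
    rw [a2, b3]; decide
  obtain ⟨-, hspan⟩ := FunFldLib.genus_one_basis hK hg hP hx hxo hy hyo (n := 6) (by omega)
  rw [FunFldLib.mem_L_single_iff P₀ hy0] at hy
  have hy2 : y ^ 2 ∈ FunFld.L (Finsupp.single P₀ ((6 : ℕ) : ℤ)) := by
    rw [FunFldLib.mem_L_single_iff P₀ (pow_ne_zero _ hy0)]
    refine ⟨by rw [FunFldLib.ord_pow]; push_cast; omega, fun Q hQ => ?_⟩
    have := hy.2 Q hQ
    rw [FunFldLib.ord_pow]; positivity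
  rw [← hspan, Submodule.mem_span_range_iff_exists_fun] at hy2
  obtain ⟨c, hc⟩ := hy2
  simp only [Fintype.sum_sum_type, Sum.elim_inl, Sum.elim_inr] at hc
  set a : Fin 4 → k := fun i => c (Sum.inl i) with ha
  set b : Fin 2 → k := fun i => c (Sum.inr i) with hb
  change (∑ i : Fin 4, a i • x ^ (i : ℕ)) + (∑ i : Fin 2, b i • (x ^ (i : ℕ) * y)) = y ^ 2 at hc
  simp only [Fin.sum_univ_four, Fin.sum_univ_two, Algebra.smul_def] at hc
  simp at hc
  have ha3 : a 3 ≠ 0 := by
    intro h3
    rw [h3, map_zero, zero_mul, add_zero] at hc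
    have h6 : P₀.1 (y ^ 2) ≤ WithZero.exp (5 : ℤ) := by
      rw [← hc]
      have t : ∀ (u : k) (z : K) (m : ℤ), P₀.1 z ≤ WithZero.exp m → m ≤ 5 →
          P₀.1 (algebraMap k K u * z) ≤ WithZero.exp 5 := fun u z m hz hm => by
        rw [map_mul]
        exact (mul_le_of_le_one_left' (P₀.2.1 u)).trans (hz.trans (WithZero.exp_le_exp.2 hm))
      have vx : P₀.1 x = WithZero.exp 2 := by rw [FunFldLib.val_eq_exp P₀ hx0, hxo]; rfl
      have vy : P₀.1 y = WithZero.exp 3 := by rw [FunFldLib.val_eq_exp P₀ hy0, hyo]; rfl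
      have c1 : ∀ u : k, P₀.1 (algebraMap k K u) ≤ WithZero.exp 5 := fun u =>
        (P₀.2.1 u).trans (by rw [← WithZero.exp_zero]; exact WithZero.exp_le_exp.2 (by norm_num))
      refine Valuation.map_add_le _ (Valuation.map_add_le _ (Valuation.map_add_le _ (c1 _) ?_) ?_)
        (Valuation.map_add_le _ ?_ ?_)
      · exact t _ _ 2 vx.le (by norm_num)
      · exact t _ _ 4 (by rw [map_pow, vx, ← WithZero.exp_nsmul]; rfl) (by norm_num)
      · exact t _ _ 3 vy.le (by norm_num)
      · exact t _ _ 5 (by rw [map_mul, vx, vy, ← WithZero.exp_add]; rfl) le_rfl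
    rw [FunFldLib.val_le_exp_iff P₀ (pow_ne_zero _ hy0), FunFldLib.ord_pow, hyo] at h6
    norm_num at h6
  refine ⟨-(Polynomial.C (b 0) + Polynomial.C (b 1) * Polynomial.X),
    -(Polynomial.C (a 3) * Polynomial.X ^ 3 + Polynomial.C (a 2) * Polynomial.X ^ 2 + Polynomial.C (a 1) * Polynomial.X + Polynomial.C (a 0)),
    ?_, ?_, ?_⟩
  · rw [Polynomial.natDegree_neg, add_comm]; exact Polynomial.natDegree_linear_le
  · rw [Polynomial.natDegree_neg]; exact Polynomial.natDegree_cubic ha3
  · simp only [map_neg, map_add, map_mul, map_pow, Polynomial.aeval_C, Polynomial.aeval_X]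
    linear_combination -hc

end Groth.Agent.S10998
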