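import Groth.Statements.S10999
import Groth.Agent.FunFldLib.GenusOne

set_option autoImplicit false
open FunFld

namespace Groth.Agent.S10999

/-- In a genus-one function field with a place `P₀` of degree one, `P ↦ P - P₀` is a bijection from the
places of degree one onto the divisor classes of degree zero. The geometric description of the group
law is not stated. -/
theorem result (k K : Type*) [Field k] [Field K] [Algebra k K]
    (hK : FunFld.IsFunctionField k K) (hg : FunFld.genus k K = 1) (P₀ : FunFld.Place k K) (hP : P₀.deg = 1)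
    (D : FunFld.Divisor k K) (hD : D.deg = 0) :
    ∃! P : FunFld.Place k K, P.deg = 1 ∧
      ∃ x : K, x ≠ 0 ∧ D = Finsupp.single P 1 - Finsupp.single P₀ 1 + FunFld.div k x := by
  classical
  have hl : 1 ≤ FunFld.ell (D + Finsupp.single P₀ 1) := by
    have := FunFldLib.ell_large hK (D := D + Finsupp.single P₀ 1) (by rw [FunFldLib.deg_add, FunFldLib.deg_single, hD, hP, hg]; simp)
    rw [FunFldLib.deg_add, FunFldLib.deg_single, hD, hP, hg] at this
    omega
  obtain ⟨z, hz, hle⟩ := FunFldLib.exists_effective hK hl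
  obtain ⟨P, hP1, hPe⟩ := FunFldLib.exists_eq_single_of_deg_one hK hle
    (by rw [FunFldLib.deg_add, FunFldLib.deg_add, FunFldLib.deg_single, FunFldLib.deg_div hK.1, hD, hP]; rfl)
  refine ⟨P, ⟨hP1, z⁻¹, inv_ne_zero hz, ?_⟩, fun Q hQ => ?_⟩
  · rw [FunFldLib.div_inv hK.1, ← hPe]; abel
  obtain ⟨hQ1, x, hx, hDx⟩ := hQ
  by_contra hne
  have hsub : Finsupp.single Q 1 - Finsupp.single P 1 = FunFld.div k (z * x)⁻¹ := by
    rw [FunFldLib.div_inv hK.1, FunFldLib.div_mul hK.1 hz hx, ← hPe, hDx]; abel
  obtain ⟨-, -, -, -, h0⟩ := FunFldLib.exists_simple_pole_of_top hK (x := (z * x)⁻¹)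
    (FunFldLib.adjoin_eq_top_of_simple_pole hK (P := P) (x := (z * x)⁻¹) hP1 (by
        have := DFunLike.congr_fun hsub P
        rw [FunFldLib.div_apply hK.1, Finsupp.sub_apply, Finsupp.single_eq_of_ne (Ne.symm hne), Finsupp.single_eq_same] at this
        omega) fun R hR => by
        have := DFunLike.congr_fun hsub R
        rw [FunFldLib.div_apply hK.1, Finsupp.sub_apply, Finsupp.single_eq_of_ne hR, Finsupp.single_apply] at this
        split_ifs at this <;> omega)
  omega

end Groth.Agent.S10999
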