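import Groth.Statements.S11004
import Groth.Agent.FunFldLib.UnramCrit
import Groth.Agent.FunFldLib.DiffExp
import Groth.Agent.FunFldLib.QuadPlace
import Mathlib.FieldTheory.SeparableClosure

set_option autoImplicit false
universe u v
open FunFld

namespace Groth.Agent.S11004

open Groth.Agent.FunFldLib WithZero in
theorem infinite_places {k : Type*} {K : Type*} [Field k] [Field K] [Algebra k K] (hK : IsFF k K) :
    (Set.univ : Set (FunFld.Place k K)).Infinite := by
  classical
  intro hfin
  choose t ht0 ht using fun R : FunFld.Place k K => exists_val_eq R (-1)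
  obtain ⟨z, hz⟩ := exists_approx hfin.toFinset t (fun _ => -2)
  have hzv : ∀ R : FunFld.Place k K, R.1 z < 1 := fun R => by
    rw [show z = (z - t R) + t R by ring]
    refine Valuation.map_add_lt _ ((hz R (hfin.mem_toFinset.2 trivial)).trans_lt ?_) ?_
    · rw [← exp_zero, exp_lt_exp]; norm_num
    · rw [ht, ← exp_zero, exp_lt_exp]; norm_num
  obtain ⟨x, hx, -⟩ := id hK
  obtain ⟨R, hR⟩ := exists_place_val_lt_one hK hx
  have hzR := hz R (hfin.mem_toFinset.2 trivial)
  have hne : z ≠ 0 := fun h => by
    rw [h, zero_sub, Valuation.map_neg, ht, exp_le_exp] at hzR; omega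
  have hT : Transcendental k z := transcendental_of_val_lt_one R hne (hzv R).ne
  obtain ⟨R', hR'⟩ := exists_place_val_lt_one hK (fun h => hT (IsAlgebraic.inv_iff.1 h) : Transcendental k z⁻¹)
  rw [map_inv₀] at hR'
  exact lt_irrefl _ ((inv_lt_one₀ (zero_lt_iff.2 ((Valuation.ne_zero_iff _).2 hne))).1 hR' |>.trans (hzv R'))

theorem sep_of_adjoin {k F : Type*} [Field k] [Field F] [Algebra k F] {ρ : F} (hρ : IsSeparable k ρ)
    (h : ∀ r : F, r ∈ IntermediateField.adjoin k ({ρ} : Set F)) : Algebra.IsSeparable k F :=
  ⟨fun r => mem_separableClosure_iff.1 (IntermediateField.adjoin_simple_le_iff.2 (mem_separableClosure_iff.2 hρ) (h r))⟩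

set_option maxHeartbeats 800000 in
set_option backward.isDefEq.respectTransparency false in
open Groth.Agent.FunFldLib WithZero IsLocalRing Polynomial in
theorem sep_of_good {k : Type*} {K K' : Type*} [Field k] [Field K] [Field K'] [Algebra k K] [Algebra K K']
    [Algebra k K'] [IsScalarTower k K K'] [FiniteDimensional K K'] [Algebra.IsSeparable K K'] (hK : IsFF k K)
    {P : FunFld.Place k K} (hdeg : P.deg = 1) [Algebra P.O K'] [IsScalarTower P.O K K']
    {y : K'} (hgen : IntermediateField.adjoin K ({y} : Set K') = ⊤)
    (hc : ∀ i, P.1 ((minpoly K y).coeff i) ≤ 1)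
    (hd : ∀ Q : FunFld.Place k K', FunFld.IsOver Q P → Q.1 (aeval y (derivative (minpoly K y))) = 1)
    {Q : FunFld.Place k K'} {e : ℕ} (he : FunFld.IsOverWith Q P e) :
    Algebra.IsSeparable k (ResidueField Q.O) := by
  classical
  obtain ⟨f, hfm, hfy, hsep, hrep⟩ := good_monogenic hK hgen hc hd
  have hyi : IsIntegral P.O y := ⟨f, hfm, hfy⟩
  set yO : Q.O := ⟨y, (Valuation.mem_valuationSubring_iff Q.1 y).2 (integral_le_one he hyi)⟩
  set ρ := residue Q.O yO
  haveI := finite_residue hK P
  have hsur : Function.Surjective (algebraMap k (ResidueField P.O)) :=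
    ((Algebra.ofId k (ResidueField P.O)).toLinearMap.injective_iff_surjective_of_finrank_eq_finrank
      (by rw [Module.finrank_self]; exact hdeg.symm)).1 (algebraMap k (ResidueField P.O)).injective
  have hκ : ∀ G : Polynomial P.O, residue Q.O (eval₂ (oMap he).toRingHom yO G) =
      eval₂ (resMap he).toRingHom ρ (G.map (residue P.O)) := fun G => by
    rw [hom_eval₂, eval₂_map]; rfl
  have hmem : ∀ G : Polynomial P.O, residue Q.O (eval₂ (oMap he).toRingHom yO G) ∈
      IntermediateField.adjoin k ({ρ} : Set (ResidueField Q.O)) := fun G => by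
    rw [hκ, eval₂_eq_sum_range]
    refine sum_mem fun i _ => mul_mem ?_ (pow_mem (IntermediateField.mem_adjoin_simple_self k ρ) _)
    obtain ⟨c, hc⟩ := hsur ((G.map (residue P.O)).coeff i)
    rw [← hc]
    exact ((resMap he).commutes c).symm ▸ IntermediateField.algebraMap_mem _ c
  have hcoe : ∀ G : Polynomial P.O, ((eval₂ (oMap he).toRingHom yO G : Q.O) : K') = aeval y G := fun G => by
    show Q.O.subtype (eval₂ (oMap he).toRingHom yO G) = _
    rw [hom_eval₂, aeval_def]
    congr 1
    exact RingHom.ext fun a => (algebraMap_O a).symm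
  have hρ : IsSeparable k ρ := by
    obtain ⟨q, hq⟩ : ∃ q : Polynomial k, q.map (algebraMap k (ResidueField P.O)) = f.map (residue P.O) :=
      Polynomial.map_surjective _ hsur _
    have hqs : q.Separable := (Polynomial.separable_map _).1 (hq ▸ hsep)
    refine hqs.of_dvd (minpoly.dvd k ρ ?_)
    have h1 := hκ f
    rw [show eval₂ (oMap he).toRingHom yO f = 0 from Subtype.ext ((hcoe f).trans hfy), map_zero, ← hq, eval₂_map] at h1
    rw [aeval_def]
    refine (h1.trans ?_).symm
    congr 1
    exact RingHom.ext fun c => (resMap he).commutes c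
  refine sep_of_adjoin hρ fun r => ?_
  obtain ⟨z, rfl⟩ := residue_surjective r
  obtain ⟨w, hw⟩ := exists_approx (finite_over (K' := K') hK P).toFinset (fun R => if R = Q then (z : K') else 0) (fun _ => -1)
  have hwQ : Q.1 (w - z) < 1 := by
    have := hw Q ((Set.Finite.mem_toFinset _).2 ⟨e, he⟩)
    rw [if_pos rfl] at this
    exact this.trans_lt (by rw [← exp_zero, exp_lt_exp]; norm_num)
  have hwi : IsIntegral P.O w := (integral_iff hK w).2 fun R hR => by
    have := hw R ((Set.Finite.mem_toFinset _).2 hR)
    split_ifs at this with h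
    · subst h
      rw [show w = (w - z) + z by ring]
      exact Valuation.map_add_le _ (this.trans exp_neg_one_le_one') ((Valuation.mem_valuationSubring_iff R.1 _).1 z.2)
    · rw [sub_zero] at this; exact this.trans exp_neg_one_le_one'
  obtain ⟨G, hG⟩ := hrep w hwi
  have : residue Q.O z = residue Q.O (eval₂ (oMap he).toRingHom yO G) := by
    rw [← sub_eq_zero, ← map_sub, residue_eq_zero_iff_val]
    show Q.1 ((z : K') - (eval₂ (oMap he).toRingHom yO G : Q.O)) < 1
    rw [hcoe, hG, Valuation.map_sub_swap]; exact hwQ
  exact this ▸ hmem G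

set_option backward.isDefEq.respectTransparency false in
open Groth.Agent.FunFldLib in
theorem sep_finite {k : Type*} {K : Type*} [Field k] [Finite k] [Field K] [Algebra k K] (hK : IsFF k K)
    (P : FunFld.Place k K) : Algebra.IsSeparable k (IsLocalRing.ResidueField P.O) := by
  haveI := finite_residue hK P
  haveI : PerfectField k := PerfectField.ofFinite
  exact Algebra.IsAlgebraic.isSeparable_of_perfectField

open Groth.Agent.FunFldLib WithZero Polynomial in
theorem core {k : Type*} {K : Type*} [Field k] [Field K] [Algebra k K] (hK : FunFld.IsFunctionField k K) (hg : FunFld.IsGeometric k K) :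
    {P : FunFld.Place k K | Algebra.IsSeparable k (IsLocalRing.ResidueField P.O)}.Infinite := by
  classical
  rcases finite_or_infinite k with hk | hk
  · refine (infinite_places hK.1).mono fun P _ => ?_
    exact sep_finite hK.1 P
  obtain ⟨s, hs, hsep⟩ := exists_separating_el hK hg
  haveI := hsep
  haveI := finite_adjoin hK.1 hs
  set F := IntermediateField.adjoin k ({s} : Set K)
  set s₀ : F := ⟨s, IntermediateField.mem_adjoin_simple_self k s⟩
  have hs₀ : Transcendental k s₀ := fun h => hs (IsAlgebraic.algHom (IntermediateField.val F) h)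
  have htop : IntermediateField.adjoin k ({s₀} : Set F) = ⊤ := by
    apply IntermediateField.map_injective F.val
    rw [IntermediateField.adjoin_map, Set.image_singleton, ← AlgHom.fieldRange_eq_map, IntermediateField.fieldRange_val]
    rfl
  have hF : IsFF k F := ⟨s₀, hs₀, by rw [htop]; exact Module.finite_of_finrank_pos (by rw [IntermediateField.finrank_top]; norm_num)⟩
  obtain ⟨y, hy⟩ := Field.exists_primitive_element F K
  set g' := aeval y (derivative (minpoly F y))
  have hne : g' ≠ 0 := (Algebra.IsSeparable.isSeparable F y).aeval_derivative_ne_zero (minpoly.aeval _ _)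
  let badP : Set (FunFld.Place k F) :=
    (⋃ i ∈ (minpoly F y).support, {P | P.ord ((minpoly F y).coeff i) ≠ 0}) ∪
      below hF '' {Q : FunFld.Place k K | Q.ord g' ≠ 0}
  have hfinP : badP.Finite :=
    (Set.Finite.biUnion (Finset.finite_toSet _) fun i _ => finite_support_ord' hF _).union
      ((finite_support_ord' hK.1 g').image _)
  have hbad := hfinP.biUnion fun P _ => finite_over (K' := K) hF P
  have hT : ∀ c : k, Transcendental k (s - algebraMap k K c) := fun c h => hs (by
    have := h.isIntegral.add (isIntegral_algebraMap (x := c))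
    rw [sub_add_cancel] at this
    exact this.isAlgebraic)
  choose Qc hQc using fun c : k => exists_place_val_lt_one hK.1 (hT c)
  have hinj : Function.Injective Qc := fun c d hcd => by
    by_contra hne
    have h1 := hQc d
    rw [← hcd, show s - algebraMap k K d = (s - algebraMap k K c) + algebraMap k K (c - d) by rw [map_sub]; ring,
      Valuation.map_add_eq_of_lt_right, val_algebraMap _ (sub_ne_zero.2 hne)] at h1
    · exact lt_irrefl _ h1
    · rw [val_algebraMap _ (sub_ne_zero.2 hne)]; exact hQc c
  refine ((Set.infinite_range_of_injective hinj).sdiff hbad).mono ?_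
  rintro _ ⟨⟨c, rfl⟩, hgood⟩
  have he := isOverWith_below hF (Qc c)
  set P := below hF (Qc c)
  have hP : P ∉ badP := fun h => hgood (Set.mem_iUnion₂.2 ⟨P, h, ⟨_, he⟩⟩)
  letI : Algebra P.O K := ((algebraMap F K).comp (algebraMap P.O F)).toAlgebra
  haveI : IsScalarTower P.O F K := IsScalarTower.of_algebraMap_eq fun _ => rfl
  have hdeg : P.deg = 1 := by
    set t : F := s₀ - algebraMap k F c
    have ht : Transcendental k t := fun h => hT c (IsAlgebraic.algHom (IntermediateField.val F) h)
    have hPt : P.1 t < 1 := by
      have h1 : (Qc c).1 (algebraMap F K t) < 1 := hQc c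
      rw [he] at h1
      exact (pow_lt_one_iff (Nat.one_le_iff_ne_zero.1 (isOverWith_pos he))).1 h1
    have ht0 : t ≠ 0 := fun h => ht (h ▸ isAlgebraic_zero)
    have hord := (val_lt_one_iff P ht0).1 hPt
    have h1 := sum_ord_le hF ht {P} (by simp [hord])
    have htop' : IntermediateField.adjoin k ({t} : Set F) = ⊤ := by
      rw [eq_top_iff, ← htop, IntermediateField.adjoin_simple_le_iff]
      rw [show s₀ = t + algebraMap k F c by simp [t]]
      exact add_mem (IntermediateField.mem_adjoin_simple_self k t) (IntermediateField.algebraMap_mem _ c)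
    rw [htop', IntermediateField.finrank_top, Finset.sum_singleton] at h1
    have := deg_pos hF P
    push_cast at h1
    nlinarith
  refine sep_of_good hF hdeg hy (fun i => ?_) (fun R hR => ?_) he
  · rcases eq_or_ne ((minpoly F y).coeff i) 0 with h | h
    · rw [h, map_zero]; exact zero_le
    rw [val_le_one_iff P h]
    refine le_of_eq (Eq.symm ?_)
    by_contra h0
    exact hP (Or.inl (Set.mem_iUnion₂.2 ⟨i, mem_support_iff.2 h, h0⟩))
  · rw [val_eq_one_iff R hne]
    by_contra h0
    exact hP (Or.inr ⟨R, h0, (isOver_iff hF R P).1 hR⟩)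

/-- A geometric function field of one variable has infinitely many places with residue field separable
over `k`. -/
theorem result (k : Type u) (K : Type v) [Field k] [Field K] [Algebra k K]
    (hK : FunFld.IsFunctionField k K) (hg : FunFld.IsGeometric k K) :
    {P : FunFld.Place k K | Algebra.IsSeparable k (IsLocalRing.ResidueField P.O)}.Infinite := by
  exact core hK hg

end Groth.Agent.S11004
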