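import Groth.Statements.S11005
import Groth.Agent.FunFldLib.Finite
import Mathlib.RingTheory.Flat.Basic

set_option autoImplicit false
universe u v
open FunFld

namespace Groth.Agent.S11005

/-- An intermediate field `K₀` of a geometric function field of one variable `K/k` that is
transcendental over `k` is again a geometric function field of one variable over `k`. -/
theorem result (k : Type u) (K : Type v) [Field k] [Field K] [Algebra k K]
    (hK : FunFld.IsFunctionField k K) (hg : FunFld.IsGeometric k K) (K₀ : IntermediateField k K)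
    (h₀ : ∃ x ∈ K₀, Transcendental k x) : FunFld.IsFunctionField k K₀ ∧ FunFld.IsGeometric k K₀ := by
  obtain ⟨x, hx, hxt⟩ := h₀
  refine ⟨⟨⟨⟨x, hx⟩, fun h => hxt (h.algHom K₀.val), ?_⟩, fun y hy => ?_⟩, ?_⟩
  · haveI := FunFldLib.finite_adjoin hK.1 hxt
    let E := IntermediateField.adjoin k ({x} : Set K)
    have hE : E ≤ K₀ := IntermediateField.adjoin_simple_le_iff.2 hx
    haveI : FiniteDimensional E (IntermediateField.extendScalars hE) := inferInstance
    set E₀ := IntermediateField.adjoin k ({(⟨x, hx⟩ : K₀)} : Set K₀)
    have hmap : E₀.map K₀.val = E := by rw [IntermediateField.adjoin_map]; simp [E]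
    let e : E₀ ≃ₐ[k] E := (E₀.equivMap K₀.val).trans (IntermediateField.equivOfEq hmap)
    refine Module.Finite.of_equiv_equiv (A₁ := E) (B₁ := IntermediateField.extendScalars hE) (A₂ := E₀) (B₂ := K₀)
      e.symm.toRingEquiv (RingEquiv.refl K₀) ?_
    refine RingHom.ext fun a => ?_
    obtain ⟨b, rfl⟩ := e.surjective a
    show (algebraMap E₀ K₀) (e.symm (e b)) = (algebraMap E (IntermediateField.extendScalars hE)) (e b)
    rw [e.symm_apply_apply]
    exact Subtype.ext rfl
  · obtain ⟨c, hc⟩ := hK.2 (y : K) (hy.algHom K₀.val)
    exact ⟨c, Subtype.ext hc⟩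
  · intro k' _ _ hfin
    haveI := hfin
    letI := (hg k' hfin).toField
    let f : TensorProduct k k' K₀ →ₐ[k] TensorProduct k k' K := Algebra.TensorProduct.map (AlgHom.id k k') K₀.val
    have hf : Function.Injective f :=
      Module.Flat.lTensor_preserves_injective_linearMap (M := k') K₀.val.toLinearMap K₀.val.toRingHom.injective
    haveI : IsDomain (TensorProduct k k' K₀) := hf.isDomain f.toRingHom
    let c := Algebra.TensorProduct.comm k K₀ k'
    haveI : IsDomain (TensorProduct k K₀ k') := Function.Injective.isDomain c.toRingEquiv.toRingHom c.injective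
    exact c.symm.toMulEquiv.isField
      (isField_of_isIntegral_of_isField' (R := K₀) (S := TensorProduct k K₀ k') (Field.toIsField K₀))

end Groth.Agent.S11005
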