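import Groth.Statements.S11006
import Groth.Agent.FunFldLib.Extension

set_option autoImplicit false
universe u v
open FunFld

namespace Groth.Agent.S11006

open Groth.Agent.FunFldLib TensorProduct in
theorem core {k k' : Type u} {K K' : Type v} [Field k] [Field k'] [Field K] [Field K']
    [Algebra k k'] [FiniteDimensional k k'] [Algebra k K] [Algebra K K'] [Algebra k' K'] [Algebra k K']
    [IsScalarTower k k' K'] [IsScalarTower k K K']
    (h : Function.Bijective (Algebra.TensorProduct.productMap
      (IsScalarTower.toAlgHom k k' K') (IsScalarTower.toAlgHom k K K')))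
    (hK : FunFld.IsFunctionField k K) (hg : FunFld.IsGeometric k K) :
    FunFld.IsFunctionField k' K' ∧ FunFld.IsGeometric k' K' := by
  classical
  set pm := Algebra.TensorProduct.productMap (IsScalarTower.toAlgHom k k' K') (IsScalarTower.toAlgHom k K K')
  let ψ : k' ⊗[k] K →ₐ[k'] K' :=
    Algebra.TensorProduct.lift (Algebra.ofId k' K') (IsScalarTower.toAlgHom k K K') fun _ _ => .all _ _
  have hψ : ∀ a, ψ a = pm a := fun a => by
    induction a using TensorProduct.induction_on with
    | zero => simp
    | tmul c y => simp [ψ, pm]
    | add a b ha hb => rw [map_add, map_add, ha, hb]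
  have hbij : Function.Bijective ψ := by
    rw [show (ψ : k' ⊗[k] K → K') = pm from funext hψ]; exact h
  let e := AlgEquiv.ofBijective ψ hbij
  have hgeo : FunFld.IsGeometric k' K' := by
    intro k₂ _ _ hfin
    letI : Algebra k k₂ := ((algebraMap k' k₂).comp (algebraMap k k')).toAlgebra
    haveI : IsScalarTower k k' k₂ := IsScalarTower.of_algebraMap_eq fun _ => rfl
    haveI : FiniteDimensional k k₂ := Module.Finite.trans k' k₂
    exact ((Algebra.TensorProduct.congr (AlgEquiv.refl : k₂ ≃ₐ[k'] k₂) e.symm).toRingEquiv.trans
      (Algebra.TensorProduct.cancelBaseChange k k' k' k₂ K).toRingEquiv).toMulEquiv.isField (hg k₂ inferInstance)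
  haveI : FiniteDimensional K K' := by
    let b := Module.finBasis k k'
    refine ⟨⟨Finset.univ.image fun i => algebraMap k' K' (b i), eq_top_iff.2 fun z _ => ?_⟩⟩
    obtain ⟨a, rfl⟩ := h.2 z
    induction a using TensorProduct.induction_on with
    | zero => rw [map_zero]; exact zero_mem _
    | tmul c y =>
      rw [show pm (c ⊗ₜ y) = algebraMap k' K' c * algebraMap K K' y by simp [pm], ← b.sum_repr c, map_sum, Finset.sum_mul]
      refine Submodule.sum_mem _ fun i _ => ?_
      rw [Algebra.smul_def, map_mul, ← IsScalarTower.algebraMap_apply,
        show algebraMap k K' (b.repr c i) * algebraMap k' K' (b i) * algebraMap K K' y =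
          (algebraMap k K (b.repr c i) * y) • algebraMap k' K' (b i) by
            rw [Algebra.smul_def, map_mul, ← IsScalarTower.algebraMap_apply]; ring]
      exact Submodule.smul_mem _ _ (Submodule.subset_span (by simp))
    | add a b ha hb => rw [map_add]; exact add_mem (ha trivial) (hb trivial)
  refine ⟨⟨?_, fun z hz => ?_⟩, hgeo⟩
  · obtain ⟨x, hx, hfin⟩ := isFF_extension (K' := K') hK.1
    have hx' : Transcendental k' x := fun halg => by
      haveI := Algebra.IsAlgebraic.of_finite k k'
      exact hx (isAlgebraic_iff_isIntegral.2 (isIntegral_trans x (isAlgebraic_iff_isIntegral.1 halg)))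
    refine ⟨x, hx', ?_⟩
    set F₀ := IntermediateField.adjoin k ({x} : Set K')
    set F := IntermediateField.adjoin k' ({x} : Set K')
    have hle : F₀ ≤ F.restrictScalars k :=
      IntermediateField.adjoin_le_iff.2 (Set.singleton_subset_iff.2 (IntermediateField.mem_adjoin_simple_self k' x))
    letI : Algebra F₀ F := (IntermediateField.inclusion hle).toRingHom.toAlgebra
    haveI : IsScalarTower F₀ F K' := IsScalarTower.of_algebraMap_eq fun _ => rfl
    haveI := hfin
    exact Module.Finite.of_restrictScalars_finite F₀ F K'
  · have hint : IsIntegral k' z := hz.isIntegral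
    set p := minpoly k' z
    haveI : Fact (Irreducible p) := ⟨minpoly.irreducible hint⟩
    haveI : FiniteDimensional k' (AdjoinRoot p) := (AdjoinRoot.powerBasis (minpoly.ne_zero hint)).finite
    have hF := hgeo (AdjoinRoot p) inferInstance
    let r : AdjoinRoot p →ₐ[k'] K' := AdjoinRoot.liftAlgHom p (Algebra.ofId k' K') z (minpoly.aeval k' z)
    let Φ : K' ⊗[k'] AdjoinRoot p →ₐ[K'] K' := Algebra.TensorProduct.lift (Algebra.ofId K' K') r fun _ _ => .all _ _
    have hinj : Function.Injective Φ := by
      refine (injective_iff_map_eq_zero Φ.toRingHom).2 fun a ha => ?_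
      by_contra h0
      obtain ⟨c, hc⟩ := ((Algebra.TensorProduct.comm k' K' (AdjoinRoot p)).toRingEquiv.toMulEquiv.isField hF).mul_inv_cancel h0
      have := congrArg Φ.toRingHom hc
      rw [map_mul, ha, zero_mul, map_one] at this
      exact zero_ne_one this
    have hle := LinearMap.finrank_le_finrank_of_injective (f := Φ.toLinearMap) hinj
    rw [Module.finrank_baseChange, Module.finrank_self, (AdjoinRoot.powerBasis (minpoly.ne_zero hint)).finrank,
      AdjoinRoot.powerBasis_dim] at hle
    exact minpoly.natDegree_eq_one_iff.1 (le_antisymm hle (minpoly.natDegree_pos hint))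

/-- For `K/k` a geometric function field of one variable and `k'/k` finite, the field `K' = k' ⊗_k K` is
a geometric function field of one variable over `k'`: some element of `K'` is transcendental over
`k'` with `K'` of finite degree over the subfield it generates over `k'`, `k'` is algebraically
closed in `K'`, and `K'` stays a field after tensoring over `k'` with any finite field extension of
`k'`. -/
theorem result (k k' : Type u) (K K' : Type v) [Field k] [Field k'] [Field K] [Field K']
    [Algebra k k'] [FiniteDimensional k k'] [Algebra k K] [Algebra K K'] [Algebra k' K'] [Algebra k K']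
    [IsScalarTower k k' K'] [IsScalarTower k K K']
    (h : Function.Bijective (Algebra.TensorProduct.productMap
      (IsScalarTower.toAlgHom k k' K') (IsScalarTower.toAlgHom k K K')))
    (hK : FunFld.IsFunctionField k K) (hg : FunFld.IsGeometric k K) :
    FunFld.IsFunctionField k' K' ∧ FunFld.IsGeometric k' K' := by
  exact core h hK hg

end Groth.Agent.S11006
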