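import Groth.Statements.S11010
import Groth.Agent.FunFldLib.GeomSep

set_option autoImplicit false
universe u v
open FunFld

namespace Groth.Agent.S11010

open Groth.Agent.FunFldLib in
theorem core {k k' : Type u} {K K' : Type v} [Field k] [Field k'] [Field K] [Field K']
    [Algebra k k'] [Algebra k K] [Algebra K K'] [Algebra k' K'] [Algebra k K']
    [IsScalarTower k k' K'] [IsScalarTower k K K'] [FiniteDimensional K K'] [Algebra.IsSeparable K K']
    (hK : FunFld.IsFunctionField k K) (hg : FunFld.IsGeometric k K)
    (hK' : FunFld.IsFunctionField k' K') :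
    ∃ s : K', Transcendental k' s ∧ Algebra.IsSeparable (IntermediateField.adjoin k' ({s} : Set K')) K' := by
  obtain ⟨s, hT, hsep⟩ := exists_separating_el hK hg
  set F₀ := IntermediateField.adjoin k ({s} : Set K)
  haveI := hsep
  haveI : Algebra.IsSeparable F₀ K' := Algebra.IsSeparable.trans F₀ K K'
  set s' := algebraMap K K' s
  set F := IntermediateField.adjoin k' ({s'} : Set K')
  have hmem : ∀ y : F₀, algebraMap K K' (y : K) ∈ F := fun y => by
    have h2 : (IntermediateField.adjoin k ({s} : Set K)).map (IsScalarTower.toAlgHom k K K') ≤ F.restrictScalars k := by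
      rw [← Groth.Agent.FunFldLib.adjoin_algebraMap, IntermediateField.adjoin_le_iff, Set.singleton_subset_iff]
      exact IntermediateField.mem_adjoin_simple_self k' s'
    exact h2 ⟨y, y.2, rfl⟩
  letI : Algebra F₀ F := (((algebraMap K K').comp (algebraMap F₀ K)).codRestrict F.toSubfield.toSubring hmem).toAlgebra
  haveI : IsScalarTower F₀ F K' := IsScalarTower.of_algebraMap_eq fun _ => rfl
  refine ⟨s', fun halg => ?_, Algebra.isSeparable_tower_top_of_isSeparable F₀ F K'⟩
  obtain ⟨c, hc⟩ := hK'.2 s' halg
  obtain ⟨x, hx, -⟩ := hK'.1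
  refine hx (isAlgebraic_iff_isIntegral.2 ?_)
  have hF : F = ⊥ := IntermediateField.adjoin_simple_eq_bot_iff.2 (IntermediateField.mem_bot.2 ⟨c, hc⟩)
  have h3 : IsIntegral F x := ((Algebra.IsSeparable.isSeparable F₀ x).isIntegral).tower_top
  haveI : FiniteDimensional k' F := by rw [hF]; infer_instance
  exact isIntegral_trans x h3

/-- A finite separable extension `K'/k'` of a geometric function field of one variable `K/k` (with `k'`
the constant field of `K'`) is again geometric. (The published statement has no separability
hypothesis on `K'/K`; for `k = 𝔽_p(s,t)`, `K = k(x)` and `K' = K(y)` with `y^p = s x^p + t`, the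
field `k` is algebraically closed in `K'` yet `k(s^{1/p}, t^{1/p}) ⊗_k K'` has nonzero nilpotents,
so `K'/K` is taken separable here.) -/
theorem result (k k' : Type u) (K K' : Type v) [Field k] [Field k'] [Field K] [Field K']
    [Algebra k k'] [Algebra k K] [Algebra K K'] [Algebra k' K'] [Algebra k K']
    [IsScalarTower k k' K'] [IsScalarTower k K K'] [FiniteDimensional K K'] [Algebra.IsSeparable K K']
    (hK : FunFld.IsFunctionField k K) (hg : FunFld.IsGeometric k K)
    (hK' : FunFld.IsFunctionField k' K') : FunFld.IsGeometric k' K' := by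
  obtain ⟨s, hs, hsep⟩ := core hK hg hK'
  haveI := hsep
  exact Groth.Agent.FunFldLib.geometric_of_separating hK' hs

end Groth.Agent.S11010
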