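import Groth.Statements.S11011
import Groth.Agent.FunFldLib.FundEq
import Groth.Agent.FunFldLib.QuadPlace
import Mathlib.FieldTheory.PurelyInseparable.Tower

set_option autoImplicit false
universe u v
open FunFld

namespace Groth.Agent.S11011

open Groth.Agent.FunFldLib WithZero in
theorem insep_unique {k L M : Type*} [Field k] [Field L] [Field M] [Algebra k L] [Algebra L M] [Algebra k M]
    [IsScalarTower k L M] {Q Q' : FunFld.Place k M} {R : FunFld.Place k L}
    (hpow : ∀ z : M, ∃ (n : ℕ) (y : L), n ≠ 0 ∧ algebraMap L M y = z ^ n)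
    (hQ : FunFld.IsOver Q R) (hQ' : FunFld.IsOver Q' R) : Q = Q' := by
  obtain ⟨e, he⟩ := hQ
  obtain ⟨e', he'⟩ := hQ'
  refine eq_of_forall_le_one fun z hz => ?_
  obtain ⟨n, y, hn, hy⟩ := hpow z
  have h1 : Q.1 (algebraMap L M y) ≤ 1 := by rw [hy, map_pow]; exact pow_le_one₀ zero_le hz
  rw [he, pow_le_one_iff (Nat.one_le_iff_ne_zero.1 (isOverWith_pos he))] at h1
  have h2 : Q'.1 (z ^ n) ≤ 1 := by rw [← hy, he']; exact pow_le_one₀ zero_le h1
  rwa [map_pow, pow_le_one_iff hn] at h2

set_option backward.isDefEq.respectTransparency false in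
open Groth.Agent.FunFldLib WithZero IsLocalRing Polynomial in
theorem deg_bound {k K L : Type*} [Field k] [Field K] [Field L] [Algebra k K] [Algebra K L] [Algebra k L]
    [IsScalarTower k K L] [FiniteDimensional K L] (hK : IsFF k K) {P : FunFld.Place k K} {R : FunFld.Place k L} {e : ℕ}
    (he : FunFld.IsOverWith R P e) [IsPurelyInseparable k (ResidueField P.O)] {q : Polynomial k}
    (hqm : q.Monic) (hq : Irreducible q) (hqs : q.Separable) {a : L} (ha : aeval a q = 0) :
    P.deg * q.natDegree ≤ R.deg := by
  haveI := finite_residue (isFF_extension (K' := L) hK) R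
  have hav : R.1 a ≤ 1 := by
    rcases eq_or_ne a 0 with h | h
    · rw [h, map_zero]; exact zero_le
    exact (val_eq_one_of_isAlgebraic R.1 R.2.1 h ⟨q, hq.ne_zero, ha⟩).le
  set aO : R.O := ⟨a, (Valuation.mem_valuationSubring_iff R.1 a).2 hav⟩
  set ρ := residue R.O aO
  have haO : aeval aO q = 0 := by
    let ι : R.O →ₐ[k] L := { R.O.subtype with commutes' := fun _ => rfl }
    have h1 : ι (aeval aO q) = 0 := by rw [← aeval_algHom_apply]; exact ha
    exact Subtype.ext h1
  have hρ : aeval ρ q = 0 := by
    let π : R.O →ₐ[k] ResidueField R.O := { residue R.O with commutes' := fun _ => rfl }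
    have h1 := aeval_algHom_apply π aO q
    rwa [haO, map_zero] at h1
  set F := (resMap he).fieldRange
  haveI : IsPurelyInseparable k F := (AlgEquiv.ofInjectiveField (resMap he)).isPurelyInseparable
  have hirr := hqs.map_irreducible_of_isPurelyInseparable F hq
  have hmin : q.map (algebraMap k F) = minpoly F ρ :=
    minpoly.eq_of_irreducible_of_monic hirr (by rw [aeval_map_algebraMap, hρ]) (hqm.map _)
  have h1 : q.natDegree ≤ Module.finrank F (ResidueField R.O) := by
    rw [← natDegree_map_eq_of_injective (algebraMap k F).injective q, hmin]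
    haveI : FiniteDimensional F (ResidueField R.O) := Module.Finite.of_restrictScalars_finite k F _
    exact minpoly.natDegree_le ρ
  have h4 : Module.finrank k F = P.deg := (AlgEquiv.ofInjectiveField (resMap he)).toLinearEquiv.finrank_eq.symm
  calc P.deg * q.natDegree ≤ Module.finrank k F * Module.finrank F (ResidueField R.O) := by
        rw [h4]; exact Nat.mul_le_mul_left _ h1
    _ = R.deg := Module.finrank_mul_finrank _ _ _

open Groth.Agent.FunFldLib TensorProduct in
theorem core {k k' : Type*} {K K' : Type*} [Field k] [Field k'] [Field K] [Field K']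
    [Algebra k k'] [FiniteDimensional k k'] [Algebra k K] [Algebra K K'] [Algebra k' K'] [Algebra k K']
    [IsScalarTower k k' K'] [IsScalarTower k K K']
    (h : Function.Bijective (Algebra.TensorProduct.productMap
      (IsScalarTower.toAlgHom k k' K') (IsScalarTower.toAlgHom k K K')))
    (hK : IsFF k K) (P : FunFld.Place k K)
    (hpi : IsPurelyInseparable k k' ∨ IsPurelyInseparable k (IsLocalRing.ResidueField P.O)) :
    ∃! Q : FunFld.Place k K', FunFld.IsOver Q P := by
  classical
  set pm := Algebra.TensorProduct.productMap (IsScalarTower.toAlgHom k k' K') (IsScalarTower.toAlgHom k K K')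
  haveI : FiniteDimensional K K' := by
    let b := Module.finBasis k k'
    refine ⟨⟨Finset.univ.image fun i => algebraMap k' K' (b i), eq_top_iff.2 fun z _ => ?_⟩⟩
    obtain ⟨a, rfl⟩ := h.2 z
    induction a using TensorProduct.induction_on with
    | zero => rw [map_zero]; exact zero_mem _
    | tmul c y =>
      rw [show pm (c ⊗ₜ y) = algebraMap k' K' c * algebraMap K K' y by simp [pm], ← b.sum_repr c, map_sum, Finset.sum_mul]
      refine Submodule.sum_mem _ fun i _ => ?_
      rw [Algebra.smul_def, map_mul, ← IsScalarTower.algebraMap_apply,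
        show algebraMap k K' (b.repr c i) * algebraMap k' K' (b i) * algebraMap K K' y =
          (algebraMap k K (b.repr c i) * y) • algebraMap k' K' (b i) by
            rw [Algebra.smul_def, map_mul, ← IsScalarTower.algebraMap_apply]; ring]
      exact Submodule.smul_mem _ _ (Submodule.subset_span (by simp))
    | add a b ha hb => rw [map_add]; exact add_mem (ha trivial) (hb trivial)
  obtain ⟨α₀, hα⟩ := Field.exists_primitive_element k (separableClosure k k')
  set α : k' := (α₀ : k')
  have hαs : IsSeparable k α := mem_separableClosure_iff.1 α₀.2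
  set q := minpoly k α
  have hqint : IsIntegral k α := hαs.isIntegral
  set a := algebraMap k' K' α
  have haq : Polynomial.aeval a q = 0 := by
    rw [Polynomial.aeval_algebraMap_apply, minpoly.aeval, map_zero]
  have haint : IsIntegral K a := (hqint.map (IsScalarTower.toAlgHom k k' K') : IsIntegral k a).tower_top
  set Ks := IntermediateField.adjoin K ({a} : Set K')
  haveI : IsScalarTower k Ks K' := IsScalarTower.of_algebraMap_eq fun c => rfl
  haveI : IsScalarTower k K Ks := IsScalarTower.of_algebraMap_eq fun c => Subtype.ext (IsScalarTower.algebraMap_apply k K K' c)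
  have hfin : Module.finrank K Ks ≤ q.natDegree := by
    rw [IntermediateField.adjoin.finrank haint, ← Polynomial.natDegree_map_eq_of_injective (algebraMap k K).injective q]
    exact Polynomial.natDegree_le_of_dvd (minpoly.dvd K a (by rw [Polynomial.aeval_map_algebraMap]; exact haq))
      (Polynomial.map_ne_zero (minpoly.ne_zero hqint))
  have hsK : ∀ c : separableClosure k k', algebraMap k' K' (c : k') ∈ Ks := fun c => by
    have hc : c ∈ IntermediateField.adjoin k ({α₀} : Set (separableClosure k k')) := hα ▸ trivial
    induction hc using IntermediateField.adjoin_induction with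
    | mem x hx => rw [Set.mem_singleton_iff] at hx; subst hx; exact IntermediateField.mem_adjoin_simple_self K a
    | algebraMap r =>
      show algebraMap k' K' (algebraMap k k' r) ∈ Ks
      rw [← IsScalarTower.algebraMap_apply, IsScalarTower.algebraMap_apply k K K']; exact Ks.algebraMap_mem _
    | add x y _ _ hx hy => simp only [IntermediateField.coe_add, map_add]; exact add_mem hx hy
    | inv x _ hx => simp only [IntermediateField.coe_inv, map_inv₀]; exact inv_mem hx
    | mul x y _ _ hx hy => simp only [IntermediateField.coe_mul, map_mul]; exact mul_mem hx hy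
  set p := ringExpChar k
  haveI : ExpChar k p := ringExpChar.of_eq rfl
  haveI : ExpChar (separableClosure k k') p := expChar_of_injective_algebraMap (algebraMap k _).injective p
  haveI : ExpChar K' p := expChar_of_injective_algebraMap (algebraMap k K').injective p
  have hpow : ∀ z : K', ∃ n : ℕ, z ^ p ^ n ∈ Ks := fun z => by
    obtain ⟨x, rfl⟩ := h.2 z
    induction x using TensorProduct.induction_on with
    | zero => exact ⟨0, by rw [map_zero]; simp⟩
    | tmul c y =>
      obtain ⟨n, b, hb⟩ := IsPurelyInseparable.pow_mem (separableClosure k k') p c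
      refine ⟨n, ?_⟩
      rw [show pm (c ⊗ₜ y) = algebraMap k' K' c * algebraMap K K' y by simp [pm], mul_pow, ← map_pow, ← map_pow, ← hb]
      exact mul_mem (hsK b) (Ks.algebraMap_mem _)
    | add x y hx hy =>
      obtain ⟨n, hn⟩ := hx
      obtain ⟨m, hm⟩ := hy
      refine ⟨n + m, ?_⟩
      rw [map_add, add_pow_expChar_pow]
      refine add_mem ?_ ?_
      · rw [pow_add, pow_mul]; exact pow_mem hn _
      · rw [add_comm n m, pow_add, pow_mul]; exact pow_mem hm _
  set S := (finite_over (K' := Ks) hK P).toFinset
  have hsum := sum_ram_mul_deg' (K' := Ks) hK P S fun R => Set.Finite.mem_toFinset _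
  have hdeg : ∀ R ∈ S, P.deg * q.natDegree ≤ FunFld.ramIdx R P * R.deg := fun R hR => by
    have hb := (isOver_iff hK R P).1 ((finite_over (K' := Ks) hK P).mem_toFinset.1 hR)
    have he := hb ▸ isOverWith_below hK R
    rw [← hb, ramIdx_below, hb]
    refine le_trans ?_ (Nat.le_mul_of_pos_left _ (isOverWith_pos he))
    rcases hpi with hp' | hp'
    · haveI := hp'
      have h1 : q.natDegree = 1 := by
        obtain ⟨c, hc⟩ := IsPurelyInseparable.inseparable k α hαs
        exact minpoly.natDegree_eq_one_iff.2 ⟨c, hc⟩
      rw [h1, mul_one]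
      exact deg_le_of_over hK he
    · haveI := hp'
      exact deg_bound hK he (minpoly.monic hqint) (minpoly.irreducible hqint) hαs
        (a := (⟨a, IntermediateField.mem_adjoin_simple_self K a⟩ : Ks))
        (Subtype.val_injective ((Polynomial.aeval_algHom_apply (IsScalarTower.toAlgHom k Ks K') _ q).symm.trans haq))
  have hcard : S.card ≤ 1 := by
    by_contra hlt
    have h1 := Finset.card_nsmul_le_sum S _ _ hdeg
    rw [hsum, smul_eq_mul] at h1
    have h2 := Nat.mul_le_mul_right P.deg hfin
    have hpos : 0 < P.deg * q.natDegree := Nat.mul_pos (deg_pos hK P) (minpoly.natDegree_pos hqint)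
    have h3 := Nat.mul_le_mul_right (P.deg * q.natDegree) (show 2 ≤ S.card by omega)
    rw [mul_comm q.natDegree] at h2
    omega
  have hKs : IsFF k Ks := isFF_extension hK
  obtain ⟨Q, hQ⟩ : ∃ Q : FunFld.Place k K', FunFld.IsOver Q P := by
    by_contra! hne
    have h1 := sum_ram_mul_deg' (K' := K') hK P ∅ fun Q => by simp [hne Q]
    rw [Finset.sum_empty] at h1
    have := Nat.mul_pos (Module.finrank_pos (R := K) (M := K')) (deg_pos hK P)
    omega
  have hbelow : ∀ Q : FunFld.Place k K', FunFld.IsOver Q P → below hKs Q ∈ S := fun Q hQ => by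
    rw [Set.Finite.mem_toFinset]
    show FunFld.IsOver _ P
    obtain ⟨P', e', he'⟩ := exists_restrict hK (below hKs Q)
    obtain ⟨e, he⟩ := hQ
    have h3 : FunFld.IsOverWith Q P' (e' * eAt hKs Q) := fun z => by
      rw [IsScalarTower.algebraMap_apply K Ks K', isOverWith_below hKs Q, he', ← pow_mul]
    obtain ⟨rfl, -⟩ := place_unique he h3
    exact ⟨e', he'⟩
  refine ⟨Q, hQ, fun Q' hQ' => ?_⟩
  have heq : below hKs Q' = below hKs Q := Finset.card_le_one.1 hcard _ (hbelow Q' hQ') _ (hbelow Q hQ)
  refine insep_unique (fun z => ?_) ⟨_, heq ▸ isOverWith_below hKs Q'⟩ ⟨_, isOverWith_below hKs Q⟩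
  obtain ⟨n, hn⟩ := hpow z
  exact ⟨p ^ n, ⟨_, hn⟩, pow_ne_zero _ (expChar_pos k p).ne', rfl⟩

/-- For a place `P` of a geometric function field of one variable `K/k` and a finite extension `k'/k`
with either `k'/k` or `F_P/k` purely inseparable, `P` has exactly one place of `k' ⊗_k K` above it. -/
theorem result (k k' : Type u) (K K' : Type v) [Field k] [Field k'] [Field K] [Field K']
    [Algebra k k'] [FiniteDimensional k k'] [Algebra k K] [Algebra K K'] [Algebra k' K'] [Algebra k K']
    [IsScalarTower k k' K'] [IsScalarTower k K K']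
    (h : Function.Bijective (Algebra.TensorProduct.productMap
      (IsScalarTower.toAlgHom k k' K') (IsScalarTower.toAlgHom k K K')))
    (hK : FunFld.IsFunctionField k K) (hg : FunFld.IsGeometric k K) (P : FunFld.Place k K)
    (hpi : IsPurelyInseparable k k' ∨ IsPurelyInseparable k (IsLocalRing.ResidueField P.O)) :
    ∃! Q : FunFld.Place k K', FunFld.IsOver Q P := by
  exact core h hK.1 P hpi

end Groth.Agent.S11011
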