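import Groth.Statements.S11012
import Groth.Agent.FunFldLib.ConstClosure
import Mathlib.RingTheory.Unramified.Field
import Mathlib.FieldTheory.SeparableClosure

set_option autoImplicit false
universe u v
open FunFld

namespace Groth.Agent.S11012

set_option backward.isDefEq.respectTransparency false in
open Groth.Agent.FunFldLib TensorProduct IsLocalRing in
theorem reduced {k k' : Type u} {K : Type v} [Field k] [Field k'] [Field K] [Algebra k k'] [FiniteDimensional k k']
    [Algebra.IsSeparable k k'] [Algebra k K] (P : FunFld.Place k K) :
    IsReduced (ResidueField P.O ⊗[k] k') := by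
  haveI : Algebra.FormallyUnramified k k' := Algebra.FormallyUnramified.of_isSeparable k _
  exact Algebra.FormallyUnramified.isReduced_of_field (ResidueField P.O) _

open Groth.Agent.FunFldLib TensorProduct in
theorem ext_props {k k' : Type u} {K K' : Type v} [Field k] [Field k'] [Field K] [Field K']
    [Algebra k k'] [FiniteDimensional k k'] [Algebra.IsSeparable k k'] [Algebra k K] [Algebra K K'] [Algebra k' K']
    [Algebra k K'] [IsScalarTower k k' K'] [IsScalarTower k K K']
    (h : Function.Bijective (Algebra.TensorProduct.productMap
      (IsScalarTower.toAlgHom k k' K') (IsScalarTower.toAlgHom k K K'))) :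
    FiniteDimensional K K' ∧ Algebra.IsSeparable K K' := by
  classical
  set pm := Algebra.TensorProduct.productMap (IsScalarTower.toAlgHom k k' K') (IsScalarTower.toAlgHom k K K')
  let b := Module.finBasis k k'
  have hgen : Submodule.span K (Set.range fun i => algebraMap k' K' (b i)) = ⊤ := eq_top_iff.2 fun z _ => by
    obtain ⟨a, rfl⟩ := h.2 z
    induction a using TensorProduct.induction_on with
    | zero => rw [map_zero]; exact zero_mem _
    | tmul c y =>
      rw [show pm (c ⊗ₜ y) = algebraMap k' K' c * algebraMap K K' y by simp [pm], ← b.sum_repr c, map_sum, Finset.sum_mul]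
      refine Submodule.sum_mem _ fun i _ => ?_
      rw [Algebra.smul_def, map_mul, ← IsScalarTower.algebraMap_apply,
        show algebraMap k K' (b.repr c i) * algebraMap k' K' (b i) * algebraMap K K' y =
          (algebraMap k K (b.repr c i) * y) • algebraMap k' K' (b i) by
            rw [Algebra.smul_def, map_mul, ← IsScalarTower.algebraMap_apply]; ring]
      exact Submodule.smul_mem _ _ (Submodule.subset_span (Set.mem_range_self i))
    | add a b ha hb => rw [map_add]; exact add_mem (ha trivial) (hb trivial)
  haveI : FiniteDimensional K K' := ⟨⟨(Set.finite_range fun i => algebraMap k' K' (b i)).toFinset, by rw [Set.Finite.coe_toFinset]; exact hgen⟩⟩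
  refine ⟨inferInstance, ⟨fun z => ?_⟩⟩
  rw [← mem_separableClosure_iff]
  have hz : z ∈ Submodule.span K (Set.range fun i => algebraMap k' K' (b i)) := hgen ▸ trivial
  refine (Submodule.span_le (p := (separableClosure K K').toSubalgebra.toSubmodule)).2 ?_ hz
  rintro _ ⟨i, rfl⟩
  exact mem_separableClosure_iff.2
    ((((Algebra.IsSeparable.isSeparable k (b i)).map (f := IsScalarTower.toAlgHom k k' K') (algebraMap k' K').injective)).tower_top K)

/-- Under a finite separable constant extension `k'/k` of a geometric function field of one variable,
the integral closure of `O_P` in `k' ⊗_k K` is `k' ⊗_k O_P` and every place above `P` has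
ramification index `1`. -/
theorem result (k k' : Type u) (K K' : Type v) [Field k] [Field k'] [Field K] [Field K']
    [Algebra k k'] [FiniteDimensional k k'] [Algebra k K] [Algebra K K'] [Algebra k' K'] [Algebra k K']
    [IsScalarTower k k' K'] [IsScalarTower k K K']
    (h : Function.Bijective (Algebra.TensorProduct.productMap
      (IsScalarTower.toAlgHom k k' K') (IsScalarTower.toAlgHom k K K')))
    (hK : FunFld.IsFunctionField k K) (hg : FunFld.IsGeometric k K) [Algebra.IsSeparable k k']
    (P : FunFld.Place k K) [Algebra P.O K'] [IsScalarTower P.O K K']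
    (Q : FunFld.Place k K') (hQ : FunFld.IsOver Q P) :
    (integralClosure P.O K').toSubring =
      (Algebra.adjoin P.O (Set.range (algebraMap k' K'))).toSubring ∧
    FunFld.IsOverWith Q P 1 := by
  haveI := reduced (k' := k') P
  refine ⟨Groth.Agent.FunFldLib.closure_eq (k' := k') P h, ?_⟩
  obtain ⟨h1, h2⟩ := ext_props h
  obtain ⟨e, he⟩ := hQ
  exact (Groth.Agent.FunFldLib.e_eq_one (k' := k') P hK.1 h he) ▸ he

end Groth.Agent.S11012
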