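import Groth.Statements.S11014
import Groth.Agent.FunFldLib.Cor
import Groth.Agent.FunFldLib.Gaps
import Groth.Agent.FunFldLib.Galois

set_option autoImplicit false
open FunFld

namespace Groth.Agent.S11014

open Polynomial in
theorem setup {k K : Type*} [Field k] [Field K] [Algebra k K] (h2 : (2 : k) ≠ 0) (x y : K) (hx : Transcendental k x)
    (hxy : IntermediateField.adjoin k ({x, y} : Set K) = ⊤)
    (f : Polynomial k) (hf : Squarefree f) (hd : 1 ≤ f.natDegree) (heq : y ^ 2 = aeval x f) :
    Module.finrank (IntermediateField.adjoin k ({x} : Set K)) K = 2 ∧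
      (∃ σ : K ≃ₐ[IntermediateField.adjoin k ({x} : Set K)] K, σ y = -y) ∧
      ∀ z : K, ∃ a b : IntermediateField.adjoin k ({x} : Set K), z = (a : K) + b * y := by

  classical
  letI : GCDMonoid (Polynomial k) := UniqueFactorizationMonoid.toGCDMonoid _
  set F := IntermediateField.adjoin k ({x} : Set K) with hF
  have hxF : x ∈ F := IntermediateField.mem_adjoin_simple_self k x
  have hinj := transcendental_iff_injective.1 hx
  have hfne : f ≠ 0 := fun h => by simp [h] at hd
  have hint : IsIntegral F y := ⟨X ^ 2 - C ⟨aeval x f, (IntermediateField.mem_adjoin_simple_iff k _).2 ⟨f, 1, by simp⟩⟩,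
    monic_X_pow_sub_C _ two_ne_zero, by simp [heq]⟩
  have htop : IntermediateField.adjoin F ({y} : Set K) = ⊤ := by
    apply IntermediateField.restrictScalars_injective k
    rw [IntermediateField.adjoin_adjoin_left, IntermediateField.restrictScalars_top, ← hxy]
    congr 1
  have hfin : FiniteDimensional F K := by
    haveI := IntermediateField.adjoin.finiteDimensional hint
    rw [htop] at this
    exact Module.Finite.equiv IntermediateField.topEquiv.toLinearEquiv
  have hnsq : ∀ c d : Polynomial k, d ≠ 0 → ∀ e : k, c ^ 2 * f = C e * d ^ 2 → c = 0 := by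
    intro c d hd0 e he
    by_contra hc
    obtain ⟨c', d', hco, hc', hd'⟩ : ∃ c' d', IsCoprime c' d' ∧ c = gcd c d * c' ∧ d = gcd c d * d' := by
      obtain ⟨c', hc'⟩ := gcd_dvd_left c d
      obtain ⟨d', hd'⟩ := gcd_dvd_right c d
      refine ⟨c', d', ?_, hc', hd'⟩
      have hu := isUnit_gcd_of_eq_mul_gcd hc' hd' (gcd_ne_zero_of_right hd0)
      exact (gcd_isUnit_iff_isRelPrime.1 hu).isCoprime
    have hg0 : gcd c d ≠ 0 := gcd_ne_zero_of_right hd0
    generalize gcd c d = g at hc' hd' hg0
    rw [hc', hd'] at he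
    have he' : c' ^ 2 * f = C e * d' ^ 2 := by
      apply mul_left_cancel₀ (pow_ne_zero 2 hg0); linear_combination he
    have he0 : e ≠ 0 := fun h => by
      rw [h, map_zero, zero_mul] at he'
      exact hc (by rw [hc', pow_eq_zero_iff two_ne_zero |>.1 ((mul_eq_zero.1 he').resolve_right hfne), mul_zero])
    have hdvd : d' ^ 2 ∣ f := by
      refine (hco.symm.pow (m := 2) (n := 2)).dvd_of_dvd_mul_left (by rw [he']; exact dvd_mul_left _ _)
    have hu : IsUnit d' := hf d' (by rw [← sq]; exact hdvd)
    have hdeg := congrArg natDegree he'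
    have hc'0 : c' ≠ 0 := fun h => hc (by rw [hc', h, mul_zero])
    rw [natDegree_mul (pow_ne_zero _ hc'0) hfne, natDegree_C_mul he0, natDegree_pow, natDegree_pow,
      natDegree_eq_zero_of_isUnit hu] at hdeg
    omega
  have hy : y ∉ (F : Set K) := by
    intro hyF
    obtain ⟨r, s, hrs⟩ := (IntermediateField.mem_adjoin_simple_iff k y).1 hyF
    rcases eq_or_ne s 0 with rfl | hs
    · rw [map_zero, div_zero] at hrs
      rw [hrs, zero_pow two_ne_zero] at heq
      exact hfne (hinj (heq.symm.trans (map_zero _).symm))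
    have h1 : r ^ 2 = f * s ^ 2 := hinj (by
      rw [map_mul, map_pow, map_pow, ← heq, hrs, div_pow,
        div_mul_cancel₀ _ (pow_ne_zero _ fun h => hs (hinj (h.trans (map_zero _).symm)))])
    have hr0 : r ≠ 0 := by
      rintro rfl
      rw [zero_pow two_ne_zero] at h1
      exact mul_ne_zero hfne (pow_ne_zero _ hs) h1.symm
    exact hs (hnsq s r hr0 1 (by rw [map_one, one_mul, h1]; ring))
  haveI : FiniteDimensional F K := hfin
  set fF : F := ⟨aeval x f, (IntermediateField.mem_adjoin_simple_iff k _).2 ⟨f, 1, by simp⟩⟩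
  have hirr : Irreducible (X ^ 2 - C fF : Polynomial F) := X_pow_sub_C_irreducible_of_prime Nat.prime_two fun r hr => by
    have h3 : ((r : K)) ^ 2 = y ^ 2 := by rw [heq]; exact congrArg Subtype.val hr
    rcases sq_eq_sq_iff_eq_or_eq_neg.1 h3 with h | h
    · exact hy (h ▸ r.2)
    · exact hy (by rw [SetLike.mem_coe, ← neg_mem_iff, ← h]; exact r.2)
  have hmin : minpoly F y = X ^ 2 - C fF :=
    (minpoly.eq_of_irreducible_of_monic hirr (by simp [fF, heq]) (monic_X_pow_sub_C _ two_ne_zero)).symm
  let pb := (IntermediateField.adjoin.powerBasis hint).map ((IntermediateField.equivOfEq htop).trans IntermediateField.topEquiv)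
  have hgen : pb.gen = y := by simp [pb]
  let σ : K →ₐ[F] K := pb.lift (-y) (by rw [hgen, hmin]; simp [fF, heq])
  have hσy : σ y = -y :=
    (congrArg σ hgen.symm).trans (pb.lift_gen (-y) (by rw [hgen, hmin]; simp [fF, heq]))
  refine ⟨?_, ⟨AlgEquiv.ofBijective σ σ.bijective, hσy⟩, fun z => ?_⟩
  · rw [← IntermediateField.finrank_top', ← htop, IntermediateField.adjoin.finrank hint, hmin, natDegree_X_pow_sub_C]
  · show ∃ a b : F, z = (a : K) + b * y
    have hmem : z ∈ Algebra.adjoin F ({y} : Set K) := by
      rw [← IntermediateField.adjoin_simple_toSubalgebra_of_isAlgebraic hint.isAlgebraic, htop]; trivial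
    rw [Algebra.adjoin_singleton_eq_range_aeval] at hmem
    obtain ⟨p, hp⟩ := hmem
    set q : Polynomial F := X ^ 2 - C ⟨aeval x f, (IntermediateField.mem_adjoin_simple_iff k _).2 ⟨f, 1, by simp⟩⟩
    have hqm : q.Monic := monic_X_pow_sub_C _ two_ne_zero
    have h1 : aeval y p = aeval y (p %ₘ q) := by
      conv_lhs => rw [← modByMonic_add_div p q, map_add, map_mul, show aeval y q = 0 by simp [q, heq]]
      rw [zero_mul, add_zero]
    have hdeg : (p %ₘ q).natDegree ≤ 1 := by
      have := natDegree_modByMonic_lt p hqm (by intro h; have := congrArg natDegree h; rw [natDegree_X_pow_sub_C] at this; simp at this)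
      rw [natDegree_X_pow_sub_C] at this
      omega
    refine ⟨(p %ₘ q).coeff 0, (p %ₘ q).coeff 1, ?_⟩
    rw [← hp]
    show aeval y p = _
    rw [h1]
    conv_lhs => rw [eq_X_add_C_of_natDegree_le_one hdeg]
    simp [add_comm]

open Groth.Agent.FunFldLib Polynomial in
theorem ord_aeval_pole {k K : Type*} [Field k] [Field K] [Algebra k K] (P : FunFld.Place k K) {x : K}
    (hx : Transcendental k x) (hP : P.ord x < 0) (p : Polynomial k) (hp : p ≠ 0) :
    P.ord (aeval x p) = p.natDegree * P.ord x := by
  classical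
  have hx0 : x ≠ 0 := fun h => hx (h ▸ isAlgebraic_zero)
  have hne : aeval x p ≠ 0 := fun h => hp (transcendental_iff.1 hx p h)
  have hv : P.1 (aeval x p) = P.1 (x ^ p.natDegree) := by
    rw [aeval_eq_sum_range]
    rw [Valuation.map_sum_eq_of_lt P.1 (j := p.natDegree) (Finset.self_mem_range_succ _) ?_,
      val_smul P (c := p.coeff p.natDegree) (leadingCoeff_ne_zero.2 hp)]
    intro l hl
    rw [Finset.mem_sdiff, Finset.mem_range, Finset.mem_singleton] at hl
    rw [val_smul P (c := p.coeff p.natDegree) (leadingCoeff_ne_zero.2 hp), val_eq_exp P (pow_ne_zero _ hx0)]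
    rcases eq_or_ne (p.coeff l) 0 with h | h
    · rw [h, zero_smul, map_zero]; exact zero_lt_iff.2 WithZero.exp_ne_zero
    · rw [val_smul P h, val_eq_exp P (pow_ne_zero _ hx0), WithZero.exp_lt_exp, ord_pow, ord_pow]
      have h1 : (l : ℤ) < p.natDegree := by exact_mod_cast (show l < p.natDegree by omega)
      nlinarith
  rw [FunFld.Place.ord, hv, ← FunFld.Place.ord, ord_pow]

open Groth.Agent.FunFldLib Polynomial in
theorem ord_aeval_nonneg {k K : Type*} [Field k] [Field K] [Algebra k K] (P : FunFld.Place k K) {x : K}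
    (hx : Transcendental k x) (hP : 0 ≤ P.ord x) (p : Polynomial k) : 0 ≤ P.ord (aeval x p) := by
  have hx0 : x ≠ 0 := fun h => hx (h ▸ isAlgebraic_zero)
  rcases eq_or_ne (aeval x p) 0 with h | h
  · rw [h, ord_zero]
  rw [← val_le_one_iff P h, aeval_eq_sum_range]
  refine P.1.map_sum_le fun i _ => ?_
  rw [Algebra.smul_def, map_mul]
  exact mul_le_one' (P.2.1 _) (by rw [map_pow]; exact pow_le_one₀ zero_le ((val_le_one_iff P hx0).2 hP))

open Groth.Agent.FunFldLib Polynomial in
theorem exists_poly {k K : Type*} [Field k] [Field K] [Algebra k K] (hK : FunFld.IsFunctionField k K) {x : K}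
    (hx : Transcendental k x) (a : IntermediateField.adjoin k ({x} : Set K))
    (h : ∀ P : FunFld.Place k K, 0 ≤ P.ord x → 0 ≤ P.ord (a : K)) : ∃ p : Polynomial k, (a : K) = aeval x p := by
  classical
  set e := RatFunc.algEquivOfTranscendental x hx
  obtain ⟨u, rfl⟩ := e.surjective a
  have ha : ((e u : IntermediateField.adjoin k ({x} : Set K)) : K) = aeval x u.num / aeval x u.denom := RatFunc.algEquivOfTranscendental_apply x hx u
  by_cases hs : u.denom.natDegree = 0
  · refine ⟨C (u.denom.coeff 0)⁻¹ * u.num, ?_⟩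
    rw [ha, map_mul, aeval_C, eq_C_of_natDegree_eq_zero hs, aeval_C, coeff_C_zero, map_inv₀, div_eq_inv_mul]
  exfalso
  have hsT : Transcendental k (aeval x u.denom) := hx.aeval_of_transcendental (Polynomial.transcendental u.denom hs (mem_nonZeroDivisors_of_ne_zero (leadingCoeff_ne_zero.2 (RatFunc.denom_ne_zero u))))
  obtain ⟨P, hP⟩ := exists_place_val_lt_one hK.1 hsT
  have hs0 : aeval x u.denom ≠ 0 := fun h0 => RatFunc.denom_ne_zero u (transcendental_iff.1 hx _ h0)
  rw [val_lt_one_iff P hs0] at hP
  have hPx : 0 ≤ P.ord x := by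
    by_contra hlt
    rw [ord_aeval_pole P hx (by omega) _ (RatFunc.denom_ne_zero u)] at hP
    have : (0 : ℤ) ≤ u.denom.natDegree := Int.natCast_nonneg _
    nlinarith
  have := h P hPx
  obtain ⟨c, d, hcd⟩ := RatFunc.isCoprime_num_denom u
  have h1 := congrArg (aeval x) hcd
  rw [map_add, map_mul, map_mul, map_one] at h1
  have hr0 : aeval x u.num ≠ 0 := by
    intro h0
    have hu : u.num = 0 := transcendental_iff.1 hx _ h0
    rw [RatFunc.num_eq_zero_iff] at hu
    rw [hu, RatFunc.denom_zero] at hs
    simp at hs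
  rw [ha, ord_div P hr0 hs0] at this
  have hv1 : P.1 (aeval x c * aeval x u.num + aeval x d * aeval x u.denom) = 1 := by rw [h1, map_one]
  refine (lt_irrefl (1 : WithZero (Multiplicative ℤ))) (hv1.symm.trans_lt ?_)
  refine P.1.map_add_lt ?_ ?_ <;> rw [map_mul]
  · refine mul_lt_one_of_nonneg_of_lt_one_right ?_ zero_le ((val_lt_one_iff P hr0).2 (by omega))
    rcases eq_or_ne (aeval x c) 0 with h0 | h0
    · rw [h0, map_zero]; exact zero_le
    · exact (val_le_one_iff P h0).2 (ord_aeval_nonneg P hx hPx c)
  · refine mul_lt_one_of_nonneg_of_lt_one_right ?_ zero_le ((val_lt_one_iff P hs0).2 hP)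
    rcases eq_or_ne (aeval x d) 0 with h0 | h0
    · rw [h0, map_zero]; exact zero_le
    · exact (val_le_one_iff P h0).2 (ord_aeval_nonneg P hx hPx d)

open Groth.Agent.FunFldLib Polynomial in
theorem poly_of_sq {k : Type*} [Field k] (f q r : Polynomial k) (hf : Squarefree f) (p : Polynomial k) (hq : q ≠ 0)
    (hpq : IsCoprime p q) (h : p ^ 2 * f = q ^ 2 * r) : IsUnit q := by
  refine hf q ?_
  rw [← sq]
  exact (hpq.symm.pow (m := 2) (n := 2)).dvd_of_dvd_mul_left ⟨r, h⟩

/-- For `char k ≠ 2` and `K = k(x, y)` with `y² = f(x)`, `f` squarefree of degree `d ≥ 1`, the genus is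
`(d - 2)/2` for `d` even and `(d - 1)/2` for `d` odd. -/
theorem result (k K : Type*) [Field k] [Field K] [Algebra k K]
    (hK : FunFld.IsFunctionField k K) (h2 : ringChar k ≠ 2) (x y : K) (hx : Transcendental k x)
    (hxy : IntermediateField.adjoin k ({x, y} : Set K) = ⊤)
    (f : Polynomial k) (hf : Squarefree f) (hd : 1 ≤ f.natDegree)
    (heq : y ^ 2 = Polynomial.aeval x f) :
    FunFld.genus k K = (f.natDegree - 1) / 2 := by
  classical
  have h2' : (2 : k) ≠ 0 := by
    intro h
    apply h2
    exact CharP.ringChar_of_prime_eq_zero Nat.prime_two (by exact_mod_cast h)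
  have hset := setup h2' x y hx hxy f hf hd heq
  set F := IntermediateField.adjoin k ({x} : Set K) with hF
  obtain ⟨hfr, ⟨σ, hσy⟩, hdec⟩ := hset
  haveI : FiniteDimensional F K := FiniteDimensional.of_finrank_pos (by omega)
  have hx0 : x ≠ 0 := fun h => hx (h ▸ isAlgebraic_zero)
  have hinj : Function.Injective (Polynomial.aeval (R := k) x) := transcendental_iff_injective.1 hx
  have hne : ∀ p : Polynomial k, p ≠ 0 → Polynomial.aeval x p ≠ 0 := fun p hp h => hp (transcendental_iff.1 hx p h)
  have hf0 : f ≠ 0 := fun h => by simp [h] at hd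
  have hy0 : y ≠ 0 := fun h => hne f hf0 (by rw [← heq, h, zero_pow two_ne_zero])
  have h2K : (2 : K) ≠ 0 := by rw [← map_ofNat (algebraMap k K) 2]; exact (map_ne_zero _).2 h2'
  have hσF : ∀ p : Polynomial k, σ (Polynomial.aeval x p) = Polynomial.aeval x p := fun p =>
    σ.commutes ⟨_, Polynomial.aeval_mem_adjoin_singleton k x |> fun h => IntermediateField.algebra_adjoin_le_adjoin k _ h⟩
  obtain ⟨N, hN⟩ := FunFldLib.exists_delta_large hK
  set D : FunFld.Divisor k K := (-FunFld.div k x) ⊔ 0 with hD
  have hDdeg : D.deg = 2 := by rw [hD, FunFldLib.deg_poles hK.1 hx, ← hF, hfr]; rfl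
  set d := f.natDegree with hdd
  set m := N.toNat + d with hm
  set nb := (2 * m - d) / 2 + 1 with hnb
  have hDP : ∀ P : FunFld.Place k K, (m • D) P = m * max (-P.ord x) 0 := fun P => by
    simp [hD, FunFldLib.div_apply hK.1]
  let Φ : (Polynomial.degreeLT k (m + 1) × Polynomial.degreeLT k nb) →ₗ[k] K :=
    LinearMap.coprod ((Polynomial.aeval x).toLinearMap.comp (Polynomial.degreeLT k (m + 1)).subtype)
      ((LinearMap.mulRight k y).comp ((Polynomial.aeval x).toLinearMap.comp (Polynomial.degreeLT k nb).subtype))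
  have hΦ : ∀ u, Φ u = Polynomial.aeval x (u.1 : Polynomial k) + Polynomial.aeval x (u.2 : Polynomial k) * y := fun u => rfl
  have hΦinj : Function.Injective Φ := by
    rw [injective_iff_map_eq_zero]
    intro u hu
    rw [hΦ] at hu
    have hu' := congrArg σ hu
    rw [map_add, map_mul, hσy, hσF, hσF, map_zero] at hu'
    have ha : Polynomial.aeval x (u.1 : Polynomial k) = 0 :=
      (mul_eq_zero.1 (show (2 : K) * Polynomial.aeval x (u.1 : Polynomial k) = 0 by linear_combination hu + hu')).resolve_left h2K
    rw [ha, zero_add] at hu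
    have hb := (mul_eq_zero.1 hu).resolve_right hy0
    exact Prod.ext (Subtype.ext (transcendental_iff.1 hx _ ha)) (Subtype.ext (transcendental_iff.1 hx _ hb))
  have hy2 : ∀ P : FunFld.Place k K, 2 * P.ord y = P.ord (Polynomial.aeval x f) := fun P => by
    rw [← heq, FunFldLib.ord_pow]; push_cast; ring
  have hrange : LinearMap.range Φ = FunFld.L (m • D) := by
    apply le_antisymm
    · rintro _ ⟨⟨⟨p, hp⟩, ⟨q, hq⟩⟩, rfl⟩
      rw [Polynomial.mem_degreeLT] at hp hq
      rw [hΦ]
      refine add_mem ?_ ?_
      · rcases eq_or_ne p 0 with rfl | hp0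
        · simp
        rw [FunFldLib.mem_L_iff (hne p hp0)]
        intro P
        rw [hDP]
        rcases le_or_gt 0 (P.ord x) with hP | hP
        · have := ord_aeval_nonneg P hx hP p
          rw [max_eq_right (by omega)]; omega
        · rw [ord_aeval_pole P hx hP p hp0, max_eq_left (by omega)]
          rw [← Polynomial.natDegree_lt_iff_degree_lt hp0] at hp
          have : (p.natDegree : ℤ) ≤ m := by omega
          nlinarith
      · rcases eq_or_ne q 0 with rfl | hq0
        · simp
        rw [FunFldLib.mem_L_iff (mul_ne_zero (hne q hq0) hy0)]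
        intro P
        rw [hDP, FunFldLib.ord_mul P (hne q hq0) hy0]
        have h' := hy2 P
        rcases le_or_gt 0 (P.ord x) with hP | hP
        · have h1 := ord_aeval_nonneg P hx hP q
          have h3 := ord_aeval_nonneg P hx hP f
          rw [max_eq_right (by omega)]; omega
        · rw [ord_aeval_pole P hx hP f hf0] at h'
          rw [ord_aeval_pole P hx hP q hq0, max_eq_left (by omega)]
          rw [← Polynomial.natDegree_lt_iff_degree_lt hq0] at hq
          have : 2 * (q.natDegree : ℤ) + d ≤ 2 * m := by omega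
          nlinarith
    · intro z hz
      obtain ⟨a, b, hab⟩ := hdec z
      have hσz : σ z ∈ FunFld.L (m • D) := by
        intro P
        have := hz (FunFldLib.twist σ P)
        rw [hDP, FunFldLib.twist_val] at this
        rw [hDP]
        have hx' : (FunFldLib.twist σ P).ord x = P.ord x := by
          rw [FunFld.Place.ord, FunFld.Place.ord, FunFldLib.twist_val,
            show σ x = x from σ.commutes ⟨x, IntermediateField.mem_adjoin_simple_self k x⟩]
        rwa [hx'] at this
      have hσab : σ z = (a : K) - b * y := by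
        rw [hab, map_add, map_mul, hσy, show σ (a : K) = a from σ.commutes a, show σ (b : K) = b from σ.commutes b]; ring
      have hk2 : algebraMap k K 2⁻¹ * 2 = 1 := by
        rw [← map_ofNat (algebraMap k K) 2, ← map_mul, inv_mul_cancel₀ h2', map_one]
      have haL : (a : K) ∈ FunFld.L (m • D) := by
        have := (FunFld.L (m • D)).smul_mem (2⁻¹ : k) (add_mem hz hσz)
        rw [hσab, hab, Algebra.smul_def] at this
        convert this using 1
        linear_combination -(a : K) * hk2
      have hbL : (b : K) * y ∈ FunFld.L (m • D) := by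
        have := (FunFld.L (m • D)).sub_mem hz haL
        rwa [hab, add_sub_cancel_left] at this
      have hfin : ∀ w : K, w ∈ FunFld.L (m • D) → ∀ P : FunFld.Place k K, 0 ≤ P.ord x → 0 ≤ P.ord w := by
        intro w hw P hP
        rcases eq_or_ne w 0 with rfl | hw0
        · simp
        have := (FunFldLib.mem_L_iff hw0).1 hw P
        rw [hDP, max_eq_right (by omega)] at this
        omega
      obtain ⟨p, hp⟩ := exists_poly hK hx a (hfin _ haL)
      obtain ⟨r, hr⟩ := exists_poly hK hx (b ^ 2 * ⟨Polynomial.aeval x f,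
          IntermediateField.algebra_adjoin_le_adjoin k _ (Polynomial.aeval_mem_adjoin_singleton k x)⟩) (fun P hP => by
        have := hfin _ hbL P hP
        push_cast
        rw [← heq, ← mul_pow, FunFldLib.ord_pow]
        positivity)
      push_cast at hr
      set e := RatFunc.algEquivOfTranscendental x hx
      obtain ⟨u, rfl⟩ := e.surjective b
      have hbu : ((e u : F) : K) = Polynomial.aeval x u.num / Polynomial.aeval x u.denom :=
        RatFunc.algEquivOfTranscendental_apply x hx u
      have hpoly : u.num ^ 2 * f = u.denom ^ 2 * r := hinj (by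
        rw [map_mul, map_mul, map_pow, map_pow, ← hr, hbu]
        field_simp [hne _ (RatFunc.denom_ne_zero u)])
      have hunit := poly_of_sq f u.denom r hf u.num (RatFunc.denom_ne_zero u) (RatFunc.isCoprime_num_denom u) hpoly
      obtain ⟨c, hc0, hc⟩ := Polynomial.isUnit_iff.1 hunit
      have hq : ((e u : F) : K) = Polynomial.aeval x (Polynomial.C c⁻¹ * u.num) := by
        rw [hbu, ← hc, map_mul, Polynomial.aeval_C, Polynomial.aeval_C, map_inv₀, div_eq_inv_mul]
      set q := Polynomial.C c⁻¹ * u.num
      rw [hq] at hbL hab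
      rw [hp] at haL hab
      have hinf : ∃ P : FunFld.Place k K, P.ord x < 0 := by
        obtain ⟨P, hP⟩ := FunFldLib.exists_place_val_lt_one hK.1 (y := x⁻¹) (fun h => hx (IsAlgebraic.inv_iff.1 h))
        rw [FunFldLib.val_lt_one_iff P (inv_ne_zero hx0), FunFldLib.ord_inv] at hP
        exact ⟨P, by omega⟩
      obtain ⟨P, hP⟩ := hinf
      refine ⟨(⟨p, ?_⟩, ⟨q, ?_⟩), ?_⟩
      · rw [Polynomial.mem_degreeLT]
        rcases eq_or_ne p 0 with rfl | hp0
        · simp [Polynomial.degree_zero]
        rw [← Polynomial.natDegree_lt_iff_degree_lt hp0]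
        have := (FunFldLib.mem_L_iff (hne p hp0)).1 haL P
        rw [hDP, ord_aeval_pole P hx hP p hp0, max_eq_left (by omega)] at this
        have : (p.natDegree : ℤ) ≤ m := by nlinarith
        omega
      · rw [Polynomial.mem_degreeLT]
        rcases eq_or_ne q 0 with hq00 | hq0
        · rw [hq00, Polynomial.degree_zero]; exact WithBot.bot_lt_coe _
        rw [← Polynomial.natDegree_lt_iff_degree_lt hq0]
        have := (FunFldLib.mem_L_iff (mul_ne_zero (hne q hq0) hy0)).1 hbL P
        have h' := hy2 P
        rw [ord_aeval_pole P hx hP f hf0] at h'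
        rw [hDP, FunFldLib.ord_mul P (hne q hq0) hy0, ord_aeval_pole P hx hP q hq0, max_eq_left (by omega)] at this
        have : 2 * (q.natDegree : ℤ) + d ≤ 2 * m := by nlinarith
        omega
      · rw [hΦ]; exact hab.symm
  have hell : FunFld.ell (m • D) = m + 1 + nb := by
    rw [FunFld.ell, ← hrange, LinearMap.finrank_range_of_inj hΦinj, Module.finrank_prod,
      (Polynomial.degreeLTEquiv k (m + 1)).finrank_eq, (Polynomial.degreeLTEquiv k nb).finrank_eq,
      Module.finrank_fintype_fun_eq_card, Module.finrank_fintype_fun_eq_card, Fintype.card_fin, Fintype.card_fin]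
  have hdeg : (m • D).deg = 2 * m := by rw [FunFldLib.deg_nsmul, hDdeg]; ring
  have hg := hN (m • D) (by rw [hdeg]; omega)
  simp only [FunFldLib.delta, hell, hdeg] at hg
  omega

end Groth.Agent.S11014
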