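import Groth.Statements.S11016
import Groth.Agent.FunFldLib.Cor

set_option autoImplicit false
open FunFld

namespace Groth.Agent.S11016

/-- `L(D) ≠ 0` iff there is an effective divisor linearly equivalent to `D`. -/
theorem result (k K : Type*) [Field k] [Field K] [Algebra k K]
    (hK : FunFld.IsFunctionField k K) (D : FunFld.Divisor k K) :
    FunFld.L D ≠ ⊥ ↔ ∃ x : K, x ≠ 0 ∧ 0 ≤ D + FunFld.div k x := by
  rw [Submodule.ne_bot_iff]
  refine exists_congr fun x => ⟨fun ⟨h, h0⟩ => ⟨h0, fun P => ?_⟩, fun ⟨h0, h⟩ => ⟨(FunFldLib.mem_L_iff h0).2 fun P => ?_, h0⟩⟩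
  · have := (FunFldLib.mem_L_iff h0).1 h P
    rw [Finsupp.zero_apply, Finsupp.add_apply, FunFldLib.div_apply hK.1]; omega
  · have := h P
    rw [Finsupp.zero_apply, Finsupp.add_apply, FunFldLib.div_apply hK.1] at this; omega

end Groth.Agent.S11016
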