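import Groth.Statements.S11017
import Groth.Agent.FunFldLib.Cor

set_option autoImplicit false
open FunFld

namespace Groth.Agent.S11017

/-- For a Weil differential `ω` with divisor `C`, `ord_P [ω] ≥ e` iff `ω` kills every repartition
concentrated at `P` with `P`-component of order at least `-e`. -/
theorem result (k K : Type*) [Field k] [Field K] [Algebra k K] (ω : Module.Dual k (FunFld.adele k K)) (C : FunFld.Divisor k K) (hω : FunFld.IsDivOf ω C)
    (P : FunFld.Place k K) (e : ℤ) :
    e ≤ C P ↔ ∀ (a : FunFld.Place k K → K) (ha : a ∈ FunFld.adele k K),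
      (∀ Q, Q ≠ P → a Q = 0) → P.1 (a P) ≤ WithZero.exp e → ω ⟨a, ha⟩ = 0 := by
  classical
  constructor
  · intro he a ha h0 hP
    refine FunFldLib.mem_WD_iff.1 ((hω C).2 le_rfl) ⟨a, ha⟩ (Submodule.mem_sup_left fun Q => ?_)
    rcases eq_or_ne Q P with rfl | hne
    · exact hP.trans (WithZero.exp_le_exp.2 he)
    · simp [h0 Q hne]
  · intro h
    by_contra hlt
    have hE : ω ∈ FunFld.WD (Finsupp.update C P e) := by
      refine FunFldLib.mem_WD_iff.2 fun a ha => ?_
      obtain ⟨b, hb, c, hc, hbc⟩ := Submodule.mem_sup.1 ha
      let b1 : FunFld.Place k K → K := fun Q => if Q = P then b P else 0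
      have hb1 : b1 ∈ FunFld.adele k K := by
        show ∀ᶠ Q : FunFld.Place k K in Filter.cofinite, Q.1 (b1 Q) ≤ 1
        rw [Filter.eventually_cofinite]
        refine (Set.finite_singleton P).subset fun Q (hQ : ¬ Q.1 (b1 Q) ≤ 1) => ?_
        by_contra hne
        exact hQ (by simp [b1, if_neg (show ¬ Q = P from hne)])
      have h1 : ω ⟨b1, hb1⟩ = 0 := h b1 hb1 (fun Q hQ => if_neg hQ) (by
        have := hb P
        rw [Finsupp.coe_update, Function.update_self] at this
        simpa [b1] using this)
      have h2 : ω (a - ⟨b1, hb1⟩) = 0 := by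
        refine FunFldLib.mem_WD_iff.1 ((hω C).2 le_rfl) _ ?_
        show (a : FunFld.Place k K → K) - b1 ∈ _
        rw [← hbc, add_sub_right_comm]
        refine Submodule.add_mem _ (Submodule.mem_sup_left fun Q => ?_) (Submodule.mem_sup_right hc)
        rcases eq_or_ne Q P with rfl | hne
        · simp [b1]
        · have := hb Q
          rw [Finsupp.coe_update, Function.update_of_ne hne] at this
          simpa [b1, hne] using this
      rw [map_sub, h1, sub_zero] at h2
      exact h2
    have := (hω _).1 hE P
    rw [Finsupp.coe_update, Function.update_self] at this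
    exact hlt this

end Groth.Agent.S11017
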