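import Groth.Statements.S11019
import Mathlib

set_option autoImplicit false
open FunFld

namespace Groth.Agent.S11019

open Polynomial in
theorem core {k K : Type*} [Field k] [Field K] [Algebra k K] (h2 : (2 : k) ≠ 0) (x y : K) (hx : Transcendental k x)
    (hxy : IntermediateField.adjoin k ({x, y} : Set K) = ⊤)
    (f : Polynomial k) (hf : Squarefree f) (hd : 1 ≤ f.natDegree) (heq : y ^ 2 = aeval x f) :
    FiniteDimensional (IntermediateField.adjoin k ({x} : Set K)) K ∧
      ∀ z : K, IsAlgebraic k z → z ∈ Set.range (algebraMap k K) := by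
  classical
  letI : GCDMonoid (Polynomial k) := UniqueFactorizationMonoid.toGCDMonoid _
  set F := IntermediateField.adjoin k ({x} : Set K) with hF
  have hxF : x ∈ F := IntermediateField.mem_adjoin_simple_self k x
  have hinj := transcendental_iff_injective.1 hx
  have hfne : f ≠ 0 := fun h => by simp [h] at hd
  have hint : IsIntegral F y := ⟨X ^ 2 - C ⟨aeval x f, (IntermediateField.mem_adjoin_simple_iff k _).2 ⟨f, 1, by simp⟩⟩,
    monic_X_pow_sub_C _ two_ne_zero, by simp [heq]⟩
  have htop : IntermediateField.adjoin F ({y} : Set K) = ⊤ := by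
    apply IntermediateField.restrictScalars_injective k
    rw [IntermediateField.adjoin_adjoin_left, IntermediateField.restrictScalars_top, ← hxy]
    congr 1
  have hfin : FiniteDimensional F K := by
    haveI := IntermediateField.adjoin.finiteDimensional hint
    rw [htop] at this
    exact Module.Finite.equiv IntermediateField.topEquiv.toLinearEquiv
  refine ⟨hfin, fun z hz => ?_⟩
  -- `z = a + b y`
  obtain ⟨a, b, hab⟩ : ∃ a b : F, z = (a : K) + b * y := by
    have hmem : z ∈ Algebra.adjoin F ({y} : Set K) := by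
      rw [← IntermediateField.adjoin_simple_toSubalgebra_of_isAlgebraic hint.isAlgebraic, htop]; trivial
    rw [Algebra.adjoin_singleton_eq_range_aeval] at hmem
    obtain ⟨p, hp⟩ := hmem
    set q : Polynomial F := X ^ 2 - C ⟨aeval x f, (IntermediateField.mem_adjoin_simple_iff k _).2 ⟨f, 1, by simp⟩⟩
    have hqm : q.Monic := monic_X_pow_sub_C _ two_ne_zero
    have h1 : aeval y p = aeval y (p %ₘ q) := by
      conv_lhs => rw [← modByMonic_add_div p q, map_add, map_mul, show aeval y q = 0 by simp [q, heq]]
      rw [zero_mul, add_zero]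
    have hdeg : (p %ₘ q).natDegree ≤ 1 := by
      have := natDegree_modByMonic_lt p hqm (by intro h; have := congrArg natDegree h; rw [natDegree_X_pow_sub_C] at this; simp at this)
      rw [natDegree_X_pow_sub_C] at this
      omega
    refine ⟨(p %ₘ q).coeff 0, (p %ₘ q).coeff 1, ?_⟩
    rw [← hp]
    show aeval y p = _
    rw [h1]
    conv_lhs => rw [eq_X_add_C_of_natDegree_le_one hdeg]
    simp [add_comm]
  have hnsq : ∀ c d : Polynomial k, d ≠ 0 → ∀ e : k, c ^ 2 * f = C e * d ^ 2 → c = 0 := by
    intro c d hd0 e he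
    by_contra hc
    obtain ⟨c', d', hco, hc', hd'⟩ : ∃ c' d', IsCoprime c' d' ∧ c = gcd c d * c' ∧ d = gcd c d * d' := by
      obtain ⟨c', hc'⟩ := gcd_dvd_left c d
      obtain ⟨d', hd'⟩ := gcd_dvd_right c d
      refine ⟨c', d', ?_, hc', hd'⟩
      have hu := isUnit_gcd_of_eq_mul_gcd hc' hd' (gcd_ne_zero_of_right hd0)
      exact (gcd_isUnit_iff_isRelPrime.1 hu).isCoprime
    have hg0 : gcd c d ≠ 0 := gcd_ne_zero_of_right hd0
    generalize gcd c d = g at hc' hd' hg0
    rw [hc', hd'] at he
    have he' : c' ^ 2 * f = C e * d' ^ 2 := by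
      apply mul_left_cancel₀ (pow_ne_zero 2 hg0); linear_combination he
    have he0 : e ≠ 0 := fun h => by
      rw [h, map_zero, zero_mul] at he'
      exact hc (by rw [hc', pow_eq_zero_iff two_ne_zero |>.1 ((mul_eq_zero.1 he').resolve_right hfne), mul_zero])
    have hdvd : d' ^ 2 ∣ f := by
      refine (hco.symm.pow (m := 2) (n := 2)).dvd_of_dvd_mul_left (by rw [he']; exact dvd_mul_left _ _)
    have hu : IsUnit d' := hf d' (by rw [← sq]; exact hdvd)
    have hdeg := congrArg natDegree he'
    have hc'0 : c' ≠ 0 := fun h => hc (by rw [hc', h, mul_zero])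
    rw [natDegree_mul (pow_ne_zero _ hc'0) hfne, natDegree_C_mul he0, natDegree_pow, natDegree_pow,
      natDegree_eq_zero_of_isUnit hu] at hdeg
    omega
  obtain ⟨ra, sa, hra⟩ := (IntermediateField.mem_adjoin_simple_iff k (a : K)).1 a.2
  obtain ⟨rb, sb, hrb⟩ := (IntermediateField.mem_adjoin_simple_iff k (b : K)).1 b.2
  -- the conjugate
  have hzi : IsIntegral k z := hz.isIntegral
  have hy : y ∉ (F : Set K) := by
    intro hyF
    obtain ⟨r, s, hrs⟩ := (IntermediateField.mem_adjoin_simple_iff k y).1 hyF
    rcases eq_or_ne s 0 with rfl | hs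
    · rw [map_zero, div_zero] at hrs
      rw [hrs, zero_pow two_ne_zero] at heq
      exact hfne (hinj (heq.symm.trans (map_zero _).symm))
    have h1 : r ^ 2 = f * s ^ 2 := hinj (by
      rw [map_mul, map_pow, map_pow, ← heq, hrs, div_pow,
        div_mul_cancel₀ _ (pow_ne_zero _ fun h => hs (hinj (h.trans (map_zero _).symm)))])
    have hr0 : r ≠ 0 := by
      rintro rfl
      rw [zero_pow two_ne_zero] at h1
      exact mul_ne_zero hfne (pow_ne_zero _ hs) h1.symm
    exact hs (hnsq s r hr0 1 (by rw [map_one, one_mul, h1]; ring))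
  haveI : FiniteDimensional F K := hfin
  set fF : F := ⟨aeval x f, (IntermediateField.mem_adjoin_simple_iff k _).2 ⟨f, 1, by simp⟩⟩
  have hirr : Irreducible (X ^ 2 - C fF : Polynomial F) := X_pow_sub_C_irreducible_of_prime Nat.prime_two fun r hr => by
    have h3 : ((r : K)) ^ 2 = y ^ 2 := by rw [heq]; exact congrArg Subtype.val hr
    rcases sq_eq_sq_iff_eq_or_eq_neg.1 h3 with h | h
    · exact hy (h ▸ r.2)
    · exact hy (by rw [SetLike.mem_coe, ← neg_mem_iff, ← h]; exact r.2)
  have hmin : minpoly F y = X ^ 2 - C fF :=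
    (minpoly.eq_of_irreducible_of_monic hirr (by simp [fF, heq]) (monic_X_pow_sub_C _ two_ne_zero)).symm
  let pb := (IntermediateField.adjoin.powerBasis hint).map ((IntermediateField.equivOfEq htop).trans IntermediateField.topEquiv)
  have hgen : pb.gen = y := by simp [pb]
  let σ : K →ₐ[F] K := pb.lift (-y) (by rw [hgen, hmin]; simp [fF, heq])
  have hσy : σ y = -y :=
    (congrArg σ hgen.symm).trans (pb.lift_gen (-y) (by rw [hgen, hmin]; simp [fF, heq]))
  have hσz : σ z = (a : K) - b * y := by
    rw [hab, map_add, map_mul, hσy, show σ (a : K) = a from σ.commutes a, show σ (b : K) = b from σ.commutes b]; ring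
  have hzi' : IsIntegral k ((a : K) - b * y) := hσz ▸ hzi.map (σ.restrictScalars k)
  have h2K : (2 : K) ≠ 0 := by rw [← map_ofNat (algebraMap k K) 2]; exact (_root_.map_ne_zero _).2 h2
  have halg : ∀ (r s : Polynomial k), IsIntegral k (aeval x r / aeval x s) → ∃ c : k, aeval x r / aeval x s = algebraMap k K c := by
    intro r s h
    by_contra hne
    push Not at hne
    rcases eq_or_ne s 0 with rfl | hs
    · exact hne 0 (by simp)
    obtain ⟨p, hpm, hp⟩ := h
    set R := algebraMap (Polynomial k) (RatFunc k) r / algebraMap (Polynomial k) (RatFunc k) s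
    let j : RatFunc k →ₐ[k] K := RatFunc.liftAlgHom (aeval x) fun q hq => by
      rw [Submonoid.mem_comap, mem_nonZeroDivisors_iff_ne_zero]
      exact fun h => (nonZeroDivisors.ne_zero hq) (hinj (h.trans (map_zero _).symm))
    have hjR : j R = aeval x r / aeval x s := by
      rw [map_div₀, RatFunc.liftAlgHom_apply, RatFunc.liftAlgHom_apply]; simp
    have hRi : IsIntegral k R := ⟨p, hpm, j.toRingHom.injective (by
      rw [map_zero]
      show j (aeval R p) = 0
      rw [← aeval_algHom_apply, hjR]; exact hp)⟩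
    obtain ⟨q, hq⟩ := IsIntegrallyClosed.isIntegral_iff.1 (hRi.tower_top (A := Polynomial k))
    have hqi : IsIntegral k q := (isIntegral_algHom_iff (IsScalarTower.toAlgHom k (Polynomial k) (RatFunc k))
      (RatFunc.algebraMap_injective k)).1 (by rw [IsScalarTower.toAlgHom_apply, hq]; exact hRi)
    have hq0 : q.natDegree = 0 := by
      by_contra hne'
      exact (Polynomial.transcendental_X k).aeval q hne' (by
        simpa using Polynomial.leadingCoeff_ne_zero.2 (fun h => hne' (by simp [h]))) (by simpa using hqi.isAlgebraic)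
    refine hne (q.coeff 0) ?_
    rw [← hjR, ← hq, eq_C_of_natDegree_eq_zero hq0, RatFunc.liftAlgHom_apply]
    simp
  have ha2 : IsIntegral k ((2 : K) * a) := by
    have := hzi.add hzi'
    rwa [hab, show (a : K) + b * y + (a - b * y) = 2 * a by ring] at this
  have hai : IsIntegral k (a : K) := by
    have := ha2.smul ((2 : k)⁻¹)
    rwa [Algebra.smul_def, map_inv₀, map_ofNat, inv_mul_cancel_left₀ h2K] at this
  obtain ⟨c, hc⟩ := halg ra sa (hra ▸ hai)
  have hby : IsIntegral k (((b : K) * y) ^ 2) := by
    have := hzi.sub hai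
    rw [hab, add_sub_cancel_left] at this
    exact this.pow 2
  have hb0 : (b : K) = 0 := by
    rcases eq_or_ne sb 0 with rfl | hsb
    · rw [hrb, map_zero, div_zero]
    have hform : ((b : K) * y) ^ 2 = aeval x (rb ^ 2 * f) / aeval x (sb ^ 2) := by
      rw [mul_pow, heq, hrb, map_mul, map_pow, map_pow]; ring
    rw [hform] at hby
    obtain ⟨e, he⟩ := halg _ _ hby
    have hsb' : aeval x sb ≠ 0 := fun h => hsb (hinj (h.trans (map_zero _).symm))
    rw [div_eq_iff (by rw [map_pow]; exact pow_ne_zero _ hsb'), ← aeval_C (x := x) (r := e), ← map_mul] at he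
    rw [hrb, hnsq rb sb hsb e (hinj he), map_zero, zero_div]
  refine ⟨c, ?_⟩
  rw [hab, hb0, zero_mul, add_zero, hra, hc]

/-- For `char k ≠ 2` and `K = k(x, y)` with `x` transcendental and `y² = f(x)`, `f` squarefree of degree
`≥ 1`: the field `k` is algebraically closed in `K` (whatever in `K` is algebraic over `k` lies in
`k`), and `K/k` is a function field of one variable. -/
theorem result (k K : Type*) [Field k] [Field K] [Algebra k K] (h2 : ringChar k ≠ 2) (x y : K) (hx : Transcendental k x)
    (hxy : IntermediateField.adjoin k ({x, y} : Set K) = ⊤)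
    (f : Polynomial k) (hf : Squarefree f) (hd : 1 ≤ f.natDegree)
    (heq : y ^ 2 = Polynomial.aeval x f) : FunFld.IsFunctionField k K := by
  obtain ⟨h1, h2'⟩ := core (Ring.two_ne_zero h2) x y hx hxy f hf hd heq
  exact ⟨⟨x, hx, h1⟩, h2'⟩

end Groth.Agent.S11019
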