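import Groth.Statements.S11020
import Groth.Agent.FunFldLib.PlaceIntClosure

set_option autoImplicit false
open FunFld

namespace Groth.Agent.S11020

open WithZero Groth.Agent.FunFldLib Polynomial Pointwise in
theorem good {k K K' : Type*} [Field k] [Field K] [Field K'] [Algebra k K] [Algebra K K'] [Algebra k K']
    [IsScalarTower k K K'] [FiniteDimensional K K'] [Algebra.IsSeparable K K'] (hK : IsFF k K) {P : Place k K}
    [Algebra P.O K'] [IsScalarTower P.O K K']
    {y : K'} (hgen : IntermediateField.adjoin K ({y} : Set K') = ⊤)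
    (hc : ∀ i, P.1 ((minpoly K y).coeff i) ≤ 1)
    (hd : ∀ Q : Place k K', IsOver Q P → Q.1 (aeval y (derivative (minpoly K y))) = 1)
    {Q : Place k K'} {e : ℕ} (he : IsOverWith Q P e) : e = 1 := by
  classical
  haveI := isPID_O P
  have hmy : (minpoly K y).Monic := minpoly.monic (Algebra.IsIntegral.isIntegral y)
  obtain ⟨f, hf, -, hfm⟩ : ∃ f : Polynomial P.O, f.map (algebraMap P.O K) = minpoly K y ∧
      f.degree = (minpoly K y).degree ∧ f.Monic :=
    lifts_and_degree_eq_and_monic (f := algebraMap P.O K)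
    ((lifts_iff_coeff_lifts _).2 fun i => ⟨⟨_, (Valuation.mem_valuationSubring_iff P.1 _).2 (hc i)⟩, rfl⟩) hmy
  have hfy : aeval y f = 0 := by rw [← aeval_map_algebraMap K y f, hf, minpoly.aeval]
  have hyi : IsIntegral P.O y := ⟨f, hfm, hfy⟩
  have hdvd : ∀ G : Polynomial P.O, aeval y G = 0 → f ∣ G := fun G hG => by
    rw [← map_dvd_map (algebraMap P.O K) (fun a b h => Subtype.ext h) hfm, hf]
    exact minpoly.dvd K y (by rw [aeval_map_algebraMap, hG])
  set g' := aeval y (derivative (minpoly K y)) with hg'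
  have hne : g' ≠ 0 :=
    (Algebra.IsSeparable.isSeparable K y).aeval_derivative_ne_zero (minpoly.aeval _ _)
  have hadj : Algebra.adjoin K ({y} : Set K') = ⊤ := by
    rw [← IntermediateField.adjoin_simple_toSubalgebra_of_isAlgebraic (Algebra.IsAlgebraic.isAlgebraic y), hgen,
      IntermediateField.top_toSubalgebra]
  set A := Algebra.adjoin P.O ({y} : Set K')
  have hAint : ∀ w ∈ A, IsIntegral P.O w := fun w hw =>
    (Algebra.adjoin_le (S := integralClosure P.O K') (by rintro _ rfl; exact hyi)) hw
  have hdual : ∀ z : K', IsIntegral P.O z → z * g' ∈ A := fun z hz => by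
    have h1 : z ∈ g'⁻¹ • Subalgebra.toSubmodule A := by
      rw [← traceForm_dualSubmodule_adjoin P.O K hadj hyi, LinearMap.BilinForm.mem_dualSubmodule]
      intro w hw
      rw [Algebra.traceForm_apply, Submodule.mem_one]
      exact IsIntegrallyClosed.isIntegral_iff.1 (Algebra.isIntegral_trace (hz.mul (hAint w hw)))
    rw [Submodule.mem_smul_pointwise_iff_exists] at h1
    obtain ⟨r, hr, rfl⟩ := h1
    rwa [smul_eq_mul, mul_comm g'⁻¹ r, mul_assoc, inv_mul_cancel₀ hne, mul_one]
  have hgi : IsIntegral P.O g'⁻¹ := (integral_iff hK _).2 fun Q' hQ' => by rw [map_inv₀, hd Q' hQ', inv_one]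
  have hginv : g'⁻¹ ∈ A := by
    have := hdual _ (hgi.pow 2)
    rwa [sq, mul_assoc, inv_mul_cancel₀ hne, mul_one] at this
  have hall : ∀ z : K', IsIntegral P.O z → z ∈ A := fun z hz => by
    have := A.mul_mem (hdual z hz) hginv
    rwa [mul_assoc, mul_inv_cancel₀ hne, mul_one] at this
  have hrep : ∀ z ∈ A, ∃ G : Polynomial P.O, aeval y G = z := fun z hz => by
    have hz' : z ∈ Algebra.adjoin P.O ({y} : Set K') := hz
    rw [Algebra.adjoin_singleton_eq_range_aeval] at hz'
    exact hz'
  set φ := IsLocalRing.residue P.O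
  have hsep : (f.map φ).Separable := by
    obtain ⟨U, hU⟩ := hrep _ hginv
    have h1 : aeval y (U * derivative f - 1) = 0 := by
      rw [map_sub, map_mul, map_one, hU, ← aeval_map_algebraMap K y (derivative f), ← derivative_map, hf, ← hg',
        inv_mul_cancel₀ hne, sub_self]
    obtain ⟨W, hW⟩ := hdvd _ h1
    refine (separable_def' _).2 ⟨-(W.map φ), U.map φ, ?_⟩
    have h2 := congrArg (Polynomial.map φ) hW
    rw [Polynomial.map_sub, Polynomial.map_mul, Polynomial.map_mul, Polynomial.map_one, ← derivative_map] at h2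
    linear_combination h2
  by_contra he1
  have he2 : 2 ≤ e := by have := isOverWith_pos he; omega
  obtain ⟨t, ht0, ht⟩ := exists_val_eq P (-1)
  set S := (finite_over (K' := K') hK P).toFinset
  have hS : ∀ R, R ∈ S ↔ IsOver R P := fun R => Set.Finite.mem_toFinset _
  choose s hs0 hs using fun R : Place k K' => exists_val_eq R (-1)
  obtain ⟨z, hz⟩ := exists_approx S s (fun _ => -2)
  have hzv : ∀ R, IsOver R P → R.1 z = exp (-1 : ℤ) := fun R hR => by
    have h2 : R.1 (z - s R) < R.1 (s R) := (hz R ((hS R).2 hR)).trans_lt (by rw [hs, exp_lt_exp]; norm_num)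
    have h3 := Valuation.map_add_eq_of_lt_left R.1 h2
    rw [add_sub_cancel] at h3
    rw [h3, hs]
  have htv : ∀ R (e' : ℕ), IsOverWith R P e' → R.1 (algebraMap K K' t) = exp (-(e' : ℤ)) := fun R e' h => by
    rw [h, ht, ← exp_nsmul, nsmul_eq_mul, mul_neg, mul_one]
  set N := ∑ R ∈ S, eAt (K := K) hK R
  have hzi : IsIntegral P.O z := (integral_iff hK _).2 fun R hR => by
    rw [hzv R hR]; exact exp_neg_one_le_one'
  have hzN : IsIntegral P.O (z ^ N / algebraMap K K' t) := (integral_iff hK _).2 fun R hR => by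
    obtain ⟨e', h⟩ := id hR
    have he' : e' = eAt hK R := (place_unique h (isOverWith_below hK R)).2
    have hle : e' ≤ N := he' ▸ Finset.single_le_sum (f := fun R => eAt (K := K) hK R) (fun _ _ => Nat.zero_le _) ((hS R).2 hR)
    rw [map_div₀, map_pow, hzv R hR, htv R e' h, ← exp_nsmul, ← exp_sub, ← exp_zero, exp_le_exp, nsmul_eq_mul]
    omega
  obtain ⟨G₀, hG₀⟩ := hrep z (hall _ hzi)
  obtain ⟨H, hH⟩ := hrep _ (hall _ hzN)
  set G := G₀ %ₘ f
  have hG : aeval y G = z := by
    rw [← hG₀]
    conv_rhs => rw [← modByMonic_add_div G₀ f, map_add, map_mul, hfy, zero_mul, add_zero]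
  set τ : P.O := ⟨t, (Valuation.mem_valuationSubring_iff P.1 _).2 (by rw [ht]; exact exp_neg_one_le_one')⟩
  have ht0' : algebraMap K K' t ≠ 0 := (_root_.map_ne_zero _).2 ht0
  have hτ : algebraMap P.O K' τ = algebraMap K K' t := IsScalarTower.algebraMap_apply P.O K K' τ
  have hdv : f ∣ G ^ N - C τ * H := hdvd _ (by
    rw [map_sub, map_pow, map_mul, aeval_C, hG, hH, hτ, mul_div_cancel₀ _ ht0', sub_self])
  have hφτ : φ τ = 0 := (residue_eq_zero_iff_val P τ).2 (by
    show P.1 t < 1
    rw [ht, ← exp_zero, exp_lt_exp]; norm_num)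
  have hG0 : G.map φ = 0 := by
    have h1 : f.map φ ∣ (G.map φ) ^ N := by
      have := Polynomial.map_dvd φ hdv
      rwa [Polynomial.map_sub, Polynomial.map_pow, Polynomial.map_mul, map_C, hφτ, map_zero, zero_mul, sub_zero] at this
    have h2 := hsep.squarefree.isRadical _ _ h1
    by_contra hne'
    have h3 := natDegree_le_of_dvd h2 hne'
    rw [hfm.natDegree_map] at h3
    have h4 : G.natDegree < f.natDegree := natDegree_modByMonic_lt _ hfm fun h => by
      rw [h, Polynomial.map_one] at hf
      exact minpoly.ne_one K y hf.symm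
    have := natDegree_map_le (f := φ) (p := G)
    omega
  have hcoef : ∀ i, ∃ c : P.O, G.coeff i = τ * c := fun i => by
    have h1 := congrArg (fun p => Polynomial.coeff p i) hG0
    simp only [coeff_map, coeff_zero] at h1
    have h2 := (residue_eq_zero_iff_val P _).1 h1
    refine ⟨⟨(G.coeff i : K) / t, (Valuation.mem_valuationSubring_iff P.1 _).2 ?_⟩,
      Subtype.ext (mul_div_cancel₀ _ ht0).symm⟩
    rw [map_div₀, ht, div_le_one₀ exp_pos]
    rcases eq_or_ne (G.coeff i : K) 0 with h0 | h0
    · rw [h0, map_zero]; exact zero_le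
    · have := (val_lt_one_iff P h0).1 h2
      rw [val_le_exp_iff P h0]; omega
  obtain ⟨G', hG'⟩ : C τ ∣ G := (C_dvd_iff_dvd_coeff _ _).2 hcoef
  have hmem : z / algebraMap K K' t ∈ A := by
    rw [← hG, hG', map_mul, aeval_C, hτ, mul_comm, mul_div_cancel_right₀ _ ht0']
    exact aeval_mem_adjoin_singleton _ _
  have := integral_le_one he (hAint _ hmem)
  rw [map_div₀, hzv Q ⟨e, he⟩, htv Q e he, ← exp_sub, ← exp_zero, exp_le_exp] at this
  omega

/-- In a finite separable extension `K'/K` of function fields of one variable, almost all places `Q` of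
`K'` have `e(Q|P) = 1` over the place `P` of `K` below. (The published statement also gives
separability of almost all residue extensions `F_Q/F_P`; only the ramification part is stated here.) -/
theorem result (k K K' : Type*) [Field k] [Field K] [Field K'] [Algebra k K] [Algebra K K'] [Algebra k K']
    [IsScalarTower k K K'] [FiniteDimensional K K'] (hK : FunFld.IsFunctionField k K) [Algebra.IsSeparable K K'] :
    {Q : FunFld.Place k K' | ¬ Function.Surjective (Q.1.comap (algebraMap K K'))}.Finite := by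
  classical
  have hFF : Groth.Agent.FunFldLib.IsFF k K := hK.1
  open Groth.Agent.FunFldLib in
  obtain ⟨y, hy⟩ := Field.exists_primitive_element K K'
  set g' := Polynomial.aeval y (Polynomial.derivative (minpoly K y))
  have hne : g' ≠ 0 :=
    (Algebra.IsSeparable.isSeparable K y).aeval_derivative_ne_zero (minpoly.aeval _ _)
  let badP : Set (FunFld.Place k K) :=
    (⋃ i ∈ (minpoly K y).support, {P | P.ord ((minpoly K y).coeff i) ≠ 0}) ∪
      Groth.Agent.FunFldLib.below hFF '' {Q : FunFld.Place k K' | Q.ord g' ≠ 0}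
  have hfinP : badP.Finite :=
    (Set.Finite.biUnion (Finset.finite_toSet _) fun i _ => Groth.Agent.FunFldLib.finite_support_ord' hFF _).union
      ((Groth.Agent.FunFldLib.finite_support_ord' (Groth.Agent.FunFldLib.isFF_extension hFF) g').image _)
  refine (hfinP.biUnion fun P _ => Groth.Agent.FunFldLib.finite_over (K' := K') hFF P).subset fun Q hQ => ?_
  have he := Groth.Agent.FunFldLib.isOverWith_below (K := K) hFF Q
  rw [Set.mem_iUnion₂]
  refine ⟨_, ?_, ⟨_, he⟩⟩
  by_contra hP
  apply hQ
  set P := Groth.Agent.FunFldLib.below (K := K) hFF Q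
  letI : Algebra P.O K' := ((algebraMap K K').comp (algebraMap P.O K)).toAlgebra
  haveI : IsScalarTower P.O K K' := IsScalarTower.of_algebraMap_eq fun _ => rfl
  have h1 := good hFF hy (P := P) (fun i => by
      rcases eq_or_ne ((minpoly K y).coeff i) 0 with h | h
      · rw [h, map_zero]; exact zero_le
      rw [Groth.Agent.FunFldLib.val_le_one_iff P h]
      refine le_of_eq (Eq.symm ?_)
      by_contra h0
      exact hP (Or.inl (Set.mem_iUnion₂.2 ⟨i, Polynomial.mem_support_iff.2 h, h0⟩)))
    (fun R hR => by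
      rw [Groth.Agent.FunFldLib.val_eq_one_iff R hne]
      by_contra h0
      exact hP (Or.inr ⟨R, h0, (Groth.Agent.FunFldLib.isOver_iff hFF R P).1 hR⟩)) he
  intro γ
  obtain ⟨x, hx⟩ := P.2.2 γ
  exact ⟨x, by rw [Valuation.comap_apply, he, h1, pow_one, hx]⟩

end Groth.Agent.S11020
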