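import Groth.Statements.S11024
import Groth.Agent.FunFldLib.RamGroups

set_option autoImplicit false
open FunFld

namespace Groth.Agent.S11024

open WithZero Groth.Agent.FunFldLib IsLocalRing in
theorem core {k K K' : Type*} [Field k] [Field K] [Field K'] [Algebra k K] [Algebra K K'] [Algebra k K']
    [IsScalarTower k K K'] [FiniteDimensional K K'] {Q : FunFld.Place k K'}
    [Algebra.IsSeparable k (ResidueField Q.O)] (hK' : IsFF k K') :
    ∃ σ₀ : K' ≃ₐ[K] K', InG Q 1 σ₀ ∧ ∀ σ : K' ≃ₐ[K] K', InG Q 1 σ → ∃ n : ℕ, InG Q 2 ((σ₀ ^ n)⁻¹ * σ) := by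
  classical
  obtain ⟨t, ht0, ht⟩ := exists_val_eq Q (-1)
  let H : Subgroup (K' ≃ₐ[K] K') :=
    { carrier := {σ | InG Q 1 σ}
      mul_mem' := fun a b => a.mul b
      one_mem' := fun x _ => by simp
      inv_mem' := fun a => a.inv }
  have hO : ∀ σ : H, σ.1 t / t ∈ Q.O := fun σ => by
    rw [Valuation.mem_valuationSubring_iff, map_div₀, σ.2.val_apply, div_self ((Valuation.ne_zero_iff _).2 ht0)]
  let f : H →* ResidueField Q.O :=
    { toFun := fun σ => residue Q.O ⟨σ.1 t / t, hO σ⟩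
      map_one' := by
        rw [← map_one (residue Q.O)]
        exact congrArg _ (Subtype.ext (show t / t = 1 from div_self ht0))
      map_mul' := fun σ τ => by
        rw [← map_mul, ← sub_eq_zero, ← map_sub, residue_eq_zero_iff_val]
        show Q.1 (σ.1 (τ.1 t) / t - σ.1 t / t * (τ.1 t / t)) < 1
        have hne : σ.1 t ≠ 0 := (_root_.map_ne_zero _).2 ht0
        rw [show σ.1 (τ.1 t) / t - σ.1 t / t * (τ.1 t / t) = σ.1 t / t * (σ.1 (τ.1 t / t) - τ.1 t / t) by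
          rw [map_div₀]; field_simp]
        rw [map_mul, map_div₀, σ.2.val_apply, div_self ((Valuation.ne_zero_iff _).2 ht0), one_mul]
        exact (σ.2 _ ((Valuation.mem_valuationSubring_iff Q.1 _).1 (hO τ))).trans_lt (by rw [← exp_zero, exp_lt_exp]; norm_num) }
  obtain ⟨⟨g, σ₀, hg⟩, hgen⟩ := IsCyclic.exists_generator (α := f.toHomUnits.range)
  refine ⟨σ₀.1, σ₀.2, fun σ hσ => ?_⟩
  obtain ⟨n, hn⟩ : (⟨f.toHomUnits ⟨σ, hσ⟩, ⟨σ, hσ⟩, rfl⟩ : f.toHomUnits.range) ∈ Submonoid.powers ⟨g, σ₀, hg⟩ := by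
    rw [mem_powers_iff_mem_zpowers]; exact hgen _
  refine ⟨n, ?_⟩
  have h1 : f.toHomUnits ((σ₀ ^ n)⁻¹ * ⟨σ, hσ⟩) = 1 := by
    have h2 : g ^ n = f.toHomUnits ⟨σ, hσ⟩ := congrArg Subtype.val hn
    rw [map_mul, map_inv, map_pow, hg, h2, inv_mul_cancel]
  set ρ : H := (σ₀ ^ n)⁻¹ * ⟨σ, hσ⟩
  have h3 : f ρ = 1 := congrArg Units.val h1
  have h4 : residue Q.O (⟨ρ.1 t / t, hO ρ⟩ - 1) = 0 := by rw [map_sub, map_one]; exact sub_eq_zero.2 h3
  rw [residue_eq_zero_iff_val] at h4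
  have h4' : Q.1 (ρ.1 t / t - 1) ≤ exp (-1 : ℤ) := (lt_exp_iff_le Q _ 0).1 (h4.trans_eq exp_zero.symm)
  have h5 : Q.1 (ρ.1 t - t) ≤ exp (-((2 : ℕ) : ℤ)) := by
    rw [show ρ.1 t - t = (ρ.1 t / t - 1) * t by field_simp, map_mul, ht]
    exact (mul_le_mul' h4' le_rfl).trans (by rw [← exp_add, exp_le_exp]; norm_num)
  exact ρ.2.of_param hK' ht (by omega) h5

/-- The quotient `G₁/G₂` of the first two ramification groups of a place in a finite Galois extension of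
a geometric function field of one variable is cyclic. (Residue field of `Q` assumed separable over
`k`, stronger than the published `F_Q/F_P` separable.) -/
theorem result (k K K' : Type*) [Field k] [Field K] [Field K'] [Algebra k K] [Algebra K K'] [Algebra k K']
    [IsScalarTower k K K'] [FiniteDimensional K K'] (hK : FunFld.IsFunctionField k K) (hg : FunFld.IsGeometric k K) [IsGalois K K'] (Q : FunFld.Place k K') [Algebra.IsSeparable k (IsLocalRing.ResidueField Q.O)] :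
    ∃ σ₀ : K' ≃ₐ[K] K', (∀ x : K', Q.1 x ≤ 1 → Q.1 (σ₀ x - x) ≤ WithZero.exp (-(1 : ℤ))) ∧
      ∀ σ : K' ≃ₐ[K] K', (∀ x : K', Q.1 x ≤ 1 → Q.1 (σ x - x) ≤ WithZero.exp (-(1 : ℤ))) →
        ∃ n : ℕ, (∀ x : K', Q.1 x ≤ 1 → Q.1 (((σ₀ ^ n)⁻¹ * σ) x - x) ≤ WithZero.exp (-(2 : ℤ))) := by
  obtain ⟨σ₀, h0, h⟩ := core (K := K) (Q := Q) (Groth.Agent.FunFldLib.isFF_extension (K := K) hK.1)
  exact ⟨σ₀, h0, fun σ hσ => h σ hσ⟩

end Groth.Agent.S11024
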