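import Groth.Statements.S11025
import Groth.Agent.FunFldLib.RamGroups

set_option autoImplicit false
open FunFld

namespace Groth.Agent.S11025

open WithZero Groth.Agent.FunFldLib in
theorem add_mod {k K K' : Type*} [Field k] [Field K] [Field K'] [Algebra k K] [Algebra K K'] [Algebra k K']
    [IsScalarTower k K K'] {Q : FunFld.Place k K'} {i : ℕ} (hi : 2 ≤ i) {σ τ : K' ≃ₐ[K] K'} (hσ : InG Q i σ)
    (hτ : InG Q i τ) (x : K') (hx : Q.1 x ≤ 1) :
    Q.1 ((σ (τ x) - x) - ((σ x - x) + (τ x - x))) ≤ exp (-((i + 1) : ℤ)) := by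
  rw [show (σ (τ x) - x) - ((σ x - x) + (τ x - x)) = σ (τ x - x) - (τ x - x) by rw [map_sub]; ring]
  exact (hσ.val_sub_le (by omega) i (by omega) _ (hτ x hx)).trans (exp_le_exp.2 (by omega))

open WithZero Groth.Agent.FunFldLib in
theorem pow_mod {k K K' : Type*} [Field k] [Field K] [Field K'] [Algebra k K] [Algebra K K'] [Algebra k K']
    [IsScalarTower k K K'] {Q : FunFld.Place k K'} {i : ℕ} (hi : 2 ≤ i) {σ : K' ≃ₐ[K] K'} (hσ : InG Q i σ)
    (n : ℕ) : InG Q i (σ ^ n) ∧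
      ∀ x : K', Q.1 x ≤ 1 → Q.1 (((σ ^ n) x - x) - (n : K') * (σ x - x)) ≤ exp (-((i + 1) : ℤ)) := by
  induction n with
  | zero => exact ⟨fun x _ => by simp, fun x _ => by simp⟩
  | succ n ih =>
    refine ⟨by rw [pow_succ]; exact ih.1.mul hσ, fun x hx => ?_⟩
    rw [pow_succ, AlgEquiv.mul_apply, show ((σ ^ n) (σ x) - x) - ((n + 1 : ℕ) : K') * (σ x - x) =
      (((σ ^ n) (σ x) - x) - (((σ ^ n) x - x) + (σ x - x))) + (((σ ^ n) x - x) - (n : K') * (σ x - x)) by push_cast; ring]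
    exact Valuation.map_add_le _ (add_mod hi ih.1 hσ x hx) (ih.2 x hx)

/-- For `i ≥ 2` the ramification quotient `G_i/G_{i+1}` embeds in the additive group of the residue
field: it is abelian, trivial in characteristic `0`, and elementary abelian of exponent `p` in
characteristic `p`. (Residue field of `Q` assumed separable over `k`.) -/
theorem result (k K K' : Type*) [Field k] [Field K] [Field K'] [Algebra k K] [Algebra K K'] [Algebra k K']
    [IsScalarTower k K K'] [FiniteDimensional K K'] (hK : FunFld.IsFunctionField k K) (hg : FunFld.IsGeometric k K) [IsGalois K K'] (Q : FunFld.Place k K') [Algebra.IsSeparable k (IsLocalRing.ResidueField Q.O)]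
    (i : ℕ) (hi : 2 ≤ i) (σ τ : K' ≃ₐ[K] K') (hσ : (∀ x : K', Q.1 x ≤ 1 → Q.1 (σ x - x) ≤ WithZero.exp (-(i : ℤ)))) (hτ : (∀ x : K', Q.1 x ≤ 1 → Q.1 (τ x - x) ≤ WithZero.exp (-(i : ℤ)))) :
    (∀ x : K', Q.1 x ≤ 1 → Q.1 ((σ * τ * σ⁻¹ * τ⁻¹) x - x) ≤ WithZero.exp (-((i + 1) : ℤ))) ∧
    (ringChar K = 0 → (∀ x : K', Q.1 x ≤ 1 → Q.1 (σ x - x) ≤ WithZero.exp (-((i + 1) : ℤ)))) ∧
    ∀ p : ℕ, p.Prime → ringChar K = p → (∀ x : K', Q.1 x ≤ 1 → Q.1 ((σ ^ p) x - x) ≤ WithZero.exp (-((i + 1) : ℤ))) := by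
  have hσ' : Groth.Agent.FunFldLib.InG Q i σ := hσ
  have hτ' : Groth.Agent.FunFldLib.InG Q i τ := hτ
  refine ⟨fun x hx => ?_, fun h0 x hx => ?_, fun p hp hpc x hx => ?_⟩
  · set b := (σ⁻¹ * τ⁻¹ : K' ≃ₐ[K] K')
    have h1 := add_mod hi (hσ'.mul hτ') (hσ'.inv.mul hτ'.inv) x hx
    have h2 := add_mod hi hσ' hτ' x hx
    have h3 := add_mod hi hσ'.inv hτ'.inv x hx
    have h4 := add_mod hi hσ' hσ'.inv x hx
    have h5 := add_mod hi hτ' hτ'.inv x hx
    rw [show σ (σ⁻¹ x) = x from σ.apply_symm_apply x] at h4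
    rw [show τ (τ⁻¹ x) = x from τ.apply_symm_apply x] at h5
    simp only [AlgEquiv.mul_apply] at h1 ⊢
    rw [show σ (τ (σ⁻¹ (τ⁻¹ x))) - x = ((σ (τ (σ⁻¹ (τ⁻¹ x))) - x) - ((σ (τ x) - x) + (σ⁻¹ (τ⁻¹ x) - x)))
      + ((σ (τ x) - x) - ((σ x - x) + (τ x - x))) + ((σ⁻¹ (τ⁻¹ x) - x) - ((σ⁻¹ x - x) + (τ⁻¹ x - x)))
      + (-((x - x) - ((σ x - x) + (σ⁻¹ x - x)))) + (-((x - x) - ((τ x - x) + (τ⁻¹ x - x)))) by ring]
    refine Valuation.map_add_le _ (Valuation.map_add_le _ (Valuation.map_add_le _ (Valuation.map_add_le _ h1 h2) h3) ?_) ?_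
    · rw [Valuation.map_neg]; exact h4
    · rw [Valuation.map_neg]; exact h5
  · haveI : CharP K 0 := CharP.congr _ h0
    have hc : CharZero K := CharP.charP_to_charZero K
    haveI := hc
    haveI : CharZero k :=
      ⟨fun a b hab => Nat.cast_injective (R := K) (by rw [← map_natCast (algebraMap k K), hab, map_natCast])⟩
    obtain ⟨N, hN, hpow⟩ := (isOfFinOrder_of_finite σ).exists_pow_eq_one
    have h1 := (pow_mod hi hσ' N).2 x hx
    rw [hpow, AlgEquiv.one_apply, sub_self, zero_sub, Valuation.map_neg, map_mul, ← map_natCast (algebraMap k K'),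
      Groth.Agent.FunFldLib.val_algebraMap Q (Nat.cast_ne_zero.2 hN.ne'), one_mul] at h1
    exact h1
  · haveI : CharP K p := CharP.congr _ hpc
    have h1 := (pow_mod hi hσ' p).2 x hx
    haveI : CharP K' p := charP_of_injective_algebraMap (algebraMap K K').injective p
    rwa [CharP.cast_eq_zero, zero_mul, sub_zero] at h1

end Groth.Agent.S11025
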