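import Groth.Statements.S11026
import Groth.Agent.FunFldLib.GeomBasic

set_option autoImplicit false
universe u v
open FunFld

namespace Groth.Agent.S11026

open Groth.Agent.FunFldLib in
theorem core {k k' : Type*} {K K' : Type*} [Field k] [Field k'] [Field K] [Field K']
    [Algebra k k'] [Algebra k K] [Algebra K K'] [Algebra k' K'] [Algebra k K']
    [IsScalarTower k k' K'] [IsScalarTower k K K'] [FiniteDimensional K K']
    (hK : FunFld.IsFunctionField k K) (hg : FunFld.IsGeometric k K)
    (hK' : FunFld.IsFunctionField k' K') (hg' : FunFld.IsGeometric k' K')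
    (hw : Function.Injective (KaehlerDifferential.map k k' K K')) :
    Algebra.IsSeparable (IntermediateField.adjoin K (Set.range (algebraMap k' K'))) K' := by
  obtain ⟨s, -, -, hs⟩ := exists_d_ne_zero hK hg
  have hs' : KaehlerDifferential.D k' K' (algebraMap K K' s) ≠ 0 := fun h0 => by
    apply hs
    apply hw
    rw [map_zero, KaehlerDifferential.map_D, h0]
  have hsep := (separating_iff hK' hg' (algebraMap K K' s)).2 hs'
  set F := IntermediateField.adjoin k' ({algebraMap K K' s} : Set K')
  set L := IntermediateField.adjoin K (Set.range (algebraMap k' K'))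
  have hmem : ∀ y : F, (y : K') ∈ L := fun y => by
    obtain ⟨z, hz⟩ := y
    induction hz using IntermediateField.adjoin_induction with
    | mem x hx => rw [Set.mem_singleton_iff] at hx; subst hx; exact L.algebraMap_mem s
    | algebraMap c => exact IntermediateField.subset_adjoin K _ ⟨c, rfl⟩
    | add a b _ _ ha hb => exact add_mem ha hb
    | inv a _ ha => exact inv_mem ha
    | mul a b _ _ ha hb => exact mul_mem ha hb
  letI : Algebra F L := ((algebraMap F K').codRestrict L.toSubfield.toSubring hmem).toAlgebra
  haveI : IsScalarTower F L K' := IsScalarTower.of_algebraMap_eq fun _ => rfl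
  haveI := hsep
  exact Algebra.isSeparable_tower_top_of_isSeparable F L K'

/-- A weakly separable finite extension `K'/k'` of a geometric function field `K/k` (the map `Ω_{K/k} →
Ω_{K'/k'}` injective) is separable over the compositum `k'K`. -/
theorem result (k k' : Type u) (K K' : Type v) [Field k] [Field k'] [Field K] [Field K']
    [Algebra k k'] [Algebra k K] [Algebra K K'] [Algebra k' K'] [Algebra k K']
    [IsScalarTower k k' K'] [IsScalarTower k K K'] [FiniteDimensional K K']
    (hK : FunFld.IsFunctionField k K) (hg : FunFld.IsGeometric k K)
    (hK' : FunFld.IsFunctionField k' K') (hg' : FunFld.IsGeometric k' K')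
    (hw : Function.Injective (KaehlerDifferential.map k k' K K')) :
    Algebra.IsSeparable (IntermediateField.adjoin K (Set.range (algebraMap k' K'))) K' := by
  exact core hK hg hK' hg' hw

end Groth.Agent.S11026
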