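import Groth.Statements.S11028
import Groth.Agent.FunFldLib.ASGenus

set_option autoImplicit false
open FunFld

namespace Groth.Agent.S11028

/-- For `k` perfect of characteristic `2` and `K = k(x, y)` with `y² + y = f(x)`, all poles of `f` of
odd order `2d_i - 1` at places `p_i` of `k(x)`, the genus of `K` is `-1 + ∑ d_i deg p_i`. -/
theorem result (k K : Type*) [Field k] [Field K] [PerfectField k] (h2 : ringChar k = 2) [Algebra k K]
    [Algebra (RatFunc k) K] [IsScalarTower k (RatFunc k) K] (hK : FunFld.IsFunctionField k K)
    (hdeg : Module.finrank (RatFunc k) K = 2) (y : K) (hy : y ∉ Set.range (algebraMap (RatFunc k) K))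
    (f : RatFunc k) (heq : y ^ 2 + y = algebraMap (RatFunc k) K f)
    (hodd : ∀ P : FunFld.Place k (RatFunc k), FunFld.div k f P < 0 → Odd (FunFld.div k f P)) :
    (FunFld.genus k K : ℤ) = -1 + ∑ P ∈ (FunFld.div k f).support with FunFld.div k f P < 0,
      (1 - FunFld.div k f P) / 2 * (P.deg : ℤ) := by
  haveI : CharP k 2 := ringChar.of_eq h2
  haveI : CharP K 2 := charP_of_injective_algebraMap (algebraMap k K).injective 2
  haveI : Algebra.IsQuadraticExtension (RatFunc k) K := ⟨hdeg⟩
  haveI : FiniteDimensional (RatFunc k) K := Module.finite_of_finrank_eq_succ hdeg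
  haveI : CharP (RatFunc k) 2 := charP_of_injective_algebraMap (algebraMap k (RatFunc k)).injective 2
  haveI : Algebra.IsSeparable (RatFunc k) K := by
    have hli : IsIntegral (RatFunc k) y := Algebra.IsIntegral.isIntegral y
    have hsep : IsSeparable (RatFunc k) y := by
      have hp : (Polynomial.X ^ 2 + Polynomial.X - Polynomial.C f : Polynomial (RatFunc k)).Separable := by
        rw [Polynomial.separable_def]
        have : Polynomial.derivative (Polynomial.X ^ 2 + Polynomial.X - Polynomial.C f : Polynomial (RatFunc k)) = 1 := by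
          rw [map_sub, map_add, Polynomial.derivative_X_pow, Polynomial.derivative_X, Polynomial.derivative_C, Nat.cast_ofNat, show (2 : RatFunc k) = 0 from CharTwo.two_eq_zero, map_zero, zero_mul, zero_add, sub_zero]
        rw [this]; exact isCoprime_one_right
      exact hp.of_dvd (minpoly.dvd _ y (by simp [← heq]))
    have htop : IntermediateField.adjoin (RatFunc k) ({y} : Set K) = ⊤ := by
      haveI : Fact (Nat.Prime (Module.finrank (RatFunc k) K)) := ⟨hdeg ▸ Nat.prime_two⟩
      refine ((IntermediateField.isSimpleOrder_of_finrank_prime (RatFunc k) K (hdeg ▸ Nat.prime_two)).eq_bot_or_eq_top _).resolve_left fun h => hy ?_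
      have h1 : y ∈ IntermediateField.adjoin (RatFunc k) ({y} : Set K) := IntermediateField.mem_adjoin_simple_self _ y
      rw [h] at h1
      exact IntermediateField.mem_bot.1 h1
    exact ((IntermediateField.isSeparable_adjoin_simple_iff_isSeparable _ _).2 hsep : Algebra.IsSeparable (RatFunc k) _).of_algHom _ _
      ((IntermediateField.equivOfEq htop).trans IntermediateField.topEquiv).symm.toAlgHom
  have hF := FunFldLib.ratFunc_isFunctionField k
  have hodd' : ∀ P : FunFld.Place k (RatFunc k), P.ord f < 0 → Odd (P.ord f) := fun P hP => by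
    have := hodd P (by rw [FunFldLib.div_apply hF.1]; exact hP)
    rwa [FunFldLib.div_apply hF.1] at this
  rw [FunFldLib.as_genus hdeg hy heq hodd' hK, FunFldLib.deg_asDelta]
  ring

end Groth.Agent.S11028
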