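import Groth.Statements.S11029
import Groth.Agent.FunFldLib.RamGroups

set_option autoImplicit false
open FunFld

namespace Groth.Agent.S11029

open WithZero Groth.Agent.FunFldLib in
theorem core {k K K' : Type*} [Field k] [Field K] [Field K'] [Algebra k K] [Algebra K K'] [Algebra k K']
    [IsScalarTower k K K'] [FiniteDimensional K K'] [IsGalois K K'] (hK : IsFF k K) (Q : FunFld.Place k K')
    [Algebra.IsSeparable k (IsLocalRing.ResidueField Q.O)] (E : IntermediateField K K') :
    Set.range (Q.1.comap (algebraMap E K')) = Set.range (Q.1.comap (algebraMap K K')) ↔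
      ∀ σ : K' ≃ₐ[K] K', InG Q 1 σ → σ ∈ E.fixingSubgroup := by
  classical
  haveI : IsScalarTower k E K' := IsScalarTower.of_algebraMap_eq fun c => rfl
  have hE : IsFF k E := isFF_extension (K := K) hK
  obtain ⟨P, e, he⟩ := exists_restrict hK Q
  obtain ⟨PE, e', he'⟩ := exists_restrict hE Q
  obtain ⟨P₂, eE, heE⟩ := exists_restrict hK PE
  have hcomp : FunFld.IsOverWith Q P₂ (eE * e') := fun x => by
    rw [IsScalarTower.algebraMap_apply K E K', he', heE, ← pow_mul]
  obtain ⟨rfl, rfl⟩ := place_unique he hcomp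
  have hc1 := card_inertia hK he
  have hc2 := card_inertia hE he'
  rw [← Subgroup.card_map_of_injective (K := Q.O.inertiaSubgroup K) (Subgroup.subtype_injective _)] at hc1
  rw [← Subgroup.card_map_of_injective (K := Q.O.inertiaSubgroup E) (Subgroup.subtype_injective _)] at hc2
  set A := {σ : K' ≃ₐ[K] K' | InG Q 1 σ}
  set B := {σ : K' ≃ₐ[K] K' | InG Q 1 σ ∧ σ ∈ E.fixingSubgroup}
  have hA : A.ncard = eE * e' := by
    rw [← hc1, ← Nat.card_coe_set_eq]
    exact Nat.card_congr (Equiv.subtypeEquivRight fun σ => inertia_iff.symm)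
  have hB : B.ncard = e' := by
    rw [← hc2, ← Nat.card_coe_set_eq]
    exact Nat.card_congr
      { toFun := fun σ => ⟨E.fixingSubgroupEquiv ⟨σ.1, σ.2.2⟩, inertia_iff.2 σ.2.1⟩
        invFun := fun τ => ⟨(E.fixingSubgroupEquiv.symm τ.1).1, ⟨(inertia_iff.1 τ.2 :), (E.fixingSubgroupEquiv.symm τ.1).2⟩⟩
        left_inv := fun σ => by simp
        right_inv := fun τ => by simp }
  have hsub : B ⊆ A := fun σ h => h.1
  have hrange : Set.range (Q.1.comap (algebraMap E K')) = Set.range (Q.1.comap (algebraMap K K')) ↔ eE = 1 := by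
    constructor
    · intro h
      obtain ⟨s, hs0, hs⟩ := exists_val_eq PE (-1)
      have hmem : Q.1 (algebraMap E K' s) ∈ Set.range (Q.1.comap (algebraMap K K')) := h ▸ ⟨s, rfl⟩
      obtain ⟨a, ha⟩ := hmem
      rw [Valuation.comap_apply, he, he', hs, ← exp_nsmul, nsmul_eq_mul] at ha
      have h2 := congrArg WithZero.log ha
      rw [log_pow, log_exp, nsmul_eq_mul] at h2
      push_cast at h2
      have hpos := isOverWith_pos he'
      have h3 : (eE : ℤ) * WithZero.log (P.1 a) = -1 := by
        apply mul_left_cancel₀ (show (e' : ℤ) ≠ 0 by omega); linear_combination h2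
      have h5 : (eE : ℤ) ∣ 1 := ⟨-WithZero.log (P.1 a), by linear_combination h3⟩
      exact_mod_cast Int.eq_one_of_dvd_one (Int.natCast_nonneg _) h5
    · rintro rfl
      ext γ
      constructor
      · rintro ⟨y, rfl⟩
        obtain ⟨x, hx⟩ := P.2.2 (PE.1 y)
        exact ⟨x, by rw [Valuation.comap_apply, he, Valuation.comap_apply, he', hx, one_mul]⟩
      · rintro ⟨x, rfl⟩
        exact ⟨algebraMap K E x, by rw [Valuation.comap_apply, Valuation.comap_apply, ← IsScalarTower.algebraMap_apply]⟩
  rw [hrange]
  constructor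
  · rintro rfl σ hσ
    have := Set.eq_of_subset_of_ncard_le hsub (by omega) (Set.toFinite _)
    exact (this.symm ▸ hσ : σ ∈ B).2
  · intro h
    have : A = B := Set.Subset.antisymm (fun σ hσ => ⟨hσ, h σ hσ⟩) hsub
    rw [this, hB] at hA
    have hpos := isOverWith_pos he'
    nlinarith

/-- For an intermediate field `E` of a finite Galois extension `K'/K` of a geometric function field of
one variable and a place `Q` of `K'`, `e(Q ∩ E | Q ∩ K) = 1` iff `E` lies in the inertia field `K₁`
of `Q`. (Residue field of `Q` assumed separable over `k`; the total ramification of `K'/K₁` is not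
stated.) -/
theorem result (k K K' : Type*) [Field k] [Field K] [Field K'] [Algebra k K] [Algebra K K'] [Algebra k K']
    [IsScalarTower k K K'] [FiniteDimensional K K'] (hK : FunFld.IsFunctionField k K) (hg : FunFld.IsGeometric k K) [IsGalois K K'] (Q : FunFld.Place k K') [Algebra.IsSeparable k (IsLocalRing.ResidueField Q.O)]
    (E : IntermediateField K K') :
    Set.range (Q.1.comap (algebraMap E K')) = Set.range (Q.1.comap (algebraMap K K')) ↔
      E ≤ IntermediateField.fixedField
        (((Q.O).inertiaSubgroup K).map ((Q.O).decompositionSubgroup K).subtype) := by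
  rw [core hK.1 Q E, IntermediateField.le_iff_le]
  exact ⟨fun h σ hσ => h σ (Groth.Agent.FunFldLib.inertia_iff.1 hσ),
    fun h σ hσ => h (Groth.Agent.FunFldLib.inertia_iff.2 hσ)⟩

end Groth.Agent.S11029
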