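import Groth.Statements.S11033
import Groth.Agent.FunFldLib.FundEq

set_option autoImplicit false
open FunFld

namespace Groth.Agent.S11033

open Groth.Agent.FunFldLib in
theorem descend {k K L M : Type*} [Field k] [Field K] [Field L] [Field M] [Algebra k K] [Algebra K L] [Algebra k L]
    [Algebra L M] [Algebra K M] [Algebra k M] [IsScalarTower k K L] [IsScalarTower k L M] [IsScalarTower k K M]
    [IsScalarTower K L M] [FiniteDimensional K L] [FiniteDimensional K M] (hK : IsFF k K) (P : FunFld.Place k K) (x : L)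
    (Qs : Finset (FunFld.Place k M)) (hQs : ∀ Q, Q ∈ Qs ↔ FunFld.IsOver Q P)
    (Rs : Finset (FunFld.Place k L)) (hRs : ∀ R, R ∈ Rs ↔ FunFld.IsOver R P) :
    (∑ Q ∈ Qs, (Q.deg : ℤ) * Q.ord (algebraMap L M x)) = Module.finrank L M * ∑ R ∈ Rs, (R.deg : ℤ) * R.ord x ∧
      P.ord (Algebra.norm K (algebraMap L M x)) = Module.finrank L M * P.ord (Algebra.norm K x) := by
  classical
  haveI : FiniteDimensional L M := FiniteDimensional.right K L M
  have hL : IsFF k L := isFF_extension hK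
  refine ⟨?_, by rw [← Algebra.norm_norm (S := L), Algebra.norm_algebraMap, map_pow, ord_pow]⟩
  have hbelow : ∀ Q, Q ∈ Qs ↔ below hL Q ∈ Rs := fun Q => by
    rw [hQs, hRs, isOver_iff hK, isOver_iff hK]
    have h1 := isOverWith_below hL Q
    have h2 := isOverWith_below hK (below hL Q)
    have h3 : FunFld.IsOverWith Q (below hK (below hL Q)) (eAt hK (below hL Q) * eAt hL Q) := fun z => by
      rw [IsScalarTower.algebraMap_apply K L M, h1, h2, ← pow_mul]
    rw [(place_unique (isOverWith_below hK Q) h3).1]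
  rw [← Finset.sum_fiberwise_of_maps_to (t := Rs) (fun Q hQ => (hbelow Q).1 hQ), Finset.mul_sum]
  refine Finset.sum_congr rfl fun R hR => ?_
  have h1 := sum_ram_mul_deg' (K' := M) hL R (Qs.filter fun Q => below hL Q = R) fun Q => by
    rw [Finset.mem_filter, isOver_iff hL]
    exact ⟨fun h => h.2, fun h => ⟨(hbelow Q).2 (h ▸ hR), h⟩⟩
  have h2 : ∀ Q ∈ Qs.filter (fun Q => below hL Q = R), (Q.deg : ℤ) * Q.ord (algebraMap L M x) =
      ((FunFld.ramIdx Q R * Q.deg : ℕ) : ℤ) * R.ord x := fun Q hQ => by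
    obtain rfl := (Finset.mem_filter.1 hQ).2
    rw [ord_algebraMap_eq (isOverWith_below hL Q), ramIdx_below]
    push_cast; ring
  rw [Finset.sum_congr rfl h2, ← Finset.sum_mul, ← Nat.cast_sum, h1]
  push_cast; ring

open Groth.Agent.FunFldLib in
theorem galois_case {k K M : Type*} [Field k] [Field K] [Field M] [Algebra k K] [Algebra K M] [Algebra k M]
    [IsScalarTower k K M] [FiniteDimensional K M] [IsGalois K M] (hK : IsFF k K) (P : FunFld.Place k K) (x : M)
    (Qs : Finset (FunFld.Place k M)) (hQs : ∀ Q, Q ∈ Qs ↔ FunFld.IsOver Q P) :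
    (P.deg : ℤ) * P.ord (Algebra.norm K x) = ∑ Q ∈ Qs, (Q.deg : ℤ) * Q.ord x := by
  classical
  rcases eq_or_ne x 0 with rfl | hx
  · simp [FunFld.Place.ord, Algebra.norm_zero]
  obtain ⟨Q₀, hQ₀⟩ : Qs.Nonempty := by
    rw [Finset.nonempty_iff_ne_empty]
    rintro rfl
    have := sum_ram_mul_deg' (K' := M) hK P ∅ hQs
    rw [Finset.sum_empty] at this
    have := Nat.mul_pos (Module.finrank_pos (R := K) (M := M)) (deg_pos hK P)
    omega
  obtain ⟨e, he⟩ := (hQs Q₀).1 hQ₀
  have hmaps : ∀ σ ∈ (Finset.univ : Finset (M ≃ₐ[K] M)), twist σ Q₀ ∈ Qs := fun σ _ =>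
    (hQs _).2 ⟨e, isOverWith_twist he σ⟩
  set D := Nat.card (Q₀.O.decompositionSubgroup K)
  have h1 : (e : ℤ) * P.ord (Algebra.norm K x) = (D : ℤ) * ∑ Q ∈ Qs, Q.ord x := by
    rw [← ord_algebraMap_eq he, Algebra.norm_eq_prod_automorphisms, Finset.mul_sum]
    have h2 : Q₀.ord (∏ σ : M ≃ₐ[K] M, σ x) = ∑ σ : M ≃ₐ[K] M, Q₀.ord (σ x) := by
      suffices ∀ s : Finset (M ≃ₐ[K] M), Q₀.ord (∏ σ ∈ s, σ x) = ∑ σ ∈ s, Q₀.ord (σ x) from this _
      intro s
      induction s using Finset.induction with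
      | empty => simp [FunFld.Place.ord]
      | insert a s ha ih =>
        rw [Finset.prod_insert ha, Finset.sum_insert ha, ord_mul _ ((_root_.map_ne_zero a).2 hx)
          (Finset.prod_ne_zero_iff.2 fun σ _ => (_root_.map_ne_zero σ).2 hx), ih]
    rw [h2, ← Finset.sum_fiberwise_of_maps_to hmaps]
    refine Finset.sum_congr rfl fun Q hQ => ?_
    obtain ⟨σ₀, rfl⟩ : ∃ σ₀, twist σ₀ Q₀ = Q := by
      obtain ⟨e', he'⟩ := (hQs Q).1 hQ
      exact exists_twist_eq (K := K) fun z => by
        rw [he z, he' z, pow_lt_one_iff_of_nonneg zero_le (show e ≠ 0 from Nat.one_le_iff_ne_zero.1 (isOverWith_pos he)),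
          pow_lt_one_iff_of_nonneg zero_le (show e' ≠ 0 from Nat.one_le_iff_ne_zero.1 (isOverWith_pos he'))]
    rw [Finset.sum_congr rfl (g := fun _ => (twist σ₀ Q₀).ord x) fun σ hσ => by
      rw [← (Finset.mem_filter.1 hσ).2]; rfl, Finset.sum_const, nsmul_eq_mul]
    congr 2
    rw [show D = _ from Nat.card_eq_fintype_card, ← Finset.card_univ]
    refine Finset.card_bij' (fun σ hσ => ⟨σ * σ₀⁻¹, ?_⟩) (fun g _ => g.1 * σ₀) (fun _ _ => Finset.mem_univ _)
      (fun g _ => ?_) (fun σ _ => by simp) (fun g _ => Subtype.ext (by simp))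
    · rw [twist_eq_of_mem_decomposition, twist_mul, (Finset.mem_filter.1 hσ).2, ← twist_mul, mul_inv_cancel, twist_one]
    · refine Finset.mem_filter.2 ⟨Finset.mem_univ _, ?_⟩
      rw [twist_mul, (twist_eq_of_mem_decomposition).1 g.2]
  have h3 : (D : ℤ) * P.deg = (e : ℤ) * Q₀.deg := by exact_mod_cast card_decomposition_mul_deg' hK he
  have hdeg : ∀ Q ∈ Qs, Q.deg = Q₀.deg := fun Q hQ => by
    obtain ⟨e', he'⟩ := (hQs Q).1 hQ
    obtain ⟨σ, rfl⟩ := exists_twist_eq (K := K) (Q₁ := Q₀) (Q₂ := Q) fun z => by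
      rw [he z, he' z, pow_lt_one_iff_of_nonneg zero_le (show e ≠ 0 from Nat.one_le_iff_ne_zero.1 (isOverWith_pos he)),
        pow_lt_one_iff_of_nonneg zero_le (show e' ≠ 0 from Nat.one_le_iff_ne_zero.1 (isOverWith_pos he'))]
    exact deg_twist σ Q₀
  have he0 : (e : ℤ) ≠ 0 := by have := isOverWith_pos he; omega
  apply mul_left_cancel₀ he0
  rw [Finset.sum_congr rfl (fun Q hQ => by rw [hdeg Q hQ] : ∀ Q ∈ Qs, (Q.deg : ℤ) * Q.ord x = (Q₀.deg : ℤ) * Q.ord x),
    ← Finset.mul_sum]
  linear_combination (P.deg : ℤ) * h1 + (∑ Q ∈ Qs, Q.ord x) * h3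

open Groth.Agent.FunFldLib in
theorem sep_case {k K L : Type*} [Field k] [Field K] [Field L] [Algebra k K] [Algebra K L] [Algebra k L]
    [IsScalarTower k K L] [FiniteDimensional K L] [Algebra.IsSeparable K L] (hK : IsFF k K) (P : FunFld.Place k K) (x : L)
    (Rs : Finset (FunFld.Place k L)) (hRs : ∀ Q, Q ∈ Rs ↔ FunFld.IsOver Q P) :
    (P.deg : ℤ) * P.ord (Algebra.norm K x) = ∑ Q ∈ Rs, (Q.deg : ℤ) * Q.ord x := by
  classical
  set A := SeparableClosure L
  haveI : IsScalarTower k K A := IsScalarTower.of_algebraMap_eq fun c => by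
    rw [IsScalarTower.algebraMap_apply K L A, ← IsScalarTower.algebraMap_apply k K L, ← IsScalarTower.algebraMap_apply k L A]
  haveI : Algebra.IsSeparable K A := Algebra.IsSeparable.trans K L A
  haveI : IsSepClosure K A := ⟨inferInstance, inferInstance⟩
  haveI : IsGalois K A := IsSepClosure.isGalois
  set M := IntermediateField.normalClosure K L A
  haveI : IsScalarTower k K M := IsScalarTower.of_algebraMap_eq fun c => Subtype.ext (IsScalarTower.algebraMap_apply k K A c)
  haveI : IsScalarTower k L M := IsScalarTower.of_algebraMap_eq fun c => Subtype.ext (IsScalarTower.algebraMap_apply k L A c)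
  haveI : FiniteDimensional K M := normalClosure.is_finiteDimensional K L A
  haveI : IsGalois K M := IsGalois.normalClosure K L A
  obtain ⟨hS, hN⟩ := descend (M := M) hK P x (finite_over (K' := M) hK P).toFinset (fun Q => by simp) Rs hRs
  have hG := galois_case hK P (algebraMap L M x) (finite_over (K' := M) hK P).toFinset (fun Q => by simp)
  rw [hS, hN] at hG
  haveI : FiniteDimensional L M := FiniteDimensional.right K L M
  apply mul_left_cancel₀ (Nat.cast_ne_zero.2 (Module.finrank_pos (R := L) (M := M)).ne' : (Module.finrank L M : ℤ) ≠ 0)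
  linear_combination hG

/-- The divisor norm of a principal divisor is the principal divisor of the field norm:
`v_P(N_{K'/K}(x)) = ∑_{Q|P} f(Q|P) v_Q(x)`, written with `f(Q|P) deg P = deg_k Q`. -/
theorem result (k K K' : Type*) [Field k] [Field K] [Field K'] [Algebra k K] [Algebra K K'] [Algebra k K']
    [IsScalarTower k K K'] [FiniteDimensional K K'] (hK : FunFld.IsFunctionField k K) (hg : FunFld.IsGeometric k K) (P : FunFld.Place k K) (x : K')
    (Qs : Finset (FunFld.Place k K')) (hQs : ∀ Q, Q ∈ Qs ↔ FunFld.IsOver Q P) :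
    (P.deg : ℤ) * P.ord (Algebra.norm K x) = ∑ Q ∈ Qs, (Q.deg : ℤ) * Q.ord x := by
  classical
  have hFF : Groth.Agent.FunFldLib.IsFF k K := hK.1
  set q := ringExpChar K
  haveI : ExpChar K q := ringExpChar.of_eq rfl
  set L := separableClosure K K'
  haveI : IsScalarTower k L K' := IsScalarTower.of_algebraMap_eq fun c => rfl
  obtain ⟨n, y, hy⟩ := IsPurelyInseparable.pow_mem L (ringExpChar L) x
  obtain ⟨hS, hN⟩ := descend (M := K') hFF P y Qs hQs (Groth.Agent.FunFldLib.finite_over (K' := L) hFF P).toFinset (fun Q => by simp)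
  have hG := sep_case hFF P y (Groth.Agent.FunFldLib.finite_over (K' := L) hFF P).toFinset (fun Q => by simp)
  rw [hy] at hS hN
  simp only [map_pow, Groth.Agent.FunFldLib.ord_pow] at hS hN
  have hq : ((ringExpChar L ^ n : ℕ) : ℤ) ≠ 0 := Nat.cast_ne_zero.2 (pow_ne_zero _ (expChar_pos L _).ne')
  apply mul_left_cancel₀ hq
  rw [Finset.mul_sum, mul_left_comm, hN]
  simp only [mul_left_comm ((ringExpChar L ^ n : ℕ) : ℤ)]
  rw [hS]
  linear_combination (Module.finrank L K' : ℤ) * hG

end Groth.Agent.S11033
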