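import Groth.Statements.S11034
import Groth.Agent.FunFldLib.RatPlace
import Groth.Agent.FunFldLib.QuadPlace

set_option autoImplicit false
open FunFld

namespace Groth.Agent.S11034

open WithZero Groth.Agent.FunFldLib in
theorem core {k K : Type*} [Field k] [Field K] [Algebra k K] [Algebra (RatFunc k) K] [IsScalarTower k (RatFunc k) K]
    [FiniteDimensional (RatFunc k) K]
    (hdeg : Module.finrank (RatFunc k) K = 2) (y : K) (f : Polynomial k) (hf : Squarefree f)
    (heq : y ^ 2 = algebraMap (RatFunc k) K (algebraMap (Polynomial k) (RatFunc k) f))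
    (p : Polynomial k) (hp : Irreducible p) (hpf : p ∣ f)
    (P₀ : FunFld.Place k (RatFunc k)) (hP₀ : P₀.1 (algebraMap (Polynomial k) (RatFunc k) p) < 1) :
    (∃! P : FunFld.Place k K, FunFld.IsOver P P₀) ∧
    ∀ P : FunFld.Place k K, FunFld.IsOver P P₀ → FunFld.IsOverWith P P₀ 2 ∧ P.deg = P₀.deg := by
  have hF := ratFunc_isFunctionField k
  have hX : P₀.1 RatFunc.X ≤ 1 := by
    by_contra hgt
    rw [not_le] at hgt
    rw [poly_val_inf P₀ hgt hp.ne_zero] at hP₀
    exact hP₀.not_ge (one_le_pow₀ hgt.le)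
  obtain ⟨q, hq, hqP⟩ := exists_prime P₀ hX
  have hass : Associated q p := hq.associated_of_dvd hp ((hqP p).1 hP₀)
  have hP : ∀ r, P₀.1 (algebraMap (Polynomial k) (RatFunc k) r) < 1 ↔ p ∣ r := fun r =>
    (hqP r).trans hass.dvd_iff_dvd_left
  obtain ⟨g, rfl⟩ := hpf
  have hg : ¬ p ∣ g := fun ⟨c, hc⟩ => hp.not_isUnit (hf p ⟨c, by rw [hc]; ring⟩)
  have hfv : P₀.1 (algebraMap (Polynomial k) (RatFunc k) (p * g)) = exp (-1 : ℤ) := by
    rw [map_mul, map_mul, val_prime P₀ hX hp hP,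
      le_antisymm (poly_le_one P₀ hX g) (not_lt.1 fun h => hg ((hP g).1 h)), mul_one]
  have key : ∀ (Q : FunFld.Place k K) (e : ℕ), FunFld.IsOverWith Q P₀ e → 2 ≤ e := fun Q e he => by
    have h1 : Q.1 y ^ 2 = exp (-(e : ℤ)) := by
      rw [← map_pow, heq, he, hfv, ← exp_nsmul, nsmul_eq_mul, mul_neg, mul_one]
    have h3 := congrArg WithZero.log h1
    rw [log_pow, log_exp, nsmul_eq_mul] at h3
    have := isOverWith_pos he
    push_cast at h3
    omega
  obtain ⟨Q₀, e₀, hQ₀⟩ := exists_over (K' := K) hF P₀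
  refine ⟨⟨Q₀, ⟨e₀, hQ₀⟩, (ramified_two hF hdeg hQ₀ (key _ _ hQ₀)).2.2⟩, fun Q hQ => ?_⟩
  obtain ⟨e, he⟩ := hQ
  obtain ⟨h2, hd', -⟩ := ramified_two hF hdeg he (key _ _ he)
  exact ⟨h2 ▸ he, hd'⟩

/-- For `char k ≠ 2` and `K = k(x, y)`, `y² = f(x)` with `f` squarefree, each irreducible factor `p` of
`f` has a unique place `P` of `K` above it, with `e(P|p) = 2`, `f(P|p) = 1` and `deg P = deg p`. The
zero divisor of `y` and the behaviour above the infinite place of `k(x)` are not stated. -/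
theorem result (k K : Type*) [Field k] [Field K] (h2 : ringChar k ≠ 2) [Algebra k K]
    [Algebra (RatFunc k) K] [IsScalarTower k (RatFunc k) K]
    (hdeg : Module.finrank (RatFunc k) K = 2) (y : K) (f : Polynomial k) (hf : Squarefree f)
    (hd : 1 ≤ f.natDegree)
    (heq : y ^ 2 = algebraMap (RatFunc k) K (algebraMap (Polynomial k) (RatFunc k) f))
    (p : Polynomial k) (hp : Irreducible p) (hpf : p ∣ f)
    (P₀ : FunFld.Place k (RatFunc k)) (hP₀ : P₀.1 (algebraMap (Polynomial k) (RatFunc k) p) < 1) :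
    (∃! P : FunFld.Place k K, FunFld.IsOver P P₀) ∧
    ∀ P : FunFld.Place k K, FunFld.IsOver P P₀ → FunFld.IsOverWith P P₀ 2 ∧ P.deg = P₀.deg := by
  haveI : FiniteDimensional (RatFunc k) K := Module.finite_of_finrank_eq_succ hdeg
  exact core hdeg y f hf heq p hp hpf P₀ hP₀

end Groth.Agent.S11034
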