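import Groth.Statements.S11036
import Mathlib
import Groth.Agent.FunFldLib.Zeta

set_option autoImplicit false
open FunFld

namespace Groth.Agent.S11036

/-- The zeta series of a function field of one variable over a finite field with `q` elements is
rational; precisely `(1 - t)(1 - q t) Z_K(t)` is a polynomial. -/
theorem result
    (k K : Type*) [Field k] [Finite k] [Field K] [Algebra k K]
    (hK : FunFld.IsFunctionField k K) :
    ∃ p : Polynomial ℤ, (p : PowerSeries ℤ) = FunFld.numerZ k K := by
  classical
  refine ⟨PowerSeries.trunc (2 * FunFld.genus k K + 1) (FunFld.numerZ k K), ?_⟩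
  ext n
  rw [Polynomial.coeff_coe, PowerSeries.coeff_trunc]
  split_ifs with h
  · rfl
  · exact ((Groth.Agent.FunFldLib.numer_facts hK).1 n (by omega)).symm

end Groth.Agent.S11036
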