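import Groth.Statements.S11037
import Mathlib
import Groth.Agent.FunFldLib.ZetaCount

set_option autoImplicit false
open FunFld

namespace Groth.Agent.S11037

/-- Over a finite constant field with `q` elements the degree-zero divisor classes modulo principal
divisors form a finite group, of order `h`; and for `n ≥ 2g - 1` the number `a(n)` of effective
divisors of degree `n` is `h (q^(n-g+1) - 1)/(q - 1)` when `n` is the degree of some divisor, and
`0` otherwise. -/
theorem result
    (k K : Type*) [Field k] [Finite k] [Field K] [Algebra k K]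
    (hK : FunFld.IsFunctionField k K) :
    Finite ((FunFld.degHom k K).ker ⧸ (FunFld.prinDivs k K).addSubgroupOf (FunFld.degHom k K).ker) ∧
    ∀ n : ℕ, 2 * FunFld.genus k K ≤ n + 1 →
      ((∃ D : FunFld.Divisor k K, D.deg = n) →
        ((Nat.card k : ℤ) - 1) * (FunFld.effDivCount k K n : ℤ) =
          (FunFld.classNum k K : ℤ) * ((Nat.card k : ℤ) ^ (n + 1 - FunFld.genus k K) - 1)) ∧
      ((¬ ∃ D : FunFld.Divisor k K, D.deg = n) → FunFld.effDivCount k K n = 0) := by
  classical
  haveI := Groth.Agent.FunFldLib.finite_Cl0 hK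
  refine ⟨Groth.Agent.FunFldLib.finite_Cl0 hK, fun n hn => ⟨fun ⟨D0, hD0⟩ => ?_,
    fun h => Groth.Agent.FunFldLib.effDivCount_eq_zero h⟩⟩
  haveI : Fintype (Groth.Agent.FunFldLib.Cl0 k K) := Fintype.ofFinite _
  choose rep hrep using (QuotientAddGroup.mk_surjective :
    Function.Surjective (QuotientAddGroup.mk : (FunFld.degHom k K).ker → Groth.Agent.FunFldLib.Cl0 k K))
  have h := Groth.Agent.FunFldLib.count_identity hK hD0 rep hrep
  have hconst : ∀ c : Groth.Agent.FunFldLib.Cl0 k K,
      FunFld.ell ((rep c : FunFld.Divisor k K) + D0) = n + 1 - FunFld.genus k K := fun c => by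
    have hd : ((rep c : FunFld.Divisor k K) + D0).deg = n := by
      have := (rep c).2
      rw [AddMonoidHom.mem_ker, Groth.Agent.FunFldLib.degHom_eq_deg] at this
      rw [Groth.Agent.FunFldLib.deg_add, this, hD0, zero_add]
    have := Groth.Agent.FunFldLib.ell_large hK
      (D := (rep c : FunFld.Divisor k K) + D0) (by rw [hd]; omega)
    rw [hd] at this
    omega
  simp only [hconst, Finset.sum_const, Finset.card_univ, smul_eq_mul] at h
  rw [show Fintype.card (Groth.Agent.FunFldLib.Cl0 k K) = FunFld.classNum k K from Nat.card_eq_fintype_card.symm] at h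
  have hq : 1 ≤ Nat.card k := Nat.card_pos
  have h' := congrArg (Nat.cast : ℕ → ℤ) h
  push_cast [Nat.cast_sub hq] at h'
  linarith

end Groth.Agent.S11037
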