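import Groth.Statements.S11038
import Mathlib
import Groth.Agent.FunFldLib.Zeta

set_option autoImplicit false
open FunFld

namespace Groth.Agent.S11038

/-- `L_K(1) = h_K`, the class number, where `L_K(t) = (1 - t)(1 - q t) Z_K(t)` is the numerator of the
zeta function. -/
theorem result
    (k K : Type*) [Field k] [Finite k] [Field K] [Algebra k K]
    (hK : FunFld.IsFunctionField k K) (p : Polynomial ℤ)
    (hp : (p : PowerSeries ℤ) = FunFld.numerZ k K) :
    p.eval 1 = (FunFld.classNum k K : ℤ) := by
  classical
  obtain ⟨hv, -, hs⟩ := Groth.Agent.FunFldLib.numer_facts hK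
  rw [← hs, Polynomial.eval_eq_sum_range' (n := 2 * FunFld.genus k K + 1) (Nat.lt_succ_of_le ?_)]
  · refine Finset.sum_congr rfl fun i _ => ?_
    rw [one_pow, mul_one, ← Polynomial.coeff_coe, hp]
  · refine Polynomial.natDegree_le_iff_coeff_eq_zero.2 fun j hj => ?_
    rw [← Polynomial.coeff_coe, hp, hv j hj]

end Groth.Agent.S11038
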