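import Groth.Statements.S11039
import Mathlib
import Groth.Agent.FunFldLib.Zeta

set_option autoImplicit false
open FunFld

namespace Groth.Agent.S11039

/-- The numerator `L_K(t) = ∑ aᵢ tⁱ` of the zeta function of a function field of one variable of genus
`g` over a finite field with `q` elements has degree exactly `2g` and its coefficients satisfy
`a_{2g-i} = q^{g-i} aᵢ` for `0 ≤ i ≤ 2g`. -/
theorem result
    (k K : Type*) [Field k] [Finite k] [Field K] [Algebra k K]
    (hK : FunFld.IsFunctionField k K) :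
    (∀ n : ℕ, 2 * FunFld.genus k K < n → PowerSeries.coeff n (FunFld.numerZ k K) = 0) ∧
    PowerSeries.coeff (2 * FunFld.genus k K) (FunFld.numerZ k K) ≠ 0 ∧
    ∀ i : ℕ, i ≤ 2 * FunFld.genus k K →
      (((PowerSeries.coeff (2 * FunFld.genus k K - i) (FunFld.numerZ k K) : ℤ)) : ℚ) =
        (Nat.card k : ℚ) ^ ((FunFld.genus k K : ℤ) - i) *
          (((PowerSeries.coeff i (FunFld.numerZ k K) : ℤ)) : ℚ) := by
  classical
  obtain ⟨hv, hfe, -⟩ := Groth.Agent.FunFldLib.numer_facts hK
  refine ⟨hv, fun h => ?_, hfe⟩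
  have := hfe 0 (Nat.zero_le _)
  rw [Nat.sub_zero, h, Groth.Agent.FunFldLib.constantCoeff_numerZ hK.1] at this
  norm_num at this
  exact (pow_ne_zero _ (Nat.cast_ne_zero.2 (Nat.card_pos (α := k)).ne' : ((Nat.card k : ℕ) : ℚ) ≠ 0)) this.symm

end Groth.Agent.S11039
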