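import Groth.Statements.S11041
import Mathlib
import Groth.Agent.FunFldLib.RH

set_option autoImplicit false
open FunFld

namespace Groth.Agent.S11041

/-- The Riemann hypothesis for a function field `K` of one variable over a finite field with `q`
elements: every complex root `z` of `L_K(t) = (1 - t)(1 - q t) Z_K(t)` satisfies `|z|² q = 1`;
equivalently the reciprocal roots `αᵢ` all have `|αᵢ| = q^{1/2}`. -/
theorem result
    (k K : Type*) [Field k] [Finite k] [Field K] [Algebra k K]
    (hK : FunFld.IsFunctionField k K) (p : Polynomial ℤ)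
    (hp : (p : PowerSeries ℤ) = FunFld.numerZ k K) (z : ℂ)
    (hz : (p.map (Int.castRingHom ℂ)).IsRoot z) :
    ‖z‖ ^ 2 * (Nat.card k : ℝ) = 1 := by
  classical
  obtain ⟨α, hα, habs⟩ := Groth.Agent.FunFldLib.norm_root_eq hK
  set P : Polynomial ℂ := ∏ i, (1 - Polynomial.C (α i) * Polynomial.X) with hP
  have hpP : p.map (Int.castRingHom ℂ) = P := by
    ext n
    rw [← Polynomial.coeff_coe, ← Polynomial.coeff_coe]
    refine congrArg (PowerSeries.coeff n) ?_
    rw [Polynomial.polynomial_map_coe, hp, hα]
  rw [hpP, Polynomial.IsRoot, hP, Polynomial.eval_prod, Finset.prod_eq_zero_iff] at hz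
  obtain ⟨i, -, hi⟩ := hz
  simp only [Polynomial.eval_sub, Polynomial.eval_one, Polynomial.eval_mul, Polynomial.eval_C, Polynomial.eval_X] at hi
  have h1 : α i * z = 1 := by linear_combination -hi
  have h2 := congrArg (fun w : ℂ => ‖w‖) h1
  simp only [norm_mul, norm_one, habs] at h2
  have h3 : Real.sqrt (Nat.card k : ℝ) ^ 2 = (Nat.card k : ℝ) := Real.sq_sqrt (Nat.cast_nonneg _)
  rw [← h3, ← mul_pow, mul_comm, h2, one_pow]

end Groth.Agent.S11041
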