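import Groth.Statements.S11042
import Mathlib
import Groth.Agent.FunFldLib.RH

set_option autoImplicit false
open FunFld

namespace Groth.Agent.S11042

/-- A function field of one variable of genus `g` over a finite field with `q` elements has `N` places
of degree one with `|N - q - 1| ≤ 2 g √q`. -/
theorem result
    (k K : Type*) [Field k] [Finite k] [Field K] [Algebra k K]
    (hK : FunFld.IsFunctionField k K) :
    |(Nat.card {P : FunFld.Place k K // P.deg = 1} : ℝ) - (Nat.card k : ℝ) - 1| ≤
      2 * (FunFld.genus k K : ℝ) * Real.sqrt (Nat.card k : ℝ) := by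
  classical
  obtain ⟨α, hα, habs⟩ := Groth.Agent.FunFldLib.norm_root_eq hK
  have h := Groth.Agent.FunFldLib.newton hK.1 α hα one_pos
  rw [Groth.Agent.FunFldLib.NN_one hK.1] at h
  simp only [pow_one] at h
  have h1 : (((Nat.card {P : FunFld.Place k K // P.deg = 1} : ℝ) - (Nat.card k : ℝ) - 1 : ℝ) : ℂ) = -∑ i, α i := by
    push_cast; linear_combination h
  have h2 := congrArg (fun w : ℂ => ‖w‖) h1
  simp only [Complex.norm_real, Real.norm_eq_abs, norm_neg] at h2
  rw [h2]
  refine (norm_sum_le _ _).trans (le_of_eq ?_)
  simp only [habs, Finset.sum_const, Finset.card_univ, Fintype.card_fin, nsmul_eq_mul]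
  push_cast; ring

end Groth.Agent.S11042
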