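import Groth.Statements.S11043
import Mathlib

set_option autoImplicit false
open FunFld

namespace Groth.Agent.S11043

/-- For positive integers `n`, `d` with `e = gcd(n, d)`, in `ℂ[t]` one has `(1 - t^{nd/e})^e = ∏_{θⁿ =
1} (1 - (θ t)^d)`, the product over the complex `n`-th roots of unity. -/
theorem result (n d : ℕ) (hn : 0 < n) (hd : 0 < d) :
    ((1 : Polynomial ℂ) - Polynomial.X ^ (n * d / Nat.gcd n d)) ^ Nat.gcd n d =
      ∏ θ ∈ Polynomial.nthRootsFinset n (1 : ℂ),
        (1 - Polynomial.C (θ ^ d) * Polynomial.X ^ d) := by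
  classical
  have hζ : IsPrimitiveRoot (Complex.exp (2 * Real.pi * Complex.I / n)) n :=
    Complex.isPrimitiveRoot_exp n hn.ne'
  generalize Complex.exp (2 * Real.pi * Complex.I / n) = ζ at hζ
  set e := Nat.gcd n d with he
  have hepos : 0 < e := Nat.gcd_pos_of_pos_left _ hn
  obtain ⟨m, hm⟩ := Nat.gcd_dvd_left n d
  obtain ⟨d', hd'⟩ := Nat.gcd_dvd_right n d
  rw [← he] at hm hd'
  have hmpos : 0 < m := by
    rcases Nat.eq_zero_or_pos m with h | h
    · rw [h, mul_zero] at hm; omega
    · exact h
  have hcop : Nat.Coprime d' m := by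
    have h1 : Nat.gcd n d = e * Nat.gcd m d' := by rw [hm, hd', Nat.gcd_mul_left]
    rw [← he] at h1
    exact Nat.coprime_comm.1 (by
      rcases Nat.eq_zero_or_pos (Nat.gcd m d') with h | h
      · simp [h] at h1; omega
      · exact (Nat.mul_eq_left hepos.ne').1 h1.symm)
  have hξ : IsPrimitiveRoot (ζ ^ d) m := by
    rw [hd', pow_mul]
    exact (hζ.pow hn hm).pow_of_coprime d' hcop
  set ξ := ζ ^ d
  have hroots : ∀ {k : ℕ} {z : ℂ}, 0 < k → IsPrimitiveRoot z k →
      Polynomial.nthRootsFinset k (1 : ℂ) = (Finset.range k).image (z ^ ·) := by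
    intro k z hk hz
    symm
    apply Finset.eq_of_subset_of_card_le
    · intro x hx
      obtain ⟨i, _, rfl⟩ := Finset.mem_image.1 hx
      rw [Polynomial.mem_nthRootsFinset hk, pow_right_comm, hz.pow_eq_one, one_pow]
    · rw [hz.card_nthRootsFinset, Finset.card_image_of_injOn hz.injOn_pow, Finset.card_range]
  set Y : Polynomial ℂ := Polynomial.X ^ d with hY
  have hbase : 1 - Y ^ m = ∏ i ∈ Finset.range m, (1 - Polynomial.C (ξ ^ i) * Y) := by
    have h := (hξ.map_of_injective (f := (Polynomial.C : ℂ →+* Polynomial ℂ))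
      Polynomial.C_injective).pow_sub_pow_eq_prod_sub_mul 1 Y hmpos
    have hset : Polynomial.nthRootsFinset m (1 : Polynomial ℂ) =
        (Finset.range m).image (fun i => Polynomial.C (ξ ^ i)) := by
      symm
      have hC := hξ.map_of_injective (f := (Polynomial.C : ℂ →+* Polynomial ℂ)) Polynomial.C_injective
      apply Finset.eq_of_subset_of_card_le
      · intro x hx
        obtain ⟨i, _, rfl⟩ := Finset.mem_image.1 hx
        rw [Polynomial.mem_nthRootsFinset hmpos, ← map_pow, pow_right_comm, hξ.pow_eq_one,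
          one_pow, map_one]
      · rw [hC.card_nthRootsFinset, Finset.card_image_of_injOn, Finset.card_range]
        exact fun i hi j hj e => hξ.injOn_pow hi hj (Polynomial.C_injective e)
    rw [one_pow, hset, Finset.prod_image] at h
    · exact h
    · exact fun i hi j hj e => hξ.injOn_pow hi hj (Polynomial.C_injective e)
  rw [hroots hn hζ, Finset.prod_image (fun i hi j hj => hζ.injOn_pow hi hj)]
  have hdiv : n * d / e = d * m := by
    rw [hm, mul_assoc, Nat.mul_div_cancel_left _ hepos, mul_comm]
  rw [hdiv, pow_mul, ← hY, hbase]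
  have key : ∀ j, ∏ i ∈ Finset.range (j * m), (1 - Polynomial.C (ξ ^ i) * Y) =
      (∏ i ∈ Finset.range m, (1 - Polynomial.C (ξ ^ i) * Y)) ^ j := by
    intro j
    induction j with
    | zero => simp
    | succ j ih =>
      rw [add_mul, one_mul, Finset.prod_range_add, ih, pow_succ]
      simp [pow_add, mul_comm j m, pow_mul, hξ.pow_eq_one]
  rw [← key e, ← hm]
  refine Finset.prod_congr rfl fun i _ => ?_
  rw [← pow_mul, ← pow_mul, mul_comm d i]

end Groth.Agent.S11043
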