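import Groth.Statements.S11044
import Groth.Agent.FunFldLib.Cor

set_option autoImplicit false
open FunFld

namespace Groth.Agent.S11044

/-- Over an algebraically closed constant field, if the genus `g` is positive and `D` has degree at
least `2g` or is canonical, then `ℓ(D - P) < ℓ(D)` for every place `P`; that is, `D` is the divisor
of the projective map given by `L(D)`. -/
theorem result
    (k K : Type*) [Field k] [IsAlgClosed k] [Field K] [Algebra k K]
    (hK : FunFld.IsFunctionField k K) (hg : 0 < FunFld.genus k K)
    (D : FunFld.Divisor k K)
    (hD : 2 * (FunFld.genus k K : ℤ) ≤ D.deg ∨ FunFld.IsCanonical k K D) (P : FunFld.Place k K) :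
    FunFld.ell (D - Finsupp.single P 1) < FunFld.ell D := by
  have h1 := FunFldLib.deg_eq_one hK P
  have hd : (D - Finsupp.single P 1).deg = D.deg - 1 := by rw [FunFldLib.deg_sub, FunFldLib.deg_single, h1]; rfl
  rcases hD with hD | hD
  · have a := FunFldLib.ell_large hK (D := D) (by omega)
    have b := FunFldLib.ell_large hK (D := D - Finsupp.single P 1) (by omega)
    omega
  · have a := (FunFldLib.deg_canonical hK hD).2
    have b := FunFldLib.riemann_roch' hK hD (Finsupp.single P 1)
    have c : FunFld.ell (Finsupp.single P (1 : ℤ)) < 2 := by
      by_contra hc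
      obtain ⟨x, hx⟩ : ∃ x : K, IntermediateField.adjoin k ({x} : Set K) = ⊤ := by
        obtain ⟨x, hx, hx0⟩ : ∃ x ∈ FunFld.L (Finsupp.single P (1 : ℤ)), x ∉ FunFld.L (0 : FunFld.Divisor k K) := by
          by_contra! hall
          haveI := (FunFldLib.ell_zero hK).1
          have := Submodule.finrank_mono (show FunFld.L (Finsupp.single P (1 : ℤ)) ≤ FunFld.L (0 : FunFld.Divisor k K) from hall)
          have h0 := (FunFldLib.ell_zero hK).2
          simp only [FunFld.ell] at hc h0
          omega
        classical
        have hne : x ≠ 0 := fun h => hx0 (h ▸ zero_mem _)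
        rw [FunFldLib.mem_L_iff hne] at hx hx0
        push Not at hx0
        obtain ⟨Q, hQ⟩ := hx0
        have hoth : ∀ R : FunFld.Place k K, R ≠ P → 0 ≤ R.ord x := fun R hR => by
          have := hx R; rwa [Finsupp.single_apply, if_neg (Ne.symm hR), neg_zero] at this
        rw [Finsupp.zero_apply] at hQ
        have hQP : Q = P := by
          by_contra hne'
          have := hoth Q hne'; omega
        subst hQP
        have := hx Q
        rw [Finsupp.single_eq_same] at this
        exact ⟨x, FunFldLib.adjoin_eq_top_of_simple_pole hK h1 (by omega) hoth⟩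
      obtain ⟨-, -, -, -, h0⟩ := FunFldLib.exists_simple_pole_of_top hK hx
      omega
    simp only [FunFldLib.delta, FunFldLib.deg_single, h1] at b
    omega

end Groth.Agent.S11044
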