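import Groth.Statements.S11046
import Groth.Agent.FunFldLib.Gaps

set_option autoImplicit false
open FunFld

namespace Groth.Agent.S11046

/-- Over an algebraically closed constant field, for a place `P` of a function field of genus `g` and a
natural number `n ≤ 2g - 2` one has `ℓ(nP) ≤ 1 + n/2` (Clifford's bound for multiples of a point). -/
theorem result
    (k K : Type*) [Field k] [IsAlgClosed k] [Field K] [Algebra k K]
    (hK : FunFld.IsFunctionField k K) (P : FunFld.Place k K) (n : ℕ)
    (hn : (n : ℤ) ≤ 2 * (FunFld.genus k K : ℤ) - 2) :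
    2 * FunFld.ell (Finsupp.single P (n : ℤ)) ≤ n + 2 := by
  classical
  have hP := FunFldLib.deg_eq_one hK P
  have hn1 := FunFldLib.ncard_gapSet hK hP n
  by_contra hc
  set c := (FunFldLib.gapSet P n).ncard with hcdef
  -- the total number of gaps is the genus
  have hN := FunFldLib.ncard_gapSet hK hP (2 * FunFld.genus k K + n)
  have hl := FunFldLib.ell_large hK (D := Finsupp.single P ((2 * FunFld.genus k K + n : ℕ) : ℤ))
    (by rw [FunFldLib.deg_single, hP]; omega)
  rw [FunFldLib.deg_single, hP] at hl
  have hex : ∃ m, n < m ∧ c < (FunFldLib.gapSet P m).ncard :=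
    ⟨2 * FunFld.genus k K + n, by omega, by omega⟩
  obtain ⟨hm1, hm2⟩ := Nat.find_spec hex
  set m := Nat.find hex with hm
  have hsame : (FunFldLib.gapSet P (m - 1)).ncard ≤ c := by
    rcases Nat.lt_or_ge n (m - 1) with h | h
    · by_contra hlt
      exact Nat.find_min hex (show m - 1 < m by omega) ⟨h, not_le.1 hlt⟩
    · rw [show m - 1 = n by omega]
  have hgap : FunFld.L (Finsupp.single P (m : ℤ)) = FunFld.L (Finsupp.single P ((m : ℤ) - 1)) := by
    by_contra hne
    have : FunFldLib.gapSet P m ⊆ FunFldLib.gapSet P (m - 1) := fun j ⟨a, b, d⟩ => by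
      rcases eq_or_ne j m with rfl | hj
      · exact absurd d hne
      · exact ⟨a, by omega, d⟩
    have := Set.ncard_le_ncard this (FunFldLib.gapSet_finite P _)
    omega
  have h1 := FunFldLib.gap_pairs hK hP m hgap
  omega

end Groth.Agent.S11046
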