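import Groth.Statements.S11047
import Groth.Agent.FunFldLib.Gaps

set_option autoImplicit false
open FunFld

namespace Groth.Agent.S11047

/-- Over an algebraically closed constant field, a `k`-automorphism of a function field of one variable
of genus `g` that fixes more than `2g + 2` places is the identity. -/
theorem result
    (k K : Type*) [Field k] [IsAlgClosed k] [Field K] [Algebra k K]
    (hK : FunFld.IsFunctionField k K) (σ : K ≃ₐ[k] K)
    (h : ((2 * FunFld.genus k K + 2 : ℕ) : ℕ∞) <
      Set.encard {P : FunFld.Place k K | ∀ x : K, P.1 x < 1 → P.1 (σ x) < 1}) :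
    σ = 1 := by
  classical
  set Fx : Set (FunFld.Place k K) := {P | ∀ x : K, P.1 x < 1 → P.1 (σ x) < 1} with hFx
  obtain ⟨P, hP⟩ : Fx.Nonempty := Set.encard_pos.1 (lt_of_le_of_lt zero_le h)
  have hdeg := FunFldLib.deg_eq_one hK P
  let tw : FunFld.Place k K → FunFld.Place k K := fun Q => ⟨Q.1.comap (σ : K →+* K),
    fun c => by simpa [Valuation.comap_apply] using Q.2.1 c,
    fun u => by
      obtain ⟨z, hz⟩ := Q.2.2 u
      exact ⟨σ.symm z, by simpa [Valuation.comap_apply] using hz⟩⟩
  have htw : ∀ Q ∈ Fx, tw Q = Q := fun Q hQ => by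
    refine FunFldLib.eq_of_forall_le_one fun x hx => ?_
    by_contra hc
    rw [not_le] at hc
    have hx0 : x ≠ 0 := fun h => by simp [h] at hc
    have h1 := hQ x⁻¹ (by rw [map_inv₀]; exact inv_lt_one_of_one_lt₀ hc)
    change Q.1 (σ x⁻¹) < 1 at h1
    rw [map_inv₀, map_inv₀] at h1
    exact not_le.2 h1 (one_le_inv₀ (zero_lt_iff.2 ((map_ne_zero _).2 ((map_ne_zero _).2 hx0))) |>.2 hx)
  have key : ∀ (m : ℕ), m ≤ 2 * FunFld.genus k K + 1 → ∀ x ∈ FunFld.L (Finsupp.single P (m : ℤ)), σ x = x := by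
    intro m hm x hx
    rcases eq_or_ne x 0 with rfl | hx0
    · exact map_zero _
    by_contra hne
    have hd : σ x - x ≠ 0 := sub_ne_zero.2 hne
    rw [FunFldLib.mem_L_single_iff P hx0] at hx
    have hσx : σ x ≠ 0 := (map_ne_zero _).2 hx0
    have hb : ∀ Q : FunFld.Place k K, (if Q = P then -(m : ℤ) else 0) ≤ Q.ord (σ x) := by
      intro Q
      have h2 : (tw Q).ord x = Q.ord (σ x) := rfl
      rw [← h2]
      split_ifs with hQ
      · subst hQ; rw [htw Q hP]; exact hx.1
      · refine hx.2 _ fun h3 => hQ ?_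
        refine FunFldLib.eq_of_forall_le_one fun z hz => ?_
        have h4 : (tw P).1 (σ.symm z) = (tw Q).1 (σ.symm z) := by rw [htw P hP, h3]
        simp only [tw, Valuation.comap_apply] at h4
        simp at h4
        rw [h4]; exact hz
    have hxb : ∀ Q : FunFld.Place k K, (if Q = P then -(m : ℤ) else 0) ≤ Q.ord x := fun Q => by
      split_ifs with hQ
      · subst hQ; exact hx.1
      · exact hx.2 Q hQ
    have hdb : ∀ Q : FunFld.Place k K, (if Q = P then -(m : ℤ) else 0) ≤ Q.ord (σ x - x) := fun Q => by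
      have h2 := FunFldLib.le_ord_add Q (x := σ x) (y := -x) (by rwa [← sub_eq_add_neg])
      rw [FunFldLib.ord_neg, ← sub_eq_add_neg] at h2
      exact (le_min (hb Q) (hxb Q)).trans h2
    have hpos : ∀ Q ∈ Fx, Q ≠ P → 0 < Q.ord (σ x - x) := by
      intro Q hQ hQP
      have h1 : Q.1 x ≤ 1 := (FunFldLib.val_le_one_iff Q hx0).2 (hx.2 Q hQP)
      obtain ⟨c, hc⟩ := FunFldLib.exists_const_sub Q (FunFldLib.deg_eq_one hK Q) (x := (1 : K)) one_ne_zero (y := x)
        (by rwa [map_one])
      rw [map_one] at hc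
      have h2 := hQ _ hc
      rw [map_sub, Algebra.smul_def, mul_one, AlgEquiv.commutes] at h2
      rw [Algebra.smul_def, mul_one] at hc
      rw [← FunFldLib.val_lt_one_iff Q hd]
      rw [show σ x - x = (σ x - algebraMap k K c) + -(x - algebraMap k K c) by ring]
      exact Valuation.map_add_lt _ h2 (by rwa [Valuation.map_neg])
    have hd0 := FunFldLib.deg_div hK.1 (σ x - x)
    obtain ⟨S, hS1, hS2⟩ : ∃ S : Finset (FunFld.Place k K), (S : Set (FunFld.Place k K)) ⊆ Fx \ {P} ∧
        2 * FunFld.genus k K + 2 ≤ S.card := by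
      have h5 : ((2 * FunFld.genus k K + 2 : ℕ) : ℕ∞) ≤ (Fx \ {P}).encard := by
        have h6 := Set.encard_sdiff_singleton_add_one hP
        have h7 : ((2 * FunFld.genus k K + 2 : ℕ) : ℕ∞) + 1 ≤ Fx.encard := Order.add_one_le_of_lt h
        rw [← h6] at h7
        exact (ENat.add_le_add_iff_right (by simp)).1 h7
      obtain ⟨T, hT1, hT2⟩ := Set.exists_subset_encard_eq h5
      have hfin : T.Finite := Set.finite_of_encard_eq_coe hT2
      refine ⟨hfin.toFinset, by simpa using hT1, ?_⟩
      rw [hfin.encard_eq_coe_toFinset_card] at hT2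
      exact (ENat.coe_inj.1 hT2).ge
    have hle : (∑ Q ∈ S, Finsupp.single Q (1 : ℤ)) + Finsupp.single P (-(m : ℤ)) ≤ FunFld.div k (σ x - x) := by
      intro R
      rw [Finsupp.add_apply, Finsupp.finsetSum_apply, FunFldLib.div_apply hK.1]
      simp only [Finsupp.single_apply]
      rw [Finset.sum_ite_eq' S R]
      by_cases hR : R ∈ S
      · have hRP : R ≠ P := (hS1 hR).2
        rw [if_pos hR, if_neg (Ne.symm hRP)]
        have := hpos R (hS1 hR).1 hRP; omega
      · rw [if_neg hR, zero_add]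
        have := hdb R
        by_cases hRP : R = P
        · subst hRP; simpa using this
        · rw [if_neg hRP] at this; rw [if_neg (Ne.symm hRP)]; exact this
    have h6 := FunFldLib.deg_mono hle
    rw [hd0, FunFldLib.deg_add, FunFldLib.deg_single, hdeg] at h6
    have h7 : FunFld.Divisor.deg (∑ Q ∈ S, Finsupp.single Q (1 : ℤ)) = (S.card : ℤ) := by
      rw [FunFldLib.deg_finsetSum]
      simp [FunFldLib.deg_single, FunFldLib.deg_eq_one hK]
    rw [h7] at h6
    omega
  obtain ⟨x, hx, hx0, hxo⟩ := FunFldLib.exists_ord_eq_of_large hK hdeg (m := 2 * FunFld.genus k K + 1) (by omega)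
  have hTx := FunFldLib.transcendental_of_ord_ne_zero hK (P := P) (x := x) (by omega)
  have hdx := FunFldLib.finrank_eq_of_one_pole hK (by omega) hx hxo
  rw [hdeg, Nat.cast_one, mul_one] at hdx
  have hdx' : Module.finrank (IntermediateField.adjoin k ({x} : Set K)) K = 2 * FunFld.genus k K + 1 := by exact_mod_cast hdx
  obtain ⟨S, hS, htop⟩ : ∃ S : Set K, (∀ z ∈ S, σ z = z) ∧ IntermediateField.adjoin k S = ⊤ := by
    rcases Nat.eq_zero_or_pos (FunFld.genus k K) with hg | hg
    · refine ⟨{x}, by simpa using key _ le_rfl x hx, ?_⟩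
      rw [hg] at hdx'
      exact IntermediateField.finrank_eq_one_iff_eq_top.1 hdx'
    obtain ⟨y, hy, hy0, hyo⟩ := FunFldLib.exists_ord_eq_of_large hK hdeg (m := 2 * FunFld.genus k K) le_rfl
    have hTy := FunFldLib.transcendental_of_ord_ne_zero hK (P := P) (x := y) (by omega)
    have hdy := FunFldLib.finrank_eq_of_one_pole hK (by omega) hy hyo
    rw [hdeg, Nat.cast_one, mul_one] at hdy
    refine ⟨{x, y}, ?_, FunFldLib.adjoin_pair_eq_top_of_coprime hK hTx hTy ?_⟩
    · rintro z (rfl | rfl)
      · exact key _ le_rfl _ hx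
      · exact key _ (by omega) _ hy
    · rw [hdx', Int.ofNat_inj.1 hdy]; simp
  ext z
  have hz : z ∈ IntermediateField.adjoin k S := htop ▸ IntermediateField.mem_top
  refine (IntermediateField.adjoin_induction k (p := fun z _ => σ z = z) (fun z hz => hS z hz) (fun c => σ.commutes c)
    (fun a b _ _ ha hb => by rw [map_add, ha, hb]) (fun a _ ha => by rw [map_inv₀, ha])
    (fun a b _ _ ha hb => by rw [map_mul, ha, hb]) hz).trans (AlgEquiv.one_apply z).symm

end Groth.Agent.S11047
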