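import Groth.Statements.S11049
import Mathlib
-- import your own Groth.Agent.* helpers here

set_option autoImplicit false
open CAlg

namespace Groth.Agent.S11049

/-- For `k`-algebras `S ⊆ R` with `R` an integral domain and a nonzero `x ∈ S`, if `R/S` and `R/Rx` are
finite-dimensional over `k` then `dim_k R/Rx = dim_k S/Sx`. (The published statement allows `x = 0`;
then `R` is a field finite over `k` and the two sides are `dim_k R` and `dim_k S`, which differ for
`S = k ⊊ R`; the published proof multiplies by `x` as an injection, so `x ≠ 0` is assumed here.) -/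
theorem result
    (k R : Type*) [Field k] [CommRing R]
    [IsDomain R] [Algebra k R] (S : Subalgebra k R) (x : S) (hx : (x : R) ≠ 0)
    [Module.Finite k (R ⧸ Subalgebra.toSubmodule S)]
    [Module.Finite k (R ⧸ Ideal.span {(x : R)})] :
    Module.finrank k (R ⧸ Ideal.span {(x : R)}) = Module.finrank k (S ⧸ Ideal.span {x}) := by
  classical
  let Sm : Submodule k R := Subalgebra.toSubmodule S
  let m : R →ₗ[k] R := LinearMap.mulLeft k (x : R)
  have hm : Function.Injective m := mul_right_injective₀ hx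
  let xR : Submodule k R := LinearMap.range m
  let xS : Submodule k R := Sm.map m
  have hxR : ∀ r, r ∈ xR ↔ r ∈ Ideal.span {(x : R)} := fun r => by
    rw [Ideal.mem_span_singleton']
    constructor
    · rintro ⟨a, rfl⟩; exact ⟨a, mul_comm _ _⟩
    · rintro ⟨a, rfl⟩; exact ⟨a, mul_comm _ _⟩
  have h1 : xS ≤ xR := Submodule.map_le_iff_le_comap.2 fun a _ => ⟨a, rfl⟩
  have h2 : xS ≤ Sm := by
    rintro _ ⟨a, ha, rfl⟩
    exact S.mul_mem x.2 ha
  -- `xR / xS ≃ R / S`
  let q : R →ₗ[k] xR ⧸ xS.submoduleOf xR := (xS.submoduleOf xR).mkQ ∘ₗ m.rangeRestrict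
  have hq : Function.Surjective q := (Submodule.mkQ_surjective _).comp m.surjective_rangeRestrict
  have hker : LinearMap.ker q = Sm := by
    ext a
    simp only [q, LinearMap.mem_ker, LinearMap.comp_apply, Submodule.mkQ_apply, Submodule.Quotient.mk_eq_zero]
    exact ⟨fun ⟨b, hb, hba⟩ => hm hba ▸ hb, fun ha => ⟨a, ha, rfl⟩⟩
  let eq : (R ⧸ Sm) ≃ₗ[k] (xR ⧸ xS.submoduleOf xR) :=
    (Submodule.quotEquivOfEq _ _ hker.symm).trans (q.quotKerEquivOfSurjective hq)
  haveI : Module.Finite k (R ⧸ Sm) := inferInstanceAs (Module.Finite k (R ⧸ Subalgebra.toSubmodule S))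
  let eR : (R ⧸ xR) ≃ₗ[k] R ⧸ Ideal.span {(x : R)} :=
    (Submodule.quotEquivOfEq _ ((Ideal.span {(x : R)}).restrictScalars k) (Submodule.ext hxR)).trans
      (Submodule.Quotient.restrictScalarsEquiv k _)
  haveI : Module.Finite k (R ⧸ xR) := Module.Finite.equiv eR.symm
  haveI : Module.Finite k (xR ⧸ xS.submoduleOf xR) := Module.Finite.equiv eq
  -- two filtrations of `R / xS`
  have key : ∀ (P : Submodule k R), xS ≤ P → ∃ (e : (P ⧸ xS.submoduleOf P) ≃ₗ[k] (P.map xS.mkQ : Submodule k (R ⧸ xS))),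
      Nonempty (((R ⧸ xS) ⧸ P.map xS.mkQ) ≃ₗ[k] R ⧸ P) := fun P hP => by
    let g : P →ₗ[k] (P.map xS.mkQ : Submodule k (R ⧸ xS)) := xS.mkQ.submoduleMap P
    refine ⟨(Submodule.quotEquivOfEq _ _ ?_).trans (g.quotKerEquivOfSurjective (LinearMap.submoduleMap_surjective _ _)),
      ⟨Submodule.quotientQuotientEquivQuotient xS P hP⟩⟩
    ext a
    simp [g, Subtype.ext_iff]
    exact Iff.rfl
  obtain ⟨e1, ⟨e1'⟩⟩ := key xR h1
  obtain ⟨e2, ⟨e2'⟩⟩ := key Sm h2
  haveI : Module.Finite k (xR.map xS.mkQ : Submodule k (R ⧸ xS)) := Module.Finite.equiv e1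
  haveI : Module.Finite k ((R ⧸ xS) ⧸ xR.map xS.mkQ) := Module.Finite.equiv e1'.symm
  haveI : Module.Finite k (R ⧸ xS) := Module.Finite.of_submodule_quotient (xR.map xS.mkQ)
  have f1 := Submodule.finrank_quotient_add_finrank (xR.map xS.mkQ)
  have f2 := Submodule.finrank_quotient_add_finrank (Sm.map xS.mkQ)
  rw [e1'.finrank_eq, ← e1.finrank_eq, ← eq.finrank_eq, eR.finrank_eq] at f1
  rw [e2'.finrank_eq, ← e2.finrank_eq] at f2
  let g : Sm →ₗ[k] S ⧸ Ideal.span {x} :=
    { toFun := fun a => Ideal.Quotient.mk _ ⟨a.1, a.2⟩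
      map_add' := fun _ _ => rfl
      map_smul' := fun _ _ => rfl }
  have hg : LinearMap.ker g = xS.submoduleOf Sm := by
    ext a
    show Ideal.Quotient.mk _ (⟨a.1, a.2⟩ : S) = 0 ↔ a.1 ∈ xS
    rw [Ideal.Quotient.eq_zero_iff_mem, Ideal.mem_span_singleton']
    constructor
    · rintro ⟨b, hb⟩
      exact ⟨b.1, b.2, (mul_comm _ _).trans (congrArg Subtype.val hb)⟩
    · rintro ⟨b, hb, hba⟩
      exact ⟨⟨b, hb⟩, Subtype.ext ((mul_comm _ _).trans hba)⟩
  let eS : (Sm ⧸ xS.submoduleOf Sm) ≃ₗ[k] S ⧸ Ideal.span {x} :=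
    (Submodule.quotEquivOfEq _ _ hg.symm).trans (g.quotKerEquivOfSurjective fun z => by
      obtain ⟨a, rfl⟩ := Ideal.Quotient.mk_surjective z
      exact ⟨⟨a.1, a.2⟩, rfl⟩)
  rw [eS.finrank_eq] at f2
  omega
end Groth.Agent.S11049
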