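import Groth.Statements.S11050
import Groth.Agent.FunFldLib.Hasse
import Groth.Agent.FunFldLib.Taylor

set_option autoImplicit false
open FunFld

namespace Groth.Agent.S11050

open Groth.Agent.FunFldLib in
theorem exists_sep {k K : Type*} [Field k] [IsAlgClosed k] [Field K] [Algebra k K]
    (hK : FunFld.IsFunctionField k K) (W : Set K) (hW : IntermediateField.adjoin k W = ⊤) :
    ∃ x ∈ W, Transcendental k x ∧ Algebra.IsSeparable (IntermediateField.adjoin k ({x} : Set K)) K := by
  obtain ⟨s, H, hH⟩ := exists_separating_var hK
  have hs1 : hasseDer hH s = 1 := by rw [hasseDer_apply, hasseD_self hH, if_neg one_ne_zero, if_pos rfl]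
  obtain ⟨w, hwW, hw⟩ : ∃ w ∈ W, hasseDer hH w ≠ 0 := by
    by_contra! hall
    have h : ∀ z : K, hasseDer hH z = 0 := fun z => by
      have hz : z ∈ IntermediateField.adjoin k W := hW ▸ IntermediateField.mem_top
      induction hz using IntermediateField.adjoin_induction with
      | mem w hw => exact hall w hw
      | algebraMap c => exact Derivation.map_algebraMap _ c
      | add p q _ _ hp hq => rw [map_add, hp, hq, add_zero]
      | inv p _ hp => rw [Derivation.leibniz_inv, hp, smul_zero]
      | mul p q _ _ hp hq => rw [Derivation.leibniz, hp, hq, smul_zero, smul_zero, add_zero]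
    exact one_ne_zero (hs1.symm.trans (h s))
  have hT : Transcendental k w := fun halg => hw (by
    obtain ⟨c, rfl⟩ := hK.2 w halg
    exact Derivation.map_algebraMap _ c)
  exact ⟨w, hwW, hT, isSeparable_of_derivation hK hT ((hasseDer hH w)⁻¹ • hasseDer hH) (by
    rw [Derivation.smul_apply, smul_eq_mul, inv_mul_cancel₀ hw])⟩

theorem transcendental_of_sep {k K : Type*} [Field k] [Field K] [Algebra k K] (hK : FunFld.IsFunctionField k K) {x : K}
    (hsep : Algebra.IsSeparable (IntermediateField.adjoin k ({x} : Set K)) K) : Transcendental k x := by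
  intro halg
  obtain ⟨⟨t, ht, -⟩, -⟩ := hK
  haveI : Algebra.IsAlgebraic k (IntermediateField.adjoin k ({x} : Set K)) :=
    IntermediateField.isAlgebraic_adjoin_simple halg.isIntegral
  haveI := hsep.isAlgebraic
  haveI : Algebra.IsAlgebraic k K := Algebra.IsAlgebraic.trans k (IntermediateField.adjoin k ({x} : Set K)) K
  exact ht (Algebra.IsAlgebraic.isAlgebraic t)

/-- Over an algebraically closed constant field, let `W` be a finite-dimensional subspace of the
function field `K` containing `1` and generating `K` over `k` (the span of an effective birational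
projective map). Then `W` contains a separating variable `x`, and for each separating `x ∈ W` some
`y ∈ W` gives `K = k(x, y)`. -/
theorem result
    (k K : Type*) [Field k] [IsAlgClosed k] [Field K] [Algebra k K]
    (hK : FunFld.IsFunctionField k K) (W : Submodule k K)
    [FiniteDimensional k W] (h1 : (1 : K) ∈ W)
    (hW : IntermediateField.adjoin k (W : Set K) = ⊤) :
    (∃ x ∈ W, Algebra.IsSeparable (IntermediateField.adjoin k ({x} : Set K)) K) ∧
    ∀ x ∈ W, Algebra.IsSeparable (IntermediateField.adjoin k ({x} : Set K)) K →
      ∃ y ∈ W, IntermediateField.adjoin k ({x, y} : Set K) = ⊤ := by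
  refine ⟨?_, fun x hxW hsep => ?_⟩
  · obtain ⟨x, hx, -, hs⟩ := exists_sep hK (W : Set K) hW
    exact ⟨x, hx, hs⟩
  · set F := IntermediateField.adjoin k ({x} : Set K) with hF
    haveI := hsep
    haveI : FiniteDimensional F K := FunFldLib.finite_adjoin hK.1 (transcendental_of_sep hK hsep)
    haveI : Finite (IntermediateField F K) := (Field.exists_primitive_element_iff_finite_intermediateField F K).1
      ⟨inferInstance, Field.exists_primitive_element F K⟩
    haveI : Infinite k := IsAlgClosed.instInfinite
    obtain ⟨v, hv⟩ := Submodule.exists_forall_notMem_of_forall_ne_top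
      (fun L : {L : IntermediateField F K // L ≠ ⊤} => (Subalgebra.toSubmodule (L.1.restrictScalars k).toSubalgebra).comap W.subtype)
      (fun L htop => L.2 (by
        rw [← IntermediateField.restrictScalars_eq_top_iff (K := k), eq_top_iff, ← hW, IntermediateField.adjoin_le_iff]
        intro w hw
        have h : (⟨w, hw⟩ : W) ∈ (Subalgebra.toSubmodule (L.1.restrictScalars k).toSubalgebra).comap W.subtype := by
          rw [htop]; trivial
        exact h))
    refine ⟨v, v.2, ?_⟩
    have htop : IntermediateField.adjoin F ({(v : K)} : Set K) = ⊤ := by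
      by_contra hne
      exact hv ⟨_, hne⟩ (IntermediateField.mem_adjoin_simple_self F (v : K))
    have := congrArg (IntermediateField.restrictScalars k) htop
    rw [IntermediateField.adjoin_adjoin_left, IntermediateField.restrictScalars_top, Set.singleton_union] at this
    exact this

end Groth.Agent.S11050
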