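import Groth.Statements.S11051
import Groth.Agent.S11050
import Groth.Agent.FunFldLib.WDiv
import Groth.Agent.FunFldLib.MapDiv

set_option autoImplicit false
open FunFld

namespace Groth.Agent.S11051

open Groth.Agent.FunFldLib WithZero in
theorem main {k K : Type*} [Field k] [IsAlgClosed k] [Field K] [Algebra k K]
    (hK : FunFld.IsFunctionField k K) (x : K)
    (hsep : Algebra.IsSeparable (IntermediateField.adjoin k ({x} : Set K)) K) :
    ∃ y : K, IntermediateField.adjoin k ({x, y} : Set K) = ⊤ ∧
      ∀ P : FunFld.Place k K, ∃ f ∈ Submodule.span k ({1, x, y} : Set K),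
        P.1 f = WithZero.exp (-1) := by
  classical
  have hT := Groth.Agent.S11050.transcendental_of_sep hK hsep
  set F := IntermediateField.adjoin k ({x} : Set K) with hF
  haveI : FiniteDimensional F K := finite_adjoin hK.1 hT
  haveI := hsep
  obtain ⟨H, hH⟩ := exists_family (k := k) x hT
  have hx0 : x ≠ 0 := fun h => hT (h ▸ isAlgebraic_zero)
  have hpoles : {P : FunFld.Place k K | P.ord x < 0}.Finite := by
    refine (finite_support_ord' hK.1 x).subset fun P hP => ?_
    simp only [Set.mem_ofPred_eq] at hP
    simp only [Function.mem_support]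
    omega
  set R := (hpoles.union (gam_finite hK hH)).toFinset with hR
  have hgood : ∀ P : FunFld.Place k K, P ∉ R → ∃ c : k, P.1 (x - algebraMap k K c) = exp (-1) := by
    intro P hP
    rw [hR, Set.Finite.mem_toFinset, Set.mem_union, Set.mem_ofPred_eq, Function.mem_support, not_or, not_lt, not_not] at hP
    have hx1 := (val_le_one_iff P hx0).2 hP.1
    obtain ⟨c, hc⟩ := exists_const hK P hx1
    refine ⟨c, ?_⟩
    obtain ⟨t, -, ht⟩ := exists_val_eq P (-1)
    obtain ⟨Ht, hHt⟩ := exists_family_param hK ht
    have hg := gam_eq hK P ht hHt hH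
    rw [hP.2] at hg
    have hne : LocRes.hasseD Ht 1 x ≠ 0 := hasseD_one_ne_zero hK hH hHt
    have hu : P.1 (LocRes.hasseD Ht 1 x) = 1 := (val_eq_one_iff P hne).2 hg.symm
    have hd : LocRes.hasseD Ht 1 (x - algebraMap k K c) = LocRes.hasseD Ht 1 x := by
      rw [LocRes.hasseD_apply, LocRes.hasseD_apply, map_sub, map_sub]
      have := hasseD_algebraMap (H := Ht) 1 c
      rw [LocRes.hasseD_apply] at this
      rw [this]; simp
    refine le_antisymm (by rwa [← zero_sub (1 : ℤ), ← lt_exp_iff_le, exp_zero]) (not_lt.1 fun hlt => ?_)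
    have h2 : P.1 (x - algebraMap k K c) ≤ exp (-((2 : ℕ) : ℤ)) := by
      rw [lt_exp_iff_le] at hlt
      exact hlt.trans (exp_le_exp.2 (by norm_num))
    have h3 := (val_le_exp_iff_hasseD hK ht hHt (hc.le) 2).1 h2 1 (by norm_num)
    rw [hd, hu] at h3
    exact lt_irrefl _ h3
  obtain ⟨P₀, hP₀⟩ : ∃ P₀ : FunFld.Place k K, P₀.ord x < 0 := by
    obtain ⟨P, hP⟩ := exists_place_val_lt_one hK.1 (y := x⁻¹) (fun h => hT (IsAlgebraic.inv_iff.1 h))
    rw [val_lt_one_iff P (inv_ne_zero hx0), ord_inv] at hP
    exact ⟨P, by omega⟩
  have hP₀R : P₀ ∈ R := by rw [hR, Set.Finite.mem_toFinset]; exact Or.inl hP₀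
  choose t ht0 ht using fun P : FunFld.Place k K => exists_val_eq P (-1)
  obtain ⟨y₁, hy₁⟩ := exists_approx R t (fun _ => -2)
  have hy₁v : ∀ P ∈ R, P.1 y₁ = exp (-1) := fun P hP => by
    have h := hy₁ P hP
    rw [← ht P, show y₁ = (y₁ - t P) + t P by ring]
    exact Valuation.map_add_eq_of_lt_right _ (h.trans_lt (by rw [ht, exp_lt_exp]; norm_num))
  let V : Submodule k K :=
    { carrier := {v | ∀ P ∈ R, P.1 v ≤ exp (-2)}
      add_mem' := fun {a b} ha hb P hP => (P.1.map_add a b).trans (max_le (ha P hP) (hb P hP))
      zero_mem' := fun P _ => by simp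
      smul_mem' := fun c a ha P hP => by
        rw [Algebra.smul_def, map_mul]; exact ((mul_le_mul' (P.2.1 c) (ha P hP)).trans_eq (one_mul _)) }
  haveI : Finite (IntermediateField F K) := (Field.exists_primitive_element_iff_finite_intermediateField F K).1
    ⟨inferInstance, Field.exists_primitive_element F K⟩
  haveI : Infinite k := IsAlgClosed.instInfinite
  set W : Submodule k K := Submodule.span k {y₁} ⊔ V with hW
  have hVL : ∀ L : IntermediateField F K, (∀ v ∈ V, v ∈ L) → L = ⊤ := by
    intro L hL
    refine eq_top_iff.2 fun a _ => ?_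
    obtain ⟨v, hv⟩ := exists_approx R t (fun _ => -2)
    -- a nonzero element with large zeros
    have hv1 : ∀ P ∈ R, P.1 v = exp (-1) := fun P hP => by
      rw [← ht P, show v = (v - t P) + t P by ring]
      exact Valuation.map_add_eq_of_lt_right _ ((hv P hP).trans_lt (by rw [ht, exp_lt_exp]; norm_num))
    have hv0 : v ≠ 0 := fun h => by
      have := hv1 P₀ hP₀R
      rw [h, map_zero] at this
      exact exp_ne_zero this.symm
    set N := (∑ P ∈ R, (-P.ord a).toNat) + 2 with hN
    have hvN : v ^ N ∈ V := fun P hP => by
      rw [map_pow, hv1 P hP, ← exp_nsmul, exp_le_exp, nsmul_eq_mul]; omega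
    have haN : a * v ^ N ∈ V := fun P hP => by
      rcases eq_or_ne a 0 with rfl | ha
      · simp
      have hle : (-P.ord a).toNat ≤ ∑ Q ∈ R, (-Q.ord a).toNat :=
        Finset.single_le_sum (f := fun Q => (-Q.ord a).toNat) (fun Q _ => Nat.zero_le _) hP
      rw [map_mul, map_pow, hv1 P hP, val_eq_exp P ha, ← exp_nsmul, ← exp_add, exp_le_exp, nsmul_eq_mul]
      omega
    have := mul_mem (hL _ haN) (inv_mem (hL _ hvN))
    rwa [mul_inv_cancel_right₀ (pow_ne_zero _ hv0)] at this
  obtain ⟨u, hu⟩ := Submodule.exists_forall_notMem_of_forall_ne_top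
    (fun L : Option {L : IntermediateField F K // L ≠ ⊤} =>
      (L.elim V fun L => Subalgebra.toSubmodule (L.1.restrictScalars k).toSubalgebra).comap W.subtype)
    (fun L htop => by
      cases L with
      | none =>
        have h : (⟨y₁, Submodule.mem_sup_left (Submodule.mem_span_singleton_self y₁)⟩ : W) ∈ V.comap W.subtype := by
          rw [show V.comap W.subtype = ⊤ from htop]; trivial
        have h1 : P₀.1 y₁ ≤ exp (-2) := (Submodule.mem_comap.1 h) P₀ hP₀R
        rw [hy₁v P₀ hP₀R, exp_le_exp] at h1
        omega
      | some L =>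
        refine L.2 (hVL L.1 fun v hv => ?_)
        have h : (⟨v, Submodule.mem_sup_right hv⟩ : W) ∈
            (Subalgebra.toSubmodule (L.1.restrictScalars k).toSubalgebra).comap W.subtype := by
          rw [show (Subalgebra.toSubmodule (L.1.restrictScalars k).toSubalgebra).comap W.subtype = ⊤ from htop]; trivial
        exact h)
  obtain ⟨a, ha, v, hv, huv⟩ := Submodule.mem_sup.1 u.2
  obtain ⟨c, rfl⟩ := Submodule.mem_span_singleton.1 ha
  have hc : c ≠ 0 := fun h => hu none (Submodule.mem_comap.2 (show (u : K) ∈ V by rw [← huv, h, zero_smul, zero_add]; exact hv))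
  have htop : IntermediateField.adjoin F ({(u : K)} : Set K) = ⊤ := by
    by_contra hne
    exact hu (some ⟨_, hne⟩) (IntermediateField.mem_adjoin_simple_self F (u : K))
  refine ⟨u, ?_, fun P => ?_⟩
  · have := congrArg (IntermediateField.restrictScalars k) htop
    rw [IntermediateField.adjoin_adjoin_left, IntermediateField.restrictScalars_top, Set.singleton_union] at this
    exact this
  · by_cases hP : P ∈ R
    · refine ⟨u, Submodule.subset_span (by simp), ?_⟩
      rw [← huv, Valuation.map_add_eq_of_lt_left, val_smul P hc, hy₁v P hP]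
      rw [val_smul P hc, hy₁v P hP]
      exact (hv P hP).trans_lt (by rw [exp_lt_exp]; norm_num)
    · obtain ⟨d, hd⟩ := hgood P hP
      refine ⟨x - algebraMap k K d, sub_mem (Submodule.subset_span (by simp)) ?_, hd⟩
      rw [Algebra.algebraMap_eq_smul_one]
      exact Submodule.smul_mem _ _ (Submodule.subset_span (by simp))

/-- Over an algebraically closed constant field, for every separating variable `x` of a function field
`K` of one variable (`K` separable over `k(x)`) there is `y` with `K = k(x, y)` such that the span
of `1, x, y` contains a local parameter at every place. (The published statement takes any `x`; this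
row takes `x` separating, which is what the published proof uses, since it works with the finitely
many places ramified over `k(x)`: for a constant `x` the conclusion fails for every `K`, and in
characteristic `p` it fails for `K = k(t)`, `x = t^p`, where every place is ramified over `k(x)` and
no element of the span has order one at the place at infinity or, if `y` is not a polynomial in `t`,
at a pole of `y`.) -/
theorem result
    (k K : Type*) [Field k] [IsAlgClosed k] [Field K] [Algebra k K]
    (hK : FunFld.IsFunctionField k K) (x : K)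
    (hsep : Algebra.IsSeparable (IntermediateField.adjoin k ({x} : Set K)) K) :
    ∃ y : K, IntermediateField.adjoin k ({x, y} : Set K) = ⊤ ∧
      ∀ P : FunFld.Place k K, ∃ f ∈ Submodule.span k ({1, x, y} : Set K),
        P.1 f = WithZero.exp (-1) := by
  exact main hK x hsep

end Groth.Agent.S11051
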