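import Groth.Statements.S11053
import Groth.Agent.FunFldLib.WStrong
import Mathlib.Data.Real.Basic

set_option autoImplicit false
open FunFld

namespace Groth.Agent.S11053

/-- Over an algebraically closed constant field, let `τ` be a `k`-embedding of the function field `K` of
genus `g` into itself, of degree `deg τ = [K : τ(K)]`. A place is a strong fixed point of `τ` when
`τ` maps its maximal ideal into the square of that ideal. For every integer `n > g` there are at
most `1 + deg τ + (n + deg τ / n) g + 2g²(g-1)/n` strong fixed points. -/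
theorem result
    (k K : Type*) [Field k] [IsAlgClosed k] [Field K] [Algebra k K]
    (hK : FunFld.IsFunctionField k K) (τ : K →ₐ[k] K) (n : ℕ)
    (hn : FunFld.genus k K < n) :
    {P : FunFld.Place k K | ∀ x : K, P.1 x < 1 → P.1 (τ x) ≤ WithZero.exp (-2)}.Finite ∧
    (Set.ncard {P : FunFld.Place k K | ∀ x : K, P.1 x < 1 → P.1 (τ x) ≤ WithZero.exp (-2)} : ℝ) ≤
      1 + Module.finrank τ.fieldRange K +
        (n + (Module.finrank τ.fieldRange K : ℝ) / n) * FunFld.genus k K +
        2 * (FunFld.genus k K : ℝ) ^ 2 * (FunFld.genus k K - 1) / n := by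
  classical
  set g := genus k K with hgdef
  set d := Module.finrank τ.fieldRange K with hddef
  set S := {P : FunFld.Place k K | ∀ x : K, P.1 x < 1 → P.1 (τ x) ≤ WithZero.exp (-2)} with hSdef
  have hRHS : (0 : ℝ) ≤ 1 + d + (n + (d : ℝ) / n) * g + 2 * (g : ℝ) ^ 2 * (g - 1) / n := by
    rcases Nat.eq_zero_or_pos g with h | h
    · rw [h]; simp; positivity
    · have : (1 : ℝ) ≤ g := by exact_mod_cast h
      have : (0 : ℝ) ≤ (g : ℝ) - 1 := by linarith
      positivity
  rcases S.eq_empty_or_nonempty with hS | ⟨P0, hP0⟩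
  · rw [hS]; simp only [Set.finite_empty, Set.ncard_empty, Nat.cast_zero, true_and]; exact hRHS
  have hstrong : FunFld.IsStrongFixedPt τ P0 := hP0
  have hdeg1 := FunFldLib.deg_eq_one hK P0
  set D : FunFld.Divisor k K := Finsupp.single P0 ((n + g : ℕ) : ℤ) with hD
  have hDdeg : D.deg = ((n + g : ℕ) : ℤ) := by rw [hD, FunFldLib.deg_single, hdeg1]; simp
  have hell : ell D = n + 1 := by
    have := FunFldLib.ell_large hK (D := D) (by rw [hDdeg]; push_cast; omega)
    rw [hDdeg] at this; push_cast at this; omega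
  haveI := FunFldLib.finite_L hK.1 D
  let b := Module.finBasisOfFinrankEq k (FunFld.L D) hell
  let φ : Fin (n + 1) → K := fun i => b i
  have hφ : LinearIndependent k φ := b.linearIndependent.map' (FunFld.L D).subtype (Submodule.ker_subtype _)
  have hspan : Submodule.span k (Set.range φ) = FunFld.L D := by
    rw [show φ = (FunFld.L D).subtype ∘ b from rfl, Set.range_comp, Submodule.span_image, b.span_eq, Submodule.map_subtype_top]
  have hmap : FunFld.mapDiv k φ = D := by
    refine FunFldLib.exact_unique (hspan ▸ FunFldLib.mapDiv_exact hK.1 φ (Or.inl fun i => hφ.ne_zero i))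
      (FunFldLib.exact_L_of_large hK fun Q => ?_)
    have h1 := FunFldLib.ell_large hK (D := D - Finsupp.single Q 1) (by
      rw [FunFldLib.deg_sub, hDdeg, FunFldLib.deg_single, FunFldLib.deg_eq_one hK Q]; push_cast; omega)
    rw [FunFldLib.deg_sub, hDdeg, FunFldLib.deg_single, FunFldLib.deg_eq_one hK Q] at h1
    push_cast at h1
    omega
  obtain ⟨x, hx, hx0, hox⟩ := FunFldLib.exists_ord_eq_of_large hK hdeg1 (m := n + g) (by omega)
  have hone : (1 : K) ∈ FunFld.L D := fun Q => by
    rw [map_one, ← WithZero.exp_zero, WithZero.exp_le_exp, hD, Finsupp.single_apply]; split_ifs <;> positivity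
  have hτφ : ¬ ∃ y : K, ∀ i, τ (φ i) = y * φ i := by
    rintro ⟨y, hy⟩
    have hlin : ∀ v ∈ FunFld.L D, τ v = y * v := fun v hv => by
      rw [← hspan] at hv
      obtain ⟨c, rfl⟩ := (Submodule.mem_span_range_iff_exists_fun k).1 hv
      rw [map_sum, Finset.mul_sum]
      exact Finset.sum_congr rfl fun i _ => by rw [map_smul, hy, mul_smul_comm]
    have hy1 : y = 1 := by
      have := hlin 1 hone
      rw [map_one, mul_one] at this; exact this.symm
    have hinv := hP0 x⁻¹ ((FunFldLib.val_lt_one_iff P0 (inv_ne_zero hx0)).2 (by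
      rw [FunFldLib.ord_inv, hox]; push_cast; omega))
    rw [map_inv₀ τ, hlin x hx, hy1, one_mul, FunFldLib.val_le_exp_iff P0 (inv_ne_zero hx0), FunFldLib.ord_inv, hox] at hinv
    have hx' : (n + g : ℕ) = 1 ∨ 2 ≤ n + g := by omega
    rcases hx' with h1 | h1
    · rw [h1] at hinv; simp at hinv
    -- a second function of pole order `n + g - 1`
    obtain ⟨x', hx'm, hx'0, hox'⟩ := FunFldLib.exists_ord_eq_of_large hK hdeg1 (m := n + g - 1) (by omega)
    have hx'D : x' ∈ FunFld.L D := FunFldLib.L_mono (FunFldLib.single_mono P0 (by omega)) hx'm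
    have h3 := hP0 (x' / x) ((FunFldLib.val_lt_one_iff P0 (div_ne_zero hx'0 hx0)).2 (by
      rw [FunFldLib.ord_div P0 hx'0 hx0, hox, hox']; push_cast; omega))
    rw [map_div₀ τ, hlin x hx, hlin x' hx'D, hy1, one_mul, one_mul, FunFldLib.val_le_exp_iff P0 (div_ne_zero hx'0 hx0),
      FunFldLib.ord_div P0 hx'0 hx0, hox, hox'] at h3
    omega
  obtain ⟨s, H, hH⟩ := FunFldLib.exists_separating_var hK
  obtain ⟨J, hJ⟩ := FunFldLib.exists_orders_hcol hK hφ τ hH
  obtain ⟨hfin, hcount⟩ := FunFldLib.strong_count hK τ hφ hτφ hH hJ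
  refine ⟨hfin, ?_⟩
  rw [hmap, hDdeg] at hcount
  have hn : 0 < n := by omega
  -- lower bound for the orders
  have hge : ∀ (a : ℕ) (ha : a < n), a ≤ J ⟨a, ha⟩ := by
    intro a
    induction a with
    | zero => exact fun _ => Nat.zero_le _
    | succ a ih => intro ha; have := hJ.1 (show (⟨a, by omega⟩ : Fin n) < ⟨a + 1, ha⟩ by simp); have := ih (by omega); omega
  -- upper bound for the orders
  have hJub : ∀ l : Fin n, J l ≤ (l : ℕ) + (if (l : ℕ) + g < n then 0 else g) := by
    obtain ⟨y, t, Ht, J', hHt, hy, ht, heff, hnorm, hli, hord, hJ', -⟩ := FunFldLib.exists_local hK τ hφ hH hJ P0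
    have h1 := S12606.result k K hK τ P0 hstrong hn (y • φ) hli heff hnorm (FunFldLib.not_multiple_scale τ hτφ hy) t ht Ht hHt
      J hord J' hJ'
    have hspan' : Submodule.span k (Set.range (y • φ)) = (FunFld.L D).map (LinearMap.mulLeft k y) := by
      rw [← hspan]
      exact FunFldLib.span_scale hφ (A := 1) (by rw [Matrix.det_one]; exact one_ne_zero) hy (fun i => by simp [Matrix.one_apply])
    have hyord : P0.ord y = ((n + g : ℕ) : ℤ) := by
      have h := FunFldLib.mapDiv_scale hK.1 φ (y • φ) (Or.inl fun i => hφ.ne_zero i) (Or.inl fun i => hli.ne_zero i) hy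
        (by rw [hspan', hspan])
      have h2 := congrArg (fun E : FunFld.Divisor k K => E P0) h
      simp only [Finsupp.sub_apply, FunFldLib.div_apply hK.1, FunFldLib.mapDiv_normalized hK.1 hli heff hnorm, hmap] at h2
      rw [hD, Finsupp.single_eq_same] at h2
      omega
    have hub : ∀ l, J' l ≤ n + g := fun l => by
      obtain ⟨-, f, hf, hfv⟩ := (FunFldLib.hcolAt_jump_iff (φ := y • φ) hK ht hHt hnorm _).1 ((hJ'.2 _).1 ⟨l, rfl⟩)
      rw [hspan'] at hf
      obtain ⟨v, hv, rfl⟩ := hf
      rw [LinearMap.mulLeft_apply] at hfv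
      have hv0 : v ≠ 0 := fun h => by rw [h, mul_zero, map_zero] at hfv; exact WithZero.exp_ne_zero hfv.symm
      rw [FunFldLib.val_eq_exp P0 (mul_ne_zero hy hv0), WithZero.exp_inj, FunFldLib.ord_mul P0 hy hv0, hyord] at hfv
      by_contra hlt
      have hpos : 0 < P0.ord v := by omega
      have hv' : v ∈ FunFld.L (0 : FunFld.Divisor k K) := fun Q => by
        have := hv Q
        rw [Finsupp.zero_apply]
        by_cases hQ : Q = P0
        · subst hQ
          rw [WithZero.exp_zero]
          exact ((FunFldLib.val_lt_one_iff Q hv0).2 hpos).le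
        · rwa [hD, Finsupp.single_eq_of_ne hQ] at this
      obtain ⟨c, rfl⟩ := hK.2 v (FunFldLib.isAlgebraic_of_mem_L_zero hK.1 hv')
      rw [FunFldLib.ord_algebraMap] at hpos; exact lt_irrefl _ hpos
    have hlow : ∀ j : ℕ, 1 ≤ j → j + g ≤ n → j ∈ Set.range J' := fun j hj hjn => by
      rw [hJ'.2 j, FunFldLib.hcolAt_jump_iff (φ := y • φ) hK ht hHt hnorm]
      obtain ⟨v, hv, hv0, hov⟩ := FunFldLib.exists_ord_eq_of_large hK hdeg1 (m := n + g - j) (by omega)
      refine ⟨hj, y * v, hspan' ▸ ⟨v, FunFldLib.L_mono (FunFldLib.single_mono P0 (by omega)) hv, rfl⟩, ?_⟩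
      rw [FunFldLib.val_eq_exp P0 (mul_ne_zero hy hv0), FunFldLib.ord_mul P0 hy hv0, hyord, hov]
      congr 1; omega
    have hfirst : J' ⟨0, hn⟩ ≥ 1 := FunFldLib.one_le_orders_at hK hnorm ht hHt hJ' _
    intro l
    have h := h1 l
    have hJl : J' l ≤ (l : ℕ) + 1 + (if (l : ℕ) + g < n then 0 else g) := by
      split_ifs with hlg
      · by_contra hlt
        rw [not_le] at hlt
        choose pre hpre using fun j : Fin ((l : ℕ) + 1) => hlow ((j : ℕ) + 1) (by omega) (by have := j.isLt; omega)
        have hprelt : ∀ j, (pre j : ℕ) < l := fun j => by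
          by_contra hge'
          have := hJ'.1.monotone (show l ≤ pre j from not_lt.1 hge')
          rw [hpre j] at this
          have := j.isLt; omega
        have hinj : Function.Injective fun j => (⟨(pre j : ℕ), hprelt j⟩ : Fin l) := fun a b hab => by
          have : pre a = pre b := Fin.ext (Fin.mk.inj_iff.1 hab)
          have h2 := hpre a; rw [this, hpre b] at h2
          exact Fin.ext (by omega)
        have := Fintype.card_le_of_injective _ hinj
        simp only [Fintype.card_fin] at this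
        omega
      · have : ∀ (m : ℕ) (l : Fin n), (l : ℕ) + m + 1 = n → J' l + m ≤ n + g := by
          intro m
          induction m with
          | zero => intro l _; exact hub l
          | succ m ih =>
            intro l hl
            have := hJ'.1 (show l < ⟨(l : ℕ) + 1, by omega⟩ from Fin.lt_def.2 (Nat.lt_succ_self _))
            have := ih ⟨(l : ℕ) + 1, by omega⟩ (by simp; omega)
            omega
        have := this (n - 1 - l) l (by have := l.isLt; omega)
        have := l.isLt
        omega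
    omega
  have hlow2 : (n : ℤ) * ((n : ℤ) - 1) ≤ 2 * ∑ l, (J l : ℤ) := by
    have : ∀ l : Fin n, ((l : ℕ) : ℤ) ≤ (J l : ℤ) := fun l => by exact_mod_cast hge l l.isLt
    refine le_trans ?_ (mul_le_mul_of_nonneg_left (Finset.sum_le_sum fun l _ => this l) (by norm_num))
    rw [Fin.sum_univ_eq_sum_range (fun i => (i : ℤ)), ← Nat.cast_sum]
    have := congrArg (Nat.cast : ℕ → ℤ) (Finset.sum_range_id_mul_two n)
    rw [Nat.cast_mul, Nat.cast_mul, show ((n - 1 : ℕ) : ℤ) = (n : ℤ) - 1 by omega] at this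
    push_cast at this ⊢; linarith
  have hup2 : 2 * ∑ l, (J l : ℤ) ≤ (n : ℤ) * ((n : ℤ) - 1) + 2 * (g : ℤ) ^ 2 := by
    have h2 : ∀ l : Fin n, (J l : ℤ) ≤ ((l : ℕ) : ℤ) + (if (l : ℕ) + g < n then 0 else (g : ℤ)) := fun l => by
      have := hJub l; split_ifs at this ⊢ <;> omega
    refine (mul_le_mul_of_nonneg_left (Finset.sum_le_sum fun l _ => h2 l) (by norm_num)).trans ?_
    rw [Finset.sum_add_distrib, Fin.sum_univ_eq_sum_range (fun i => (i : ℤ)), ← Nat.cast_sum,
      Fin.sum_univ_eq_sum_range (fun i => if i + g < n then (0 : ℤ) else (g : ℤ))]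
    have h3 : ∑ i ∈ Finset.range n, (if i + g < n then (0 : ℤ) else (g : ℤ)) = (g : ℤ) * g := by
      rw [Finset.sum_ite, Finset.sum_const_zero, zero_add, Finset.sum_const, nsmul_eq_mul]
      have : (Finset.range n).filter (fun i => ¬ i + g < n) = Finset.Ico (n - g) n := by
        ext i; simp only [Finset.mem_filter, Finset.mem_range, Finset.mem_Ico]; omega
      rw [this, Nat.card_Ico]
      congr 1; omega
    rw [h3]
    have := congrArg (Nat.cast : ℕ → ℤ) (Finset.sum_range_id_mul_two n)
    rw [Nat.cast_mul, Nat.cast_mul, show ((n - 1 : ℕ) : ℤ) = (n : ℤ) - 1 by omega] at this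
    push_cast at this ⊢; nlinarith
  have key : (n : ℤ) * (Set.ncard S : ℤ) ≤ n + n * d + (n * n + d) * g + 2 * (g : ℤ) ^ 2 * (g - 1) := by
    refine hcount.trans ?_
    push_cast
    rcases Nat.eq_zero_or_pos g with h | h
    · simp only [← hgdef, ← hddef, h] at hlow2 ⊢; push_cast; nlinarith
    · have hg1 : (1 : ℤ) ≤ g := by exact_mod_cast h
      simp only [← hgdef, ← hddef]
      nlinarith [mul_le_mul_of_nonneg_left hup2 (show (0 : ℤ) ≤ (g : ℤ) - 1 by omega)]
  have keyR : (n : ℝ) * (Set.ncard S : ℝ) ≤ n + n * d + (n * n + d) * g + 2 * (g : ℝ) ^ 2 * (g - 1) := by exact_mod_cast key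
  have hnR : (0 : ℝ) < n := by exact_mod_cast hn
  calc (Set.ncard S : ℝ) ≤ ((n : ℝ) + n * d + (n * n + d) * g + 2 * (g : ℝ) ^ 2 * (g - 1)) / n := by
        rw [le_div_iff₀ hnR]; linarith
    _ = 1 + d + (n + (d : ℝ) / n) * g + 2 * (g : ℝ) ^ 2 * (g - 1) / n := by field_simp

end Groth.Agent.S11053
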