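import Groth.Statements.S11057
import Groth.Agent.FunFldLib.Nonsingular

set_option autoImplicit false
open FunFld

namespace Groth.Agent.S11057

/-- Over an algebraically closed constant field, if `K` has degree at least `3` over every subfield
`k(x)` generated by a nonconstant element, then the canonical map (given by a basis of `L(D)` for a
canonical divisor `D`) is an embedding, i.e. nonsingular at every place. Here a projective map is
nonsingular at a place when its local ring there (quotients of polynomials over `k` in the ratios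
`φᵢ/φⱼ`, `φⱼ` of least order at the place, with denominator a unit there) is the whole valuation
ring. -/
theorem result
    (k K : Type*) [Field k] [IsAlgClosed k] [Field K] [Algebra k K]
    (hK : FunFld.IsFunctionField k K)
    (h2 : ∀ x : K, Transcendental k x →
      2 < Module.finrank (IntermediateField.adjoin k ({x} : Set K)) K)
    (D : FunFld.Divisor k K) (hD : FunFld.IsCanonical k K D) {n : ℕ} (φ : Fin (n + 1) → K)
    (hφ : LinearIndependent k φ) (hspan : Submodule.span k (Set.range φ) = FunFld.L D)
    (P : FunFld.Place k K) : FunFld.IsNonsingularAt φ P := by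
  classical
  -- two points never move in a pencil
  have key : ∀ E : FunFld.Divisor k K, 0 ≤ E → E.deg ≤ 2 → FunFld.ell E ≤ 1 := by
    intro E hE hd
    by_contra! h
    haveI := FunFldLib.finite_L hK.1 E
    haveI := (FunFldLib.ell_zero hK).1
    obtain ⟨x, hx, hx0⟩ : ∃ x ∈ FunFld.L E, x ∉ FunFld.L (0 : FunFld.Divisor k K) := by
      by_contra! hle
      have := Submodule.finrank_mono (show FunFld.L E ≤ FunFld.L (0 : FunFld.Divisor k K) from hle)
      have h1 := (FunFldLib.ell_zero hK).2
      simp only [FunFld.ell] at h h1
      omega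
    have hne : x ≠ 0 := fun h => hx0 (h ▸ zero_mem _)
    obtain ⟨Q, hQ⟩ : ∃ Q : FunFld.Place k K, Q.ord x < 0 := by
      by_contra! hall
      exact hx0 ((FunFldLib.mem_L_iff hne).2 fun Q => by simpa using hall Q)
    have hT := FunFldLib.transcendental_of_ord_ne_zero hK (P := Q) (x := x) (by omega)
    have h1 := FunFldLib.deg_poles hK.1 hT
    have h3 : ((-FunFld.div k x) ⊔ 0 : FunFld.Divisor k K).deg ≤ E.deg := FunFldLib.deg_mono fun R => by
      rw [Finsupp.sup_apply, Finsupp.neg_apply, Finsupp.zero_apply, FunFldLib.div_apply hK.1]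
      exact max_le (by have := (FunFldLib.mem_L_iff hne).1 hx R; omega) (hE R)
    have h4 := h2 x hT
    omega
  obtain ⟨hdeg, hell⟩ := FunFldLib.deg_canonical hK hD
  -- Riemann-Roch
  have rr : ∀ E : FunFld.Divisor k K, 0 ≤ E → E.deg ≤ 2 →
      (FunFld.ell (D - E) : ℤ) = FunFld.genus k K - E.deg := by
    intro E hE hd
    rw [FunFldLib.riemann_roch' hK hD E, FunFldLib.delta]
    have h1 := key E hE hd
    have h0 := (FunFldLib.ell_mono_le hK.1 (show (0 : FunFld.Divisor k K) ≤ E from hE)).1
    rw [(FunFldLib.ell_zero hK).2] at h0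
    omega
  refine FunFldLib.nonsingular_of_ell hK φ (fun i => hφ.ne_zero i) hspan (fun Q => ?_) (fun P Q => ?_) P
  · have h1 := rr (Finsupp.single Q 1) (by simp) (by rw [FunFldLib.deg_single, FunFldLib.deg_eq_one hK Q]; norm_num)
    rw [FunFldLib.deg_single, FunFldLib.deg_eq_one hK Q] at h1
    omega
  · have h1 := rr (Finsupp.single P 1 + Finsupp.single Q 1) (add_nonneg (by simp) (by simp)) (by
      rw [FunFldLib.deg_add, FunFldLib.deg_single, FunFldLib.deg_single, FunFldLib.deg_eq_one hK Q,
        FunFldLib.deg_eq_one hK P]; norm_num)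
    rw [FunFldLib.deg_add, FunFldLib.deg_single, FunFldLib.deg_single, FunFldLib.deg_eq_one hK Q,
        FunFldLib.deg_eq_one hK P, ← sub_sub] at h1
    omega

end Groth.Agent.S11057
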