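import Groth.Statements.S11058
import Groth.Agent.FunFldLib.Nonsingular

set_option autoImplicit false
open FunFld

namespace Groth.Agent.S11058

/-- Over an algebraically closed constant field, a birational projective map `φ = (φ₀, …, φₙ)` (the
ratios `φᵢ/φ₀` generate `K` over `k`) is nonsingular at all but finitely many places. Here a
projective map is nonsingular at a place when its local ring there (quotients of polynomials over
`k` in the ratios `φᵢ/φⱼ`, `φⱼ` of least order at the place, with denominator a unit there) is the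
whole valuation ring. -/
theorem result
    (k K : Type*) [Field k] [IsAlgClosed k] [Field K] [Algebra k K]
    (hK : FunFld.IsFunctionField k K) {n : ℕ} (hn : 1 ≤ n) (φ : Fin (n + 1) → K)
    (hφ : LinearIndependent k φ)
    (hbir : IntermediateField.adjoin k (Set.range fun i => φ i / φ 0) = ⊤) :
    {P : FunFld.Place k K | ¬ FunFld.IsNonsingularAt φ P}.Finite := by
  classical
  have h0 := Or.inl (b := ∃ i, φ i = 1) fun i => hφ.ne_zero i
  have hj0 : φ 0 ≠ 0 := hφ.ne_zero 0
  have hE := (FunFldLib.mapDiv_exact hK.1 φ h0).scale hK.1 hj0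
  rw [FunFldLib.map_span_ratio] at hE
  set S := Set.range fun i => φ i / φ 0 with hS
  set A := Algebra.adjoin k S with hA
  set E := FunFld.mapDiv k φ + FunFld.div k (φ 0) with hEdef
  have h1 : (1 : K) ∈ Submodule.span k S := Submodule.subset_span ⟨0, div_self hj0⟩
  have hnn := hE.nonneg h1
  have hVA : ∀ v ∈ Submodule.span k S, v ∈ A := fun v hv => Algebra.span_le_adjoin k S hv
  have hAB : ∀ a ∈ A, FunFldLib.InB E a := fun a ha => FunFldLib.adjoin_le_subB hE h1
    (Algebra.adjoin_mono Submodule.subset_span ha)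
  have hE0 : E ≠ 0 := by
    intro hzero
    obtain ⟨x, hx⟩ := FunFldLib.exists_transcendental hK
    have hle : IntermediateField.adjoin k S ≤ ⊥ := IntermediateField.adjoin_le_iff.2 fun v hv => by
      have hv' : v ∈ FunFld.L (0 : FunFld.Divisor k K) := fun Q => hzero ▸ hE.1 v (Submodule.subset_span hv) Q
      rw [FunFldLib.L_zero' hK] at hv'
      obtain ⟨c, rfl⟩ := hv'
      exact IntermediateField.algebraMap_mem _ c
    obtain ⟨c, rfl⟩ := IntermediateField.mem_bot.1 (hle (hbir ▸ IntermediateField.mem_top : x ∈ IntermediateField.adjoin k S))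
    exact hx (isAlgebraic_algebraMap c)
  obtain ⟨z, hzV, hz, hp⟩ := FunFldLib.exists_z hK hE h1 hE0
  have hz0 : z ≠ 0 := fun h => hz (h ▸ isAlgebraic_zero)
  obtain ⟨r, e, heB, hspan⟩ := FunFldLib.exists_span_B hK hnn hE0 hz0 hp
  have hzA : Algebra.adjoin k ({z} : Set K) ≤ A := Algebra.adjoin_le (Set.singleton_subset_iff.2 (hVA z hzV))
  -- a common denominator
  have hden : ∀ y : K, ∃ s ∈ A, s ≠ 0 ∧ y * s ∈ A := fun y => by
    obtain ⟨a, ha, s, hs, rfl⟩ := IntermediateField.mem_adjoin_iff_div.1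
      (show y ∈ IntermediateField.adjoin k S from hbir ▸ IntermediateField.mem_top)
    rcases eq_or_ne s 0 with rfl | hs0
    · exact ⟨1, one_mem A, one_ne_zero, by simp⟩
    · exact ⟨s, hs, hs0, by rwa [div_mul_cancel₀ _ hs0]⟩
  choose s hsA hs0 hse using fun i => hden (e i)
  set c := ∏ i, s i with hc
  have hcA : c ∈ A := Subalgebra.prod_mem A fun i _ => hsA i
  have hc0 : c ≠ 0 := Finset.prod_ne_zero_iff.2 fun i _ => hs0 i
  have hcf : ∀ f, FunFldLib.InB E f → c * f ∈ A := fun f hf => by
    obtain ⟨α, hα⟩ := hspan f hf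
    rw [hα, Finset.mul_sum]
    refine A.sum_mem fun i _ => ?_
    rw [mul_left_comm, hc, ← Finset.mul_prod_erase _ _ (Finset.mem_univ i), mul_comm (s i), mul_assoc, mul_comm (s i)]
    exact A.mul_mem (hzA (α i).2) (A.mul_mem (Subalgebra.prod_mem A fun l _ => hsA l) (hse i))
  refine (E.support.finite_toSet.union (FunFldLib.finite_zeros hK.1 c)).subset fun P hP => ?_
  by_contra hgood
  simp only [Set.mem_union, Finset.mem_coe, Finsupp.mem_support_iff, Set.mem_setOf_eq, not_or, not_not] at hgood
  obtain ⟨hPE, hPc⟩ := hgood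
  refine hP fun y hy => ?_
  obtain ⟨w, hw, hw1, hyw⟩ := FunFldLib.num_den hK hnn hE0 hPE hy
  have hc1 : P.1 c = 1 := le_antisymm (hAB c hcA P hPE.le)
    (not_lt.1 fun h => hPc ((FunFldLib.val_lt_one_iff P hc0).1 h))
  refine ⟨0, hj0, fun i => ?_, c * (y * w), hcf _ hyw, c * w, hcf _ hw, by rw [map_mul, hc1, hw1, mul_one], by ring⟩
  have := hE.1 _ (Submodule.subset_span ⟨i, rfl⟩) P
  rwa [hPE, WithZero.exp_zero, map_div₀, div_le_one₀ (zero_lt_iff.2 (FunFldLib.val_ne_zero P hj0))] at this

end Groth.Agent.S11058
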