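import Groth.Statements.S11060
import Groth.Agent.FunFldLib.PlaneModel2

set_option autoImplicit false
open FunFld

namespace Groth.Agent.S11060

/-- Over an algebraically closed constant field, a function field of genus `g` with a nonsingular plane
model has `g` a triangular number. Here a projective map is nonsingular at a place when its local
ring there (quotients of polynomials over `k` in the ratios `φᵢ/φⱼ`, `φⱼ` of least order at the
place, with denominator a unit there) is the whole valuation ring. -/
theorem result
    (k K : Type*) [Field k] [IsAlgClosed k] [Field K] [Algebra k K]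
    (hK : FunFld.IsFunctionField k K)
    (h : ∃ x y : K, IntermediateField.adjoin k ({x, y} : Set K) = ⊤ ∧
      ∀ P : FunFld.Place k K, FunFld.IsNonsingularAt ![(1 : K), x, y] P) :
    ∃ m : ℕ, 2 * FunFld.genus k K = m * (m + 1) := by
  obtain ⟨x, y, hxy, h⟩ := h
  obtain ⟨D, hE, hspan, -⟩ := FunFldLib.exists_pair hK x y hxy
  have h1 : 2 * (FunFld.genus k K : ℤ) = ((D.d : ℤ) - 1) * ((D.d : ℤ) - 2) := by
    refine (D.L_eq_T_iff hK (2 * FunFld.genus k K + D.d) le_rfl).1 (D.L_le_T hK (D.exact_W hK hE hspan) (fun P => ?_) _)
    have := FunFldLib.cond_of_nonsingular hK _ (Or.inr ⟨0, rfl⟩) (h P)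
    rwa [hspan, ← hE] at this
  have hd := D.d_pos hK.1
  refine ⟨D.d - 2, ?_⟩
  zify
  rcases Nat.lt_or_ge D.d 2 with h2 | h2
  · have h3 : D.d = 1 := by omega
    rw [h3] at h1 ⊢
    simpa using h1
  · rw [h1]
    push_cast [h2]
    ring

end Groth.Agent.S11060
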