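import Groth.Statements.S11061
import Mathlib
import Groth.Agent.FunFldLib.Zeta

set_option autoImplicit false
open FunFld

namespace Groth.Agent.S11061

/-- If `L_K(t) = ∏ (1 - αᵢ t)` is the numerator of the zeta function of a function field of one variable
over a finite field, then the constant-field extension `Kₙ` of degree `n` has `L_{Kₙ}(t) = ∏ (1 -
αᵢⁿ t)`. -/
theorem result
    (k K k' K' : Type*) [Field k] [Finite k] [Field K] [Algebra k K] [Field k'] [Finite k']
    [Field K'] [Algebra k k'] [Algebra K K'] [Algebra k' K'] (hK : FunFld.IsFunctionField k K)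
    (hK' : FunFld.IsFunctionField k' K') (hce : FunFld.IsConstExt k K k' K')
    (α : Fin (2 * FunFld.genus k K) → ℂ)
    (hα : PowerSeries.map (Int.castRingHom ℂ) (FunFld.numerZ k K) =
      ((∏ i, (1 - Polynomial.C (α i) * Polynomial.X) : Polynomial ℂ) : PowerSeries ℂ)) :
    PowerSeries.map (Int.castRingHom ℂ) (FunFld.numerZ k' K') =
      ((∏ i, (1 - Polynomial.C (α i ^ Module.finrank k k') * Polynomial.X) : Polynomial ℂ) :
        PowerSeries ℂ) := by
  classical
  letI : Algebra k K' := ((algebraMap K K').comp (algebraMap k K)).toAlgebra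
  haveI : IsScalarTower k K K' := IsScalarTower.of_algebraMap_eq fun _ => rfl
  haveI : IsScalarTower k k' K' := IsScalarTower.of_algebraMap_eq fun c => hce.1 c
  haveI : FiniteDimensional k k' := Module.Finite.of_finite
  haveI : FiniteDimensional K K' := Module.finite_of_finrank_pos (by rw [hce.2.2]; exact Module.finrank_pos)
  have hN : ∀ {n : ℕ}, 0 < n → Groth.Agent.FunFldLib.NN k' K' n = Groth.Agent.FunFldLib.NN k K (Module.finrank k k' * n) :=
    fun hn => Groth.Agent.FunFldLib.NN_constExt hK hce.2.1 hce.2.2 hK'.1 hn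
  set r := Module.finrank k k' with hr
  have hpos : 0 < r := Module.finrank_pos
  have hq : Nat.card k' = Nat.card k ^ r := Module.natCard_eq_pow_finrank
  set G : PowerSeries ℂ :=
    ((∏ i, (1 - Polynomial.C (α i ^ r) * Polynomial.X) : Polynomial ℂ) : PowerSeries ℂ) with hG
  have hθG : Groth.Agent.FunFldLib.theta G = G * ∑ i, -Groth.Agent.FunFldLib.geo (α i ^ r) := by
    rw [hG, ← Polynomial.coeToPowerSeries.ringHom_apply, map_prod]
    refine Groth.Agent.FunFldLib.theta_prod_of _ fun i _ => ?_
    simpa using Groth.Agent.FunFldLib.theta_linear (α i ^ r)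
  have h1 : Groth.Agent.FunFldLib.theta (FunFld.numerZ k' K') = FunFld.numerZ k' K' *
      (-Groth.Agent.FunFldLib.geo 1 + -Groth.Agent.FunFldLib.geo (Nat.card k' : ℤ) + Groth.Agent.FunFldLib.Nser k' K') := by
    refine Groth.Agent.FunFldLib.theta_mul_of (Groth.Agent.FunFldLib.theta_mul_of ?_
      (Groth.Agent.FunFldLib.theta_linear _)) (Groth.Agent.FunFldLib.theta_zetaZ hK'.1)
    simpa using Groth.Agent.FunFldLib.theta_linear (1 : ℤ)
  have hU : PowerSeries.map (Int.castRingHom ℂ) (-Groth.Agent.FunFldLib.geo 1 + -Groth.Agent.FunFldLib.geo (Nat.card k' : ℤ) +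
      Groth.Agent.FunFldLib.Nser k' K') = ∑ i, -Groth.Agent.FunFldLib.geo (α i ^ r) := by
    ext n
    simp only [map_add, map_neg, map_sum, PowerSeries.coeff_map]
    rcases n with _ | m
    · simp [Groth.Agent.FunFldLib.coeff_zero_geo, Groth.Agent.FunFldLib.coeff_zero_Nser]
    · have h := Groth.Agent.FunFldLib.newton hK.1 α hα (n := r * (m + 1)) (Nat.mul_pos hpos m.succ_pos)
      simp only [Groth.Agent.FunFldLib.coeff_geo_succ, Groth.Agent.FunFldLib.coeff_Nser m.succ_pos, hN m.succ_pos,
        eq_intCast, Int.cast_pow, Int.cast_one, Int.cast_natCast, one_pow, Finset.sum_neg_distrib, ← pow_mul]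
      rw [hq, h]
      push_cast
      ring
  refine Groth.Agent.FunFldLib.theta_eq_unique (U := ∑ i, -Groth.Agent.FunFldLib.geo (α i ^ r)) ?_ ?_ hθG ?_
  · rw [map_sum]; exact Finset.sum_eq_zero fun i _ => by rw [map_neg, Groth.Agent.FunFldLib.coeff_zero_geo, neg_zero]
  · rw [← Groth.Agent.FunFldLib.map_theta, h1, map_mul, hU]
  · rw [PowerSeries.coeff_map, Groth.Agent.FunFldLib.constantCoeff_numerZ hK'.1, hG, Polynomial.coeff_coe,
      Polynomial.coeff_zero_eq_eval_zero, Polynomial.eval_prod]
    simp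

end Groth.Agent.S11061
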