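import Groth.Statements.S11063
import Groth.Agent.FunFldLib.Gaps

set_option autoImplicit false
open FunFld

namespace Groth.Agent.S11063

/-- Over an algebraically closed constant field, for a place `P` of a function field of genus `g` and `1
≤ l ≤ g`, the `l`-th gap number at `P` is at most `2l - 1`, i.e. at least `l` of the integers `1 ≤ m
≤ 2l - 1` satisfy `L(mP) = L((m-1)P)`. (The published statement bounds the `l`-th order of the
canonical map at `P` by `2l`; the orders of the canonical map at `P` are the gap numbers at `P` less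
one, which gives the form stated here.) -/
theorem result
    (k K : Type*) [Field k] [IsAlgClosed k] [Field K] [Algebra k K]
    (hK : FunFld.IsFunctionField k K) (P : FunFld.Place k K) (l : ℕ)
    (hl : 1 ≤ l) (hlg : l ≤ FunFld.genus k K) :
    l ≤ Set.ncard {m : ℕ | 1 ≤ m ∧ m ≤ 2 * l - 1 ∧
      FunFld.L (Finsupp.single P (m : ℤ)) = FunFld.L (Finsupp.single P ((m : ℤ) - 1))} := by
  classical
  have hP := FunFldLib.deg_eq_one hK P
  have hN := FunFldLib.ncard_gapSet hK hP (2 * FunFld.genus k K)
  have hell := FunFldLib.ell_large hK (D := Finsupp.single P ((2 * FunFld.genus k K : ℕ) : ℤ))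
    (by rw [FunFldLib.deg_single, hP]; omega)
  rw [FunFldLib.deg_single, hP] at hell
  have hex : ∃ m, l ≤ (FunFldLib.gapSet P m).ncard := ⟨2 * FunFld.genus k K, by omega⟩
  have hm2 := Nat.find_spec hex
  set m := Nat.find hex
  have hsame : 0 < m → (FunFldLib.gapSet P (m - 1)).ncard < l := fun h => not_le.1 (Nat.find_min hex (by omega))
  have hm0 : 0 < m := by
    by_contra h
    have he : FunFldLib.gapSet P m = ∅ := Set.eq_empty_iff_forall_notMem.2 fun j hj => by
      have := hj.1; have := hj.2.1; omega
    rw [he, Set.ncard_empty] at hm2; omega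
  have hgap : FunFld.L (Finsupp.single P (m : ℤ)) = FunFld.L (Finsupp.single P ((m : ℤ) - 1)) := by
    by_contra hne
    have : FunFldLib.gapSet P m ⊆ FunFldLib.gapSet P (m - 1) := fun j ⟨a, b, d⟩ => by
      rcases eq_or_ne j m with rfl | hj
      · exact absurd d hne
      · exact ⟨a, by omega, d⟩
    have := Set.ncard_le_ncard this (FunFldLib.gapSet_finite P _)
    have := hsame hm0
    omega
  have h1 := FunFldLib.gap_pairs hK hP m hgap
  have h2 := hsame hm0
  refine hm2.trans (Set.ncard_le_ncard (fun j ⟨a, b, d⟩ => ⟨a, by omega, d⟩)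
    ((Set.finite_Icc 1 (2 * l - 1)).subset fun j hj => ⟨hj.1, hj.2.1⟩))

end Groth.Agent.S11063
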