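import Groth.Statements.S11066
import Groth.Agent.FunFldLib.Nonsingular

set_option autoImplicit false
open FunFld

namespace Groth.Agent.S11066

/-- Over an algebraically closed constant field, for an effective projective map `φ` normalized at the
place `P` (`1` in the span of the entries, all entries integral at `P`), the local ring of `φ` at
`P` has an element of order one at `P` (a local parameter) exactly when the span of the entries has
one. The local ring consists of the quotients of polynomials over `k` in the ratios `φᵢ/φⱼ`, `φⱼ` of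
least order at `P`, with denominator a unit at `P`. -/
theorem result
    (k K : Type*) [Field k] [IsAlgClosed k] [Field K] [Algebra k K]
    (hK : FunFld.IsFunctionField k K) {n : ℕ} (φ : Fin (n + 1) → K)
    (P : FunFld.Place k K) (heff : (1 : K) ∈ Submodule.span k (Set.range φ))
    (hnorm : ∀ i, P.1 (φ i) ≤ 1) :
    (∃ t : K, FunFld.InLocRing φ P t ∧ P.1 t = WithZero.exp (-1)) ↔
      ∃ t ∈ Submodule.span k (Set.range φ), P.1 t = WithZero.exp (-1) := by
  classical
  -- an entry which is a unit at P
  obtain ⟨j0, hj0⟩ : ∃ j, P.1 (φ j) = 1 := by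
    by_contra! hne
    have hle : Submodule.span k (Set.range φ) ≤ FunFldLib.F P (-1) := Submodule.span_le.2 (by
      rintro _ ⟨i, rfl⟩
      exact FunFldLib.mem_F.2 ((FunFldLib.lt_one_iff_le P _).1 (lt_of_le_of_ne (hnorm i) (hne i))))
    have := (FunFldLib.lt_one_iff_le P 1).2 (FunFldLib.mem_F.1 (hle heff))
    simp at this
  constructor
  · rintro ⟨t, ⟨j, hjne, hj, a, ha, w, hw, hw1, htw⟩, htP⟩
    by_contra! h
    have hjP : P.1 (φ j) = 1 := le_antisymm (hnorm j) (hj0.ge.trans (hj j0))
    have h2 : (WithZero.exp (-2) : WithZero (Multiplicative ℤ)) ≤ 1 := by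
      rw [← WithZero.exp_zero, WithZero.exp_le_exp]; omega
    have hsub : Algebra.adjoin k (Set.range fun i => φ i / φ j) ≤
        FunFldLib.congrAlg P P (WithZero.exp (-2)) (WithZero.exp (-2)) h2 h2 := by
      refine Algebra.adjoin_le ?_
      rintro _ ⟨i, rfl⟩
      obtain ⟨c, hc⟩ := FunFldLib.exists_const hK P (y := φ i / φ j) (by rw [map_div₀, hjP, div_one]; exact hnorm i)
      have hle := (FunFldLib.lt_one_iff_le P _).1 hc
      have hne : P.1 (φ i / φ j - algebraMap k K c) ≠ WithZero.exp (-1) := fun he => by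
        refine h _ (sub_mem (Submodule.subset_span ⟨i, rfl⟩) (Submodule.smul_mem _ c (Submodule.subset_span ⟨j, rfl⟩))) ?_
        rw [show φ i - c • φ j = (φ i / φ j - algebraMap k K c) * φ j by
          rw [sub_mul, div_mul_cancel₀ _ hjne, Algebra.smul_def], map_mul, he, hjP, mul_one]
      have := (FunFldLib.lt_exp_iff_le P _ (-1)).1 (lt_of_le_of_ne hle hne)
      exact ⟨c, by simpa using this, by simpa using this⟩
    obtain ⟨c, hc, -⟩ := hsub ha
    have haP : P.1 a = WithZero.exp (-1) := by rw [← htw, map_mul, hw1, mul_one, htP]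
    have hc0 : c = 0 := FunFldLib.const_eq_zero (P := P) (by
      rw [show algebraMap k K c = a - (a - algebraMap k K c) by ring]
      refine (P.1.map_sub _ _).trans_lt (max_lt (haP ▸ FunFldLib.exp_neg_one_lt_one) (hc.trans_lt ?_))
      rw [← WithZero.exp_zero, WithZero.exp_lt_exp]; omega)
    rw [hc0, map_zero, sub_zero, haP, WithZero.exp_le_exp] at hc
    omega
  · rintro ⟨t, ht, htP⟩
    have hj0ne : φ j0 ≠ 0 := fun h => by simp [h] at hj0
    refine ⟨t / φ j0, FunFldLib.inLoc_of_chart φ P hj0ne (fun i => (hnorm i).trans hj0.ge) ?_, by rw [map_div₀, hj0, div_one, htP]⟩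
    refine Algebra.span_le_adjoin k _ ?_
    rw [← FunFldLib.map_span_ratio φ j0]
    exact ⟨t, ht, by simp [div_eq_inv_mul]⟩

end Groth.Agent.S11066
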