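import Groth.Statements.S11067
import Groth.Agent.S11014
import Groth.Agent.FunFldLib.RatPlace

set_option autoImplicit false
open FunFld

namespace Groth.Agent.S11067

open Polynomial in
theorem poly_of_integral {k K : Type*} [Field k] [Field K] [Algebra k K] {x : K} (hx : Transcendental k x)
    (c : IntermediateField.adjoin k ({x} : Set K)) {p : Polynomial (Polynomial k)} (hp : p.Monic)
    (h : eval₂ (aeval (IntermediateField.AdjoinSimple.gen k x)).toRingHom c p = 0) :
    ∃ r : Polynomial k, c = aeval (IntermediateField.AdjoinSimple.gen k x) r := by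
  set e := RatFunc.algEquivOfTranscendental x hx
  have hev : ∀ r : Polynomial k, e.symm (aeval (IntermediateField.AdjoinSimple.gen k x) r) = algebraMap (Polynomial k) (RatFunc k) r :=
    fun r => RatFunc.algEquivOfTranscendental_symm_aeval x hx r
  have hi : IsIntegral (Polynomial k) (e.symm c) := by
    refine ⟨p, hp, ?_⟩
    have h2 := congrArg e.symm.toRingEquiv.toRingHom h
    rw [hom_eval₂, map_zero] at h2
    rw [show algebraMap (Polynomial k) (RatFunc k) = e.symm.toRingEquiv.toRingHom.comp
      (aeval (IntermediateField.AdjoinSimple.gen k x)).toRingHom from RingHom.ext fun r => (hev r).symm]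
    exact h2
  obtain ⟨r, hr⟩ := IsIntegrallyClosed.isIntegral_iff.1 hi
  exact ⟨r, e.symm.injective ((hev r).trans hr).symm⟩

open Groth.Agent.FunFldLib Polynomial in
theorem main {k K : Type*} [Field k] [IsAlgClosed k] [Field K] [Algebra k K]
    (hK : FunFld.IsFunctionField k K) (x y : K) (hx : Transcendental k x)
    (hxy : IntermediateField.adjoin k ({x, y} : Set K) = ⊤)
    (hy : IsIntegral (Algebra.adjoin k ({x} : Set K)) y) :
    (Algebra.adjoin k ({x, y} : Set K) : Set K) =
      ⋂ (P : FunFld.Place k (IntermediateField.adjoin k ({x} : Set K)))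
        (_ : P.1 ⟨x, IntermediateField.mem_adjoin_simple_self k x⟩ ≤ 1),
        (Subring.closure
          ((algebraMap (IntermediateField.adjoin k ({x} : Set K)) K '' (P.O : Set _)) ∪ {y}) :
          Set K) := by
  classical
  set F := IntermediateField.adjoin k ({x} : Set K) with hF
  set g : F := IntermediateField.AdjoinSimple.gen k x with hg
  have hxA : x ∈ Algebra.adjoin k ({x, y} : Set K) := Algebra.subset_adjoin (Set.mem_insert _ _)
  have hyA : y ∈ Algebra.adjoin k ({x, y} : Set K) := Algebra.subset_adjoin (Set.mem_insert_of_mem _ rfl)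
  have hval : ∀ (P : FunFld.Place k F), P.1 g ≤ 1 → ∀ r : Polynomial k, P.1 (aeval g r) ≤ 1 := fun P hP r =>
    val_aeval_le_one P.1 P.2.1 hP r
  -- `y` is integral over `k[X]`
  obtain ⟨p, hpm, hp⟩ : ∃ p : Polynomial (Polynomial k), p.Monic ∧
      (p.map (aeval g).toRingHom).eval₂ (algebraMap F K) y = 0 := by
    obtain ⟨q, hq, hqy⟩ := hy
    have hsurj : ∀ a : Algebra.adjoin k ({x} : Set K), ∃ r : Polynomial k, aeval x r = (a : K) := fun a => by
      exact (Algebra.adjoin_singleton_eq_range_aeval k x).le a.2
    let φ : Polynomial k →+* Algebra.adjoin k ({x} : Set K) :=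
      (aeval x : Polynomial k →ₐ[k] K).toRingHom.codRestrict (Algebra.adjoin k ({x} : Set K)) fun r => aeval_mem_adjoin_singleton k x
    have hφ : Function.Surjective φ := fun a => by
      obtain ⟨r, hr⟩ := hsurj a
      exact ⟨r, Subtype.ext hr⟩
    obtain ⟨p, hp, -, hpm⟩ := lifts_and_degree_eq_and_monic (f := φ)
      ((lifts_iff_coeff_lifts _).2 fun i => hφ (q.coeff i)) hq
    refine ⟨p, hpm, ?_⟩
    rw [← hp, eval₂_map] at hqy
    rw [eval₂_map, ← hqy]
    congr 1
    refine RingHom.ext fun r => ?_
    show algebraMap F K (aeval g r) = aeval x r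
    rw [← aeval_algebraMap_apply]
    rfl
  have hpm' : (p.map (aeval g).toRingHom).Monic := hpm.map _
  have hyF : IsIntegral F y := ⟨_, hpm', hp⟩
  set m := minpoly F y with hm
  have hmm : m.Monic := minpoly.monic hyF
  have hcoef : ∀ i, ∃ r : Polynomial k, m.coeff i = aeval g r := fun i => by
    letI := (aeval g : Polynomial k →ₐ[k] F).toRingHom.toAlgebra
    have h := isIntegral_coeff_of_dvd p m hpm hmm (minpoly.dvd F y hp) i
    obtain ⟨q, hq, hq0⟩ := h
    exact poly_of_integral hx _ hq hq0
  have htop : IntermediateField.adjoin F ({y} : Set K) = ⊤ := by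
    rw [← IntermediateField.restrictScalars_eq_top_iff (K := k), hF, IntermediateField.adjoin_adjoin_left,
      Set.singleton_union]
    exact hxy
  ext z
  simp only [Set.mem_iInter, SetLike.mem_coe]
  constructor
  · intro hz P hP
    have hsub : ∀ c : F, P.1 c ≤ 1 → algebraMap F K c ∈ Subring.closure (algebraMap F K '' (P.O : Set _) ∪ {y}) :=
      fun c hc => Subring.subset_closure (Or.inl ⟨c, hc, rfl⟩)
    induction hz using Algebra.adjoin_induction with
    | mem w hw =>
      rcases hw with rfl | rfl
      · exact hsub g hP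
      · exact Subring.subset_closure (Or.inr rfl)
    | algebraMap c => rw [IsScalarTower.algebraMap_apply k F K]; exact hsub _ (P.2.1 c)
    | add a b _ _ ha hb => exact add_mem ha hb
    | mul a b _ _ ha hb => exact mul_mem ha hb
  · intro hz
    obtain ⟨G₀, hG₀, hGz⟩ : ∃ G : Polynomial F, G.degree < m.degree ∧ aeval y G = z := by
      have hzA : z ∈ Algebra.adjoin F ({y} : Set K) := by
        rw [← IntermediateField.adjoin_simple_toSubalgebra_of_isAlgebraic hyF.isAlgebraic, htop]; trivial
      rw [Algebra.adjoin_singleton_eq_range_aeval] at hzA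
      obtain ⟨G, hG⟩ := hzA
      replace hG : aeval y G = z := hG
      refine ⟨G %ₘ m, degree_modByMonic_lt G hmm, ?_⟩
      rw [← hG]
      conv_rhs => rw [← modByMonic_add_div G m]
      rw [map_add, map_mul, hm, minpoly.aeval, zero_mul, add_zero]
    have hint : ∀ (P : FunFld.Place k F), P.1 g ≤ 1 → ∀ i, P.1 (G₀.coeff i) ≤ 1 := by
      intro P hP i
      let ev : Polynomial P.O →+* K := (aeval y : Polynomial F →ₐ[F] K).toRingHom.comp (mapRingHom P.O.subtype)
      have hle : Subring.closure (algebraMap F K '' (P.O : Set _) ∪ {y}) ≤ ev.range := by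
        rw [Subring.closure_le]
        rintro w (⟨c, hc, rfl⟩ | rfl)
        · exact ⟨C ⟨c, hc⟩, by simp [ev]⟩
        · exact ⟨X, by simp [ev]⟩
      obtain ⟨G, hG⟩ := hle (hz P hP)
      obtain ⟨mO, hmO, -, hmOm⟩ := lifts_and_degree_eq_and_monic (f := P.O.subtype)
        ((lifts_iff_coeff_lifts _).2 fun j => by
          obtain ⟨r, hr⟩ := hcoef j
          exact ⟨⟨m.coeff j, (Valuation.mem_valuationSubring_iff P.1 _).2 (hr ▸ hval P hP r)⟩, rfl⟩) hmm
      have h1 : (G %ₘ mO).map P.O.subtype = (G.map P.O.subtype) %ₘ m := by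
        rw [map_modByMonic _ hmOm, hmO]
      have h2 : aeval y ((G.map P.O.subtype) %ₘ m) = z := by
        have h3 : aeval y (G.map P.O.subtype) = z := hG
        rw [← h3]
        conv_rhs => rw [← modByMonic_add_div (G.map P.O.subtype) m]
        rw [map_add, map_mul, hm, minpoly.aeval, zero_mul, add_zero]
      have h4 : G₀ = (G.map P.O.subtype) %ₘ m := by
        by_contra hne
        have hd := minpoly.degree_le_of_ne_zero F y (sub_ne_zero.2 hne) (by rw [map_sub, hGz, h2, sub_self])
        exact absurd hd (not_le.2 ((degree_sub_le _ _).trans_lt (max_lt hG₀ (degree_modByMonic_lt _ hmm))))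
      rw [h4, ← h1, coeff_map]
      exact (Valuation.mem_valuationSubring_iff P.1 _).1 ((G %ₘ mO).coeff i).2
    set e := RatFunc.algEquivOfTranscendental x hx
    have hR := ratFunc_isFunctionField k
    have hmem : ∀ i, ∃ r : Polynomial k, G₀.coeff i = aeval g r := fun i => by
      obtain ⟨r, hr⟩ := Groth.Agent.S11014.exists_poly hR (x := (RatFunc.X : RatFunc k)) RatFunc.transcendental_X
        ⟨e.symm (G₀.coeff i), by rw [RatFunc.adjoin_X]; trivial⟩ (fun P₀ hP₀ => by
          let P : FunFld.Place k F := ⟨P₀.1.comap (e.symm : F →+* RatFunc k), fun c => by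
            rw [Valuation.comap_apply]; show P₀.1 (e.symm (algebraMap k F c)) ≤ 1
            rw [e.symm.commutes]; exact P₀.2.1 c, fun u => by
            obtain ⟨w, hw⟩ := P₀.2.2 u
            exact ⟨e w, by rw [Valuation.comap_apply]; show P₀.1 (e.symm (e w)) = u; rw [e.symm_apply_apply, hw]⟩⟩
          have hgX : e.symm g = RatFunc.X := RatFunc.algEquivOfTranscendental_symm_gen x hx
          have hPg : P.1 g ≤ 1 := by
            show P₀.1 (e.symm g) ≤ 1
            rw [hgX]; exact (val_le_one_iff P₀ RatFunc.X_ne_zero).2 hP₀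
          rcases eq_or_ne (e.symm (G₀.coeff i)) 0 with h | h
          · show 0 ≤ P₀.ord (e.symm (G₀.coeff i))
            rw [h, ord_zero]
          · exact (val_le_one_iff P₀ h).1 (hint P hPg i))
      refine ⟨r, e.symm.injective ?_⟩
      rw [show e.symm (aeval g r) = algebraMap (Polynomial k) (RatFunc k) r from RatFunc.algEquivOfTranscendental_symm_aeval x hx r]
      exact (hr : e.symm (G₀.coeff i) = aeval (RatFunc.X : RatFunc k) r).trans
        (by rw [← RatFunc.algebraMap_X, aeval_algebraMap_apply, aeval_X_left_apply])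
    rw [← hGz, aeval_eq_sum_range]
    refine Subalgebra.sum_mem _ fun i _ => ?_
    obtain ⟨r, hr⟩ := hmem i
    rw [Algebra.smul_def, hr, show algebraMap F K (aeval g r) = aeval x r from (aeval_algebraMap_apply K g r).symm]
    exact mul_mem (Algebra.adjoin_mono (Set.singleton_subset_iff.2 (Set.mem_insert x _)) (aeval_mem_adjoin_singleton k x))
      (pow_mem hyA i)

/-- Over an algebraically closed constant field, for a plane curve with natural map `(1 : x : y)` (so `K
= k(x, y)`) and `y` integral over `k[x]`, the ring `k[x, y]` is the intersection of the rings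
`O_P[y]` over the places `P` of `k(x)` at which `x` is integral. -/
theorem result
    (k K : Type*) [Field k] [IsAlgClosed k] [Field K] [Algebra k K]
    (hK : FunFld.IsFunctionField k K) (x y : K) (hx : Transcendental k x)
    (hxy : IntermediateField.adjoin k ({x, y} : Set K) = ⊤)
    (hy : IsIntegral (Algebra.adjoin k ({x} : Set K)) y) :
    (Algebra.adjoin k ({x, y} : Set K) : Set K) =
      ⋂ (P : FunFld.Place k (IntermediateField.adjoin k ({x} : Set K)))
        (_ : P.1 ⟨x, IntermediateField.mem_adjoin_simple_self k x⟩ ≤ 1),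
        (Subring.closure
          ((algebraMap (IntermediateField.adjoin k ({x} : Set K)) K '' (P.O : Set _)) ∪ {y}) :
          Set K) := by
  exact main hK x y hx hxy hy

end Groth.Agent.S11067
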