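import Groth.Statements.S11068
import Groth.Agent.FunFldLib.FrobCount

set_option autoImplicit false
open FunFld

namespace Groth.Agent.S11068

theorem pow_sub_pow_lt {F Γ : Type*} [Field F] [LinearOrderedCommGroupWithZero Γ] (v : Valuation F Γ) {a b : F}
    (ha : v a ≤ 1) (hb : v b ≤ 1) (h : v (a - b) < 1) (e : ℕ) : v (a ^ e - b ^ e) < 1 := by
  rw [← geom_sum₂_mul, map_mul]
  refine mul_lt_one_of_nonneg_of_lt_one_right ?_ zero_le h
  refine v.map_sum_le fun i _ => ?_
  rw [map_mul, map_pow, map_pow]
  exact mul_le_one' (pow_le_one₀ zero_le ha) (pow_le_one₀ zero_le hb)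

open Groth.Agent.FunFldLib Polynomial in
theorem core {k K kb Kb : Type*} [Field k] [Finite k] [Field K] [Algebra k K] [Field kb] [Algebra k kb]
    [IsAlgClosure k kb] [Field Kb] [Algebra K Kb] [Algebra kb Kb]
    (hK : FunFld.IsFunctionField k K)
    (hc : ∀ c : k, algebraMap K Kb (algebraMap k K c) = algebraMap kb Kb (algebraMap k kb c))
    (hgen : Algebra.adjoin K (Set.range (algebraMap kb Kb)) = ⊤)
    (F : Kb →+* Kb) (hF1 : ∀ c : kb, F (algebraMap kb Kb c) = algebraMap kb Kb c)
    (hF2 : ∀ x : K, F (algebraMap K Kb x) = algebraMap K Kb x ^ Nat.card k)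
    (Q : FunFld.Place kb Kb) :
    (∀ z : Kb, Q.1 (F z) < 1 ↔ Q.1 z < 1) ↔
      ∃ P : FunFld.Place k K, (∀ x : K, Q.1 (algebraMap K Kb x) ≤ 1 ↔ P.1 x ≤ 1) ∧ P.deg = 1 := by
  classical
  haveI := Fintype.ofFinite k
  haveI : IsAlgClosed kb := IsAlgClosure.isAlgClosed k
  set q := Nat.card k with hq
  have hq1 : 1 ≤ q := Nat.card_pos
  have hFk : ∀ r : k, r ^ q = r := fun r => by rw [hq, Nat.card_eq_fintype_card]; exact FiniteField.pow_card r
  set B := Module.Free.chooseBasis k kb
  set w : Module.Free.ChooseBasisIndex k kb → Kb := fun j => algebraMap kb Kb (B j) with hw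
  have hspan : ∀ z : Kb, z ∈ Submodule.span K (Set.range w) := by
    intro z
    have h1 : z ∈ Submodule.span K ((Algebra.adjoin K (Set.range (algebraMap kb Kb))) : Set Kb) :=
      Submodule.subset_span (by rw [hgen]; trivial)
    have h2 : Subalgebra.toSubmodule (Algebra.adjoin K (Set.range (algebraMap kb Kb))) ≤ Submodule.span K (Set.range w) := by
      rw [Algebra.adjoin_eq_span, Submodule.span_le]
      intro t ht
      have : t ∈ (algebraMap kb Kb).range := by
        have hle : Submonoid.closure (Set.range (algebraMap kb Kb)) ≤ (algebraMap kb Kb).range.toSubmonoid :=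
          Submonoid.closure_le.2 (by rintro _ ⟨c, rfl⟩; exact ⟨c, rfl⟩)
        exact hle ht
      obtain ⟨c, rfl⟩ := this
      rw [← B.linearCombination_repr c, Finsupp.linearCombination_apply, Finsupp.sum, map_sum]
      refine Submodule.sum_mem _ fun j _ => ?_
      rw [Algebra.smul_def, map_mul, ← hc, ← Algebra.smul_def]
      exact Submodule.smul_mem _ _ (Submodule.subset_span ⟨j, rfl⟩)
    rw [Submodule.mem_span] at h1
    exact h1 _ h2
  constructor
  · intro hQ
    let V : ValuationSubring K := Q.O.comap (algebraMap K Kb)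
    have hk : ∀ c : k, algebraMap k K c ∈ V := fun c => by
      show Q.1 (algebraMap K Kb (algebraMap k K c)) ≤ 1
      rw [hc]; exact Q.2.1 _
    obtain ⟨y, hy0, hy⟩ : ∃ y : K, y ≠ 0 ∧ y⁻¹ ∉ V := by
      by_contra! hall
      obtain ⟨t, ht0, ht, -⟩ := exists_uniformizer Q
      have hle : ∀ c : K, Q.1 (algebraMap K Kb c) ≤ 1 := fun c => by
        rcases eq_or_ne c 0 with rfl | hc0
        · simp
        · have := hall c⁻¹ (inv_ne_zero hc0)
          rwa [inv_inv] at this
      have hall' : ∀ z : Kb, Q.1 z ≤ 1 := fun z => by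
        induction hspan z using Submodule.span_induction with
        | mem u hu => obtain ⟨j, rfl⟩ := hu; exact Q.2.1 _
        | zero => simp
        | add u v _ _ hu hv => exact (Q.1.map_add u v).trans (max_le hu hv)
        | smul r u _ hu => rw [Algebra.smul_def, map_mul]; exact mul_le_one' (hle r) hu
      have h1 := hall' t⁻¹
      rw [map_inv₀, inv_le_one₀ (zero_lt_iff.2 (val_ne_zero Q ht0))] at h1
      exact absurd ht (not_lt.2 h1)
    obtain ⟨P, hP⟩ := exists_place hK.1 V hk hy0 hy
    have hiff : ∀ z : K, Q.1 (algebraMap K Kb z) ≤ 1 ↔ P.1 z ≤ 1 := fun z => (SetLike.ext_iff.1 hP z).symm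
    have hiff' : ∀ z : K, Q.1 (algebraMap K Kb z) < 1 → P.1 z < 1 := fun z hz => by
      by_contra hcon
      have hz0 : z ≠ 0 := fun h => by rw [h, map_zero] at hcon; exact hcon zero_lt_one
      have h1 : P.1 z⁻¹ ≤ 1 := by rw [map_inv₀]; exact inv_le_one_of_one_le₀ (not_lt.1 hcon)
      rw [← hiff, map_inv₀, map_inv₀, inv_le_one₀ (zero_lt_iff.2 (val_ne_zero Q ((_root_.map_ne_zero _).2 hz0)))] at h1
      exact absurd hz (not_lt.2 h1)
    refine ⟨P, hiff, ?_⟩
    have hres : ∀ x : K, P.1 x ≤ 1 → ∃ r : k, P.1 (x - algebraMap k K r) < 1 := by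
      intro x hx
      have hfinres := Groth.Agent.FunFldLib.finite_residue hK.1 P
      let xo : P.O := ⟨x, hx⟩
      obtain ⟨g, hgm, hg⟩ := (@IsIntegral.of_finite k _ _ _ _ hfinres (IsLocalRing.residue P.O xo))
      have hlift : IsLocalRing.residue P.O (aeval xo g) = 0 := by
        rw [← hg]
        change (IsLocalRing.residue P.O) (Polynomial.eval₂ (algebraMap k P.O) xo g) = _
        rw [Polynomial.hom_eval₂]; rfl
      rw [residue_eq_zero_iff_val] at hlift
      have hg1 : ((aeval xo g : P.O) : K) = aeval x g := by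
        rw [aeval_def, aeval_def, show ((eval₂ (algebraMap k P.O) xo g : P.O) : K) = P.O.subtype (eval₂ (algebraMap k P.O) xo g) from rfl,
          Polynomial.hom_eval₂]
        rfl
      rw [hg1] at hlift
      have hQg : Q.1 (algebraMap K Kb (aeval x g)) < 1 := by
        refine lt_of_le_of_ne ((hiff _).2 hlift.le) fun h1 => ?_
        rcases eq_or_ne (aeval x g) 0 with h0 | h0
        · rw [h0, map_zero, map_zero] at h1; exact zero_ne_one h1
        · have := (hiff (aeval x g)⁻¹).1 (by rw [map_inv₀, map_inv₀, h1, inv_one])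
          rw [map_inv₀, inv_le_one₀ (zero_lt_iff.2 (val_ne_zero P h0))] at this
          exact absurd hlift (not_lt.2 this)
      have hg2 : algebraMap K Kb (aeval x g) = (g.map (algebraMap k kb)).eval₂ (algebraMap kb Kb) (algebraMap K Kb x) := by
        rw [aeval_def, Polynomial.hom_eval₂, eval₂_map]
        congr 1
        exact RingHom.ext hc
      rw [hg2, (IsAlgClosed.splits (g.map (algebraMap k kb))).eq_prod_roots_of_monic (hgm.map _), eval₂_multiset_prod,
        map_multiset_prod, Multiset.map_map, Multiset.map_map] at hQg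
      obtain ⟨c, -, hcq⟩ : ∃ c ∈ (g.map (algebraMap k kb)).roots, Q.1 (algebraMap K Kb x - algebraMap kb Kb c) < 1 := by
        by_contra! hall
        refine absurd hQg (not_lt.2 (Multiset.one_le_prod_of_one_le fun a ha => ?_))
        obtain ⟨c, hc', rfl⟩ := Multiset.mem_map.1 ha
        simpa using hall c hc'
      have h1 := (hQ _).2 hcq
      rw [map_sub, hF1, hF2] at h1
      have h2 : Q.1 (algebraMap K Kb x ^ q - algebraMap kb Kb (c ^ q)) < 1 := by
        rw [map_pow]
        exact pow_sub_pow_lt Q.1 ((hiff x).2 hx) (Q.2.1 c) hcq q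
      have hcc : c ^ q = c := by
        by_contra hne
        have h3 := Q.1.map_sub (algebraMap K Kb x ^ q - algebraMap kb Kb c) (algebraMap K Kb x ^ q - algebraMap kb Kb (c ^ q))
        rw [show algebraMap K Kb x ^ q - algebraMap kb Kb c - (algebraMap K Kb x ^ q - algebraMap kb Kb (c ^ q)) =
          algebraMap kb Kb (c ^ q - c) by rw [map_sub]; ring, val_algebraMap Q (sub_ne_zero.2 hne)] at h3
        exact absurd (h3.trans_lt (max_lt h1 h2)) (lt_irrefl _)
      obtain ⟨r, hr⟩ : ∃ r : k, algebraMap k kb r = c := by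
        have hroots : ((X ^ q - X : Polynomial k).map (algebraMap k kb)).roots = (X ^ q - X : Polynomial k).roots.map (algebraMap k kb) := by
          symm
          refine Polynomial.roots_map_of_injective_of_card_eq_natDegree (algebraMap k kb).injective ?_
          rw [hq, Nat.card_eq_fintype_card, FiniteField.roots_X_pow_card_sub_X, FiniteField.X_pow_card_sub_X_natDegree_eq k Fintype.one_lt_card]
          rfl
        have : c ∈ ((X ^ q - X : Polynomial k).map (algebraMap k kb)).roots := by
          rw [mem_roots', IsRoot]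
          refine ⟨(Polynomial.map_ne_zero_iff (algebraMap k kb).injective).2 ?_, by simp [hcc]⟩
          rw [hq, Nat.card_eq_fintype_card]; exact FiniteField.X_pow_card_sub_X_ne_zero k Fintype.one_lt_card
        rw [hroots, Multiset.mem_map] at this
        obtain ⟨r, -, hr⟩ := this
        exact ⟨r, hr⟩
      refine ⟨r, hiff' _ ?_⟩
      rw [map_sub, hc, hr]; exact hcq
    rw [FunFld.Place.deg]
    have hbij : Function.Bijective (Algebra.linearMap k (IsLocalRing.ResidueField P.O)) := by
      refine ⟨(algebraMap k (IsLocalRing.ResidueField P.O)).injective, fun u => ?_⟩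
      obtain ⟨x, rfl⟩ := IsLocalRing.residue_surjective u
      obtain ⟨r, hr⟩ := hres x.1 x.2
      refine ⟨r, Eq.symm ?_⟩
      rw [← sub_eq_zero]
      have := (residue_eq_zero_iff_val P (x - algebraMap k P.O r)).2 hr
      rwa [map_sub] at this
    exact (LinearEquiv.ofBijective _ hbij).finrank_eq.symm.trans (Module.finrank_self k)
  · rintro ⟨P, hiff, hP⟩ z
    have hlt : ∀ x : K, P.1 x < 1 → Q.1 (algebraMap K Kb x) < 1 := fun x hx => by
      refine lt_of_le_of_ne ((hiff x).2 hx.le) fun h1 => ?_
      rcases eq_or_ne x 0 with h0 | h0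
      · rw [h0, map_zero, map_zero] at h1; exact zero_ne_one h1
      · have := (hiff x⁻¹).1 (by rw [map_inv₀, map_inv₀, h1, inv_one])
        rw [map_inv₀, inv_le_one₀ (zero_lt_iff.2 (val_ne_zero P h0))] at this
        exact absurd hx (not_lt.2 this)
    obtain ⟨l, rfl⟩ := (Finsupp.mem_span_range_iff_exists_finsupp).1 (hspan z)
    rcases eq_or_ne l 0 with rfl | hl
    · simp
    obtain ⟨j0, hj0, hmax⟩ := l.support.exists_max_image (fun j => P.1 (l j)) (Finsupp.support_nonempty_iff.2 hl)
    have hx0 : l j0 ≠ 0 := Finsupp.mem_support_iff.1 hj0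
    have hu : ∀ j ∈ l.support, ∃ r : k, P.1 (l j / l j0 - algebraMap k K r) < 1 := fun j hj =>
      Groth.Agent.FunFldLib.exists_const hK.1 hP (by
        rw [map_div₀]; exact div_le_one_of_le₀ (hmax j hj) zero_le)
    choose! r hr using hu
    have hr0 : r j0 = 1 := by
      by_contra hne
      have h := hr j0 hj0
      rw [div_self hx0, ← map_one (algebraMap k K), ← map_sub, val_algebraMap P (sub_ne_zero.2 (Ne.symm hne))] at h
      exact lt_irrefl _ h
    set S := algebraMap kb Kb (∑ j ∈ l.support, algebraMap k kb (r j) * B j) with hS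
    have hS0 : Q.1 S = 1 := by
      refine val_algebraMap Q fun h => ?_
      have h2 : ∑ j ∈ l.support, r j • B j = 0 := by simpa [Algebra.smul_def] using h
      have := linearIndependent_iff'.1 B.linearIndependent _ _ h2 j0 hj0
      rw [hr0] at this; exact one_ne_zero this
    have key : ∀ e : ℕ, 1 ≤ e → (∀ j ∈ l.support, r j ^ e = r j) →
        Q.1 (∑ j ∈ l.support, algebraMap K Kb (l j) ^ e * w j) = Q.1 (algebraMap K Kb (l j0)) ^ e := by
      intro e he hre
      have h1 : ∑ j ∈ l.support, algebraMap K Kb (l j) ^ e * w j =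
          algebraMap K Kb (l j0) ^ e * (∑ j ∈ l.support, algebraMap K Kb ((l j / l j0) ^ e) * w j) := by
        rw [Finset.mul_sum]
        refine Finset.sum_congr rfl fun j _ => ?_
        rw [map_pow, map_div₀, div_pow, ← mul_assoc, mul_div_cancel₀ _ (pow_ne_zero _ ((_root_.map_ne_zero _).2 hx0))]
      have h2 : Q.1 (∑ j ∈ l.support, algebraMap K Kb ((l j / l j0) ^ e) * w j) = 1 := by
        have h3 : Q.1 ((∑ j ∈ l.support, algebraMap K Kb ((l j / l j0) ^ e) * w j) - S) < 1 := by
          rw [hS, map_sum, ← Finset.sum_sub_distrib]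
          refine Q.1.map_sum_lt' zero_lt_one fun j hj => ?_
          rw [map_mul (algebraMap kb Kb), ← hc, ← sub_mul, ← map_sub, map_mul]
          refine mul_lt_one_of_nonneg_of_lt_one_left zero_le (hlt _ ?_) (Q.2.1 _)
          conv_lhs => rw [← hre j hj, map_pow]
          exact pow_sub_pow_lt P.1 (by rw [map_div₀]; exact div_le_one_of_le₀ (hmax j hj) zero_le) (P.2.1 _) (hr j hj) e
        exact (Q.1.map_eq_of_sub_lt (by rwa [hS0])).trans hS0
      rw [h1, map_mul, h2, mul_one, map_pow]
    have hz1 : (Finsupp.linearCombination K w l) = ∑ j ∈ l.support, algebraMap K Kb (l j) ^ 1 * w j := by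
      simp [Finsupp.linearCombination_apply, Finsupp.sum, Algebra.smul_def]
    have hz2 : F (∑ j ∈ l.support, algebraMap K Kb (l j) ^ 1 * w j) = ∑ j ∈ l.support, algebraMap K Kb (l j) ^ q * w j := by
      rw [map_sum]
      exact Finset.sum_congr rfl fun j _ => by rw [map_mul, pow_one, hF2, hw, hF1]
    rw [show (l.sum fun i c => c • w i) = ∑ j ∈ l.support, algebraMap K Kb (l j) ^ 1 * w j from by
      simp [Finsupp.sum, Algebra.smul_def], hz2, key 1 le_rfl (fun _ _ => pow_one _), key q hq1 (fun _ _ => hFk _), pow_one,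
      pow_lt_one_iff_of_nonneg zero_le (by omega)]

/-- Over a finite constant field with `q` elements, let `K̄ = k̄ ⊗ K` be the constant-field extension to
an algebraic closure and `F` its Frobenius map (identity on `k̄`, `q`-th power on `K`). A place `Q`
of `K̄/k̄` satisfies `Q^F = Q` (the maximal ideal of `Q` is exactly the preimage of itself under
`F`) if and only if `Q` is defined over `k`, i.e. the place of `K` below `Q` has degree one. -/
theorem result
    (k K kb Kb : Type*) [Field k] [Finite k] [Field K] [Algebra k K] [Field kb] [Algebra k kb]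
    [IsAlgClosure k kb] [Field Kb] [Algebra K Kb] [Algebra kb Kb]
    (hK : FunFld.IsFunctionField k K)
    (hc : ∀ c : k, algebraMap K Kb (algebraMap k K c) = algebraMap kb Kb (algebraMap k kb c))
    (hgen : Algebra.adjoin K (Set.range (algebraMap kb Kb)) = ⊤)
    (F : Kb →+* Kb) (hF1 : ∀ c : kb, F (algebraMap kb Kb c) = algebraMap kb Kb c)
    (hF2 : ∀ x : K, F (algebraMap K Kb x) = algebraMap K Kb x ^ Nat.card k)
    (Q : FunFld.Place kb Kb) :
    (∀ z : Kb, Q.1 (F z) < 1 ↔ Q.1 z < 1) ↔
      ∃ P : FunFld.Place k K, (∀ x : K, Q.1 (algebraMap K Kb x) ≤ 1 ↔ P.1 x ≤ 1) ∧ P.deg = 1 := by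
  exact core hK hc hgen F hF1 hF2 Q

end Groth.Agent.S11068
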