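import Groth.Statements.S11069
import Groth.Agent.FunFldLib.MapDiv
import Groth.Agent.FunFldLib.TauExt
import Groth.Agent.FunFldLib.Extension

set_option autoImplicit false
open FunFld

namespace Groth.Agent.S11069

/-- Over an algebraically closed constant field, for function fields `K ⊇ K'` and a projective map `φ`
with entries in `K'`, the divisor of `φ` as a map of `K` is the conorm `N*_{K/K'}` of its divisor as
a map of `K'`. -/
theorem result
    (k K' K : Type*) [Field k] [IsAlgClosed k] [Field K'] [Field K] [Algebra k K'] [Algebra k K]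
    [Algebra K' K] [IsScalarTower k K' K] [FiniteDimensional K' K]
    (hK : FunFld.IsFunctionField k K) (hK' : FunFld.IsFunctionField k K') {n : ℕ}
    (φ : Fin (n + 1) → K') (hφ : LinearIndependent k φ) :
    FunFld.mapDiv k (fun i => algebraMap K' K (φ i)) = FunFld.conorm K (FunFld.mapDiv k φ) := by
  open WithZero Groth.Agent.FunFldLib in
  classical
  have h0 : (∀ i, φ i ≠ 0) ∨ ∃ i, φ i = 1 := Or.inl fun i => hφ.ne_zero i
  obtain ⟨h1, h2⟩ := mapDiv_spec hK'.1 φ h0
  refine Finsupp.ext fun Q => ?_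
  have hov := isOverWith_below hK'.1 Q
  obtain ⟨i, hi0, hi⟩ := h2 (below hK'.1 Q)
  rw [conorm_apply hK'.1]
  refine mapDiv_apply_eq hK.1 (fun i => algebraMap K' K (φ i)) (Or.inl fun i => (map_ne_zero _).2 (hφ.ne_zero i)) Q
    (fun l => ?_) (i := i) ?_
  · show Q.1 (algebraMap K' K (φ l)) ≤ _
    rw [hov]
    refine (pow_le_pow_left₀ zero_le (h1 _ l) _).trans ?_
    rw [← exp_nsmul, nsmul_eq_mul]
  · show Q.1 (algebraMap K' K (φ i)) = _
    rw [hov, hi, ← exp_nsmul, nsmul_eq_mul]

end Groth.Agent.S11069
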