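import Groth.Statements.S11070
import Groth.Agent.FunFldLib.PlaneModel2

set_option autoImplicit false
open FunFld

namespace Groth.Agent.S11070

/-- Over an algebraically closed constant field, a plane curve `V = V(f)` with natural map `(1 : x :
y)`, `K = k(x, y)`, has degree `deg V = deg f`: the degree of the divisor of the map `(1 : x : y)`
equals the total degree of the irreducible polynomial relation `f(x, y) = 0`. -/
theorem result
    (k K : Type*) [Field k] [IsAlgClosed k] [Field K] [Algebra k K]
    (hK : FunFld.IsFunctionField k K) (x y : K)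
    (hxy : IntermediateField.adjoin k ({x, y} : Set K) = ⊤) (f : MvPolynomial (Fin 2) k)
    (hf : Irreducible f) (hfxy : MvPolynomial.aeval ![x, y] f = 0) :
    (FunFld.mapDiv k ![(1 : K), x, y]).deg = f.totalDegree := by
  classical
  obtain ⟨D, hE, -, s, t, hs1, ht1, hs, ht, hst, hts⟩ := FunFldLib.exists_pair hK x y hxy
  rw [← hE, D.deg_E hK.1, Nat.cast_inj]
  set G := MvPolynomial.aeval s f with hG
  have hG0 : MvPolynomial.aeval ![D.z, D.w] G = 0 := by
    rw [hG, ← AlgHom.comp_apply, MvPolynomial.comp_aeval, funext hs]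
    exact hfxy
  have hfG : MvPolynomial.aeval t G = f := by
    rw [hG, ← AlgHom.comp_apply, MvPolynomial.comp_aeval, funext hst, MvPolynomial.aeval_X_left_apply]
  have hGne : G ≠ 0 := fun h => hf.ne_zero (by rw [← hfG, h, map_zero])
  refine le_antisymm ?_ ?_
  · -- d ≤ deg f
    by_contra hlt
    have hGd : G.totalDegree ≤ D.d - 1 := ((FunFldLib.mv_totalDegree_aeval_le s hs1 f).trans (by omega))
    have hli := Fintype.linearIndependent_iff.1 (D.linearIndependent_mono hK (D.d - 1))
    let ex : (Σ j : Fin D.d, Fin (D.d - 1 + 1 - j)) → (Fin 2 →₀ ℕ) := fun p =>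
      Finsupp.single 0 (p.2 : ℕ) + Finsupp.single 1 (p.1 : ℕ)
    have hex : ∀ d : Fin 2 →₀ ℕ, Finsupp.single 0 (d 0) + Finsupp.single 1 (d 1) = d := fun d => by
      ext i; fin_cases i <;> simp
    have hex0 : ∀ p, ex p 0 = (p.2 : ℕ) := fun p => by simp [ex]
    have hex1 : ∀ p, ex p 1 = (p.1 : ℕ) := fun p => by simp [ex]
    have hinj : Function.Injective ex := by
      rintro ⟨j, i⟩ ⟨j', i'⟩ h
      have h1 := congrArg (fun d : Fin 2 →₀ ℕ => d 1) h
      have h2 := congrArg (fun d : Fin 2 →₀ ℕ => d 0) h
      rw [hex1, hex1] at h1; rw [hex0, hex0] at h2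
      obtain rfl : j = j' := Fin.ext h1
      exact congrArg _ (Fin.ext h2)
    have hsupp : G.support ⊆ Finset.univ.image ex := fun d hd => by
      have h1 := (MvPolynomial.le_totalDegree hd).trans hGd
      rw [← hex d, Finsupp.sum_add_index' (fun _ => rfl) (fun _ _ _ => rfl), Finsupp.sum_single_index rfl,
        Finsupp.sum_single_index rfl] at h1
      exact Finset.mem_image.2 ⟨⟨⟨d 1, by omega⟩, ⟨d 0, by change d 0 < D.d - 1 + 1 - d 1; omega⟩⟩, Finset.mem_univ _, hex d⟩
    have hsum : ∑ p, G.coeff (ex p) • (D.z ^ (p.2 : ℕ) * D.w ^ (p.1 : ℕ)) = 0 := by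
      rw [← hG0]
      conv_rhs => rw [MvPolynomial.as_sum G, map_sum]
      rw [Finset.sum_subset hsupp (fun d _ hd => by rw [MvPolynomial.notMem_support_iff.1 hd]; simp),
        Finset.sum_image (fun a _ b _ h => hinj h)]
      refine Finset.sum_congr rfl fun p _ => ?_
      rw [MvPolynomial.aeval_monomial, Algebra.smul_def,
        Finsupp.prod_fintype _ _ (fun i => pow_zero _), Fin.prod_univ_two, hex0, hex1]
      rfl
    refine hGne (MvPolynomial.ext _ _ fun d => ?_)
    by_cases hd : d ∈ G.support
    · obtain ⟨p, -, rfl⟩ := Finset.mem_image.1 (hsupp hd)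
      rw [MvPolynomial.coeff_zero]
      exact hli _ hsum p
    · rw [MvPolynomial.coeff_zero]; exact MvPolynomial.notMem_support_iff.1 hd
  · -- deg f ≤ d
    obtain ⟨q, hq, hrel⟩ := D.exists_rel hK
    let R : MvPolynomial (Fin 2) k := MvPolynomial.X 1 ^ D.d -
      ∑ j : Fin D.d, Polynomial.aeval (MvPolynomial.X 0) (q j) * MvPolynomial.X 1 ^ (j : ℕ)
    have hRz : MvPolynomial.aeval ![D.z, D.w] R = 0 := by
      simp only [R, map_sub, map_pow, map_sum, map_mul, ← Polynomial.aeval_algHom_apply, MvPolynomial.aeval_X,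
        Matrix.cons_val_zero, Matrix.cons_val_one]
      rw [hrel, sub_self]
    have hR1 : R.totalDegree ≤ D.d := by
      refine (MvPolynomial.totalDegree_sub _ _).trans (max_le (by rw [MvPolynomial.totalDegree_X_pow]) ?_)
      refine (MvPolynomial.totalDegree_finsetSum _ _).trans (Finset.sup_le fun j _ => ?_)
      rw [Polynomial.aeval_eq_sum_range, Finset.sum_mul]
      refine (MvPolynomial.totalDegree_finsetSum _ _).trans (Finset.sup_le fun i _ => ?_)
      rcases Nat.lt_or_ge D.d (i + (j : ℕ)) with h | h
      · rw [hq j i h]; simp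
      · rw [smul_mul_assoc]
        refine (MvPolynomial.totalDegree_smul_le _ _).trans ((MvPolynomial.totalDegree_mul _ _).trans ?_)
        rw [MvPolynomial.totalDegree_X_pow, MvPolynomial.totalDegree_X_pow]
        exact h
    have hR0 : R ≠ 0 := fun h => by
      have := congrArg (MvPolynomial.aeval (![(0 : Polynomial k), Polynomial.X])) h
      simp only [R, map_sub, map_pow, map_sum, map_mul, ← Polynomial.aeval_algHom_apply, MvPolynomial.aeval_X,
        Matrix.cons_val_zero, Matrix.cons_val_one, map_zero, sub_eq_zero] at this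
      have h2 := congrArg (fun p : Polynomial k => p.coeff D.d) this
      simp only [Polynomial.coeff_X_pow, if_true, Polynomial.finsetSum_coeff] at h2
      rw [Finset.sum_eq_zero fun j _ => ?_] at h2
      · exact one_ne_zero h2
      · rw [← Polynomial.coeff_zero_eq_aeval_zero', Polynomial.algebraMap_eq, Polynomial.coeff_C_mul,
          Polynomial.coeff_X_pow, if_neg (by have := j.2; omega), mul_zero]
    set R' := MvPolynomial.aeval t R with hR'
    have hR'0 : R' ≠ 0 := fun h => hR0 (by
      have : MvPolynomial.aeval s R' = R := by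
        rw [hR', ← AlgHom.comp_apply, MvPolynomial.comp_aeval, funext hts, MvPolynomial.aeval_X_left_apply]
      rw [← this, h, map_zero])
    have hR'xy : MvPolynomial.aeval ![x, y] R' = 0 := by
      rw [hR', ← AlgHom.comp_apply, MvPolynomial.comp_aeval, funext ht]
      exact hRz
    -- the relations form the principal ideal of f
    have hdvd : f ∣ R' := by
      set p := RingHom.ker (MvPolynomial.aeval ![x, y] : MvPolynomial (Fin 2) k →ₐ[k] K) with hp
      haveI hpp : p.IsPrime := RingHom.ker_isPrime _
      haveI hfp : (Ideal.span {f}).IsPrime := (Ideal.span_singleton_prime hf.ne_zero).2 hf.prime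
      have hle : Ideal.span {f} ≤ p := (Ideal.span_singleton_le_iff_mem _).2 hfxy
      by_contra hnd
      have hlt : Ideal.span {f} < p := lt_of_le_of_ne hle fun h => hnd (Ideal.mem_span_singleton.1 (h ▸ hR'xy))
      have hmax : ¬ p.IsMaximal := by
        intro hm
        letI := Ideal.Quotient.field p
        haveI : Algebra.FiniteType k (MvPolynomial (Fin 2) k ⧸ p) :=
          Algebra.FiniteType.of_surjective (Ideal.Quotient.mkₐ k p) Ideal.Quotient.mk_surjective
        haveI : Module.Finite k (MvPolynomial (Fin 2) k ⧸ p) := finite_of_finite_type_of_isJacobsonRing _ _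
        have halg : ∀ i, IsAlgebraic k (![x, y] i) := fun i => by
          let ψ : (MvPolynomial (Fin 2) k ⧸ p) →ₐ[k] K :=
            Ideal.Quotient.liftₐ p (MvPolynomial.aeval ![x, y]) (fun a ha => ha)
          have := (IsIntegral.of_finite k (Ideal.Quotient.mk p (MvPolynomial.X i))).map ψ
          exact (show ψ (Ideal.Quotient.mk p (MvPolynomial.X i)) = ![x, y] i from MvPolynomial.aeval_X _ i) ▸ this.isAlgebraic
        obtain ⟨u, hu⟩ := FunFldLib.exists_transcendental hK
        have hu' : IsAlgebraic k u := by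
          have hle2 : IntermediateField.adjoin k ({x, y} : Set K) ≤ algebraicClosure k K :=
            IntermediateField.adjoin_le_iff.2 (by
              rintro e (rfl | rfl)
              · exact mem_algebraicClosure_iff.2 (halg 0)
              · exact mem_algebraicClosure_iff.2 (halg 1))
          exact mem_algebraicClosure_iff.1 (hle2 (hxy ▸ IntermediateField.mem_top))
        exact hu hu'
      obtain ⟨m, hm, hpm⟩ := Ideal.exists_le_maximal p hpp.ne_top
      have hpm' : p < m := lt_of_le_of_ne hpm fun h => hmax (h ▸ hm)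
      haveI hbot : (⊥ : Ideal (MvPolynomial (Fin 2) k)).IsPrime := Ideal.bot_prime
      have hbf : (⊥ : Ideal (MvPolynomial (Fin 2) k)) < Ideal.span {f} :=
        bot_lt_iff_ne_bot.2 fun h => hf.ne_zero (Ideal.span_singleton_eq_bot.1 h)
      let c : LTSeries (PrimeSpectrum (MvPolynomial (Fin 2) k)) :=
        ⟨3, ![⟨⊥, hbot⟩, ⟨_, hfp⟩, ⟨p, hpp⟩, ⟨m, hm.isPrime⟩], fun i => by
          fin_cases i
          · exact hbf
          · exact hlt
          · exact hpm'⟩
      have h3 : (3 : WithBot ℕ∞) ≤ ringKrullDim (MvPolynomial (Fin 2) k) := Order.LTSeries.length_le_krullDim c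
      rw [MvPolynomial.ringKrullDim_of_isNoetherianRing, ringKrullDim_eq_zero_of_field] at h3
      simp at h3
      norm_cast at h3
    obtain ⟨c, hc⟩ := hdvd
    have hc0 : c ≠ 0 := fun h => hR'0 (by rw [hc, h, mul_zero])
    have := MvPolynomial.totalDegree_mul_of_isDomain hf.ne_zero hc0
    rw [← hc] at this
    have := (FunFldLib.mv_totalDegree_aeval_le t ht1 R).trans hR1
    rw [← hR'] at this
    omega

end Groth.Agent.S11070
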