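import Groth.Statements.S11072
import Groth.Agent.FunFldLib.HomPlane
open Groth.Agent.FunFldLib MvPolynomial

set_option autoImplicit false
open FunFld

namespace Groth.Agent.S11072

/-- Over an algebraically closed constant field, a plane curve with defining irreducible homogeneous
polynomial `f` and birational natural map `φ = (φ₀ : φ₁ : φ₂)` is singular at the point `a = φ(P)`
(coordinates `(φᵢ/φⱼ)(P)` for an entry `φⱼ` of least order at `P`, read in the residue field) if and
only if `∂f/∂Xᵢ(a) = 0` for `i = 0, 1, 2`. Here `φ` is nonsingular at `P` when its local ring there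
(quotients of polynomials over `k` in the `φᵢ/φⱼ` with denominator a unit at `P`) is the whole
valuation ring. -/
theorem result (k K : Type*) [Field k] [IsAlgClosed k] [Field K] [Algebra k K]
    (hK : FunFld.IsFunctionField k K) (φ : Fin 3 → K)
    (hφ : LinearIndependent k φ)
    (hbir : IntermediateField.adjoin k (Set.range fun i => φ i / φ 0) = ⊤)
    (f : MvPolynomial (Fin 3) k) (hf : Irreducible f) (hhom : f.IsHomogeneous f.totalDegree)
    (hfφ : MvPolynomial.aeval φ f = 0) (P : FunFld.Place k K) (j : Fin 3)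
    (hj : ∀ i, P.1 (φ i) ≤ P.1 (φ j)) (a : Fin 3 → P.O) (ha : ∀ i, ((a i : P.O) : K) = φ i / φ j) :
    ¬ FunFld.IsNonsingularAt φ P ↔
      ∀ l : Fin 3, MvPolynomial.aeval (fun i => IsLocalRing.residue P.O (a i))
        (MvPolynomial.pderiv l f) = 0 := by
  have hj0 : φ j ≠ 0 := hφ.ne_zero j
  obtain ⟨hr, hz, hker⟩ := dh_equation hK j hj0 hbir hf hhom hfφ
  set r : Fin 3 → K := fun i => φ i / φ j with hrdef
  have hrj : r j = 1 := div_self hj0
  have hle : ∀ i, P.1 (r i) ≤ 1 := fun i => by
    rw [hrdef, map_div₀]; exact div_le_one_of_le₀ (hj i) zero_le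
  have hns : FunFld.IsNonsingularAt φ P ↔
      P.1 (aeval r (pderiv (j.succAbove 0) f)) = 1 ∨ P.1 (aeval r (pderiv (j.succAbove 1) f)) = 1 := by
    rw [← aeval_dh j hrj, ← aeval_dh j hrj, ← pderiv_dh, ← pderiv_dh]
    exact (forall₂_congr fun z _ => inLocRing_iff_inPt φ P hj0 hj (adjoin_ratios hj0) z).trans
      (point_grad hK P (hle _) (hle _) (gen_ratios hj0 hbir) hz hker)
  have hlt : ∀ g, P.1 (aeval r g) = 1 ↔ ¬ P.1 (aeval r g) < 1 := fun g =>
    ⟨fun h h' => h'.ne h, fun h => le_antisymm (val_aeval_le_one' P hle g) (not_lt.1 h)⟩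
  have hres : ∀ g : MvPolynomial (Fin 3) k, MvPolynomial.aeval (fun i => IsLocalRing.residue P.O (a i)) g = 0 ↔ P.1 (aeval r g) < 1 := by
    intro g
    rw [residue_aeval_eq_zero, show (fun i => ((a i : P.O) : K)) = r from funext ha]
  rw [hns, hlt, hlt, not_or, not_not, not_not]
  simp only [hres]
  refine ⟨fun h l => ?_, fun h => ⟨h _, h _⟩⟩
  rcases Fin.eq_self_or_eq_succAbove j l with rfl | ⟨i, rfl⟩
  · have he := congrArg (aeval r) hhom.sum_X_mul_pderiv
    rw [map_sum, map_nsmul, hr, smul_zero, Fin.sum_univ_succAbove _ l, Fin.sum_univ_two] at he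
    simp only [map_mul, aeval_X, hrj, one_mul] at he
    rw [eq_neg_of_add_eq_zero_left he, Valuation.map_neg]
    refine (P.1.map_add _ _).trans_lt (max_lt ?_ ?_) <;> rw [map_mul]
    · exact (mul_le_of_le_one_left' (hle _)).trans_lt h.1
    · exact (mul_le_of_le_one_left' (hle _)).trans_lt h.2
  · fin_cases i
    · exact h.1
    · exact h.2

end Groth.Agent.S11072
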