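import Groth.Statements.S11073
import Groth.Agent.FunFldLib.HomPlane
open Groth.Agent.FunFldLib MvPolynomial

set_option autoImplicit false
open FunFld

namespace Groth.Agent.S11073

/-- Over an algebraically closed constant field, the ideal of a projective plane curve — here the curve
with function field `K = k(x, y)`, whose ideal is the kernel of `X₀ ↦ T, X₁ ↦ xT, X₂ ↦ yT` into
`K[T]` — is principal, with an irreducible homogeneous generator. -/
theorem result
    (k K : Type*) [Field k] [IsAlgClosed k] [Field K] [Algebra k K]
    (hK : FunFld.IsFunctionField k K) (x y : K)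
    (hxy : IntermediateField.adjoin k ({x, y} : Set K) = ⊤) :
    ∃ f : MvPolynomial (Fin 3) k, Irreducible f ∧ f.IsHomogeneous f.totalDegree ∧
      RingHom.ker (MvPolynomial.aeval fun i => Polynomial.C (![(1 : K), x, y] i) * Polynomial.X) =
        Ideal.span {f} := by
  set φ : Fin 3 → K := ![(1 : K), x, y] with hφdef
  -- the affine equation
  obtain ⟨f, hf, hfxy⟩ : ∃ f : MvPolynomial (Fin 2) k, Irreducible f ∧ aeval ![x, y] f = 0 := by
    have hnot : ¬ Function.Injective (aeval ![x, y] : MvPolynomial (Fin 2) k →ₐ[k] K) := by
      intro hinj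
      obtain ⟨D, -, -, s, t, -, -, hsz, htx, -, hst⟩ := exists_pair hK x y hxy
      obtain ⟨q, -, hq⟩ := D.exists_rel hK
      let R : MvPolynomial (Fin 2) k :=
        X 1 ^ D.d - ∑ l : Fin D.d, Polynomial.aeval (X 0 : MvPolynomial (Fin 2) k) (q l) * X 1 ^ (l : ℕ)
      have hR : aeval ![D.z, D.w] R = 0 := by
        simp only [R, map_sub, map_pow, map_sum, map_mul, aeval_X, Matrix.cons_val_one, Matrix.cons_val_zero]
        rw [sub_eq_zero, hq]
        refine Finset.sum_congr rfl fun l _ => ?_
        rw [← Polynomial.aeval_algHom_apply, aeval_X]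
        rfl
      have h1 : aeval ![x, y] (aeval t R) = 0 := by
        rw [comp_aeval_apply, show (fun i => aeval ![x, y] (t i)) = ![D.z, D.w] from funext htx, hR]
      have h2 : R = 0 := by
        have := congrArg (aeval s) (hinj (h1.trans (map_zero (aeval ![x, y])).symm))
        rwa [comp_aeval_apply, show (fun i => aeval s (t i)) = X from funext hst, aeval_X_left_apply,
          map_zero] at this
      let Θ : MvPolynomial (Fin 2) k →ₐ[k] Polynomial (Polynomial k) :=
        aeval ![Polynomial.C Polynomial.X, Polynomial.X]
      have h3 := congrArg (fun p => (Θ p).coeff D.d) h2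
      simp only [R, map_sub, map_pow, map_sum, map_mul, map_zero, Polynomial.coeff_zero, Θ, aeval_X,
        Matrix.cons_val_one, Matrix.cons_val_zero, Polynomial.coeff_sub, Polynomial.finsetSum_coeff, Polynomial.coeff_X_pow_self] at h3
      rw [Finset.sum_eq_zero fun l _ => ?_, sub_zero] at h3
      · exact one_ne_zero h3
      · rw [Polynomial.coeff_mul_X_pow']
        split_ifs
        · refine Polynomial.coeff_eq_zero_of_natDegree_lt ?_
          rw [← Polynomial.aeval_algHom_apply, aeval_X]
          have hl := l.2
          refine lt_of_le_of_lt (le_of_eq ?_) (by omega : 0 < D.d - (l : ℕ))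
          show (Polynomial.aeval (Polynomial.C Polynomial.X : Polynomial (Polynomial k)) (q l)).natDegree = 0
          rw [show Polynomial.aeval (Polynomial.C Polynomial.X : Polynomial (Polynomial k)) (q l) =
            Polynomial.C (Polynomial.aeval Polynomial.X (q l)) from
            Polynomial.aeval_algHom_apply (IsScalarTower.toAlgHom k (Polynomial k) (Polynomial (Polynomial k))) _ _,
            Polynomial.natDegree_C]
        · rfl
    obtain ⟨g, hg, hg0⟩ : ∃ g : MvPolynomial (Fin 2) k, aeval ![x, y] g = 0 ∧ g ≠ 0 := by
      by_contra hcon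
      refine hnot ((injective_iff_map_eq_zero _).2 fun g hg => ?_)
      by_contra hg0
      exact hcon ⟨g, hg, hg0⟩
    clear hnot
    induction g using WfDvdMonoid.induction_on_irreducible with
    | zero => exact absurd rfl hg0
    | unit u hu => exact absurd hg (hu.map (aeval ![x, y])).ne_zero
    | mul a i ha hi ih =>
      rw [map_mul] at hg
      rcases mul_eq_zero.1 hg with h | h
      · exact ⟨i, hi, h⟩
      · exact ih h ha
  obtain ⟨hker, -⟩ := plane_equation hK hxy hf hfxy
  set F := homP 0 f.totalDegree f with hFdef
  have hF : F.IsHomogeneous f.totalDegree := isHomogeneous_homP 0 le_rfl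
  have hv : ∀ G : MvPolynomial (Fin 3) k, aeval ![x, y] (dh 0 G) = aeval φ G := fun G =>
    aeval_dh 0 (r := φ) (by simp [hφdef]) G
  have hFφ : aeval φ F = 0 := by rw [← hv, hFdef, dh_homP, hfxy]
  have hF0 : F ≠ 0 := fun h => hf.ne_zero (by rw [← dh_homP 0 f.totalDegree f, ← hFdef, h, map_zero])
  set T : MvPolynomial (Fin 3) k →ₐ[k] Polynomial K := aeval fun i => Polynomial.C (φ i) * Polynomial.X with hT
  have hom : ∀ (m : ℕ) (G : MvPolynomial (Fin 3) k), G.IsHomogeneous m →
      T G = Polynomial.C (aeval φ G) * Polynomial.X ^ m := fun m G hG => by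
    rw [hT, show (fun i => Polynomial.C (φ i) * Polynomial.X) = fun i => (Polynomial.X : Polynomial K) * Polynomial.C (φ i)
      from funext fun i => mul_comm _ _, aeval_scale hG, mul_comm]
    congr 1
    exact (comp_aeval_apply φ (IsScalarTower.toAlgHom k K (Polynomial K)) G).symm
  have hspan : RingHom.ker T = Ideal.span {F} := by
    refine le_antisymm (fun G hG => ?_) (Ideal.span_le.2 fun G hG => ?_)
    · rw [RingHom.mem_ker] at hG
      rw [← sum_homogeneousComponent G]
      refine sum_mem fun m hm => ?_
      have hGm : aeval φ (homogeneousComponent m G) = 0 := by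
        have := congrArg (fun p => Polynomial.coeff p m) hG
        simp only [Polynomial.coeff_zero] at this
        rw [← sum_homogeneousComponent G, map_sum, Polynomial.finsetSum_coeff,
          Finset.sum_congr rfl fun i _ => by
            rw [hom i _ (homogeneousComponent_isHomogeneous i G), Polynomial.coeff_C_mul_X_pow],
          Finset.sum_ite_eq, if_pos hm] at this
        exact this
      obtain ⟨q, hq⟩ := hker _ ((hv _).trans hGm)
      rcases eq_or_ne q 0 with rfl | hq0
      · rw [dh_eq_zero 0 (homogeneousComponent_isHomogeneous m G) (by rw [hq, mul_zero])]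
        exact zero_mem _
      have hd := totalDegree_dh 0 (homogeneousComponent_isHomogeneous m G)
      rw [hq, totalDegree_mul_of_isDomain hf.ne_zero hq0] at hd
      have h2 := hF.mul (isHomogeneous_homP (k := k) 0 (show q.totalDegree ≤ m - f.totalDegree by omega))
      rw [show f.totalDegree + (m - f.totalDegree) = m by omega] at h2
      rw [dh_inj 0 (homogeneousComponent_isHomogeneous m G) h2
        (by rw [map_mul, hFdef, dh_homP, dh_homP, hq])]
      exact Ideal.mul_mem_right _ _ (Ideal.subset_span rfl)
    · rw [Set.mem_singleton_iff] at hG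
      rw [SetLike.mem_coe, RingHom.mem_ker, hG, hom _ F hF, hFφ, map_zero, zero_mul]
  have hprime : (Ideal.span {F}).IsPrime := hspan ▸ RingHom.ker_isPrime _
  exact ⟨F, ((Ideal.span_singleton_prime hF0).1 hprime).irreducible, by rwa [hF.totalDegree hF0], hspan⟩

end Groth.Agent.S11073
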