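import Groth.Statements.S11074
import Groth.Agent.FunFldLib.HomPlane
open Groth.Agent.FunFldLib MvPolynomial

set_option autoImplicit false
open FunFld

namespace Groth.Agent.S11074

/-- Over an algebraically closed constant field, at a nonsingular point `a = φ(P)` of a plane curve
`V(f)` with birational natural map `φ = (φ₀ : φ₁ : φ₂)`, the tangent line is `(∂f/∂X₀(a) : ∂f/∂X₁(a)
: ∂f/∂X₂(a))`: the corresponding linear form, pulled back along `φ` normalized at `P`, vanishes to
order at least `2` at `P` (the tangent line being the one line whose pullback vanishes to order `≥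
2`). Nonsingular at `P` means that the local ring of `φ` at `P` (quotients of polynomials over `k`
in the `φᵢ/φⱼ`, `φⱼ` of least order at `P`, denominator a unit at `P`) is the whole valuation ring. -/
theorem result
    (k K : Type*) [Field k] [IsAlgClosed k] [Field K] [Algebra k K]
    (hK : FunFld.IsFunctionField k K) (φ : Fin 3 → K) (hφ : LinearIndependent k φ)
    (hbir : IntermediateField.adjoin k (Set.range fun i => φ i / φ 0) = ⊤)
    (f : MvPolynomial (Fin 3) k) (hf : Irreducible f) (hhom : f.IsHomogeneous f.totalDegree)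
    (hfφ : MvPolynomial.aeval φ f = 0) (P : FunFld.Place k K) (j : Fin 3)
    (hj : ∀ i, P.1 (φ i) ≤ P.1 (φ j)) (hns : FunFld.IsNonsingularAt φ P) (a : Fin 3 → P.O)
    (ha : ∀ i, ((a i : P.O) : K) = φ i / φ j) (c : Fin 3 → k)
    (hc : ∀ i, algebraMap k (IsLocalRing.ResidueField P.O) (c i) =
      MvPolynomial.aeval (fun l => IsLocalRing.residue P.O (a l)) (MvPolynomial.pderiv i f)) :
    P.1 (∑ i, c i • (φ i / φ j)) ≤ WithZero.exp (-2) := by
  have hj0 : φ j ≠ 0 := hφ.ne_zero j
  obtain ⟨hr, hz, -⟩ := dh_equation hK j hj0 hbir hf hhom hfφ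
  set r : Fin 3 → K := fun i => φ i / φ j with hrdef
  have hrj : r j = 1 := div_self hj0
  have hle : ∀ i, P.1 (r i) ≤ 1 := fun i => by
    rw [hrdef, map_div₀]; exact div_le_one_of_le₀ (hj i) zero_le
  choose e he using fun i => exists_const hK P (hle i)
  have hpart : ∀ i, P.1 (aeval r (pderiv i f) - algebraMap k K (c i)) < 1 := fun i => by
    have := (residue_aeval_eq_zero P a (pderiv i f - C (c i))).1 (by rw [map_sub, aeval_C, ← hc, sub_self])
    rwa [show (fun i => ((a i : P.O) : K)) = r from funext ha, map_sub, aeval_C] at this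
  have hpart' : ∀ l, P.1 (aeval ![r (j.succAbove 0), r (j.succAbove 1)] (pderiv l (dh j f)) -
      algebraMap k K (c (j.succAbove l))) < 1 := fun l => by
    rw [pderiv_dh, aeval_dh j hrj]; exact hpart _
  have ht := tangent_two P (he (j.succAbove 0)) (he (j.succAbove 1)) hz (hpart' 0) (hpart' 1)
  -- Euler's relation at the point
  have hE : c j + (c (j.succAbove 0) * e (j.succAbove 0) + c (j.succAbove 1) * e (j.succAbove 1)) = 0 := by
    refine const_unique (P := P) (y := (0 : K)) ?_ (by simp)
    have hEu := congrArg (aeval r) hhom.sum_X_mul_pderiv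
    rw [map_sum, map_nsmul, hr, smul_zero, Fin.sum_univ_succAbove _ j, Fin.sum_univ_two] at hEu
    simp only [map_mul, aeval_X, hrj, one_mul] at hEu
    have hm : ∀ i, P.1 (r i * aeval r (pderiv i f) - algebraMap k K (c i * e i)) < 1 := fun i => by
      rw [map_mul, show r i * aeval r (pderiv i f) - algebraMap k K (c i) * algebraMap k K (e i) =
        r i * (aeval r (pderiv i f) - algebraMap k K (c i)) + algebraMap k K (c i) * (r i - algebraMap k K (e i)) by ring]
      refine (P.1.map_add _ _).trans_lt (max_lt ?_ ?_) <;> rw [map_mul]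
      · exact (mul_le_of_le_one_left' (hle i)).trans_lt (hpart i)
      · exact (mul_le_of_le_one_left' (P.2.1 _)).trans_lt (he i)
    rw [← hEu, map_add, map_add, show ∀ a b c a' b' c' : K, a + (b + c) - (a' + (b' + c')) =
      (a - a') + ((b - b') + (c - c')) from fun _ _ _ _ _ _ => by ring]
    exact (P.1.map_add _ _).trans_lt (max_lt (hpart j)
      ((P.1.map_add _ _).trans_lt (max_lt (hm _) (hm _))))
  refine le_trans (le_of_eq ?_) ht
  congr 1
  have hE' := congrArg (algebraMap k K) hE
  simp only [map_add, map_mul, map_zero] at hE'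
  show ∑ i, c i • r i = _
  rw [Fin.sum_univ_succAbove _ j, Fin.sum_univ_two]
  simp only [Algebra.smul_def, hrj, mul_one]
  linear_combination hE'

end Groth.Agent.S11074
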