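import Groth.Statements.S11075
import Groth.Agent.FunFldLib.Nonsingular

set_option autoImplicit false
open FunFld

namespace Groth.Agent.S11075

/-- Over an algebraically closed constant field, let `φ = (φ₀, …, φₙ)`, `n ≥ 1`, be a projective map
onto the curve `V`. (a) A homogeneous `g` not vanishing identically on `V` vanishes at the image
point of only finitely many places (so a closed set not containing `V` meets `V` in a finite set);
(b) each fibre of `φ` is finite. Here `g` vanishes at `φ(P)` when `g(φ₀/φⱼ, …, φₙ/φⱼ)` lies in the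
maximal ideal of `P` for an entry `φⱼ` of least order at `P`. Two places have the same image point
when some entry `φⱼ` has least order at both and each `φᵢ/φⱼ` is congruent to one constant modulo
both maximal ideals. -/
theorem result (k K : Type*) [Field k] [IsAlgClosed k] [Field K] [Algebra k K]
    (hK : FunFld.IsFunctionField k K) {n : ℕ} (hn : 1 ≤ n)
    (φ : Fin (n + 1) → K) (hφ : LinearIndependent k φ) :
    (∀ g : MvPolynomial (Fin (n + 1)) k, g.IsHomogeneous g.totalDegree →
      MvPolynomial.aeval φ g ≠ 0 →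
        {P : FunFld.Place k K | ∃ j, φ j ≠ 0 ∧ (∀ i, P.1 (φ i) ≤ P.1 (φ j)) ∧
          P.1 (MvPolynomial.aeval (fun i => φ i / φ j) g) < 1}.Finite) ∧
    ∀ P : FunFld.Place k K, {Q : FunFld.Place k K | FunFld.SameImage φ P Q}.Finite := by
  classical
  refine ⟨fun g hg hg0 => ?_, fun P => ?_⟩
  · refine ((Set.finite_univ (α := Fin (n + 1))).biUnion fun j _ =>
      FunFldLib.finite_zeros hK.1 (MvPolynomial.aeval (fun i => φ i / φ j) g)).subset ?_
    rintro P ⟨j, hj0, -, hlt⟩
    refine Set.mem_biUnion (Set.mem_univ j) ?_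
    have hsc : MvPolynomial.aeval (fun i => φ i / φ j) g = (φ j)⁻¹ ^ g.totalDegree * MvPolynomial.aeval φ g := by
      conv_lhs => rw [MvPolynomial.as_sum g]
      conv_rhs => arg 2; rw [MvPolynomial.as_sum g]
      rw [map_sum, map_sum, Finset.mul_sum]
      refine Finset.sum_congr rfl fun d hd => ?_
      rw [MvPolynomial.aeval_monomial, MvPolynomial.aeval_monomial, Finsupp.prod, Finsupp.prod, mul_left_comm]
      congr 1
      simp only [div_eq_mul_inv, mul_pow]
      rw [Finset.prod_mul_distrib, Finset.prod_pow_eq_pow_sum]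
      have hd' := hg (MvPolynomial.mem_support_iff.1 hd)
      simp only [Finsupp.weight_apply, Pi.one_apply, smul_eq_mul, mul_one, Finsupp.sum] at hd'
      rw [hd', mul_comm]
    have hne : MvPolynomial.aeval (fun i => φ i / φ j) g ≠ 0 :=
      hsc ▸ mul_ne_zero (pow_ne_zero _ (inv_ne_zero hj0)) hg0
    exact (FunFldLib.val_lt_one_iff P hne).1 hlt
  · haveI : Nontrivial (Fin (n + 1)) := Fin.nontrivial_iff_two_le.2 (by omega)
    refine ((Set.finite_univ (α := Fin (n + 1))).biUnion (t := fun j => {Q : FunFld.Place k K |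
      ∃ c : k, P.1 (φ (exists_ne j).choose / φ j - algebraMap k K c) < 1 ∧
        Q.1 (φ (exists_ne j).choose / φ j - algebraMap k K c) < 1}) fun j _ => ?_).subset ?_
    · set i0 := (exists_ne j).choose
      have hi0 : i0 ≠ j := (exists_ne j).choose_spec
      by_cases hex : ∃ c : k, P.1 (φ i0 / φ j - algebraMap k K c) < 1
      · obtain ⟨c0, hc0⟩ := hex
        refine (FunFldLib.finite_zeros hK.1 (φ i0 / φ j - algebraMap k K c0)).subset ?_
        rintro Q ⟨c, hcP, hcQ⟩
        rw [FunFldLib.const_unique hcP hc0] at hcQ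
        refine (FunFldLib.val_lt_one_iff Q fun h => ?_).1 hcQ
        rw [sub_eq_zero, div_eq_iff (hφ.ne_zero j), ← Algebra.smul_def] at h
        exact (linearIndependent_fin2.1 ((hφ.comp ![i0, j] (fun a b => by
          fin_cases a <;> fin_cases b <;> simp [hi0, hi0.symm])))).2 c0 h.symm
      · refine Set.finite_empty.subset ?_
        rintro Q ⟨c, hcP, -⟩
        exact hex ⟨c, hcP⟩
    · rintro Q ⟨j, -, -, -, hc⟩
      obtain ⟨c, hc⟩ := hc (exists_ne j).choose
      exact Set.mem_biUnion (Set.mem_univ j) ⟨c, hc⟩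

end Groth.Agent.S11075
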