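import Groth.Statements.S11076
import Groth.Agent.FunFldLib.Nonsingular

set_option autoImplicit false
open FunFld

namespace Groth.Agent.S11076

/-- Over an algebraically closed constant field, a projective curve (given by a birational projective
map `φ = (φ₀, …, φₙ)`, `n ≥ 1`) is nonsingular at the point `a = φ(P)` if and only if some
hyperplane `∑ cᵢ Xᵢ` has intersection multiplicity `1` with it at `a`: the sum over the places `Q`
of the fibre of `a` of `[φ](Q) + ord_Q(∑ cᵢ φᵢ)` is `1`. Nonsingular at `P` means that the local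
ring of `φ` at `P` (quotients of polynomials over `k` in the `φᵢ/φⱼ`, `φⱼ` of least order at `P`,
denominator a unit at `P`) is the whole valuation ring. Two places have the same image point when
some entry `φⱼ` has least order at both and each `φᵢ/φⱼ` is congruent to one constant modulo both
maximal ideals. -/
theorem result (k K : Type*) [Field k] [IsAlgClosed k] [Field K] [Algebra k K]
    (hK : FunFld.IsFunctionField k K) {n : ℕ} (hn : 1 ≤ n)
    (φ : Fin (n + 1) → K) (hφ : LinearIndependent k φ)
    (hbir : IntermediateField.adjoin k (Set.range fun i => φ i / φ 0) = ⊤)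
    (P : FunFld.Place k K) :
    FunFld.IsNonsingularAt φ P ↔ ∃ c : Fin (n + 1) → k, ∑ i, c i • φ i ≠ 0 ∧
      ∑ᶠ Q ∈ {Q : FunFld.Place k K | FunFld.SameImage φ P Q},
        ((FunFld.mapDiv k φ) Q + Q.ord (∑ i, c i • φ i)) = 1 := by
  classical
  have h0 := Or.inl (b := ∃ i, φ i = 1) fun i => hφ.ne_zero i
  obtain ⟨j, hj0, hjP, hj⟩ := FunFldLib.exists_chart hK.1 φ h0 P
  have hE := FunFldLib.mapDiv_exact hK.1 φ h0
  set W := Submodule.span k (Set.range φ)
  set D := FunFld.mapDiv k φ with hD
  have hself : FunFld.SameImage φ P P := by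
    refine ⟨j, hj0, hj, hj, fun i => ?_⟩
    obtain ⟨c, hc⟩ := FunFldLib.exists_const hK P (y := φ i / φ j) (by
      rw [map_div₀]; exact div_le_one_of_le₀ (hj i) zero_le)
    exact ⟨c, hc, hc⟩
  have hterm : ∀ (Q : FunFld.Place k K), ∀ v ∈ W, v ≠ 0 → 0 ≤ D Q + Q.ord v := fun Q v hv hv0 => by
    have := (FunFldLib.val_le_exp_iff Q hv0 _).1 (hE.1 v hv Q)
    omega
  rw [FunFldLib.nonsingular_iff_cond hK φ h0 P, ← hD]
  constructor
  · intro hc
    have hns := FunFldLib.nonsingular_of_cond hK φ h0 hc
    obtain ⟨t, ht, htP⟩ := hc.2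
    obtain ⟨c, hc'⟩ := (Submodule.mem_span_range_iff_exists_fun k).1 ht
    have ht0 : t ≠ 0 := fun h => WithZero.exp_ne_zero (a := D P - 1) (by rw [← htP, h, map_zero])
    refine ⟨c, hc' ▸ ht0, ?_⟩
    have hset : {Q : FunFld.Place k K | FunFld.SameImage φ P Q} = {P} := Set.ext fun Q =>
      ⟨fun h => by_contra fun hne => FunFldLib.not_sameImage_of_nonsingular φ hns hne h, fun h => h ▸ hself⟩
    rw [hset, finsum_mem_singleton, hc']
    rw [FunFldLib.val_eq_exp P ht0, WithZero.exp_inj] at htP
    omega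
  · rintro ⟨c, hv0, hsum⟩
    set v := ∑ i, c i • φ i with hv
    have hvW : v ∈ W := sum_mem fun i _ => Submodule.smul_mem _ _ (Submodule.subset_span ⟨i, rfl⟩)
    have hcong : ∀ Q, FunFld.SameImage φ P Q → (D P + P.ord v = 0 → D Q + Q.ord v = 0) := by
      intro Q hQ h
      obtain ⟨i, hi0, hiP, hiQ, hrat⟩ := hQ
      have hP' := FunFldLib.chart_eq hK.1 φ h0 hiP
      have hQ' := FunFldLib.chart_eq hK.1 φ h0 hiQ
      rw [← hD] at hP' hQ'
      have hmem : v / φ i ∈ Algebra.adjoin k (Set.range fun l => φ l / φ i) := Algebra.span_le_adjoin k _ (by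
        rw [← FunFldLib.map_span_ratio φ i]; exact ⟨v, hvW, by simp [div_eq_inv_mul]⟩)
      have h1 : P.1 (v / φ i) = 1 := by
        rw [map_div₀, FunFldLib.val_eq_exp P hv0, hP', ← WithZero.exp_sub, ← WithZero.exp_zero, WithZero.exp_inj]
        omega
      have h2 := FunFldLib.sameImage_inLoc φ ⟨i, hi0, hiP, hiQ, hrat⟩ (FunFldLib.inLoc_of_chart φ P hi0 hiP hmem)
      have h3 : Q.1 (v / φ i) = 1 := le_antisymm h2.1 (not_lt.1 fun hlt => (h2.2.1 hlt).ne h1)
      rw [map_div₀, FunFldLib.val_eq_exp Q hv0, hQ', ← WithZero.exp_sub, ← WithZero.exp_zero, WithZero.exp_inj] at h3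
      omega
    set S := {Q : FunFld.Place k K | FunFld.SameImage φ P Q} with hS
    have hfin : (S ∩ Function.support fun Q => D Q + Q.ord v).Finite := by
      refine ((D.support.finite_toSet).union (FunFldLib.finite_support_ord' hK.1 v)).subset fun Q hQ => ?_
      by_contra hn
      simp only [Set.mem_union, Finset.mem_coe, Finsupp.mem_support_iff, Function.mem_support, not_or, not_not] at hn
      exact hQ.2 (show D Q + Q.ord v = 0 by omega)
    have hpos : 0 < D P + P.ord v := by
      refine lt_of_le_of_ne (hterm P v hvW hv0) fun h => ?_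
      rw [finsum_mem_eq_zero_of_forall_eq_zero fun Q (hQ : Q ∈ S) => hcong Q hQ h.symm] at hsum
      exact zero_ne_one hsum
    -- every place of the fibre contributes
    have hle : ∀ T : Finset (FunFld.Place k K), (∀ Q ∈ T, Q ∈ S) → ∑ Q ∈ T, (D Q + Q.ord v) ≤ 1 := by
      intro T hT
      rw [← hsum, ← finsum_mem_inter_support, finsum_mem_eq_finite_toFinset_sum _ hfin]
      refine le_of_eq_of_le (Finset.sum_filter_ne_zero T).symm (Finset.sum_le_sum_of_subset_of_nonneg (fun Q hQ => ?_)
        (fun Q _ _ => hterm Q v hvW hv0))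
      rw [Finset.mem_filter] at hQ
      rw [Set.Finite.mem_toFinset]
      exact ⟨hT Q hQ.1, hQ.2⟩
    have hP1 := hle {P} (by simp [hS, hself])
    rw [Finset.sum_singleton] at hP1
    refine ⟨fun Q hne => (FunFldLib.sameImage_or_sep hK φ h0 P Q).resolve_right fun hs => ?_, v, hvW, ?_⟩
    · have hQpos : 0 < D Q + Q.ord v := by
        refine lt_of_le_of_ne (hterm Q v hvW hv0) fun h => ?_
        obtain ⟨i, hi0, hiP, hiQ, hrat⟩ := hs
        have := hcong
        -- the congruence is symmetric
        have hP' := FunFldLib.chart_eq hK.1 φ h0 hiP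
        have hQ' := FunFldLib.chart_eq hK.1 φ h0 hiQ
        rw [← hD] at hP' hQ'
        have hmem : v / φ i ∈ Algebra.adjoin k (Set.range fun l => φ l / φ i) := Algebra.span_le_adjoin k _ (by
          rw [← FunFldLib.map_span_ratio φ i]; exact ⟨v, hvW, by simp [div_eq_inv_mul]⟩)
        have h1 : P.1 (v / φ i) < 1 := by
          rw [map_div₀, FunFldLib.val_eq_exp P hv0, hP', ← WithZero.exp_sub, ← WithZero.exp_zero, WithZero.exp_lt_exp]
          omega
        have h2 := ((FunFldLib.sameImage_inLoc φ ⟨i, hi0, hiP, hiQ, hrat⟩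
          (FunFldLib.inLoc_of_chart φ P hi0 hiP hmem)).2).2 h1
        rw [map_div₀, FunFldLib.val_eq_exp Q hv0, hQ', ← WithZero.exp_sub, ← WithZero.exp_zero, WithZero.exp_lt_exp] at h2
        omega
      have := hle {P, Q} (by simp [hS, hself, hs])
      rw [Finset.sum_pair (Ne.symm hne)] at this
      omega
    · rw [FunFldLib.val_eq_exp P hv0, WithZero.exp_inj]
      omega

end Groth.Agent.S11076
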