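import Groth.Statements.S11078
import Groth.Agent.FunFldLib.Nonsingular

set_option autoImplicit false
open FunFld

namespace Groth.Agent.S11078

/-- Over an algebraically closed constant field, for a projective map `φ = (φ₀, …, φₙ)`, `n ≥ 1`, and a
point `a = φ(P)` with local ring `O_a`, the fibre `φ⁻¹(a)` consists of the places `Q` with `O_a ⊆
O_Q` and `m_Q ∩ O_a` equal to the maximal ideal of `O_a` (which is `m_P ∩ O_a`). Here `O_a` consists
of the quotients of polynomials over `k` in the ratios `φᵢ/φⱼ`, `φⱼ` of least order at `P`, with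
denominator a unit at `P`; and `Q` has the same image point as `P` when some entry has least order
at both places and the ratios are congruent to common constants modulo both maximal ideals. -/
theorem result
    (k K : Type*) [Field k] [IsAlgClosed k] [Field K] [Algebra k K]
    (hK : FunFld.IsFunctionField k K) {n : ℕ} (hn : 1 ≤ n) (φ : Fin (n + 1) → K)
    (hφ : LinearIndependent k φ) (P Q : FunFld.Place k K) :
    FunFld.SameImage φ P Q ↔
      ∀ z : K, FunFld.InLocRing φ P z → (Q.1 z ≤ 1 ∧ (Q.1 z < 1 ↔ P.1 z < 1)) := by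
  refine ⟨fun h z hz => FunFldLib.sameImage_inLoc φ h hz, fun h => ?_⟩
  obtain ⟨j, hj0, -, hj⟩ := FunFldLib.exists_chart hK.1 φ (Or.inl fun i => hφ.ne_zero i) P
  have hin : ∀ z ∈ Algebra.adjoin k (Set.range fun i => φ i / φ j), Q.1 z ≤ 1 ∧ (Q.1 z < 1 ↔ P.1 z < 1) :=
    fun z hz => h z (FunFldLib.inLoc_of_chart φ P hj0 hj hz)
  refine ⟨j, hj0, hj, fun i => ?_, fun i => ?_⟩
  · have := (hin _ (Algebra.subset_adjoin ⟨i, rfl⟩)).1
    rwa [map_div₀, div_le_one₀ (zero_lt_iff.2 (FunFldLib.val_ne_zero Q hj0))] at this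
  · obtain ⟨c, hc⟩ := FunFldLib.exists_const hK P (y := φ i / φ j) (by
      rw [map_div₀]; exact div_le_one_of_le₀ (hj i) zero_le)
    exact ⟨c, hc, (hin _ (sub_mem (Algebra.subset_adjoin ⟨i, rfl⟩) (Subalgebra.algebraMap_mem _ c))).2.2 hc⟩

end Groth.Agent.S11078
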