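import Groth.Statements.S11079
import Mathlib
-- import your own Groth.Agent.* helpers here

set_option autoImplicit false
universe u
open CAlg

open Matrix

namespace Groth.Agent.S11079

/-- Let L/K be a finite Galois extension of fields, n a natural number, and B a map from the Galois
group of L over K to the invertible n × n matrices over L such that B(σ) · σ(B(τ)) = B(στ) for all
σ, τ, where σ acts on matrices entrywise and στ is the automorphism applying τ first. Then there is
an invertible matrix A over L with B(σ) = A⁻¹ · σ(A) for every σ; that is, every 1-cocycle of the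
Galois group with values in GL_n(L) is a coboundary. -/
theorem result (K L : Type u) [Field K] [Field L]
    [Algebra K L] [FiniteDimensional K L] [IsGalois K L] (n : ℕ)
    (B : (L ≃ₐ[K] L) → GL (Fin n) L)
    (hB : ∀ σ τ : L ≃ₐ[K] L,
      (B σ : Matrix (Fin n) (Fin n) L) * (B τ : Matrix (Fin n) (Fin n) L).map σ = (B (σ * τ) : Matrix (Fin n) (Fin n) L)) :
    ∃ A : GL (Fin n) L, ∀ σ : L ≃ₐ[K] L,
      (B σ : Matrix (Fin n) (Fin n) L) = ((A⁻¹ : GL (Fin n) L) : Matrix (Fin n) (Fin n) L) * (A : Matrix (Fin n) (Fin n) L).map σ := by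
  classical
  let b : (Fin n → L) → (Fin n → L) := fun v => ∑ σ : L ≃ₐ[K] L, (B σ : Matrix (Fin n) (Fin n) L) *ᵥ (σ ∘ v)
  have hfix : ∀ (σ : L ≃ₐ[K] L) v, (B σ : Matrix (Fin n) (Fin n) L) *ᵥ (σ ∘ b v) = b v := by
    intro σ v
    have h1 : (σ ∘ b v) = ∑ τ : L ≃ₐ[K] L, ((B τ : Matrix (Fin n) (Fin n) L).map σ) *ᵥ (σ ∘ τ ∘ v) := by
      funext i
      simp [b, Matrix.mulVec, dotProduct, Finset.sum_apply]
    rw [h1, Matrix.mulVec_sum]
    refine Fintype.sum_equiv (Equiv.mulLeft σ) _ _ fun τ => ?_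
    rw [Matrix.mulVec_mulVec, hB]
    rfl
  have hspan : Submodule.span L (Set.range b) = ⊤ := by
    by_contra hne
    obtain ⟨φ, hφ0, hφ⟩ := Submodule.exists_le_ker_of_lt_top _ (lt_top_iff_ne_top.2 hne)
    apply hφ0
    have key : ∀ (σ : L ≃ₐ[K] L) (j : Fin n), φ ((B σ : Matrix (Fin n) (Fin n) L) *ᵥ Pi.single j 1) = 0 := by
      intro σ j
      have hli := Fintype.linearIndependent_iff.1
        ((linearIndependent_monoidHom L L).comp (fun σ : L ≃ₐ[K] L => (σ : L →* L))
          (fun x y h => AlgEquiv.ext fun z => DFunLike.congr_fun h z))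
        (fun σ => φ ((B σ : Matrix (Fin n) (Fin n) L) *ᵥ Pi.single j 1)) ?_
      · exact hli σ
      · funext x
        have h0 : φ (b (Pi.single j x)) = 0 := hφ (Submodule.subset_span ⟨_, rfl⟩)
        simp only [b, map_sum] at h0
        simp only [Finset.sum_apply, Pi.smul_apply, Function.comp_apply, Pi.zero_apply, smul_eq_mul, MonoidHom.coe_coe]
        rw [← h0]
        refine Finset.sum_congr rfl fun τ _ => ?_
        rw [show (τ ∘ Pi.single j x : Fin n → L) = (τ x) • Pi.single j 1 from by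
            funext i; by_cases hij : i = j <;> simp [Function.comp, hij],
          Matrix.mulVec_smul, map_smul, smul_eq_mul, mul_comm]
    have h1 := hB 1 1
    have hB1 : (B 1 : Matrix (Fin n) (Fin n) L) = 1 := by
      rw [mul_one] at h1
      have h2 : (B 1 : Matrix (Fin n) (Fin n) L) * (B 1 : Matrix (Fin n) (Fin n) L) = (B 1 : Matrix (Fin n) (Fin n) L) := by
        conv_rhs => rw [← h1]
        congr 1
      calc (B 1 : Matrix (Fin n) (Fin n) L)
          = ((B 1)⁻¹ * B 1 : GL (Fin n) L) * (B 1 : Matrix (Fin n) (Fin n) L) := by simp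
        _ = ((B 1)⁻¹ : GL (Fin n) L) * (B 1 : Matrix (Fin n) (Fin n) L) := by rw [Units.val_mul, mul_assoc, h2]
        _ = 1 := by simp
    refine LinearMap.pi_ext' fun j => LinearMap.ext_ring ?_
    have h2 := key 1 j
    rw [hB1, Matrix.one_mulVec] at h2
    exact h2
  obtain ⟨f, hf⟩ : ∃ f : Fin n → (Fin n → L), ∃ _ : LinearIndependent L f, ∀ i, f i ∈ Set.range b := by
    obtain ⟨s, hs, hspan', hli⟩ := exists_linearIndependent L (Set.range b)
    rw [hspan] at hspan'
    let bs := Module.Basis.mk hli (by rw [Subtype.range_coe, hspan'])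
    let e := bs.indexEquiv (Pi.basisFun L (Fin n))
    exact ⟨fun i => (e.symm i : Fin n → L), hli.comp _ e.symm.injective, fun i => hs (e.symm i).2⟩
  obtain ⟨hli, hf⟩ := hf
  set C : Matrix (Fin n) (Fin n) L := (Matrix.of f).transpose with hC
  have hCu : IsUnit C := by
    rw [Matrix.isUnit_iff_isUnit_det, hC, Matrix.det_transpose, ← Matrix.isUnit_iff_isUnit_det,
      ← Matrix.linearIndependent_rows_iff_isUnit]
    exact hli
  have hCfix : ∀ σ : L ≃ₐ[K] L, (B σ : Matrix (Fin n) (Fin n) L) * C.map σ = C := by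
    intro σ
    ext i j
    obtain ⟨v, hv⟩ := hf j
    have := congrFun (hfix σ v) i
    rw [hv] at this
    simpa [hC, Matrix.mul_apply, Matrix.mulVec, dotProduct] using this
  refine ⟨hCu.unit⁻¹, fun σ => ?_⟩
  rw [inv_inv]
  have hmap : ((hCu.unit⁻¹ : GL (Fin n) L) : Matrix (Fin n) (Fin n) L).map σ * C.map σ = 1 := by
    rw [← Matrix.map_mul, hCu.val_inv_mul, Matrix.map_one _ (map_zero σ) (map_one σ)]
  calc (B σ : Matrix (Fin n) (Fin n) L)
      = (B σ : Matrix (Fin n) (Fin n) L) *
          (C.map σ * ((hCu.unit⁻¹ : GL (Fin n) L) : Matrix (Fin n) (Fin n) L).map σ) := by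
        rw [mul_eq_one_comm.1 hmap, mul_one]
    _ = _ := by rw [← mul_assoc, hCfix]; rfl
end Groth.Agent.S11079
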