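import Groth.Statements.S11080
import Mathlib.RingTheory.DedekindDomain.AdicValuation

set_option autoImplicit false
universe u
open CAlg

namespace Groth.Agent.S11080

/-- Valuation rings over a curve: let A be a Dedekind domain with fraction field K. A valuation subring
O of K contains A and is different from K if and only if O is the valuation ring of the v-adic
valuation of K at some nonzero prime v of A (equivalently O is the local ring of A at a maximal
ideal, a discrete valuation ring). (The published statement takes A to be the coordinate ring of a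
nonsingular affine curve over an algebraically closed field, which is such a Dedekind domain; its
proof uses only that the local rings of A at nonzero primes are discrete valuation rings and that
nonzero primes are maximal.) -/
theorem result (A K : Type u) [CommRing A]
    [IsDedekindDomain A] [Field K] [Algebra A K] [IsFractionRing A K] (O : ValuationSubring K) :
    ((algebraMap A K).range ≤ O.toSubring ∧ O ≠ ⊤) ↔
      ∃ v : IsDedekindDomain.HeightOneSpectrum A, O = (v.valuation K).valuationSubring := by
  constructor
  · rintro ⟨hA, hO⟩
    let g : A →+* O := (algebraMap A K).codRestrict O.toSubring fun a => hA ⟨a, rfl⟩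
    let P : Ideal A := (IsLocalRing.maximalIdeal O).comap g
    have hP : P ≠ ⊥ := by
      intro h0
      refine hO (top_le_iff.mp fun x _ => ?_)
      obtain ⟨a, b, hb, rfl⟩ := IsFractionRing.div_surjective (A := A) x
      have hbu : IsUnit (g b) := by
        by_contra hu
        have : b ∈ P := hu
        rw [h0, Ideal.mem_bot] at this
        exact nonZeroDivisors.ne_zero hb this
      obtain ⟨u, hu⟩ := hbu
      have h1 : algebraMap A K b * ((↑u⁻¹ : O) : K) = 1 := by
        have := congrArg (Subtype.val) u.mul_inv
        simpa [hu, g] using this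
      rw [div_eq_mul_inv, ← eq_inv_of_mul_eq_one_right h1]
      exact O.mul_mem _ _ (g a).2 (↑u⁻¹ : O).2
    let v : IsDedekindDomain.HeightOneSpectrum A := ⟨P, inferInstance, hP⟩
    have key : ∀ y : K, v.valuation K y ≤ 1 → ∃ (a : A) (b : Oˣ),
        (b : O) * y = algebraMap A K a ∧ (v.valuation K y < 1 → a ∈ P) := by
      intro y hy
      obtain ⟨a, d, had⟩ := v.exists_primeCompl_mul_eq_of_integer y hy
      have hdu : IsUnit (g d) := by
        by_contra h; exact d.2 h
      refine ⟨a, hdu.unit, by simpa [g, mul_comm] using had, fun hlt => ?_⟩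
      by_contra ha
      have h1 := congrArg (v.valuation K) had
      rw [map_mul, v.valuation_of_algebraMap, v.valuation_of_algebraMap,
        (v.intValuation_eq_one_iff_mem_primeCompl _).mpr d.2,
        (v.intValuation_eq_one_iff_mem_primeCompl _).mpr ha, mul_one] at h1
      exact hlt.ne h1
    refine ⟨v, SetLike.ext fun x => ?_⟩
    rw [Valuation.mem_valuationSubring_iff]
    constructor
    · intro hx
      by_contra hgt
      rw [not_le] at hgt
      have hlt : v.valuation K x⁻¹ < 1 := by rw [map_inv₀]; exact inv_lt_one_of_one_lt₀ hgt
      obtain ⟨a, b, hab, haP⟩ := key x⁻¹ hlt.le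
      have hx0 : x ≠ 0 := by rintro rfl; simp at hgt
      have hu : IsUnit (g a) := by
        refine IsUnit.of_mul_eq_one (a := g a) (⟨x, hx⟩ * (↑b⁻¹ : O)) (Subtype.ext ?_)
        have h1 : ((b : O) : K) * ((↑b⁻¹ : O) : K) = 1 := congrArg Subtype.val b.mul_inv
        calc algebraMap A K a * (x * ((↑b⁻¹ : O) : K))
            = ((b : O) : K) * ((↑b⁻¹ : O) : K) * (x⁻¹ * x) := by rw [← hab]; ring
          _ = 1 := by rw [h1, inv_mul_cancel₀ hx0, one_mul]
      exact haP hlt hu
    · intro hx
      obtain ⟨a, b, hab, -⟩ := key x hx
      have h1 : ((↑b⁻¹ : O) : K) * ((b : O) : K) = 1 := congrArg Subtype.val b.inv_mul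
      rw [show x = ((↑b⁻¹ : O) : K) * algebraMap A K a by rw [← hab, ← mul_assoc, h1, one_mul]]
      exact O.mul_mem _ _ (↑b⁻¹ : O).2 (g a).2
  · rintro ⟨v, rfl⟩
    refine ⟨?_, ?_⟩
    · rintro _ ⟨a, rfl⟩
      exact v.valuation_le_one a
    · rw [ne_eq, Valuation.valuationSubring_eq_top_iff, not_not]
      infer_instance


end Groth.Agent.S11080
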