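import Groth.Statements.S11082
import Mathlib
-- import your own Groth.Agent.* helpers here

set_option autoImplicit false
universe u v
open CAlg

open TensorProduct

namespace Groth.Agent.S11082

theorem forward {k : Type u} {F : Type v} [Field k] [Field F] [Algebra k F] {ι : Type v} (a : ι → F)
    (ha : IsTranscendenceBasis k a)
    (hsep : Algebra.IsSeparable ↥(IntermediateField.adjoin k (Set.range a)) F) :
    ∃ b : Module.Basis ι F (Ω[F⁄k]), ∀ i, b i = KaehlerDifferential.D k F (a i) := by
  let e := AlgebraicIndependent.aevalEquivField ha.1
  let K := IntermediateField.adjoin k (Set.range a)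
  letI : Algebra (MvPolynomial ι k) K :=
    (e.toAlgHom.comp (IsScalarTower.toAlgHom k (MvPolynomial ι k) (FractionRing (MvPolynomial ι k)))).toRingHom.toAlgebra
  haveI : IsFractionRing (MvPolynomial ι k) K :=
    IsLocalization.isLocalization_of_algEquiv (nonZeroDivisors (MvPolynomial ι k))
      (AlgEquiv.ofRingEquiv (f := e.toRingEquiv) (fun x => rfl))
  letI : Algebra (MvPolynomial ι k) F :=
    ((algebraMap K F).comp (algebraMap (MvPolynomial ι k) K)).toAlgebra
  haveI : IsScalarTower (MvPolynomial ι k) K F := IsScalarTower.of_algebraMap_eq fun _ => rfl
  haveI : IsScalarTower k (MvPolynomial ι k) F := IsScalarTower.of_algebraMap_eq fun x => by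
    show algebraMap k F x = algebraMap K F (e (algebraMap _ _ (algebraMap k (MvPolynomial ι k) x)))
    rw [← IsScalarTower.algebraMap_apply k (MvPolynomial ι k) (FractionRing _), e.commutes]
    rfl
  haveI : Algebra.IsSeparable K F := hsep
  haveI : Algebra.FormallyEtale (MvPolynomial ι k) K :=
    Algebra.FormallyEtale.of_isLocalization (nonZeroDivisors _)
  haveI : Algebra.FormallyEtale K F := Algebra.FormallyEtale.of_isSeparable K F
  haveI : Algebra.FormallyEtale (MvPolynomial ι k) F :=
    Algebra.FormallyEtale.comp (MvPolynomial ι k) K F
  refine ⟨((KaehlerDifferential.mvPolynomialBasis k ι).baseChange F).map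
    (KaehlerDifferential.tensorKaehlerEquivOfFormallyEtale k (MvPolynomial ι k) F), fun i ↦ ?_⟩
  rw [Module.Basis.map_apply, Module.Basis.baseChange_apply,
    KaehlerDifferential.mvPolynomialBasis_apply,
    KaehlerDifferential.tensorKaehlerEquivOfFormallyEtale_apply,
    KaehlerDifferential.mapBaseChange_tmul, one_smul, KaehlerDifferential.map_D]
  congr 1
  show algebraMap K F (e (algebraMap _ _ (MvPolynomial.X i))) = a i
  simp [e, K]

end Groth.Agent.S11082

namespace Groth.Agent.S11082

/-- Let k be an algebraically closed field, F a field extension of k which is finitely generated as a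
field, and x a transcendence basis of F over k indexed by a type ι. Then F is a separable algebraic
extension of the subfield k(x) generated by the family (x is a separating transcendence basis) if
and only if the differentials d(x i) form a basis of the F-vector space of Kähler differentials of F
over k, i.e. they are linearly independent over F and span it. -/
theorem result (k : Type u) (F : Type v)
    [Field k] [IsAlgClosed k] [Field F] [Algebra k F] (hF : (⊤ : IntermediateField k F).FG)
    {ι : Type v} (x : ι → F) (hx : IsTranscendenceBasis k x) :
    Algebra.IsSeparable (IntermediateField.adjoin k (Set.range x)) F ↔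
      (LinearIndependent F (fun i : ι => KaehlerDifferential.D k F (x i)) ∧
        Submodule.span F (Set.range fun i : ι => KaehlerDifferential.D k F (x i)) = ⊤) := by
  constructor
  · intro h
    obtain ⟨b, hb⟩ := Groth.Agent.S11082.forward x hx h
    have : (fun i : ι => KaehlerDifferential.D k F (x i)) = b := funext fun i ↦ (hb i).symm
    rw [this]
    exact ⟨b.linearIndependent, b.span_eq⟩
  · rintro ⟨-, hspan⟩
    let K := IntermediateField.adjoin k (Set.range x)
    haveI : Algebra.EssFiniteType k F := IntermediateField.fg_top_iff.mp hF
    haveI : Algebra.EssFiniteType K F := Algebra.EssFiniteType.of_comp k K F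
    haveI : Algebra.FormallyUnramified K F := by
      refine ⟨⟨fun a b ↦ ?_⟩⟩
      suffices h : ∀ w : Ω[F⁄K], w = 0 by rw [h a, h b]
      intro w
      obtain ⟨v, rfl⟩ := KaehlerDifferential.map_surjective k K F w
      have hv : v ∈ Submodule.span F (Set.range fun i : ι => KaehlerDifferential.D k F (x i)) := by
        rw [hspan]; trivial
      induction hv using Submodule.span_induction with
      | mem y hy =>
        obtain ⟨i, rfl⟩ := hy
        rw [KaehlerDifferential.map_D]
        exact (KaehlerDifferential.D K F).map_algebraMap
          (⟨x i, IntermediateField.subset_adjoin k _ ⟨i, rfl⟩⟩ : K)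
      | zero => exact map_zero _
      | add a b _ _ ha hb => rw [map_add, ha, hb, add_zero]
      | smul c a _ ha => rw [map_smul, ha, smul_zero]
    exact Algebra.FormallyUnramified.isSeparable K F

end Groth.Agent.S11082
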