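import Groth.Statements.S11083
import Mathlib
-- import your own Groth.Agent.* helpers here

set_option autoImplicit false
universe u v
open CAlg

namespace Groth.Agent.S11083

theorem rank_of_separating (K : Type u) (L : Type v) [Field K] [Field L] [Algebra K L]
    (n : ℕ) (a : Fin n → L) (ha : IsTranscendenceBasis K a)
    (hsep : Algebra.IsSeparable ↥(IntermediateField.adjoin K (Set.range a)) L) :
    Module.rank L (Ω[L⁄K]) = n := by
  let e := AlgebraicIndependent.aevalEquivField ha.1
  let F := IntermediateField.adjoin K (Set.range a)
  letI : Algebra (MvPolynomial (Fin n) K) F :=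
    (e.toAlgHom.comp (IsScalarTower.toAlgHom K (MvPolynomial (Fin n) K) (FractionRing (MvPolynomial (Fin n) K)))).toRingHom.toAlgebra
  haveI : IsFractionRing (MvPolynomial (Fin n) K) F :=
    IsLocalization.isLocalization_of_algEquiv (nonZeroDivisors (MvPolynomial (Fin n) K))
      (AlgEquiv.ofRingEquiv (f := e.toRingEquiv) (fun x => rfl))
  letI : Algebra (MvPolynomial (Fin n) K) L :=
    ((algebraMap F L).comp (algebraMap (MvPolynomial (Fin n) K) F)).toAlgebra
  haveI : IsScalarTower (MvPolynomial (Fin n) K) F L := IsScalarTower.of_algebraMap_eq fun _ => rfl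
  haveI : IsScalarTower K (MvPolynomial (Fin n) K) L := IsScalarTower.of_algebraMap_eq fun x => by
    show algebraMap K L x = algebraMap F L (e (algebraMap _ _ (algebraMap K (MvPolynomial (Fin n) K) x)))
    rw [← IsScalarTower.algebraMap_apply K (MvPolynomial (Fin n) K) (FractionRing _), e.commutes]
    rfl
  haveI : Algebra.IsSeparable F L := hsep
  haveI : Algebra.FormallyEtale (MvPolynomial (Fin n) K) F :=
    Algebra.FormallyEtale.of_isLocalization (nonZeroDivisors _)
  haveI : Algebra.FormallyEtale F L := Algebra.FormallyEtale.of_isSeparable F L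
  haveI : Algebra.FormallyEtale (MvPolynomial (Fin n) K) L :=
    Algebra.FormallyEtale.comp (MvPolynomial (Fin n) K) F L
  rw [rank_eq_card_basis (((KaehlerDifferential.mvPolynomialBasis K (Fin n)).baseChange L).map
    (KaehlerDifferential.tensorKaehlerEquivOfFormallyEtale K (MvPolynomial (Fin n) K) L)),
    Fintype.card_fin]

/-- Let k be an algebraically closed field, F a field extension of k which is finitely generated as a
field, and x a transcendence basis of F over k indexed by Fin d. Then the F-vector space of Kähler
differentials of F over k has F-rank exactly d: it is finite-dimensional of dimension the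
transcendence degree. -/
theorem result (k : Type u) (F : Type v)
    [Field k] [IsAlgClosed k] [Field F] [Algebra k F] (hF : (⊤ : IntermediateField k F).FG)
    (d : ℕ) (x : Fin d → F) (hx : IsTranscendenceBasis k x) :
    Module.rank F (Ω[F⁄k]) = d := by
  haveI : Algebra.EssFiniteType k F := IntermediateField.fg_top_iff.1 hF
  obtain ⟨s, hs, hsep⟩ := exists_isTranscendenceBasis_and_isSeparable_of_perfectField k F
  have hc : s.card = d := by
    have := hs.lift_cardinalMk_eq hx
    simpa using this
  let e : Fin d ≃ s := (finCongr hc.symm).trans s.equivFin.symm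
  have hr : Set.range (fun i => (e i : F)) = (s : Set F) := by
    ext z; exact ⟨by rintro ⟨i, rfl⟩; exact (e i).2, fun hz => ⟨e.symm ⟨z, hz⟩, by simp⟩⟩
  refine rank_of_separating k F d _ (hs.comp_equiv e) ?_
  rw [show ((Subtype.val : s → F) ∘ e) = fun i => (e i : F) from rfl, hr]
  exact hsep

end Groth.Agent.S11083
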