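import Groth.Statements.S11084
import Mathlib.NumberTheory.RatFunc.Ostrowski
import Mathlib.RingTheory.Valuation.ValuationSubring

set_option autoImplicit false
universe u
open CAlg

namespace Groth.Agent.S11084

/-- Let k be a field and O a valuation subring of the field of rational functions k(x). Then O contains
the constants k and is different from k(x) if and only if O is the valuation ring of the P-adic
valuation at a nonzero prime P of the polynomial ring k[x], or O is the valuation ring of the
valuation at infinity (given by the degree). (The published statement has k algebraically closed, so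
that these valuation rings correspond to the points of the projective line; the published proof does
not use that k is algebraically closed. The published statement also asserts that distinct points
give distinct valuation rings, which this row does not state, and counts k(x) itself among the
valuation rings containing k; this row excludes it.) -/
theorem result (k : Type u) [Field k] [DecidableEq (RatFunc k)]
    (O : ValuationSubring (RatFunc k)) :
    ((algebraMap k (RatFunc k)).range ≤ O.toSubring ∧ O ≠ ⊤) ↔
      ((∃ v : IsDedekindDomain.HeightOneSpectrum (Polynomial k), O = (v.valuation (RatFunc k)).valuationSubring) ∨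
        O = (RatFunc.inftyValuation k).valuationSubring) := by
  constructor
  · rintro ⟨hk, hne⟩
    set v := O.valuation with hv
    have hsub : v.valuationSubring = O := by
      ext x; rw [Valuation.mem_valuationSubring_iff, hv, ValuationSubring.valuation_le_one_iff]
    haveI : v.IsTrivialOn k := ⟨fun c hc => le_antisymm
      ((O.valuation_le_one_iff _).2 (hk ⟨c, rfl⟩)) (by
        have h2 : v (algebraMap k (RatFunc k) c⁻¹) ≤ 1 := (O.valuation_le_one_iff _).2 (hk ⟨c⁻¹, rfl⟩)
        rw [map_inv₀, map_inv₀] at h2
        exact (inv_le_one₀ (zero_lt_iff.2 (by simpa using hc))).1 h2)⟩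
    haveI : v.IsNontrivial := by
      by_contra hnt
      refine hne (eq_top_iff.2 fun x _ => ?_)
      rw [← hsub, Valuation.mem_valuationSubring_iff]
      by_contra h
      exact hnt ⟨⟨x, fun h0 => h (by rw [h0]; exact zero_le_one), fun h1 => h h1.le⟩⟩
    rcases lt_or_ge 1 (v RatFunc.X) with hlt | hge
    · refine Or.inr ?_
      rw [← hsub]
      exact (Valuation.isEquiv_iff_valuationSubring _ _).1
        (RatFunc.valuation_isEquiv_inftyValuation_of_one_lt_valuation_X hlt)
    · refine Or.inl ⟨RatFunc.valuationIdeal hge, ?_⟩
      refine hsub.symm.trans ((Valuation.isEquiv_iff_valuationSubring _ _).1 ?_)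
      rw [Valuation.isEquiv_iff_val_le_one]
      intro f
      rcases eq_or_ne f 0 with rfl | hf0
      · simp
      · induction f using RatFunc.induction_on with
        | f p q hq0 =>
          have hp0 : p ≠ 0 := by simp_all
          have h1 := RatFunc.valuation_uniformizingPolynomial_lt_one hge
          have h0 : 0 < v (algebraMap (Polynomial k) (RatFunc k) (RatFunc.uniformizingPolynomial hge)) := by
            rw [zero_lt_iff]
            simpa using RatFunc.uniformizingPolynomial_ne_zero hge
          rw [RatFunc.coePolynomial_eq_algebraMap] at h1
          simp only [map_div₀, IsDedekindDomain.HeightOneSpectrum.valuation_of_algebraMap,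
            IsDedekindDomain.HeightOneSpectrum.intValuation_def, WithZero.exp_neg, if_neg hp0,
            if_neg hq0, div_inv_eq_mul]
          rw [RatFunc.valuation_eq_valuation_uniformizingPolynomial_pow_of_valuation_X_le_one hge hp0,
            RatFunc.valuation_eq_valuation_uniformizingPolynomial_pow_of_valuation_X_le_one hge hq0]
          simp_all [div_le_one₀, inv_mul_le_one₀]
          exact pow_le_pow_iff_right_of_lt_one₀ h0 h1
  · rintro (⟨w, rfl⟩ | rfl)
    · refine ⟨?_, fun htop => ?_⟩
      · rintro x ⟨c, rfl⟩
        show w.valuation (RatFunc k) _ ≤ 1
        rw [IsScalarTower.algebraMap_apply k (Polynomial k) (RatFunc k)]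
        exact w.valuation_le_one _
      · obtain ⟨g, hg, hg0⟩ := Submodule.exists_mem_ne_zero_of_ne_bot w.ne_bot
        have hm : (algebraMap (Polynomial k) (RatFunc k) g)⁻¹ ∈ (w.valuation (RatFunc k)).valuationSubring := by
          rw [htop]; trivial
        rw [Valuation.mem_valuationSubring_iff, map_inv₀] at hm
        have h1 : w.valuation (RatFunc k) (algebraMap (Polynomial k) (RatFunc k) g) < 1 :=
          (w.valuation_lt_one_iff_mem g).2 hg
        have h0 : 0 < w.valuation (RatFunc k) (algebraMap (Polynomial k) (RatFunc k) g) :=
          zero_lt_iff.2 (by simpa using hg0)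
        exact absurd ((inv_le_one₀ h0).1 hm) (not_le.2 h1)
    · refine ⟨?_, fun htop => ?_⟩
      · rintro x ⟨c, rfl⟩
        show RatFunc.inftyValuation k _ ≤ 1
        rcases eq_or_ne c 0 with rfl | hc
        · simp
        · rw [RatFunc.algebraMap_eq_C, RatFunc.inftyValuation.C k hc]
      · have hm : (RatFunc.X : RatFunc k) ∈ (RatFunc.inftyValuation k).valuationSubring := by
          rw [htop]; trivial
        rw [Valuation.mem_valuationSubring_iff, RatFunc.inftyValuation.X, ← WithZero.exp_zero,
          WithZero.exp_le_exp] at hm
        omega

end Groth.Agent.S11084
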