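import Groth.Statements.S11085
import Mathlib
import Groth.Agent.FunFldLib.Divisor
import Groth.Agent.DimTheory.Algebra
-- import your own Groth.Agent.* helpers here

set_option autoImplicit false
universe u
open CAlg

namespace Groth.Agent.S11085

/-- Let k be a field, A a finitely generated k-algebra which is an integral domain of Krull dimension
one (the coordinate ring of an affine curve), and F its field of fractions. Then the set of
valuation subrings of F which contain k but do not contain A is finite. (The published statement
speaks of all valuation rings of F different from F and not containing A, over an algebraically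
closed k; valuation rings not containing k must be excluded — for k an algebraic closure of a
rational function field in one variable t over a finite field and F = k(x), the t-adic valuation of
k has infinitely many extensions to F, none of whose rings contains A — and the published proof,
through the valuation at infinity of k(x), treats valuation rings containing k; it does not use that
k is algebraically closed.) -/
theorem result (k A F : Type u) [Field k]
    [CommRing A] [IsDomain A] [Algebra k A] [Algebra.FiniteType k A] (hA : ringKrullDim A = 1)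
    [Field F] [Algebra A F] [IsFractionRing A F] [Algebra k F] [IsScalarTower k A F] :
    {O : ValuationSubring F | (algebraMap k F).range ≤ O.toSubring ∧
        ¬ (algebraMap A F).range ≤ O.toSubring}.Finite := by
  obtain ⟨n, hn, htr⟩ := Groth.Agent.DimTheory.exists_trdeg_eq k A
  obtain rfl : n = 1 := by rw [hA] at hn; exact_mod_cast hn.symm
  haveI : Algebra.IsAlgebraic A F := IsLocalization.isAlgebraic F (nonZeroDivisors A)
  haveI : FaithfulSMul k A := (faithfulSMul_iff_algebraMap_injective _ _).2 (algebraMap k A).injective
  haveI : FaithfulSMul A F := (faithfulSMul_iff_algebraMap_injective _ _).2 (IsFractionRing.injective A F)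
  have htF : Algebra.trdeg k F = 1 := by
    rw [← trdeg_add_eq k A (A := F), trdeg_eq_zero (R := A) (A := F), add_zero, htr]; simp
  obtain ⟨s, hs⟩ := exists_isTranscendenceBasis k F
  have hcard := hs.cardinalMk_eq_trdeg
  rw [htF] at hcard
  obtain ⟨hsub, ⟨⟨x, hxs⟩⟩⟩ := Cardinal.eq_one_iff_unique.mp hcard
  have hFF : Groth.Agent.FunFldLib.IsFF k F := by
    refine ⟨x, hs.1.transcendental ⟨x, hxs⟩, ?_⟩
    haveI : Algebra.EssFiniteType k F :=
      haveI := Algebra.EssFiniteType.of_isLocalization F (nonZeroDivisors A)
      Algebra.EssFiniteType.comp k A F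
    haveI : Algebra.EssFiniteType (IntermediateField.adjoin k ({x} : Set F)) F :=
      Algebra.EssFiniteType.of_comp k _ F
    have h1 := hs.isAlgebraic_field
    have h2 : Set.range ((↑) : s → F) = {x} := by
      ext y
      simp only [Subtype.range_coe_subtype, Set.mem_singleton_iff]
      exact ⟨fun hy ↦ congrArg Subtype.val (hsub.elim ⟨y, hy⟩ ⟨x, hxs⟩), fun h ↦ h ▸ hxs⟩
    rw [h2] at h1
    exact Algebra.finite_of_essFiniteType_of_isAlgebraic
  obtain ⟨G, hG⟩ := Algebra.FiniteType.out (R := k) (A := A)
  let Z : Set (FunFld.Place k F) :=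
    ⋃ a ∈ G, {P : FunFld.Place k F | 0 < P.ord (algebraMap A F a)⁻¹}
  have hZ : Z.Finite :=
    G.finite_toSet.biUnion fun a _ ↦ Groth.Agent.FunFldLib.finite_zeros hFF _
  refine (hZ.image fun P ↦ P.O).subset ?_
  rintro O ⟨hk, hnA⟩
  obtain ⟨a, ha, haO⟩ : ∃ a ∈ G, algebraMap A F a ∉ O := by
    by_contra! hall
    apply hnA
    rintro _ ⟨y, rfl⟩
    have hy : y ∈ Algebra.adjoin k (G : Set A) := hG ▸ trivial
    induction hy using Algebra.adjoin_induction with
    | mem z hz => exact hall z hz
    | algebraMap c => rw [← IsScalarTower.algebraMap_apply]; exact hk ⟨c, rfl⟩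
    | add z w _ _ hz hw => rw [map_add]; exact add_mem hz hw
    | mul z w _ _ hz hw => rw [map_mul]; exact mul_mem hz hw
  have ha0 : algebraMap A F a ≠ 0 := fun h ↦ haO (h ▸ zero_mem _)
  obtain ⟨P, hP⟩ := Groth.Agent.FunFldLib.exists_place hFF O (fun c ↦ hk ⟨c, rfl⟩)
    (y := (algebraMap A F a)⁻¹) (inv_ne_zero ha0) (by rwa [inv_inv])
  refine ⟨P, Set.mem_biUnion ha ?_, hP⟩
  show 0 < P.ord (algebraMap A F a)⁻¹
  rw [Groth.Agent.FunFldLib.ord_inv]
  have : ¬ P.1 (algebraMap A F a) ≤ 1 := fun h ↦ haO (hP ▸ (Valuation.mem_valuationSubring_iff P.1 _).2 h)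
  rw [Groth.Agent.FunFldLib.val_le_one_iff P ha0] at this
  omega
end Groth.Agent.S11085
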