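import Groth.Statements.S11086
import Mathlib
-- import your own Groth.Agent.* helpers here

set_option autoImplicit false
universe u
attribute [local instance] FractionRing.liftAlgebra
open CAlg

namespace Groth.Agent.S11086

/-- Let A be a Dedekind domain, B a Dedekind domain which is a finitely generated torsion-free A-algebra
with fraction field separable over that of A (the integral closure of A in a finite separable
extension), and S a submonoid of A consisting of non-zero-divisors. Let A_S and B_S be localizations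
of A at S and of B at the image of S, with B_S an algebra over A_S compatibly with A and B (so A_S
is integrally closed and B_S is a Dedekind domain, torsion-free over A_S). Then the ideal of B_S
generated by the different of B over A is the different of B_S over A_S. -/
theorem result (A B : Type u) [CommRing A] [CommRing B]
    [IsDedekindDomain A] [IsDedekindDomain B] [Algebra A B] [Module.Finite A B] [Module.IsTorsionFree A B]
    [Algebra.IsSeparable (FractionRing A) (FractionRing B)]
    (S : Submonoid A) (hS : S ≤ nonZeroDivisors A)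
    (Aₛ Bₛ : Type u) [CommRing Aₛ] [CommRing Bₛ] [Algebra A Aₛ] [Algebra B Bₛ] [Algebra Aₛ Bₛ]
    [Algebra A Bₛ] [IsScalarTower A Aₛ Bₛ] [IsScalarTower A B Bₛ]
    [IsLocalization S Aₛ] [IsLocalization (Algebra.algebraMapSubmonoid B S) Bₛ]
    [IsDomain Aₛ] [IsIntegrallyClosed Aₛ] [IsDedekindDomain Bₛ] [Module.IsTorsionFree Aₛ Bₛ] :
    Ideal.map (algebraMap B Bₛ) (differentIdeal A B) = differentIdeal Aₛ Bₛ := by
  let K := FractionRing A
  let L := FractionRing B
  let T := Algebra.algebraMapSubmonoid B S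
  have hT : T ≤ nonZeroDivisors B := by
    rintro _ ⟨s, hs, rfl⟩
    exact mem_nonZeroDivisors_of_ne_zero (by
      simpa using (map_ne_zero_iff _ (FaithfulSMul.algebraMap_injective A B)).mpr (nonZeroDivisors.ne_zero (hS hs)))
  letI : Algebra Aₛ K := (IsLocalization.lift (M := S) (g := algebraMap A K)
    fun s ↦ IsLocalization.map_units K (⟨s, hS s.2⟩ : nonZeroDivisors A)).toAlgebra
  haveI : IsScalarTower A Aₛ K := .of_algebraMap_eq fun a ↦ (IsLocalization.lift_eq _ a).symm
  letI : Algebra Bₛ L := (IsLocalization.lift (M := T) (g := algebraMap B L)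
    fun s ↦ IsLocalization.map_units L (⟨s, hT s.2⟩ : nonZeroDivisors B)).toAlgebra
  haveI : IsScalarTower B Bₛ L := .of_algebraMap_eq fun a ↦ (IsLocalization.lift_eq _ a).symm
  haveI : IsFractionRing Aₛ K := IsFractionRing.isFractionRing_of_isDomain_of_isLocalization S Aₛ K
  haveI : IsFractionRing Bₛ L := IsFractionRing.isFractionRing_of_isDomain_of_isLocalization T Bₛ L
  letI : Algebra Aₛ L := ((algebraMap K L).comp (algebraMap Aₛ K)).toAlgebra
  haveI : IsScalarTower Aₛ K L := .of_algebraMap_eq fun _ ↦ rfl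
  haveI : IsScalarTower Aₛ Bₛ L := .of_algebraMap_eq' (IsLocalization.ringHom_ext S (by
    ext a
    show algebraMap K L (algebraMap Aₛ K (algebraMap A Aₛ a)) = algebraMap Bₛ L (algebraMap Aₛ Bₛ (algebraMap A Aₛ a))
    rw [← IsScalarTower.algebraMap_apply A Aₛ K, ← IsScalarTower.algebraMap_apply A K L, ← IsScalarTower.algebraMap_apply A Aₛ Bₛ,
      IsScalarTower.algebraMap_apply A B Bₛ, ← IsScalarTower.algebraMap_apply B Bₛ L, ← IsScalarTower.algebraMap_apply A B L]))
  haveI : IsIntegralClosure B A L := IsIntegralClosure.of_isIntegrallyClosed B A L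
  haveI : IsLocalization (Algebra.algebraMapSubmonoid B (nonZeroDivisors A)) L := IsIntegralClosure.isLocalization A K L B
  haveI : FiniteDimensional K L := Module.Finite.of_isLocalization A B (nonZeroDivisors A)
  haveI : Module.Finite Aₛ Bₛ := Module.Finite.of_isLocalization A B S
  haveI : IsIntegralClosure Bₛ Aₛ L := IsIntegralClosure.of_isIntegrallyClosed Bₛ Aₛ L
  have e1 := coeSubmodule_differentIdeal A K (L := L) (B := B)
  have e2 := coeSubmodule_differentIdeal Aₛ K (L := L) (B := Bₛ)
  have m1 : ∀ b : B, b ∈ differentIdeal A B ↔ ∀ d ∈ Submodule.traceDual A K (1 : Submodule B L), algebraMap B L b * d ∈ (algebraMap B L).range := by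
    intro b
    have h : algebraMap B L b ∈ IsLocalization.coeSubmodule L (differentIdeal A B) ↔ b ∈ differentIdeal A B :=
      ⟨fun ⟨c, hc, e⟩ ↦ IsFractionRing.injective B L e ▸ hc, fun hb ↦ ⟨b, hb, rfl⟩⟩
    rw [← h, e1, Submodule.mem_div_iff_forall_mul_mem]
    simp [Submodule.mem_one]
  have m2 : ∀ b : Bₛ, b ∈ differentIdeal Aₛ Bₛ ↔ ∀ d ∈ Submodule.traceDual Aₛ K (1 : Submodule Bₛ L), algebraMap Bₛ L b * d ∈ (algebraMap Bₛ L).range := by
    intro b
    have h : algebraMap Bₛ L b ∈ IsLocalization.coeSubmodule L (differentIdeal Aₛ Bₛ) ↔ b ∈ differentIdeal Aₛ Bₛ :=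
      ⟨fun ⟨c, hc, e⟩ ↦ IsFractionRing.injective Bₛ L e ▸ hc, fun hb ↦ ⟨b, hb, rfl⟩⟩
    rw [← h, e2, Submodule.mem_div_iff_forall_mul_mem]
    simp [Submodule.mem_one]
  have d1 : ∀ d : L, d ∈ Submodule.traceDual A K (1 : Submodule B L) ↔ ∀ b : B, Algebra.trace K L (d * algebraMap B L b) ∈ (algebraMap A K).range := by
    intro d; simp [Submodule.mem_traceDual, Submodule.mem_one, Algebra.traceForm_apply]
  have d2 : ∀ d : L, d ∈ Submodule.traceDual Aₛ K (1 : Submodule Bₛ L) ↔ ∀ b : Bₛ, Algebra.trace K L (d * algebraMap Bₛ L b) ∈ (algebraMap Aₛ K).range := by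
    intro d; simp [Submodule.mem_traceDual, Submodule.mem_one, Algebra.traceForm_apply]
  have hcl : ∀ (s : A), s ∈ S → ∀ x : L, algebraMap A L s * x ∈ (algebraMap B L).range → x ∈ (algebraMap Bₛ L).range := by
    rintro s hs x ⟨c, hc⟩
    refine ⟨IsLocalization.mk' Bₛ c (⟨algebraMap A B s, s, hs, rfl⟩ : T), ?_⟩
    have h := congrArg (algebraMap Bₛ L) (IsLocalization.mk'_spec Bₛ c (⟨algebraMap A B s, s, hs, rfl⟩ : T))
    rw [map_mul, ← IsScalarTower.algebraMap_apply, ← IsScalarTower.algebraMap_apply, ← IsScalarTower.algebraMap_apply, hc, mul_comm (algebraMap A L s)] at h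
    exact mul_right_cancel₀ ((map_ne_zero_iff _ (FaithfulSMul.algebraMap_injective A L)).mpr (nonZeroDivisors.ne_zero (hS hs))) h
  refine le_antisymm (Ideal.map_le_iff_le_comap.mpr fun b hb ↦ ?_) fun x hx ↦ ?_
  · rw [Ideal.mem_comap, m2]
    intro d hd
    obtain ⟨G, hG⟩ := Module.Finite.fg_top (R := A) (M := B)
    obtain ⟨s, hs⟩ := IsLocalization.exist_integer_multiples S (S := Aₛ) G fun g ↦ Classical.choose ((d2 d).mp hd (algebraMap B Bₛ g))
    have hd' : algebraMap A L s * d ∈ Submodule.traceDual A K (1 : Submodule B L) := by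
      rw [d1]
      intro y
      have hy : y ∈ Submodule.span A (G : Set B) := hG ▸ trivial
      induction hy using Submodule.span_induction with
      | mem g hg =>
        obtain ⟨a, ha⟩ := hs g hg
        refine ⟨a, ?_⟩
        have h := Classical.choose_spec ((d2 d).mp hd (algebraMap B Bₛ g))
        rw [IsScalarTower.algebraMap_apply A Aₛ K, ha, Algebra.smul_def, map_mul, h, ← IsScalarTower.algebraMap_apply A Aₛ K,
          ← IsScalarTower.algebraMap_apply B Bₛ L, mul_assoc, IsScalarTower.algebraMap_apply A K L,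
          ← Algebra.smul_def (algebraMap A K (s : A)), map_smul, smul_eq_mul]
      | zero => simp
      | add u v _ _ hu hv => simpa [mul_add] using add_mem hu hv
      | smul a u _ hu =>
        obtain ⟨c, hc⟩ := hu
        refine ⟨a * c, ?_⟩
        rw [map_mul, hc, show algebraMap A L (s : A) * d * algebraMap B L (a • u) = algebraMap A K a • (algebraMap A L (s : A) * d * algebraMap B L u) by
          rw [Algebra.smul_def a u, map_mul, ← IsScalarTower.algebraMap_apply A B L, Algebra.smul_def, ← IsScalarTower.algebraMap_apply A K L]; ring,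
          map_smul, smul_eq_mul]
    obtain ⟨c, hc⟩ := (m1 b).mp hb _ hd'
    rw [← IsScalarTower.algebraMap_apply]
    exact hcl s s.2 _ ⟨c, by rw [hc]; ring⟩
  · obtain ⟨b, t, rfl⟩ := IsLocalization.exists_mk'_eq T x
    rw [IsLocalization.mk'_mem_map_algebraMap_iff]
    have hb : algebraMap B Bₛ b ∈ differentIdeal Aₛ Bₛ := by
      rw [← IsLocalization.mk'_spec Bₛ b t]; exact Ideal.mul_mem_right _ _ hx
    have hsub : ∀ d ∈ Submodule.traceDual A K (1 : Submodule B L), d ∈ Submodule.traceDual Aₛ K (1 : Submodule Bₛ L) := by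
      intro d hd
      rw [d2]
      intro y
      obtain ⟨c, ⟨_, s, hs, rfl⟩, rfl⟩ := IsLocalization.exists_mk'_eq T y
      obtain ⟨a, ha⟩ := (d1 d).mp hd c
      refine ⟨IsLocalization.mk' Aₛ a ⟨s, hs⟩, ?_⟩
      have h1 := congrArg (algebraMap Aₛ K) (IsLocalization.mk'_spec Aₛ a ⟨s, hs⟩)
      have h2 := congrArg (fun z ↦ Algebra.trace K L (d * algebraMap Bₛ L z)) (IsLocalization.mk'_spec Bₛ c (⟨algebraMap A B s, s, hs, rfl⟩ : T))
      simp only [map_mul] at h1 h2
      rw [← IsScalarTower.algebraMap_apply A Aₛ K, ← IsScalarTower.algebraMap_apply A Aₛ K] at h1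
      rw [← IsScalarTower.algebraMap_apply B Bₛ L, ← IsScalarTower.algebraMap_apply B Bₛ L, ← IsScalarTower.algebraMap_apply A B L,
        ← mul_assoc, mul_comm _ (algebraMap A L s), IsScalarTower.algebraMap_apply A K L s, ← Algebra.smul_def, map_smul, smul_eq_mul] at h2
      refine mul_right_cancel₀ ((map_ne_zero_iff _ (IsFractionRing.injective A K)).mpr (nonZeroDivisors.ne_zero (hS hs))) ?_
      rw [h1, ha, ← h2, mul_comm]
    obtain ⟨G, hG⟩ : (Submodule.traceDual A K (1 : Submodule B L)).FG := by
      rw [← FractionalIdeal.coe_dual_one A K L B]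
      exact FractionalIdeal.fg_of_isNoetherianRing (le_refl _) _
    have hG' : ∀ g ∈ G, ∃ z : Bₛ, algebraMap Bₛ L z = algebraMap B L b * g := by
      intro g hg
      rw [IsScalarTower.algebraMap_apply B Bₛ L]
      exact (m2 _).mp hb g (hsub g (hG ▸ Submodule.subset_span hg))
    choose z hz using hG'
    obtain ⟨u, hu⟩ := IsLocalization.exist_integer_multiples T (S := Bₛ) G.attach fun g ↦ z g.1 g.2
    refine ⟨u, u.2, (m1 _).mpr fun d hd ↦ ?_⟩
    rw [← hG] at hd
    induction hd using Submodule.span_induction with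
    | mem g hg =>
      obtain ⟨c, hc⟩ := hu ⟨g, hg⟩ (Finset.mem_attach _ _)
      refine ⟨c, ?_⟩
      rw [IsScalarTower.algebraMap_apply B Bₛ L, hc, Algebra.smul_def, map_mul, hz, ← IsScalarTower.algebraMap_apply, map_mul, mul_assoc]
    | zero => simp
    | add u v _ _ hu hv => rw [mul_add]; exact add_mem hu hv
    | smul a w _ hw =>
      obtain ⟨c, hc⟩ := hw
      exact ⟨a * c, by rw [map_mul, hc, Algebra.smul_def]; ring⟩

end Groth.Agent.S11086
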