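import Groth.Statements.S11087
import Mathlib
import Groth.Agent.WEtale.Olivier
import Groth.Agent.CplFin.Basic
-- import your own Groth.Agent.* helpers here

set_option autoImplicit false
universe u
attribute [local instance] FractionRing.liftAlgebra
open CAlg

namespace Groth.Agent.S11087

/-- Let A be a complete discrete valuation ring and K a perfect field contained in A such that K → A →
A/m is bijective. Let B be a Dedekind domain which is a finite torsion-free A-algebra with fraction
field separable over that of A (the integral closure of A in a finite separable extension of its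
fraction field). Then for every maximal ideal M of B and every b in B there is exactly one element c
of B which is algebraic over K and congruent to b modulo M; in other words the algebraic closure of
K in B is a subfield mapping isomorphically onto B/M. -/
theorem result (K A B : Type u) [Field K]
    [PerfectField K] [CommRing A] [IsDomain A] [IsDiscreteValuationRing A]
    [IsAdicComplete (IsLocalRing.maximalIdeal A) A]
    [Algebra K A] (hK : Function.Bijective ((IsLocalRing.residue A).comp (algebraMap K A)))
    [CommRing B] [IsDedekindDomain B] [Algebra A B] [Module.Finite A B] [Module.IsTorsionFree A B]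
    [Algebra.IsSeparable (FractionRing A) (FractionRing B)] [Algebra K B] [IsScalarTower K A B]
    (M : Ideal B) [M.IsMaximal] (b : B) :
    ∃! c : B, IsAlgebraic K c ∧ b - c ∈ M := by
  classical
  let m := IsLocalRing.maximalIdeal A
  haveI : HenselianLocalRing A :=
    ⟨fun f hf a₀ h1 h2 ↦ HenselianRing.is_henselian (I := m) f hf a₀ h1 (h2.map _)⟩
  haveI : Algebra.IsIntegral A B := inferInstance
  haveI : IsLocalRing B := Groth.Agent.WEtale.Olivier.isLocalRing_of_isIntegral (A := A) (R := B)
  have hM : M = IsLocalRing.maximalIdeal B := IsLocalRing.eq_maximalIdeal inferInstance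
  let J := m.map (algebraMap A B)
  have hmM : M.comap (algebraMap A B) = m :=
    IsLocalRing.eq_maximalIdeal (Ideal.isMaximal_comap_of_isIntegral_of_isMaximal M)
  have hJM : J ≤ M := Ideal.map_le_iff_le_comap.mpr hmM.ge
  haveI : IsAdicComplete J B :=
    (IsAdicComplete.map_algebraMap_iff m B).mpr (Groth.Agent.CplFin.isAdicComplete_of_finite A m B)
  have huniq : ∀ c c' : B, IsAlgebraic K c → b - c ∈ M → IsAlgebraic K c' → b - c' ∈ M → c = c' := by
    intro c c' hc hcM hc' hcM'
    by_contra hne
    have hd : IsAlgebraic K (c - c') := hc.sub hc'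
    have hdM : c - c' ∈ M := by
      have := sub_mem hcM' hcM
      simpa using this
    obtain ⟨w, hw⟩ := IsAlgebraic.exists_nonzero_dvd hd (mem_nonZeroDivisors_of_ne_zero (sub_ne_zero.mpr hne))
    obtain ⟨u, hu⟩ := hw.2
    have hu' : IsUnit (algebraMap K B w) := ((Ne.isUnit hw.1).map _)
    have hmem : algebraMap K B w ∈ M := by rw [hu]; exact M.mul_mem_right u hdM
    exact (inferInstance : M.IsMaximal).ne_top (Ideal.eq_top_of_isUnit_mem _ hmem hu')
  suffices hex : ∃ c : B, IsAlgebraic K c ∧ b - c ∈ M by
    obtain ⟨c, hc⟩ := hex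
    exact ⟨c, hc, fun c' hc' ↦ huniq c' c hc'.1 hc'.2 hc.1 hc.2⟩
  letI := Ideal.Quotient.field M
  haveI : Algebra.IsIntegral K (B ⧸ M) := by
    refine ⟨fun x ↦ ?_⟩
    obtain ⟨x, rfl⟩ := Ideal.Quotient.mk_surjective x
    obtain ⟨p, hp, hpx⟩ := Algebra.IsIntegral.isIntegral (R := A) x
    let κ : A →+* K := (RingEquiv.ofBijective ((IsLocalRing.residue A).comp (algebraMap K A)) hK).symm.toRingHom.comp (IsLocalRing.residue A)
    have hκ : (algebraMap K (B ⧸ M)).comp κ = (Ideal.Quotient.mk M).comp (algebraMap A B) := by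
      ext a
      have h1 : IsLocalRing.residue A (algebraMap K A (κ a)) = IsLocalRing.residue A a :=
        (RingEquiv.ofBijective ((IsLocalRing.residue A).comp (algebraMap K A)) hK).apply_symm_apply _
      show Ideal.Quotient.mk M (algebraMap K B (κ a)) = Ideal.Quotient.mk M (algebraMap A B a)
      rw [IsScalarTower.algebraMap_apply K A B, Ideal.Quotient.eq, ← map_sub]
      show _ ∈ M.comap (algebraMap A B)
      rw [hmM]
      exact Ideal.Quotient.eq.mp h1
    refine ⟨p.map κ, hp.map κ, ?_⟩
    rw [Polynomial.eval₂_map, hκ, ← Polynomial.hom_eval₂, hpx, map_zero]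
  let q := minpoly K (Ideal.Quotient.mk M b)
  have hq : Polynomial.aeval b q ∈ M := by
    rw [← Ideal.Quotient.eq_zero_iff_mem, ← Ideal.Quotient.mkₐ_eq_mk K, ← Polynomial.aeval_algHom_apply]
    exact minpoly.aeval K _
  have hsep : q.Separable := Algebra.IsSeparable.isSeparable K (Ideal.Quotient.mk M b)
  have hder : IsUnit (Polynomial.aeval b (Polynomial.derivative q)) := by
    by_contra h
    have hmem : Polynomial.aeval b (Polynomial.derivative q) ∈ M := hM ▸ (IsLocalRing.mem_maximalIdeal _).mpr h
    have := hsep.aeval_derivative_ne_zero (minpoly.aeval K (Ideal.Quotient.mk M b))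
    apply this
    rw [← Ideal.Quotient.mkₐ_eq_mk K, Polynomial.aeval_algHom_apply, Ideal.Quotient.mkₐ_eq_mk,
      Ideal.Quotient.eq_zero_iff_mem]
    exact hmem
  have hnil : ∀ x ∈ M, IsNilpotent (Ideal.Quotient.mk J x) := by
    intro x hx
    obtain ⟨n, hn⟩ : x ∈ J.radical := by
      rw [Ideal.radical_eq_sInf]
      refine Ideal.mem_sInf.mpr fun {P} hP ↦ ?_
      haveI := hP.2
      have hPm : P.comap (algebraMap A B) = m := by
        refine le_antisymm (IsLocalRing.le_maximalIdeal (Ideal.IsPrime.comap _).ne_top) ?_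
        exact Ideal.map_le_iff_le_comap.mp hP.1
      have : P.IsMaximal := Ideal.isMaximal_of_isIntegral_of_isMaximal_comap P (by rw [hPm]; exact IsLocalRing.maximalIdeal.isMaximal A)
      rw [IsLocalRing.eq_maximalIdeal this, ← hM]
      exact hx
    exact ⟨n, by rw [← map_pow, Ideal.Quotient.eq_zero_iff_mem]; exact hn⟩
  obtain ⟨r, ⟨hr1, hr2⟩, -⟩ := Polynomial.existsUnique_nilpotent_sub_and_aeval_eq_zero (P := q)
    (x := Ideal.Quotient.mk J b)
    (by rw [← Ideal.Quotient.mkₐ_eq_mk K, Polynomial.aeval_algHom_apply]; exact hnil _ hq)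
    (by rw [← Ideal.Quotient.mkₐ_eq_mk K, Polynomial.aeval_algHom_apply]; exact hder.map _)
  obtain ⟨r, rfl⟩ := Ideal.Quotient.mk_surjective r
  have hrb : b - r ∈ M := by
    obtain ⟨n, hn⟩ := hr1
    rw [← map_sub, ← map_pow, Ideal.Quotient.eq_zero_iff_mem] at hn
    exact (inferInstance : M.IsMaximal).isPrime.mem_of_pow_mem n (hJM hn)
  rw [← Ideal.Quotient.mkₐ_eq_mk K, Polynomial.aeval_algHom_apply, Ideal.Quotient.mkₐ_eq_mk,
    Ideal.Quotient.eq_zero_iff_mem] at hr2
  have hmon : (q.map (algebraMap K B)).Monic :=
    (minpoly.monic (Algebra.IsIntegral.isIntegral _)).map _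
  have hderr : IsUnit (Polynomial.aeval r (Polynomial.derivative q)) := by
    by_contra h
    have h1 : Polynomial.aeval r (Polynomial.derivative q) ∈ M := hM ▸ (IsLocalRing.mem_maximalIdeal _).mpr h
    have h2 := (Polynomial.derivative q).map (algebraMap K B) |>.sub_dvd_eval_sub b r
    rw [Polynomial.eval_map, Polynomial.eval_map, ← Polynomial.aeval_def, ← Polynomial.aeval_def] at h2
    obtain ⟨z, hz⟩ := h2
    have h3 : Polynomial.aeval b (Polynomial.derivative q) ∈ M := by
      have := add_mem h1 (show (b - r) * z ∈ M from M.mul_mem_right z hrb)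
      rwa [← hz, add_sub_cancel] at this
    exact (inferInstance : M.IsMaximal).ne_top (Ideal.eq_top_of_isUnit_mem _ h3 hder)
  obtain ⟨c, hc, hcr⟩ := HenselianRing.is_henselian (I := J) (q.map (algebraMap K B)) hmon r
    (by rwa [Polynomial.eval_map, ← Polynomial.aeval_def])
    (by
      rw [Polynomial.derivative_map, Polynomial.eval_map, ← Polynomial.aeval_def]
      exact hderr.map _)
  refine ⟨c, ⟨q, minpoly.ne_zero (Algebra.IsIntegral.isIntegral _), ?_⟩, ?_⟩
  · rw [Polynomial.IsRoot, Polynomial.eval_map] at hc
    exact hc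
  · have := sub_mem hrb (hJM hcr)
    simpa using this
end Groth.Agent.S11087
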