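import Groth.Statements.S11088
import Mathlib
import Groth.Agent.WEtale.Olivier
-- import your own Groth.Agent.* helpers here

set_option autoImplicit false
universe u
attribute [local instance] FractionRing.liftAlgebra
open CAlg

namespace Groth.Agent.S11088

/-- Let A be a complete discrete valuation ring with maximal ideal m and B a Dedekind domain which is a
finite torsion-free A-algebra with fraction field separable over that of A (the integral closure of
A in a finite separable extension). Then for every maximal ideal M of B, with f the degree of B/M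
over A/m, and every nonzero x in B, the multiplicity of m in the ideal generated by the norm of x
equals f times the multiplicity of M in the ideal generated by x: v(N(x)) = f · w(x). -/
theorem result (A B : Type u) [CommRing A] [IsDomain A] [IsDiscreteValuationRing A]
    [IsAdicComplete (IsLocalRing.maximalIdeal A) A]
    [CommRing B] [IsDedekindDomain B] [Algebra A B] [Module.Finite A B] [Module.IsTorsionFree A B]
    [Algebra.IsSeparable (FractionRing A) (FractionRing B)]
    (M : Ideal B) [M.IsMaximal] (x : B) (hx : x ≠ 0) :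
    emultiplicity (IsLocalRing.maximalIdeal A) (Ideal.span {Algebra.intNorm A B x}) =
      (M.inertiaDeg A : ℕ∞) * emultiplicity M (Ideal.span {x}) := by
  classical
  let m := IsLocalRing.maximalIdeal A
  haveI : HenselianLocalRing A :=
    ⟨fun f hf a₀ h1 h2 ↦ HenselianRing.is_henselian (I := m) f hf a₀ h1 (h2.map _)⟩
  haveI : IsLocalRing B := Groth.Agent.WEtale.Olivier.isLocalRing_of_isIntegral (A := A) (R := B)
  have hM : M = IsLocalRing.maximalIdeal B := IsLocalRing.eq_maximalIdeal inferInstance
  have hmM : M.comap (algebraMap A B) = m :=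
    IsLocalRing.eq_maximalIdeal (Ideal.isMaximal_comap_of_isIntegral_of_isMaximal M)
  haveI : M.LiesOver m := ⟨hmM.symm⟩
  have hprimes : ∀ q : m.primesOver B, q.1 = M := by
    rintro ⟨q, hq, hql⟩
    haveI := hq
    haveI := hql
    haveI : q.IsMaximal := Ideal.isMaximal_of_isIntegral_of_isMaximal_comap q
      (R := A) (show (q.under A).IsMaximal by rw [← Ideal.over_def q m]; exact IsLocalRing.maximalIdeal.isMaximal A)
    exact (IsLocalRing.eq_maximalIdeal inferInstance).trans hM.symm
  letI : Fintype (m.primesOver B) :=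
    { elems := {⟨M, inferInstance, inferInstance⟩}, complete := fun q ↦ by simp [Subtype.ext_iff, hprimes q] }
  have hsum := Ideal.sum_ramification_inertia_eq_finrank (R := A) (S := B) (p := m)
  rw [Fintype.sum_eq_single ⟨M, inferInstance, inferInstance⟩ (fun q hq ↦ absurd (Subtype.ext (hprimes q)) hq)] at hsum
  obtain ⟨π, hπ⟩ := IsDiscreteValuationRing.exists_irreducible A
  have hm' : m = Ideal.span {π} := hπ.maximalIdeal_eq
  have hm0 : m ≠ ⊥ := by rw [hm', ne_eq, Ideal.span_singleton_eq_bot]; exact hπ.ne_zero
  have hmB : m.map (algebraMap A B) ≠ ⊥ := Ideal.map_ne_bot_of_ne_bot hm0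
  have hM0 : M ≠ ⊥ := ne_bot_of_le_ne_bot hmB (Ideal.map_le_iff_le_comap.mpr hmM.ge)
  haveI : IsDiscreteValuationRing B := by
    refine IsDiscreteValuationRing.mk ?_
    rw [← hM]; exact hM0
  have hpow : ∀ I : Ideal B, I ≠ ⊥ → ∃ e, I = M ^ e := by
    intro I hI
    obtain ⟨v, hv⟩ := IsDiscreteValuationRing.exists_irreducible B
    obtain ⟨e, he⟩ := IsDiscreteValuationRing.ideal_eq_span_pow_irreducible hI hv
    exact ⟨e, by rw [he, hM, hv.maximalIdeal_eq, Ideal.span_singleton_pow]⟩
  obtain ⟨e, he⟩ := hpow _ hmB
  obtain ⟨s, hs⟩ := Ideal.exists_relNorm_eq_pow_of_isPrime M m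
  have hprime : Prime m := Ideal.prime_of_isPrime hm0 inferInstance
  have hinj : ∀ a b : ℕ, m ^ a = m ^ b → a = b := fun a b h ↦
    pow_injective_of_not_isUnit hprime.not_isUnit hprime.ne_zero h
  have hse : s * e = Module.finrank A B := by
    apply hinj
    rw [← Ideal.relNorm_algebraMap B m, he, map_pow, hs, pow_mul]
  have hram : M.ramificationIdx A = e := by
    rw [← Ideal.ramificationIdx'_eq_ramificationIdx m M hm0]
    refine Ideal.ramificationIdx'_spec he.le ?_
    rw [he]
    exact fun h ↦ absurd (Ideal.dvd_iff_le.mpr h) (fun hd ↦ by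
      have := (pow_dvd_pow_iff (α := Ideal B) (a := M) hM0 (fun hu ↦ (inferInstance : M.IsMaximal).ne_top (Ideal.isUnit_iff.mp hu))).mp hd
      omega)
  rw [hram, ← hse] at hsum
  have hf : s = M.inertiaDeg A := by
    have he0 : e ≠ 0 := by
      rintro rfl
      rw [pow_zero, Ideal.one_eq_top] at he
      exact (inferInstance : M.IsMaximal).ne_top (top_le_iff.mp (he ▸ Ideal.map_le_iff_le_comap.mpr hmM.ge))
    apply Nat.eq_of_mul_eq_mul_left (Nat.pos_of_ne_zero he0)
    rw [mul_comm e s]
    exact hsum.symm
  obtain ⟨w, hw⟩ := hpow (Ideal.span {x}) (by rwa [ne_eq, Ideal.span_singleton_eq_bot])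
  rw [← Ideal.relNorm_singleton, hw, map_pow, hs, ← pow_mul, emultiplicity_pow_self_of_prime hprime,
    emultiplicity_pow_self_of_prime (Ideal.prime_of_isPrime hM0 inferInstance), hf]
  push_cast
  rfl
end Groth.Agent.S11088
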