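import Groth.Statements.S11089
import Mathlib
import Groth.Agent.WEtale.Olivier
import Groth.Agent.CplFin.Basic
-- import your own Groth.Agent.* helpers here

set_option autoImplicit false
universe u
attribute [local instance] FractionRing.liftAlgebra
open CAlg

namespace Groth.Agent.S11089

/-- Let A be a complete discrete valuation ring containing a field K with K → A → A/m bijective, and B a
Dedekind domain which is a finite torsion-free A-algebra of rank m with fraction field separable
over that of A (the integral closure of A in a finite separable extension E of F = Frac A). If the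
extension is totally ramified — the maximal ideal M of B has ramification index m — and m is a unit
in A, then some uniformizer u of B (an element of M not in M²) satisfies u^m ∈ A and generates E
over F: its minimal polynomial over A has degree m. -/
theorem result (K A B : Type u) [Field K]
    [CommRing A] [IsDomain A] [IsDiscreteValuationRing A]
    [IsAdicComplete (IsLocalRing.maximalIdeal A) A]
    [Algebra K A] (hK : Function.Bijective ((IsLocalRing.residue A).comp (algebraMap K A)))
    [CommRing B] [IsDedekindDomain B] [Algebra A B] [Module.Finite A B] [Module.IsTorsionFree A B]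
    [Algebra.IsSeparable (FractionRing A) (FractionRing B)]
    (M : Ideal B) [M.IsMaximal] (hram : M.ramificationIdx A = Module.finrank A B)
    (hm : IsUnit ((Module.finrank A B : ℕ) : A)) :
    ∃ u : B, u ∈ M ∧ u ∉ M ^ 2 ∧ u ^ Module.finrank A B ∈ (algebraMap A B).range ∧
      (minpoly A u).natDegree = Module.finrank A B := by
  classical
  let m := IsLocalRing.maximalIdeal A
  haveI : HenselianLocalRing A :=
    ⟨fun f hf a₀ h1 h2 ↦ HenselianRing.is_henselian (I := m) f hf a₀ h1 (h2.map _)⟩
  haveI : IsLocalRing B := Groth.Agent.WEtale.Olivier.isLocalRing_of_isIntegral (A := A) (R := B)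
  have hM : M = IsLocalRing.maximalIdeal B := IsLocalRing.eq_maximalIdeal inferInstance
  have hmM : M.comap (algebraMap A B) = m :=
    IsLocalRing.eq_maximalIdeal (Ideal.isMaximal_comap_of_isIntegral_of_isMaximal M)
  haveI : M.LiesOver m := ⟨hmM.symm⟩
  set n := Module.finrank A B
  have hn : 0 < n := Module.finrank_pos
  -- residue field
  have hprimes : ∀ q : m.primesOver B, q.1 = M := by
    rintro ⟨q, hq, hql⟩
    haveI := hq
    haveI := hql
    haveI : q.IsMaximal := Ideal.isMaximal_of_isIntegral_of_isMaximal_comap q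
      (R := A) (show (q.under A).IsMaximal by rw [← Ideal.over_def q m]; exact IsLocalRing.maximalIdeal.isMaximal A)
    exact (IsLocalRing.eq_maximalIdeal inferInstance).trans hM.symm
  letI : Fintype (m.primesOver B) :=
    { elems := {⟨M, inferInstance, inferInstance⟩}, complete := fun q ↦ by simp [Subtype.ext_iff, hprimes q] }
  have hsum := Ideal.sum_ramification_inertia_eq_finrank (R := A) (S := B) (p := m)
  rw [Fintype.sum_eq_single ⟨M, inferInstance, inferInstance⟩ (fun q hq ↦ absurd (Subtype.ext (hprimes q)) hq),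
    hram, Ideal.inertiaDeg_eq_of_isMaximal m M] at hsum
  have hf1 : Module.finrank (A ⧸ m) (B ⧸ M) = 1 := by
    have := hn
    nlinarith
  have hres : ∀ x : B, ∃ a : A, x - algebraMap A B a ∈ M := by
    intro x
    letI := Ideal.Quotient.field m
    obtain ⟨c, hc⟩ := (finrank_eq_one_iff_of_nonzero' (1 : B ⧸ M) one_ne_zero).mp hf1 (Ideal.Quotient.mk M x)
    obtain ⟨a, rfl⟩ := Ideal.Quotient.mk_surjective c
    refine ⟨a, Ideal.Quotient.eq.mp ?_⟩
    rw [← hc, Algebra.smul_def, mul_one]
    rfl
  -- uniformizers
  obtain ⟨π, hπ⟩ := IsDiscreteValuationRing.exists_irreducible A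
  have hm' : m = Ideal.span {π} := hπ.maximalIdeal_eq
  have hπ0 : algebraMap A B π ≠ 0 := (map_ne_zero_iff _ (FaithfulSMul.algebraMap_injective A B)).mpr hπ.ne_zero
  have hM0 : M ≠ ⊥ := fun h ↦ hπ0 (by
    rw [← Ideal.mem_bot, ← h]
    show π ∈ M.comap (algebraMap A B)
    rw [hmM, hm']; exact Ideal.mem_span_singleton_self π)
  haveI : IsDiscreteValuationRing B := by
    refine IsDiscreteValuationRing.mk ?_
    rw [← hM]; exact hM0
  obtain ⟨v, hv⟩ := IsDiscreteValuationRing.exists_irreducible B
  have hvM : M = Ideal.span {v} := hM.trans hv.maximalIdeal_eq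
  obtain ⟨e, w, hw⟩ := IsDiscreteValuationRing.eq_unit_mul_pow_irreducible hπ0 hv
  have he : e = n := by
    rw [← hram]
    have hmap : m.map (algebraMap A B) = M ^ e := by
      rw [hm', Ideal.map_span, Set.image_singleton, hvM, Ideal.span_singleton_pow, hw,
        Ideal.span_singleton_mul_left_unit w.isUnit]
    have hne : m.map (algebraMap A B) ≠ ⊥ := by rw [hmap]; exact pow_ne_zero _ hM0
    rw [← Ideal.ramificationIdx'_eq_ramificationIdx m M (by rw [hm', ne_eq, Ideal.span_singleton_eq_bot]; exact hπ.ne_zero)]
    refine (Ideal.ramificationIdx'_spec hmap.le ?_).symm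
    rw [hmap, hvM, Ideal.span_singleton_pow, Ideal.span_singleton_pow, Ideal.span_singleton_le_span_singleton]
    intro hd
    exact absurd ((pow_dvd_pow_iff hv.ne_zero hv.not_isUnit).mp hd) (by omega)
  subst he
  obtain ⟨a, ha⟩ := hres (w : B)
  have hau : IsUnit a := by
    by_contra h
    have : algebraMap A B a ∈ M := by
      show a ∈ M.comap (algebraMap A B)
      rw [hmM]; exact (IsLocalRing.mem_maximalIdeal _).mpr h
    exact (inferInstance : M.IsMaximal).ne_top (Ideal.eq_top_of_isUnit_mem _
      (by simpa using add_mem ha this) w.isUnit)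
  let J := m.map (algebraMap A B)
  haveI : IsAdicComplete J B :=
    (IsAdicComplete.map_algebraMap_iff m B).mpr (Groth.Agent.CplFin.isAdicComplete_of_finite A m B)
  let w' : B := (w : B) * algebraMap A B ↑hau.unit⁻¹
  have hw'1 : w' - 1 ∈ M := by
    have : w' - 1 = algebraMap A B ↑hau.unit⁻¹ * ((w : B) - algebraMap A B a) := by
      rw [mul_sub, ← map_mul, IsUnit.val_inv_mul, map_one]; ring
    rw [this]; exact M.mul_mem_left _ ha
  let q : Polynomial B := Polynomial.X ^ n - Polynomial.C w'
  have hJ : ∀ x ∈ M, IsNilpotent (Ideal.Quotient.mk J x) := by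
    intro x hx
    refine ⟨n, ?_⟩
    rw [← map_pow, Ideal.Quotient.eq_zero_iff_mem]
    show x ^ n ∈ m.map (algebraMap A B)
    rw [hm', Ideal.map_span, Set.image_singleton, hw, Ideal.span_singleton_mul_left_unit w.isUnit,
      ← Ideal.span_singleton_pow, ← hvM]
    exact Ideal.pow_mem_pow hx n
  have hnB : IsUnit (n : B) := by simpa using hm.map (algebraMap A B)
  obtain ⟨r, ⟨hr1, hr2⟩, -⟩ := Polynomial.existsUnique_nilpotent_sub_and_aeval_eq_zero (P := q)
    (x := (1 : B ⧸ J))
    (by
      have := hJ _ hw'1
      have := this.neg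
      simpa [q] using this)
    (by
      simpa [q, Polynomial.derivative_X_pow] using hnB.map (Ideal.Quotient.mk J))
  obtain ⟨r, rfl⟩ := Ideal.Quotient.mk_surjective r
  have hru : IsUnit r := by
    by_contra h
    have h1 : r ∈ M := hM ▸ (IsLocalRing.mem_maximalIdeal _).mpr h
    obtain ⟨k, hk⟩ := hr1
    rw [← map_one (Ideal.Quotient.mk J), ← map_sub, ← map_pow, Ideal.Quotient.eq_zero_iff_mem] at hk
    have hJM : J ≤ M := Ideal.map_le_iff_le_comap.mpr hmM.ge
    have h2 := (inferInstance : M.IsMaximal).isPrime.mem_of_pow_mem k (hJM hk)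
    exact (inferInstance : M.IsMaximal).ne_top (M.eq_top_iff_one.mpr (by simpa using add_mem h2 h1))
  obtain ⟨z, hz, hzr⟩ := HenselianRing.is_henselian (I := J) q (Polynomial.monic_X_pow_sub_C _ hn.ne') r
    (by
      simp [q] at hr2 ⊢
      rw [← Ideal.Quotient.eq_zero_iff_mem, map_sub, map_pow]
      simpa using hr2)
    (by simpa [q, Polynomial.derivative_X_pow] using (hnB.mul (hru.pow (n - 1))).map (Ideal.Quotient.mk J))
  have hzu : IsUnit z := by
    have : (z ^ n : B) = w' := by simpa [q, Polynomial.IsRoot, sub_eq_zero] using hz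
    have hw'u : IsUnit w' := w.isUnit.mul ((Units.isUnit _).map _)
    exact (isUnit_pow_iff hn.ne').mp (this ▸ hw'u)
  refine ⟨v * z, ?_, ?_, ?_, ?_⟩
  · rw [hvM]; exact Ideal.mem_span_singleton.mpr (Dvd.intro _ rfl)
  · rw [hvM, Ideal.span_singleton_pow, Ideal.mem_span_singleton, hzu.dvd_mul_right]
    intro hd
    have := (pow_dvd_pow_iff hv.ne_zero hv.not_isUnit (n := 2) (m := 1)).mp (by simpa using hd)
    omega
  all_goals
    have hpow : (v * z) ^ n = algebraMap A B (π * ↑hau.unit⁻¹) := by
      have : (z ^ n : B) = w' := by simpa [q, Polynomial.IsRoot, sub_eq_zero] using hz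
      rw [mul_pow, this, map_mul, hw]; ring
  · exact ⟨_, hpow.symm⟩
  · let p : Polynomial A := Polynomial.X ^ n - Polynomial.C (π * ↑hau.unit⁻¹)
    have hp : p.Monic := Polynomial.monic_X_pow_sub_C _ hn.ne'
    have hroot : Polynomial.aeval (v * z) p = 0 := by simp [p, hpow]
    have hdeg : p.natDegree = n := by rw [Polynomial.natDegree_X_pow_sub_C]
    have heis : p.IsEisensteinAt m := by
      refine ⟨?_, fun {i} hi ↦ ?_, ?_⟩
      · rw [hp.leadingCoeff]; exact (IsLocalRing.maximalIdeal.isMaximal A).ne_top ∘ m.eq_top_iff_one.mpr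
      · rw [hdeg] at hi
        rw [Polynomial.coeff_sub, Polynomial.coeff_X_pow, if_neg (by omega), Polynomial.coeff_C]
        split_ifs
        · rw [zero_sub]; exact neg_mem (Ideal.mul_mem_right _ _ (hm' ▸ Ideal.mem_span_singleton_self π))
        · simp
      · rw [Polynomial.coeff_sub, Polynomial.coeff_X_pow, if_neg (by omega), Polynomial.coeff_C, if_pos rfl,
          zero_sub, neg_mem_iff, hm', Ideal.span_singleton_pow, Ideal.mem_span_singleton,
          (Units.isUnit _).dvd_mul_right]
        intro hd
        have := (pow_dvd_pow_iff hπ.ne_zero hπ.not_isUnit (n := 2) (m := 1)).mp (by simpa using hd)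
        omega
    have hirr := heis.irreducible (IsLocalRing.maximalIdeal.isMaximal A).isPrime hp.isPrimitive (hdeg ▸ hn)
    have hint : IsIntegral A (v * z) := Algebra.IsIntegral.isIntegral _
    have hd := minpoly.isIntegrallyClosed_dvd hint hroot
    have hassoc := ((minpoly.irreducible hint).associated_of_dvd hirr hd)
    rw [← hdeg]
    exact Polynomial.natDegree_eq_of_degree_eq (Polynomial.degree_eq_degree_of_associated hassoc.symm) |>.symm
end Groth.Agent.S11089
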