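import Groth.Statements.S11092
import Mathlib
import Groth.Agent.S11082
-- import your own Groth.Agent.* helpers here

set_option autoImplicit false
universe u v
open CAlg

open TensorProduct

namespace Groth.Agent.S11092

theorem finrank_one {k : Type u} {K : Type v} [Field k] [IsAlgClosed k] [Field K] [Algebra k K]
    [Algebra.EssFiniteType k K] (hx : ∃ x : K, IsTranscendenceBasis k (fun _ : Unit => x)) :
    Module.finrank K (Ω[K⁄k]) = 1 := by
  obtain ⟨x, hx⟩ := hx
  obtain ⟨s, hs, hsep⟩ := exists_isTranscendenceBasis_and_isSeparable_of_perfectField (k := k) (K := K)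
  have hcard := hs.lift_cardinalMk_eq hx
  have hs1 : Nat.card s = 1 := by
    have := congrArg Cardinal.toNat hcard
    simpa [Nat.card] using this
  have hsep' : Algebra.IsSeparable (IntermediateField.adjoin k (Set.range ((↑) : s → K))) K := by
    rw [show Set.range ((↑) : s → K) = (s : Set K) from Subtype.range_coe]
    exact hsep
  obtain ⟨b, -⟩ := Groth.Agent.S11082.forward _ hs hsep'
  rw [Module.finrank_eq_nat_card_basis b, hs1]

end Groth.Agent.S11092

namespace Groth.Agent.S11092

/-- Let k be an algebraically closed field, K a field finitely generated over k admitting a one-element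
transcendence basis over k (a function field of dimension one), and L a finite extension field of K
with the compatible k-algebra structure. Then the K-linear map from the Kähler differentials of K
over k to those of L over k induced by the inclusion is either the zero map or injective, and it is
injective if and only if L is separable over K. (The published statement takes K ⊆ L to be the
function fields of two elliptic curves related by a nonzero homomorphism; its proof uses only that
they are function fields of dimension one over k.) -/
theorem result (k : Type u) (K L : Type v)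
    [Field k] [IsAlgClosed k] [Field K] [Field L] [Algebra k K] [Algebra k L] [Algebra K L]
    [IsScalarTower k K L] (hK : (⊤ : IntermediateField k K).FG)
    (hx : ∃ x : K, IsTranscendenceBasis k (fun _ : Unit => x)) [FiniteDimensional K L] :
    (KaehlerDifferential.map k k K L = 0 ∨ Function.Injective (KaehlerDifferential.map k k K L)) ∧
      (Function.Injective (KaehlerDifferential.map k k K L) ↔ Algebra.IsSeparable K L) := by
  haveI : Algebra.EssFiniteType k K := IntermediateField.fg_top_iff.mp hK
  haveI : Algebra.EssFiniteType k L := Algebra.EssFiniteType.comp k K L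
  have hdK := Groth.Agent.S11092.finrank_one hx
  have hdL : Module.finrank L (KaehlerDifferential k L) = 1 := by
    obtain ⟨x, hx⟩ := hx
    haveI : Algebra.IsAlgebraic K L := Algebra.IsAlgebraic.of_finite K L
    exact Groth.Agent.S11092.finrank_one ⟨algebraMap K L x,
      hx.algebraMap_comp⟩
  let φ := KaehlerDifferential.map k k K L
  obtain ⟨v, hv, hv'⟩ := finrank_eq_one_iff'.mp hdK
  have hzero : Function.Injective φ ↔ φ v ≠ 0 := by
    refine ⟨fun h h0 ↦ hv (h (by rw [h0, map_zero])), fun h ↦ (injective_iff_map_eq_zero φ).mpr fun w hw ↦ ?_⟩
    obtain ⟨c, rfl⟩ := hv' w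
    rw [map_smul, ← algebraMap_smul L c, smul_eq_zero] at hw
    rcases hw with hw | hw
    · rw [(map_eq_zero _).mp hw, zero_smul]
    · exact absurd hw h
  refine ⟨?_, hzero.trans ⟨fun h ↦ ?_, fun h h0 ↦ ?_⟩⟩
  · by_cases h : φ v = 0
    · left
      refine LinearMap.ext fun w ↦ ?_
      obtain ⟨c, rfl⟩ := hv' w
      show φ (c • v) = 0
      rw [map_smul, h, smul_zero]
    · exact Or.inr (hzero.mpr h)
  · haveI : Algebra.EssFiniteType K L := Algebra.EssFiniteType.of_comp k K L
    haveI : Algebra.FormallyUnramified K L := by
      refine ⟨⟨fun a b ↦ ?_⟩⟩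
      suffices h' : ∀ w : Ω[L⁄K], w = 0 by rw [h' a, h' b]
      intro w
      obtain ⟨u, rfl⟩ := KaehlerDifferential.map_surjective k K L w
      obtain ⟨c, rfl⟩ := (finrank_eq_one_iff_of_nonzero' (φ v) h).mp hdL u
      rw [map_smul]
      have : KaehlerDifferential.map k K L L (φ v) = 0 := by
        have h2 := (KaehlerDifferential.exact_mapBaseChange_map k K L).apply_apply_eq_zero ((1 : L) ⊗ₜ v)
        simpa [φ] using h2
      rw [this, smul_zero]
    exact Algebra.FormallyUnramified.isSeparable K L
  · haveI := Algebra.FormallyEtale.of_isSeparable K L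
    let e := KaehlerDifferential.tensorKaehlerEquivOfFormallyEtale k K L
    have h1 : e ((1 : L) ⊗ₜ v) = 0 := by
      rw [KaehlerDifferential.tensorKaehlerEquivOfFormallyEtale_apply,
        KaehlerDifferential.mapBaseChange_tmul, one_smul]
      exact h0
    have h2 : ((1 : L) ⊗ₜ[K] v) = 0 := by simpa using h1
    exact hv (Module.FaithfullyFlat.tensorProduct_mk_injective (A := K) (B := L) _ (by simpa using h2))

end Groth.Agent.S11092
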