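import Groth.Statements.S11095
import Mathlib
-- import your own Groth.Agent.* helpers here

set_option autoImplicit false
universe u
open CAlg

open TensorProduct Polynomial

namespace Groth.Agent.S11095

theorem irreducible_map (K₀ F₀ : Type u) [Field K₀] [Field F₀] [Algebra K₀ F₀] (h : algebraicClosure K₀ F₀ = ⊥)
    (f : K₀[X]) (hf : f.Monic) (hirr : Irreducible f) : Irreducible (f.map (algebraMap K₀ F₀)) := by
  have hm : (f.map (algebraMap K₀ F₀)).Monic := hf.map _
  have hne : f.map (algebraMap K₀ F₀) ≠ 1 := fun h1 => hirr.not_isUnit (by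
    rw [Polynomial.map_injective _ (algebraMap K₀ F₀).injective (h1.trans (Polynomial.map_one _).symm)]
    exact isUnit_one)
  rw [hm.irreducible_iff_natDegree]
  refine ⟨hne, fun g q hg hq hgq => ?_⟩
  have hdvd : g ∣ f.map (algebraMap K₀ F₀) := ⟨q, hgq.symm⟩
  have hlift : g ∈ Polynomial.lifts (algebraMap K₀ F₀) := by
    rw [Polynomial.lifts_iff_coeff_lifts]
    intro i
    have : g.coeff i ∈ algebraicClosure K₀ F₀ := mem_algebraicClosure_iff.2
      (Polynomial.isIntegral_coeff_of_dvd f g hf hg hdvd i).isAlgebraic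
    rw [h] at this
    exact IntermediateField.mem_bot.1 this
  obtain ⟨g', hg', hdeg, hgm⟩ := Polynomial.lifts_and_natDegree_eq_and_monic hlift hg
  have hd : g' ∣ f := by
    rw [← Polynomial.map_dvd_map' (algebraMap K₀ F₀), hg']
    exact hdvd
  rw [← hdeg]
  rcases hirr.dvd_iff.1 hd with hu | ha
  · exact Or.inl (Polynomial.natDegree_eq_zero_of_isUnit hu)
  · right
    have e : f.natDegree = g'.natDegree := by
      rw [eq_of_monic_of_associated hgm hf ha.symm]
    have h2 := congrArg Polynomial.natDegree hgq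
    rw [Polynomial.Monic.natDegree_mul hg hq, Polynomial.natDegree_map, ← hdeg, e] at h2
    omega

theorem finite_case (K₀ F₀ L : Type u) [Field K₀] [Field F₀] [Algebra K₀ F₀] (h : algebraicClosure K₀ F₀ = ⊥)
    [Field L] [Algebra K₀ L] [FiniteDimensional K₀ L] [Algebra.IsSeparable K₀ L] : IsDomain (F₀ ⊗[K₀] L) := by
  let pb := Field.powerBasisOfFiniteOfSeparable K₀ L
  let Ω := AlgebraicClosure F₀
  let σ : L →ₐ[K₀] Ω := IsAlgClosed.lift
  let Φ : F₀ ⊗[K₀] L →ₐ[F₀] Ω := Algebra.TensorProduct.lift (Algebra.ofId F₀ Ω) σ (fun _ _ => Commute.all _ _)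
  let f := minpoly K₀ pb.gen
  have hint := IsIntegral.of_finite K₀ pb.gen
  have hmin : minpoly F₀ (σ pb.gen) = f.map (algebraMap K₀ F₀) := by
    refine (minpoly.eq_of_irreducible_of_monic (irreducible_map K₀ F₀ h f (minpoly.monic hint) (minpoly.irreducible hint)) ?_
      ((minpoly.monic hint).map _)).symm
    rw [Polynomial.aeval_map_algebraMap, Polynomial.aeval_algHom_apply, minpoly.aeval, map_zero]
  have hdim : (minpoly F₀ (σ pb.gen)).natDegree = pb.dim := by
    rw [hmin, Polynomial.natDegree_map, pb.natDegree_minpoly]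
  have hli : LinearIndependent F₀ fun i : Fin pb.dim => σ pb.gen ^ (i : ℕ) := by
    have := (linearIndependent_pow (K := F₀) (σ pb.gen)).comp (Fin.cast hdim.symm) (Fin.cast_injective _)
    exact this
  let b := pb.basis.baseChange F₀
  have hb : ∀ i, Φ (b i) = σ pb.gen ^ (i : ℕ) := fun i => by
    simp [b, Φ, Module.Basis.baseChange_apply, PowerBasis.coe_basis]
  have hinj : Function.Injective Φ := by
    show Function.Injective Φ.toLinearMap
    rw [← LinearMap.ker_eq_bot]
    refine LinearMap.ker_eq_bot'.2 fun z hz => ?_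
    rw [← b.sum_repr z] at hz ⊢
    simp only [map_sum, map_smul, AlgHom.toLinearMap_apply, hb] at hz
    refine Finset.sum_eq_zero fun i _ => ?_
    rw [Fintype.linearIndependent_iff.1 hli _ hz i, zero_smul]
  exact Function.Injective.isDomain Φ hinj

theorem main (K₀ F₀ K : Type u)
    [Field K₀] [PerfectField K₀] [Field F₀] [Algebra K₀ F₀] [Field K] [Algebra K₀ K]
    [Algebra.IsAlgebraic K₀ K] (h : algebraicClosure K₀ F₀ = ⊥) :
    IsField (F₀ ⊗[K₀] K) := by
  classical
  haveI : Nontrivial (F₀ ⊗[K₀] K) := Algebra.TensorProduct.nontrivial_of_algebraMap_injective_of_isDomain K₀ _ _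
    (algebraMap K₀ F₀).injective (algebraMap K₀ K).injective
  haveI : NoZeroDivisors (F₀ ⊗[K₀] K) := ⟨fun {x y} hxy => by
    obtain ⟨L, _, hL, hr⟩ : ∃ (L : IntermediateField K₀ K) (_ : Unit), FiniteDimensional K₀ L ∧
        ∀ z ∈ ({x, y} : Set (F₀ ⊗[K₀] K)), z ∈ (Algebra.TensorProduct.map (AlgHom.id F₀ F₀) L.val).range := by
      have gen : ∀ z : F₀ ⊗[K₀] K, ∃ L : IntermediateField K₀ K, FiniteDimensional K₀ L ∧
          z ∈ (Algebra.TensorProduct.map (AlgHom.id F₀ F₀) L.val).range := by
        intro z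
        induction z with
        | zero => exact ⟨⊥, inferInstance, zero_mem _⟩
        | tmul a c =>
          refine ⟨IntermediateField.adjoin K₀ {c}, IntermediateField.adjoin.finiteDimensional (Algebra.IsIntegral.isIntegral c),
            a ⊗ₜ ⟨c, IntermediateField.mem_adjoin_simple_self K₀ c⟩, rfl⟩
        | add a b ha hb =>
          obtain ⟨L, hL, u, rfl⟩ := ha
          obtain ⟨L', hL', v, rfl⟩ := hb
          haveI := hL; haveI := hL'
          refine ⟨L ⊔ L', inferInstance, Algebra.TensorProduct.map (AlgHom.id F₀ F₀) (IntermediateField.inclusion le_sup_left) u +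
            Algebra.TensorProduct.map (AlgHom.id F₀ F₀) (IntermediateField.inclusion le_sup_right) v, ?_⟩
          show Algebra.TensorProduct.map (AlgHom.id F₀ F₀) (L ⊔ L').val _ = _
          rw [map_add]
          congr 1
          · rw [← AlgHom.comp_apply, ← Algebra.TensorProduct.map_comp]; rfl
          · rw [← AlgHom.comp_apply, ← Algebra.TensorProduct.map_comp]; rfl
      obtain ⟨L, hL, hx⟩ := gen x
      obtain ⟨L', hL', hy⟩ := gen y
      haveI := hL; haveI := hL'
      refine ⟨L ⊔ L', (), inferInstance, ?_⟩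
      have mono : ∀ {M M' : IntermediateField K₀ K} (hle : M ≤ M') {z}, z ∈ (Algebra.TensorProduct.map (AlgHom.id F₀ F₀) M.val).range →
          z ∈ (Algebra.TensorProduct.map (AlgHom.id F₀ F₀) M'.val).range := by
        rintro M M' hle z ⟨u, rfl⟩
        refine ⟨Algebra.TensorProduct.map (AlgHom.id F₀ F₀) (IntermediateField.inclusion hle) u, ?_⟩
        show Algebra.TensorProduct.map (AlgHom.id F₀ F₀) M'.val _ = Algebra.TensorProduct.map (AlgHom.id F₀ F₀) M.val u
        rw [← AlgHom.comp_apply, ← Algebra.TensorProduct.map_comp]; rfl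
      rintro z (rfl | rfl)
      · exact mono le_sup_left hx
      · exact mono le_sup_right hy
    haveI := hL
    haveI : Algebra.IsSeparable K₀ L := Algebra.IsAlgebraic.isSeparable_of_perfectField
    haveI := finite_case K₀ F₀ L h
    obtain ⟨u, rfl⟩ := hr x (by simp)
    obtain ⟨v, rfl⟩ := hr y (by simp)
    have hinj : Function.Injective (Algebra.TensorProduct.map (AlgHom.id F₀ F₀) L.val) :=
      Module.Flat.lTensor_preserves_injective_linearMap (M := F₀) L.val.toLinearMap Subtype.val_injective
    have huv : u * v = 0 := hinj (by rw [map_mul, map_zero]; exact hxy)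
    exact (mul_eq_zero.1 huv).imp (fun h => by subst h; exact map_zero _) (fun h => by subst h; exact map_zero _)⟩
  haveI : IsDomain (F₀ ⊗[K₀] K) := NoZeroDivisors.to_isDomain _
  exact isField_of_isIntegral_of_isField' (R := F₀) (S := F₀ ⊗[K₀] K) (Field.toIsField F₀)

end Groth.Agent.S11095

namespace Groth.Agent.S11095

/-- Let K₀ be a perfect field, K an algebraic extension of K₀ and F₀ a field extension of K₀ such that
K₀ is algebraically closed in F₀. Then the K₀-algebra F₀ ⊗ K is a field; consequently F₀ and K,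
embedded in it by x ↦ x ⊗ 1 and y ↦ 1 ⊗ y, are linearly disjoint over K₀. -/
theorem result (K₀ F₀ K : Type u)
    [Field K₀] [PerfectField K₀] [Field F₀] [Algebra K₀ F₀] [Field K] [Algebra K₀ K]
    [Algebra.IsAlgebraic K₀ K] (h : algebraicClosure K₀ F₀ = ⊥) :
    IsField (TensorProduct K₀ F₀ K) := by
  exact Groth.Agent.S11095.main K₀ F₀ K h

end Groth.Agent.S11095
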