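import Groth.Statements.S11096
-- import your own Groth.Agent.* helpers here

set_option autoImplicit false
universe u
open Neron

namespace Groth.Agent.S11096

/-- Let a Weierstrass equation have coefficients in a commutative ring R and let I be an ideal with a₃,
a₄, a₆ ∈ I. If the discriminant Δ does not lie in I ^ 2, then a₆ does not lie in I ^ 2 and b₂ does
not lie in I. (For a discrete valuation ring with maximal ideal (π): if π divides a₃, a₄, a₆ and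
v(Δ) = 1, then v(a₆) = 1 and π does not divide b₂.) -/
theorem result {R : Type u} [CommRing R] (W : WeierstrassCurve R)
    (I : Ideal R) (h3 : W.a₃ ∈ I) (h4 : W.a₄ ∈ I) (h6 : W.a₆ ∈ I) (hΔ : W.Δ ∉ I ^ 2) :
    W.a₆ ∉ I ^ 2 ∧ W.b₂ ∉ I := by
  have hb4 : W.b₄ ∈ I := by
    simp only [WeierstrassCurve.b₄]
    exact I.add_mem (I.mul_mem_left _ h4) (I.mul_mem_left _ h3)
  have hb6 : W.b₆ ∈ I := by
    simp only [WeierstrassCurve.b₆]
    exact I.add_mem (Ideal.pow_mem_of_mem _ h3 _ (by norm_num)) (I.mul_mem_left _ h6)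
  have sq : ∀ {x y : R}, x ∈ I → y ∈ I → x * y ∈ I ^ 2 := fun hx hy => by
    rw [pow_two]; exact Ideal.mul_mem_mul hx hy
  have key : W.Δ + W.b₂ ^ 3 * W.a₆ ∈ I ^ 2 := by
    have h8 : W.b₈ - W.b₂ * W.a₆ ∈ I ^ 2 := by
      have : W.b₈ - W.b₂ * W.a₆ =
          (- W.a₁) * (W.a₃ * W.a₄) + W.a₂ * (W.a₃ * W.a₃) - W.a₄ * W.a₄ := by
        simp only [WeierstrassCurve.b₈, WeierstrassCurve.b₂]; ring
      rw [this]
      exact Ideal.sub_mem _ (Ideal.add_mem _ (Ideal.mul_mem_left _ _ (sq h3 h4))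
        (Ideal.mul_mem_left _ _ (sq h3 h3))) (sq h4 h4)
    have : W.Δ + W.b₂ ^ 3 * W.a₆ = (- W.b₂ ^ 2) * (W.b₈ - W.b₂ * W.a₆)
        + (-8 * W.b₄) * (W.b₄ * W.b₄) + (-27) * (W.b₆ * W.b₆) + (9 * W.b₂) * (W.b₄ * W.b₆) := by
      simp only [WeierstrassCurve.Δ]; ring
    rw [this]
    exact Ideal.add_mem _ (Ideal.add_mem _ (Ideal.add_mem _ (Ideal.mul_mem_left _ _ h8)
      (Ideal.mul_mem_left _ _ (sq hb4 hb4))) (Ideal.mul_mem_left _ _ (sq hb6 hb6)))
      (Ideal.mul_mem_left _ _ (sq hb4 hb6))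
  refine ⟨fun h => hΔ ?_, fun h => hΔ ?_⟩
  · convert Ideal.sub_mem _ key (Ideal.mul_mem_left _ (W.b₂ ^ 3) h) using 1; ring
  · have : W.b₂ ^ 3 * W.a₆ ∈ I ^ 2 := sq (Ideal.pow_mem_of_mem _ h _ (by norm_num)) h6
    convert Ideal.sub_mem _ key this using 1; ring

end Groth.Agent.S11096
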