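import Groth.Statements.S11097
import Mathlib
-- import your own Groth.Agent.* helpers here

set_option autoImplicit false
set_option backward.isDefEq.respectTransparency.types false
universe u
open Polynomial
open Neron

namespace Groth.Agent.S11097

section
variable {R : Type u} [CommRing R]

lemma wEq (W : WeierstrassCurve.Affine R) (x y : W.CoordinateRing)
    (hx : x = WeierstrassCurve.Affine.CoordinateRing.mk W (C X))
    (hy : y = WeierstrassCurve.Affine.CoordinateRing.mk W X) :
    algebraMap R W.CoordinateRing W.a₆ =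
      (y + algebraMap R _ W.a₁ * x + algebraMap R _ W.a₃) * y -
        (x ^ 2 + algebraMap R _ W.a₂ * x + algebraMap R _ W.a₄) * x := by
  have h : WeierstrassCurve.Affine.CoordinateRing.mk W W.polynomial = 0 := AdjoinRoot.mk_self
  have hc : ∀ r : R, WeierstrassCurve.Affine.CoordinateRing.mk W (C (C r)) =
      algebraMap R W.CoordinateRing r := fun r => rfl
  simp only [WeierstrassCurve.Affine.polynomial, map_add, map_sub, map_mul, map_pow, hc] at h
  rw [← hx, ← hy] at h
  linear_combination (-1 : W.CoordinateRing) * h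

end

/-- Let R be a discrete valuation ring with maximal ideal m and let y² + a₁xy + a₃y = x³ + a₂x² + a₄x +
a₆ be a Weierstrass equation with coefficients in R such that a₃, a₄, a₆ ∈ m and a₆ ∉ m². Then the
affine scheme defined by the equation over R is regular at the point π = x = y = 0 of its special
fibre: the localization of the coordinate ring at a maximal ideal containing the image of m and the
classes of x and y is a regular local ring. (The published statement asserts regularity of the
projective Weierstrass scheme; this row states it at the point π = x = y = 0 of the special fibre.) -/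
theorem result (R : Type u) [CommRing R] [IsDomain R]
    [IsDiscreteValuationRing R] (W : WeierstrassCurve.Affine R)
    (h3 : W.a₃ ∈ IsLocalRing.maximalIdeal R) (h4 : W.a₄ ∈ IsLocalRing.maximalIdeal R)
    (h6 : W.a₆ ∈ IsLocalRing.maximalIdeal R) (h6' : W.a₆ ∉ IsLocalRing.maximalIdeal R ^ 2)
    (P : Ideal W.CoordinateRing) [P.IsMaximal]
    (hP : ∀ r ∈ IsLocalRing.maximalIdeal R, algebraMap R W.CoordinateRing r ∈ P)
    (hx : WeierstrassCurve.Affine.CoordinateRing.mk W (C X) ∈ P)
    (hy : WeierstrassCurve.Affine.CoordinateRing.mk W X ∈ P) :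
    IsRegularLocalRing (Localization.AtPrime P) := by
  set B := W.CoordinateRing with hB
  set x : B := WeierstrassCurve.Affine.CoordinateRing.mk W (C X) with hxdef
  set y : B := WeierstrassCurve.Affine.CoordinateRing.mk W X with hydef
  haveI : IsNoetherianRing B := by
    haveI : IsNoetherianRing R[X][X] := inferInstance
    exact isNoetherianRing_of_surjective R[X][X] B (WeierstrassCurve.Affine.CoordinateRing.mk W)
      AdjoinRoot.mk_surjective
  haveI : Module.Finite R[X] B := Module.Finite.of_basis (WeierstrassCurve.Affine.CoordinateRing.basis W)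
  haveI : Algebra.IsIntegral R[X] B := Algebra.IsIntegral.of_finite _ _
  have hinj : Function.Injective (algebraMap R[X] B) := FaithfulSMul.algebraMap_injective _ _
  obtain ⟨π, hπ⟩ := IsDiscreteValuationRing.exists_irreducible R
  have hm : IsLocalRing.maximalIdeal R = Ideal.span {π} := hπ.maximalIdeal_eq
  have h6a := h6
  rw [hm, Ideal.mem_span_singleton] at h6a
  obtain ⟨v, hv⟩ := h6a
  have hvu : IsUnit v := by
    by_contra hvn
    apply h6'
    rw [hv, pow_two]
    exact Ideal.mul_mem_mul (by rw [hm]; exact Ideal.mem_span_singleton_self π) hvn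
  obtain ⟨v, rfl⟩ := hvu
  let J : Ideal B := Ideal.span {x, y}
  have hxJ : x ∈ J := Ideal.subset_span (by simp)
  have hyJ : y ∈ J := Ideal.subset_span (by simp)
  have h6J : algebraMap R B W.a₆ ∈ J := by
    rw [wEq W x y rfl rfl]
    exact J.sub_mem (J.mul_mem_left _ hyJ) (J.mul_mem_left _ hxJ)
  have hπJ : algebraMap R B π ∈ J := by
    have : π = W.a₆ * ((v⁻¹ : Rˣ) : R) := by rw [hv, mul_assoc, Units.mul_inv, mul_one]
    rw [this, map_mul]
    exact J.mul_mem_right _ h6J
  have hmJ : ∀ r ∈ IsLocalRing.maximalIdeal R, algebraMap R B r ∈ J := by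
    intro r hr
    rw [hm, Ideal.mem_span_singleton] at hr
    obtain ⟨c, rfl⟩ := hr
    rw [map_mul]
    exact J.mul_mem_right _ hπJ
  have hJP : J ≤ P := by
    rw [Ideal.span_le]
    intro z hz
    rcases hz with rfl | rfl
    · exact hx
    · exact hy
  have hC : ∀ r : R, algebraMap R[X] B (C r) = algebraMap R B r := fun r => rfl
  have hX : algebraMap R[X] B X = x := rfl
  have hPJ : P ≤ J := by
    intro z hz
    obtain ⟨p, q, rfl⟩ := WeierstrassCurve.Affine.CoordinateRing.exists_smul_basis_eq z
    have e : p • (1 : B) + q • y = algebraMap R[X] B p + algebraMap R[X] B q * y := by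
      rw [Algebra.smul_def, Algebra.smul_def, mul_one]
    rw [show WeierstrassCurve.Affine.CoordinateRing.mk W X = y from rfl, e] at hz ⊢
    have hpsplit : algebraMap R[X] B p = algebraMap R[X] B p.divX * x + algebraMap R B (p.coeff 0) := by
      conv_lhs => rw [← Polynomial.divX_mul_X_add p]
      rw [map_add, map_mul, hX, hC]
    rw [hpsplit] at hz ⊢
    refine J.add_mem (J.add_mem (J.mul_mem_left _ hxJ) ?_) (J.mul_mem_left _ hyJ)
    apply hmJ
    have hmem : algebraMap R B (p.coeff 0) ∈ P :=
      (Ideal.add_mem_iff_right P (P.mul_mem_left _ hx)).mp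
        ((Ideal.add_mem_iff_left P (P.mul_mem_left _ hy)).mp hz)
    by_contra hu
    exact Ideal.IsPrime.ne_top (inferInstance : P.IsPrime) (P.eq_top_of_isUnit_mem hmem
      ((IsLocalRing.notMem_maximalIdeal.mp hu).map _))
  have hPeq : P = J := le_antisymm hPJ hJP
  -- height
  have hXp : (Ideal.span {(X : R[X])}).IsPrime := (Ideal.span_singleton_prime X_ne_zero).mpr prime_X
  obtain ⟨Q, hQp, hQc⟩ := Ideal.exists_ideal_over_prime_of_isIntegral_of_isDomain (S := B)
    (Ideal.span {(X : R[X])}) (by rw [(RingHom.injective_iff_ker_eq_bot _).mp hinj]; exact bot_le)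
  have hlt : Ideal.span {(X : R[X])} < P.comap (algebraMap R[X] B) := by
    refine lt_of_le_of_ne ?_ ?_
    · rw [Ideal.span_le, Set.singleton_subset_iff]
      exact hx
    · intro e
      have h1 : C π ∈ P.comap (algebraMap R[X] B) :=
        hP π (by rw [hm]; exact Ideal.mem_span_singleton_self π)
      rw [← e, Ideal.mem_span_singleton, Polynomial.X_dvd_iff, Polynomial.coeff_C_zero] at h1
      exact hπ.ne_zero h1
  haveI := hQp
  obtain ⟨P', hQP', hP'p, hP'c⟩ := Ideal.exists_ideal_over_prime_of_isIntegral
    (P.comap (algebraMap R[X] B)) Q (hQc.trans_le hlt.le)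
  haveI := hP'p
  have hx' : x ∈ P' := by
    have : (X : R[X]) ∈ P'.comap (algebraMap R[X] B) := by rw [hP'c]; exact hx
    exact this
  have hm' : ∀ r ∈ IsLocalRing.maximalIdeal R, algebraMap R B r ∈ P' := by
    intro r hr
    have : C r ∈ P'.comap (algebraMap R[X] B) := by rw [hP'c]; exact hP r hr
    exact this
  have hy' : y ∈ P' := by
    have e := wEq W x y rfl rfl
    have h2 : y * y ∈ P' := by
      have e2 : y * y = algebraMap R B W.a₆ - (algebraMap R B W.a₁ * y) * x
          - y * algebraMap R B W.a₃
          + (x ^ 2 + algebraMap R B W.a₂ * x + algebraMap R B W.a₄) * x := by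
        rw [e]; ring
      rw [e2]
      exact P'.add_mem (P'.sub_mem (P'.sub_mem (hm' _ h6) (P'.mul_mem_left _ hx'))
        (P'.mul_mem_left _ (hm' _ h3))) (P'.mul_mem_left _ hx')
    exact (hP'p.mem_or_mem h2).elim id id
  have hP' : P' = P := by
    refine ((‹P.IsMaximal›).eq_of_le hP'p.ne_top ?_).symm
    rw [hPeq, Ideal.span_le]
    intro z hz
    rcases hz with rfl | rfl
    · exact hx'
    · exact hy'
  have hQlt : Q < P := by
    refine lt_of_le_of_ne (hP' ▸ hQP') ?_
    rintro rfl
    exact hlt.ne hQc.symm
  have hQbot : (⊥ : Ideal B) < Q := by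
    refine bot_lt_iff_ne_bot.mpr ?_
    rintro rfl
    have hXm : (X : R[X]) ∈ (⊥ : Ideal B).comap (algebraMap R[X] B) := by
      rw [hQc]; exact Ideal.mem_span_singleton_self _
    rw [Ideal.mem_comap, Ideal.mem_bot, ← map_zero (algebraMap R[X] B)] at hXm
    exact X_ne_zero (hinj hXm)
  haveI : (⊥ : Ideal B).IsPrime := Ideal.isPrime_bot
  have hht : (2 : ℕ∞) ≤ P.height := by
    calc (2 : ℕ∞) = 0 + 1 + 1 := by norm_num
      _ ≤ (⊥ : Ideal B).height + 1 + 1 := by gcongr; exact zero_le
      _ ≤ Q.height + 1 := by gcongr; exact Ideal.height_add_one_le_of_lt_of_isPrime hQbot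
      _ ≤ P.height := Ideal.height_add_one_le_of_lt_of_isPrime hQlt
  refine IsRegularLocalRing.of_spanFinrank_maximalIdeal_le _ ?_
  rw [IsLocalization.AtPrime.ringKrullDim_eq_height P (Localization.AtPrime P),
    ← Localization.AtPrime.map_eq_maximalIdeal,
    show Ideal.map (algebraMap B (Localization.AtPrime P)) P =
      Ideal.map (algebraMap B (Localization.AtPrime P)) J from congrArg _ hPeq, Ideal.map_span]
  classical
  have hfin : ((algebraMap B (Localization.AtPrime P)) '' {x, y}).Finite := (Set.toFinite _).image _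
  have hcard : ((algebraMap B (Localization.AtPrime P)) '' {x, y}).ncard ≤ 2 :=
    (Set.ncard_image_le (Set.toFinite _)).trans ((Set.ncard_insert_le _ _).trans (by simp))
  have := (Submodule.spanFinrank_span_le_ncard_of_finite (R := Localization.AtPrime P) hfin).trans hcard
  refine le_trans ?_ (WithBot.coe_le_coe.mpr hht)
  exact_mod_cast this

end Groth.Agent.S11097
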