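import Groth.Statements.S11103
import Mathlib.AlgebraicGeometry.Morphisms.Etale
import Mathlib.RingTheory.IntegralClosure.IntegralRestrict
import Mathlib.RingTheory.Flat.TorsionFree

set_option autoImplicit false
set_option backward.isDefEq.respectTransparency.types false
universe u
open CategoryTheory CategoryTheory.Limits AlgebraicGeometry
open Neron

open CategoryTheory CategoryTheory.Limits AlgebraicGeometry
namespace Groth.Agent.S11103

theorem bijective_bc {S S' K K' : Scheme.{u}} (f : S' ⟶ S) (j : K ⟶ S) (j' : K' ⟶ S') (h : K' ⟶ K)
    (hsq : IsPullback j' h f j) (N : Over S) (Y : Over S')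
    (hN : Function.Bijective fun g : (Over.map f).obj Y ⟶ N => (Over.pullback j).map g) :
    Function.Bijective fun g : Y ⟶ (Over.pullback f).obj N => (Over.pullback j').map g := by
  let adj := (Over.mapPullbackAdj f).homEquiv Y N
  have hadj : ∀ a, (adj.symm a).left = a.left ≫ pullback.fst N.hom f := fun a => by
    simp [adj, Adjunction.homEquiv_counit]
  have big : IsPullback (pullback.fst Y.hom j') (pullback.snd Y.hom j' ≫ h) (Y.hom ≫ f) j :=
    (IsPullback.of_hasPullback Y.hom j').paste_vert hsq
  let φ := big.isoPullback
  have hφ1 : φ.hom ≫ pullback.fst (Y.hom ≫ f) j = pullback.fst Y.hom j' := big.isoPullback_hom_fst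
  have hmap : ∀ {S₀ K₀ : Scheme.{u}} (j₀ : K₀ ⟶ S₀) {A B : Over S₀} (g : A ⟶ B),
      ((Over.pullback j₀).map g).left ≫ pullback.fst B.hom j₀ = pullback.fst A.hom j₀ ≫ g.left := by
    intro S₀ K₀ j₀ A B g
    exact pullback.lift_fst _ _ _
  have hsnd : ∀ {S₀ K₀ : Scheme.{u}} (j₀ : K₀ ⟶ S₀) {A B : Over S₀} (g g' : A ⟶ B),
      ((Over.pullback j₀).map g).left ≫ pullback.fst B.hom j₀ = ((Over.pullback j₀).map g').left ≫ pullback.fst B.hom j₀ →
      (Over.pullback j₀).map g = (Over.pullback j₀).map g' := by
    intro S₀ K₀ j₀ A B g g' e
    refine Over.OverMorphism.ext (pullback.hom_ext e ?_)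
    exact (Over.w ((Over.pullback j₀).map g)).trans (Over.w ((Over.pullback j₀).map g')).symm
  constructor
  · intro a b hab
    apply adj.symm.injective
    apply hN.1
    refine hsnd j _ _ ?_
    rw [hmap, hmap, hadj, hadj]
    apply (cancel_epi φ.hom).1
    change φ.hom ≫ pullback.fst (Y.hom ≫ f) j ≫ _ = φ.hom ≫ pullback.fst (Y.hom ≫ f) j ≫ _
    rw [reassoc_of% hφ1, reassoc_of% hφ1]
    have e := congrArg (fun m => m.left ≫ pullback.fst _ _) hab
    simp only [hmap] at e
    exact (Category.assoc _ _ _).symm.trans ((congrArg (· ≫ pullback.fst N.hom f) e).trans (Category.assoc _ _ _))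
  · intro c
    let d : pullback Y.hom j' ⟶ N.left := c.left ≫ pullback.fst ((Over.pullback f).obj N).hom j' ≫ pullback.fst N.hom f
    have hd : d ≫ N.hom = pullback.fst Y.hom j' ≫ Y.hom ≫ f := by
      have hc : c.left ≫ pullback.snd ((Over.pullback f).obj N).hom j' = pullback.snd Y.hom j' := Over.w c
      simp only [d, Category.assoc, pullback.condition (f := N.hom)]
      have e2 : pullback.fst ((Over.pullback f).obj N).hom j' ≫ pullback.snd N.hom f = pullback.snd _ j' ≫ j' :=
        pullback.condition
      rw [← Category.assoc (pullback.fst ((Over.pullback f).obj N).hom j'), e2, Category.assoc, ← Category.assoc c.left, hc,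
        ← Category.assoc, ← pullback.condition, Category.assoc]
    let e : (Over.pullback j).obj ((Over.map f).obj Y) ⟶ (Over.pullback j).obj N :=
      Over.homMk (pullback.lift (φ.inv ≫ d) (pullback.snd (Y.hom ≫ f) j) (by
        rw [Category.assoc, hd, ← Category.assoc, ← hφ1, φ.inv_hom_id_assoc]
        exact pullback.condition)) (pullback.lift_snd _ _ _)
    obtain ⟨a₀, ha₀⟩ := hN.2 e
    refine ⟨adj a₀, ?_⟩
    have h1 := congrArg (fun m => m.left ≫ pullback.fst N.hom j) ha₀
    simp only [hmap] at h1
    change pullback.fst (Y.hom ≫ f) j ≫ a₀.left = pullback.lift (φ.inv ≫ d) _ _ ≫ pullback.fst N.hom j at h1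
    rw [pullback.lift_fst, ← cancel_epi φ.hom, ← Category.assoc, hφ1, φ.hom_inv_id_assoc] at h1
    have h2 : (adj a₀).left ≫ pullback.fst N.hom f = a₀.left := by rw [← hadj, Equiv.symm_apply_apply]
    refine Over.OverMorphism.ext (pullback.hom_ext ?_ ?_)
    · show ((Over.pullback j').map (adj a₀)).left ≫ pullback.fst _ j' = c.left ≫ pullback.fst _ j'
      rw [hmap]
      apply pullback.hom_ext
      · rw [Category.assoc]
        exact ((congrArg (pullback.fst Y.hom j' ≫ ·) h2).trans h1).trans (Category.assoc _ _ _).symm
      · have w1 : (adj a₀).left ≫ pullback.snd N.hom f = Y.hom := Over.w (adj a₀)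
        have hc : c.left ≫ pullback.snd ((Over.pullback f).obj N).hom j' = pullback.snd Y.hom j' := Over.w c
        have e2 : pullback.fst ((Over.pullback f).obj N).hom j' ≫ pullback.snd N.hom f = pullback.snd _ j' ≫ j' :=
          pullback.condition
        refine ((Category.assoc _ _ _).trans (congrArg (pullback.fst Y.hom j' ≫ ·) w1)).trans ?_
        rw [pullback.condition, Category.assoc, e2, ← Category.assoc, hc]
    · exact (Over.w ((Over.pullback j').map (adj a₀))).trans (Over.w c).symm


/-- Let R be a Dedekind domain with fraction field K, let R' be a Dedekind domain finite étale over R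
(the integral closure of R in a finite unramified extension K' of K), and let N be a Néron model
over Spec R of its generic fibre N_K. Then the base change N' = N ×_R R' is a Néron model over Spec
R' of its generic fibre N'_{K'}: it is smooth, separated and of finite type over Spec R', and every
K'-morphism from the generic fibre of a smooth R'-scheme to N'_{K'} extends uniquely to an
R'-morphism into N'. (The published statement concerns the Néron model of an elliptic curve with the
mapping property for rational maps; this row allows any N and tests the mapping property on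
morphisms from smooth schemes. The property generally fails for ramified extensions.) -/
theorem result (R R' : Type u) [CommRing R] [IsDedekindDomain R]
    [CommRing R'] [IsDedekindDomain R'] [Algebra R R'] [Module.Finite R R'] [Algebra.Etale R R']
    (N : Over (Spec (CommRingCat.of R)))
    (hN : Neron.IsNeronModelOf R N ((Neron.genericFibre R).obj N) (Iso.refl _)) :
    Neron.IsNeronModelOf R'
      ((Over.pullback (Spec.map (CommRingCat.ofHom (algebraMap R R')))).obj N)
      ((Neron.genericFibre R').obj ((Over.pullback (Spec.map (CommRingCat.ofHom (algebraMap R R')))).obj N))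
      (Iso.refl _) := by
  obtain ⟨hs, hsep, hlft, hqc, hb⟩ := hN
  let f := Spec.map (CommRingCat.ofHom (algebraMap R R'))
  haveI := hs; haveI := hsep; haveI := hlft; haveI := hqc
  refine ⟨MorphismProperty.pullback_snd _ _ hs, MorphismProperty.pullback_snd _ _ hsep,
    MorphismProperty.pullback_snd _ _ hlft, MorphismProperty.pullback_snd _ _ hqc, fun Y hY => ?_⟩
  haveI : Etale f := (HasRingHomProperty.Spec_iff (P := @Etale)).2 (RingHom.etale_algebraMap.2 inferInstance)
  haveI := hY
  have hY' : Smooth ((Over.map f).obj Y).hom := inferInstanceAs (Smooth (Y.hom ≫ f))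
  -- the generic fibres form a pullback square
  haveI : Module.IsTorsionFree R R' := Module.isTorsionFree_iff_algebraMap_injective.2 (by
    intro a b h
    by_contra hab
    have := Module.Flat.isSMulRegular_of_nonZeroDivisors (M := R') (mem_nonZeroDivisors_of_ne_zero (sub_ne_zero.2 hab))
    exact one_ne_zero (this (show (a - b) • (1 : R') = (a - b) • (0 : R') by rw [smul_zero, Algebra.smul_def, map_sub, h, sub_self, zero_mul])))
  haveI : FaithfulSMul R R' := inferInstance
  letI : Algebra (FractionRing R) (FractionRing R') := FractionRing.liftAlgebra R (FractionRing R')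
  haveI : IsScalarTower R (FractionRing R) (FractionRing R') := FractionRing.isScalarTower_liftAlgebra R (FractionRing R')
  haveI : IsIntegralClosure R' R (FractionRing R') := IsIntegralClosure.of_isIntegrallyClosed _ _ _
  haveI : Algebra.IsAlgebraic (FractionRing R) (FractionRing R') := isAlgebraic_of_isFractionRing R R' ..
  haveI : IsLocalization (Algebra.algebraMapSubmonoid R' (nonZeroDivisors R)) (FractionRing R') :=
    IsIntegralClosure.isLocalization _ (FractionRing R) _ _
  haveI : IsLocalization ((nonZeroDivisors R).map (algebraMap R R')) (FractionRing R') :=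
    ‹IsLocalization (Algebra.algebraMapSubmonoid R' (nonZeroDivisors R)) (FractionRing R')›
  have hpo := CommRingCat.isPushout_of_isLocalization (algebraMap R R') (algebraMap (FractionRing R) (FractionRing R'))
    (by rw [← IsScalarTower.algebraMap_eq, ← IsScalarTower.algebraMap_eq]) (nonZeroDivisors R)
  have hsq := isPullback_SpecMap_of_isPushout _ _ _ _ hpo
  have hbij : Function.Bijective fun g : (Over.map f).obj Y ⟶ N => (Over.pullback (Neron.genPt R)).map g := by
    have := hb ((Over.map f).obj Y) hY'
    simpa using this
  have := bijective_bc f (Neron.genPt R) (Neron.genPt R') _ hsq N Y hbij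
  simpa using this

end Groth.Agent.S11103
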