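import Groth.Statements.S11104
import Mathlib
import Groth.Agent.CAlgReg.Basic
import Groth.Agent.S11097
-- import your own Groth.Agent.* helpers here

set_option autoImplicit false
set_option backward.isDefEq.respectTransparency.types false
universe u
open Neron

namespace Groth.Agent.S11104

section
open Polynomial
variable {R : Type u} [CommRing R] {L : Type u} [Field L]

/-- evaluation into dual numbers along a tangent vector (u, v). -/
noncomputable def psi (a : R →+* L) (x y u v : L) : R[X][X] →+* DualNumber L :=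
  eval₂RingHom (eval₂RingHom ((TrivSqZeroExt.inlHom L L).comp a)
    (TrivSqZeroExt.inl x + TrivSqZeroExt.inr u)) (TrivSqZeroExt.inl y + TrivSqZeroExt.inr v)

lemma fst_psi (a : R →+* L) (x y u v : L) (p : R[X][X]) :
    (psi a x y u v p).fst = eval₂ (eval₂RingHom a x) y p := by
  have : (TrivSqZeroExt.fstHom L L L).toRingHom.comp (psi a x y u v) =
      eval₂RingHom (eval₂RingHom a x) y := by
    apply Polynomial.ringHom_ext
    · intro q
      have : (((TrivSqZeroExt.fstHom L L L).toRingHom.comp (psi a x y u v)).comp C) =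
          eval₂RingHom a x := by
        apply Polynomial.ringHom_ext
        · intro r; simp [psi]
        · simp [psi]
      simpa using RingHom.congr_fun this q
    · simp [psi]
  exact RingHom.congr_fun this p

lemma snd_psi_polynomial (a : R →+* L) (W : WeierstrassCurve.Affine R) (x y u v : L) :
    (psi a x y u v W.polynomial).snd =
      (a W.a₁ * y - (3 * x ^ 2 + 2 * a W.a₂ * x + a W.a₄)) * u +
      (2 * y + a W.a₁ * x + a W.a₃) * v := by
  simp [psi, WeierstrassCurve.Affine.polynomial, pow_succ, TrivSqZeroExt.snd_mul,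
    TrivSqZeroExt.fst_mul]
  ring

lemma psi_unit_mul_zero (z w : DualNumber L) (hz : z.fst ≠ 0) (h : z * w = 0) : w = 0 := by
  have h1 := congrArg TrivSqZeroExt.fst h
  have h2 := congrArg TrivSqZeroExt.snd h
  simp [TrivSqZeroExt.fst_mul, TrivSqZeroExt.snd_mul] at h1 h2
  have hw : w.fst = 0 := h1.resolve_left hz
  rw [hw] at h2
  simp [hz] at h2
  exact TrivSqZeroExt.ext hw h2

lemma psi_sq (a : R →+* L) (x y u v : L) (Q : Ideal R[X][X])
    (hQ : ∀ p ∈ Q, eval₂ (eval₂RingHom a x) y p = 0) (p : R[X][X]) (hp : p ∈ Q ^ 2) :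
    psi a x y u v p = 0 := by
  rw [pow_two] at hp
  refine Submodule.mul_induction_on hp ?_ ?_
  · intro m hm n hn
    rw [map_mul]
    apply TrivSqZeroExt.ext
    · simp [TrivSqZeroExt.fst_mul, fst_psi, hQ m hm]
    · simp [TrivSqZeroExt.snd_mul, fst_psi, hQ m hm, hQ n hn]
  · intro m n hm hn
    rw [map_add, hm, hn, add_zero]

end

section
variable {A B : Type u} [CommRing A] [CommRing B]

lemma regular_of_quot (f : A →+* B) (hf : Function.Surjective f) (F : A)
    (hker : RingHom.ker f = Ideal.span {F}) (P : Ideal B) [P.IsPrime]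
    [IsRegularLocalRing (Localization.AtPrime (P.comap f))]
    (hF : ∀ s, s ∉ P.comap f → s * F ∉ (P.comap f) ^ 2) :
    IsRegularLocalRing (Localization.AtPrime P) := by
  let Q := P.comap f
  let AQ := Localization.AtPrime Q
  let BP := Localization.AtPrime P
  have hle : Q.primeCompl ≤ Submonoid.comap f P.primeCompl := fun s hs => hs
  let g : AQ →+* BP := IsLocalization.map BP f hle
  have hg : Function.Surjective g := by
    intro z
    obtain ⟨b, t, rfl⟩ := IsLocalization.exists_mk'_eq P.primeCompl z
    obtain ⟨a, rfl⟩ := hf b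
    obtain ⟨s, hs⟩ := hf (t : B)
    have hsQ : s ∈ Q.primeCompl := fun h => t.2 (by
      have h' : f s ∈ P := h
      rwa [hs] at h')
    refine ⟨IsLocalization.mk' AQ a (⟨s, hsQ⟩ : Q.primeCompl), ?_⟩
    rw [IsLocalization.map_mk']
    congr 1
    exact Subtype.ext hs
  let F' : AQ := algebraMap A AQ F
  have hkg : RingHom.ker g = Ideal.span {F'} := by
    apply le_antisymm
    · intro z hz
      obtain ⟨a, s, rfl⟩ := IsLocalization.exists_mk'_eq Q.primeCompl z
      rw [RingHom.mem_ker, IsLocalization.map_mk', IsLocalization.mk'_eq_zero_iff] at hz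
      obtain ⟨t, ht⟩ := hz
      obtain ⟨t', ht'⟩ := hf (t : B)
      have htQ : t' ∈ Q.primeCompl := fun h => t.2 (by
        have h' : f t' ∈ P := h
        rwa [ht'] at h')
      have hk : t' * a ∈ RingHom.ker f := by rw [RingHom.mem_ker, map_mul, ht', ht]
      rw [hker, Ideal.mem_span_singleton] at hk
      obtain ⟨c, hc⟩ := hk
      rw [Ideal.mem_span_singleton]
      refine ⟨IsLocalization.mk' AQ c ((⟨t', htQ⟩ : Q.primeCompl) * s), ?_⟩
      rw [IsLocalization.mul_mk'_eq_mk'_of_mul, ← hc]
      exact (IsLocalization.mk'_cancel a s ⟨t', htQ⟩).symm.trans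
        (by rw [mul_comm a t', mul_comm s ⟨t', htQ⟩])
    · rw [Ideal.span_le, Set.singleton_subset_iff]
      show g F' = 0
      have : f F = 0 := by
        rw [← RingHom.mem_ker, hker]; exact Ideal.mem_span_singleton_self F
      simp [g, F', this]
  have hFQ : F ∈ Q := by
    show f F ∈ P
    have : f F = 0 := by
      rw [← RingHom.mem_ker, hker]; exact Ideal.mem_span_singleton_self F
    rw [this]; exact P.zero_mem
  have hm : F' ∈ IsLocalRing.maximalIdeal AQ := by
    rw [← Localization.AtPrime.map_eq_maximalIdeal]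
    exact Ideal.mem_map_of_mem _ hFQ
  have hm2 : F' ∉ IsLocalRing.maximalIdeal AQ ^ 2 := by
    rw [← Localization.AtPrime.map_eq_maximalIdeal, ← Ideal.map_pow,
      IsLocalization.algebraMap_mem_map_algebraMap_iff Q.primeCompl]
    rintro ⟨s, hs, hsF⟩
    exact hF s hs hsF
  obtain ⟨d, hd⟩ := Groth.Agent.CAlgReg.exists_dim (R := AQ)
  haveI := (Groth.Agent.CAlgReg.quotient_span_singleton hm hm2 hd).2.1
  exact IsRegularLocalRing.of_ringEquiv
    ((Ideal.quotEquivOfEq hkg.symm).trans (RingHom.quotientKerEquivOfSurjective hg))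

end

open Polynomial

/-- Let R be a discrete valuation ring with maximal ideal m and y² + a₁xy + a₃y = x³ + a₂x² + a₄x + a₆ a
Weierstrass equation over R with nonzero discriminant (an elliptic curve over the fraction field)
such that a₃, a₄, a₆ ∈ m and a₆ ∉ m². Then the affine scheme over R defined by the equation is
regular: every localization of its coordinate ring at a prime ideal is a regular local ring. (The
published statement asserts regularity of the projective Weierstrass scheme in P²_R; this row states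
it for the affine part.) -/
theorem result (R : Type u) [CommRing R] [IsDomain R]
    [IsDiscreteValuationRing R] (W : WeierstrassCurve.Affine R) (hΔ : W.Δ ≠ 0)
    (h3 : W.a₃ ∈ IsLocalRing.maximalIdeal R) (h4 : W.a₄ ∈ IsLocalRing.maximalIdeal R)
    (h6 : W.a₆ ∈ IsLocalRing.maximalIdeal R) (h6' : W.a₆ ∉ IsLocalRing.maximalIdeal R ^ 2)
    (P : Ideal W.CoordinateRing) [P.IsPrime] :
    IsRegularLocalRing (Localization.AtPrime P) := by
  by_cases horigin : (∀ r ∈ IsLocalRing.maximalIdeal R, algebraMap R W.CoordinateRing r ∈ P) ∧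
      WeierstrassCurve.Affine.CoordinateRing.mk W (C X) ∈ P ∧
      WeierstrassCurve.Affine.CoordinateRing.mk W X ∈ P
  · obtain ⟨hP, hx, hy⟩ := horigin
    haveI : P.IsMaximal := by
      obtain ⟨M, hM, hPM⟩ := P.exists_le_maximal (Ideal.IsPrime.ne_top inferInstance)
      suffices P = M by rw [this]; exact hM
      refine le_antisymm hPM ?_
      intro z hz
      obtain ⟨p, q, rfl⟩ := WeierstrassCurve.Affine.CoordinateRing.exists_smul_basis_eq z
      rw [Algebra.smul_def, Algebra.smul_def, mul_one] at hz ⊢
      have hpsplit : algebraMap R[X] W.CoordinateRing p =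
          algebraMap R[X] W.CoordinateRing p.divX *
            WeierstrassCurve.Affine.CoordinateRing.mk W (C X) +
          algebraMap R W.CoordinateRing (p.coeff 0) := by
        conv_lhs => rw [← Polynomial.divX_mul_X_add p]
        rw [map_add, map_mul]
        rfl
      rw [hpsplit] at hz ⊢
      refine P.add_mem (P.add_mem (P.mul_mem_left _ hx) ?_) (P.mul_mem_left _ hy)
      apply hP
      have hmem : algebraMap R W.CoordinateRing (p.coeff 0) ∈ M :=
        (Ideal.add_mem_iff_right M (M.mul_mem_left _ (hPM hx))).mp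
          ((Ideal.add_mem_iff_left M (M.mul_mem_left _ (hPM hy))).mp hz)
      by_contra hu
      exact hM.ne_top (M.eq_top_of_isUnit_mem hmem
        ((IsLocalRing.notMem_maximalIdeal.mp hu).map _))
    exact Groth.Agent.S11097.result R W h3 h4 h6 h6' P hP hx hy
  haveI : IsRegularRing R := inferInstance
  haveI : IsRegularRing R[X][X] := inferInstance
  haveI : IsRegularLocalRing (Localization.AtPrime
      (P.comap (WeierstrassCurve.Affine.CoordinateRing.mk W))) := inferInstance
  refine regular_of_quot (WeierstrassCurve.Affine.CoordinateRing.mk W) AdjoinRoot.mk_surjective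
    W.polynomial ?_ P ?_
  · ext z
    rw [RingHom.mem_ker, AdjoinRoot.mk_eq_zero, Ideal.mem_span_singleton]
  intro s hs hsF
  let L := FractionRing (W.CoordinateRing ⧸ P)
  let φ : R[X][X] →+* L := ((algebraMap (W.CoordinateRing ⧸ P) L).comp (Ideal.Quotient.mk P)).comp
    (WeierstrassCurve.Affine.CoordinateRing.mk W)
  let a : R →+* L := φ.comp (C.comp C)
  let x : L := φ (C X)
  let y : L := φ X
  have hφeq : eval₂RingHom (eval₂RingHom a x) y = φ := by
    apply Polynomial.ringHom_ext
    · intro q
      have : (eval₂RingHom a x) = φ.comp C := by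
        apply Polynomial.ringHom_ext
        · intro r; simp [a]
        · simp [x]
      simp [this]
    · simp [y]
  have hφ0 : ∀ z, φ z = 0 ↔ WeierstrassCurve.Affine.CoordinateRing.mk W z ∈ P := by
    intro z
    rw [← Ideal.Quotient.eq_zero_iff_mem]
    exact map_eq_zero_iff _ (IsFractionRing.injective (W.CoordinateRing ⧸ P) L)
  have hev : ∀ z, eval₂ (eval₂RingHom a x) y z = φ z := fun z => RingHom.congr_fun hφeq z
  have hQ : ∀ p ∈ P.comap (WeierstrassCurve.Affine.CoordinateRing.mk W),
      eval₂ (eval₂RingHom a x) y p = 0 := fun p hp => by rw [hev, hφ0]; exact hp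
  have hzero : ∀ u v : L, psi a x y u v W.polynomial = 0 := by
    intro u v
    refine psi_unit_mul_zero (psi a x y u v s) _ ?_ ?_
    · rw [fst_psi, hev, Ne, hφ0]; exact hs
    · rw [← map_mul]; exact psi_sq a x y u v _ hQ _ hsF
  have hX : a W.a₁ * y - (3 * x ^ 2 + 2 * a W.a₂ * x + a W.a₄) = 0 := by
    simpa [snd_psi_polynomial] using congrArg TrivSqZeroExt.snd (hzero 1 0)
  have hY : 2 * y + a W.a₁ * x + a W.a₃ = 0 := by
    simpa [snd_psi_polynomial] using congrArg TrivSqZeroExt.snd (hzero 0 1)
  have hE0 : φ W.polynomial = 0 := by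
    rw [hφ0, AdjoinRoot.mk_self]; exact P.zero_mem
  have hE : y ^ 2 + a W.a₁ * x * y + a W.a₃ * y =
      x ^ 3 + a W.a₂ * x ^ 2 + a W.a₄ * x + a W.a₆ := by
    have h := hE0
    simp only [WeierstrassCurve.Affine.polynomial, map_add, map_sub, map_mul, map_pow] at h
    simp only [a, x, y, RingHom.coe_comp, Function.comp_apply]
    linear_combination h
  by_cases hm : ∀ r ∈ IsLocalRing.maximalIdeal R, algebraMap R W.CoordinateRing r ∈ P
  · have hma : ∀ r ∈ IsLocalRing.maximalIdeal R, a r = 0 := fun r hr => (hφ0 _).mpr (hm r hr)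
    rw [hma _ h3, add_zero] at hY
    rw [hma _ h4, add_zero] at hX
    rw [hma _ h3, hma _ h4, hma _ h6] at hE
    have hx3 : x ^ 3 = 0 := by linear_combination 2 * hE - x * hX - y * hY
    have hx0 : x = 0 := (pow_eq_zero_iff three_ne_zero).mp hx3
    rw [hx0] at hE
    have hy0 : y = 0 := (pow_eq_zero_iff two_ne_zero).mp (by linear_combination hE)
    exact horigin ⟨hm, (hφ0 _).mp hx0, (hφ0 _).mp hy0⟩
  · have hinj : Function.Injective a := by
      rw [injective_iff_map_eq_zero]
      intro r hr
      by_contra hr0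
      apply hm
      intro m hmm
      obtain ⟨π, hπ⟩ := IsDiscreteValuationRing.exists_irreducible R
      obtain ⟨n, v, rfl⟩ := IsDiscreteValuationRing.eq_unit_mul_pow_irreducible hr0 hπ
      rw [map_mul, map_pow] at hr
      have hπ0 : a π = 0 := eq_zero_of_pow_eq_zero
        ((mul_eq_zero.mp hr).resolve_left (v.isUnit.map a).ne_zero)
      rw [hπ.maximalIdeal_eq, Ideal.mem_span_singleton] at hmm
      obtain ⟨c, rfl⟩ := hmm
      exact (hφ0 _).mp (show a (π * c) = 0 by rw [map_mul, hπ0, zero_mul])
    have hΔ' : (W.map a).Δ ≠ 0 := by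
      rw [WeierstrassCurve.map_Δ]
      exact fun h => hΔ (hinj (h.trans (map_zero a).symm))
    have hEq : (W.map a).toAffine.Equation x y :=
      ((W.map a).toAffine.equation_iff x y).mpr hE
    obtain ⟨-, h | h⟩ := ((W.map a).toAffine.nonsingular_iff' x y).mp
      (((W.map a).toAffine.equation_iff_nonsingular_of_Δ_ne_zero hΔ').mp hEq)
    · exact h hX
    · exact h hY

end Groth.Agent.S11104
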