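import Groth.Statements.S11105
import Groth.Agent.Hensel.DecompField

set_option autoImplicit false
universe u
open Hensel

namespace Groth.Agent.S11105

/-- Let R be a discrete valuation ring with fraction field K, K^s a separable closure of K, R^s the
integral closure of R in K^s and P^s a maximal ideal of R^s. Let D be the decomposition group of P^s
— the subgroup of automorphisms of K^s over K carrying P^s into (hence onto) itself — and L its
fixed field. Then the integral closure of R in L, localized at the prime Q = P^s ∩ L below P^s, is a
Henselian local ring (this local ring is the Henselization of R). -/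
theorem result (R K Ks : Type u) [CommRing R] [IsDomain R]
    [IsDiscreteValuationRing R] [Field K] [Algebra R K] [IsFractionRing R K]
    [Field Ks] [Algebra K Ks] [IsSepClosure K Ks] [Algebra R Ks] [IsScalarTower R K Ks]
    (Ps : Ideal (integralClosure R Ks)) [Ps.IsMaximal]
    (L : IntermediateField K Ks)
    (hL : L = IntermediateField.fixedField
      (Subgroup.closure {σ : Ks ≃ₐ[K] Ks | ∀ x : integralClosure R Ks, x ∈ Ps →
        ∃ h : σ (x : Ks) ∈ integralClosure R Ks, (⟨σ (x : Ks), h⟩ : integralClosure R Ks) ∈ Ps}))
    (Q : Ideal (integralClosure R L)) [Q.IsPrime]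
    (hQ : ∀ y : integralClosure R L, y ∈ Q ↔
      ∃ x : integralClosure R Ks, x ∈ Ps ∧ (x : Ks) = ((y : L) : Ks)) :
    HenselianLocalRing (Localization.AtPrime Q) := by
  haveI : IsSepClosed Ks := IsSepClosure.sep_closed K
  haveI : IsGalois K Ks := inferInstance
  refine Groth.Agent.Hensel.DecompField.henselianLocalRing_fixedField Ps _ (fun σ hσ => ?_) L hL Q hQ
  intro x
  refine ⟨fun h => ?_, fun hx => ?_⟩
  · let f : integralClosure R Ks →+* integralClosure R Ks :=
      ((σ.toAlgHom.restrictScalars R).mapIntegralClosure).toRingHom
    have hle : Ps ≤ Ps.comap f := fun y hy => by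
      obtain ⟨_, h'⟩ := hσ y hy
      exact h'
    haveI := Ideal.comap_isPrime f Ps
    rw [Ideal.IsMaximal.eq_of_le ‹Ps.IsMaximal› (Ideal.IsPrime.ne_top inferInstance) hle]
    exact h
  · obtain ⟨_, h'⟩ := hσ x hx
    exact h'

end Groth.Agent.S11105
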