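import Groth.Statements.S11115
import Groth.Agent.DCohBridge.PushDerived
import Groth.Agent.DCohBridge.PullRightExact

set_option autoImplicit false
universe u
open CategoryTheory CategoryTheory.Limits AlgebraicGeometry
attribute [local instance] HasDerivedCategory.standard
open Perf

open Groth.Agent.DCohBridge

namespace Groth.Agent.S11115

set_option backward.isDefEq.respectTransparency false
set_option backward.defeqAttrib.useBackward true

/-- Let f : X ⟶ Y be a quasi-compact quasi-separated morphism of schemes and assume the unbounded
derived direct image Rf_* exists. If F in D(O_X) has cohomology sheaves vanishing below degree n,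
then so has Rf_* F. (The published statement restricts F to complexes with quasi-coherent
cohomology; this row allows any F.) -/
theorem result {X Y : Scheme.{u}} (f : X ⟶ Y) [QuasiCompact f] [QuasiSeparated f] [DCoh.HasRpush f]
    (F : DCoh.D X) (n : ℤ) [F.IsGE n] : ((DCoh.Rpush f).obj F).IsGE n := by
  let C := DerivedCategory.Q.objPreimage F
  let eC : DerivedCategory.Q.obj C ≅ F := DerivedCategory.Q.objObjPreimageIso F
  haveI hC : (DerivedCategory.Q.obj C).IsGE n := DerivedCategory.TStructure.t.isGE_of_iso eC.symm n
  haveI : C.IsGE n := (DerivedCategory.isGE_Q_obj_iff C n).1 hC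
  haveI : QuasiIso (C.πTruncGE n) := (C.quasiIso_πTruncGE_iff n).2 inferInstance
  obtain ⟨I, s, hs, hI, hInj⟩ :=
    CochainComplex.Plus.modelCategoryQuillen.exists_quasiIso_injective (C.truncGE n) n
  haveI := CochainComplex.isKInjective_of_injective I n
  let P : CochainComplex Y.Modules ℤ := ((Scheme.Modules.pushforward f).mapHomologicalComplex (ComplexShape.up ℤ)).obj I
  haveI : CochainComplex.IsStrictlyGE P n := by
    rw [CochainComplex.isStrictlyGE_iff]
    exact fun i hi => (Scheme.Modules.pushforward f).map_isZero (CochainComplex.isZero_of_isStrictlyGE I n i hi)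
  haveI := isIso_Rpush_unit f (P := (HomotopyCategory.quotient _ _).obj I) ⟨I, inferInstance, rfl⟩
  let e : DerivedCategory.Q.obj P ≅ (DCoh.Rpush f).obj F :=
    asIso (((DCoh.pushKh f).totalRightDerivedUnit DerivedCategory.Qh
      (HomotopyCategory.quasiIso X.Modules (ComplexShape.up ℤ))).app ((HomotopyCategory.quotient _ _).obj I)) ≪≫
      (DCoh.Rpush f).mapIso ((asIso (DerivedCategory.Q.map (C.πTruncGE n ≫ s))).symm ≪≫ eC)
  haveI : (DerivedCategory.Q.obj P).IsGE n := (DerivedCategory.isGE_Q_obj_iff P n).2 inferInstance
  exact DerivedCategory.TStructure.t.isGE_of_iso e n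

end Groth.Agent.S11115
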