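import Groth.Statements.S1112
import Groth.Agent.DCohBridge.OpenBaseChange
import Groth.Agent.DCohBridge.AffPushTilde
import Groth.Agent.DCohBridge.TildeLocal
import Groth.Agent.DCohBridge.QCohDLocal
import Groth.Agent.DCohBridge.PCRetract
import Groth.Agent.DRingTorAmp.RestrictPC
import Groth.Agent.DRingKProj.PCIff

set_option autoImplicit false
universe u
open CategoryTheory CategoryTheory.Limits AlgebraicGeometry
attribute [local instance] HasDerivedCategory.standard
open Perf

open Groth.Agent.DCohBridge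

namespace Groth.Agent.S1112

set_option backward.isDefEq.respectTransparency false
set_option backward.defeqAttrib.useBackward true

/-- Restriction of a single object. -/
noncomputable def inDRestrict {V X : Scheme.{u}} (j : V ⟶ X) [IsOpenImmersion j] (M : X.Modules) :
    (DCoh.restrictD j).obj (DCoh.inD X M) ≅ DCoh.inD V ((Scheme.Modules.restrictFunctor j).obj M) :=
  ((Scheme.Modules.restrictFunctor j).mapDerivedCategorySingleFunctor 0).app M

lemma isPC_congr {X : Scheme.{u}} {K L : DCoh.D X} (e : K ≅ L) (m : ℤ) (h : DCoh.IsPseudoCoherentD m K) :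
    DCoh.IsPseudoCoherentD m L :=
  (isPseudoCoherentD_iff m L).2 fun x => PCAt.of_iso e ((isPseudoCoherentD_iff m K).1 h x)

lemma isPC_res {V X : Scheme.{u}} (j : V ⟶ X) [IsOpenImmersion j] (m : ℤ) {K : DCoh.D X}
    (h : DCoh.IsPseudoCoherentD m K) : DCoh.IsPseudoCoherentD m ((DCoh.restrictD j).obj K) :=
  (isPseudoCoherentD_iff m _).2 fun v => PCAt.res j rfl ((isPseudoCoherentD_iff m K).1 h (j.base v))

/-- Locally on the base, pseudo-coherence upstairs and downstairs agree. -/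
theorem chart {X Y : Scheme.{u}} (f : X ⟶ Y) [IsAffineHom f] [DCoh.HasRpush f]
    (hO : ∀ m : ℤ, DCoh.IsPseudoCoherentD m (DCoh.inD Y ((Scheme.Modules.pushforward f).obj (Coh.structureModule X))))
    (E : DCoh.D X) (hE : DCoh.IsQCohD E) (m : ℤ) (y : Y) :
    ∃ (A B : CommRingCat.{u}) (j : Spec A ⟶ Y) (_ : IsOpenImmersion j) (k : Spec B ⟶ X) (_ : IsOpenImmersion k),
      y ∈ Set.range j.base ∧ k.opensRange = f ⁻¹ᵁ j.opensRange ∧
      (DCoh.IsPseudoCoherentD m ((DCoh.restrictD k).obj E) ↔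
        DCoh.IsPseudoCoherentD m ((DCoh.restrictD j).obj ((DCoh.Rpush f).obj E))) := by
  obtain ⟨A, j, hj, p, hp, -⟩ := exists_affine_chart ⊤ y trivial
  let W : X.Opens := f ⁻¹ᵁ j.opensRange
  have hW : IsAffineOpen W := (isAffineOpen_opensRange j).preimage f
  let B := Γ(X, W)
  let k : Spec B ⟶ X := hW.fromSpec
  have hk : k.opensRange = f ⁻¹ᵁ j.opensRange := hW.opensRange_fromSpec
  have hr : Set.range (k ≫ f).base ⊆ Set.range j.base := by
    rintro _ ⟨z, rfl⟩
    exact (hk ▸ (⟨z, rfl⟩ : k.base z ∈ k.opensRange) : k.base z ∈ f ⁻¹ᵁ j.opensRange)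
  let φ := Spec.preimage (IsOpenImmersion.lift j (k ≫ f) hr)
  let g : Spec B ⟶ Spec A := Spec.map φ
  have w : k ≫ f = g ≫ j := by
    simp only [g, φ, Spec.map_preimage, IsOpenImmersion.lift_fac]
  refine ⟨A, B, j, hj, k, inferInstance, ⟨p, hp⟩, hk, ?_⟩
  haveI := hasRpush g
  haveI : DCoh.HasRpush (Spec.map (CommRingCat.ofHom φ.hom)) := hasRpush g
  -- the structure sheaf
  let rB : ModuleCat.{u} A := (ModuleCat.restrictScalars φ.hom).obj (ModuleCat.of B B)
  let eO : (Scheme.Modules.restrictFunctor j).obj ((Scheme.Modules.pushforward f).obj (Coh.structureModule X)) ≅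
      (tilde.functor A).obj rB :=
    (pushResIso f j k g w hk).app _ ≪≫
      (Scheme.Modules.pushforward g).mapIso (Scheme.Modules.restrictUnitIso k ≪≫ tildeSelf.symm) ≪≫
      ((pushTildeIso φ).app (ModuleCat.of B B)).symm
  have hB : DRing.IsPseudoCoherentModule' A rB := DRingKProj.pseudoCoherent'_of_forall fun n => by
    refine (isPseudoCoherentD_tildeD_iff (Dual.inD A rB) n).1 ?_
    exact isPC_congr (inDRestrict j _ ≪≫ (DerivedCategory.singleFunctor _ 0).mapIso eO ≪≫
      ((tilde.functor A).mapDerivedCategorySingleFunctor 0).symm.app rB) n (isPC_res j n (hO n))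
  have hB' : letI := φ.hom.toAlgebra; DRing.IsPseudoCoherentModule' A B := hB
  -- the complex
  obtain ⟨M, -, ⟨eM⟩⟩ := exists_tilde_rep hE B k
  let e₁ : (DCoh.tildeD B).obj (DerivedCategory.Q.obj M) ≅ (DCoh.restrictD k).obj E := Affine.factor M ≪≫ eM.symm
  obtain ⟨eT⟩ := nonempty_tildeD_Rpush_iso φ.hom
  obtain ⟨eb⟩ := nonempty_restrictD_Rpush f j k g w hk E
  let e₂ : (DCoh.tildeD A).obj ((DRing.restrictD φ.hom).obj (DerivedCategory.Q.obj M)) ≅
      (DCoh.restrictD j).obj ((DCoh.Rpush f).obj E) :=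
    (eT.app (DerivedCategory.Q.obj M)).symm ≪≫ (DCoh.Rpush g).mapIso e₁ ≪≫ eb.symm
  have hi := DRingTorAmp.isPseudoCoherent_restrict_iff φ.hom hB' m (DerivedCategory.Q.obj M)
  exact ⟨fun h => isPC_congr e₂ m ((isPseudoCoherentD_tildeD_iff _ m).2
      (hi.1 ((isPseudoCoherentD_tildeD_iff _ m).1 (isPC_congr e₁.symm m h)))),
    fun h => isPC_congr e₁ m ((isPseudoCoherentD_tildeD_iff _ m).2
      (hi.2 ((isPseudoCoherentD_tildeD_iff _ m).1 (isPC_congr e₂.symm m h))))⟩

/-- For a finite morphism f : X ⟶ Y whose direct image of the structure sheaf is a pseudo-coherent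
O_Y-module, and E ∈ D(O_X) with quasi-coherent cohomology (Rf_* assumed to exist), E is
m-pseudo-coherent exactly when Rf_*E is. -/
theorem result {X Y : Scheme.{u}} (f : X ⟶ Y) [IsFinite f] [DCoh.HasRpush f]
    (hO : ∀ m : ℤ, DCoh.IsPseudoCoherentD m (DCoh.inD Y ((Scheme.Modules.pushforward f).obj (Coh.structureModule X))))
    (E : DCoh.D X) (hE : DCoh.IsQCohD E) (m : ℤ) :
    DCoh.IsPseudoCoherentD m E ↔ DCoh.IsPseudoCoherentD m ((DCoh.Rpush f).obj E) := by
  refine ⟨fun h => (isPseudoCoherentD_iff m _).2 fun y => ?_, fun h => (isPseudoCoherentD_iff m _).2 fun x => ?_⟩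
  · obtain ⟨A, B, j, _, k, _, ⟨p, hp⟩, hk, hiff⟩ := chart f hO E hE m y
    exact PCAt.of_res j hp ((isPseudoCoherentD_iff m _).1 (hiff.1 (isPC_res k m h)) p)
  · obtain ⟨A, B, j, _, k, _, hy, hk, hiff⟩ := chart f hO E hE m (f.base x)
    obtain ⟨q, hq⟩ : x ∈ k.opensRange := hk ▸ hy
    exact PCAt.of_res k hq ((isPseudoCoherentD_iff m _).1 (hiff.2 (isPC_res j m h)) q)

end Groth.Agent.S1112
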