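import Groth.Statements.S1113
import Groth.Agent.DerCat.GhostDual

set_option autoImplicit false
set_option backward.isDefEq.respectTransparency false
set_option backward.defeqAttrib.useBackward true
universe w v u
open CategoryTheory CategoryTheory.Limits
open CohDer

namespace Groth.Agent.S1113

/-- Let K : ℕᵒᵖ ⥤ CochainComplex A ℤ be a sequence of cochain maps … → K₂ → K₁ → K₀ in an abelian
category with Hⁱ(K₀) = 0 for i < 0 and such that for every j < n the map Hʲ(Kⱼ₊₁) → Hʲ(Kⱼ) is zero.
Then in the derived category the composite Kₙ → K₀ factors through the canonical truncation Kₙ →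
τ_{≥ n}Kₙ. -/
theorem result {A : Type u} [Category.{v} A] [Abelian A] [HasDerivedCategory.{w} A]
    (K : ℕᵒᵖ ⥤ CochainComplex A ℤ) (n : ℕ)
    (h0 : ∀ i : ℤ, i < 0 → IsZero ((K.obj (Opposite.op 0)).homology i))
    (hz : ∀ j : ℕ, j < n → HomologicalComplex.homologyMap (K.map (homOfLE (Nat.le_succ j)).op) (j : ℤ) = 0) :
    ∃ φ : DerivedCategory.Q.obj ((K.obj (Opposite.op n)).truncGE (n : ℤ)) ⟶ DerivedCategory.Q.obj (K.obj (Opposite.op 0)),
      DerivedCategory.Q.map ((K.obj (Opposite.op n)).πTruncGE (n : ℤ)) ≫ φ = DerivedCategory.Q.map (K.map (homOfLE (Nat.zero_le n)).op) := by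
  let t := DerivedCategory.TStructure.t (C := A)
  have : (DerivedCategory.Q.obj (K.obj (Opposite.op 0))).IsGE 0 := by
    rw [DerivedCategory.isGE_iff]
    exact fun i hi => (h0 i hi).of_iso ((DerivedCategory.homologyFunctorFactors A i).app _)
  obtain ⟨g, hg⟩ := DerCat.exists_factor_of_chain' (fun i => DerivedCategory.Q.obj (K.obj (Opposite.op i)))
    (fun i => DerivedCategory.Q.map (K.map (homOfLE (Nat.le_succ i)).op))
    (fun i => DerivedCategory.Q.map (K.map (homOfLE (Nat.zero_le i)).op))
    (by simp) 0 n (fun i _ => by simp only [← Functor.map_comp, ← op_comp, homOfLE_comp]) inferInstance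
    (fun i hi => by
      rw [← cancel_mono ((DerivedCategory.homologyFunctorFactors A _).hom.app _),
        DerivedCategory.homologyFunctorFactors_hom_naturality, zero_add, hz i hi, comp_zero, zero_comp])
  have : ((t.truncGT (0 + (n : ℤ) - 1)).obj (DerivedCategory.Q.obj (K.obj (Opposite.op n)))).IsGE (n : ℤ) :=
    t.isGE_truncGT_obj _ _ _ (by omega)
  obtain ⟨φ, hφ⟩ := DerCat.exists_desc_πTruncGE (K.obj (Opposite.op n)) (n : ℤ)
    ((t.truncGTπ (0 + (n : ℤ) - 1)).app (DerivedCategory.Q.obj (K.obj (Opposite.op n))))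
  exact ⟨φ ≫ g, by rw [← Category.assoc, hφ]; exact hg⟩

end Groth.Agent.S1113
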