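import Groth.Statements.S11131
import Groth.Agent.SiteBase.ModColimits
import Groth.Agent.SiteBase.ModGrothendieck
import Mathlib.CategoryTheory.Sites.CoverLifting
import Mathlib.CategoryTheory.Adjunction.AdjointFunctorTheorems
import Mathlib.CategoryTheory.Abelian.Subobject

set_option autoImplicit false
universe u
open CategoryTheory CategoryTheory.Limits
open ModSite

namespace Groth.Agent.S11131

/-- Let F : C ⥤ D be a functor between small sites which preserves coverings, is continuous
(precomposition with F preserves sheaves) and is cocontinuous (every covering of F y is refined by
the image of a covering of y). For sheaves of rings S on C and R on D and a ring map φ : S ⟶ F_* R,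
the restriction functor from sheaves of R-modules to sheaves of S-modules (precompose with F,
restrict scalars along φ) is a left adjoint. (The published statement asks the functor to send
coverings to coverings and to preserve fibre products of members of a covering, takes commutative
structure sheaves, and also asserts that restriction commutes with sheafification of presheaves of
modules; this row assumes only that restriction along the functor preserves sheaves, that coverings
go to coverings and that the functor is cocontinuous, and states only that the right adjoint
exists.) -/
theorem result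
    {C : Type u} [SmallCategory C] {D : Type u} [SmallCategory D]
    (J : GrothendieckTopology C) (K : GrothendieckTopology D) (F : C ⥤ D)
    [F.IsContinuous J K] (hF : CoverPreserving J K F) [F.IsCocontinuous J K]
    {S : Sheaf J RingCat.{u}} {R : Sheaf K RingCat.{u}}
    (φ : S ⟶ (F.sheafPushforwardContinuous RingCat.{u} J K).obj R) :
    (SheafOfModules.pushforward.{u} φ).IsLeftAdjoint := by
  haveI : PreservesColimitsOfSize.{u, u} (F.sheafPushforwardContinuous AddCommGrpCat.{u} J K) :=
    (F.sheafAdjunctionCocontinuous AddCommGrpCat.{u} J K).leftAdjoint_preservesColimits
  haveI : PreservesColimitsOfSize.{u, u} (SheafOfModules.pushforward.{u} φ ⋙ SheafOfModules.toSheaf.{u} S) :=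
    preservesColimits_of_natIso (Iso.refl _ : SheafOfModules.toSheaf.{u} R ⋙ F.sheafPushforwardContinuous AddCommGrpCat.{u} J K ≅ SheafOfModules.pushforward.{u} φ ⋙ SheafOfModules.toSheaf.{u} S)
  haveI : ReflectsColimitsOfSize.{u, u} (SheafOfModules.toSheaf.{u} S) := reflectsColimits_of_reflectsIsomorphisms
  haveI : PreservesColimitsOfSize.{u, u} (SheafOfModules.pushforward.{u} φ) :=
    preservesColimits_of_reflects_of_preserves _ (SheafOfModules.toSheaf.{u} S)
  obtain ⟨G, hG⟩ := HasSeparator.hasSeparator (C := SheafOfModules.{u} R)
  haveI : WellPowered.{u} (SheafOfModules.{u} R) := IsGrothendieckAbelian.wellPowered.{u} _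
  haveI : WellPowered.{u} (SheafOfModules.{u} R)ᵒᵖ := Abelian.wellPowered_opposite
  exact isLeftAdjoint_of_preservesColimits_of_isSeparating hG _

end Groth.Agent.S11131
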