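-- statement InvTh.GrothFrozen.S11135 (Groth/Statements/S11135.lean; the theorem InvTh.subring_eqLocus_isFiniteProdNormalDomains);
import Groth.Statements.S11135
import Mathlib

set_option autoImplicit false
universe u
open InvTh

namespace Groth.Agent.S11135

theorem exists_mul_eq {E : Type u} [CommRing E] [IsDomain E] {D : Type u} [CommRing D] [IsDomain D]
    [IsIntegrallyClosed D] (φ : E →+* D) (hφ : Function.Injective φ) (a b : E) (hb : b ≠ 0)
    (hz : IsIntegral E (algebraMap E (FractionRing E) a / algebraMap E (FractionRing E) b)) :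
    ∃ c, c * φ b = φ a := by
  have hg : Function.Injective ((algebraMap D (FractionRing D)).comp φ) :=
    (IsFractionRing.injective D (FractionRing D)).comp hφ
  let G : FractionRing E →+* FractionRing D := IsFractionRing.lift hg
  have hG : ∀ x, G (algebraMap E _ x) = algebraMap D _ (φ x) := fun x => IsFractionRing.lift_algebraMap hg x
  obtain ⟨p, hp, hpz⟩ := hz
  have hint : IsIntegral D (G (algebraMap E _ a / algebraMap E _ b)) := ⟨p.map φ, hp.map _, by
    rw [Polynomial.eval₂_map, show (algebraMap D (FractionRing D)).comp φ = G.comp (algebraMap E _) from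
      RingHom.ext fun x => (hG x).symm, ← Polynomial.hom_eval₂, hpz, map_zero]⟩
  obtain ⟨c, hc⟩ := IsIntegrallyClosed.isIntegral_iff.1 hint
  refine ⟨c, IsFractionRing.injective D (FractionRing D) ?_⟩
  rw [map_mul, hc, map_div₀, hG, hG]
  exact div_mul_cancel₀ _ fun h => hb (hg (h.trans (map_zero _).symm))

theorem isIntegrallyClosed_of_forall {E : Type u} [CommRing E] [IsDomain E]
    (h : ∀ a b : E, b ≠ 0 → IsIntegral E (algebraMap E (FractionRing E) a / algebraMap E (FractionRing E) b) →
      ∃ e, e * b = a) : IsIntegrallyClosed E := by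
  refine (isIntegrallyClosed_iff (FractionRing E)).2 fun {z} hz => ?_
  obtain ⟨a, b, hb, rfl⟩ := IsFractionRing.div_surjective E z
  obtain ⟨e, he⟩ := h a b (nonZeroDivisors.ne_zero hb) hz
  refine ⟨e, ?_⟩
  rw [eq_div_iff ((map_ne_zero_iff _ (IsFractionRing.injective E (FractionRing E))).2 (nonZeroDivisors.ne_zero hb)), ← map_mul, he]

/-- Suppose S is the product of a finite family of integrally closed domains (a finite product of normal
domains), R is any commutative ring, and F is a family of ring maps S → R each carrying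
non-zero-divisors of S to non-zero-divisors of R. Then the subring A of S on which all members of F
coincide (a ∈ A iff f(a) = f'(a) for all f, f' in F) is ring-isomorphic to a product of finitely
many integrally closed domains. -/
theorem result {ι : Type u} [Fintype ι] (D : ι → Type u)
    [∀ i, CommRing (D i)] [∀ i, IsDomain (D i)] [∀ i, IsIntegrallyClosed (D i)]
    (R : Type u) [CommRing R] (F : Set ((Π i, D i) →+* R))
    (hF : ∀ f ∈ F, ∀ s ∈ nonZeroDivisors (Π i, D i), f s ∈ nonZeroDivisors R)
    (A : Subring (Π i, D i)) (hA : ∀ a, a ∈ A ↔ ∀ f ∈ F, ∀ f' ∈ F, f a = f' a) :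
    ∃ (κ : Type u) (_ : Fintype κ) (E : κ → Type u) (_ : ∀ j, CommRing (E j)) (_ : ∀ j, IsDomain (E j))
      (_ : ∀ j, IsIntegrallyClosed (E j)), Nonempty (A ≃+* Π j, E j) := by
  classical
  let ind : Set ι → (Π i, D i) := fun s i => if i ∈ s then 1 else 0
  have hnzd : ∀ a : Π i, D i, (∀ i, a i ≠ 0) → a ∈ nonZeroDivisors (Π i, D i) := fun a ha =>
    mem_nonZeroDivisors_iff.2 ⟨fun z hz => funext fun i => (mul_eq_zero.1 (congrFun hz i)).resolve_left (ha i),
      fun z hz => funext fun i => (mul_eq_zero.1 (congrFun hz i)).resolve_right (ha i)⟩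
  have hsupp : ∀ a, a ∈ A → ind {i | a i ≠ 0} ∈ A := fun a ha => by
    rw [hA] at ha ⊢
    set e := ind {i | a i ≠ 0} with he
    have hae : a * e = a := funext fun i => by by_cases h : a i = 0 <;> simp [he, ind, h]
    have hb : a + (1 - e) ∈ nonZeroDivisors (Π i, D i) := hnzd _ fun i => by
      by_cases h : a i = 0 <;> simp [he, ind, h]
    have hee : e * e = e := funext fun i => by by_cases h : a i = 0 <;> simp [he, ind, h]
    have key : ∀ f ∈ F, ∀ f' ∈ F, f e * (1 - f' e) = 0 := fun f hf f' hf' => by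
      have h0 : f (a + (1 - e)) * (f e * (1 - f' e)) = 0 := by
        have h1 : f e * f e = f e := by rw [← map_mul, hee]
        have h2 : f a = f' a := ha f hf f' hf'
        have h3 : f' a * f' e = f' a := by rw [← map_mul, hae]
        rw [map_add, map_sub, map_one, h2]
        linear_combination (-(1 - f' e)) * h1 - f e * h3
      exact (mem_nonZeroDivisors_iff.1 (hF f hf _ hb)).1 _ h0
    intro f hf f' hf'
    linear_combination key f hf f' hf' - key f' hf' f hf
  let r : Setoid ι :=
    { r := fun i j => ∀ s : Set ι, ind s ∈ A → (i ∈ s ↔ j ∈ s)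
      iseqv := ⟨fun i s _ => Iff.rfl, fun h s hs => (h s hs).symm, fun h h' s hs => (h s hs).trans (h' s hs)⟩ }
  let κ := Quotient r
  haveI : Fintype κ := Fintype.ofFinite κ
  have hblock : ∀ q : κ, ind {i | Quotient.mk r i = q} ∈ A := fun q => by
    induction q using Quotient.inductionOn with
    | _ i =>
      have hex : ∀ j, ¬ r.r i j → ∃ s, ind s ∈ A ∧ i ∈ s ∧ j ∉ s := fun j hj => by
        change ¬ ∀ s : Set ι, ind s ∈ A → (i ∈ s ↔ j ∈ s) at hj
        push_neg at hj
        obtain ⟨s, hs, h⟩ := hj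
        rcases h with ⟨h1, h2⟩ | ⟨h1, h2⟩
        · exact ⟨s, hs, h1, h2⟩
        · refine ⟨sᶜ, ?_, h1, fun h => h h2⟩
          rw [show ind sᶜ = 1 - ind s from funext fun k => by by_cases h : k ∈ s <;> simp [ind, h]]
          exact A.sub_mem A.one_mem hs
      choose S hS1 hS2 hS3 using hex
      have : ind {j | Quotient.mk r j = Quotient.mk r i} = ∏ j : {j // ¬ r.r i j}, ind (S j.1 j.2) := funext fun k => by
        rw [Finset.prod_apply]
        by_cases hk : Quotient.mk r k = Quotient.mk r i
        · rw [show ind _ k = 1 from if_pos hk]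
          symm
          refine Finset.prod_eq_one fun j _ => if_pos ?_
          exact (Quotient.exact hk (S j.1 j.2) (hS1 _ _)).2 (hS2 _ _)
        · rw [show ind _ k = 0 from if_neg hk]
          symm
          have hk' : ¬ r.r i k := fun h => hk (Quotient.sound (r.symm h))
          exact Finset.prod_eq_zero (Finset.mem_univ ⟨k, hk'⟩) (if_neg (hS3 k hk'))
      rw [this]
      exact A.toSubmonoid.prod_mem fun j _ => hS1 j.1 j.2
  let π : (q : κ) → A →+* (Π i : {i // Quotient.mk r i = q}, D i.1) := fun q =>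
    (Pi.ringHom fun i : {i // Quotient.mk r i = q} => (Pi.evalRingHom D i.1)).comp A.subtype
  have hπ : ∀ q (a : A) i, π q a i = (a : Π i, D i) i.1 := fun q a i => rfl
  have hfull : ∀ (q : κ) (x : (π q).range), x ≠ 0 → ∀ i, x.1 i ≠ 0 := by
    rintro q ⟨_, a, rfl⟩ hx ⟨i, hi⟩ h0
    change (a : Π i, D i) i = 0 at h0
    refine hx (Subtype.ext (funext fun ⟨j, hj⟩ => ?_))
    change (a : Π i, D i) j = 0
    by_contra hj0
    have hc := (Quotient.exact (hi.trans hj.symm) {k | (a : Π i, D i) k ≠ 0} (hsupp _ a.2)).2 hj0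
    exact hc h0
  have hne : ∀ q : κ, Nonempty {i // Quotient.mk r i = q} := fun q =>
    Quotient.inductionOn q fun i => ⟨⟨i, rfl⟩⟩
  have hdom : ∀ q : κ, IsDomain (π q).range := fun q => by
    haveI := hne q
    haveI : Nontrivial (π q).range := ⟨0, 1, fun h => by
      obtain ⟨i⟩ := hne q
      exact zero_ne_one (congrFun (congrArg Subtype.val h) i : (0 : D i.1) = 1)⟩
    haveI : NoZeroDivisors (π q).range := ⟨fun {x y} hxy => by
      by_contra h
      push_neg at h
      obtain ⟨i⟩ := hne q
      exact mul_ne_zero (hfull q x h.1 i) (hfull q y h.2 i) (congrFun (congrArg Subtype.val hxy) i)⟩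
    exact NoZeroDivisors.to_isDomain _
  have hic : ∀ q : κ, IsIntegrallyClosed (π q).range := fun q => by
    haveI := hdom q
    refine isIntegrallyClosed_of_forall fun a b hb0 hz => ?_
    have hcoord : ∀ i, ∃ c, c * b.1 i = a.1 i := fun i =>
      exists_mul_eq ((Pi.evalRingHom _ i).comp (π q).range.subtype)
        ((injective_iff_map_eq_zero _).2 fun x hx => by_contra fun hx0 => hfull q x hx0 i hx) a b hb0 hz
    choose c hc using hcoord
    obtain ⟨a₀, ha₀⟩ := a.2
    obtain ⟨b₀, hb₀⟩ := b.2
    let B : Set ι := {i | Quotient.mk r i = q}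
    let c' : Π i, D i := fun i => if h : Quotient.mk r i = q then c ⟨i, h⟩ else 0
    let b' : Π i, D i := (b₀ : Π i, D i) * ind B + (1 - ind B)
    have hb'A : b' ∈ A := A.add_mem (A.mul_mem b₀.2 (hblock q)) (A.sub_mem A.one_mem (hblock q))
    have hb'ne : b' ∈ nonZeroDivisors (Π i, D i) := hnzd _ fun i => by
      by_cases h : Quotient.mk r i = q
      · have := hfull q b hb0 ⟨i, h⟩
        rw [← hb₀, hπ] at this
        simpa [b', ind, B, h] using this
      · simp [b', ind, B, h]
    have hmul : c' * b' = (a₀ : Π i, D i) * ind B := funext fun i => by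
      by_cases h : Quotient.mk r i = q
      · have := hc ⟨i, h⟩
        rw [← ha₀, ← hb₀, hπ, hπ] at this
        simpa [c', b', ind, B, h] using this
      · simp [c', b', ind, B, h]
    have hc'A : c' ∈ A := (hA _).2 fun f hf f' hf' => by
      have h1 := congrArg f hmul
      have h2 := congrArg f' hmul
      rw [(hA _).1 (A.mul_mem a₀.2 (hblock q)) f hf f' hf', ← h2, map_mul, map_mul, (hA _).1 hb'A f hf f' hf'] at h1
      have := (mem_nonZeroDivisors_iff.1 (hF f' hf' _ hb'ne)).2 (f c' - f' c') (by rw [sub_mul, h1, sub_self])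
      exact sub_eq_zero.1 this
    refine ⟨⟨π q ⟨c', hc'A⟩, ⟨c', hc'A⟩, rfl⟩, ?_⟩
    refine Subtype.ext (funext fun i => ?_)
    show c' i.1 * b.1 i = a.1 i
    rw [show c' i.1 = c i from dif_pos i.2]
    exact hc i
  refine ⟨κ, inferInstance, fun q => (π q).range, fun q => inferInstance, hdom, hic,
    ⟨RingEquiv.ofBijective (Pi.ringHom fun q => (π q).rangeRestrict) ⟨fun x y hxy => ?_, fun z => ?_⟩⟩⟩
  · refine Subtype.ext (funext fun i => ?_)
    exact congrFun (congrArg Subtype.val (congrFun hxy (Quotient.mk r i))) ⟨i, rfl⟩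
  · choose a ha using fun q => (z q).2
    refine ⟨⟨∑ q, (a q : Π i, D i) * ind {i | Quotient.mk r i = q},
      A.sum_mem fun q _ => A.mul_mem (a q).2 (hblock q)⟩, funext fun q => Subtype.ext ?_⟩
    rw [← ha q]
    funext ⟨i, hi⟩
    show (∑ q' : κ, (a q' : Π i, D i) * ind {i | Quotient.mk r i = q'}) i = (a q : Π i, D i) i
    rw [Finset.sum_apply, Finset.sum_eq_single q]
    · simp [ind, hi]
    · intro q' _ hq'; simp [ind, hi, Ne.symm hq']
    · simp

end Groth.Agent.S11135
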