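-- statement InvTh.GrothFrozen.S11136 (Groth/Statements/S11136.lean; the theorem InvTh.exists_smul_connectedComponent_eq_of_invariants_connected);
import Groth.Statements.S11136
import Mathlib

set_option autoImplicit false
universe u v
open InvTh

namespace Groth.Agent.S11136

/-- Let a finite group G act on a Noetherian commutative ring R by ring automorphisms, with ring of
invariants A (A → R injective with image the fixed elements). When the prime spectrum of A is
connected, any two connected components of Spec R are exchanged by some element of G: for all points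
x, y of Spec R there is g in G whose induced self-map of Spec R carries the connected component of x
onto the connected component of y. -/
theorem result
    (A : Type u) (R : Type v) [CommRing A] [CommRing R] [Algebra A R] [IsNoetherianRing R]
    (G : Type u) [Group G] [Finite G] [MulSemiringAction G R] [SMulCommClass G A R]
    [Algebra.IsInvariant A R G] [FaithfulSMul A R]
    [ConnectedSpace (PrimeSpectrum A)] (x y : PrimeSpectrum R) :
    ∃ g : G, PrimeSpectrum.comap (MulSemiringAction.toRingHom G R g) '' connectedComponent x =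
      connectedComponent y := by
  classical
  let X := PrimeSpectrum R
  let C : Set X := connectedComponent x
  have hopen : IsOpen C := by
    rw [← isClosed_compl_iff]
    have hZ : Cᶜ = ⋃ Z ∈ {Z ∈ irreducibleComponents X | ¬ Z ⊆ C}, Z := by
      ext z
      simp only [Set.mem_compl_iff, Set.mem_iUnion, Set.mem_setOf_eq, exists_prop]
      refine ⟨fun hz => ⟨irreducibleComponent z, ⟨irreducibleComponent_mem_irreducibleComponents z,
        fun h => hz (h mem_irreducibleComponent)⟩, mem_irreducibleComponent⟩, ?_⟩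
      rintro ⟨Z, ⟨hZ, hn⟩, hzZ⟩ hz
      exact hn ((hZ.1.2.isPreconnected.subset_connectedComponent hzZ).trans (connectedComponent_eq hz).ge)
    rw [hZ]
    exact ((TopologicalSpace.NoetherianSpace.finite_irreducibleComponents).subset fun Z hZ => hZ.1).isClosed_biUnion
      fun Z hZ => isClosed_of_mem_irreducibleComponents Z hZ.1
  let φ : G → X → X := fun g => PrimeSpectrum.comap (MulSemiringAction.toRingHom G R g)
  have hφ : ∀ g h z, φ g (φ h z) = φ (h * g) z := fun g h z => PrimeSpectrum.ext (Ideal.ext fun r => by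
    show h • (g • r) ∈ z.asIdeal ↔ (h * g) • r ∈ z.asIdeal
    rw [mul_smul])
  have hφ1 : ∀ z, φ 1 z = z := fun z => PrimeSpectrum.ext (Ideal.ext fun r => by
    show (1 : G) • r ∈ z.asIdeal ↔ r ∈ z.asIdeal
    rw [one_smul])
  have hcont : ∀ g, Continuous (φ g) := fun g => PrimeSpectrum.continuous_comap _
  let e : G → X ≃ₜ X := fun g =>
    { toFun := φ g
      invFun := φ g⁻¹
      left_inv := fun z => by rw [hφ, mul_inv_cancel, hφ1]
      right_inv := fun z => by rw [hφ, inv_mul_cancel, hφ1]
      continuous_toFun := hcont g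
      continuous_invFun := hcont g⁻¹ }
  let U : Set X := ⋃ g : G, φ g ⁻¹' C
  have hU : IsClopen U := isClopen_iUnion_of_finite fun g => IsClopen.preimage ⟨isClosed_connectedComponent, hopen⟩ (hcont g)
  haveI := Algebra.IsInvariant.isIntegral A R G
  have hπ : IsClosedMap (PrimeSpectrum.comap (algebraMap A R)) :=
    PrimeSpectrum.isClosedMap_comap_of_isIntegral _ (algebraMap_isIntegral_iff.2 inferInstance)
  have hst : ∀ z g, z ∈ U → φ g z ∈ U := fun z g hz => by
    obtain ⟨h, hh⟩ := Set.mem_iUnion.1 hz
    refine Set.mem_iUnion.2 ⟨g⁻¹ * h, ?_⟩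
    rw [Set.mem_preimage, hφ, mul_inv_cancel_left]
    exact hh
  have hdis : Disjoint (PrimeSpectrum.comap (algebraMap A R) '' U) (PrimeSpectrum.comap (algebraMap A R) '' Uᶜ) := by
    rw [Set.disjoint_left]
    rintro _ ⟨z, hz, rfl⟩ ⟨w, hw, hzw⟩
    obtain ⟨g, hg⟩ := Algebra.IsInvariant.exists_smul_of_under_eq A R G z.asIdeal w.asIdeal (congrArg PrimeSpectrum.asIdeal hzw).symm
    refine hw ?_
    have : w = φ g⁻¹ z := PrimeSpectrum.ext (by rw [hg, Ideal.pointwise_smul_eq_comap]; rfl)
    rw [this]; exact hst z _ hz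
  have hsurj : ∀ p : PrimeSpectrum A, ∃ z : X, PrimeSpectrum.comap (algebraMap A R) z = p := fun p => by
    obtain ⟨Q, -, hQ, hQp⟩ := Ideal.exists_ideal_over_prime_of_isIntegral (S := R) p.asIdeal (⊥ : Ideal R) (by
      rw [← RingHom.ker_eq_comap_bot, (RingHom.injective_iff_ker_eq_bot _).1 (FaithfulSMul.algebraMap_injective A R)]
      exact bot_le)
    exact ⟨⟨Q, hQ⟩, PrimeSpectrum.ext hQp⟩
  have hxU : x ∈ U := Set.mem_iUnion.2 ⟨1, by rw [Set.mem_preimage, hφ1]; exact mem_connectedComponent⟩
  have hy : y ∈ U := by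
    by_contra hyU
    have h := isPreconnected_closed_iff.1 isPreconnected_univ _ _ (hπ _ hU.isClosed) (hπ _ hU.compl.isClosed)
      (fun p _ => by
        obtain ⟨z, rfl⟩ := hsurj p
        by_cases hz : z ∈ U
        · exact Or.inl ⟨z, hz, rfl⟩
        · exact Or.inr ⟨z, hz, rfl⟩)
      ⟨_, trivial, ⟨x, hxU, rfl⟩⟩ ⟨_, trivial, ⟨y, hyU, rfl⟩⟩
    obtain ⟨p, -, h1, h2⟩ := h
    exact Set.disjoint_left.1 hdis h1 h2
  obtain ⟨g, hg⟩ := Set.mem_iUnion.1 hy
  refine ⟨g⁻¹, ?_⟩
  have hx' : x ∈ connectedComponent (φ g y) := by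
    rw [← connectedComponent_eq (hg : φ g y ∈ C)]; exact mem_connectedComponent
  show φ g⁻¹ '' connectedComponent x = _
  rw [connectedComponent_eq hx' |>.symm]
  refine Set.Subset.antisymm ((hcont g⁻¹).image_connectedComponent_subset (φ g y) |>.trans ?_) fun z hz => ?_
  · rw [hφ, mul_inv_cancel, hφ1]
  · refine ⟨φ g z, (hcont g).image_connectedComponent_subset y ⟨z, hz, rfl⟩, ?_⟩
    rw [hφ, mul_inv_cancel, hφ1]

end Groth.Agent.S11136
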