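-- statement InvTh.GrothFrozen.S11137 (Groth/Statements/S11137.lean; the theorem InvTh.hasGoingDown_invariants_of_finite_group);
import Groth.Statements.S11137
import Mathlib

set_option autoImplicit false
universe u v
open InvTh

namespace Groth.Agent.S11137
open scoped Pointwise

/-- Let G be a finite group acting by ring automorphisms on a Noetherian commutative ring R, and let A
be its ring of invariants (A → R injective with image the fixed elements), with R module-finite over
A. Then the going-down property holds for the extension A → R. (The published statement also asserts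
that G acts transitively on the primes of R over a given prime of A; this row states only the
going-down assertion.) -/
theorem result
    (A : Type u) (R : Type v) [CommRing A] [CommRing R] [Algebra A R] [IsNoetherianRing R]
    (G : Type u) [Group G] [Finite G] [MulSemiringAction G R] [SMulCommClass G A R]
    [Algebra.IsInvariant A R G] [FaithfulSMul A R] [Module.Finite A R] :
    Algebra.HasGoingDown A R := by
  haveI := Algebra.IsInvariant.isIntegral A R G
  refine ⟨fun {p} _ Q _ hlt => ?_⟩
  obtain ⟨Q₀, -, hQ₀, hQ₀p⟩ := Ideal.exists_ideal_over_prime_of_isIntegral (S := R) p (⊥ : Ideal R) (by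
    rw [← RingHom.ker_eq_comap_bot, (RingHom.injective_iff_ker_eq_bot _).1 (FaithfulSMul.algebraMap_injective A R)]
    exact bot_le)
  haveI := hQ₀
  obtain ⟨Q₁, hle, hQ₁, hQ₁p⟩ := Ideal.exists_ideal_over_prime_of_isIntegral (S := R) (Q.under A) Q₀ (hQ₀p.le.trans hlt.le)
  haveI := hQ₁
  obtain ⟨g, hg⟩ := Algebra.IsInvariant.exists_smul_of_under_eq A R G Q₁ Q hQ₁p
  refine ⟨g • Q₀, hg.symm ▸ Ideal.map_mono hle, hQ₀.smul g, ⟨?_⟩⟩
  rw [Ideal.under_smul]
  exact hQ₀p.symm

end Groth.Agent.S11137
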