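-- statement InvTh.GrothFrozen.S11141 (Groth/Statements/S11141.lean; the theorem InvTh.invariants_isFiniteProdNormalDomains_of_comodAlgebra);
import Groth.Statements.S11141
import Mathlib
import Groth.Agent.S11135

set_option autoImplicit false
universe u
open TensorProduct
open InvTh

namespace Groth.Agent.S11141

/-- Let k be a field, H a finitely generated commutative Hopf algebra over k (the coordinate ring of a
group scheme affine and of finite type over k), and S a commutative k-algebra which is
ring-isomorphic to a finite product of normal (integrally closed) domains and carries an H-comodule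
structure whose coaction S → S ⊗ H is multiplicative and unital. Then the k-subalgebra of invariants
of S, the elements s whose coaction is s ⊗ 1, is again ring-isomorphic to a finite product of normal
domains. -/
theorem result (k : Type u) [Field k]
    (H : Type u) [CommRing H] [HopfAlgebra k H] [Algebra.FiniteType k H]
    (S : Type u) [CommRing S] [Algebra k S] [HopfRep.Comod k H S]
    (hmul : ∀ x y : S, HopfRep.Comod.coact (k := k) (A := H) (x * y) =
        HopfRep.Comod.coact (k := k) (A := H) x * HopfRep.Comod.coact (k := k) (A := H) y)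
    (hone : HopfRep.Comod.coact (k := k) (A := H) (1 : S) = 1)
    {ι : Type u} [Fintype ι] (D : ι → Type u) [∀ i, CommRing (D i)] [∀ i, IsDomain (D i)]
    [∀ i, IsIntegrallyClosed (D i)] (e : S ≃+* Π i, D i)
    (A : Subalgebra k S)
    (hA : ∀ a : S, a ∈ A ↔ HopfRep.Comod.coact (k := k) (A := H) a = a ⊗ₜ[k] (1 : H)) :
    ∃ (κ : Type u) (_ : Fintype κ) (E : κ → Type u) (_ : ∀ j, CommRing (E j)) (_ : ∀ j, IsDomain (E j))
      (_ : ∀ j, IsIntegrallyClosed (E j)), Nonempty (A ≃+* Π j, E j) := by
  classical
  let δ : S →ₐ[k] S ⊗[k] H := AlgHom.ofLinearMap (HopfRep.Comod.coact (k := k) (A := H)) hone hmul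
  let j : H →ₐ[k] S ⊗[k] H := Algebra.TensorProduct.includeRight
  let γ : S →ₐ[k] S ⊗[k] H := (Algebra.TensorProduct.map (AlgHom.id k S) (HopfAlgebra.antipodeAlgHom k H)).comp δ
  let Ψ : S ⊗[k] H →ₐ[k] S ⊗[k] H := Algebra.TensorProduct.lift δ j fun _ _ => Commute.all _ _
  let Φ : S ⊗[k] H →ₐ[k] S ⊗[k] H := Algebra.TensorProduct.lift γ j fun _ _ => Commute.all _ _
  have hco : ∀ s : S, TensorProduct.assoc k S H H ((HopfRep.Comod.coact (k := k) (A := H)).rTensor H (δ s)) =
      (Coalgebra.comul (R := k) (A := H)).lTensor S (δ s) := fun s => by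
    have := LinearMap.congr_fun (HopfRep.Comod.coassoc (k := k) (A := H) (V := S)) s
    simpa [δ] using this
  have hcu : ∀ s : S, ((Algebra.linearMap k H) ∘ₗ Coalgebra.counit (R := k) (A := H)).lTensor S (δ s) = s ⊗ₜ[k] (1 : H) := fun s => by
    have := congrArg ((Algebra.linearMap k H).lTensor S) (LinearMap.congr_fun (HopfRep.Comod.counit_comp (k := k) (A := H) (V := S)) s)
    rw [LinearMap.lTensor_comp, LinearMap.comp_apply]
    simpa [δ] using this
  have h1 : ∀ s, Φ (δ s) = s ⊗ₜ[k] (1 : H) := by
    intro s
    let G : S ⊗[k] (H ⊗[k] H) →ₗ[k] S ⊗[k] H := (LinearMap.mul' k H ∘ₗ (HopfAlgebraStruct.antipode k).rTensor H).lTensor S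
    have key : ∀ z : S ⊗[k] H, Φ z = G (TensorProduct.assoc k S H H ((HopfRep.Comod.coact (k := k) (A := H)).rTensor H z)) := by
      intro z
      induction z with
      | zero => simp
      | tmul a b =>
        rw [Algebra.TensorProduct.lift_tmul, LinearMap.rTensor_tmul]
        show (Algebra.TensorProduct.map (AlgHom.id k S) (HopfAlgebra.antipodeAlgHom k H)) (δ a) * j b = _
        rw [show HopfRep.Comod.coact (k := k) (A := H) a = δ a from rfl]
        generalize δ a = y
        induction y with
        | zero => simp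
        | tmul u v => simp [G, j]
        | add y z hy hz => simp only [map_add, add_mul, add_tmul, hy, hz]
      | add y z hy hz => simp only [map_add, hy, hz]
    rw [key, hco, ← hcu s]
    show G ((Coalgebra.comul (R := k) (A := H)).lTensor S (δ s)) = _
    rw [← LinearMap.comp_apply, ← LinearMap.lTensor_comp, LinearMap.comp_assoc, HopfAlgebra.mul_antipode_rTensor_comul]
  have h2 : ∀ z, Ψ (Φ z) = z := by
    have hs : ∀ s, Ψ (γ s) = s ⊗ₜ[k] (1 : H) := by
      intro s
      let G : S ⊗[k] (H ⊗[k] H) →ₗ[k] S ⊗[k] H := (LinearMap.mul' k H ∘ₗ (HopfAlgebraStruct.antipode k).lTensor H).lTensor S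
      have key : ∀ z : S ⊗[k] H, Ψ (Algebra.TensorProduct.map (AlgHom.id k S) (HopfAlgebra.antipodeAlgHom k H) z) =
          G (TensorProduct.assoc k S H H ((HopfRep.Comod.coact (k := k) (A := H)).rTensor H z)) := by
        intro z
        induction z with
        | zero => simp
        | tmul a b =>
          rw [Algebra.TensorProduct.map_tmul, Algebra.TensorProduct.lift_tmul, LinearMap.rTensor_tmul]
          show δ a * j _ = _
          rw [show HopfRep.Comod.coact (k := k) (A := H) a = δ a from rfl]
          generalize δ a = y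
          induction y with
          | zero => simp
          | tmul u v => simp [G, j]
          | add y z hy hz => simp only [map_add, add_mul, add_tmul, hy, hz]
        | add y z hy hz => simp only [map_add, hy, hz]
      show Ψ (Algebra.TensorProduct.map (AlgHom.id k S) (HopfAlgebra.antipodeAlgHom k H) (δ s)) = _
      rw [key, hco, ← hcu s, ← LinearMap.comp_apply, ← LinearMap.lTensor_comp, LinearMap.comp_assoc,
        HopfAlgebra.mul_antipode_lTensor_comul]
    intro z
    induction z with
    | zero => simp
    | tmul a b =>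
      rw [Algebra.TensorProduct.lift_tmul, map_mul, hs, show Ψ (j b) = j b from by simp [Ψ, j]]
      simp [j]
    | add y z hy hz => simp only [map_add, hy, hz]
  have hΦ : Function.Injective Φ := fun a b h => by rw [← h2 a, h, h2 b]
  have hincl : ∀ s ∈ nonZeroDivisors S, s ⊗ₜ[k] (1 : H) ∈ nonZeroDivisors (S ⊗[k] H) := by
    intro s hs
    rw [mem_nonZeroDivisors_iff_right]
    intro z hz
    have hinj : Function.Injective ((LinearMap.mulRight k s).rTensor H) :=
      Module.Flat.rTensor_preserves_injective_linearMap _ fun a b hab => by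
        have : (a - b) * s = 0 := by rw [sub_mul]; exact sub_eq_zero.2 hab
        exact sub_eq_zero.1 ((mem_nonZeroDivisors_iff_right.1 hs) _ this)
    apply hinj
    rw [map_zero, ← hz]
    clear hz
    induction z with
    | zero => simp
    | tmul a b => simp
    | add y z hy hz => simp only [map_add, add_mul, hy, hz]
  have hδ : ∀ s ∈ nonZeroDivisors S, δ s ∈ nonZeroDivisors (S ⊗[k] H) := fun s hs => by
    rw [mem_nonZeroDivisors_iff_right]
    intro z hz
    refine hΦ ?_
    rw [map_zero]
    refine (mem_nonZeroDivisors_iff_right.1 (hincl s hs)) _ ?_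
    rw [← h1, ← map_mul, hz, map_zero]
  let ι₀ : S →+* S ⊗[k] H := Algebra.TensorProduct.includeLeftRingHom
  let F : Set ((Π i, D i) →+* S ⊗[k] H) := {δ.toRingHom.comp e.symm.toRingHom, ι₀.comp e.symm.toRingHom}
  have hnzd : ∀ x ∈ nonZeroDivisors (Π i, D i), e.symm x ∈ nonZeroDivisors S := fun x hx => by
    rw [mem_nonZeroDivisors_iff_right]
    intro z hz
    have : e z * x = 0 := by rw [← e.apply_symm_apply x, ← map_mul, hz, map_zero]
    exact e.injective (((mem_nonZeroDivisors_iff_right.1 hx) _ this).trans (map_zero e).symm)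
  obtain ⟨κ, hκ, E, i1, i2, i3, ⟨f⟩⟩ := S11135.result D (S ⊗[k] H) F
    (by
      rintro f (rfl | rfl) x hx
      · exact hδ _ (hnzd x hx)
      · exact hincl _ (hnzd x hx))
    (A.toSubring.map e.toRingHom) (fun a => by
      constructor
      · rintro ⟨s, hs, rfl⟩ f (rfl | rfl) f' (rfl | rfl) <;>
          simp [ι₀, δ, (hA s).1 hs]
      · intro h
        refine ⟨e.symm a, (hA _).2 (h _ (Or.inl rfl) _ (Or.inr rfl)), e.apply_symm_apply a⟩)
  exact ⟨κ, hκ, E, i1, i2, i3, ⟨(A.toSubring.equivMapOfInjective e.toRingHom e.injective).trans f⟩⟩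

end Groth.Agent.S11141
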