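import Groth.Statements.S11143


set_option autoImplicit false
set_option backward.isDefEq.respectTransparency false
set_option backward.defeqAttrib.useBackward true
universe v v' u u'
open CategoryTheory CategoryTheory.Triangulated Pretriangulated
open CohDer

namespace Groth.Agent.S11143

/-- Let S and T be pretriangulated categories carrying t-structures, F : S ⥤ T a triangulated functor
and G a right adjoint of F. Suppose F is way-out left: for some integer d, F carries objects of S
lying in degrees ≤ 0 to objects of T lying in degrees ≤ d. Then G is way-out right: G carries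
objects of T lying in degrees ≥ 0 to objects of S lying in degrees ≥ -d. -/
theorem result
    {S : Type u} [Category.{v} S] [Limits.HasZeroObject S] [Preadditive S] [HasShift S ℤ]
    [∀ n : ℤ, (shiftFunctor S n).Additive] [Pretriangulated S]
    {T : Type u'} [Category.{v'} T] [Limits.HasZeroObject T] [Preadditive T] [HasShift T ℤ]
    [∀ n : ℤ, (shiftFunctor T n).Additive] [Pretriangulated T]
    (tS : TStructure S) (tT : TStructure T) (F : S ⥤ T) [F.CommShift ℤ] [F.IsTriangulated]
    (G : T ⥤ S) (adj : F ⊣ G) (d : ℤ)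
    (hF : ∀ X : S, tS.IsLE X 0 → tT.IsLE (F.obj X) d) (Y : T) (hY : tT.IsGE Y 0) :
    tS.IsGE (G.obj Y) (-d) := by
  obtain ⟨A, B, hA, hB, f, g, h, hT'⟩ := tS.exists_triangle (G.obj Y) (-d - 1) (-d) (by omega)
  have := TStructure.IsLE.mk (t := tS) hA
  have := TStructure.IsGE.mk (t := tS) hB
  have hf : f = 0 := by
    apply (adj.homEquiv A Y).symm.injective
    have : tT.IsLE (F.obj A) (-1) := by
      have h1 : tS.IsLE (A⟦(-d - 1 : ℤ)⟧) 0 := tS.isLE_shift A (-d - 1) (-d - 1) 0 (by omega)
      have h2 := hF _ h1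
      have : tT.IsLE ((shiftFunctor S (-d - 1 : ℤ) ⋙ F).obj A) d := h2
      have h3 : tT.IsLE ((F.obj A)⟦(-d - 1 : ℤ)⟧) d := tT.isLE_of_iso ((F.commShiftIso (-d - 1 : ℤ)).app A) d
      exact tT.isLE_of_shift (F.obj A) (-1) (-d - 1) d (by omega)
    have := hY
    rw [tT.zero ((adj.homEquiv A Y).symm f) (-1) 0]
    simp [Adjunction.homEquiv_counit]
  have : tS.IsLE (A⟦(1 : ℤ)⟧) (-d - 2) := tS.isLE_shift A (-d - 1) 1 (-d - 2) (by omega)
  have : Epi h := Triangle.epi₃ _ hT' hf
  have : IsSplitEpi h := SplitEpiCategory.isSplitEpi_of_epi h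
  have hz : Limits.IsZero (A⟦(1 : ℤ)⟧) := by
    rw [Limits.IsZero.iff_id_eq_zero, ← IsSplitEpi.id h, tS.zero (section_ h) (-d - 2) (-d), Limits.zero_comp]
  have : IsIso g := (Triangle.isZero₃_iff_isIso₁ _ (rot_of_distTriang _ hT')).1 hz
  exact tS.isGE_of_iso (asIso g).symm _

end Groth.Agent.S11143
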