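import Groth.Statements.S11147
import Mathlib

set_option autoImplicit false
universe u
open FrobAlg

namespace Groth.Agent.S11147

theorem relFrob_apply (p : ℕ) [Fact p.Prime] (k K : Type u) [Field k] [Field K] [Algebra k K] [CharP k p] [CharP K p]
    (b : K) (a : k) : FrobAlg.relFrob p k K (b ⊗ₜ FrobAlg.toTwist p k a) = b ^ p * algebraMap k K a := rfl

open TensorProduct in
theorem bij_of_separable (p : ℕ) [Fact p.Prime] (k K : Type u) [Field k] [Field K] [Algebra k K] [CharP k p] [CharP K p]
    [Module.Finite k K] [Algebra.IsSeparable k K] : Function.Bijective (FrobAlg.relFrob p k K) := by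
  classical
  haveI : Fact (0 < p) := ⟨(Fact.out : p.Prime).pos⟩
  let b := Module.Free.chooseBasis k K
  have hli : LinearIndependent k fun i => b i ^ p := by
    have := b.linearIndependent.map_pow_expChar_pow_of_isSeparable p 1
    simpa only [pow_one] using this
  let b' : Module.Basis _ k K := basisOfLinearIndependentOfCardEqFinrank hli
    (Module.finrank_eq_card_chooseBasisIndex k K).symm
  have hb' : ∀ i, b' i = b i ^ p := fun i => by simp [b']
  let e := TensorProduct.equivFinsuppOfBasisLeft (N := FrobAlg.Twist p k) b
  let g : (Module.Free.ChooseBasisIndex k K →₀ FrobAlg.Twist p k) → (Module.Free.ChooseBasisIndex k K →₀ k) := Finsupp.mapRange (FrobAlg.toTwist p k).symm (map_zero _)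
  have key : ∀ x, FrobAlg.relFrob p k K x = b'.repr.symm (g (e x)) := by
    intro x
    obtain ⟨c, rfl⟩ := e.symm.surjective x
    rw [e.apply_symm_apply]
    induction c using Finsupp.induction_linear with
    | zero => simp [g]
    | add u v hu hv =>
      rw [map_add, map_add, hu, hv, ← map_add, ← Finsupp.mapRange_add (map_add _)]
    | single i a =>
      obtain ⟨a, rfl⟩ := (FrobAlg.toTwist p k).surjective a
      rw [show e.symm (Finsupp.single i (FrobAlg.toTwist p k a)) = b i ⊗ₜ FrobAlg.toTwist p k a by
        simp [e, TensorProduct.equivFinsuppOfBasisLeft_symm_apply]]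
      rw [relFrob_apply, show g (Finsupp.single i (FrobAlg.toTwist p k a)) = Finsupp.single i a from
        Finsupp.mapRange_single, Module.Basis.repr_symm_single, hb', Algebra.smul_def, mul_comm]
  rw [show (FrobAlg.relFrob p k K : _ → K) = b'.repr.symm ∘ g ∘ e from funext key]
  have hg : Function.Bijective g := ⟨Finsupp.mapRange_injective _ (map_zero _) (FrobAlg.toTwist p k).symm.injective,
    Finsupp.mapRange_surjective _ (map_zero _) (FrobAlg.toTwist p k).symm.surjective⟩
  exact b'.repr.symm.bijective.comp (hg.comp e.bijective)


/-- Let p be a prime and k ⊆ K fields of characteristic p such that K is finitely generated over k as a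
field. Then the relative Frobenius ring homomorphism K ⊗_{k,Frob} k → K, b ⊗ a ↦ b^p a (the
Radu–André homomorphism of k → K), is bijective exactly when K is algebraic over k and every element
of K is separable over k. -/
theorem result (p : ℕ) [Fact p.Prime] (k K : Type u) [Field k]
    [Field K] [Algebra k K] [CharP k p] [CharP K p] (hfg : (⊤ : IntermediateField k K).FG) :
    Function.Bijective (FrobAlg.relFrob p k K) ↔ Algebra.IsSeparable k K := by
  haveI : Algebra.EssFiniteType k K := IntermediateField.fg_top_iff.mp hfg
  refine ⟨fun h => ?_, fun h => ?_⟩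
  · haveI : Algebra.FormallyUnramified k K := by
      have hD : ∀ y, KaehlerDifferential.D k K y = 0 := by
        intro y
        obtain ⟨x, rfl⟩ := h.surjective y
        induction x using TensorProduct.induction_on with
        | zero => simp
        | tmul b a =>
          obtain ⟨a, rfl⟩ := (FrobAlg.toTwist p k).surjective a
          rw [relFrob_apply, Derivation.leibniz, Derivation.map_algebraMap, smul_zero, zero_add, Derivation.leibniz_pow,
            ← Nat.cast_smul_eq_nsmul K, CharP.cast_eq_zero, zero_smul, smul_zero]
        | add u v hu hv => simp [map_add, hu, hv]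
      refine ⟨subsingleton_iff.mpr fun a b => ?_⟩
      have : ∀ a : Ω[K⁄k], a = 0 := fun a => by
        have ha : a ∈ Submodule.span K (Set.range (KaehlerDifferential.D k K)) :=
          (KaehlerDifferential.span_range_derivation k K).symm ▸ Submodule.mem_top
        rw [Submodule.span_eq_bot.mpr (by rintro _ ⟨y, rfl⟩; exact hD y)] at ha
        exact ha
      rw [this a, this b]
    exact Algebra.FormallyUnramified.isSeparable k K
  · haveI : Algebra.FormallyUnramified k K := Algebra.FormallyUnramified.of_isSeparable k K
    haveI : Module.Finite k K := Algebra.FormallyUnramified.finite_of_free k K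
    exact bij_of_separable p k K

end Groth.Agent.S11147
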