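import Groth.Statements.S11153
import Groth.Agent.S12537
import Mathlib.Algebra.Homology.DerivedCategory.TStructure

set_option autoImplicit false
universe w v u
open CategoryTheory CategoryTheory.Limits
open CohDer


namespace Groth.Agent.S11153

set_option backward.isDefEq.respectTransparency false
set_option backward.defeqAttrib.useBackward true

/-- (i) ⇔ (iii): let A be an abelian category with enough injectives and K a bounded below cochain
complex of objects of A. Then K admits a quasi-isomorphism into a bounded complex of injective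
objects of A if and only if there is an integer n₀ such that Hom_{D(A)}(Y[0], K[i]) = 0 for every
object Y of A and every i > n₀. -/
theorem result {A : Type u} [Category.{v} A] [Abelian A]
    [HasDerivedCategory.{w} A] [EnoughInjectives A]
    (K : CochainComplex A ℤ) (a : ℤ) [K.IsStrictlyGE a] :
    (∃ (I : CochainComplex A ℤ) (b c : ℤ) (f : K ⟶ I), I.IsStrictlyGE b ∧ I.IsStrictlyLE c ∧
        (∀ n : ℤ, Injective (I.X n)) ∧ QuasiIso f) ↔
      ∃ n₀ : ℤ, ∀ (Y : A) (i : ℤ), n₀ < i →
        ∀ φ : (DerivedCategory.singleFunctor A 0).obj Y ⟶ (DerivedCategory.Q.obj K)⟦i⟧, φ = 0 := by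
  constructor
  · rintro ⟨I, b, c, f, hIb, hIc, hI, hf⟩
    haveI := hf
    exact ⟨c, fun Y i hi φ => S12537.vanishing I hI (fun j hj => hj.elim
      (fun h => CochainComplex.isZero_of_isStrictlyGE I b j h) (fun h => CochainComplex.isZero_of_isStrictlyLE I c j h))
      (asIso (DerivedCategory.Q.map f)).symm Y i (Or.inr hi) φ⟩
  · rintro ⟨n₀, hn₀⟩
    obtain ⟨I, hI, hz, ⟨e⟩⟩ := S12537.exists_complex (X := DerivedCategory.Q.obj K) (a := a) (b := max a n₀)
      (fun F i hi φ => by
        rcases hi with hi | hi
        · haveI : (DerivedCategory.Q.obj K).IsGE a := (DerivedCategory.isGE_Q_obj_iff K a).2 inferInstance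
          haveI := DerivedCategory.TStructure.t.isGE_shift (DerivedCategory.Q.obj K) a i (a - i) (by omega)
          exact DerivedCategory.TStructure.t.zero φ 0 (a - i) (by omega)
        · exact hn₀ F i (lt_of_le_of_lt (le_max_right _ _) hi) φ) (le_max_left _ _)
    haveI : I.IsStrictlyGE a := (I.isStrictlyGE_iff a).2 fun j hj => hz j (Or.inl hj)
    haveI := hI
    haveI : I.IsKInjective := CochainComplex.isKInjective_of_injective I a
    obtain ⟨f, hf⟩ := DerCat.Q_map_surjective (K := K) (L := I) e.inv
    haveI : IsIso (DerivedCategory.Q.map f) := by rw [hf]; infer_instance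
    exact ⟨I, a, max a n₀, f, inferInstance, (I.isStrictlyLE_iff _).2 fun j hj => hz j (Or.inr hj), hI,
      (DerivedCategory.isIso_Q_map_iff_quasiIso _ f).1 inferInstance⟩

end Groth.Agent.S11153
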