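import Groth.Statements.S11154
import Groth.Agent.NoethMod.Point
import Groth.Agent.QCohBase.Qcqs
import Groth.Agent.MatlisDual.Completion

set_option autoImplicit false
universe u
open CategoryTheory CategoryTheory.Limits AlgebraicGeometry
open Coherent

namespace Groth.Agent.S11154

open CategoryTheory CategoryTheory.Limits AlgebraicGeometry Opposite TopologicalSpace IsLocalRing Groth.Agent.QCohBase
open Groth.Agent.SheafHomLib

noncomputable section

variable {X : Scheme.{u}} (x : X) (E : ModuleCat.{u} (X.presheaf.stalk x))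

abbrev J : X.Modules := (Scheme.Modules.pushforward (X.fromSpecStalk x)).obj (tilde E)

lemma le_preimage {W : X.Opens} (hW : x ∈ W) : ⊤ ≤ X.fromSpecStalk x ⁻¹ᵁ W := by
  intro p _
  have h : X.fromSpecStalk x p ∈ Set.range (X.fromSpecStalk x) := ⟨p, rfl⟩
  rw [Scheme.range_fromSpecStalk] at h
  show X.fromSpecStalk x p ∈ W
  exact Specializes.mem_open (show X.fromSpecStalk x p ⤳ x from h) W.2 hW

def ε (W : X.Opens) (hW : x ∈ W) : Γ(J x E, W) →+ E :=
  (tilde.isoTop E).inv.hom.toAddMonoidHom.comp (mres (tilde E) (le_preimage x hW))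

lemma ε_bijective (W : X.Opens) (hW : x ∈ W) : Function.Bijective (ε x E W hW) := by
  have h : Function.Bijective (mres (tilde E) (le_preimage x hW)) := by
    have e : X.fromSpecStalk x ⁻¹ᵁ W = ⊤ := top_le_iff.1 (le_preimage x hW)
    refine ⟨Function.LeftInverse.injective (g := mres (tilde E) (le_of_eq e)) fun s => ?_,
      fun t => ⟨mres (tilde E) (le_of_eq e) t, ?_⟩⟩
    · rw [mres_mres, mres_refl]
    · rw [mres_mres, mres_refl]
  exact ((tilde.isoTop E).toLinearEquiv.symm.bijective).comp h

lemma ε_res {W W' : X.Opens} (h : W' ≤ W) (hW' : x ∈ W') (y : Γ(J x E, W)) :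
    ε x E W' hW' (mres (J x E) h y) = ε x E W (h hW') y :=
  congrArg (tilde.isoTop E).inv.hom
    (mres_mres (tilde E) ((X.fromSpecStalk x).preimage_mono h) (le_preimage x hW') y)

lemma ε_smul (W : X.Opens) (hW : x ∈ W) (a : Γ(X, W)) (y : Γ(J x E, W)) :
    ε x E W hW (a • y) = X.presheaf.germ W x hW a • ε x E W hW y := by
  refine Eq.trans ?_ ((tilde.isoTop E).inv.hom.map_smul _ _)
  refine congrArg (tilde.isoTop E).inv.hom ?_
  refine (mres_smul (tilde E) (le_preimage x hW) ((X.fromSpecStalk x).app W a)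
    (show Γ(tilde E, X.fromSpecStalk x ⁻¹ᵁ W) from y)).trans ?_
  refine Eq.trans ?_ (Scheme.Modules.smul_Spec_def (M := tilde E) (U := ⊤) (X.presheaf.germ W x hW a) _).symm
  congr 1
  rw [Scheme.fromSpecStalk_app hW]
  simp only [CommRingCat.comp_apply]
  rw [← CommRingCat.comp_apply, ← Functor.map_comp]
  rfl

lemma sections_zero (W : X.Opens) (hW : x ∉ W)
    (hE : LocCoh.IsPowerTorsion (maximalIdeal (X.presheaf.stalk x)) E) (y : Γ(J x E, W)) : y = 0 := by
  refine NoethMod.tilde_sections_zero E (X.fromSpecStalk x ⁻¹ᵁ W) (fun p hp m => ?_) y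
  obtain ⟨n, hn⟩ := hE m
  have hne : ¬ maximalIdeal (X.presheaf.stalk x) ≤ p.asIdeal := fun h => hW (by
    have h' : p = closedPoint (X.presheaf.stalk x) :=
      PrimeSpectrum.ext (le_antisymm (le_maximalIdeal p.isPrime.ne_top) h)
    have : X.fromSpecStalk x p ∈ W := hp
    rwa [h', Scheme.fromSpecStalk_closedPoint] at this)
  obtain ⟨t, ht, htp⟩ := SetLike.not_le_iff_exists.1 hne
  exact ⟨t ^ n, fun h => htp (p.isPrime.mem_of_pow_mem _ h), hn _ (Ideal.pow_mem_pow ht n)⟩

end

/-- Let X be a locally Noetherian scheme, x a point of X, and k(x) → E an injective hull of the residue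
field over the local ring O_{X,x}. Then the direct image along Spec O_{X,x} ⟶ X of the sheaf E~ on
Spec O_{X,x} is an injective O_X-module (an injective object of the category of O_X-modules), and it
is quasi-coherent. -/
theorem result {X : Scheme.{u}} [IsLocallyNoetherian X]
    (x : X) (E : Type u) [AddCommGroup E] [Module (X.presheaf.stalk x) E]
    (i : IsLocalRing.ResidueField (X.presheaf.stalk x) →ₗ[X.presheaf.stalk x] E)
    (hi : InjHull.IsInjectiveHull i) :
    Injective ((Scheme.Modules.pushforward (X.fromSpecStalk x)).obj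
        (tilde (ModuleCat.of (X.presheaf.stalk x) E))) ∧
      Coh.IsQCoh ((Scheme.Modules.pushforward (X.fromSpecStalk x)).obj
        (tilde (ModuleCat.of (X.presheaf.stalk x) E))) := by
  let E' := ModuleCat.of (X.presheaf.stalk x) E
  have ht : LocCoh.IsPowerTorsion (IsLocalRing.maximalIdeal (X.presheaf.stalk x)) E :=
    MatlisDual.isPowerTorsion_hull hi
  haveI : Module.Injective (X.presheaf.stalk x) E' := hi.isInjective
  refine ⟨SheafHomLib.injective_of_liftsIdeals _ fun z => ?_, ?_⟩
  · refine ⟨⊤, TopologicalSpace.Opens.mem_top z, NoethMod.liftsIdeals_of_point _ ⊤ x trivial E' (ε x E') (ε_res x E') (ε_smul x E')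
      (fun W _ hW => (ε_bijective x E' W hW).1) (ε_bijective x E' ⊤ trivial).2
      (fun W _ hW y => sections_zero x E' W hW ht y)⟩
  · haveI : IsLocallyNoetherian (Spec (X.presheaf.stalk x)) := inferInstance
    haveI : QuasiCompact (X.fromSpecStalk x) := quasiCompact_of_noetherianSpace_source _
    haveI : QuasiSeparated (X.fromSpecStalk x) := QuasiSeparated.of_quasiSeparatedSpace _
    exact QCohBase.isQuasicoherent_pushforward (tilde E') (X.fromSpecStalk x)

end Groth.Agent.S11154
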