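import Groth.Statements.S11157
import Groth.Agent.NoethMod.Coprod

set_option autoImplicit false
universe u
open CategoryTheory CategoryTheory.Limits AlgebraicGeometry
open Coherent

namespace Groth.Agent.S11157

/-- On a locally Noetherian scheme X, any direct sum of injective O_X-modules (injective objects of the
category of all O_X-modules) is injective. -/
theorem result {X : Scheme.{u}} [IsLocallyNoetherian X]
    {ι : Type u} (I : ι → X.Modules) (hI : ∀ j, Injective (I j)) :
    Injective (∐ I) := by
  refine SheafHomLib.injective_of_liftsIdeals _ fun x => ?_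
  obtain ⟨U, hU, hxU, -⟩ :=
    TopologicalSpace.Opens.isBasis_iff_nbhd.1 X.isBasis_affineOpens (U := ⊤) (TopologicalSpace.Opens.mem_top x)
  refine ⟨U, hxU, NoethMod.liftsIdeals_coprod I hU fun j => SheafHomLib.liftsIdeals_of_injective _ U ?_⟩
  exact @Injective.injective_of_adjoint _ _ _ _ (ModSite.extZero X.sheaf U) (ModSite.restr X.sheaf U)
    (SiteBase.extZero_preservesMonomorphisms X.sheaf U) (ModSite.extZeroAdj X.sheaf U) (I j) (hI j)

end Groth.Agent.S11157
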