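import Groth.Statements.S11158
import Groth.Agent.NoethMod.Coprod
import Groth.Agent.DCohBridge.ExtZero

set_option autoImplicit false
universe u
open CategoryTheory CategoryTheory.Limits AlgebraicGeometry
attribute [local instance] HasDerivedCategory.standard
open Coherent

namespace Groth.Agent.S11158

open CategoryTheory CategoryTheory.Limits AlgebraicGeometry TopologicalSpace Opposite
open Groth.Agent.QCohBase Groth.Agent.NoethMod

noncomputable section

variable {U : Scheme.{u}}

/-- A section of a subobject of the structure module, as a function. -/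
def inO (P : Subobject (Coh.structureModule U)) (V : U.Opens) (s : Γ((P : U.Modules), V)) : Γ(U, V) :=
  P.arrow.app V s

lemma inO_res (P : Subobject (Coh.structureModule U)) {V W : U.Opens} (h : W ≤ V) (s : Γ((P : U.Modules), V)) :
    inO P W (mres (P : U.Modules) h s) = ores h (inO P V s) :=
  (GenLocus.app_mres P.arrow h s).symm

lemma inO_smul (P : Subobject (Coh.structureModule U)) (V : U.Opens) (a : Γ(U, V)) (s : Γ((P : U.Modules), V)) :
    inO P V (a • s) = a * inO P V s :=
  Scheme.Modules.Hom.app_smul P.arrow a s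

lemma inO_ofLE {P Q : Subobject (Coh.structureModule U)} (h : P ≤ Q) (V : U.Opens) (s : Γ((P : U.Modules), V)) :
    inO Q V ((Subobject.ofLE P Q h).app V s) = inO P V s := by
  change ((Subobject.ofLE P Q h) ≫ Q.arrow).app V s = _
  rw [Subobject.ofLE_arrow]
  rfl

/-- Chains of submodules of the structure module of a Noetherian affine scheme stabilise. -/
theorem stable [IsAffine U] [IsLocallyNoetherian U] (d : ℕ →o Subobject (Coh.structureModule U)) :
    ∃ n, ∀ m, n ≤ m → d n = d m := by
  have hU := isAffineOpen_top U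
  haveI := isNoetherianRing_sections hU
  let K : ℕ → PrimeSpectrum Γ(U, ⊤) → Ideal Γ(U, ⊤) := fun n p =>
    { carrier := {a | ∃ (V : U.Opens) (s : Γ((d n : U.Modules), V)), pt hU p ∈ V ∧ inO (d n) V s = ores le_top a}
      zero_mem' := ⟨⊤, 0, trivial, by rw [map_zero]; exact map_zero _⟩
      add_mem' := by
        rintro a b ⟨V, s, hp, hs⟩ ⟨V', s', hp', hs'⟩
        refine ⟨V ⊓ V', mres _ inf_le_left s + mres _ inf_le_right s', ⟨hp, hp'⟩, ?_⟩
        refine (map_add ((d n).arrow.app (V ⊓ V')).hom _ _).trans ?_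
        change inO (d n) _ _ + inO (d n) _ _ = _
        rw [inO_res, inO_res, hs, hs', map_add, ores_ores, ores_ores]
        rfl
      smul_mem' := by
        rintro r a ⟨V, s, hp, hs⟩
        exact ⟨V, ores le_top r • s, hp, by rw [inO_smul, hs, smul_eq_mul, map_mul]⟩ }
  obtain ⟨n, hn⟩ := exists_stable K
    (fun p i j hij a ⟨V, s, hp, hs⟩ =>
      ⟨V, (Subobject.ofLE _ _ (d.monotone hij)).app V s, hp, by rw [inO_ofLE]; exact hs⟩)
    (fun i p q hle a ⟨V, s, hp, hs⟩ => ⟨V, s, pt_mem_of_le hU hle hp, hs⟩)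
    (fun i p a ⟨V, s, hp, hs⟩ => by
      obtain ⟨f, hf, hpf⟩ := hU.exists_basicOpen_le ⟨pt hU p, hp⟩ (pt_mem hU p)
      exact ⟨f, (pt_mem_basicOpen hU p f).1 hpf,
        fun q hq => ⟨V, s, hf ((pt_mem_basicOpen hU q f).2 hq), hs⟩⟩)
  refine ⟨n, fun m hm => ?_⟩
  let φ := Subobject.ofLE (d n) (d m) (d.monotone hm)
  haveI : Epi φ := by
    refine Preadditive.epi_of_cokernel_zero (f := φ) ((DCohBridge.isZero_of_stalk fun x => ?_).eq_of_tgt _ _)
    let F := DerSch.stalkFunctor U x
    suffices Epi (F.map φ) from (isZero_cokernel_of_epi (F.map φ)).of_iso (PreservesCokernel.iso F φ)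
    rw [ModuleCat.epi_iff_surjective]
    intro z
    obtain ⟨W, hxW, s, rfl⟩ := TopCat.Presheaf.exists_germ_eq (C := AddCommGrpCat.{u}) (d m : U.Modules).presheaf z
    obtain ⟨a, f, V, hVW, hVU, hxV, hxf, e⟩ := exists_fraction hU (inO (d m) W s) hxW trivial
    let p := hU.primeIdealOf ⟨x, trivial⟩
    have hp : pt hU p = x := pt_primeIdealOf hU ⟨x, trivial⟩
    have ha : a ∈ K m p := ⟨V, ores le_top f • mres _ hVW s, by rw [hp]; exact hxV, by
      rw [inO_smul, inO_res, mul_comm]; exact e⟩
    rw [hn m hm] at ha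
    obtain ⟨V', s', hxV', hs'⟩ := ha
    rw [hp] at hxV'
    let T := V ⊓ V' ⊓ U.basicOpen f
    have hxT : x ∈ T := ⟨⟨hxV, hxV'⟩, hxf⟩
    have hu : IsUnit (ores (le_top : T ≤ ⊤) f) := by
      rw [← ores_ores (U.basicOpen_le f) (inf_le_right : T ≤ U.basicOpen f)]
      exact (RingedSpace.isUnit_res_basicOpen _ f).map _
    have key : φ.app T (mres _ (inf_le_left.trans inf_le_right : T ≤ V') s') =
        ores (le_top : T ≤ ⊤) f • mres _ ((inf_le_left.trans inf_le_left).trans hVW : T ≤ W) s := by
      refine DCohBridge.app_injective_of_mono (d m).arrow T ?_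
      change inO (d m) T _ = inO (d m) T _
      rw [inO_ofLE, inO_res, hs', inO_smul, inO_res, ores_ores, mul_comm,
        ← ores_ores hVU (inf_le_left.trans inf_le_left : T ≤ V) a, ← e, map_mul, ores_ores, ores_ores]
    refine ⟨(d n : U.Modules).presheaf.germ T x hxT
      ((hu.unit⁻¹ : Γ(U, T)ˣ).1 • mres _ (inf_le_left.trans inf_le_right : T ≤ V') s'), ?_⟩
    refine (DerSch.stalkFunctor_map_germ x φ T hxT _).trans ?_
    rw [Scheme.Modules.Hom.app_smul, key, smul_smul, IsUnit.val_inv_mul, one_smul]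
    exact TopCat.Presheaf.germ_res_apply (C := AddCommGrpCat.{u}) (d m : U.Modules).presheaf _ x hxT s
  haveI : IsIso φ := isIso_of_mono_of_epi φ
  exact le_antisymm (d.monotone hm) (Subobject.le_of_comm (inv φ) (by simp [φ]))

end

/-- Let X be a locally Noetherian scheme and j : U ⟶ X an open immersion from an affine scheme. Then the
O_X-module j_! O_U (extension by zero of the structure sheaf of U) is a Noetherian object: every
increasing sequence of subobjects of j_! O_U in the category of O_X-modules is eventually constant. -/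
theorem result {U X : Scheme.{u}} [IsLocallyNoetherian X]
    [IsAffine U] (j : U ⟶ X) [IsOpenImmersion j]
    (c : ℕ →o Subobject (CxOX.extZeroUnit j)) :
    ∃ n : ℕ, ∀ m : ℕ, n ≤ m → c n = c m := by
  haveI : IsLocallyNoetherian U := isLocallyNoetherian_of_isOpenImmersion j
  let R := Scheme.Modules.restrictFunctor j
  haveI : R.IsRightAdjoint := (CxOX.extZeroAdj j).isRightAdjoint
  let e : R.obj (CxOX.extZeroUnit j) ≅ Coh.structureModule U :=
    (asIso ((CxOX.extZeroAdj j).unit.app (Coh.structureModule U))).symm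
  let d : ℕ →o Subobject (Coh.structureModule U) :=
    ⟨fun n => Subobject.mk (R.map (c n).arrow ≫ e.hom), fun n m h =>
      Subobject.mk_le_mk_of_comm (R.map (Subobject.ofLE _ _ (c.monotone h)))
        (by rw [← Category.assoc, ← Functor.map_comp, Subobject.ofLE_arrow])⟩
  obtain ⟨n, hn⟩ := stable d
  refine ⟨n, fun m hm => ?_⟩
  let φ := Subobject.ofLE (c n) (c m) (c.monotone hm)
  have hd : Subobject.mk (R.map (c m).arrow ≫ e.hom) ≤ Subobject.mk (R.map (c n).arrow ≫ e.hom) :=
    (hn m hm).symm.le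
  let g := Subobject.ofMkLEMk _ _ hd
  have hg : g ≫ R.map (c n).arrow ≫ e.hom = R.map (c m).arrow ≫ e.hom := Subobject.ofMkLEMk_comp hd
  have h1 : g ≫ R.map φ = 𝟙 _ := by
    rw [← cancel_mono (R.map (c m).arrow ≫ e.hom), Category.assoc, ← Category.assoc (R.map φ), ← Functor.map_comp,
      Subobject.ofLE_arrow, hg, Category.id_comp]
  haveI : Epi (R.map φ) := (SplitEpi.mk g h1).epi
  haveI : Epi φ := by
    refine Preadditive.epi_of_cokernel_zero (f := φ) ((DCohBridge.isZero_of_support j
      (DCohBridge.suppIn_of_epi j (cokernel.π φ)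
        (DCohBridge.suppIn_of_mono j (c m).arrow (DCohBridge.suppIn_extZero j _))) ?_).eq_of_tgt _ _)
    exact (isZero_cokernel_of_epi (R.map φ)).of_iso (PreservesCokernel.iso R φ)
  haveI : IsIso φ := isIso_of_mono_of_epi φ
  exact le_antisymm (c.monotone hm) (Subobject.le_of_comm (inv φ) (by simp [φ]))

end Groth.Agent.S11158
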