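import Groth.Statements.S11159
import Groth.Agent.S12537
import Mathlib.Algebra.Homology.DerivedCategory.TStructure

set_option autoImplicit false
universe w v u
open CategoryTheory CategoryTheory.Limits CategoryTheory.Pretriangulated
open CohDer


namespace Groth.Agent.S11159

set_option backward.isDefEq.respectTransparency false
set_option backward.defeqAttrib.useBackward true

/-- Let A be an abelian category with enough injectives and X ⟶ Y ⟶ Z ⟶ X⟦1⟧ a distinguished triangle in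
D(A). If X and Z are each isomorphic in D(A) to a bounded complex of injective objects of A, then so
is Y. -/
theorem result {A : Type u} [Category.{v} A] [Abelian A]
    [HasDerivedCategory.{w} A] [EnoughInjectives A]
    (T : Triangle (DerivedCategory A)) (hT : T ∈ distTriang (DerivedCategory A))
    (h₁ : (∃ (I : CochainComplex A ℤ) (b c : ℤ), I.IsStrictlyGE b ∧ I.IsStrictlyLE c ∧
        (∀ n : ℤ, Injective (I.X n)) ∧ Nonempty (T.obj₁ ≅ DerivedCategory.Q.obj I)))
    (h₃ : (∃ (I : CochainComplex A ℤ) (b c : ℤ), I.IsStrictlyGE b ∧ I.IsStrictlyLE c ∧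
        (∀ n : ℤ, Injective (I.X n)) ∧ Nonempty (T.obj₃ ≅ DerivedCategory.Q.obj I))) :
    (∃ (I : CochainComplex A ℤ) (b c : ℤ), I.IsStrictlyGE b ∧ I.IsStrictlyLE c ∧
        (∀ n : ℤ, Injective (I.X n)) ∧ Nonempty (T.obj₂ ≅ DerivedCategory.Q.obj I)) := by
  obtain ⟨I₁, b₁, c₁, hb₁, hc₁, hI₁, ⟨e₁⟩⟩ := h₁
  obtain ⟨I₃, b₃, c₃, hb₃, hc₃, hI₃, ⟨e₃⟩⟩ := h₃
  have v₁ := S12537.vanishing I₁ hI₁ (fun j hj => hj.elim (fun h => CochainComplex.isZero_of_isStrictlyGE I₁ b₁ j h)
    (fun h => CochainComplex.isZero_of_isStrictlyLE I₁ c₁ j h)) e₁.symm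
  have v₃ := S12537.vanishing I₃ hI₃ (fun j hj => hj.elim (fun h => CochainComplex.isZero_of_isStrictlyGE I₃ b₃ j h)
    (fun h => CochainComplex.isZero_of_isStrictlyLE I₃ c₃ j h)) e₃.symm
  obtain ⟨I, hI, hz, ⟨e⟩⟩ := S12537.exists_complex (X := T.obj₂) (a := min b₁ b₃) (b := max (min b₁ b₃) (max c₁ c₃))
    (fun F i hi φ => by
      obtain ⟨ψ, hψ⟩ := Triangle.coyoneda_exact₂ _ (Triangle.shift_distinguished T hT i) φ
        (v₃ F i (by omega) _)
      rw [hψ, v₁ F i (by omega) ψ]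
      exact zero_comp) (le_max_left _ _)
  exact ⟨I, _, _, (I.isStrictlyGE_iff _).2 fun j hj => hz j (Or.inl hj), (I.isStrictlyLE_iff _).2 fun j hj => hz j (Or.inr hj),
    hI, ⟨e.symm⟩⟩

end Groth.Agent.S11159
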