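import Groth.Statements.S11161
import Mathlib
import Groth.Agent.DerCatFF.EssImage

set_option autoImplicit false
universe w w' v v' u u'
open CategoryTheory CategoryTheory.Limits
open CohDer

open ZeroObject
namespace Groth.Agent.S11161

set_option backward.isDefEq.respectTransparency false
set_option backward.defeqAttrib.useBackward true

/-- Let ι : A' ⥤ A be an exact fully faithful functor of abelian categories whose essential image is
closed under extensions, and suppose every object of A' admits a monomorphism into an object of A'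
whose image in A is injective. Then every object Z of D(A) with H^i(Z) = 0 for i < a and all
cohomology objects in the essential image of ι is isomorphic to the image under D(A') ⥤ D(A) of a
complex I of objects of A', zero in degrees < a, whose terms are injective in A. -/
theorem result {A' : Type u'} [Category.{v'} A'] [Abelian A'] [HasDerivedCategory.{w'} A']
    {A : Type u} [Category.{v} A] [Abelian A] [HasDerivedCategory.{w} A]
    (ι : A' ⥤ A) [ι.Additive] [PreservesFiniteLimits ι] [PreservesFiniteColimits ι] [ι.Full] [ι.Faithful]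
    (hext : ∀ S : ShortComplex A, S.ShortExact → ι.essImage S.X₁ → ι.essImage S.X₃ → ι.essImage S.X₂)
    (hinj : ∀ X' : A', ∃ (Y' : A') (i : X' ⟶ Y'), Mono i ∧ Injective (ι.obj Y'))
    (Z : DerivedCategory A) (a : ℤ) [Z.IsGE a]
    (hZ : ∀ i : ℤ, ι.essImage ((DerivedCategory.homologyFunctor A i).obj Z)) :
    ∃ (I : CochainComplex A' ℤ), I.IsStrictlyGE a ∧ (∀ n : ℤ, Injective (ι.obj (I.X n))) ∧
      Nonempty (ι.mapDerivedCategory.obj (DerivedCategory.Q.obj I) ≅ Z) := by
  obtain ⟨K, hK, ⟨e⟩⟩ := Z.exists_iso_Q_obj_of_isGE a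
  obtain ⟨Z', hZ'⟩ : ∃ Z' : A', Limits.IsZero Z' := ⟨_, Limits.isZero_zero A'⟩
  obtain ⟨I, α, hI, hinjI, hα⟩ := DerCatFF.EssImage.exists_resolution ι (fun Y => Injective (ι.obj Y)) K hext (fun P W k hk hW => by
    obtain ⟨W', ⟨eW⟩⟩ := hW
    obtain ⟨Y, j, hj, hY⟩ := hinj W'
    exact ⟨Y, Injective.factorThru (eW.inv ≫ ι.map j) k, hY, by rw [Injective.comp_factorThru]; infer_instance⟩) (fun i =>
    Functor.essImage.ofIso (((DerivedCategory.homologyFunctor A i).mapIso e ≪≫
      (DerivedCategory.homologyFunctorFactors A i).app K)) (hZ i)) a hZ' (ι.map_isZero hZ').injective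
  haveI := hα
  exact ⟨I, hI, hinjI, ⟨ι.mapDerivedCategoryFactors.app I ≪≫ (asIso (DerivedCategory.Q.map α)).symm ≪≫ e.symm⟩⟩

end Groth.Agent.S11161
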