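import Groth.Statements.S11167
import Groth.Agent.QCohBase.Finite
import Groth.Agent.AssPts.Basic

set_option backward.isDefEq.respectTransparency.types false
set_option linter.style.haveILetI false

set_option autoImplicit false
universe u
open CategoryTheory CategoryTheory.Limits AlgebraicGeometry
open Coherent

namespace Groth.Agent.S11167

open AlgebraicGeometry CategoryTheory TopologicalSpace Opposite Groth.Agent.QCohBase

variable {X : Scheme.{u}} {G : X.Modules} (ι : G ⟶ Coh.structureModule X)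

/-- The function underlying a section of the subsheaf. -/
noncomputable def val {V : X.Opens} (t : Γ(G, V)) : Γ(X, V) := ι.app V t

set_option maxHeartbeats 1600000 in
lemma key [Mono ι] {y : X} {V : X.Opens} (hy : y ∈ V) (t : Γ(G, V)) {J : Type u} [Fintype J] (U : J → X.Opens)
    (hU : ∀ j, y ∈ U j) (s : ∀ j, Γ(G, U j))
    (h : X.presheaf.germ V y hy (val ι t) ∈ Ideal.span (Set.range fun j => X.presheaf.germ (U j) y (hU j) (val ι (s j)))) :
    G.presheaf.germ V y hy t ∈ Submodule.span (X.presheaf.stalk y)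
      (Set.range fun j => G.presheaf.germ (U j) y (hU j) (s j)) := by
  classical
  obtain ⟨c, hc⟩ := (Submodule.mem_span_range_iff_exists_fun (X.presheaf.stalk y)).1 h
  choose W hW r hr using fun j => TopCat.Presheaf.exists_germ_eq (C := CommRingCat.{u}) X.presheaf (c j)
  obtain ⟨O, hO, hOV, hOU, hOW⟩ : ∃ O : X.Opens, y ∈ O ∧ O ≤ V ∧ (∀ j, O ≤ U j) ∧ ∀ j, O ≤ W j :=
    ⟨V ⊓ Finset.univ.inf U ⊓ Finset.univ.inf W,
      ⟨⟨hy, by simpa [← SetLike.mem_coe, Opens.coe_finset_inf] using hU⟩,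
        by simpa [← SetLike.mem_coe, Opens.coe_finset_inf] using hW⟩,
      inf_le_left.trans inf_le_left,
      fun j => inf_le_left.trans (inf_le_right.trans (Finset.inf_le (Finset.mem_univ j))),
      fun j => inf_le_right.trans (Finset.inf_le (Finset.mem_univ j))⟩
  let t' : Γ(G, O) := mres G hOV t - ∑ j, ores (hOW j) (r j) • mres G (hOU j) (s j)
  have hval : ∀ {A B : X.Opens} (h : B ≤ A) (a : Γ(G, A)), val ι (mres G h a) = ores h (val ι a) :=
    fun h a => ConcreteCategory.congr_hom (ι.mapPresheaf.naturality (homOfLE h).op) a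
  have hres : ∀ {A : X.Opens} (h : O ≤ A) (hyA : y ∈ A) (a : Γ(X, A)),
      X.presheaf.germ O y hO (ores h a) = X.presheaf.germ A y hyA a :=
    fun h hyA a => X.presheaf.germ_res_apply (homOfLE h) y hO a
  have hzero : X.presheaf.germ O y hO (val ι t') = 0 := by
    have e : val ι t' = ores hOV (val ι t) - ∑ j, ores (hOW j) (r j) * ores (hOU j) (val ι (s j)) := by
      refine (map_sub (ι.app O).hom _ _).trans ?_
      refine congrArg₂ (fun a b : Γ(X, O) => a - b) (hval hOV t) ?_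
      refine (map_sum (ι.app O).hom _ _).trans (Finset.sum_congr rfl fun j _ => ?_)
      refine (Scheme.Modules.Hom.app_smul ι _ _).trans ?_
      exact congrArg (fun z : Γ(X, O) => ores (hOW j) (r j) * z) (hval (hOU j) (s j))
    rw [e, map_sub, map_sum, hres hOV hy, sub_eq_zero, ← hc]
    refine Finset.sum_congr rfl fun j _ => ?_
    rw [map_mul, hres (hOW j) (hW j), hres (hOU j) (hU j), hr j]
    rfl
  obtain ⟨O', hyO', i₁, i₂, heq⟩ := TopCat.Presheaf.germ_eq (C := CommRingCat.{u}) X.presheaf y hO hO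
    (val ι t') 0 (hzero.trans (map_zero _).symm)
  have h0 : mres G i₁.le t' = 0 := app_injective_of_mono ι O' (by
    refine (hval i₁.le t').trans ?_
    refine heq.trans ?_
    rw [map_zero]
    exact (map_zero (ι.app O').hom).symm)
  have hgerm : G.presheaf.germ O y hO t' = 0 := by
    refine (G.presheaf.germ_res_apply i₁ y hyO' t').symm.trans ?_
    exact (congrArg (G.presheaf.germ O' y hyO') h0).trans (map_zero _)
  rw [map_sub, map_sum, sub_eq_zero] at hgerm
  have hgt : G.presheaf.germ O y hO (mres G hOV t) = G.presheaf.germ V y hy t :=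
    G.presheaf.germ_res_apply (homOfLE hOV) y hO t
  rw [← hgt, hgerm]
  refine Submodule.sum_mem _ fun j _ => ?_
  rw [AssPts.germ_smul' G y hO]
  refine Submodule.smul_mem _ _ (Submodule.subset_span ⟨j, ?_⟩)
  exact (G.presheaf.germ_res_apply (homOfLE (hOU j)) y hO (s j)).symm

/-- A finite family generating the stalks on a set. -/
def Gen (G : X.Modules) (L : Finset (Σ U : X.Opens, Γ(G, U))) (y : X) : Prop :=
  ∀ z : G.presheaf.stalk y, z ∈ Submodule.span (X.presheaf.stalk y)
    (Set.range fun p : {p : Σ U : X.Opens, Γ(G, U) // p ∈ L ∧ y ∈ p.1} => G.presheaf.germ p.1.1 y p.2.2 p.1.2)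

set_option maxHeartbeats 1600000 in
lemma Gen.mono {L L' : Finset (Σ U : X.Opens, Γ(G, U))} (h : L ⊆ L') {y : X} (hL : Gen G L y) : Gen G L' y := by
  intro z
  refine Submodule.span_mono ?_ (hL z)
  rintro _ ⟨⟨q, hq, hy⟩, rfl⟩
  exact ⟨⟨q, h hq, hy⟩, rfl⟩

set_option maxHeartbeats 1600000 in
theorem exists_gen_irreducible [Mono ι] [IsNoetherian X] (η : X) :
    ∃ (L : Finset (Σ U : X.Opens, Γ(G, U))) (W : X.Opens), η ∈ W ∧ ∀ y ∈ W, η ⤳ y → Gen G L y := by
  classical
  let S : Set (X.presheaf.stalk η) := {a | ∃ (V : X.Opens) (h : η ∈ V) (t : Γ(G, V)), X.presheaf.germ V η h (val ι t) = a}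
  obtain ⟨T, hTS, hT⟩ := Submodule.fg_span_iff_fg_span_finset_subset S |>.1 (IsNoetherian.noetherian (Submodule.span (X.presheaf.stalk η) S))
  choose V hV t ht using fun a : T => hTS a.2
  obtain ⟨U, hU, hηU, hUV⟩ := Opens.isBasis_iff_nbhd.1 X.isBasis_affineOpens
    (U := Finset.univ.inf V) (x := η) (by simpa [← SetLike.mem_coe, Opens.coe_finset_inf] using fun a => hV a)
  have hUV' : ∀ a, U ≤ V a := fun a => hUV.trans (Finset.inf_le (Finset.mem_univ a))
  let b : T → Γ(X, U) := fun a => val ι (mres G (hUV' a) (t a))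
  have hb : ∀ a : T, X.presheaf.germ U η hηU (b a) = a.1 := fun a => by
    rw [← ht a]
    refine (congrArg (X.presheaf.germ U η hηU) (ConcreteCategory.congr_hom (ι.mapPresheaf.naturality (homOfLE (hUV' a)).op) (t a))).trans ?_
    exact X.presheaf.germ_res_apply (homOfLE (hUV' a)) η hηU (val ι (t a))
  letI := TopCat.Presheaf.algebra_section_stalk X.presheaf (⟨η, hηU⟩ : U)
  haveI : IsLocalization.AtPrime (X.presheaf.stalk η) (hU.primeIdealOf ⟨η, hηU⟩).asIdeal := hU.isLocalization_stalk ⟨η, hηU⟩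
  haveI : IsNoetherianRing Γ(X, U) := IsLocallyNoetherian.component_noetherian ⟨U, hU⟩
  let J : Ideal Γ(X, U) := Ideal.span (Set.range b)
  let p := (hU.primeIdealOf ⟨η, hηU⟩).asIdeal
  let J' : Ideal Γ(X, U) := Ideal.comap (X.presheaf.germ U η hηU).hom (J.map (X.presheaf.germ U η hηU).hom)
  obtain ⟨R, hR⟩ := IsNoetherian.noetherian J'
  have hclear : ∀ r : R, ∃ f : Γ(X, U), f ∉ p ∧ f * r.1 ∈ J := by
    intro r
    have hr : algebraMap Γ(X, U) (X.presheaf.stalk η) r.1 ∈ J.map (algebraMap Γ(X, U) (X.presheaf.stalk η)) := by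
      have : r.1 ∈ J' := hR ▸ Submodule.subset_span r.2
      exact this
    obtain ⟨s, hs, hsJ⟩ := (IsLocalization.algebraMap_mem_map_algebraMap_iff p.primeCompl (X.presheaf.stalk η) J r.1).1 hr
    exact ⟨s, hs, hsJ⟩
  choose f hf hfJ using hclear
  let F : Γ(X, U) := ∏ r : R, f r
  have hF : F ∉ p := fun h => by
    obtain ⟨r, -, hr⟩ := (hU.primeIdealOf ⟨η, hηU⟩).2.prod_mem_iff.1 h
    exact hf r hr
  refine ⟨Finset.univ.image fun a : T => ⟨U, mres G (hUV' a) (t a)⟩, X.basicOpen F,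
    (mem_basicOpen_iff_notMem_prime hU η hηU F).2 hF, fun y hyW hηy z => ?_⟩
  have hyU : y ∈ U := X.basicOpen_le F hyW
  obtain ⟨V₀, hyV₀, t₀, rfl⟩ := TopCat.Presheaf.exists_germ_eq (C := AddCommGrpCat.{u}) G.presheaf z
  refine Submodule.span_mono (Set.range_subset_iff.2 fun a : T => Set.mem_range.2
    ⟨⟨_, Finset.mem_image.2 ⟨a, Finset.mem_univ _, rfl⟩, hyU⟩, rfl⟩) (key ι hyV₀ t₀ (fun _ : T => U) (fun _ => hyU)
      (fun a => mres G (hUV' a) (t a)) ?_)
  letI := TopCat.Presheaf.algebra_section_stalk X.presheaf (⟨y, hyU⟩ : U)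
  haveI : IsLocalization.AtPrime (X.presheaf.stalk y) (hU.primeIdealOf ⟨y, hyU⟩).asIdeal := hU.isLocalization_stalk ⟨y, hyU⟩
  let α := X.presheaf.germ V₀ y hyV₀ (val ι t₀)
  show α ∈ Ideal.span (Set.range fun a : T => X.presheaf.germ U y hyU (b a))
  obtain ⟨⟨r, d⟩, hrd⟩ := IsLocalization.surj (hU.primeIdealOf ⟨y, hyU⟩).asIdeal.primeCompl α
  have hrd' : α * X.presheaf.germ U y hyU d.1 = X.presheaf.germ U y hyU r := hrd
  have hrJ' : r ∈ J' := by
    show X.presheaf.germ U η hηU r ∈ J.map (X.presheaf.germ U η hηU).hom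
    have h := congrArg (X.presheaf.stalkSpecializes hηy) hrd'
    have hη : X.presheaf.germ U η hηU r = X.presheaf.germ V₀ η (hηy.mem_open V₀.2 hyV₀) (val ι t₀) *
        X.presheaf.germ U η hηU d.1 := by
      refine Eq.trans ?_ ((h.symm.trans (map_mul (X.presheaf.stalkSpecializes hηy).hom _ _)).trans ?_)
      · exact (X.presheaf.germ_stalkSpecializes_apply hyU hηy r).symm
      · exact congrArg₂ (· * ·) (X.presheaf.germ_stalkSpecializes_apply hyV₀ hηy (val ι t₀))
          (X.presheaf.germ_stalkSpecializes_apply hyU hηy d.1)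
    rw [hη]
    refine Ideal.mul_mem_right _ _ ?_
    rw [Ideal.map_span, ← Set.range_comp]
    have hα : X.presheaf.germ V₀ η (hηy.mem_open V₀.2 hyV₀) (val ι t₀) ∈ Submodule.span (X.presheaf.stalk η) (T : Set (X.presheaf.stalk η)) := by
      rw [← hT]; exact Submodule.subset_span ⟨_, _, t₀, rfl⟩
    refine Submodule.span_mono (fun a ha => ?_) hα
    exact ⟨⟨a, ha⟩, hb ⟨a, ha⟩⟩
  have hFr : F * r ∈ J := by
    suffices hgen : ∀ r' ∈ Submodule.span Γ(X, U) (R : Set Γ(X, U)), F * r' ∈ J by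
      exact hgen r (hR.symm ▸ hrJ')
    intro r' hr'
    induction hr' using Submodule.span_induction with
    | mem v hv =>
      obtain ⟨g, hg⟩ : f ⟨v, hv⟩ ∣ F := Finset.dvd_prod_of_mem f (Finset.mem_univ _)
      rw [hg, mul_comm (f ⟨v, hv⟩), mul_assoc]
      exact J.mul_mem_left _ (hfJ ⟨v, hv⟩)
    | zero => rw [mul_zero]; exact zero_mem _
    | add a c _ _ ha hc => rw [mul_add]; exact add_mem ha hc
    | smul c a _ ha => rw [smul_eq_mul, mul_left_comm]; exact J.mul_mem_left _ ha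
  have huF : IsUnit (X.presheaf.germ U y hyU F) := (Scheme.mem_basicOpen X F y hyU).1 hyW
  have hud : IsUnit (X.presheaf.germ U y hyU d.1) := IsLocalization.map_units (X.presheaf.stalk y) d
  have hm : X.presheaf.germ U y hyU (F * r) ∈ Ideal.span (Set.range fun a : T => X.presheaf.germ U y hyU (b a)) := by
    have := Ideal.mem_map_of_mem (X.presheaf.germ U y hyU).hom hFr
    rwa [Ideal.map_span, ← Set.range_comp] at this
  rw [map_mul, ← hrd', Ideal.unit_mul_mem_iff_mem _ huF, Ideal.mul_unit_mem_iff_mem _ hud] at hm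
  exact hm

theorem exists_gen [Mono ι] [IsNoetherian X] (Y : Closeds X) :
    ∃ L : Finset (Σ U : X.Opens, Γ(G, U)), ∀ y ∈ Y, Gen G L y := by
  classical
  refine WellFoundedLT.induction (motive := fun Y : Closeds X => ∃ L : Finset (Σ U : X.Opens, Γ(G, U)), ∀ y ∈ Y, Gen G L y) Y
    fun Y ih => ?_
  rcases (Y : Set X).eq_empty_or_nonempty with he | hne
  · exact ⟨∅, fun y hy => absurd (show y ∈ (Y : Set X) from hy) (by rw [he]; simp)⟩
  by_cases hirr : IsIrreducible (Y : Set X)
  · obtain ⟨η, hη⟩ := QuasiSober.sober hirr Y.2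
    obtain ⟨L, W, hηW, hW⟩ := exists_gen_irreducible (G := G) ι η
    let Y' : Closeds X := ⟨(Y : Set X) ∩ (W : Set X)ᶜ, Y.2.inter W.2.isClosed_compl⟩
    have hlt : Y' < Y := lt_of_le_of_ne (fun y hy => hy.1) fun e => by
      have : η ∈ (Y' : Set X) := e ▸ hη.mem
      exact this.2 hηW
    obtain ⟨L', hL'⟩ := ih Y' hlt
    refine ⟨L ∪ L', fun y hy => ?_⟩
    by_cases hyW : y ∈ W
    · exact (hW y hyW (hη.specializes hy)).mono Finset.subset_union_left
    · exact (hL' y ⟨hy, hyW⟩).mono Finset.subset_union_right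
  · have : ¬ IsPreirreducible (Y : Set X) := fun h => hirr ⟨hne, h⟩
    rw [isPreirreducible_iff_isClosed_union_isClosed] at this
    push Not at this
    obtain ⟨A, B, hA, hB, hAB, hnA, hnB⟩ := this
    have hlt : ∀ {C : Set X} (hC : IsClosed C), ¬ (Y : Set X) ⊆ C → (⟨(Y : Set X) ∩ C, Y.2.inter hC⟩ : Closeds X) < Y :=
      fun {C} hC hn => lt_of_le_of_ne (fun y hy => hy.1) fun e => hn fun y hy => by
        have : y ∈ ((⟨(Y : Set X) ∩ C, Y.2.inter hC⟩ : Closeds X) : Set X) := e.symm ▸ hy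
        exact this.2
    obtain ⟨L₁, h₁⟩ := ih _ (hlt hA hnA)
    obtain ⟨L₂, h₂⟩ := ih _ (hlt hB hnB)
    refine ⟨L₁ ∪ L₂, fun y hy => ?_⟩
    rcases hAB hy with h | h
    · exact (h₁ y ⟨hy, h⟩).mono Finset.subset_union_left
    · exact (h₂ y ⟨hy, h⟩).mono Finset.subset_union_right


/-- Let X be a Noetherian scheme and G ⟶ O_X a sub-O_X-module of the structure sheaf (a sheaf of ideals,
not necessarily quasi-coherent). Then there are finitely many opens U_i of X and finitely many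
sections s_{ij} ∈ G(U_i) such that for every point x of X the germs at x of those s_{ij} with x ∈
U_i generate the stalk G_x as an O_{X,x}-module. -/
theorem result {X : Scheme.{u}} [IsNoetherian X]
    (G : X.Modules) (ι : G ⟶ Coh.structureModule X) [Mono ι] :
    ∃ (m : ℕ) (U : Fin m → X.Opens) (k : Fin m → ℕ)
      (s : (i : Fin m) → Fin (k i) → (G.presheaf.obj (Opposite.op (U i)) : Type u)),
      ∀ x : X, Submodule.span (X.presheaf.stalk x)
          (Set.range (fun p : (Σ i : {i : Fin m // x ∈ U i}, Fin (k i.1)) =>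
            (G.presheaf.germ (U p.1.1) x p.1.2) (s p.1.1 p.2))) = ⊤ := by
  classical
  obtain ⟨L, hL⟩ := exists_gen (G := G) ι ⊤
  let e := L.equivFin
  refine ⟨L.card, fun i => (e.symm i).1.1, fun _ => 1, fun i _ => (e.symm i).1.2, fun x => eq_top_iff.2 fun z _ => ?_⟩
  refine Submodule.span_mono (Set.range_subset_iff.2 ?_) (hL x trivial z)
  rintro ⟨⟨U, t⟩, hp, hx⟩
  obtain ⟨i, hi⟩ : ∃ i, (e.symm i).1 = Sigma.mk (β := fun W : X.Opens => Γ(G, W)) U t := ⟨e ⟨_, hp⟩, by rw [e.symm_apply_apply]⟩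
  have hgi : ∀ q : Σ U : X.Opens, Γ(G, U), q = (Sigma.mk (β := fun W : X.Opens => Γ(G, W)) U t) → ∀ h : x ∈ q.1,
      G.presheaf.germ q.1 x h q.2 = G.presheaf.germ U x hx t := by rintro q rfl h; rfl
  exact Set.mem_range.2 ⟨⟨⟨i, by show x ∈ (e.symm i).1.1; rw [hi]; exact hx⟩, 0⟩, hgi _ hi _⟩

end Groth.Agent.S11167
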