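import Groth.Statements.S11168
import Groth.Agent.DerCat.SESResolution

set_option autoImplicit false
universe v u
open CategoryTheory CategoryTheory.Limits
open CohDer


namespace Groth.Agent.S11168

set_option backward.isDefEq.respectTransparency false
set_option backward.defeqAttrib.useBackward true

noncomputable section

open CategoryTheory.Limits HomologicalComplex

variable {A : Type u} [Category.{v} A] [Abelian A]

/-- The sum of disks on a family of objects. -/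
def Dk (Y : ℤ → A) : CochainComplex A ℤ :=
  CochainComplex.of (fun k => Y k ⊞ Y (k + 1)) (fun _ => biprod.snd ≫ biprod.inl) (fun _ => by simp)

lemma Dk_d (Y : ℤ → A) (k : ℤ) : (Dk Y).d k (k + 1) = biprod.snd ≫ biprod.inl :=
  CochainComplex.of_d (fun k => Y k ⊞ Y (k + 1)) (fun _ => biprod.snd ≫ biprod.inl) k

lemma acyclic_Dk (Y : ℤ → A) : (Dk Y).Acyclic := fun m => by
  obtain ⟨k, rfl⟩ : ∃ k, k + 1 = m := ⟨m - 1, by omega⟩
  rw [exactAt_iff' _ k (k + 1) (k + 1 + 1) (by simp) (by simp), ShortComplex.exact_iff_exact_up_to_refinements]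
  intro T x hx
  change x ≫ (Dk Y).d (k + 1) (k + 1 + 1) = 0 at hx
  rw [Dk_d, ← Category.assoc] at hx
  have h2 : x ≫ biprod.snd = 0 := (cancel_mono biprod.inl).1 (hx.trans zero_comp.symm)
  refine ⟨T, 𝟙 T, inferInstance, x ≫ biprod.fst ≫ biprod.inr, ?_⟩
  change 𝟙 T ≫ x = (x ≫ biprod.fst ≫ biprod.inr) ≫ (Dk Y).d k (k + 1)
  rw [Dk_d, Category.id_comp, Category.assoc, Category.assoc, biprod.inr_snd_assoc]
  apply biprod.hom_ext
  · simp
  · simp [h2]

variable (P : ObjectProperty A) (h1 : ∀ X : A, ∃ (Y : A) (i : X ⟶ Y), P Y ∧ Mono i)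
  (h2 : ∀ S : ShortComplex A, S.ShortExact → P S.X₁ → (P S.X₂ ↔ P S.X₃))

include h2

lemma split_iff {X Y Z : A} (i : X ⟶ Y) (p : Y ⟶ Z) (r : Y ⟶ X) (s : Z ⟶ Y) (hi : i ≫ r = 𝟙 X) (hp : s ≫ p = 𝟙 Z)
    (hz : i ≫ p = 0) (ht : r ≫ i + p ≫ s = 𝟙 Y) (hX : P X) : P Y ↔ P Z :=
  h2 (ShortComplex.mk i p hz) (ShortComplex.Splitting.shortExact ⟨r, s, hi, hp, ht⟩) hX

lemma P_iso {X Y : A} (e : X ≅ Y) (hX : P X) : P Y := by
  have h := h2 (ShortComplex.mk (0 : X ⟶ X) (𝟙 X) zero_comp)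
  have h0 : P (cokernel (𝟙 X)) := (split_iff P h2 (𝟙 X) (cokernel.π (𝟙 X)) (𝟙 X) 0 (Category.id_comp _)
    ((isZero_cokernel_of_epi (𝟙 X)).eq_of_src _ _) (cokernel.condition _) (by simp) hX).1 hX
  exact (split_iff P h2 e.hom (0 : Y ⟶ cokernel (𝟙 X)) e.inv 0 e.hom_inv_id
    ((isZero_cokernel_of_epi (𝟙 X)).eq_of_src _ _) comp_zero (by simp) hX).2 h0

lemma P_biprod {X Y : A} (hX : P X) (hY : P Y) : P (X ⊞ Y) :=
  (split_iff P h2 biprod.inl biprod.snd biprod.fst biprod.inr biprod.inl_fst biprod.inr_snd biprod.inl_snd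
    biprod.total hX).2 hY

include h1 in
lemma exists_embed (X : CochainComplex A ℤ) : ∃ (E : CochainComplex A ℤ) (ι : X ⟶ E), Mono ι ∧ ∀ k, P (E.X k) := by
  choose Y i hY hi using fun k => h1 (X.X k)
  refine ⟨Dk Y, { f := fun k => biprod.lift (i k) (X.d k (k + 1) ≫ i (k + 1)), comm' := fun a b hab => ?_ }, ?_,
    fun k => P_biprod P h2 (hY k) (hY (k + 1))⟩
  · obtain rfl : a + 1 = b := hab
    rw [Dk_d]
    apply biprod.hom_ext <;> simp
  · haveI : ∀ k, Mono (biprod.lift (i k) (X.d k (k + 1) ≫ i (k + 1))) := fun k =>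
      mono_of_mono_fac (biprod.lift_fst _ _)
    exact mono_of_mono_f _ this

/-- The fibre of a map to a complex with terms in the class. -/
lemma exists_fibre {C D C' : CochainComplex A ℤ} (ι : C ⟶ D) (π : D ⟶ C') (w : ι ≫ π = 0)
    (hS : (ShortComplex.mk ι π w).ShortExact) (hD : ∀ k, P (D.X k)) {J : CochainComplex A ℤ} (g : C' ⟶ J) [QuasiIso g]
    (hJ : ∀ k, P (J.X k)) : ∃ (I : CochainComplex A ℤ) (f : C ⟶ I), QuasiIso f ∧ ∀ k, P (I.X k) := by
  let Z : ℤ → A := fun k => J.X (k - 1)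
  let pf : ∀ k, (Dk Z).X k ⟶ J.X k := fun k =>
    biprod.fst ≫ J.d (k - 1) k + biprod.snd ≫ eqToHom (congrArg J.X (show k + 1 - 1 = k by omega))
  have hd : ∀ (a b b' : ℤ) (hb : b = b'), J.d a b ≫ eqToHom (congrArg J.X hb) = J.d a b' := by rintro a b _ rfl; simp
  have hd' : ∀ (a a' b : ℤ) (ha : a = a'), eqToHom (congrArg J.X ha) ≫ J.d a' b = J.d a b := by rintro a _ b rfl; simp
  let p : Dk Z ⟶ J :=
    { f := pf
      comm' := fun i j hij => by
        obtain rfl : i + 1 = j := hij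
        rw [Dk_d, Category.assoc]
        simp [pf, Z, Preadditive.add_comp, hd'] }
  let m : D ⊞ Dk Z ⟶ J := biprod.desc (π ≫ g) p
  let s : ∀ k, J.X k ⟶ (D ⊞ Dk Z).X k := fun k =>
    eqToHom (congrArg J.X (show k = k + 1 - 1 by omega)) ≫ biprod.inr ≫ (biprod.inr : Dk Z ⟶ D ⊞ Dk Z).f k
  have hs : ∀ k, s k ≫ m.f k = 𝟙 _ := fun k => by
    change (eqToHom _ ≫ biprod.inr ≫ _) ≫ _ = _
    rw [Category.assoc, Category.assoc, ← comp_f, biprod.inr_desc]
    simp [p, pf, Z]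
  haveI : ∀ k, Epi (m.f k) := fun k => epi_of_epi_fac (hs k)
  haveI : Epi m := epi_of_epi_f m this
  let S : ShortComplex (CochainComplex A ℤ) := ShortComplex.mk ι π w
  let T : ShortComplex (CochainComplex A ℤ) := ShortComplex.mk (kernel.ι m) m (kernel.condition m)
  have hT : T.ShortExact := { exact := ShortComplex.exact_of_f_is_kernel _ (kernelIsKernel m) }
  let φ : S ⟶ T :=
    { τ₁ := kernel.lift m (ι ≫ biprod.inl) (by rw [Category.assoc, biprod.inl_desc, ← Category.assoc, w, zero_comp])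
      τ₂ := biprod.inl
      τ₃ := g
      comm₁₂ := kernel.lift_ι _ _ _
      comm₂₃ := biprod.inl_desc _ _ }
  haveI hinl : QuasiIso (biprod.inl : D ⟶ D ⊞ Dk Z) := by
    refine ⟨fun n => ?_⟩
    rw [quasiIsoAt_iff_isIso_homologyMap]
    refine ⟨homologyMap biprod.fst n, by rw [← homologyMap_comp, biprod.inl_fst, homologyMap_id], ?_⟩
    have hz : homologyMap ((biprod.snd : D ⊞ Dk Z ⟶ Dk Z) ≫ (biprod.inr : Dk Z ⟶ D ⊞ Dk Z)) n = 0 := by
      rw [homologyMap_comp, (acyclic_Dk Z n).isZero_homology.eq_of_tgt (homologyMap (biprod.snd : D ⊞ Dk Z ⟶ Dk Z) n) 0, zero_comp]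
    rw [← homologyMap_id, ← biprod.total, homologyMap_add, hz, add_zero, homologyMap_comp]
  refine ⟨kernel m, φ.τ₁, DerCat.quasiIso_τ₁ φ hS hT hinl inferInstance, fun k => ?_⟩
  have hTk := hT.map_of_exact (eval A (ComplexShape.up ℤ) k)
  haveI : Mono (T.map (eval A (ComplexShape.up ℤ) k)).f := hTk.mono_f
  haveI : Mono ((kernel.ι m).f k) := hTk.mono_f
  haveI := preservesBinaryBiproducts_of_preservesBiproducts (eval A (ComplexShape.up ℤ) k)
  let r : (D ⊞ Dk Z).X k ⟶ (kernel m).X k := hTk.exact.lift (𝟙 _ - m.f k ≫ s k) (by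
    change (𝟙 _ - m.f k ≫ s k) ≫ m.f k = 0
    rw [Preadditive.sub_comp, Category.id_comp, Category.assoc, hs k, Category.comp_id, sub_self])
  have hr : r ≫ (kernel.ι m).f k = 𝟙 _ - m.f k ≫ s k := hTk.exact.lift_f _ _
  have hz : (kernel.ι m).f k ≫ m.f k = 0 := by rw [← comp_f, kernel.condition, zero_f]
  have hr' : (kernel.ι m).f k ≫ r = 𝟙 _ := by
    rw [← cancel_mono ((kernel.ι m).f k), Category.assoc, hr, Preadditive.comp_sub, Category.comp_id,
      reassoc_of% hz, zero_comp, sub_zero, Category.id_comp]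
  have hsr : s k ≫ r = 0 := by
    rw [← cancel_mono ((kernel.ι m).f k), Category.assoc, hr, Preadditive.comp_sub, Category.comp_id, reassoc_of% hs k,
      sub_self, zero_comp]
  have hmid : P ((D ⊞ Dk Z).X k) := P_iso P h2
    (Iso.symm ((eval A (ComplexShape.up ℤ) k).mapBiprod D (Dk Z)))
    (P_biprod P h2 (hD k) (P_biprod P h2 (hJ (k - 1)) (hJ _)))
  exact (split_iff P h2 (s k) r (m.f k) ((kernel.ι m).f k) (hs k) hr' hsr (by rw [hr]; abel) (hJ k)).1 hmid

include h1 in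
lemma main (n : ℕ) (hn : 1 ≤ n)
    (h3 : ∀ K : CochainComplex A ℕ, (∀ i : ℕ, 1 ≤ i → i ≤ n → K.ExactAt i) → (∀ i : ℕ, n < i → IsZero (K.X i)) →
      Epi (K.d (n - 1) n) → (∀ i : ℕ, i < n → P (K.X i)) → P (K.X n))
    (X : CochainComplex A ℤ) : ∃ (I : CochainComplex A ℤ) (f : X ⟶ I), QuasiIso f ∧ ∀ k : ℤ, P (I.X k) := by
  have hstep : ∀ (C : CochainComplex A ℤ) (i : ℕ), ∃ (E : CochainComplex A ℤ) (ι : C ⟶ E), Mono ι ∧
      (i < n → ∀ k, P (E.X k)) ∧ (n ≤ i → IsIso ι) := fun C i => by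
    by_cases hi : i < n
    · obtain ⟨E, ι, hι, hE⟩ := exists_embed P h1 h2 C
      exact ⟨E, ι, hι, fun _ => hE, fun h => absurd h (by omega)⟩
    · exact ⟨C, 𝟙 C, inferInstance, fun h => absurd h hi, fun _ => inferInstance⟩
  choose Em em hmono hP hiso using hstep
  let C : ℕ → CochainComplex A ℤ := fun i => Nat.rec (motive := fun _ => CochainComplex A ℤ) X (fun i Ci => cokernel (em Ci i)) i
  let π : ∀ i, Em (C i) i ⟶ C (i + 1) := fun i => cokernel.π (em (C i) i)
  let ι : ∀ i, C i ⟶ Em (C i) i := fun i => em (C i) i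
  haveI : ∀ i, Mono (ι i) := fun i => hmono _ _
  haveI : ∀ i k, Mono ((ι i).f k) := fun i k => inferInstanceAs (Mono ((eval A (ComplexShape.up ℤ) k).map (ι i)))
  haveI : ∀ i k, Epi ((π i).f k) := fun i k => inferInstanceAs (Epi ((eval A (ComplexShape.up ℤ) k).map (π i)))
  have hS : ∀ i, (ShortComplex.mk (ι i) (π i) (cokernel.condition _)).ShortExact := fun i =>
    { exact := ShortComplex.exact_of_g_is_cokernel _ (cokernelIsCokernel _) }
  have hlast : ∀ k, P ((C n).X k) := fun k => by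
    let K : CochainComplex A ℕ := CochainComplex.of (fun i => (Em (C i) i).X k) (fun i => (π i).f k ≫ (ι (i + 1)).f k)
      (fun i => by
        have : (ι (i + 1)).f k ≫ (π (i + 1)).f k = 0 := by rw [← comp_f, cokernel.condition, zero_f]
        simp [reassoc_of% this])
    have hKd : ∀ i, K.d i (i + 1) = (π i).f k ≫ (ι (i + 1)).f k := fun i =>
      CochainComplex.of_d (fun i => (Em (C i) i).X k) (fun i => (π i).f k ≫ (ι (i + 1)).f k) i
    have hz : ∀ i, n < i → IsZero ((C i).X k) := fun i hi => by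
      obtain ⟨j, rfl⟩ : ∃ j, i = j + 1 := ⟨i - 1, by omega⟩
      haveI := hiso (C j) j (by omega)
      exact (eval A (ComplexShape.up ℤ) k).map_isZero (isZero_cokernel_of_epi (em (C j) j))
    haveI := hiso (C n) n le_rfl
    haveI : IsIso (ι n) := hiso (C n) n le_rfl
    haveI : IsIso ((ι n).f k) := inferInstanceAs (IsIso ((eval A (ComplexShape.up ℤ) k).map (ι n)))
    refine P_iso P h2 (asIso ((ι n).f k)).symm (h3 K (fun i hi1 hi2 => ?_) (fun i hi => ?_) ?_ fun i hi => hP _ _ hi k)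
    · obtain ⟨j, rfl⟩ : ∃ j, i = j + 1 := ⟨i - 1, by omega⟩
      rw [exactAt_iff' _ j (j + 1) (j + 1 + 1) (by simp) (by simp), ShortComplex.exact_iff_exact_up_to_refinements]
      intro T x hx
      change x ≫ K.d (j + 1) (j + 1 + 1) = 0 at hx
      rw [hKd, ← Category.assoc] at hx
      have hx' : x ≫ (π (j + 1)).f k = 0 := (cancel_mono ((ι (j + 1 + 1)).f k)).1 (hx.trans zero_comp.symm)
      have hex := ((hS (j + 1)).map_of_exact (eval A (ComplexShape.up ℤ) k)).exact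
      rw [ShortComplex.exact_iff_exact_up_to_refinements] at hex
      obtain ⟨T₁, p₁, hp₁, y, hy⟩ := hex x hx'
      obtain ⟨T₂, p₂, hp₂, z, hz⟩ := surjective_up_to_refinements_of_epi ((π j).f k) y
      refine ⟨T₂, p₂ ≫ p₁, inferInstance, z, ?_⟩
      change (p₂ ≫ p₁) ≫ x = z ≫ K.d j (j + 1)
      rw [hKd, Category.assoc, hy, reassoc_of% hz]
      rfl
    · obtain ⟨j, rfl⟩ : ∃ j, i = j + 1 := ⟨i - 1, by omega⟩
      haveI := hiso (C (j + 1)) (j + 1) (by omega)
      exact (hz _ hi).of_iso ((eval A (ComplexShape.up ℤ) k).mapIso (asIso (ι (j + 1)))).symm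
    · obtain ⟨j, rfl⟩ : ∃ j, n = j + 1 := ⟨n - 1, by omega⟩
      rw [Nat.add_sub_cancel, hKd]
      infer_instance
  have hback : ∀ m i, i + m = n → ∃ (I : CochainComplex A ℤ) (f : C i ⟶ I), QuasiIso f ∧ ∀ k, P (I.X k) := by
    intro m
    induction m with
    | zero => rintro i rfl; exact ⟨C _, 𝟙 _, inferInstance, hlast⟩
    | succ m ih =>
      intro i hi
      obtain ⟨J, g, hg, hJ⟩ := ih (i + 1) (by omega)
      exact exists_fibre P h2 (ι i) (π i) _ (hS i) (hP _ _ (by omega)) g hJ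
  exact hback n 0 (by omega)

end

/-- Let A be an abelian category and P a class of objects of A such that (i) every object admits a
monomorphism into an object of P; (ii) in a short exact sequence 0 → X → Y → Z → 0 with X in P, Y
lies in P if and only if Z does; (iii) for some n ≥ 1, whenever X⁰ → X¹ → ⋯ → Xⁿ → 0 is exact (a
cochain complex indexed by ℕ, exact in degrees 1, …, n, zero beyond degree n, with surjective last
differential) and X⁰, …, Xⁿ⁻¹ lie in P, then Xⁿ lies in P. Then every cochain complex of objects of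
A admits a quasi-isomorphism into a cochain complex whose terms all lie in P. -/
theorem result {A : Type u} [Category.{v} A] [Abelian A]
    (P : ObjectProperty A)
    (h1 : ∀ X : A, ∃ (Y : A) (i : X ⟶ Y), P Y ∧ Mono i)
    (h2 : ∀ S : ShortComplex A, S.ShortExact → P S.X₁ → (P S.X₂ ↔ P S.X₃))
    (n : ℕ) (hn : 1 ≤ n)
    (h3 : ∀ K : CochainComplex A ℕ, (∀ i : ℕ, 1 ≤ i → i ≤ n → K.ExactAt i) → (∀ i : ℕ, n < i → IsZero (K.X i)) →
      Epi (K.d (n - 1) n) → (∀ i : ℕ, i < n → P (K.X i)) → P (K.X n))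
    (X : CochainComplex A ℤ) :
    ∃ (I : CochainComplex A ℤ) (f : X ⟶ I), QuasiIso f ∧ ∀ k : ℤ, P (I.X k) := by
  exact main P h1 h2 n hn h3 X

end Groth.Agent.S11168
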