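import Groth.Statements.S11175
import Groth.Agent.LocDuality.Gorenstein
import Groth.Agent.S0340
-- import your own Groth.Agent.* helpers here

set_option autoImplicit false
universe u
open CategoryTheory
open Goren

namespace Groth.Agent.S11175

/-- A Noetherian local ring A with maximal ideal m is Gorenstein (A has finite injective dimension as a
module over itself) if and only if there is a natural number d such that the local cohomology
modules H^i_m(A) (direct limits of Ext^i(A/m^n, A)) vanish for all i ≠ d and H^d_m(A) is an
injective A-module. -/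
theorem result (A : Type u) [CommRing A] [IsLocalRing A] [IsNoetherianRing A] : LocCoh.IsGorensteinLocalRing A ↔ ∃ d : ℕ, (∀ i : ℕ, i ≠ d → Subsingleton (LocCoh.H (IsLocalRing.maximalIdeal A) i A)) ∧ Module.Injective A (LocCoh.H (IsLocalRing.maximalIdeal A) d A) := by
  constructor
  · intro h
    obtain ⟨d, hd, -⟩ := Groth.Agent.GorenBasic.gorenstein_dim (R := A)
    refine ⟨d, fun i hi => ?_, Groth.Agent.LocDuality.injective_top hd⟩
    rcases lt_or_gt_of_ne hi with hlt | hgt
    · exact Groth.Agent.LocDuality.subsingleton_low hd i hlt
    · refine Groth.Agent.LocCohBasic.subsingleton_of_supportDim_lt _ (ModuleCat.of A A) ?_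
      refine lt_of_le_of_lt ((Module.supportDim_le_ringKrullDim A _).trans hd.le) ?_
      exact_mod_cast hgt
  · rintro ⟨d, hvan, hinj⟩
    rw [S0340.result]
    exact ⟨d + 1, fun i hi => Groth.Agent.LocDuality.subsingleton_ext_of_single (IsLocalRing.maximalIdeal A)
      (IsLocalRing.ResidueField A) (fun _ ha x => Groth.Agent.MatlisDual.maximalIdeal_smul_residue ha x) d
      (ModuleCat.of A A) hvan hinj i (by omega)⟩

end Groth.Agent.S11175
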