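import Groth.Statements.S11180
import Mathlib
import Groth.Agent.AdicNoeth.Basic
-- import your own Groth.Agent.* helpers here

set_option autoImplicit false
universe u
open scoped TensorProduct
open CAlg

namespace Groth.Agent.S11180

/-- Let A be a Noetherian ring and M an A-module. If an element m of M is such that 1 ⊗ m = 0 in B ⊗_A M
for every A-algebra B which is a complete Noetherian local ring, flat over A, then m = 0.
(Equivalently the natural map from M to the limit of the modules B ⊗_A M over all such B is
injective.) -/
theorem result (A : Type u) [CommRing A] [IsNoetherianRing A] (M : Type u) [AddCommGroup M] [Module A M] (m : M) (h : ∀ (B : Type u) [CommRing B] [Algebra A B] [IsNoetherianRing B] [IsLocalRing B], IsAdicComplete (IsLocalRing.maximalIdeal B) B → Module.Flat A B → (1 : B) ⊗ₜ[A] m = 0) : m = 0 := by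
  refine Module.eq_zero_of_localization_maximal
    (R := A) (M := M) (fun P _ => LocalizedModule P.primeCompl M) (fun P _ => LocalizedModule.mkLinearMap P.primeCompl M) m
    fun P hP => ?_
  let AP := Localization.AtPrime P
  let B := AdicCompletion (IsLocalRing.maximalIdeal AP) AP
  haveI : IsNoetherianRing AP := IsLocalization.isNoetherianRing P.primeCompl _ inferInstance
  haveI : IsNoetherianRing B := Groth.Agent.AdicNoeth.isNoetherianRing_adicCompletion _
  haveI : Module.Flat AP B := AdicCompletion.flat_of_isNoetherian _
  haveI : IsLocalHom (algebraMap AP B) := inferInstance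
  haveI : Module.FaithfullyFlat AP B := Module.FaithfullyFlat.of_flat_of_isLocalHom
  haveI : Module.Flat A B := Module.Flat.trans A AP B
  have h1 : (1 : B) ⊗ₜ[A] m = 0 := h B inferInstance inferInstance
  have h2 : (1 : B) ⊗ₜ[AP] ((1 : AP) ⊗ₜ[A] m) = 0 := by
    apply (TensorProduct.AlgebraTensorModule.cancelBaseChange A AP B B M).injective
    rw [TensorProduct.AlgebraTensorModule.cancelBaseChange_tmul, one_smul, map_zero]
    exact h1
  have h3 : (1 : AP) ⊗ₜ[A] m = 0 :=
    Module.FaithfullyFlat.tensorProduct_mk_injective (A := AP) (B := B) (TensorProduct A AP M)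
      (h2.trans (TensorProduct.tmul_zero _ _).symm)
  have h4 := congrArg ((LocalizedModule.equivTensorProduct P.primeCompl M).symm) h3
  rw [map_zero, ← Localization.mk_one, LocalizedModule.equivTensorProduct_symm_apply_tmul, one_smul] at h4
  exact h4

end Groth.Agent.S11180
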