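import Groth.Statements.S18101
import Groth.Agent.GrpSch.LinearAction
import Groth.Agent.GrpSch.AffFaith
import Groth.Agent.GrpSch.AntiHom
import Groth.Agent.GrpSch.WeilClosed
import Groth.Agent.GrpSch.Rigidity
import Groth.Agent.GrpSch.FixedPtApps

set_option autoImplicit false
universe u
open CategoryTheory MonoidalCategory CartesianMonoidalCategory MonObj GrpObj AlgebraicGeometry CategoryTheory.Limits
open AlgGrp

open Groth.Agent Groth.Agent.GrpSch
namespace Groth.Agent.S18101

/-- Let k be a field and G a k-group scheme of finite type. Then G is anti-affine, i.e. O(G) = k, if and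
only if every action of G on a variety having a fixed point is trivial; the fixed point is taken
k-rational here (the published condition allows any closed fixed point, which gives a formally
stronger necessary condition; the equivalence with a rational fixed point is what the published
argument through linear representations yields). -/
theorem result (k : Type u) [Field k]
    (G : Over (Spec (CommRingCat.of k))) [GrpObj G] [LocallyOfFiniteType G.hom] [QuasiCompact G.hom] :
    Function.Bijective ((Scheme.ΓSpecIso (CommRingCat.of k)).inv ≫ G.hom.appTop).hom ↔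
      ∀ (X : Over (Spec (CommRingCat.of k))) [LocallyOfFiniteType X.hom] [QuasiCompact X.hom] [IsSeparated X.hom] [GeometricallyIntegral X.hom]
        (a : AlgGrp.Action G X) (x : 𝟙_ (Over (Spec (CommRingCat.of k))) ⟶ X), a.IsFixedPt x → a.act = snd G X := by
  obtain ⟨_, _⟩ := AffEnv.exists_grpObj G
  haveI := AffEnv.compactSpace_left G
  haveI := AffEnv.quasiSeparatedSpace_left G
  haveI := AffEnv.isIso_toAff_appTop G
  constructor
  · intro hG X _ _ _ _ a x hx
    haveI : IsLocallyNoetherian X.left := LocallyOfFiniteType.isLocallyNoetherian X.hom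
    haveI : IsIntegral X.left := GeometricallyIntegral.isIntegral_of_subsingleton X.hom
    obtain ⟨V, v, hV, hv, hxV, hgood⟩ := FixedPt.exists_good_nbhd X x
    haveI : QuasiCompact v.left := by
      haveI : IsSeparated (Spec (CommRingCat.of k) : Scheme.{u}).toSpecΓ := inferInstance
      haveI : QuasiCompact (v.left ≫ X.hom) := by
        rw [Over.w v]
        haveI : IsAffineHom V.hom := isAffineHom_of_isAffine _
        infer_instance
      exact QuasiCompact.of_comp v.left X.hom
    haveI : Nonempty ↥V.left := ⟨hxV.choose⟩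
    haveI : IsDominant v.left :=
      ⟨(v.left.isOpenEmbedding.isOpen_range.dense ⟨_, hxV⟩)⟩
    haveI : IsSchemeTheoreticallyDominant v.left := .of_isDominant _
    obtain ⟨P, e, hP, he⟩ := FixedPt.exists_faithful_affine a x hx V v hxV fun B j m hm hmx hB hpow T g hg => by
      obtain ⟨x0, hx0⟩ : ∃ x0 : 𝟙_ (Over (Spec (CommRingCat.of k))) ⟶ V, x0 ≫ v = x := by
        let l := IsOpenImmersion.lift v.left x.left (by
          rintro _ ⟨t, rfl⟩
          rwa [Subsingleton.elim (α := ↥(Spec (CommRingCat.of k))) t (IsLocalRing.closedPoint k)])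
        refine ⟨Over.homMk l ?_, Over.OverMorphism.ext (IsOpenImmersion.lift_fac _ _ _)⟩
        rw [← Over.w v, ← Category.assoc, IsOpenImmersion.lift_fac]
        exact Over.w x
      let p : T ⊗ X ⟶ X := lift (fst T X ≫ g) (snd T X) ≫ a.act
      refine FixedPt.triv_of_eq a g (?_ : p = snd T X)
      have hPV : (T ◁ v) ≫ p = (T ◁ v) ≫ snd T X := by
        refine @JointInj.ext k _ ℕ T V X _ _ B hB j (fun b hb => ?_) _ _ fun n => ?_
        · refine hgood x0 hx0 b fun n => ?_
          have : m = RingHom.ker x0.left.appTop.hom := Ideal.ext fun b => hmx x0 hx0 b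
          rw [← this]
          exact hpow b hb n
        · have := hg n (T ⊗ B n) (fst _ _) (snd _ _)
          rw [← Category.assoc, ← Category.assoc (T ◁ j n)]
          simp only [p, Category.assoc, whiskerLeft_snd, whiskerLeft_snd_assoc, comp_lift_assoc,
            whiskerLeft_fst_assoc]
          exact this
      have H : IsPullback (snd T V).left (T ◁ v).left v.left (snd T X).left :=
        (GrpSch.isPullback_left (Rigidity.isPullback_whiskerLeft_snd T v)).flip
      haveI : Flat (snd T X).left := by
        haveI : Flat T.hom := inferInstance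
        exact inferInstanceAs (Flat (pullback.snd T.hom X.hom))
      haveI : IsSchemeTheoreticallyDominant (T ◁ v).left := IsSchemeTheoreticallyDominant.of_isPullback H
      apply Over.OverMorphism.ext
      obtain ⟨E, ee, _, hE⟩ := WeilClosed.exists_closed_equalizer X.hom p.left (snd T X).left
        ((Over.w p).trans (Over.w (snd T X)).symm)
      obtain ⟨l, hl⟩ := (hE _ (T ◁ v).left).2 (congrArg (fun φ => φ.left) hPV)
      haveI : IsIso ee := IsClosedImmersion.isIso_iff_ker_eq_bot.2 (by
        rw [eq_bot_iff, ← (T ◁ v).left.ker_eq_bot, ← hl]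
        exact Scheme.Hom.le_ker_comp _ _)
      exact (cancel_epi ee).1 ((hE _ ee).1 ⟨𝟙 _, Category.id_comp _⟩)
    obtain ⟨e', he'⟩ := FixedPt.exists_action_aff G P e
    have h1 : AffEnv.toAff G = 1 := AntiHom.eq_one G _ hG _
    have htriv : FixedPt.Triv e (𝟙 G) := fun T t y => by
      rw [← he', Category.comp_id, h1, MonObj.comp_one, act_one]
    have h := (he G (𝟙 G)).1 htriv (G ⊗ X) (fst G X) (snd G X)
    simpa [lift_fst_snd] using h
  · intro hact
    have hinj : Function.Injective (AffEnv.toAff G).left.appTop.hom :=
      (ConcreteCategory.bijective_of_isIso (AffEnv.toAff G).left.appTop).1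
    haveI := (AffThm.locallyOfFiniteType (AffEnv.toAff G) hinj).1
    obtain ⟨⟨HA⟩, ⟨eA⟩⟩ := (essImage_hopfSpec (G := Grp.mk (AffEnv.aff G))).2
      (inferInstanceAs (IsAffine (AffEnv.aff G).left))
    let iA : NormalQuot.specGrp k HA ≅ AffEnv.aff G := ⟨eA.hom.hom.hom, eA.inv.hom.hom,
      congrArg (fun z => z.hom.hom) eA.hom_inv_id, congrArg (fun z => z.hom.hom) eA.inv_hom_id⟩
    haveI : IsMonHom iA.inv := eA.inv.hom.isMonHom_hom
    haveI : IsIso iA.hom.left := ((Over.forget _).mapIso iA).isIso_hom
    haveI : IsIso iA.inv.left := ((Over.forget _).mapIso iA).isIso_inv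
    haveI hft : Algebra.FiniteType k HA := by
      have hw : Spec.map (CommRingCat.ofHom (algebraMap k HA)) = iA.hom.left ≫ (AffEnv.aff G).hom := (Over.w iA.hom).symm
      have h : LocallyOfFiniteType (Spec.map (CommRingCat.ofHom (algebraMap k HA))) := by
        rw [hw]
        exact (MorphismProperty.cancel_left_of_respectsIso @LocallyOfFiniteType iA.hom.left (AffEnv.aff G).hom).2 ‹_›
      exact RingHom.finiteType_algebraMap.1 ((HasRingHomProperty.Spec_iff (P := @LocallyOfFiniteType)).1 h)
    obtain ⟨s, hs⟩ := hft.out
    obtain ⟨m, M, hΔ, hε, hsM⟩ := LinearAction.exists_comatrix (k := k) s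
    let u : G ⟶ NormalQuot.specGrp k HA := AffEnv.toAff G ≫ iA.inv
    haveI : IsMonHom u := inferInstanceAs (IsMonHom (AffEnv.toAff G ≫ iA.inv))
    letI := JointInj.algΓ G
    let c : Matrix (Fin m) (Fin m) Γ(G.left, ⊤) := M.map (LinearAction.val u)
    have hc : ∀ (T : Over (Spec (CommRingCat.of k))) (g : T ⟶ G),
        c.map g.left.appTop.hom = M.map (LinearAction.val (g ≫ u)) := fun T g => by
      simp only [c, Matrix.map_map]; rfl
    obtain ⟨a, ha⟩ := LinearAction.exists_action c
      (fun T g h => by rw [hc, hc, hc, MonObj.mul_comp]; exact (LinearAction.val_mul _ _ M hΔ hε).1)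
      (fun T => by
        rw [hc, MonObj.one_comp]
        exact (LinearAction.val_mul (1 : T ⟶ NormalQuot.specGrp k HA) 1 M hΔ hε).2)
    haveI := LinearAction.geometricallyIntegral_affSp (k := k) m
    haveI : IsAffineHom (LinearAction.affSp k m).hom := isAffineHom_of_isAffine _
    haveI : LocallyOfFiniteType (LinearAction.affSp k m).hom :=
      (HasRingHomProperty.Spec_iff (P := @LocallyOfFiniteType)).2
        (RingHom.finiteType_algebraMap.2 inferInstance)
    obtain ⟨o, ho⟩ := LinearAction.exists_coords (T := 𝟙_ (Over (Spec (CommRingCat.of k)))) (0 : Fin m → _)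
    have hfix : a.IsFixedPt o := fun T g => by
      refine LinearAction.ext_coords ?_
      rw [ha, LinearAction.coords_comp, ho]
      ext i
      simp [Matrix.mulVec, dotProduct]
    have htriv := hact (LinearAction.affSp k m) a o hfix
    have hc1 : c = 1 := by
      refine Matrix.ext_of_mulVec_single fun j => ?_
      obtain ⟨y, hy⟩ := LinearAction.exists_coords (T := G) (Pi.single j 1)
      have h := ha G (𝟙 G) y
      rw [htriv, lift_snd, hy] at h
      rw [Matrix.one_mulVec]
      conv_rhs => rw [h]
      congr 1
    haveI : IsIso u.left.appTop := by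
      haveI : IsIso iA.inv.left.appTop := inferInstanceAs (IsIso (iA.inv.left.app ⊤))
      rw [Over.comp_left, Scheme.Hom.comp_appTop]; infer_instance
    have hbij : Function.Bijective (LinearAction.val u) := by
      haveI : IsIso ((Scheme.ΓSpecIso (CommRingCat.of HA)).inv ≫ u.left.appTop) :=
        IsIso.comp_isIso' inferInstance ‹IsIso u.left.appTop›
      exact ConcreteCategory.bijective_of_isIso ((Scheme.ΓSpecIso (CommRingCat.of HA)).inv ≫ u.left.appTop)
    let valA : HA →ₐ[k] Γ(G.left, ⊤) :=
      { LinearAction.val u with commutes' := LinearAction.val_algebraMap u }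
    haveI : Nonempty ↥G.left := ⟨η[G].left (IsLocalRing.closedPoint k)⟩
    haveI : Nontrivial Γ(G.left, ⊤) :=
      (G.left.presheaf.germ ⊤ (η[G].left (IsLocalRing.closedPoint k)) trivial).hom.domain_nontrivial
    refine ⟨RingHom.injective _, fun z => ?_⟩
    obtain ⟨w, rfl⟩ := hbij.2 z
    have hall : (⊤ : Subalgebra k HA) ≤ (Algebra.ofId k Γ(G.left, ⊤)).range.comap valA := by
      rw [← hs, Algebra.adjoin_le_iff]
      refine hsM.trans (SetLike.coe_subset_coe.2 ?_)
      rw [Algebra.adjoin_le_iff]
      rintro _ ⟨⟨i, j⟩, rfl⟩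
      change LinearAction.val u (M i j) ∈ (Algebra.ofId k Γ(G.left, ⊤)).range
      have : LinearAction.val u (M i j) = (1 : Matrix (Fin m) (Fin m) Γ(G.left, ⊤)) i j :=
        congrFun (congrFun hc1 i) j
      rw [this, Matrix.one_apply]
      split_ifs
      · exact one_mem _
      · exact zero_mem _
    obtain ⟨r, hr⟩ := hall (Algebra.mem_top (x := w))
    exact ⟨r, hr⟩

end Groth.Agent.S18101
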