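import Groth.Statements.S11405
import Groth.Agent.GrpSch.LinearAction
import Groth.Agent.GrpSch.AffFaith
import Groth.Agent.GrpSch.AffThm
import Groth.Agent.GrpSch.AntiHom
import Groth.Agent.GrpSch.Desc
import Groth.Agent.UnitsProd.Scheme
import Groth.Agent.S18101
import Mathlib.LinearAlgebra.GeneralLinearGroup.Basic

set_option autoImplicit false
set_option backward.isDefEq.respectTransparency.types false
universe u
open CategoryTheory MonoidalCategory CartesianMonoidalCategory MonObj GrpObj AlgebraicGeometry CategoryTheory.Limits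
open AlgGrp

namespace Groth.Agent.S11405

open Groth.Agent CategoryTheory.Limits GrpSch
open scoped TensorProduct
attribute [local instance] GrpSch.JointInj.algΓ

/-- the test object of an affine scheme -/
lemma exists_toPt (k : Type u) [Field k] (T : Over (Spec (CommRingCat.of k))) [IsAffine T.left] :
    ∃ t : T ≅ VecGrp.pt k Γ(T.left, ⊤), t.hom.left = T.left.toSpecΓ := by
  haveI : IsIso T.left.toSpecΓ := inferInstance
  refine ⟨Over.isoMk (asIso T.left.toSpecΓ) ?_, rfl⟩
  change T.left.toSpecΓ ≫ Spec.map ((Scheme.ΓSpecIso (CommRingCat.of k)).inv ≫ T.hom.appTop) = T.hom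
  rw [Spec.map_comp, ← Scheme.toSpecΓ_naturality_assoc, toSpecΓ_SpecMap_ΓSpecIso_inv, Category.comp_id]

/-- coefficient functions on affine test schemes -/
lemma exists_coeff {k : Type u} [Field k] {G : Over (Spec (CommRingCat.of k))} [GrpObj G]
    {M : Type u} [AddCommGroup M] [Module k M] (m : VecGrp.GMod G M) (lam : M →ₗ[k] k) (v : M) :
    ∃ C : ∀ (T : Over (Spec (CommRingCat.of k))) [IsAffine T.left], (T ⟶ G) → Γ(T.left, ⊤),
      (∀ (T T' : Over (Spec (CommRingCat.of k))) [IsAffine T.left] [IsAffine T'.left] (h : T' ⟶ T) (pg : T ⟶ G),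
        C T' (h ≫ pg) = h.left.appTop.hom (C T pg)) ∧
      ∀ (B : Type u) [CommRing B] [Algebra k B] (T : Over (Spec (CommRingCat.of k))) [IsAffine T.left]
        (pg : T ⟶ G) (e : VecGrp.pt k B ⟶ T),
        (TensorProduct.rid k B) (lam.lTensor B (m.ρ B (e ≫ pg) (1 ⊗ₜ[k] v))) =
          (Scheme.ΓSpecIso (CommRingCat.of B)).hom.hom (e.left.appTop.hom (C T pg)) := by
  let cB : ∀ (B : Type u) [CommRing B] [Algebra k B], (VecGrp.pt k B ⟶ G) → B := fun B _ _ pg =>
    TensorProduct.rid k B (lam.lTensor B (m.ρ B pg (1 ⊗ₜ[k] v)))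
  have hnat : ∀ {B B' : Type u} [CommRing B] [Algebra k B] [CommRing B'] [Algebra k B'] (φ : B →ₐ[k] B')
      (pg : VecGrp.pt k B ⟶ G), cB B' (VecGrp.ptMap φ ≫ pg) = φ (cB B pg) := by
    intro B B' _ _ _ _ φ pg
    simp only [cB]
    have h := m.naturality φ pg (1 ⊗ₜ[k] v)
    rw [VecGrp.Wmap_tmul, map_one] at h
    rw [← h]
    generalize m.ρ B pg (1 ⊗ₜ[k] v) = x
    induction x using TensorProduct.induction_on with
    | zero => simp
    | tmul b w => simp [map_smul]
    | add x y hx hy => simp only [map_add, hx, hy]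
  choose t ht using fun (T : Over (Spec (CommRingCat.of k))) (_ : IsAffine T.left) => exists_toPt k T
  refine ⟨fun T i pg => cB Γ(T.left, ⊤) ((t T i).inv ≫ pg), fun T T' i i' h pg => ?_, fun B _ _ T i pg e => ?_⟩
  · let φ : Γ(T.left, ⊤) →ₐ[k] Γ(T'.left, ⊤) :=
      { h.left.appTop.hom with
        commutes' := fun r => by
          change ((Scheme.ΓSpecIso (CommRingCat.of k)).inv ≫ T.hom.appTop ≫ h.left.appTop).hom r = _
          rw [← Scheme.Hom.comp_appTop, Over.w h]
          rfl }
    have e1 : (t T' i').inv ≫ h = VecGrp.ptMap φ ≫ (t T i).inv := by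
      rw [Iso.inv_comp_eq, ← Category.assoc, Iso.eq_comp_inv]
      apply Over.OverMorphism.ext
      rw [Over.comp_left, Over.comp_left, ht, ht]
      exact Scheme.toSpecΓ_naturality h.left
    change cB _ ((t T' i').inv ≫ h ≫ pg) = φ (cB _ ((t T i).inv ≫ pg))
    rw [← Category.assoc, e1, Category.assoc, hnat]
  · let φ : Γ(T.left, ⊤) →ₐ[k] B :=
      { (e.left.appTop ≫ (Scheme.ΓSpecIso (CommRingCat.of B)).hom).hom with
        commutes' := fun r => by
          change ((Scheme.ΓSpecIso (CommRingCat.of k)).inv ≫ T.hom.appTop ≫ e.left.appTop ≫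
            (Scheme.ΓSpecIso (CommRingCat.of B)).hom).hom r = _
          rw [← Category.assoc T.hom.appTop, ← Scheme.Hom.comp_appTop, Over.w e]
          change ((Scheme.ΓSpecIso (CommRingCat.of k)).inv ≫ (Spec.map (CommRingCat.ofHom (algebraMap k B))).appTop ≫
            (Scheme.ΓSpecIso (CommRingCat.of B)).hom).hom r = _
          rw [Scheme.ΓSpecIso_naturality, Iso.inv_hom_id_assoc]
          rfl }
    have e1 : e = VecGrp.ptMap φ ≫ (t T i).inv := by
      rw [Iso.eq_comp_inv]
      apply Over.OverMorphism.ext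
      rw [Over.comp_left, ht]
      change _ = Spec.map (e.left.appTop ≫ (Scheme.ΓSpecIso (CommRingCat.of B)).hom)
      rw [Scheme.toSpecΓ_naturality, Spec.map_comp, SpecMap_ΓSpecIso_hom]
      rfl
    change cB B (e ≫ pg) = φ (cB _ ((t T i).inv ≫ pg))
    conv_lhs => rw [e1, Category.assoc]
    rw [hnat]

open GrpSch.LinearAction in
/-- anti-affine groups have only trivial finite-dimensional representations -/
theorem rep_eq_one {k : Type u} [Field k] {G : Over (Spec (CommRingCat.of k))} [GrpObj G]
    [LocallyOfFiniteType G.hom] [QuasiCompact G.hom]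
    (hG : Function.Bijective ((Scheme.ΓSpecIso (CommRingCat.of k)).inv ≫ G.hom.appTop).hom)
    {M : Type u} [AddCommGroup M] [Module k M] [Module.Finite k M] (m : VecGrp.GMod G M)
    (B : Type u) [CommRing B] [Algebra k B] (g : VecGrp.pt k B ⟶ G) : m.ρ B g = 1 := by
  classical
  have : IsSeparated G.hom := GrpSch.SepPoints.isSeparated_grp G
  apply LinearEquiv.toLinearMap_injective
  apply TensorProduct.AlgebraTensorModule.ext
  intro r v
  suffices h : m.ρ B g (1 ⊗ₜ[k] v) = 1 ⊗ₜ[k] v by
    have h2 := congrArg (fun w => r • w) h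
    simp only [← LinearEquiv.map_smul, TensorProduct.smul_tmul', smul_eq_mul, _root_.mul_one] at h2
    exact h2
  let bas := Module.finBasis k M
  refine (bas.baseChange B).ext_elem fun i => ?_
  have hrepr : ∀ w : B ⊗[k] M,
      (bas.baseChange B).repr w i = TensorProduct.rid k B ((bas.coord i).lTensor B w) := fun w => by
    induction w using TensorProduct.induction_on with
    | zero => simp
    | tmul a c => simp
    | add a c ha hc => simp only [map_add, Finsupp.add_apply, ha, hc]
  rw [hrepr, hrepr]
  obtain ⟨C, hC, hC2⟩ := exists_coeff m (bas.coord i) v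
  obtain ⟨P₀, p₀, hP, _, _, _⟩ := GrpSch.AffThm.exists_affine_cover (G := G)
  let P : Over (Spec (CommRingCat.of k)) := Over.mk (p₀ ≫ G.hom)
  haveI : IsAffine P.left := hP
  let p : P ⟶ G := Over.homMk p₀ rfl
  haveI : Flat p.left := ‹Flat p₀›
  haveI : Surjective p.left := ‹Surjective p₀›
  haveI : LocallyOfFinitePresentation p.left := ‹LocallyOfFinitePresentation p₀›
  obtain ⟨x, hx⟩ := exists_coords (n := 1) (fun _ => C P (p ≫ 𝟙 G))
  obtain ⟨z, hz, -⟩ := GrpSch.Desc.exists_desc p x (fun S a b hab => by
    apply Over.OverMorphism.ext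
    refine Scheme.Cover.hom_ext S.left.affineCover _ _ fun c => ?_
    let U : Over (Spec (CommRingCat.of k)) := Over.mk (S.left.affineCover.f c ≫ S.hom)
    let r : U ⟶ S := Over.homMk (S.left.affineCover.f c) rfl
    haveI : IsAffine U.left := inferInstanceAs (IsAffine (Spec _))
    suffices (r ≫ a) ≫ x = (r ≫ b) ≫ x by
      have := congrArg (fun φ => φ.left) this
      simpa [r] using this
    refine ext_coords ?_
    rw [coords_comp, coords_comp, hx]
    funext i
    change (r ≫ a).left.appTop.hom (C P (p ≫ 𝟙 G)) = (r ≫ b).left.appTop.hom (C P (p ≫ 𝟙 G))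
    rw [← hC, ← hC, Category.assoc, Category.assoc, ← Category.assoc a p, hab, Category.assoc])
  obtain ⟨y, hy⟩ := GrpSch.AntiHom.exists_eq_toUnit_comp G _ hG z
  have claim : ∀ (T : Over (Spec (CommRingCat.of k))) [IsAffine T.left] (pg : T ⟶ G),
      coords (pg ≫ z) = fun _ => C T pg := by
    intro T _ pg
    obtain ⟨w, hw⟩ := exists_coords (n := 1) (fun _ => C T pg)
    suffices pg ≫ z = w by rw [this, hw]
    haveI : IsAffineHom (p.left ≫ G.hom) := by rw [Over.w p]; exact isAffineHom_of_isAffine _
    haveI : IsAffineHom p.left := IsAffineHom.of_comp p.left G.hom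
    haveI : IsAffine (pullback pg.left p.left) := isAffine_of_isAffineHom (pullback.fst pg.left p.left)
    let R : Over (Spec (CommRingCat.of k)) := Over.mk (pullback.fst pg.left p.left ≫ T.hom)
    haveI : IsAffine R.left := ‹IsAffine (pullback pg.left p.left)›
    let f : R ⟶ T := Over.homMk (pullback.fst pg.left p.left) rfl
    let f' : R ⟶ P := Over.homMk (pullback.snd pg.left p.left) (by
      change _ ≫ P.hom = _ ≫ T.hom
      rw [← Over.w p, ← Over.w pg, pullback.condition_assoc])
    have hf : f ≫ pg = f' ≫ p := Over.OverMorphism.ext pullback.condition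
    haveI : Flat f.left := inferInstanceAs (Flat (pullback.fst _ _))
    haveI : Surjective f.left := inferInstanceAs (Surjective (pullback.fst _ _))
    haveI : LocallyOfFinitePresentation f.left := inferInstanceAs (LocallyOfFinitePresentation (pullback.fst _ _))
    haveI : Epi f := GrpSch.Desc.epi_of_effectiveEpi_left f
    rw [← cancel_epi f, ← Category.assoc, hf, Category.assoc, hz]
    refine ext_coords ?_
    rw [coords_comp, coords_comp, hx, hw]
    funext _
    change f'.left.appTop.hom (C P (p ≫ 𝟙 G)) = f.left.appTop.hom (C T pg)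
    rw [← hC, ← hC, hf, Category.comp_id]
  haveI : IsAffine (VecGrp.pt k B).left := inferInstanceAs (IsAffine (Spec _))
  have hconst : C (VecGrp.pt k B) g = C (VecGrp.pt k B) 1 := by
    have h1 := claim (VecGrp.pt k B) g
    have h2 := claim (VecGrp.pt k B) 1
    rw [← hy, ← Category.assoc, toUnit_unique (_ ≫ toUnit G) (toUnit _)] at h1 h2
    exact congrFun (h1.symm.trans h2) 0
  have e1 := hC2 B (VecGrp.pt k B) g (𝟙 _)
  have e2 := hC2 B (VecGrp.pt k B) 1 (𝟙 _)
  rw [Category.id_comp] at e1 e2
  rw [map_one] at e2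
  rw [e1, hconst, ← e2]
  rfl

/-- Over an algebraically closed field k, the following are equivalent for an algebraic group G (a
smooth k-group scheme of finite type): (i) the only global functions on G are the constants; (ii)
every finite-dimensional linear representation of G is trivial (every point of G with values in a
k-algebra B acts as the identity on B ⊗ M, for every G-module structure on a finite-dimensional
k-vector space M); (iii) every action of G on a variety (integral, separated k-scheme of finite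
type) with a fixed rational point is the trivial action. Stated as (i) ⇔ (ii) and (i) ⇔ (iii). -/
theorem result (k : Type u) [Field k] [IsAlgClosed k]
    (G : Over (Spec (CommRingCat.of k))) [GrpObj G] [Smooth G.hom] [QuasiCompact G.hom] :
    (Function.Bijective ((Scheme.ΓSpecIso (CommRingCat.of k)).inv ≫ G.hom.appTop).hom ↔
      ∀ (M : Type u) [AddCommGroup M] [Module k M] [Module.Finite k M] (m : VecGrp.GMod G M)
        (B : Type u) [CommRing B] [Algebra k B] (g : VecGrp.pt k B ⟶ G), m.ρ B g = 1) ∧
    (Function.Bijective ((Scheme.ΓSpecIso (CommRingCat.of k)).inv ≫ G.hom.appTop).hom ↔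
      ∀ (X : Over (Spec (CommRingCat.of k))) [LocallyOfFiniteType X.hom] [QuasiCompact X.hom] [IsSeparated X.hom]
        [IsIntegral X.left] (a : AlgGrp.Action G X) (x : 𝟙_ (Over (Spec (CommRingCat.of k))) ⟶ X), a.IsFixedPt x → a.act = snd G X) := by
  refine ⟨⟨fun hG M _ _ _ m B _ _ g => rep_eq_one hG m B g, fun h => ?_⟩, ?_⟩
  · obtain ⟨_, _⟩ := GrpSch.AffEnv.exists_grpObj G
    haveI := GrpSch.AffEnv.compactSpace_left G
    haveI := GrpSch.AffEnv.quasiSeparatedSpace_left G
    haveI := GrpSch.AffEnv.isIso_toAff_appTop G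
    have hinj : Function.Injective (GrpSch.AffEnv.toAff G).left.appTop.hom :=
      (ConcreteCategory.bijective_of_isIso (GrpSch.AffEnv.toAff G).left.appTop).1
    haveI := (GrpSch.AffThm.locallyOfFiniteType (GrpSch.AffEnv.toAff G) hinj).1
    obtain ⟨⟨HA⟩, ⟨eA⟩⟩ := (essImage_hopfSpec (G := Grp.mk (GrpSch.AffEnv.aff G))).2
      (inferInstanceAs (IsAffine (GrpSch.AffEnv.aff G).left))
    let iA : NormalQuot.specGrp k HA ≅ GrpSch.AffEnv.aff G := ⟨eA.hom.hom.hom, eA.inv.hom.hom,
      congrArg (fun z => z.hom.hom) eA.hom_inv_id, congrArg (fun z => z.hom.hom) eA.inv_hom_id⟩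
    haveI : IsMonHom iA.inv := eA.inv.hom.isMonHom_hom
    haveI : IsIso iA.hom.left := ((Over.forget _).mapIso iA).isIso_hom
    haveI : IsIso iA.inv.left := ((Over.forget _).mapIso iA).isIso_inv
    haveI hft : Algebra.FiniteType k HA := by
      have hw : Spec.map (CommRingCat.ofHom (algebraMap k HA)) = iA.hom.left ≫ (GrpSch.AffEnv.aff G).hom := (Over.w iA.hom).symm
      have h : LocallyOfFiniteType (Spec.map (CommRingCat.ofHom (algebraMap k HA))) := by
        rw [hw]
        exact (MorphismProperty.cancel_left_of_respectsIso @LocallyOfFiniteType iA.hom.left (GrpSch.AffEnv.aff G).hom).2 ‹_›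
      exact RingHom.finiteType_algebraMap.1 ((HasRingHomProperty.Spec_iff (P := @LocallyOfFiniteType)).1 h)
    obtain ⟨s, hs⟩ := hft.out
    obtain ⟨m, M, hΔ, hε, hsM⟩ := LinearAction.exists_comatrix (k := k) s
    let u : G ⟶ NormalQuot.specGrp k HA := GrpSch.AffEnv.toAff G ≫ iA.inv
    haveI : IsMonHom u := inferInstanceAs (IsMonHom (GrpSch.AffEnv.toAff G ≫ iA.inv))
    letI := JointInj.algΓ G
    let c : Matrix (Fin m) (Fin m) Γ(G.left, ⊤) := M.map (LinearAction.val u)
    have hc : ∀ (T : Over (Spec (CommRingCat.of k))) (g : T ⟶ G),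
        c.map g.left.appTop.hom = M.map (LinearAction.val (g ≫ u)) := fun T g => by
      simp only [c, Matrix.map_map]; rfl
    have hval : ∀ {B : Type u} [CommRing B] [Algebra k B] (g h : VecGrp.pt k B ⟶ G),
        M.map (LinearAction.val ((g * h) ≫ u)) = M.map (LinearAction.val (g ≫ u)) * M.map (LinearAction.val (h ≫ u)) ∧
        M.map (LinearAction.val ((1 : VecGrp.pt k B ⟶ G) ≫ u)) = 1 := fun {B} _ _ g h => by
      rw [MonObj.mul_comp, MonObj.one_comp]
      exact LinearAction.val_mul _ _ M hΔ hε
    let γB : ∀ (B : Type u) [CommRing B] [Algebra k B], Γ((VecGrp.pt k B).left, ⊤) →+* B :=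
      fun B _ _ => (Scheme.ΓSpecIso (CommRingCat.of B)).hom.hom
    let R : ∀ (B : Type u) [CommRing B] [Algebra k B], (VecGrp.pt k B ⟶ G) →* Matrix (Fin m) (Fin m) B :=
      fun B _ _ =>
      { toFun := fun g => (γB B).mapMatrix (M.map (LinearAction.val (g ≫ u)))
        map_one' := by rw [(hval (1 : VecGrp.pt k B ⟶ G) 1).2, map_one]
        map_mul' := fun g h => by rw [(hval g h).1, map_mul] }
    let E : ∀ (B : Type u) [CommRing B] [Algebra k B], B ⊗[k] (Fin m → k) ≃ₗ[B] (Fin m → B) :=
      fun B _ _ => TensorProduct.piScalarRight k B B (Fin m)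
    let Φ : ∀ (B : Type u) [CommRing B] [Algebra k B],
        (VecGrp.pt k B ⟶ G) →* Module.End B (B ⊗[k] (Fin m → k)) := fun B _ _ =>
      { toFun := fun g => (E B).symm.toLinearMap ∘ₗ Matrix.toLin' (R B g) ∘ₗ (E B).toLinearMap
        map_one' := by
          refine LinearMap.ext fun z => ?_
          simp
        map_mul' := fun g h => by
          refine LinearMap.ext fun z => ?_
          simp [Matrix.toLin'_mul] }
    let ρ : VecGrp.GMod G (Fin m → k) :=
      { ρ := fun B _ _ => (LinearMap.GeneralLinearGroup.generalLinearEquiv B _).toMonoidHom.comp (Φ B).toHomUnits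
        naturality := fun {B B'} _ _ _ _ φ g z => by
          have hE : ∀ w : B ⊗[k] (Fin m → k), E B' (VecGrp.Wmap φ w) = φ ∘ E B w := fun w => by
            induction w using TensorProduct.induction_on with
            | zero => ext i; simp
            | tmul r v => ext i; simp [E]
            | add a b ha hb => ext i; simp [ha, hb]
          have hR : R B' (VecGrp.ptMap φ ≫ g) = φ.toRingHom.mapMatrix (R B g) := by
            ext i j
            change (Scheme.ΓSpecIso (CommRingCat.of B')).hom ((Spec.map (CommRingCat.ofHom φ.toRingHom)).appTop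
              (LinearAction.val (g ≫ u) (M i j))) = φ ((Scheme.ΓSpecIso (CommRingCat.of B)).hom (LinearAction.val (g ≫ u) (M i j)))
            exact congrArg (fun f => f.hom (LinearAction.val (g ≫ u) (M i j)))
              (Scheme.ΓSpecIso_naturality (CommRingCat.ofHom φ.toRingHom))
          apply (E B').injective
          change E B' (VecGrp.Wmap φ ((E B).symm (Matrix.toLin' (R B g) (E B z)))) =
            E B' ((E B').symm (Matrix.toLin' (R B' (VecGrp.ptMap φ ≫ g)) (E B' (VecGrp.Wmap φ z))))
          rw [hE, LinearEquiv.apply_symm_apply, LinearEquiv.apply_symm_apply, hE, hR,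
            Matrix.toLin'_apply, Matrix.toLin'_apply]
          funext i
          exact RingHom.map_mulVec φ.toRingHom (R B g) (E B z) i }
    have hR1 : ∀ (B : Type u) [CommRing B] [Algebra k B] (g : VecGrp.pt k B ⟶ G), R B g = 1 := by
      intro B _ _ g
      refine Matrix.ext_of_mulVec_single fun j => ?_
      have h0 := congrArg (fun f : B ⊗[k] (Fin m → k) ≃ₗ[B] B ⊗[k] (Fin m → k) =>
        E B (f ((E B).symm (Pi.single j 1)))) (h (Fin m → k) ρ B g)
      rw [Matrix.one_mulVec]
      change E B ((E B).symm (Matrix.toLin' (R B g) (E B ((E B).symm (Pi.single j 1))))) =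
        E B ((E B).symm (Pi.single j 1)) at h0
      simpa using h0
    obtain ⟨P₀, p₀, hP, _, _, _⟩ := GrpSch.AffThm.exists_affine_cover (G := G)
    let P : Over (Spec (CommRingCat.of k)) := Over.mk (p₀ ≫ G.hom)
    haveI : IsAffine P.left := hP
    let p : P ⟶ G := Over.homMk p₀ rfl
    haveI : Flat p.left := ‹Flat p₀›
    haveI : Surjective p.left := ‹Surjective p₀›
    haveI : LocallyOfFinitePresentation p.left := ‹LocallyOfFinitePresentation p₀›
    haveI : Epi p := GrpSch.Desc.epi_of_effectiveEpi_left p
    obtain ⟨t, ht⟩ := exists_toPt k P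
    have hcP : c.map p.left.appTop.hom = 1 := by
      have h1 := hR1 Γ(P.left, ⊤) (t.inv ≫ p)
      rw [hc]
      have h2 : M.map (LinearAction.val ((t.inv ≫ p) ≫ u)) = 1 := by
        refine Matrix.map_injective ?_ (h1.trans (map_one (γB Γ(P.left, ⊤)).mapMatrix).symm)
        exact (ConcreteCategory.bijective_of_isIso (Scheme.ΓSpecIso (CommRingCat.of Γ(P.left, ⊤))).hom).1
      have h3 := congrArg t.hom.left.appTop.hom.mapMatrix h2
      rw [map_one] at h3
      refine Eq.trans ?_ h3
      have e : p ≫ u = t.hom ≫ (t.inv ≫ p) ≫ u := by simp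
      conv_lhs => rw [e, LinearAction.val_comp]
      rfl
    have hc1 : c = 1 := by
      ext i j
      obtain ⟨w, hw⟩ := LinearAction.exists_coords (k := k) (n := 1) (fun _ => c i j)
      obtain ⟨w', hw'⟩ := LinearAction.exists_coords (k := k) (n := 1) (fun _ => (1 : Matrix (Fin m) (Fin m) Γ(G.left, ⊤)) i j)
      have : p ≫ w = p ≫ w' := LinearAction.ext_coords (by
        rw [LinearAction.coords_comp, LinearAction.coords_comp, hw, hw']
        funext _
        refine Eq.trans (congrFun (congrFun hcP i) j) ?_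
        change _ = p.left.appTop.hom _
        rw [Matrix.one_apply, Matrix.one_apply]
        split_ifs <;> simp)
      rw [cancel_epi p] at this
      rw [this, hw'] at hw
      exact (congrFun hw 0).symm
    haveI : IsIso u.left.appTop := by
      haveI : IsIso iA.inv.left.appTop := inferInstanceAs (IsIso (iA.inv.left.app ⊤))
      rw [Over.comp_left, Scheme.Hom.comp_appTop]; infer_instance
    have hbij : Function.Bijective (LinearAction.val u) := by
      haveI : IsIso ((Scheme.ΓSpecIso (CommRingCat.of HA)).inv ≫ u.left.appTop) :=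
        IsIso.comp_isIso' inferInstance ‹IsIso u.left.appTop›
      exact ConcreteCategory.bijective_of_isIso ((Scheme.ΓSpecIso (CommRingCat.of HA)).inv ≫ u.left.appTop)
    let valA : HA →ₐ[k] Γ(G.left, ⊤) :=
      { LinearAction.val u with commutes' := LinearAction.val_algebraMap u }
    haveI : Nonempty ↥G.left := ⟨η[G].left (IsLocalRing.closedPoint k)⟩
    haveI : Nontrivial Γ(G.left, ⊤) :=
      (G.left.presheaf.germ ⊤ (η[G].left (IsLocalRing.closedPoint k)) trivial).hom.domain_nontrivial
    refine ⟨RingHom.injective _, fun z => ?_⟩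
    obtain ⟨w, rfl⟩ := hbij.2 z
    have hall : (⊤ : Subalgebra k HA) ≤ (Algebra.ofId k Γ(G.left, ⊤)).range.comap valA := by
      rw [← hs, Algebra.adjoin_le_iff]
      refine hsM.trans (SetLike.coe_subset_coe.2 ?_)
      rw [Algebra.adjoin_le_iff]
      rintro _ ⟨⟨i, j⟩, rfl⟩
      change LinearAction.val u (M i j) ∈ (Algebra.ofId k Γ(G.left, ⊤)).range
      have : LinearAction.val u (M i j) = (1 : Matrix (Fin m) (Fin m) Γ(G.left, ⊤)) i j :=
        congrFun (congrFun hc1 i) j
      rw [this, Matrix.one_apply]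
      split_ifs
      · exact one_mem _
      · exact zero_mem _
    obtain ⟨r, hr⟩ := hall (Algebra.mem_top (x := w))
    exact ⟨r, hr⟩

  · rw [Groth.Agent.S18101.result k G]
    constructor
    · intro h X _ _ _ _ a x hx
      haveI : GeometricallyIntegral X.hom := Groth.Agent.UnitsProd.geometricallyIntegral_of_isAlgClosed X.hom
      exact h X a x hx
    · intro h X _ _ _ _ a x hx
      haveI : IsIntegral X.left := GeometricallyIntegral.isIntegral_of_subsingleton X.hom
      exact h X a x hx

end Groth.Agent.S11405
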