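import Groth.Statements.S11188
import Groth.Agent.GrpSch.MatRep
import Groth.Agent.GrpSch.FunPts
import Groth.Agent.GrpSch.AffEnv
import Groth.Agent.S11405

set_option backward.isDefEq.respectTransparency.types false

set_option autoImplicit false
universe u
open CategoryTheory MonoidalCategory CartesianMonoidalCategory MonObj GrpObj AlgebraicGeometry
open scoped TensorProduct
open AGF

namespace Groth.Agent.S11188

/-- (1) ⇔ (2) ⇔ (3): let k be an algebraically closed field, G a linear algebraic group over k (an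
affine smooth group scheme over k) and H a closed subgroup of G (a smooth closed subgroup scheme, i
: H → G). The following are equivalent: (i) H is observable in G, i.e. a rational point of G whose
right translation fixes every right-H-invariant global function on G lies in H; (ii) there are a
finite-dimensional rational G-module V and a vector v in V whose stabiliser, on rational points, is
H; (iii) there are finitely many right-H-invariant global functions on G which separate the cosets
gH: two rational points of G at which they all take the same values differ by right multiplication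
by a rational point of H. -/
theorem result (k : Type u) [Field k] [IsAlgClosed k]
    (G : Over (Spec (CommRingCat.of k))) [GrpObj G] [IsAffine G.left] [Smooth G.hom]
    (H : Over (Spec (CommRingCat.of k))) [GrpObj H] [Smooth H.hom] (i : H ⟶ G) [IsMonHom i]
    [IsClosedImmersion i.left] :
    List.TFAE [
      AGF.IsObservableIn k i,
      ∃ (V : Type u) (_ : AddCommGroup V) (_ : Module k V) (_ : Module.Finite k V) (ρ : VecGrp.GMod G V) (v : V),
        AGF.IsStabOnPts k i ρ v,
      ∃ s : Finset Γ(G.left, ⊤), (∀ f ∈ s, AGF.IsRTransInv i f) ∧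
        ∀ g g' : VecGrp.pt k k ⟶ G, (∀ f ∈ s, g.left.appTop f = g'.left.appTop f) →
          ∃ h : VecGrp.pt k k ⟶ H, g' = g * (h ≫ i)] := by
  classical
  haveI := GrpSch.isReduced_of_smooth G
  have hevγ : ∀ (g g' : VecGrp.pt k k ⟶ G) (f : Γ(G.left, ⊤)),
      g.left.appTop f = g'.left.appTop f ↔ GrpSch.FunPts.ev g f = GrpSch.FunPts.ev g' f := fun g g' f =>
    ⟨fun h => congrArg (Scheme.ΓSpecIso (CommRingCat.of k)).hom h,
      fun h => (ConcreteCategory.bijective_of_isIso (Scheme.ΓSpecIso (CommRingCat.of k)).hom).1 h⟩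
  tfae_have 1 → 3 := by
    intro hobs
    -- finitely many invariants separating what all invariants separate
    obtain ⟨s, hs1, hs⟩ : ∃ s : Finset Γ(G.left, ⊤), (∀ f ∈ s, AGF.IsRTransInv i f) ∧
        ∀ x y : VecGrp.pt k k ⟶ G, (∀ f ∈ s, GrpSch.FunPts.ev x f = GrpSch.FunPts.ev y f) →
          ∀ f, AGF.IsRTransInv i f → GrpSch.FunPts.ev x f = GrpSch.FunPts.ev y f := by
      haveI : IsAffine (G ⊗ G).left := GrpSch.AffEnv.isAffine_tensor _ _
      haveI : LocallyOfFiniteType (G ⊗ G).hom :=
        MorphismProperty.comp_mem _ _ _ (MorphismProperty.pullback_fst _ _ inferInstance) inferInstance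
      haveI : IsLocallyNoetherian (G ⊗ G).left := LocallyOfFiniteType.isLocallyNoetherian (G ⊗ G).hom
      haveI : IsNoetherianRing Γ((G ⊗ G).left, ⊤) :=
        IsLocallyNoetherian.component_noetherian ⟨⊤, isAffineOpen_top _⟩
      let d : Γ(G.left, ⊤) → Γ((G ⊗ G).left, ⊤) := fun f =>
        (fst G G).left.appTop f - (snd G G).left.appTop f
      have hd : ∀ f (x y : VecGrp.pt k k ⟶ G), GrpSch.FunPts.ev (lift x y) (d f) =
          GrpSch.FunPts.ev x f - GrpSch.FunPts.ev y f := fun f x y => by
        rw [map_sub, ← GrpSch.FunPts.ev_comp, ← GrpSch.FunPts.ev_comp, lift_fst, lift_snd]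
      let S : Set Γ((G ⊗ G).left, ⊤) := d '' {f | AGF.IsRTransInv i f}
      obtain ⟨t, htS, ht⟩ := Submodule.fg_span_iff_fg_span_finset_subset S |>.1
        (IsNoetherian.noetherian (Submodule.span Γ((G ⊗ G).left, ⊤) S))
      choose F hF1 hF2 using fun z : t => htS z.2
      refine ⟨t.attach.image F, fun f hf => ?_, fun x y hxy f hf => ?_⟩
      · obtain ⟨z, -, rfl⟩ := Finset.mem_image.1 hf
        exact hF1 z
      have hm : d f ∈ Ideal.span (t : Set Γ((G ⊗ G).left, ⊤)) := by
        have : d f ∈ Submodule.span Γ((G ⊗ G).left, ⊤) S := Submodule.subset_span ⟨f, hf, rfl⟩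
        rwa [ht] at this
      have hle : Ideal.span (t : Set Γ((G ⊗ G).left, ⊤)) ≤ RingHom.ker (GrpSch.FunPts.ev (lift x y)) :=
        Ideal.span_le.2 fun z hz => by
          rw [SetLike.mem_coe, RingHom.mem_ker, show z = d _ from (hF2 ⟨z, hz⟩).symm, hd, sub_eq_zero]
          exact hxy _ (Finset.mem_image.2 ⟨_, Finset.mem_attach _ _, rfl⟩)
      have := hle hm
      rwa [RingHom.mem_ker, hd, sub_eq_zero] at this
    refine ⟨s, hs1, fun p q hpq => ?_⟩
    have hall := hs p q fun f hf => (hevγ p q f).1 (hpq f hf)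
    obtain ⟨h, hh⟩ := hobs (p⁻¹ * q) fun f hf => (GrpSch.FunPts.isRTransInv_pt_iff _ f).2 fun z => by
      obtain ⟨c, hc⟩ := GrpSch.FunPts.exists_unit_pt (z * p⁻¹)
      let f' := ((toUnit G ≫ c) * 𝟙 G).left.appTop f
      have hf' : ∀ v, GrpSch.FunPts.ev v f' = GrpSch.FunPts.ev (z * p⁻¹ * v) f := fun v => by
        rw [← GrpSch.FunPts.ev_comp, MonObj.comp_mul, comp_toUnit_assoc, Category.comp_id, hc]
      have hinv : AGF.IsRTransInv i f' := (GrpSch.FunPts.isRTransInv_hom_iff i f').2 fun v t => by
        rw [hf', hf', ← _root_.mul_assoc]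
        exact (GrpSch.FunPts.isRTransInv_hom_iff i f).1 hf _ t
      have := hall f' hinv
      rw [hf', hf', inv_mul_cancel_right] at this
      rw [← _root_.mul_assoc]
      exact this.symm
    exact ⟨h, by rw [hh, mul_inv_cancel_left]⟩
  tfae_have 3 → 2 := by
    rintro ⟨s, hs1, hs⟩
    obtain ⟨⟨HA⟩, ⟨eA⟩⟩ := (essImage_hopfSpec (G := Grp.mk G)).2 (inferInstanceAs (IsAffine G.left))
    let iA : NormalQuot.specGrp k HA ≅ G := ⟨eA.hom.hom.hom, eA.inv.hom.hom,
      congrArg (fun z => z.hom.hom) eA.hom_inv_id, congrArg (fun z => z.hom.hom) eA.inv_hom_id⟩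
    haveI : IsMonHom iA.inv := eA.inv.hom.isMonHom_hom
    haveI : IsIso iA.inv.left := ((Over.forget _).mapIso iA).isIso_inv
    let u : G ⟶ NormalQuot.specGrp k HA := iA.inv
    letI := GrpSch.JointInj.algΓ G
    haveI : IsIso u.left.appTop := inferInstanceAs (IsIso (iA.inv.left.app ⊤))
    have hbij : Function.Bijective (GrpSch.LinearAction.val u) := by
      haveI : IsIso ((Scheme.ΓSpecIso (CommRingCat.of HA)).inv ≫ u.left.appTop) :=
        IsIso.comp_isIso' inferInstance ‹IsIso u.left.appTop›
      exact ConcreteCategory.bijective_of_isIso ((Scheme.ΓSpecIso (CommRingCat.of HA)).inv ≫ u.left.appTop)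
    have hC : ∀ x : VecGrp.pt k k ⟶ G, ∀ r : k,
        GrpSch.FunPts.ev x (GrpSch.LinearAction.val u (algebraMap k HA r)) = r := fun x r => by
      letI := GrpSch.JointInj.algΓ (VecGrp.pt k k)
      change (Scheme.ΓSpecIso (CommRingCat.of k)).hom (GrpSch.LinearAction.val (x ≫ u) (algebraMap k HA r)) = r
      rw [GrpSch.LinearAction.val_algebraMap]
      change ((Scheme.ΓSpecIso (CommRingCat.of k)).inv ≫
        (Spec.map (CommRingCat.ofHom (algebraMap k k))).appTop ≫ (Scheme.ΓSpecIso (CommRingCat.of k)).hom).hom r = r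
      rw [Scheme.ΓSpecIso_naturality, Iso.inv_hom_id_assoc]
      rfl
    let φx : (VecGrp.pt k k ⟶ G) → (HA →ₐ[k] k) := fun x =>
      { (GrpSch.FunPts.ev x).comp (GrpSch.LinearAction.val u) with
        commutes' := fun r => (hC x r).trans (by simp) }
    choose pre hpre using hbij.2
    obtain ⟨n, a, b, hΔ, hε, hli, hb, hsb⟩ :=
      GrpSch.MatRep.exists_comatrix_basis (k := k) (s.image pre)
    have hcoef : ∀ f ∈ s, ∃ c : Fin n → k, ∑ j, c j • b j = pre f := fun f hf =>
      (Submodule.mem_span_range_iff_exists_fun k).1 (hsb (Finset.mem_image_of_mem pre hf))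
    choose! cc hcc using hcoef
    let γB : ∀ (B : Type u) [CommRing B] [Algebra k B], Γ((VecGrp.pt k B).left, ⊤) →+* B :=
      fun B _ _ => (Scheme.ΓSpecIso (CommRingCat.of B)).hom.hom
    let R : ∀ (B : Type u) [CommRing B] [Algebra k B], (VecGrp.pt k B ⟶ G) →* Matrix (Fin n) (Fin n) B :=
      fun B _ _ =>
      { toFun := fun g => (γB B).mapMatrix (a.map (GrpSch.LinearAction.val (g ≫ u)))
        map_one' := by
          rw [MonObj.one_comp, (GrpSch.LinearAction.val_mul (1 : VecGrp.pt k B ⟶ _) 1 a hΔ hε).2, map_one]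
        map_mul' := fun g h => by
          rw [MonObj.mul_comp, (GrpSch.LinearAction.val_mul _ _ a hΔ hε).1, map_mul] }
    have hRnat : ∀ {B B' : Type u} [CommRing B] [Algebra k B] [CommRing B'] [Algebra k B'] (φ : B →ₐ[k] B')
        (g : VecGrp.pt k B ⟶ G), R B' (VecGrp.ptMap φ ≫ g) = (R B g).map φ := fun {B B'} _ _ _ _ φ g => by
      ext i j
      change (Scheme.ΓSpecIso (CommRingCat.of B')).hom ((Spec.map (CommRingCat.ofHom φ.toRingHom)).appTop
        (GrpSch.LinearAction.val (g ≫ u) (a i j))) =
          φ ((Scheme.ΓSpecIso (CommRingCat.of B)).hom (GrpSch.LinearAction.val (g ≫ u) (a i j)))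
      exact congrArg (fun f => f.hom (GrpSch.LinearAction.val (g ≫ u) (a i j)))
        (Scheme.ΓSpecIso_naturality (CommRingCat.ofHom φ.toRingHom))
    let fs : Fin s.card → Γ(G.left, ⊤) := fun l => (s.equivFin.symm l).1
    let R' : ∀ (B : Type u) [CommRing B] [Algebra k B],
        (VecGrp.pt k B ⟶ G) →* Matrix (Fin n × Fin s.card) (Fin n × Fin s.card) B := fun B _ _ =>
      { toFun := fun g => Matrix.blockDiagonal fun _ => R B g
        map_one' := by rw [map_one]; exact Matrix.blockDiagonal_one
        map_mul' := fun g h => by rw [map_mul]; exact Matrix.blockDiagonal_mul _ _ }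
    obtain ⟨ρ, hρ⟩ := GrpSch.MatRep.exists_gmod (G := G) (nn := Fin n × Fin s.card) R'
      (fun {B B'} _ _ _ _ φ g => by
        change (Matrix.blockDiagonal fun _ => R B' (VecGrp.ptMap φ ≫ g)) = (Matrix.blockDiagonal fun _ => R B g).map φ
        rw [Matrix.blockDiagonal_map _ _ (map_zero φ)]
        congr 1
        funext l
        exact hRnat φ g)
    refine ⟨Fin n × Fin s.card → k, inferInstance, inferInstance, inferInstance, ρ, fun p => cc (fs p.2) p.1,
      fun g => ?_⟩
    rw [hρ]
    have hfix : (R' k g).mulVec (fun p => cc (fs p.2) p.1) = (fun p => cc (fs p.2) p.1) ↔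
        ∀ f ∈ s, (R k g).mulVec (cc f) = cc f := by
      have hmv : ∀ p : Fin n × Fin s.card, (R' k g).mulVec (fun p => cc (fs p.2) p.1) p =
          (R k g).mulVec (cc (fs p.2)) p.1 := fun p => by
        simp [R', Matrix.mulVec, dotProduct, Matrix.blockDiagonal_apply, Fintype.sum_prod_type]
      constructor
      · intro h f hf
        funext j
        have := (hmv (j, s.equivFin ⟨f, hf⟩)).symm.trans (congrFun h _)
        simpa [fs] using this
      · intro h
        funext p
        rw [hmv, h _ (s.equivFin.symm p.2).2]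
    rw [hfix]
    let e : Fin n → k := fun i => Coalgebra.counit (R := k) (b i)
    have hw : ∀ (x : VecGrp.pt k k ⟶ G) (j : Fin n), φx x (b j) = ∑ i, e i * R k x i j := fun x j => by
      rw [hb j, map_sum]
      refine Finset.sum_congr rfl fun i _ => ?_
      rw [map_smul, smul_eq_mul]
      rfl
    have hf0 : ∀ f ∈ s, ∀ x, GrpSch.FunPts.ev x f = ∑ j, cc f j * φx x (b j) := fun f hf x => by
      conv_lhs => rw [← hpre f]
      change φx x (pre f) = _
      rw [← hcc f hf, map_sum]
      exact Finset.sum_congr rfl fun j _ => by rw [map_smul, smul_eq_mul]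
    have hwg : ∀ f ∈ s, ∀ x, GrpSch.FunPts.ev (x * g) f = ∑ j, (R k g).mulVec (cc f) j * φx x (b j) := fun f hf x => by
      have h1 : (fun j => φx x (b j)) = Matrix.vecMul e (R k x) := funext fun j => hw x j
      have h2 : (fun j => φx (x * g) (b j)) = Matrix.vecMul e (R k x * R k g) := by
        funext j; rw [hw, map_mul]; rfl
      rw [hf0 f hf]
      change dotProduct (cc f) (fun j => φx (x * g) (b j)) = dotProduct ((R k g).mulVec (cc f)) (fun j => φx x (b j))
      rw [h1, h2, ← Matrix.vecMul_vecMul, dotProduct_comm (cc f), ← Matrix.dotProduct_mulVec, dotProduct_comm]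
    constructor
    · intro h
      obtain ⟨t, ht⟩ := hs 1 g fun f hf => (hevγ _ _ _).2 (by
        have := hwg f hf 1
        rw [_root_.one_mul, h f hf, ← hf0 f hf 1] at this
        exact this.symm)
      exact ⟨t, by rw [ht, _root_.one_mul]⟩
    · rintro ⟨t, rfl⟩ f hf
      have hz : ∀ x, φx x (∑ j, ((R k (t ≫ i)).mulVec (cc f) j - cc f j) • b j) = 0 := fun x => by
        rw [map_sum]
        simp only [map_smul, smul_eq_mul, sub_mul, Finset.sum_sub_distrib]
        rw [← hwg f hf x, ← hf0 f hf x, (GrpSch.FunPts.isRTransInv_hom_iff i f).1 (hs1 f hf) x t, sub_self]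
      have h0 : (∑ j, ((R k (t ≫ i)).mulVec (cc f) j - cc f j) • b j) = 0 := hbij.1 (by
        rw [map_zero]
        exact GrpSch.FunPts.ext_ev fun x => by rw [map_zero]; exact hz x)
      funext j
      exact sub_eq_zero.1 (Fintype.linearIndependent_iff.1 hli _ h0 j)
  tfae_have 2 → 1 := by
    rintro ⟨V, _, _, _, ρ, v, hstab⟩ g hg
    refine (hstab g).1 ?_
    let bas := Module.finBasis k V
    refine (bas.baseChange k).ext_elem fun j => ?_
    have hrepr : ∀ w : k ⊗[k] V,
        (bas.baseChange k).repr w j = TensorProduct.rid k k ((bas.coord j).lTensor k w) := fun w => by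
      induction w using TensorProduct.induction_on with
      | zero => simp
      | tmul a c => simp
      | add a c ha hc => simp only [map_add, Finsupp.add_apply, ha, hc]
    rw [hrepr, hrepr]
    obtain ⟨C, hC, hC2⟩ := S11405.exists_coeff ρ (bas.coord j) v
    have hev : ∀ x : VecGrp.pt k k ⟶ G,
        TensorProduct.rid k k ((bas.coord j).lTensor k (ρ.ρ k x (1 ⊗ₜ[k] v))) =
          GrpSch.FunPts.ev x (C G (𝟙 G)) := fun x => by
      have := hC2 k G (𝟙 G) x
      rw [Category.comp_id] at this
      exact this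
    have hinv : AGF.IsRTransInv i (C G (𝟙 G)) := (GrpSch.FunPts.isRTransInv_hom_iff i _).2 fun x t => by
      rw [← hev, ← hev, map_mul]
      congr 2
      exact congrArg (ρ.ρ k x) ((hstab (t ≫ i)).2 ⟨t, rfl⟩)
    have := (GrpSch.FunPts.isRTransInv_pt_iff g _).1 (hg _ hinv) 1
    rw [_root_.one_mul, ← hev, ← hev, map_one] at this
    exact this
  tfae_finish

end Groth.Agent.S11188
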