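import Groth.Statements.S11189
import Groth.Agent.GrpSch.FunPts
import Groth.Agent.GrpSch.QuotRed
import Groth.Agent.GrpSch.Desc
import Groth.Agent.GrpSch.LinearAction
import Groth.Agent.AlgSpc.FppfGlue
import Mathlib.AlgebraicGeometry.ZariskisMainTheorem

set_option autoImplicit false
set_option backward.isDefEq.respectTransparency.types false
universe u
open CategoryTheory MonoidalCategory CartesianMonoidalCategory MonObj GrpObj AlgebraicGeometry
open scoped TensorProduct
open AGF

namespace Groth.Agent.S11189

open GrpSch GrpSch.FunPts GrpSch.QuotRed CategoryTheory.Limits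
attribute [local instance] GrpSch.JointInj.algΓ

variable {k : Type u} [Field k]

/-- rational points of a scheme locally of finite type are determined by their image point -/
lemma ext_imP [IsAlgClosed k] {X : Over (Spec (CommRingCat.of k))} [LocallyOfFiniteType X.hom] [IsSeparated X.hom]
    {x y : VecGrp.pt k k ⟶ X} (h : imP x = imP y) : x = y := by
  apply Over.OverMorphism.ext
  haveI : AlgebraicGeometry.IsReduced (VecGrp.pt k k).left := inferInstanceAs (AlgebraicGeometry.IsReduced (Spec _))
  haveI : LocallyOfFiniteType (x.left ≫ X.hom) := by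
    rw [Over.w]
    change LocallyOfFiniteType (Spec.map (CommRingCat.ofHom (algebraMap k k)))
    rw [Algebra.algebraMap_self, CommRingCat.ofHom_id, Spec.map_id]
    infer_instance
  refine ext_of_apply_eq X.hom Set.univ isOpen_univ.isLocallyClosed dense_univ ?_ ?_
  · intro w _ _
    rw [Subsingleton.elim (α := PrimeSpectrum k) w (IsLocalRing.closedPoint k)]
    exact h
  · rw [Over.w, Over.w]

/-- rational points are closed -/
lemma isClosed_imP [IsAlgClosed k] {X : Over (Spec (CommRingCat.of k))} [LocallyOfFiniteType X.hom]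
    (x : VecGrp.pt k k ⟶ X) : IsClosed ({imP x} : Set X.left) := by
  haveI : JacobsonSpace X.left := LocallyOfFiniteType.jacobsonSpace X.hom
  have hI : LocallyOfFiniteType (x.left ≫ X.hom) := by
    rw [Over.w]
    change LocallyOfFiniteType (Spec.map (CommRingCat.ofHom (algebraMap k k)))
    rw [Algebra.algebraMap_self, CommRingCat.ofHom_id, Spec.map_id]
    infer_instance
  haveI : LocallyOfFiniteType x.left := locallyOfFiniteType_of_comp x.left X.hom
  exact x.left.closePoints_subset_preimage_closedPoints
    (show (IsLocalRing.closedPoint k : PrimeSpectrum k) ∈ _ from IsLocalRing.isClosed_singleton_closedPoint k)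

/-- quasi-finiteness from injectivity on rational points -/
lemma lqf_of_injective_pts [IsAlgClosed k] {X Y : Over (Spec (CommRingCat.of k))}
    [LocallyOfFiniteType X.hom] [IsSeparated X.hom] [IsSeparated Y.hom] [LocallyOfFiniteType Y.hom] (φ : X ⟶ Y)
    [LocallyOfFiniteType φ.left] [IsSeparated φ.left] [QuasiCompact φ.left]
    (h : ∀ x y : VecGrp.pt k k ⟶ X, x ≫ φ = y ≫ φ → x = y) : LocallyQuasiFinite φ.left := by
  haveI : JacobsonSpace X.left := LocallyOfFiniteType.jacobsonSpace X.hom
  have hall : ∀ x, φ.left.QuasiFiniteAt x := by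
    obtain ⟨U, -, hU⟩ := Scheme.Hom.exists_isIso_morphismRestrict_toNormalization φ.left
    have ho : IsOpen {x | φ.left.QuasiFiniteAt x} := hU ▸ (φ.left.toNormalization ⁻¹ᵁ U).2
    by_contra! hne
    obtain ⟨z, hz⟩ := hne
    obtain ⟨w, hw, hwc⟩ := nonempty_inter_closedPoints (X := X.left)
      (Z := {x | φ.left.QuasiFiniteAt x}ᶜ) ⟨z, hz⟩ ho.isClosed_compl.isLocallyClosed
    refine hw ?_
    obtain ⟨x, rfl⟩ := exists_pt X hwc
    have hyc : IsClosed ({φ.left (imP x)} : Set Y.left) := by
      exact isClosed_imP (x ≫ φ)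
    have hsing : φ.left ⁻¹' {φ.left (imP x)} = {imP x} := by
      refine Set.eq_singleton_iff_unique_mem.2 ⟨rfl, fun w hw => ?_⟩
      by_contra hne
      obtain ⟨v, hv, hvc⟩ := nonempty_inter_closedPoints (X := X.left)
        (Z := φ.left ⁻¹' {φ.left (imP x)} \ {imP x}) ⟨w, hw, hne⟩
        ((hyc.preimage φ.left.continuous).isLocallyClosed.inter hwc.isOpen_compl.isLocallyClosed)
      obtain ⟨y, rfl⟩ := exists_pt X hvc
      exact hv.2 (congrArg imP (h y x (ext_imP hv.1)))
    rw [Set.mem_setOf_eq, Scheme.Hom.quasiFiniteAt_iff_isOpen_singleton_asFiber,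
      ← (φ.left.fiberHomeo (φ.left (imP x))).isOpen_image]
    simp only [Set.image_singleton, Scheme.Hom.asFiber, Homeomorph.apply_symm_apply]
    haveI : Subsingleton ↥(φ.left ⁻¹' {φ.left (imP x)}) :=
      Set.subsingleton_coe _ |>.2 (hsing ▸ Set.subsingleton_singleton)
    exact isOpen_discrete _
  refine locallyQuasiFinite_iff_isDiscrete_preimage_singleton.2 fun y => ⟨discreteTopology_iff_isOpen_singleton.2 ?_⟩
  rintro ⟨z, hz⟩
  obtain rfl : φ.left z = y := hz
  have := (Scheme.Hom.quasiFiniteAt_iff_isOpen_singleton_asFiber).1 (hall z)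
  rw [← (φ.left.fiberHomeo (φ.left z)).isOpen_image] at this
  simp only [Set.image_singleton, Scheme.Hom.asFiber, Homeomorph.apply_symm_apply] at this
  exact this

/-- Let k be an algebraically closed field, G a linear algebraic group over k (an affine smooth group
scheme over k) and H a closed subgroup of G (a smooth closed subgroup scheme, i : H → G), and let X,
with G-action a and base point o, be the quotient G/H. Then H is observable in G if and only if X is
quasi-affine (quasi-compact and an open subscheme of an affine scheme). -/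
theorem result (k : Type u) [Field k] [IsAlgClosed k]
    (G : Over (Spec (CommRingCat.of k))) [GrpObj G] [IsAffine G.left] [Smooth G.hom]
    (H : Over (Spec (CommRingCat.of k))) [GrpObj H] [Smooth H.hom] (i : H ⟶ G) [IsMonHom i]
    [IsClosedImmersion i.left]
    (X : Over (Spec (CommRingCat.of k))) (a : AlgGrp.Action G X) (o : 𝟙_ (Over (Spec (CommRingCat.of k))) ⟶ X)
    (hX : AGF.IsQuotient i X a o) :
    AGF.IsObservableIn k i ↔ X.left.IsQuasiAffine := by
  classical
  obtain ⟨hlft, hflat, hsurj, hpb⟩ := hX
  haveI := hlft; haveI := hflat; haveI := hsurj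
  haveI := fppf_orbit a o hlft
  haveI hXsep : IsSeparated X.hom := isSeparated_of_isQuotient i a o ⟨hlft, hflat, hsurj, hpb⟩
  haveI := GrpSch.isReduced_of_smooth G
  haveI : JacobsonSpace X.left := LocallyOfFiniteType.jacobsonSpace X.hom
  haveI : JacobsonSpace G.left := LocallyOfFiniteType.jacobsonSpace G.hom
  haveI : CompactSpace X.left := ⟨by
    rw [← (a.orbitMap o).left.surjective.range_eq]
    exact isCompact_range (Scheme.Hom.continuous _)⟩
  have horb : ∀ x y : VecGrp.pt k k ⟶ G, x ≫ a.orbitMap o = y ≫ a.orbitMap o →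
      ∃ h : VecGrp.pt k k ⟶ H, x * (h ≫ i) = y := fun x y hxy => by
    refine ⟨hpb.lift x y hxy ≫ snd G H, ?_⟩
    have h1 : lift (hpb.lift x y hxy ≫ fst G H) (hpb.lift x y hxy ≫ snd G H) = hpb.lift x y hxy := by
      apply CartesianMonoidalCategory.hom_ext <;> simp
    have h2 := hpb.lift_snd x y hxy
    rw [← h1, lift_whiskerLeft_assoc, hpb.lift_fst, ← Hom.mul_def] at h2
    exact h2
  constructor
  · intro hobs
    -- finitely many invariants separating what all invariants separate
    obtain ⟨s, hs1, hs⟩ : ∃ s : Finset Γ(G.left, ⊤), (∀ f ∈ s, AGF.IsRTransInv i f) ∧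
        ∀ x y : VecGrp.pt k k ⟶ G, (∀ f ∈ s, ev x f = ev y f) →
          ∀ f, AGF.IsRTransInv i f → ev x f = ev y f := by
      haveI : IsAffine (G ⊗ G).left := GrpSch.AffEnv.isAffine_tensor _ _
      haveI : LocallyOfFiniteType (G ⊗ G).hom :=
        MorphismProperty.comp_mem _ _ _ (MorphismProperty.pullback_fst _ _ inferInstance) inferInstance
      haveI : IsLocallyNoetherian (G ⊗ G).left := LocallyOfFiniteType.isLocallyNoetherian (G ⊗ G).hom
      haveI : IsNoetherianRing Γ((G ⊗ G).left, ⊤) :=
        IsLocallyNoetherian.component_noetherian ⟨⊤, isAffineOpen_top _⟩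
      let d : Γ(G.left, ⊤) → Γ((G ⊗ G).left, ⊤) := fun f =>
        (fst G G).left.appTop f - (snd G G).left.appTop f
      have hd : ∀ f (x y : VecGrp.pt k k ⟶ G), ev (lift x y) (d f) = ev x f - ev y f := fun f x y => by
        rw [map_sub, ← ev_comp, ← ev_comp, lift_fst, lift_snd]
      let S : Set Γ((G ⊗ G).left, ⊤) := d '' {f | AGF.IsRTransInv i f}
      obtain ⟨t, htS, ht⟩ := Submodule.fg_span_iff_fg_span_finset_subset S |>.1
        (IsNoetherian.noetherian (Submodule.span Γ((G ⊗ G).left, ⊤) S))
      choose F hF1 hF2 using fun z : t => htS z.2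
      refine ⟨t.attach.image F, fun f hf => ?_, fun x y hxy f hf => ?_⟩
      · obtain ⟨z, -, rfl⟩ := Finset.mem_image.1 hf
        exact hF1 z
      have hm : d f ∈ Ideal.span (t : Set Γ((G ⊗ G).left, ⊤)) := by
        have : d f ∈ Submodule.span Γ((G ⊗ G).left, ⊤) S := Submodule.subset_span ⟨f, hf, rfl⟩
        rwa [ht] at this
      have hle : Ideal.span (t : Set Γ((G ⊗ G).left, ⊤)) ≤ RingHom.ker (ev (lift x y)) :=
        Ideal.span_le.2 fun z hz => by
          rw [SetLike.mem_coe, RingHom.mem_ker, show z = d _ from (hF2 ⟨z, hz⟩).symm, hd, sub_eq_zero]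
          exact hxy _ (Finset.mem_image.2 ⟨_, Finset.mem_attach _ _, rfl⟩)
      have := hle hm
      rwa [RingHom.mem_ker, hd, sub_eq_zero] at this
    let fs : Fin s.card → Γ(G.left, ⊤) := fun j => (s.equivFin.symm j).1
    obtain ⟨w, hw⟩ := LinearAction.exists_coords (T := G) fs
    obtain ⟨φ, hφ, -⟩ := Desc.exists_desc (a.orbitMap o) w (fun T u v huv => by
      rw [← hpb.lift_fst u v huv]
      conv_rhs => rw [← hpb.lift_snd u v huv]
      simp only [Category.assoc]
      congr 1
      refine LinearAction.ext_coords ?_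
      rw [← Category.assoc, LinearAction.coords_comp, LinearAction.coords_comp, hw]
      funext j
      exact (hs1 _ (s.equivFin.symm j).2).symm)
    haveI : IsAffineHom (LinearAction.affSp k s.card).hom := isAffineHom_of_isAffine _
    haveI : LocallyOfFiniteType (LinearAction.affSp k s.card).hom :=
      (HasRingHomProperty.Spec_iff (P := @LocallyOfFiniteType)).2
        (RingHom.finiteType_algebraMap.2 inferInstance)
    haveI : LocallyOfFiniteType (φ.left ≫ (LinearAction.affSp k s.card).hom) := by rw [Over.w]; infer_instance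
    haveI : LocallyOfFiniteType φ.left := locallyOfFiniteType_of_comp _ (LinearAction.affSp k s.card).hom
    haveI : IsSeparated (φ.left ≫ (LinearAction.affSp k s.card).hom) := by rw [Over.w]; infer_instance
    haveI : IsSeparated φ.left := IsSeparated.of_comp φ.left (LinearAction.affSp k s.card).hom
    haveI : QuasiCompact φ.left := quasiCompact_of_compactSpace _
    haveI : LocallyQuasiFinite φ.left := lqf_of_injective_pts φ fun x y hxy => by
      have hlift : ∀ z : VecGrp.pt k k ⟶ X, ∃ g : VecGrp.pt k k ⟶ G, g ≫ a.orbitMap o = z := fun z => by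
        obtain ⟨v, hv, hvc⟩ := nonempty_inter_closedPoints (X := G.left)
          (Z := (a.orbitMap o).left ⁻¹' {imP z}) ((a.orbitMap o).left.surjective _)
          ((isClosed_imP z).preimage (Scheme.Hom.continuous _)).isLocallyClosed
        obtain ⟨g, rfl⟩ := exists_pt G hvc
        exact ⟨g, ext_imP hv⟩
      obtain ⟨p, rfl⟩ := hlift x
      obtain ⟨q, rfl⟩ := hlift y
      rw [Category.assoc, Category.assoc, hφ] at hxy
      have hpq : ∀ f, AGF.IsRTransInv i f → ev p f = ev q f := hs p q fun f hf => by
        have h1 := congrArg (fun z => LinearAction.coords z (s.equivFin ⟨f, hf⟩)) hxy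
        simp only [LinearAction.coords_comp, hw, Function.comp_apply, fs, Equiv.symm_apply_apply] at h1
        exact congrArg (Scheme.ΓSpecIso (CommRingCat.of k)).hom h1
      obtain ⟨h, hh⟩ := hobs (p⁻¹ * q) fun f hf => (isRTransInv_pt_iff _ f).2 fun z => by
        obtain ⟨c, hc⟩ := exists_unit_pt (z * p⁻¹)
        let f' := ((toUnit G ≫ c) * 𝟙 G).left.appTop f
        have hf' : ∀ v, ev v f' = ev (z * p⁻¹ * v) f := fun v => by
          rw [← ev_comp, MonObj.comp_mul, comp_toUnit_assoc, Category.comp_id, hc]
        have hinv : AGF.IsRTransInv i f' := (isRTransInv_hom_iff i f').2 fun v t => by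
          rw [hf', hf', ← _root_.mul_assoc]
          exact (isRTransInv_hom_iff i f).1 hf _ t
        have := hpq f' hinv
        rw [hf', hf', inv_mul_cancel_right] at this
        rw [← _root_.mul_assoc]
        exact this.symm
      have e : q = p * (h ≫ i) := by rw [hh, mul_inv_cancel_left]
      have h3 := hpb.w
      have : lift p h ≫ fst G H ≫ a.orbitMap o = lift p h ≫ ((G ◁ i) ≫ μ[G]) ≫ a.orbitMap o :=
        congrArg (lift p h ≫ ·) h3
      rw [lift_fst_assoc, Category.assoc, lift_whiskerLeft_assoc, ← Category.assoc, ← Hom.mul_def, ← e] at this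
      exact this
    haveI : IsAffine (LinearAction.affSp k s.card).left := inferInstance
    exact AlgSpc.FppfDescent.isQuasiAffine_of_locallyQuasiFinite φ.left
  · intro hqa g hg
    haveI := hqa
    have hev : ∀ F : Γ(X.left, ⊤), ev (g ≫ a.orbitMap o) F = ev ((1 : VecGrp.pt k k ⟶ G) ≫ a.orbitMap o) F :=
      fun F => by
        have hinv : AGF.IsRTransInv i ((a.orbitMap o).left.appTop F) := by
          change ((G ◁ i) ≫ μ[G]).left.appTop _ = (fst G H).left.appTop _
          rw [← CommRingCat.comp_apply, ← CommRingCat.comp_apply, ← Scheme.Hom.comp_appTop,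
            ← Scheme.Hom.comp_appTop, ← Over.comp_left, ← Over.comp_left, hpb.w]
        have := (isRTransInv_pt_iff g _).1 (hg _ hinv) 1
        rw [_root_.one_mul, ← ev_comp, ← ev_comp] at this
        exact this
    have heq : g ≫ a.orbitMap o = (1 : VecGrp.pt k k ⟶ G) ≫ a.orbitMap o := by
      apply Over.OverMorphism.ext
      rw [← cancel_mono X.left.toSpecΓ]
      apply ext_of_isAffine
      refine CommRingCat.hom_ext (RingHom.ext fun F => ?_)
      rw [Scheme.Hom.comp_appTop, Scheme.Hom.comp_appTop, Scheme.toSpecΓ_appTop]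
      exact (ConcreteCategory.bijective_of_isIso (Scheme.ΓSpecIso (CommRingCat.of k)).hom).1 (hev _)
    obtain ⟨h, hh⟩ := horb 1 g heq.symm
    exact ⟨h, by rwa [_root_.one_mul] at hh⟩

end Groth.Agent.S11189
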