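import Groth.Statements.S11191
import Groth.Agent.GrpSch.FunPts
import Groth.Agent.GrpSch.JointInj

set_option autoImplicit false
set_option backward.isDefEq.respectTransparency.types false
universe u
open CategoryTheory MonoidalCategory CartesianMonoidalCategory MonObj GrpObj AlgebraicGeometry
open scoped TensorProduct
open AGF

namespace Groth.Agent.S11191

open GrpSch GrpSch.FunPts CategoryTheory.Limits
attribute [local instance] GrpSch.JointInj.algΓ

/-- the test object of an affine scheme -/
lemma exists_toPt (k : Type u) [Field k] (T : Over (Spec (CommRingCat.of k))) [IsAffine T.left] :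
    ∃ t : T ≅ VecGrp.pt k Γ(T.left, ⊤), t.hom.left = T.left.toSpecΓ := by
  haveI : IsIso T.left.toSpecΓ := inferInstance
  refine ⟨Over.isoMk (asIso T.left.toSpecΓ) ?_, rfl⟩
  change T.left.toSpecΓ ≫ Spec.map ((Scheme.ΓSpecIso (CommRingCat.of k)).inv ≫ T.hom.appTop) = T.hom
  rw [Spec.map_comp, ← Scheme.toSpecΓ_naturality_assoc, toSpecΓ_SpecMap_ΓSpecIso_inv, Category.comp_id]

/-- coefficient functions on affine test schemes -/
lemma exists_coeff {k : Type u} [Field k] {G : Over (Spec (CommRingCat.of k))} [GrpObj G]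
    {M : Type u} [AddCommGroup M] [Module k M] (m : VecGrp.GMod G M) (lam : M →ₗ[k] k) (v : M) :
    ∃ C : ∀ (T : Over (Spec (CommRingCat.of k))) [IsAffine T.left], (T ⟶ G) → Γ(T.left, ⊤),
      (∀ (T T' : Over (Spec (CommRingCat.of k))) [IsAffine T.left] [IsAffine T'.left] (h : T' ⟶ T) (pg : T ⟶ G),
        C T' (h ≫ pg) = h.left.appTop.hom (C T pg)) ∧
      ∀ (T : Over (Spec (CommRingCat.of k))) [IsAffine T.left] (pg : T ⟶ G) (e : VecGrp.pt k k ⟶ T),
        (TensorProduct.rid k k) (lam.lTensor k (m.ρ k (e ≫ pg) (1 ⊗ₜ[k] v))) =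
          (Scheme.ΓSpecIso (CommRingCat.of k)).hom.hom (e.left.appTop.hom (C T pg)) := by
  let cB : ∀ (B : Type u) [CommRing B] [Algebra k B], (VecGrp.pt k B ⟶ G) → B := fun B _ _ pg =>
    TensorProduct.rid k B (lam.lTensor B (m.ρ B pg (1 ⊗ₜ[k] v)))
  have hnat : ∀ {B B' : Type u} [CommRing B] [Algebra k B] [CommRing B'] [Algebra k B'] (φ : B →ₐ[k] B')
      (pg : VecGrp.pt k B ⟶ G), cB B' (VecGrp.ptMap φ ≫ pg) = φ (cB B pg) := by
    intro B B' _ _ _ _ φ pg
    simp only [cB]
    have h := m.naturality φ pg (1 ⊗ₜ[k] v)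
    rw [VecGrp.Wmap_tmul, map_one] at h
    rw [← h]
    generalize m.ρ B pg (1 ⊗ₜ[k] v) = x
    induction x using TensorProduct.induction_on with
    | zero => simp
    | tmul b w => simp [map_smul]
    | add x y hx hy => simp only [map_add, hx, hy]
  choose t ht using fun (T : Over (Spec (CommRingCat.of k))) (_ : IsAffine T.left) => exists_toPt k T
  refine ⟨fun T i pg => cB Γ(T.left, ⊤) ((t T i).inv ≫ pg), fun T T' i i' h pg => ?_, fun T i pg e => ?_⟩
  · let φ : Γ(T.left, ⊤) →ₐ[k] Γ(T'.left, ⊤) :=
      { h.left.appTop.hom with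
        commutes' := fun r => by
          change ((Scheme.ΓSpecIso (CommRingCat.of k)).inv ≫ T.hom.appTop ≫ h.left.appTop).hom r = _
          rw [← Scheme.Hom.comp_appTop, Over.w h]
          rfl }
    have e1 : (t T' i').inv ≫ h = VecGrp.ptMap φ ≫ (t T i).inv := by
      rw [Iso.inv_comp_eq, ← Category.assoc, Iso.eq_comp_inv]
      apply Over.OverMorphism.ext
      rw [Over.comp_left, Over.comp_left, ht, ht]
      exact Scheme.toSpecΓ_naturality h.left
    change cB _ ((t T' i').inv ≫ h ≫ pg) = φ (cB _ ((t T i).inv ≫ pg))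
    rw [← Category.assoc, e1, Category.assoc, hnat]
  · let φ : Γ(T.left, ⊤) →ₐ[k] k :=
      { (e.left.appTop ≫ (Scheme.ΓSpecIso (CommRingCat.of k)).hom).hom with
        commutes' := fun r => by
          change ((Scheme.ΓSpecIso (CommRingCat.of k)).inv ≫ T.hom.appTop ≫ e.left.appTop ≫
            (Scheme.ΓSpecIso (CommRingCat.of k)).hom).hom r = _
          rw [← Category.assoc T.hom.appTop, ← Scheme.Hom.comp_appTop, Over.w e]
          change ((Scheme.ΓSpecIso (CommRingCat.of k)).inv ≫ (Spec.map (CommRingCat.ofHom (algebraMap k k))).appTop ≫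
            (Scheme.ΓSpecIso (CommRingCat.of k)).hom).hom r = _
          rw [Scheme.ΓSpecIso_naturality, Iso.inv_hom_id_assoc]
          rfl }
    have e1 : e = VecGrp.ptMap φ ≫ (t T i).inv := by
      rw [Iso.eq_comp_inv]
      apply Over.OverMorphism.ext
      rw [Over.comp_left, ht]
      change _ = Spec.map (e.left.appTop ≫ (Scheme.ΓSpecIso (CommRingCat.of k)).hom)
      rw [Scheme.toSpecΓ_naturality, Spec.map_comp, SpecMap_ΓSpecIso_hom]
      rfl
    change cB k (e ≫ pg) = φ (cB _ ((t T i).inv ≫ pg))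
    conv_lhs => rw [e1, Category.assoc]
    rw [hnat]


/-- Let k be an algebraically closed field, G a linear algebraic group over k (an affine smooth group
scheme over k) and H a closed subgroup of G (a smooth closed subgroup scheme, i : H → G), and let M
be a rational G-module. Then every H-invariant element of M is fixed by the observable hull of H: if
a rational point g of G fixes under right translation every right-H-invariant global function on G,
then g fixes every H-invariant element of M. (The published statement is for a commutative algebra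
with a rational action by automorphisms; the multiplication plays no role and the row is stated for
modules.) -/
theorem result (k : Type u) [Field k] [IsAlgClosed k]
    (G : Over (Spec (CommRingCat.of k))) [GrpObj G] [IsAffine G.left] [Smooth G.hom]
    (H : Over (Spec (CommRingCat.of k))) [GrpObj H] [Smooth H.hom] (i : H ⟶ G) [IsMonHom i]
    [IsClosedImmersion i.left]
    (M : Type u) [AddCommGroup M] [Module k M] (ρ : VecGrp.GMod G M)
    (g : VecGrp.pt k k ⟶ G) (hg : ∀ f : Γ(G.left, ⊤), AGF.IsRTransInv i f → AGF.IsRTransInv g f)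
    (a : M) (ha : a ∈ ρ.fixedUnder i) :
    ρ.ρ k g ((1 : k) ⊗ₜ[k] a) = (1 : k) ⊗ₜ[k] a := by
  obtain ⟨y, hy⟩ := (TensorProduct.lid k M).symm.surjective (ρ.ρ k g ((1 : k) ⊗ₜ[k] a))
  suffices hya : y = a by rw [← hy, hya]; rfl
  rw [← sub_eq_zero, ← Module.forall_dual_apply_eq_zero_iff k]
  intro lam
  obtain ⟨C, hC1, hC2⟩ := exists_coeff ρ lam a
  let f : Γ(G.left, ⊤) := C G (𝟙 G)
  have hf : ∀ x : VecGrp.pt k k ⟶ G,
      ev x f = TensorProduct.rid k k (lam.lTensor k (ρ.ρ k x ((1 : k) ⊗ₜ[k] a))) := fun x => by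
    have := hC2 G (𝟙 G) x
    rw [Category.comp_id] at this
    exact this.symm
  have hinv : AGF.IsRTransInv i f := (isRTransInv_hom_iff i f).2 fun x s => by
    rw [hf, hf, map_mul, LinearEquiv.mul_apply, ha k s]
  have h1 := (isRTransInv_pt_iff g f).1 (hg f hinv) 1
  rw [_root_.one_mul, hf, hf, map_one, LinearEquiv.coe_one, id, ← hy] at h1
  simp only [TensorProduct.lid_symm_apply, LinearMap.lTensor_tmul, TensorProduct.rid_tmul, smul_eq_mul,
    _root_.mul_one] at h1
  rw [map_sub, h1, sub_self]

end Groth.Agent.S11191
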