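import Groth.Statements.S11192
import Groth.Agent.GrpSch.JointInj
import Groth.Agent.NormalSmooth.Basic
import Groth.Agent.RegLocus.NormalConn

set_option backward.isDefEq.respectTransparency.types false

set_option autoImplicit false
universe u
open CategoryTheory MonoidalCategory CartesianMonoidalCategory MonObj GrpObj AlgebraicGeometry
open scoped TensorProduct
open AGF

namespace Groth.Agent.S11192

attribute [local instance] GrpSch.JointInj.algΓ

lemma eqLocus_isIntegrallyClosed {R T : Type u} [CommRing R] [CommRing T] [IsDomain R] [IsIntegrallyClosed R]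
    (φ ψ : R →+* T) (hψ : ∀ b : R, b ≠ 0 → IsLeftRegular (ψ b)) :
    IsIntegrallyClosed ↥(RingHom.eqLocus φ ψ) := by
  let S := RingHom.eqLocus φ ψ
  rw [isIntegrallyClosed_iff (FractionRing ↥S)]
  intro x hx
  have hinj : Function.Injective ((algebraMap R (FractionRing R)).comp S.subtype) :=
    (IsFractionRing.injective R (FractionRing R)).comp Subtype.val_injective
  let j : FractionRing ↥S →+* FractionRing R := IsFractionRing.lift hinj
  have hj : ∀ s : ↥S, j (algebraMap _ _ s) = algebraMap R _ (s : R) := fun s => by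
    simp [j, IsFractionRing.lift_algebraMap]
  obtain ⟨p, hp, he⟩ := hx
  have hint : IsIntegral R (j x) := by
    refine ⟨p.map S.subtype, hp.map _, ?_⟩
    have h2 := congrArg j he
    rw [map_zero, Polynomial.hom_eval₂] at h2
    rw [Polynomial.eval₂_map]
    rw [← h2]
    congr 1
    exact RingHom.ext fun s => (hj s).symm
  obtain ⟨y, hy⟩ := IsIntegrallyClosed.isIntegral_iff.mp hint
  obtain ⟨a, b, hb, rfl⟩ := IsFractionRing.div_surjective (A := ↥S) x
  have hb0 : (b : R) ≠ 0 := fun h => nonZeroDivisors.ne_zero hb (Subtype.ext h)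
  have hb' : algebraMap ↥S (FractionRing ↥S) b ≠ 0 :=
    IsFractionRing.to_map_ne_zero_of_mem_nonZeroDivisors hb
  have hyb : y * (b : R) = a := by
    apply IsFractionRing.injective R (FractionRing R)
    rw [map_mul, hy, ← hj b, ← map_mul, div_mul_cancel₀ _ hb', hj]
  have hyS : φ y = ψ y := by
    refine hψ _ hb0 (?_ : ψ b * φ y = ψ b * ψ y)
    have h1 : φ b = ψ b := b.2
    have h2 : φ a = ψ a := a.2
    rw [← map_mul, mul_comm (b : R) y, hyb, ← h1, ← map_mul, mul_comm (b : R) y, hyb, h2]
  refine ⟨⟨y, hyS⟩, ?_⟩
  have hab : (⟨y, hyS⟩ : ↥S) * b = a := Subtype.ext hyb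
  rw [eq_div_iff hb', ← map_mul, hab]

/-- Let k be an algebraically closed field, G a linear algebraic group over k (an affine smooth group
scheme over k) and H a closed subgroup of G (a smooth closed subgroup scheme, i : H → G), with G
connected. Then the ring of global functions on G invariant under right translation by H is
integrally closed. -/
theorem result (k : Type u) [Field k] [IsAlgClosed k]
    (G : Over (Spec (CommRingCat.of k))) [GrpObj G] [IsAffine G.left] [Smooth G.hom]
    (H : Over (Spec (CommRingCat.of k))) [GrpObj H] [Smooth H.hom] (i : H ⟶ G) [IsMonHom i]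
    [IsClosedImmersion i.left] [ConnectedSpace G.left] :
    IsIntegrallyClosed ↥(AGF.rTransInv i) := by
  haveI : IsAffine H.left := isAffine_of_isAffineHom i.left
  haveI : IsAffine (G ⊗ H).left := inferInstanceAs (IsAffine (Limits.pullback G.hom H.hom))
  haveI hsm : Algebra.Smooth k Γ(G.left, ⊤) := by
    have h1 : RingHom.Smooth G.hom.appTop.hom := HasRingHomProperty.appTop (P := @Smooth) _ inferInstance
    have e : algebraMap k Γ(G.left, ⊤) = G.hom.appTop.hom.comp (Scheme.ΓSpecIso (CommRingCat.of k)).inv.hom := rfl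
    rw [← RingHom.smooth_algebraMap, e]
    exact RingHom.Smooth.respectsIso.2 G.hom.appTop.hom (Scheme.ΓSpecIso (CommRingCat.of k)).symm.commRingCatIsoToRingEquiv h1
  haveI : Algebra.FiniteType k Γ(G.left, ⊤) := inferInstance
  haveI : IsNoetherianRing Γ(G.left, ⊤) := Algebra.FiniteType.isNoetherianRing k _
  have hk : EGA4.IsNormalRing k := fun p _ => by
    haveI : IsDomain (Localization.AtPrime p) :=
      IsLocalization.isDomain_localization p.primeCompl_le_nonZeroDivisors
    exact ⟨inferInstance, isIntegrallyClosed_of_isLocalization _ p.primeCompl p.primeCompl_le_nonZeroDivisors⟩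
  have hn : EGA4.IsNormalRing Γ(G.left, ⊤) := NormalSmooth.isNormalRing_of_smooth k _ hk
  haveI : ConnectedSpace (PrimeSpectrum Γ(G.left, ⊤)) :=
    G.left.isoSpec.hom.homeomorph.surjective.connectedSpace G.left.isoSpec.hom.homeomorph.continuous
  obtain ⟨hnt, hid⟩ := (RegLocus.connectedSpace_iff_idempotent _).mp this
  obtain ⟨hdom, hic⟩ := RegLocus.isDomain_of_normal _ hn hid
  refine eqLocus_isIntegrallyClosed _ _ fun b hb => ?_
  haveI : Flat H.hom := inferInstance
  haveI : Flat (fst G H).left := inferInstanceAs (Flat (Limits.pullback.fst G.hom H.hom))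
  have hfl : RingHom.Flat (fst G H).left.appTop.hom := HasRingHomProperty.appTop (P := @Flat) _ inferInstance
  algebraize [(fst G H).left.appTop.hom]
  intro u v huv
  have key := (IsSMulRegular.of_flat (R := Γ(G.left, ⊤)) (S := Γ((G ⊗ H).left, ⊤))
    (IsLeftCancelMulZero.mul_left_cancel_of_ne_zero hb : IsSMulRegular Γ(G.left, ⊤) b))
  refine key ?_
  change (fst G H).left.appTop.hom b * u = (fst G H).left.appTop.hom b * v
  exact huv

end Groth.Agent.S11192
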