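import Groth.Statements.S11199
import Groth.Agent.GrpSch.FunPts

set_option autoImplicit false
set_option backward.isDefEq.respectTransparency.types false
universe u
open CategoryTheory MonoidalCategory CartesianMonoidalCategory MonObj GrpObj AlgebraicGeometry
open scoped TensorProduct
open AGF

namespace Groth.Agent.S11199

open GrpSch.FunPts

/-- Let k be an algebraically closed field, G a linear algebraic group over k (an affine smooth group
scheme over k) and H a closed subgroup of G (a smooth closed subgroup scheme, i : H → G). Then there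
are finitely many right-H-invariant global functions f₁, ..., fₙ on G which already cut out the
observable hull of H: a rational point of G whose right translation fixes each fⱼ fixes every
right-H-invariant global function. -/
theorem result (k : Type u) [Field k] [IsAlgClosed k]
    (G : Over (Spec (CommRingCat.of k))) [GrpObj G] [IsAffine G.left] [Smooth G.hom]
    (H : Over (Spec (CommRingCat.of k))) [GrpObj H] [Smooth H.hom] (i : H ⟶ G) [IsMonHom i]
    [IsClosedImmersion i.left] :
    ∃ s : Finset Γ(G.left, ⊤), (∀ f ∈ s, AGF.IsRTransInv i f) ∧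
      ∀ g : VecGrp.pt k k ⟶ G, (∀ f ∈ s, AGF.IsRTransInv g f) →
        ∀ f : Γ(G.left, ⊤), AGF.IsRTransInv i f → AGF.IsRTransInv g f := by
  classical
  haveI : IsNoetherianRing Γ(G.left, ⊤) :=
    haveI : IsLocallyNoetherian G.left := LocallyOfFiniteType.isLocallyNoetherian G.hom
    IsLocallyNoetherian.component_noetherian ⟨⊤, isAffineOpen_top _⟩
  let c : k → Γ(G.left, ⊤) := fun r => G.hom.appTop ((Scheme.ΓSpecIso (CommRingCat.of k)).inv r)
  have hc : ∀ (g : VecGrp.pt k k ⟶ G) (r : k), ev g (c r) = r := fun g r => by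
    have h := congrArg (fun φ : Γ(Spec (CommRingCat.of k), ⊤) ⟶ Γ(Spec (CommRingCat.of k), ⊤) =>
      ((Scheme.ΓSpecIso (CommRingCat.of k)).inv ≫ φ ≫
      (Scheme.ΓSpecIso (CommRingCat.of k)).hom).hom (r : (CommRingCat.of k : Type u))) (congrArg Scheme.Hom.appTop (Over.w g))
    simp only [Scheme.Hom.comp_appTop] at h
    refine h.trans ?_
    change ((Scheme.ΓSpecIso (CommRingCat.of k)).inv ≫
      (Spec.map (CommRingCat.ofHom (algebraMap k k))).appTop ≫ (Scheme.ΓSpecIso (CommRingCat.of k)).hom).hom r = r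
    rw [Scheme.ΓSpecIso_naturality, Iso.inv_hom_id_assoc]
    rfl
  let h : Γ(G.left, ⊤) → (VecGrp.pt k k ⟶ G) → Γ(G.left, ⊤) := fun f x =>
    ((toUnit G ≫ (exists_unit_pt x).choose) * 𝟙 G).left.appTop f - c (ev x f)
  have hh : ∀ f x (g : VecGrp.pt k k ⟶ G), ev g (h f x) = ev (x * g) f - ev x f := fun f x g => by
    rw [map_sub, hc, ← ev_comp, MonObj.comp_mul, comp_toUnit_assoc, Category.comp_id,
      (exists_unit_pt x).choose_spec]
  let S : Set Γ(G.left, ⊤) := {z | ∃ f x, AGF.IsRTransInv i f ∧ z = h f x}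
  obtain ⟨t, htS, ht⟩ := Submodule.fg_span_iff_fg_span_finset_subset S |>.1 ((IsNoetherian.noetherian (Submodule.span Γ(G.left, ⊤) S)))
  choose F X hF using fun z : t => htS z.2
  refine ⟨t.attach.image F, fun f hf => ?_, fun g hg f hf => ?_⟩
  · obtain ⟨z, -, rfl⟩ := Finset.mem_image.1 hf
    exact (hF z).1
  refine (isRTransInv_pt_iff g f).2 fun x => ?_
  have hm : h f x ∈ Ideal.span (t : Set Γ(G.left, ⊤)) := by
    have : h f x ∈ Submodule.span Γ(G.left, ⊤) S := Submodule.subset_span ⟨f, x, hf, rfl⟩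
    rwa [ht] at this
  have hle : Ideal.span (t : Set Γ(G.left, ⊤)) ≤ RingHom.ker (ev g) := Ideal.span_le.2 fun z hz => by
    rw [SetLike.mem_coe, RingHom.mem_ker, show z = h _ _ from (hF ⟨z, hz⟩).2, hh]
    rw [sub_eq_zero]
    exact (isRTransInv_pt_iff g _).1 (hg _ (Finset.mem_image.2 ⟨_, Finset.mem_attach _ _, rfl⟩)) _
  have := hle hm
  rwa [RingHom.mem_ker, hh, sub_eq_zero] at this

end Groth.Agent.S11199
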