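import Groth.Statements.S11216
import Groth.Agent.GrpSch.FunPts
import Groth.Agent.GrpSch.CompGroup
import Groth.Agent.GrpSch.JointInj
import Mathlib.RingTheory.Spectrum.Prime.Chevalley
import Mathlib.RingTheory.Ideal.Height
import Mathlib.RingTheory.Jacobson.Ring
import Mathlib.RingTheory.Ideal.MinimalPrime.Localization
import Mathlib.RingTheory.Ideal.MinimalPrime.Noetherian

set_option autoImplicit false
set_option backward.isDefEq.respectTransparency.types false
universe u
open CategoryTheory MonoidalCategory CartesianMonoidalCategory MonObj GrpObj AlgebraicGeometry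
open scoped TensorProduct
open AGF

namespace Groth.Agent.S11216

open GrpSch.FunPts
attribute [local instance] GrpSch.JointInj.algΓ

/-- a point of codimension at most one outside an open image has a non-unit inverse image ideal -/
lemma two_le_height {A : Type u} [CommRing A] [IsNoetherianRing A] [_root_.IsReduced A] (R : Subring A)
    [IsNoetherianRing R] (hopen : IsOpen (Set.range (PrimeSpectrum.comap R.subtype)))
    (hdiv : ∀ a ∈ R, ∀ c ∈ R, a ∈ nonZeroDivisors A → ∀ z, a * z = c → z ∈ R)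
    (x : PrimeSpectrum R) (hx : x ∉ Set.range (PrimeSpectrum.comap R.subtype)) :
    (2 : ℕ∞) ≤ x.asIdeal.height := by
  classical
  set P := x.asIdeal with hP
  have hnot : ∀ q : Ideal A, q.IsPrime → ¬ P ≤ q.comap R.subtype := fun q hq hle =>
    hx (((PrimeSpectrum.le_iff_specializes x (PrimeSpectrum.comap R.subtype ⟨q, hq⟩)).1 hle).mem_open
      hopen ⟨_, rfl⟩)
  have hfin := minimalPrimes.finite_of_isNoetherianRing A
  obtain ⟨a, haP, ha⟩ : ∃ a ∈ P, ∀ q ∈ minimalPrimes A, (a : A) ∉ q := by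
    by_contra! h
    obtain ⟨q, hq, hle⟩ := (Ideal.subset_union_prime (s := hfin.toFinset) (f := fun q => q.comap R.subtype)
      ⊥ ⊥ (fun q hq _ _ => by
        have := (hfin.mem_toFinset.1 hq).1.1
        exact Ideal.comap_isPrime R.subtype q)).1 (fun a ha => by
      obtain ⟨q, hq, haq⟩ := h a ha
      exact Set.mem_iUnion₂.2 ⟨q, hfin.mem_toFinset.2 hq, haq⟩)
    exact hnot q (hfin.mem_toFinset.1 hq).1.1 hle
  have hnz : (a : A) ∈ nonZeroDivisors A := mem_nonZeroDivisors_iff_right.2 fun w hw => by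
    have h : w ∈ sInf (minimalPrimes A) := by
      refine Submodule.mem_sInf.2 fun q hq => ?_
      exact (hq.1.1.mem_or_mem (hw ▸ q.zero_mem)).resolve_right (ha q hq)
    rw [minimalPrimes, Ideal.sInf_minimalPrimes] at h
    obtain ⟨n, hn⟩ := h
    exact IsNilpotent.eq_zero ⟨n, hn⟩
  by_contra! hlt
  have hmin : ∀ Q : Ideal R, Q.IsPrime → a ∈ Q → Q ≤ P → Q = P := by
    intro Q hQ haQ hle
    by_contra hne
    have h1 : Q.height < P.height := Ideal.height_strict_mono_of_isPrime (lt_of_le_of_ne hle hne)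
    have h0 : Q.height = 0 := by
      refine ENat.lt_one_iff_eq_zero.1 (lt_of_lt_of_le h1 ?_)
      exact ENat.lt_add_one_iff (by simp) |>.1 (by rw [one_add_one_eq_two]; exact hlt)
    have hQmin : Q ∈ minimalPrimes R := ⟨⟨hQ, bot_le⟩, fun Q' hQ' hle' => by
      by_contra hne'
      haveI := hQ'.1
      have h2 : Q'.height < Q.height := Ideal.height_strict_mono_of_isPrime (lt_of_le_not_ge hle' hne')
      rw [h0] at h2
      exact not_lt_zero h2⟩
    obtain ⟨q, hq, hqQ⟩ := Ideal.exists_comap_eq_of_mem_minimalPrimes_of_injective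
      (f := R.subtype) Subtype.val_injective Q hQmin
    obtain ⟨q', hq', hq'le⟩ := Ideal.exists_minimalPrimes_le (bot_le : (⊥ : Ideal A) ≤ q)
    have hle2 : q'.comap R.subtype ≤ Q := hqQ ▸ Ideal.comap_mono hq'le
    haveI := hq'.1.1
    exact ha q' hq' (show a ∈ q'.comap R.subtype from hQmin.2 ⟨Ideal.comap_isPrime _ _, bot_le⟩ hle2 haQ)
  let K : Ideal A :=
    { carrier := {z | ∃ c : R, c ∉ P ∧ ∃ w, (a : A) * w = c * z}
      zero_mem' := ⟨1, (Ideal.ne_top_iff_one P).1 x.2.ne_top, 0, by simp⟩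
      add_mem' := by
        rintro z₁ z₂ ⟨c₁, hc₁, w₁, h₁⟩ ⟨c₂, hc₂, w₂, h₂⟩
        refine ⟨c₁ * c₂, x.2.mul_notMem hc₁ hc₂, (c₂ : A) * w₁ + (c₁ : A) * w₂, ?_⟩
        push_cast
        linear_combination (c₂ : A) * h₁ + (c₁ : A) * h₂
      smul_mem' := by
        rintro r z ⟨c, hc, w, h⟩
        exact ⟨c, hc, r * w, by rw [smul_eq_mul]; linear_combination r * h⟩ }
  have hrad : P.map R.subtype ≤ K.radical := Ideal.map_le_iff_le_comap.2 fun p hp => by
    by_contra hnp
    let M : Submonoid R := P.primeCompl ⊔ Submonoid.powers p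
    have hdisj : Disjoint ((Ideal.span {a} : Ideal R) : Set R) (M : Set R) := by
      rw [Set.disjoint_left]
      intro z hz hzM
      obtain ⟨c, hc, d, ⟨n, rfl⟩, rfl⟩ := Submonoid.mem_sup.1 hzM
      obtain ⟨w, hw⟩ := Ideal.mem_span_singleton'.1 hz
      refine hnp ⟨n, c, hc, (w : A), ?_⟩
      have := congrArg R.subtype hw
      simp only [map_mul, map_pow, Subring.coe_subtype] at this ⊢
      rw [← this, mul_comm]
    obtain ⟨Q, hQ, hQa, hQM⟩ := Ideal.exists_le_prime_disjoint _ M hdisj
    have hQP : Q ≤ P := fun z hz => by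
      by_contra hzP
      exact Set.disjoint_left.1 hQM hz ((le_sup_left : P.primeCompl ≤ M) hzP)
    have := hmin Q hQ (hQa (Ideal.mem_span_singleton_self a)) hQP
    exact Set.disjoint_left.1 hQM (this ▸ hp) ((le_sup_right : Submonoid.powers p ≤ M) (Submonoid.mem_powers p))
  have htop : P.map R.subtype = ⊤ := by
    by_contra hne
    obtain ⟨m, hm, hle⟩ := Ideal.exists_le_maximal _ hne
    exact hnot m hm.isPrime (Ideal.map_le_iff_le_comap.1 hle)
  obtain ⟨c, hc, w, hw⟩ : (1 : A) ∈ K := by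
    rw [← Ideal.eq_top_iff_one, ← Ideal.radical_eq_top, eq_top_iff, ← htop]
    exact hrad
  rw [_root_.mul_one] at hw
  have hwR := hdiv a a.2 c c.2 hnz w hw
  refine hc ?_
  have : c = a * ⟨w, hwR⟩ := Subtype.ext hw.symm
  rw [this]
  exact P.mul_mem_right _ haP

/-- (b) ⇒ (i): let k be an algebraically closed field, G a linear algebraic group over k (an affine
smooth group scheme over k) and H a closed subgroup of G (a smooth closed subgroup scheme, i : H →
G), with H observable in G and k[G]^H finitely generated over the constants; let X = Spec k[G]^H and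
φ : G → X the morphism given by the inclusion k[G]^H ⊆ k[G]. Then the image of φ (the orbit of the
base point) is open in X and every point of X outside the image has codimension at least 2 (its
prime ideal has height ≥ 2). (The published statement also asserts that G/H maps isomorphically onto
the image, and that finite generation is equivalent to an orbit-closure condition in a
representation; neither is stated here.) -/
theorem result (k : Type u) [Field k] [IsAlgClosed k]
    (G : Over (Spec (CommRingCat.of k))) [GrpObj G] [IsAffine G.left] [Smooth G.hom]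
    (H : Over (Spec (CommRingCat.of k))) [GrpObj H] [Smooth H.hom] (i : H ⟶ G) [IsMonHom i]
    [IsClosedImmersion i.left]
    (hobs : AGF.IsObservableIn k i) (hfg : AGF.SubringFGOver k G (AGF.rTransInv i)) :
    IsOpen (Set.range ⇑(G.left.toSpecΓ ≫ Spec.map (CommRingCat.ofHom (AGF.rTransInv i).subtype)).base) ∧
      ∀ x : ↥(Spec (CommRingCat.of ↥(AGF.rTransInv i))),
        x ∉ Set.range ⇑(G.left.toSpecΓ ≫ Spec.map (CommRingCat.ofHom (AGF.rTransInv i).subtype)).base →
          (2 : ℕ∞) ≤ x.asIdeal.height := by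
  classical
  haveI := GrpSch.isReduced_of_smooth G
  haveI hJ : JacobsonSpace G.left := LocallyOfFiniteType.jacobsonSpace G.hom
  haveI hLN : IsLocallyNoetherian G.left := LocallyOfFiniteType.isLocallyNoetherian G.hom
  haveI : IsNoetherianRing Γ(G.left, ⊤) := IsLocallyNoetherian.component_noetherian ⟨⊤, isAffineOpen_top _⟩
  haveI : _root_.IsReduced Γ(G.left, ⊤) := inferInstance
  set R := AGF.rTransInv i with hR
  haveI : Algebra.FiniteType k Γ(G.left, ⊤) := by
    have h := (LocallyOfFiniteType.finiteType_appLE (f := G.hom) (isAffineOpen_top _) (isAffineOpen_top _) le_top)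
    replace h : G.hom.appTop.hom.FiniteType := by
      have e : G.hom.appLE ⊤ ⊤ le_top = G.hom.appTop := by simp [Scheme.Hom.appLE]
      rwa [← e]
    exact h.comp (RingHom.FiniteType.of_surjective _
      (ConcreteCategory.bijective_of_isIso (Scheme.ΓSpecIso (CommRingCat.of k)).inv).2)
  have hconst : ∀ r : k, algebraMap k Γ(G.left, ⊤) r ∈ R := fun r => by
    refine (AGF.mem_rTransInv_iff i _).2 ?_
    change ((G ◁ i) ≫ μ[G]).left.appTop (G.hom.appTop _) = (fst G H).left.appTop (G.hom.appTop _)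
    rw [← CommRingCat.comp_apply, ← CommRingCat.comp_apply, ← Scheme.Hom.comp_appTop,
      ← Scheme.Hom.comp_appTop, Over.w, Over.w]
  haveI : IsNoetherianRing R := by
    obtain ⟨s, hs, hle⟩ := hfg
    let Rk : Subalgebra k Γ(G.left, ⊤) := { R with algebraMap_mem' := hconst }
    let φ : MvPolynomial s k →ₐ[k] Rk := MvPolynomial.aeval fun f => ⟨f.1, hs f.2⟩
    have hφ : Function.Surjective φ := by
      rintro ⟨f, hf⟩
      have hmem : Subring.closure (Set.range (fun c : k =>
          G.hom.appTop ((Scheme.ΓSpecIso (CommRingCat.of k)).inv c)) ∪ ↑s) ≤ (Rk.val.comp φ).range.toSubring := by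
        rw [Subring.closure_le]
        rintro z (⟨c, rfl⟩ | hz)
        · exact ⟨MvPolynomial.C c, (Rk.val.comp φ).commutes c⟩
        · exact ⟨MvPolynomial.X ⟨z, hz⟩, by simp [φ]⟩
      obtain ⟨p, hp⟩ := hmem (hle hf)
      exact ⟨p, Subtype.ext hp⟩
    exact isNoetherianRing_of_surjective (MvPolynomial s k) Rk φ.toRingHom hφ
  let Rk : Subalgebra k Γ(G.left, ⊤) := { R with algebraMap_mem' := hconst }
  have hfp : R.subtype.FinitePresentation := by
    refine RingHom.FinitePresentation.of_finiteType.1 ?_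
    exact RingHom.FiniteType.of_comp_finiteType (f := (algebraMap k Rk)) (g := R.subtype)
      (RingHom.finiteType_algebraMap.2 (inferInstance : Algebra.FiniteType k Γ(G.left, ⊤)))
  let π : G.left → PrimeSpectrum Γ(G.left, ⊤) := fun z => G.left.toSpecΓ z
  have hπ : Function.Surjective π := G.left.isoSpec.hom.homeomorph.surjective
  have hπpt : ∀ y : VecGrp.pt k k ⟶ G, (π (imP y)).asIdeal = RingHom.ker (ev y) := fun y => by
    ext f
    have h1 : imP y ∈ G.left.toSpecΓ ⁻¹ᵁ (PrimeSpectrum.basicOpen f) ↔ imP y ∈ G.left.basicOpen f := by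
      rw [Scheme.toSpecΓ_preimage_basicOpen]
    rw [RingHom.mem_ker]
    exact not_iff_not.1 (h1.trans (mem_basicOpen_iff y f))
  let φ : PrimeSpectrum Γ(G.left, ⊤) → PrimeSpectrum R := PrimeSpectrum.comap R.subtype
  have hinv : ∀ f, f ∈ R ↔ ∀ (y : VecGrp.pt k k ⟶ G) (s : VecGrp.pt k k ⟶ H),
      ev (y * (s ≫ i)) f = ev y f := fun f => isRTransInv_hom_iff i f
  have hopen : IsOpen (Set.range φ) := by
    have hcons := PrimeSpectrum.isConstructible_range_comap hfp
    obtain ⟨c, hc⟩ : (minimalPrimes R).Nonempty := by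
      haveI : Nonempty G.left := ⟨η[G].left (IsLocalRing.closedPoint k)⟩
      obtain ⟨z⟩ := ‹Nonempty G.left›
      obtain ⟨q, hq, -⟩ := Ideal.exists_minimalPrimes_le (bot_le : (⊥ : Ideal R) ≤ (φ (π z)).asIdeal)
      exact ⟨q, hq⟩
    obtain ⟨q, hq, hqc⟩ := Ideal.exists_comap_eq_of_mem_minimalPrimes_of_injective
      (f := R.subtype) Subtype.val_injective c hc
    let c' : PrimeSpectrum R := φ ⟨q, hq⟩
    obtain ⟨O, hO, hcO, hO'⟩ := GrpSch.CompGroup.exists_open_of_isConstructible hcons c'
    have hO2 : O ∩ closure {c'} ⊆ Set.range φ :=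
      hO'.resolve_right fun h => h ⟨hcO, subset_closure rfl⟩ ⟨_, rfl⟩
    let W : Set (PrimeSpectrum R) := O ∩ (⋃ p ∈ minimalPrimes R \ {c}, PrimeSpectrum.zeroLocus (p : Set R))ᶜ
    have hW : IsOpen W := hO.inter (((minimalPrimes.finite_of_isNoetherianRing R).sdiff).isClosed_biUnion
      fun p _ => PrimeSpectrum.isClosed_zeroLocus _).isOpen_compl
    have hcW : c' ∈ W := by
      refine ⟨hcO, fun h => ?_⟩
      obtain ⟨p, ⟨hp, hpc⟩, hle⟩ := Set.mem_iUnion₂.1 h
      have hle' : p ≤ c := fun z hz => hqc ▸ hle hz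
      exact hpc (le_antisymm hle' (hc.2 hp.1 hle'))
    have hWr : W ⊆ Set.range φ := fun p hp => hO2 ⟨hp.1, by
      obtain ⟨p', hp', hle⟩ := Ideal.exists_minimalPrimes_le (bot_le : (⊥ : Ideal R) ≤ p.asIdeal)
      rcases eq_or_ne p' c with rfl | hne
      · exact specializes_iff_mem_closure.1
          ((PrimeSpectrum.le_iff_specializes c' p).1 (hqc.le.trans hle))
      · exact absurd (Set.mem_iUnion₂.2 ⟨p', ⟨hp', hne⟩, hle⟩) hp.2⟩
    obtain ⟨z0, hz0⟩ := hπ ⟨q, hq⟩
    have hcont : Continuous fun z => φ (π z) :=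
      (PrimeSpectrum.continuous_comap _).comp G.left.toSpecΓ.continuous
    obtain ⟨z1, hz1, hz1c⟩ := nonempty_inter_closedPoints (X := G.left) (Z := (fun z => φ (π z)) ⁻¹' W)
      ⟨z0, by simp only [Set.mem_preimage, hz0]; exact hcW⟩ (hW.preimage hcont).isLocallyClosed
    obtain ⟨y0, rfl⟩ := exists_pt G hz1c
    suffices hall : ∀ z : G.left, φ (π z) ∈ interior (Set.range φ) by
      rw [← interior_eq_iff_isOpen]
      refine subset_antisymm interior_subset ?_
      rintro _ ⟨p, rfl⟩
      obtain ⟨z, rfl⟩ := hπ p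
      exact hall z
    intro z
    by_contra hz
    obtain ⟨z2, hz2, hz2c⟩ := nonempty_inter_closedPoints (X := G.left)
      (Z := (fun z => φ (π z)) ⁻¹' (interior (Set.range φ))ᶜ) ⟨z, hz⟩
      (isOpen_interior.isClosed_compl.preimage hcont).isLocallyClosed
    obtain ⟨y, rfl⟩ := exists_pt G hz2c
    -- translation moving `y` to `y0`
    let t : (VecGrp.pt k k ⟶ G) → (G ⟶ G) := fun g => (toUnit G ≫ (exists_unit_pt g).choose) * 𝟙 G
    have ht : ∀ g w (f : Γ(G.left, ⊤)), ev w ((t g).left.appTop f) = ev (g * w) f := fun g w f => by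
      rw [← ev_comp, MonObj.comp_mul, comp_toUnit_assoc, Category.comp_id, (exists_unit_pt g).choose_spec]
    let τ : (VecGrp.pt k k ⟶ G) → (R →+* R) := fun g =>
      ((t g).left.appTop.hom.comp R.subtype).codRestrict R fun f => (hinv _).2 fun w s => by
        rw [RingHom.comp_apply, ht, ht, ← _root_.mul_assoc]
        exact (hinv _).1 f.2 _ s
    have hτ : ∀ g w, PrimeSpectrum.comap (τ g) (φ (π (imP w))) = φ (π (imP (g * w))) := fun g w => by
      refine PrimeSpectrum.ext ?_
      ext f
      simp only [φ, PrimeSpectrum.comap_asIdeal, Ideal.mem_comap, hπpt, RingHom.mem_ker]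
      exact Eq.congr_left (ht g w _)
    refine hz2 (interior_maximal (t := PrimeSpectrum.comap (τ (y0 * y⁻¹)) ⁻¹' W) ?_
      (hW.preimage (PrimeSpectrum.continuous_comap _)) ?_)
    · intro p hp
      obtain ⟨p', hp'⟩ := hWr hp
      refine ⟨PrimeSpectrum.comap (t (y0 * y⁻¹)⁻¹).left.appTop.hom p', ?_⟩
      have hval : ∀ g (f : R), ((τ g f : R) : Γ(G.left, ⊤)) = (t g).left.appTop f := fun g f => rfl
      clear_value τ t
      have hf : ∀ f, τ (y0 * y⁻¹) (τ (y0 * y⁻¹)⁻¹ f) = f := fun f => by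
        refine Subtype.ext (ext_ev fun w => ?_)
        rw [hval, hval, ht, ht, ← _root_.mul_assoc, inv_mul_cancel, _root_.one_mul]
      refine PrimeSpectrum.ext (Ideal.ext fun f => ?_)
      simp only [φ, PrimeSpectrum.comap_asIdeal, Ideal.mem_comap, Subring.subtype_apply]
      rw [← hval]
      have h3 : ((τ (y0 * y⁻¹)⁻¹ f : R) : Γ(G.left, ⊤)) ∈ p'.asIdeal ↔
          τ (y0 * y⁻¹)⁻¹ f ∈ (PrimeSpectrum.comap R.subtype p').asIdeal := by
        rw [PrimeSpectrum.comap_asIdeal, Ideal.mem_comap, Subring.subtype_apply]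
      rw [h3]
      simp only [φ] at hp'
      rw [hp', PrimeSpectrum.comap_asIdeal, Ideal.mem_comap, hf]
    · change PrimeSpectrum.comap (τ (y0 * y⁻¹)) (φ (π (imP y))) ∈ W
      rw [hτ, inv_mul_cancel_right]
      exact hz1
  have hrange : Set.range ⇑(G.left.toSpecΓ ≫ Spec.map (CommRingCat.ofHom R.subtype)).base = Set.range φ := by
    ext p
    constructor
    · rintro ⟨z, rfl⟩
      exact ⟨π z, rfl⟩
    · rintro ⟨q, rfl⟩
      obtain ⟨z, rfl⟩ := hπ q
      exact ⟨z, rfl⟩
  refine ⟨hrange ▸ hopen, fun x hx => two_le_height R hopen (fun a ha c hc hnz z hz => (hinv z).2 ?_) x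
    fun h => hx (hrange ▸ h)⟩
  intro y s
  obtain ⟨p, hp⟩ := exists_unit_pt (s ≫ i)
  let r : G ⟶ G := 𝟙 G * (toUnit G ≫ p)
  have hr : ∀ w f, ev w (r.left.appTop f) = ev (w * (s ≫ i)) f := fun w f => by
    rw [← ev_comp, MonObj.comp_mul, comp_toUnit_assoc, Category.comp_id, hp]
  have hfix : ∀ f ∈ R, r.left.appTop f = f := fun f hf => ext_ev fun w => (hr w f).trans ((hinv f).1 hf w s)
  have h1 : r.left.appTop z = z := by
    refine sub_eq_zero.1 (mem_nonZeroDivisors_iff.1 hnz |>.1 _ ?_)
    have h2 : a * r.left.appTop z = c := by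
      conv_lhs => rw [← hfix a ha, ← map_mul, hz, hfix c hc]
    rw [mul_sub, h2, hz, sub_self]
  rw [← hr, h1]

end Groth.Agent.S11216
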