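import Groth.Statements.S11217
-- import your own Groth.Agent.* helpers here

set_option autoImplicit false
universe u
open CategoryTheory MonoidalCategory CartesianMonoidalCategory MonObj GrpObj AlgebraicGeometry
open scoped TensorProduct
open AGF

namespace Groth.Agent.S11217

/-- Let k be a field of characteristic zero and m ≥ 2; in the polynomial ring k[x, y, z, s, t, u, v]
(variables 0, …, 6) let δ be the k-derivation with δ(x) = δ(y) = δ(z) = 0, δ(s) = x^(m+1), δ(t) =
y^(m+1), δ(u) = z^(m+1), δ(v) = (xyz)^m, and grade by total degree in s, t, u, v. If f is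
homogeneous of degree n ≥ 1 for this grading and δ(f) = 0, then every coefficient of f, as a
polynomial in s, t, u, v over k[x, y, z], lies in the ideal (x, y, z): every monomial of f has
positive degree in x, y, z. (The published statement allows n = 0, where the constant 1 is a
counterexample; this row assumes n ≥ 1. The published definition of the derivation gives δ(v) =
(xyz)^(m+1), for which the assertion fails: v − (yz)^(m+1)·s is killed by δ and has the monomial v
with coefficient 1; this row uses δ(v) = (xyz)^m, the exponent of the published action formula and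
of the published examples of invariants.) -/
theorem result (k : Type u) [Field k] [CharZero k] (m : ℕ) (hm : 2 ≤ m) (n : ℕ) (hn : 1 ≤ n)
    (f : MvPolynomial (Fin 7) k)
    (hf : MvPolynomial.IsWeightedHomogeneous (![0, 0, 0, 1, 1, 1, 1] : Fin 7 → ℕ) f n)
    (hδ : MvPolynomial.mkDerivation k
      (![0, 0, 0, MvPolynomial.X 0 ^ (m + 1), MvPolynomial.X 1 ^ (m + 1), MvPolynomial.X 2 ^ (m + 1),
        (MvPolynomial.X 0 * MvPolynomial.X 1 * MvPolynomial.X 2) ^ m] : Fin 7 → MvPolynomial (Fin 7) k) f = 0) :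
    ∀ d ∈ f.support, 0 < d 0 + d 1 + d 2 := by
  classical
  intro d hd
  by_contra hxyz
  have hd' : MvPolynomial.coeff d f ≠ 0 := MvPolynomial.mem_support_iff.1 hd
  have hw := hf hd'
  have hwe : Finsupp.weight (![0, 0, 0, 1, 1, 1, 1] : Fin 7 → ℕ) d = d 3 + d 4 + d 5 + d 6 := by
    rw [Finsupp.weight_apply, Finsupp.sum_fintype]
    · simp [Fin.sum_univ_seven]
    · intro i; simp
  rw [hwe] at hw
  let e : Fin 7 → ℕ → (Fin 7 →₀ ℕ) := fun j c => Finsupp.single j c
  let E3 : Fin 7 →₀ ℕ := e 0 (m + 1)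
  let E4 : Fin 7 →₀ ℕ := e 1 (m + 1)
  let E5 : Fin 7 →₀ ℕ := e 2 (m + 1)
  let E6 : Fin 7 →₀ ℕ := e 0 m + e 1 m + e 2 m
  have hv : (MvPolynomial.X 0 * MvPolynomial.X 1 * MvPolynomial.X 2) ^ m = (MvPolynomial.monomial E6 (1 : k)) := by
    simp [E6, e, mul_pow, MvPolynomial.X_pow_eq_monomial, MvPolynomial.monomial_mul]
  have hD : MvPolynomial.monomial E3 (1 : k) * MvPolynomial.pderiv 3 f + MvPolynomial.monomial E4 (1 : k) * MvPolynomial.pderiv 4 f +
      MvPolynomial.monomial E5 (1 : k) * MvPolynomial.pderiv 5 f + MvPolynomial.monomial E6 (1 : k) * MvPolynomial.pderiv 6 f = 0 := by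
    rw [← hδ]
    conv_rhs => rw [show (![0, 0, 0, MvPolynomial.X 0 ^ (m + 1), MvPolynomial.X 1 ^ (m + 1), MvPolynomial.X 2 ^ (m + 1),
        (MvPolynomial.X 0 * MvPolynomial.X 1 * MvPolynomial.X 2) ^ m] : Fin 7 → MvPolynomial (Fin 7) k) =
        ![0, 0, 0, MvPolynomial.monomial E3 (1 : k), MvPolynomial.monomial E4 1, MvPolynomial.monomial E5 1, MvPolynomial.monomial E6 1] by
      rw [hv, MvPolynomial.X_pow_eq_monomial, MvPolynomial.X_pow_eq_monomial, MvPolynomial.X_pow_eq_monomial]]
    rw [show MvPolynomial.mkDerivation k (![0, 0, 0, MvPolynomial.monomial E3 (1 : k), MvPolynomial.monomial E4 1,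
        MvPolynomial.monomial E5 1, MvPolynomial.monomial E6 1] : Fin 7 → MvPolynomial (Fin 7) k) =
      MvPolynomial.monomial E3 (1 : k) • MvPolynomial.pderiv 3 + MvPolynomial.monomial E4 (1 : k) • MvPolynomial.pderiv 4 +
      MvPolynomial.monomial E5 (1 : k) • MvPolynomial.pderiv 5 + MvPolynomial.monomial E6 (1 : k) • MvPolynomial.pderiv 6 from
      MvPolynomial.derivation_ext fun i => by fin_cases i <;> simp [MvPolynomial.pderiv_X]]
    simp
  have h012 : d 0 = 0 ∧ d 1 = 0 ∧ d 2 = 0 := by omega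
  have main : ∀ j : Fin 7, ∀ E : Fin 7 →₀ ℕ, (j = 3 ∧ E = E3) ∨ (j = 4 ∧ E = E4) ∨ (j = 5 ∧ E = E5) ∨ (j = 6 ∧ E = E6) →
      d j = 0 := by
    intro j E hjE
    by_contra hj
    let T := E + (d - Finsupp.single j 1)
    have hc := congrArg (MvPolynomial.coeff T) hD
    simp only [MvPolynomial.coeff_add, MvPolynomial.coeff_zero, MvPolynomial.coeff_monomial_mul', _root_.one_mul,
      MvPolynomial.coeff_pderiv] at hc
    have hle : d - Finsupp.single j 1 + Finsupp.single j 1 = d :=
      tsub_add_cancel_of_le (by rw [Finsupp.single_le_iff]; omega)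
    have hT : ∀ i : Fin 7, T i = E i + (d i - Finsupp.single j 1 i) := fun i => by simp [T]
    rcases hjE with ⟨rfl, rfl⟩ | ⟨rfl, rfl⟩ | ⟨rfl, rfl⟩ | ⟨rfl, rfl⟩
    all_goals
      rw [if_pos (le_self_add (a := _) (b := d - Finsupp.single _ 1))] at hc
      simp only [T, add_tsub_cancel_left, hle] at hc
      repeat rw [if_neg (fun h => by
        have h0 := h 0; have h1 := h 1; have h2 := h 2
        simp [E3, E4, E5, E6, e, Finsupp.single_apply, h012.1, h012.2.1, h012.2.2] at h0 h1 h2 <;> omega)] at hc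
      simp only [add_zero, zero_add, nsmul_eq_mul] at hc
      simp [hd'] at hc
      norm_cast at hc
  have := main 3 E3 (by simp)
  have := main 4 E4 (by simp)
  have := main 5 E5 (by simp)
  have := main 6 E6 (by simp)
  omega

end Groth.Agent.S11217
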