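import Groth.Statements.S11218
import Groth.Agent.GrpSch.Action
import Groth.Agent.GrpSch.Desc
import Mathlib.AlgebraicGeometry.Morphisms.Flat
import Mathlib.AlgebraicGeometry.ResidueField

set_option backward.isDefEq.respectTransparency.types false

set_option autoImplicit false
universe u
open CategoryTheory MonoidalCategory CartesianMonoidalCategory MonObj GrpObj AlgebraicGeometry
open scoped TensorProduct
open AGF

namespace Groth.Agent.S11218

section
variable {S : Scheme.{u}}

/-- Two points with the same image come from one test point. -/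
lemma exists_common {A B C : Over S} (f : A ⟶ C) (g : B ⟶ C) (p : A.left) (q : B.left)
    (h : f.left p = g.left q) :
    ∃ (T : Over S) (t : T.left) (P : T ⟶ A) (Q : T ⟶ B), P.left t = p ∧ Q.left t = q ∧ P ≫ f = Q ≫ g := by
  obtain ⟨r, hr₁, hr₂⟩ := Scheme.Pullback.exists_preimage_pullback (f := f.left) (g := g.left) p q h
  let P : Over.mk (Limits.pullback.fst f.left g.left ≫ A.hom) ⟶ A := Over.homMk (Limits.pullback.fst f.left g.left) rfl
  let Q : Over.mk (Limits.pullback.fst f.left g.left ≫ A.hom) ⟶ B := Over.homMk (Limits.pullback.snd f.left g.left) (by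
    change Limits.pullback.snd f.left g.left ≫ B.hom = Limits.pullback.fst f.left g.left ≫ A.hom
    rw [← Over.w g, ← Category.assoc, ← Limits.pullback.condition, Category.assoc, Over.w f])
  exact ⟨_, r, P, Q, hr₁, hr₂, Over.OverMorphism.ext Limits.pullback.condition⟩

lemma mem_range_of_factors {T A B : Over S} (z : T ⟶ A) (f : A ⟶ B) (y : T ⟶ B) (h : z ≫ f = y)
    (t : T.left) : y.left t ∈ Set.range f.left :=
  ⟨z.left t, by rw [← h]; rfl⟩

/-- The orbit of a point under a group is stable under the action of a subgroup. -/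
lemma act_mem_range {G H X : Over S} [GrpObj G] [GrpObj H] (i : H ⟶ G) [IsMonHom i]
    (a : AlgGrp.Action G X) (o : 𝟙_ (Over S) ⟶ X) (r : (H ⊗ X).left)
    (hr : (snd H X).left r ∈ Set.range (i ≫ a.orbitMap o).left) :
    ((i ▷ X) ≫ a.act).left r ∈ Set.range (i ≫ a.orbitMap o).left := by
  obtain ⟨h₀, hh₀⟩ := hr
  obtain ⟨T, t, P, Q, hP, -, hPQ⟩ := exists_common (snd H X) (i ≫ a.orbitMap o) r h₀ hh₀.symm
  rw [← hP]
  refine mem_range_of_factors ((P ≫ fst H X) * Q) _ (P ≫ (i ▷ X) ≫ a.act) ?_ t
  have hP' : P ≫ (i ▷ X) = lift (P ≫ fst H X ≫ i) (P ≫ snd H X) := by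
    apply CartesianMonoidalCategory.hom_ext <;> simp
  have orb : ∀ {T : Over S} (g : T ⟶ G), g ≫ a.orbitMap o = lift g (toUnit T ≫ o) ≫ a.act := by
    intro T g
    rw [AlgGrp.Action.orbitMap, comp_lift_assoc, Category.comp_id, comp_toUnit_assoc]
  rw [← Category.assoc P, hP', hPQ, ← Category.assoc, MonObj.mul_comp, ← Category.assoc Q, orb, orb,
    GrpSch.act_mul, Category.assoc]

end

open Limits in
/-- Let k be an algebraically closed field, G a linear algebraic group over k (an affine smooth group
scheme over k) and H a closed subgroup of G (a smooth closed subgroup scheme, i : H → G), such that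
the quotient G/H (the scheme Y with action b and base point o′) is proper over k (complete). Let G
act on a variety X over k (separated, of finite type) and let x be a rational point of X; let Z ⊆ X
be the closure of the H-orbit of x. Then the closure of the G-orbit of x is G·Z, the image under the
action map of the preimage of Z in G × X. (The published statement takes X affine; the argument does
not use this, and this row drops it.) -/
theorem result (k : Type u) [Field k] [IsAlgClosed k]
    (G : Over (Spec (CommRingCat.of k))) [GrpObj G] [IsAffine G.left] [Smooth G.hom]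
    (H : Over (Spec (CommRingCat.of k))) [GrpObj H] [Smooth H.hom] (i : H ⟶ G) [IsMonHom i]
    [IsClosedImmersion i.left]
    (Y : Over (Spec (CommRingCat.of k))) (b : AlgGrp.Action G Y) (o' : 𝟙_ (Over (Spec (CommRingCat.of k))) ⟶ Y) (hY : AGF.IsQuotient i Y b o')
    [IsProper Y.hom]
    (X : Over (Spec (CommRingCat.of k))) [IsSeparated X.hom] [LocallyOfFiniteType X.hom] [QuasiCompact X.hom]
    (a : AlgGrp.Action G X) (x : 𝟙_ (Over (Spec (CommRingCat.of k))) ⟶ X) :
    closure (Set.range ⇑(a.orbitMap x).left.base) =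
      ⇑a.act.left.base '' (⇑(snd G X).left.base ⁻¹' closure (Set.range ⇑(i ≫ a.orbitMap x).left.base)) := by
  obtain ⟨hYl, hq₁, hq₂, hq⟩ := hY
  let q := b.orbitMap o'
  have : Flat q.left := hq₁
  have : Surjective q.left := hq₂
  have : LocallyOfFiniteType G.hom := inferInstance
  have : LocallyOfFiniteType q.left := by
    have : LocallyOfFiniteType (q.left ≫ Y.hom) := by rw [Over.w q]; infer_instance
    exact locallyOfFiniteType_of_comp q.left Y.hom
  have : IsLocallyNoetherian Y.left := LocallyOfFiniteType.isLocallyNoetherian Y.hom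
  have : LocallyOfFinitePresentation q.left := inferInstance
  have : UniversallyOpen q.left := inferInstance
  have : UniversallyOpen G.hom := inferInstance
  have hopG : UniversallyOpen (snd G X).left := MorphismProperty.pullback_snd _ _ ‹_›
  have : UniversallyOpen H.hom := inferInstance
  have hopH : UniversallyOpen (snd H X).left := MorphismProperty.pullback_snd _ _ ‹_›
  have hopq : UniversallyOpen (q ▷ X).left := GrpSch.Desc.whiskerRight_prop X q ‹_›
  have hsurq : Surjective (q ▷ X).left := GrpSch.Desc.whiskerRight_prop X q ‹_›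
  have hclY : UniversallyClosed (snd Y X).left := MorphismProperty.pullback_snd _ _ inferInstance
  set S₀ := Set.range ⇑(i ≫ a.orbitMap x).left.base
  set Z := closure S₀ with hZ
  have hstab : ∀ r : (H ⊗ X).left, (snd H X).left r ∈ Z → ((i ▷ X) ≫ a.act).left r ∈ Z := by
    intro r hr
    have h1 : r ∈ closure ((snd H X).left ⁻¹' S₀) :=
      (snd H X).left.isOpenMap.preimage_closure_subset_closure_preimage hr
    exact map_mem_closure ((i ▷ X) ≫ a.act).left.continuous h1 fun s hs => act_mem_range i a x s hs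
  let ψ : G ⊗ X ⟶ X := (GrpSch.actShear a).inv ≫ snd G X
  have hψ : ψ = lift (fst G X)⁻¹ (snd G X) ≫ a.act := by simp [ψ]
  let C : Set (G ⊗ X).left := ψ.left ⁻¹' Z
  have hsat : (q ▷ X).left ⁻¹' ((q ▷ X).left '' C) = C := by
    refine subset_antisymm ?_ (Set.subset_preimage_image _ _)
    rintro p ⟨p', hp', hpp'⟩
    obtain ⟨T, t, P, Q, hP, hQ, hPQ⟩ := exists_common (q ▷ X) (q ▷ X) p' p hpp'
    have hw : P ≫ snd G X = Q ≫ snd G X := by
      have := congrArg (· ≫ snd Y X) hPQ
      simpa using this
    have hg : (P ≫ fst G X) ≫ q = (Q ≫ fst G X) ≫ q := by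
      have := congrArg (· ≫ fst Y X) hPQ
      simpa using this
    obtain ⟨hh, hh₁⟩ : ∃ h : T ⟶ H, (P ≫ fst G X) * (h ≫ i) = Q ≫ fst G X := by
      refine ⟨hq.lift _ _ hg ≫ snd G H, ?_⟩
      have h1 := hq.lift_fst _ _ hg
      have h2 := hq.lift_snd _ _ hg
      calc (P ≫ fst G X) * ((hq.lift _ _ hg ≫ snd G H) ≫ i)
          = lift (hq.lift _ _ hg ≫ fst G H) ((hq.lift _ _ hg ≫ snd G H) ≫ i) ≫ μ[G] := by
            rw [Hom.mul_def, h1]
        _ = hq.lift _ _ hg ≫ (G ◁ i) ≫ μ[G] := by
            rw [← Category.assoc (hq.lift _ _ hg) (G ◁ i)]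
            congr 1
            apply CartesianMonoidalCategory.hom_ext <;> simp
        _ = Q ≫ fst G X := h2
    have key : Q ≫ ψ = lift hh⁻¹ (P ≫ ψ) ≫ (i ▷ X) ≫ a.act := by
      have e : lift hh⁻¹ (P ≫ ψ) ≫ (i ▷ X) = lift (hh ≫ i)⁻¹ (P ≫ ψ) := by
        apply CartesianMonoidalCategory.hom_ext <;> simp [GrpObj.inv_comp]
      rw [← Category.assoc (lift hh⁻¹ (P ≫ ψ)), e, hψ, comp_lift_assoc, GrpObj.comp_inv,
        comp_lift_assoc, GrpObj.comp_inv, ← hh₁, hw, _root_.mul_inv_rev, GrpSch.act_mul]
    change ψ.left p ∈ Z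
    rw [← hQ, ← Scheme.Hom.comp_apply, ← Over.comp_left, key, ← Category.assoc, Over.comp_left,
      Scheme.Hom.comp_apply]
    refine hstab _ ?_
    change (snd H X).left ((lift hh⁻¹ (P ≫ ψ)).left t) ∈ Z
    rw [← Scheme.Hom.comp_apply, ← Over.comp_left, lift_snd, Over.comp_left, Scheme.Hom.comp_apply, hP]
    exact hp'
  have hD : IsClosed ((q ▷ X).left '' C) := by
    rw [← ((q ▷ X).left.isOpenMap.isQuotientMap (q ▷ X).left.continuous (q ▷ X).left.surjective).isClosed_preimage,
      hsat]
    exact isClosed_closure.preimage ψ.left.continuous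
  have himg : ⇑a.act.left.base '' (⇑(snd G X).left.base ⁻¹' Z) = (snd Y X).left '' ((q ▷ X).left '' C) := by
    change a.act.left '' ((snd G X).left ⁻¹' Z) = _
    rw [Set.image_image]
    refine subset_antisymm ?_ ?_
    · rintro - ⟨r, hr, rfl⟩
      refine ⟨(GrpSch.actShear a).hom.left r, ?_, ?_⟩
      · change ψ.left _ ∈ Z
        rw [← Scheme.Hom.comp_apply, ← Over.comp_left,
          show (GrpSch.actShear a).hom ≫ ψ = snd G X from Iso.hom_inv_id_assoc _ _]
        exact hr
      · simp only [← Scheme.Hom.comp_apply, ← Over.comp_left]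
        simp
    · rintro - ⟨c, hc, rfl⟩
      refine ⟨(GrpSch.actShear a).inv.left c, ?_, ?_⟩
      · change (snd G X).left _ ∈ Z
        rw [← Scheme.Hom.comp_apply, ← Over.comp_left]
        exact hc
      · simp only [← Scheme.Hom.comp_apply, ← Over.comp_left]
        rw [show (GrpSch.actShear a).inv ≫ a.act = snd G X by
          rw [← GrpSch.actShear_hom_snd, Iso.inv_hom_id_assoc]]
        simp
  refine subset_antisymm (closure_minimal ?_ ?_) ?_
  · rintro - ⟨g, rfl⟩
    refine ⟨(lift (𝟙 G) (toUnit G ≫ x)).left g, ?_, ?_⟩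
    · refine subset_closure ⟨(toUnit G ≫ η[H]).left g, ?_⟩
      change (i ≫ a.orbitMap x).left ((toUnit G ≫ η[H]).left g) = (snd G X).left _
      rw [← Scheme.Hom.comp_apply, ← Over.comp_left, ← Scheme.Hom.comp_apply, ← Over.comp_left, lift_snd]
      have h3 : (toUnit G ≫ η[H]) ≫ i = 1 := by rw [← GrpSch.one_eq_toUnit, MonObj.one_comp]
      rw [← Category.assoc, h3, AlgGrp.Action.orbitMap, comp_lift_assoc, Category.comp_id,
        comp_toUnit_assoc, GrpSch.act_one]
    · change a.act.left _ = (a.orbitMap x).left g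
      rw [← Scheme.Hom.comp_apply, ← Over.comp_left]
      rfl
  · rw [himg]
    exact (snd Y X).left.isClosedMap _ hD
  · rintro - ⟨r, hr, rfl⟩
    have h1 : r ∈ closure ((snd G X).left ⁻¹' S₀) :=
      (snd G X).left.isOpenMap.preimage_closure_subset_closure_preimage hr
    refine map_mem_closure a.act.left.continuous h1 fun s hs => ?_
    obtain ⟨h₀, hh₀⟩ := hs
    have h2 : (snd G X).left s ∈ Set.range (𝟙 G ≫ a.orbitMap x).left := by
      rw [Category.id_comp]
      exact ⟨i.left h₀, hh₀⟩
    have h3 := act_mem_range (𝟙 G) a x s h2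
    rw [id_whiskerRight, Category.id_comp, Category.id_comp] at h3
    exact h3

end Groth.Agent.S11218
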