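import Groth.Statements.S1122
import Mathlib

set_option autoImplicit false
universe v u
open CategoryTheory CategoryTheory.Limits
open CohDer


namespace Groth.Agent.S1122

set_option backward.isDefEq.respectTransparency false
set_option backward.defeqAttrib.useBackward true

noncomputable section

open HomologicalComplex

variable {A : Type u} [Category.{v} A] [Abelian A]

section
variable [EnoughInjectives A]

open scoped Classical in
/-- An injective hull candidate which is zero on zero objects. -/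
def J (X : A) : A := if IsZero X then X else Injective.under X

lemma injective_J (X : A) : Injective (J X) := by
  unfold J; split_ifs with h
  · exact h.injective
  · infer_instance

lemma exists_mono_J (X : A) : ∃ f : X ⟶ J X, Mono f := by
  classical
  by_cases h : IsZero X
  · exact ⟨eqToHom (if_pos h).symm, inferInstance⟩
  · exact ⟨Injective.ι X ≫ eqToHom (if_neg h).symm, inferInstance⟩

lemma isZero_J {X : A} (h : IsZero X) : IsZero (J X) := by unfold J; rwa [if_pos h]

variable (K : CochainComplex A ℤ)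

/-- The boundaries. -/
def Bd (p : ℤ) : A := kernel (K.pOpcycles p)

/-- The boundary part. -/
abbrev Jb (p : ℤ) : A := J (Bd K p)

/-- The homology part. -/
abbrev Jh (p : ℤ) : A := J (K.homology p)

/-- The terms. -/
def T (p : ℤ) : A := (Jb K p ⊞ Jh K p) ⊞ Jb K (p + 1)

/-- The complex. -/
def Ec : CochainComplex A ℤ :=
  CochainComplex.of (T K) (fun _ => biprod.snd ≫ biprod.inl ≫ biprod.inl) (fun _ => by simp)

lemma Ec_d (p : ℤ) : (Ec K).d p (p + 1) = biprod.snd ≫ biprod.inl ≫ biprod.inl :=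
  CochainComplex.of_d (T K) (fun _ => biprod.snd ≫ biprod.inl ≫ biprod.inl) p

theorem exists_emb (n : ℤ) [K.IsStrictlyGE n] : ∃ (E : CochainComplex A ℤ) (ι : K ⟶ E), E.IsStrictlyGE n ∧ Mono ι ∧
    (∀ p, Injective (E.X p)) ∧ (∀ p, Injective (E.cycles p)) ∧ (∀ p, Injective (E.homology p)) ∧
      ∀ p, Mono (homologyMap ι p) := by
  haveI : ∀ X : A, Injective (J X) := injective_J
  choose j hj using exists_mono_J (A := A)
  haveI := hj
  haveI hB : ∀ p, Injective (Jb K p) := fun p => injective_J _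
  haveI hH : ∀ p, Injective (Jh K p) := fun p => injective_J _
  let e1 : ∀ p, K.X p ⟶ Jb K p := fun p => Injective.factorThru (j (Bd K p)) (kernel.ι (K.pOpcycles p))
  have he1 : ∀ p, kernel.ι (K.pOpcycles p) ≫ e1 p = j (Bd K p) := fun p => Injective.comp_factorThru _ _
  let e2 : ∀ p, K.X p ⟶ Jh K p := fun p => Injective.factorThru (K.homologyπ p ≫ j _) (K.iCycles p)
  have he2 : ∀ p, K.iCycles p ≫ e2 p = K.homologyπ p ≫ j _ := fun p => Injective.comp_factorThru _ _
  let dl : ∀ p, K.X p ⟶ Bd K (p + 1) := fun p => kernel.lift _ (K.d p (p + 1)) (K.d_pOpcycles _ _)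
  have hdl : ∀ p, dl p ≫ kernel.ι _ = K.d p (p + 1) := fun p => kernel.lift_ι _ _ _
  let f : ∀ p, K.X p ⟶ (Ec K).X p := fun p => biprod.lift (biprod.lift (e1 p) (e2 p)) (dl p ≫ j _)
  let ι : K ⟶ Ec K :=
    { f := f
      comm' := fun a b hab => by
        obtain rfl : a + 1 = b := hab
        rw [Ec_d]
        have h1 : K.d a (a + 1) ≫ e1 (a + 1) = dl a ≫ j _ := by rw [← hdl, Category.assoc, he1]
        have h2 : K.d a (a + 1) ≫ e2 (a + 1) = 0 := by
          rw [← K.toCycles_i a (a + 1), Category.assoc, he2, reassoc_of% (K.toCycles_comp_homologyπ a (a + 1)), zero_comp]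
        have h3 : K.d a (a + 1) ≫ dl (a + 1) = 0 := by
          rw [← cancel_mono (kernel.ι _), Category.assoc, hdl, K.d_comp_d, zero_comp]
        change biprod.lift (biprod.lift (e1 a) (e2 a)) (dl a ≫ j _) ≫ biprod.snd ≫ biprod.inl ≫ biprod.inl =
          K.d a (a + 1) ≫ biprod.lift (biprod.lift (e1 (a + 1)) (e2 (a + 1))) (dl (a + 1) ≫ j _)
        rw [biprod.lift_snd_assoc]
        apply biprod.hom_ext
        · apply biprod.hom_ext
          · simp [h1]
          · simp [h2]
        · simp [reassoc_of% h3] }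
  have hX : ∀ p, Injective ((Ec K).X p) := fun p => by
    change Injective ((Jb K p ⊞ Jh K p) ⊞ Jb K (p + 1))
    infer_instance
  have hsnd : ∀ p, (Ec K).iCycles p ≫ biprod.snd = 0 := fun p => by
    have h := (Ec K).iCycles_d p (p + 1)
    rw [Ec_d, ← Category.assoc, ← Category.assoc] at h
    exact (cancel_mono (biprod.inl : Jb K (p + 1) ⟶ Jb K (p + 1) ⊞ Jh K (p + 1))).1
      (((cancel_mono (biprod.inl : Jb K (p + 1) ⊞ Jh K (p + 1) ⟶ T K (p + 1))).1 (h.trans zero_comp.symm)).trans
        zero_comp.symm)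
  let r : ∀ p, (Ec K).homology p ⟶ Jh K p := fun p =>
    (Ec K).homologyι p ≫ (Ec K).descOpcycles (biprod.fst ≫ biprod.snd) (p - 1) (by simp) (by
      obtain ⟨q, rfl⟩ : ∃ q, p = q + 1 := ⟨p - 1, by omega⟩
      have key : ∀ i, i = q → (Ec K).d i (q + 1) ≫ (biprod.fst ≫ biprod.snd : (Ec K).X (q + 1) ⟶ Jh K (q + 1)) = 0 := by
        rintro i rfl
        rw [Ec_d]
        simp
      exact key _ (by omega))
  have hπr : ∀ p, (Ec K).homologyπ p ≫ r p = (Ec K).iCycles p ≫ biprod.fst ≫ biprod.snd := fun p => by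
    simp only [r, homology_π_ι_assoc, p_descOpcycles]
  refine ⟨Ec K, ι, ?_, ?_, hX, fun p => ?_, fun p => ?_, fun p => ?_⟩
  · rw [CochainComplex.isStrictlyGE_iff]
    intro p hp
    have hz : ∀ q, q ≤ n → IsZero (Jb K q) := fun q hq => by
      refine isZero_J ?_
      haveI := K.isIso_pOpcycles (q - 1) q (by simp) ((K.isZero_of_isStrictlyGE n (q - 1) (by omega)).eq_of_src _ _)
      exact isZero_kernel_of_mono _
    have hzH : IsZero (Jh K p) :=
      isZero_J (((K.exactAt_iff_isZero_homology p).1 (ShortComplex.exact_of_isZero_X₂ _ (K.isZero_of_isStrictlyGE n p hp))))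
    change IsZero ((Jb K p ⊞ Jh K p) ⊞ Jb K (p + 1))
    simp only [biprod_isZero_iff]
    exact ⟨⟨hz p (by omega), hzH⟩, hz (p + 1) (by omega)⟩
  · haveI : ∀ p, Mono (ι.f p) := fun p => by
      refine Preadditive.mono_of_cancel_zero _ fun {W} x hx => ?_
      change x ≫ biprod.lift (biprod.lift (e1 p) (e2 p)) (dl p ≫ j _) = 0 at hx
      have a3 := congrArg (· ≫ biprod.snd) hx
      have a2 := congrArg (· ≫ biprod.fst ≫ biprod.snd) hx
      have a1 := congrArg (· ≫ biprod.fst ≫ biprod.fst) hx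
      simp only [Category.assoc, biprod.lift_snd, biprod.lift_fst_assoc, biprod.lift_fst, zero_comp] at a1 a2 a3
      have hd : x ≫ K.d p (p + 1) = 0 := by
        have : x ≫ dl p = 0 := (cancel_mono (j _)).1 ((Category.assoc _ _ _).trans (a3.trans zero_comp.symm))
        rw [← hdl, reassoc_of% this, zero_comp]
      obtain ⟨z, rfl⟩ : ∃ z, x = z ≫ K.iCycles p :=
        ⟨K.liftCycles x (p + 1) (by simp) hd, (K.liftCycles_i _ _ _ _).symm⟩
      rw [Category.assoc, he2, ← Category.assoc] at a2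
      have hop : (z ≫ K.iCycles p) ≫ K.pOpcycles p = 0 := by
        rw [Category.assoc, ← homology_π_ι, ← Category.assoc, (cancel_mono (j _)).1 (a2.trans zero_comp.symm), zero_comp]
      rw [← kernel.lift_ι (K.pOpcycles p) _ hop, Category.assoc, he1] at a1
      rw [← kernel.lift_ι (K.pOpcycles p) _ hop, (cancel_mono (j _)).1 (a1.trans zero_comp.symm), zero_comp]
    exact mono_of_mono_f _ this
  · refine Retract.injective (Y := (Ec K).X p)
      { i := (Ec K).iCycles p
        r := biprod.fst ≫ (Ec K).liftCycles biprod.inl (p + 1) (by simp) (by rw [Ec_d]; simp)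
        retract := ?_ }
    rw [← cancel_mono ((Ec K).iCycles p), Category.assoc, Category.assoc, liftCycles_i, Category.id_comp]
    conv_rhs => rw [← Category.comp_id ((Ec K).iCycles p)]
    conv_rhs => arg 2; change 𝟙 ((Jb K p ⊞ Jh K p) ⊞ Jb K (p + 1)); rw [← biprod.total]
    rw [Preadditive.comp_add, reassoc_of% (hsnd p), zero_comp, add_zero]
  · refine Retract.injective (Y := Jh K p)
      { i := r p
        r := (Ec K).liftCycles (biprod.inr ≫ biprod.inl) (p + 1) (by simp) (by rw [Ec_d]; simp) ≫ (Ec K).homologyπ p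
        retract := ?_ }
    obtain ⟨q, rfl⟩ : ∃ q, p = q + 1 := ⟨p - 1, by omega⟩
    rw [← cancel_epi ((Ec K).homologyπ (q + 1)), reassoc_of% (hπr (q + 1)), Category.comp_id, eq_comm, ← sub_eq_zero]
    let x : (Ec K).cycles (q + 1) ⟶ (Ec K).X q := (Ec K).iCycles (q + 1) ≫ biprod.fst ≫ biprod.fst ≫ biprod.inr
    have hx : x ≫ (Ec K).toCycles q (q + 1) = 𝟙 _ - (Ec K).iCycles (q + 1) ≫ biprod.fst ≫ biprod.snd ≫
        (Ec K).liftCycles (biprod.inr ≫ biprod.inl) (q + 1 + 1) (by simp) (by rw [Ec_d]; simp) := by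
      rw [← cancel_mono ((Ec K).iCycles (q + 1)), Preadditive.sub_comp, Category.id_comp]
      simp only [x, Category.assoc, toCycles_i, liftCycles_i, Ec_d]
      apply biprod.hom_ext
      · apply biprod.hom_ext <;> simp [T]
      · simp [T, hsnd]
    have := congrArg (· ≫ (Ec K).homologyπ (q + 1)) hx
    simp only [Category.assoc, toCycles_comp_homologyπ, comp_zero, Preadditive.sub_comp, Category.id_comp] at this
    exact this.symm
  · haveI := hj (K.homology p)
    refine mono_of_mono_fac (?_ : homologyMap ι p ≫ r p = j (K.homology p))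
    rw [← cancel_epi (K.homologyπ p), homologyπ_naturality_assoc, hπr, cyclesMap_i_assoc, ← he2]
    simp [ι, f]

end

section Seq

variable {C C' E : CochainComplex A ℤ} (ι : C ⟶ E) (π : E ⟶ C') (w : ι ≫ π = 0)
  (hS : (ShortComplex.mk ι π w).ShortExact) (hm : ∀ p, Mono (homologyMap ι p))

include hS hm

lemma ses_homology (p : ℤ) : ((ShortComplex.mk ι π w).map (homologyFunctor A (ComplexShape.up ℤ) p)).ShortExact := by
  haveI := hm (p + 1)
  haveI : Epi (homologyMap π p) := (hS.homology_exact₃ p (p + 1) rfl).epi_f (by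
    exact (cancel_mono (homologyMap ι (p + 1))).1 ((hS.δ_comp p (p + 1) rfl).trans zero_comp.symm))
  exact { exact := hS.homology_exact₂ p, mono_f := hm p, epi_g := inferInstanceAs (Epi (homologyMap π p)) }

lemma ses_cycles (p : ℤ) : ((ShortComplex.mk ι π w).map (cyclesFunctor A (ComplexShape.up ℤ) p)).ShortExact := by
  haveI := hS.mono_f
  haveI : Epi π := hS.epi_g
  haveI : Mono (homologyMap ι p) := hm p
  haveI : Epi (homologyMap π p) := (ses_homology ι π w hS hm p).epi_g
  haveI : Mono (ι.f p) := inferInstanceAs (Mono ((eval A (ComplexShape.up ℤ) p).map ι))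
  haveI : Epi (π.f (p - 1)) := inferInstanceAs (Epi ((eval A (ComplexShape.up ℤ) (p - 1)).map π))
  have he : Epi (cyclesMap π p) := by
    rw [epi_iff_surjective_up_to_refinements]
    intro T g
    obtain ⟨T₁, p₁, hp₁, y, hy⟩ :=
      surjective_up_to_refinements_of_epi (E.homologyπ p ≫ homologyMap π p) (g ≫ C'.homologyπ p)
    rw [homologyπ_naturality] at hy
    have h0 : (p₁ ≫ g - y ≫ cyclesMap π p) ≫ C'.homologyπ p = 0 := by
      rw [Preadditive.sub_comp, Category.assoc, hy, Category.assoc, sub_self]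
    obtain ⟨T₂, p₂, hp₂, x, hx⟩ :=
      (C'.comp_homologyπ_eq_zero_iff_up_to_refinements (p - 1) p (by simp) _).1 h0
    obtain ⟨T₃, p₃, hp₃, z, hz⟩ := surjective_up_to_refinements_of_epi (π.f (p - 1)) x
    refine ⟨T₃, p₃ ≫ p₂ ≫ p₁, inferInstance, p₃ ≫ p₂ ≫ y + z ≫ E.toCycles (p - 1) p, ?_⟩
    have hn : E.toCycles (p - 1) p ≫ cyclesMap π p = π.f (p - 1) ≫ C'.toCycles (p - 1) p := by
      rw [← cancel_mono (C'.iCycles p), Category.assoc, cyclesMap_i]; simp
    rw [Preadditive.add_comp, Category.assoc z, hn, ← reassoc_of% hz, ← hx]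
    simp [Preadditive.comp_sub]
  exact { exact := cycles_left_exact _ hS.exact p
          mono_f := mono_of_mono_fac (cyclesMap_i ι p)
          epi_g := he }

end Seq

/-- Columns. -/
lemma column (G : CochainComplex A ℤ ⥤ A) [G.PreservesZeroMorphisms] {C E : ℕ → CochainComplex A ℤ}
    (ι : ∀ m, C m ⟶ E m) (π : ∀ m, E m ⟶ C (m + 1)) (w : ∀ m, ι m ≫ π m = 0)
    (hses : ∀ m, ((ShortComplex.mk (ι m) (π m) (w m)).map G).ShortExact) (hinj : ∀ m, Injective (G.obj (E m)))
    (I : CochainComplex (CochainComplex A ℤ) ℤ) (hneg : ∀ q : ℤ, q < 0 → IsZero (I.X q)) (e : ∀ m : ℕ, I.X m ≅ E m)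
    (hd : ∀ m : ℕ, I.d (m : ℤ) ((m : ℤ) + 1) ≫ (e (m + 1)).hom = (e m).hom ≫ π m ≫ ι (m + 1)) :
    CE.IsInjResolutionVia ((G.mapHomologicalComplex (ComplexShape.up ℤ)).obj I) (G.obj (C 0))
      (G.map (ι 0 ≫ (e 0).inv)) := by
  have hex : ∀ m : ℕ, ((ShortComplex.mk (G.map (ι m)) (G.map (π m ≫ ι (m + 1)))
      (by rw [← G.map_comp, ← Category.assoc, w m, zero_comp, G.map_zero]))).Exact := fun m => by
    rw [ShortComplex.exact_iff_exact_up_to_refinements]
    intro T x hx
    change x ≫ G.map (π m ≫ ι (m + 1)) = 0 at hx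
    have hx : (x ≫ G.map (π m)) ≫ G.map (ι (m + 1)) = 0 :=
      (Category.assoc _ _ _).trans ((congrArg (x ≫ ·) (G.map_comp _ _).symm).trans hx)
    haveI : Mono (G.map (ι (m + 1))) := (hses (m + 1)).mono_f
    have h := (hses m).exact
    rw [ShortComplex.exact_iff_exact_up_to_refinements] at h
    exact h x ((cancel_mono (G.map (ι (m + 1)))).1 (hx.trans zero_comp.symm))
  have hd' : ∀ m : ℕ, G.map (I.d (m : ℤ) ((m : ℤ) + 1)) ≫ G.map (e (m + 1)).hom =
      G.map (e m).hom ≫ G.map (π m ≫ ι (m + 1)) := fun m => by rw [← G.map_comp, ← G.map_comp, hd]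
  have h0 : G.map (ι 0 ≫ (e 0).inv) ≫ G.map (I.d 0 (0 + 1)) = 0 := by
    rw [← cancel_mono (G.map (e 1).hom), zero_comp, Category.assoc]
    refine (congrArg (_ ≫ ·) (hd' 0 :)).trans ?_
    rw [← G.map_comp, ← G.map_comp, Category.assoc, Iso.inv_hom_id_assoc, ← Category.assoc, w 0, zero_comp, G.map_zero]
  refine ⟨h0, ?_, fun q => ?_, fun q hq => ?_, ?_, ?_⟩
  · rw [CochainComplex.isStrictlyGE_iff]
    exact fun q hq => G.map_isZero (hneg q hq)
  · rcases lt_or_ge q 0 with hq | hq
    · exact (G.map_isZero (hneg q hq)).injective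
    · obtain ⟨m, rfl⟩ := Int.eq_ofNat_of_zero_le hq
      exact Injective.of_iso (G.mapIso (e m)).symm (hinj m)
  · rcases lt_or_ge q 0 with hq' | hq'
    · exact ShortComplex.exact_of_isZero_X₂ _ (G.map_isZero (hneg q hq'))
    · obtain ⟨m, rfl⟩ : ∃ m : ℕ, q = (m : ℤ) + 1 := ⟨(q - 1).toNat, by omega⟩
      rw [exactAt_iff' _ (m : ℤ) ((m : ℤ) + 1) ((m : ℤ) + 1 + 1) (by simp) (by simp), ShortComplex.exact_iff_exact_up_to_refinements]
      intro T x hx
      change x ≫ G.map (I.d ((m : ℤ) + 1) ((m : ℤ) + 1 + 1)) = 0 at hx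
      have h := hex (m + 1)
      rw [ShortComplex.exact_iff_exact_up_to_refinements] at h
      have hm1 : G.map (I.d ((m : ℤ) + 1) ((m : ℤ) + 1 + 1)) ≫ G.map (e (m + 1 + 1)).hom =
          G.map (e (m + 1)).hom ≫ G.map (π (m + 1) ≫ ι (m + 1 + 1)) := hd' (m + 1)
      obtain ⟨T₁, p₁, hp₁, y, hy⟩ := h (x ≫ G.map (e (m + 1)).hom) (by
        refine (Category.assoc _ _ _).trans ((congrArg (x ≫ ·) hm1.symm).trans ?_)
        exact (Category.assoc _ _ _).symm.trans ((congrArg (· ≫ _) hx).trans zero_comp))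
      change p₁ ≫ x ≫ G.map (e (m + 1)).hom = y ≫ G.map (ι (m + 1)) at hy
      haveI : Epi (G.map (π m)) := (hses m).epi_g
      obtain ⟨T₂, p₂, hp₂, z, hz⟩ := surjective_up_to_refinements_of_epi (G.map (π m)) y
      refine ⟨T₂, p₂ ≫ p₁, inferInstance, z ≫ G.map (e m).inv, ?_⟩
      change (p₂ ≫ p₁) ≫ x = (z ≫ G.map (e m).inv) ≫ G.map (I.d m (m + 1))
      haveI : IsIso (G.map (e (m + 1)).hom) := inferInstance
      apply (cancel_mono (G.map (e (m + 1)).hom)).1
      calc ((p₂ ≫ p₁) ≫ x) ≫ G.map (e (m + 1)).hom = p₂ ≫ y ≫ G.map (ι (m + 1)) := by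
            rw [← hy]; simp
        _ = z ≫ G.map (π m) ≫ G.map (ι (m + 1)) := by rw [reassoc_of% hz]
        _ = _ := by
          rw [Category.assoc, Category.assoc, hd' m, ← G.map_comp_assoc, Iso.inv_hom_id, G.map_id, Category.id_comp,
            G.map_comp]
  · haveI : Mono (G.map (ι 0)) := (hses 0).mono_f
    rw [G.map_comp]
    exact mono_comp _ _
  · refine ShortComplex.exact_of_iso (Iso.symm ?_) (hex 0)
    refine ShortComplex.isoMk (Iso.refl _) (G.mapIso (e 0)) (G.mapIso (e 1)) ?_ ?_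
    · change 𝟙 _ ≫ G.map (ι 0) = G.map (ι 0 ≫ (e 0).inv) ≫ G.map (e 0).hom
      rw [Category.id_comp, ← G.map_comp, Category.assoc, Iso.inv_hom_id, Category.comp_id]
    · exact (hd' 0 :).symm

theorem main [EnoughInjectives A] (K : CochainComplex A ℤ) (n : ℤ) [K.IsStrictlyGE n] :
    ∃ (I : CochainComplex (CochainComplex A ℤ) ℤ) (ε : K ⟶ I.X 0) (hε : ε ≫ I.d 0 1 = 0),
      (∃ i : ℤ, ∀ p q : ℤ, p < i → IsZero ((I.X q).X p)) ∧
      (∀ p : ℤ, CE.IsInjResolutionVia (((eval A (ComplexShape.up ℤ) p).mapHomologicalComplex (ComplexShape.up ℤ)).obj I) (K.X p) (ε.f p)) ∧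
      (∀ p : ℤ, CE.IsInjResolutionVia (((cyclesFunctor A (ComplexShape.up ℤ) p).mapHomologicalComplex (ComplexShape.up ℤ)).obj I) (K.cycles p) (cyclesMap ε p)) ∧
      (∀ p : ℤ, CE.IsInjResolutionVia (((homologyFunctor A (ComplexShape.up ℤ) p).mapHomologicalComplex (ComplexShape.up ℤ)).obj I) (K.homology p) (homologyMap ε p)) := by
  choose Em em hGE hmono hX hZ hH hHm using fun (C : {C : CochainComplex A ℤ // C.IsStrictlyGE n}) =>
    (haveI := C.2; exists_emb C.1 n)
  have hco : ∀ C, (cokernel (em C)).IsStrictlyGE n := fun C => by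
    rw [CochainComplex.isStrictlyGE_iff]
    intro p hp
    haveI := hGE C
    haveI : Epi ((cokernel.π (em C)).f p) := inferInstanceAs (Epi ((eval A (ComplexShape.up ℤ) p).map (cokernel.π (em C))))
    exact IsZero.of_epi ((cokernel.π (em C)).f p) ((Em C).isZero_of_isStrictlyGE n p hp)
  let S : ℕ → {C : CochainComplex A ℤ // C.IsStrictlyGE n} := fun m =>
    Nat.rec (motive := fun _ => {C : CochainComplex A ℤ // C.IsStrictlyGE n}) ⟨K, inferInstance⟩
      (fun _ C => ⟨cokernel (em C), hco C⟩) m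
  let C : ℕ → CochainComplex A ℤ := fun m => (S m).1
  let E : ℕ → CochainComplex A ℤ := fun m => Em (S m)
  let ι : ∀ m, C m ⟶ E m := fun m => em (S m)
  let π : ∀ m, E m ⟶ C (m + 1) := fun m => cokernel.π (em (S m))
  have w : ∀ m, ι m ≫ π m = 0 := fun m => cokernel.condition _
  haveI : ∀ m, Mono (ι m) := fun m => hmono _
  have hS : ∀ m, (ShortComplex.mk (ι m) (π m) (w m)).ShortExact := fun m =>
    { exact := ShortComplex.exact_of_g_is_cokernel _ (cokernelIsCokernel _) }
  let X : ℤ → CochainComplex A ℤ := fun q => match q with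
    | .ofNat m => E m
    | .negSucc _ => HomologicalComplex.zero
  let d : ∀ q, X q ⟶ X (q + 1) := fun q => match q with
    | .ofNat m => π m ≫ ι (m + 1)
    | .negSucc _ => 0
  let I : CochainComplex (CochainComplex A ℤ) ℤ := CochainComplex.of X d (fun q => match q with
    | .ofNat m => by
      change (π m ≫ ι (m + 1)) ≫ π (m + 1) ≫ ι (m + 1 + 1) = 0
      rw [Category.assoc, reassoc_of% (w (m + 1)), zero_comp, comp_zero]
    | .negSucc _ => zero_comp)
  have hneg : ∀ q : ℤ, q < 0 → IsZero (I.X q) := fun q hq => match q with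
    | .ofNat m => absurd hq (by simp)
    | .negSucc _ => HomologicalComplex.isZero_zero
  let e : ∀ m : ℕ, I.X m ≅ E m := fun m => Iso.refl _
  have hd : ∀ m : ℕ, I.d (m : ℤ) ((m : ℤ) + 1) ≫ (e (m + 1)).hom = (e m).hom ≫ π m ≫ ι (m + 1) := fun m => by
    have h : I.d (m : ℤ) ((m : ℤ) + 1) = d m := CochainComplex.of_d X d (m : ℤ)
    refine (Category.comp_id _).trans (h.trans ?_)
    exact (Category.id_comp _).symm
  have col := fun (G : CochainComplex A ℤ ⥤ A) (_ : G.PreservesZeroMorphisms)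
    (h1 : ∀ m, ((ShortComplex.mk (ι m) (π m) (w m)).map G).ShortExact) (h2 : ∀ m, Injective (G.obj (E m))) =>
      column G ι π w h1 h2 I hneg e hd
  refine ⟨I, ι 0 ≫ (e 0).inv, ?_, ⟨n, fun p q hp => ?_⟩, fun p => ?_, fun p => ?_, fun p => ?_⟩
  · have this : I.d 0 1 ≫ (e 1).hom = (e 0).hom ≫ π 0 ≫ ι 1 := hd 0
    have h1 : I.d 0 1 = π 0 ≫ ι 1 := (Category.comp_id _).symm.trans (this.trans (Category.id_comp _))
    change (ι 0 ≫ 𝟙 _) ≫ I.d 0 1 = 0
    rw [h1, Category.comp_id, ← Category.assoc, w 0, zero_comp]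
  · match q with
    | .ofNat m => exact (hGE (S m) |> fun h => (E m).isZero_of_isStrictlyGE n p hp)
    | .negSucc _ => exact Functor.map_isZero (eval A (ComplexShape.up ℤ) p) HomologicalComplex.isZero_zero
  · exact col (eval A (ComplexShape.up ℤ) p) inferInstance (fun m => (hS m).map_of_exact _) (fun m => hX _ p)
  · exact col (cyclesFunctor A (ComplexShape.up ℤ) p) inferInstance (fun m => ses_cycles _ _ _ (hS m) (hHm _) p)
      (fun m => hZ _ p)
  · exact col (homologyFunctor A (ComplexShape.up ℤ) p) inferInstance (fun m => ses_homology _ _ _ (hS m) (hHm _) p)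
      (fun m => hH _ p)

end

/-- Existence of Cartan–Eilenberg resolutions: let A be an abelian category with enough injectives and K
a bounded below cochain complex in A. There is a double complex I — written as a cochain complex (in
the vertical degree q) of cochain complexes (in the horizontal degree p) — with an augmentation ε :
K ⟶ I⁰ killed by the vertical differential I⁰ ⟶ I¹, such that: I^{p,q} = 0 for p below some bound
and for q < 0; for every p the column (I^{p,q})_q with augmentation εᵖ is an injective resolution of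
Kᵖ; the column of horizontal cycles at p, with the augmentation induced on cycles, is an injective
resolution of the cycles Zᵖ(K); and the column of horizontal cohomology at p, with the induced
augmentation, is an injective resolution of Hᵖ(K). (The usual definition of a Cartan–Eilenberg
resolution also asks the columns of horizontal images to resolve the images Bᵖ(K); that condition is
not asserted here.) -/
theorem result {A : Type u} [Category.{v} A] [Abelian A] [EnoughInjectives A]
    (K : CochainComplex A ℤ) (n : ℤ) [K.IsStrictlyGE n] :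
    ∃ (I : CochainComplex (CochainComplex A ℤ) ℤ) (ε : K ⟶ I.X 0) (hε : ε ≫ I.d 0 1 = 0),
      (∃ i : ℤ, ∀ p q : ℤ, p < i → IsZero ((I.X q).X p)) ∧
      (∀ p : ℤ, CE.IsInjResolutionVia (((HomologicalComplex.eval A (ComplexShape.up ℤ) p).mapHomologicalComplex (ComplexShape.up ℤ)).obj I) (K.X p) (ε.f p)) ∧
      (∀ p : ℤ, CE.IsInjResolutionVia (((HomologicalComplex.cyclesFunctor A (ComplexShape.up ℤ) p).mapHomologicalComplex (ComplexShape.up ℤ)).obj I) (K.cycles p) (HomologicalComplex.cyclesMap ε p)) ∧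
      (∀ p : ℤ, CE.IsInjResolutionVia (((HomologicalComplex.homologyFunctor A (ComplexShape.up ℤ) p).mapHomologicalComplex (ComplexShape.up ℤ)).obj I) (K.homology p) (HomologicalComplex.homologyMap ε p)) := by
  exact main K n

end Groth.Agent.S1122
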