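import Groth.Statements.S11221
import Mathlib.RingTheory.Ideal.AssociatedPrime.Localization
import Mathlib.RingTheory.Ideal.Height
import Mathlib.RingTheory.Ideal.KrullsHeightTheorem

set_option autoImplicit false
universe u
open CategoryTheory MonoidalCategory CartesianMonoidalCategory MonObj GrpObj AlgebraicGeometry
open scoped TensorProduct
open AGF

namespace Groth.Agent.S11221

/-- Let R be a Noetherian integrally closed domain with fraction field K and let p be a prime ideal of R
of height one. Then there is f ∈ K which is not in R but lies in the local ring R_q ⊆ K of every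
height-one prime q ≠ p (f = a/b with b ∉ q): a rational function on Spec R with a pole along V(p)
only. (The published statement is for the coordinate ring of a normal affine variety; this row is
for any Noetherian integrally closed domain, which is all the argument uses.) -/
theorem result (R : Type u) [CommRing R] [IsDomain R] [IsNoetherianRing R] [IsIntegrallyClosed R]
    (p : Ideal R) [p.IsPrime] (hp : p.height = 1) :
    ∃ f : FractionRing R, f ∉ Set.range ⇑(algebraMap R (FractionRing R)) ∧
      ∀ q : Ideal R, q.IsPrime → q.height = 1 → q ≠ p →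
        ∃ a b : R, b ∉ q ∧ f * algebraMap R (FractionRing R) b = algebraMap R (FractionRing R) a := by
  obtain ⟨c, hcp, hc0⟩ : ∃ c ∈ p, c ≠ 0 := Submodule.exists_mem_ne_zero_of_ne_bot fun h => by
    rw [h, Ideal.height_bot] at hp; exact zero_ne_one hp
  have hmin : p ∈ (Module.annihilator R (R ⧸ Ideal.span {c})).minimalPrimes := by
    rw [Ideal.annihilator_quotient]
    have hle : Ideal.span {c} ≤ p := (Ideal.span_singleton_le_iff_mem p).2 hcp
    refine ⟨⟨‹_›, hle⟩, ?_⟩
    rintro q ⟨hq, hcq⟩ hqp
    by_contra hne
    have hlt : q < p := lt_of_le_not_ge hqp hne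
    have h := Ideal.height_strict_mono_of_isPrime_of_isPrime hlt
    rw [hp, ENat.lt_one_iff_eq_zero, Ideal.height_eq_zero_iff] at h
    rw [IsDomain.minimalPrimes_eq_singleton_bot] at h
    rw [Set.mem_singleton_iff] at h
    exact hc0 (Ideal.mem_bot.1 (h ▸ hcq (Ideal.mem_span_singleton_self c)))
  have hass : p ∈ associatedPrimes R (R ⧸ Ideal.span {c}) :=
    Module.associatedPrimes.minimalPrimes_annihilator_subset_associatedPrimes R _ hmin
  obtain ⟨-, x, hx⟩ := isAssociatedPrime_iff.1 hass
  obtain ⟨a, rfl⟩ := Ideal.Quotient.mk_surjective x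
  have hxm : ∀ b, b ∈ p ↔ c ∣ b * a := by
    intro b
    rw [hx, Submodule.mem_colon_singleton, Submodule.mem_bot, ← Ideal.mem_span_singleton,
      ← Ideal.Quotient.eq_zero_iff_mem, map_mul]
    rfl
  have hc : algebraMap R (FractionRing R) c ≠ 0 :=
    (map_ne_zero_iff _ (IsFractionRing.injective R (FractionRing R))).2 hc0
  refine ⟨algebraMap R _ a / algebraMap R _ c, ?_, fun q hq hq1 hne => ?_⟩
  · rintro ⟨r, hr⟩
    rw [eq_div_iff hc, ← map_mul] at hr
    have : c ∣ 1 * a := ⟨r, by rw [_root_.one_mul, ← IsFractionRing.injective R (FractionRing R) hr, mul_comm]⟩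
    exact (‹p.IsPrime›).ne_top ((Ideal.eq_top_iff_one _).2 ((hxm 1).2 this))
  · obtain ⟨b, hbp, hbq⟩ : ∃ b ∈ p, b ∉ q := by
      by_contra h
      push Not at h
      rcases (show p ≤ q from h).lt_or_eq with hlt | heq
      · have := Ideal.height_strict_mono_of_isPrime_of_isPrime hlt
        rw [hp, hq1] at this
        exact lt_irrefl _ this
      · exact hne heq.symm
    obtain ⟨r, hr⟩ := (hxm b).1 hbp
    refine ⟨r, b, hbq, ?_⟩
    rw [div_mul_eq_mul_div, div_eq_iff hc, ← map_mul, ← map_mul, mul_comm a b, hr, mul_comm]

end Groth.Agent.S11221
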