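import Groth.Statements.S11223
import Mathlib
-- import your own Groth.Agent.* helpers here

set_option autoImplicit false
universe u
open CAlg

open MvPolynomial

namespace Groth.Agent.S11223

variable {k : Type u} [Field k] {n m : ℕ}

theorem homComp_mul {d : ℕ} (f g : MvPolynomial (Fin n) k) (hg : g.IsHomogeneous d) (D : ℕ) (hD : d ≤ D) :
    homogeneousComponent D (f * g) = homogeneousComponent (D - d) f * g := by
  classical
  conv_lhs => rw [← sum_homogeneousComponent f, Finset.sum_mul, map_sum]
  by_cases hmem : D - d ∈ Finset.range (f.totalDegree + 1)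
  · rw [Finset.sum_eq_single_of_mem _ hmem]
    · rw [homogeneousComponent_of_mem ((homogeneousComponent_isHomogeneous (D - d) f).mul hg), if_pos (by omega)]
    · intro b _ hb
      rw [homogeneousComponent_of_mem ((homogeneousComponent_isHomogeneous b f).mul hg), if_neg (by omega)]
  · rw [homogeneousComponent_eq_zero (D - d) f (by simp only [Finset.mem_range] at hmem; omega), zero_mul]
    refine Finset.sum_eq_zero fun b hb => ?_
    rw [homogeneousComponent_of_mem ((homogeneousComponent_isHomogeneous b f).mul hg), if_neg ?_]
    intro h
    exact hmem (by rw [show D - d = b by omega]; exact hb)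

theorem main (z : Fin m → MvPolynomial (Fin n) k) (d : Fin m → ℕ) (hd : ∀ i, 0 < d i)
    (hz : ∀ i, (z i).IsHomogeneous (d i))
    (hrad : (Ideal.span (Set.range z)).radical =
      Ideal.span (Set.range (MvPolynomial.X : Fin n → MvPolynomial (Fin n) k))) :
    Algebra.IsIntegral (Algebra.adjoin k (Set.range z)) (MvPolynomial (Fin n) k) := by
  classical
  let P := MvPolynomial (Fin n) k
  let A := Algebra.adjoin k (Set.range z)
  have hX : ∀ i, ∃ N, (X i : P) ^ N ∈ Ideal.span (Set.range z) := fun i => by
    have : (X i : P) ∈ (Ideal.span (Set.range z)).radical := by rw [hrad]; exact Ideal.subset_span ⟨i, rfl⟩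
    exact this
  choose N hN using hX
  let B : Set P := {q | ∃ e : Fin n →₀ ℕ, (∀ i, e i ≤ N i) ∧ q = monomial e 1}
  have hBf : B.Finite := ((Set.Finite.pi fun i => Set.finite_Iic (N i)).preimage
      (f := fun e : Fin n →₀ ℕ => (e : Fin n → ℕ)) DFunLike.coe_injective.injOn).image (fun e => monomial e (1 : k)) |>.subset (by
    rintro q ⟨e, he, rfl⟩
    exact ⟨e, fun i _ => he i, rfl⟩)
  let M := Submodule.span A B
  have key : ∀ D, ∀ f : P, f.IsHomogeneous D → f ∈ M := by
    intro D
    induction D using Nat.strong_induction_on with
    | _ D ih =>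
      intro f hf
      rw [f.as_sum]
      refine sum_mem fun e he => ?_
      have hdeg : e.degree = D := by
        rw [mem_support_iff] at he
        rw [← hf he, Finsupp.degree_eq_weight_one]
        rfl
      by_cases hsmall : ∀ i, e i ≤ N i
      · have : monomial e (coeff e f) = (⟨C (coeff e f), A.algebraMap_mem (coeff e f)⟩ : A) • (monomial e 1 : P) := by
          show _ = C (coeff e f) * monomial e 1
          rw [C_mul_monomial, mul_one]
        rw [this]
        exact M.smul_mem _ (Submodule.subset_span ⟨e, hsmall, rfl⟩)
      · push Not at hsmall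
        obtain ⟨i, hi⟩ := hsmall
        let e' := e - Finsupp.single i (N i)
        have hee : Finsupp.single i (N i) + e' = e := add_tsub_cancel_of_le (Finsupp.single_le_iff.2 hi.le)
        have hmono : monomial e (coeff e f) = monomial e' (coeff e f) * (X i : P) ^ N i := by
          rw [X_pow_eq_monomial, monomial_mul, mul_one, add_comm, hee]
        obtain ⟨g, hg⟩ := (Submodule.mem_span_range_iff_exists_fun P).1 (hN i)
        have hhom : (monomial e (coeff e f)).IsHomogeneous D := isHomogeneous_monomial _ hdeg
        rw [← (homogeneousComponent_of_mem hhom).trans (if_pos rfl), hmono, ← hg, Finset.mul_sum, map_sum]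
        refine sum_mem fun j _ => ?_
        by_cases hjD : d j ≤ D
        · rw [smul_eq_mul, ← mul_assoc, homComp_mul _ _ (hz j) D hjD, mul_comm]
          exact M.smul_mem (⟨z j, Algebra.subset_adjoin ⟨j, rfl⟩⟩ : A)
            (ih (D - d j) (by have := hd j; omega) _ (homogeneousComponent_isHomogeneous _ _))
        · rw [smul_eq_mul, ← mul_assoc, ← sum_homogeneousComponent (monomial e' (coeff e f) * g j), Finset.sum_mul, map_sum]
          refine sum_mem fun b _ => ?_
          rw [homogeneousComponent_of_mem ((homogeneousComponent_isHomogeneous b _).mul (hz j)), if_neg (by omega)]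
          exact zero_mem _
  haveI : Module.Finite A P := ⟨⟨hBf.toFinset, by
    rw [Set.Finite.coe_toFinset, eq_top_iff]
    intro f _
    rw [← sum_homogeneousComponent f]
    exact sum_mem fun b _ => key b _ (homogeneousComponent_isHomogeneous b f)⟩⟩
  exact Algebra.IsIntegral.of_finite A P

end Groth.Agent.S11223

namespace Groth.Agent.S11223

/-- Let k be a field, let z_1, ..., z_m be homogeneous polynomials of positive degree in the polynomial
ring k[x_1, ..., x_n], and suppose the radical of the ideal (z_1, ..., z_m) is the ideal (x_1, ...,
x_n) generated by the variables. Then the polynomial ring is integral over the subalgebra generated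
by z_1, ..., z_m. (The published statement is over an algebraically closed field; this row takes any
field, which its proof allows.) -/
theorem result (k : Type u) [Field k] (n m : ℕ)
    (z : Fin m → MvPolynomial (Fin n) k) (d : Fin m → ℕ) (hd : ∀ i, 0 < d i)
    (hz : ∀ i, (z i).IsHomogeneous (d i))
    (hrad : (Ideal.span (Set.range z)).radical =
      Ideal.span (Set.range (MvPolynomial.X : Fin n → MvPolynomial (Fin n) k))) :
    Algebra.IsIntegral (Algebra.adjoin k (Set.range z)) (MvPolynomial (Fin n) k) := by
  exact Groth.Agent.S11223.main z d hd hz hrad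

end Groth.Agent.S11223
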