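import Groth.Statements.S11231
-- import your own Groth.Agent.* helpers here

set_option autoImplicit false
universe u
open CategoryTheory MonoidalCategory CartesianMonoidalCategory MonObj GrpObj AlgebraicGeometry
open scoped TensorProduct
open AGF

namespace Groth.Agent.S11231

/-- Let k an algebraically closed field, G a connected reductive linear algebraic group over k, B a
Borel subgroup of G with unipotent radical U (a maximal unipotent subgroup), and let A be a
commutative k-algebra with a rational action of G by algebra automorphisms. If A is an integrally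
closed domain then so is A^U. (The published statement is for A normal; its proof reduces to the
case of a domain, which is the case stated here.) -/
theorem result (k : Type u) [Field k] [IsAlgClosed k]
    (G : Over (Spec (CommRingCat.of k))) [GrpObj G] (hG : Red.IsReductiveOver k G)
    (Bo : Over (Spec (CommRingCat.of k))) [GrpObj Bo] (iB : Bo ⟶ G) (hB : Red.IsBorelOver k iB)
    (U : Over (Spec (CommRingCat.of k))) [GrpObj U] (u : U ⟶ Bo) (hU : Par.IsUnipotentRadical u)
    (A : Type u) [CommRing A] [IsDomain A] [Algebra k A] [IsIntegrallyClosed A]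
    (ρ : VecGrp.GMod G A) (hρ : ρ.IsMult) :
    IsIntegrallyClosed ↥(ρ.fixedSubalgebra hρ (u ≫ iB)) := by
  let S := ρ.fixedSubalgebra hρ (u ≫ iB)
  let g : ↥S →+* FractionRing A := (algebraMap A (FractionRing A)).comp S.val.toRingHom
  have hg : Function.Injective g := (IsFractionRing.injective A (FractionRing A)).comp Subtype.val_injective
  let φ : FractionRing ↥S →+* FractionRing A := IsFractionRing.lift hg
  have hφ : ∀ y : ↥S, φ (algebraMap ↥S (FractionRing ↥S) y) = algebraMap A (FractionRing A) y.1 := fun y =>
    IsFractionRing.lift_algebraMap hg y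
  refine (isIntegrallyClosed_iff (FractionRing ↥S)).2 fun {x} hx => ?_
  have hx' : IsIntegral A (φ x) := hx.map_of_comp_eq S.val.toRingHom φ (RingHom.ext fun y => (hφ y).symm)
  obtain ⟨a, ha⟩ := IsIntegrallyClosed.isIntegral_iff.1 hx'
  obtain ⟨a₀, b₀, hb₀, rfl⟩ := IsFractionRing.div_surjective ↥S x
  have hb : (b₀ : A) ≠ 0 := fun h => nonZeroDivisors.ne_zero hb₀ (Subtype.ext h)
  have hab : a * (b₀ : A) = a₀ := by
    apply IsFractionRing.injective A (FractionRing A)
    rw [map_mul, ha, map_div₀, hφ, hφ, div_mul_cancel₀]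
    exact (map_ne_zero_iff _ (IsFractionRing.injective A (FractionRing A))).2 hb
  have hmem : a ∈ S := by
    intro B _ _ h
    have h1 := (hρ B (h ≫ u ≫ iB)).1 ((1 : B) ⊗ₜ[k] a) ((1 : B) ⊗ₜ[k] (b₀ : A))
    rw [Algebra.TensorProduct.tmul_mul_tmul, _root_.one_mul, hab, a₀.2 B h, b₀.2 B h] at h1
    have h2 : ((1 : B) ⊗ₜ[k] a₀.1 : VecGrp.W k A B) = ((1 : B) ⊗ₜ[k] a) * ((1 : B) ⊗ₜ[k] b₀.1) := by
      rw [Algebra.TensorProduct.tmul_mul_tmul, _root_.one_mul, hab]
    rw [h2] at h1
    have hreg : Function.Injective (LinearMap.lTensor B (LinearMap.mulRight k b₀.1)) :=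
      Module.Flat.lTensor_preserves_injective_linearMap (M := B) (LinearMap.mulRight k b₀.1) (mul_left_injective₀ hb)
    have key : ∀ z : B ⊗[k] A, LinearMap.lTensor B (LinearMap.mulRight k b₀.1) z = z * ((1 : B) ⊗ₜ[k] b₀.1) := by
      intro z
      induction z using TensorProduct.induction_on with
      | zero => simp
      | tmul b c => simp
      | add z w hz hw => rw [map_add, add_mul, hz, hw]
    exact (hreg ((key _).trans (h1.trans (key _).symm))).symm
  refine ⟨⟨a, hmem⟩, ?_⟩
  rw [eq_div_iff ((map_ne_zero_iff _ (IsFractionRing.injective _ _)).2 (nonZeroDivisors.ne_zero hb₀)), ← map_mul]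
  exact congrArg _ (Subtype.ext hab)

end Groth.Agent.S11231
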