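import Groth.Statements.S11233
import Mathlib.Algebra.MvPolynomial.Funext
import Mathlib.LinearAlgebra.Matrix.NonsingularInverse
import Mathlib.FieldTheory.IsAlgClosed.Basic

set_option autoImplicit false
universe u
open CAlg

namespace Groth.Agent.S11233

/-- Let k be an algebraically closed field, A an integral domain which is a k-algebra, T an m by m
matrix over A with invertible determinant, and let the additive group k^m act on the polynomial ring
A[y_1, ..., y_m] by the A-algebra maps y_s ↦ y_s + Σ_r h_r T_rs. Then the only invariant polynomials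
are the constants: a polynomial fixed by all these substitutions lies in A. -/
theorem result (k : Type u) [Field k] [IsAlgClosed k]
    (A : Type u) [CommRing A] [IsDomain A] [Algebra k A] (m : ℕ) (T : Matrix (Fin m) (Fin m) A)
    (hT : IsUnit T.det) (f : MvPolynomial (Fin m) A)
    (hf : ∀ h : Fin m → k, MvPolynomial.aeval
      (fun s : Fin m => MvPolynomial.X s + MvPolynomial.C (∑ r : Fin m, algebraMap k A (h r) * T r s)) f = f) :
    ∃ a : A, f = MvPolynomial.C a := by
  classical
  have hev : ∀ h : Fin m → k, MvPolynomial.eval (fun s => ∑ r, algebraMap k A (h r) * T r s) f =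
      MvPolynomial.eval 0 f := by
    intro h
    conv_rhs => rw [← hf h]
    rw [MvPolynomial.aeval_def, MvPolynomial.eval₂_comp_left]
    rw [show (MvPolynomial.eval (0 : Fin m → A)).comp (algebraMap A (MvPolynomial (Fin m) A)) = RingHom.id A from
      RingHom.ext fun a => MvPolynomial.eval_C _, MvPolynomial.eval₂_id]
    congr 2
    funext s
    simp
  let ψ := MvPolynomial.aeval (R := A)
    (fun s : Fin m => ∑ r, MvPolynomial.C (T r s) * (MvPolynomial.X r : MvPolynomial (Fin m) A))
  have hψ : ψ f = MvPolynomial.C (MvPolynomial.eval 0 f) := by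
    refine MvPolynomial.funext_set (fun _ => Set.range (algebraMap k A))
      (fun _ => Set.infinite_range_of_injective (algebraMap k A).injective) fun x hx => ?_
    choose c hc using fun r => hx r trivial
    rw [MvPolynomial.eval_C, ← hev c, MvPolynomial.aeval_def, MvPolynomial.eval₂_comp_left,
      show (MvPolynomial.eval x).comp (algebraMap A (MvPolynomial (Fin m) A)) = RingHom.id A from
      RingHom.ext fun a => MvPolynomial.eval_C _, MvPolynomial.eval₂_id]
    congr 2
    funext s
    simp [hc, mul_comm]
  let ψ' := MvPolynomial.aeval (R := A)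
    (fun s : Fin m => ∑ r, MvPolynomial.C (T⁻¹ r s) * (MvPolynomial.X r : MvPolynomial (Fin m) A))
  refine ⟨MvPolynomial.eval 0 f, ?_⟩
  have hinv : ψ'.comp ψ = AlgHom.id A _ := by
    refine MvPolynomial.algHom_ext fun s => ?_
    simp only [AlgHom.comp_apply, ψ, ψ', MvPolynomial.aeval_X, map_sum, map_mul, MvPolynomial.aeval_C,
      MvPolynomial.algebraMap_eq, Finset.mul_sum, AlgHom.id_apply]
    rw [Finset.sum_comm]
    have hTT := Matrix.nonsing_inv_mul T hT
    calc ∑ j, ∑ i, MvPolynomial.C (T i s) * (MvPolynomial.C (T⁻¹ j i) * MvPolynomial.X j)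
        = ∑ j, MvPolynomial.C ((T⁻¹ * T) j s) * MvPolynomial.X j := by
          simp only [Matrix.mul_apply, map_sum, map_mul, Finset.sum_mul]
          exact Finset.sum_congr rfl fun j _ => Finset.sum_congr rfl fun i _ => by ring
      _ = MvPolynomial.X s := by
          simp [hTT, Matrix.one_apply, apply_ite MvPolynomial.C, ite_mul]
  have := congrArg ψ' hψ
  rw [← AlgHom.comp_apply, hinv] at this
  simpa [ψ', MvPolynomial.aeval_C] using this

end Groth.Agent.S11233
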