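import Groth.Statements.S11235
import Mathlib
-- import your own Groth.Agent.* helpers here

set_option autoImplicit false
universe u
open CAlg

namespace Groth.Agent.S11235

/-- Let k be an algebraically closed field, A a commutative k-algebra, α ∈ k, and M a maximal ideal of
the polynomial ring A[x] containing x - α. Let I ⊆ M be an ideal whose zero set in Spec A[x] is
invariant under the automorphisms x ↦ c·x, c ∈ k nonzero (equivalently: the image of I under each
such A-algebra automorphism has the same radical as I). Then there is a maximal ideal of A[x]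
containing I and x. -/
theorem result (k : Type u) [Field k] [IsAlgClosed k]
    (A : Type u) [CommRing A] [Algebra k A] (α : k)
    (M : Ideal (Polynomial A)) (hM : M.IsMaximal)
    (hα : Polynomial.X - Polynomial.C (algebraMap k A α) ∈ M)
    (I : Ideal (Polynomial A)) (hIM : I ≤ M)
    (hI : ∀ c : kˣ, (I.map (Polynomial.aeval (R := A)
      (algebraMap k A (c : k) • (Polynomial.X : Polynomial A)))).radical = I.radical) :
    ∃ N : Ideal (Polynomial A), N.IsMaximal ∧ I ≤ N ∧ Polynomial.X ∈ N := by
  let m₀ : Ideal A := M.comap Polynomial.C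
  have hmem : ∀ p : Polynomial A, p ∈ M → p.eval (algebraMap k A α) ∈ m₀ := by
    intro p hp
    show Polynomial.C (p.eval (algebraMap k A α)) ∈ M
    obtain ⟨q, hq⟩ := Polynomial.X_sub_C_dvd_sub_C_eval (p := p) (a := algebraMap k A α)
    have h2 : p - Polynomial.C (p.eval (algebraMap k A α)) ∈ M := by rw [hq]; exact M.mul_mem_right _ hα
    simpa using sub_mem hp h2
  by_contra hno
  push Not at hno
  have htop : I ⊔ Ideal.span {Polynomial.X} = ⊤ := by
    by_contra hne
    obtain ⟨N, hN, hle⟩ := Ideal.exists_le_maximal _ hne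
    exact hno N hN (le_sup_left.trans hle) (hle (Ideal.mem_sup_right (Ideal.mem_span_singleton_self _)))
  obtain ⟨i, hi, w, hw, hiw⟩ := Submodule.mem_sup.1 ((Ideal.eq_top_iff_one _).1 htop)
  obtain ⟨g, rfl⟩ := Ideal.mem_span_singleton'.1 hw
  have hi0 : i.eval 0 = 1 := by
    have := congrArg (Polynomial.eval (0 : A)) hiw
    simpa using this
  have hc : ∀ c : kˣ, i.eval (algebraMap k A (((c⁻¹ : kˣ) : k) * α)) ∈ m₀ := by
    intro c
    have h1 : i ∈ (I.map (Polynomial.aeval (R := A)
        (algebraMap k A (c : k) • (Polynomial.X : Polynomial A)))).radical := by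
      rw [hI c]; exact Ideal.le_radical hi
    obtain ⟨n, hn⟩ := h1
    haveI := hM.isPrime
    have hP : m₀.IsPrime := Ideal.IsPrime.comap _
    refine hP.mem_of_pow_mem n ?_
    have h2 : I.map (Polynomial.aeval (R := A) (algebraMap k A (c : k) • (Polynomial.X : Polynomial A))) ≤
        m₀.comap (Polynomial.evalRingHom (algebraMap k A (((c⁻¹ : kˣ) : k) * α))) := by
      refine Ideal.map_le_iff_le_comap.2 fun p hp => ?_
      simp only [Ideal.mem_comap, Polynomial.coe_evalRingHom]
      rw [Polynomial.aeval_def, Polynomial.algebraMap_eq, ← Polynomial.comp, Polynomial.eval_comp]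
      have e : (algebraMap k A (c : k) • (Polynomial.X : Polynomial A)).eval (algebraMap k A (((c⁻¹ : kˣ) : k) * α)) = algebraMap k A α := by
        rw [Polynomial.eval_smul, Polynomial.eval_X, smul_eq_mul, ← map_mul, ← mul_assoc, Units.mul_inv, one_mul]
      rw [e]
      exact hmem p (hIM hp)
    have h3 := h2 hn
    rwa [Ideal.mem_comap, map_pow, Polynomial.coe_evalRingHom] at h3
  haveI := hM.isPrime
  have hP : m₀.IsPrime := Ideal.IsPrime.comap _
  let π := Ideal.Quotient.mk m₀
  let q := i.map π
  have hq0 : q.eval 0 = 1 := by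
    rw [← map_zero π, Polynomial.eval_map_apply, hi0, map_one]
  rcases eq_or_ne α 0 with rfl | hα0
  · refine hno M hM hIM ?_
    simpa using hα
  have hinj : Function.Injective (fun c : kˣ => π (algebraMap k A (((c⁻¹ : kˣ) : k) * α))) := by
    intro a b h
    have h2 := ((π.comp (algebraMap k A)).injective) h
    exact inv_injective (Units.ext (mul_right_cancel₀ hα0 h2))
  haveI : Infinite {x : k // x ≠ 0} := (Set.finite_singleton (0 : k)).infinite_compl.to_subtype
  haveI : Infinite kˣ := Infinite.of_injective (fun x : {x : k // x ≠ 0} => Units.mk0 x.1 x.2) (fun a b h => Subtype.ext (congrArg Units.val h))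
  have hzero : q = 0 := by
    apply Polynomial.eq_zero_of_infinite_isRoot
    refine (Set.infinite_range_of_injective hinj).mono ?_
    rintro _ ⟨c, rfl⟩
    show q.eval (π _) = 0
    rw [Polynomial.eval_map_apply]
    exact Ideal.Quotient.eq_zero_iff_mem.2 (hc c)
  rw [hzero, Polynomial.eval_zero] at hq0
  exact zero_ne_one hq0
end Groth.Agent.S11235
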