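import Groth.Statements.S11238
import Mathlib

set_option autoImplicit false
universe u
open AGF

namespace Groth.Agent.S11238

open MvPolynomial in
/-- Kronecker substitution separates polynomials of bounded degree. -/
lemma eq_zero_of_kronecker {k : Type u} [Field k] {n N : ℕ} (P : MvPolynomial (Fin n) k)
    (hN : ∀ e ∈ P.support, ∀ i, e i < N)
    (h : aeval (fun i : Fin n => (Polynomial.X : Polynomial k) ^ N ^ (i : ℕ)) P = 0) : P = 0 := by
  classical
  ext e
  rw [coeff_zero]
  by_contra he
  have heS : e ∈ P.support := mem_support_iff.mpr he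
  have hterm : ∀ d : Fin n →₀ ℕ,
      aeval (fun i : Fin n => (Polynomial.X : Polynomial k) ^ N ^ (i : ℕ)) (monomial d (coeff d P)) =
        Polynomial.monomial (∑ i, d i * N ^ (i : ℕ)) (coeff d P) := fun d => by
    rw [aeval_monomial, Finsupp.prod_fintype _ _ (fun _ => pow_zero _)]
    simp only [← pow_mul]
    rw [Finset.prod_pow_eq_pow_sum, ← Polynomial.C_mul_X_pow_eq_monomial,
      Polynomial.algebraMap_eq]
    simp [Nat.mul_comm]
  rw [P.as_sum, map_sum, Finset.sum_congr rfl (fun d _ => hterm d)] at h
  have h' := congrArg (fun q => Polynomial.coeff q (∑ i, e i * N ^ (i : ℕ))) h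
  simp only [Polynomial.finsetSum_coeff, Polynomial.coeff_monomial, Polynomial.coeff_zero] at h'
  rw [Finset.sum_eq_single e] at h'
  · exact he (by simpa using h')
  · intro d hd hne
    rw [if_neg]
    intro heq
    apply hne
    ext i
    have hinj := finFunctionFinEquiv.injective (a₁ := fun j : Fin n => (⟨d j, hN d hd j⟩ : Fin N))
      (a₂ := fun j => ⟨e j, hN e heS j⟩) (Fin.ext (by rw [finFunctionFinEquiv_apply, finFunctionFinEquiv_apply]; exact heq))
    exact congrArg Fin.val (congrFun hinj i)
  · intro hnot; exact absurd heS hnot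

/-- Over an algebraically closed field k, a unirational variety of dimension one is rational. Field
form: let K be a finitely generated field extension of k of transcendence degree one (K is algebraic
over k(x) for some x ∈ K transcendental over k) admitting a k-embedding into a purely transcendental
extension k(t_1, ..., t_n). Then K = k(t) for some t ∈ K transcendental over k. -/
theorem result (k : Type u) [Field k] [IsAlgClosed k]
    (K : Type u) [Field K] [Algebra k K] (hfg : (⊤ : IntermediateField k K).FG)
    (x : K) (hx : Transcendental k x) (halg : Algebra.IsAlgebraic ↥(IntermediateField.adjoin k {x}) K)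
    (n : ℕ) (φ : K →ₐ[k] FractionRing (MvPolynomial (Fin n) k)) :
    ∃ t : K, Transcendental k t ∧ IntermediateField.adjoin k {t} = ⊤ := by
  classical
  let M := MvPolynomial (Fin n) k
  let F := FractionRing M
  have hxφ : Transcendental k (φ x) := fun h => hx ((isAlgebraic_algHom_iff φ φ.injective).mp h)
  obtain ⟨s, hs⟩ := hfg
  let S : Set K := ↑(insert x s)
  have htop : IntermediateField.adjoin k S = ⊤ := by
    rw [eq_top_iff, ← hs]
    exact IntermediateField.adjoin.mono _ _ _ (Finset.coe_subset.mpr (Finset.subset_insert x s))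
  -- a common denominator
  obtain ⟨⟨d, hd⟩, hden⟩ := IsLocalization.exist_integer_multiples_of_finset (nonZeroDivisors M)
    ((insert x s).image φ)
  have hd0 : d ≠ 0 := nonZeroDivisors.ne_zero hd
  have hint : ∀ z ∈ insert x s, ∃ P : M, algebraMap M F d * φ z = algebraMap M F P := fun z hz => by
    obtain ⟨P, hP⟩ := hden (φ z) (Finset.mem_image_of_mem φ hz)
    exact ⟨P, by rw [hP, Algebra.smul_def]⟩
  obtain ⟨a, ha⟩ := hint x (Finset.mem_insert_self x s)
  -- the specialization
  obtain ⟨N, hN⟩ : ∃ N, ∀ e ∈ d.support ∪ a.support, ∀ i, e i < N :=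
    ⟨(d.support ∪ a.support).sup (fun e => Finset.univ.sup fun i => e i) + 1, fun e he i =>
      Nat.lt_succ_of_le ((Finset.le_sup (f := fun i => e i) (Finset.mem_univ i)).trans
        (Finset.le_sup (f := fun e : Fin n →₀ ℕ => Finset.univ.sup fun i => e i) he))⟩
  let σ : M →ₐ[k] Polynomial k := MvPolynomial.aeval fun i : Fin n => (Polynomial.X : Polynomial k) ^ N ^ (i : ℕ)
  have hσd : σ d ≠ 0 := fun h => hd0
    (eq_zero_of_kronecker d (fun e he => hN e (Finset.mem_union_left _ he)) h)
  let τ : M →ₐ[k] RatFunc k := (IsScalarTower.toAlgHom k (Polynomial k) (RatFunc k)).comp σ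
  have hτd : τ d ≠ 0 := (map_ne_zero_iff _ (IsFractionRing.injective (Polynomial k) (RatFunc k))).mpr hσd
  let W := Localization.Away d
  have hdF : algebraMap M F d ≠ 0 := (map_ne_zero_iff _ (IsFractionRing.injective M F)).mpr hd0
  let ι : W →ₐ[k] F := IsLocalization.liftAlgHom (M := Submonoid.powers d) (f := IsScalarTower.toAlgHom k M F)
    (by
      rintro ⟨_, m, rfl⟩
      simp only [map_pow]
      exact (Ne.isUnit hdF).pow m)
  have hle : Submonoid.powers d ≤ nonZeroDivisors M :=
    Submonoid.powers_le.mpr (mem_nonZeroDivisors_of_ne_zero hd0)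
  have hιinj : Function.Injective ι := by
    rw [injective_iff_map_eq_zero]
    intro w hw
    obtain ⟨⟨m, e⟩, hwe⟩ := IsLocalization.surj (Submonoid.powers d) w
    have h0 : algebraMap M F m = 0 := by
      have := congrArg ι hwe
      rw [map_mul, hw, zero_mul] at this
      rw [this]
      exact (IsLocalization.lift_eq _ _).symm
    rw [IsFractionRing.to_map_eq_zero_iff] at h0
    rw [h0, map_zero] at hwe
    exact (IsLocalization.map_units W e).mul_left_eq_zero.mp hwe
  let τW : W →ₐ[k] RatFunc k := IsLocalization.liftAlgHom (M := Submonoid.powers d) (f := τ)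
    (by
      rintro ⟨_, m, rfl⟩
      simp only [map_pow]
      exact (Ne.isUnit hτd).pow m)
  let R : Subalgebra k K := Algebra.adjoin k S
  have hR : ∀ z : R, φ (z : K) ∈ ι.range := fun z => by
    have h1 : R ≤ ι.range.comap φ := Algebra.adjoin_le fun z hz => by
      obtain ⟨P, hP⟩ := hint z (Finset.mem_coe.mp hz)
      refine ⟨IsLocalization.mk' W P (⟨d, 1, pow_one d⟩ : Submonoid.powers d), ?_⟩
      show IsLocalization.lift _ _ = φ z
      rw [IsLocalization.lift_mk'_spec]
      exact hP.symm
    exact h1 z.2
  let π : R →ₐ[k] RatFunc k := τW.comp ((AlgEquiv.ofInjective ι hιinj).symm.toAlgHom.comp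
    ((φ.comp R.val).codRestrict ι.range hR))
  let xR : R := ⟨x, Algebra.subset_adjoin (Finset.mem_coe.mpr (Finset.mem_insert_self x s))⟩
  have hπx : τ d * π xR = τ a := by
    let w := (AlgEquiv.ofInjective ι hιinj).symm ⟨φ x, hR xR⟩
    have hw : ι w = φ x := congrArg Subtype.val ((AlgEquiv.ofInjective ι hιinj).apply_symm_apply ⟨φ x, hR xR⟩)
    have h1 : algebraMap M W d * w = algebraMap M W a := hιinj (by
      rw [map_mul, hw]
      show IsLocalization.lift _ _ * φ x = IsLocalization.lift _ _
      rw [IsLocalization.lift_eq, IsLocalization.lift_eq]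
      exact ha)
    have h2 := congrArg τW h1
    rw [map_mul] at h2
    have h3 : ∀ m, τW (algebraMap M W m) = τ m := fun m => IsLocalization.lift_eq _ _
    rw [h3, h3] at h2
    exact h2
  have hπx' : Transcendental k (π xR) := RatFunc.transcendental_of_ne_C _ (by
    rintro ⟨c, hc⟩
    have h1 : σ (a - MvPolynomial.C c * d) = 0 := by
      apply IsFractionRing.injective (Polynomial k) (RatFunc k)
      rw [map_zero, map_sub, map_mul, map_sub, map_mul]
      show τ a - algebraMap _ _ (σ (MvPolynomial.C c)) * τ d = 0
      rw [← hπx, hc, show σ (MvPolynomial.C c) = Polynomial.C c from MvPolynomial.aeval_C _ c,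
        RatFunc.algebraMap_C]
      ring
    have h2 := eq_zero_of_kronecker _ (fun e he => hN e (by
      have := MvPolynomial.support_sub (Fin n) a (MvPolynomial.C c * d) he
      rw [MvPolynomial.C_mul'] at this
      rcases Finset.mem_union.mp this with h | h
      · exact Finset.mem_union_right _ h
      · exact Finset.mem_union_left _ (MvPolynomial.support_smul h))) h1
    apply hxφ
    have h3 : φ x = algebraMap k F c := by
      apply mul_left_cancel₀ hdF
      rw [ha, sub_eq_zero.mp h2, map_mul, mul_comm, IsScalarTower.algebraMap_apply k M F,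
        MvPolynomial.algebraMap_eq]
    rw [h3]
    exact isAlgebraic_algebraMap c)
  let A : Subalgebra k K := Algebra.adjoin k {x}
  have hAR : A ≤ R := Algebra.adjoin_mono (Set.singleton_subset_iff.mpr
    (Finset.mem_coe.mpr (Finset.mem_insert_self x s)))
  have hπinj : Function.Injective π := by
    rw [injective_iff_map_eq_zero]
    intro r hr
    by_contra hr0
    open IntermediateField.algebraAdjoinAdjoin in
    have hrA : IsAlgebraic A (r : K) :=
      (IsFractionRing.isAlgebraic_iff A (IntermediateField.adjoin k {x}) K).mpr (halg.isAlgebraic (r : K))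
    letI : Algebra A R := (Subalgebra.inclusion hAR).toAlgebra
    haveI : IsScalarTower A R K := IsScalarTower.of_algebraMap_eq fun _ => rfl
    have hrA' : IsAlgebraic A r := (isAlgebraic_algebraMap_iff (A := K) Subtype.val_injective).mp hrA
    obtain ⟨⟨p, hp⟩, hp0, ⟨t, ht⟩⟩ := hrA'.exists_nonzero_dvd (mem_nonZeroDivisors_of_ne_zero hr0)
    obtain ⟨P, (hP' : Polynomial.aeval x P = p)⟩ := (show p ∈ (Polynomial.aeval (R := k) x).range by
      rw [← Algebra.adjoin_singleton_eq_range_aeval]; exact hp)
    subst hP'
    have h1 : π (Polynomial.aeval xR P) = 0 := by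
      have : Polynomial.aeval xR P = r * t := by
        rw [← ht]
        apply Subtype.val_injective
        exact (Polynomial.aeval_algHom_apply R.val xR P).symm
      rw [this, map_mul, hr, zero_mul]
    rw [← Polynomial.aeval_algHom_apply] at h1
    have hP : P = 0 := by
      by_contra hP
      exact hπx' ⟨P, hP, h1⟩
    apply hp0
    apply Subtype.ext
    simp [hP]
  open IntermediateField.algebraAdjoinAdjoin in
  let ψL : IntermediateField.adjoin k S →ₐ[k] RatFunc k := IsFractionRing.liftAlgHom (g := π) hπinj
  let ψ : K →ₐ[k] RatFunc k :=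
    ψL.comp ((IntermediateField.equivOfEq htop).trans IntermediateField.topEquiv).symm.toAlgHom
  have hψx : Transcendental k (ψ x) := fun h => hx ((isAlgebraic_algHom_iff ψ ψ.injective).mp h)
  have hE : ψ.fieldRange ≠ ⊥ := by
    intro h
    apply hψx
    have hm : ψ x ∈ (⊥ : IntermediateField k (RatFunc k)) := by rw [← h]; exact ⟨x, rfl⟩
    obtain ⟨c, hc⟩ := IntermediateField.mem_bot.mp hm
    rw [← hc]
    exact isAlgebraic_algebraMap c
  let e : RatFunc k ≃ₐ[k] K :=
    (RatFunc.Luroth.algEquiv hE).trans (AlgEquiv.ofInjectiveField ψ).symm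
  refine ⟨e RatFunc.X, fun h => ?_, ?_⟩
  · exact RatFunc.transcendental_X (K := k) ((isAlgebraic_algHom_iff e.toAlgHom e.injective).mp h)
  · have h1 := congrArg (IntermediateField.map e.toAlgHom) (RatFunc.adjoin_X (K := k))
    rw [IntermediateField.adjoin_map, Set.image_singleton] at h1
    refine h1.trans (eq_top_iff.mpr fun z _ => ⟨e.symm z, trivial, e.apply_symm_apply z⟩)

end Groth.Agent.S11238
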