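import Groth.Statements.S11239
import Mathlib.LinearAlgebra.Matrix.Block

set_option autoImplicit false
universe u
open AGF

namespace Groth.Agent.S11239

/-- Let X be an m × n matrix over a commutative ring, u an upper triangular n × n matrix with ones on
the diagonal, t a diagonal n × n matrix and p ≤ n. For any choice of p rows, the minor of X·t·u
formed with these rows and the first p columns equals (t_11 ⋯ t_pp) times the corresponding minor of
X: the minors on the first p columns are semi-invariant of weight ω_p under right multiplication by
the upper triangular group. (The published statement is for the generic matrix over an algebraically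
closed field; this row states the identity over any commutative ring.) -/
theorem result (R : Type u) [CommRing R] (m n p : ℕ) (hp : p ≤ n)
    (X : Matrix (Fin m) (Fin n) R) (d : Fin n → R) (u : Matrix (Fin n) (Fin n) R)
    (hu1 : ∀ i, u i i = 1) (hu0 : ∀ i j, j < i → u i j = 0) (I : Fin p → Fin m) :
    ((X * Matrix.diagonal d * u).submatrix I (Fin.castLE hp)).det =
      (∏ i : Fin p, d (Fin.castLE hp i)) * (X.submatrix I (Fin.castLE hp)).det := by
  have e : (X * Matrix.diagonal d * u).submatrix I (Fin.castLE hp) =
      X.submatrix I (Fin.castLE hp) * (Matrix.diagonal d * u).submatrix (Fin.castLE hp) (Fin.castLE hp) := by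
    ext a c
    simp only [Matrix.submatrix_apply, Matrix.mul_assoc X, Matrix.mul_apply (M := X),
      Matrix.mul_apply (M := X.submatrix I (Fin.castLE hp))]
    refine (Fintype.sum_of_injective (Fin.castLE hp) (Fin.castLE_injective hp) _ _
      (fun l hl => ?_) (fun _ => rfl)).symm
    have hl' : p ≤ (l : ℕ) := by
      by_contra h
      exact hl ⟨⟨l, by omega⟩, rfl⟩
    have : Fin.castLE hp c < l := Fin.lt_def.2 (lt_of_lt_of_le c.isLt hl')
    simp [Matrix.diagonal_mul, hu0 _ _ this]
  have ht : ((Matrix.diagonal d * u).submatrix (Fin.castLE hp) (Fin.castLE hp)).IsUpperTriangular :=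
    fun a c h => by
      simp [Matrix.diagonal_mul, hu0 _ _ (show Fin.castLE hp c < Fin.castLE hp a from h)]
  rw [e, Matrix.det_mul, Matrix.det_of_isUpperTriangular ht, mul_comm]
  simp [Matrix.diagonal_mul, hu1]

end Groth.Agent.S11239
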