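import Groth.Statements.S11240
import Mathlib.Algebra.MvPolynomial.Eval
import Mathlib.LinearAlgebra.Matrix.Determinant.Basic

set_option autoImplicit false
universe u
open AGF

namespace Groth.Agent.S11240

/-- For a single root subgroup: let k be an algebraically closed field and X = (x_ab) the generic n × m
matrix over the polynomial ring k[x_ab]. Let i ≠ j be row indices and let I (rows) and J (columns)
be strictly increasing sequences of length p. The minor of X with rows I and columns J is invariant
under replacing X by (1 + b·E_ij)·X for every b ∈ k (the one-parameter unipotent group adding b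
times row j to row i) if and only if j occurs in I whenever i does. (The published statement gives
the criterion for the group generated by several such root subgroups, which is the conjunction of
these.) -/
theorem result (k : Type u) [Field k] [IsAlgClosed k] (n m p : ℕ)
    (i j : Fin n) (hij : i ≠ j) (I : Fin p ↪o Fin n) (J : Fin p ↪o Fin m) :
    (∀ b : k, ((Matrix.transvection i j (MvPolynomial.C b) *
        (Matrix.of fun a c => (MvPolynomial.X (a, c) : MvPolynomial (Fin n × Fin m) k))).submatrix I J).det =
        ((Matrix.of fun a c => (MvPolynomial.X (a, c) : MvPolynomial (Fin n × Fin m) k)).submatrix I J).det) ↔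
      (i ∈ Set.range I → j ∈ Set.range I) := by
  set M : Matrix (Fin n) (Fin m) (MvPolynomial (Fin n × Fin m) k) :=
    Matrix.of fun a c => MvPolynomial.X (a, c)
  have hrow : ∀ (r : MvPolynomial (Fin n × Fin m) k),
      ((Matrix.transvection i j r) * M).submatrix I J = fun a c =>
        M (I a) (J c) + if I a = i then r * M j (J c) else 0 := by
    intro r
    ext a c
    by_cases h : I a = i
    · simp [h]
    · simp [h]
  by_cases hi : i ∈ Set.range I
  swap
  · refine iff_of_true (fun b => ?_) (fun h => absurd h hi)
    rw [hrow]
    congr 1
    ext a c
    simp [show I a ≠ i from fun h => hi ⟨a, h⟩]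
  obtain ⟨a₀, ha₀⟩ := hi
  have hup : ∀ r, ((Matrix.transvection i j r) * M).submatrix I J = (M.submatrix I J).updateRow a₀
      (M.submatrix I J a₀ + r • fun c => M j (J c)) := by
    intro r
    rw [hrow]
    funext a
    by_cases h : a = a₀
    · subst h; funext c; simp [ha₀]
    · funext c
      have : I a ≠ i := fun h' => h (I.injective (h'.trans ha₀.symm))
      simp [h, this]
  have hdet : ∀ r, (((Matrix.transvection i j r) * M).submatrix I J).det =
      (M.submatrix I J).det + r * ((M.submatrix I J).updateRow a₀ fun c => M j (J c)).det := by
    intro r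
    rw [hup, Matrix.det_updateRow_add, Matrix.det_updateRow_smul, Matrix.updateRow_eq_self]
  constructor
  · intro h _
    by_contra hj
    have h1 := h 1
    rw [hdet, map_one, one_mul, add_eq_left] at h1
    let σ : Fin p → Fin n := Function.update I a₀ j
    have hσ : Function.Injective σ := by
      intro a c hac
      simp only [σ, Function.update_apply] at hac
      split_ifs at hac with ha hc hc
      · rw [ha, hc]
      · exact absurd ⟨c, hac.symm⟩ hj
      · exact absurd ⟨a, hac⟩ hj
      · exact I.injective hac
    classical
    let v : Fin n × Fin m → k := fun q => if ∃ a, σ a = q.1 ∧ J a = q.2 then 1 else 0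
    have h2 := congrArg (MvPolynomial.eval v) h1
    rw [map_zero, RingHom.map_det] at h2
    have h3 : (MvPolynomial.eval v).mapMatrix ((M.submatrix I J).updateRow a₀ fun c => M j (J c)) = 1 := by
      ext a c
      have : ((M.submatrix I J).updateRow a₀ fun c => M j (J c)) a c = MvPolynomial.X (σ a, J c) := by
        by_cases ha : a = a₀
        · simp [ha, σ, M]
        · simp [ha, σ, M]
      rw [RingHom.mapMatrix_apply, Matrix.map_apply, this, MvPolynomial.eval_X, Matrix.one_apply]
      simp only [v]
      refine if_congr ⟨?_, fun h => ⟨a, rfl, by rw [h]⟩⟩ rfl rfl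
      rintro ⟨a', h1, h2⟩
      rw [← hσ h1, J.injective h2]
    rw [h3, Matrix.det_one] at h2
    exact one_ne_zero h2
  · intro h b
    rw [hdet]
    obtain ⟨a₁, ha₁⟩ := h ⟨a₀, ha₀⟩
    have hne : a₀ ≠ a₁ := fun h => hij (by rw [← ha₀, ← ha₁, h])
    rw [Matrix.det_zero_of_row_eq (M := (M.submatrix I J).updateRow a₀ fun c => M j (J c)) hne (by
      funext c
      rw [Matrix.updateRow_self, Matrix.updateRow_ne hne.symm]
      simp [ha₁]), mul_zero, add_zero]

end Groth.Agent.S11240
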