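import Groth.Statements.S11243
import Groth.Agent.RootSys.Exists
import Groth.Agent.RootSys.Rho

set_option autoImplicit false
universe u v w
open RootD

namespace Groth.Agent.S11243

/-- (b), for a connected group, as a statement about its root datum: let P be a finite reduced
crystallographic root pairing over ℤ with weight lattice M, and b a base of P (simple roots,
determining the positive roots). Then there is an additive map h : M → ℤ which is positive on every
positive root (so that h strictly increases along the dominance order) and non-negative on every
dominant weight, i.e. on every ω ∈ M pairing non-negatively with all simple coroots. (Part (c),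
invariance under the component group of a disconnected group, is not stated.) -/
theorem result {ι : Type u} {M : Type v} {N : Type w}
    [Fintype ι] [AddCommGroup M] [AddCommGroup N]
    (P : RootPairing ι ℤ M N) [P.IsReduced] [P.IsCrystallographic] (b : P.Base) :
    ∃ h : M →+ ℤ, (∀ i : ι, b.IsPos i → 0 < h (P.root i)) ∧
      ∀ ω : M, (∀ j ∈ b.support, 0 ≤ P.toLinearMap ω (P.coroot j)) → 0 ≤ h ω := by
  classical
  have hΔ := RootSys.base_isSimpleSys b
  refine ⟨(∑ j ∈ Finset.univ.filter (fun j => j ∈ RootD.posOf P (b.support : Set ι)),
    P.coroot' j).toAddMonoidHom, fun i hi => ?_, fun ω hω => ?_⟩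
  · rw [RootSys.base_isPos_iff] at hi
    have h := RootSys.two_mul_ht hΔ i
    rw [← Finset.sum_filter] at h
    have h1 := RootSys.one_le_ht hΔ hi
    simp only [LinearMap.toAddMonoidHom_coe, LinearMap.sum_apply,
      RootPairing.root_coroot'_eq_pairing]
    have e : ∑ j ∈ Finset.univ.filter (fun j => j ∈ RootD.posOf P (b.support : Set ι)),
        P.pairing i j = 2 * RootSys.ht hΔ i := by
      rw [h]
      exact Finset.sum_congr rfl fun j _ => (RootSys.pairingIn_int P i j).symm
    omega
  · simp only [LinearMap.toAddMonoidHom_coe, LinearMap.sum_apply]
    refine Finset.sum_nonneg fun j hj => ?_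
    have hj' := (Finset.mem_filter.mp hj).2
    have h := RootSys.coroot_mem_closure hΔ hj'
    have key : ∀ x ∈ AddSubmonoid.closure (P.coroot '' (b.support : Set ι)),
        0 ≤ P.toLinearMap ω x := by
      intro x hx
      induction hx using AddSubmonoid.closure_induction with
      | mem y hy => obtain ⟨l, hl, rfl⟩ := hy; exact hω l hl
      | zero => simp
      | add x y _ _ hx hy => rw [map_add]; exact add_nonneg hx hy
    exact key _ h

end Groth.Agent.S11243
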