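import Groth.Statements.S16130
import Groth.Agent.GrpSch.OrbitQuot
import Groth.Agent.GrpSch.Dim
import Groth.Agent.GrpSch.Cat
import Groth.Agent.AlgSpDesc.FlatDimFormula

set_option autoImplicit false
universe u
open CategoryTheory MonoidalCategory CartesianMonoidalCategory MonObj GrpObj AlgebraicGeometry CategoryTheory.Limits
open AlgGrp GrpObj Groth.Agent.GrpSch

namespace Groth.Agent.S16130

/-- Over an algebraically closed field k, let G be an algebraic group (a smooth k-group scheme of finite
type, not necessarily connected) acting on a variety X (a reduced separated k-scheme of finite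
type), and let x be a k-point of X with orbit map α_x : G → X. Then dim G = dim(G · x) + dim(G_x),
where G · x is the image of α_x with its subspace topology and G_x is the stabilizer, the fibre of
α_x over x; all dimensions are Krull dimensions of topological spaces. (The published statement also
asserts that the irreducible components of G · x are precisely the G⁰-orbits it contains, all of
that dimension; that clause is not stated here.) -/
theorem result (k : Type u) [Field k] [IsAlgClosed k]
    (G X : Over (Spec (CommRingCat.of k))) [GrpObj G] [Smooth G.hom] [QuasiCompact G.hom]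
    [IsReduced X.left] [IsSeparated X.hom] [LocallyOfFiniteType X.hom] [QuasiCompact X.hom]
    (a : AlgGrp.Action G X) (x : 𝟙_ (Over (Spec (CommRingCat.of k))) ⟶ X) :
    topologicalKrullDim ↥G.left =
      topologicalKrullDim ↥(Set.range (a.orbitMap x).left.base) +
        topologicalKrullDim ↥(Limits.pullback (a.orbitMap x).left x.left) := by
  haveI : LocallyOfFiniteType G.hom := inferInstance
  -- the stabiliser
  let o := x
  let Go := Limits.pullback (a.orbitMap o) o
  let i : Go ⟶ G := Limits.pullback.fst (a.orbitMap o) o
  have hGo : IsPullback i (toUnit Go) (a.orbitMap o) o := by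
    rw [show toUnit Go = Limits.pullback.snd (a.orbitMap o) o from toUnit_unique _ _]
    exact IsPullback.of_hasPullback _ _
  haveI : IsSplitMono o := IsSplitMono.mk' ⟨toUnit X, toUnit_unique _ _⟩
  haveI : Mono i := hGo.mono_fst_of_mono
  have key : ∀ {T : Over (Spec (CommRingCat.of k))} (g : T ⟶ G), (∃ c, c ≫ i = g) ↔ lift g (toUnit T ≫ o) ≫ a.act = toUnit T ≫ o := by
    intro T g
    constructor
    · rintro ⟨c, rfl⟩
      rw [← Core.orbit_comp, Category.assoc, hGo.w, ← Category.assoc, toUnit_unique (c ≫ toUnit Go) (toUnit _)]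
    · intro h
      exact ⟨hGo.lift g (toUnit _) (by rw [Core.orbit_comp, h]), hGo.lift_fst _ _ _⟩
  obtain ⟨_, _⟩ := exists_grpObj_of_mono i
    ((key η[G]).2 (by rw [one_eq_one, act_one]))
    (fun T g h => (key _).2 (by rw [act_mul a (g ≫ i), (key _).1 ⟨h, rfl⟩, (key _).1 ⟨g, rfl⟩]))
    (fun T g => (key _).2 (by
      conv_lhs => rw [← (key _).1 ⟨g, rfl⟩]
      rw [← act_mul a (g ≫ i)⁻¹ (g ≫ i), inv_mul_cancel, act_one]))
  obtain ⟨Y, b, y, f, hq, heq, hy, hf⟩ := OrbitQuot.exists_orbit_quotient a o i hGo
  obtain ⟨hYl, hqf, hqs, -⟩ := hq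
  haveI := hYl; haveI := hf; haveI := hqf; haveI := hqs
  let q := b.orbitMap y
  have hqfac : q ≫ f = a.orbitMap o := by
    rw [← Category.id_comp q, Core.orbit_comp, ← Category.id_comp (a.orbitMap o), Core.orbit_comp, Category.assoc, ← heq,
      ← Category.assoc, lift_whiskerLeft, Category.assoc, hy]
  have hrange : Set.range f.left.base = Set.range (a.orbitMap o).left.base := by
    rw [← hqfac, Over.comp_left]
    show Set.range f.left = Set.range (q.left ≫ f.left)
    rw [Scheme.Hom.comp_base, TopCat.coe_comp, Set.range_comp, q.left.surjective.range_eq, Set.image_univ]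
  have hdimY : topologicalKrullDim ↥(Set.range (a.orbitMap o).left.base) = topologicalKrullDim Y.left :=
    (IsHomeomorph.topologicalKrullDim_eq _
      (f.left.isEmbedding.toHomeomorph.trans (Homeomorph.setCongr hrange)).isHomeomorph).symm
  -- the fibre is the stabiliser
  haveI : IsLocallyNoetherian G.left := LocallyOfFiniteType.isLocallyNoetherian G.hom
  haveI : IsLocallyNoetherian Y.left := LocallyOfFiniteType.isLocallyNoetherian Y.hom
  haveI : JacobsonSpace Y.left := LocallyOfFiniteType.jacobsonSpace Y.hom
  haveI : Mono f := (Over.forget _).mono_of_mono_map (show Mono f.left from inferInstance)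
  have hqy : IsPullback i (toUnit Go) q y := by
    refine IsPullback.of_isLimit' ⟨?_⟩ (Limits.PullbackCone.IsLimit.mk _ (fun s => hGo.lift s.fst s.snd ?_) (fun s => hGo.lift_fst _ _ _)
      (fun s => toUnit_unique _ _) (fun s m h1 h2 => ?_))
    · rw [← cancel_mono f, Category.assoc, Category.assoc, hqfac, hy, hGo.w]
    · rw [← hqfac, ← hy, ← Category.assoc, s.condition, Category.assoc]
    · exact hGo.hom_ext (by rw [hGo.lift_fst]; exact h1) (toUnit_unique _ _)
  let e1 : G.left := η[G].left (IsLocalRing.closedPoint k)
  let y0 : Y.left := y.left (IsLocalRing.closedPoint k)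
  have he1 : q.left e1 = y0 := by
    rw [← comp_left_apply]
    refine congrArg (fun m : 𝟙_ (Over (Spec (CommRingCat.of k))) ⟶ Y => m.left (IsLocalRing.closedPoint k)) ?_
    rw [Core.orbit_comp, one_eq_one, act_one, toUnit_unique (toUnit _) (𝟙 _), Category.id_comp]
  have hclosed : ∀ {W : Over (Spec (CommRingCat.of k))} [LocallyOfFiniteType W.hom] (p : 𝟙_ (Over (Spec (CommRingCat.of k))) ⟶ W),
      IsClosed {p.left (IsLocalRing.closedPoint k)} := fun {W} _ p =>
    ((pointEquivClosedPoint W.hom) ⟨p.left, Over.w p⟩).2
  have hy0 : IsClosed {y0} := hclosed y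
  have he1c : IsClosed {e1} := hclosed η[G]
  -- the fibre at `y0`
  have hfib : (Order.coheight (q.left.asFiber e1) : WithBot ℕ∞) = topologicalKrullDim Go.left := by
    haveI : LocallyOfFiniteType Go.hom := by
      rw [← Over.w i]
      haveI : IsClosedImmersion y.left := isClosedImmersion_of_comp_eq_id Y.hom y.left (Over.w y)
      haveI : IsClosedImmersion i.left := MorphismProperty.of_isPullback (isPullback_left hqy).flip inferInstance
      infer_instance
    have hy0' : IsClosed {q.left e1} := he1.symm ▸ hy0
    have hpt : y.left = pointOfClosedPoint Y.hom (q.left e1) hy0' := by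
      haveI : LocallyOfFiniteType (Over.mk (𝟙 (Spec (CommRingCat.of k)))).hom := inferInstanceAs (LocallyOfFiniteType (𝟙 _))
      have h := (pointEquivClosedPoint Y.hom).symm_apply_apply ⟨y.left, Over.w y⟩
      have h' : (pointEquivClosedPoint Y.hom) ⟨y.left, Over.w y⟩ = ⟨q.left e1, hy0'⟩ := Subtype.ext he1.symm
      rw [h'] at h
      exact (congrArg Subtype.val h).symm
    have hsq : IsPullback i.left (toUnit Go).left q.left
        (Spec.map (residueFieldIsoBase Y.hom _ hy0').hom ≫ Y.left.fromSpecResidueField (q.left e1)) := by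
      have := isPullback_left hqy; rwa [hpt] at this
    have hF : IsPullback (q.left.fiberι (q.left e1)) (q.left.fiberToSpecResidueField (q.left e1)) q.left
        (Y.left.fromSpecResidueField (q.left e1)) := IsPullback.of_hasPullback _ _
    let l := hF.lift i.left ((toUnit Go).left ≫ Spec.map (residueFieldIsoBase Y.hom _ hy0').hom)
      (by rw [hsq.w, Category.assoc])
    have hl : IsPullback l (toUnit Go).left (q.left.fiberToSpecResidueField (q.left e1))
        (Spec.map (residueFieldIsoBase Y.hom _ hy0').hom) :=
      IsPullback.of_right (by rw [IsPullback.lift_fst]; exact hsq) (IsPullback.lift_snd _ _ _ _) hF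
    haveI : IsIso l := MorphismProperty.of_isPullback (P := MorphismProperty.isomorphisms Scheme.{u}) hl.flip
      (inferInstanceAs (IsIso (Spec.map (residueFieldIsoBase Y.hom _ hy0').hom)))
    obtain ⟨c, hc⟩ := (Scheme.homeoOfIso (asIso l)).surjective (q.left.asFiber e1)
    rw [← hc]
    show (Order.coheight (l c) : WithBot ℕ∞) = _
    rw [coheight_eq_of_isOpenImmersion]
    refine coheight_eq_topologicalKrullDim Go ?_
    have hi : i.left c = e1 := by
      rw [← IsPullback.lift_fst hF i.left ((toUnit Go).left ≫ Spec.map (residueFieldIsoBase Y.hom _ hy0').hom)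
        (by rw [hsq.w, Category.assoc]), Scheme.Hom.comp_apply]
      exact (congrArg _ hc).trans (q.left.fiberι_asFiber e1)
    haveI : IsClosedImmersion i.left := by
      haveI : IsClosedImmersion y.left := isClosedImmersion_of_comp_eq_id Y.hom y.left (Over.w y)
      exact MorphismProperty.of_isPullback (isPullback_left hqy).flip inferInstance
    rw [← i.left.isClosedEmbedding.injective.preimage_image {c}, Set.image_singleton, hi]
    exact he1c.preimage i.left.continuous
  -- homogeneity of `Y`
  have hYc : ∀ z : Y.left, IsClosed {z} → Order.coheight z = Order.coheight y0 := by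
    intro z hz
    obtain ⟨g₀, hg₀⟩ := q.left.surjective z
    haveI : JacobsonSpace G.left := LocallyOfFiniteType.jacobsonSpace G.hom
    obtain ⟨g₁, hg₁, hg₁c⟩ := nonempty_inter_closedPoints (Z := q.left ⁻¹' {z}) ⟨g₀, hg₀⟩
      (hz.preimage q.left.continuous).isLocallyClosed
    obtain ⟨g, hg⟩ := exists_ratPoint G hg₁c
    let r : Y ≅ Y :=
      { hom := lift (toUnit Y ≫ g) (𝟙 Y) ≫ b.act
        inv := lift (toUnit Y ≫ g⁻¹) (𝟙 Y) ≫ b.act
        hom_inv_id := by
          rw [comp_lift_assoc, Category.comp_id, ← Category.assoc, toUnit_unique (_ ≫ toUnit Y) (toUnit Y),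
            ← act_mul, ← MonObj.comp_mul, inv_mul_cancel, MonObj.comp_one, act_one]
        inv_hom_id := by
          rw [comp_lift_assoc, Category.comp_id, ← Category.assoc, toUnit_unique (_ ≫ toUnit Y) (toUnit Y),
            ← act_mul, ← MonObj.comp_mul, mul_inv_cancel, MonObj.comp_one, act_one] }
    haveI : IsIso r.hom := Iso.isIso_hom r
    haveI : IsIso r.hom.left := inferInstanceAs (IsIso ((Over.forget _).map r.hom))
    have hrz : r.hom.left y0 = z := by
      have h1 : y ≫ r.hom = g ≫ q := by
        simp only [r]
        rw [comp_lift_assoc, Category.comp_id, ← Category.assoc, toUnit_unique (y ≫ toUnit Y) (𝟙 _), Category.id_comp,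
          Core.orbit_comp, toUnit_unique (toUnit _) (𝟙 _), Category.id_comp]
      show r.hom.left (y.left (IsLocalRing.closedPoint k)) = z
      rw [← comp_left_apply, h1, comp_left_apply, hg]
      exact hg₁
    rw [← hrz, coheight_eq_of_isOpenImmersion]
  have hdimY' : topologicalKrullDim Y.left = (Order.coheight y0 : WithBot ℕ∞) := by
    rw [topologicalKrullDim_eq_iSup_coheight]
    refine le_antisymm (iSup_le fun w => ?_) (le_iSup (fun w => (Order.coheight w : WithBot ℕ∞)) y0)
    obtain ⟨z, hz, hzc⟩ := nonempty_inter_closedPoints (Z := closure {w}) ⟨w, subset_closure rfl⟩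
      isClosed_closure.isLocallyClosed
    rw [← hYc z hzc]
    exact WithBot.coe_le_coe.2 (Order.coheight_anti (Scheme.le_iff_specializes.2 (specializes_iff_mem_closure.2 hz)))
  have hadd := AlgSpDesc.stalkDim_eq_add q.left e1
  rw [ringKrullDim_stalk_eq_coheight, ringKrullDim_stalk_eq_coheight, ringKrullDim_stalk_eq_coheight,
    coheight_eq_topologicalKrullDim G he1c, hfib, he1, ← hdimY'] at hadd
  rw [hadd, hdimY]
  congr 1
  exact IsHomeomorph.topologicalKrullDim_eq _ (Scheme.homeoOfIso (isPullback_left hGo).isoPullback).isHomeomorph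

end Groth.Agent.S16130
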