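import Groth.Statements.S11244
import Groth.Agent.S16130
import Groth.Agent.GrpSch.BoundaryDim
import Groth.Agent.GrpSch.Orbit
import Groth.Agent.GrpSch.Dim
import Groth.Agent.FibreDimChart.Mono
import Groth.Agent.TopDimLib.Basic
import Groth.Agent.FieldExtLD.Scheme

set_option backward.isDefEq.respectTransparency.types false

set_option autoImplicit false
universe u
open CategoryTheory MonoidalCategory CartesianMonoidalCategory MonObj GrpObj AlgebraicGeometry
open scoped TensorProduct
open AGF

namespace Groth.Agent.S11244Aux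

open CategoryTheory MonoidalCategory CartesianMonoidalCategory MonObj GrpObj AlgebraicGeometry

variable {k : Type u} [Field k]

/-- local dimension at a closed point of a group scheme -/
theorem localDim_group (G : Over (Spec (CommRingCat.of k))) [GrpObj G] [LocallyOfFiniteType G.hom]
    {c : G.left} (hc : IsClosed ({c} : Set G.left)) : FlatMor.localDim G.left c = topologicalKrullDim G.left := by
  rw [FieldExtLD.localDim_eq (k := k) G.hom c, ← GrpSch.coheight_eq_topologicalKrullDim G hc]
  have : Order.height c = 0 := Order.height_eq_zero.2 fun b hb => by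
    have : b = c := (specializes_iff_mem_closure.1 hb) |> fun h => by rwa [hc.closure_eq, Set.mem_singleton_iff] at h
    rw [this]
  rw [this, _root_.zero_add]

/-- a locally closed set and its closure have the same dimension -/
theorem dim_closure {X : Scheme.{u}} (f : X ⟶ Spec (CommRingCat.of k)) [LocallyOfFiniteType f] [CompactSpace X]
    {R : Set X} (hR : IsLocallyClosed R) (hne : R.Nonempty) :
    topologicalKrullDim (closure R) = topologicalKrullDim R := by
  refine le_antisymm ((GrpSch.dim_le_iSup_height_of_isClosed isClosed_closure).trans (iSup_le fun y => ?_))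
    (TopDimLib.dim_subtype_mono subset_closure)
  by_cases hy : y.1 ∈ R
  · exact GrpSch.height_le_dim_of_mem f hR hy
  · refine le_trans ?_ (GrpSch.dim_boundary_lt f hR hne).le
    rw [← DimTheory.topologicalKrullDim_closure]
    refine TopDimLib.dim_subtype_mono (closure_minimal (Set.singleton_subset_iff.2 ⟨y.2, hy⟩) ?_)
    obtain ⟨O, Z, hO, hZ, hOZ⟩ := hR
    have hclZ : closure R ⊆ Z := closure_minimal (hOZ.le.trans Set.inter_subset_right) hZ
    have : closure R \ R = closure R \ O := by
      ext z
      exact ⟨fun ⟨hz, hz'⟩ => ⟨hz, fun h => hz' (hOZ.ge ⟨h, hclZ hz⟩)⟩,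
        fun ⟨hz, hz'⟩ => ⟨hz, fun h => hz' (hOZ.le h).1⟩⟩
    rw [this]
    exact isClosed_closure.sdiff hO

end Groth.Agent.S11244Aux

namespace Groth.Agent.S11244

/-- Let k be an algebraically closed field, G a linear algebraic group over k (affine, smooth) acting on
an irreducible variety X over k (reduced, separated, of finite type). For a rational point x of X
let dim G·x be the dimension of the closure of its orbit. Then for every r the set of rational
points x with dim G·x ≤ r is closed: there is a closed subset Z of X whose rational points are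
exactly those x. (The second assertion, that the points of maximal orbit dimension form a dense open
subset, follows.) -/
theorem result (k : Type u) [Field k] [IsAlgClosed k]
    (G : Over (Spec (CommRingCat.of k))) [GrpObj G] [IsAffine G.left] [Smooth G.hom]
    (X : Over (Spec (CommRingCat.of k))) [IrreducibleSpace ↥X.left] [IsReduced X.left]
    [IsSeparated X.hom] [LocallyOfFiniteType X.hom] [QuasiCompact X.hom]
    (a : AlgGrp.Action G X) (r : ℕ) :
    ∃ Z : Set ↥X.left, IsClosed Z ∧
      ∀ x : 𝟙_ (Over (Spec (CommRingCat.of k))) ⟶ X,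
        topologicalKrullDim ↥(closure (Set.range ⇑(a.orbitMap x).left.base)) ≤ (r : WithBot ℕ∞) ↔
          Set.range ⇑x.left.base ⊆ Z := by
  haveI : CompactSpace X.left := QuasiCompact.compactSpace_of_compactSpace X.hom
  haveI : CompactSpace G.left := inferInstance
  haveI : QuasiCompact G.hom := inferInstance
  haveI : LocallyOfFiniteType G.hom := inferInstance
  haveI : LocallyOfFiniteType (G ⊗ X).hom :=
    MorphismProperty.comp_mem _ _ _ (MorphismProperty.pullback_fst _ _ inferInstance) inferInstance
  haveI : LocallyOfFiniteType (X ⊗ X).hom :=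
    MorphismProperty.comp_mem _ _ _ (MorphismProperty.pullback_fst _ _ inferInstance) inferInstance
  let f : G ⊗ X ⟶ X ⊗ X := lift a.act (snd G X)
  let σ : X ⟶ G ⊗ X := lift (toUnit X ≫ η[G]) (𝟙 X)
  haveI : LocallyOfFiniteType (f.left ≫ (X ⊗ X).hom) := by rw [Over.w]; infer_instance
  haveI : LocallyOfFiniteType f.left := locallyOfFiniteType_of_comp f.left (X ⊗ X).hom
  -- fibre dimension along the unit section is the dimension of the stabiliser
  have hfib : ∀ x : 𝟙_ (Over (Spec (CommRingCat.of k))) ⟶ X,
      FlatMor.fibreDimAt f.left (σ.left (x.left (IsLocalRing.closedPoint k))) =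
        topologicalKrullDim ↥(Limits.pullback (a.orbitMap x).left x.left) := by
    intro x
    let Go := Limits.pullback (a.orbitMap x) x
    let i : Go ⟶ G := Limits.pullback.fst (a.orbitMap x) x
    have hGo : IsPullback i (toUnit Go) (a.orbitMap x) x := by
      rw [show toUnit Go = Limits.pullback.snd (a.orbitMap x) x from toUnit_unique _ _]
      exact IsPullback.of_hasPullback _ _
    haveI : IsSplitMono x := IsSplitMono.mk' ⟨toUnit X, toUnit_unique _ _⟩
    haveI : Mono i := hGo.mono_fst_of_mono
    have key : ∀ {T : Over (Spec (CommRingCat.of k))} (g : T ⟶ G), (∃ c, c ≫ i = g) ↔ lift g (toUnit T ≫ x) ≫ a.act = toUnit T ≫ x := by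
      intro T g
      constructor
      · rintro ⟨c, rfl⟩
        rw [← GrpSch.Core.orbit_comp, Category.assoc, hGo.w, ← Category.assoc, toUnit_unique (c ≫ toUnit Go) (toUnit _)]
      · intro h
        exact ⟨hGo.lift g (toUnit _) (by rw [GrpSch.Core.orbit_comp, h]), hGo.lift_fst _ _ _⟩
    obtain ⟨_, _⟩ := GrpSch.exists_grpObj_of_mono i
      ((key η[G]).2 (by rw [one_eq_one, GrpSch.act_one]))
      (fun T g h => (key _).2 (by rw [GrpSch.act_mul a (g ≫ i), (key _).1 ⟨h, rfl⟩, (key _).1 ⟨g, rfl⟩]))
      (fun T g => (key _).2 (by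
        conv_lhs => rw [← (key _).1 ⟨g, rfl⟩]
        rw [← GrpSch.act_mul a (g ≫ i)⁻¹ (g ≫ i), inv_mul_cancel, GrpSch.act_one]))
    -- the stabiliser is the fibre over `(x, x)`
    let j : Go ⟶ G ⊗ X := lift i (toUnit Go ≫ x)
    let xx : 𝟙_ (Over (Spec (CommRingCat.of k))) ⟶ X ⊗ X := lift x x
    have hj : IsPullback j (toUnit Go) f xx := by
      refine ⟨⟨?_⟩, ⟨Limits.PullbackCone.IsLimit.mk _ (fun s => hGo.lift (s.fst ≫ fst G X) s.snd ?_) (fun s => ?_)
        (fun s => toUnit_unique _ _) (fun s m h1 _ => ?_)⟩⟩
      · apply CartesianMonoidalCategory.hom_ext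
        · simp only [j, f, xx, Category.assoc, lift_fst]
          rw [← GrpSch.Core.orbit_comp, hGo.w]
        · simp only [j, f, xx, Category.assoc, lift_snd]
      · have h1 := congrArg (fun z => z ≫ fst X X) s.condition
        have h2 := congrArg (fun z => z ≫ snd X X) s.condition
        simp only [f, xx, Category.assoc, lift_fst, lift_snd] at h1 h2
        rw [GrpSch.Core.orbit_comp, toUnit_unique (toUnit _) s.snd, ← h2, ← comp_lift, lift_fst_snd,
          Category.comp_id, h1]
        exact h2.symm
      · apply CartesianMonoidalCategory.hom_ext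
        · simp [j]
        · have h2 := congrArg (fun z => z ≫ snd X X) s.condition
          simp only [f, xx, Category.assoc, lift_snd] at h2
          simp only [j, Category.assoc, lift_snd]
          rw [← Category.assoc, toUnit_unique (_ ≫ toUnit Go) s.snd]
          exact h2.symm
      · refine hGo.hom_ext ?_ (toUnit_unique _ _)
        rw [hGo.lift_fst, ← h1, Category.assoc, lift_fst]
    have hjl : IsPullback j.left (toUnit Go).left f.left xx.left := hj.map (Over.forget _)
    haveI : IsSeparated (X ⊗ X).hom :=
      MorphismProperty.comp_mem _ _ _ (MorphismProperty.pullback_fst _ _ inferInstance) inferInstance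
    haveI : IsClosedImmersion xx.left := isClosedImmersion_of_comp_eq_id (X ⊗ X).hom xx.left (Over.w xx)
    haveI : IsClosedImmersion j.left := MorphismProperty.of_isPullback hjl.flip inferInstance
    haveI : LocallyOfFiniteType Go.hom := by rw [← Over.w j]; infer_instance
    let e0 : Go.left := η[Go].left (IsLocalRing.closedPoint k)
    have he0 : IsClosed ({e0} : Set Go.left) :=
      ((pointEquivClosedPoint Go.hom) ⟨η[Go].left, Over.w η[Go]⟩).2
    have hje : η[Go] ≫ j = x ≫ σ := by
      have : η[Go] ≫ i = η[G] := IsMonHom.one_hom i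
      apply CartesianMonoidalCategory.hom_ext
      · simp only [j, σ, Category.assoc, lift_fst, this]
        rw [← Category.assoc, toUnit_unique (x ≫ toUnit X) (𝟙 _), Category.id_comp]
      · simp only [j, σ, Category.assoc, lift_snd, Category.comp_id]
        rw [← Category.assoc, toUnit_unique (η[Go] ≫ toUnit Go) (𝟙 _), Category.id_comp]
    have hje' : j.left e0 = σ.left (x.left (IsLocalRing.closedPoint k)) :=
      congrArg (fun m : 𝟙_ (Over (Spec (CommRingCat.of k))) ⟶ G ⊗ X => m.left (IsLocalRing.closedPoint k)) hje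
    rw [← hje', FibreDimChart.fibreDimAt_eq_localDim_preimage]
    have hr : Set.range j.left = f.left ⁻¹' {f.left (j.left e0)} := by
      have hxp : ∀ w : (𝟙_ (Over (Spec (CommRingCat.of k)))).left, xx.left w = f.left (j.left e0) := fun w => by
        rw [← Scheme.Hom.comp_apply, hjl.w, Scheme.Hom.comp_apply]
        exact congrArg _ (Subsingleton.elim (α := PrimeSpectrum k) _ _)
      refine Set.Subset.antisymm ?_ ?_
      · rintro _ ⟨v, rfl⟩
        rw [Set.mem_preimage, Set.mem_singleton_iff, ← hxp ((toUnit Go).left v), ← Scheme.Hom.comp_apply,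
          ← Scheme.Hom.comp_apply, hjl.w]
      · intro v hv
        obtain ⟨w, hw, -⟩ := Scheme.exists_preimage_of_isPullback hjl v (IsLocalRing.closedPoint k)
          ((Set.mem_singleton_iff.1 hv).trans (hxp _).symm)
        exact ⟨w, hw⟩
    let hh : Go.left ≃ₜ ↥(f.left ⁻¹' {f.left (j.left e0)}) :=
      j.left.isEmbedding.toHomeomorph.trans (Homeomorph.setCongr hr)
    rw [show (⟨j.left e0, rfl⟩ : ↥(f.left ⁻¹' {f.left (j.left e0)})) = hh e0 from Subtype.ext rfl,
      FieldExtLD.localDim_of_isOpenEmbedding hh.isOpenEmbedding e0, S11244Aux.localDim_group Go he0]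
    exact IsHomeomorph.topologicalKrullDim_eq _
      (Scheme.homeoOfIso ((hGo.map (Over.forget _)).isoPullback)).isHomeomorph
  obtain ⟨d, hd⟩ : ∃ d : ℕ, topologicalKrullDim G.left = d := by
    obtain ⟨d, hd⟩ := FibreDimChart.exists_nat_fibreDimAt_eq G.hom (η[G].left (IsLocalRing.closedPoint k))
    refine ⟨d, ?_⟩
    rw [← hd, FibreDimChart.fibreDimAt_eq_localDim_preimage]
    have hu : G.hom ⁻¹' {G.hom (η[G].left (IsLocalRing.closedPoint k))} = Set.univ :=
      Set.eq_univ_of_forall fun v => Subsingleton.elim (α := PrimeSpectrum k) _ _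
    let hh : G.left ≃ₜ ↥(G.hom ⁻¹' {G.hom (η[G].left (IsLocalRing.closedPoint k))}) :=
      ((Homeomorph.setCongr hu).trans (Homeomorph.Set.univ _)).symm
    rw [show (⟨η[G].left (IsLocalRing.closedPoint k), rfl⟩ : ↥(G.hom ⁻¹' ({G.hom (η[G].left (IsLocalRing.closedPoint k))} : Set _))) = hh (η[G].left (IsLocalRing.closedPoint k))
      from Subtype.ext rfl, FieldExtLD.localDim_of_isOpenEmbedding hh.isOpenEmbedding]
    exact (S11244Aux.localDim_group G ((pointEquivClosedPoint G.hom) ⟨η[G].left, Over.w η[G]⟩).2).symm
  -- the closed set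
  refine ⟨{z | ∀ m : ℕ, m + r < d → ¬ FlatMor.fibreDimAt f.left (σ.left z) ≤ (m : WithBot ℕ∞)}, ?_, fun x => ?_⟩
  · rw [Set.setOf_forall]
    refine isClosed_iInter fun m => ?_
    rw [Set.setOf_forall]
    exact isClosed_iInter fun _ => ((FibreDimChart.isOpen_fibreDimAt_le f.left m).preimage σ.left.continuous).isClosed_compl
  have hne : (Set.range (a.orbitMap x).left.base).Nonempty := ⟨_, η[G].left (IsLocalRing.closedPoint k), rfl⟩
  rw [S11244Aux.dim_closure X.hom (GrpSch.isLocallyClosed_orbit a x) hne]
  obtain ⟨m, hm⟩ := FibreDimChart.exists_nat_fibreDimAt_eq f.left (σ.left (x.left (IsLocalRing.closedPoint k)))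
  have hsum := S16130.result k G X a x
  rw [hd, ← hfib x, hm] at hsum
  have hpt : Set.range x.left.base ⊆ {z | ∀ m : ℕ, m + r < d → ¬ FlatMor.fibreDimAt f.left (σ.left z) ≤ (m : WithBot ℕ∞)} ↔
      (d ≤ m + r) := by
    constructor
    · intro h
      by_contra hlt
      exact h ⟨IsLocalRing.closedPoint k, rfl⟩ m (by omega) hm.le
    · rintro h _ ⟨w, rfl⟩ m' hm' hle
      rw [show w = IsLocalRing.closedPoint k from Subsingleton.elim (α := PrimeSpectrum k) _ _, hm, Nat.cast_le] at hle
      omega
  rw [hpt]
  clear hpt
  generalize topologicalKrullDim ↥(Set.range (a.orbitMap x).left.base) = o at hsum ⊢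
  induction o with
  | bot => simp at hsum
  | coe o =>
    induction o using ENat.recTopCoe with
    | top => exact absurd (WithBot.coe_injective (a₁ := (d : ℕ∞)) (a₂ := ⊤ + (m : ℕ∞)) hsum) (by simp)
    | coe o =>
      have h1 : d = o + m := by exact_mod_cast hsum
      constructor
      · intro h
        have : o ≤ r := by exact_mod_cast h
        omega
      · intro h
        have : o ≤ r := by omega
        exact_mod_cast this

end Groth.Agent.S11244
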