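import Groth.Statements.S11249
import Groth.Agent.GrassLib.Rank

set_option autoImplicit false
universe u
open W4bk4grassmannian

namespace Groth.Agent.S11249

open W4bk4grassmannian in
/-- Injectivity of the Plücker map, in matrix form: let K be a field, A and A' two n × d matrices over K
with linearly independent columns, and suppose there is a nonzero scalar c with det A_θ = c · det
A'_θ for every strictly increasing d-tuple θ of row indices (A_θ the d × d submatrix on the rows θ).
Then the columns of A and of A' span the same subspace of K^n. (The published statement is over an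
algebraically closed field; this row allows any field K.) -/
theorem result (K : Type u) [Field K] (d n : ℕ)
    (A A' : Matrix (Fin n) (Fin d) K) (hA : LinearIndependent K A.transpose)
    (hA' : LinearIndependent K A'.transpose) (c : K) (hc : c ≠ 0)
    (h : ∀ θ : Idx d n, (A.submatrix θ.1 id).det = c * (A'.submatrix θ.1 id).det) :
    Submodule.span K (Set.range A.transpose) = Submodule.span K (Set.range A'.transpose) := by
  obtain ⟨θ, hθ⟩ := GrassLib.exists_minor_ne_zero A hA
  have hθ' : (A'.submatrix θ.1 id).det ≠ 0 := fun h0 => hθ (by rw [h θ, h0, mul_zero])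
  have hall : ∀ a : Fin d → Fin n, (A.submatrix a id).det = c * (A'.submatrix a id).det := by
    intro a
    by_cases ha : (Finset.univ.image a).card = d
    · rw [GrassLib.det_tuple_eq A a ha, GrassLib.det_tuple_eq A' a ha, h]; ring
    · rw [GrassLib.det_tuple_eq_zero A a ha, GrassLib.det_tuple_eq_zero A' a ha, mul_zero]
  have hB : A * (A.submatrix θ.1 id)⁻¹ = A' * (A'.submatrix θ.1 id)⁻¹ := by
    ext i t
    rw [GrassLib.normalized_entry A θ hθ, GrassLib.normalized_entry A' θ hθ', hall, hall θ.1]
    field_simp
  have key : ∀ (P Q : Matrix (Fin n) (Fin d) K) (M N : Matrix (Fin d) (Fin d) K),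
      IsUnit M.det → P * M⁻¹ = Q * N → Submodule.span K (Set.range P.transpose) ≤
        Submodule.span K (Set.range Q.transpose) := by
    intro P Q M N hM hPQ
    have hP : P = Q * (N * M) := by
      rw [← Matrix.mul_assoc, ← hPQ, Matrix.nonsing_inv_mul_cancel_right _ _ hM]
    rw [Submodule.span_le]
    rintro _ ⟨t, rfl⟩
    have : P.transpose t = ∑ k, (N * M) k t • Q.transpose k := by
      funext i
      rw [hP]
      simp [Matrix.mul_apply, Finset.sum_apply, mul_comm]
    rw [SetLike.mem_coe, this]
    exact Submodule.sum_mem _ fun k _ => Submodule.smul_mem _ _ (Submodule.subset_span ⟨k, rfl⟩)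
  exact le_antisymm (key A A' _ _ (isUnit_iff_ne_zero.2 hθ) hB)
    (key A' A _ _ (isUnit_iff_ne_zero.2 hθ') hB.symm)

end Groth.Agent.S11249
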