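import Groth.Statements.S11252
import Groth.Agent.GrassLib.SMT

set_option autoImplicit false
universe u
open W4bk4grassmannian

namespace Groth.Agent.S11252

open W4bk4grassmannian in
/-- Standard monomial basis for a union of Schubert varieties: let K be an algebraically closed field, 0
< d < n, and I(d,n) the strictly increasing maps Fin d → Fin n ordered entrywise; S = K[X_θ : θ ∈
I(d,n)] is the Plücker polynomial ring and, for τ ∈ I(d,n), J(τ) ⊆ S is the ideal of polynomials
vanishing at the d × d row-minors of every n × d matrix over K whose minors on rows φ ≰ τ are zero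
(the homogeneous ideal of the Schubert variety X(τ) ⊆ G(d,n)). Let τ_1, …, τ_r ∈ I(d,n) and let J =
⋂_i J(τ_i) be the homogeneous ideal of the union ⋃_i X(τ_i). Then the classes in S/J of the
monomials X_{θ_1} ⋯ X_{θ_m} (m ≥ 0) along chains θ_1 ≥ ⋯ ≥ θ_m all of whose members lie below some
τ_i are linearly independent over K and span S/J. -/
theorem result (K : Type u) [Field K] [IsAlgClosed K] (d n : ℕ)
    (hd : 0 < d) (hdn : d < n) (r : ℕ) (τs : Fin r → Idx d n) :
    LinearIndependent K (fun c : (Σ m : ℕ, {c : Fin m → Idx d n // Antitone c ∧ ∃ i, ∀ k, c k ≤ τs i}) =>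
        Ideal.Quotient.mk (⨅ i, schubertVanishing K d n (τs i)) (chainMon K c.2.1)) ∧
      Submodule.span K (Set.range fun c : (Σ m : ℕ, {c : Fin m → Idx d n // Antitone c ∧ ∃ i, ∀ k, c k ≤ τs i}) =>
        Ideal.Quotient.mk (⨅ i, schubertVanishing K d n (τs i)) (chainMon K c.2.1)) = ⊤ := by
  refine ⟨?_, ?_⟩
  · exact GrassLib.linearIndependent_chains (F := K) hd (Set.range τs)
      (⨅ i, schubertVanishing K d n (τs i)) (by rintro _ ⟨i, rfl⟩; exact iInf_le _ i)
      (fun _ c => ∃ i, ∀ k, c k ≤ τs i) (fun c ⟨i, hi⟩ => ⟨τs i, ⟨i, rfl⟩, hi⟩)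
  · refine GrassLib.span_std_mod_eq_top _ ?_ (fun _ c => ∃ i, ∀ k, c k ≤ τs i) ?_
    · exact le_iInf fun i =>
        GrassLib.plIdealTop_le_vanishing.trans (GrassLib.vanishing_le_schubertVanishing _)
    · intro m c hc hU
      rw [Ideal.mem_iInf]
      intro i
      simp only [not_exists, not_forall] at hU
      obtain ⟨k, hk⟩ := hU i
      rw [GrassLib.chainMon_eq_mon]
      refine GrassLib.mon_mem_of_mem (GrassLib.X_mem_schubertVanishing hk) ?_
      simp [List.mem_ofFn]

end Groth.Agent.S11252
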