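import Mathlib
import Groth.Statements.S11256
import Groth.Agent.GrassLib.Schubert
-- import your own Groth.Agent.* helpers here

set_option autoImplicit false
universe u
open W4bk4grassmannian

namespace Groth.Agent.S11256

open MvPolynomial

variable {K : Type u} [Field K] {e n : ℕ}

/-- The value of a bracket. -/
noncomputable def br (q : Idx (e + 1) n → K) (a : Fin (e + 1) → Fin n) : K :=
  eval q (coord K (e + 1) n a)

theorem br_of_not_injective (q : Idx (e + 1) n → K) (a : Fin (e + 1) → Fin n)
    (h : (Finset.univ.image a).card ≠ e + 1) : br q a = 0 := by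
  rw [br, coord, dif_neg h, map_zero]

theorem br_of_injective (q : Idx (e + 1) n → K) (a : Fin (e + 1) → Fin n)
    (h : (Finset.univ.image a).card = e + 1) :
    br q a = (-1) ^ invCount (e + 1) n a * q (sortIdx (e + 1) n a h) := by
  rw [br, coord, dif_pos h, map_mul, map_pow, map_neg, map_one, eval_X]

theorem image_sortIdx (a : Fin (e + 1) → Fin n) (h : (Finset.univ.image a).card = e + 1) :
    Finset.univ.image (sortIdx (e + 1) n a h).1 = Finset.univ.image a :=
  Finset.image_orderEmbOfFin_univ _ _

theorem idx_ext' {d : ℕ} {θ θ' : Idx d n}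
    (h : Finset.univ.image θ.1 = Finset.univ.image θ'.1) : θ = θ' := by
  have hc : (Finset.univ.image θ'.1).card = d := (GrassLib.image_card_iff_injective _).2 θ'.2.injective
  exact Subtype.ext ((Finset.orderEmbOfFin_unique hc (f := θ.1)
      (fun t => h ▸ Finset.mem_image_of_mem _ (Finset.mem_univ t)) θ.2).trans
    (Finset.orderEmbOfFin_unique hc (f := θ'.1)
      (fun t => Finset.mem_image_of_mem _ (Finset.mem_univ t)) θ'.2).symm)

theorem br_self (q : Idx (e + 1) n → K) (θ : Idx (e + 1) n) : br q θ.1 = q θ := by
  have h := (GrassLib.image_card_iff_injective _).2 θ.2.injective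
  rw [br_of_injective q θ.1 h, show sortIdx (e + 1) n θ.1 h = θ from idx_ext' (image_sortIdx _ h),
    show invCount (e + 1) n θ.1 = 0 from ?_, pow_zero, one_mul]
  rw [invCount, Finset.card_eq_zero, Finset.filter_eq_empty_iff]
  exact fun p _ hp => lt_asymm (θ.2 hp.1) hp.2

theorem br_minors (A : Matrix (Fin n) (Fin (e + 1)) K) (a : Fin (e + 1) → Fin n) :
    br (fun θ : Idx (e + 1) n => (A.submatrix θ.1 id).det) a = (A.submatrix a id).det := by
  have h := GrassLib.evalMat_coord (K := K) A a
  rw [GrassLib.evalMat, aeval_eq_eval] at h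
  exact h

theorem eval_quadric (q : Idx (e + 1) n → K) (i' : Idx e n) (j' : Idx (e + 2) n) :
    eval q (quadric K i' j') = ∑ h : Fin (e + 2),
      (-1) ^ (h.val + 1) * br q (Fin.snoc i'.1 (j'.1 h)) * br q (j'.1 ∘ h.succAbove) := by
  rw [quadric, map_sum]
  refine Finset.sum_congr rfl fun h _ => ?_
  rw [map_mul, map_mul, map_pow, map_neg, map_one]
  rfl

theorem quadric_minors (A : Matrix (Fin n) (Fin (e + 1)) K) (i' : Idx e n) (j' : Idx (e + 2) n) :
    eval (fun θ : Idx (e + 1) n => (A.submatrix θ.1 id).det) (quadric K i' j') = 0 := by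
  rw [eval_quadric]
  simp only [br_minors]
  have hlap : ∀ h : Fin (e + 2), (A.submatrix (Fin.snoc i'.1 (j'.1 h)) id).det =
      ∑ c : Fin (e + 1), (-1) ^ (e + c.val) * A (j'.1 h) c *
        (A.submatrix i'.1 c.succAbove).det := by
    intro h
    rw [Matrix.det_succ_row _ (Fin.last e)]
    refine Finset.sum_congr rfl fun c _ => ?_
    rw [Matrix.submatrix_apply, Fin.snoc_last, id_eq, Fin.val_last, Matrix.submatrix_submatrix]
    congr 2
    refine congrArg (fun f => A.submatrix f c.succAbove) (funext fun i => ?_)
    rw [Function.comp_apply, Fin.succAbove_last, Fin.snoc_castSucc]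
  simp only [hlap, Finset.mul_sum, Finset.sum_mul]
  rw [Finset.sum_comm]
  refine Finset.sum_eq_zero fun c _ => ?_
  let M : Matrix (Fin (e + 2)) (Fin (e + 2)) K :=
    Matrix.of fun h k => (Fin.cons (A (j'.1 h) c) (fun k' => A (j'.1 h) k') : Fin (e + 2) → K) k
  have hM : M.det = 0 := Matrix.det_zero_of_column_eq (i := 0) (j := c.succ) (Fin.succ_ne_zero c).symm
    fun h => by simp [M]
  have hexp : M.det = ∑ h : Fin (e + 2),
      (-1) ^ h.val * A (j'.1 h) c * (A.submatrix (j'.1 ∘ h.succAbove) id).det := by
    rw [Matrix.det_succ_column_zero]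
    refine Finset.sum_congr rfl fun h _ => ?_
    congr 1
  calc ∑ h : Fin (e + 2), (-1) ^ (h.val + 1) * ((-1) ^ (e + c.val) * A (j'.1 h) c *
        (A.submatrix i'.1 c.succAbove).det) * (A.submatrix (j'.1 ∘ h.succAbove) id).det
      = (-(-1) ^ (e + c.val) * (A.submatrix i'.1 c.succAbove).det) * M.det := by
        rw [hexp, Finset.mul_sum]
        refine Finset.sum_congr rfl fun h _ => ?_
        rw [pow_succ]
        ring
    _ = 0 := by rw [hM, mul_zero]

theorem eq_of_quadrics {q q' : Idx (e + 1) n → K}
    (hq : ∀ i' j', eval q (quadric K i' j') = 0) (hq' : ∀ i' j', eval q' (quadric K i' j') = 0)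
    (θ₀ : Idx (e + 1) n) (hne : q θ₀ ≠ 0) (h0 : q θ₀ = q' θ₀)
    (h1 : ∀ θ : Idx (e + 1) n,
      (Finset.univ.image θ.1 \ Finset.univ.image θ₀.1).card = 1 → q θ = q' θ) : q = q' := by
  classical
  funext θ
  suffices H : ∀ k (θ : Idx (e + 1) n),
      (Finset.univ.image θ.1 \ Finset.univ.image θ₀.1).card ≤ k → q θ = q' θ from H _ θ le_rfl
  have hbase : ∀ θ : Idx (e + 1) n,
      (Finset.univ.image θ.1 \ Finset.univ.image θ₀.1).card ≤ 1 → q θ = q' θ := by
    intro θ hθ
    rcases Nat.le_one_iff_eq_zero_or_eq_one.1 hθ with h | h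
    · have hsub : Finset.univ.image θ.1 ⊆ Finset.univ.image θ₀.1 := Finset.sdiff_eq_empty_iff_subset.1
        (Finset.card_eq_zero.1 h)
      obtain rfl := idx_ext' (Finset.eq_of_subset_of_card_le hsub (by
        rw [(GrassLib.image_card_iff_injective _).2 θ₀.2.injective,
          (GrassLib.image_card_iff_injective _).2 θ.2.injective]))
      exact h0
    · exact h1 θ h
  intro k
  induction k with
  | zero => exact fun θ hθ => hbase θ (hθ.trans (Nat.zero_le 1))
  | succ k ih =>
    intro θ hθ
    rcases Nat.eq_or_lt_of_le hθ with hk | hk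
    swap
    · exact ih θ (Nat.lt_succ_iff.1 hk)
    by_cases hk1 : k = 0
    · exact hbase θ (by omega)
    set S := Finset.univ.image θ.1 with hS
    set T := Finset.univ.image θ₀.1 with hT
    have hScard : S.card = e + 1 := (GrassLib.image_card_iff_injective _).2 θ.2.injective
    have hTcard : T.card = e + 1 := (GrassLib.image_card_iff_injective _).2 θ₀.2.injective
    obtain ⟨x, hx⟩ : (S \ T).Nonempty := Finset.card_pos.1 (by omega)
    obtain ⟨hxS, hxT⟩ := Finset.mem_sdiff.1 hx
    have hi : (S.erase x).card = e := by rw [Finset.card_erase_of_mem hxS, hScard]; omega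
    have hj : (insert x T).card = e + 2 := by rw [Finset.card_insert_of_notMem hxT, hTcard]
    let i' : Idx e n := ⟨(S.erase x).orderEmbOfFin hi, ((S.erase x).orderEmbOfFin hi).strictMono⟩
    let j' : Idx (e + 2) n := ⟨(insert x T).orderEmbOfFin hj, ((insert x T).orderEmbOfFin hj).strictMono⟩
    have hjimg : Finset.univ.image j'.1 = insert x T := Finset.image_orderEmbOfFin_univ _ _
    have hiimg : Finset.univ.image i'.1 = S.erase x := Finset.image_orderEmbOfFin_univ _ _
    have hsnoc : ∀ h : Fin (e + 2), Finset.univ.image (Fin.snoc i'.1 (j'.1 h) : Fin (e + 1) → Fin n) =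
        insert (j'.1 h) (S.erase x) := by
      intro h
      rw [← hiimg]
      ext y
      simp only [Finset.mem_image, Finset.mem_univ, true_and, Finset.mem_insert]
      constructor
      · rintro ⟨a, rfl⟩
        refine Fin.lastCases ?_ (fun b => ?_) a
        · left; simp
        · right; exact ⟨b, by simp⟩
      · rintro (rfl | ⟨b, rfl⟩)
        · exact ⟨Fin.last e, by simp⟩
        · exact ⟨b.castSucc, by simp⟩
    have hdel : ∀ h : Fin (e + 2),
        Finset.univ.image (j'.1 ∘ h.succAbove) = (insert x T).erase (j'.1 h) := by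
      intro h
      rw [← hjimg]
      ext y
      simp only [Finset.mem_image, Finset.mem_univ, true_and, Function.comp_apply, Finset.mem_erase]
      constructor
      · rintro ⟨a, rfl⟩
        exact ⟨fun h' => Fin.succAbove_ne h a (j'.2.injective h'), _, rfl⟩
      · rintro ⟨hy, b, rfl⟩
        obtain ⟨a, rfl⟩ := Fin.exists_succAbove_eq (fun h' : b = h => hy (h' ▸ rfl))
        exact ⟨a, rfl⟩
    obtain ⟨h₀, hh₀⟩ : ∃ h, j'.1 h = x := by
      have : x ∈ Finset.univ.image j'.1 := hjimg ▸ Finset.mem_insert_self x T
      simpa using this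
    have hrest : ∀ h ∈ (Finset.univ : Finset (Fin (e + 2))), h ≠ h₀ →
        br q (Fin.snoc i'.1 (j'.1 h)) * br q (j'.1 ∘ h.succAbove) =
          br q' (Fin.snoc i'.1 (j'.1 h)) * br q' (j'.1 ∘ h.succAbove) := by
      intro h _ hne'
      set y := j'.1 h
      have hyx : y ≠ x := fun hy => hne' (j'.2.injective (hy.trans hh₀.symm))
      have hyT : y ∈ T := (Finset.mem_insert.1 (hjimg ▸ Finset.mem_image_of_mem j'.1 (Finset.mem_univ h))).resolve_left hyx
      congr 1
      · by_cases hc : (Finset.univ.image (Fin.snoc i'.1 y : Fin (e + 1) → Fin n)).card = e + 1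
        · rw [br_of_injective _ _ hc, br_of_injective _ _ hc, ih _ ?_]
          rw [image_sortIdx, hsnoc]
          have hsub : insert y (S.erase x) \ T ⊆ (S \ T).erase x := by
            intro z hz
            simp only [Finset.mem_sdiff, Finset.mem_insert, Finset.mem_erase] at hz ⊢
            rcases hz with ⟨rfl | ⟨h1, h2⟩, h3⟩
            · exact absurd hyT h3
            · exact ⟨h1, h2, h3⟩
          refine (Finset.card_le_card hsub).trans ?_
          rw [Finset.card_erase_of_mem hx]
          omega
        · rw [br_of_not_injective _ _ hc, br_of_not_injective _ _ hc]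
      · have hc : (Finset.univ.image (j'.1 ∘ h.succAbove)).card = e + 1 :=
          (GrassLib.image_card_iff_injective _).2 (j'.2.injective.comp Fin.succAbove_right_injective)
        rw [br_of_injective _ _ hc, br_of_injective _ _ hc, hbase _ ?_]
        rw [image_sortIdx, hdel]
        refine (Finset.card_le_card (t := {x}) ?_).trans (Finset.card_singleton x).le
        intro z hz
        simp only [Finset.mem_sdiff, Finset.mem_erase, Finset.mem_insert] at hz
        exact Finset.mem_singleton.2 (hz.1.2.resolve_right hz.2)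
    have e1 := hq i' j'
    have e2 := hq' i' j'
    rw [eval_quadric, ← Finset.add_sum_erase _ _ (Finset.mem_univ h₀)] at e1 e2
    rw [Finset.sum_congr rfl fun h hh => by
      rw [mul_assoc, hrest h (Finset.mem_univ h) (Finset.ne_of_mem_erase hh), ← mul_assoc]] at e1
    have e3 := add_right_cancel (e1.trans e2.symm)
    have hc1 : (Finset.univ.image (Fin.snoc i'.1 (j'.1 h₀) : Fin (e + 1) → Fin n)).card = e + 1 := by
      rw [hsnoc, hh₀, Finset.insert_erase hxS, hScard]
    have hc2 : (Finset.univ.image (j'.1 ∘ h₀.succAbove)).card = e + 1 := by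
      rw [hdel, hh₀, Finset.erase_insert hxT, hTcard]
    have s1 : sortIdx (e + 1) n _ hc1 = θ := idx_ext' (by
      rw [image_sortIdx, hsnoc, hh₀, Finset.insert_erase hxS])
    have s2 : sortIdx (e + 1) n _ hc2 = θ₀ := idx_ext' (by
      rw [image_sortIdx, hdel, hh₀, Finset.erase_insert hxT])
    rw [br_of_injective _ _ hc1, br_of_injective _ _ hc1, br_of_injective _ _ hc2,
      br_of_injective _ _ hc2, s1, s2, ← h0] at e3
    have hu : ∀ m : ℕ, ((-1 : K)) ^ m ≠ 0 := fun m => pow_ne_zero m (by simp)
    exact mul_left_cancel₀ (hu _) (mul_left_cancel₀ (hu _)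
      (mul_right_cancel₀ (mul_ne_zero (hu _) hne) e3))

theorem exists_matrix (q : Idx (e + 1) n → K) (hq : q ≠ 0)
    (h : ∀ i' j', eval q (quadric K i' j') = 0) :
    ∃ A : Matrix (Fin n) (Fin (e + 1)) K, ∀ θ : Idx (e + 1) n, q θ = (A.submatrix θ.1 id).det := by
  classical
  obtain ⟨θ₀, hθ₀⟩ := Function.ne_iff.1 hq
  simp only [Pi.zero_apply] at hθ₀
  let v : Fin (e + 1) → K := Function.update (fun _ => 1) 0 (q θ₀)
  let A : Matrix (Fin n) (Fin (e + 1)) K :=
    Matrix.of fun x t => br q (Function.update θ₀.1 t x) * v t / q θ₀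
  have hdiag : ∀ s t, A (θ₀.1 s) t = if s = t then v t else 0 := by
    intro s t
    by_cases hst : s = t
    · subst hst
      rw [if_pos rfl]
      show br q (Function.update θ₀.1 s (θ₀.1 s)) * v s / q θ₀ = v s
      rw [Function.update_eq_self, br_self]
      field_simp
    · rw [if_neg hst]
      show br q (Function.update θ₀.1 t (θ₀.1 s)) * v t / q θ₀ = 0
      rw [br_of_not_injective, zero_mul, zero_div]
      rw [Ne, GrassLib.image_card_iff_injective]
      intro hinj
      exact hst (hinj (by simp [Function.update_of_ne hst]))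
  have hv : ∏ s, v s = q θ₀ := by
    rw [Finset.prod_update_of_mem (Finset.mem_univ _)]
    simp
  have hsq : ∀ t x, (A.submatrix (Function.update θ₀.1 t x) id).det = br q (Function.update θ₀.1 t x) := by
    intro t x
    rw [GrassLib.det_eq_of_rows_diagonal _ t v]
    · simp only [Matrix.submatrix_apply, Function.update_self, id_eq]
      show br q (Function.update θ₀.1 t x) * v t / q θ₀ * _ = _
      rw [div_mul_eq_mul_div, mul_assoc, Finset.mul_prod_erase _ _ (Finset.mem_univ t), hv,
        mul_div_assoc, div_self hθ₀, mul_one]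
    · intro s hs k
      rw [Matrix.submatrix_apply, Function.update_of_ne hs, id_eq, hdiag]
      split_ifs with h1
      · subst h1; rfl
      · rfl
  refine ⟨A, fun θ => congrFun (eq_of_quadrics h (quadric_minors A) θ₀ hθ₀ ?_ ?_) θ⟩
  · have := hsq 0 (θ₀.1 0)
    rw [Function.update_eq_self, br_self] at this
    exact this.symm
  · intro θ hθ
    obtain ⟨x, hx⟩ := Finset.card_eq_one.1 hθ
    set S := Finset.univ.image θ.1
    set T := Finset.univ.image θ₀.1
    have hScard : S.card = e + 1 := (GrassLib.image_card_iff_injective _).2 θ.2.injective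
    have hTcard : T.card = e + 1 := (GrassLib.image_card_iff_injective _).2 θ₀.2.injective
    have hTS : (T \ S).card = 1 := by
      have h1 := Finset.card_sdiff_add_card_inter S T
      have h2 := Finset.card_sdiff_add_card_inter T S
      rw [Finset.inter_comm] at h2
      omega
    obtain ⟨y, hy⟩ := Finset.card_eq_one.1 hTS
    have hyT : y ∈ T := (Finset.mem_sdiff.1 (hy ▸ Finset.mem_singleton_self y)).1
    obtain ⟨t, -, rfl⟩ := Finset.mem_image.1 hyT
    have himg : Finset.univ.image (Function.update θ₀.1 t x) = S := by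
      ext z
      constructor
      · simp only [Finset.mem_image, Finset.mem_univ, true_and]
        rintro ⟨a, rfl⟩
        by_cases ha : a = t
        · subst ha
          rw [Function.update_self]
          exact (Finset.mem_sdiff.1 (hx ▸ Finset.mem_singleton_self x)).1
        · rw [Function.update_of_ne ha]
          by_contra hn
          have : θ₀.1 a ∈ T \ S := Finset.mem_sdiff.2 ⟨Finset.mem_image_of_mem _ (Finset.mem_univ a), hn⟩
          rw [hy, Finset.mem_singleton] at this
          exact ha (θ₀.2.injective this)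
      · intro hz
        by_cases hzT : z ∈ T
        · obtain ⟨a, -, rfl⟩ := Finset.mem_image.1 hzT
          refine Finset.mem_image.2 ⟨a, Finset.mem_univ a, Function.update_of_ne ?_ _ _⟩
          rintro rfl
          exact (Finset.mem_sdiff.1 (hy ▸ Finset.mem_singleton_self (θ₀.1 a))).2 hz
        · have : z ∈ S \ T := Finset.mem_sdiff.2 ⟨hz, hzT⟩
          rw [hx, Finset.mem_singleton] at this
          exact Finset.mem_image.2 ⟨t, Finset.mem_univ t, by rw [Function.update_self, this]⟩
    have hc : (Finset.univ.image (Function.update θ₀.1 t x)).card = e + 1 := by rw [himg, hScard]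
    have heq := hsq t x
    rw [← br_minors A, br_of_injective _ _ hc, br_of_injective _ _ hc,
      show sortIdx (e + 1) n _ hc = θ from idx_ext' (by rw [image_sortIdx, himg])] at heq
    exact (mul_left_cancel₀ (pow_ne_zero _ (by simp)) heq).symm


open W4bk4grassmannian in
/-- The Grassmannian is cut out set-theoretically by the Plücker quadrics: let K be a field, e, n
natural numbers, and q : I(e+1,n) → K a nonzero vector (a point of the projective space of the
Plücker embedding of G(e+1,n)). Then q is the vector of (e+1) × (e+1) row-minors of some n × (e+1)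
matrix over K if and only if all the quadrics attached to i' ∈ I(e,n), j' ∈ I(e+2,n) (the signed
sums Σ_h (-1)^(h+1) [i', j'_h] [j' with j'_h removed], brackets of arbitrary tuples meaning signed
sorted coordinates, zero on repeated rows) vanish at q. (The published statement is over an
algebraically closed field; this row allows any field K.) -/
theorem result (K : Type u) [Field K] (e n : ℕ)
    (q : Idx (e + 1) n → K) (hq : q ≠ 0) :
    (∀ (i' : Idx e n) (j' : Idx (e + 2) n), MvPolynomial.eval q (quadric K i' j') = 0) ↔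
      ∃ A : Matrix (Fin n) (Fin (e + 1)) K, ∀ θ : Idx (e + 1) n, q θ = (A.submatrix θ.1 id).det := by
  refine ⟨exists_matrix q hq, fun ⟨A, hA⟩ i' j' => ?_⟩
  rw [funext hA]
  exact quadric_minors A i' j'

end Groth.Agent.S11256
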