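import Groth.Statements.S11257
import Groth.Agent.GrassLib.RegMod

set_option autoImplicit false
universe u
open W4bk4grassmannian RingTheory.Sequence Pointwise

namespace Groth.Agent.S11257

theorem regMod_iff {A : Type u} [CommRing A] : ∀ (fs : List A) (I : Ideal A),
    IsWeaklyRegular (A ⧸ I) fs ↔ GrassLib.RegMod I fs
  | [], I => iff_of_true (IsWeaklyRegular.nil A _) trivial
  | g :: fs, I => by
    rw [isWeaklyRegular_cons_iff]
    refine and_congr ?_ ?_
    · rw [isSMulRegular_iff_right_eq_zero_of_smul]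
      constructor
      · intro h x hx
        refine Ideal.Quotient.eq_zero_iff_mem.1 (h (Ideal.Quotient.mk I x) ?_)
        exact Ideal.Quotient.eq_zero_iff_mem.2 hx
      · intro h x hx
        obtain ⟨x, rfl⟩ := Ideal.Quotient.mk_surjective x
        exact Ideal.Quotient.eq_zero_iff_mem.2 (h x (Ideal.Quotient.eq_zero_iff_mem.1 hx))
    · refine (LinearEquiv.isWeaklyRegular_congr ?_ fs).trans (regMod_iff fs _)
      refine (Submodule.quotEquivOfEq (g • (⊤ : Submodule A (A ⧸ I)))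
        (Submodule.map I.mkQ (Ideal.span {g})) ?_).trans
        (Submodule.quotientQuotientEquivQuotientSup I (Ideal.span {g}))
      rw [← Submodule.ideal_span_singleton_smul, ← Submodule.range_mkQ I, ← Submodule.map_top,
        ← Submodule.map_smul'', Ideal.smul_eq_mul, Ideal.mul_top]

theorem regMod_inf_append {A : Type u} [CommRing A] (g : A) : ∀ (fs : List A) (I J : Ideal A),
    GrassLib.RegMod I (fs ++ [g]) → GrassLib.RegMod J (fs ++ [g]) → GrassLib.RegMod (I ⊔ J) fs →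
      GrassLib.RegMod (I ⊓ J) (fs ++ [g])
  | [], I, J, hI, hJ, _ => ⟨fun x hx => ⟨hI.1 x hx.1, hJ.1 x hx.2⟩, trivial⟩
  | h :: fs, I, J, hI, hJ, hC => by
    refine ⟨fun x hx => ⟨hI.1 x hx.1, hJ.1 x hx.2⟩, ?_⟩
    have e : I ⊓ J ⊔ Ideal.span {h} = (I ⊔ Ideal.span {h}) ⊓ (J ⊔ Ideal.span {h}) :=
      le_antisymm (le_inf (sup_le_sup_right inf_le_left _) (sup_le_sup_right inf_le_right _))
        fun x hx => GrassLib.mem_inf_sup_span hC.1 hx.1 hx.2
    rw [e]
    refine regMod_inf_append g fs _ _ hI.2 hJ.2 ?_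
    rw [← sup_sup_distrib_right]
    exact hC.2

/-- Let A be a Noetherian local integral domain with maximal ideal m, I and J ideals of A, d ≥ 1, and
f_1, …, f_d ∈ m. Assume depth A/(I+J) ≥ d - 1, depth A/I ≥ d and depth A/J ≥ d (depths of the
quotients as A-modules), that f_1, …, f_d is a regular sequence on A/I and on A/J, and that f_1, …,
f_{d-1} is a regular sequence on A/(I+J). Then f_1, …, f_d is a regular sequence on A/(I ∩ J). -/
theorem result (A : Type u) [CommRing A] [IsDomain A]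
    [IsNoetherianRing A] [IsLocalRing A] (I J : Ideal A) (d : ℕ) (hd : 0 < d) (f : Fin d → A)
    (hf : ∀ k, f k ∈ IsLocalRing.maximalIdeal A)
    (hIJd : ((d - 1 : ℕ) : ℕ∞) ≤ LocCoh.depth A (A ⧸ (I ⊔ J)))
    (hId : (d : ℕ∞) ≤ LocCoh.depth A (A ⧸ I)) (hJd : (d : ℕ∞) ≤ LocCoh.depth A (A ⧸ J))
    (hI : RingTheory.Sequence.IsRegular (A ⧸ I) (List.ofFn f))
    (hJ : RingTheory.Sequence.IsRegular (A ⧸ J) (List.ofFn f))
    (hIJ : RingTheory.Sequence.IsRegular (A ⧸ (I ⊔ J)) ((List.ofFn f).take (d - 1))) :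
    RingTheory.Sequence.IsRegular (A ⧸ (I ⊓ J)) (List.ofFn f) := by
  obtain ⟨g, hg⟩ : ∃ g, List.ofFn f = (List.ofFn f).take (d - 1) ++ [g] := by
    have hlen : ((List.ofFn f).drop (d - 1)).length = 1 := by simp; omega
    obtain ⟨g, hg⟩ := List.length_eq_one_iff.1 hlen
    exact ⟨g, by rw [← hg, List.take_append_drop]⟩
  have hne : I ⊓ J ≠ ⊤ := fun h => by
    obtain ⟨htop, -⟩ := inf_eq_top_iff.1 h
    have := Ideal.Quotient.subsingleton_iff.2 htop
    exact hI.top_ne_smul (Subsingleton.elim _ _)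
  have := Ideal.Quotient.nontrivial_iff.2 hne
  refine Groth.Agent.Depth.isRegular_of_isWeaklyRegular
    (Groth.Agent.Depth.maximalIdeal_smul_top_ne_top (M := A ⧸ (I ⊓ J))) ((regMod_iff _ _).2 ?_) fun r hr => ?_
  · rw [hg]
    refine regMod_inf_append g _ I J ?_ ?_ ((regMod_iff _ _).1 hIJ.toIsWeaklyRegular)
    · rw [← hg]; exact (regMod_iff _ _).1 hI.toIsWeaklyRegular
    · rw [← hg]; exact (regMod_iff _ _).1 hJ.toIsWeaklyRegular
  · obtain ⟨k, rfl⟩ := List.mem_ofFn.1 hr
    exact hf k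

end Groth.Agent.S11257
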