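import Mathlib
import Groth.Statements.S11262
-- import your own Groth.Agent.* helpers here

set_option autoImplicit false
universe u v
open W4bk4grassmannian

namespace Groth.Agent.S11262

theorem card_exact_support {L : Type*} [DecidableEq L] (C : Finset L) (hC : C.Nonempty) (m : ℕ) (hm : 1 ≤ m) :
    ((C.finsuppAntidiag m).filter fun e => e.support = C).card = Nat.choose (m - 1) (C.card - 1) := by
  classical
  rcases Nat.lt_or_ge m C.card with h | h
  · rw [Finset.card_eq_zero.2, Nat.choose_eq_zero_of_lt (by have := hC.card_pos; omega)]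
    rw [Finset.filter_eq_empty_iff]
    intro e he hsupp
    obtain ⟨hsum, -⟩ := Finset.mem_finsuppAntidiag.1 he
    have : C.card ≤ C.sum e := by
      rw [Finset.card_eq_sum_ones]
      refine Finset.sum_le_sum fun a ha => Nat.one_le_iff_ne_zero.2 ?_
      rw [← Finsupp.mem_support_iff, hsupp]
      exact ha
    omega
  · let ind : L →₀ ℕ := Finsupp.indicator C fun _ _ => 1
    have hind : ∀ a ∈ C, ind a = 1 := fun a ha => Finsupp.indicator_of_mem ha _
    have hind' : ∀ a, a ∉ C → ind a = 0 := fun a ha => Finsupp.indicator_of_notMem ha _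
    have hcard : ((C.finsuppAntidiag m).filter fun e => e.support = C).card =
        (C.finsuppAntidiag (m - C.card)).card := by
      refine Finset.card_bij' (fun e _ => e - ind) (fun f _ => f + ind) ?_ ?_ ?_ ?_
      · intro e he
        obtain ⟨he, hsupp⟩ := Finset.mem_filter.1 he
        obtain ⟨hsum, -⟩ := Finset.mem_finsuppAntidiag.1 he
        have h1 : ∀ a ∈ C, 1 ≤ e a := fun a ha => Nat.one_le_iff_ne_zero.2 (by
          rw [← Finsupp.mem_support_iff, hsupp]; exact ha)
        refine Finset.mem_finsuppAntidiag.2 ⟨?_, fun a ha => ?_⟩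
        · have h2 : C.sum (e - ind) + C.card = m := by
            rw [Finset.card_eq_sum_ones, ← Finset.sum_add_distrib, ← hsum]
            refine Finset.sum_congr rfl fun a ha => ?_
            rw [Finsupp.tsub_apply, hind a ha]
            exact Nat.sub_add_cancel (h1 a ha)
          omega
        · by_contra haC
          rw [Finsupp.mem_support_iff, Finsupp.tsub_apply, hind' a haC] at ha
          rw [← hsupp, Finsupp.notMem_support_iff] at haC
          simp [haC] at ha
      · intro f hf
        obtain ⟨hsum, hsub⟩ := Finset.mem_finsuppAntidiag.1 hf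
        have hsupp : (f + ind).support = C := by
          ext a
          rw [Finsupp.mem_support_iff, Finsupp.add_apply]
          by_cases ha : a ∈ C
          · simp [hind a ha, ha]
          · have h0 : f a = 0 := Finsupp.notMem_support_iff.1 fun h' => ha (hsub h')
            simp [hind' a ha, ha, h0]
        refine Finset.mem_filter.2 ⟨Finset.mem_finsuppAntidiag.2 ⟨?_, hsupp.le⟩, hsupp⟩
        rw [Finset.sum_congr rfl fun a ha => by rw [Finsupp.add_apply, hind a ha],
          Finset.sum_add_distrib, hsum, ← Finset.card_eq_sum_ones]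
        omega
      · intro e he
        obtain ⟨-, hsupp⟩ := Finset.mem_filter.1 he
        refine tsub_add_cancel_of_le fun a => ?_
        by_cases ha : a ∈ C
        · rw [hind a ha]
          exact Nat.one_le_iff_ne_zero.2 (by rw [← Finsupp.mem_support_iff, hsupp]; exact ha)
        · rw [hind' a ha]; exact Nat.zero_le _
      · intro f _
        exact add_tsub_cancel_right f ind
    rw [hcard, Finset.card_finsuppAntidiag_nat_eq_choose,
      show C.card + (m - C.card) - 1 = m - 1 by omega]
    exact Nat.choose_symm_of_eq_add (by have := hC.card_pos; omega)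


/-- Hilbert function of the Stanley–Reisner ring of a finite distributive lattice: let K be a field, L a
finite distributive lattice, R = K[x_α : α ∈ L], I ⊆ R the ideal generated by the products x_α x_β
over the incomparable (skew) pairs α, β, and m ≥ 1. Then the image in R/I of the homogeneous
polynomials of degree m has K-dimension equal to the sum, over the nonempty chains C ⊆ L, of the
binomial coefficient (m - 1 choose |C| - 1). (The published statement is that the degree of R/I
equals the number of maximal chains of L; this row states the Hilbert function from which that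
degree is read off.) -/
theorem result (K : Type u) [Field K] (L : Type v) [DistribLattice L]
    [Fintype L] (m : ℕ) (hm : 1 ≤ m) :
    Module.finrank K ((MvPolynomial.homogeneousSubmodule L K m).map
        (Ideal.Quotient.mkₐ K (Ideal.span {f : MvPolynomial L K | ∃ a b : L, ¬ a ≤ b ∧ ¬ b ≤ a ∧
          f = MvPolynomial.X a * MvPolynomial.X b})).toLinearMap) =
      ∑ᶠ C : {C : Finset L // C.Nonempty ∧ IsChain (fun a b : L => a ≤ b) (↑C : Set L)},
        Nat.choose (m - 1) (C.1.card - 1) := by
  classical
  set I := Ideal.span {f : MvPolynomial L K | ∃ a b : L, ¬ a ≤ b ∧ ¬ b ≤ a ∧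
    f = MvPolynomial.X a * MvPolynomial.X b} with hI
  set π := (Ideal.Quotient.mkₐ K I).toLinearMap
  let skew : Set (L →₀ ℕ) := {e | ∃ a b : L, ¬ a ≤ b ∧ ¬ b ≤ a ∧ e = Finsupp.single a 1 + Finsupp.single b 1}
  have hIeq : I = Ideal.span ((fun e => MvPolynomial.monomial e (1 : K)) '' skew) := by
    rw [hI]
    congr 1
    ext f
    constructor
    · rintro ⟨a, b, h1, h2, rfl⟩
      exact ⟨_, ⟨a, b, h1, h2, rfl⟩, by simp [MvPolynomial.X, MvPolynomial.monomial_mul]⟩
    · rintro ⟨_, ⟨a, b, h1, h2, rfl⟩, rfl⟩
      exact ⟨a, b, h1, h2, by simp [MvPolynomial.X, MvPolynomial.monomial_mul]⟩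
  have hskew : ∀ e : L →₀ ℕ, (∃ si ∈ skew, si ≤ e) ↔ ¬ IsChain (fun a b : L => a ≤ b) (e.support : Set L) := by
    intro e
    constructor
    · rintro ⟨_, ⟨a, b, h1, h2, rfl⟩, hle⟩ hchain
      have ha : a ∈ e.support := Finsupp.mem_support_iff.2 fun h0 => by
        have := hle a; simp [h0] at this
      have hb : b ∈ e.support := Finsupp.mem_support_iff.2 fun h0 => by
        have := hle b; simp [h0] at this
      by_cases hab : a = b
      · exact h1 hab.le
      · exact (hchain ha hb hab).elim h1 h2
    · intro h
      simp only [IsChain, Set.Pairwise, not_forall, not_or] at h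
      obtain ⟨a, ha, b, hb, hne, h1, h2⟩ := h
      refine ⟨_, ⟨a, b, h1, h2, rfl⟩, fun c => ?_⟩
      rw [Finset.mem_coe, Finsupp.mem_support_iff] at ha hb
      rw [Finsupp.add_apply, Finsupp.single_apply, Finsupp.single_apply]
      split_ifs with h3 h4 h4
      · exact absurd (h3.trans h4.symm) hne
      · subst h3; omega
      · subst h4; omega
      · exact Nat.zero_le _
  let B := ((Finset.univ : Finset L).finsuppAntidiag m).filter
    fun e => IsChain (fun a b : L => a ≤ b) (e.support : Set L)
  let v : B → MvPolynomial L K ⧸ I := fun e => π (MvPolynomial.monomial e.1 1)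
  have hdeg : ∀ e : L →₀ ℕ, e ∈ (Finset.univ : Finset L).finsuppAntidiag m ↔ e.degree = m := fun e => by
    rw [Finset.mem_finsuppAntidiag, Finsupp.degree]
    simp only [AddMonoidHom.coe_mk, ZeroHom.coe_mk, Finset.subset_univ, and_true]
    rw [← Finset.sum_subset (Finset.subset_univ e.support) fun a _ ha => Finsupp.notMem_support_iff.1 ha]
  have hli : LinearIndependent K v := by
    rw [Fintype.linearIndependent_iff]
    intro g hg e
    have hmem : ∑ i : B, g i • MvPolynomial.monomial i.1 (1 : K) ∈ I := by
      rw [← Ideal.Quotient.eq_zero_iff_mem]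
      show π _ = 0
      rw [map_sum, ← hg]
      exact Finset.sum_congr rfl fun i _ => map_smul π _ _
    by_contra hne
    rw [hIeq, MvPolynomial.mem_ideal_span_monomial_image] at hmem
    have hcoeff : MvPolynomial.coeff e.1 (∑ i : B, g i • MvPolynomial.monomial i.1 (1 : K)) = g e := by
      rw [MvPolynomial.coeff_sum, Finset.sum_eq_single e]
      · simp
      · intro i _ hi
        rw [MvPolynomial.coeff_smul, MvPolynomial.coeff_monomial, if_neg fun h => hi (Subtype.ext h), smul_zero]
      · exact fun h => absurd (Finset.mem_univ e) h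
    exact (hskew e.1).1 (hmem e.1 (MvPolynomial.mem_support_iff.2 (hcoeff ▸ hne)))
      (Finset.mem_filter.1 e.2).2
  have hspan : Submodule.span K (Set.range v) = (MvPolynomial.homogeneousSubmodule L K m).map π := by
    refine le_antisymm (Submodule.span_le.2 ?_) ?_
    · rintro _ ⟨e, rfl⟩
      exact Submodule.mem_map_of_mem
        (MvPolynomial.isHomogeneous_monomial 1 ((hdeg e.1).1 (Finset.mem_filter.1 e.2).1))
    · rintro _ ⟨P, hP, rfl⟩
      rw [MvPolynomial.as_sum P, map_sum]
      refine Submodule.sum_mem _ fun e he => ?_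
      have hem : e.degree = m := by
        rw [Finsupp.degree_eq_weight_one]
        exact hP (MvPolynomial.mem_support_iff.1 he)
      by_cases hc : IsChain (fun a b : L => a ≤ b) (e.support : Set L)
      · rw [show MvPolynomial.monomial e (P.coeff e) = P.coeff e • MvPolynomial.monomial e (1 : K) by
          rw [MvPolynomial.smul_monomial, smul_eq_mul, mul_one], map_smul]
        exact Submodule.smul_mem _ _ (Submodule.subset_span
          ⟨⟨e, Finset.mem_filter.2 ⟨(hdeg e).2 hem, hc⟩⟩, rfl⟩)
      · have h0 : π (MvPolynomial.monomial e (P.coeff e)) = 0 := by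
          refine Ideal.Quotient.eq_zero_iff_mem.2 ?_
          rw [hIeq, MvPolynomial.mem_ideal_span_monomial_image]
          intro xi hxi
          obtain rfl : xi = e := by
            have := MvPolynomial.support_monomial_subset hxi
            simpa using this
          exact (hskew _).2 hc
        rw [h0]; exact Submodule.zero_mem _
  rw [← hspan, finrank_span_eq_card hli, Fintype.card_coe]
  rw [finsum_eq_sum_of_fintype]
  let Cs : Finset (Finset L) := Finset.univ.filter fun C => C.Nonempty ∧ IsChain (fun a b : L => a ≤ b) (C : Set L)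
  rw [← Finset.sum_subtype Cs (fun C => by simp [Cs]) (fun C => Nat.choose (m - 1) (C.card - 1))]
  have hfib : ∀ e ∈ B, e.support ∈ Cs := by
    intro e he
    obtain ⟨he, hc⟩ := Finset.mem_filter.1 he
    refine Finset.mem_filter.2 ⟨Finset.mem_univ _, ?_, hc⟩
    rw [Finset.nonempty_iff_ne_empty]
    intro h0
    have h := (hdeg e).1 he
    rw [Finsupp.support_eq_empty.1 h0, map_zero] at h
    omega
  rw [Finset.card_eq_sum_card_fiberwise hfib]
  refine Finset.sum_congr rfl fun C hC => ?_
  rw [← card_exact_support C (Finset.mem_filter.1 hC).2.1 m hm]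
  congr 1
  ext e
  simp only [B, Finset.mem_filter, Finset.mem_finsuppAntidiag, Finset.subset_univ, and_true]
  constructor
  · rintro ⟨⟨hsum, -⟩, rfl⟩
    exact ⟨⟨by rw [← hsum]; exact Finset.sum_subset (Finset.subset_univ _) (fun a _ ha => Finsupp.notMem_support_iff.1 ha), subset_rfl⟩, rfl⟩
  · rintro ⟨⟨hsum, -⟩, rfl⟩
    exact ⟨⟨by rw [← hsum]; exact (Finset.sum_subset (Finset.subset_univ _) (fun a _ ha => Finsupp.notMem_support_iff.1 ha)).symm, (Finset.mem_filter.1 hC).2.2⟩, rfl⟩

end Groth.Agent.S11262
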