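import Groth.Statements.S11269
import Groth.Agent.CAlgSerre.Normal
import Groth.Agent.TildeCompl.Basic
-- import your own Groth.Agent.* helpers here

set_option autoImplicit false
universe u
open W4bk4grassmannian

namespace Groth.Agent.S11269

/-- Let R be a Noetherian integral domain. Then R satisfies Serre's condition (S_2) (depth R_P ≥ min(2,
dim R_P) for all primes P) if and only if, for every nonzero a ∈ R, every associated prime of the
R-module R/(a) has height one. -/
theorem result (R : Type u) [CommRing R] [IsDomain R]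
    [IsNoetherianRing R] :
    LocCoh.HasSk 2 R R ↔
      ∀ a : R, a ≠ 0 → ∀ P : Ideal R, P ∈ associatedPrimes R (R ⧸ Ideal.span {a}) → P.height = 1 := by
  classical
  constructor
  · intro h2 a ha P hP
    have := hP.isPrime
    obtain ⟨-, y, hy⟩ := isAssociatedPrime_iff.1 hP
    obtain ⟨y, rfl⟩ := Ideal.Quotient.mk_surjective y
    have hmem : ∀ r, r ∈ P ↔ r * y ∈ Ideal.span {a} := fun r => by
      rw [hy, Submodule.mem_colon_singleton, Submodule.mem_bot, Algebra.smul_def,
        Ideal.Quotient.algebraMap_eq, ← map_mul, Ideal.Quotient.eq_zero_iff_mem]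
    have haP : a ∈ P := (hmem a).2 (Ideal.mul_mem_right _ _ (Ideal.mem_span_singleton_self a))
    have h1 := Groth.Agent.CAlgSerre.height_le_one_of_mem_associatedPrimes h2
      (IsSMulRegular.of_ne_zero ha) haP (fun s hs hsy => hs ((hmem s).2 hsy)) fun r hr => (hmem r).1 hr
    refine le_antisymm h1 (Order.one_le_iff_ne_zero.2 fun h0 => ?_)
    rw [Ideal.height_eq_zero_iff_eq_bot] at h0
    rw [h0, Ideal.mem_bot] at haP
    exact ha haP
  · intro h p hp
    rw [Groth.Agent.Depth.supportDim_localizedSelf]
    by_cases h0 : p = ⊥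
    · refine (min_le_right _ _).trans (WithBot.coe_le_coe.2 ?_)
      rw [Ideal.height_eq_zero_iff_eq_bot.2 h0]
      exact bot_le
    obtain ⟨a, hap, ha⟩ := Submodule.exists_mem_ne_zero_of_ne_bot h0
    rw [← Groth.Agent.Depth.depth_localized_quotSMulTop_add_one p hap
      (IsSMulRegular.of_ne_zero ha)]
    by_cases hass : p ∈ associatedPrimes R (QuotSMulTop a R)
    · have e : QuotSMulTop a R ≃ₗ[R] R ⧸ Ideal.span {a} := Submodule.quotEquivOfEq _ _ (by
        rw [← Submodule.ideal_span_singleton_smul]; simp)
      rw [LinearEquiv.AssociatedPrimes.eq e] at hass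
      rw [h a ha p hass]
      refine (min_le_right _ _).trans (WithBot.coe_le_coe.2 ?_)
      exact le_add_self
    · refine (min_le_left _ _).trans ?_
      rw [show ((2 : ℕ) : WithBot ℕ∞) = ((1 + 1 : ℕ∞) : WithBot ℕ∞) from rfl]
      exact WithBot.coe_le_coe.2
        (add_le_add ((Groth.Agent.TildeCompl.depth_localized_ne_zero_iff p).2 hass) le_rfl)

end Groth.Agent.S11269
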