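import Groth.Statements.S11271
import Groth.Agent.GrassLib.Rank

set_option autoImplicit false
universe u
open W4bk4grassmannian

namespace Groth.Agent.S11271

open W4bk4grassmannian in
/-- Semistable matrices are the matrices of full rank: let K be an algebraically closed field, 0 < d <
n, and let SL_d(K) act on n × d matrices by right multiplication; a matrix A is semistable when the
zero matrix is not in the Zariski closure of its orbit, i.e. when some polynomial in the entries
vanishes at A g for every g ∈ SL_d(K) but not at 0. Then A is semistable if and only if its columns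
are linearly independent. -/
theorem result (K : Type u) [Field K]
    [IsAlgClosed K] (d n : ℕ) (hd : 0 < d) (hdn : d < n) (A : Matrix (Fin n) (Fin d) K) :
    LinearIndependent K A.transpose ↔
      ∃ f : MatRing K d n, (∀ g : Matrix.SpecialLinearGroup (Fin d) K,
        MvPolynomial.eval (fun p : Fin n × Fin d => (A * (g : Matrix (Fin d) (Fin d) K)) p.1 p.2) f = 0) ∧
        MvPolynomial.eval (fun _ : Fin n × Fin d => (0 : K)) f ≠ 0 := by
  classical
  constructor
  · intro hA
    obtain ⟨θ, hθ⟩ := GrassLib.exists_minor_ne_zero A hA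
    refine ⟨minor K d n θ.1 - MvPolynomial.C ((A.submatrix θ.1 id).det), fun g => ?_, ?_⟩
    · rw [map_sub, MvPolynomial.eval_C, W4bk4grassmannian.minor, RingHom.map_det, sub_eq_zero]
      have : ((A.submatrix θ.1 id) * (g : Matrix (Fin d) (Fin d) K)).det = (A.submatrix θ.1 id).det := by
        rw [Matrix.det_mul, g.det_coe, mul_one]
      rw [← this]
      refine congrArg Matrix.det ?_
      ext s t
      simp [Matrix.mul_apply]
    · rw [map_sub, MvPolynomial.eval_C, W4bk4grassmannian.minor, RingHom.map_det]
      have : Nonempty (Fin d) := ⟨⟨0, hd⟩⟩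
      rw [Matrix.det_eq_zero_of_row_eq_zero ⟨0, hd⟩ (fun j => by simp), zero_sub, neg_ne_zero]
      exact hθ
  · rintro ⟨f, hf, hf0⟩
    by_contra hA
    have hinj : ¬ Function.Injective A.mulVec := fun h => hA (Matrix.mulVec_injective_iff.1 h)
    obtain ⟨x, hx0, hAx⟩ : ∃ x : Fin d → K, x ≠ 0 ∧ A.mulVec x = 0 := by
      simp only [Function.Injective, not_forall] at hinj
      obtain ⟨a, b, hab, hne⟩ := hinj
      exact ⟨a - b, sub_ne_zero.2 hne, by rw [Matrix.mulVec_sub, hab, sub_self]⟩
    obtain ⟨k, hk⟩ := Function.ne_iff.1 hx0
    simp only [Pi.zero_apply] at hk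
    let g₀ : Matrix (Fin d) (Fin d) K := (1 : Matrix (Fin d) (Fin d) K).updateCol k x
    have hg₀ : g₀.det = x k := by
      rw [← Matrix.det_transpose, GrassLib.det_eq_of_rows_diagonal _ k (fun _ => 1)]
      · simp [g₀]
      · intro s hs t
        simp [g₀, Matrix.transpose_apply, Matrix.updateCol_ne hs, Matrix.one_apply, eq_comm]
    have hcol : ∀ i, (A * g₀) i k = 0 := by
      intro i
      have := congrFun hAx i
      simpa [g₀, Matrix.mul_apply, Matrix.mulVec, dotProduct] using this
    let q : Polynomial K :=
      MvPolynomial.aeval (fun p : Fin n × Fin d => Polynomial.C ((A * g₀) p.1 p.2) * Polynomial.X) f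
    have hq : ∀ s : K, q.eval s = MvPolynomial.eval (fun p => s * (A * g₀) p.1 p.2) f := by
      intro s
      rw [← Polynomial.coe_aeval_eq_eval, ← AlgHom.comp_apply, MvPolynomial.comp_aeval,
        ← MvPolynomial.coe_aeval_eq_eval]
      rw [RingHom.coe_coe]
      refine congrArg (fun v => MvPolynomial.aeval (R := K) v f) (funext fun p => ?_)
      simp [mul_comm s]
    have hzero : q = 0 := by
      refine Polynomial.eq_zero_of_infinite_isRoot q (Set.Infinite.mono ?_
        (Set.infinite_univ (α := K) |>.sdiff (Set.finite_singleton 0)))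
      intro s hs
      have hs0 : s ≠ 0 := by simpa using hs.2
      let u : Fin d → K := Function.update (fun _ => s) k ((x k * s ^ (d - 1))⁻¹)
      have hdet : (g₀ * Matrix.diagonal u).det = 1 := by
        rw [Matrix.det_mul, Matrix.det_diagonal, hg₀, Finset.prod_update_of_mem (Finset.mem_univ _),
          Finset.prod_const]
        have hc : ((Finset.univ : Finset (Fin d)) \ {k}).card = d - 1 := by
          simp [Finset.card_sdiff]
        rw [hc]
        field_simp
      show q.eval s = 0
      rw [hq, ← hf ⟨g₀ * Matrix.diagonal u, hdet⟩]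
      congr 1
      refine congrArg MvPolynomial.eval ?_
      funext p
      show s * (A * g₀) p.1 p.2 = (A * (g₀ * Matrix.diagonal u)) p.1 p.2
      rw [← Matrix.mul_assoc, Matrix.mul_diagonal]
      by_cases hp : p.2 = k
      · rw [hp, hcol, mul_zero, zero_mul]
      · simp only [u, Function.update_of_ne hp, mul_comm]
    apply hf0
    have h0 := hq 0
    rw [hzero, Polynomial.eval_zero] at h0
    rw [show (fun _ : Fin n × Fin d => (0 : K)) = fun p => 0 * (A * g₀) p.1 p.2 from
      funext fun p => (zero_mul _).symm]
    exact h0.symm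

end Groth.Agent.S11271
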