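import Groth.Statements.S11276
import Groth.Agent.Depth.CM
import Groth.Agent.DimTheory.Algebra
import Groth.Agent.EGA2G.Graded
import Groth.Agent.GrassLib.CMQuot
-- import your own Groth.Agent.* helpers here

set_option autoImplicit false
universe u v
open W4bk4grassmannian

namespace Groth.Agent.S11276

section

variable {K : Type u} [Field K] {A : Type v} [CommRing A] [Algebra K A] (𝒜 : ℕ → Submodule K A)
  [GradedAlgebra 𝒜] (h0 : ∀ a ∈ 𝒜 0, ∃ c : K, algebraMap K A c = a)

include h0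

theorem sub_mem_irrelevant (x : A) :
    ∃ c : K, x - algebraMap K A c ∈ (HomogeneousIdeal.irrelevant 𝒜).toIdeal := by
  obtain ⟨c, hc⟩ := h0 _ (DirectSum.decompose 𝒜 x 0).2
  refine ⟨c, (HomogeneousIdeal.mem_irrelevant_iff 𝒜 _).2 ?_⟩
  rw [map_sub, GradedRing.proj_apply, GradedRing.proj_apply, hc,
    DirectSum.decompose_of_mem_same 𝒜 (DirectSum.decompose 𝒜 x 0).2, sub_self]

theorem finiteType [IsNoetherianRing A] : Algebra.FiniteType K A := by
  have h := ((Groth.Agent.EGA2G.isNoetherianRing_iff 𝒜).1 inferInstance).2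
  have hs : Function.Surjective (algebraMap K (𝒜 0)) := fun a => by
    obtain ⟨c, hc⟩ := h0 a.1 a.2
    exact ⟨c, Subtype.ext hc⟩
  have hf : Algebra.FiniteType K (𝒜 0) :=
    Algebra.FiniteType.of_surjective (Algebra.ofId K (𝒜 0)) hs
  have : IsScalarTower K (𝒜 0) A := ⟨fun k x y => by
    show ((k • x : 𝒜 0) : A) * y = k • ((x : A) * y)
    rw [Submodule.coe_smul, smul_mul_assoc]⟩
  exact Algebra.FiniteType.trans hf h

theorem le_irrelevant {P : Ideal A} (hP : P.IsHomogeneous 𝒜) (hne : P ≠ ⊤) :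
    P ≤ (HomogeneousIdeal.irrelevant 𝒜).toIdeal := by
  intro f hf
  obtain ⟨c, hc⟩ := h0 _ (DirectSum.decompose 𝒜 f 0).2
  refine (HomogeneousIdeal.mem_irrelevant_iff 𝒜 _).2 ?_
  rw [GradedRing.proj_apply]
  have hmem : algebraMap K A c ∈ P := hc ▸ hP 0 hf
  by_cases h : c = 0
  · rw [← hc, h, map_zero]
  · exact absurd (Ideal.eq_top_of_isUnit_mem _ hmem ((Ne.isUnit h).map _)) hne

theorem ringKrullDim_le_height [IsNoetherianRing A] (I : Ideal A) (hI : I.IsHomogeneous 𝒜)
    [hM : ((HomogeneousIdeal.irrelevant 𝒜).toIdeal.map (Ideal.Quotient.mk I)).IsPrime] :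
    ringKrullDim (A ⧸ I) ≤
      (((HomogeneousIdeal.irrelevant 𝒜).toIdeal.map (Ideal.Quotient.mk I)).height : WithBot ℕ∞) := by
  classical
  set M := (HomogeneousIdeal.irrelevant 𝒜).toIdeal
  refine iSup_le fun l => ?_
  set m := M.map (Ideal.Quotient.mk I)
  obtain ⟨q, hq, hql⟩ := Ideal.exists_minimalPrimes_le
    (show I ≤ l.head.asIdeal.comap (Ideal.Quotient.mk I) from fun x hx => by
      rw [Ideal.mem_comap, Ideal.Quotient.eq_zero_iff_mem.2 hx]; exact zero_mem _)
  have := hq.1.1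
  have hqhom : q.IsHomogeneous 𝒜 := by
    have hle : I ≤ (q.homogeneousCore 𝒜).toIdeal := by
      rw [← hI.toIdeal_homogeneousCore_eq_self]
      exact Ideal.homogeneousCore_mono 𝒜 hq.1.2
    have h := hq.2 ⟨hq.1.1.homogeneousCore, hle⟩ (Ideal.toIdeal_homogeneousCore_le 𝒜 q)
    exact (Ideal.IsHomogeneous.iff_eq 𝒜 q).2 (le_antisymm (Ideal.toIdeal_homogeneousCore_le 𝒜 q) h)
  have hqM : q ≤ M := le_irrelevant 𝒜 h0 hqhom hq.1.1.ne_top
  have := finiteType 𝒜 h0
  have : Algebra.FiniteType K (A ⧸ q) :=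
    Algebra.FiniteType.of_surjective (Ideal.Quotient.mkₐ K q) Ideal.Quotient.mk_surjective
  let Mq := M.map (Ideal.Quotient.mk q)
  have hMmax : Mq.IsMaximal := by
    refine (Ideal.map_eq_top_or_isMaximal_of_surjective _ Ideal.Quotient.mk_surjective ?_).resolve_left ?_
    · refine Ideal.isMaximal_iff.2 ⟨?_, fun J x hJ hx hxJ => ?_⟩
      · intro h
        exact hM.ne_top ((Ideal.eq_top_iff_one _).2 (by simpa using Ideal.mem_map_of_mem (Ideal.Quotient.mk I) h))
      · obtain ⟨c, hc⟩ := sub_mem_irrelevant 𝒜 h0 x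
        have hcx : algebraMap K A c ∈ J := by simpa using J.sub_mem hxJ (hJ hc)
        have hc0 : c ≠ 0 := by
          rintro rfl
          rw [map_zero, sub_zero] at hc
          exact hx hc
        exact (Ideal.eq_top_iff_one _).1 (Ideal.eq_top_of_isUnit_mem _ hcx ((Ne.isUnit hc0).map _))
    · intro h
      have h' := congrArg (Ideal.comap (Ideal.Quotient.mk q)) h
      rw [Ideal.comap_map_of_surjective' _ Ideal.Quotient.mk_surjective, Ideal.mk_ker, Ideal.comap_top,
        sup_eq_left.2 hqM] at h'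
      exact hM.ne_top (by
        show Ideal.map (Ideal.Quotient.mk I) M = ⊤
        rw [h', Ideal.map_top])
  -- the chain lives above `q`
  have hdimq : (l.length : WithBot ℕ∞) ≤ ringKrullDim (A ⧸ q) := by
    rw [ringKrullDim_quotient]
    have hmem : ∀ i, (PrimeSpectrum.comap (Ideal.Quotient.mk I) (l i)) ∈
        PrimeSpectrum.zeroLocus (q : Set A) := fun i =>
      hql.trans (Ideal.comap_mono (LTSeries.head_le l i))
    exact Order.LTSeries.length_le_krullDim
      (LTSeries.mk l.length (fun i => (⟨_, hmem i⟩ : PrimeSpectrum.zeroLocus (q : Set A)))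
        (fun i j hij => Subtype.mk_lt_mk.2 (by
          have h := l.strictMono hij
          refine lt_of_le_of_ne (Ideal.comap_mono h.le) fun he => h.ne ?_
          exact PrimeSpectrum.ext (Ideal.comap_injective_of_surjective _ Ideal.Quotient.mk_surjective
            (congrArg PrimeSpectrum.asIdeal he)))))
  refine hdimq.trans ?_
  rw [← Groth.Agent.DimTheory.height_maximal K (A ⧸ q) Mq]
  refine WithBot.coe_le_coe.2 ?_
  -- transport heights along `A ⧸ I → A ⧸ q`
  let π : A ⧸ I →+* A ⧸ q := Ideal.Quotient.factor hq.1.2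
  have hπ : Function.Surjective π := Ideal.Quotient.factor_surjective hq.1.2
  have hcomap : Mq.comap π = m := by
    refine Ideal.comap_injective_of_surjective _ Ideal.Quotient.mk_surjective ?_
    rw [Ideal.comap_comap, show π.comp (Ideal.Quotient.mk I) = Ideal.Quotient.mk q from Ideal.Quotient.factor_comp_mk hq.1.2,
      Ideal.comap_map_of_surjective' _ Ideal.Quotient.mk_surjective,
      Ideal.comap_map_of_surjective' _ Ideal.Quotient.mk_surjective, Ideal.mk_ker, Ideal.mk_ker,
      sup_eq_left.2 hqM, sup_eq_left.2 (hq.1.2.trans hqM)]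
  rw [show Mq = (⟨Mq, hMmax.isPrime⟩ : PrimeSpectrum (A ⧸ q)).asIdeal from rfl,
    show m = (⟨m, hM⟩ : PrimeSpectrum (A ⧸ I)).asIdeal from rfl,
    PrimeSpectrum.height_eq_orderHeight, PrimeSpectrum.height_eq_orderHeight]
  refine (Order.height_le_height_apply_of_strictMono (PrimeSpectrum.comap π) ?_ _).trans (le_of_eq ?_)
  · intro a b hab
    refine lt_of_le_of_ne (Ideal.comap_mono hab.le) fun he => hab.ne ?_
    exact PrimeSpectrum.ext (Ideal.comap_injective_of_surjective _ hπ (congrArg PrimeSpectrum.asIdeal he))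
  · exact congrArg Order.height (PrimeSpectrum.ext hcomap)

end

theorem isLocalization_atPrime_quotient {A : Type v} [CommRing A] (M : Ideal A) [M.IsPrime] (I : Ideal A)
    [hP : (M.map (Ideal.Quotient.mk I)).IsPrime] (hIM : I ≤ M) :
    IsLocalization.AtPrime (Localization.AtPrime M ⧸ I.map (algebraMap A (Localization.AtPrime M)))
      (M.map (Ideal.Quotient.mk I)) := by
  have hcomap : (M.map (Ideal.Quotient.mk I)).comap (Ideal.Quotient.mk I) = M := by
    rw [Ideal.comap_map_of_surjective' _ Ideal.Quotient.mk_surjective, Ideal.mk_ker, sup_eq_left.2 hIM]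
  have hsub : Algebra.algebraMapSubmonoid (A ⧸ I) M.primeCompl = (M.map (Ideal.Quotient.mk I)).primeCompl := by
    ext z
    constructor
    · rintro ⟨x, hx, rfl⟩ hz
      exact hx (hcomap ▸ hz)
    · intro hz
      obtain ⟨x, rfl⟩ := Ideal.Quotient.mk_surjective z
      exact ⟨x, fun hx => hz (Ideal.mem_map_of_mem _ hx), rfl⟩
  rw [IsLocalization.AtPrime, ← hsub]
  infer_instance


/-- With the conclusion at the irrelevant ideal: let K be a field, A a commutative Noetherian K-algebra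
graded by ℕ with degree-zero part K, I and J homogeneous ideals of A such that A/I and A/J are
Cohen–Macaulay rings of Krull dimension e and A/(I + J) is a Cohen–Macaulay ring of Krull dimension
e - 1, where e ≥ 1. Let m be the image in A/(I ∩ J) of the irrelevant ideal A_+ (assumed prime; it
is maximal). Then the local ring (A/(I ∩ J))_m is Cohen–Macaulay of Krull dimension e. (The
published lemma concludes that A/(I ∩ J) itself is Cohen–Macaulay of dimension e; this row states
the conclusion at the irrelevant ideal only, from which the global one follows by the graded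
local–global principle.) -/
theorem result (K : Type u) [Field K] (A : Type v) [CommRing A]
    [Algebra K A] [IsNoetherianRing A] (𝒜 : ℕ → Submodule K A) [GradedAlgebra 𝒜]
    (h0 : ∀ a ∈ 𝒜 0, ∃ c : K, algebraMap K A c = a) (I J : Ideal A) (hI : I.IsHomogeneous 𝒜)
    (hJ : J.IsHomogeneous 𝒜) (e : ℕ) (he : 1 ≤ e)
    (hIcm : LocCoh.IsCohenMacaulayRing (A ⧸ I)) (hJcm : LocCoh.IsCohenMacaulayRing (A ⧸ J))
    (hIJcm : LocCoh.IsCohenMacaulayRing (A ⧸ (I ⊔ J)))
    (hIdim : ringKrullDim (A ⧸ I) = (e : WithBot ℕ∞)) (hJdim : ringKrullDim (A ⧸ J) = (e : WithBot ℕ∞))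
    (hIJdim : ringKrullDim (A ⧸ (I ⊔ J)) = ((e - 1 : ℕ) : WithBot ℕ∞))
    [hm : ((HomogeneousIdeal.irrelevant 𝒜).toIdeal.map (Ideal.Quotient.mk (I ⊓ J))).IsPrime] :
    LocCoh.IsCohenMacaulayLocalRing (Localization.AtPrime
        ((HomogeneousIdeal.irrelevant 𝒜).toIdeal.map (Ideal.Quotient.mk (I ⊓ J)))) ∧
      ringKrullDim (Localization.AtPrime
        ((HomogeneousIdeal.irrelevant 𝒜).toIdeal.map (Ideal.Quotient.mk (I ⊓ J)))) = (e : WithBot ℕ∞) := by
  classical
  set M := (HomogeneousIdeal.irrelevant 𝒜).toIdeal with hMdef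
  have hneI : I ≠ ⊤ := fun h => by
    have := Ideal.Quotient.subsingleton_iff.2 h
    rw [ringKrullDim_eq_bot_of_subsingleton] at hIdim
    exact WithBot.bot_ne_coe hIdim
  have hneJ : J ≠ ⊤ := fun h => by
    have := Ideal.Quotient.subsingleton_iff.2 h
    rw [ringKrullDim_eq_bot_of_subsingleton] at hJdim
    exact WithBot.bot_ne_coe hJdim
  have hIM : I ≤ M := le_irrelevant 𝒜 h0 hI hneI
  have hJM : J ≤ M := le_irrelevant 𝒜 h0 hJ hneJ
  have hprime : ∀ N : Ideal A, N ≤ M → (M.map (Ideal.Quotient.mk N)).IsPrime := by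
    intro N hN
    have hMp : M.IsPrime := by
      have h := Ideal.comap_isPrime (Ideal.Quotient.mk (I ⊓ J)) (M.map (Ideal.Quotient.mk (I ⊓ J)))
      rwa [Ideal.comap_map_of_surjective' _ Ideal.Quotient.mk_surjective, Ideal.mk_ker,
        sup_eq_left.2 (inf_le_left.trans hIM)] at h
    exact Ideal.map_isPrime_of_surjective Ideal.Quotient.mk_surjective (by rw [Ideal.mk_ker]; exact hN)
  have hMp : M.IsPrime := by
    have h := Ideal.comap_isPrime (Ideal.Quotient.mk (I ⊓ J)) (M.map (Ideal.Quotient.mk (I ⊓ J)))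
    rwa [Ideal.comap_map_of_surjective' _ Ideal.Quotient.mk_surjective, Ideal.mk_ker,
      sup_eq_left.2 (inf_le_left.trans hIM)] at h
  let L := Localization.AtPrime M
  have : IsNoetherianRing L := IsLocalization.isNoetherianRing M.primeCompl _ inferInstance
  have key : ∀ N : Ideal A, N.IsHomogeneous 𝒜 → N ≤ M → LocCoh.IsCohenMacaulayRing (A ⧸ N) →
      ∀ e' : ℕ, ringKrullDim (A ⧸ N) = (e' : WithBot ℕ∞) →
        Nontrivial (L ⧸ N.map (algebraMap A L)) ∧
          ringKrullDim (L ⧸ N.map (algebraMap A L)) = (e' : WithBot ℕ∞) ∧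
            (LocCoh.depth L (L ⧸ N.map (algebraMap A L)) : WithBot ℕ∞) = (e' : WithBot ℕ∞) := by
    intro N hN hNM hcm e' hdim
    have := hprime N hNM
    have := isLocalization_atPrime_quotient M N hNM
    let B := L ⧸ N.map (algebraMap A L)
    let P := M.map (Ideal.Quotient.mk N)
    have : IsLocalRing B := IsLocalization.AtPrime.isLocalRing B P
    have := hcm.isCohenMacaulayLocalRing_localization P
    have : LocCoh.IsCohenMacaulayLocalRing B := GrassLib.isCohenMacaulayLocalRing_of_ringEquiv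
      (IsLocalization.algEquiv P.primeCompl (Localization.AtPrime P) B).toRingEquiv
    have hd : ringKrullDim B = (e' : WithBot ℕ∞) := by
      rw [IsLocalization.AtPrime.ringKrullDim_eq_height P B]
      exact le_antisymm (hdim ▸ Ideal.height_le_ringKrullDim_of_ne_top (hprime N hNM).ne_top)
        (hdim ▸ ringKrullDim_le_height 𝒜 h0 N hN)
    refine ⟨inferInstance, hd, ?_⟩
    rw [← Groth.Agent.Depth.depth_eq_of_surjective (R := L) (S := B) (M := B) Ideal.Quotient.mk_surjective,
      ← Groth.Agent.Depth.ringKrullDim_eq_depth, hd]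
  obtain ⟨hntI, hdI, hpI⟩ := key I hI hIM hIcm e hIdim
  obtain ⟨hntJ, hdJ, hpJ⟩ := key J hJ hJM hJcm e hJdim
  obtain ⟨hntC, hdC, hpC⟩ := key (I ⊔ J) (hI.sup hJ) (sup_le hIM hJM) hIJcm (e - 1) hIJdim
  set I' := I.map (algebraMap A L) with hI'
  set J' := J.map (algebraMap A L) with hJ'
  rw [Ideal.map_sup] at hntC hdC hpC
  have hinf : (I ⊓ J).map (algebraMap A L) = I' ⊓ J' := IsLocalization.map_inf M.primeCompl L I J
  have : Nontrivial (L ⧸ I' ⊓ J') := Ideal.Quotient.nontrivial_iff.2 fun h =>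
    Ideal.Quotient.nontrivial_iff.1 hntI (inf_eq_top_iff.1 h).1
  have hIle : (e : ℕ∞) ≤ LocCoh.depth L (L ⧸ I') := (WithBot.coe_eq_coe.1 hpI).ge
  have hJle : (e : ℕ∞) ≤ LocCoh.depth L (L ⧸ J') := (WithBot.coe_eq_coe.1 hpJ).ge
  have hCle : ((e - 1 : ℕ) : ℕ∞) ≤ LocCoh.depth L (L ⧸ I' ⊔ J') := (WithBot.coe_eq_coe.1 hpC).ge
  have hprod : (e : ℕ∞) ≤ LocCoh.depth L ((L ⧸ I') × (L ⧸ J')) :=
    Groth.Agent.Depth.le_idealDepth_mid (f := LinearMap.inl L (L ⧸ I') (L ⧸ J'))
      (g := LinearMap.snd L (L ⧸ I') (L ⧸ J')) LinearMap.inl_injective LinearMap.snd_surjective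
      (Function.Exact.inl_snd) hIle hJle
  let f : (L ⧸ I' ⊓ J') →ₗ[L] (L ⧸ I') × (L ⧸ J') :=
    (Submodule.factor (inf_le_left : I' ⊓ J' ≤ I')).prod (Submodule.factor (inf_le_right : I' ⊓ J' ≤ J'))
  let g : (L ⧸ I') × (L ⧸ J') →ₗ[L] L ⧸ (I' ⊔ J') :=
    (Submodule.factor (le_sup_left : I' ≤ I' ⊔ J')).coprod (-Submodule.factor (le_sup_right : J' ≤ I' ⊔ J'))
  have hf : Function.Injective f := by
    rw [← LinearMap.ker_eq_bot, eq_bot_iff]
    intro x hx
    obtain ⟨x, rfl⟩ := Submodule.Quotient.mk_surjective _ x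
    simp only [f, LinearMap.mem_ker, LinearMap.prod_apply, Function.prod_apply, Submodule.mapQ_apply, LinearMap.id_apply,
      Prod.mk_eq_zero, Submodule.Quotient.mk_eq_zero] at hx
    rw [Submodule.mem_bot, Submodule.Quotient.mk_eq_zero]
    exact hx
  have hg : Function.Surjective g := fun z => by
    obtain ⟨z, rfl⟩ := Submodule.Quotient.mk_surjective _ z
    exact ⟨(Submodule.Quotient.mk z, 0), by simp [g]⟩
  have hex : Function.Exact f g := by
    rintro ⟨a, b⟩
    obtain ⟨a, rfl⟩ := Submodule.Quotient.mk_surjective _ a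
    obtain ⟨b, rfl⟩ := Submodule.Quotient.mk_surjective _ b
    constructor
    · intro h
      simp only [g, LinearMap.coprod_apply, LinearMap.neg_apply, Submodule.mapQ_apply, LinearMap.id_apply,
        ← sub_eq_add_neg, ← Submodule.Quotient.mk_sub, Submodule.Quotient.mk_eq_zero] at h
      obtain ⟨i, hi, j, hj, hij⟩ := Submodule.mem_sup.1 h
      refine ⟨Submodule.Quotient.mk (a - i), ?_⟩
      simp only [f, LinearMap.prod_apply, Function.prod_apply, Submodule.mapQ_apply, LinearMap.id_apply, Prod.mk.injEq,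
        Submodule.Quotient.eq]
      exact ⟨by rw [show a - i - a = -i by ring]; exact neg_mem hi, by rw [show a - i - b = j by linear_combination -hij]; exact hj⟩
    · rintro ⟨z, hz⟩
      obtain ⟨z, rfl⟩ := Submodule.Quotient.mk_surjective _ z
      rw [← hz]
      simp [f, g]
  have hlow : (e : ℕ∞) ≤ LocCoh.depth L (L ⧸ I' ⊓ J') := by
    refine Groth.Agent.Depth.le_idealDepth_left hf hg hex hprod ?_
    calc (e : ℕ∞) = ((e - 1 : ℕ) : ℕ∞) + 1 := by
          rw [show (((e - 1 : ℕ) : ℕ∞) + 1) = (((e - 1) + 1 : ℕ) : ℕ∞) by push_cast; rfl, Nat.sub_add_cancel he]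
      _ ≤ _ := add_le_add hCle le_rfl
  have hup : ringKrullDim (L ⧸ I' ⊓ J') ≤ (e : WithBot ℕ∞) := by
    rw [ringKrullDim_quotient]
    refine iSup_le fun l => ?_
    have hhead : I' ⊓ J' ≤ l.head.1.asIdeal := l.head.2
    rcases (l.head.1.isPrime.inf_le).1 hhead with h | h
    · rw [← hdI, ringKrullDim_quotient]
      exact Order.LTSeries.length_le_krullDim (LTSeries.mk l.length
        (fun i => (⟨(l i).1, h.trans (LTSeries.head_le l i)⟩ : PrimeSpectrum.zeroLocus (I' : Set L)))
        fun i j hij => l.strictMono hij)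
    · rw [← hdJ, ringKrullDim_quotient]
      exact Order.LTSeries.length_le_krullDim (LTSeries.mk l.length
        (fun i => (⟨(l i).1, h.trans (LTSeries.head_le l i)⟩ : PrimeSpectrum.zeroLocus (J' : Set L)))
        fun i j hij => l.strictMono hij)
  have : IsLocalRing (L ⧸ I' ⊓ J') := IsLocalRing.of_surjective' _ Ideal.Quotient.mk_surjective
  rw [← Groth.Agent.Depth.depth_eq_of_surjective (R := L) (S := L ⧸ I' ⊓ J') (M := L ⧸ I' ⊓ J')
    Ideal.Quotient.mk_surjective] at hlow
  have hd : ringKrullDim (L ⧸ I' ⊓ J') = (e : WithBot ℕ∞) :=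
    le_antisymm hup ((WithBot.coe_le_coe.2 hlow).trans Groth.Agent.Depth.depth_le_ringKrullDim)
  have hcm : LocCoh.IsCohenMacaulayLocalRing (L ⧸ I' ⊓ J') :=
    Groth.Agent.Depth.isCohenMacaulayLocalRing_iff.2 (le_antisymm
      (hd.le.trans (WithBot.coe_le_coe.2 hlow)) Groth.Agent.Depth.depth_le_ringKrullDim)
  have := isLocalization_atPrime_quotient M (I ⊓ J) (inf_le_left.trans hIM)
  let E : Localization.AtPrime (M.map (Ideal.Quotient.mk (I ⊓ J))) ≃+* (L ⧸ I' ⊓ J') :=
    (IsLocalization.algEquiv (M.map (Ideal.Quotient.mk (I ⊓ J))).primeCompl _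
      (L ⧸ (I ⊓ J).map (algebraMap A L))).toRingEquiv.trans (Ideal.quotEquivOfEq hinf)
  exact ⟨GrassLib.isCohenMacaulayLocalRing_of_ringEquiv E.symm, by rw [ringKrullDim_eq_of_ringEquiv E, hd]⟩

end Groth.Agent.S11276
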