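import Groth.Statements.S11277
import Groth.Agent.GrassLib.GradedLoc

set_option autoImplicit false
universe u v
open W4bk4grassmannian

namespace Groth.Agent.S11277

/-- Let K be a field, R = ⊕_{i ≥ 0} R_i an ℕ-graded commutative K-algebra which is an integral domain,
and s ∈ R_e a homogeneous element of degree e > 0. Let R_(s) ⊆ R[1/s] be the homogeneous
localization (fractions f / s^k with f homogeneous of degree k e). Then the image of s in R[1/s] is
transcendental over R_(s). -/
theorem result (K : Type u) [Field K] (R : Type v) [CommRing R]
    [IsDomain R] [Algebra K R] (𝒜 : ℕ → Submodule K R) [GradedAlgebra 𝒜] (e : ℕ) (he : 0 < e) (s : R)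
    (hs : s ∈ 𝒜 e) :
    Transcendental (HomogeneousLocalization.Away 𝒜 s) (algebraMap R (Localization.Away s) s) := by
  by_cases hs0 : s = 0
  · subst hs0
    have : Subsingleton (Localization.Away (0 : R)) :=
      IsLocalization.subsingleton (M := Submonoid.powers (0 : R)) ⟨1, pow_one 0⟩
    have : Subsingleton (HomogeneousLocalization.Away 𝒜 (0 : R)) :=
      (HomogeneousLocalization.val_injective (𝒜 := 𝒜) (Submonoid.powers (0 : R))).subsingleton
    exact transcendental_iff.2 fun p _ => Subsingleton.elim p 0
  exact GrassLib.transcendental_away 𝒜 he hs hs0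

end Groth.Agent.S11277
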