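import Groth.Statements.S11280
import Groth.Agent.TruncDeform.Basic


set_option autoImplicit false
universe u
open Deform

namespace Groth.Agent.S11280

/-- Let k be an algebraically closed field, A a local Artinian k-algebra with residue field k and t an
element of the maximal ideal of A annihilated by the maximal ideal, so that A is a small extension
of A/tA. Let B be a flat A-algebra whose closed fibre B/m_A B is a formally smooth k-algebra (an
infinitesimal deformation over A of a formally smooth k-algebra). Then every A-algebra automorphism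
of B/tB is induced by an A-algebra automorphism of B. (The published statement asks the automorphism
of B/tB to induce the identity on B/m_A B; this row does not. The published statement takes the
closed fibre smooth, that is formally smooth and essentially of finite type; this row asks the
closed fibre to be formally smooth over k in the sense of lifting along all square-zero surjections
of commutative k-algebras, with no finiteness condition.) -/
theorem result
    {k : Type u} [Field k] [IsAlgClosed k]
    {A : Type u} [CommRing A] [Algebra k A] [IsLocalRing A] [IsArtinianRing A]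
    (hres : ∀ a : A, ∃ c : k, a - algebraMap k A c ∈ IsLocalRing.maximalIdeal A)
    (t : A) (ht : t ∈ IsLocalRing.maximalIdeal A)
    (htm : ∀ a ∈ IsLocalRing.maximalIdeal A, a * t = 0)
    {B : Type u} [CommRing B] [Algebra A B] [Module.Flat A B] [Algebra k B] [IsScalarTower k A B]
    (hsm : Algebra.FormallySmooth k (B ⧸ (IsLocalRing.maximalIdeal A).map (algebraMap A B)))
    (σ : (B ⧸ Ideal.span {algebraMap A B t}) ≃ₐ[A] (B ⧸ Ideal.span {algebraMap A B t})) :
    ∃ τ : B ≃ₐ[A] B, ∀ b : B,
      Ideal.Quotient.mk (Ideal.span {algebraMap A B t}) (τ b) =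
        σ (Ideal.Quotient.mk (Ideal.span {algebraMap A B t}) b) := by
  have := TruncDeform.formallySmooth_of_fibre (k := k) (B := B) (IsLocalRing.maximalIdeal A)
    (by
      obtain ⟨n, hn⟩ := IsArtinianRing.isNilpotent_jacobson_bot (R := A)
      exact ⟨n, by rw [← IsLocalRing.jacobson_eq_maximalIdeal ⊥ bot_ne_top]; exact hn⟩) hres hsm
  let T : B := algebraMap A B t
  have hT2 : T * T = 0 := by rw [← map_mul, htm t ht, map_zero]
  let f : B →ₐ[A] B ⧸ Ideal.span {T} := σ.toAlgHom.comp (Ideal.Quotient.mkₐ A _)
  have hnil : IsNilpotent (Ideal.span {T}) :=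
    ⟨2, by rw [pow_two, Ideal.span_singleton_mul_span_singleton, hT2, Ideal.span_singleton_eq_bot.2 rfl]; rfl⟩
  let τ : B →ₐ[A] B := Algebra.FormallySmooth.lift _ hnil f
  have hτ : ∀ b, Ideal.Quotient.mk (Ideal.span {T}) (τ b) = σ (Ideal.Quotient.mk (Ideal.span {T}) b) :=
    fun b => Algebra.FormallySmooth.mk_lift _ hnil f b
  have hτT : ∀ c, τ (T * c) = T * τ c := fun c => by rw [map_mul, τ.commutes]
  have hinj : ∀ b, τ b = 0 → b = 0 := by
    intro b hb
    have h1 : Ideal.Quotient.mk (Ideal.span {T}) b = 0 := σ.injective (by rw [map_zero, ← hτ, hb, map_zero])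
    obtain ⟨c, rfl⟩ := Ideal.mem_span_singleton'.1 (Ideal.Quotient.eq_zero_iff_mem.1 h1)
    rw [mul_comm] at hb ⊢
    rw [hτT] at hb
    rcases eq_or_ne t 0 with rfl | ht0
    · simp [T]
    let m := IsLocalRing.maximalIdeal A
    have hJ : ∀ a, t * a = 0 → a ∈ m := fun a ha =>
      (IsLocalRing.mem_maximalIdeal _).2 fun hu => ht0 (hu.mul_left_eq_zero.1 ha)
    have hc : τ c ∈ m.map (algebraMap A B) := TruncDeform.mem_of_mul_eq_zero hJ hb
    let q : B →+* B ⧸ Ideal.span {T} := Ideal.Quotient.mk _
    have h2 : σ (q c) ∈ m.map (algebraMap A (B ⧸ Ideal.span {T})) := by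
      rw [← hτ, IsScalarTower.algebraMap_eq A B (B ⧸ Ideal.span {T}), ← Ideal.map_map]
      exact Ideal.mem_map_of_mem _ hc
    have h3 : σ.symm (σ (q c)) ∈ m.map (algebraMap A (B ⧸ Ideal.span {T})) := by
      have h := Ideal.mem_map_of_mem (σ.symm : (B ⧸ Ideal.span {T}) →ₐ[A] B ⧸ Ideal.span {T}).toRingHom h2
      rw [Ideal.map_map, show ((σ.symm : (B ⧸ Ideal.span {T}) →ₐ[A] B ⧸ Ideal.span {T}).toRingHom).comp
        (algebraMap A _) = algebraMap A _ from RingHom.ext σ.symm.commutes] at h
      exact h
    rw [AlgEquiv.symm_apply_apply, IsScalarTower.algebraMap_eq A B (B ⧸ Ideal.span {T}), ← Ideal.map_map,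
      Ideal.Quotient.algebraMap_eq, Ideal.mem_map_iff_of_surjective _ Ideal.Quotient.mk_surjective] at h3
    obtain ⟨y, hy, hyc⟩ := h3
    have h4 : c ∈ m.map (algebraMap A B) := by
      have h5 : Ideal.span {T} ≤ m.map (algebraMap A B) :=
        (Ideal.span_singleton_le_iff_mem _).2 (Ideal.mem_map_of_mem _ ht)
      have h6 := h5 (Ideal.Quotient.eq.1 hyc.symm)
      exact (Submodule.sub_mem_iff_left _ hy).1 h6
    have h7 : m.map (algebraMap A B) ≤ LinearMap.ker (LinearMap.mulLeft B T) :=
      Ideal.map_le_iff_le_comap.2 fun a ha => by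
        show T * algebraMap A B a = 0
        rw [mul_comm, ← map_mul, htm a ha, map_zero]
    exact h7 h4
  have hsurj : Function.Surjective τ := by
    have h0 : ∀ y, ∃ b w, y = τ b + T * w := fun y => by
      obtain ⟨b, hb⟩ := Ideal.Quotient.mk_surjective (σ.symm (Ideal.Quotient.mk (Ideal.span {T}) y))
      have h : y - τ b ∈ Ideal.span {T} := Ideal.Quotient.eq.1 (by rw [hτ, hb, AlgEquiv.apply_symm_apply])
      obtain ⟨w, hw⟩ := Ideal.mem_span_singleton'.1 h
      exact ⟨b, w, by linear_combination -hw⟩
    intro y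
    obtain ⟨b, w, rfl⟩ := h0 y
    obtain ⟨b', w', rfl⟩ := h0 w
    exact ⟨b + T * b', by rw [map_add, hτT]; linear_combination -w' * hT2⟩
  exact ⟨AlgEquiv.ofBijective τ ⟨(injective_iff_map_eq_zero τ).2 hinj, hsurj⟩, hτ⟩

end Groth.Agent.S11280
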