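import Groth.Statements.S11284
import Mathlib.RingTheory.Smooth.Basic
import Mathlib.LinearAlgebra.Dual.Lemmas
import Mathlib.LinearAlgebra.TensorProduct.Quotient
import Mathlib.Tactic.LinearCombination
import Mathlib.RingTheory.Kaehler.Basic


set_option autoImplicit false
universe u
open Deform

open scoped TensorProduct
open KaehlerDifferential

namespace Groth.Agent.S11284

/-- Let k be an algebraically closed field and A → B a map of finitely generated k-algebras with B
reduced and smooth over A at every minimal prime of B (the morphism Spec B → Spec A is smooth on a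
dense open subset). Let E → B be a surjection of A-algebras whose kernel I has square zero and is,
as a B-module, finitely generated and projective (an extension of B over A by a locally free
module). Then the conormal map I = I/I^2 → B ⊗_E Ω_{E/A} is injective, so that the relative conormal
sequence 0 → I → B ⊗_E Ω_{E/A} → Ω_{B/A} → 0 of the extension is exact also on the left. This is the
affine case of the statement for a morphism of finite type of algebraic schemes and a coherent
locally free kernel. -/
theorem result
    {k : Type u} [Field k] [IsAlgClosed k]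
    {A B : Type u} [CommRing A] [CommRing B] [Algebra k A] [Algebra k B] [Algebra A B]
    [IsScalarTower k A B] [Algebra.FiniteType k A] [Algebra.FiniteType k B] [IsReduced B]
    (hsm : ∀ p : PrimeSpectrum B, p.asIdeal ∈ minimalPrimes B → Algebra.IsSmoothAt A p.asIdeal)
    (P : Algebra.Extension.{u} A B) (hsq : P.ker ^ 2 = ⊥)
    [Module.Finite B P.Cotangent] [Module.Projective B P.Cotangent] :
    Function.Injective P.cotangentComplex := by
  classical
  rw [injective_iff_map_eq_zero]
  intro z hz
  obtain ⟨x, rfl⟩ := Algebra.Extension.Cotangent.mk_surjective z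
  rw [Algebra.Extension.cotangentComplex_mk] at hz
  -- for each minimal prime some element outside kills `z`
  have key : ∀ p : PrimeSpectrum B, p.asIdeal ∈ minimalPrimes B →
      ∃ c : B, c ∉ p.asIdeal ∧ c • (Algebra.Extension.Cotangent.mk x) = 0 := by
    intro p hp
    have := hsm p hp
    let I : Ideal P.Ring := RingHom.ker (algebraMap P.Ring B)
    let p' : Ideal P.Ring := p.asIdeal.comap (algebraMap P.Ring B)
    let Ep := Localization.AtPrime p'
    let Bp := Localization.AtPrime p.asIdeal
    have hT : p'.primeCompl.map (algebraMap P.Ring B) = p.asIdeal.primeCompl := by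
      ext b
      constructor
      · rintro ⟨e, he, rfl⟩; exact he
      · intro hb
        obtain ⟨e, rfl⟩ := P.algebraMap_surjective b
        exact ⟨e, hb, rfl⟩
    let π₀ : Ep →+* Bp := Localization.localRingHom p' p.asIdeal (algebraMap P.Ring B) rfl
    let π : Ep →ₐ[A] Bp :=
      { π₀ with
        commutes' := fun a => by
          show π₀ (algebraMap A Ep a) = algebraMap A Bp a
          rw [IsScalarTower.algebraMap_apply A P.Ring Ep, Localization.localRingHom_to_map,
            IsScalarTower.algebraMap_apply A B Bp, ← IsScalarTower.algebraMap_apply A P.Ring B] }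
    have hπs : Function.Surjective π := by
      intro w
      obtain ⟨b, ⟨s, hs⟩, rfl⟩ := IsLocalization.exists_mk'_eq p.asIdeal.primeCompl w
      obtain ⟨e, rfl⟩ := P.algebraMap_surjective b
      obtain ⟨t, rfl⟩ := P.algebraMap_surjective s
      exact ⟨IsLocalization.mk' Ep e ⟨t, hs⟩, Localization.localRingHom_mk' p' p.asIdeal (algebraMap P.Ring B) rfl e ⟨t, hs⟩⟩
    have hker : RingHom.ker π₀ = I.map (algebraMap P.Ring Ep) := by
      have := IsLocalization.ker_map (S := Ep) (M := p'.primeCompl) (T := p.asIdeal.primeCompl) Bp (algebraMap P.Ring B) hT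
      exact this
    have hI2 : I ^ 2 = ⊥ := hsq
    have hkn : IsNilpotent (RingHom.ker (π : Ep →+* Bp)) :=
      ⟨2, by rw [show RingHom.ker (π : Ep →+* Bp) = RingHom.ker π₀ from rfl, hker, ← Ideal.map_pow, hI2, Ideal.map_bot]; rfl⟩
    let σ := Algebra.FormallySmooth.liftOfSurjective (AlgHom.id A Bp) π hπs hkn
    have hσ : ∀ w, π (σ w) = w := Algebra.FormallySmooth.liftOfSurjective_apply (AlgHom.id A Bp) π hπs hkn
    let ρ : P.Ring →ₐ[A] Ep := IsScalarTower.toAlgHom A P.Ring Ep
    let τ : P.Ring →ₐ[A] Ep := σ.comp (π.comp ρ)
    have hmem : ∀ e, ρ e - τ e ∈ RingHom.ker π₀ := fun e => by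
      rw [RingHom.mem_ker]
      show π (ρ e - σ (π (ρ e))) = 0
      rw [map_sub, hσ, sub_self]
    have hprod : ∀ u v : Ep, u ∈ RingHom.ker π₀ → v ∈ RingHom.ker π₀ → u * v = 0 := by
      intro u v hu hv
      have := Ideal.mul_mem_mul hu hv
      rw [hker, ← Ideal.map_mul, ← pow_two, hI2, Ideal.map_bot] at this
      exact this
    let δ : Derivation A P.Ring Ep := Derivation.mk'
      { toFun := fun e => ρ e - τ e
        map_add' := fun a b => by rw [map_add, map_add]; abel
        map_smul' := fun c a => by rw [map_smul, map_smul, ← smul_sub]; rfl }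
      (fun a b => by
        show ρ (a * b) - τ (a * b) = a • (ρ b - τ b) + b • (ρ a - τ a)
        rw [map_mul, map_mul, Algebra.smul_def, Algebra.smul_def]
        show _ = ρ a * (ρ b - τ b) + ρ b * (ρ a - τ a)
        linear_combination -(hprod _ _ (hmem a) (hmem b)))
    let L := δ.liftKaehlerDifferential
    have hL : ∀ ω, L ω ∈ RingHom.ker π₀ := by
      intro ω
      have hω : ω ∈ Submodule.span P.Ring (Set.range (KaehlerDifferential.D A P.Ring)) := by
        rw [KaehlerDifferential.span_range_derivation]; trivial
      induction hω using Submodule.span_induction with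
      | mem w hw =>
        obtain ⟨e, rfl⟩ := hw
        rw [Derivation.liftKaehlerDifferential_comp_D]
        exact hmem e
      | zero => rw [map_zero]; exact zero_mem _
      | add a b _ _ ha hb => rw [map_add]; exact add_mem ha hb
      | smul c a _ ha => rw [map_smul, Algebra.smul_def]; exact Ideal.mul_mem_left _ _ ha
    let eB : (P.Ring ⧸ I) ≃ₗ[P.Ring] B :=
      LinearMap.quotKerEquivOfSurjective (Algebra.linearMap P.Ring B) P.algebraMap_surjective
    have hIΩ : KaehlerDifferential.D A P.Ring (x : P.Ring) ∈ I • (⊤ : Submodule P.Ring (Ω[P.Ring⁄A])) := by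
      have h1 : (Ideal.Quotient.mk I 1) ⊗ₜ[P.Ring] KaehlerDifferential.D A P.Ring (x : P.Ring) = 0 := by
        apply (LinearEquiv.rTensor (Ω[P.Ring⁄A]) eB).injective
        rw [LinearEquiv.rTensor_tmul, map_zero]
        rw [show eB (Ideal.Quotient.mk I 1) = 1 from map_one (algebraMap P.Ring B)]
        exact hz
      have h2 := congrArg (TensorProduct.quotTensorEquivQuotSMul (Ω[P.Ring⁄A]) I) h1
      rw [TensorProduct.quotTensorEquivQuotSMul_mk_tmul, one_smul, map_zero, Submodule.Quotient.mk_eq_zero] at h2
      exact h2
    have hL0 : ∀ w ∈ I • (⊤ : Submodule P.Ring (Ω[P.Ring⁄A])), L w = 0 := by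
      intro w hw
      refine Submodule.smul_induction_on hw (fun a ha ω _ => ?_) (fun a b ha hb => by rw [map_add, ha, hb, add_zero])
      rw [map_smul, Algebra.smul_def]
      exact hprod _ _ (hker.ge (Ideal.mem_map_of_mem _ ha)) (hL ω)
    have hx0 : algebraMap P.Ring Ep (x : P.Ring) = 0 := by
      have h := hL0 _ hIΩ
      rw [Derivation.liftKaehlerDifferential_comp_D] at h
      have hπ : π (ρ (x : P.Ring)) = 0 := by
        show π₀ (algebraMap P.Ring Ep x) = 0
        rw [Localization.localRingHom_to_map, show algebraMap P.Ring B (x : P.Ring) = 0 from x.2, map_zero]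
      have h' : ρ (x : P.Ring) - σ (π (ρ (x : P.Ring))) = 0 := h
      rw [hπ, map_zero, sub_zero] at h'
      exact h'
    obtain ⟨⟨s, hs⟩, hsx⟩ := (IsLocalization.map_eq_zero_iff p'.primeCompl Ep _).1 hx0
    refine ⟨algebraMap P.Ring B s, hs, ?_⟩
    rw [algebraMap_smul, ← map_smul, show s • x = 0 from Subtype.ext hsx, map_zero]
  apply Module.eval_apply_injective B
  ext f
  rw [map_zero, Module.Dual.eval_apply, LinearMap.zero_apply]
  have hnil : f (Algebra.Extension.Cotangent.mk x) ∈ sInf (minimalPrimes B) := by
    rw [Submodule.mem_sInf]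
    intro p hp
    obtain ⟨c, hc, hcz⟩ := key ⟨p, hp.isPrime⟩ hp
    have h0 : c * f (Algebra.Extension.Cotangent.mk x) = 0 := by
      rw [← smul_eq_mul, ← map_smul, hcz, map_zero]
    exact ((hp.isPrime).mem_or_mem (h0 ▸ p.zero_mem)).resolve_left hc
  rw [minimalPrimes, Ideal.sInf_minimalPrimes] at hnil
  exact (show IsNilpotent (f (Algebra.Extension.Cotangent.mk x)) from hnil).eq_zero

end Groth.Agent.S11284
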