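import Groth.Statements.S11285
import Groth.Agent.S11284
import Mathlib.Algebra.TrivSqZeroExt.Basic
import Mathlib.LinearAlgebra.TensorProduct.Tower


set_option autoImplicit false
universe u
open Deform

open scoped TensorProduct

namespace Groth.Agent.S11285

/-- Let k be an algebraically closed field and A → B a map of finitely generated k-algebras with B
reduced and smooth over A at every minimal prime of B (the morphism Spec B → Spec A is smooth on a
dense open subset). Let M be a finitely generated projective B-module and 0 → M → N → Ω_{B/A} → 0 an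
exact sequence of B-modules (i injective, q surjective, image of i = kernel of q). Then there is an
A-algebra extension E → B with square-zero kernel, together with a B-linear identification of its
kernel with M and a B-linear isomorphism of B ⊗_E Ω_{E/A} with N, carrying the conormal map of the
extension to i and q to the canonical map B ⊗_E Ω_{E/A} → Ω_{B/A}. Together with the injectivity
statement for such conormal sequences this is the surjectivity half of the identification of Ex_A(B,
M) with Ext^1_B(Ω_{B/A}, M); affine case of the statement for algebraic schemes. The module N ranges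
over the universe of B. -/
theorem result
    {k : Type u} [Field k] [IsAlgClosed k]
    {A B : Type u} [CommRing A] [CommRing B] [Algebra k A] [Algebra k B] [Algebra A B]
    [IsScalarTower k A B] [Algebra.FiniteType k A] [Algebra.FiniteType k B] [IsReduced B]
    (hsm : ∀ p : PrimeSpectrum B, p.asIdeal ∈ minimalPrimes B → Algebra.IsSmoothAt A p.asIdeal)
    (M N : Type u) [AddCommGroup M] [Module B M] [Module.Finite B M] [Module.Projective B M]
    [AddCommGroup N] [Module B N]
    (i : M →ₗ[B] N) (q : N →ₗ[B] Ω[B⁄A]) (hi : Function.Injective i) (hq : Function.Surjective q)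
    (hex : Function.Exact i q) :
    ∃ P : Algebra.Extension.{u} A B, P.ker ^ 2 = ⊥ ∧
      ∃ (e₁ : P.Cotangent ≃ₗ[B] M) (e₂ : P.CotangentSpace ≃ₗ[B] N),
        (∀ x, e₂ (P.cotangentComplex x) = i (e₁ x)) ∧ (∀ y, q (e₂ y) = P.toKaehler y) := by
  classical
  letI : Module Bᵐᵒᵖ N := Module.compHom N ((RingHom.id B).fromOpposite mul_comm)
  haveI : IsCentralScalar B N := ⟨fun _ _ => rfl⟩
  let D := KaehlerDifferential.D A B
  let E : Subring (TrivSqZeroExt B N) :=
    { carrier := {x | q x.snd = D x.fst}
      zero_mem' := by show q (0 : N) = D 0; rw [map_zero, map_zero]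
      one_mem' := by show q (0 : N) = D 1; rw [map_zero, Derivation.map_one_eq_zero]
      add_mem' := fun {x y} (hx : q x.snd = D x.fst) (hy : q y.snd = D y.fst) => by
        show q (x + y).snd = D (x + y).fst
        rw [TrivSqZeroExt.snd_add, TrivSqZeroExt.fst_add, map_add, map_add, hx, hy]
      neg_mem' := fun {x} (hx : q x.snd = D x.fst) => by
        show q (-x).snd = D (-x).fst
        rw [TrivSqZeroExt.snd_neg, TrivSqZeroExt.fst_neg, map_neg, map_neg, hx]
      mul_mem' := fun {x y} (hx : q x.snd = D x.fst) (hy : q y.snd = D y.fst) => by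
        show q (x * y).snd = D (x * y).fst
        rw [TrivSqZeroExt.snd_mul, TrivSqZeroExt.fst_mul, op_smul_eq_smul, map_add, map_smul, map_smul, hx, hy,
          Derivation.leibniz] }
  let φ : A →+* E := ((TrivSqZeroExt.inlHom B N).comp (algebraMap A B)).codRestrict E fun c => by
    show q (0 : N) = D (algebraMap A B c)
    rw [map_zero, Derivation.map_algebraMap]
  letI : Algebra A E := φ.toAlgebra
  let π : E →ₐ[A] B :=
    { toFun := fun x => x.1.fst
      map_one' := rfl
      map_mul' := fun _ _ => rfl
      map_zero' := rfl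
      map_add' := fun _ _ => rfl
      commutes' := fun _ => rfl }
  have hπ : Function.Surjective π := by
    intro b
    obtain ⟨n, hn⟩ := hq (D b)
    exact ⟨⟨TrivSqZeroExt.inl b + TrivSqZeroExt.inr n, by
      show q _ = D _
      simp only [TrivSqZeroExt.snd_add, TrivSqZeroExt.snd_inl, TrivSqZeroExt.snd_inr, TrivSqZeroExt.fst_add,
        TrivSqZeroExt.fst_inl, TrivSqZeroExt.fst_inr, zero_add, add_zero, hn]⟩, by
      show (TrivSqZeroExt.inl b + TrivSqZeroExt.inr n).fst = b
      simp⟩
  let P : Algebra.Extension.{u} A B := Algebra.Extension.ofSurjective π hπ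
  have hfst : ∀ z : P.ker, (z.1 : E).1.fst = 0 := fun z => z.2
  have hsq : P.ker ^ 2 = ⊥ := by
    rw [pow_two, eq_bot_iff, Ideal.mul_le]
    intro a ha b hb
    apply Subtype.ext
    show (a.1 * b.1 : TrivSqZeroExt B N) = 0
    have h1 : a.1.fst = 0 := ha
    have h2 : b.1.fst = 0 := hb
    refine TrivSqZeroExt.ext ?_ ?_
    · rw [TrivSqZeroExt.fst_mul, h1, zero_mul]; rfl
    · rw [TrivSqZeroExt.snd_mul, op_smul_eq_smul, h1, h2, zero_smul, zero_smul, add_zero]; rfl
  let ιM : M ≃ₗ[B] LinearMap.range i := LinearEquiv.ofInjective i hi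
  have hrange : ∀ z : P.ker, (z.1 : E).1.snd ∈ LinearMap.range i := fun z => by
    obtain ⟨m, hm⟩ := (hex (z.1 : E).1.snd).1 (by rw [(z.1 : E).2, hfst z, map_zero])
    exact ⟨m, hm⟩
  letI : Module P.Ring N := Module.compHom N (algebraMap P.Ring B)
  haveI : IsScalarTower P.Ring B N := IsScalarTower.of_algebraMap_smul fun _ _ => rfl
  letI : Module A N := Module.compHom N (algebraMap A B)
  haveI : IsScalarTower A P.Ring N := IsScalarTower.of_algebraMap_smul fun _ _ => rfl
  haveI : IsScalarTower A B N := IsScalarTower.of_algebraMap_smul fun _ _ => rfl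
  let δ : Derivation A P.Ring N := Derivation.mk'
    { toFun := fun x => (x : E).1.snd
      map_add' := fun _ _ => rfl
      map_smul' := fun c x => by
        rw [Algebra.smul_def]
        show ((TrivSqZeroExt.inl (algebraMap A B c) : TrivSqZeroExt B N) * (x : E).1).snd = _
        rw [TrivSqZeroExt.snd_mul]
        simp }
    (fun x y => by
      show ((x : E).1 * (y : E).1).snd = (x : E).1.fst • (y : E).1.snd + (y : E).1.fst • (x : E).1.snd
      rw [TrivSqZeroExt.snd_mul, op_smul_eq_smul])
  let L : P.CotangentSpace →ₗ[B] N := δ.liftKaehlerDifferential.liftBaseChange B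
  have hL : ∀ x : P.Ring, L ((1 : B) ⊗ₜ[P.Ring] KaehlerDifferential.D A P.Ring x) = (x : E).1.snd := fun x => by
    simp [L, δ]
  have hLc : ∀ z : P.ker, L (P.cotangentComplex (.mk z)) = (z.1 : E).1.snd := fun z => by
    rw [Algebra.Extension.cotangentComplex_mk]; exact hL _
  let c₀ : P.Cotangent →ₗ[B] M := ιM.symm.toLinearMap ∘ₗ
    (L ∘ₗ P.cotangentComplex).codRestrict (LinearMap.range i) fun w => by
      obtain ⟨z, rfl⟩ := Algebra.Extension.Cotangent.mk_surjective w
      rw [LinearMap.comp_apply, hLc]; exact hrange z
  have hc₀ : ∀ w, i (c₀ w) = L (P.cotangentComplex w) := fun w =>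
    congrArg Subtype.val (ιM.apply_symm_apply _)
  have hc₀inj : Function.Injective c₀ := by
    rw [injective_iff_map_eq_zero]
    intro w hw
    obtain ⟨z, rfl⟩ := Algebra.Extension.Cotangent.mk_surjective w
    have h := hc₀ (.mk z)
    rw [hw, map_zero, hLc] at h
    have : z = 0 := Subtype.ext (Subtype.ext (TrivSqZeroExt.ext (hfst z) h.symm))
    rw [this, map_zero]
  have hc₀surj : Function.Surjective c₀ := by
    intro m
    have hmem : (TrivSqZeroExt.inr (i m) : TrivSqZeroExt B N) ∈ E := by
      show q (i m) = D 0
      rw [map_zero]; exact (hex _).2 ⟨m, rfl⟩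
    refine ⟨.mk ⟨⟨TrivSqZeroExt.inr (i m), hmem⟩, rfl⟩, hi ?_⟩
    rw [hc₀, hLc]
    exact TrivSqZeroExt.snd_inr B (i m)
  let e₁ : P.Cotangent ≃ₗ[B] M := LinearEquiv.ofBijective c₀ ⟨hc₀inj, hc₀surj⟩
  have : Module.Finite B P.Cotangent := Module.Finite.equiv e₁.symm
  have : Module.Projective B P.Cotangent := Module.Projective.of_equiv e₁.symm
  have hinj := Groth.Agent.S11284.result (k := k) hsm P hsq
  have hq' : ∀ y, q (L y) = P.toKaehler y := by
    intro y
    induction y using TensorProduct.induction_on with
    | zero => rw [map_zero, map_zero, map_zero]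
    | add a b ha hb => rw [map_add, map_add, map_add, ha, hb]
    | tmul b ω =>
      have hω : ω ∈ Submodule.span P.Ring (Set.range (KaehlerDifferential.D A P.Ring)) := by
        rw [KaehlerDifferential.span_range_derivation]; trivial
      induction hω using Submodule.span_induction generalizing b with
      | mem w hw =>
        obtain ⟨x, rfl⟩ := hw
        rw [← mul_one b, ← smul_eq_mul, ← TensorProduct.smul_tmul', map_smul, map_smul, map_smul, hL]
        congr 1
        rw [(x : E).2]
        exact ((KaehlerDifferential.mapBaseChange_tmul ..).trans (by simp; rfl)).symm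
      | zero => rw [TensorProduct.tmul_zero, map_zero, map_zero, map_zero]
      | add x z _ _ hx hz => rw [TensorProduct.tmul_add, map_add, map_add, map_add, hx, hz]
      | smul c x _ hx => rw [← TensorProduct.smul_tmul]; exact hx _
  have hLinj : Function.Injective L := by
    rw [injective_iff_map_eq_zero]
    intro y hy
    obtain ⟨w, rfl⟩ := (P.exact_cotangentComplex_toKaehler y).1 (by rw [← hq', hy, map_zero])
    have : c₀ w = 0 := hi (by rw [hc₀, hy, map_zero])
    rw [(map_eq_zero_iff c₀ hc₀inj).1 this, map_zero]
  have hLsurj : Function.Surjective L := by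
    intro n
    obtain ⟨y, hy⟩ := P.toKaehler_surjective (q n)
    obtain ⟨m, hm⟩ := (hex (n - L y)).1 (by rw [map_sub, hq', hy, sub_self])
    obtain ⟨w, rfl⟩ := hc₀surj m
    exact ⟨P.cotangentComplex w + y, by rw [map_add, ← hc₀, hm, sub_add_cancel]⟩
  exact ⟨P, hsq, e₁, LinearEquiv.ofBijective L ⟨hLinj, hLsurj⟩, fun x => (hc₀ x).symm, hq'⟩

end Groth.Agent.S11285
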