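import Groth.Statements.S11286
import Groth.Agent.S11284


set_option autoImplicit false
universe u
open Deform

open scoped TensorProduct

namespace Groth.Agent.S11286

/-- Let k be an algebraically closed field and A → B a map of finitely generated k-algebras with B
reduced and smooth over A at every minimal prime of B (the morphism Spec B → Spec A is smooth on a
dense open subset). Let E → B and E' → B be two A-algebra extensions with square-zero kernels I, I',
where I is a finitely generated projective B-module, and suppose their relative conormal sequences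
are isomorphic as extensions of Ω_{B/A}: there are B-linear isomorphisms I ≅ I' and B ⊗_E Ω_{E/A} ≅
B ⊗_{E'} Ω_{E'/A} commuting with the conormal maps and with the canonical maps to Ω_{B/A}. Then
there is a homomorphism of extensions E → E' (a ring map over A and over B) which is bijective and
induces the given isomorphism I ≅ I'. This is the injectivity half of the identification of Ex_A(B,
M) with Ext^1_B(Ω_{B/A}, M); affine case of the statement for algebraic schemes. -/
theorem result
    {k : Type u} [Field k] [IsAlgClosed k]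
    {A B : Type u} [CommRing A] [CommRing B] [Algebra k A] [Algebra k B] [Algebra A B]
    [IsScalarTower k A B] [Algebra.FiniteType k A] [Algebra.FiniteType k B] [IsReduced B]
    (hsm : ∀ p : PrimeSpectrum B, p.asIdeal ∈ minimalPrimes B → Algebra.IsSmoothAt A p.asIdeal)
    (P P' : Algebra.Extension.{u} A B) (hsq : P.ker ^ 2 = ⊥) (hsq' : P'.ker ^ 2 = ⊥)
    [Module.Finite B P.Cotangent] [Module.Projective B P.Cotangent]
    (e₁ : P.Cotangent ≃ₗ[B] P'.Cotangent) (e₂ : P.CotangentSpace ≃ₗ[B] P'.CotangentSpace)
    (h₁ : ∀ x, e₂ (P.cotangentComplex x) = P'.cotangentComplex (e₁ x))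
    (h₂ : ∀ y, P'.toKaehler (e₂ y) = P.toKaehler y) :
    ∃ f : P.Hom P', Function.Bijective f.toRingHom ∧
      Algebra.Extension.Cotangent.map f = e₁.toLinearMap := by
  classical
  have : Module.Finite B P'.Cotangent := Module.Finite.equiv e₁
  have : Module.Projective B P'.Cotangent := Module.Projective.of_equiv e₁
  have hinj := Groth.Agent.S11284.result (k := k) hsm P hsq
  have hinj' := Groth.Agent.S11284.result (k := k) hsm P' hsq'
  have htk : ∀ (Q : Algebra.Extension.{u} A B) (e : Q.Ring),
      Q.toKaehler ((1 : B) ⊗ₜ[Q.Ring] KaehlerDifferential.D A Q.Ring e) = KaehlerDifferential.D A B (algebraMap Q.Ring B e) := by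
    intro Q e
    exact (KaehlerDifferential.mapBaseChange_tmul ..).trans (by simp)
  have hmk : ∀ (Q : Algebra.Extension.{u} A B), Q.ker ^ 2 = ⊥ → ∀ z : Q.ker,
      Algebra.Extension.Cotangent.mk z = 0 → (z : Q.Ring) = 0 := by
    intro Q hQ z hz
    have h := congrArg Algebra.Extension.Cotangent.val hz
    rw [Algebra.Extension.Cotangent.val_mk, Algebra.Extension.Cotangent.val_zero, Ideal.toCotangent_eq_zero, hQ] at h
    exact h
  -- uniqueness of a lift
  have huniq : ∀ a b : P'.Ring, algebraMap P'.Ring B a = algebraMap P'.Ring B b →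
      (1 : B) ⊗ₜ[P'.Ring] KaehlerDifferential.D A P'.Ring a = (1 : B) ⊗ₜ[P'.Ring] KaehlerDifferential.D A P'.Ring b → a = b := by
    intro a b h1 h2
    have hk : a - b ∈ P'.ker := by rw [Algebra.Extension.ker, RingHom.mem_ker, map_sub, h1, sub_self]
    have h0 : P'.cotangentComplex (.mk ⟨a - b, hk⟩) = 0 := by
      rw [Algebra.Extension.cotangentComplex_mk]
      show (1 : B) ⊗ₜ[P'.Ring] KaehlerDifferential.D A P'.Ring (a - b) = 0
      rw [map_sub, TensorProduct.tmul_sub, h2, sub_self]
    exact sub_eq_zero.1 (hmk P' hsq' ⟨a - b, hk⟩ (hinj' (h0.trans (map_zero _).symm)))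
  have hex : ∀ e : P.Ring, ∃ a : P'.Ring, algebraMap P'.Ring B a = algebraMap P.Ring B e ∧
      (1 : B) ⊗ₜ[P'.Ring] KaehlerDifferential.D A P'.Ring a = e₂ ((1 : B) ⊗ₜ[P.Ring] KaehlerDifferential.D A P.Ring e) := by
    intro e
    obtain ⟨a₀, ha₀⟩ := P'.algebraMap_surjective (algebraMap P.Ring B e)
    have h0 : P'.toKaehler (e₂ ((1 : B) ⊗ₜ[P.Ring] KaehlerDifferential.D A P.Ring e) -
        (1 : B) ⊗ₜ[P'.Ring] KaehlerDifferential.D A P'.Ring a₀) = 0 := by
      rw [map_sub, h₂, htk, htk, ha₀, sub_self]
    obtain ⟨z, hz⟩ := (P'.exact_cotangentComplex_toKaehler _).1 h0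
    obtain ⟨w, rfl⟩ := Algebra.Extension.Cotangent.mk_surjective z
    rw [Algebra.Extension.cotangentComplex_mk] at hz
    refine ⟨a₀ + (w : P'.Ring), ?_, ?_⟩
    · rw [map_add, show algebraMap P'.Ring B (w : P'.Ring) = 0 from w.2, add_zero, ha₀]
    · rw [map_add, TensorProduct.tmul_add, hz, add_sub_cancel]
  choose F hF1 hF2 using hex
  have hsm2 : ∀ (Q : Algebra.Extension.{u} A B) (a b : Q.Ring),
      (1 : B) ⊗ₜ[Q.Ring] KaehlerDifferential.D A Q.Ring (a * b) =
        algebraMap Q.Ring B a • ((1 : B) ⊗ₜ[Q.Ring] KaehlerDifferential.D A Q.Ring b) +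
        algebraMap Q.Ring B b • ((1 : B) ⊗ₜ[Q.Ring] KaehlerDifferential.D A Q.Ring a) := by
    intro Q a b
    rw [Derivation.leibniz, TensorProduct.tmul_add, TensorProduct.tmul_smul, TensorProduct.tmul_smul,
      algebraMap_smul, algebraMap_smul]
  have hFA : ∀ c : A, F (algebraMap A P.Ring c) = algebraMap A P'.Ring c := by
    intro c
    apply huniq
    · rw [hF1, ← IsScalarTower.algebraMap_apply, ← IsScalarTower.algebraMap_apply]
    · rw [hF2, Derivation.map_algebraMap, TensorProduct.tmul_zero, map_zero, Derivation.map_algebraMap,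
        TensorProduct.tmul_zero]
  let g : P.Ring →+* P'.Ring :=
    { toFun := F
      map_one' := by have := hFA 1; rwa [map_one, map_one] at this
      map_zero' := by have := hFA 0; rwa [map_zero, map_zero] at this
      map_add' := fun a b => by
        apply huniq
        · simp only [hF1, map_add]
        · simp only [hF2, map_add, TensorProduct.tmul_add]
      map_mul' := fun a b => by
        apply huniq
        · simp only [hF1, map_mul]
        · rw [hF2, hsm2, hsm2, map_add, map_smul, map_smul, hF1, hF1, hF2, hF2] }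
  let f : P.Hom P' :=
    { toRingHom := g
      toRingHom_algebraMap := fun c => hFA c
      algebraMap_toRingHom := fun e => hF1 e }
  have hmap : Algebra.Extension.Cotangent.map f = e₁.toLinearMap := by
    refine LinearMap.ext fun z => ?_
    obtain ⟨w, rfl⟩ := Algebra.Extension.Cotangent.mk_surjective z
    apply hinj'
    rw [Algebra.Extension.Cotangent.map_mk, Algebra.Extension.cotangentComplex_mk, LinearEquiv.coe_coe, ← h₁,
      Algebra.Extension.cotangentComplex_mk]
    exact hF2 _
  refine ⟨f, ⟨?_, ?_⟩, hmap⟩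
  · rw [injective_iff_map_eq_zero]
    intro e he
    have hk : e ∈ P.ker := by
      rw [Algebra.Extension.ker, RingHom.mem_ker, ← hF1 e, show F e = 0 from he, map_zero]
    have h0 : Algebra.Extension.Cotangent.map f (.mk ⟨e, hk⟩) = 0 := by
      rw [Algebra.Extension.Cotangent.map_mk]
      exact (congrArg _ (Subtype.ext he)).trans (map_zero _)
    rw [hmap, LinearEquiv.coe_coe, LinearEquiv.map_eq_zero_iff] at h0
    exact hmk P hsq ⟨e, hk⟩ h0
  · intro a
    obtain ⟨e₀, he₀⟩ := P.algebraMap_surjective (algebraMap P'.Ring B a)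
    have hk : a - F e₀ ∈ P'.ker := by
      rw [Algebra.Extension.ker, RingHom.mem_ker, map_sub, hF1, he₀, sub_self]
    obtain ⟨w, hw⟩ := Algebra.Extension.Cotangent.mk_surjective (e₁.symm (.mk ⟨a - F e₀, hk⟩))
    refine ⟨e₀ + (w : P.Ring), ?_⟩
    have hkw : F (w : P.Ring) ∈ P'.ker := by
      rw [Algebra.Extension.ker, RingHom.mem_ker, hF1]; exact w.2
    have h3 : (Algebra.Extension.Cotangent.mk ⟨F (w : P.Ring), hkw⟩ : P'.Cotangent) = .mk ⟨a - F e₀, hk⟩ := by
      have := LinearMap.congr_fun hmap (.mk w)
      rw [Algebra.Extension.Cotangent.map_mk, LinearEquiv.coe_coe, hw, e₁.apply_symm_apply] at this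
      exact this
    have h4 := hmk P' hsq' (⟨F (w : P.Ring), hkw⟩ - ⟨a - F e₀, hk⟩) (by rw [map_sub, h3, sub_self])
    show g (e₀ + w) = a
    rw [map_add]
    show F e₀ + F (w : P.Ring) = a
    have h5 : F (w : P.Ring) = a - F e₀ := sub_eq_zero.1 h4
    rw [h5]; abel

end Groth.Agent.S11286
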