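import Groth.Statements.S11288
import Mathlib.Tactic.LinearCombination
import Mathlib.LinearAlgebra.Dual.Lemmas


set_option autoImplicit false
universe u
open Deform

namespace Groth.Agent.S11288

/-- Let K be a field, R' a local Artinian K-algebra with residue field K, and t a nonzero element of the
maximal ideal m' of R' with m' t = 0, so that R' → R = R'/(t) is a small extension of R. Then the
extension is trivial, i.e. the projection admits a section which is a K-algebra map, if and only if
t is not in m'^2; equivalently, iff the surjection m'/m'^2 → m_R/m_R^2 induced on cotangent spaces,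
whose kernel is spanned by the class of t, is not bijective. For instance K[t]/(t^(n+1)) →
K[t]/(t^n) is a non-trivial small extension for n ≥ 2. (The published example allows any local
K-algebra with residue field K; the row takes R' Artinian, the case in which the subalgebra
generated by lifts of a basis of the cotangent space maps onto R.) -/
theorem result
    {K : Type u} [Field K]
    {R' : Type u} [CommRing R'] [Algebra K R'] [IsLocalRing R'] [IsArtinianRing R']
    (hres : ∀ a : R', ∃ c : K, a - algebraMap K R' c ∈ IsLocalRing.maximalIdeal R')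
    (t : R') (ht : t ∈ IsLocalRing.maximalIdeal R') (ht0 : t ≠ 0)
    (htm : ∀ a ∈ IsLocalRing.maximalIdeal R', a * t = 0) :
    (∃ s : (R' ⧸ Ideal.span {t}) →ₐ[K] R', ∀ x, Ideal.Quotient.mk (Ideal.span {t}) (s x) = x) ↔
      t ∉ IsLocalRing.maximalIdeal R' ^ 2 := by
  classical
  let m := IsLocalRing.maximalIdeal R'
  let q : R' →+* R' ⧸ Ideal.span {t} := Ideal.Quotient.mk _
  have htq : q t = 0 := Ideal.Quotient.eq_zero_iff_mem.2 (Ideal.mem_span_singleton_self _)
  constructor
  · rintro ⟨s, hs⟩ htm2
    have hex : ∀ a, ∃ x, a = s (q a) + t * x := fun a => by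
      obtain ⟨x, hx⟩ := Ideal.mem_span_singleton.1 (Ideal.Quotient.eq.1 (hs (q a)).symm)
      exact ⟨x, by linear_combination hx⟩
    have h : ∀ c ∈ m ^ 2, c = s (q c) := by
      intro c hc
      rw [pow_two] at hc
      induction hc using Submodule.mul_induction_on' with
      | mem_mul_mem a ha b hb =>
        obtain ⟨x, hx⟩ := hex a
        obtain ⟨y, hy⟩ := hex b
        rw [map_mul, map_mul]
        linear_combination b * hx + (s (q a)) * hy + x * (htm b hb) + y * (htm _ (show s (q a) ∈ m by
          rw [show s (q a) = a - t * x by linear_combination -hx]; exact m.sub_mem ha (m.mul_mem_right _ ht)))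
      | add a ha b hb h1 h2 => rw [map_add, map_add, ← h1, ← h2]
    exact ht0 (by rw [h t htm2, htq, map_zero])
  · intro htm2
    let W : Submodule K R' := (m ^ 2).restrictScalars K ⊔ K ∙ (1 : R')
    have htW : t ∉ W := by
      intro h
      obtain ⟨u, hu, v, hv, huv⟩ := Submodule.mem_sup.1 h
      obtain ⟨c, rfl⟩ := Submodule.mem_span_singleton.1 hv
      rcases eq_or_ne c 0 with rfl | hc
      · rw [zero_smul, add_zero] at huv
        exact htm2 (huv ▸ hu)
      · refine (IsLocalRing.mem_maximalIdeal _).1 (show c • (1 : R') ∈ m from ?_) ?_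
        · rw [show c • (1 : R') = t - u by rw [← huv]; ring]
          exact m.sub_mem ht (Ideal.pow_le_self two_ne_zero hu)
        · rw [← Algebra.algebraMap_eq_smul_one]
          exact (IsUnit.mk0 c hc).map _
    obtain ⟨f, hf, hfW⟩ := Submodule.exists_dual_map_eq_bot_of_notMem htW inferInstance
    let l : R' →ₗ[K] K := (f t)⁻¹ • f
    have hlt : l t = 1 := inv_mul_cancel₀ hf
    have hlW : ∀ w ∈ W, l w = 0 := fun w hw => by
      show (f t)⁻¹ * f w = 0
      rw [show f w = 0 from (Submodule.mem_bot K).1 (hfW ▸ Submodule.mem_map_of_mem hw), mul_zero]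
    have hl1 : l 1 = 0 := hlW 1 (Submodule.mem_sup_right (Submodule.mem_span_singleton_self _))
    let ψ : R' →ₗ[K] R' := LinearMap.id - l.smulRight t
    have hψ : ∀ a, ψ a = a - l a • t := fun _ => rfl
    have hsm : ∀ (a : R') (c : K), a - algebraMap K R' c ∈ m → t * a = algebraMap K R' c * t := fun a c h => by
      linear_combination (htm _ h)
    have hmul : ∀ a b, ψ (a * b) = ψ a * ψ b := fun a b => by
      obtain ⟨c, hc⟩ := hres a
      obtain ⟨d, hd⟩ := hres b
      have hl : l (a * b) = c * l b + d * l a := by
        have h0 : l ((a - algebraMap K R' c) * (b - algebraMap K R' d)) = 0 :=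
          hlW _ (Submodule.mem_sup_left (show _ ∈ m ^ 2 by rw [pow_two]; exact Ideal.mul_mem_mul hc hd))
        rw [show (a - algebraMap K R' c) * (b - algebraMap K R' d) = a * b - c • b - d • a + (c * d) • (1 : R') by
          simp only [Algebra.smul_def, map_mul]; ring, map_add, map_sub, map_sub, map_smul, map_smul, map_smul,
          hl1] at h0
        simp only [smul_eq_mul] at h0
        linear_combination h0
      simp only [hψ, hl, Algebra.smul_def, map_add, map_mul]
      linear_combination (algebraMap K R' (l b)) * hsm a c hc + (algebraMap K R' (l a)) * hsm b d hd -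
        algebraMap K R' (l a) * algebraMap K R' (l b) * htm t ht
    let φ : R' →ₐ[K] R' := AlgHom.ofLinearMap ψ (by rw [hψ, hl1, zero_smul, sub_zero]) hmul
    refine ⟨Ideal.Quotient.liftₐ _ φ fun a ha => ?_, fun x => ?_⟩
    · obtain ⟨c, rfl⟩ := Ideal.mem_span_singleton'.1 ha
      rw [map_mul, show φ t = 0 from (hψ t).trans (by rw [hlt, one_smul, sub_self]), mul_zero]
    · obtain ⟨a, rfl⟩ := Ideal.Quotient.mk_surjective x
      show q (ψ a) = q a
      rw [hψ, map_sub, Algebra.smul_def, map_mul, htq, mul_zero, sub_zero]

end Groth.Agent.S11288
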