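import Groth.Statements.S11294


set_option autoImplicit false
universe u
open Deform

namespace Groth.Agent.S11294

open TrivSqZeroExt in
/-- Let P be a commutative ring, J an ideal, and P[ε] the ring of dual numbers over P. First-order
embedded deformations of Spec(P/J) in Spec P, namely ideals J' of P[ε] lifting J (the image of J'
under ε ↦ 0 is J) with P[ε]/J' flat over the dual numbers — flatness being replaced by the condition
that every element of P[ε]/J' annihilated by ε is a multiple of ε (equivalent to flatness over k[ε]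
when P is an algebra over a field k) — are in canonical bijection with Hom_P(J, P/J) =
Hom_{P/J}(J/J^2, P/J), the normal module: to φ corresponds the ideal of all a + εb with a in J and b
reducing to φ(a) modulo J. The first clause says this rule defines exactly one ideal for each φ; the
second says an ideal J' is a flat lift of J precisely when its membership is given by this rule for
some φ. (The published statement is the global one, identifying first-order deformations of a closed
subscheme X of an algebraic scheme Y with H^0(X, N_{X/Y}); this row is the affine computation in its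
proof, valid for every commutative ring P.) -/
theorem result (P : Type u) [CommRing P] (J : Ideal P) :
    (∀ φ : J →ₗ[P] (P ⧸ J), ∃! J' : Ideal (DualNumber P),
        ∀ a b : P, (inl a + inr b : DualNumber P) ∈ J' ↔ ∃ h : a ∈ J, Ideal.Quotient.mk J b = φ ⟨a, h⟩) ∧
    (∀ J' : Ideal (DualNumber P),
      (J'.map (TrivSqZeroExt.fstHom P P P) = J ∧
        ∀ m : DualNumber P ⧸ J', Ideal.Quotient.mk J' DualNumber.eps * m = 0 →
          ∃ m' : DualNumber P ⧸ J', m = Ideal.Quotient.mk J' DualNumber.eps * m') ↔
      ∃ φ : J →ₗ[P] (P ⧸ J), ∀ a b : P,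
        (inl a + inr b : DualNumber P) ∈ J' ↔ ∃ h : a ∈ J, Ideal.Quotient.mk J b = φ ⟨a, h⟩) := by
  have dec : ∀ x : DualNumber P, x = inl x.fst + inr x.snd := fun x => (inl_fst_add_inr_snd_eq x).symm
  have epsmul : ∀ x : DualNumber P, DualNumber.eps * x = inr x.fst := fun x => by
    ext <;> simp only [DualNumber.eps, fst_mul, snd_mul, fst_inr, snd_inr, zero_mul, zero_smul, one_smul, zero_add,
      add_zero, MulOpposite.smul_eq_mul_unop, MulOpposite.unop_op, one_mul, smul_eq_mul]
  constructor
  · intro φ
    let S : Set (DualNumber P) := {x | ∃ h : x.fst ∈ J, Ideal.Quotient.mk J x.snd = φ ⟨x.fst, h⟩}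
    let I : Ideal (DualNumber P) :=
      { carrier := S
        zero_mem' := ⟨J.zero_mem, (map_zero φ).symm⟩
        add_mem' := fun {x y} ⟨hx, hx'⟩ ⟨hy, hy'⟩ => ⟨J.add_mem hx hy, by
          rw [snd_add, map_add, hx', hy', ← map_add]; rfl⟩
        smul_mem' := fun c x ⟨hx, hx'⟩ => ⟨J.mul_mem_left _ hx, by
          rw [show (c • x).snd = c.fst • x.snd + MulOpposite.op x.fst • c.snd from snd_mul c x, map_add]
          have h0 : Ideal.Quotient.mk J (MulOpposite.op x.fst • c.snd) = 0 := by
            rw [MulOpposite.smul_eq_mul_unop, MulOpposite.unop_op, map_mul, Ideal.Quotient.eq_zero_iff_mem.2 hx,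
              mul_zero]
          rw [h0, add_zero, smul_eq_mul, map_mul, hx']
          exact (map_smul φ c.fst ⟨x.fst, hx⟩).symm⟩ }
    refine ⟨I, fun a b => ?_, fun J' hJ' => ?_⟩
    · show (∃ _, _) ↔ _
      simp
    · ext x
      rw [dec x, hJ']
      show _ ↔ ∃ _, _
      simp
  · intro J'
    have hmap : ∀ a, a ∈ J'.map (TrivSqZeroExt.fstHom P P P) ↔ ∃ b, inl a + inr b ∈ J' := fun a => by
      rw [Ideal.mem_map_iff_of_surjective _ fun p => ⟨inl p, rfl⟩]
      constructor
      · rintro ⟨x, hx, rfl⟩
        exact ⟨x.snd, by rwa [TrivSqZeroExt.fstHom_apply, ← dec x]⟩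
      · rintro ⟨b, hb⟩
        exact ⟨_, hb, by simp⟩
    constructor
    · rintro ⟨hJ, hfl⟩
      have h3 : ∀ b : P, (inr b : DualNumber P) ∈ J' → b ∈ J := fun b hb => by
        obtain ⟨m', hm'⟩ := hfl (Ideal.Quotient.mk J' (inl b)) (by
          rw [← map_mul, epsmul, fst_inl]
          exact Ideal.Quotient.eq_zero_iff_mem.2 hb)
        obtain ⟨y, rfl⟩ := Ideal.Quotient.mk_surjective m'
        rw [← map_mul, epsmul] at hm'
        rw [← hJ, hmap]
        exact ⟨-y.fst, by simpa [sub_eq_add_neg] using Ideal.Quotient.eq.1 hm'⟩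
      choose y hy using fun x : J => (hmap x).1 (hJ.symm ▸ x.2 : (x : P) ∈ J'.map _)
      have huniq : ∀ (x : J) (z : P), inl (x : P) + inr z ∈ J' → Ideal.Quotient.mk J z = Ideal.Quotient.mk J (y x) :=
        fun x z hz => Ideal.Quotient.eq.2 (h3 _ (by
          convert J'.sub_mem hz (hy x) using 1
          ext <;> simp))
      refine ⟨{ toFun := fun x => Ideal.Quotient.mk J (y x)
                map_add' := fun a b => by
                  rw [← map_add]
                  refine (huniq _ _ ?_).symm
                  rw [Submodule.coe_add, inl_add, inr_add, add_add_add_comm]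
                  exact J'.add_mem (hy a) (hy b)
                map_smul' := fun r a => by
                  refine (huniq _ (r * y a) ?_).symm.trans (map_mul _ r (y a))
                  convert J'.mul_mem_left (inl r) (hy a) using 1
                  ext <;> simp }, fun a b => ⟨fun h => ?_, ?_⟩⟩
      · exact ⟨hJ ▸ (hmap a).2 ⟨b, h⟩, huniq ⟨a, _⟩ b h⟩
      · rintro ⟨ha, hb⟩
        have hm : b - y ⟨a, ha⟩ ∈ J := Ideal.Quotient.eq.1 hb
        have h : (inr (b - y ⟨a, ha⟩) : DualNumber P) ∈ J' := by
          simpa [epsmul] using J'.mul_mem_left DualNumber.eps (hy ⟨_, hm⟩)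
        convert J'.add_mem (hy ⟨a, ha⟩) h using 1
        ext <;> simp
    · rintro ⟨φ, hφ⟩
      constructor
      · ext a
        rw [hmap]
        constructor
        · rintro ⟨b, hb⟩
          exact ((hφ a b).1 hb).1
        · intro ha
          obtain ⟨b, hb⟩ := Ideal.Quotient.mk_surjective (φ ⟨a, ha⟩)
          exact ⟨b, (hφ a b).2 ⟨ha, hb⟩⟩
      · intro m hm
        obtain ⟨x, rfl⟩ := Ideal.Quotient.mk_surjective m
        rw [← map_mul, epsmul, Ideal.Quotient.eq_zero_iff_mem] at hm
        obtain ⟨h0, hx⟩ := (hφ 0 x.fst).1 (by simpa using hm)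
        have hxJ : x.fst ∈ J := Ideal.Quotient.eq_zero_iff_mem.1 (hx.trans (map_zero φ))
        obtain ⟨b, hb⟩ := Ideal.Quotient.mk_surjective (φ ⟨x.fst, hxJ⟩)
        refine ⟨Ideal.Quotient.mk J' (inl (x.snd - b)), ?_⟩
        rw [← map_mul, epsmul, fst_inl, Ideal.Quotient.eq]
        convert (hφ x.fst b).2 ⟨hxJ, hb⟩ using 1
        ext <;> simp

end Groth.Agent.S11294
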