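import Groth.Statements.S11298
import Groth.Agent.Depth.Basic
import Mathlib.RingTheory.Finiteness.Cardinality
-- import your own Groth.Agent.* helpers here

set_option autoImplicit false
universe u v
open LocCoh Pointwise

namespace Groth.Agent.S11298

/-- Let X = Spec B be an affine Noetherian scheme, Z = V(I) a closed subscheme and G a coherent sheaf,
i.e. a finitely generated B-module M, with dual G^v = Hom_B(M, B). If depth_Z(O_X) ≥ 2 then
depth_Z(G^v) ≥ 2. Here the depth along I of a module N is the supremum of the lengths of N-regular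
sequences contained in I (and is infinite when I N = N). (The published statement adds that sections
of the dual over X and over X minus Z agree; this row omits that clause.) -/
theorem result (B : Type u) [CommRing B] [IsNoetherianRing B]
    (I : Ideal B) (M : Type v) [AddCommGroup M] [Module B M] [Module.Finite B M]
    (h : 2 ≤ LocCoh.idealDepth I B) : 2 ≤ LocCoh.idealDepth I (M →ₗ[B] B) := by
  rcases eq_or_ne (I • (⊤ : Submodule B (M →ₗ[B] B))) ⊤ with hD | hD
  · rw [Depth.idealDepth_eq_top hD]; exact le_top
  rcases eq_or_ne (I • (⊤ : Submodule B B)) ⊤ with hB | hB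
  · exact absurd (by rw [show I = ⊤ by simpa [smul_eq_mul] using hB, Submodule.top_smul]) hD
  obtain ⟨rs, hlen, hI, hrs⟩ := (Depth.le_idealDepth_iff_exists hB (n := 2)).1 (by exact_mod_cast h)
  match rs, hlen with
  | [a, b], _ =>
    simp only [RingTheory.Sequence.isWeaklyRegular_cons_iff] at hrs
    refine le_trans (le_of_eq (by rfl)) (Depth.le_idealDepth_of_isWeaklyRegular (rs := [a, b]) ?_ hI)
    simp only [RingTheory.Sequence.isWeaklyRegular_cons_iff]
    refine ⟨fun f g hfg => LinearMap.ext fun m => hrs.1 (LinearMap.congr_fun hfg m), ?_, RingTheory.Sequence.IsWeaklyRegular.nil _ _⟩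
    refine (isSMulRegular_on_quot_iff_lsmul_comap_le _ _).2 fun f hf => ?_
    replace hf : b • f ∈ a • (⊤ : Submodule B (M →ₗ[B] B)) := hf
    rw [Submodule.mem_smul_pointwise_iff_exists] at hf ⊢
    obtain ⟨g, -, hg⟩ := hf
    have hdiv : ∀ m, ∃ c, a • c = f m := fun m => by
      have : b • f m ∈ a • (⊤ : Submodule B B) :=
        Submodule.mem_smul_pointwise_iff_exists _ _ _ |>.2 ⟨g m, trivial, LinearMap.congr_fun hg m⟩
      obtain ⟨c, -, hc⟩ := (Submodule.mem_smul_pointwise_iff_exists _ _ _).1
        ((isSMulRegular_on_quot_iff_lsmul_comap_le _ _).1 hrs.2.1 (show f m ∈ (a • (⊤ : Submodule B B)).comap (LinearMap.lsmul B B b) from this))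
      exact ⟨c, hc⟩
    choose c hc using hdiv
    refine ⟨{ toFun := c, map_add' := fun x y => hrs.1 ?_, map_smul' := fun r x => hrs.1 ?_ }, trivial, LinearMap.ext hc⟩
    · show a • c (x + y) = a • (c x + c y)
      rw [smul_add, hc, hc, hc, map_add]
    · show a • c (r • x) = a • (r • c x)
      rw [smul_comm a r, hc, hc, map_smul]

end Groth.Agent.S11298
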