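import Groth.Statements.S11299
import Mathlib
-- import your own Groth.Agent.* helpers here

set_option autoImplicit false
universe u
open CAlg

namespace Groth.Agent.S11299

variable (P : Type u) [CommRing P] (J : Ideal P)

/-- trivial relations -/
abbrev triv {F : Type u} [AddCommGroup F] [Module P F] (j : F →ₗ[P] P) :
    Submodule P (LinearMap.ker j) :=
  Submodule.comap (LinearMap.ker j).subtype
    (Submodule.span P {y : F | ∃ u v : F, y = j u • v - j v • u})

/-- maps on relations killing the trivial ones -/
abbrev kills {F : Type u} [AddCommGroup F] [Module P F] (j : F →ₗ[P] P) :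
    Submodule P (LinearMap.ker j →ₗ[P] P ⧸ J) :=
  LinearMap.ker (LinearMap.lcomp P (P ⧸ J) (triv P j).subtype)

abbrev restr {F : Type u} [AddCommGroup F] [Module P F] (j : F →ₗ[P] P) :
    Submodule P (LinearMap.ker j →ₗ[P] P ⧸ J) :=
  LinearMap.range (LinearMap.lcomp P (P ⧸ J) (LinearMap.ker j).subtype)

abbrev T2 {F : Type u} [AddCommGroup F] [Module P F] (j : F →ₗ[P] P) :
    Submodule P ((LinearMap.ker j →ₗ[P] P ⧸ J) ⧸ restr P J j) :=
  (kills P J j).map (restr P J j).mkQ

variable {F : Type u} [AddCommGroup F] [Module P F] {F' : Type u} [AddCommGroup F'] [Module P F']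
  {j : F →ₗ[P] P} {j' : F' →ₗ[P] P}

def res (a : F →ₗ[P] F') (h : j' ∘ₗ a = j) : LinearMap.ker j →ₗ[P] LinearMap.ker j' :=
  a.restrict fun x hx => by
    rw [LinearMap.mem_ker] at hx ⊢
    rw [← LinearMap.comp_apply, h, hx]

theorem res_apply (a : F →ₗ[P] F') (h : j' ∘ₗ a = j) (x : LinearMap.ker j) :
    ((res P a h x : LinearMap.ker j') : F') = a x := rfl

noncomputable def mapQ (a : F →ₗ[P] F') (h : j' ∘ₗ a = j) :
    ((LinearMap.ker j' →ₗ[P] P ⧸ J) ⧸ restr P J j') →ₗ[P]
      ((LinearMap.ker j →ₗ[P] P ⧸ J) ⧸ restr P J j) :=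
  Submodule.mapQ _ _ (LinearMap.lcomp P (P ⧸ J) (res P a h)) (by
    rintro _ ⟨ψ, rfl⟩
    exact ⟨ψ ∘ₗ a, LinearMap.ext fun x => rfl⟩)

theorem triv_le (a : F →ₗ[P] F') (h : j' ∘ₗ a = j) : triv P j ≤ (triv P j').comap (res P a h) := by
  intro x hx
  have h1 := Submodule.mem_map_of_mem (f := a) (show (x : F) ∈ Submodule.span P
    {y : F | ∃ u v : F, y = j u • v - j v • u} from hx)
  rw [Submodule.map_span] at h1
  refine Submodule.span_mono ?_ h1
  rintro _ ⟨_, ⟨u, v, rfl⟩, rfl⟩
  exact ⟨a u, a v, by rw [map_sub, map_smul, map_smul, ← h]; rfl⟩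

theorem mapsTo (a : F →ₗ[P] F') (h : j' ∘ₗ a = j) :
    T2 P J j' ≤ (T2 P J j).comap (mapQ P J a h) := by
  rintro _ ⟨φ, hφ, rfl⟩
  refine ⟨φ ∘ₗ res P a h, LinearMap.mem_ker.2 (LinearMap.ext fun x => ?_), rfl⟩
  exact LinearMap.congr_fun (LinearMap.mem_ker.1 hφ) ⟨_, triv_le P a h x.2⟩

theorem comp_eq (a : F →ₗ[P] F') (b : F' →ₗ[P] F) (ha : j' ∘ₗ a = j) (hb : j ∘ₗ b = j')
    (z : (LinearMap.ker j →ₗ[P] P ⧸ J) ⧸ restr P J j) :
    mapQ P J a ha (mapQ P J b hb z) = z := by
  obtain ⟨φ, rfl⟩ := Submodule.Quotient.mk_surjective _ z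
  refine (Submodule.Quotient.eq _).2 ?_
  let g : F →ₗ[P] LinearMap.ker j := (b ∘ₗ a - LinearMap.id).codRestrict _ fun x => by
    rw [LinearMap.mem_ker, LinearMap.sub_apply, map_sub, LinearMap.comp_apply, LinearMap.id_apply,
      ← LinearMap.comp_apply j b, hb, ← LinearMap.comp_apply j' a, ha, sub_self]
  refine ⟨φ ∘ₗ g, LinearMap.ext fun x => ?_⟩
  change φ (g (x : F)) = φ (res P b hb (res P a ha x)) - φ x
  rw [← map_sub]
  exact congrArg φ (Subtype.ext rfl)

theorem aux (F : Type u) [AddCommGroup F] [Module P F] [Module.Free P F] [Module.Finite P F]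
    (F' : Type u) [AddCommGroup F'] [Module P F'] [Module.Free P F'] [Module.Finite P F']
    (j : F →ₗ[P] P) (j' : F' →ₗ[P] P) (hj : LinearMap.range j = J) (hj' : LinearMap.range j' = J) :
    Nonempty (↥(T2 P J j) ≃ₗ[P] ↥(T2 P J j')) := by
  obtain ⟨a', ha'⟩ := Module.projective_lifting_property j'.rangeRestrict
    (j.codRestrict (LinearMap.range j') fun x => by
      rw [hj', ← hj]; exact LinearMap.mem_range_self j x) j'.surjective_rangeRestrict
  obtain ⟨b', hb'⟩ := Module.projective_lifting_property j.rangeRestrict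
    (j'.codRestrict (LinearMap.range j) fun x => by
      rw [hj, ← hj']; exact LinearMap.mem_range_self j' x) j.surjective_rangeRestrict
  have ha : j' ∘ₗ a' = j := LinearMap.ext fun x => congrArg Subtype.val (LinearMap.congr_fun ha' x)
  have hb : j ∘ₗ b' = j' := LinearMap.ext fun x => congrArg Subtype.val (LinearMap.congr_fun hb' x)
  exact ⟨LinearEquiv.ofLinear ((mapQ P J b' hb).restrict (mapsTo P J b' hb))
    ((mapQ P J a' ha).restrict (mapsTo P J a' ha))
    (LinearMap.ext fun z => Subtype.ext (comp_eq P J b' a' hb ha z.1))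
    (LinearMap.ext fun z => Subtype.ext (comp_eq P J a' b' ha hb z.1))⟩

end Groth.Agent.S11299

namespace Groth.Agent.S11299

/-- The second cotangent module does not depend on the presentation: let P be a commutative ring, J an
ideal and B = P/J. For a presentation of J, i.e. a finitely generated free P-module F with a
P-linear map j : F → P with image J, let R = ker j be the relation module and R^tr ⊆ R the span of
the trivial relations j(u) • v - j(v) • u; the module T^2 of the presentation is the quotient of
Hom_B(R/R^tr, B), realised as the P-linear maps R → P/J vanishing on R^tr, by the restrictions to R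
of the P-linear maps F → P/J (here: the image of that submodule in the quotient of Hom_P(R, P/J) by
the restrictions). Then for two presentations (F, j) and (F', j') of the same ideal J the two
modules T^2 are isomorphic as P-modules (existence of an isomorphism; the comparison maps depend on
expressing one system of generators through the other). (The published statement takes B essentially
of finite type over a field and P smooth; this row allows any commutative ring P and ideal J.) -/
theorem result (P : Type u) [CommRing P] (J : Ideal P)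
    (F : Type u) [AddCommGroup F] [Module P F] [Module.Free P F] [Module.Finite P F]
    (F' : Type u) [AddCommGroup F'] [Module P F'] [Module.Free P F'] [Module.Finite P F']
    (j : F →ₗ[P] P) (j' : F' →ₗ[P] P) (hj : LinearMap.range j = J) (hj' : LinearMap.range j' = J) :
    Nonempty (↥(Submodule.map
          (LinearMap.range (LinearMap.lcomp P (P ⧸ J) (LinearMap.ker j).subtype)).mkQ
          (LinearMap.ker (LinearMap.lcomp P (P ⧸ J)
            (Submodule.comap (LinearMap.ker j).subtype
              (Submodule.span P {y : F | ∃ u v : F, y = j u • v - j v • u})).subtype))) ≃ₗ[P]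
      ↥(Submodule.map
          (LinearMap.range (LinearMap.lcomp P (P ⧸ J) (LinearMap.ker j').subtype)).mkQ
          (LinearMap.ker (LinearMap.lcomp P (P ⧸ J)
            (Submodule.comap (LinearMap.ker j').subtype
              (Submodule.span P {y : F' | ∃ u v : F', y = j' u • v - j' v • u})).subtype)))) := by
  exact aux P J F F' j j' hj hj'

end Groth.Agent.S11299
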