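import Groth.Statements.S11302
import Groth.Agent.DefAlg.RegSyz


set_option autoImplicit false
universe u
open Deform

namespace Groth.Agent.S11302

open MvPolynomial in
/-- T^1 of a complete intersection; the hypersurface case P/(f, ∂f/∂X_1, ..., ∂f/∂X_d) is n = 1: let k
be an algebraically closed field, P = k[X_1, ..., X_d], f_1, ..., f_n a regular sequence in P (each
f_i a non-zero-divisor modulo the preceding ones), J the ideal they generate and B = P/J. The first
cotangent module T^1_B — the cokernel of Der_k(P, B) → Hom_P(J, B), a derivation being restricted to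
J — is isomorphic, as a P-module, to B^n modulo the B-submodule generated by the d columns
(∂f_1/∂X_j, ..., ∂f_n/∂X_j), j = 1, ..., d, of the Jacobian matrix reduced modulo J, through the map
sending the class of φ : J → B to the class of (φ(f_1), ..., φ(f_n)). (The published formula allows
P to be a localisation of the polynomial ring; this row takes the polynomial ring.) -/
theorem result (k : Type u) [Field k] [IsAlgClosed k] (d n : ℕ)
    (f : Fin n → MvPolynomial (Fin d) k) (hreg : RingTheory.Sequence.IsWeaklyRegular (MvPolynomial (Fin d) k) (List.ofFn f)) :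
    ∃ e : ((↥(Ideal.span (Set.range f)) →ₗ[MvPolynomial (Fin d) k] (MvPolynomial (Fin d) k ⧸ Ideal.span (Set.range f))) ⧸
            Submodule.span (MvPolynomial (Fin d) k)
              {ψ : ↥(Ideal.span (Set.range f)) →ₗ[MvPolynomial (Fin d) k] (MvPolynomial (Fin d) k ⧸ Ideal.span (Set.range f)) |
                ∃ D : Derivation k (MvPolynomial (Fin d) k) (MvPolynomial (Fin d) k ⧸ Ideal.span (Set.range f)), ∀ a : ↥(Ideal.span (Set.range f)), ψ a = D (a : MvPolynomial (Fin d) k)}) ≃ₗ[MvPolynomial (Fin d) k]
          ((Fin n → MvPolynomial (Fin d) k ⧸ Ideal.span (Set.range f)) ⧸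
            Submodule.span (MvPolynomial (Fin d) k ⧸ Ideal.span (Set.range f))
              (Set.range fun j : Fin d => fun i : Fin n => Ideal.Quotient.mk (Ideal.span (Set.range f)) (pderiv j (f i)))),
      ∀ φ : ↥(Ideal.span (Set.range f)) →ₗ[MvPolynomial (Fin d) k] (MvPolynomial (Fin d) k ⧸ Ideal.span (Set.range f)),
        e (Submodule.Quotient.mk φ) =
          Submodule.Quotient.mk (fun i : Fin n => φ ⟨f i, Ideal.subset_span (Set.mem_range_self i)⟩) := by
  classical
  let P := MvPolynomial (Fin d) k
  let J : Ideal P := Ideal.span (Set.range f)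
  let B := P ⧸ J
  let F : Fin n → J := fun i => ⟨f i, Ideal.subset_span (Set.mem_range_self i)⟩
  let L : (Fin n → P) →ₗ[P] J := Fintype.linearCombination P F
  have hL : ∀ r, ((L r : J) : P) = ∑ i, r i * f i := fun r => by
    simp [L, F, Fintype.linearCombination_apply]
  have hLsurj : Function.Surjective L := fun ⟨x, hx⟩ => by
    obtain ⟨c, hc⟩ := Ideal.mem_span_range_iff_exists_fun.mp hx
    exact ⟨c, Subtype.ext ((hL c).trans hc)⟩
  have hext : ∀ φ ψ : J →ₗ[P] B, (∀ i, φ (F i) = ψ (F i)) → φ = ψ := by
    intro φ ψ h
    refine LinearMap.ext fun x => ?_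
    obtain ⟨r, rfl⟩ := hLsurj x
    simp [L, Fintype.linearCombination_apply, map_sum, map_smul, h]
  let ev : (J →ₗ[P] B) →ₗ[P] (Fin n → B) :=
    { toFun := fun φ i => φ (F i)
      map_add' := fun _ _ => rfl
      map_smul' := fun _ _ => rfl }
  have hev : Function.Bijective ev := by
    refine ⟨fun φ ψ h => hext φ ψ (congrFun h), fun v => ?_⟩
    let Lv : (Fin n → P) →ₗ[P] B := Fintype.linearCombination P v
    have hle : LinearMap.ker L ≤ LinearMap.ker Lv := fun r hr => by
      have h0 : ∑ i, r i * f i = 0 := by rw [← hL, LinearMap.mem_ker.mp hr]; rfl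
      rw [LinearMap.mem_ker, Fintype.linearCombination_apply]
      refine Finset.sum_eq_zero fun i _ => ?_
      obtain ⟨w, hw⟩ := Ideal.Quotient.mk_surjective (v i)
      rw [← hw]
      exact Ideal.Quotient.eq_zero_iff_mem.mpr (J.mul_mem_right _
        (Groth.Agent.DefAlg.coeff_mem_span_of_sum_eq_zero n f hreg r h0 i))
    let φ : J →ₗ[P] B := (Submodule.liftQ _ Lv hle) ∘ₗ
      (L.quotKerEquivOfSurjective hLsurj).symm.toLinearMap
    refine ⟨φ, funext fun i => ?_⟩
    have hi : L (Pi.single i 1) = F i := by simp [L]
    change φ (F i) = v i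
    rw [← hi, LinearMap.comp_apply, LinearEquiv.coe_coe,
      LinearMap.quotKerEquivOfSurjective_symm_apply, Submodule.liftQ_apply]
    simp [Lv]
  let E := LinearEquiv.ofBijective ev hev
  let col : Fin d → Fin n → B := fun j i => Ideal.Quotient.mk J (pderiv j (f i))
  have hDer : ∀ (D : Derivation k P B) (p : P),
      D p = ∑ j, D (X j) * Ideal.Quotient.mk J (pderiv j p) := by
    intro D p
    induction p using MvPolynomial.induction_on with
    | C a =>
      simp only [pderiv_C, map_zero, mul_zero, Finset.sum_const_zero]
      exact D.map_algebraMap a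
    | add p q hp hq =>
      rw [map_add, hp, hq, ← Finset.sum_add_distrib]
      simp only [map_add, mul_add]
    | mul_X p l hp =>
      have hs : ∀ (q : P) (b : B), q • b = Ideal.Quotient.mk J q * b := fun q b => Algebra.smul_def q b
      rw [D.leibniz, hs, hs, hp, Finset.mul_sum]
      simp only [pderiv_mul, pderiv_X, map_add, map_mul, mul_add, Finset.sum_add_distrib]
      rw [add_comm]
      congr 1
      · exact Finset.sum_congr rfl fun j _ => by ring
      · rw [Finset.sum_eq_single l]
        · simp [Pi.single_eq_same, mul_comm]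
        · intro j _ hj; simp [Pi.single_eq_of_ne hj.symm]
        · simp
  refine ⟨(Submodule.Quotient.equiv _ (Submodule.restrictScalars P
      (Submodule.span B (Set.range col))) E ?_).trans
    (Submodule.Quotient.restrictScalarsEquiv P _), fun φ => rfl⟩
  rw [Submodule.map_span]
  refine le_antisymm (Submodule.span_le.mpr ?_) ?_
  · rintro _ ⟨ψ, ⟨D, hD⟩, rfl⟩
    have hψ : ev ψ = ∑ j, D (X j) • col j := funext fun i => by
      rw [Finset.sum_apply]
      exact (hD (F i)).trans (hDer D (f i))
    change ev ψ ∈ Submodule.span B (Set.range col)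
    rw [hψ]
    exact Submodule.sum_mem _ fun j _ => Submodule.smul_mem _ _ (Submodule.subset_span ⟨j, rfl⟩)
  · rw [Submodule.restrictScalars_span P B Ideal.Quotient.mk_surjective]
    refine Submodule.span_le.mpr ?_
    rintro _ ⟨j, rfl⟩
    let D : Derivation k P B := (Submodule.mkQ J).compDer (pderiv j)
    let ψ : J →ₗ[P] B :=
      { toFun := fun a => D (a : P)
        map_add' := fun a b => map_add D _ _
        map_smul' := fun r a => by
          change D (r * (a : P)) = r • D (a : P)
          rw [D.leibniz]
          obtain ⟨w, hw⟩ := Ideal.Quotient.mk_surjective (D r)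
          rw [← hw, show (a : P) • Ideal.Quotient.mk J w = 0 from
            Ideal.Quotient.eq_zero_iff_mem.mpr (J.mul_mem_right _ a.2), add_zero] }
    exact Submodule.subset_span ⟨ψ, ⟨D, fun _ => rfl⟩, rfl⟩

end Groth.Agent.S11302
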