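import Groth.Statements.S11306
import Mathlib
-- import your own Groth.Agent.* helpers here

set_option autoImplicit false
universe u
open TensorProduct
open CAlg

namespace Groth.Agent.S11306

/-- Take a Noetherian local domain A, with residue field k and fraction field K, and let M be a finitely
generated A-module. If k ⊗_A M and K ⊗_A M have the same dimension r (over k and over K
respectively), then M is a free A-module of rank r. -/
theorem result (A : Type u) [CommRing A] [IsDomain A]
    [IsNoetherianRing A] [IsLocalRing A] (M : Type u) [AddCommGroup M] [Module A M] [Module.Finite A M] (r : ℕ)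
    (hk : Module.finrank (IsLocalRing.ResidueField A) (IsLocalRing.ResidueField A ⊗[A] M) = r)
    (hK : Module.finrank (FractionRing A) (FractionRing A ⊗[A] M) = r) :
    Module.Free A M ∧ Module.finrank A M = r := by
  let b := Module.finBasisOfFinrankEq (IsLocalRing.ResidueField A) ((IsLocalRing.ResidueField A) ⊗[A] M) hk
  choose m hm using fun i => TensorProduct.mk_surjective A M (IsLocalRing.ResidueField A) Ideal.Quotient.mk_surjective (b i)
  have hspan : Submodule.span A (Set.range m) = ⊤ := IsLocalRing.span_eq_top_of_tmul_eq_basis m b hm
  let π : (Fin r → A) →ₗ[A] M := Fintype.linearCombination A m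
  have hπ : Function.Surjective π := by
    rw [← LinearMap.range_eq_top, Fintype.range_linearCombination, hspan]
  have hbcs : Function.Surjective (π.baseChange (FractionRing A)) := by
    rw [show (π.baseChange (FractionRing A) : _ → _) = π.lTensor (FractionRing A) from LinearMap.baseChange_eq_ltensor π]
    exact LinearMap.lTensor_surjective (FractionRing A) hπ
  have hbci : Function.Injective (π.baseChange (FractionRing A)) := by
    refine (LinearMap.injective_iff_surjective_of_finrank_eq_finrank ?_).2 hbcs
    rw [hK, Module.finrank_baseChange, Module.finrank_pi, Fintype.card_fin]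
  have hinj : Function.Injective π := by
    intro x y hxy
    have h1 : (1 : (FractionRing A)) ⊗ₜ[A] x = 1 ⊗ₜ y := hbci (by simp [hxy])
    have h2 : Function.Injective fun z : Fin r → A => (1 : (FractionRing A)) ⊗ₜ[A] z := by
      intro u v huv
      funext i
      have := congrArg ((TensorProduct.rid A (FractionRing A)).toLinearMap ∘ₗ LinearMap.lTensor (FractionRing A) (LinearMap.proj i : (Fin r → A) →ₗ[A] A)) huv
      simp [Algebra.smul_def] at this
      exact this
    exact h2 h1
  let e := LinearEquiv.ofBijective π ⟨hinj, hπ⟩
  haveI : Module.Free A M := Module.Free.of_equiv e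
  exact ⟨inferInstance, by rw [← e.finrank_eq, Module.finrank_pi, Fintype.card_fin]⟩
end Groth.Agent.S11306
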