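import Groth.Statements.S1131
import Groth.Agent.SchDescent.One
import Groth.Agent.SchDescent.Morphisms


set_option autoImplicit false
set_option backward.isDefEq.respectTransparency false
set_option backward.isDefEq.respectTransparency.types false
open CategoryTheory CategoryTheory.Limits AlgebraicGeometry Opposite
universe u
open Desc

namespace Groth.Agent.S1131

/-- If p : X ⟶ S is surjective, flat and quasi-compact, then the functor sending a scheme over S to its
canonical descent datum relative to p is full. (Faithfulness, which needs no quasi-compactness, is a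
companion statement.) (Descent data are taken in functor-of-points form, equivalent by the Yoneda
lemma to the usual form of an isomorphism over X ×_S X satisfying the cocycle condition.) -/
theorem result {X S : Scheme.{u}} (p : X ⟶ S) [Surjective p] [Flat p] [QuasiCompact p] :
    (Desc.toDD p).Full := by
  haveI := Groth.Agent.SchDescent.toDDFam_full (Groth.Agent.SchDescent.isCover_singleton p)
  refine ⟨fun {U U'} a => ?_⟩
  obtain ⟨g, hg⟩ := (Desc.toDDFam (fun _ : PUnit.{1} => p)).map_surjective
    ((Desc.SchDDFam.ofSchDD.{0} p).map a : (Desc.toDDFam (fun _ : PUnit.{1} => p)).obj U ⟶ (Desc.toDDFam (fun _ : PUnit.{1} => p)).obj U')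
  refine ⟨g, ?_⟩
  apply Desc.SchDD.hom_ext
  exact congrArg (fun c : (Desc.toDDFam (fun _ : PUnit.{1} => p)).obj U ⟶ (Desc.toDDFam (fun _ : PUnit.{1} => p)).obj U' =>
    c.hom PUnit.unit) hg

end Groth.Agent.S1131
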