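import Groth.Statements.S11311
import Groth.Agent.CAlgJac.Field
-- import your own Groth.Agent.* helpers here

set_option autoImplicit false
universe u
open CAlg

namespace Groth.Agent.S11311

/-- Let k be a field and B a local ring containing k whose residue field is k (the composite k → B → B/m
is bijective), and which is a localization of a finitely generated k-algebra (essentially of finite
type over k); let d = dim B. If the module of differentials Ω_{B/k} is free of rank d then B is a
regular local ring. Conversely, if k is perfect and B is a regular local ring, then Ω_{B/k} is free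
of rank d. (The published statement assumes k perfect as one of its hypotheses and asserts the
equivalence; its proof of the first implication does not use perfectness, so that hypothesis is
placed on the converse only.) -/
theorem result (k B : Type u) [Field k] [CommRing B] [Algebra k B]
    [IsLocalRing B] [Algebra.EssFiniteType k B]
    (hres : Function.Bijective (algebraMap k (IsLocalRing.ResidueField B)))
    (d : ℕ) (hd : ringKrullDim B = (d : WithBot ℕ∞)) :
    ((Module.Free B (KaehlerDifferential k B) ∧ Module.finrank B (KaehlerDifferential k B) = d) →
        IsRegularLocalRing B) ∧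
      (PerfectField k → IsRegularLocalRing B →
        Module.Free B (KaehlerDifferential k B) ∧ Module.finrank B (KaehlerDifferential k B) = d) := by
  haveI : Algebra.FormallySmooth k (IsLocalRing.ResidueField B) :=
    Algebra.FormallySmooth.of_equiv
      (AlgEquiv.ofBijective (Algebra.ofId k (IsLocalRing.ResidueField B)) hres)
  haveI : IsNoetherianRing B := Algebra.EssFiniteType.isNoetherianRing k B
  obtain ⟨f, hf, hf'⟩ := Groth.Agent.CAlgJac.exists_cotangentMap k B
  have hle : (d : WithBot ℕ∞) ≤
      (Module.finrank (IsLocalRing.ResidueField B) (IsLocalRing.CotangentSpace B) : WithBot ℕ∞) := by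
    rw [← hd, ← IsLocalRing.spanFinrank_maximalIdeal_eq_finrank_cotangentSpace]
    exact ringKrullDim_le_spanFinrank_maximalIdeal B
  refine ⟨?_, ?_⟩
  · rintro ⟨hfree, hrank⟩
    rw [IsRegularLocalRing.iff_finrank_cotangentSpace, hd]
    have h1 := LinearMap.finrank_le_finrank_of_injective hf
    rw [Groth.Agent.CAlgJac.finrank_tensor_of_free, hrank] at h1
    exact le_antisymm (Nat.cast_le.2 h1) hle
  · intro hperf hreg
    haveI : Algebra.FormallySmooth k B :=
      (Groth.Agent.CAlgJac.formallySmooth_iff_isRegularLocalRing_of_essFiniteType k B).2 hreg
    haveI : Module.Free B (KaehlerDifferential k B) := Module.free_of_flat_of_isLocalRing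
    refine ⟨inferInstance, ?_⟩
    have hs : Subsingleton (KaehlerDifferential k (IsLocalRing.ResidueField B)) :=
      KaehlerDifferential.subsingleton_of_surjective k (IsLocalRing.ResidueField B) hres.2
    have h1 := (LinearEquiv.ofBijective f ⟨hf, hf' hs⟩).finrank_eq
    rw [Groth.Agent.CAlgJac.finrank_tensor_of_free] at h1
    rw [← h1]
    have h2 := (IsRegularLocalRing.iff_finrank_cotangentSpace B).1 hreg
    rw [hd] at h2
    exact_mod_cast h2

end Groth.Agent.S11311
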