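import Groth.Statements.S1132
import Groth.Agent.SchDescent.One
import Groth.Agent.SchDescent.Morphisms


set_option autoImplicit false
set_option backward.isDefEq.respectTransparency false
set_option backward.isDefEq.respectTransparency.types false
open CategoryTheory CategoryTheory.Limits AlgebraicGeometry Opposite
universe u
open Desc

namespace Groth.Agent.S1132

/-- If p : X ⟶ S is a surjective flat morphism of schemes, the functor sending a scheme over S to its
canonical descent datum relative to p is faithful. (This is a special case of a more general
published statement; in this case the objects being descended are simply schemes over S. Descent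
data are taken in functor-of-points form, equivalent by the Yoneda lemma to an isomorphism over X
×_S X satisfying the cocycle condition.) -/
theorem result {X S : Scheme.{u}} (p : X ⟶ S) [Surjective p] [Flat p] :
    (Desc.toDD p).Faithful := by
  refine ⟨fun {U U'} a b h => ?_⟩
  ext1
  haveI : Flat (pullback.snd p U.hom) := inferInstance
  haveI : Surjective (pullback.snd p U.hom) := inferInstance
  haveI := Flat.epi_of_flat_of_surjective (pullback.snd p U.hom)
  rw [← cancel_epi (pullback.snd p U.hom)]
  have := congrArg (fun c : (Desc.toDD p).obj U ⟶ (Desc.toDD p).obj U' =>
    c.hom.left ≫ pullback.snd p U'.hom) h
  simpa [Desc.toDD, Desc.canonicalDD] using this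

end Groth.Agent.S1132
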