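import Groth.Statements.S11320
import Groth.Agent.SpecCohLib.Colim
import Groth.Agent.CohTopLib.Basic
import Mathlib.Topology.NoetherianSpace
import Mathlib.Topology.Spectral.Prespectral

set_option autoImplicit false
universe u
open CategoryTheory CategoryTheory.Limits
open CohTop

namespace Groth.Agent.S11320

/-- On a Noetherian topological space X, the direct limit, in the category of abelian sheaves, of a
directed system (F_i) of flasque abelian sheaves indexed by a nonempty directed preorder is flasque
(all its restriction maps are surjective). -/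
theorem result {X : TopCat.{u}} [TopologicalSpace.NoetherianSpace X]
    (ι : Type u) [Preorder ι] [IsDirected ι (· ≤ ·)] [Nonempty ι]
    (D : ι ⥤ CohTop.Ab X) (hD : ∀ i : ι, TopCat.Sheaf.IsFlasque (D.obj i)) :
    TopCat.Sheaf.IsFlasque (colimit D : CohTop.Ab X) := by
  refine ⟨fun {U V} j => (AddCommGrpCat.epi_iff_surjective _).2 fun s => ?_⟩
  haveI : QuasiSeparatedSpace X := ⟨fun _ _ _ _ _ _ => TopologicalSpace.NoetherianSpace.isCompact _⟩
  haveI := Groth.Agent.SpecCohLib.preservesColimits_HU V.unop (TopologicalSpace.NoetherianSpace.isCompact _) ι 0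
  let K := (Sheaf.cohomologyPresheafFunctor.{u} (Opens.grothendieckTopology X) 0).flip.obj (Opposite.op V.unop)
  obtain ⟨a, y, hy⟩ := Concrete.isColimit_exists_rep _ (isColimitOfPreserves K (colimit.isColimit D))
    ((Groth.Agent.CohTopLib.hu0 (colimit D : CohTop.Ab X) V.unop).symm s)
  obtain ⟨r, hr⟩ := (AddCommGrpCat.epi_iff_surjective _).1 ((hD a).epi j)
    (Groth.Agent.CohTopLib.hu0 (D.obj a) V.unop y)
  refine ⟨(colimit.ι D a).hom.app U r, ?_⟩
  refine (ConcreteCategory.congr_hom ((colimit.ι D a).hom.naturality j) r).symm.trans ?_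
  refine (congrArg ((colimit.ι D a).hom.app V) hr).trans ?_
  refine (Groth.Agent.CohTopLib.hu0_HUmap (colimit.ι D a) V.unop y).symm.trans ?_
  refine (congrArg (Groth.Agent.CohTopLib.hu0 (colimit D : CohTop.Ab X) V.unop) hy).trans ?_
  exact AddEquiv.apply_symm_apply _ s

end Groth.Agent.S11320
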