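import Groth.Statements.S11322
import Groth.Agent.FlatDim.Basic

set_option autoImplicit false
universe u
open CategoryTheory AlgebraicGeometry
open FlatMor

namespace Groth.Agent.S11322

/-- Let k be a field, X and Y schemes of finite type over k with Y irreducible, f : X → Y a flat
k-morphism and n a natural number. Then all irreducible components of X have dimension dim Y + n if
and only if, for each point y of Y (generic points included), all irreducible components of the
fibre of f over y have dimension n. -/
theorem result (k : Type u) [Field k]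
    {X Y : Scheme.{u}} (qX : X ⟶ Spec (CommRingCat.of k)) (qY : Y ⟶ Spec (CommRingCat.of k))
    [LocallyOfFiniteType qX] [QuasiCompact qX] [LocallyOfFiniteType qY] [QuasiCompact qY]
    [IrreducibleSpace ↥Y] (f : X ⟶ Y) (hf : f ≫ qY = qX) [Flat f] (n : ℕ) :
    (∀ Z : Set ↥X, Z ∈ irreducibleComponents ↥X → topologicalKrullDim ↥Z = topologicalKrullDim ↥Y + (n : WithBot ℕ∞)) ↔
      ∀ (y : Y) (Z : Set ↥(f.fiber y)), Z ∈ irreducibleComponents ↥(f.fiber y) →
        topologicalKrullDim ↥Z = (n : WithBot ℕ∞) := by
  subst hf
  have : LocallyOfFiniteType f := locallyOfFiniteType_of_comp f qY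
  obtain ⟨d, -, hd⟩ := Groth.Agent.DimTheory.exists_height_eq qY (genericPoint Y)
  have hY' : ∀ η : Y, (∀ y : Y, y ⤳ η → y = η) → Order.height η = d := fun η hη => by
    rw [Groth.Agent.FlatDim.eq_genericPoint hη, hd]
  have hdim : topologicalKrullDim Y + (n : WithBot ℕ∞) = (((d + n : ℕ) : ℕ∞) : WithBot ℕ∞) := by
    rw [Groth.Agent.DimTheory.topologicalKrullDim_eq_height_genericPoint, hd]
    push_cast; rfl
  have key := Groth.Agent.FlatDim.equidim_iff qY f d n hY'
  rw [hdim]
  refine (Groth.Agent.FlatDim.forall_components_iff _).trans ?_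
  constructor
  · intro h y
    exact (Groth.Agent.FlatDim.forall_components_iff _).2 fun z hz => by
      rw [key.1 (fun ξ hξ => WithBot.coe_inj.1 (h ξ hξ)) y z hz]; rfl
  · intro h ξ hξ
    rw [key.2 (fun y z hz => WithBot.coe_inj.1 ((Groth.Agent.FlatDim.forall_components_iff _).1 (h y) z hz)) ξ hξ]

end Groth.Agent.S11322
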