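import Groth.Statements.S5169
import Groth.Agent.KoszulCech.LocCoh
-- import your own Groth.Agent.* helpers here

set_option autoImplicit false
universe u
open LocCoh

namespace Groth.Agent.S5169

/-- Which holds over a Noetherian ring by Lemmes 8 and 11. Let A be a Noetherian ring, f = (f_1, …, f_r)
elements of A and M an injective A-module. Then colim_n H^i(f^n, M) = 0 for every i > 0, where
H^i(f^n, M) is Koszul cohomology and the colimit is taken along the maps induced between the Koszul
complexes of the powers. -/
theorem result (A : Type u) [CommRing A] [IsNoetherianRing A] (fs : List A) (M : Type u) [AddCommGroup M] [Module A M] (hM : Module.Injective A M) (i : ℕ) (hi : 0 < i) : Subsingleton (CohIII.koszulHLim fs (ModuleCat.of A M) i) := by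

  obtain ⟨i, rfl⟩ := Nat.exists_eq_add_of_le' hi
  have h := Groth.Agent.KoszulCech.nonempty_koszulHLim_equiv (Groth.Agent.KoszulCech.locSys fs.get M)
    (List.finRange fs.length) (i + 1)
  rw [List.map_get_finRange] at h
  obtain ⟨e⟩ := h
  haveI := Groth.Agent.KoszulCech.subsingleton_Hc_of_injective fs.get
    (Groth.Agent.KoszulCech.allIdx (r := fs.length)) M hM i
  exact e.toEquiv.subsingleton

end Groth.Agent.S5169
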