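import Groth.Statements.S11404
import Groth.Agent.GrpSch.AutProd
import Groth.Agent.GrpSch.Neutral
import Groth.Agent.GrpSch.FixedEtale
import Groth.Agent.GrpSch.Points
import Groth.Agent.DimTheory.IrrFibres

set_option autoImplicit false
universe u
open CategoryTheory MonoidalCategory CartesianMonoidalCategory MonObj GrpObj AlgebraicGeometry CategoryTheory.Limits
open AlgGrp

namespace Groth.Agent.S11404

/-- Over an algebraically closed field k, let A be an abelian variety (a proper, smooth, connected
k-group scheme) and S a connected k-scheme of finite type. For every automorphism f of A × S over S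
there are a unique k-morphism g : S → A and a unique group automorphism h of A with f(a, s) = (g(s)
· h(a), s) on points. (This is the functor-of-points form, over a connected base, of the
identification of the automorphism group scheme of A with the semidirect product of A, acting by
translations, and the constant group of group automorphisms; in particular the neutral component is
A.) -/
theorem result (k : Type u) [Field k] [IsAlgClosed k]
    (A S : Over (Spec (CommRingCat.of k))) [GrpObj A] [IsProper A.hom] [Smooth A.hom] [ConnectedSpace ↥A.left]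
    [LocallyOfFiniteType S.hom] [QuasiCompact S.hom] [ConnectedSpace ↥S.left]
    (f : A ⊗ S ≅ A ⊗ S) (hf : f.hom ≫ snd A S = snd A S) :
    ∃ (g : S ⟶ A) (h : A ⟶ A), IsMonHom h ∧ IsIso h ∧
      f.hom ≫ fst A S = (snd A S ≫ g) * (fst A S ≫ h) ∧
      ∀ (g' : S ⟶ A) (h' : A ⟶ A), IsMonHom h' →
        f.hom ≫ fst A S = (snd A S ≫ g') * (fst A S ≫ h') → g' = g ∧ h' = h := by
  haveI := GrpSch.irreducibleSpace_of_connectedSpace (G := A)
  haveI : GeometricallyIrreducible A.hom := GrpSch.geometricallyIrreducible_of_irreducibleSpace (G := A)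
  haveI : GeometricallyConnected A.hom := inferInstance
  haveI : IsLocallyNoetherian S.left := LocallyOfFiniteType.isLocallyNoetherian S.hom
  obtain ⟨x, -, hx⟩ := DimTheory.exists_closedPoint_mem S.hom (U := Set.univ) isOpen_univ Set.univ_nonempty
  obtain ⟨s₀, -⟩ := GrpSch.exists_ratPoint S hx
  obtain ⟨g, h, hh, hF, huniq⟩ := GrpSch.AutProd.exists_decomp s₀ (f.hom ≫ fst A S)
  have hinv : f.inv ≫ snd A S = snd A S := by rw [Iso.inv_comp_eq, hf]
  obtain ⟨g₁, h₁, hh₁, hF₁, -⟩ := GrpSch.AutProd.exists_decomp s₀ (f.inv ≫ fst A S)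
  have key : ∀ (u v : A ⊗ S ⟶ A ⊗ S) (g g₁ : S ⟶ A) (h h₁ : A ⟶ A), IsMonHom h → IsMonHom h₁ →
      u ≫ v = 𝟙 _ → u ≫ snd A S = snd A S →
      u ≫ fst A S = (snd A S ≫ g) * (fst A S ≫ h) →
      v ≫ fst A S = (snd A S ≫ g₁) * (fst A S ≫ h₁) → h ≫ h₁ = 𝟙 A := by
    intro u v g g₁ h h₁ hh hh₁ huv hu hug hvg
    have e := congrArg (fun w => lift (𝟙 A) (toUnit A ≫ s₀) ≫ w ≫ fst A S) huv
    simp only [Category.assoc, Category.id_comp, hvg, MonObj.comp_mul, lift_fst] at e
    rw [← Category.assoc u, hu, ← Category.assoc u, hug] at e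
    simp only [← Category.assoc, lift_snd, MonObj.comp_mul, lift_fst, Category.id_comp, MonObj.mul_comp] at e
    have e1 := congrArg (fun w => (1 : A ⟶ A) ≫ w) e
    have h0 : ∀ (l : A ⟶ A), IsMonHom l → (1 : A ⟶ A) ≫ l = 1 := fun l hl => by
      rw [Hom.one_def, Category.assoc, hl.one_hom]
    simp only [MonObj.comp_mul, ← Category.assoc, comp_toUnit, Category.comp_id] at e1
    rw [h0 h hh, h0 h₁ hh₁, _root_.mul_one] at e1
    rw [← _root_.mul_assoc, e1, _root_.one_mul] at e
    exact e
  exact ⟨g, h, hh, ⟨⟨h₁, key f.hom f.inv g g₁ h h₁ hh hh₁ f.hom_inv_id hf hF hF₁,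
    key f.inv f.hom g₁ g h₁ h hh₁ hh f.inv_hom_id hinv hF₁ hF⟩⟩, hF, huniq⟩

end Groth.Agent.S11404
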