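import Groth.Statements.S11410
import Groth.Agent.GrpSch.FixedPtApps
import Groth.Agent.GrpSch.AffFaith
import Groth.Agent.GrpSch.AntiPart
import Groth.Agent.GrpSch.AntiSmooth
import Groth.Agent.GrpSch.AffEnv
import Groth.Agent.GrpSch.QuasiAffineGrp
import Groth.Agent.GrpSch.SepPoints

set_option autoImplicit false
set_option backward.isDefEq.respectTransparency.types false
universe u
open CategoryTheory MonoidalCategory CartesianMonoidalCategory MonObj GrpObj AlgebraicGeometry CategoryTheory.Limits
open AlgGrp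

namespace Groth.Agent.S11410

open Groth.Agent CategoryTheory.Limits

open GrpSch.FixedPt in
/-- an action on an integral scheme fixing a rational point has the triviality locus of an affine one -/
lemma exists_affine_model {k : Type u} [Field k] {G X : Over (Spec (CommRingCat.of k))} [GrpObj G]
    [LocallyOfFiniteType G.hom] [QuasiCompact G.hom]
    [IsSeparated X.hom] [IsIntegral X.left] [IsLocallyNoetherian X.left]
    (a : AlgGrp.Action G X) (x : 𝟙_ (Over (Spec (CommRingCat.of k))) ⟶ X) (hx : a.IsFixedPt x) :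
    ∃ (P : Over (Spec (CommRingCat.of k))) (e : AlgGrp.Action G P), IsAffine P.left ∧
      ∀ (T : Over (Spec (CommRingCat.of k))) (g : T ⟶ G), Triv e g ↔ Triv a g := by
  obtain ⟨_, ⟨(V' : X.left.Opens), hV', rfl⟩, hxV, -⟩ := X.left.isBasis_affineOpens.exists_subset_of_mem_open
    (Set.mem_univ (x.left (IsLocalRing.closedPoint k))) isOpen_univ
  let V : Over (Spec (CommRingCat.of k)) := Over.mk (V'.ι ≫ X.hom)
  let v : V ⟶ X := Over.homMk V'.ι rfl
  haveI : IsAffine V.left := hV'
  haveI : IsOpenImmersion v.left := inferInstanceAs (IsOpenImmersion V'.ι)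
  haveI : Nonempty V' := ⟨⟨_, hxV⟩⟩
  haveI : IsLocallyNoetherian V.left := inferInstanceAs (IsLocallyNoetherian V'.toScheme)
  haveI : IsIntegral V.left := inferInstanceAs (IsIntegral V'.toScheme)
  refine exists_faithful_affine a x hx V v ⟨⟨_, hxV⟩, rfl⟩ fun B j m hm _ hB hpow T g hg => triv_of_eq a g ?_
  haveI := noetherian_Γ (U := V)
  let p₁ : T ⊗ X ⟶ X := lift (fst T X ≫ g) (snd T X) ≫ a.act
  have hV : (T ◁ v) ≫ p₁ = (T ◁ v) ≫ snd T X := by
    refine @GrpSch.JointInj.ext k _ ℕ T V X _ _ B hB j (fun b hb => ?_) _ _ fun n => ?_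
    · have : b ∈ ⨅ n : ℕ, m ^ n := by
        rw [Submodule.mem_iInf]
        intro n
        cases n with
        | zero => simp
        | succ n => exact hpow b hb n
      rwa [Ideal.iInf_pow_eq_bot_of_isDomain _ hm.ne_top, Submodule.mem_bot] at this
    · have := hg n (T ⊗ B n) (fst _ _) (snd _ _)
      rw [← Category.assoc, ← Category.assoc (T ◁ j n)]
      simp only [p₁, Category.assoc, whiskerLeft_snd, whiskerLeft_snd_assoc, comp_lift_assoc,
        whiskerLeft_fst_assoc]
      exact this
  refine Over.OverMorphism.ext ?_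
  refine Scheme.Cover.hom_ext (X.left.affineCover.pullback₁ (snd T X).left) _ _ fun c => ?_
  let U : Over (Spec (CommRingCat.of k)) := Over.mk (X.left.affineCover.f c ≫ X.hom)
  let u : U ⟶ X := Over.homMk (X.left.affineCover.f c) rfl
  haveI : IsAffine U.left := inferInstanceAs (IsAffine (X.left.affineCover.X c))
  haveI : IsOpenImmersion u.left := inferInstanceAs (IsOpenImmersion (X.left.affineCover.f c))
  rcases isEmpty_or_nonempty U.left with hU | hU
  · haveI : IsEmpty (X.left.affineCover.X c) := hU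
    haveI : IsEmpty ((X.left.affineCover.pullback₁ (snd T X).left).X c) :=
      Function.isEmpty (pullback.snd (snd T X).left (X.left.affineCover.f c))
    apply Scheme.hom_ext_of_forall
    exact fun z => isEmptyElim z
  haveI : IsIntegral U.left := isIntegral_of_isOpenImmersion u.left
  -- an affine open contained in both
  have hne : ((u.left ⁻¹ᵁ V') : Set U.left).Nonempty := by
    obtain ⟨z⟩ := hU
    obtain ⟨w, ⟨w', rfl⟩, hw⟩ := nonempty_preirreducible_inter
      u.left.isOpenEmbedding.isOpen_range V'.2 ⟨u.left z, Set.mem_range_self _⟩ ⟨_, hxV⟩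
    exact ⟨w', hw⟩
  obtain ⟨z, hz⟩ := hne
  obtain ⟨_, ⟨(W' : U.left.Opens), hW', rfl⟩, hzW, hWV⟩ :=
    U.left.isBasis_affineOpens.exists_subset_of_mem_open hz (u.left ⁻¹ᵁ V').2
  let W : Over (Spec (CommRingCat.of k)) := Over.mk (W'.ι ≫ U.hom)
  let wU : W ⟶ U := Over.homMk W'.ι rfl
  haveI : IsAffine W.left := hW'
  haveI : Nonempty W' := ⟨⟨z, hzW⟩⟩
  let l := IsOpenImmersion.lift V'.ι (W'.ι ≫ u.left) (by
    rintro _ ⟨w', rfl⟩
    rw [Scheme.Opens.range_ι]
    exact hWV w'.2)
  let wV : W ⟶ V := Over.homMk l (by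
    change l ≫ V'.ι ≫ X.hom = W'.ι ≫ X.left.affineCover.f c ≫ X.hom
    rw [← Category.assoc, IsOpenImmersion.lift_fac, Category.assoc]
    rfl)
  have hwv : wV ≫ v = wU ≫ u := Over.OverMorphism.ext (IsOpenImmersion.lift_fac _ _ _)
  have hU' : (T ◁ u) ≫ p₁ = (T ◁ u) ≫ snd T X := by
    refine @GrpSch.JointInj.ext k _ Unit T U X _ _ (fun _ => W) (fun _ => hW') (fun _ => wU) (fun b hb => ?_) _ _
      fun _ => ?_
    · have h := hb ()
      rw [show wU.left = W'.ι from rfl, Scheme.Opens.ι_appTop] at h
      haveI : Nonempty ↥(Scheme.Opens.toScheme (W'.ι ''ᵁ ⊤ : U.left.Opens)) :=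
        ⟨⟨z, ⟨⟨z, hzW⟩, trivial, rfl⟩⟩⟩
      exact map_injective_of_isIntegral U.left (homOfLE (le_top : W'.ι ''ᵁ ⊤ ≤ ⊤)) (h.trans (map_zero _).symm)
    · rw [← Category.assoc, ← Category.assoc (T ◁ wU), ← whiskerLeft_comp, ← hwv, whiskerLeft_comp,
        Category.assoc, hV, Category.assoc]
  let π := (X.left.affineCover.pullback₁ (snd T X).left).f c
  let Q' : Over (Spec (CommRingCat.of k)) := Over.mk (π ≫ (T ⊗ X).hom)
  let w : Q' ⟶ T ⊗ X := Over.homMk π rfl
  let b : Q' ⟶ U := Over.homMk (pullback.snd (snd T X).left (X.left.affineCover.f c)) (by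
    change pullback.snd (snd T X).left (X.left.affineCover.f c) ≫ X.left.affineCover.f c ≫ X.hom = _
    rw [← pullback.condition_assoc]
    exact congrArg ((pullback.fst (snd T X).left (X.left.affineCover.f c)) ≫ ·) (Over.w (snd T X)))
  have hw : lift (w ≫ fst T X) b ≫ T ◁ u = w := by
    apply CartesianMonoidalCategory.hom_ext
    · simp
    · rw [Category.assoc, whiskerLeft_snd, lift_snd_assoc]
      exact Over.OverMorphism.ext pullback.condition.symm
  have := congrArg (fun φ => (lift (w ≫ fst T X) b ≫ φ).left) hU'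
  simp only [← Category.assoc, hw] at this
  exact this


/-- Over an algebraically closed field k, let G be an algebraic group (a smooth k-group scheme of finite
type) acting on a variety X (an integral, separated k-scheme of finite type), faithfully in the
sense that every rational point of G acting as the identity of X is the identity element. Then for
every rational point x of X, the isotropy subgroup scheme of x (a closed subgroup scheme of G whose
points are exactly the points of G fixing x) is affine. -/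
theorem result (k : Type u) [Field k] [IsAlgClosed k]
    (G X : Over (Spec (CommRingCat.of k))) [GrpObj G] [Smooth G.hom] [QuasiCompact G.hom]
    [LocallyOfFiniteType X.hom] [QuasiCompact X.hom] [IsSeparated X.hom] [IsIntegral X.left]
    (a : AlgGrp.Action G X)
    (hfaith : ∀ g : 𝟙_ (Over (Spec (CommRingCat.of k))) ⟶ G, lift (toUnit X ≫ g) (𝟙 X) ≫ a.act = 𝟙 X → g = η[G])
    (x : 𝟙_ (Over (Spec (CommRingCat.of k))) ⟶ X) (St : Over (Spec (CommRingCat.of k))) [GrpObj St] (s : St ⟶ G) [IsMonHom s] [IsClosedImmersion s.left]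
    (hs : ∀ (T : Over (Spec (CommRingCat.of k))) (g : T ⟶ G), (∃ t : T ⟶ St, t ≫ s = g) ↔ lift g (toUnit T ≫ x) ≫ a.act = toUnit T ≫ x) :
    IsAffine St.left := by
  haveI : IsLocallyNoetherian X.left := LocallyOfFiniteType.isLocallyNoetherian X.hom
  haveI : LocallyOfFiniteType St.hom := by rw [← Over.w s]; infer_instance
  haveI : QuasiCompact St.hom := by rw [← Over.w s]; infer_instance
  let a' : AlgGrp.Action St X :=
    { act := (s ▷ X) ≫ a.act
      one_act := by rw [← comp_whiskerRight_assoc, IsMonHom.one_hom, a.one_act]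
      mul_act := by
        rw [← Category.id_comp (μ[St] ▷ X ≫ _), ← Category.id_comp ((α_ St St X).hom ≫ _),
          show 𝟙 ((St ⊗ St) ⊗ X) = lift (lift (fst _ _ ≫ fst _ _) (fst _ _ ≫ snd _ _)) (snd _ _) by
            ext <;> simp]
        simp only [lift_whiskerRight_assoc, lift_lift_associator_hom_assoc, lift_whiskerLeft_assoc]
        rw [← Hom.mul_def, MonObj.mul_comp (g := s), GrpSch.act_mul] }
  have ha' : ∀ (T : Over (Spec (CommRingCat.of k))) (g : T ⟶ St) (y : T ⟶ X),
      lift g y ≫ a'.act = lift (g ≫ s) y ≫ a.act := fun T g y => by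
    simp only [a', lift_whiskerRight_assoc]
  have hfix : a'.IsFixedPt x := fun T g => by
    rw [ha']; exact (hs T _).1 ⟨g, rfl⟩
  obtain ⟨P, e, hP, he⟩ := exists_affine_model a' x hfix
  obtain ⟨_, _⟩ := GrpSch.AffEnv.exists_grpObj St
  haveI : IsSeparated St.hom := GrpSch.SepPoints.isSeparated_grp St
  obtain ⟨K, _, n, _, _, _, _, hK, hKn⟩ := GrpSch.AntiPart.exists_ker St
  haveI : IsSeparated K.hom := GrpSch.SepPoints.isSeparated_grp K
  haveI := hP
  obtain ⟨e', he'⟩ := GrpSch.FixedPt.exists_action_aff St P e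
  have hn : GrpSch.FixedPt.Triv a' n := (he K n).1 fun T' t y => by
    have h1 : (t ≫ n) ≫ GrpSch.AffEnv.toAff St = 1 := by
      rw [Category.assoc, (hKn K n).1 ⟨𝟙 K, Category.id_comp n⟩, MonObj.comp_one]
    rw [← he', h1, GrpSch.act_one]
  haveI : Mono n := (Over.forget _).mono_of_mono_map (show Mono n.left from inferInstance)
  haveI : Mono s := (Over.forget _).mono_of_mono_map (show Mono s.left from inferInstance)
  have hpt : ∀ g : 𝟙_ (Over (Spec (CommRingCat.of k))) ⟶ K, g = η[K] := by
    intro g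
    have h1 : lift (toUnit X ≫ g ≫ n ≫ s) (𝟙 X) ≫ a.act = 𝟙 X := by
      have := hn X (toUnit X ≫ g) (𝟙 X)
      rw [ha'] at this
      simpa only [Category.assoc] using this
    rw [← cancel_mono n, ← cancel_mono s, Category.assoc, hfaith _ h1, IsMonHom.one_hom, IsMonHom.one_hom]
  -- so it is trivial
  haveI : Smooth K.hom := GrpSch.AntiSmooth.smooth K hK
  haveI : IsReduced K.left := Groth.Agent.SmoothReduced.isReduced_of_smooth_scheme K.hom
  haveI : JacobsonSpace ↥K.left := LocallyOfFiniteType.jacobsonSpace K.hom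
  haveI : IsClosedImmersion η[K].left := by
    haveI : IsClosedImmersion (η[K].left ≫ K.hom) := by
      rw [Over.w η[K]]
      exact inferInstanceAs (IsClosedImmersion (𝟙 (Spec (CommRingCat.of k))))
    exact IsClosedImmersion.of_comp η[K].left K.hom
  haveI : Surjective η[K].left := by
    refine ⟨fun x => ?_⟩
    by_contra hx
    obtain ⟨c, hc, hcc⟩ := nonempty_inter_closedPoints (Z := (Set.range η[K].left)ᶜ) ⟨x, hx⟩
      η[K].left.isClosedEmbedding.isClosed_range.isOpen_compl.isLocallyClosed
    refine hc ⟨IsLocalRing.closedPoint k, ?_⟩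
    rw [← hpt (Over.homMk (pointOfClosedPoint K.hom c hcc) (pointOfClosedPoint_comp _ _ _))]
    exact pointOfClosedPoint_apply _ _ _ _
  haveI := isIso_of_isClosedImmersion_of_surjective η[K].left
  haveI : IsIso ((Over.forget _).map η[K]) := ‹IsIso η[K].left›
  haveI : IsIso η[K] := isIso_of_reflects_iso η[K] (Over.forget _)
  haveI : Mono (GrpSch.AffEnv.toAff St) := ⟨fun {T} a b hab => by
    obtain ⟨l, hl⟩ := (hKn T (a⁻¹ * b)).2 (by rw [MonObj.mul_comp, GrpObj.inv_comp, hab, inv_mul_cancel])
    have : l = toUnit T ≫ η[K] := by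
      rw [toUnit_unique (toUnit T) (l ≫ inv η[K]), Category.assoc, IsIso.inv_hom_id, Category.comp_id]
    rw [this, ← Hom.one_def, MonObj.one_comp] at hl
    exact inv_mul_eq_one.1 hl.symm⟩
  haveI : Mono (GrpSch.AffEnv.toAff St).left := Over.mono_left_of_mono _
  exact GrpSch.QuasiAffineGrp.isAffine_of_mono St (GrpSch.AffEnv.toAff St)



end Groth.Agent.S11410
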