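import Groth.Statements.S11411
import Groth.Agent.GrpSch.AffEnv
import Groth.Agent.GrpSch.Cat

set_option autoImplicit false
universe u
open CategoryTheory MonoidalCategory CartesianMonoidalCategory MonObj GrpObj AlgebraicGeometry CategoryTheory.Limits
open AlgGrp

namespace Groth.Agent.S11411

/-- Over an algebraically closed field k, let G be an algebraic group (a smooth k-group scheme of finite
type) and N the kernel of the canonical morphism ρ : G → Spec O(G), i.e. the fibre of ρ over the
image of the unit. Then N is the smallest normal subgroup scheme of G with affine quotient: for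
every closed normal subgroup scheme H of G with a flat surjective homomorphism G → Q of k-group
schemes of finite type with kernel H and Q affine, the inclusion of N factors through H. And N is
the largest anti-affine subgroup scheme: every homomorphism and closed immersion into G from a
k-group scheme whose only global functions are the constants factors through N. (The published
statement also asserts O(N) = k, that N is a connected algebraic group central in G⁰, and O(G/N) =
O(G) finitely generated; those parts are not restated here.) -/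
theorem result (k : Type u) [Field k] [IsAlgClosed k]
    (G : Over (Spec (CommRingCat.of k))) [GrpObj G] [Smooth G.hom] [QuasiCompact G.hom] :
    (∀ (H Q : Over (Spec (CommRingCat.of k))) [GrpObj H] [GrpObj Q] (h : H ⟶ G) [IsMonHom h] [IsClosedImmersion h.left]
        [LocallyOfFiniteType Q.hom] [QuasiCompact Q.hom] (q : G ⟶ Q) [IsMonHom q] [Surjective q.left] [Flat q.left],
        AlgGrp.IsKernel h q → IsAffine Q.left →
        ∃ f : pullback G.left.toSpecΓ (η[G].left ≫ G.left.toSpecΓ) ⟶ H.left, f ≫ h.left = pullback.fst G.left.toSpecΓ (η[G].left ≫ G.left.toSpecΓ)) ∧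
    (∀ (M : Over (Spec (CommRingCat.of k))) [GrpObj M] (j : M ⟶ G) [IsMonHom j] [IsClosedImmersion j.left],
        Function.Bijective ((Scheme.ΓSpecIso (CommRingCat.of k)).inv ≫ M.hom.appTop).hom →
        ∃ f : M.left ⟶ pullback G.left.toSpecΓ (η[G].left ≫ G.left.toSpecΓ), f ≫ pullback.fst G.left.toSpecΓ (η[G].left ≫ G.left.toSpecΓ) = j.left) := by
  haveI := GrpSch.AffEnv.compactSpace_left G
  haveI := GrpSch.AffEnv.quasiSeparatedSpace_left G
  obtain ⟨_, _⟩ := GrpSch.AffEnv.exists_grpObj G
  haveI := GrpSch.AffEnv.isIso_toAff_appTop G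
  set t := GrpSch.AffEnv.toAff G with ht
  let N : Over (Spec (CommRingCat.of k)) :=
    Over.mk (pullback.fst G.left.toSpecΓ (η[G].left ≫ G.left.toSpecΓ) ≫ G.hom)
  let n : N ⟶ G := Over.homMk (pullback.fst G.left.toSpecΓ (η[G].left ≫ G.left.toSpecΓ)) rfl
  have hη : (η[G].left ≫ G.left.toSpecΓ) = (η[GrpSch.AffEnv.aff G]).left := by
    rw [← IsMonHom.one_hom (f := t), Over.comp_left]
    rfl
  constructor
  · intro H Q _ _ h _ _ _ _ q _ _ _ hk hQ
    haveI := hQ
    obtain ⟨g, hg, -⟩ := GrpSch.AffEnv.existsUnique_desc t q
    have h1 : n ≫ q = 1 := by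
      have e : n ≫ t = toUnit N ≫ η[GrpSch.AffEnv.aff G] := by
        apply Over.OverMorphism.ext
        have hu : (toUnit N).left = pullback.snd G.left.toSpecΓ (η[G].left ≫ G.left.toSpecΓ) := by
          have e1 : (toUnit N).left = N.hom := (Category.comp_id _).symm.trans (Over.w (toUnit N))
          refine e1.trans ?_
          change pullback.fst _ _ ≫ G.hom = _
          have e2 : G.hom = G.left.toSpecΓ ≫ (GrpSch.AffEnv.aff G).hom := (Over.w t).symm
          rw [e2, pullback.condition_assoc]
          refine (congrArg (pullback.snd _ _ ≫ ·) ?_).trans (Category.comp_id _)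
          exact (congrArg (· ≫ (GrpSch.AffEnv.aff G).hom) hη).trans (Over.w η[GrpSch.AffEnv.aff G])
        change pullback.fst _ _ ≫ G.left.toSpecΓ = (toUnit N).left ≫ _
        rw [hu, pullback.condition]
        exact congrArg (pullback.snd _ _ ≫ ·) hη
      rw [← hg, ← Category.assoc, e, Category.assoc, ← IsMonHom.one_hom (f := t), Category.assoc, hg,
        IsMonHom.one_hom, Hom.one_def]
    obtain ⟨a, ha⟩ := (GrpSch.isKernel_factors_iff hk n).2 h1
    exact ⟨a.left, congrArg (fun φ => φ.left) ha⟩
  · intro M _ j _ _ hM
    haveI : CompactSpace M.left := (IsClosedImmersion.base_closed (f := j.left)).toIsEmbedding.isCompact_iff.2 (by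
      rw [Set.image_univ]; exact j.left.isClosedEmbedding.isClosed_range.isCompact) |> isCompact_univ_iff.1
    haveI : IsIso (toUnit M).left.appTop := by
      haveI : IsIso ((Scheme.ΓSpecIso (CommRingCat.of k)).inv ≫ M.hom.appTop) :=
        (ConcreteCategory.isIso_iff_bijective _).2 hM
      haveI : IsIso M.hom.appTop := IsIso.of_isIso_comp_left (Scheme.ΓSpecIso (CommRingCat.of k)).inv _
      rw [show (toUnit M).left = M.hom from (Category.comp_id _).symm.trans (Over.w (toUnit M))]
      infer_instance
    haveI : IsAffine (𝟙_ (Over (Spec (CommRingCat.of k)))).left := inferInstanceAs (IsAffine (Spec _))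
    obtain ⟨g, hg, -⟩ := GrpSch.AffEnv.existsUnique_desc (toUnit M) (j ≫ t)
    have hg' : g = η[GrpSch.AffEnv.aff G] := by
      have := congrArg (fun φ => η[M] ≫ φ) hg
      rwa [← Category.assoc, toUnit_unique (η[M] ≫ toUnit M) (𝟙 _), Category.id_comp, ← Category.assoc,
        IsMonHom.one_hom, IsMonHom.one_hom] at this
    refine ⟨pullback.lift j.left M.hom ?_, pullback.lift_fst _ _ _⟩
    have h2 := congrArg (fun φ => φ.left) hg
    rw [hη, ← hg']
    have e1 : (toUnit M).left = M.hom := (Category.comp_id _).symm.trans (Over.w (toUnit M))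
    change j.left ≫ t.left = _
    rw [← e1]
    exact h2.symm

end Groth.Agent.S11411
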