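import Groth.Statements.S11416
import Groth.Agent.GrpSch.AntiPart
import Groth.Agent.GrpSch.AntiHom
import Groth.Agent.GrpSch.AntiSmooth
import Groth.Agent.GrpSch.LinearAction
import Groth.Agent.GrpSch.QuasiAffineGrp
import Groth.Agent.GrpSch.AffThm
import Groth.Agent.GrpSch.Desc
import Groth.Agent.GrpSch.SepPoints

set_option autoImplicit false
universe u
open CategoryTheory MonoidalCategory CartesianMonoidalCategory MonObj GrpObj AlgebraicGeometry CategoryTheory.Limits
open AlgGrp

namespace Groth.Agent.S11416

open Groth.Agent CategoryTheory.Limits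
open scoped TensorProduct
attribute [local instance] GrpSch.JointInj.algΓ

/-- the test object of an affine scheme -/
lemma exists_toPt (k : Type u) [Field k] (T : Over (Spec (CommRingCat.of k))) [IsAffine T.left] :
    ∃ t : T ≅ VecGrp.pt k Γ(T.left, ⊤), t.hom.left = T.left.toSpecΓ := by
  haveI : IsIso T.left.toSpecΓ := inferInstance
  refine ⟨Over.isoMk (asIso T.left.toSpecΓ) ?_, rfl⟩
  change T.left.toSpecΓ ≫ Spec.map ((Scheme.ΓSpecIso (CommRingCat.of k)).inv ≫ T.hom.appTop) = T.hom
  rw [Spec.map_comp, ← Scheme.toSpecΓ_naturality_assoc, toSpecΓ_SpecMap_ΓSpecIso_inv, Category.comp_id]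

/-- coefficient functions on affine test schemes -/
lemma exists_coeff {k : Type u} [Field k] {G : Over (Spec (CommRingCat.of k))} [GrpObj G]
    {M : Type u} [AddCommGroup M] [Module k M] (m : VecGrp.GMod G M) (lam : M →ₗ[k] k) (v : M) :
    ∃ C : ∀ (T : Over (Spec (CommRingCat.of k))) [IsAffine T.left], (T ⟶ G) → Γ(T.left, ⊤),
      (∀ (T T' : Over (Spec (CommRingCat.of k))) [IsAffine T.left] [IsAffine T'.left] (h : T' ⟶ T) (pg : T ⟶ G),
        C T' (h ≫ pg) = h.left.appTop.hom (C T pg)) ∧
      ∀ (T : Over (Spec (CommRingCat.of k))) [IsAffine T.left] (pg : T ⟶ G) (e : VecGrp.pt k k ⟶ T),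
        (TensorProduct.rid k k) (lam.lTensor k (m.ρ k (e ≫ pg) (1 ⊗ₜ[k] v))) =
          (Scheme.ΓSpecIso (CommRingCat.of k)).hom.hom (e.left.appTop.hom (C T pg)) := by
  let cB : ∀ (B : Type u) [CommRing B] [Algebra k B], (VecGrp.pt k B ⟶ G) → B := fun B _ _ pg =>
    TensorProduct.rid k B (lam.lTensor B (m.ρ B pg (1 ⊗ₜ[k] v)))
  have hnat : ∀ {B B' : Type u} [CommRing B] [Algebra k B] [CommRing B'] [Algebra k B'] (φ : B →ₐ[k] B')
      (pg : VecGrp.pt k B ⟶ G), cB B' (VecGrp.ptMap φ ≫ pg) = φ (cB B pg) := by
    intro B B' _ _ _ _ φ pg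
    simp only [cB]
    have h := m.naturality φ pg (1 ⊗ₜ[k] v)
    rw [VecGrp.Wmap_tmul, map_one] at h
    rw [← h]
    generalize m.ρ B pg (1 ⊗ₜ[k] v) = x
    induction x using TensorProduct.induction_on with
    | zero => simp
    | tmul b w => simp [map_smul]
    | add x y hx hy => simp only [map_add, hx, hy]
  choose t ht using fun (T : Over (Spec (CommRingCat.of k))) (_ : IsAffine T.left) => exists_toPt k T
  refine ⟨fun T i pg => cB Γ(T.left, ⊤) ((t T i).inv ≫ pg), fun T T' i i' h pg => ?_, fun T i pg e => ?_⟩
  · let φ : Γ(T.left, ⊤) →ₐ[k] Γ(T'.left, ⊤) :=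
      { h.left.appTop.hom with
        commutes' := fun r => by
          change ((Scheme.ΓSpecIso (CommRingCat.of k)).inv ≫ T.hom.appTop ≫ h.left.appTop).hom r = _
          rw [← Scheme.Hom.comp_appTop, Over.w h]
          rfl }
    have e1 : (t T' i').inv ≫ h = VecGrp.ptMap φ ≫ (t T i).inv := by
      rw [Iso.inv_comp_eq, ← Category.assoc, Iso.eq_comp_inv]
      apply Over.OverMorphism.ext
      rw [Over.comp_left, Over.comp_left, ht, ht]
      exact Scheme.toSpecΓ_naturality h.left
    change cB _ ((t T' i').inv ≫ h ≫ pg) = φ (cB _ ((t T i).inv ≫ pg))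
    rw [← Category.assoc, e1, Category.assoc, hnat]
  · let φ : Γ(T.left, ⊤) →ₐ[k] k :=
      { (e.left.appTop ≫ (Scheme.ΓSpecIso (CommRingCat.of k)).hom).hom with
        commutes' := fun r => by
          change ((Scheme.ΓSpecIso (CommRingCat.of k)).inv ≫ T.hom.appTop ≫ e.left.appTop ≫
            (Scheme.ΓSpecIso (CommRingCat.of k)).hom).hom r = _
          rw [← Category.assoc T.hom.appTop, ← Scheme.Hom.comp_appTop, Over.w e]
          change ((Scheme.ΓSpecIso (CommRingCat.of k)).inv ≫ (Spec.map (CommRingCat.ofHom (algebraMap k k))).appTop ≫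
            (Scheme.ΓSpecIso (CommRingCat.of k)).hom).hom r = _
          rw [Scheme.ΓSpecIso_naturality, Iso.inv_hom_id_assoc]
          rfl }
    have e1 : e = VecGrp.ptMap φ ≫ (t T i).inv := by
      rw [Iso.eq_comp_inv]
      apply Over.OverMorphism.ext
      rw [Over.comp_left, ht]
      change _ = Spec.map (e.left.appTop ≫ (Scheme.ΓSpecIso (CommRingCat.of k)).hom)
      rw [Scheme.toSpecΓ_naturality, Spec.map_comp, SpecMap_ΓSpecIso_hom]
      rfl
    change cB k (e ≫ pg) = φ (cB _ ((t T i).inv ≫ pg))
    conv_lhs => rw [e1, Category.assoc]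
    rw [hnat]


/-- Over an algebraically closed field k, let G be an algebraic group (a smooth k-group scheme of finite
type) and M a rational G-module, not necessarily finite-dimensional: a k-vector space with a
G-module structure (points of G with values in a k-algebra B act B-linearly on B ⊗ M, naturally in
B) such that every vector lies in a finite-dimensional subspace N with B ⊗ N stable under all
B-points of G. If the representation is faithful, in the sense that every rational point of G acting
as the identity on M is the identity element, then G is affine. -/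
theorem result (k : Type u) [Field k] [IsAlgClosed k]
    (G : Over (Spec (CommRingCat.of k))) [GrpObj G] [Smooth G.hom] [QuasiCompact G.hom]
    (M : Type u) [AddCommGroup M] [Module k M] (m : VecGrp.GMod G M)
    (hlf : ∀ v : M, ∃ N : Submodule k M, v ∈ N ∧ Module.Finite k ↥N ∧
      ∀ (B : Type u) [CommRing B] [Algebra k B] (g : VecGrp.pt k B ⟶ G) (x : VecGrp.W k M B),
        x ∈ Submodule.baseChange B N → m.ρ B g x ∈ Submodule.baseChange B N)
    (hfaith : ∀ g : VecGrp.pt k k ⟶ G, m.ρ k g = 1 → g = 1) :
    IsAffine G.left := by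
  obtain ⟨_, _⟩ := GrpSch.AffEnv.exists_grpObj G
  haveI : IsSeparated G.hom := GrpSch.SepPoints.isSeparated_grp G
  obtain ⟨K, _, n, _, _, _, _, hK, hKn⟩ := GrpSch.AntiPart.exists_ker G
  haveI : IsSeparated K.hom := GrpSch.SepPoints.isSeparated_grp K
  -- the anti-affine part has no rational points besides the unit
  have hpt : ∀ g : 𝟙_ (Over (Spec (CommRingCat.of k))) ⟶ K, g = η[K] := by
    intro g
    let one' : VecGrp.pt k k ⟶ 𝟙_ (Over (Spec (CommRingCat.of k))) := Over.homMk (𝟙 _) (by
      change 𝟙 _ ≫ 𝟙 _ = Spec.map (CommRingCat.ofHom (RingHom.id k))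
      rw [Category.id_comp, CommRingCat.ofHom_id, Spec.map_id])
    have key : ∀ (v : M) (g₁ g₂ : 𝟙_ (Over (Spec (CommRingCat.of k))) ⟶ K) (lam : M →ₗ[k] k),
        TensorProduct.rid k k (lam.lTensor k (m.ρ k (one' ≫ g₁ ≫ n) (1 ⊗ₜ[k] v))) =
          TensorProduct.rid k k (lam.lTensor k (m.ρ k (one' ≫ g₂ ≫ n) (1 ⊗ₜ[k] v))) := by
      intro v g₁ g₂ lam
      obtain ⟨C, hC, hCk⟩ := exists_coeff m lam v
      obtain ⟨P₀, p₀, hP, _, _, _⟩ := GrpSch.AffThm.exists_affine_cover (G := K)
      haveI := hP
      let P : Over (Spec (CommRingCat.of k)) := Over.mk (p₀ ≫ K.hom)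
      haveI : IsAffine P.left := hP
      let p : P ⟶ K := Over.homMk p₀ rfl
      haveI : Flat p.left := ‹Flat p₀›
      haveI : Surjective p.left := ‹Surjective p₀›
      haveI : LocallyOfFinitePresentation p.left := ‹LocallyOfFinitePresentation p₀›
      obtain ⟨x, hx⟩ := GrpSch.LinearAction.exists_coords (n := 1) (fun _ => C P (p ≫ n))
      obtain ⟨z, hz, -⟩ := GrpSch.Desc.exists_desc p x (fun S a b hab => by
        apply Over.OverMorphism.ext
        refine Scheme.Cover.hom_ext S.left.affineCover _ _ fun c => ?_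
        let U : Over (Spec (CommRingCat.of k)) := Over.mk (S.left.affineCover.f c ≫ S.hom)
        let r : U ⟶ S := Over.homMk (S.left.affineCover.f c) rfl
        haveI : IsAffine U.left := inferInstanceAs (IsAffine (Spec _))
        suffices (r ≫ a) ≫ x = (r ≫ b) ≫ x by
          have := congrArg (fun φ => φ.left) this
          simpa [r] using this
        refine GrpSch.LinearAction.ext_coords ?_
        rw [GrpSch.LinearAction.coords_comp, GrpSch.LinearAction.coords_comp, hx]
        funext i
        change (r ≫ a).left.appTop.hom (C P (p ≫ n)) = (r ≫ b).left.appTop.hom (C P (p ≫ n))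
        rw [← hC, ← hC, Category.assoc, Category.assoc, ← Category.assoc a p n, hab, Category.assoc])
      obtain ⟨y, hy⟩ := GrpSch.AntiHom.exists_eq_toUnit_comp K _ hK z
      have hval : ∀ g₀ : 𝟙_ (Over (Spec (CommRingCat.of k))) ⟶ K,
          TensorProduct.rid k k (lam.lTensor k (m.ρ k (one' ≫ g₀ ≫ n) (1 ⊗ₜ[k] v))) =
            (Scheme.ΓSpecIso (CommRingCat.of k)).hom.hom
              (GrpSch.LinearAction.coords (one' ≫ y) 0) := by
        intro g₀
        haveI : LocallyOfFiniteType P.hom := inferInstanceAs (LocallyOfFiniteType (p₀ ≫ K.hom))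
        haveI : JacobsonSpace ↥P.left := LocallyOfFiniteType.jacobsonSpace P.hom
        have hcl : IsClosed ({g₀.left (IsLocalRing.closedPoint k)} : Set K.left) := by
          haveI : IsClosedImmersion (g₀.left ≫ K.hom) := by
            rw [Over.w g₀]
            exact inferInstanceAs (IsClosedImmersion (𝟙 (Spec (CommRingCat.of k))))
          haveI : IsClosedImmersion g₀.left := IsClosedImmersion.of_comp g₀.left K.hom
          have : Set.range g₀.left = {g₀.left (IsLocalRing.closedPoint k)} :=
            Set.eq_singleton_iff_unique_mem.2 ⟨⟨_, rfl⟩, by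
              rintro _ ⟨t, rfl⟩
              exact congrArg _ (Subsingleton.elim (α := ↥(Spec (CommRingCat.of k))) _ _)⟩
          rw [← this]; exact g₀.left.isClosedEmbedding.isClosed_range
        obtain ⟨c, hc, hcc⟩ := nonempty_inter_closedPoints (Z := p.left ⁻¹' {g₀.left (IsLocalRing.closedPoint k)})
          (p.left.surjective _) (hcl.preimage p.left.continuous).isLocallyClosed
        let e : VecGrp.pt k k ⟶ P := one' ≫ Over.homMk (pointOfClosedPoint P.hom c hcc) (pointOfClosedPoint_comp _ _ _)
        have he : e ≫ p = one' ≫ g₀ := by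
          rw [Category.assoc]
          congr 1
          apply Over.OverMorphism.ext
          let q : 𝟙_ (Over (Spec (CommRingCat.of k))) ⟶ K :=
            Over.homMk (pointOfClosedPoint P.hom c hcc) (pointOfClosedPoint_comp _ _ _) ≫ p
          change q.left = g₀.left
          haveI : IsReduced (𝟙_ (Over (Spec (CommRingCat.of k)))).left := inferInstanceAs (IsReduced (Spec _))
          haveI : LocallyOfFiniteType (q.left ≫ K.hom) := by
            rw [Over.w]; exact inferInstanceAs (LocallyOfFiniteType (𝟙 (Spec (CommRingCat.of k))))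
          refine ext_of_apply_eq K.hom Set.univ isOpen_univ.isLocallyClosed dense_univ ?_ ?_
          · intro w _ _
            rw [Subsingleton.elim (α := ↥(Spec (CommRingCat.of k))) w (IsLocalRing.closedPoint k)]
            change p.left (pointOfClosedPoint P.hom c hcc _) = _
            rw [pointOfClosedPoint_apply]
            exact hc
          · rw [Over.w, Over.w]
        rw [← Category.assoc, ← he, Category.assoc, hCk]
        congr 1
        change e.left.appTop.hom (C P (p ≫ n)) = _
        have : e ≫ x = one' ≫ y := by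
          rw [← hz, ← hy, ← Category.assoc, ← Category.assoc, he, Category.assoc one' g₀,
            toUnit_unique (g₀ ≫ toUnit K) (𝟙 _), Category.comp_id]
        rw [← this, GrpSch.LinearAction.coords_comp, hx]
        rfl
      rw [hval, hval]
    have hρ : m.ρ k (one' ≫ g ≫ n) = 1 := by
      have h1 : one' ≫ η[K] ≫ n = 1 := by
        rw [IsMonHom.one_hom, ← Category.id_comp η[G], toUnit_unique (𝟙 (𝟙_ _)) (toUnit _), ← Hom.one_def,
          MonObj.comp_one]
      apply LinearEquiv.toLinearMap_injective
      apply TensorProduct.AlgebraTensorModule.ext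
      intro r v
      have hd : ∀ w : k ⊗[k] M, r • w = r • w := fun _ => rfl
      suffices m.ρ k (one' ≫ g ≫ n) (1 ⊗ₜ[k] v) = 1 ⊗ₜ[k] v by
        have h2 := congrArg (fun w => r • w) this
        simp only [← LinearEquiv.map_smul, TensorProduct.smul_tmul', smul_eq_mul, _root_.mul_one] at h2
        exact h2
      rw [← (TensorProduct.lid k M).injective.eq_iff, ← sub_eq_zero, ← Module.forall_dual_apply_eq_zero_iff k]
      intro lam
      have h3 := key v g η[K] lam
      rw [h1, map_one] at h3
      have h4 : ∀ w : k ⊗[k] M, lam (TensorProduct.lid k M w) = TensorProduct.rid k k (lam.lTensor k w) := by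
        intro w
        induction w using TensorProduct.induction_on with
        | zero => simp
        | tmul a b => simp [mul_comm]
        | add a b ha hb => simp only [map_add, ha, hb]
      rw [map_sub, sub_eq_zero, h4, h4]
      exact h3
    have hg := hfaith _ hρ
    haveI : IsIso one' := by
      haveI : IsIso ((Over.forget _).map one') := inferInstanceAs (IsIso (𝟙 _))
      exact isIso_of_reflects_iso one' (Over.forget _)
    rw [← MonObj.comp_one one', cancel_epi] at hg
    haveI : Mono n := (Over.forget _).mono_of_mono_map (show Mono n.left from inferInstance)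
    rw [← cancel_mono n, hg, IsMonHom.one_hom, Hom.one_def, toUnit_unique (toUnit (𝟙_ _)) (𝟙 _), Category.id_comp]
  -- so it is trivial
  haveI : Smooth K.hom := GrpSch.AntiSmooth.smooth K hK
  haveI : IsReduced K.left := Groth.Agent.SmoothReduced.isReduced_of_smooth_scheme K.hom
  haveI : JacobsonSpace ↥K.left := LocallyOfFiniteType.jacobsonSpace K.hom
  haveI : IsClosedImmersion η[K].left := by
    haveI : IsClosedImmersion (η[K].left ≫ K.hom) := by
      rw [Over.w η[K]]
      exact inferInstanceAs (IsClosedImmersion (𝟙 (Spec (CommRingCat.of k))))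
    exact IsClosedImmersion.of_comp η[K].left K.hom
  haveI : Surjective η[K].left := by
    refine ⟨fun x => ?_⟩
    by_contra hx
    obtain ⟨c, hc, hcc⟩ := nonempty_inter_closedPoints (Z := (Set.range η[K].left)ᶜ) ⟨x, hx⟩
      η[K].left.isClosedEmbedding.isClosed_range.isOpen_compl.isLocallyClosed
    refine hc ⟨IsLocalRing.closedPoint k, ?_⟩
    rw [← hpt (Over.homMk (pointOfClosedPoint K.hom c hcc) (pointOfClosedPoint_comp _ _ _))]
    exact pointOfClosedPoint_apply _ _ _ _
  haveI := isIso_of_isClosedImmersion_of_surjective η[K].left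
  haveI : IsIso ((Over.forget _).map η[K]) := ‹IsIso η[K].left›
  haveI : IsIso η[K] := isIso_of_reflects_iso η[K] (Over.forget _)
  haveI : Mono (GrpSch.AffEnv.toAff G) := ⟨fun {T} a b hab => by
    obtain ⟨l, hl⟩ := (hKn T (a⁻¹ * b)).2 (by rw [MonObj.mul_comp, GrpObj.inv_comp, hab, inv_mul_cancel])
    have : l = toUnit T ≫ η[K] := by
      rw [toUnit_unique (toUnit T) (l ≫ inv η[K]), Category.assoc, IsIso.inv_hom_id, Category.comp_id]
    rw [this, ← Hom.one_def, MonObj.one_comp] at hl
    exact inv_mul_eq_one.1 hl.symm⟩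
  haveI : Mono (GrpSch.AffEnv.toAff G).left := Over.mono_left_of_mono _
  exact GrpSch.QuasiAffineGrp.isAffine_of_mono G (GrpSch.AffEnv.toAff G)

end Groth.Agent.S11416
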