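import Groth.Statements.S11418


set_option autoImplicit false
universe u
open CategoryTheory MonoidalCategory CartesianMonoidalCategory MonObj GrpObj AlgebraicGeometry CategoryTheory.Limits
open AlgGrp

namespace Groth.Agent.S11418

lemma lift_mul_act {B : Scheme.{u}} {G X S : Over B} [GrpObj G] (a : AlgGrp.Action G X)
    (g h : S ⟶ G) (x : S ⟶ X) :
    lift (g * h) x ≫ a.act = lift g (lift h x ≫ a.act) ≫ a.act := by
  have := congrArg (lift (lift g h) x ≫ ·) a.mul_act
  simpa [Hom.mul_def, lift_whiskerRight_assoc, lift_lift_associator_hom_assoc, lift_whiskerLeft_assoc] using this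

/-- Over an algebraically closed field k, let G be an affine algebraic group (smooth affine k-group
scheme of finite type) and π : X → Y a principal G-bundle of k-schemes of finite type: G acts on X,
π is G-invariant, faithfully flat, and the square formed by the action, the second projection G × X
→ X and π is cartesian. Then the map θ sending a G-equivariant morphism f : X → G (for the
conjugation action on G, i.e. f(g·x) = g f(x) g⁻¹ on points) to the automorphism x ↦ f(x)·x is a
bijection onto the bundle automorphisms: every G-equivariant automorphism φ of X with π ∘ φ = π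
equals θ(f) for exactly one such f. -/
theorem result (k : Type u) [Field k] [IsAlgClosed k]
    (G X Y : Over (Spec (CommRingCat.of k))) [GrpObj G] [Smooth G.hom] [QuasiCompact G.hom] [IsAffine G.left]
    [LocallyOfFiniteType X.hom] [QuasiCompact X.hom] [LocallyOfFiniteType Y.hom] [QuasiCompact Y.hom]
    (a : AlgGrp.Action G X) (π : X ⟶ Y) (hinv : a.act ≫ π = snd G X ≫ π) [Flat π.left] [Surjective π.left]
    (hcart : IsPullback (snd G X) a.act π π)
    (φ : X ≅ X) (hφ : φ.hom ≫ π = π) (hφeq : (G ◁ φ.hom) ≫ a.act = a.act ≫ φ.hom) :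
    ∃! f : X ⟶ G, (∀ (S : Over (Spec (CommRingCat.of k))) (g : S ⟶ G) (x : S ⟶ X),
        lift g x ≫ a.act ≫ f = g * (x ≫ f) * g⁻¹) ∧ φ.hom = lift f (𝟙 X) ≫ a.act := by
  have hinv' : ∀ (S : Over (Spec (CommRingCat.of k))) (g : S ⟶ G) (x : S ⟶ X),
      (lift g x ≫ a.act) ≫ π = x ≫ π := fun S g x => by
    rw [Category.assoc, hinv, lift_snd_assoc]
  have hinj : ∀ (S : Over (Spec (CommRingCat.of k))) (g g' : S ⟶ G) (x : S ⟶ X),
      lift g x ≫ a.act = lift g' x ≫ a.act → g = g' := fun S g g' x h => by
    have := hcart.hom_ext (show lift g x ≫ snd G X = lift g' x ≫ snd G X by simp) h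
    simpa using congrArg (· ≫ fst G X) this
  let p := hcart.lift (𝟙 X) φ.hom (by rw [Category.id_comp, hφ])
  have hp1 : p ≫ snd G X = 𝟙 X := hcart.lift_fst _ _ _
  have hp2 : p ≫ a.act = φ.hom := hcart.lift_snd _ _ _
  have hp : lift (p ≫ fst G X) (𝟙 X) = p := by
    apply CartesianMonoidalCategory.hom_ext
    · simp
    · simpa using hp1.symm
  refine ⟨p ≫ fst G X, ⟨fun S g x => ?_, by rw [hp, hp2]⟩, fun f' hf' => ?_⟩
  · let y := lift g x ≫ a.act
    have key : ∀ (z : S ⟶ X), lift (z ≫ p ≫ fst G X) z ≫ a.act = z ≫ φ.hom := fun z => by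
      have : lift (z ≫ p ≫ fst G X) z = z ≫ p := by
        rw [← hp, comp_lift, Category.comp_id, hp]
      rw [this, Category.assoc, hp2]
    rw [← Category.assoc]
    refine hinj S _ _ y ?_
    rw [key y]
    have e : y ≫ φ.hom = lift g (x ≫ φ.hom) ≫ a.act := by
      simp only [y, Category.assoc, ← hφeq, lift_whiskerLeft_assoc]
    rw [e, ← key x]
    simp only [y]
    rw [← lift_mul_act a, ← lift_mul_act a, inv_mul_cancel_right]
  · refine hinj X f' _ (𝟙 X) ?_
    rw [← hf'.2, hp, hp2]

end Groth.Agent.S11418
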