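import Groth.Statements.S11420
import Groth.Agent.GrpSch.Blanchard
import Groth.Agent.GrpSch.ProperConst
import Groth.Agent.GrpSch.Irred
import Groth.Agent.GrpSch.ConstFib
import Groth.Agent.GeomRed.Scheme

set_option autoImplicit false
universe u
open CategoryTheory MonoidalCategory CartesianMonoidalCategory MonObj GrpObj AlgebraicGeometry CategoryTheory.Limits
open AlgGrp

open Groth.Agent Groth.Agent.GrpSch
namespace Groth.Agent.S11420

/-- Over an algebraically closed field k, let X and Y be complete varieties (proper, integral, separated
k-schemes of finite type) and let a connected k-group scheme of finite type G act on X × Y. Then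
there are unique actions of G on X and on Y such that the given action is the product action g·(x,
y) = (g·x, g·y). (This is the form, for actions of connected group schemes, of the identification of
the neutral component of the automorphism group scheme of X × Y with the product of those of X and
Y; the representability of these group schemes is not asserted here.) -/
theorem result (k : Type u) [Field k] [IsAlgClosed k]
    (G X Y : Over (Spec (CommRingCat.of k))) [GrpObj G] [LocallyOfFiniteType G.hom] [QuasiCompact G.hom] [ConnectedSpace ↥G.left]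
    [IsProper X.hom] [IsIntegral X.left]
    [IsProper Y.hom] [IsIntegral Y.left]
    (a : AlgGrp.Action G (X ⊗ Y)) :
    ∃ (b : AlgGrp.Action G X) (c : AlgGrp.Action G Y),
      a.act = lift ((G ◁ fst X Y) ≫ b.act) ((G ◁ snd X Y) ≫ c.act) ∧
      ∀ (b' : AlgGrp.Action G X) (c' : AlgGrp.Action G Y),
        a.act = lift ((G ◁ fst X Y) ≫ b'.act) ((G ◁ snd X Y) ≫ c'.act) → b' = b ∧ c' = c := by
  have key : ∀ (P : Over (Spec (CommRingCat.of k))) [IsProper P.hom] [IsIntegral P.left],
      Contraction.IsConn P.hom := fun P _ _ V => by
    haveI : GeometricallyIrreducible P.hom := Irred.geometricallyIrreducible_of_isAlgClosed P.hom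
    haveI : GeometricallyReduced P.hom := GeomRed.geometricallyReduced_of_perfectField P.hom
    have hb := ProperConst.bijective_appTop P.hom
    haveI : IsIso P.hom.appTop := by
      haveI : IsIso ((Scheme.ΓSpecIso (CommRingCat.of k)).inv ≫ P.hom.appTop) :=
        (ConcreteCategory.isIso_iff_bijective _).2 hb
      exact IsIso.of_isIso_comp_left (Scheme.ΓSpecIso (CommRingCat.of k)).inv P.hom.appTop
    rcases V.eq_bot_or_top with rfl | rfl
    · exact Limits.isIso_of_isTerminal (Spec (CommRingCat.of k)).sheaf.isTerminalOfEmpty
        (P.left.sheaf.isTerminalOfEqEmpty (P.hom.preimage_bot)) _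
    · exact ‹IsIso P.hom.appTop›
  have hfst : ∀ (P Q : Over (Spec (CommRingCat.of k))) [IsProper Q.hom] [IsIntegral Q.left],
      Contraction.IsConn (fst P Q).left ∧ IsProper (fst P Q).left := fun P Q _ _ => by
    have H : IsPullback (snd P Q).left (fst P Q).left Q.hom P.hom := (IsPullback.of_hasPullback P.hom Q.hom).flip
    haveI : Flat P.hom := inferInstance
    exact ⟨Contraction.baseChange (key Q) H, MorphismProperty.of_isPullback (P := @IsProper) H ‹_›⟩
  have hsnd : ∀ (P Q : Over (Spec (CommRingCat.of k))) [IsProper P.hom] [IsIntegral P.left],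
      Contraction.IsConn (snd P Q).left ∧ IsProper (snd P Q).left := fun P Q _ _ => by
    have H : IsPullback (fst P Q).left (snd P Q).left P.hom Q.hom := IsPullback.of_hasPullback P.hom Q.hom
    haveI : Flat Q.hom := inferInstance
    exact ⟨Contraction.baseChange (key P) H, MorphismProperty.of_isPullback (P := @IsProper) H ‹_›⟩
  obtain ⟨h1, _⟩ := hfst X Y
  obtain ⟨h2, _⟩ := hsnd X Y
  obtain ⟨b, hb, hbu⟩ := Blanchard.existsUnique_of_const (fst X Y) h1 a (Blanchard.const_of_connected (fst X Y) h1 a)
  obtain ⟨c, hc, hcu⟩ := Blanchard.existsUnique_of_const (snd X Y) h2 a (Blanchard.const_of_connected (snd X Y) h2 a)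
  refine ⟨b, c, ?_, fun b' c' h => ⟨hbu b' ?_, hcu c' ?_⟩⟩
  · apply CartesianMonoidalCategory.hom_ext
    · rw [lift_fst]; exact hb.symm
    · rw [lift_snd]; exact hc.symm
  · dsimp only; rw [h, lift_fst]
  · dsimp only; rw [h, lift_snd]

end Groth.Agent.S11420
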