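import Groth.Statements.S11421
import Groth.Agent.GrpSch.AntiAffine
import Groth.Agent.GrpSch.Points

set_option autoImplicit false
universe u
open CategoryTheory MonoidalCategory CartesianMonoidalCategory MonObj GrpObj AlgebraicGeometry CategoryTheory.Limits
open AlgGrp

namespace Groth.Agent.S11421

/-- Over an algebraically closed field k, let G be an algebraic group (smooth k-group scheme of finite
type) whose only global functions are the constants, H a connected algebraic group, S a connected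
k-scheme of finite type and f : G × S → H a morphism of k-schemes. Then there are a unique
k-morphism φ : S → H and a unique homomorphism ψ : G → H with f(g, s) = φ(s) · ψ(g) on points. (This
is the decomposition, over a connected base, behind the identification of the functor of morphisms
from G to H with H × Hom_gp(G, H); the published statement is the equivalence of representability of
that functor with anti-affineness of G, whose converse direction is not stated here.) -/
theorem result (k : Type u) [Field k] [IsAlgClosed k]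
    (G H S : Over (Spec (CommRingCat.of k))) [GrpObj G] [Smooth G.hom] [QuasiCompact G.hom]
    (hG : Function.Bijective ((Scheme.ΓSpecIso (CommRingCat.of k)).inv ≫ G.hom.appTop).hom)
    [GrpObj H] [Smooth H.hom] [QuasiCompact H.hom] [ConnectedSpace ↥H.left]
    [LocallyOfFiniteType S.hom] [QuasiCompact S.hom] [ConnectedSpace ↥S.left]
    (f : G ⊗ S ⟶ H) :
    ∃ (φ : S ⟶ H) (ψ : G ⟶ H), IsMonHom ψ ∧ f = (snd G S ≫ φ) * (fst G S ≫ ψ) ∧
      ∀ (φ' : S ⟶ H) (ψ' : G ⟶ H), IsMonHom ψ' → f = (snd G S ≫ φ') * (fst G S ≫ ψ') → φ' = φ ∧ ψ' = ψ := by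
  haveI := Groth.Agent.GrpSch.SepPoints.isSeparated_grp H
  haveI := Groth.Agent.GrpSch.Rigidity.isLocallyNoetherian_left S
  haveI := Groth.Agent.GrpSch.Rigidity.isLocallyNoetherian_left G
  obtain ⟨s₀, -⟩ := Groth.Agent.GrpSch.exists_ratPoint_mem S (U := Set.univ) isOpen_univ Set.univ_nonempty
  let φ : S ⟶ H := lift 1 (𝟙 S) ≫ f
  let ψ : G ⟶ H := (toUnit G ≫ s₀ ≫ φ)⁻¹ * (lift (𝟙 G) (toUnit G ≫ s₀) ≫ f)
  have hone : ∀ T : Over (Spec (CommRingCat.of k)), (1 : T ⟶ G) ≫ ψ = 1 := fun T => by
    simp only [ψ, φ, MonObj.comp_mul, GrpObj.comp_inv, ← Category.assoc, comp_lift, MonObj.comp_one,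
      Category.comp_id, toUnit_unique ((1 : T ⟶ G) ≫ toUnit G) (toUnit T)]
    exact inv_mul_cancel _
  have hψ : IsMonHom ψ := Groth.Agent.GrpSch.Rigidity.isMonHom_of_one G H hG ψ (by
    rw [show η[G] = (1 : 𝟙_ (Over (Spec (CommRingCat.of k))) ⟶ G) from Groth.Agent.GrpSch.eq_one_unit,
      hone, ← Groth.Agent.GrpSch.eq_one_unit])
  haveI := hψ
  let F : G ⊗ S ⟶ H := (snd G S ≫ φ)⁻¹ * f * (fst G S ≫ ψ)⁻¹
  have hcomp : ∀ (T : Over (Spec (CommRingCat.of k))) (a : T ⟶ G) (b : T ⟶ S),
      lift a b ≫ F = (b ≫ φ)⁻¹ * (lift a b ≫ f) * (a ≫ ψ)⁻¹ := fun T a b => by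
    simp only [F, MonObj.comp_mul, GrpObj.comp_inv, ← Category.assoc, lift_fst, lift_snd]
  have hrig := Groth.Agent.GrpSch.Rigidity.rigidity G S H hG η[G] s₀ F η[H] (by
    have hl : (G ◁ s₀) = lift (fst G (𝟙_ _)) (toUnit _ ≫ s₀) := by
      apply CartesianMonoidalCategory.hom_ext
      · simp
      · rw [whiskerLeft_snd, lift_snd, toUnit_unique (toUnit _) (snd G (𝟙_ _))]
    rw [hl, hcomp, ← Hom.one_def]
    simp only [ψ, MonObj.comp_mul, GrpObj.comp_inv, ← Category.assoc, comp_lift, Category.comp_id,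
      toUnit_unique (fst G (𝟙_ (Over (Spec (CommRingCat.of k)))) ≫ toUnit G) (toUnit _)]
    exact mul_inv_cancel _)
  have hF : F = 1 := by
    rw [hrig, ← Hom.one_def, hcomp, Category.id_comp, hone, inv_one, _root_.mul_one, inv_mul_cancel,
      MonObj.comp_one]
  refine ⟨φ, ψ, hψ, ?_, fun φ1 ψ1 h1 hf1 => ?_⟩
  · simp only [F] at hF
    rwa [mul_inv_eq_one, inv_mul_eq_iff_eq_mul] at hF
  · haveI := h1
    have hφ : φ1 = φ := by
      simp only [φ]
      rw [hf1, MonObj.comp_mul, ← Category.assoc, ← Category.assoc, lift_fst, lift_snd,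
        Category.id_comp, MonObj.one_comp, _root_.mul_one]
    subst hφ
    refine ⟨rfl, ?_⟩
    simp only [ψ]
    rw [hf1, MonObj.comp_mul]
    simp only [← Category.assoc, lift_fst, lift_snd, Category.id_comp]
    simp [φ]

end Groth.Agent.S11421
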