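import Groth.Statements.S11423
import Groth.Agent.GrpSch.AffEnv
import Groth.Agent.GrpSch.AntiHom
import Groth.Agent.GrpSch.BundleMap
import Groth.Agent.GrpSch.Desc
import Groth.Agent.GrpSch.Points
import Groth.Agent.GITQuot.Fppf
import Groth.Agent.GITQuot.Torsor
import Groth.Agent.LimSch.DVRProper

set_option backward.isDefEq.respectTransparency.types false

set_option autoImplicit false
universe u
open CategoryTheory MonoidalCategory CartesianMonoidalCategory MonObj GrpObj AlgebraicGeometry CategoryTheory.Limits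
open AlgGrp

namespace Groth.Agent.S11423Aux

open CategoryTheory MonoidalCategory CartesianMonoidalCategory MonObj GrpObj AlgebraicGeometry

variable {k : Type u} [Field k]

/-- a morphism to an affine scheme from `H ⊗ E`, `E` anti-affine, does not depend on the point of `E` -/
theorem indep {H E Z : Over (Spec (CommRingCat.of k))} [IsAffine H.left] [IsAffine Z.left]
    [CompactSpace E.left] [QuasiSeparatedSpace E.left]
    (hE : Function.Bijective ((Scheme.ΓSpecIso (CommRingCat.of k)).inv ≫ E.hom.appTop).hom)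
    (F : H ⊗ E ⟶ Z) {T : Over (Spec (CommRingCat.of k))} (h : T ⟶ H) (e e' : T ⟶ E) :
    lift h e ≫ F = lift h e' ≫ F := by
  haveI := GrpSch.AntiHom.isIso_toUnit_appTop E hE
  haveI : IsAffine (𝟙_ (Over (Spec (CommRingCat.of k)))).left := inferInstanceAs (IsAffine (Spec _))
  haveI : IsIso (𝟙 H : H ⟶ H).left.appTop := by
    rw [Over.id_left, Scheme.Hom.id_appTop]; infer_instance
  haveI : IsIso ((𝟙 H) ⊗ₘ toUnit E).left.appTop := GrpSch.AffEnv.isIso_tensor_appTop _ _
  haveI : IsAffine (H ⊗ 𝟙_ (Over (Spec (CommRingCat.of k)))).left := GrpSch.AffEnv.isAffine_tensor _ _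
  obtain ⟨g, hg, -⟩ := GrpSch.AffEnv.existsUnique_desc ((𝟙 H) ⊗ₘ toUnit E) F
  rw [← hg]
  simp only [← Category.assoc, lift_map, Category.comp_id, comp_toUnit]

end Groth.Agent.S11423Aux

namespace Groth.Agent.S11423

/-- Over an algebraically closed field k, let G be a connected affine algebraic group (smooth, affine,
connected k-group scheme of finite type), A an abelian variety (proper, smooth, connected k-group
scheme) and π : X → A a principal G-bundle of k-schemes of finite type (G acts on X, π is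
G-invariant and faithfully flat, and the square formed by the action, the second projection and π is
cartesian). Suppose π is trivialized by an anti-affine extension of A: there are an algebraic group
𝒢 whose only global functions are the constants, a flat surjective homomorphism φ : 𝒢 → A with
affine kernel, and a morphism σ : 𝒢 → X with π ∘ σ = φ (a section of the pulled-back bundle). Then π
is homogeneous: for every rational point a of A there is a G-equivariant automorphism of X over the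
translation of A by a. (The published statement is the equivalence; only this direction is stated
here.) -/
theorem result (k : Type u) [Field k] [IsAlgClosed k]
    (G X A : Over (Spec (CommRingCat.of k))) [GrpObj G] [Smooth G.hom] [QuasiCompact G.hom] [IsAffine G.left] [ConnectedSpace ↥G.left]
    [LocallyOfFiniteType X.hom] [QuasiCompact X.hom]
    [GrpObj A] [IsProper A.hom] [Smooth A.hom] [ConnectedSpace ↥A.left]
    (a : AlgGrp.Action G X) (π : X ⟶ A) (hinv : a.act ≫ π = snd G X ≫ π) [Flat π.left] [Surjective π.left]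
    (hcart : IsPullback (snd G X) a.act π π)
    (E : Over (Spec (CommRingCat.of k))) [GrpObj E] [Smooth E.hom] [QuasiCompact E.hom]
    (hE : Function.Bijective ((Scheme.ΓSpecIso (CommRingCat.of k)).inv ≫ E.hom.appTop).hom)
    (φ : E ⟶ A) [IsMonHom φ] [Flat φ.left] [Surjective φ.left]
    (Hk : Over (Spec (CommRingCat.of k))) [GrpObj Hk] (h : Hk ⟶ E) [IsMonHom h] (hk : AlgGrp.IsKernel h φ) [IsAffine Hk.left]
    (σ : E ⟶ X) (hσ : σ ≫ π = φ)
    (t : 𝟙_ (Over (Spec (CommRingCat.of k))) ⟶ A) :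
    ∃ ψ : X ≅ X, (G ◁ ψ.hom) ≫ a.act = a.act ≫ ψ.hom ∧
      ψ.hom ≫ π = π ≫ (lift (𝟙 A) (toUnit A ≫ t) ≫ μ[A]) := by
  haveI : CompactSpace E.left := QuasiCompact.compactSpace_of_compactSpace E.hom
  haveI : QuasiSeparatedSpace E.left := GrpSch.AffEnv.quasiSeparatedSpace_left (G := E)
  -- free transitivity
  have hfree : ∀ {T : Over (Spec (CommRingCat.of k))} (g g' : T ⟶ G) (x : T ⟶ X),
      lift g x ≫ a.act = lift g' x ≫ a.act → g = g' := fun {T} g g' x e => by
    have := hcart.hom_ext (W := T) (k := lift g x) (l := lift g' x) (by simp) e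
    simpa using congrArg (fun m => m ≫ fst G X) this
  have hσ' : ∀ {T : Over (Spec (CommRingCat.of k))} (e : T ⟶ E), (e ≫ σ) ≫ π = e ≫ φ := fun {T} e => by
    rw [Category.assoc, hσ]
  have hker : h ≫ φ = 1 := hk.w
  have hw : (snd Hk E ≫ σ) ≫ π = (((fst Hk E ≫ h) * snd Hk E) ≫ σ) ≫ π := by
    rw [hσ', hσ', MonObj.mul_comp, Category.assoc, hker, MonObj.comp_one, _root_.one_mul]
  let c : Hk ⊗ E ⟶ G := hcart.lift (snd Hk E ≫ σ) (((fst Hk E ≫ h) * snd Hk E) ≫ σ) hw ≫ fst G X
  have hc : lift c (snd Hk E ≫ σ) ≫ a.act = ((fst Hk E ≫ h) * snd Hk E) ≫ σ := by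
    have e : lift c (snd Hk E ≫ σ) = hcart.lift (snd Hk E ≫ σ) (((fst Hk E ≫ h) * snd Hk E) ≫ σ) hw := by
      apply CartesianMonoidalCategory.hom_ext
      · simp [c]
      · rw [lift_snd, hcart.lift_fst]
    rw [e]
    exact hcart.lift_snd _ _ _
  have hcT : ∀ {T : Over (Spec (CommRingCat.of k))} (n : T ⟶ Hk) (e : T ⟶ E),
      lift (lift n e ≫ c) (e ≫ σ) ≫ a.act = ((n ≫ h) * e) ≫ σ := fun {T} n e => by
    have := congrArg (fun m => lift n e ≫ m) hc
    simpa only [← Category.assoc, comp_lift, lift_fst, lift_snd, MonObj.comp_mul] using this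
  obtain ⟨q, hqdef⟩ : ∃ q : G ⊗ E ⟶ X, q = (G ◁ σ) ≫ a.act := ⟨_, rfl⟩
  have hq : ∀ {T : Over (Spec (CommRingCat.of k))} (g : T ⟶ G) (e : T ⟶ E),
      lift g e ≫ q = lift g (e ≫ σ) ≫ a.act := fun {T} g e => by rw [hqdef, lift_whiskerLeft_assoc]
  have hqπ : ∀ {T : Over (Spec (CommRingCat.of k))} (g : T ⟶ G) (x : T ⟶ X),
      (lift g x ≫ a.act) ≫ π = x ≫ π := fun {T} g x => by
    rw [Category.assoc, hinv, lift_snd_assoc]
  have hpq : IsPullback (snd G E).left q.left φ.left π.left := by
    have h1 := (GrpSch.BundleMap.isPullback_whiskerLeft_snd G σ).flip.paste_vert (hcart.map (Over.forget _))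
    have h2 : (G ◁ σ).left ≫ a.act.left = q.left := by rw [hqdef]; rfl
    have h3 : σ.left ≫ π.left = φ.left := congrArg CommaMorphism.left hσ
    have h4 : IsPullback (snd G E).left ((G ◁ σ).left ≫ a.act.left) (σ.left ≫ π.left) π.left := h1
    rwa [h2, h3] at h4
  haveI : LocallyOfFiniteType A.hom := inferInstance
  haveI : LocallyOfFinitePresentation φ.left := GITQuot.locallyOfFinitePresentation_of_field φ
  haveI : Flat q.left := MorphismProperty.of_isPullback hpq ‹Flat φ.left›
  haveI : Surjective q.left := MorphismProperty.of_isPullback hpq ‹Surjective φ.left›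
  haveI : LocallyOfFinitePresentation q.left := MorphismProperty.of_isPullback hpq ‹LocallyOfFinitePresentation φ.left›
  haveI : Epi q := GrpSch.Desc.epi_of_effectiveEpi_left q
  haveI : Epi (G ◁ q) := by
    haveI : Flat (G ◁ q).left := GrpSch.Desc.whiskerLeft_prop G q ‹_›
    haveI : Surjective (G ◁ q).left := GrpSch.Desc.whiskerLeft_prop G q ‹_›
    haveI : LocallyOfFinitePresentation (G ◁ q).left := GrpSch.Desc.whiskerLeft_prop G q ‹_›
    exact GrpSch.Desc.epi_of_effectiveEpi_left _
  let m : (𝟙_ (Over (Spec (CommRingCat.of k))) ⟶ E) → (G ⊗ E ⟶ G ⊗ E) := fun r =>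
    lift (fst G E) (snd G E * (toUnit _ ≫ r))
  have hψ : ∀ r : 𝟙_ (Over (Spec (CommRingCat.of k))) ⟶ E, ∃ ψ : X ⟶ X, q ≫ ψ = m r ≫ q := fun r => by
    obtain ⟨ψ, hψ, -⟩ := GrpSch.Desc.exists_desc q (m r ≫ q) (fun T u v huv => by
      obtain ⟨g, e, rfl⟩ : ∃ g e, u = lift g e := ⟨u ≫ fst G E, u ≫ snd G E, by simp [← comp_lift]⟩
      obtain ⟨g', e', rfl⟩ : ∃ g e, v = lift g e := ⟨v ≫ fst G E, v ≫ snd G E, by simp [← comp_lift]⟩
      rw [hq, hq] at huv
      have hφe : e ≫ φ = e' ≫ φ := by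
        have := congrArg (fun z => z ≫ π) huv
        simpa only [hqπ, hσ'] using this
      have hwn : (e' * e⁻¹) ≫ φ = toUnit T ≫ η[A] := by
        rw [MonObj.mul_comp, GrpObj.inv_comp, hφe, mul_inv_cancel, Hom.one_def]
      let n : T ⟶ Hk := hk.lift (e' * e⁻¹) (toUnit T) hwn
      have hn : (n ≫ h) * e = e' := by
        rw [show n ≫ h = e' * e⁻¹ from hk.lift_fst _ _ _, inv_mul_cancel_right]
      have hg : g' * (lift n e ≫ c) = g := hfree _ _ (e ≫ σ) (by
        rw [GITQuot.act_mul_point, hcT, hn, huv])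
      have hm : ∀ (g : T ⟶ G) (e : T ⟶ E), lift g e ≫ m r = lift g (e * (toUnit T ≫ r)) := fun g e => by
        simp only [m, comp_lift, lift_fst, MonObj.comp_mul, lift_snd, comp_toUnit_assoc]
      rw [← Category.assoc, ← Category.assoc, hm, hm, hq, hq]
      have e1 := hcT n (e * (toUnit T ≫ r))
      rw [← _root_.mul_assoc, hn, S11423Aux.indep hE c n (e * (toUnit T ≫ r)) e] at e1
      rw [← e1, ← GITQuot.act_mul_point, hg])
    exact ⟨ψ, hψ⟩
  choose ψ hψ using hψ
  have hm2 : ∀ r r', m r ≫ m r' = m (r * r') := fun r r' => by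
    simp only [m, comp_lift, lift_fst, MonObj.comp_mul, lift_snd, comp_toUnit_assoc, _root_.mul_assoc]
  have hm1 : m 1 = 𝟙 _ := by
    simp only [m, MonObj.comp_one, _root_.mul_one, lift_fst_snd]
  have hψ2 : ∀ r r', r * r' = 1 → ψ r ≫ ψ r' = 𝟙 X := fun r r' e => by
    rw [← cancel_epi q, ← Category.assoc, hψ, Category.assoc, hψ, ← Category.assoc, hm2, e, hm1, Category.id_comp,
      Category.comp_id]
  obtain ⟨r, hr⟩ : ∃ r : 𝟙_ (Over (Spec (CommRingCat.of k))) ⟶ E, r ≫ φ = t := by
    let pt : ↥(Spec (CommRingCat.of k)) := IsLocalRing.closedPoint k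
    haveI : IsClosedImmersion t.left := by
      haveI : IsClosedImmersion (t.left ≫ A.hom) := by
        rw [Over.w t]; exact inferInstanceAs (IsClosedImmersion (𝟙 _))
      exact IsClosedImmersion.of_comp t.left A.hom
    haveI : JacobsonSpace E.left := LocallyOfFiniteType.jacobsonSpace E.hom
    obtain ⟨e₀, he₀⟩ := φ.left.surjective (t.left pt)
    obtain ⟨z, hz, hzc⟩ := nonempty_inter_closedPoints (X := E.left) (Z := φ.left ⁻¹' Set.range t.left)
      ⟨e₀, ⟨pt, he₀.symm⟩⟩ ((t.left.isClosedEmbedding.isClosed_range.preimage φ.left.continuous).isLocallyClosed)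
    obtain ⟨r, hr⟩ := GrpSch.exists_ratPoint E (mem_closedPoints_iff.1 hzc)
    refine ⟨r, ?_⟩
    haveI : AlgebraicGeometry.IsReduced (𝟙_ (Over (Spec (CommRingCat.of k)))).left :=
      inferInstanceAs (AlgebraicGeometry.IsReduced (Spec (CommRingCat.of k)))
    obtain ⟨l, hl⟩ := LimSch.exists_lift_of_range_subset (T := (𝟙_ (Over (Spec (CommRingCat.of k)))).left) t.left (r ≫ φ).left (by
      rintro _ ⟨w, rfl⟩
      have hw' : w = pt := Subsingleton.elim (α := PrimeSpectrum k) _ _
      rw [hw']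
      obtain ⟨v, hv⟩ := hz
      exact ⟨v, hv.trans (congrArg φ.left hr).symm⟩)
    refine Over.OverMorphism.ext ?_
    have := congrArg (fun z => z ≫ A.hom) hl
    simp only [Category.assoc, Over.w] at this
    rw [← hl, show l = 𝟙 _ from (Category.comp_id _).symm.trans (this.trans rfl)]
    exact Category.id_comp _
  refine ⟨⟨ψ r, ψ r⁻¹, hψ2 _ _ (mul_inv_cancel r), hψ2 _ _ (inv_mul_cancel r)⟩, ?_, ?_⟩
  · show (G ◁ ψ r) ≫ a.act = a.act ≫ ψ r
    rw [← cancel_epi (G ◁ q)]
    have hu : ∀ (M : G ⊗ E ⟶ G ⊗ E), (G ◁ (M ≫ q)) ≫ a.act =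
        lift (fst G (G ⊗ E) * (snd G (G ⊗ E) ≫ M ≫ fst G E)) (snd G (G ⊗ E) ≫ M ≫ snd G E) ≫ q := fun M => by
      rw [hq, GITQuot.act_mul_point, ← Category.assoc]
      congr 1
      apply CartesianMonoidalCategory.hom_ext
      · simp
      · simp only [whiskerLeft_snd, lift_snd]
        have eM : lift (M ≫ fst G E) ((M ≫ snd G E) ≫ σ) ≫ a.act = M ≫ q := by
          rw [← hq, ← comp_lift, lift_fst_snd, Category.comp_id]
        rw [← eM, ← Category.assoc, comp_lift]
        simp only [Category.assoc]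
    have h1 : (G ◁ q) ≫ (G ◁ ψ r) ≫ a.act = (G ◁ (m r ≫ q)) ≫ a.act := by
      rw [← MonoidalCategory.whiskerLeft_comp_assoc, hψ]
    have h2 := hu (𝟙 _)
    rw [Category.id_comp] at h2
    have h3 : (G ◁ q) ≫ a.act ≫ ψ r = (lift (fst G (G ⊗ E) * (snd G (G ⊗ E) ≫ fst G E)) (snd G (G ⊗ E) ≫ snd G E) ≫ m r) ≫ q := by
      rw [← Category.assoc, h2, Category.assoc, hψ, Category.id_comp, Category.id_comp, Category.assoc]
    rw [h1, hu, h3]
    congr 1
    simp only [m, comp_lift, lift_fst, MonObj.comp_mul, lift_snd, comp_toUnit_assoc]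
  · show ψ r ≫ π = π ≫ _
    rw [← cancel_epi q, ← Category.assoc, hψ]
    have e0 : ∀ {T : Over (Spec (CommRingCat.of k))} (u : T ⟶ G ⊗ E), (u ≫ q) ≫ π = (u ≫ snd G E) ≫ φ := fun {T} u => by
      simp only [hqdef, Category.assoc, hinv, whiskerLeft_snd_assoc, hσ]
    have e1 := e0 (𝟙 (G ⊗ E))
    rw [Category.id_comp, Category.id_comp] at e1
    rw [e0, ← Category.assoc, e1]
    simp only [m, lift_snd, MonObj.mul_comp, Category.assoc, hr, ← Hom.mul_def, MonObj.comp_mul, Category.comp_id,
      comp_toUnit_assoc]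


end Groth.Agent.S11423
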