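import Groth.Statements.S11438
import Groth.Agent.GrpSch.RigidityNoSection

set_option autoImplicit false
universe u
open CategoryTheory MonoidalCategory CartesianMonoidalCategory MonObj GrpObj AlgebraicGeometry Topology
open GIT

namespace Groth.Agent.S11438

/-- Let S be connected and locally Noetherian, G a locally Noetherian group scheme separated over S, X →
S proper and flat with κ(s) → H⁰(X_s, O_{X_s}) bijective for every s, and f, g : X → G morphisms
over S which agree on one fibre X_s. Then there is a section t of G over S with f = (t ∘ p) · g, the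
product taken in the group of X-valued points of G. -/
theorem result (S : Scheme.{u}) [IsLocallyNoetherian S] [ConnectedSpace S]
    (X G : Over S) [GrpObj G] [IsLocallyNoetherian G.left] [IsSeparated G.hom] [IsProper X.hom] [Flat X.hom]
    (h0 : ∀ s : S, Function.Bijective (Limits.pullback.snd X.hom (S.fromSpecResidueField s)).appTop)
    (f g : X ⟶ G) (s : S)
    (hs : Limits.pullback.fst X.hom (S.fromSpecResidueField s) ≫ f.left =
      Limits.pullback.fst X.hom (S.fromSpecResidueField s) ≫ g.left) :
    ∃ t : 𝟙_ (Over S) ⟶ G, f = (toUnit X ≫ t) * g := by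
  open Groth.Agent.GrpSch in
  obtain ⟨_, _⟩ := RigidityNoSection.constFibres_of_h0 X.hom h0
  haveI : LocallyOfFinitePresentation X.hom :=
    LocallyOfFinitePresentation.iff_locallyOfFiniteType.2 inferInstance
  let j : Over.mk (Limits.pullback.fst X.hom (S.fromSpecResidueField s) ≫ X.hom) ⟶ X :=
    Over.homMk (Limits.pullback.fst X.hom (S.fromSpecResidueField s)) rfl
  have hj : j ≫ (f * g⁻¹) = 1 := by
    have hjfg : j ≫ f = j ≫ g := Over.OverMorphism.ext hs
    rw [MonObj.comp_mul, GrpObj.comp_inv, hjfg, mul_inv_cancel]
  have hconst : ∀ x : X.left, X.hom x = s → (f * g⁻¹).left x = (η[G]).left s := by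
    intro x hx
    obtain ⟨w, hw, -⟩ := Scheme.Pullback.exists_preimage_pullback (f := X.hom)
      (g := S.fromSpecResidueField s) x (IsLocalRing.closedPoint _)
      (hx.trans (S.fromSpecResidueField_apply _ _).symm)
    have h1 := congrArg (fun k => k.left w) hj
    simp only [Hom.one_def, Over.comp_left, Scheme.Hom.comp_apply] at h1
    rw [show j.left w = x from hw] at h1
    rw [h1]
    congr 1
    show (Over.mk (Limits.pullback.fst X.hom (S.fromSpecResidueField s) ≫ X.hom)).hom w = s
    show (Limits.pullback.fst X.hom (S.fromSpecResidueField s) ≫ X.hom) w = s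
    rw [Scheme.Hom.comp_apply, hw, hx]
  open Groth.Agent.GrpSch in
  obtain ⟨t, ht, htf⟩ := RigidityNoSection.exists_factor X.hom G.hom (f * g⁻¹).left (Over.w _) s
    (fun x x' hx hx' => (hconst x hx).trans (hconst x' hx').symm)
  refine ⟨Over.homMk t ht, ?_⟩
  have h2 : f * g⁻¹ = toUnit X ≫ Over.homMk t ht := Over.OverMorphism.ext (by
    simpa using htf)
  rw [← h2, inv_mul_cancel_right]

end Groth.Agent.S11438
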