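import Groth.Statements.S11439
import Groth.Agent.GrpSch.RigidityNoSection

set_option autoImplicit false
universe u
open CategoryTheory MonoidalCategory CartesianMonoidalCategory MonObj GrpObj AlgebraicGeometry Topology
open GIT

namespace Groth.Agent.S11439

/-- Let S be locally Noetherian, G a locally Noetherian group scheme separated over S, X → S proper and
flat with κ(s) → H⁰(X_s, O_{X_s}) bijective for every s, and Y connected, locally Noetherian,
separated over S with a section over S. Then every morphism f : X ×_S Y → G over S factors as f = (g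
∘ p₁) · (h ∘ p₂) with g : X → G and h : Y → G. -/
theorem result (S : Scheme.{u}) [IsLocallyNoetherian S]
    (X Y G : Over S) [GrpObj G] [IsLocallyNoetherian G.left] [IsSeparated G.hom] [IsProper X.hom] [Flat X.hom]
    (h0 : ∀ s : S, Function.Bijective (Limits.pullback.snd X.hom (S.fromSpecResidueField s)).appTop)
    [IsLocallyNoetherian Y.left] [IsSeparated Y.hom] [ConnectedSpace Y.left] (e : 𝟙_ (Over S) ⟶ Y)
    (f : X ⊗ Y ⟶ G) :
    ∃ (g : X ⟶ G) (h : Y ⟶ G), f = (fst X Y ≫ g) * (snd X Y ≫ h) := by
  open Groth.Agent.GrpSch in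
  obtain ⟨_, _⟩ := RigidityNoSection.constFibres_of_h0 X.hom h0
  haveI : LocallyOfFinitePresentation X.hom :=
    LocallyOfFinitePresentation.iff_locallyOfFiniteType.2 inferInstance
  let i0 : X ⟶ X ⊗ Y := lift (𝟙 X) (toUnit X ≫ e)
  let φ : X ⊗ Y ⟶ G := (fst X Y ≫ i0 ≫ f)⁻¹ * f
  have hφ : i0 ≫ φ = 1 := by
    simp only [φ, MonObj.comp_mul, GrpObj.comp_inv, ← Category.assoc, i0, lift_fst, Category.id_comp,
      inv_mul_cancel]
  let pX : (X ⊗ Y).left ⟶ Y.left := Limits.pullback.snd X.hom Y.hom
  haveI : IsProper pX := inferInstanceAs (IsProper (Limits.pullback.snd X.hom Y.hom))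
  haveI : Flat pX := inferInstanceAs (Flat (Limits.pullback.snd X.hom Y.hom))
  haveI : LocallyOfFinitePresentation pX :=
    inferInstanceAs (LocallyOfFinitePresentation (Limits.pullback.snd X.hom Y.hom))
  haveI : Surjective pX := inferInstanceAs (Surjective (Limits.pullback.snd X.hom Y.hom))
  haveI : Groth.Agent.GrpSch.RigidityBase.ConstFibres pX :=
    inferInstanceAs (Groth.Agent.GrpSch.RigidityBase.ConstFibres (Limits.pullback.snd X.hom Y.hom))
  obtain ⟨y0⟩ := (inferInstance : Nonempty Y.left)
  let s := Y.hom y0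
  let h0e : e.left ≫ Y.hom = 𝟙 S := Over.w e
  have hsq : IsPullback i0.left X.hom pX e.left := by
    have h1 : i0.left ≫ pX = X.hom ≫ e.left := by
      show i0.left ≫ (snd X Y).left = _
      rw [← Over.comp_left, lift_snd]
      simp
    have h2 : i0.left ≫ Limits.pullback.fst X.hom Y.hom = 𝟙 X.left := by
      show i0.left ≫ (fst X Y).left = _
      rw [← Over.comp_left, lift_fst]
      rfl
    refine IsPullback.of_right ?_ h1 (IsPullback.of_hasPullback X.hom Y.hom)
    rw [h2, h0e]
    exact IsPullback.of_horiz_isIso ⟨by simp⟩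
  have hconst : ∀ z : (X ⊗ Y).left, pX z = e.left s → φ.left z = (η[G]).left s := by
    intro z hz
    obtain ⟨w, hw, hw2⟩ := Scheme.Pullback.exists_preimage_pullback (f := pX) (g := e.left) z s hz
    obtain ⟨x, rfl⟩ : ∃ x, hsq.isoPullback.hom x = w :=
      ⟨hsq.isoPullback.inv w, by rw [← Scheme.Hom.comp_apply, Iso.inv_hom_id]; rfl⟩
    rw [← Scheme.Hom.comp_apply, hsq.isoPullback_hom_fst] at hw
    rw [← Scheme.Hom.comp_apply, hsq.isoPullback_hom_snd] at hw2
    have h1 := congrArg (fun k => k.left x) hφ
    simp only [Hom.one_def, Over.comp_left, Scheme.Hom.comp_apply] at h1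
    rw [hw] at h1
    rw [h1, show (toUnit X).left x = X.hom x from rfl, hw2]
  let Zm : (X ⊗ Y).left ⟶ Limits.pullback G.hom Y.hom :=
    Limits.pullback.lift φ.left pX (by rw [Over.w φ]; exact (Over.w (snd X Y)).symm)
  open Groth.Agent.GrpSch in
  obtain ⟨t, ht, htf⟩ := RigidityNoSection.exists_factor pX (Limits.pullback.snd G.hom Y.hom) Zm
    (Limits.pullback.lift_snd _ _ _) (e.left s) (fun x x' hx hx' => by
      have key : ∀ z, pX z = e.left s → Zm z =
          Limits.pullback.lift (Y.hom ≫ (η[G]).left) (𝟙 _) (by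
            rw [Category.assoc, Over.w, Category.id_comp]; exact Category.comp_id _) (e.left s) := by
        intro z hz
        obtain ⟨w, hw, hw2⟩ := Scheme.Pullback.exists_preimage_pullback (f := pX) (g := e.left) z s hz
        obtain ⟨a, rfl⟩ : ∃ a, hsq.isoPullback.hom a = w :=
          ⟨hsq.isoPullback.inv w, by rw [← Scheme.Hom.comp_apply, Iso.inv_hom_id]; rfl⟩
        rw [← Scheme.Hom.comp_apply, hsq.isoPullback_hom_fst] at hw
        rw [← Scheme.Hom.comp_apply, hsq.isoPullback_hom_snd] at hw2
        rw [← hw, ← hw2]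
        simp only [← Scheme.Hom.comp_apply]
        refine congrArg (fun m : X.left ⟶ Limits.pullback G.hom Y.hom => m a) ?_
        apply Limits.pullback.hom_ext
        · simp only [Zm, Category.assoc, Limits.pullback.lift_fst]
          rw [← Over.comp_left, hφ, reassoc_of% h0e, Hom.one_def, Over.comp_left]
          rfl
        · simp only [Zm, Category.assoc, Limits.pullback.lift_snd, Category.comp_id]
          exact hsq.w
      exact (key x hx).trans (key x' hx').symm)
  have htw : (t ≫ Limits.pullback.fst G.hom Y.hom) ≫ G.hom = Y.hom := by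
    rw [Category.assoc, Limits.pullback.condition, ← Category.assoc, ht, Category.id_comp]
  refine ⟨i0 ≫ f, Over.homMk (t ≫ Limits.pullback.fst G.hom Y.hom) htw, ?_⟩
  have h3 : φ = snd X Y ≫ Over.homMk (t ≫ Limits.pullback.fst G.hom Y.hom) htw := Over.OverMorphism.ext (by
    show φ.left = pX ≫ t ≫ _
    rw [← reassoc_of% htf]
    exact (Limits.pullback.lift_fst _ _ _).symm)
  rw [← h3]
  simp only [φ, mul_inv_cancel_left]

end Groth.Agent.S11439
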