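import Groth.Statements.S11440
import Groth.Agent.GrpSch.AbRigid
import Groth.Agent.InertiaFix.Basic
import Groth.Agent.GeomConn.Scheme

set_option autoImplicit false
universe u
open CategoryTheory MonoidalCategory CartesianMonoidalCategory MonObj GrpObj AlgebraicGeometry Topology
open GIT

namespace Groth.Agent.S11440

/-- Let S be Noetherian, X an abelian scheme over S (smooth proper group scheme with connected geometric
fibres), G any locally Noetherian group scheme separated over S, and f : X → G a morphism over S
carrying the unit of X to the unit of G. Then f is a homomorphism. -/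
theorem result (S : Scheme.{u}) [IsNoetherian S]
    (X G : Over S) [GrpObj X] [GrpObj G] [Smooth X.hom] [IsProper X.hom]
    (hc : ∀ s : S, ConnectedSpace (Red.geomFibre s X).left)
    [IsLocallyNoetherian G.left] [IsSeparated G.hom] (f : X ⟶ G) (hf : η[X] ≫ f = η[G]) :
    IsMonHom f := by
  haveI : GeometricallyReduced X.hom := Groth.Agent.InertiaFix.geometricallyReduced_of_smooth X.hom
  haveI : GeometricallyConnected X.hom := by
    refine Groth.Agent.InertiaFix.geometricallyConnected_of_forall X.hom fun K _ t => ?_
    let s : S := t (IsLocalRing.closedPoint K)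
    let k := S.residueField s
    obtain ⟨φ, hφ⟩ : ∃ φ : S.residueField s ⟶ CommRingCat.of K, Spec.map φ ≫ S.fromSpecResidueField s = t :=
      ⟨Scheme.descResidueField (Scheme.stalkClosedPointTo t),
        Scheme.descResidueField_stalkClosedPointTo_fromSpecResidueField _ _ _⟩
    letI : Algebra (S.residueField s) K := φ.hom.toAlgebra
    let Xs := Limits.pullback X.hom (S.fromSpecResidueField s)
    let f₀ : Xs ⟶ Spec (CommRingCat.of (S.residueField s)) := Limits.pullback.snd _ _
    haveI : ConnectedSpace ↥Xs := by
      let g := Spec.map (CommRingCat.ofHom (algebraMap (S.residueField s) (AlgebraicClosure (S.residueField s))))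
      let q : Limits.pullback f₀ g ⟶ Xs := Limits.pullback.fst f₀ g
      haveI : Surjective g :=
        ⟨Groth.Agent.GeomConn.surjective_specMap_field (k := S.residueField s) (K := AlgebraicClosure (S.residueField s))⟩
      haveI : Surjective q := inferInstance
      let e : Limits.pullback f₀ g ≅ (Red.geomFibre s X).left :=
        Limits.pullbackLeftPullbackSndIso X.hom (S.fromSpecResidueField s) g
      haveI := hc s
      exact (e.inv ≫ q).surjective.connectedSpace (e.inv ≫ q).continuous
    have hsec : ∃ σ : Spec (CommRingCat.of (S.residueField s)) ⟶ Xs, σ ≫ f₀ = 𝟙 _ :=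
      ⟨Limits.pullback.lift (S.fromSpecResidueField s ≫ η[X].left) (𝟙 _)
        (by rw [Category.assoc, Over.w η[X], Category.id_comp]; exact Category.comp_id _),
        Limits.pullback.lift_snd _ _ _⟩
    obtain ⟨σ, hσ⟩ := hsec
    haveI := Groth.Agent.GeomConn.connectedSpace_bcTo (K := K) f₀ σ hσ
    let e : Limits.pullback f₀ (Spec.map φ) ≅ Limits.pullback X.hom t :=
      Limits.pullbackLeftPullbackSndIso X.hom (S.fromSpecResidueField s) (Spec.map φ) ≪≫
        Limits.pullback.congrHom rfl hφ
    exact e.hom.surjective.connectedSpace e.hom.continuous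
  exact Groth.Agent.GrpSch.AbRigid.isMonHom_of_one X G f hf

end Groth.Agent.S11440
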