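import Groth.Statements.S11449
import Groth.Agent.LocCohBasic.RegularPd
import Groth.Agent.ArtLift.HilbertBurch
import Mathlib.RingTheory.Ideal.KrullsHeightTheorem


set_option autoImplicit false
universe u
open DefT

namespace Groth.Agent.S11449

/-- Let A be a regular local ring and I an ideal such that A/I is a Cohen–Macaulay local ring whose
Krull dimension is dim A − 2. Then for some r there is an (r+1) × r matrix φ with entries in A such
that, writing f_i for (−1)^i times the determinant of φ with its i-th row removed (i = 0, …, r), the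
elements f_0, …, f_r generate I, no family of fewer than r + 1 elements generates I, multiplication
by φ is an injective map A^r → A^{r+1}, and the image of that map is exactly the kernel of the map
A^{r+1} → A sending v to Σ_i v_i f_i; together with A → A/I this is a free resolution 0 → A^r →
A^{r+1} → A → A/I → 0. -/
theorem result
    (A : Type u) [CommRing A] [IsRegularLocalRing A] (I : Ideal A)
    [LocCoh.IsCohenMacaulayLocalRing (A ⧸ I)]
    (hcodim : ringKrullDim (A ⧸ I) + 2 = ringKrullDim A) :
    ∃ (r : ℕ) (φ : Matrix (Fin (r + 1)) (Fin r) A),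
      Ideal.span (Set.range (fun i : Fin (r + 1) => (-1 : A) ^ (i : ℕ) * (φ.submatrix i.succAbove id).det)) = I ∧
      I.spanFinrank = r + 1 ∧
      Function.Injective φ.mulVecLin ∧
      LinearMap.range φ.mulVecLin =
        LinearMap.ker (Fintype.linearCombination A (fun i : Fin (r + 1) => (-1 : A) ^ (i : ℕ) * (φ.submatrix i.succAbove id).det)) := by
  classical
  haveI : IsDomain A := CAlgReg.isDomain
  have hCMA : LocCoh.IsCohenMacaulayLocalRing A := Groth.Agent.LocCohBasic.isCohenMacaulayLocalRing_of_isRegularLocalRing
  have := Depth.isCohenMacaulayRing_of_local (R := A)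
  have hIne : I ≠ ⊤ := fun h => (Ideal.Quotient.nontrivial_iff.1 (inferInstance : Nontrivial (A ⧸ I))) h
  obtain ⟨d, hd⟩ := CAlgReg.exists_dim (R := A)
  have hheight : I.height = 2 := by
    have h := Depth.supportDim_eq_quotient_add_idealDepth A Depth.isCohenMacaulayModule_self
      (I := I) (IsLocalRing.le_maximalIdeal hIne)
    rw [Depth.idealDepth_eq_height, Module.supportDim_self_eq_ringKrullDim, Ideal.smul_top_eq_map,
      Algebra.algebraMap_self, Ideal.map_id, Submodule.restrictScalars_self,
      Module.supportDim_quotient_eq_ringKrullDim, ← hcodim] at h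
    have hfin : ringKrullDim (A ⧸ I) ≠ ⊥ := ringKrullDim_ne_bot
    obtain ⟨q, hq⟩ := WithBot.ne_bot_iff_exists.1 hfin
    rw [← hq, show (2 : WithBot ℕ∞) = ((2 : ℕ∞) : WithBot ℕ∞) from rfl, ← WithBot.coe_add, ← WithBot.coe_add,
      WithBot.coe_inj] at h
    refine ((ENat.addLECancellable_of_ne_top ?_).inj.1 h).symm
    intro hqt
    have hle := ringKrullDim_quotient_le (R := A) I
    rw [hd, ← hq, hqt] at hle
    exact absurd (WithBot.coe_le_coe.1 hle) (not_le.2 (ENat.natCast_lt_top d))
  have hcod : ∀ p : Ideal A, p.IsPrime → I ≤ p → (2 : ℕ∞) ≤ p.height := fun p _ h => hheight ▸ Ideal.height_mono h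
  have hI0 : I ≠ ⊥ := fun h => by
    have := hcod ⊥ Ideal.isPrime_bot h.le
    rw [Ideal.height_bot] at this
    simp at this
  obtain ⟨x, hx, y, hy, hreg⟩ := Groth.Agent.ArtLift.exists_regular_pair_of_cm I hcod
  -- minimal generators and their relations
  let n := I.spanFinrank
  have hfg : I.FG := IsNoetherian.noetherian I
  have hncard : I.generators.ncard = n := Submodule.FG.generators_ncard hfg
  have hfin : Finite I.generators := (Submodule.FG.finite_generators hfg).to_subtype
  let e : Fin n ≃ I.generators := ((Finite.equivFin I.generators).trans (finCongr ((Nat.card_coe_set_eq _).trans hncard))).symm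
  let g : Fin n → A := fun i => (e i).1
  have hspan : Ideal.span (Set.range g) = I := by
    rw [show Set.range g = I.generators by
      ext z; exact ⟨fun ⟨i, hi⟩ => hi ▸ (e i).2, fun hz => ⟨e.symm ⟨z, hz⟩, by simp [g]⟩⟩]
    exact Submodule.span_generators I
  let L : (Fin n → A) →ₗ[A] A := Fintype.linearCombination A g
  have hL : LinearMap.range L = I := (Fintype.range_linearCombination A g).trans hspan
  let K := LinearMap.ker L
  have hpd : CAlgReg.PdLT A (A ⧸ I) 3 := by
    refine Groth.Agent.LocCohBasic.hasProjectiveDimensionLE_of_depth (A ⧸ I) (t := 2) hd ?_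
    have h1 : LocCoh.depth A (A ⧸ I) = LocCoh.depth (A ⧸ I) (A ⧸ I) :=
      (Depth.depth_eq_of_surjective Ideal.Quotient.mk_surjective).symm
    have h2 := Depth.ringKrullDim_eq_depth (R := A ⧸ I)
    rw [h1]
    rw [h2, hd] at hcodim
    exact le_of_eq (WithBot.coe_inj.1 hcodim).symm
  have hpdI : CAlgReg.PdLT A I 2 :=
    CAlgReg.pdLT_left I.subtype I.mkQ I.injective_subtype (LinearMap.exact_subtype_mkQ I) (Submodule.mkQ_surjective I) hpd
  let π : (Fin n → A) →ₗ[A] I := L.codRestrict I fun v => hL.le (LinearMap.mem_range_self L v)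
  have hπ : Function.Surjective π := fun z => by
    obtain ⟨v, hv⟩ := hL.ge z.2
    exact ⟨v, Subtype.ext hv⟩
  have hπk : Function.Exact K.subtype π := fun v => by
    simp [π, K, Subtype.ext_iff]
  have hK : CAlgReg.PdLT A K 1 := CAlgReg.pdLT_left K.subtype π K.injective_subtype hπk hπ hpdI
  haveI : Module.Projective A K := (IsProjective.iff_projective (R := A) K).2
    (CategoryTheory.projective_iff_hasProjectiveDimensionLT_one.2 hK)
  haveI : Module.Flat A K := inferInstance
  haveI : Module.Free A K := Module.free_of_flat_of_isLocalRing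
  have hfrI : Module.finrank A I = 1 := by
    refine le_antisymm ((Submodule.finrank_le I).trans (Module.finrank_self A).le) ?_
    have : Nontrivial I := Submodule.nontrivial_iff_ne_bot.2 hI0
    exact Module.finrank_pos
  have hrk : Module.finrank A K + 1 = n := by
    have h := Submodule.finrank_quotient_add_finrank (R := A) K
    rw [show Module.finrank A ((Fin n → A) ⧸ K) = 1 from
      ((L.quotKerEquivRange.trans (LinearEquiv.ofEq _ _ hL)).finrank_eq).trans hfrI, Module.finrank_fin_fun] at h
    omega
  generalize hr : Module.finrank A K = r at hrk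
  let b : Module.Basis (Fin r) A K := Module.finBasisOfFinrankEq A K hr
  let c : Fin (r + 1) ≃ Fin n := finCongr hrk
  let a : Fin (r + 1) → A := fun i => g (c i)
  let φ : Matrix (Fin (r + 1)) (Fin r) A := Matrix.of fun i j => (b j).1 (c i)
  have hphi : ∀ v, φ.mulVec v = fun i => (b.equivFun.symm v).1 (c i) := fun v => funext fun i => by
    simp [φ, Matrix.mulVec, dotProduct, Module.Basis.equivFun_symm_apply, mul_comm]
  have hinj : Function.Injective φ.mulVecLin := by
    intro v w hvw
    apply b.equivFun.symm.injective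
    refine Subtype.ext (funext fun i => ?_)
    obtain ⟨i, rfl⟩ := c.surjective i
    have := congrFun hvw i
    rwa [Matrix.mulVecLin_apply, Matrix.mulVecLin_apply, hphi, hphi] at this
  have hrange : LinearMap.range φ.mulVecLin = LinearMap.ker (Fintype.linearCombination A a) := by
    ext v
    have hsum : ∀ w : Fin n → A, Fintype.linearCombination A a (fun i => w (c i)) = L w := fun w => by
      simp only [L, a, Fintype.linearCombination_apply]
      exact c.sum_comp (fun i => w i • g i)
    constructor
    · rintro ⟨w, rfl⟩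
      rw [LinearMap.mem_ker, Matrix.mulVecLin_apply, hphi, hsum]
      exact (b.equivFun.symm w).2
    · intro hv
      have h : (fun j => v (c.symm j)) ∈ K := by
        change L _ = 0
        rw [← hsum, show (fun i => v (c.symm (c i))) = v from funext fun i => by simp]
        exact hv
      refine ⟨b.equivFun ⟨_, h⟩, ?_⟩
      rw [Matrix.mulVecLin_apply, hphi]
      simp
  have haI : Ideal.span (Set.range a) = I := by
    rw [show Set.range a = Set.range g from c.surjective.range_comp g, hspan]
  -- compare the generators with the minors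
  let f : Fin (r + 1) → A := Groth.Agent.ArtLift.minors φ
  have hgen : ∀ z ∈ I, ∃ α : Fin (r + 1) → A, ∑ i, α i * a i = z := fun z hz =>
    Ideal.mem_span_range_iff_exists_fun.1 (haI.symm ▸ hz)
  have hsym : ∀ s t, a t * f s = a s * f t := by
    intro s t
    let v : Fin (r + 1) → A := Pi.single t (a s) - Pi.single s (a t)
    have hv : v ∈ LinearMap.ker (Fintype.linearCombination A a) := by
      rw [LinearMap.mem_ker, map_sub, Fintype.linearCombination_apply_single, Fintype.linearCombination_apply_single]
      simp only [smul_eq_mul]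
      ring
    rw [← hrange] at hv
    obtain ⟨w, hw⟩ := hv
    have h1 : ∑ i, v i * f i = 0 := by
      rw [← hw]
      simp only [Matrix.mulVecLin_apply, Matrix.mulVec, dotProduct, Finset.sum_mul]
      rw [Finset.sum_comm]
      refine Finset.sum_eq_zero fun j _ => ?_
      calc ∑ i, φ i j * w j * f i = w j * ∑ i, φ i j * f i := by
            rw [Finset.mul_sum]; exact Finset.sum_congr rfl fun i _ => by ring
        _ = 0 := by rw [Groth.Agent.ArtLift.sum_mul_minors, mul_zero]
    simp [v, sub_mul, Finset.sum_sub_distrib, Pi.single_apply, sub_eq_zero] at h1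
    linear_combination -h1
  have key : ∀ (α : Fin (r + 1) → A) (z : A), ∑ i, α i * a i = z → ∀ t, z * f t = a t * ∑ i, α i * f i := by
    intro α z hz t
    rw [← hz, Finset.sum_mul, Finset.mul_sum]
    exact Finset.sum_congr rfl fun i _ => by rw [mul_assoc, ← hsym i t]; ring
  obtain ⟨α, hα⟩ := hgen x hx
  obtain ⟨β, hβ⟩ := hgen y hy
  have hxy : x * ∑ i, β i * f i = y * ∑ i, α i * f i := by
    rw [Finset.mul_sum, ← hβ, Finset.sum_mul]
    exact Finset.sum_congr rfl fun i _ => by
      rw [mul_left_comm, key α x hα i]; ring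
  rw [RingTheory.Sequence.isWeaklyRegular_cons_iff, RingTheory.Sequence.isWeaklyRegular_cons_iff] at hreg
  obtain ⟨hxr, hyr, -⟩ := hreg
  obtain ⟨u, hu⟩ : ∃ u, ∑ i, α i * f i = x * u := by
    have h1 : y • (Submodule.Quotient.mk (∑ i, α i * f i) : QuotSMulTop x A) = y • 0 := by
      rw [smul_zero, ← Submodule.Quotient.mk_smul, Submodule.Quotient.mk_eq_zero, smul_eq_mul, ← hxy]
      exact Submodule.smul_mem_pointwise_smul _ x ⊤ trivial
    obtain ⟨u, -, hu⟩ := (Submodule.mem_smul_pointwise_iff_exists _ _ _).1 ((Submodule.Quotient.mk_eq_zero _).1 (hyr h1))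
    exact ⟨u, hu.symm⟩
  have hf : ∀ t, f t = u * a t := fun t => hxr (by
    change x * f t = x * (u * a t)
    rw [key α x hα t, hu]; ring)
  have hdvd : ∀ z ∈ I, u ∣ z ^ (r + 1) := by
    intro z hz
    obtain ⟨γ, hγ⟩ := hgen z hz
    have hsplit : ∀ t : Fin (r + 1), ∃ w : Fin r → A, φ.mulVec w = fun i => (if i = t then z else 0) - γ i * a t := by
      intro t
      have hmem : (fun i => (if i = t then z else 0) - γ i * a t) ∈ LinearMap.ker (Fintype.linearCombination A a) := by
        rw [LinearMap.mem_ker, Fintype.linearCombination_apply]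
        simp only [smul_eq_mul, sub_mul, Finset.sum_sub_distrib, ite_mul, zero_mul, Finset.sum_ite_eq',
          Finset.mem_univ, if_true]
        rw [show ∑ i, γ i * a t * a i = (∑ i, γ i * a i) * a t by
          rw [Finset.sum_mul]; exact Finset.sum_congr rfl fun i _ => by ring, hγ, sub_self]
      rw [← hrange] at hmem
      exact hmem
    choose W hW using hsplit
    let M : Matrix (Fin (r + 1)) (Fin (r + 1)) A := Matrix.of fun i => Fin.cons (γ i) (φ i)
    let N : Matrix (Fin (r + 1)) (Fin (r + 1)) A := Matrix.of (Fin.cons a fun j t => W t j)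
    have hMN : M * N = Matrix.scalar (Fin (r + 1)) z := by
      ext i t
      rw [Matrix.mul_apply, Fin.sum_univ_succ]
      have h2 := congrFun (hW t) i
      simp only [Matrix.mulVec, dotProduct] at h2
      simp [M, N, h2, Matrix.diagonal_apply]
    have hdet : M.det = u * ∑ i, γ i * a i := by
      rw [Matrix.det_succ_column_zero, Finset.mul_sum]
      refine Finset.sum_congr rfl fun i _ => ?_
      have hsub : M.submatrix i.succAbove Fin.succ = φ.submatrix i.succAbove id := by ext p q; simp [M]
      rw [hsub, show (-1 : A) ^ (i : ℕ) * M i 0 * (φ.submatrix i.succAbove id).det = γ i * f i by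
        simp [M, f, Groth.Agent.ArtLift.minors]; ring, hf]
      ring
    have hd2 := congrArg Matrix.det hMN
    rw [Matrix.det_mul, hdet, hγ] at hd2
    refine ⟨z * N.det, ?_⟩
    rw [← mul_assoc, hd2]
    simp
  have huu : IsUnit u := by
    by_contra hnu
    obtain ⟨p, hp, -⟩ := Ideal.exists_minimalPrimes_le (show Ideal.span {u} ≤ IsLocalRing.maximalIdeal A from
      (Ideal.span_singleton_le_iff_mem _).2 hnu)
    have := hp.1.1
    have hIp : I ≤ p := fun z hz => this.mem_of_pow_mem (r + 1) (hp.1.2 (Ideal.mem_span_singleton.2 (hdvd z hz)))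
    have h1 : p.height ≤ 1 := Ideal.height_le_one_of_isPrincipal_of_mem_minimalPrimes (Ideal.span {u}) p hp
    exact absurd ((hcod p this hIp).trans h1) (by norm_num)
  refine ⟨r, φ, ?_, hrk.symm, hinj, ?_⟩
  · change Ideal.span (Set.range f) = I
    rw [← haI]
    refine le_antisymm (Ideal.span_le.2 ?_) (Ideal.span_le.2 ?_)
    · rintro _ ⟨i, rfl⟩
      rw [hf]
      exact Ideal.mul_mem_left _ _ (Ideal.subset_span ⟨i, rfl⟩)
    · rintro _ ⟨i, rfl⟩
      refine (Ideal.unit_mul_mem_iff_mem _ huu).1 ?_
      rw [← hf]
      exact Ideal.subset_span ⟨i, rfl⟩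
  · change _ = LinearMap.ker (Fintype.linearCombination A f)
    rw [hrange]
    ext v
    simp only [LinearMap.mem_ker, Fintype.linearCombination_apply, smul_eq_mul, hf,
      mul_left_comm _ u, ← Finset.mul_sum, huu.mul_right_eq_zero]

end Groth.Agent.S11449
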