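import Groth.Statements.S11450
import Groth.Agent.CAlgH.TorBridge
import Mathlib.RingTheory.Ideal.AssociatedPrime.Finiteness


set_option autoImplicit false
universe u
open CategoryTheory
open DefT

namespace Groth.Agent.S11450

/-- A module M over a Noetherian commutative ring A is flat if and only if Tor_1^A(M, A/p) vanishes for
every prime ideal p of A. -/
theorem result (A : Type u) [CommRing A]
    [IsNoetherianRing A] (M : Type u) [AddCommGroup M] [Module A M] :
    Module.Flat A M ↔ ∀ p : Ideal A, p.IsPrime →
      Limits.IsZero (((CategoryTheory.Tor (ModuleCat.{u} A) 1).obj (ModuleCat.of A M)).obj (ModuleCat.of A (A ⧸ p))) := by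
  simp only [Groth.Agent.CAlgH.TorBridge.isZero_tor_one_iff]
  constructor
  · intro _ p _
    exact (Groth.Agent.FlatCrit.torZero_quotient_iff p).2
      (Module.Flat.lTensor_preserves_injective_linearMap p.subtype p.injective_subtype)
  · intro h
    refine Groth.Agent.FlatCrit.flat_of_torZero fun I => ?_
    refine IsNoetherianRing.induction_on_isQuotientEquivQuotientPrime A (M := A ⧸ I) inferInstance
      (motive := fun N _ _ _ => Groth.Agent.FlatCrit.TorZero A M N) ?_ ?_ ?_
    · intro N _ _ _ _
      exact Groth.Agent.FlatCrit.TorZero.of_subsingleton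
    · intro N _ _ _ p e
      exact (h p.1 p.2).of_linearEquiv e.symm
    · intro N₁ _ _ _ N₂ _ _ _ N₃ _ _ _ f g hf hg hfg h₁ h₃
      exact h₁.of_extension h₃ hf hfg hg

end Groth.Agent.S11450
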