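import Groth.Statements.S11451
import Groth.Agent.ArtLift.Jets
import Groth.Agent.CAlgJac.Field


set_option autoImplicit false
universe u
open DefT

namespace Groth.Agent.S11451

/-- Let k be an algebraically closed field and A a local k-algebra essentially of finite type over k
with residue field k. Then regularity of A as a local ring is equivalent to the following: for every
local k-algebra B' of finite dimension over k, every ideal J of B' of square zero and every
k-algebra homomorphism f : A → B'/J, there is a k-algebra homomorphism g : A → B' lifting f. (Local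
k-algebras of finite k-dimension are exactly the local Artin rings finite over k; lifting against
square-zero kernels is equivalent to lifting against nilpotent ones by induction.) -/
theorem result (k : Type u) [Field k] [IsAlgClosed k]
    (A : Type u) [CommRing A] [IsLocalRing A] [Algebra k A] [Algebra.EssFiniteType k A]
    (hres : Function.Surjective (algebraMap k (IsLocalRing.ResidueField A))) :
    IsRegularLocalRing A ↔
      ∀ (B' : Type u) [CommRing B'] [IsLocalRing B'] [Algebra k B'] [Module.Finite k B']
        (J : Ideal B'), J ^ 2 = ⊥ → ∀ f : A →ₐ[k] B' ⧸ J,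
          ∃ g : A →ₐ[k] B', (Ideal.Quotient.mkₐ k J).comp g = f := by
  classical
  have hbij : Function.Bijective (Algebra.ofId k (IsLocalRing.ResidueField A)) :=
    ⟨(algebraMap k (IsLocalRing.ResidueField A)).injective, hres⟩
  have : Algebra.FormallySmooth k (IsLocalRing.ResidueField A) :=
    Algebra.FormallySmooth.of_equiv (AlgEquiv.ofBijective _ hbij)
  have : IsNoetherianRing A := Algebra.EssFiniteType.isNoetherianRing k A
  rw [← Groth.Agent.CAlgJac.formallySmooth_iff_isRegularLocalRing_of_essFiniteType k A]
  refine ⟨fun h B' _ _ _ _ J hJ f => Algebra.FormallySmooth.comp_surjective k A J hJ f, fun h => ?_⟩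
  rw [Groth.Agent.CAlgJac.formallySmooth_iff_isRegularLocalRing_of_essFiniteType k A]
  refine Groth.Agent.ArtLift.Jets.isRegularLocalRing_of_jets hres fun l hl φ _ => ?_
  have := Groth.Agent.ArtLift.Jets.isLocalRing_jet k (l := l + 1) (by omega)
  have := Groth.Agent.ArtLift.Jets.finite_jet k (l + 1)
  let π : Groth.Agent.ArtLift.Jets.Jet k (l + 1) →ₐ[k] Groth.Agent.ArtLift.Jets.Jet k l :=
    Ideal.Quotient.factorₐ k (Ideal.span_singleton_le_span_singleton.mpr (pow_dvd_pow (Polynomial.X : Polynomial k) (Nat.le_succ l)))
  have hπ : Function.Surjective π := Ideal.Quotient.factor_surjective (Ideal.span_singleton_le_span_singleton.mpr (pow_dvd_pow (Polynomial.X : Polynomial k) (Nat.le_succ l)))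
  let e := Ideal.quotientKerAlgEquivOfSurjective hπ
  obtain ⟨g, hg⟩ := h (Groth.Agent.ArtLift.Jets.Jet k (l + 1)) (RingHom.ker π)
    (Groth.Agent.ArtLift.Jets.ker_factor_sq k hl) (e.symm.toAlgHom.comp φ)
  refine ⟨g, AlgHom.ext fun a => ?_⟩
  have h2 : e (Ideal.Quotient.mk (RingHom.ker π) (g a)) = φ a := by
    rw [show Ideal.Quotient.mk (RingHom.ker π) (g a) = e.symm (φ a) from AlgHom.congr_fun hg a, AlgEquiv.apply_symm_apply]
  exact h2

end Groth.Agent.S11451
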