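import Groth.Statements.S11452
import Groth.Agent.ArtLift.TrivialDef
import Groth.Agent.ThickAffine.General
import Groth.Agent.FpqcDescent.IdealComap
import Groth.Agent.CotTLib.Smooth


set_option autoImplicit false
universe u
open CategoryTheory AlgebraicGeometry
open DefT

namespace Groth.Agent.S11452

/-- Let k be an algebraically closed field, X an affine scheme of finite type over k whose local rings
are all regular, A a local Artin k-algebra with a k-algebra augmentation e : A → k, and g : X' →
Spec A a flat morphism whose fibre over the k-point Spec k → Spec A given by e is X (with its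
structure map to Spec k). Then there is an isomorphism from X' to the trivial deformation X ×_{Spec
k} Spec A compatible with the projections to Spec A. -/
theorem result (k : Type u) [Field k]
    [IsAlgClosed k] (X : Scheme.{u}) (hX : X ⟶ Spec (CommRingCat.of k)) [IsAffine X]
    [LocallyOfFiniteType hX] (hreg : ∀ x : X, IsRegularLocalRing (X.presheaf.stalk x))
    (A : Type u) [CommRing A] [IsLocalRing A] [IsArtinianRing A] [Algebra k A] (e : A →ₐ[k] k)
    (X' : Scheme.{u}) (g : X' ⟶ Spec (CommRingCat.of A)) [Flat g] (i : X ⟶ X')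
    (hsq : IsPullback i hX g (Spec.map (CommRingCat.ofHom e.toRingHom))) :
    ∃ φ : X' ≅ Limits.pullback hX (Spec.map (CommRingCat.ofHom (algebraMap k A))),
      φ.hom ≫ Limits.pullback.snd hX (Spec.map (CommRingCat.ofHom (algebraMap k A))) = g := by
  have hsurje : Function.Surjective e.toRingHom := fun r => ⟨algebraMap k A r, by simp⟩
  have : IsClosedImmersion (Spec.map (CommRingCat.ofHom e.toRingHom)) := IsClosedImmersion.spec_of_surjective _ hsurje
  have hker : RingHom.ker e.toRingHom = IsLocalRing.maximalIdeal A :=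
    IsLocalRing.eq_maximalIdeal (RingHom.ker_isMaximal_of_surjective e.toRingHom hsurje)
  have : Surjective (Spec.map (CommRingCat.ofHom e.toRingHom)) := by
    refine ⟨fun x => ⟨(⟨⊥, Ideal.isPrime_bot⟩ : PrimeSpectrum k), PrimeSpectrum.ext ?_⟩⟩
    change Ideal.comap e.toRingHom ⊥ = (x : PrimeSpectrum A).asIdeal
    rw [← RingHom.ker_eq_comap_bot, hker]
    exact (Ideal.IsMaximal.eq_of_le inferInstance (IsLocalRing.maximalIdeal.isMaximal A).ne_top
      (IsLocalRing.le_maximalIdeal (Ideal.IsPrime.ne_top inferInstance))).symm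
  have : IsClosedImmersion i := MorphismProperty.of_isPullback (P := @IsClosedImmersion) hsq.flip inferInstance
  have : Surjective i := MorphismProperty.of_isPullback (P := @Surjective) hsq.flip inferInstance
  have : IsAffine X' := Groth.Agent.ThickAffine.isAffine_of_thickening i
  let B := Γ(X, ⊤)
  let B' := Γ(X', ⊤)
  letI algB : Algebra k B := ((Scheme.ΓSpecIso (CommRingCat.of k)).inv ≫ hX.appTop).hom.toAlgebra
  letI algAB : Algebra A B' := ((Scheme.ΓSpecIso (CommRingCat.of A)).inv ≫ g.appTop).hom.toAlgebra
  letI algkB' : Algebra k B' := ((algebraMap A B').comp (algebraMap k A)).toAlgebra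
  have : IsScalarTower k A B' := IsScalarTower.of_algebraMap_eq' rfl
  have hfac : ∀ {Y : Scheme.{u}} (R : CommRingCat.{u}) (h : Y ⟶ Spec R),
      h = Y.toSpecΓ ≫ Spec.map ((Scheme.ΓSpecIso R).inv ≫ h.appTop) := by
    intro Y R h
    rw [Spec.map_comp, ← Scheme.toSpecΓ_naturality_assoc, ← SpecMap_ΓSpecIso_hom, ← Spec.map_comp,
      Iso.inv_hom_id, Spec.map_id, Category.comp_id]
  have : Algebra.FiniteType k B :=
    RingHom.finiteType_algebraMap.1 (RingHom.finiteType_respectsIso.2 hX.appTop.hom
      (Scheme.ΓSpecIso (CommRingCat.of k)).symm.commRingCatIsoToRingEquiv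
      ((HasRingHomProperty.iff_of_isAffine (P := @LocallyOfFiniteType)).1 inferInstance))
  have : Algebra.FormallySmooth k B := by
    rw [CotTLib.formallySmooth_iff_regular (k := k) (B := B)]
    intro p hp
    let z : X := (isAffineOpen_top X).fromSpec ⟨p, hp⟩
    have := hreg z
    letI := (X.presheaf.germ ⊤ z trivial).hom.toAlgebra
    have hloc : IsLocalization.AtPrime (X.presheaf.stalk z) p := (isAffineOpen_top X).isLocalization_stalk' ⟨p, hp⟩ trivial
    exact IsRegularLocalRing.of_ringEquiv (IsLocalization.algEquiv p.primeCompl (X.presheaf.stalk z) (Localization.AtPrime p)).toRingEquiv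
  have : Module.Flat A B' := RingHom.Flat.respectsIso.2 g.appTop.hom
      (Scheme.ΓSpecIso (CommRingCat.of A)).symm.commRingCatIsoToRingEquiv
      ((HasRingHomProperty.iff_of_isAffine (P := @Flat)).1 inferInstance)
  have hpo := isPushout_appTop_of_isPullback hsq
  have hnat : ∀ a : A, (Spec.map (CommRingCat.ofHom e.toRingHom)).appTop.hom ((Scheme.ΓSpecIso (CommRingCat.of A)).inv.hom a) =
      (Scheme.ΓSpecIso (CommRingCat.of k)).inv.hom (e a) := fun a =>
    (ConcreteCategory.congr_hom (Scheme.ΓSpecIso_inv_naturality (CommRingCat.ofHom e.toRingHom)) a).symm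
  have hw : ∀ a : A, i.appTop.hom (algebraMap A B' a) = algebraMap k B (e a) := by
    intro a
    have h1 : g.appTop ≫ i.appTop = (Spec.map (CommRingCat.ofHom e.toRingHom)).appTop ≫ hX.appTop := by
      rw [← Scheme.Hom.comp_appTop, hsq.w, Scheme.Hom.comp_appTop]
    exact (ConcreteCategory.congr_hom h1 _).trans (congrArg hX.appTop.hom (hnat a))
  let q : B' →ₐ[k] B :=
    { i.appTop.hom with
      commutes' := fun r => (hw _).trans (by rw [AlgHom.commutes]; rfl) }
  have hqs : Function.Surjective q := i.app_surjective _ (isAffineOpen_top X')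
  have hqk : RingHom.ker q = (RingHom.ker e).map (algebraMap A B') := by
    change RingHom.ker i.appTop.hom = _
    have h1 : RingHom.ker i.appTop.hom = (RingHom.ker (Spec.map (CommRingCat.ofHom e.toRingHom)).appTop.hom).map g.appTop.hom :=
      Groth.Agent.FpqcDescent.ker_eq_map_of_isPushout hpo
        ((Spec.map (CommRingCat.ofHom e.toRingHom)).app_surjective _ (isAffineOpen_top _))
    rw [h1]
    have h2 : RingHom.ker (Spec.map (CommRingCat.ofHom e.toRingHom)).appTop.hom =
        (RingHom.ker e).map (Scheme.ΓSpecIso (CommRingCat.of A)).inv.hom := by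
      refine le_antisymm (fun z hz => ?_) (Ideal.map_le_iff_le_comap.2 fun a ha => ?_)
      · obtain ⟨a, rfl⟩ := (ConcreteCategory.bijective_of_isIso (Scheme.ΓSpecIso (CommRingCat.of A)).inv).2 z
        exact Ideal.mem_map_of_mem _ ((ConcreteCategory.bijective_of_isIso (Scheme.ΓSpecIso (CommRingCat.of k)).inv).1
          (((hnat a).symm.trans hz).trans (map_zero _).symm))
      · rw [Ideal.mem_comap, RingHom.mem_ker, hnat, show e a = 0 from ha, map_zero]
    rw [h2, Ideal.map_map]
    rfl
  obtain ⟨s, -, hψ⟩ := Groth.Agent.ArtLift.exists_trivialization e q hqs hqk hw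
  let ψ := Algebra.TensorProduct.lift (IsScalarTower.toAlgHom k A B') s (fun _ _ => Commute.all _ _)
  let E : CommRingCat.of (TensorProduct k A B) ≅ B' := (RingEquiv.ofBijective ψ hψ).toCommRingCatIso
  have h0 : IsPushout (CommRingCat.ofHom (algebraMap k A)) (CommRingCat.ofHom (algebraMap k B))
      (CommRingCat.ofHom (Algebra.TensorProduct.includeLeftRingHom : A →+* TensorProduct k A B))
      (CommRingCat.ofHom (Algebra.TensorProduct.includeRight : B →ₐ[k] TensorProduct k A B).toRingHom) :=
    CommRingCat.isPushout_tensorProduct k A B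
  have h1 : IsPushout (CommRingCat.ofHom (algebraMap k A)) (CommRingCat.ofHom (algebraMap k B))
      (CommRingCat.ofHom (algebraMap A B')) (CommRingCat.ofHom (s : B →+* B')) := by
    refine h0.of_iso (Iso.refl _) (Iso.refl _) (Iso.refl _) E (by simp) (by simp) ?_ ?_
    · ext a; simp [E, ψ]
    · ext b; simp [E, ψ]
  have h2 := isPullback_SpecMap_of_isPushout _ _ _ _ h1
  let r : X' ⟶ X := X'.toSpecΓ ≫ Spec.map (CommRingCat.ofHom (s : B →+* B')) ≫ inv X.toSpecΓ
  have h3 : IsPullback r g hX (Spec.map (CommRingCat.ofHom (algebraMap k A))) := by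
    refine h2.flip.of_iso (asIso X'.toSpecΓ).symm (asIso X.toSpecΓ).symm (Iso.refl _) (Iso.refl _) ?_ ?_ ?_ (by simp)
    · simp [r]
    · rw [Iso.refl_hom, Category.comp_id, Iso.symm_hom, asIso_inv, IsIso.eq_inv_comp]
      exact (hfac _ g).symm
    · rw [Iso.refl_hom, Category.comp_id, Iso.symm_hom, asIso_inv, IsIso.eq_inv_comp]
      exact (hfac _ hX).symm
  exact ⟨h3.isoPullback, h3.isoPullback_hom_snd⟩

end Groth.Agent.S11452
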