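import Groth.Statements.S13133
import Groth.Agent.CAlgH.ArtFlatSeq

set_option autoImplicit false
universe u v
open CAlg

namespace Groth.Agent.S13133

/-- Let A' be an Artinian local ring, I a proper ideal of A', S' a flat A'-algebra and f'_1, …, f'_n
elements of S' with n ≥ 1. A family f'_1, …, f'_n in S' is a regular sequence exactly when its
reduction modulo I·S' is a regular sequence of S'/IS'. (Regular sequences are defined in the
published text over Noetherian rings; this row does not assume S' Noetherian, which the argument
does not use. The published statement is for a surjection of local Artinian algebras with a fixed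
residue field over a ring of Witt vectors; only the Artinian local base and the proper ideal are
used, which is the form taken here.) -/
theorem result
    {A' : Type u} [CommRing A'] [IsArtinianRing A'] [IsLocalRing A'] (I : Ideal A') (hI : I ≠ ⊤)
    {S' : Type v} [CommRing S'] [Algebra A' S'] [Module.Flat A' S'] {n : ℕ} (hn : 1 ≤ n)
    (f' : Fin n → S') :
    RingTheory.Sequence.IsRegular S' (List.ofFn f') ↔
      RingTheory.Sequence.IsRegular (S' ⧸ I.map (algebraMap A' S'))
        (List.ofFn fun i => Ideal.Quotient.mk (I.map (algebraMap A' S')) (f' i)) := by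
  have hnil : ∀ x ∈ I.map (algebraMap A' S'), IsNilpotent x := by
    intro x hx
    obtain ⟨N, hN⟩ := IsArtinianRing.isNilpotent_jacobson_bot (R := A')
    rw [IsLocalRing.jacobson_eq_maximalIdeal ⊥ bot_ne_top] at hN
    refine ⟨N, ?_⟩
    have h1 := Ideal.pow_mem_pow (Ideal.map_mono (IsLocalRing.le_maximalIdeal hI) hx) N
    rw [← Ideal.map_pow, hN] at h1
    simpa using h1
  rw [RingTheory.Sequence.isRegular_iff, RingTheory.Sequence.isRegular_iff,
    show (List.ofFn fun i => Ideal.Quotient.mk (I.map (algebraMap A' S')) (f' i)) =
      (List.ofFn f').map (Ideal.Quotient.mk (I.map (algebraMap A' S'))) from List.map_ofFn.symm,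
    CAlgH.ArtFlat.isWeaklyRegular_quotient_iff hI, ← Ideal.map_ofList]
  refine and_congr_right fun _ => not_congr ?_
  rw [smul_eq_mul, Ideal.mul_top, smul_eq_mul, Ideal.mul_top, eq_comm (b := Ideal.ofList _),
    eq_comm (b := Ideal.map _ _)]
  refine ⟨fun h => by rw [h, Ideal.map_top], fun h => ?_⟩
  have h1 : (1 : S' ⧸ I.map (algebraMap A' S')) ∈ Ideal.map (Ideal.Quotient.mk _) (Ideal.ofList (List.ofFn f')) := by
    rw [h]; trivial
  obtain ⟨x, hx, hx1⟩ := (Ideal.mem_map_iff_of_surjective _ Ideal.Quotient.mk_surjective).1 h1
  refine Ideal.eq_top_of_isUnit_mem _ hx ?_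
  have h2 : x - 1 ∈ I.map (algebraMap A' S') := by
    rw [← Ideal.Quotient.eq_zero_iff_mem, map_sub, hx1, map_one, sub_self]
  simpa using (hnil _ h2).isUnit_one_add

end Groth.Agent.S13133
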