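import Groth.Statements.S11455
import Groth.Agent.TorShift.Basic


set_option autoImplicit false
universe u
open DefT

namespace Groth.Agent.S11455

/-- Let C' be a local Artin ring, J ⊊ C' a proper ideal annihilated by the maximal ideal, C = C'/J, A' a
flat C'-algebra whose reduction modulo the maximal ideal of C' is a Cohen–Macaulay local ring, A =
A'/JA', and a_1, …, a_r a regular sequence on A with A/(a_1, …, a_r) flat over C. Then every ideal
I' of A' with A'/I' flat over C' and with image (a_1, …, a_r) in A is generated by some lifts a'_1,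
…, a'_r of the a_i. -/
theorem result (C' : Type u) [CommRing C'] [IsLocalRing C'] [IsArtinianRing C'] (J : Ideal C')
    (hJ : IsLocalRing.maximalIdeal C' * J = ⊥) (hJne : J ≠ ⊤) (A' : Type u) [CommRing A'] [Algebra C' A'] [Module.Flat C' A']
    [LocCoh.IsCohenMacaulayLocalRing (A' ⧸ (IsLocalRing.maximalIdeal C').map (algebraMap C' A'))]
    (r : ℕ) (a : Fin r → A' ⧸ J.map (algebraMap C' A'))
    (hreg : RingTheory.Sequence.IsRegular (A' ⧸ J.map (algebraMap C' A')) (List.ofFn a))
    [Module.Flat (C' ⧸ J) ((A' ⧸ J.map (algebraMap C' A')) ⧸ Ideal.span (Set.range a))]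
    (I' : Ideal A') [Module.Flat C' (A' ⧸ I')]
    (hI' : I'.map (Ideal.Quotient.mk (J.map (algebraMap C' A'))) = Ideal.span (Set.range a)) :
    ∃ a' : Fin r → A', (∀ i, Ideal.Quotient.mk (J.map (algebraMap C' A')) (a' i) = a i) ∧
      I' = Ideal.span (Set.range a') := by
  classical
  let mk := Ideal.Quotient.mk (J.map (algebraMap C' A'))
  have hmem : ∀ i, ∃ a' ∈ I', mk a' = a i := fun i => by
    have : a i ∈ I'.map mk := hI'.symm ▸ Ideal.subset_span ⟨i, rfl⟩
    exact (Ideal.mem_map_iff_of_surjective _ Ideal.Quotient.mk_surjective).1 this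
  choose a' haI ha using hmem
  refine ⟨a', ha, le_antisymm ?_ (Ideal.span_le.2 (Set.range_subset_iff.2 haI))⟩
  let S := Ideal.span (Set.range a')
  let d : I' →ₗ[C'] A' := I'.subtype.restrictScalars C'
  have hrange : LinearMap.range d = I'.restrictScalars C' := by
    ext x; simp [d]
  have : Module.Flat C' (A' ⧸ LinearMap.range d) :=
    Module.Flat.of_linearEquiv ((Submodule.quotEquivOfEq _ _ hrange).trans
      (Submodule.Quotient.restrictScalarsEquiv C' I'))
  have hstep : ∀ x ∈ I', ∃ y ∈ J • (⊤ : Submodule C' I'), x - y.1 ∈ S := by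
    intro x hx
    have h1 : mk x ∈ S.map mk := by
      rw [Ideal.map_span, ← Set.range_comp, show mk ∘ a' = a from funext ha, ← hI']
      exact Ideal.mem_map_of_mem _ hx
    obtain ⟨j, hj, hjx⟩ := (Ideal.mem_map_iff_of_surjective _ Ideal.Quotient.mk_surjective).1 h1
    have hjI : j ∈ I' := Ideal.span_le.2 (Set.range_subset_iff.2 haI) hj
    have h2 : x - j ∈ J • (⊤ : Submodule C' A') := by
      rw [Ideal.smul_top_eq_map, Submodule.restrictScalars_mem, ← Ideal.Quotient.eq]
      exact hjx.symm
    obtain ⟨y, hy, hyd⟩ := Groth.Agent.TorShift.exists_mem_smul_top_of_flat d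
      (x := ⟨x - j, sub_mem hx hjI⟩) h2
    refine ⟨y, hy, ?_⟩
    rw [show y.1 = x - j from hyd, sub_sub_cancel]
    exact hj
  have hJm : ∀ c ∈ J, c ∈ IsLocalRing.maximalIdeal C' := fun c hc => IsLocalRing.le_maximalIdeal hJne hc
  intro x hx
  obtain ⟨y, hy, hxy⟩ := hstep x hx
  suffices h : y.1 ∈ S by simpa using add_mem hxy h
  refine Submodule.smul_induction_on hy (fun c hc v _ => ?_) (fun _ _ h₁ h₂ => by simpa using add_mem h₁ h₂)
  obtain ⟨z, hz, hvz⟩ := hstep v.1 v.2
  have hcz : c • z = 0 := by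
    refine Submodule.smul_induction_on hz (fun e he w _ => ?_) (fun _ _ h₁ h₂ => by simp [h₁, h₂])
    rw [smul_smul, show c * e = 0 from Ideal.mem_bot.1 (hJ ▸ Ideal.mul_mem_mul (hJm c hc) he), zero_smul]
  have : (c • v : I').1 = c • (v.1 - z.1) := by
    rw [smul_sub, ← Submodule.coe_smul_of_tower c z, hcz]; simp
  rw [this]
  exact Submodule.smul_of_tower_mem S c hvz

end Groth.Agent.S11455
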