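import Groth.Statements.S11456
import Groth.Agent.S13133
import Groth.Agent.TorShift.Basic


set_option autoImplicit false
universe u
open DefT

namespace Groth.Agent.S11456

/-- Let C be a local Artin ring with maximal ideal m, A a flat C-algebra such that A₀ = A/mA is a
Cohen–Macaulay local ring, and I ⊆ A an ideal with A/I flat over C whose image in A₀ is generated by
a regular sequence b_1, …, b_r on A₀. Then I is generated by r elements a_1, …, a_r forming a
regular sequence on A (so the Koszul complex on the a_i resolves A/I). -/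
theorem result (C : Type u) [CommRing C]
    [IsLocalRing C] [IsArtinianRing C] (A : Type u) [CommRing A] [Algebra C A] [Module.Flat C A]
    [LocCoh.IsCohenMacaulayLocalRing (A ⧸ (IsLocalRing.maximalIdeal C).map (algebraMap C A))]
    (I : Ideal A) [Module.Flat C (A ⧸ I)] (r : ℕ)
    (b : Fin r → A ⧸ (IsLocalRing.maximalIdeal C).map (algebraMap C A))
    (hb : RingTheory.Sequence.IsRegular (A ⧸ (IsLocalRing.maximalIdeal C).map (algebraMap C A)) (List.ofFn b))
    (hI : I.map (Ideal.Quotient.mk ((IsLocalRing.maximalIdeal C).map (algebraMap C A))) = Ideal.span (Set.range b)) :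
    ∃ a : Fin r → A, RingTheory.Sequence.IsRegular A (List.ofFn a) ∧ I = Ideal.span (Set.range a) := by
  classical
  let m := IsLocalRing.maximalIdeal C
  let mk := Ideal.Quotient.mk (m.map (algebraMap C A))
  have hm : m ≠ ⊤ := (IsLocalRing.maximalIdeal.isMaximal C).ne_top
  have hmem : ∀ i, ∃ a ∈ I, mk a = b i := fun i => by
    have : b i ∈ I.map mk := hI.symm ▸ Ideal.subset_span ⟨i, rfl⟩
    exact (Ideal.mem_map_iff_of_surjective _ Ideal.Quotient.mk_surjective).1 this
  choose a haI ha using hmem
  have hb' : RingTheory.Sequence.IsRegular (A ⧸ m.map (algebraMap C A)) (List.ofFn fun i => mk (a i)) := by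
    simp only [ha]; exact hb
  have hw : RingTheory.Sequence.IsWeaklyRegular A (List.ofFn a) :=
    (CAlgH.ArtFlat.isWeaklyRegular_quotient_iff hm _).1 (by
      rw [List.map_ofFn]; exact hb'.toIsWeaklyRegular)
  refine ⟨a, ?_, ?_⟩
  · rcases Nat.eq_zero_or_pos r with rfl | hr
    · have : Nontrivial A := (Ideal.Quotient.mk (m.map (algebraMap C A))).domain_nontrivial
      rw [List.ofFn_zero]
      exact RingTheory.Sequence.IsRegular.nil A A
    · exact (Groth.Agent.S13133.result m hm hr a).2 hb'
  · let J := Ideal.span (Set.range a)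
    have hJI : J ≤ I := Ideal.span_le.2 (Set.range_subset_iff.2 haI)
    refine le_antisymm ?_ hJI
    let d : I →ₗ[C] A := I.subtype.restrictScalars C
    have hrange : LinearMap.range d = I.restrictScalars C := by
      ext x; simp [d]
    have : Module.Flat C (A ⧸ LinearMap.range d) :=
      Module.Flat.of_linearEquiv ((Submodule.quotEquivOfEq _ _ hrange).trans
        (Submodule.Quotient.restrictScalarsEquiv C I))
    have hstep : ∀ x ∈ I, ∃ y ∈ m • (⊤ : Submodule C I), x - y.1 ∈ J := by
      intro x hx
      have h1 : mk x ∈ J.map mk := by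
        rw [Ideal.map_span, ← Set.range_comp, show mk ∘ a = b from funext ha, ← hI]
        exact Ideal.mem_map_of_mem _ hx
      obtain ⟨j, hj, hjx⟩ := (Ideal.mem_map_iff_of_surjective _ Ideal.Quotient.mk_surjective).1 h1
      have h2 : x - j ∈ m • (⊤ : Submodule C A) := by
        rw [Ideal.smul_top_eq_map, Submodule.restrictScalars_mem, ← Ideal.Quotient.eq]
        exact hjx.symm
      obtain ⟨y, hy, hyd⟩ := Groth.Agent.TorShift.exists_mem_smul_top_of_flat d
        (x := ⟨x - j, sub_mem hx (hJI hj)⟩) h2
      refine ⟨y, hy, ?_⟩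
      rw [show y.1 = x - j from hyd, sub_sub_cancel]
      exact hj
    have hle : ∀ N : ℕ, ∀ x : I, ∃ y ∈ (m ^ N) • (⊤ : Submodule C I), x.1 - y.1 ∈ J := by
      intro N
      induction N with
      | zero => exact fun x => ⟨x, by simp, by simp⟩
      | succ N ih =>
        intro x
        obtain ⟨y, hy, hxy⟩ := ih x
        suffices ∃ z ∈ (m ^ (N + 1)) • (⊤ : Submodule C I), y.1 - z.1 ∈ J by
          obtain ⟨z, hz, hyz⟩ := this
          exact ⟨z, hz, by simpa using add_mem hxy hyz⟩
        refine Submodule.smul_induction_on hy (fun c hc v _ => ?_) ?_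
        · obtain ⟨z, hz, hvz⟩ := hstep v.1 v.2
          refine ⟨c • z, ?_, ?_⟩
          · rw [pow_succ, Submodule.mul_smul]
            exact Submodule.smul_mem_smul hc hz
          · have : (c • v : I).1 - (c • z : I).1 = c • (v.1 - z.1) := by simp [smul_sub]
            rw [this]
            exact Submodule.smul_of_tower_mem J c hvz
        · rintro y₁ y₂ ⟨z₁, hz₁, h₁⟩ ⟨z₂, hz₂, h₂⟩
          refine ⟨z₁ + z₂, add_mem hz₁ hz₂, ?_⟩
          simpa [add_sub_add_comm] using add_mem h₁ h₂
    obtain ⟨N, hN⟩ := IsArtinianRing.isNilpotent_jacobson_bot (R := C)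
    rw [IsLocalRing.jacobson_eq_maximalIdeal ⊥ bot_ne_top] at hN
    intro x hx
    obtain ⟨y, hy, hxy⟩ := hle N ⟨x, hx⟩
    rw [show m ^ N = 0 from hN, Submodule.zero_eq_bot, Submodule.bot_smul, Submodule.mem_bot] at hy
    simpa [hy] using hxy

end Groth.Agent.S11456
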