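import Groth.Statements.S11457
import Groth.Agent.ArtLift.Basic
import Groth.Agent.CAlgH.ArtFlatSeq


set_option autoImplicit false
universe u
open DefT

namespace Groth.Agent.S11457

/-- Let C' be a local Artin ring, J ⊊ C' a proper ideal annihilated by the maximal ideal, C = C'/J, A' a
flat C'-algebra of finite type with smooth special fibre, and A = A'/JA'. Let φ be an (r+1) × r
matrix over A such that 0 → A^r → A^{r+1} → A is exact, the second map sending v to Σ_i v_i f_i with
f_i = (−1)^i det(φ with row i removed), and such that A/(f_0, …, f_r) is flat over C. Then every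
matrix φ' over A' lifting φ has the same property over A': multiplication by φ' is injective, its
image is the kernel of the map given by the signed maximal minors f'_i of φ', and A'/(f'_0, …, f'_r)
is flat over C' (its reduction to A is A/(f_0, …, f_r) since minors commute with reduction). -/
theorem result (C' : Type u) [CommRing C'] [IsLocalRing C'] [IsArtinianRing C'] (J : Ideal C')
    (hJ : IsLocalRing.maximalIdeal C' * J = ⊥) (hJne : J ≠ ⊤) (A' : Type u) [CommRing A'] [Algebra C' A'] [Module.Flat C' A']
    [Algebra.FiniteType C' A']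
    [Algebra.Smooth (C' ⧸ IsLocalRing.maximalIdeal C') (A' ⧸ (IsLocalRing.maximalIdeal C').map (algebraMap C' A'))]
    (r : ℕ) (φ' : Matrix (Fin (r + 1)) (Fin r) A')
    (hφ : (Function.Injective (φ'.map (Ideal.Quotient.mk (J.map (algebraMap C' A')))).mulVecLin ∧
        LinearMap.range (φ'.map (Ideal.Quotient.mk (J.map (algebraMap C' A')))).mulVecLin = LinearMap.ker (Fintype.linearCombination (A' ⧸ J.map (algebraMap C' A')) (fun i : Fin (r + 1) => (-1 : (A' ⧸ J.map (algebraMap C' A'))) ^ (i : ℕ) * ((φ'.map (Ideal.Quotient.mk (J.map (algebraMap C' A')))).submatrix i.succAbove id).det))))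
    [Module.Flat (C' ⧸ J) ((A' ⧸ J.map (algebraMap C' A')) ⧸ Ideal.span (Set.range (fun i : Fin (r + 1) => (-1 : (A' ⧸ J.map (algebraMap C' A'))) ^ (i : ℕ) * ((φ'.map (Ideal.Quotient.mk (J.map (algebraMap C' A')))).submatrix i.succAbove id).det)))] :
    Function.Injective φ'.mulVecLin ∧
      LinearMap.range φ'.mulVecLin = LinearMap.ker (Fintype.linearCombination A' (fun i : Fin (r + 1) => (-1 : A') ^ (i : ℕ) * ((φ').submatrix i.succAbove id).det)) ∧
      Module.Flat C' (A' ⧸ Ideal.span (Set.range (fun i : Fin (r + 1) => (-1 : A') ^ (i : ℕ) * ((φ').submatrix i.succAbove id).det))) := by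
  classical
  let P := J.map (algebraMap C' A')
  let mk := Ideal.Quotient.mk P
  let minor := fun i : Fin (r + 1) => (-1 : A') ^ (i : ℕ) * ((φ').submatrix i.succAbove id).det
  let φ := φ'.map mk
  let mb := fun i : Fin (r + 1) => (-1 : A' ⧸ P) ^ (i : ℕ) * (φ.submatrix i.succAbove id).det
  let f : (Fin r → A') →ₗ[C'] (Fin (r + 1) → A') := φ'.mulVecLin.restrictScalars C'
  let g : (Fin (r + 1) → A') →ₗ[C'] A' := (Fintype.linearCombination A' minor).restrictScalars C'
  have hminor : ∀ i, mk (minor i) = mb i := fun i => by
    simp only [minor, mb, φ, map_mul, map_pow, map_neg, map_one, RingHom.map_det]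
    rfl
  have hcoord : ∀ {m : ℕ} (x : Fin m → A'),
      x ∈ (J • ⊤ : Submodule C' (Fin m → A')) ↔ ∀ i, mk (x i) = 0 := by
    intro m x
    constructor
    · intro hx i
      refine Submodule.smul_induction_on hx (fun c hc y _ => ?_) fun a b ha hb => by
        simp [Pi.add_apply, ha, hb]
      rw [Pi.smul_apply, Algebra.smul_def, Ideal.Quotient.eq_zero_iff_mem]
      exact Ideal.mul_mem_right _ _ (Ideal.mem_map_of_mem _ hc)
    · intro h
      rw [← CAlgH.ArtFlat.mem_map_smul_top_iff (S := A'), ← Finset.univ_sum_single x]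
      refine Submodule.sum_mem _ fun i _ => ?_
      rw [show Pi.single i (x i) = x i • (Pi.single i (1 : A') : Fin m → A') by ext; simp [Pi.single_apply]]
      exact Submodule.smul_mem_smul (Ideal.Quotient.eq_zero_iff_mem.1 (h i)) Submodule.mem_top
  have hmulVec : ∀ v : Fin r → A', (fun i => mk (φ'.mulVec v i)) = φ.mulVec (fun i => mk (v i)) :=
    fun v => funext fun i => RingHom.map_mulVec mk φ' v i
  have hg : ∀ x : Fin (r + 1) → A', mk (g x) = Fintype.linearCombination (A' ⧸ P) mb (fun i => mk (x i)) := by
    intro x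
    simp [g, Fintype.linearCombination_apply, map_sum, hminor]
  have hgf : g ∘ₗ f = 0 := by
    refine LinearMap.ext fun v => ?_
    suffices h : ∀ j, ∑ i, φ' i j * minor i = 0 by
      simp only [g, f, LinearMap.comp_apply, LinearMap.restrictScalars_apply, Matrix.mulVecLin_apply,
        Fintype.linearCombination_apply, smul_eq_mul, Matrix.mulVec, dotProduct, Finset.sum_mul, LinearMap.zero_apply]
      rw [Finset.sum_comm]
      refine Finset.sum_eq_zero fun j _ => ?_
      calc ∑ i, φ' i j * v j * minor i = v j * ∑ i, φ' i j * minor i := by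
            rw [Finset.mul_sum]; exact Finset.sum_congr rfl fun i _ => by ring
        _ = 0 := by rw [h j, mul_zero]
    intro j
    let M : Matrix (Fin (r + 1)) (Fin (r + 1)) A' := Matrix.of fun i => Fin.cons (φ' i j) (φ' i)
    have hM : M.det = 0 := Matrix.det_zero_of_column_eq (Fin.succ_ne_zero j) fun i => by simp [M]
    rw [Matrix.det_succ_column_zero] at hM
    rw [← hM]
    refine Finset.sum_congr rfl fun i _ => ?_
    have : M.submatrix i.succAbove Fin.succ = φ'.submatrix i.succAbove id := by ext a b; simp [M]
    rw [this]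
    simp [M, minor]
    ring
  have hinj : CAlgH.ArtFlat.InjMod J f := by
    intro v hv
    rw [hcoord] at hv ⊢
    have : φ.mulVecLin (fun i => mk (v i)) = φ.mulVecLin 0 := by
      rw [map_zero, Matrix.mulVecLin_apply, ← hmulVec]
      exact funext hv
    exact congrFun (hφ.1 this)
  have hfl : ∀ m, Module.Flat C' (Fin m → A') := fun m => Module.Flat.trans C' A' _
  obtain ⟨hf, hflat⟩ := Groth.Agent.ArtLift.injective_and_flat hJne hinj
  have hex : Groth.Agent.ArtLift.ExactMod J f g := by
    intro x hx
    have h0 : mk (g x) = 0 := by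
      rw [Ideal.smul_top_eq_map, Submodule.restrictScalars_mem] at hx
      exact Ideal.Quotient.eq_zero_iff_mem.2 hx
    rw [hg] at h0
    have h1 : (fun i => mk (x i)) ∈ LinearMap.ker (Fintype.linearCombination (A' ⧸ P) mb) := h0
    rw [← hφ.2] at h1
    obtain ⟨z, hz⟩ := h1
    choose y hy using fun i => Ideal.Quotient.mk_surjective (z i)
    refine ⟨y, (hcoord _).2 fun i => ?_⟩
    rw [Pi.sub_apply, map_sub, sub_eq_zero]
    have h2 := congrFun (hmulVec y) i
    rw [show (fun i => mk (y i)) = z from funext hy] at h2
    exact (congrFun hz i).symm.trans h2.symm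
  obtain ⟨hexact, hflat2⟩ := Groth.Agent.ArtLift.exact_and_flat hgf hJne hex
  refine ⟨hf, ?_, ?_⟩
  · exact SetLike.ext fun x => (hexact x).symm
  · refine Module.Flat.of_linearEquiv ((((Submodule.quotEquivOfEq _ _
      (LinearMap.range_restrictScalars (Fintype.linearCombination A' minor))).trans
      (Submodule.Quotient.restrictScalarsEquiv C' _)).trans ((Submodule.quotEquivOfEq _ _ ?_).restrictScalars C')).symm)
    exact Fintype.range_linearCombination A' minor

end Groth.Agent.S11457
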