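import Groth.Statements.S11459
import Groth.Agent.ArtLift.HilbertBurch


set_option autoImplicit false
universe u
open DefT

namespace Groth.Agent.S11459

/-- Let C' be a local Artin ring, J ⊊ C' a proper ideal annihilated by the maximal ideal, C = C'/J, A' a
flat C'-algebra of finite type with smooth special fibre, A = A'/JA', and φ an (r+1) × r matrix over
A with 0 → A^r → A^{r+1} → A exact (matrix, then signed maximal minors f_i) A/(f_0, …, f_r) flat
over C, and every prime of A containing (f_0, …, f_r) of height ≥ 2 (codimension 2). Then any ideal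
I' ⊆ A' such that A'/I' is flat over C' and the image of I' in A is (f_0, …, f_r) is generated by
the signed maximal minors of some matrix φ' over A' reducing to φ. -/
theorem result (C' : Type u) [CommRing C'] [IsLocalRing C'] [IsArtinianRing C'] (J : Ideal C')
    (hJ : IsLocalRing.maximalIdeal C' * J = ⊥) (hJne : J ≠ ⊤) (A' : Type u) [CommRing A'] [Algebra C' A'] [Module.Flat C' A']
    [Algebra.FiniteType C' A']
    [Algebra.Smooth (C' ⧸ IsLocalRing.maximalIdeal C') (A' ⧸ (IsLocalRing.maximalIdeal C').map (algebraMap C' A'))]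
    (r : ℕ) (φ : Matrix (Fin (r + 1)) (Fin r) (A' ⧸ J.map (algebraMap C' A')))
    (hφ : Function.Injective φ.mulVecLin ∧
      LinearMap.range φ.mulVecLin = LinearMap.ker (Fintype.linearCombination (A' ⧸ J.map (algebraMap C' A')) (fun i : Fin (r + 1) => (-1 : (A' ⧸ J.map (algebraMap C' A'))) ^ (i : ℕ) * ((φ).submatrix i.succAbove id).det)))
    [Module.Flat (C' ⧸ J) ((A' ⧸ J.map (algebraMap C' A')) ⧸ Ideal.span (Set.range (fun i : Fin (r + 1) => (-1 : (A' ⧸ J.map (algebraMap C' A'))) ^ (i : ℕ) * ((φ).submatrix i.succAbove id).det)))]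
    (hcodim : ∀ p : Ideal (A' ⧸ J.map (algebraMap C' A')), p.IsPrime →
      Ideal.span (Set.range (fun i : Fin (r + 1) => (-1 : (A' ⧸ J.map (algebraMap C' A'))) ^ (i : ℕ) * ((φ).submatrix i.succAbove id).det)) ≤ p → (2 : ℕ∞) ≤ p.height)
    (I' : Ideal A') [Module.Flat C' (A' ⧸ I')]
    (hI' : I'.map (Ideal.Quotient.mk (J.map (algebraMap C' A'))) = Ideal.span (Set.range (fun i : Fin (r + 1) => (-1 : (A' ⧸ J.map (algebraMap C' A'))) ^ (i : ℕ) * ((φ).submatrix i.succAbove id).det))) :
    ∃ φ' : Matrix (Fin (r + 1)) (Fin r) A', φ'.map (Ideal.Quotient.mk (J.map (algebraMap C' A'))) = φ ∧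
      I' = Ideal.span (Set.range (fun i : Fin (r + 1) => (-1 : A') ^ (i : ℕ) * ((φ').submatrix i.succAbove id).det)) := by
  let m := IsLocalRing.maximalIdeal C'
  have hm : m ≠ ⊤ := (IsLocalRing.maximalIdeal.isMaximal C').ne_top
  letI : Field (C' ⧸ m) := Ideal.Quotient.field m
  have : IsRegularRing (A' ⧸ m.map (algebraMap C' A')) := Groth.Agent.GeomRegH.isRegularRing_of_smooth (C' ⧸ m) _
  have hle : J.map (algebraMap C' A') ≤ m.map (algebraMap C' A') := Ideal.map_mono (IsLocalRing.le_maximalIdeal hJne)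
  let g := Ideal.Quotient.factor hle
  have hg : Function.Surjective g := Ideal.Quotient.factor_surjective hle
  have hnil : RingHom.ker g ≤ nilradical (A' ⧸ J.map (algebraMap C' A')) := by
    intro z hz
    obtain ⟨z, rfl⟩ := Ideal.Quotient.mk_surjective z
    rw [RingHom.mem_ker, Ideal.Quotient.factor_mk, Ideal.Quotient.eq_zero_iff_mem] at hz
    exact (Groth.Agent.ArtLift.isNilpotent_of_mem_map hm hz).map _
  have hcod : ∀ p : Ideal (A' ⧸ m.map (algebraMap C' A')), p.IsPrime →
      I'.map (Ideal.Quotient.mk (m.map (algebraMap C' A'))) ≤ p → (2 : ℕ∞) ≤ p.height := by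
    intro p hp hle'
    rw [← Groth.Agent.ArtLift.height_comap_of_nil g hg hnil p]
    refine hcodim _ inferInstance ?_
    rw [← hI', Ideal.map_le_iff_le_comap, Ideal.comap_comap, Ideal.Quotient.factor_comp_mk]
    exact Ideal.map_le_iff_le_comap.1 hle'
  obtain ⟨x₀, hx₀, y₀, hy₀, hreg⟩ := Groth.Agent.ArtLift.exists_regular_pair _ hcod
  obtain ⟨x, hx, rfl⟩ := (Ideal.mem_map_iff_of_surjective _ Ideal.Quotient.mk_surjective).1 hx₀
  obtain ⟨y, hy, rfl⟩ := (Ideal.mem_map_iff_of_surjective _ Ideal.Quotient.mk_surjective).1 hy₀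
  obtain ⟨φ', hmap, hspan, -, -⟩ :=
    Groth.Agent.ArtLift.exists_minors_lift hJne φ hφ.1 hφ.2 I' hI' ⟨x, hx, y, hy, hreg⟩
  exact ⟨φ', hmap, hspan⟩

end Groth.Agent.S11459
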