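import Groth.Statements.S11460
import Groth.Agent.S11449
import Groth.Agent.ArtLift.Spread
import Groth.Agent.ArtLift.StalkKer
import Groth.Agent.GeomRegH.Basic
import Groth.Agent.FlatLocalDepth.Comp


set_option autoImplicit false
universe u
open CategoryTheory AlgebraicGeometry
open DefT

namespace Groth.Agent.S11460

/-- Let X be smooth over a field k and Y ⊆ X a closed subscheme which is Cohen–Macaulay of codimension 2
(all local rings of Y Cohen–Macaulay, and dim O_{X,y} = dim O_{Y,y} + 2 at every point y of Y). Then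
each point of Y has an affine open neighbourhood U in X and an (r+1) × r matrix φ of functions on U
whose signed maximal minors f_i generate the ideal of Y ∩ U and give an exact sequence 0 → O(U)^r →
O(U)^{r+1} → O(U), hence a resolution of O_{Y ∩ U} on the affine U. -/
theorem result (k : Type u) [Field k]
    (X Y : Scheme.{u}) (f : X ⟶ Spec (CommRingCat.of k)) [Smooth f] (ι : Y ⟶ X) [IsClosedImmersion ι]
    (hCM : ∀ y : Y, LocCoh.IsCohenMacaulayLocalRing (Y.presheaf.stalk y))
    (hcodim : ∀ y : Y, ringKrullDim (Y.presheaf.stalk y) + 2 = ringKrullDim (X.presheaf.stalk (ι.base y)))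
    (y : Y) :
    ∃ U : X.affineOpens, ι.base y ∈ (U : X.Opens) ∧ ∃ (r : ℕ) (φ : Matrix (Fin (r + 1)) (Fin r) Γ(X, U)),
      (Ideal.span (Set.range (fun i : Fin (r + 1) => (-1 : Γ(X, U)) ^ (i : ℕ) * ((φ).submatrix i.succAbove id).det)) = ι.ker.ideal U ∧
        Function.Injective (φ).mulVecLin ∧
        LinearMap.range (φ).mulVecLin = LinearMap.ker (Fintype.linearCombination Γ(X, U) (fun i : Fin (r + 1) => (-1 : Γ(X, U)) ^ (i : ℕ) * ((φ).submatrix i.succAbove id).det))) := by
  obtain ⟨U, hU, hxU, -⟩ := exists_isAffineOpen_mem_and_subset (U := (⊤ : X.Opens)) (x := ι.base y) trivial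
  let A := Γ(X, U)
  letI : Algebra k A := (((Scheme.ΓSpecIso (CommRingCat.of k)).inv ≫ f.appLE ⊤ U le_top)).hom.toAlgebra
  have : Algebra.Smooth k A := by
    refine (RingHom.smooth_algebraMap).1 ?_
    exact RingHom.Smooth.respectsIso.2 (f.appLE ⊤ U le_top).hom (Scheme.ΓSpecIso (CommRingCat.of k)).symm.commRingCatIsoToRingEquiv
      (f.smooth_appLE (isAffineOpen_top _) hU le_top)
  have : IsRegularRing A := Groth.Agent.GeomRegH.isRegularRing_of_smooth k A
  let p := (hU.primeIdealOf ⟨ι.base y, hxU⟩).asIdeal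
  letI : Algebra A (X.presheaf.stalk (ι.base y)) := (X.presheaf.germ U (ι.base y) hxU).hom.toAlgebra
  have hloc : IsLocalization.AtPrime (X.presheaf.stalk (ι.base y)) p := hU.isLocalization_stalk ⟨ι.base y, hxU⟩
  have : IsRegularLocalRing (X.presheaf.stalk (ι.base y)) := by
    have := IsRegularRing.isRegularLocalRing_localization (R := A) p
    exact IsRegularLocalRing.of_ringEquiv (IsLocalization.algEquiv p.primeCompl (Localization.AtPrime p) _).toRingEquiv
  let I := ι.ker.ideal ⟨U, hU⟩
  let IL := I.map (algebraMap A (X.presheaf.stalk (ι.base y)))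
  have hker : RingHom.ker (ι.stalkMap y).hom = IL := Groth.Agent.ArtLift.ker_stalkMap_eq_map ι ⟨U, hU⟩ y hxU
  let e : (X.presheaf.stalk (ι.base y) ⧸ IL) ≃+* Y.presheaf.stalk y :=
    (Ideal.quotEquivOfEq hker.symm).trans (RingHom.quotientKerEquivOfSurjective (ι.stalkMap_surjective y))
  have := hCM y
  have : LocCoh.IsCohenMacaulayLocalRing (X.presheaf.stalk (ι.base y) ⧸ IL) :=
    Groth.Agent.FlatLocalDepth.isCohenMacaulayLocalRing_of_ringEquiv e.symm
  obtain ⟨r, φ, hspan, -, hinj, hex⟩ := Groth.Agent.S11449.result (X.presheaf.stalk (ι.base y)) IL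
    (by rw [ringKrullDim_eq_of_ringEquiv e]; exact hcodim y)
  obtain ⟨g, ψ, hg, hB⟩ := Groth.Agent.ArtLift.exists_spread p (X.presheaf.stalk (ι.base y)) I φ hspan hinj hex
  let V := X.affineBasicOpen (U := ⟨U, hU⟩) g
  letI : Algebra A Γ(X, X.basicOpen g) := (X.presheaf.map (homOfLE (X.basicOpen_le g)).op).hom.toAlgebra
  have : IsLocalization.Away g Γ(X, X.basicOpen g) := hU.isLocalization_basicOpen g
  obtain ⟨h1, h2, h3⟩ := hB Γ(X, X.basicOpen g)
  refine ⟨V, ?_, r, ψ.map (algebraMap A Γ(X, X.basicOpen g)), ?_, h2, h3⟩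
  · change ι.base y ∈ X.basicOpen g
    rw [X.mem_basicOpen g (ι.base y) hxU]
    exact IsLocalization.map_units (X.presheaf.stalk (ι.base y)) (⟨g, hg⟩ : p.primeCompl)
  · exact h1.trans (ι.ker.map_ideal_basicOpen ⟨U, hU⟩ g)

end Groth.Agent.S11460
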