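import Groth.Statements.S11461
import Mathlib


set_option autoImplicit false
universe u
open CategoryTheory
open DefT

namespace Groth.Agent.S11461

/-- Let B be a Noetherian ring and F an additive, B-linear endofunctor of B-modules which preserves
finite generation and is semi-exact on short exact sequences of finitely generated modules (the
image sequence is exact in the middle). If F kills B/m for every maximal ideal m, then F kills every
finitely generated B-module. (The published statement assumes F only additive; this row assumes F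
B-linear, and takes the functor on all B-modules with the hypotheses and the conclusion on the
finitely generated ones.) -/
theorem result (B : Type u) [CommRing B]
    [IsNoetherianRing B] (F : ModuleCat.{u} B ⥤ ModuleCat.{u} B) [F.Additive] [F.Linear B]
    (hfg : ∀ M : ModuleCat.{u} B, Module.Finite B M → Module.Finite B (F.obj M))
    (hex : ∀ S : ShortComplex (ModuleCat.{u} B), S.ShortExact → Module.Finite B S.X₂ → (S.map F).Exact)
    (h0 : ∀ m : Ideal B, m.IsMaximal → Limits.IsZero (F.obj (ModuleCat.of B (B ⧸ m))))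
    (M : ModuleCat.{u} B) (hM : Module.Finite B M) : Limits.IsZero (F.obj M) := by
  have hext : ∀ (N₁ N₂ N₃ : ModuleCat.{u} B) (f : N₁ ⟶ N₂) (g : N₂ ⟶ N₃), Module.Finite B N₂ →
      Function.Injective f → Function.Surjective g → Function.Exact f g →
      Limits.IsZero (F.obj N₁) → Limits.IsZero (F.obj N₃) → Limits.IsZero (F.obj N₂) := by
    intro N₁ N₂ N₃ f g hfin hf hg hfg h₁ h₃
    have hz : f ≫ g = 0 := ModuleCat.hom_ext (LinearMap.ext fun x => hfg.apply_apply_eq_zero x)
    let S := ShortComplex.mk f g hz
    have hS : S.ShortExact :=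
      { exact := (ShortComplex.ShortExact.moduleCat_exact_iff_function_exact S).2 hfg
        mono_f := (ModuleCat.mono_iff_injective _).2 hf
        epi_g := (ModuleCat.epi_iff_surjective _).2 hg }
    exact (hex S hS hfin).isZero_of_both_zeros (h₁.eq_of_src _ _) (h₃.eq_of_tgt _ _)
  have hiso : ∀ (N₁ N₂ : ModuleCat.{u} B), (N₁ ≃ₗ[B] N₂) → Limits.IsZero (F.obj N₂) → Limits.IsZero (F.obj N₁) :=
    fun N₁ N₂ e h => h.of_iso (F.mapIso e.toModuleIso)
  have hsub : ∀ (N : ModuleCat.{u} B), Subsingleton N → Limits.IsZero (F.obj N) :=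
    fun N _ => F.map_isZero (ModuleCat.isZero_of_subsingleton N)
  have hind : ∀ J : Ideal B, (∀ q : Ideal B, q.IsPrime → J ≤ q → Limits.IsZero (F.obj (ModuleCat.of B (B ⧸ q)))) →
      ∀ N : ModuleCat.{u} B, Module.Finite B N → J ≤ Module.annihilator B N → Limits.IsZero (F.obj N) := by
    intro J hJ N hN hann
    revert hann
    refine IsNoetherianRing.induction_on_isQuotientEquivQuotientPrime B (M := N) hN
      (motive := fun N _ _ _ => J ≤ Module.annihilator B N → Limits.IsZero (F.obj (ModuleCat.of B N))) ?_ ?_ ?_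
    · intro N _ _ _ _ _
      exact hsub _ inferInstance
    · intro N _ _ _ p e hann
      refine hiso (ModuleCat.of B N) (ModuleCat.of B (B ⧸ p.1)) e (hJ p.1 p.2 ?_)
      rw [e.annihilator_eq, Ideal.annihilator_quotient] at hann
      exact hann
    · intro N₁ _ _ _ N₂ _ _ _ N₃ _ _ _ f g hf hg hfg h₁ h₃ hann
      exact hext (ModuleCat.of B N₁) (ModuleCat.of B N₂) (ModuleCat.of B N₃) (ModuleCat.ofHom f) (ModuleCat.ofHom g)
        inferInstance hf hg hfg (h₁ (hann.trans (f.annihilator_le_of_injective hf)))
        (h₃ (hann.trans (g.annihilator_le_of_surjective hg)))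
  suffices key : ∀ p : Ideal B, p.IsPrime → Limits.IsZero (F.obj (ModuleCat.of B (B ⧸ p))) from
    hind ⊥ (fun q hq _ => key q hq) M hM bot_le
  intro p
  induction p using WellFoundedGT.induction with
  | ind p ih =>
    intro hp
    let Q := ModuleCat.of B (B ⧸ p)
    have hQ : Module.Finite B (F.obj Q) := hfg Q (Module.Finite.quotient B p)
    have hsm : ∀ x : B, F.map (x • 𝟙 Q) = x • 𝟙 (F.obj Q) := fun x => by rw [F.map_smul, F.map_id]
    have hsurj : ∀ x, x ∉ p → ∀ v : F.obj Q, ∃ w : F.obj Q, x • w = v := by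
      intro x hx v
      let C := ModuleCat.of B (B ⧸ (p ⊔ Ideal.span {x}))
      have hC : Limits.IsZero (F.obj C) := by
        refine hind (p ⊔ Ideal.span {x}) (fun q hq hle => ih q (lt_of_lt_of_le ?_ hle) hq) C
          (Module.Finite.quotient B _) ?_
        · exact lt_of_le_not_ge le_sup_left fun hle => hx (hle (Ideal.mem_sup_right (Ideal.mem_span_singleton_self x)))
        · rw [show Module.annihilator B C = _ from Ideal.annihilator_quotient]
      let g : Q ⟶ C := ModuleCat.ofHom (Submodule.factor (le_sup_left : p ≤ p ⊔ Ideal.span {x}))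
      have hz : (x • 𝟙 Q) ≫ g = 0 := by
        refine ModuleCat.hom_ext (LinearMap.ext fun y => ?_)
        obtain ⟨y, rfl⟩ := Ideal.Quotient.mk_surjective y
        exact Ideal.Quotient.eq_zero_iff_mem.2 (Ideal.mem_sup_right (Ideal.mul_mem_right _ _ (Ideal.mem_span_singleton_self x)))
      let S := ShortComplex.mk (x • 𝟙 Q) g hz
      have hS : S.ShortExact :=
        { exact := (ShortComplex.ShortExact.moduleCat_exact_iff_function_exact S).2 fun y => by
            obtain ⟨y, rfl⟩ := Ideal.Quotient.mk_surjective y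
            constructor
            · intro hy
              obtain ⟨a, ha, b, hb, hab⟩ := Submodule.mem_sup.1 (Ideal.Quotient.eq_zero_iff_mem.1 hy)
              obtain ⟨c, rfl⟩ := Ideal.mem_span_singleton.1 hb
              refine ⟨Ideal.Quotient.mk p c, ?_⟩
              change Ideal.Quotient.mk p (x * c) = Ideal.Quotient.mk p y
              rw [show y = a + x * c from hab.symm, map_add, Ideal.Quotient.eq_zero_iff_mem.2 ha, zero_add]
            · rintro ⟨w, hw⟩
              exact (congrArg _ hw.symm).trans (LinearMap.congr_fun (congrArg ModuleCat.Hom.hom hz) w)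
          mono_f := (ModuleCat.mono_iff_injective _).2 ((injective_iff_map_eq_zero (x • 𝟙 Q : Q ⟶ Q).hom).2 fun y hy => by
            obtain ⟨y, rfl⟩ := Ideal.Quotient.mk_surjective y
            exact Ideal.Quotient.eq_zero_iff_mem.2 ((hp.mem_or_mem (Ideal.Quotient.eq_zero_iff_mem.1 hy)).resolve_left hx))
          epi_g := (ModuleCat.epi_iff_surjective _).2 (Submodule.factor_surjective (le_sup_left : p ≤ p ⊔ Ideal.span {x})) }
      have hE := (ShortComplex.ShortExact.moduleCat_exact_iff_function_exact _).1 (hex S hS (Module.Finite.quotient B p))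
      obtain ⟨w, hw⟩ := (hE v).1 (LinearMap.congr_fun (congrArg ModuleCat.Hom.hom (hC.eq_of_tgt (F.map g) 0)) v)
      refine ⟨w, ?_⟩
      have hw' : (F.map (x • 𝟙 Q)).hom w = v := hw
      rw [hsm] at hw'
      exact hw'
    by_cases hmax : p.IsMaximal
    · exact h0 p hmax
    rw [ModuleCat.isZero_iff_subsingleton]
    obtain ⟨n, hn⟩ := Ideal.exists_le_maximal p hp.ne_top
    have hpn : ∃ x ∈ n, x ∉ p := by
      by_contra hc
      exact hmax ((show n = p from le_antisymm (fun x hx => not_not.1 fun h => hc ⟨x, hx, h⟩) hn.2) ▸ hn.1)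
    refine subsingleton_of_forall_eq 0 fun v => ?_
    have hann : ∀ m : Ideal B, m.IsMaximal → ∃ r, r ∉ m ∧ r • v = 0 := by
      intro m hm
      by_cases hpm : p ≤ m
      · have hne : m ≠ p := fun h => hmax (h ▸ hm)
        obtain ⟨x, hxm, hxp⟩ := SetLike.not_le_iff_exists.1 (fun h : m ≤ p => hne (le_antisymm h hpm))
        have hle : (⊤ : Submodule B (F.obj Q)) ≤ Ideal.span {x} • (⊤ : Submodule B (F.obj Q)) := by
          intro y _
          obtain ⟨w, rfl⟩ := hsurj x hxp y
          exact Submodule.smul_mem_smul (Ideal.mem_span_singleton_self x) trivial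
        obtain ⟨r, hr1, hr2⟩ := Submodule.exists_sub_one_mem_and_smul_eq_zero_of_fg_of_le_smul _ _ hQ.fg_top hle
        refine ⟨r, fun hr => hm.ne_top ((Ideal.eq_top_iff_one _).2 ?_), hr2 v trivial⟩
        simpa using sub_mem hr ((Ideal.span_singleton_le_iff_mem _).2 hxm hr1)
      · obtain ⟨r, hrp, hrm⟩ := SetLike.not_le_iff_exists.1 hpm
        refine ⟨r, hrm, ?_⟩
        have hz : r • 𝟙 Q = 0 := ModuleCat.hom_ext (LinearMap.ext fun y => by
          obtain ⟨y, rfl⟩ := Ideal.Quotient.mk_surjective y
          exact Ideal.Quotient.eq_zero_iff_mem.2 (Ideal.mul_mem_right _ _ hrp))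
        have h1 := hsm r
        rw [hz, F.map_zero] at h1
        exact (LinearMap.congr_fun (congrArg ModuleCat.Hom.hom h1) v).symm
    by_contra hv
    have hne : (LinearMap.toSpanSingleton B (F.obj Q) v).ker ≠ ⊤ := fun h => hv <| by
      have h1 := LinearMap.mem_ker.1 (h.ge (Submodule.mem_top : (1 : B) ∈ (⊤ : Submodule B B)))
      rwa [LinearMap.toSpanSingleton_apply, one_smul] at h1
    obtain ⟨m, hm, hle⟩ := Ideal.exists_le_maximal _ hne
    obtain ⟨r, hr, hrv⟩ := hann m hm
    exact hr (hle (LinearMap.mem_ker.2 hrv))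

end Groth.Agent.S11461
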