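import Groth.Statements.S11462
import Groth.Agent.FlatPurLib.Section
import Groth.Agent.ArtLift.HilbertBurch
import Groth.Agent.CAlgSerre.NormalImp
import Mathlib.RingTheory.Localization.AtPrime.Basic
import Mathlib.AlgebraicGeometry.Noetherian


set_option autoImplicit false
universe u
open CategoryTheory AlgebraicGeometry Opposite
open DefT

namespace Groth.Agent.S11462

/-- Let C be a local Artin ring with maximal ideal m, A a Noetherian C-algebra flat over C such that
Spec(A/mA) is a normal scheme, and U ⊆ X = Spec A an open subset whose closed complement has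
codimension ≥ 2, i.e. every prime of A not in U has height at least 2. Then the restriction map Γ(X,
O_X) → Γ(U, O_X) is bijective. (The published statement assumes only that A is flat over C with
normal special fibre; this row also assumes A Noetherian: for a valuation ring of rank two over a
field, which is normal and flat, the functions on the complement of the closed point are not all
global.) -/
theorem result (C : Type u) [CommRing C]
    [IsLocalRing C] [IsArtinianRing C] (A : Type u) [CommRing A] [IsNoetherianRing A] [Algebra C A]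
    [Module.Flat C A]
    (hnorm : Pi1.IsNormalScheme (Spec (CommRingCat.of (A ⧸ (IsLocalRing.maximalIdeal C).map (algebraMap C A)))))
    (U : (Spec (CommRingCat.of A)).Opens)
    (hU : ∀ p : ↥(Spec (CommRingCat.of A)), p ∉ U → (2 : ℕ∞) ≤ p.asIdeal.height) :
    Function.Bijective ((Spec (CommRingCat.of A)).presheaf.map (homOfLE (le_top : U ≤ ⊤)).op) := by
  classical
  let m := IsLocalRing.maximalIdeal C
  have hm : m ≠ ⊤ := (IsLocalRing.maximalIdeal.isMaximal C).ne_top
  let P := m.map (algebraMap C A)
  let mk := Ideal.Quotient.mk P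
  have hnil : RingHom.ker mk ≤ nilradical A := fun x hx => by
    rw [Ideal.mk_ker] at hx
    exact Groth.Agent.ArtLift.isNilpotent_of_mem_map hm hx
  have hdepth : Groth.Agent.FlatPurLib.Depth2 (Spec (CommRingCat.of A)) U := by
    intro z hz
    let L := (Spec (CommRingCat.of A)).presheaf.stalk z
    letI : Algebra A L := AlgebraicGeometry.StructureSheaf.stalkAlgebra A (z : PrimeSpectrum A)
    have hlocL : IsLocalization.AtPrime L z.asIdeal := AlgebraicGeometry.StructureSheaf.IsLocalization.to_stalk A (z : PrimeSpectrum A)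
    have hPz : RingHom.ker mk ≤ z.asIdeal := hnil.trans (nilradical_le_prime z.asIdeal)
    have : (z.asIdeal.map mk).IsPrime := Ideal.map_isPrime_of_surjective Ideal.Quotient.mk_surjective hPz
    let z0 : ↥(Spec (CommRingCat.of (A ⧸ P))) := (⟨z.asIdeal.map mk, this⟩ : PrimeSpectrum (A ⧸ P))
    have hz0 : z0.asIdeal.comap mk = z.asIdeal := by
      change (z.asIdeal.map mk).comap mk = z.asIdeal
      rw [Ideal.comap_map_of_surjective _ Ideal.Quotient.mk_surjective, ← RingHom.ker_eq_comap_bot, sup_eq_left.2 hPz]
    let L0 := (Spec (CommRingCat.of (A ⧸ P))).presheaf.stalk z0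
    letI : Algebra (A ⧸ P) L0 := AlgebraicGeometry.StructureSheaf.stalkAlgebra (A ⧸ P) (z0 : PrimeSpectrum (A ⧸ P))
    have hlocL0 : IsLocalization.AtPrime L0 z0.asIdeal :=
      AlgebraicGeometry.StructureSheaf.IsLocalization.to_stalk (A ⧸ P) (z0 : PrimeSpectrum (A ⧸ P))
    obtain ⟨hdom, hic⟩ := hnorm z0
    have : IsNoetherianRing L0 := IsLocalization.isNoetherianRing z0.asIdeal.primeCompl L0 inferInstance
    have hdim : (2 : WithBot ℕ∞) ≤ ringKrullDim L0 := by
      rw [IsLocalization.AtPrime.ringKrullDim_eq_height z0.asIdeal L0]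
      have h := Groth.Agent.ArtLift.height_comap_of_nil mk Ideal.Quotient.mk_surjective hnil z0.asIdeal
      rw [hz0] at h
      exact WithBot.coe_le_coe.2 (h ▸ hU z hz)
    obtain ⟨rs, hl, hmem, hreg⟩ := (Depth.le_idealDepth_iff_exists (n := 2)
      (Depth.smul_top_ne_top_self (IsLocalRing.maximalIdeal.isMaximal L0).ne_top)).1 (CAlgSerre.two_le_depth hdim)
    -- the surjection of stalks
    have hsub : z.asIdeal.primeCompl ≤ z0.asIdeal.primeCompl.comap mk := fun a ha h => ha (hz0 ▸ h)
    let ψ : L →+* L0 := IsLocalization.map L0 mk hsub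
    have hψ : Function.Surjective ψ := by
      intro y
      obtain ⟨⟨a, s⟩, h⟩ := IsLocalization.surj z0.asIdeal.primeCompl y
      obtain ⟨a, rfl⟩ := Ideal.Quotient.mk_surjective a
      obtain ⟨t, ht⟩ := Ideal.Quotient.mk_surjective (s : A ⧸ P)
      have htz : t ∈ z.asIdeal.primeCompl := fun h' => s.2 (ht ▸ Ideal.mem_map_of_mem mk h')
      refine ⟨IsLocalization.mk' L a ⟨t, htz⟩, ?_⟩
      rw [IsLocalization.map_mk', IsLocalization.mk'_eq_iff_eq_mul, ← h]
      change _ = y * algebraMap (A ⧸ P) L0 (mk t)
      rw [ht]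
    letI : Algebra C L := ((algebraMap A L).comp (algebraMap C A)).toAlgebra
    have : IsScalarTower C A L := IsScalarTower.of_algebraMap_eq' rfl
    have hker : RingHom.ker ψ = m.map (algebraMap C L) := by
      rw [IsScalarTower.algebraMap_eq C A L, ← Ideal.map_map]
      refine le_antisymm (fun x hx => ?_) (Ideal.map_le_iff_le_comap.2 fun a ha => ?_)
      · obtain ⟨a, s, rfl⟩ := IsLocalization.exists_mk'_eq z.asIdeal.primeCompl x
        rw [RingHom.mem_ker, IsLocalization.map_mk', IsLocalization.mk'_eq_zero_iff] at hx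
        obtain ⟨⟨t, ht⟩, hta⟩ := hx
        obtain ⟨t, rfl⟩ := Ideal.Quotient.mk_surjective t
        have htz : t ∈ z.asIdeal.primeCompl := fun h' => ht (Ideal.mem_map_of_mem mk h')
        rw [← map_mul, Ideal.Quotient.eq_zero_iff_mem] at hta
        rw [IsLocalization.mk'_mem_iff]
        refine (Ideal.unit_mul_mem_iff_mem _ (IsLocalization.map_units L ⟨t, htz⟩)).1 ?_
        rw [← map_mul]
        exact Ideal.mem_map_of_mem _ hta
      · rw [Ideal.mem_comap, RingHom.mem_ker, IsLocalization.map_eq,
          show mk a = 0 from Ideal.Quotient.eq_zero_iff_mem.2 ha, map_zero]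
    have : Module.Flat A L := IsLocalization.flat L z.asIdeal.primeCompl
    have : Module.Flat C L := Module.Flat.trans C A L
    match rs, hl with
    | [a0, b0], _ =>
      obtain ⟨a, rfl⟩ := hψ a0
      obtain ⟨b, rfl⟩ := hψ b0
      have ha := hmem (ψ a) (by simp)
      have hb := hmem (ψ b) (by simp)
      letI := ψ.toAlgebra
      let e : (L ⧸ RingHom.ker ψ) ≃ₗ[L] L0 :=
        (Ideal.quotientKerAlgEquivOfSurjective (f := Algebra.ofId L L0) hψ).toLinearEquiv
      have hq : RingTheory.Sequence.IsWeaklyRegular (L ⧸ m.map (algebraMap C L))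
          ([a, b].map (Ideal.Quotient.mk (m.map (algebraMap C L)))) := by
        rw [← hker, ← Ideal.Quotient.algebraMap_eq, RingTheory.Sequence.isWeaklyRegular_map_algebraMap_iff,
          e.isWeaklyRegular_congr, ← RingTheory.Sequence.isWeaklyRegular_map_algebraMap_iff (S := L0)]
        exact hreg
      obtain ⟨h1, h2⟩ := Groth.Agent.FlatPurLib.dvd_of_isWeaklyRegular
        ((CAlgH.ArtFlat.isWeaklyRegular_quotient_iff hm _).1 hq)
      exact ⟨a, b, fun hu => ha (hu.map ψ), fun hu => hb (hu.map ψ), h1, h2⟩
  have : CompactSpace U := isCompact_iff_compactSpace.1 (TopologicalSpace.NoetherianSpace.isCompact _)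
  exact Groth.Agent.FlatPurLib.res_bijective U hdepth

end Groth.Agent.S11462
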