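import Groth.Statements.S11467
import Groth.Agent.ObsBound.Algebra
import Mathlib.RingTheory.KrullDimension.Regular


set_option autoImplicit false
universe u
open DefT

namespace Groth.Agent.S11467

/-- Let P be a regular local k-algebra with residue field k, I ⊆ m_P² an ideal (so that dim P is the
embedding dimension of A = P/I), and suppose A has an obstruction theory whose obstruction space is
a finite-dimensional k-vector space V (obstructions in V ⊗ J attached to k-algebra maps A → C'/J for
small extensions of local Artinian k-algebras with residue field k, vanishing exactly when the map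
lifts, functorial in quotients of C'). Then dim A ≥ dim P − dim_k V; and if equality holds, I is
generated by dim P − dim A elements, so A is a local complete intersection in P. -/
theorem result (k : Type u) [Field k]
    (P : Type u) [CommRing P] [IsRegularLocalRing P] [Algebra k P]
    (hres : Function.Surjective (algebraMap k (IsLocalRing.ResidueField P)))
    (I : Ideal P) (hI : I ≤ IsLocalRing.maximalIdeal P ^ 2)
    (V : Type u) [AddCommGroup V] [Module k V] [Module.Finite k V]
    (T : W4bk4hartshdef114.ObsTheory k (P ⧸ I) V) :
    ringKrullDim P ≤ ringKrullDim (P ⧸ I) + (Module.finrank k V : WithBot ℕ∞) ∧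
      (ringKrullDim (P ⧸ I) + (Module.finrank k V : WithBot ℕ∞) = ringKrullDim P →
        ∃ s : Finset P, Ideal.span (s : Set P) = I ∧
          ringKrullDim (P ⧸ I) + (s.card : WithBot ℕ∞) = ringKrullDim P) := by
  have hIm : I ≠ ⊤ := fun h => (IsLocalRing.maximalIdeal.isMaximal P).ne_top
    (top_le_iff.1 (h ▸ hI.trans (Ideal.pow_le_self two_ne_zero)))
  have hle := Groth.Agent.ObsBound.spanFinrank_le_of_obsTheory P hres I hI V T
  have hfg : I.FG := IsNoetherian.noetherian I
  have hd : ringKrullDim P ≤ ringKrullDim (P ⧸ I) + (I.spanFinrank : WithBot ℕ∞) := by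
    refine ringKrullDim_le_ringKrullDim_quotient_add_spanFinrank I ?_
    rw [IsLocalRing.ringJacobson_eq_maximalIdeal]
    exact hI.trans (Ideal.pow_le_self two_ne_zero)
  have hmono : ∀ {a b : ℕ}, a ≤ b →
      ringKrullDim (P ⧸ I) + (a : WithBot ℕ∞) ≤ ringKrullDim (P ⧸ I) + (b : WithBot ℕ∞) := fun hab =>
    add_le_add le_rfl (by exact_mod_cast hab)
  refine ⟨hd.trans (hmono hle), fun heq => ?_⟩
  classical
  have hgen := Submodule.FG.generators_ncard hfg
  refine ⟨(Submodule.FG.finite_generators hfg).toFinset, ?_, ?_⟩
  · rw [Set.Finite.coe_toFinset]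
    exact Submodule.span_generators I
  · rw [← Set.ncard_eq_toFinset_card _ (Submodule.FG.finite_generators hfg), hgen]
    exact le_antisymm ((hmono hle).trans heq.le) hd

end Groth.Agent.S11467
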