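import Groth.Statements.S11468
import Groth.Agent.FpqcDescent.IdealComap
import Groth.Agent.ArtLift.FlatSocle
import Mathlib


set_option autoImplicit false
universe u
open CategoryTheory AlgebraicGeometry
open DefT

namespace Groth.Agent.S11468

/-- Let C be a local Artin ring with maximal ideal m and residue field k = C/m, g : X → Spec C a flat
morphism, and i : X₀ → X the fibre of g over the closed point, i.e. a pullback of g along Spec k →
Spec C, with structure map f₀ : X₀ → Spec k. If the induced ring map k → Γ(X₀, O_{X₀}) is bijective,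
then so is C → Γ(X, O_X). -/
theorem result (C : Type u) [CommRing C]
    [IsLocalRing C] [IsArtinianRing C] (X X₀ : Scheme.{u}) (g : X ⟶ Spec (CommRingCat.of C)) [Flat g]
    (i : X₀ ⟶ X) (f₀ : X₀ ⟶ Spec (CommRingCat.of (C ⧸ IsLocalRing.maximalIdeal C)))
    (hsq : IsPullback i f₀ g
      (Spec.map (CommRingCat.ofHom (Ideal.Quotient.mk (IsLocalRing.maximalIdeal C)))))
    (h0 : Function.Bijective ((Scheme.ΓSpecIso (CommRingCat.of (C ⧸ IsLocalRing.maximalIdeal C))).inv ≫
      f₀.appTop)) :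
    Function.Bijective ((Scheme.ΓSpecIso (CommRingCat.of C)).inv ≫ g.appTop) := by
  classical
  let m := IsLocalRing.maximalIdeal C
  let γ := fun U : X.Opens => ((Scheme.ΓSpecIso (CommRingCat.of C)).inv ≫ g.appLE ⊤ U le_top).hom
  let res := fun (U V : X.Opens) (h : V ≤ U) => (X.presheaf.map (homOfLE h).op).hom
  have hγ : ∀ (U V : X.Opens) (h : V ≤ U) (c : C), res U V h (γ U c) = γ V c := by
    intro U V h c
    exact congrArg (fun φ : CommRingCat.of C ⟶ Γ(X, V) => CommRingCat.Hom.hom φ c) ((Category.assoc _ _ _).trans (congrArg (_ ≫ ·) (g.appLE_map _ _)))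
  have hγtop : ((Scheme.ΓSpecIso (CommRingCat.of C)).inv ≫ g.appTop).hom = γ ⊤ := by
    simp [γ, Scheme.Hom.appTop, Scheme.Hom.app_eq_appLE]
  let mkm := Ideal.Quotient.mk m
  have : IsClosedImmersion (Spec.map (CommRingCat.ofHom mkm)) :=
    IsClosedImmersion.spec_of_surjective _ Ideal.Quotient.mk_surjective
  have : IsClosedImmersion i := MorphismProperty.of_isPullback (P := @IsClosedImmersion) hsq.flip inferInstance
  have hker : ∀ U : X.affineOpens, RingHom.ker (i.app U.1).hom = m.map (γ U.1) := by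
    intro U
    have h1 : i.ker = (Spec.map (CommRingCat.ofHom mkm)).ker.comap g := by
      rw [← Scheme.IdealSheafData.ker_fst_of_isClosedImmersion, ← hsq.isoPullback_hom_fst, Scheme.Hom.ker_comp_of_isIso]
    rw [← Scheme.Hom.ker_apply, h1,
      Groth.Agent.FpqcDescent.ideal_comap _ g ⟨⊤, isAffineOpen_top _⟩ U le_top,
      Groth.Agent.FpqcDescent.ker_ideal_top]
    have h2 : RingHom.ker (Spec.map (CommRingCat.ofHom mkm)).appTop.hom =
        m.map (Scheme.ΓSpecIso (CommRingCat.of C)).inv.hom := by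
      have hnat := fun c => ConcreteCategory.congr_hom (Scheme.ΓSpecIso_inv_naturality (CommRingCat.ofHom mkm)) c
      refine le_antisymm (fun z hz => ?_) ?_
      · obtain ⟨c, rfl⟩ := (ConcreteCategory.bijective_of_isIso (Scheme.ΓSpecIso (CommRingCat.of C)).inv).2 z
        refine Ideal.mem_map_of_mem _ (Ideal.Quotient.eq_zero_iff_mem.1
          ((ConcreteCategory.bijective_of_isIso (Scheme.ΓSpecIso (CommRingCat.of (C ⧸ m))).inv).1 ?_))
        exact ((hnat c).trans hz).trans (map_zero _).symm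
      · rw [Ideal.map_le_iff_le_comap]
        intro c hc
        rw [Ideal.mem_comap, RingHom.mem_ker]
        refine (hnat c).symm.trans ?_
        change (Scheme.ΓSpecIso (CommRingCat.of (C ⧸ m))).inv.hom (mkm c) = 0
        rw [show mkm c = 0 from Ideal.Quotient.eq_zero_iff_mem.2 hc, map_zero]
    rw [h2, Ideal.map_map]
    rfl
  have key : ∀ (U : X.affineOpens) (J' : Ideal C) (s : C), s ∉ J' → ∀ a : Γ(X, U.1), γ U.1 s * a ∈ J'.map (γ U.1) →
      a ∈ m.map (γ U.1) := by
    intro U J' s hs a ha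
    letI := (γ U.1).toAlgebra
    have hfl : Module.Flat C Γ(X, U.1) :=
      RingHom.Flat.respectsIso.2 (g.appLE ⊤ U.1 le_top).hom
        (Scheme.ΓSpecIso (CommRingCat.of C)).symm.commRingCatIsoToRingEquiv
        (g.flat_appLE (isAffineOpen_top _) U.2 le_top)
    exact Groth.Agent.ArtLift.mem_map_maximalIdeal_of_mul_mem hs ha
  change Function.Bijective ((Scheme.ΓSpecIso (CommRingCat.of C)).inv ≫ g.appTop).hom
  rw [hγtop]
  refine ⟨?_, ?_⟩
  · -- injectivity
    rw [injective_iff_map_eq_zero]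
    intro c hc
    by_contra hne
    obtain ⟨U, hU, hne'⟩ : ∃ U : X.affineOpens, True ∧ Nontrivial Γ(X, U.1) := by
      by_contra hall
      push_neg at hall
      have hX : ∀ x : X, False := fun x => by
        obtain ⟨U, hU, hxU, -⟩ := exists_isAffineOpen_mem_and_subset (U := (⊤ : X.Opens)) (x := x) trivial
        have : Subsingleton Γ(X, U) := hall ⟨U, hU⟩ trivial
        exact not_nontrivial _ ((X.presheaf.germ U x hxU).hom.domain_nontrivial)
      have : IsEmpty X₀ := ⟨fun z => hX (i.base z)⟩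
      have : Subsingleton Γ(X₀, ⊤) := inferInstance
      exact one_ne_zero (h0.1 (Subsingleton.elim (α := Γ(X₀, ⊤)) _ _) : (1 : C ⧸ m) = 0)
    have h1 := key U ⊥ c (by simpa using hne) 1 (by rw [mul_one, ← hγ ⊤ U.1 le_top c, hc, map_zero]; exact zero_mem _)
    have hnil : IsNilpotent (1 : Γ(X, U.1)) := by
      obtain ⟨N, hN⟩ := IsArtinianRing.isNilpotent_jacobson_bot (R := C)
      rw [IsLocalRing.jacobson_eq_maximalIdeal ⊥ bot_ne_top] at hN
      refine ⟨N, ?_⟩
      have := Ideal.pow_mem_pow h1 N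
      rw [← Ideal.map_pow, show m ^ N = 0 from hN] at this
      simpa using this
    obtain ⟨N, hN⟩ := hnil
    exact one_ne_zero ((one_pow N).symm.trans hN)
  · -- surjectivity
    suffices h : ∀ J : Ideal C, ∀ σ : Γ(X, ⊤), (∀ U : X.affineOpens, res ⊤ U.1 le_top σ ∈ J.map (γ U.1)) →
        ∃ c, γ ⊤ c = σ by
      intro σ
      refine h ⊤ σ fun U => ?_
      rw [Ideal.map_top]; trivial
    intro J
    induction J using WellFoundedLT.induction with
    | ind J ih =>
    intro σ hσ
    rcases eq_or_ne J ⊥ with rfl | hJ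
    · refine ⟨0, ?_⟩
      rw [map_zero]
      refine TopCat.Sheaf.eq_of_locally_eq' X.sheaf (fun U : X.affineOpens => U.1) ⊤ (fun U => homOfLE le_top) ?_ _ _ ?_
      · intro x _
        obtain ⟨U, hU, hxU, -⟩ := exists_isAffineOpen_mem_and_subset (U := (⊤ : X.Opens)) (x := x) trivial
        exact TopologicalSpace.Opens.mem_iSup.2 ⟨⟨U, hU⟩, hxU⟩
      · intro U
        have := hσ U
        rw [Ideal.map_bot, Ideal.mem_bot] at this
        exact (map_zero _).trans this.symm
    obtain ⟨J', s, hJ'lt, hsJ', hsup, hms⟩ := Groth.Agent.ArtLift.exists_simple_step hJ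
    have hdec : ∀ U : X.affineOpens, ∃ a : Γ(X, U.1), res ⊤ U.1 le_top σ - γ U.1 s * a ∈ J'.map (γ U.1) := by
      intro U
      have := hσ U
      rw [← hsup, Ideal.map_sup, Ideal.map_span, Set.image_singleton] at this
      obtain ⟨y, hy, z, hz, hyz⟩ := Submodule.mem_sup.1 this
      obtain ⟨a, rfl⟩ := Ideal.mem_span_singleton.1 hz
      exact ⟨a, by rw [← hyz]; simpa using hy⟩
    choose a ha using hdec
    let cov := fun U : X.affineOpens => i ⁻¹ᵁ U.1
    have hcover : (⊤ : X₀.Opens) ≤ iSup cov := fun z _ => by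
      obtain ⟨U, hU, hzU, -⟩ := exists_isAffineOpen_mem_and_subset (U := (⊤ : X.Opens)) (x := i.base z) trivial
      exact TopologicalSpace.Opens.mem_iSup.2 ⟨⟨U, hU⟩, hzU⟩
    let t := fun U : X.affineOpens => (i.app U.1).hom (a U)
    have hcompat : TopCat.Presheaf.IsCompatible X₀.presheaf cov t := by
      intro U U'
      refine TopCat.Sheaf.eq_of_locally_eq' X₀.sheaf
        (fun W : {W : X.affineOpens // W.1 ≤ U.1 ⊓ U'.1} => i ⁻¹ᵁ W.1.1) (cov U ⊓ cov U')
        (fun W => homOfLE (fun z hz => W.2 hz)) ?_ _ _ ?_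
      · intro z hz
        obtain ⟨W, hW, hzW, hle⟩ := exists_isAffineOpen_mem_and_subset (U := U.1 ⊓ U'.1) (x := i.base z) hz
        exact TopologicalSpace.Opens.mem_iSup.2 ⟨⟨⟨W, hW⟩, hle⟩, hzW⟩
      · intro W
        have hWU : W.1.1 ≤ U.1 := W.2.trans inf_le_left
        have hWU' : W.1.1 ≤ U'.1 := W.2.trans inf_le_right
        have hdiff : ∀ (V : X.affineOpens) (hV : W.1.1 ≤ V.1),
            res ⊤ W.1.1 le_top σ - γ W.1.1 s * res V.1 W.1.1 hV (a V) ∈ J'.map (γ W.1.1) := by
          intro V hV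
          have h1 := Ideal.mem_map_of_mem (res V.1 W.1.1 hV) (ha V)
          rw [Ideal.map_map, map_sub, map_mul, hγ] at h1
          have h2 : (res V.1 W.1.1 hV).comp (γ V.1) = γ W.1.1 := RingHom.ext (hγ V.1 W.1.1 hV)
          have h3 : res V.1 W.1.1 hV (res ⊤ V.1 le_top σ) = res ⊤ W.1.1 le_top σ := by
            simp only [res, ← RingHom.comp_apply, ← CommRingCat.hom_comp, ← Functor.map_comp]
            rfl
          rwa [h2, h3] at h1
        have hm' : res U.1 W.1.1 hWU (a U) - res U'.1 W.1.1 hWU' (a U') ∈ RingHom.ker (i.app W.1.1).hom := by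
          rw [hker]
          refine key W.1 J' s hsJ' _ ?_
          have := sub_mem (hdiff U' hWU') (hdiff U hWU)
          rw [mul_sub]
          simpa using this
        rw [RingHom.mem_ker, map_sub, sub_eq_zero] at hm'
        have e1 : ∀ (V : X.affineOpens) (hV : W.1.1 ≤ V.1), (i.app W.1.1).hom (res V.1 W.1.1 hV (a V)) =
            (X₀.presheaf.map (homOfLE (fun z hz => hV hz : i ⁻¹ᵁ W.1.1 ≤ i ⁻¹ᵁ V.1)).op).hom (t V) := by
          intro V hV
          simp only [res, t, ← RingHom.comp_apply, ← CommRingCat.hom_comp, Scheme.Hom.naturality]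
          rfl
        rw [e1, e1] at hm'
        refine ((congrArg (fun φ => CommRingCat.Hom.hom φ (t U)) (X₀.presheaf.map_comp _ _)).symm.trans ?_).trans
          (congrArg (fun φ => CommRingCat.Hom.hom φ (t U')) (X₀.presheaf.map_comp _ _))
        exact hm'
    obtain ⟨T, hT, -⟩ := TopCat.Sheaf.existsUnique_gluing' X₀.sheaf cov ⊤ (fun U => homOfLE le_top) hcover t hcompat
    obtain ⟨cbar, hcbar⟩ := h0.2 T
    obtain ⟨c, rfl⟩ := Ideal.Quotient.mk_surjective cbar
    have hcU : ∀ U : X.affineOpens, a U - γ U.1 c ∈ m.map (γ U.1) := by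
      intro U
      rw [← hker, RingHom.mem_ker, map_sub, sub_eq_zero]
      refine ((hT U).symm.trans ?_)
      rw [← hcbar]
      have hw : g.appLE ⊤ U.1 le_top ≫ i.app U.1 =
          (Spec.map (CommRingCat.ofHom mkm)).appTop ≫ f₀.appTop ≫ X₀.presheaf.map (homOfLE le_top).op := by
        have hcongr : ∀ (φ ψ : X₀ ⟶ Spec (CommRingCat.of C)), φ = ψ →
            φ.appLE ⊤ (i ⁻¹ᵁ U.1) le_top = ψ.appLE ⊤ (i ⁻¹ᵁ U.1) le_top := by
          rintro φ ψ rfl; rfl
        rw [Scheme.Hom.app_eq_appLE, Scheme.Hom.appLE_comp_appLE, ← Category.assoc, ← Scheme.Hom.comp_appTop,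
          hcongr _ _ hsq.w]
        rfl
      have hnat := Scheme.ΓSpecIso_inv_naturality (CommRingCat.ofHom mkm)
      calc _ = ((CommRingCat.ofHom mkm ≫ (Scheme.ΓSpecIso (CommRingCat.of (C ⧸ m))).inv) ≫ f₀.appTop ≫
              X₀.presheaf.map (homOfLE le_top).op).hom c := rfl
        _ = ((Scheme.ΓSpecIso (CommRingCat.of C)).inv ≫ g.appLE ⊤ U.1 le_top ≫ i.app U.1).hom c := by
            rw [hnat, hw, Category.assoc]
        _ = _ := rfl
    obtain ⟨d, hd⟩ := ih J' hJ'lt (σ - γ ⊤ (s * c)) fun U => by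
      rw [map_sub, hγ, map_mul]
      have h1 : γ U.1 s * (a U - γ U.1 c) ∈ J'.map (γ U.1) := by
        have h2 := Ideal.mul_mem_mul (Ideal.mem_map_of_mem (γ U.1) (Ideal.mem_span_singleton_self s)) (hcU U)
        rw [← Ideal.map_mul] at h2
        refine Ideal.map_mono ?_ h2
        refine Ideal.mul_le.2 fun x hx z hz => ?_
        obtain ⟨x, rfl⟩ := Ideal.mem_span_singleton.1 hx
        rw [mul_assoc, mul_comm s]
        exact hms _ (Ideal.mul_mem_left _ _ hz)
      have := add_mem (ha U) h1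
      rwa [mul_sub, sub_add_sub_cancel] at this
    exact ⟨d + s * c, by rw [map_add, hd, sub_add_cancel]⟩

end Groth.Agent.S11468
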