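import Groth.Statements.S11469
import Groth.Agent.CAlgH.ArtFlatSeq
import Mathlib


set_option autoImplicit false
universe u
open scoped TensorProduct
open DefT

namespace Groth.Agent.S11469

/-- Let C' be a local Artin ring with maximal ideal m, J ⊊ C' a proper ideal with mJ = 0, A' a
C'-algebra, M' an A'-module flat over C', and M₀ = M'/mM'. Then (1) every A'-linear endomorphism σ
of M' that is the identity modulo JM' is bijective, and there is exactly one A'-linear τ : M₀ → M₀
⊗_{C'} J such that, for all x ∈ M' and all z ∈ M' ⊗_{C'} J mapping to σ(x) − x in M', the image of z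
in M₀ ⊗_{C'} J is τ applied to the class of x; and (2) every A'-linear τ : M₀ → M₀ ⊗_{C'} J comes in
this way from some such σ. Thus the automorphisms of the extension M' inducing the identity on
M'/JM' correspond to Hom(M₀, M₀ ⊗ J). -/
theorem result (C' : Type u) [CommRing C'] [IsLocalRing C']
    [IsArtinianRing C'] (J : Ideal C') (hJ : IsLocalRing.maximalIdeal C' * J = ⊥) (hJne : J ≠ ⊤)
    (A' : Type u) [CommRing A'] [Algebra C' A'] (M' : Type u) [AddCommGroup M'] [Module A' M'] [Module C' M']
    [IsScalarTower C' A' M'] [Module.Flat C' M'] :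
    (∀ σ : M' →ₗ[A'] M', (∀ x : M', σ x - x ∈ (J.map (algebraMap C' A')) • (⊤ : Submodule A' M')) →
      Function.Bijective σ ∧
        ∃! τ : (M' ⧸ ((IsLocalRing.maximalIdeal C').map (algebraMap C' A')) • (⊤ : Submodule A' M')) →ₗ[A'] ((M' ⧸ ((IsLocalRing.maximalIdeal C').map (algebraMap C' A')) • (⊤ : Submodule A' M')) ⊗[C'] ↥J),
          (∀ (x : M') (z : M' ⊗[C'] ↥J), TensorProduct.rid C' M' (LinearMap.lTensor M' (Submodule.subtype J) z) = σ x - x →
            LinearMap.rTensor ↥J ((Submodule.mkQ (((IsLocalRing.maximalIdeal C').map (algebraMap C' A')) • (⊤ : Submodule A' M'))).restrictScalars C') z =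
              τ (Submodule.mkQ _ x))) ∧
    (∀ τ : (M' ⧸ ((IsLocalRing.maximalIdeal C').map (algebraMap C' A')) • (⊤ : Submodule A' M')) →ₗ[A'] ((M' ⧸ ((IsLocalRing.maximalIdeal C').map (algebraMap C' A')) • (⊤ : Submodule A' M')) ⊗[C'] ↥J),
      ∃ σ : M' →ₗ[A'] M', (∀ x : M', σ x - x ∈ (J.map (algebraMap C' A')) • (⊤ : Submodule A' M')) ∧
          (∀ (x : M') (z : M' ⊗[C'] ↥J), TensorProduct.rid C' M' (LinearMap.lTensor M' (Submodule.subtype J) z) = σ x - x →
            LinearMap.rTensor ↥J ((Submodule.mkQ (((IsLocalRing.maximalIdeal C').map (algebraMap C' A')) • (⊤ : Submodule A' M'))).restrictScalars C') z =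
              τ (Submodule.mkQ _ x))) := by
  classical
  let m := IsLocalRing.maximalIdeal C'
  let P := (m.map (algebraMap C' A')) • (⊤ : Submodule A' M')
  let L : M' ⊗[C'] J →ₗ[C'] M' := (TensorProduct.rid C' M').toLinearMap ∘ₗ J.subtype.lTensor M'
  let π : M' ⊗[C'] J →ₗ[C'] (M' ⧸ P) ⊗[C'] J := LinearMap.rTensor J (P.mkQ.restrictScalars C')
  have hLtmul : ∀ (x : M') (c : J), L (x ⊗ₜ[C'] c) = (c : C') • x := fun x c => by simp [L]
  have hLsmul : ∀ (a : A') z, L (a • z) = a • L z := by
    intro a z
    induction z using TensorProduct.induction_on with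
    | zero => simp
    | tmul x c => rw [TensorProduct.smul_tmul', hLtmul, hLtmul, smul_comm]
    | add x y hx hy => rw [smul_add, map_add, map_add, hx, hy, smul_add]
  have hπsmul : ∀ (a : A') z, π (a • z) = a • π z := by
    intro a z
    induction z using TensorProduct.induction_on with
    | zero => simp
    | tmul x c => simp [π, TensorProduct.smul_tmul']
    | add x y hx hy => rw [smul_add, map_add, map_add, hx, hy, smul_add]
  have hLinj : Function.Injective L := (TensorProduct.rid C' M').injective.comp
    (Module.Flat.lTensor_preserves_injective_linearMap J.subtype J.injective_subtype)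
  have hkill : ∀ y ∈ P, ∀ c : J, y ⊗ₜ[C'] c = (0 : M' ⊗[C'] J) := by
    intro y hy c
    rw [show y ∈ P ↔ y ∈ (m • ⊤ : Submodule C' M') from CAlgH.ArtFlat.mem_map_smul_top_iff (S := A') m y] at hy
    refine Submodule.smul_induction_on hy (fun r hr v _ => ?_) fun u v hu hv => by rw [TensorProduct.add_tmul, hu, hv, add_zero]
    rw [TensorProduct.smul_tmul, show r • c = 0 from Subtype.ext (Ideal.mem_bot.1 (hJ ▸ Ideal.mul_mem_mul hr c.2)),
      TensorProduct.tmul_zero]
  have hπinj : Function.Injective π := by
    rw [injective_iff_map_eq_zero]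
    intro z hz
    have hex : Function.Exact ((P.subtype.restrictScalars C').rTensor J) π :=
      rTensor_exact J (LinearMap.exact_subtype_mkQ P : Function.Exact (P.subtype.restrictScalars C') (P.mkQ.restrictScalars C'))
        (Submodule.mkQ_surjective P)
    obtain ⟨w, rfl⟩ := (hex z).1 hz
    clear hz
    induction w using TensorProduct.induction_on with
    | zero => simp
    | tmul y c => exact hkill y.1 y.2 c
    | add x y hx hy => rw [map_add, hx, hy, add_zero]
  have hπsurj : Function.Surjective π := LinearMap.rTensor_surjective J (Submodule.mkQ_surjective P)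
  have hLrange : ∀ y ∈ (J.map (algebraMap C' A')) • (⊤ : Submodule A' M'), ∃ z, L z = y := by
    intro y hy
    rw [CAlgH.ArtFlat.mem_map_smul_top_iff (S := A') J y] at hy
    refine Submodule.smul_induction_on hy (fun r hr v _ => ⟨v ⊗ₜ ⟨r, hr⟩, hLtmul v ⟨r, hr⟩⟩) ?_
    rintro _ _ ⟨z, rfl⟩ ⟨w, rfl⟩
    exact ⟨z + w, map_add _ _ _⟩
  have hLmem : ∀ z, L z ∈ (J.map (algebraMap C' A')) • (⊤ : Submodule A' M') := by
    intro z
    induction z using TensorProduct.induction_on with
    | zero => simp
    | tmul x c =>
      rw [hLtmul, CAlgH.ArtFlat.mem_map_smul_top_iff (S := A') J]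
      exact Submodule.smul_mem_smul c.2 trivial
    | add x y hx hy => rw [map_add]; exact add_mem hx hy
  have hJm : J ≤ m := IsLocalRing.le_maximalIdeal hJne
  -- a linear map into `J M'` kills `m M'`
  have hPkill : ∀ (δ : M' →ₗ[A'] M'), (∀ x, δ x ∈ (J.map (algebraMap C' A')) • (⊤ : Submodule A' M')) →
      ∀ y ∈ P, δ y = 0 := by
    intro δ hδ y hy
    rw [show y ∈ P ↔ y ∈ (m • ⊤ : Submodule C' M') from CAlgH.ArtFlat.mem_map_smul_top_iff (S := A') m y] at hy
    refine Submodule.smul_induction_on hy (fun r hr v _ => ?_) fun u v hu hv => by rw [map_add, hu, hv, add_zero]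
    rw [LinearMap.map_smul_of_tower]
    obtain ⟨z, hz⟩ := hLrange _ (hδ v)
    rw [← hz, ← map_smul, show r • z = 0 from ?_, map_zero]
    clear hz
    induction z using TensorProduct.induction_on with
    | zero => simp
    | tmul x c =>
      rw [← TensorProduct.tmul_smul, show r • c = 0 from Subtype.ext (Ideal.mem_bot.1 (hJ ▸ Ideal.mul_mem_mul hr c.2)),
        TensorProduct.tmul_zero]
    | add x y hx hy => rw [smul_add, hx, hy, add_zero]
  have hJP : (J.map (algebraMap C' A')) • (⊤ : Submodule A' M') ≤ P :=
    Submodule.smul_mono (Ideal.map_mono hJm) le_rfl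
  refine ⟨fun σ hσ => ⟨?_, ?_⟩, fun τ => ?_⟩
  · let δ : M' →ₗ[A'] M' := σ - LinearMap.id
    have hδ : ∀ x, δ (δ x) = 0 := fun x => hPkill δ hσ _ (hJP (hσ x))
    refine Function.bijective_iff_has_inverse.2 ⟨fun x => x - δ x, fun x => ?_, fun x => ?_⟩
    · have := hδ x
      simp only [δ, LinearMap.sub_apply, LinearMap.id_apply, map_sub] at this ⊢
      linear_combination (norm := abel) -this
    · have := hδ x
      simp only [δ, LinearMap.sub_apply, LinearMap.id_apply, map_sub] at this ⊢
      linear_combination (norm := abel) -this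
  · choose ζ hζ using fun x => hLrange _ (hσ x)
    let F : M' →ₗ[A'] (M' ⧸ P) ⊗[C'] J :=
      { toFun := fun x => π (ζ x)
        map_add' := fun x y => by
          rw [← map_add]
          refine congrArg π (hLinj ?_)
          rw [map_add, hζ, hζ, hζ, map_add]; abel
        map_smul' := fun a x => by
          rw [RingHom.id_apply, ← hπsmul]
          refine congrArg π (hLinj ?_)
          rw [hLsmul, hζ, hζ, map_smul, smul_sub] }
    have hF : P ≤ LinearMap.ker F := fun y hy => by
      rw [LinearMap.mem_ker]
      have h1 : L (ζ y) = 0 := (hζ y).trans (hPkill (σ - LinearMap.id) hσ y hy)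
      change π (ζ y) = 0
      rw [hLinj (h1.trans (map_zero L).symm), map_zero]
    refine ⟨P.liftQ F hF, fun x z hz => ?_, fun τ hτ => ?_⟩
    · change π z = π (ζ x)
      exact congrArg π (hLinj (hz.trans (hζ x).symm))
    · refine LinearMap.ext fun q => ?_
      obtain ⟨x, rfl⟩ := Submodule.mkQ_surjective P q
      exact (hτ x (ζ x) (hζ x)).symm
  · choose g hg using hπsurj
    let D : M' →ₗ[A'] M' :=
      { toFun := fun x => L (g (τ (P.mkQ x)))
        map_add' := fun x y => by
          rw [← map_add L]
          exact congrArg L (hπinj (by rw [map_add π, hg, hg, hg, map_add, map_add]))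
        map_smul' := fun a x => by
          rw [RingHom.id_apply, ← hLsmul]
          exact congrArg L (hπinj (by rw [hπsmul, hg, hg, map_smul, map_smul])) }
    refine ⟨LinearMap.id + D, fun x => ?_, fun x z hz => ?_⟩
    · simpa [D] using hLmem _
    · have h1 : L z = L (g (τ (P.mkQ x))) := hz.trans (by simp [D])
      rw [← hg (τ (P.mkQ x))]
      exact congrArg π (hLinj h1)

end Groth.Agent.S11469
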