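import Groth.Statements.S1147
import Groth.Agent.QFFlatSlice.Basic
import Groth.Agent.NoethPts.Basic
import Mathlib.RingTheory.QuasiFinite.Basic
import Mathlib.RingTheory.Spectrum.Prime.Jacobson


set_option autoImplicit false
universe u
open Desc

namespace Groth.Agent.S1147

/-- Let A → B be a faithfully flat ring map of finite presentation. If B is a Jacobson ring then so is
A. (This is the affine descent direction of the statement that the Jacobson property is fppf local.) -/
theorem result (A B : Type u) [CommRing A] [CommRing B] [Algebra A B]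
    [Module.FaithfullyFlat A B] [Algebra.FinitePresentation A B] [IsJacobsonRing B] : IsJacobsonRing A := by
  classical
  obtain ⟨S', _, _, hqf, hft, hff, -, ⟨φ⟩⟩ := Groth.Agent.QFFlatSlice.exists_qf_faithfullyFlat A B
  have hfin : φ.toRingHom.FiniteType := RingHom.FiniteType.of_comp_finiteType (f := algebraMap A B) (by
    rw [AlgHom.toRingHom_eq_coe, AlgHom.comp_algebraMap]
    exact RingHom.finiteType_algebraMap.2 hft)
  letI := φ.toRingHom.toAlgebra
  haveI : Algebra.FiniteType B S' := hfin
  haveI : IsJacobsonRing S' := isJacobsonRing_of_finiteType (A := B)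
  rw [PrimeSpectrum.isJacobsonRing_iff_jacobsonSpace, jacobsonSpace_iff_locallyClosed]
  intro Z hne hZ
  obtain ⟨p, hpZ, hp⟩ : ∃ p ∈ Z, IsLocallyClosed ({p} : Set (PrimeSpectrum A)) :=
    Groth.Agent.NoethPts.exists_isLocallyClosed_singleton
      (X := AlgebraicGeometry.Spec (CommRingCat.of A)) hZ hne
  refine ⟨p, hpZ, ?_⟩
  rw [mem_closedPoints_iff, PrimeSpectrum.isClosed_singleton_iff_isMaximal]
  have hcont := PrimeSpectrum.continuous_comap (algebraMap A S')
  set T := PrimeSpectrum.comap (algebraMap A S') ⁻¹' {p} with hT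
  have hTfin : T.Finite := Algebra.QuasiFinite.finite_comap_preimage_singleton p
  have hclosed : ∀ w ∈ T, w.asIdeal.IsMaximal := by
    intro w hw
    rw [← PrimeSpectrum.isClosed_singleton_iff_isMaximal]
    apply isClosed_singleton_of_isLocallyClosed_singleton
    have hC : IsClosed (⋃ x ∈ T \ {w}, closure ({x} : Set (PrimeSpectrum S'))) :=
      hTfin.sdiff.isClosed_biUnion fun _ _ => isClosed_closure
    have : {w} = T ∩ (⋃ x ∈ T \ {w}, closure ({x} : Set (PrimeSpectrum S')))ᶜ := by
      ext x
      constructor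
      · intro hxw
        obtain rfl : x = w := hxw
        refine ⟨hw, fun h => ?_⟩
        obtain ⟨y, hy, hyx⟩ := Set.mem_iUnion₂.1 h
        refine hy.2 (PrimeSpectrum.ext ?_)
        refine Algebra.QuasiFinite.eq_of_le_of_under_eq (R := A) _ _
          ((PrimeSpectrum.le_iff_mem_closure y x).2 hyx) ?_
        exact congrArg PrimeSpectrum.asIdeal ((show _ = p from hy.1).trans (show _ = p from hw).symm)
      · rintro ⟨hxT, hx⟩
        by_contra hne
        exact hx (Set.mem_iUnion₂.2 ⟨x, ⟨hxT, hne⟩, subset_closure rfl⟩)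
    rw [this]
    exact (hp.preimage hcont).inter hC.isOpen_compl.isLocallyClosed
  obtain ⟨m, hm, hpm⟩ := p.asIdeal.exists_le_maximal p.isPrime.ne_top
  obtain ⟨z, hz⟩ := (PrimeSpectrum.comap_surjective_of_faithfullyFlat (A := A) (B := S')) ⟨m, hm.isPrime⟩
  haveI : z.asIdeal.LiesOver m := ⟨(congrArg PrimeSpectrum.asIdeal hz).symm⟩
  haveI := hm.isPrime
  obtain ⟨w, hwz, hwp, hwo⟩ := Ideal.exists_ideal_le_liesOver_of_le (S := S') z.asIdeal hpm (q := m)
  have hwmax := hclosed ⟨w, hwp⟩ (PrimeSpectrum.ext hwo.over.symm)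
  have hwz' : w = z.asIdeal := hwmax.eq_of_le z.isPrime.ne_top hwz
  have : m = p.asIdeal := by
    rw [hwo.over, hwz']
    exact (congrArg PrimeSpectrum.asIdeal hz).symm
  exact this ▸ hm

end Groth.Agent.S1147
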