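import Mathlib
import Groth.Statements.S1148
-- import your own Groth.Agent.* helpers here

set_option autoImplicit false
set_option backward.isDefEq.respectTransparency false
set_option backward.isDefEq.respectTransparency.types false
universe u
open Desc

namespace Groth.Agent.S1148

/-- Affine form (finiteness of irreducible components of quasi-compact opens is fppf local; this is the
ascent direction for a morphism of affine schemes). Let A → B be a flat ring map of finite
presentation. If Spec A has finitely many irreducible components, then so does Spec B. -/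
theorem result (A B : Type u) [CommRing A] [CommRing B] [Algebra A B]
    [Module.Flat A B] [Algebra.FinitePresentation A B] (h : (irreducibleComponents (PrimeSpectrum A)).Finite) :
    (irreducibleComponents (PrimeSpectrum B)).Finite := by
  have hA : (minimalPrimes A).Finite :=
    haveI := h.to_subtype
    Set.finite_coe_iff.1 (Finite.of_injective (minimalPrimes.equivIrreducibleComponents A) (OrderIso.injective _))
  suffices hB : (minimalPrimes B).Finite by
    haveI := hB.to_subtype
    haveI : Finite ((irreducibleComponents (PrimeSpectrum B))ᵒᵈ) := Finite.of_injective (minimalPrimes.equivIrreducibleComponents B).symm (OrderIso.injective _)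
    exact Set.finite_coe_iff.1 (Finite.of_injective OrderDual.toDual OrderDual.toDual.injective)
  haveI := hA.to_subtype
  let F : minimalPrimes A → Set (Ideal B) := fun p =>
    {q | ∃ (hq : q.IsPrime), q.comap (algebraMap A B) = p.1 ∧ q ∈ minimalPrimes B}
  have hcov : minimalPrimes B ⊆ ⋃ p, F p := fun q hq => by
    haveI := hq.1.1
    refine Set.mem_iUnion.2 ⟨⟨q.comap (algebraMap A B), ⟨inferInstance, bot_le⟩, fun p hp hle => ?_⟩, ?_, rfl, hq⟩
    · haveI := hp.1
      haveI : q.LiesOver (q.comap (algebraMap A B)) := ⟨rfl⟩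
      obtain ⟨P, hP, hPp, hPo⟩ := q.exists_ideal_le_liesOver_of_le (p := p) (q := q.comap (algebraMap A B)) hle
      have := le_antisymm hP (hq.2 ⟨hPp, bot_le⟩ hP)
      rw [hPo.over, Ideal.under_def, this]
    · exact inferInstance
  refine (Set.finite_iUnion fun p => ?_).subset hcov
  haveI := p.2.1.1
  let P : PrimeSpectrum A := ⟨p.1, p.2.1.1⟩
  let e := PrimeSpectrum.preimageOrderIsoFiber A B P
  haveI : IsNoetherianRing (P.asIdeal.Fiber B) := Algebra.FiniteType.isNoetherianRing P.asIdeal.ResidueField _
  have hfin : (minimalPrimes (P.asIdeal.Fiber B)).Finite := minimalPrimes.finite_of_isNoetherianRing _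
  have hfin' : {Q : PrimeSpectrum (P.asIdeal.Fiber B) | Q.asIdeal ∈ minimalPrimes (P.asIdeal.Fiber B)}.Finite :=
    hfin.preimage fun _ _ _ _ h => PrimeSpectrum.ext h
  refine (hfin'.image fun Q => (e.symm Q).1.asIdeal).subset ?_
  rintro q ⟨hq, hqp, hqm⟩
  let x : (PrimeSpectrum.comap (algebraMap A B)) ⁻¹' {P} := ⟨⟨q, hq⟩, PrimeSpectrum.ext hqp⟩
  refine ⟨e x, ⟨⟨(e x).isPrime, bot_le⟩, fun I hI hle => ?_⟩, by simp [x]⟩
  let Q' : PrimeSpectrum (P.asIdeal.Fiber B) := ⟨I, hI.1⟩
  have h1 : e.symm Q' ≤ x := by
    rw [← e.symm_apply_apply x]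
    exact e.symm.monotone hle
  have h2 : e.symm Q' = x := le_antisymm h1 (show x.1.asIdeal ≤ (e.symm Q').1.asIdeal from hqm.2 ⟨(e.symm Q').1.isPrime, bot_le⟩ h1)
  exact (congrArg PrimeSpectrum.asIdeal ((congrArg e h2).symm.trans (e.apply_symm_apply Q'))).le

end Groth.Agent.S1148
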