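import Groth.Statements.S11493
import Mathlib
-- import your own Groth.Agent.* helpers here

set_option autoImplicit false
universe u
open CategoryTheory
open VBPn

namespace Groth.Agent.S11493

/-- Let A be a Noetherian local ring and I an ideal with a free resolution of length 1, 0 → A^p → A^q →
I → 0 (equivalently: a surjection A^q → I with free kernel). Let 0 → A → M → I → 0 be an extension
with class e ∈ Ext^1(I, A). Then M is free if and only if e generates the A-module Ext^1(I, A); the
A-module structure being through End(A) = A, this says every element of Ext^1(I, A) is the composite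
of e with an endomorphism of A. -/
theorem result (A : Type u) [CommRing A] [IsNoetherianRing A] [IsLocalRing A]
    (I : Ideal A)
    (hres : ∃ (q : ℕ) (φ : (Fin q → A) →ₗ[A] ↥I), Function.Surjective φ ∧ Module.Free A ↥(LinearMap.ker φ))
    (S : ShortComplex (ModuleCat.{u} A)) (hS : S.ShortExact)
    (h₁ : Nonempty (S.X₁ ≅ ModuleCat.of A A)) (h₃ : Nonempty (S.X₃ ≅ ModuleCat.of A ↥I)) :
    Module.Free A S.X₂ ↔
      ∀ x : Abelian.Ext S.X₃ S.X₁ 1, ∃ f : S.X₁ ⟶ S.X₁, hS.extClass.comp (Abelian.Ext.mk₀ f) (add_zero 1) = x := by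
  obtain ⟨e1⟩ := h₁
  obtain ⟨e3⟩ := h₃
  haveI : Projective S.X₁ := by
    haveI : Projective (ModuleCat.of A A) :=
      (ModuleCat.of A A).projective_of_free (Module.Basis.singleton (Fin 1) A)
    exact Projective.of_iso e1.symm inferInstance
  have hzero1 : ∀ {P : ModuleCat.{u} A} [Projective P] (Y : ModuleCat.{u} A)
      (z : Abelian.Ext P Y 1), z = 0 := fun Y z => Abelian.Ext.eq_zero_of_projective z
  constructor
  · intro hfree x
    haveI : Projective S.X₂ :=
      S.X₂.projective_of_free (Module.Free.chooseBasis A S.X₂)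
    obtain ⟨y, hy⟩ := Abelian.Ext.contravariant_sequence_exact₃ hS S.X₁ x (hzero1 _ _) (add_zero 1)
    obtain ⟨f, rfl⟩ := (Abelian.Ext.mk₀_bijective _ _).2 y
    exact ⟨f, hy⟩
  · intro hgen
    obtain ⟨q, φ, hφ, hK⟩ := hres
    have hE1 : ∀ z : Abelian.Ext S.X₂ S.X₁ 1, z = 0 := by
      intro z
      obtain ⟨x, rfl⟩ := Abelian.Ext.contravariant_sequence_exact₂ hS S.X₁ z (hzero1 _ _)
      obtain ⟨f, rfl⟩ := hgen x
      simp
    let φ' : (Fin q → A) →ₗ[A] S.X₃ := e3.toLinearEquiv.symm.toLinearMap ∘ₗ φ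
    have hgs : Function.Surjective S.g.hom := (ModuleCat.epi_iff_surjective S.g).1 hS.epi_g
    obtain ⟨ψ, hψ⟩ := Module.projective_lifting_property S.g.hom φ' hgs
    have hfi : Function.Injective S.f.hom := (ModuleCat.mono_iff_injective S.f).1 hS.mono_f
    let Φ : (S.X₁ × (Fin q → A)) →ₗ[A] S.X₂ := LinearMap.coprod S.f.hom ψ
    have hgf : ∀ a, S.g.hom (S.f.hom a) = 0 := fun a => by
      rw [← ConcreteCategory.comp_apply, S.zero]; rfl
    have hΦ : Function.Surjective Φ := by
      intro v
      obtain ⟨w, hw⟩ := hφ (e3.toLinearEquiv (S.g.hom v))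
      have hg : S.g.hom (v - ψ w) = 0 := by
        rw [map_sub, ← LinearMap.comp_apply, hψ, sub_eq_zero]
        simp [φ', hw]
      obtain ⟨a, ha⟩ := (S.moduleCat_exact_iff.1 hS.exact) _ hg
      exact ⟨(a, w), by simp [Φ, ha]⟩
    -- the kernel of Φ is the kernel of φ
    let p : LinearMap.ker Φ →ₗ[A] LinearMap.ker φ :=
      ((LinearMap.snd A S.X₁ (Fin q → A)).comp (LinearMap.ker Φ).subtype).codRestrict _ fun x => by
        have hx : S.f.hom x.1.1 + ψ x.1.2 = 0 := x.2
        have hg := congrArg S.g.hom hx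
        rw [map_add, map_zero, hgf, zero_add, ← LinearMap.comp_apply, hψ] at hg
        simpa [φ'] using hg
    have hp : Function.Bijective p := by
      constructor
      · rw [injective_iff_map_eq_zero]
        rintro ⟨⟨a, w⟩, hx⟩ h0
        have hw : w = 0 := congrArg Subtype.val h0
        subst hw
        have ha : S.f.hom a = 0 := by simpa [Φ] using hx
        have : a = 0 := hfi (ha.trans (map_zero _).symm)
        simp [this]
      · rintro ⟨w, hw⟩
        have hg : S.g.hom (- ψ w) = 0 := by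
          rw [map_neg, ← LinearMap.comp_apply, hψ, neg_eq_zero]
          simp [φ', LinearMap.mem_ker.1 hw]
        obtain ⟨a, ha⟩ := (S.moduleCat_exact_iff.1 hS.exact) _ hg
        exact ⟨⟨(a, w), by simp [Φ, ha]⟩, rfl⟩
    haveI : Module.Free A (LinearMap.ker Φ) := Module.Free.of_equiv (LinearEquiv.ofBijective p hp).symm
    haveI : Module.Finite A S.X₁ := Module.Finite.equiv e1.toLinearEquiv.symm
    haveI : Module.Free A S.X₁ := Module.Free.of_equiv e1.toLinearEquiv.symm
    haveI : Module.Finite A S.X₂ := Module.Finite.of_surjective Φ hΦ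
    haveI : Module.Finite A (LinearMap.ker Φ) := Module.IsNoetherian.finite A _
    let T : ShortComplex (ModuleCat.{u} A) := ShortComplex.mk
      (ModuleCat.ofHom (LinearMap.ker Φ).subtype) (ModuleCat.ofHom Φ : ModuleCat.of A _ ⟶ S.X₂)
      (by ext x; exact LinearMap.mem_ker.1 x.2)
    have hT : T.ShortExact :=
      { exact := T.moduleCat_exact_iff.2 fun x hx => ⟨⟨x, hx⟩, rfl⟩
        mono_f := (ModuleCat.mono_iff_injective _).2 Subtype.val_injective
        epi_g := (ModuleCat.epi_iff_surjective _).2 hΦ }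
    let b := Module.Free.chooseBasis A (LinearMap.ker Φ)
    haveI : Fintype (Module.Free.ChooseBasisIndex A (LinearMap.ker Φ)) :=
      Module.Free.ChooseBasisIndex.fintype A _
    let cP : ∀ j, T.X₁ ⟶ S.X₁ := fun j =>
      ModuleCat.ofHom (e1.toLinearEquiv.symm.toLinearMap ∘ₗ b.coord j)
    let cI : ∀ j, S.X₁ ⟶ T.X₁ := fun j =>
      ModuleCat.ofHom ((LinearMap.toSpanSingleton A _ (b j)) ∘ₗ e1.toLinearEquiv.toLinearMap)
    have hid : 𝟙 T.X₁ = ∑ j, cP j ≫ cI j := by
      apply ModuleCat.hom_ext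
      rw [ModuleCat.hom_sum]
      apply LinearMap.ext
      intro x
      rw [LinearMap.sum_apply]
      simp only [cP, cI, ModuleCat.hom_comp, ModuleCat.hom_ofHom, LinearMap.comp_apply,
        LinearEquiv.coe_coe, LinearEquiv.apply_symm_apply]
      exact (b.sum_repr x).symm
    have hext : hT.extClass = 0 := by
      rw [← hT.extClass.comp_mk₀_id, hid, Abelian.Ext.mk₀_sum, Abelian.Ext.comp_sum]
      refine Finset.sum_eq_zero fun j _ => ?_
      rw [← Abelian.Ext.mk₀_comp_mk₀, ← Abelian.Ext.comp_assoc_of_second_deg_zero,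
        hE1 (hT.extClass.comp (Abelian.Ext.mk₀ (cP j)) (add_zero 1)), Abelian.Ext.zero_comp]
    obtain ⟨s, hs⟩ := Abelian.Ext.covariant_sequence_exact₃ _ hT (Abelian.Ext.mk₀ (𝟙 T.X₃))
      (zero_add 1) (by rw [hext, Abelian.Ext.comp_zero])
    obtain ⟨s, rfl⟩ := (Abelian.Ext.mk₀_bijective _ _).2 s
    rw [Abelian.Ext.mk₀_comp_mk₀] at hs
    have hs' : Φ ∘ₗ s.hom = LinearMap.id :=
      congrArg ModuleCat.Hom.hom ((Abelian.Ext.mk₀_bijective _ _).1 hs)
    haveI : Module.Projective A S.X₂ := Module.Projective.of_split _ _ hs'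
    exact Module.free_of_flat_of_isLocalRing

end Groth.Agent.S11493
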