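import Groth.Statements.S11495
import Groth.Agent.S5789
import Groth.Agent.CAlgReg.GlobalDim
import Mathlib.Algebra.Homology.DerivedCategory.Ext.ExactSequences

set_option autoImplicit false
universe u
open CategoryTheory
open VBPn

namespace Groth.Agent.S11495

/-- Let A be a regular local ring and M a finitely generated A-module. For every q ≥ 0, the projective
(homological) dimension of M is at most q if and only if Ext^i_A(M, A) = 0 for all i > q. The
published statement is for stalks of coherent analytic sheaves on a complex manifold; this row is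
stated for any regular local ring. -/
theorem result (A : Type u) [CommRing A] [IsRegularLocalRing A]
    (M : Type u) [AddCommGroup M] [Module A M] [Module.Finite A M] (q : ℕ) :
    HasProjectiveDimensionLT (ModuleCat.of A M) (q + 1) ↔
      ∀ i : ℕ, q < i → Subsingleton (Abelian.Ext (ModuleCat.of A M) (ModuleCat.of A A) i) := by
  refine ⟨fun h i hi => HasProjectiveDimensionLT.subsingleton (ModuleCat.of A M) (q + 1) i hi _, fun h => ?_⟩
  obtain ⟨d, hd⟩ := CAlgReg.exists_dim (R := A)
  haveI : IsNoetherianRing A := inferInstance
  have base := CAlgReg.pdLT_of_isRegularLocalRing hd M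
  suffices ∀ k j : ℕ, j + k = d + 1 → q + 1 ≤ j → HasProjectiveDimensionLT (ModuleCat.of A M) j by
    by_cases hq : q + 1 ≤ d + 1
    · exact this (d + 1 - (q + 1)) (q + 1) (by omega) le_rfl
    · exact hasProjectiveDimensionLT_of_ge _ (d + 1) (q + 1) (by omega)
  intro k
  induction k with
  | zero =>
    intro j hj _
    rw [add_zero] at hj
    subst hj
    exact base
  | succ k ih =>
    intro j hj hqj
    have hnext := ih (j + 1) (by omega) (by omega)
    obtain ⟨n, rfl⟩ : ∃ n, j = n + 1 := ⟨j - 1, by omega⟩
    refine (S5789.result A M n).2 fun I => ?_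
    let f : ModuleCat.of A I ⟶ ModuleCat.of A A := ModuleCat.ofHom (Submodule.subtype I)
    let g : ModuleCat.of A A ⟶ ModuleCat.of A (A ⧸ I) := ModuleCat.ofHom (Submodule.mkQ I)
    let S : ShortComplex (ModuleCat.{u} A) := ShortComplex.mk f g
      (ModuleCat.hom_ext (LinearMap.exact_subtype_mkQ I).linearMap_comp_eq_zero)
    have hS : S.ShortExact :=
      ModuleCat.shortComplex_shortExact S (LinearMap.exact_subtype_mkQ I) Subtype.val_injective
        (Submodule.mkQ_surjective I)
    refine subsingleton_of_forall_eq 0 fun x => ?_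
    haveI : Subsingleton (Abelian.Ext (ModuleCat.of A M) S.X₁ (n + 1 + 1)) :=
      HasProjectiveDimensionLT.subsingleton (ModuleCat.of A M) (n + 1 + 1) (n + 1 + 1) le_rfl _
    obtain ⟨y, hy⟩ := Abelian.Ext.covariant_sequence_exact₃ (ModuleCat.of A M) hS x (rfl : n + 1 + 1 = n + 1 + 1)
      (Subsingleton.elim _ _)
    haveI : Subsingleton (Abelian.Ext (ModuleCat.of A M) S.X₂ (n + 1)) := h (n + 1) (by omega)
    rw [← hy, Subsingleton.elim y 0, Abelian.Ext.zero_comp]

end Groth.Agent.S11495
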