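import Groth.Statements.S11496
import Groth.Agent.S0564
import Groth.Agent.LocDuality.CanonBasic

set_option autoImplicit false
universe u
open CategoryTheory
open VBPn

namespace Groth.Agent.S11496

/-- Let A be a regular local ring, M a finitely generated A-module and i ≥ 0. The support of Ext^i_A(M,
A) has dimension at most dim A − i: for every prime ideal p of A such that Ext^i over the
localization A_p of M_p into A_p is nonzero (this Ext group is the localization at p of Ext^i_A(M,
A)), one has dim(A/p) + i ≤ dim A. The published statement is for coherent analytic sheaves on an
n-dimensional complex manifold; this row is stated for any regular local ring. -/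
theorem result (A : Type u) [CommRing A] [IsRegularLocalRing A]
    (M : Type u) [AddCommGroup M] [Module A M] [Module.Finite A M] (i : ℕ) (p : Ideal A) [p.IsPrime]
    (h : Nontrivial (Abelian.Ext
      (ModuleCat.of (Localization.AtPrime p) (LocalizedModule p.primeCompl M))
      (ModuleCat.of (Localization.AtPrime p) (Localization.AtPrime p)) i)) :
    ringKrullDim (A ⧸ p) + (i : WithBot ℕ∞) ≤ ringKrullDim A := by
  haveI := S0564.result A p
  obtain ⟨d, hd⟩ := CAlgReg.exists_dim (R := Localization.AtPrime p)
  have hi : i ≤ d := by
    by_contra hlt
    push Not at hlt
    have hM := CAlgReg.pdLT_of_isRegularLocalRing hd (LocalizedModule p.primeCompl M)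
    have := @HasProjectiveDimensionLT.subsingleton _ _ _ _
      (ModuleCat.of (Localization.AtPrime p) (LocalizedModule p.primeCompl M)) (d + 1) hM i (by omega)
      (ModuleCat.of (Localization.AtPrime p) (Localization.AtPrime p))
    exact @not_subsingleton _ h this
  have hht : (p.height : WithBot ℕ∞) = d := by
    rw [← IsLocalization.AtPrime.ringKrullDim_eq_height p (Localization.AtPrime p), hd]
  refine le_trans ?_ (LocDuality.height_add_ringKrullDim_quotient_le p)
  rw [add_comm, hht]
  exact add_le_add_left (by exact_mod_cast hi) _

end Groth.Agent.S11496
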