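import Groth.Statements.S11497
import Mathlib
-- import your own Groth.Agent.* helpers here

set_option autoImplicit false
universe w v u
open CategoryTheory
open VBPn

namespace Groth.Agent.S11497

variable {C : Type u} [Category.{v} C] [Abelian C] [HasExt.{w} C]

theorem exists_lift {S : ShortComplex C} (hS : S.ShortExact) {X : C}
    (h : Subsingleton (Abelian.Ext X S.X₁ 1)) (x : X ⟶ S.X₃) : ∃ y : X ⟶ S.X₂, y ≫ S.g = x := by
  obtain ⟨y, hy⟩ := Abelian.Ext.covariant_sequence_exact₃ X hS (Abelian.Ext.mk₀ x) (zero_add 1)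
    (Subsingleton.elim _ _)
  obtain ⟨y, rfl⟩ := (Abelian.Ext.mk₀_bijective X S.X₂).2 y
  rw [Abelian.Ext.mk₀_comp_mk₀] at hy
  exact ⟨y, (Abelian.Ext.mk₀_bijective X S.X₃).1 hy⟩

theorem exists_extend {S : ShortComplex C} (hS : S.ShortExact) {Y : C}
    (h : Subsingleton (Abelian.Ext S.X₃ Y 1)) (x : S.X₁ ⟶ Y) : ∃ y : S.X₂ ⟶ Y, S.f ≫ y = x := by
  obtain ⟨y, hy⟩ := Abelian.Ext.contravariant_sequence_exact₁ hS (Y := Y) (Abelian.Ext.mk₀ x)
    (add_zero 1) (Subsingleton.elim _ _)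
  obtain ⟨y, rfl⟩ := (Abelian.Ext.mk₀_bijective S.X₂ Y).2 y
  rw [Abelian.Ext.mk₀_comp_mk₀] at hy
  exact ⟨y, (Abelian.Ext.mk₀_bijective S.X₁ Y).1 hy⟩

theorem subsingleton_ext₁ {S : ShortComplex C} (hS : S.ShortExact) {Y : C}
    (h₂ : Subsingleton (Abelian.Ext S.X₂ Y 1)) (h₃ : Subsingleton (Abelian.Ext S.X₃ Y 2)) :
    Subsingleton (Abelian.Ext S.X₁ Y 1) := by
  refine ⟨fun a b => ?_⟩
  have : ∀ x : Abelian.Ext S.X₁ Y 1, x = 0 := fun x => by
    obtain ⟨y, rfl⟩ := Abelian.Ext.contravariant_sequence_exact₁ hS (Y := Y) x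
      (show 1 + 1 = 2 by rfl) (Subsingleton.elim _ _)
    rw [Subsingleton.elim y 0, Abelian.Ext.comp_zero]
  rw [this a, this b]

theorem shortExact_cycles (M : ShortComplex C) [Epi M.g] (h : M.LeftHomologyData) :
    (ShortComplex.mk h.i M.g h.wi).ShortExact :=
  { exact := ShortComplex.exact_of_f_is_kernel _ h.hi
    mono_f := inferInstanceAs (Mono h.i)
    epi_g := inferInstanceAs (Epi M.g) }

theorem shortExact_boundaries (M : ShortComplex C) [Mono M.f] (h : M.LeftHomologyData) :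
    (ShortComplex.mk h.f' h.π h.f'_π).ShortExact :=
  { exact := ShortComplex.exact_of_g_is_cokernel _ h.hπ'
    mono_f := by
      have : Mono (h.f' ≫ h.i) := by rw [h.f'_i]; infer_instance
      exact mono_of_mono h.f' h.i
    epi_g := inferInstanceAs (Epi h.π) }

/-- In an abelian category, let M : A → B → C and M' : A' → B' → C' be monads, i.e. short complexes
whose first map is a monomorphism and whose second map is an epimorphism, with cohomology (homology)
objects E and E'. Suppose Hom(B, A') = 0, Hom(C, B') = 0 and Ext^1(C, A') = Ext^1(B, A') = Ext^1(C,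
B') = Ext^2(C, A') = 0. Then the map sending a morphism of monads M → M' to the induced morphism E →
E' is bijective. The published statement is for monads of vector bundles on a complex manifold X,
with Ext^i(C, A') written H^i(X, C^* ⊗ A'); this row is stated in any abelian category. -/
theorem result {C : Type u} [Category.{v} C] [Abelian C] [HasExt.{w} C]
    (M M' : ShortComplex C) [Mono M.f] [Epi M.g] [Mono M'.f] [Epi M'.g]
    (hBA : ∀ f : M.X₂ ⟶ M'.X₁, f = 0) (hCB : ∀ f : M.X₃ ⟶ M'.X₂, f = 0)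
    (hCA₁ : Subsingleton (Abelian.Ext M.X₃ M'.X₁ 1)) (hBA₁ : Subsingleton (Abelian.Ext M.X₂ M'.X₁ 1))
    (hCB₁ : Subsingleton (Abelian.Ext M.X₃ M'.X₂ 1)) (hCA₂ : Subsingleton (Abelian.Ext M.X₃ M'.X₁ 2)) :
    Function.Bijective (fun φ : M ⟶ M' => ShortComplex.homologyMap φ) := by
  let h := M.leftHomologyData
  let h' := M'.leftHomologyData
  have hB := shortExact_cycles M h
  have hB' := shortExact_cycles M' h'
  have hA := shortExact_boundaries M h
  have hA' := shortExact_boundaries M' h'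
  have hZA : ∀ f : h.K ⟶ M'.X₁, f = 0 := fun f => by
    obtain ⟨y, hy⟩ := exists_extend hB hCA₁ f
    rw [← hy, hBA y]
    exact Limits.comp_zero
  have key : ∀ (φ : M ⟶ M') (γ : ShortComplex.LeftHomologyMapData φ h h'),
      ShortComplex.homologyMap φ = h.homologyIso.hom ≫ γ.φH ≫ h'.homologyIso.inv :=
    fun φ γ => γ.homologyMap_eq
  constructor
  · intro φ ψ he
    rw [← sub_eq_zero]
    generalize hd : φ - ψ = d
    have hd0 : ShortComplex.homologyMap d = 0 := by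
      rw [← hd, ShortComplex.homologyMap_sub]
      exact sub_eq_zero.2 he
    clear hd he
    let γ : ShortComplex.LeftHomologyMapData d h h' := default
    have h0 : γ.φH = 0 := by
      have := key d γ
      rw [hd0] at this
      rw [← cancel_mono h'.homologyIso.inv, ← cancel_epi h.homologyIso.hom, ← this]
      simp
    have h1 : γ.φK ≫ h'.π = 0 := by rw [← γ.commπ, h0, Limits.comp_zero]
    haveI : Mono h'.f' := hA'.mono_f
    obtain ⟨l, hl⟩ : ∃ l : h.K ⟶ M'.X₁, l ≫ h'.f' = γ.φK :=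
      ⟨hA'.exact.lift γ.φK h1, hA'.exact.lift_f γ.φK h1⟩
    have hK : γ.φK = 0 := by rw [← hl, hZA l, Limits.zero_comp]
    have h2 : h.i ≫ d.τ₂ = 0 := by rw [← γ.commi, hK, Limits.zero_comp]
    obtain ⟨m, hm⟩ : ∃ m : M.X₃ ⟶ M'.X₂, M.g ≫ m = d.τ₂ :=
      ⟨hB.exact.desc d.τ₂ h2, hB.exact.g_desc d.τ₂ h2⟩
    have t2 : d.τ₂ = 0 := by rw [← hm, hCB m, Limits.comp_zero]
    ext
    · rw [← cancel_mono M'.f, d.comm₁₂, t2]; simp
    · rw [t2]; simp
    · rw [← cancel_epi M.g, ← d.comm₂₃, t2]; simp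
  · intro η
    let ηH : h.H ⟶ h'.H := h.homologyIso.inv ≫ η ≫ h'.homologyIso.hom
    obtain ⟨ψ, hψ⟩ := exists_lift hA' (subsingleton_ext₁ hB hBA₁ hCA₂) (h.π ≫ ηH)
    obtain ⟨τ₂, hτ₂⟩ := exists_extend hB hCB₁ (ψ ≫ h'.i)
    change h.i ≫ τ₂ = _ at hτ₂
    change ψ ≫ h'.π = _ at hψ
    have h1 : (h.f' ≫ ψ) ≫ h'.π = 0 := by
      rw [Category.assoc, hψ, h.f'_π_assoc, Limits.zero_comp]
    haveI : Mono h'.f' := hA'.mono_f
    let τ₁ : M.X₁ ⟶ M'.X₁ := hA'.exact.lift (h.f' ≫ ψ) h1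
    have hτ₁ : τ₁ ≫ h'.f' = h.f' ≫ ψ := hA'.exact.lift_f _ h1
    have h2 : h.i ≫ τ₂ ≫ M'.g = 0 := by
      rw [← Category.assoc, hτ₂, Category.assoc, h'.wi, Limits.comp_zero]
    let τ₃ : M.X₃ ⟶ M'.X₃ := hB.exact.desc (τ₂ ≫ M'.g) h2
    have hτ₃ : M.g ≫ τ₃ = τ₂ ≫ M'.g := hB.exact.g_desc _ h2
    let φ : M ⟶ M' :=
      { τ₁ := τ₁, τ₂ := τ₂, τ₃ := τ₃
        comm₁₂ := by
          rw [← h'.f'_i, ← Category.assoc, hτ₁, Category.assoc, ← hτ₂, h.f'_i_assoc]
        comm₂₃ := hτ₃.symm }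
    refine ⟨φ, ?_⟩
    have := key φ { φK := ψ, φH := ηH, commi := hτ₂.symm, commf' := hτ₁.symm, commπ := hψ.symm }
    dsimp only at this ⊢
    rw [this]
    simp [ηH]

end Groth.Agent.S11497
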