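import Groth.Statements.S11499
import Mathlib

set_option autoImplicit false
universe u
open TensorProduct
open VBPn

namespace Groth.Agent.S11499

/-- Let A be an integral domain with fraction field K and M a finitely generated torsion-free A-module
of rank r (K ⊗_A M is r-dimensional over K). Then there is an injective A-linear map M → A^r. The
published statement is for torsion-free coherent sheaves on a complex manifold, locally near a
point; this row is its statement for one stalk, over any domain. -/
theorem result (A : Type u) [CommRing A] [IsDomain A]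
    (M : Type u) [AddCommGroup M] [Module A M] [Module.Finite A M] [NoZeroSMulDivisors A M] (r : ℕ)
    (hr : Module.finrank (FractionRing A) (FractionRing A ⊗[A] M) = r) :
    ∃ f : M →ₗ[A] (Fin r → A), Function.Injective f := by
  classical
  have := hr
  let K := FractionRing A
  let b := Module.finBasisOfFinrankEq K (K ⊗[A] M) hr
  let φ : M →ₗ[A] (Fin r → K) := (b.equivFun.toLinearMap.restrictScalars A).comp (TensorProduct.mk A K M 1)
  have hφ : Function.Injective φ := by
    refine b.equivFun.injective.comp ?_
    have hl : IsLocalizedModule (nonZeroDivisors A) (TensorProduct.mk A K M 1) :=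
      (isLocalizedModule_iff_isBaseChange (nonZeroDivisors A) K _).2 (TensorProduct.isBaseChange A M K)
    rw [injective_iff_map_eq_zero]
    intro x hx
    obtain ⟨c, hc⟩ := (IsLocalizedModule.eq_zero_iff (nonZeroDivisors A) (TensorProduct.mk A K M 1)).1 hx
    exact (smul_eq_zero.1 hc).resolve_left (nonZeroDivisors.coe_ne_zero c)
  obtain ⟨k, s, hs⟩ := Module.Finite.exists_fin (R := A) (M := M)
  obtain ⟨d, hd⟩ := IsLocalization.exist_integer_multiples_of_finset (nonZeroDivisors A)
    (Finset.univ.image fun p : Fin k × Fin r => φ (s p.1) p.2)
  have hmem : ∀ x j, (algebraMap A K (d : A)) * φ x j ∈ (Algebra.linearMap A K).range := by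
    intro x j
    have hx : x ∈ Submodule.span A (Set.range s) := hs ▸ Submodule.mem_top
    induction hx using Submodule.span_induction with
    | mem x hx =>
      obtain ⟨a, rfl⟩ := hx
      obtain ⟨c, hc⟩ := hd (φ (s a) j) (Finset.mem_image.2 ⟨(a, j), Finset.mem_univ _, rfl⟩)
      exact ⟨c, by rw [Algebra.linearMap_apply, hc, Algebra.smul_def]⟩
    | zero => simp
    | add x y _ _ hx hy => rw [map_add, Pi.add_apply, mul_add]; exact add_mem hx hy
    | smul c x _ hx => rw [map_smul, Pi.smul_apply, mul_smul_comm]; exact Submodule.smul_mem _ c hx
  choose g hg using hmem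
  refine ⟨⟨⟨fun x => g x, fun x y => funext fun j => IsFractionRing.injective A K ?_⟩, fun c x => funext fun j => IsFractionRing.injective A K ?_⟩, ?_⟩
  · show Algebra.linearMap A K (g (x + y) j) = Algebra.linearMap A K (g x j + g y j)
    rw [map_add, hg, hg, hg, map_add, Pi.add_apply, mul_add]
  · show Algebra.linearMap A K (g (c • x) j) = Algebra.linearMap A K (c • g x j)
    rw [map_smul, hg, hg, map_smul, Pi.smul_apply, mul_smul_comm]
  · intro x y hxy
    refine hφ (funext fun j => ?_)
    have h1 : g x j = g y j := congrFun hxy j
    exact mul_left_cancel₀ ((map_ne_zero_iff _ (IsFractionRing.injective A K)).2 (nonZeroDivisors.coe_ne_zero d))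
      (by rw [← hg, ← hg, h1])

end Groth.Agent.S11499
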