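import Groth.Statements.S11523
import Mathlib.CategoryTheory.Simple
import Mathlib.CategoryTheory.Subobject.Limits
import Mathlib.CategoryTheory.Abelian.Refinements
import Mathlib.Order.Atoms
import Mathlib.CategoryTheory.Limits.Preserves.Shapes.Kernels

set_option autoImplicit false
set_option backward.isDefEq.respectTransparency false
set_option backward.defeqAttrib.useBackward true
universe v u v' u'
open CategoryTheory CategoryTheory.Limits
open PervT

namespace Groth.Agent.S11523

/-- Let `u : A ⥤ B` be a fully faithful exact functor of abelian categories admitting a left adjoint and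
a right adjoint `uStar`. Suppose every object of `A` has finite length (it is both an artinian and a
noetherian object) and that `u` sends simple objects to simple objects. Then for every object `Y` of
`B` the counit `u (uStar Y) ⟶ Y` of the adjunction `u ⊣ uStar` is a monomorphism. (The published
statement also lists two further conditions equivalent to this one: that for every object `Y` of `B`
the unit `Y ⟶ u (L Y)` of the adjunction `L ⊣ u` of the left adjoint `L` is an epimorphism, and that
the essential image of `u` is stable under subobjects and quotients; this row states only the counit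
condition.) -/
theorem result {A : Type u} [Category.{v} A] [Abelian A] {B : Type u'} [Category.{v'} B] [Abelian B]
    (u : A ⥤ B) [u.Full] [u.Faithful] [PreservesFiniteLimits u] [PreservesFiniteColimits u] [u.IsRightAdjoint]
    (uStar : B ⥤ A) (adj : u ⊣ uStar)
    (hlen : ∀ X : A, IsArtinianObject X ∧ IsNoetherianObject X)
    (hsimple : ∀ X : A, Simple X → Simple (u.obj X)) (Y : B) :
    Mono (adj.counit.app Y) := by
  -- every non-zero object has a simple subobject
  have hsub : ∀ W : A, ¬ IsZero W → ∃ (S : A) (i : S ⟶ W), Mono i ∧ Simple S := by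
    intro W hW
    haveI := (hlen W).1
    haveI : Nontrivial (Subobject W) := Subobject.nontrivial_of_not_isZero hW
    haveI : IsAtomic (Subobject W) := isAtomic_of_orderBot_wellFounded_lt wellFounded_lt
    obtain ⟨S, hS, -⟩ := (IsAtomic.eq_bot_or_exists_atom_le (⊤ : Subobject W)).resolve_left top_ne_bot
    exact ⟨S, S.arrow, inferInstance, (subobject_simple_iff_isAtom S).2 hS⟩
  refine Preadditive.mono_of_kernel_zero ?_
  by_contra hk
  let X := uStar.obj Y
  let k : kernel (adj.counit.app Y) ⟶ u.obj X := kernel.ι (adj.counit.app Y)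
  have hk' : ¬ IsZero (kernel (adj.counit.app Y)) := fun h ↦ hk (h.eq_of_src _ _)
  -- a subobject `N` maximal among those with `K ⟶ u(X/N)` a monomorphism
  haveI := (hlen X).2
  obtain ⟨N, hN, hmax⟩ := (wellFounded_gt (α := Subobject X)).has_min
    {N : Subobject X | Mono (k ≫ u.map (cokernel.π N.arrow))} ⟨⊥, by
      haveI : IsIso (cokernel.π (⊥ : Subobject X).arrow) := by
        rw [Subobject.bot_arrow]; infer_instance
      haveI : IsIso (u.map (cokernel.π (⊥ : Subobject X).arrow)) := inferInstance
      show Mono _
      infer_instance⟩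
  haveI : Mono (k ≫ u.map (cokernel.π N.arrow)) := hN
  have hQ : ¬ IsZero (cokernel N.arrow) := fun h ↦ hk' (IsZero.of_mono_eq_zero
    (k ≫ u.map (cokernel.π N.arrow)) ((u.map_isZero h).eq_of_tgt _ _))
  obtain ⟨S, i, hi, hS⟩ := hsub _ hQ
  let q : X ⟶ cokernel i := cokernel.π N.arrow ≫ cokernel.π i
  have hlt : N < kernelSubobject q := by
    refine lt_of_le_of_ne (le_kernelSubobject N (f := q) (by simp [q])) fun h ↦ ?_
    apply (Simple.not_isZero S)
    refine IsZero.of_mono_eq_zero i ?_
    have : (kernelSubobject q).arrow ≫ cokernel.π N.arrow = 0 := by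
      rw [← h]; exact cokernel.condition _
    -- `cokernel.π i` is a monomorphism
    have hm : Mono (cokernel.π i) := by
      refine Preadditive.mono_of_cancel_zero _ fun {Z} z hz ↦ ?_
      obtain ⟨Z', π, hπ, x, hx⟩ := surjective_up_to_refinements_of_epi (cokernel.π N.arrow) z
      have hxq : x ≫ q = 0 := by
        simp only [q]
        rw [← reassoc_of% hx, hz, comp_zero]
      rw [← cancel_epi π, hx, comp_zero,
        ← factorThruKernelSubobject_comp_arrow q x hxq, Category.assoc, this, comp_zero]
    rw [← cancel_mono (cokernel.π i), cokernel.condition, zero_comp]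
  have hnot : ¬ Mono (k ≫ u.map (cokernel.π (kernelSubobject q).arrow)) := fun h ↦ hmax _ h hlt
  -- the kernel of `K ⟶ u(X/N')` maps monomorphically to `u S`
  let m := k ≫ u.map (cokernel.π N.arrow)
  have hnot' : ¬ Mono (m ≫ u.map (cokernel.π i)) := by
    intro h
    apply hnot
    let d : cokernel (kernelSubobject q).arrow ⟶ cokernel i :=
      cokernel.desc _ q (kernelSubobject_arrow_comp q)
    haveI : Mono ((k ≫ u.map (cokernel.π (kernelSubobject q).arrow)) ≫ u.map d) := by
      have e : (k ≫ u.map (cokernel.π (kernelSubobject q).arrow)) ≫ u.map d =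
          m ≫ u.map (cokernel.π i) := by
        simp only [m, Category.assoc, ← u.map_comp, d, cokernel.π_desc, q]
      rw [e]; exact h
    exact mono_of_mono _ (u.map d)
  have hk1 : kernel.ι (m ≫ u.map (cokernel.π i)) ≠ 0 := fun h ↦
    hnot' (Preadditive.mono_of_kernel_zero h)
  have hw : i ≫ cokernel.π i = 0 := cokernel.condition i
  have hiK : IsLimit (KernelFork.ofι i hw) :=
    (ShortComplex.exact_of_g_is_cokernel (ShortComplex.mk i _ hw) (cokernelIsCokernel i)).fIsKernel
  obtain ⟨l, hl⟩ := KernelFork.IsLimit.lift' (isLimitForkMapOfIsLimit' u hw hiK)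
    (kernel.ι (m ≫ u.map (cokernel.π i)) ≫ m) (by simpa [Functor.map_comp] using kernel.condition _)
  replace hl : l ≫ u.map i = kernel.ι (m ≫ u.map (cokernel.π i)) ≫ m := hl
  haveI : Mono (kernel.ι (m ≫ u.map (cokernel.π i)) ≫ m) := mono_comp _ m
  haveI : Mono (l ≫ u.map i) := by rw [hl]; infer_instance
  haveI : Mono l := mono_of_mono l (u.map i)
  haveI := hsimple S hS
  have hl0 : l ≠ 0 := by
    intro h
    rw [h, zero_comp] at hl
    exact hk1 (zero_of_comp_mono m hl.symm)
  haveI : Simple (KernelFork.ofι (u.map i) (by rw [← u.map_comp, hw, u.map_zero])).pt := inferInstanceAs (Simple (u.obj S))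
  haveI : IsIso l := isIso_of_mono_of_nonzero hl0
  -- a non-zero map `u S ⟶ kernel`, hence a contradiction by adjunction
  let g : u.obj S ⟶ u.obj X := inv l ≫ kernel.ι (m ≫ u.map (cokernel.π i)) ≫ k
  obtain ⟨f, hf⟩ := u.map_surjective g
  have hg : g ≫ adj.counit.app Y = 0 := by simp [g, k]
  have hf0 : f = 0 := by
    apply (adj.homEquiv S Y).symm.injective
    rw [adj.homEquiv_counit, adj.homEquiv_counit, hf, hg, u.map_zero, zero_comp]
  rw [hf0, u.map_zero] at hf
  refine hk1 (zero_of_comp_mono k ?_)
  rw [← cancel_epi (inv l), comp_zero]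
  exact hf.symm

end Groth.Agent.S11523
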