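import Groth.Statements.S11524
import Groth.Agent.AdicRingLib.Coherent

set_option autoImplicit false
universe u
open AdicRing

namespace Groth.Agent.S11524

/-- Let R be a base ring of class (N) or (V) for the ideal I, A an R-algebra topologically of finite
type and M a finite A-module which is flat over R. Then M is of finite presentation over A. (Class
(V) is taken here to consist of complete valuation rings of height one.) -/
theorem result
    (R : Type u) [CommRing R] (I : Ideal R) (hR : AdicRing.IsBase R I)
    (A : Type u) [CommRing A] [Algebra R A] (hA : AdicRing.TopFiniteType R I A)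
    (M : Type u) [AddCommGroup M] [Module A M] [Module R M] [IsScalarTower R A M]
    [Module.Finite A M] [Module.Flat R M] :
    Module.FinitePresentation A M := by
  classical
  obtain ⟨s, F, hF⟩ := Module.Finite.exists_fin' A M
  refine Module.finitePresentation_of_surjective F hF (AdicRingLib.ker_fg_of_noPowTorsion hR hA F ?_)
  obtain ⟨hc, hcase⟩ := hR
  intro x m hx
  rcases hcase with ⟨hN, hT⟩ | ⟨hdom, hpre, hdim, t, ht, rfl⟩
  · obtain ⟨r, e, he⟩ := Submodule.fg_iff_exists_fin_generating_family.mp (IsNoetherian.noetherian (I ^ m))
    let Φ : R →ₗ[R] (Fin r → R) := LinearMap.pi fun j ↦ LinearMap.lsmul R R (e j)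
    have hΦ : Function.Injective Φ := by
      refine (injective_iff_map_eq_zero Φ).mpr fun z hz ↦ hT z m fun a ha ↦ ?_
      obtain ⟨c, rfl⟩ := (Submodule.mem_span_range_iff_exists_fun R).mp (he ▸ ha)
      rw [Finset.sum_smul]
      refine Finset.sum_eq_zero fun j _ ↦ ?_
      rw [smul_assoc, show e j • z = 0 from congrFun hz j, smul_zero]
    have hinj := Module.Flat.lTensor_preserves_injective_linearMap (M := M) Φ hΦ
    let E := TensorProduct.piScalarRight R R M (Fin r)
    have : x ⊗ₜ[R] (1 : R) = 0 := by
      refine hinj ?_
      rw [map_zero, LinearMap.lTensor_tmul]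
      refine E.injective ?_
      rw [map_zero]
      funext j
      simp only [E, TensorProduct.piScalarRight_apply, TensorProduct.piScalarRightHom_tmul, Φ,
        LinearMap.pi_apply, LinearMap.lsmul_apply, smul_eq_mul, mul_one, Pi.zero_apply]
      rw [← IsScalarTower.algebraMap_smul A (e j) x]
      exact hx _ (he ▸ Submodule.subset_span ⟨j, rfl⟩)
    simpa using congrArg (TensorProduct.rid R M) this
  · have : Module.IsTorsionFree R M := Module.Flat.isTorsionFree
    have h := hx (t ^ m) (by rw [Ideal.span_singleton_pow]; exact Ideal.mem_span_singleton_self _)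
    rw [IsScalarTower.algebraMap_smul] at h
    exact (smul_eq_zero_iff_right (pow_ne_zero m ht)).mp h

end Groth.Agent.S11524
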