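import Groth.Statements.S11525
import Groth.Agent.AdicRingLib.Coherent

set_option autoImplicit false
universe u
open AdicRing

namespace Groth.Agent.S11525

/-- Let R be a base ring of class (N) or (V) for the ideal I and A an R-algebra topologically of finite
type without I-power torsion. Then A is topologically of finite presentation. -/
theorem result
    (R : Type u) [CommRing R] (I : Ideal R) (hR : AdicRing.IsBase R I)
    (A : Type u) [CommRing A] [Algebra R A] (hA : AdicRing.TopFiniteType R I A)
    (hT : AdicRing.NoPowTorsion I A) :
    AdicRing.TopFinitePresentation R I A := by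
  obtain ⟨n, φ, hφ⟩ := hA
  refine ⟨n, φ, hφ, ?_⟩
  exact AdicRingLib.fg_of_isSat hR (A := AdicRing.RPow R I n) ⟨n, AlgHom.id R _, Function.surjective_id⟩
    (M := AdicRing.RPow R I n) (RingHom.ker φ.toRingHom) fun x m hx ↦ hT (φ x) m fun a ha ↦ by
      have := hx a ha
      rw [RingHom.mem_ker, smul_eq_mul, AlgHom.toRingHom_eq_coe, RingHom.coe_coe, map_mul, AlgHom.commutes] at this
      rwa [Algebra.smul_def]

end Groth.Agent.S11525
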