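import Groth.Statements.S11528
import Groth.Agent.AdicRingLib.Coherent

set_option autoImplicit false
universe u
open AdicRing

namespace Groth.Agent.S11528

/-- Let R be a base ring of class (N) or (V) for the ideal I, A an R-algebra topologically of finite
type, M a finite A-module and N a submodule of M. Then for some n₀ and all m, the intersection of
I^(m+n₀) M with N lies in I^m N. (The published statement asserts only that the I-adic topology of M
induces that of N; this row states the uniform form: for some n₀ and all m, I^(m+n₀) M ∩ N lies in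
I^m N.) -/
theorem result
    (R : Type u) [CommRing R] (I : Ideal R) (hR : AdicRing.IsBase R I)
    (A : Type u) [CommRing A] [Algebra R A] (hA : AdicRing.TopFiniteType R I A)
    (M : Type u) [AddCommGroup M] [Module A M] [Module R M] [IsScalarTower R A M]
    [Module.Finite A M] (N : Submodule A M) :
    ∃ n₀ : ℕ, ∀ m : ℕ,
      (I ^ (m + n₀) • (⊤ : Submodule R M)) ⊓ N.restrictScalars R ≤ I ^ m • N.restrictScalars R := by
  obtain ⟨n₀, h⟩ := AdicRingLib.artinRees hR hA N
  refine ⟨n₀, fun m x ⟨hx, hxN⟩ ↦ ?_⟩
  have h' := h m (x := x) ⟨?_, hxN⟩
  · rw [← Ideal.map_pow] at h'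
    rw [← Ideal.smul_restrictScalars]
    exact h'
  · rw [SetLike.mem_coe, ← Ideal.map_pow]
    have := Ideal.smul_restrictScalars (R := R) (S := A) (I ^ (m + n₀)) (⊤ : Submodule A M)
    rw [Submodule.restrictScalars_top] at this
    rw [SetLike.mem_coe, ← this] at hx
    exact hx

end Groth.Agent.S11528
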