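import Groth.Statements.S11532
import Groth.Agent.AdicRingLib.Flatness

set_option autoImplicit false
universe u
open scoped TensorProduct
open AdicRing

namespace Groth.Agent.S11532

/-- Let R be a base ring of class (N) or (V) for the ideal I, A → B a morphism of R-algebras
topologically of finite type and M a finite B-module. Then M is a faithfully flat A-module exactly
when, for every n, writing A_n = A/I^(n+1)A, the module A_n ⊗_A M is faithfully flat over A_n. -/
theorem result
    (R : Type u) [CommRing R] (I : Ideal R) (hR : AdicRing.IsBase R I)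
    (A : Type u) [CommRing A] [Algebra R A] (hA : AdicRing.TopFiniteType R I A)
    (B : Type u) [CommRing B] [Algebra R B] [Algebra A B] [IsScalarTower R A B]
    (hB : AdicRing.TopFiniteType R I B)
    (M : Type u) [AddCommGroup M] [Module B M] [Module A M] [IsScalarTower A B M]
    [Module.Finite B M] :
    Module.FaithfullyFlat A M ↔
      ∀ n : ℕ, Module.FaithfullyFlat (AdicRing.trunc A I n) ((AdicRing.trunc A I n) ⊗[A] M) := by
  refine ⟨fun h n ↦ inferInstance, fun h ↦ ?_⟩
  have hflat := AdicRingLib.flat_of_flat_mod_pow hR hA hB (M := M) fun n ↦ inferInstance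
  refine { hflat with submodule_ne_top := fun m hm htop ↦ ?_ }
  have hjac := AdicRingLib.le_jacobson_of_topFiniteType (AdicRingLib.isBase_fg hR) hA
  let K : Ideal A := (I ^ (0 + 1)).map (algebraMap R A)
  have hK : K ≤ m := by
    simp only [K, zero_add, pow_one]
    exact hjac.trans (sInf_le ⟨bot_le, hm⟩)
  have hm' : (m.map (Ideal.Quotient.mk K)).IsMaximal :=
    Ideal.IsMaximal.map_of_surjective_of_ker_le Ideal.Quotient.mk_surjective (by rw [Ideal.mk_ker]; exact hK)
  refine (h 0).submodule_ne_top hm' (top_unique fun z _ ↦ ?_)
  induction z with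
  | zero => exact zero_mem _
  | add a b ha hb => exact add_mem (ha trivial) (hb trivial)
  | tmul c x =>
    have hx : x ∈ m • (⊤ : Submodule A M) := by rw [htop]; trivial
    refine Submodule.smul_induction_on hx (fun r hr y _ ↦ ?_) (fun a b ha hb ↦ ?_)
    · rw [TensorProduct.tmul_smul, ← IsScalarTower.algebraMap_smul (AdicRing.trunc A I 0) r (c ⊗ₜ[A] y)]
      exact Submodule.smul_mem_smul (Ideal.mem_map_of_mem _ hr) trivial
    · rw [TensorProduct.tmul_add]; exact add_mem ha hb

end Groth.Agent.S11532
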