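import Groth.Statements.S11533
import Groth.Agent.AdicRingLib.FiniteTypeAlg

set_option autoImplicit false
universe u
open AdicRing

namespace Groth.Agent.S11533

/-- Let R be a base ring of class (N) or (V) for the ideal I, A an R-algebra topologically of finite
type and f_1, ..., f_r elements of A generating the unit ideal. Then every complete localization
A⟨f_i⁻¹⟩ is flat over A, and the product of the A⟨f_i⁻¹⟩ is faithfully flat over A. -/
theorem result
    (R : Type u) [CommRing R] (I : Ideal R) (hR : AdicRing.IsBase R I)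
    (A : Type u) [CommRing A] [Algebra R A] (hA : AdicRing.TopFiniteType R I A)
    (r : ℕ) (f : Fin r → A) (hf : Ideal.span (Set.range f) = ⊤) :
    (∀ i, Module.Flat A (AdicRing.CLoc I (f i))) ∧
      Module.FaithfullyFlat A (∀ i, AdicRing.CLoc I (f i)) := by
  classical
  have hflat : ∀ i, Module.Flat A (AdicRing.CLoc I (f i)) := fun i ↦ by
    have : Algebra.FiniteType A (Localization.Away (f i)) :=
      IsLocalization.finiteType_of_monoid_fg (Submonoid.powers (f i)) _
    have : Module.Flat (Localization.Away (f i)) (AdicRing.CLoc I (f i)) := AdicRingLib.flat_completion hR hA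
    have : Module.Flat A (Localization.Away (f i)) := IsLocalization.flat _ (Submonoid.powers (f i))
    exact Module.Flat.trans A (Localization.Away (f i)) _
  refine ⟨hflat, ?_⟩
  have : Module.Flat A (∀ i, AdicRing.CLoc I (f i)) :=
    Module.Flat.of_linearEquiv (DirectSum.linearEquivFunOnFintype A (Fin r) fun i ↦ AdicRing.CLoc I (f i)).symm
  refine { this with submodule_ne_top := fun m hm htop ↦ ?_ }
  obtain ⟨i, hi⟩ : ∃ i, f i ∉ m := by
    by_contra! hall
    exact hm.ne_top (top_unique (hf ▸ Ideal.span_le.mpr (by rintro _ ⟨j, rfl⟩; exact hall j)))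
  let : Field (A ⧸ m) := Ideal.Quotient.field m
  have hI0 : (I.map (algebraMap R A)) ≤ m :=
    (AdicRingLib.le_jacobson_of_topFiniteType (AdicRingLib.isBase_fg hR) hA).trans (sInf_le ⟨bot_le, hm⟩)
  have hbot : I.map (algebraMap R (A ⧸ m)) = ⊥ := by
    rw [IsScalarTower.algebraMap_eq R A (A ⧸ m), ← Ideal.map_map]
    exact le_bot_iff.mp ((Ideal.map_mono hI0).trans (Ideal.map_quotient_self m).le)
  have : IsAdicComplete (I.map (algebraMap R (A ⧸ m))) (A ⧸ m) := by rw [hbot]; infer_instance
  have hu : IsUnit (algebraMap A (A ⧸ m) (f i)) :=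
    IsUnit.mk0 _ fun h0 ↦ hi (Ideal.Quotient.eq_zero_iff_mem.mp h0)
  let g : Localization.Away (f i) →ₐ[A] A ⧸ m :=
    IsLocalization.liftAlgHom (M := Submonoid.powers (f i)) (f := Algebra.ofId A (A ⧸ m)) (fun ⟨_, k, hk⟩ ↦ by
      subst hk
      simpa using hu.pow k)
  let G : AdicRingLib.Compl I (Localization.Away (f i)) →ₐ[R] A ⧸ m := AdicRingLib.complLift (g.restrictScalars R)
  have hG : ∀ a : A, ∀ z, G (a • z) = Ideal.Quotient.mk m a * G z := fun a z ↦ by
    rw [Algebra.smul_def, map_mul,
      IsScalarTower.algebraMap_apply A (Localization.Away (f i)) (AdicRingLib.Compl I (Localization.Away (f i)))]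
    congr 1
    exact (AdicRingLib.complLift_of _ _).trans (g.commutes a)
  have key : ∀ z ∈ m • (⊤ : Submodule A (∀ i, AdicRing.CLoc I (f i))), G (z i) = 0 := fun z hz ↦ by
    refine Submodule.smul_induction_on hz (fun a ha y _ ↦ ?_) (fun a b ha hb ↦ ?_)
    · rw [Pi.smul_apply]
      refine (hG a (y i)).trans ?_
      rw [Ideal.Quotient.eq_zero_iff_mem.mpr ha, zero_mul]
    · rw [Pi.add_apply, map_add, ha, hb, add_zero]
  have := key 1 (by rw [htop]; trivial)
  rw [Pi.one_apply, map_one] at this
  exact one_ne_zero this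

end Groth.Agent.S11533
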