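import Groth.Statements.S11534
import Groth.Agent.AdicRingLib.Trunc

set_option autoImplicit false
universe u
open AdicRing

namespace Groth.Agent.S11534

/-- Let R be a base ring of class (N) or (V) for the ideal I, A an R-algebra which is complete and
separated for the I-adic topology, and f_1, ..., f_r elements generating the unit ideal of A. Then A
is topologically of finite type over R if and only if each complete localization A⟨f_i⁻¹⟩ is. -/
theorem result
    (R : Type u) [CommRing R] (I : Ideal R) (hR : AdicRing.IsBase R I)
    (A : Type u) [CommRing A] [Algebra R A] [IsAdicComplete (I.map (algebraMap R A)) A]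
    (r : ℕ) (f : Fin r → A) (hf : Ideal.span (Set.range f) = ⊤) :
    AdicRing.TopFiniteType R I A ↔ ∀ i, AdicRing.TopFiniteType R I (AdicRing.CLoc I (f i)) := by
  have hI := AdicRingLib.isBase_fg hR
  let K := I.map (algebraMap R A)
  have hK : (I ^ 1).map (algebraMap R A) = K := by rw [pow_one]
  constructor
  · intro h i
    have := AdicRingLib.isAdicComplete_compl (P := Localization.Away (f i)) hI
    refine AdicRingLib.topFiniteType_of_finiteType_quotient hI ?_
    obtain ⟨e⟩ := AdicRingLib.exists_algEquiv_away_trunc hI (f i) 1
    rw [pow_one] at e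
    have hq : Algebra.FiniteType R (A ⧸ I.map (algebraMap R A)) := AdicRingLib.finiteType_quotient_of_topFiniteType hI h
    have : Algebra.FiniteType (A ⧸ I.map (algebraMap R A))
        (Localization.Away (Ideal.Quotient.mk (I.map (algebraMap R A)) (f i))) :=
      IsLocalization.finiteType_of_monoid_fg (Submonoid.powers (Ideal.Quotient.mk (I.map (algebraMap R A)) (f i))) _
    exact (Algebra.FiniteType.trans hq this).equiv e
  · intro h
    refine AdicRingLib.topFiniteType_of_finiteType_quotient hI ?_
    refine Algebra.FiniteType.of_span_eq_top_target (Set.range (Ideal.Quotient.mk K ∘ f)) ?_ ?_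
    · rw [Set.range_comp, ← Ideal.map_span, hf, Ideal.map_top]
    rintro _ ⟨i, rfl⟩
    obtain ⟨e⟩ := AdicRingLib.exists_algEquiv_away_trunc hI (f i) 1
    rw [pow_one] at e
    exact (AdicRingLib.finiteType_quotient_of_topFiniteType hI (h i)).equiv e.symm

end Groth.Agent.S11534
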