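import Groth.Statements.S11535
import Groth.Agent.AdicRingLib.Trunc

set_option autoImplicit false
universe u
open AdicRing

namespace Groth.Agent.S11535

/-- Let R be a base ring of class (N) or (V) for the ideal I, A an R-algebra which is complete and
separated for the I-adic topology, and f_1, ..., f_r elements generating the unit ideal of A. Then A
is topologically of finite presentation over R if and only if each complete localization A⟨f_i⁻¹⟩
is. -/
theorem result
    (R : Type u) [CommRing R] (I : Ideal R) (hR : AdicRing.IsBase R I)
    (A : Type u) [CommRing A] [Algebra R A] [IsAdicComplete (I.map (algebraMap R A)) A]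
    (r : ℕ) (f : Fin r → A) (hf : Ideal.span (Set.range f) = ⊤) :
    AdicRing.TopFinitePresentation R I A ↔
      ∀ i, AdicRing.TopFinitePresentation R I (AdicRing.CLoc I (f i)) := by
  have hI := AdicRingLib.isBase_fg hR
  constructor
  · intro h i
    have := AdicRingLib.isAdicComplete_compl (P := Localization.Away (f i)) hI
    refine AdicRingLib.topFinitePresentation_of_truncs hR fun N ↦ ?_
    obtain ⟨e⟩ := AdicRingLib.exists_algEquiv_away_trunc hI (f i) (N + 1)
    have := AdicRingLib.finitePresentation_trunc hI h (N + 1)
    have := IsLocalization.Away.finitePresentation (R := A ⧸ (I ^ (N + 1)).map (algebraMap R A))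
      (S := Localization.Away (Ideal.Quotient.mk ((I ^ (N + 1)).map (algebraMap R A)) (f i)))
      (Ideal.Quotient.mk _ (f i))
    exact (Algebra.FinitePresentation.trans R (A ⧸ (I ^ (N + 1)).map (algebraMap R A))
      (Localization.Away (Ideal.Quotient.mk ((I ^ (N + 1)).map (algebraMap R A)) (f i)))).equiv e
  · intro h
    refine AdicRingLib.topFinitePresentation_of_truncs hR fun N ↦ ?_
    refine Algebra.FinitePresentation.of_span_eq_top_target
      (Set.range (Ideal.Quotient.mk ((I ^ (N + 1)).map (algebraMap R A)) ∘ f)) ?_ ?_
    · rw [Set.range_comp, ← Ideal.map_span, hf, Ideal.map_top]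
    rintro _ ⟨i, rfl⟩
    obtain ⟨e⟩ := AdicRingLib.exists_algEquiv_away_trunc hI (f i) (N + 1)
    have := AdicRingLib.finitePresentation_trunc hI (h i) (N + 1)
    exact Algebra.FinitePresentation.equiv e.symm

end Groth.Agent.S11535
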