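import Groth.Statements.S11536
import Groth.Agent.S11535
import Groth.Agent.S11533

set_option autoImplicit false
universe u
open AdicRing

namespace Groth.Agent.S11536

/-- Let R be a base ring of class (N) or (V) for the ideal I, A an R-algebra which is complete and
separated for the I-adic topology, and f_1, ..., f_r elements generating the unit ideal of A. Then A
is admissible over R if and only if each complete localization A⟨f_i⁻¹⟩ is. -/
theorem result
    (R : Type u) [CommRing R] (I : Ideal R) (hR : AdicRing.IsBase R I)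
    (A : Type u) [CommRing A] [Algebra R A] [IsAdicComplete (I.map (algebraMap R A)) A]
    (r : ℕ) (f : Fin r → A) (hf : Ideal.span (Set.range f) = ⊤) :
    AdicRing.Admissible R I A ↔ ∀ i, AdicRing.Admissible R I (AdicRing.CLoc I (f i)) := by
  classical
  have hI := AdicRingLib.isBase_fg hR
  have h35 := S11535.result R I hR A r f hf
  constructor
  · rintro ⟨hfp, hnt⟩ i
    refine ⟨h35.mp hfp i, fun x n hx ↦ ?_⟩
    have hA : AdicRing.TopFiniteType R I A := by
      obtain ⟨m, φ, hφ, -⟩ := hfp
      exact ⟨m, φ, hφ⟩
    have := (S11533.result R I hR A hA r f hf).1 i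
    obtain ⟨s, e, he⟩ : ∃ (s : ℕ) (e : Fin s → R), Ideal.span (Set.range e) = I ^ n :=
      Submodule.fg_iff_exists_fin_generating_family.mp hI.pow
    obtain ⟨N, hN⟩ := AdicRingLib.exists_pow_mul_eq_zero_of_flat (fun j ↦ algebraMap R A (e j)) (1 : A)
      (fun τ hτ ↦ ⟨0, by
        rw [pow_zero, one_mul]
        refine hnt τ n fun a ha ↦ ?_
        rw [← he] at ha
        induction ha using Submodule.span_induction with
        | mem a ha =>
          obtain ⟨j, rfl⟩ := ha
          rw [Algebra.smul_def]; exact hτ j
        | zero => rw [zero_smul]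
        | add a b _ _ ha hb => rw [add_smul, ha, hb, add_zero]
        | smul c a _ ha => rw [smul_assoc, ha, smul_zero]⟩) x (fun j ↦ by
        rw [← IsScalarTower.algebraMap_apply, ← Algebra.smul_def]
        exact hx _ (he ▸ Ideal.subset_span ⟨j, rfl⟩))
    rwa [map_one, one_pow, one_mul] at hN
  · intro h
    have hfp := h35.mpr fun i ↦ (h i).1
    refine ⟨hfp, fun x n hx ↦ ?_⟩
    have hA : AdicRing.TopFiniteType R I A := by
      obtain ⟨m, φ, hφ, -⟩ := hfp
      exact ⟨m, φ, hφ⟩
    have hff := (S11533.result R I hR A hA r f hf).2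
    refine FaithfulSMul.algebraMap_injective A (∀ i, AdicRing.CLoc I (f i)) ?_
    rw [map_zero]
    funext i
    refine (h i).2 (algebraMap A (AdicRing.CLoc I (f i)) x) n fun a ha ↦ ?_
    rw [Algebra.smul_def, IsScalarTower.algebraMap_apply R A (AdicRing.CLoc I (f i)), ← map_mul,
      ← Algebra.smul_def, hx a ha, map_zero]

end Groth.Agent.S11536
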