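import Groth.Statements.S11538
import Groth.Agent.AdicRingLib.FlatAwayUniv

set_option autoImplicit false
universe u v
open scoped TensorProduct
open AdicRing

namespace Groth.Agent.S11538

/-- Let A be a commutative ring, π an element of A which is not a zero divisor and M an A-module. Then M
is flat over A if and only if the π-power torsion of M vanishes, (A/πA) ⊗_A M is flat over A/πA, and
A[π⁻¹] ⊗_A M is flat over A[π⁻¹]. -/
theorem result
    (A : Type u) [CommRing A] (π : A) (hπ : π ∈ nonZeroDivisors A)
    (M : Type v) [AddCommGroup M] [Module A M] :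
    Module.Flat A M ↔
      (∀ (x : M) (n : ℕ), π ^ n • x = 0 → x = 0) ∧
        Module.Flat (A ⧸ Ideal.span {π}) ((A ⧸ Ideal.span {π}) ⊗[A] M) ∧
        Module.Flat (Localization.Away π) ((Localization.Away π) ⊗[A] M) := by
  constructor
  · intro h
    refine ⟨fun x n hx => ?_, inferInstance, inferInstance⟩
    have hreg : IsSMulRegular M (π ^ n) := Module.Flat.isSMulRegular_of_nonZeroDivisors (pow_mem hπ n)
    exact hreg (show π ^ n • x = π ^ n • (0 : M) by rw [hx, smul_zero])
  · rintro ⟨htf, hq, hl⟩
    haveI : Module.Flat (Localization.Away π) (LocalizedModule (Submonoid.powers π) M) :=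
      Module.Flat.of_linearEquiv (LocalizedModule.equivTensorProduct (Submonoid.powers π) M)
    refine Groth.Agent.AdicRingLib.FlatAwayUniv.flat_of_away_and_quotient π hπ fun x y hxy => ?_
    refine sub_eq_zero.1 (htf (x - y) 1 ?_)
    rw [pow_one, smul_sub, sub_eq_zero]
    exact hxy

end Groth.Agent.S11538
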