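import Groth.Statements.S11540
import Groth.Agent.AdicRingLib.Chart

set_option autoImplicit false
universe u
open AdicRing

namespace Groth.Agent.S11540

/-- Let R be a base ring of class (N) or (V) for the ideal I, A an admissible R-algebra and f_0, ...,
f_r elements of A generating an open ideal, i.e. one containing I^k A for some k. Fix i and let C_i
be the I-adic completion of the chart algebra A[ζ_j ; j ≠ i]/(f_i ζ_j − f_j ; j ≠ i). Then the
I-power torsion of C_i coincides with its f_i-power torsion. (That f_i-power torsion is I-power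
torsion is elementary; the content is the converse.) -/
theorem result
    (R : Type u) [CommRing R] (I : Ideal R) (hR : AdicRing.IsBase R I)
    (A : Type u) [CommRing A] [Algebra R A] (hA : AdicRing.Admissible R I A)
    (r : ℕ) (f : Fin (r + 1) → A) (k : ℕ)
    (hopen : (I ^ k).map (algebraMap R A) ≤ Ideal.span (Set.range f)) (i : Fin (r + 1))
    (x : AdicRing.chartCompl I f i) :
    (∃ n : ℕ, ∀ a ∈ I ^ n, a • x = 0) ↔
      ∃ n : ℕ, algebraMap A (AdicRing.chartCompl I f i) (f i) ^ n * x = 0 := by
  classical
  have hI := AdicRingLib.isBase_fg hR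
  have htf : AdicRing.TopFiniteType R I A := by
    obtain ⟨n, φ, hφ, -⟩ := hA.1
    exact ⟨n, φ, hφ⟩
  have hflat : Module.Flat (AdicRing.chartAlg f i) (AdicRing.chartCompl I f i) :=
    AdicRingLib.flat_completion hR htf
  constructor
  · rintro ⟨n, hx⟩
    obtain ⟨r', e, he⟩ := Submodule.fg_iff_exists_fin_generating_family.mp (hI.pow (n := n))
    obtain ⟨N, hN⟩ := AdicRingLib.exists_pow_mul_eq_zero_of_flat (C := AdicRing.chartAlg f i)
      (D := AdicRing.chartCompl I f i)
      (fun j ↦ algebraMap A (AdicRing.chartAlg f i) (algebraMap R A (e j)))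
      (algebraMap A (AdicRing.chartAlg f i) (f i))
      (AdicRingLib.chart_exists_pow_mul_eq_zero f i (fun j ↦ algebraMap R A (e j)) fun a ha ↦
        hA.2 a n fun s hs ↦ by
          rw [← he, Submodule.mem_span_range_iff_exists_fun] at hs
          obtain ⟨c, rfl⟩ := hs
          rw [Finset.sum_smul]
          exact Finset.sum_eq_zero fun j _ ↦ by rw [smul_assoc, Algebra.smul_def (e j), ha, smul_zero])
      x (fun j ↦ by
        rw [← IsScalarTower.algebraMap_apply R A (AdicRing.chartAlg f i),
          ← IsScalarTower.algebraMap_apply R (AdicRing.chartAlg f i) (AdicRing.chartCompl I f i),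
          ← Algebra.smul_def]
        exact hx _ (he ▸ Submodule.subset_span ⟨j, rfl⟩))
    refine ⟨N, ?_⟩
    rwa [← IsScalarTower.algebraMap_apply A (AdicRing.chartAlg f i) (AdicRing.chartCompl I f i)] at hN
  · rintro ⟨n, hx⟩
    refine ⟨k * n, fun a ha ↦ ?_⟩
    have hle : (I ^ k).map (algebraMap R (AdicRing.chartAlg f i)) ≤
        Ideal.span {algebraMap A (AdicRing.chartAlg f i) (f i)} := by
      rw [IsScalarTower.algebraMap_eq R A (AdicRing.chartAlg f i), ← Ideal.map_map]
      refine (Ideal.map_mono hopen).trans ?_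
      rw [Ideal.map_span, Ideal.span_le]
      rintro _ ⟨_, ⟨j, rfl⟩, rfl⟩
      by_cases hj : j = i
      · rw [hj]; exact Ideal.mem_span_singleton_self _
      · obtain ⟨z, hz⟩ := AdicRingLib.chart_rel f i ⟨j, hj⟩
        exact Ideal.mem_span_singleton'.mpr ⟨z, (mul_comm _ _).trans hz⟩
    have h1 : algebraMap R (AdicRing.chartAlg f i) a ∈
        Ideal.span {algebraMap A (AdicRing.chartAlg f i) (f i) ^ n} := by
      rw [← Ideal.span_singleton_pow]
      refine Ideal.pow_right_mono hle n ?_
      rw [← Ideal.map_pow, ← pow_mul]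
      exact Ideal.mem_map_of_mem _ ha
    obtain ⟨c, hc⟩ := Ideal.mem_span_singleton'.mp h1
    rw [← IsScalarTower.algebraMap_smul (AdicRing.chartAlg f i) a x, ← hc, mul_smul]
    refine Eq.trans ?_ (smul_zero c)
    congr 1

end Groth.Agent.S11540
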