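import Groth.Statements.S11542
import Groth.Agent.AdicRingLib.RigPoints

set_option autoImplicit false
universe u
open AdicRing

namespace Groth.Agent.S11542

/-- Let R be a complete valuation ring of height one with t a nonzero element generating an ideal of
definition, A and B admissible R-algebras with B a local integral domain of Krull dimension one, f
an element of A and u a surjective R-algebra homomorphism from the complete localization A⟨f⁻¹⟩ onto
B. Then the composite of u with the canonical map A → A⟨f⁻¹⟩ is surjective. -/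
theorem result
    (R : Type u) [CommRing R] [IsDomain R] [ValuationRing R] [Ring.KrullDimLE 1 R]
    (t : R) (ht : t ≠ 0) [IsAdicComplete (Ideal.span {t}) R]
    (A : Type u) [CommRing A] [Algebra R A] (hA : AdicRing.Admissible R (Ideal.span {t}) A) (f : A)
    (B : Type u) [CommRing B] [Algebra R B] [IsDomain B] [IsLocalRing B]
    (hB : AdicRing.Admissible R (Ideal.span {t}) B) (hdim : ringKrullDim B = 1)
    (u : AdicRing.CLoc (Ideal.span {t}) f →ₐ[R] B) (hu : Function.Surjective u) :
    Function.Surjective
      (u.toRingHom.comp (algebraMap A (AdicRing.CLoc (Ideal.span {t}) f))) := by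
  have htB := AdicRingLib.map_ne_zero_of_noPowTorsion hB.2
  have htft : AdicRing.TopFiniteType R (Ideal.span {t}) B := by
    obtain ⟨n, φ, hφ, -⟩ := hB.1
    exact ⟨n, φ, hφ⟩
  have hfin := AdicRingLib.finite_of_ringKrullDim htft htB hdim
  let g : A →ₐ[R] B := u.comp (IsScalarTower.toAlgHom R A (AdicRing.CLoc (Ideal.span {t}) f))
  suffices g.range = ⊤ from fun b ↦ (AlgHom.range_eq_top g).mp this b
  refine AdicRingLib.subalgebra_eq_top_of_dense (t := t) g.range fun b ↦ ?_
  obtain ⟨x, rfl⟩ := hu b
  obtain ⟨p, hp⟩ := AdicRingLib.exists_sub_mem_pow (P := Localization.Away f)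
    (Submodule.fg_span_singleton t) x 1
  refine ⟨u (algebraMap (Localization.Away f) (AdicRing.CLoc (Ideal.span {t}) f) p), ?_, ?_⟩
  · let ι : Localization.Away f →ₐ[R] B := u.comp (IsScalarTower.toAlgHom R _ _)
    have hι : ∀ a : A, ι (algebraMap A _ a) = g a := fun a ↦ by
      simp only [ι, g, AlgHom.comp_apply, IsScalarTower.toAlgHom_apply,
        ← IsScalarTower.algebraMap_apply A (Localization.Away f) (AdicRing.CLoc (Ideal.span {t}) f)]
    change ι p ∈ g.range
    obtain ⟨⟨a, ⟨_, k, rfl⟩⟩, hak⟩ := IsLocalization.surj (Submonoid.powers f) p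
    have hfu : IsUnit (g f) := hι f ▸ (IsLocalization.Away.algebraMap_isUnit f).map ι
    let gf : g.range := ⟨g f, f, rfl⟩
    have hloc : IsLocalHom g.range.val.toRingHom := RingHom.IsIntegral.isLocalHom
      (fun b ↦ (Algebra.IsIntegral.isIntegral (R := R) b).tower_top (A := g.range)) Subtype.val_injective
    obtain ⟨v, hv⟩ := hloc.map_nonunit gf hfu
    have h1 : ι p * g f ^ k = g a := by
      rw [← hι, ← hι, ← map_pow, ← map_pow, ← map_mul]; exact congrArg ι hak
    have h2 : g f * ((↑v⁻¹ : g.range) : B) = 1 := by
      have := congrArg (fun z : g.range ↦ (z : B)) (Units.mul_inv v)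
      simpa [hv, gf] using this
    have : ι p = g a * ((↑v⁻¹ : g.range) : B) ^ k := by
      rw [← h1, mul_assoc, ← mul_pow, h2, one_pow, mul_one]
    rw [this]
    exact mul_mem ⟨a, rfl⟩ (pow_mem (Subtype.property _) k)
  · have := AdicRingLib.map_pow_le u 1 hp
    rw [Ideal.mem_comap, pow_one, map_sub] at this
    exact this

end Groth.Agent.S11542
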