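import Groth.Statements.S11543
import Groth.Agent.AdicRingLib.RigPoints

set_option autoImplicit false
universe u
open scoped TensorProduct
open AdicRing

namespace Groth.Agent.S11543

/-- Let R be a complete valuation ring of height one with t a nonzero element generating an ideal of
definition and K its field of fractions, and let A be an admissible R-algebra. Then the non-open
prime ideals p of A (those not containing t) with A/p of Krull dimension one correspond bijectively
to the maximal ideals of A ⊗_R K: the extension of such a p along A → A ⊗_R K is maximal and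
contracts back to p, and every maximal ideal of A ⊗_R K contracts to such a prime and is the
extension of its contraction. -/
theorem result
    (R : Type u) [CommRing R] [IsDomain R] [ValuationRing R] [Ring.KrullDimLE 1 R]
    (t : R) (ht : t ≠ 0) [IsAdicComplete (Ideal.span {t}) R]
    (A : Type u) [CommRing A] [Algebra R A] (hA : AdicRing.Admissible R (Ideal.span {t}) A) :
    (∀ p : Ideal A, p.IsPrime → algebraMap R A t ∉ p → ringKrullDim (A ⧸ p) = 1 →
        (p.map (Algebra.TensorProduct.includeLeftRingHom :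
          A →+* A ⊗[R] FractionRing R)).IsMaximal ∧
        (p.map (Algebra.TensorProduct.includeLeftRingHom :
          A →+* A ⊗[R] FractionRing R)).comap (Algebra.TensorProduct.includeLeftRingHom :
          A →+* A ⊗[R] FractionRing R) = p) ∧
      (∀ m : Ideal (A ⊗[R] FractionRing R), m.IsMaximal →
        algebraMap R A t ∉ m.comap (Algebra.TensorProduct.includeLeftRingHom :
            A →+* A ⊗[R] FractionRing R) ∧
          ringKrullDim (A ⧸ m.comap (Algebra.TensorProduct.includeLeftRingHom :
            A →+* A ⊗[R] FractionRing R)) = 1 ∧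
          (m.comap (Algebra.TensorProduct.includeLeftRingHom :
            A →+* A ⊗[R] FractionRing R)).map (Algebra.TensorProduct.includeLeftRingHom :
            A →+* A ⊗[R] FractionRing R) = m) := by
  classical
  have htft : AdicRing.TopFiniteType R (Ideal.span {t}) A := by
    obtain ⟨n, φ, hφ, -⟩ := hA.1
    exact ⟨n, φ, hφ⟩
  have : IsLocalization (Submonoid.powers t) (FractionRing R) := by
    refine (IsLocalization.iff_of_le_of_exists_dvd (M := Submonoid.powers t) (nonZeroDivisors R)
      (powers_le_nonZeroDivisors_of_noZeroDivisors ht) fun c hc ↦ ?_).mpr inferInstance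
    obtain ⟨N, hN⟩ := AdicRingLib.exists_dvd_pow (t := t) (nonZeroDivisors.ne_zero hc)
    exact ⟨t ^ N, ⟨N, rfl⟩, hN⟩
  let M : Submonoid A := Algebra.algebraMapSubmonoid A (Submonoid.powers t)
  have : IsLocalization M (A ⊗[R] FractionRing R) := IsLocalization.tensor _ _
  have hdisj : ∀ q : Ideal A, q.IsPrime → algebraMap R A t ∉ q → Disjoint (M : Set A) (q : Set A) := by
    intro q hq htq
    refine Set.disjoint_left.mpr ?_
    rintro _ ⟨_, ⟨N, rfl⟩, rfl⟩ h
    refine htq (hq.mem_of_pow_mem N ?_)
    rw [← map_pow]; exact h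
  have hunit : IsUnit (algebraMap A (A ⊗[R] FractionRing R) (algebraMap R A t)) :=
    IsLocalization.map_units (A ⊗[R] FractionRing R) (⟨_, t, ⟨1, pow_one t⟩, rfl⟩ : M)
  refine ⟨fun p hp htp hdim ↦ ?_, fun m hm ↦ ?_⟩
  · change (p.map (algebraMap A (A ⊗[R] FractionRing R))).IsMaximal ∧
      (p.map (algebraMap A (A ⊗[R] FractionRing R))).comap (algebraMap A (A ⊗[R] FractionRing R)) = p
    have hcm := IsLocalization.comap_map_of_isPrime_disjoint M (A ⊗[R] FractionRing R) hp (hdisj p hp htp)
    refine ⟨?_, hcm⟩
    obtain ⟨N, hN, hle⟩ := Ideal.exists_le_maximal (p.map (algebraMap A (A ⊗[R] FractionRing R)))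
      (fun h ↦ hp.ne_top (by rw [← hcm, h]; exact Ideal.comap_top))
    let q := N.comap (algebraMap A (A ⊗[R] FractionRing R))
    have hpq : p ≤ q := hcm ▸ Ideal.comap_mono hle
    have htq : algebraMap R A t ∉ q := fun h ↦ hN.ne_top (Ideal.eq_top_of_isUnit_mem _ h hunit)
    have hqp : q = p := by
      by_contra hne
      have : Ring.KrullDimLE 1 (A ⧸ p) := Ring.krullDimLE_iff.mpr hdim.le
      obtain ⟨x, hxq, hxp⟩ := Set.exists_of_ssubset (lt_of_le_of_ne hpq (Ne.symm hne) : p < q)
      obtain ⟨k, hk⟩ := AdicRingLib.exists_dvd_pow_of_krullDimLE_one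
        (AdicRingLib.topFiniteType_of_surjective htft (Ideal.Quotient.mkₐ R p) Ideal.Quotient.mk_surjective)
        (Ideal.Quotient.mk p x) (fun h ↦ hxp (Ideal.Quotient.eq_zero_iff_mem.mp h))
      obtain ⟨z, hz⟩ := hk
      obtain ⟨z, rfl⟩ := Ideal.Quotient.mk_surjective z
      rw [← Ideal.Quotient.mk_algebraMap, ← map_pow, ← map_mul, Ideal.Quotient.eq] at hz
      refine htq ((Ideal.IsPrime.comap _ : q.IsPrime).mem_of_pow_mem k ?_)
      have := q.add_mem (hpq hz) (q.mul_mem_right z hxq)
      rwa [sub_add_cancel] at this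
    have hN' : p.map (algebraMap A (A ⊗[R] FractionRing R)) = N := by
      rw [← hqp]; exact IsLocalization.map_comap M _ N
    exact hN' ▸ hN
  · change algebraMap R A t ∉ m.comap (algebraMap A (A ⊗[R] FractionRing R)) ∧
      ringKrullDim (A ⧸ m.comap (algebraMap A (A ⊗[R] FractionRing R))) = 1 ∧
      (m.comap (algebraMap A (A ⊗[R] FractionRing R))).map (algebraMap A (A ⊗[R] FractionRing R)) = m
    set p := m.comap (algebraMap A (A ⊗[R] FractionRing R)) with hpdef
    have htp : algebraMap R A t ∉ p := fun h ↦ hm.ne_top (Ideal.eq_top_of_isUnit_mem _ h hunit)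
    have hmap : p.map (algebraMap A (A ⊗[R] FractionRing R)) = m := IsLocalization.map_comap M _ m
    refine ⟨htp, ?_, hmap⟩
    have : p.IsPrime := Ideal.IsPrime.comap _
    have htD : algebraMap R (A ⧸ p) t ≠ 0 := fun h ↦ htp (Ideal.Quotient.eq_zero_iff_mem.mp h)
    have hDtft : AdicRing.TopFiniteType R (Ideal.span {t}) (A ⧸ p) :=
      AdicRingLib.topFiniteType_of_surjective htft (Ideal.Quotient.mkₐ R p) Ideal.Quotient.mk_surjective
    have hdvd : ∀ x : A ⧸ p, x ≠ 0 → ∃ N, x ∣ algebraMap R (A ⧸ p) t ^ N := by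
      intro x hx
      by_contra! hno
      obtain ⟨q₀, hq₀, hxq, hd⟩ := Ideal.exists_le_prime_disjoint (Ideal.span {x})
        (Submonoid.powers (algebraMap R (A ⧸ p) t)) (Set.disjoint_left.mpr fun y hy hy' ↦ by
          obtain ⟨N, rfl⟩ := hy'
          exact hno N (Ideal.mem_span_singleton.mp hy))
      let q := q₀.comap (Ideal.Quotient.mk p)
      have hq : q.IsPrime := Ideal.IsPrime.comap _
      have htq : algebraMap R A t ∉ q := fun h ↦ Set.disjoint_left.mp hd (h : _ ∈ q₀) ⟨1, pow_one _⟩
      have hpq : p ≤ q := fun a ha ↦ by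
        change Ideal.Quotient.mk p a ∈ q₀
        rw [Ideal.Quotient.eq_zero_iff_mem.mpr ha]; exact zero_mem _
      have hcm := IsLocalization.comap_map_of_isPrime_disjoint M (A ⊗[R] FractionRing R) hq (hdisj q hq htq)
      have hqm : q.map (algebraMap A (A ⊗[R] FractionRing R)) = m :=
        (hm.eq_of_le (fun h ↦ hq.ne_top (by rw [← hcm, h]; exact Ideal.comap_top))
          (hmap ▸ Ideal.map_mono hpq)).symm
      have hqp : q = p := by rw [← hcm, hqm]
      obtain ⟨y, rfl⟩ := Ideal.Quotient.mk_surjective x
      apply hx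
      rw [Ideal.Quotient.eq_zero_iff_mem, ← hqp]
      exact hxq (Ideal.mem_span_singleton_self _)
    have := AdicRingLib.finite_of_dvd_pow hDtft htD hdvd
    exact AdicRingLib.ringKrullDim_eq_one ht (AdicRingLib.injective_of_ne_zero (t := t) htD)

end Groth.Agent.S11543
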