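import Groth.Statements.S11544
import Groth.Agent.AdicRingLib.Closure

set_option autoImplicit false
universe u
open AdicRing

namespace Groth.Agent.S11544

/-- Let R be a complete valuation ring of height one with t a nonzero element generating an ideal of
definition, K its field of fractions, L an algebraic extension field of K and α an element of L.
Then α is integral over R if and only if the norm of α from K(α) down to K lies in R. -/
theorem result
    (R : Type u) [CommRing R] [IsDomain R] [ValuationRing R] [Ring.KrullDimLE 1 R]
    (t : R) (ht : t ≠ 0) [IsAdicComplete (Ideal.span {t}) R]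
    (L : Type u) [Field L] [Algebra R L] [Algebra (FractionRing R) L]
    [IsScalarTower R (FractionRing R) L] [Algebra.IsAlgebraic (FractionRing R) L] (α : L) :
    IsIntegral R α ↔
      Algebra.norm (FractionRing R) (IntermediateField.AdjoinSimple.gen (FractionRing R) α) ∈
        (algebraMap R (FractionRing R)).range := by
  classical
  let K := FractionRing R
  have hα : IsIntegral K α := Algebra.IsIntegral.isIntegral α
  have hnorm : Algebra.norm K (IntermediateField.AdjoinSimple.gen K α) =
      (-1) ^ (minpoly K α).natDegree * (minpoly K α).coeff 0 := by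
    have h := Algebra.PowerBasis.norm_gen_eq_coeff_zero_minpoly (IntermediateField.adjoin.powerBasis hα)
    rwa [IntermediateField.adjoin.powerBasis_dim, IntermediateField.adjoin.powerBasis_gen,
      IntermediateField.minpoly_gen] at h
  refine ⟨fun h ↦ ?_, fun h ↦ ?_⟩
  · have hg : IsIntegral R (IntermediateField.AdjoinSimple.gen K α) :=
      (isIntegral_algHom_iff ((IntermediateField.adjoin K ({α} : Set L)).val.restrictScalars R) Subtype.val_injective).mp h
    exact IsIntegrallyClosed.isIntegral_iff.mp (Algebra.isIntegral_norm K hg)
  · have : FaithfulSMul R L := (faithfulSMul_iff_algebraMap_injective R L).mpr (by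
      rw [IsScalarTower.algebraMap_eq R K L]
      exact (algebraMap K L).injective.comp (IsFractionRing.injective R K))
    have halg : IsAlgebraic R α := (IsFractionRing.isAlgebraic_iff R K L).mpr (Algebra.IsAlgebraic.isAlgebraic α)
    rcases AdicRingLib.mem_or_inv_mem_integralClosure ht L halg with hm | hm
    · exact hm
    · by_cases hα0 : α = 0
      · rw [hα0]; exact isIntegral_zero
      obtain ⟨r, hr⟩ := h
      let E := IntermediateField.adjoin K ({α} : Set L)
      let a : E := IntermediateField.AdjoinSimple.gen K α
      have ha0 : a ≠ 0 := fun h0 ↦ hα0 (congrArg Subtype.val h0)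
      have : FiniteDimensional K E := IntermediateField.adjoin.finiteDimensional hα
      have hβ : IsIntegral R a⁻¹ :=
        (isIntegral_algHom_iff (E.val.restrictScalars R) Subtype.val_injective).mp (show IsIntegral R (((a⁻¹ : E)) : L) from hm)
      let q := minpoly R a⁻¹
      have hβK : IsIntegral K a⁻¹ := Algebra.IsIntegral.isIntegral _
      have hnβ : Algebra.norm K (IntermediateField.AdjoinSimple.gen K a⁻¹) =
          algebraMap R K ((-1) ^ (minpoly K a⁻¹).natDegree * q.coeff 0) := by
        have h := Algebra.PowerBasis.norm_gen_eq_coeff_zero_minpoly (IntermediateField.adjoin.powerBasis hβK)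
        rw [IntermediateField.adjoin.powerBasis_dim, IntermediateField.adjoin.powerBasis_gen,
          IntermediateField.minpoly_gen] at h
        rw [h, map_mul, map_pow, map_neg, map_one]
        congr 1
        rw [show minpoly K a⁻¹ = q.map (algebraMap R K) from by simpa using minpoly.isIntegrallyClosed_eq_field_fractions K E hβ, Polynomial.coeff_map]
      have hunit : IsUnit (q.coeff 0) := by
        have h1 : Algebra.norm K a⁻¹ * algebraMap R K r = 1 := by
          rw [hr, ← map_mul, inv_mul_cancel₀ ha0, map_one]
        rw [Algebra.norm_eq_norm_adjoin K a⁻¹, hnβ, ← map_pow, ← map_mul] at h1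
        have h2 := IsFractionRing.injective R K (h1.trans (map_one _).symm)
        have h3 := (isUnit_pow_iff Module.finrank_pos.ne').mp (IsUnit.of_mul_eq_one _ h2)
        exact isUnit_of_mul_isUnit_right h3
      obtain ⟨v, hv⟩ := hunit
      have hroot : Polynomial.aeval a⁻¹ q = 0 := minpoly.aeval R a⁻¹
      have hsplit : a⁻¹ * Polynomial.aeval a⁻¹ q.divX + algebraMap R E (q.coeff 0) = 0 := by
        have := congrArg (Polynomial.aeval a⁻¹) (Polynomial.X_mul_divX_add q)
        rw [hroot, map_add, map_mul, Polynomial.aeval_X, Polynomial.aeval_C] at this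
        exact this
      have ha : a = algebraMap R E (-(↑v⁻¹ : R)) * Polynomial.aeval a⁻¹ q.divX := by
        have h1 : Polynomial.aeval a⁻¹ q.divX = -(a * algebraMap R E (q.coeff 0)) := by
          rw [eq_neg_of_add_eq_zero_right hsplit, mul_neg, ← mul_assoc, mul_inv_cancel₀ ha0, one_mul, neg_neg]
        rw [h1, ← hv, map_neg, neg_mul_neg, mul_left_comm, ← map_mul, Units.inv_mul, map_one, mul_one]
      have haint : IsIntegral R a := by
        rw [ha]
        refine isIntegral_algebraMap.mul ?_
        rw [Polynomial.aeval_eq_sum_range]
        exact IsIntegral.sum _ fun j _ ↦ (hβ.pow j).smul _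
      exact haint.map (E.val.restrictScalars R)

end Groth.Agent.S11544
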