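import Groth.Statements.S11545
import Groth.Agent.AdicRingLib.Completion

set_option autoImplicit false
universe u
open AdicRing

namespace Groth.Agent.S11545

/-- Let R be a base ring of class (N) or (V) for the ideal I, A an admissible R-algebra, f_0, ..., f_r
elements generating an open ideal 𝔞 of A, and A_i = C_i/(f_i-power torsion) the i-th chart algebra
of the formal blowing-up of 𝔞. Let B be an R-algebra complete and separated for the I-adic topology
and φ : A → B an R-algebra homomorphism such that the ideal 𝔞B is generated by φ(f_i), a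
non-zero-divisor of B. Then there is exactly one R-algebra homomorphism A_i → B whose composite with
A → A_i is φ. -/
theorem result
    (R : Type u) [CommRing R] (I : Ideal R) (hR : AdicRing.IsBase R I)
    (A : Type u) [CommRing A] [Algebra R A] (hA : AdicRing.Admissible R I A)
    (r : ℕ) (f : Fin (r + 1) → A) (k : ℕ)
    (hopen : (I ^ k).map (algebraMap R A) ≤ Ideal.span (Set.range f)) (i : Fin (r + 1))
    (B : Type u) [CommRing B] [Algebra R B] [IsAdicComplete (I.map (algebraMap R B)) B]
    (φ : A →ₐ[R] B) (hnzd : φ (f i) ∈ nonZeroDivisors B)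
    (hgen : (Ideal.span (Set.range f)).map φ = Ideal.span {φ (f i)}) :
    ∃! ψ : AdicRing.chartAdm I f i →ₐ[R] B,
      ψ.comp (IsScalarTower.toAlgHom R A (AdicRing.chartAdm I f i)) = φ := by
  classical
  have hI := AdicRingLib.isBase_fg hR
  have hdiv : ∀ j : {j : Fin (r + 1) // j ≠ i}, ∃ b, φ (f j.1) = φ (f i) * b := fun j ↦ by
    have : φ (f j.1) ∈ Ideal.span {φ (f i)} := hgen ▸ Ideal.mem_map_of_mem φ (Ideal.subset_span ⟨j.1, rfl⟩)
    obtain ⟨b, hb⟩ := Ideal.mem_span_singleton'.mp this
    exact ⟨b, by rw [← hb, mul_comm]⟩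
  choose b hb using hdiv
  let P := AdicRing.chartAlg f i
  let g : P →ₐ[R] B := Ideal.Quotient.liftₐ _ (MvPolynomial.aevalTower φ b) (fun x hx ↦ by
    refine (Ideal.span_le (I := RingHom.ker (MvPolynomial.aevalTower φ b).toRingHom)).mpr ?_ hx
    rintro _ ⟨j, rfl⟩
    simp [hb])
  let G : AdicRingLib.Compl I P →ₐ[R] B := AdicRingLib.complLift g
  have hG : ∀ p : P, G (algebraMap P _ p) = g p := AdicRingLib.complLift_of g
  have hGA : ∀ a : A, G (algebraMap A (AdicRing.chartCompl I f i) a) = φ a := fun a ↦ by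
    rw [IsScalarTower.algebraMap_apply A P (AdicRing.chartCompl I f i)]
    refine (hG _).trans ?_
    exact MvPolynomial.aevalTower_C φ b a
  have hkill : ∀ x ∈ (⨆ n : ℕ, Submodule.torsionBy (AdicRing.chartCompl I f i) (AdicRing.chartCompl I f i)
      (algebraMap A (AdicRing.chartCompl I f i) (f i) ^ n) : Ideal (AdicRing.chartCompl I f i)), G x = 0 := by
    intro x hx
    refine (iSup_le (fun n y hy ↦ ?_) : _ ≤ RingHom.ker G.toRingHom) hx
    rw [Submodule.mem_torsionBy_iff, smul_eq_mul] at hy
    have := congrArg G hy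
    rw [map_mul, map_pow, hGA, map_zero] at this
    exact (mul_left_mem_nonZeroDivisors_eq_zero_iff (pow_mem hnzd n)).mp this
  refine ⟨Ideal.Quotient.liftₐ _ G hkill, AlgHom.ext hGA, fun ψ hψ ↦ ?_⟩
  refine AlgHom.ext fun z ↦ ?_
  obtain ⟨x, rfl⟩ := Ideal.Quotient.mk_surjective z
  suffices h : ψ.comp (Ideal.Quotient.mkₐ R _) = G from congrArg (fun F : AdicRingLib.Compl I P →ₐ[R] B ↦ F x) h
  let F : AdicRingLib.Compl I P →ₐ[R] B := ψ.comp (Ideal.Quotient.mkₐ R _)
  change F = G
  have hFA : ∀ a : A, F (algebraMap A (AdicRing.chartCompl I f i) a) = φ a := fun a ↦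
    congrArg (fun F : A →ₐ[R] B ↦ F a) hψ
  refine AdicRingLib.algHom_ext_compl hI fun p ↦ ?_
  obtain ⟨q, rfl⟩ := Ideal.Quotient.mk_surjective p
  induction q using MvPolynomial.induction_on with
  | C a =>
    have e : algebraMap P (AdicRingLib.Compl I P) (Ideal.Quotient.mk _ (MvPolynomial.C a)) =
        algebraMap A (AdicRing.chartCompl I f i) a :=
      (IsScalarTower.algebraMap_apply A P (AdicRing.chartCompl I f i) a).symm
    rw [e]
    exact (hFA a).trans (hGA a).symm
  | add p q hp hq => simp only [map_add, hp, hq]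
  | mul_X p j hp =>
    simp only [map_mul, hp]
    congr 1
    refine (mul_cancel_left_mem_nonZeroDivisors hnzd).mp ?_
    have hrel : Ideal.Quotient.mk _ (MvPolynomial.C (f i)) * Ideal.Quotient.mk _ (MvPolynomial.X j) =
        (Ideal.Quotient.mk _ (MvPolynomial.C (f j.1)) : P) := by
      rw [← map_mul]
      exact Ideal.Quotient.eq.mpr (Ideal.subset_span ⟨j, rfl⟩)
    have h1 : F (algebraMap A (AdicRing.chartCompl I f i) (f i)) *
        F (algebraMap P (AdicRingLib.Compl I P) (Ideal.Quotient.mk _ (MvPolynomial.X j))) =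
        G (algebraMap A (AdicRing.chartCompl I f i) (f i)) *
        G (algebraMap P (AdicRingLib.Compl I P) (Ideal.Quotient.mk _ (MvPolynomial.X j))) := by
      rw [← map_mul, ← map_mul, IsScalarTower.algebraMap_apply A P (AdicRing.chartCompl I f i), ← map_mul]
      change F (algebraMap P _ (Ideal.Quotient.mk _ (MvPolynomial.C (f i)) * _)) =
        G (algebraMap P _ (Ideal.Quotient.mk _ (MvPolynomial.C (f i)) * _))
      rw [hrel]
      exact (hFA _).trans (hGA _).symm |>.trans (congrArg G (IsScalarTower.algebraMap_apply A P (AdicRing.chartCompl I f i) _))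
    rw [hFA, hGA] at h1
    exact h1

end Groth.Agent.S11545
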