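import Groth.Statements.S11546
import Groth.Agent.AdicRingLib.Height1

set_option autoImplicit false
universe u
open AdicRing

namespace Groth.Agent.S11546

/-- Let R be a base ring of class (N) or (V) for the ideal I. Then the restricted power series ring
R⟨ζ_1, ..., ζ_n⟩ is flat over R. -/
theorem result
    (R : Type u) [CommRing R] (I : Ideal R) (hR : AdicRing.IsBase R I) (n : ℕ) :
    Module.Flat R (AdicRing.RPow R I n) := by
  obtain ⟨hc, ⟨hN, -⟩ | ⟨hdom, hpre, hdim, t, ht, rfl⟩⟩ := hR
  · exact Module.Flat.trans R (MvPolynomial (Fin n) R) _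
  · have : ValuationRing R := { }
    have hI : (Ideal.span {t}).FG := Submodule.fg_span_singleton t
    let A := AdicRingLib.Compl (Ideal.span {t}) (MvPolynomial (Fin n) R)
    change Module.Flat R A
    have hc' := AdicRingLib.isAdicComplete_compl (P := MvPolynomial (Fin n) R) hI
    have htors : ∀ x : A, algebraMap R A t * x = 0 → x = 0 := by
      intro x hx
      refine IsHausdorff.haus (I := (Ideal.span {t}).map (algebraMap R A)) inferInstance x fun k ↦ ?_
      rw [SModEq.zero, smul_eq_mul, Ideal.mul_top]
      obtain ⟨p, hp⟩ := AdicRingLib.exists_sub_mem_pow (P := MvPolynomial (Fin n) R) hI x (k + 1)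
      have h2 : algebraMap (MvPolynomial (Fin n) R) A (MvPolynomial.C t * p) ∈
          (Ideal.span {t}).map (algebraMap R A) ^ (k + 1) := by
        have := Ideal.mul_mem_left _ (algebraMap R A t) hp
        rw [mul_sub, hx, zero_sub, neg_mem_iff] at this
        rw [map_mul, ← MvPolynomial.algebraMap_eq, ← IsScalarTower.algebraMap_apply]
        exact this
      have h3 : MvPolynomial.C t * p ∈ (Ideal.span {MvPolynomial.C (t ^ (k + 1))} : Ideal (MvPolynomial (Fin n) R)) := by
        rw [← AdicRingLib.map_algebraMap_compl, ← Ideal.map_pow] at h2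
        have hker := congrArg (fun z : A ↦ AdicCompletion.evalₐ _ (k + 1) z)
          (show algebraMap (MvPolynomial (Fin n) R) A (MvPolynomial.C t * p) = _ from rfl)
        have h4 : AdicCompletion.evalₐ ((Ideal.span {t}).map (algebraMap R (MvPolynomial (Fin n) R))) (k + 1)
            (algebraMap (MvPolynomial (Fin n) R) A (MvPolynomial.C t * p)) = 0 := by
          have := Ideal.mem_map_of_mem (AdicCompletion.evalₐ
            ((Ideal.span {t}).map (algebraMap R (MvPolynomial (Fin n) R))) (k + 1)).toRingHom h2
          rw [Ideal.map_map, AlgHom.toRingHom_eq_coe, AlgHom.comp_algebraMap] at this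
          rw [show (algebraMap (MvPolynomial (Fin n) R) (MvPolynomial (Fin n) R ⧸
            ((Ideal.span {t}).map (algebraMap R (MvPolynomial (Fin n) R))) ^ (k + 1))) =
            Ideal.Quotient.mk _ from rfl, Ideal.map_quotient_self] at this
          exact this
        rw [AlgHom.commutes, Ideal.Quotient.algebraMap_eq, Ideal.Quotient.eq_zero_iff_mem, Ideal.map_span,
          Set.image_singleton, Ideal.span_singleton_pow, ← map_pow] at h4
        exact h4
      obtain ⟨q, hq⟩ := Ideal.mem_span_singleton'.mp h3
      have hpq : p = q * MvPolynomial.C (t ^ k) := by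
        refine mul_left_cancel₀ (a := MvPolynomial.C t) (by simpa using ht) ?_
        rw [← hq, pow_succ, map_mul]; ring
      have : x = (x - algebraMap _ A p) + algebraMap _ A p := (sub_add_cancel _ _).symm
      rw [this]
      refine Ideal.add_mem _ (Ideal.pow_le_pow_right (Nat.le_succ k) hp) ?_
      rw [hpq, map_mul, ← MvPolynomial.algebraMap_eq, ← IsScalarTower.algebraMap_apply, map_pow]
      exact Ideal.mul_mem_left _ _ (Ideal.pow_mem_pow (Ideal.mem_map_of_mem _ (Ideal.mem_span_singleton_self t)) k)
    rw [Module.Flat.flat_iff_torsion_eq_bot_of_isBezout, eq_bot_iff]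
    rintro x ⟨⟨r, hr⟩, hrx⟩
    obtain ⟨N, s, hs⟩ := AdicRingLib.exists_dvd_pow (t := t) (nonZeroDivisors.ne_zero hr)
    have hN : algebraMap R A (t ^ N) * x = 0 := by
      rw [hs, mul_comm r, map_mul, mul_assoc, show algebraMap R A r * x = 0 from (Algebra.smul_def r x).symm.trans hrx, mul_zero]
    clear hs
    induction N with
    | zero => simpa using hN
    | succ N ih => exact ih (htors _ (by rw [← mul_assoc, ← map_mul, ← pow_succ']; exact hN))

end Groth.Agent.S11546
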