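import Groth.Statements.S11547
import Groth.Agent.AdicRingLib.RigPoints

set_option autoImplicit false
universe u
open AdicRing

namespace Groth.Agent.S11547

/-- Let R be a complete valuation ring of height one with t a nonzero element generating an ideal of
definition, φ : A → A' a homomorphism of admissible R-algebras, and u' : A' → B' a surjective
R-algebra homomorphism onto an admissible R-algebra B' which is a local integral domain of Krull
dimension one. Then the image of A in B' is an admissible R-algebra and a local integral domain of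
Krull dimension one. -/
theorem result
    (R : Type u) [CommRing R] [IsDomain R] [ValuationRing R] [Ring.KrullDimLE 1 R]
    (t : R) (ht : t ≠ 0) [IsAdicComplete (Ideal.span {t}) R]
    (A : Type u) [CommRing A] [Algebra R A] (hA : AdicRing.Admissible R (Ideal.span {t}) A)
    (A' : Type u) [CommRing A'] [Algebra R A'] (hA' : AdicRing.Admissible R (Ideal.span {t}) A')
    (φ : A →ₐ[R] A')
    (B' : Type u) [CommRing B'] [Algebra R B'] [IsDomain B'] [IsLocalRing B']
    (hB' : AdicRing.Admissible R (Ideal.span {t}) B') (hdim : ringKrullDim B' = 1)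
    (u' : A' →ₐ[R] B') (hu' : Function.Surjective u') :
    AdicRing.Admissible R (Ideal.span {t}) ((u'.comp φ).range) ∧
      IsLocalRing ((u'.comp φ).range) ∧ ringKrullDim ((u'.comp φ).range) = 1 := by
  have htB := AdicRingLib.map_ne_zero_of_noPowTorsion hB'.2
  have htft : AdicRing.TopFiniteType R (Ideal.span {t}) B' := by
    obtain ⟨n, ψ, hψ, -⟩ := hB'.1
    exact ⟨n, ψ, hψ⟩
  have hfin := AdicRingLib.finite_of_ringKrullDim htft htB hdim
  have hinj := AdicRingLib.injective_of_ne_zero (t := t) htB
  obtain ⟨n, ψ, hψ, -⟩ := hA.1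
  let Ψ : AdicRingLib.Compl (Ideal.span {t}) (MvPolynomial (Fin n) R) →ₐ[R] B' := (u'.comp φ).comp ψ
  have hrange : Ψ.range = (u'.comp φ).range := by
    ext b
    constructor
    · rintro ⟨x, rfl⟩; exact ⟨_, rfl⟩
    · rintro ⟨a, rfl⟩
      obtain ⟨x, rfl⟩ := hψ a
      exact ⟨x, rfl⟩
  obtain ⟨h1, h2⟩ := AdicRingLib.admissible_range ht hinj Ψ
  rw [← hrange]
  have hi : Function.Injective (algebraMap R Ψ.range) := fun r r' h ↦ hinj (congrArg Subtype.val h)
  exact ⟨h1, AdicRingLib.isLocalRing_of_finite_domain (B := Ψ.range) ht hi,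
    AdicRingLib.ringKrullDim_eq_one (B := Ψ.range) ht hi⟩

end Groth.Agent.S11547
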