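import Groth.Statements.S1162
import Mathlib.AlgebraicGeometry.Morphisms.UniversallyInjective
import Mathlib.AlgebraicGeometry.Morphisms.UniversallyOpen
import Mathlib.AlgebraicGeometry.Fiber


set_option autoImplicit false
set_option backward.isDefEq.respectTransparency false
set_option backward.isDefEq.respectTransparency.types false
open CategoryTheory CategoryTheory.Limits AlgebraicGeometry Opposite
universe u
open Desc

namespace Groth.Agent.S1162

section Pre
open CategoryTheory CategoryTheory.Limits AlgebraicGeometry Topology

lemma eq_of_spec_max {X : Scheme.{u}} {x z : X} (hx : x ∈ genericPoints X) (h : z ⤳ x) : z = x := by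
  have h2 : closure ({z} : Set X) ⊆ closure {x} := hx.2 isIrreducible_singleton.closure
    (closure_minimal (Set.singleton_subset_iff.2 h.mem_closure) isClosed_closure)
  exact (h.antisymm (specializes_iff_mem_closure.2 (h2 (subset_closure rfl)))).eq

lemma mem_genericPoints_of_max {X : Scheme.{u}} {x : X} (h : ∀ z, z ⤳ x → z = x) :
    x ∈ genericPoints X := by
  obtain ⟨z, hz⟩ := QuasiSober.sober (isIrreducible_irreducibleComponent (x := x))
    isClosed_irreducibleComponent
  have := h z (hz.specializes mem_irreducibleComponent)
  subst this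
  show closure {z} ∈ irreducibleComponents ↥X
  rw [hz.def]
  exact irreducibleComponent_mem_irreducibleComponents z

lemma mapsTo_of_flat {X Y : Scheme.{u}} (g : X ⟶ Y) [Flat g] {x : X} (hx : x ∈ genericPoints X) :
    g x ∈ genericPoints Y :=
  mem_genericPoints_of_max fun z hz => by
    obtain ⟨w, hw, rfl⟩ := Flat.generalizingMap g hz
    rw [eq_of_spec_max hx hw]

lemma exists_genericPoint_specializes {X : Scheme.{u}} (w : X) : ∃ z ∈ genericPoints X, z ⤳ w := by
  obtain ⟨z, hz⟩ := QuasiSober.sober (isIrreducible_irreducibleComponent (x := w))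
    isClosed_irreducibleComponent
  refine ⟨z, ?_, hz.specializes mem_irreducibleComponent⟩
  show closure {z} ∈ irreducibleComponents ↥X
  rw [hz.def]
  exact irreducibleComponent_mem_irreducibleComponents w

lemma hom_eq_of_surj {X Y : Scheme.{u}} (f : X ⟶ Y) {K : Type u} [Field K]
    (a b : Spec (CommRingCat.of K) ⟶ X) (e : a ≫ f = b ≫ f)
    (hx : a (IsLocalRing.closedPoint K) = b (IsLocalRing.closedPoint K))
    (h : Function.Surjective (f.residueFieldMap (a (IsLocalRing.closedPoint K))).hom) : a = b := by
  obtain ⟨⟨x, φ⟩, rfl⟩ := (Scheme.SpecToEquivOfField K X).symm.surjective a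
  obtain ⟨⟨x', φ'⟩, rfl⟩ := (Scheme.SpecToEquivOfField K X).symm.surjective b
  have h1 : (Spec.map φ ≫ X.fromSpecResidueField x) (IsLocalRing.closedPoint K) = x :=
    X.fromSpecResidueField_apply x _
  have h2 : (Spec.map φ' ≫ X.fromSpecResidueField x') (IsLocalRing.closedPoint K) = x' :=
    X.fromSpecResidueField_apply x' _
  obtain rfl : x = x' := h1.symm.trans (hx.trans h2)
  replace h : Function.Surjective (f.residueFieldMap x).hom := by
    have key : ∀ y, y = x → Function.Surjective (f.residueFieldMap y).hom →
        Function.Surjective (f.residueFieldMap x).hom := by rintro y rfl h; exact h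
    exact key _ h1 h
  change (Spec.map φ ≫ X.fromSpecResidueField x) ≫ f = (Spec.map φ' ≫ X.fromSpecResidueField x) ≫ f at e
  rw [Category.assoc, Category.assoc, ← Scheme.Hom.SpecMap_residueFieldMap_fromSpecResidueField,
    ← Category.assoc, ← Category.assoc, cancel_mono, ← Spec.map_comp, ← Spec.map_comp] at e
  obtain rfl : φ = φ' := by
    refine CommRingCat.hom_ext (RingHom.ext fun c => ?_)
    obtain ⟨c, rfl⟩ := h c
    exact congr($(Spec.map_injective e).hom c)
  rfl

end Pre

/-- Let f : X ⟶ Y be flat and separated. Write X⁰ for the generic points of the irreducible components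
of X. If for every ξ in X⁰ the residue field extension κ(f ξ) ⊆ κ(ξ) is trivial and f is injective
on X⁰, then f is universally injective. -/
theorem result {X Y : Scheme.{u}} (f : X ⟶ Y) [Flat f] [IsSeparated f]
    (h2 : ∀ ξ : X, closure ({ξ} : Set X) ∈ irreducibleComponents (X : Type u) →
      Function.Surjective (f.residueFieldMap ξ).hom)
    (h3 : Set.InjOn f.base {ξ : X | closure ({ξ} : Set X) ∈ irreducibleComponents (X : Type u)}) :
    UniversallyInjective f := by
  rw [UniversallyInjective.iff_diagonal]
  refine ⟨fun w => ?_⟩
  obtain ⟨z, hz, hzw⟩ := exists_genericPoint_specializes w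
  let ι := (Limits.pullback f f).fromSpecResidueField z
  have h1 := mapsTo_of_flat (Limits.pullback.fst f f) hz
  have h1' := mapsTo_of_flat (Limits.pullback.snd f f) hz
  have he : Limits.pullback.fst f f z = Limits.pullback.snd f f z := h3 h1 h1' (by
    show f (Limits.pullback.fst f f z) = f (Limits.pullback.snd f f z)
    rw [← Scheme.Hom.comp_apply, ← Scheme.Hom.comp_apply, Limits.pullback.condition])
  have hι : ∀ p : Limits.pullback f f ⟶ X, (ι ≫ p) (IsLocalRing.closedPoint ((Limits.pullback f f).residueField z)) = p z := fun p => by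
    rw [Scheme.Hom.comp_apply]
    exact congrArg p ((Limits.pullback f f).fromSpecResidueField_apply z _)
  have hab : ι ≫ Limits.pullback.fst f f = ι ≫ Limits.pullback.snd f f := by
    refine hom_eq_of_surj f _ _ (by simp [Limits.pullback.condition]) ?_ ?_
    · exact (hι _).trans (he.trans (hι _).symm)
    · exact Eq.ndrec (motive := fun y => Function.Surjective (f.residueFieldMap y).hom) (h2 _ h1) (hι _).symm
  have hfac : (ι ≫ Limits.pullback.fst f f) ≫ Limits.pullback.diagonal f = ι := by
    apply Limits.pullback.hom_ext <;> simp [hab]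
  have hzr : z ∈ Set.range (Limits.pullback.diagonal f) := by
    refine ⟨(ι ≫ Limits.pullback.fst f f) (IsLocalRing.closedPoint _), ?_⟩
    rw [← Scheme.Hom.comp_apply, hfac]
    exact (Limits.pullback f f).fromSpecResidueField_apply z _
  exact hzw.mem_closed (Limits.pullback.diagonal f).isClosedEmbedding.isClosed_range hzr

end Groth.Agent.S1162
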