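import Groth.Statements.S1178
import Groth.Agent.FinLocFreeSections.FP
import Groth.Agent.QCohBase.Qcqs


set_option autoImplicit false
open CategoryTheory CategoryTheory.Limits AlgebraicGeometry Opposite
universe u
open Desc

namespace Groth.Agent.S1178

/-- Let f : X ⟶ Y be finite and locally of finite presentation and F a quasi-coherent O_X-module. Then F
is finitely presented exactly when its pushforward f_*F is a finitely presented O_Y-module. -/
theorem result {X Y : Scheme.{u}} (f : X ⟶ Y) [IsFinite f] [LocallyOfFinitePresentation f]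
    (F : X.Modules) [F.IsQuasicoherent] :
    CohB1.IsFP F ↔ CohB1.IsFP ((Scheme.Modules.pushforward f).obj F) := by
  let G := (Scheme.Modules.pushforward f).obj F
  haveI : G.IsQuasicoherent := Groth.Agent.QCohBase.isQuasicoherent_pushforward _ f
  letI alg : ∀ V : Y.Opens, Algebra Γ(Y, V) Γ(X, f ⁻¹ᵁ V) := fun V => (f.app V).hom.toAlgebra
  have key : ∀ V : Y.Opens, IsAffineOpen V →
      (Module.FinitePresentation Γ(X, f ⁻¹ᵁ V) Γ(F, f ⁻¹ᵁ V) ↔
        Module.FinitePresentation Γ(Y, V) Γ(G, V)) := fun V hV => by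
    haveI : Module.Finite Γ(Y, V) Γ(X, f ⁻¹ᵁ V) := f.finite_app V hV
    haveI : Algebra.FinitePresentation Γ(Y, V) Γ(X, f ⁻¹ᵁ V) := by
      rw [← RingHom.finitePresentation_algebraMap]
      show (f.app V).hom.FinitePresentation
      rw [Scheme.Hom.app_eq_appLE]
      exact HasRingHomProperty.appLE @LocallyOfFinitePresentation f inferInstance ⟨V, hV⟩
        ⟨_, hV.preimage f⟩ le_rfl
    letI : Module Γ(Y, V) Γ(F, f ⁻¹ᵁ V) := Module.compHom _ (f.app V).hom
    haveI : IsScalarTower Γ(Y, V) Γ(X, f ⁻¹ᵁ V) Γ(F, f ⁻¹ᵁ V) := .of_algebraMap_smul fun _ _ => rfl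
    have e : Γ(F, f ⁻¹ᵁ V) ≃ₗ[Γ(Y, V)] Γ(G, V) :=
      { toFun := fun x => x, invFun := fun x => x, map_add' := fun _ _ => rfl,
        map_smul' := fun _ _ => rfl, left_inv := fun _ => rfl, right_inv := fun _ => rfl }
    rw [Groth.Agent.FinLocFreeSections.finitePresentation_iff_of_finite Γ(Y, V) Γ(X, f ⁻¹ᵁ V)
      Γ(F, f ⁻¹ᵁ V)]
    exact e.finitePresentation_iff
  have aff : ∀ y : Y, ∃ V : Y.Opens, IsAffineOpen V ∧ y ∈ V := fun y => by
    obtain ⟨_, ⟨V, hV, rfl⟩, hy, -⟩ :=
      Y.isBasis_affineOpens.exists_subset_of_mem_open (Set.mem_univ y) isOpen_univ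
    exact ⟨V, hV, hy⟩
  constructor
  · intro h
    refine Groth.Agent.QCohBase.isFinitePresentation_of_affine G fun y => ?_
    obtain ⟨V, hV, hy⟩ := aff y
    exact ⟨V, hV, hy, (key V hV).1
      (Groth.Agent.FinLocFreeSections.finitePresentation_sections F h (hV.preimage f))⟩
  · intro h
    refine Groth.Agent.QCohBase.isFinitePresentation_of_affine F fun x => ?_
    obtain ⟨V, hV, hy⟩ := aff (f x)
    exact ⟨f ⁻¹ᵁ V, hV.preimage f, hy, (key V hV).2
      (Groth.Agent.FinLocFreeSections.finitePresentation_sections G h hV)⟩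

end Groth.Agent.S1178
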