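import Groth.Statements.S15609
import Groth.Agent.GrpSch.MonoCrit

set_option autoImplicit false
universe u
open CategoryTheory MonoidalCategory CartesianMonoidalCategory MonObj GrpObj AlgebraicGeometry
open AlgGrp

namespace Groth.Agent.S15609

/-- The implication (ii) ⇒ (i). Let k be a field and f : G ⟶ G' a homomorphism of k-group schemes of
finite type. Suppose that f is injective on K-points for every algebraically closed field K over k,
and that f is injective on tangent spaces at the identity: every point of G with values in the dual
numbers k[ε] which restricts to the identity at ε = 0 and is sent by f to the identity point of G'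
is itself the identity point. Then f has trivial kernel: it is a monomorphism. (The published
statement assumes G smooth; this implication does not use it.) -/
theorem result (k : Type u) [Field k]
    (G G' : Over (Spec (CommRingCat.of k))) [GrpObj G] [GrpObj G'] [LocallyOfFiniteType G.hom] [QuasiCompact G.hom]
    [LocallyOfFiniteType G'.hom] [QuasiCompact G'.hom] (f : G ⟶ G') [IsMonHom f]
    (hgeom : ∀ (K : Type u) [Field K] [IsAlgClosed K] [Algebra k K],
      Function.Injective (fun g : (Over.mk (Spec.map (CommRingCat.ofHom (algebraMap k K)))) ⟶ G => g ≫ f))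
    (htan : ∀ g : (Over.mk (Spec.map (CommRingCat.ofHom (algebraMap k (DualNumber k))))) ⟶ G,
      (∀ x : 𝟙_ (Over (Spec (CommRingCat.of k))) ⟶ (Over.mk (Spec.map (CommRingCat.ofHom (algebraMap k (DualNumber k))))), x ≫ g = η[G]) →
        g ≫ f = toUnit _ ≫ η[G'] → g = toUnit _ ≫ η[G]) :
    Mono f := by
  haveI := Groth.Agent.GrpSch.MonoCrit.formallyUnramified_of_tangent f fun g hg hgf => htan g (fun x => ?_) hgf
  · exact Groth.Agent.GrpSch.MonoCrit.mono_of_points f hgeom
  · have hx : x.left = (Groth.Agent.Cartier.specOverMap (Groth.Agent.GrpSch.TangentMul.aug (k := k))).left := by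
      obtain ⟨φ, hφ⟩ := Spec.map_surjective (R := CommRingCat.of (DualNumber k)) (S := CommRingCat.of k) x.left
      have hw := Over.w x
      rw [← hφ] at hw ⊢
      have hc : ∀ c, φ.hom (algebraMap k (DualNumber k) c) = c := fun c => by
        have : CommRingCat.ofHom (algebraMap k (DualNumber k)) ≫ φ = 𝟙 _ := Spec.map_injective (by rw [Spec.map_comp]; exact hw.trans (Spec.map_id _).symm)
        exact congr($this c)
      let ψ : DualNumber k →ₐ[k] k := { φ.hom with commutes' := hc }
      have : ψ = Groth.Agent.GrpSch.TangentMul.aug := DualNumber.algHom_ext (by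
        have h0 : ψ DualNumber.eps * ψ DualNumber.eps = 0 := by rw [← map_mul, DualNumber.eps_mul_eps, map_zero]
        simpa [Groth.Agent.GrpSch.TangentMul.aug] using (mul_self_eq_zero.mp h0))
      exact congrArg Spec.map (CommRingCat.hom_ext (congrArg AlgHom.toRingHom this))
    apply Over.OverMorphism.ext
    rw [Over.comp_left, hx, ← Over.comp_left, hg, Hom.one_def, Over.comp_left]
    change Spec.map (CommRingCat.ofHom (RingHom.id k)) ≫ η[G].left = _
    rw [CommRingCat.ofHom_id, Spec.map_id]
    exact Category.id_comp _

end Groth.Agent.S15609
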