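import Groth.Statements.S1191
import Mathlib.RingTheory.FiniteType
import Mathlib.RingTheory.Ideal.AssociatedPrime.Finiteness
import Mathlib.RingTheory.TensorProduct.Finite

set_option autoImplicit false
universe u
open FlatMor

namespace Groth.Agent.S1191

open scoped TensorProduct

open TensorProduct in
/-- For a finitely presented algebra S over R, a finitely presented S-module N and a prime q of S over
p, some element of S outside q maps into every associated prime of the fibre module of N over p that
is not contained in the extension of q to the fibre ring. -/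
theorem result {R S : Type u} [CommRing R] [CommRing S] [Algebra R S] [Algebra.FinitePresentation R S]
    (N : Type u) [AddCommGroup N] [Module S N] [Module R N] [IsScalarTower R S N] [Module.FinitePresentation S N]
    (p : Ideal R) [p.IsPrime] (q : Ideal S) [q.IsPrime] [q.LiesOver p] :
    ∃ g : S, g ∉ q ∧ ∀ r ∈ associatedPrimes (p.Fiber S) (FlatCA.fiberMod p S N),
      ¬ r ≤ FlatCA.fiberIdeal p q → (1 : p.ResidueField) ⊗ₜ[R] g ∈ r := by
  classical
  haveI : IsNoetherianRing (p.Fiber S) := Algebra.FiniteType.isNoetherianRing p.ResidueField _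
  haveI : Module.Finite (p.Fiber S) (FlatCA.fiberMod p S N) := by
    letI := Algebra.TensorProduct.rightAlgebra (R := R) (A := p.ResidueField) (B := S)
    exact inferInstanceAs (Module.Finite (p.Fiber S) ((p.Fiber S) ⊗[S] N))
  have hfin := associatedPrimes.finite (p.Fiber S) (FlatCA.fiberMod p S N)
  have key : ∀ r : Ideal (p.Fiber S), ∃ g : S, g ∉ q ∧
      (r.IsPrime → ¬ r ≤ FlatCA.fiberIdeal p q → (1 : p.ResidueField) ⊗ₜ[R] g ∈ r) := by
    intro r
    by_cases hr : r ≤ FlatCA.fiberIdeal p q
    · exact ⟨1, q.ne_top_iff_one.mp Ideal.IsPrime.ne_top', fun _ h => absurd hr h⟩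
    obtain ⟨a, har, haq⟩ := SetLike.not_le_iff_exists.mp hr
    obtain ⟨c, hc, s, hcs⟩ := Ideal.Fiber.exists_smul_eq_one_tmul p a
    have hu : IsUnit (algebraMap R (p.Fiber S) c) := by
      rw [IsScalarTower.algebraMap_apply R p.ResidueField (p.Fiber S)]
      refine (Ne.isUnit ?_).map _
      rwa [ne_eq, Ideal.algebraMap_residueField_eq_zero]
    refine ⟨s, fun hs => haq ?_, fun _ _ => ?_⟩
    · have h1 : c • a ∈ FlatCA.fiberIdeal p q := by
        rw [hcs]; exact Ideal.mem_map_of_mem _ hs
      rw [Algebra.smul_def] at h1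
      exact (Ideal.unit_mul_mem_iff_mem _ hu).mp h1
    · rw [← hcs, Algebra.smul_def]
      exact r.mul_mem_left _ har
  choose g hg hgr using key
  refine ⟨∏ r ∈ hfin.toFinset, g r, fun h => ?_, fun r hr hle => ?_⟩
  · obtain ⟨r, -, hr⟩ := (Ideal.IsPrime.prod_mem_iff (p := q)).mp h
    exact hg r hr
  · rw [← Finset.mul_prod_erase _ _ (hfin.mem_toFinset.mpr hr),
      show ∀ a b : S, (1 : p.ResidueField) ⊗ₜ[R] (a * b) = (1 ⊗ₜ a) * (1 ⊗ₜ b) by simp]
    exact r.mul_mem_right _ (hgr r hr.isPrime hle)

end Groth.Agent.S1191
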