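import Groth.Statements.S12056
import Mathlib
-- import your own Groth.Agent.* helpers here

set_option autoImplicit false
open Red

namespace Groth.Agent.S12056

open MvPowerSeries in
lemma mv_subst_subst {R : Type} [CommRing R] (F : PowerSeries R) (s : MvPowerSeries (Fin 2) R)
    (hs : MvPowerSeries.constantCoeff s = 0) (b : Fin 2 → MvPowerSeries (Fin 2) R)
    (hb : MvPowerSeries.HasSubst b) :
    MvPowerSeries.subst b (PowerSeries.subst s F) = PowerSeries.subst (MvPowerSeries.subst b s) F := by
  simp only [PowerSeries.subst]
  rw [MvPowerSeries.subst_comp_subst_apply (MvPowerSeries.hasSubst_of_constantCoeff_zero fun _ => hs) hb]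

/-- In formal-power-series form, let R be a commutative ring and F ∈ R⟦X⟧ with constant term 1 whose
linear coefficient a is a unit of R. Suppose that in R⟦X₀, X₁⟧ one has F(X₀ + X₁ · F(X₀)) = F(X₀) ·
F(X₁) (the functional equation F(x + y F(x)) = F(x) F(y)). Then F = 1 + a X. (The published
statement concerns a morphism to the multiplicative group from an open neighbourhood of the zero
section in the additive group over a base scheme, the identity holding on an open neighbourhood of
the origin of the plane on which all terms are defined, with a the derivative at 0; this row states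
it for formal power series over a ring.) -/
theorem result (R : Type) [CommRing R] (F : PowerSeries R)
    (h0 : PowerSeries.constantCoeff F = 1) (ha : IsUnit (PowerSeries.coeff 1 F))
    (hFE : PowerSeries.subst
        (MvPowerSeries.X (0 : Fin 2) + MvPowerSeries.X 1 * PowerSeries.subst (MvPowerSeries.X (0 : Fin 2)) F :
          MvPowerSeries (Fin 2) R) F =
      PowerSeries.subst (MvPowerSeries.X (0 : Fin 2)) F * PowerSeries.subst (MvPowerSeries.X (1 : Fin 2)) F) :
    F = 1 + PowerSeries.C (PowerSeries.coeff 1 F) * PowerSeries.X := by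
  set P := F - 1 with hP
  have hP0 : PowerSeries.constantCoeff P = 0 := by simp [hP, h0]
  have hP1 : IsUnit (PowerSeries.coeff 1 P) := by simpa [hP] using ha
  have inj : ∀ s t : MvPowerSeries (Fin 2) R, MvPowerSeries.constantCoeff s = 0 → MvPowerSeries.constantCoeff t = 0 →
      PowerSeries.subst s F = PowerSeries.subst t F → s = t := by
    intro s t hs ht h
    have hs' := PowerSeries.HasSubst.of_constantCoeff_zero hs
    have ht' := PowerSeries.HasSubst.of_constantCoeff_zero ht
    have hPs : PowerSeries.subst s P = PowerSeries.subst t P := by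
      rw [hP, ← PowerSeries.coe_substAlgHom hs', ← PowerSeries.coe_substAlgHom ht', map_sub, map_sub, map_one, map_one,
        PowerSeries.coe_substAlgHom hs', PowerSeries.coe_substAlgHom ht', h]
    have hPS : PowerSeries.HasSubst P := PowerSeries.HasSubst.of_constantCoeff_zero' hP0
    have e := PowerSeries.subst_substInvOfIsUnit_left P hP0 hP1
    rw [← PowerSeries.subst_X (R := R) hs', ← PowerSeries.subst_X (R := R) ht', ← e,
      PowerSeries.subst_comp_subst_apply hPS hs', PowerSeries.subst_comp_subst_apply hPS ht', hPs]
  set x : MvPowerSeries (Fin 2) R := MvPowerSeries.X 0 with hx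
  set y : MvPowerSeries (Fin 2) R := MvPowerSeries.X 1 with hy
  let b : Fin 2 → MvPowerSeries (Fin 2) R := ![y, x]
  have hb : MvPowerSeries.HasSubst b := MvPowerSeries.hasSubst_of_constantCoeff_zero fun i => by
    fin_cases i <;> simp [b, hx, hy]
  have hx0 : MvPowerSeries.constantCoeff x = 0 := by simp [hx]
  have hy0 : MvPowerSeries.constantCoeff y = 0 := by simp [hy]
  have hbx : MvPowerSeries.subst b x = y := by rw [hx, MvPowerSeries.subst_X hb]; rfl
  have hby : MvPowerSeries.subst b y = x := by rw [hy, MvPowerSeries.subst_X hb]; rfl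
  have h' := congrArg (MvPowerSeries.subst b) hFE
  rw [mv_subst_subst F _ (by simp [hx0, hy0]) b hb, MvPowerSeries.subst_mul hb, MvPowerSeries.subst_add hb,
    MvPowerSeries.subst_mul hb, mv_subst_subst F _ hx0 b hb, mv_subst_subst F _ hy0 b hb, hbx, hby] at h'
  have key := inj _ _ (by simp [hx0, hy0]) (by simp [hx0, hy0]) (hFE.trans (mul_comm _ _ |>.trans h'.symm))
  ext k
  rcases k with _ | _ | k
  · simp [h0]
  · simp
  · have := congrArg (MvPowerSeries.coeff (Finsupp.single 0 (k + 2) + Finsupp.single 1 1)) key
    rw [map_add, map_add, hx, hy] at this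
    have e1 : ∀ G : MvPowerSeries (Fin 2) R,
        MvPowerSeries.coeff (Finsupp.single 0 (k + 2) + Finsupp.single 1 1) (MvPowerSeries.X 1 * G) =
          MvPowerSeries.coeff (Finsupp.single 0 (k + 2)) G := fun G => by
      rw [add_comm, MvPowerSeries.X_def, MvPowerSeries.coeff_add_monomial_mul, one_mul]
    have e0 : ∀ G : MvPowerSeries (Fin 2) R,
        MvPowerSeries.coeff (Finsupp.single 0 (k + 2) + Finsupp.single 1 1) (MvPowerSeries.X 0 * G) =
          MvPowerSeries.coeff (Finsupp.single 0 (k + 1) + Finsupp.single 1 1) G := fun G => by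
      rw [show (Finsupp.single (0 : Fin 2) (k + 2) + Finsupp.single 1 1) =
          Finsupp.single 0 1 + (Finsupp.single 0 (k + 1) + Finsupp.single 1 1) by
        rw [← add_assoc, ← Finsupp.single_add, show 1 + (k + 1) = k + 2 by omega],
        MvPowerSeries.X_def, MvPowerSeries.coeff_add_monomial_mul, one_mul]
    have n0 : ¬ (Finsupp.single (0 : Fin 2) (k + 2) + Finsupp.single 1 1 = Finsupp.single 0 1) := fun e => by
      simpa using congrArg (· 1) e
    have n1 : ¬ (Finsupp.single (0 : Fin 2) (k + 2) + Finsupp.single 1 1 = Finsupp.single 1 1) := fun e => by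
      simpa using congrArg (· 0) e
    have n2 : ¬ (Finsupp.single (0 : Fin 2) (k + 1) + Finsupp.single 1 1 =
        Finsupp.single 1 ((Finsupp.single (0 : Fin 2) (k + 1) + Finsupp.single 1 1 : Fin 2 →₀ ℕ) 1)) := fun e => by
      simpa using congrArg (· 0) e
    rw [e1, e0, MvPowerSeries.coeff_X, MvPowerSeries.coeff_X, if_neg n0, if_neg n1, PowerSeries.coeff_subst_single,
      PowerSeries.coeff_subst_single, if_neg n2, zero_add, zero_add] at this
    simpa using this

end Groth.Agent.S12056
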