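import Groth.Statements.S1206
import Groth.Agent.FlatBasics.InfPow

set_option autoImplicit false
universe u
open FlatMor

namespace Groth.Agent.S1206

/-- Let A be a local domain which is not a field and 𝒮 a set of finitely generated ideals of A, closed
under products, such that the union of the closed sets V(I), I ∈ 𝒮, is exactly the set of nonzero
primes (every nonzero prime contains a member of 𝒮 and no member is zero). Then the intersection of
all members of 𝒮 is zero. -/
theorem result (A : Type u) [CommRing A] [IsDomain A] [IsLocalRing A] (hA : ¬ IsField A)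
    (𝒮 : Set (Ideal A)) (hfg : ∀ I ∈ 𝒮, I.FG) (hmul : ∀ I ∈ 𝒮, ∀ J ∈ 𝒮, I * J ∈ 𝒮)
    (hne : ∀ I ∈ 𝒮, I ≠ ⊥) (hcov : ∀ (p : Ideal A), p.IsPrime → p ≠ ⊥ → ∃ I ∈ 𝒮, I ≤ p) :
    sInf 𝒮 = ⊥ := by
  rw [eq_bot_iff]
  intro x hx
  rw [Submodule.mem_bot]
  by_contra hx0
  have hmem : ∀ I ∈ 𝒮, x ∈ I := fun I hI => Submodule.mem_sInf.mp hx I hI
  have hne' : Ideal.span {x} ≠ ⊤ := fun h => by
    obtain ⟨I, hI, hIm⟩ := hcov (IsLocalRing.maximalIdeal A) inferInstance
      (fun h' => hA (IsLocalRing.isField_iff_maximalIdeal_eq.mpr h'))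
    exact (IsLocalRing.maximalIdeal A).ne_top_iff_one.mp (Ideal.IsMaximal.ne_top inferInstance)
      (Ideal.mem_of_dvd _ (isUnit_iff_dvd_one.mp (Ideal.span_singleton_eq_top.mp h)) (hIm (hmem I hI)))
  obtain ⟨P, hP⟩ := Ideal.nonempty_minimalPrimes hne'
  obtain ⟨I, hI, hIP⟩ := hcov P hP.1.1 (fun h => hx0 (by simpa [h] using hP.1.2 (Ideal.mem_span_singleton_self x)))
  refine hx0 (Groth.Agent.FlatBasics.eq_zero_of_mem_pow (hfg I hI) hP hIP fun n hn => ?_)
  refine hmem _ ?_
  induction n, hn using Nat.le_induction with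
  | base => rwa [pow_one]
  | succ n hn ih => rw [pow_succ]; exact hmul _ ih _ hI

end Groth.Agent.S1206
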