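import Groth.Statements.S12067
import Mathlib
import Groth.Agent.HopfUnip.Basic
-- import your own Groth.Agent.* helpers here

set_option autoImplicit false
set_option backward.isDefEq.respectTransparency.types false
universe u
open TensorProduct
open SGA3t2b

namespace Groth.Agent.S12067

section
open TensorProduct Groth.Agent.Comod Groth.Agent.HopfUnip HopfRep
variable {k : Type u} [Field k] {A : Type u} [CommRing A] [HopfAlgebra k A]
  {V : Type u} [AddCommGroup V] [Module k V] [Comod k A V]

lemma exists_step (hU : IsUnipotent k A) [Module.Finite k V] {W : Submodule k V}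
    (hW : IsSubcomod (k := k) (A := A) W) (hne : W ≠ ⊤) :
    ∃ W' : Submodule k V, IsSubcomod (k := k) (A := A) W' ∧ W ≤ W' ∧
      Module.finrank k W' = Module.finrank k W + 1 ∧ W' ≤ wtSub k (1 : A) W := by
  classical
  have hw : IsWeighted k V ({1} : Set A) := isWeighted_of_forall
    (fun X _ _ _ hX => haveI := hX; exists_fixed_of_isUnipotent hU X) V
  have hex : ∃ n, ¬ fil k V ({1} : Set A) n ≤ W := by
    by_contra h
    push Not at h
    exact hne (top_le_iff.mp (hw ▸ iSup_le h))
  obtain ⟨m, hm⟩ : ∃ m, Nat.find hex = m + 1 := Nat.exists_eq_succ_of_ne_zero fun h0 => by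
    have := Nat.find_spec hex
    rw [h0] at this
    exact this (by simp [fil])
  have hnot := Nat.find_spec hex
  rw [hm] at hnot
  have hle : fil k V ({1} : Set A) m ≤ W := by
    by_contra h
    exact Nat.find_min hex (by omega : m < Nat.find hex) h
  obtain ⟨v, hv, hvW⟩ := SetLike.not_le_iff_exists.mp hnot
  have hv1 : v ∈ wtSub k (1 : A) W := by
    refine wtSub_mono hle ?_
    have hv' : v ∈ ⨆ g : ({1} : Set A), wtSub k (g : A) (fil k V ({1} : Set A) m) := hv
    rwa [iSup_unique] at hv'
  have hWw : W ≤ wtSub k (1 : A) W := fun w hw => mem_wtSub_iff_slR.mpr fun φ =>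
    sub_mem (IsSubcomod.actL_mem hW φ hw) (W.smul_mem _ hw)
  have hsub : W ⊔ Submodule.span k {v} ≤ wtSub k (1 : A) W :=
    sup_le hWw ((Submodule.span_singleton_le_iff_mem _ _).mpr hv1)
  refine ⟨W ⊔ Submodule.span k {v}, ?_, le_sup_left, ?_, hsub⟩
  · refine isSubcomod_iff.2 fun φ w hw => ?_
    have h := mem_wtSub_iff_slR.mp (hsub hw) φ
    have := add_mem ((le_sup_left : W ≤ W ⊔ Submodule.span k {v}) h) (Submodule.smul_mem _ (φ 1) hw)
    rwa [sub_add_cancel] at this
  · have hdis : W ⊓ Submodule.span k {v} = ⊥ := by
      rw [← disjoint_iff, Submodule.disjoint_span_singleton' (fun h : v = 0 => hvW (h ▸ W.zero_mem))]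
      exact hvW
    have := Submodule.finrank_sup_add_finrank_inf_eq W (Submodule.span k {v})
    rw [hdis, finrank_bot, add_zero, finrank_span_singleton (fun h : v = 0 => hvW (h ▸ W.zero_mem))] at this
    exact this

end

/-- In Hopf-algebra form, let k be a field and A a finitely generated commutative Hopf algebra over k
(an affine algebraic group G) which is unipotent: every nonzero finite-dimensional comodule has a
nonzero fixed vector. Then every finite-dimensional comodule V (a finite-dimensional representation
of G), of dimension n, has a flag of subcomodules 0 = V_0 ⊂ V_1 ⊂ ⋯ ⊂ V_n = V with one-dimensional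
successive quotients on which G acts trivially: for v ∈ V_(i+1) the coaction of v is congruent to v
⊗ 1 modulo V_i ⊗ A. -/
theorem result (k : Type u) [Field k] (A : Type u) [CommRing A]
    [HopfAlgebra k A] [Algebra.FiniteType k A] (hU : HopfRep.IsUnipotent k A)
    (V : Type u) [AddCommGroup V] [Module k V] [HopfRep.Comod k A V] [Module.Finite k V] :
    ∃ F : Fin (Module.finrank k V + 1) → Submodule k V,
      F 0 = ⊥ ∧ F (Fin.last _) = ⊤ ∧
      (∀ i : Fin (Module.finrank k V + 1), HopfRep.IsSubcomod (k := k) (A := A) (F i)) ∧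
      ∀ i : Fin (Module.finrank k V), F i.castSucc ≤ F i.succ ∧
        Module.finrank k ↥(F i.succ) = Module.finrank k ↥(F i.castSucc) + 1 ∧
        ∀ v ∈ F i.succ, HopfRep.Comod.coact (k := k) (A := A) v - v ⊗ₜ[k] (1 : A) ∈
          LinearMap.range ((F i.castSucc).subtype.rTensor A) := by
  classical
  let step : Submodule k V → Submodule k V := fun W =>
    if h : HopfRep.IsSubcomod (k := k) (A := A) W ∧ W ≠ ⊤ then (exists_step hU h.1 h.2).choose else W
  let G : ℕ → Submodule k V := fun i => step^[i] ⊥
  have hsucc : ∀ i, G (i + 1) = step (G i) := fun i => Function.iterate_succ_apply' _ _ _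
  have hrank : ∀ i, i ≤ Module.finrank k V →
      HopfRep.IsSubcomod (k := k) (A := A) (G i) ∧ Module.finrank k (G i) = i := by
    intro i
    induction i with
    | zero =>
      intro _
      refine ⟨fun w hw => ?_, finrank_bot k V⟩
      have : w = 0 := by simpa [G] using hw
      rw [this, map_zero]; exact zero_mem _
    | succ i ih =>
      intro hi
      obtain ⟨h1, h2⟩ := ih (by omega)
      have hne : G i ≠ ⊤ := fun h => by rw [h, finrank_top] at h2; omega
      have hspec := (exists_step hU h1 hne).choose_spec
      have e : G (i + 1) = (exists_step hU h1 hne).choose :=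
        (hsucc i).trans (dif_pos (And.intro h1 hne))
      rw [e]
      exact ⟨hspec.1, by rw [hspec.2.2.1, h2]⟩
  refine ⟨fun i => G i, rfl, ?_, fun i => (hrank i (Nat.lt_succ_iff.mp i.2)).1, fun i => ?_⟩
  · exact Submodule.eq_top_of_finrank_eq (hrank _ le_rfl).2
  · obtain ⟨h1, h2⟩ := hrank i (by omega)
    have hne : G i ≠ ⊤ := fun h => by
      rw [h, finrank_top] at h2
      have := i.2
      omega
    have hspec := (exists_step hU h1 hne).choose_spec
    have e : G (i + 1) = (exists_step hU h1 hne).choose :=
      (hsucc i).trans (dif_pos (And.intro h1 hne))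
    show G i ≤ G (i + 1) ∧ Module.finrank k (G (i + 1)) = Module.finrank k (G i) + 1 ∧
      ∀ v ∈ G (i + 1), _
    rw [e]
    exact ⟨hspec.2.1, hspec.2.2.1, fun v hv => Groth.Agent.HopfUnip.mem_wtSub.mp (hspec.2.2.2 hv)⟩

end Groth.Agent.S12067
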