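import Groth.Statements.S1207
import Groth.Agent.FlatBasics.InfPow

set_option autoImplicit false
universe u
open FlatMor

namespace Groth.Agent.S1207

/-- Let A be a local ring and I, J ideals of A with J finitely generated, J ≠ A, and I ⊆ J^n for all n ≥
1. Then every prime p not containing J which is maximal among the primes not containing J (a closed
point of Spec A ∖ V(J)) contains I. (The published statement leaves the hypothesis J ≠ A implicit;
for J = A the assertion fails.) -/
theorem result (A : Type u) [CommRing A] [IsLocalRing A] (I J : Ideal A) (hJ : J.FG) (hJ1 : J ≠ ⊤)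
    (hI : ∀ n : ℕ, 1 ≤ n → I ≤ J ^ n) (p : Ideal A) [p.IsPrime] (hp : ¬ J ≤ p)
    (hmax : ∀ (p' : Ideal A), p'.IsPrime → p ≤ p' → ¬ J ≤ p' → p' = p) : I ≤ p := by
  intro x hxI
  let f := Ideal.Quotient.mk p
  rw [← Ideal.Quotient.eq_zero_iff_mem]
  by_contra h0
  have hxJ : x ∈ J := by simpa using hI 1 le_rfl hxI
  have hne : Ideal.span {f x} ≠ ⊤ := by
    intro h
    have h1 : Ideal.span {x} ⊔ p = ⊤ := by
      rw [← Ideal.mk_ker (I := p), ← Ideal.comap_map_of_surjective' f Ideal.Quotient.mk_surjective,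
        Ideal.map_span, Set.image_singleton, h, Ideal.comap_top]
    have h2 : p ≤ IsLocalRing.maximalIdeal A := IsLocalRing.le_maximalIdeal Ideal.IsPrime.ne_top'
    refine (IsLocalRing.maximalIdeal A).ne_top_iff_one.mp (Ideal.IsMaximal.ne_top inferInstance) ?_
    have h3 : Ideal.span {x} ⊔ p ≤ IsLocalRing.maximalIdeal A :=
      sup_le ((Ideal.span_singleton_le_iff_mem _).mpr (IsLocalRing.le_maximalIdeal hJ1 hxJ)) h2
    exact h3 (h1.ge trivial)
  obtain ⟨P, hP⟩ := Ideal.nonempty_minimalPrimes hne
  haveI := hP.1.1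
  have hxP : f x ∈ P := hP.1.2 (Ideal.mem_span_singleton_self _)
  have hJP : J.map f ≤ P := by
    rw [Ideal.map_le_iff_le_comap]
    by_contra hn
    have hle : p ≤ P.comap f := fun y hy => by
      simp [f, Ideal.Quotient.eq_zero_iff_mem.mpr hy]
    have := hmax (P.comap f) inferInstance hle hn
    exact h0 (Ideal.Quotient.eq_zero_iff_mem.mpr (this ▸ hxP))
  exact h0 (Groth.Agent.FlatBasics.eq_zero_of_mem_pow (hJ.map f) hP hJP fun n hn => by
    rw [← Ideal.map_pow]; exact Ideal.mem_map_of_mem f (hI n hn hxI))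

end Groth.Agent.S1207
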