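import Groth.Statements.S12071


set_option autoImplicit false
open RootD

namespace Groth.Agent.S12071

/-- Let G be the group generated by two elements x, y subject to x² = y² = 1 (the infinite dihedral
group; here Mathlib's DihedralGroup 0 with x = sr 0 and y = sr 1, so that x y = r 1). Then every
normal subgroup of G containing neither x nor y is generated by an element (x y)^n with n > 0; such
a subgroup is cyclic, generated by r n. (The published statement does not exclude the trivial
subgroup, for which no n > 0 works; this row assumes the subgroup nontrivial.) -/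
theorem result (N : Subgroup (DihedralGroup 0)) [N.Normal]
    (hN : N ≠ ⊥) (hx : DihedralGroup.sr (0 : ZMod 0) ∉ N) (hy : DihedralGroup.sr (1 : ZMod 0) ∉ N) :
    ∃ n : ℕ, 0 < n ∧ N = Subgroup.zpowers (DihedralGroup.r (n : ZMod 0)) := by
  have hx' : ∀ a : ZMod 0, DihedralGroup.sr a ∉ N := by
    intro a ha
    have key : ∀ c : ZMod 0, DihedralGroup.sr (a - 2 * c) ∈ N := fun c => by
      have h := ‹N.Normal›.conj_mem _ ha (DihedralGroup.r c)
      simp only [DihedralGroup.r_mul_sr, DihedralGroup.inv_r, DihedralGroup.sr_mul_r] at h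
      rwa [show a - 2 * c = a - c + -c by ring]
    rcases Int.even_or_odd' (show ℤ from a) with ⟨c, hc | hc⟩
    · refine hx ?_
      have e : a - 2 * (show ZMod 0 from c) = 0 := by
        change (show ℤ from a) - 2 * c = (0 : ℤ)
        omega
      exact e ▸ key (show ZMod 0 from c)
    · refine hy ?_
      have e : a - 2 * (show ZMod 0 from c) = 1 := by
        change (show ℤ from a) - 2 * c = (1 : ℤ)
        omega
      exact e ▸ key (show ZMod 0 from c)
  let f : Multiplicative (ZMod 0) →* DihedralGroup 0 :=
    { toFun := fun a => DihedralGroup.r a.toAdd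
      map_one' := rfl
      map_mul' := fun a b => (DihedralGroup.r_mul_r _ _).symm }
  obtain ⟨g, hg⟩ : ∃ g : Multiplicative (ZMod 0), Subgroup.zpowers g = N.comap f :=
    (Subgroup.isCyclic_iff_exists_zpowers_eq_top (N.comap f)).mp inferInstance
  have hN' : N = Subgroup.zpowers (f g) := by
    ext x
    constructor
    · intro hxN
      cases x with
      | r a =>
        have : Multiplicative.ofAdd a ∈ Subgroup.zpowers g := hg ▸ hxN
        obtain ⟨k, hk⟩ := this
        exact ⟨k, (map_zpow f g k).symm.trans (congrArg f hk)⟩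
      | sr a => exact absurd hxN (hx' a)
    · rintro ⟨k, rfl⟩
      change f g ^ k ∈ N
      rw [← map_zpow]
      exact (show g ^ k ∈ N.comap f from hg ▸ ⟨k, rfl⟩)
  set a : ℤ := g.toAdd
  have hfa : f g = DihedralGroup.r (a : ZMod 0) := rfl
  have ha0 : a ≠ 0 := by
    intro h0
    refine hN ?_
    rw [hN', hfa, h0, Int.cast_zero, DihedralGroup.r_zero, Subgroup.zpowers_one_eq_bot]
  refine ⟨a.natAbs, Int.natAbs_pos.mpr ha0, ?_⟩
  rw [hN', hfa]
  rcases Int.natAbs_eq a with h | h
  · conv_lhs => rw [h]
    rw [Int.cast_natCast]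
  · conv_lhs => rw [h]
    rw [Int.cast_neg, Int.cast_natCast, ← DihedralGroup.inv_r, Subgroup.zpowers_inv]

end Groth.Agent.S12071
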