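import Groth.Statements.S12076
import Groth.Agent.RootSys.Base

set_option autoImplicit false
open RootD

namespace Groth.Agent.S12076

/-- Let Δ be a system of simple roots (a base b of a root pairing P over ℤ) and Γ₀ the subgroup
generated by the roots. Then Γ₀ has a structure of totally ordered group for which the roots > 0 are
exactly the positive roots defined by Δ and for which the height (the additive function with value 1
on each simple root) is monotone. The order is given here by its positive cone C ⊆ Γ₀: 0 ∉ C, C + C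
⊆ C, and for every x ≠ 0 exactly one of x, −x lies in C (x < y meaning y − x ∈ C). -/
theorem result {ι M N : Type*} [AddCommGroup M] [AddCommGroup N]
    (P : RootPairing ι ℤ M N) [Finite ι] (b : P.Base) :
    ∃ C : Set ↥(Submodule.span ℤ (Set.range P.root)),
      0 ∉ C ∧ (∀ x ∈ C, ∀ y ∈ C, x + y ∈ C) ∧ (∀ x, x ≠ 0 → (x ∈ C ∨ -x ∈ C)) ∧ (∀ x ∈ C, -x ∉ C) ∧
      (∀ i : ι, (⟨P.root i, Submodule.subset_span (Set.mem_range_self i)⟩ : ↥(Submodule.span ℤ (Set.range P.root))) ∈ C ↔
        b.IsPos i) ∧
      ∀ φ : ↥(Submodule.span ℤ (Set.range P.root)) →+ ℤ,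
        (∀ j ∈ b.support, φ ⟨P.root j, Submodule.subset_span (Set.mem_range_self j)⟩ = 1) →
        ∀ x y : ↥(Submodule.span ℤ (Set.range P.root)), y - x ∈ C → φ x ≤ φ y := by
  classical
  have hΔ := RootSys.base_isSimpleSys b
  have := Fintype.ofFinite ι
  set S := Submodule.span ℤ (Set.range P.root)
  have hspan : S ≤ Submodule.span ℤ (Set.range fun d : b.support => P.root d) := by
    refine Submodule.span_le.mpr ?_
    rintro _ ⟨i, rfl⟩
    rw [← RootSys.coef_lc hΔ i, Finsupp.linearCombination_apply]
    exact Submodule.sum_mem _ fun l hl =>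
      Submodule.smul_mem _ _ (Submodule.subset_span ⟨⟨l, RootSys.coef_support hΔ i hl⟩, rfl⟩)
  have hv : LinearIndependent ℤ (fun d : b.support => P.root d) := b.linearIndepOn_root
  let rep : S →ₗ[ℤ] (b.support →₀ ℤ) := hv.repr.comp (Submodule.inclusion hspan)
  have hrep_inj : ∀ x : S, rep x = 0 → x = 0 := fun x hx => by
    have := hv.linearCombination_repr (Submodule.inclusion hspan x)
    rw [show hv.repr (Submodule.inclusion hspan x) = 0 from hx, map_zero] at this
    exact Subtype.ext (by simpa using this.symm)
  let T : S →+ ℤ := ((Finsupp.linearCombination ℤ fun _ : b.support => (1 : ℤ)).comp rep).toAddMonoidHom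
  let e := Fintype.equivFin b.support
  let LP : S → Prop := fun x => ∃ m, 0 < rep x m ∧ ∀ l, e l < e m → rep x l = 0
  have hTroot : ∀ i : ι, T ⟨P.root i, Submodule.subset_span (Set.mem_range_self i)⟩ =
      RootSys.ht hΔ i := by
    intro i
    have hr : rep ⟨P.root i, Submodule.subset_span (Set.mem_range_self i)⟩ =
        (RootSys.coef hΔ i).subtypeDomain (· ∈ b.support) := by
      refine hv.repr_eq ?_
      rw [Finsupp.linearCombination_apply, Finsupp.sum_subtypeDomain_index (p := fun x => x ∈ b.support)
        (h := fun l a => a • P.root l) (RootSys.coef_support hΔ i)]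
      exact (Finsupp.linearCombination_apply _ _).symm.trans (RootSys.coef_lc hΔ i)
    simp only [T, LinearMap.toAddMonoidHom_coe, LinearMap.comp_apply, hr]
    rw [Finsupp.linearCombination_apply, Finsupp.sum_subtypeDomain_index (p := fun x => x ∈ b.support)
      (h := fun _ a => a • (1 : ℤ)) (RootSys.coef_support hΔ i)]
    simp [RootSys.ht]
  refine ⟨{x | 0 < T x ∨ (T x = 0 ∧ LP x)}, ?_, ?_, ?_, ?_, fun i => ?_, fun φ hφ x y hxy => ?_⟩
  · rintro (h | ⟨-, m, hm, -⟩)
    · simp at h
    · simp at hm
  · rintro x (hx | ⟨hx, m, hm, hm'⟩) y (hy | ⟨hy, n, hn, hn'⟩)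
    · exact Or.inl (by rw [map_add]; omega)
    · exact Or.inl (by rw [map_add]; omega)
    · exact Or.inl (by rw [map_add]; omega)
    · refine Or.inr ⟨by rw [map_add]; omega, ?_⟩
      rcases lt_trichotomy (e m) (e n) with h | h | h
      · exact ⟨m, by rw [map_add, Finsupp.add_apply, hn' m h]; omega, fun l hl => by
          rw [map_add, Finsupp.add_apply, hm' l hl, hn' l (hl.trans h), add_zero]⟩
      · obtain rfl := e.injective h
        exact ⟨m, by rw [map_add, Finsupp.add_apply]; omega, fun l hl => by
          rw [map_add, Finsupp.add_apply, hm' l hl, hn' l hl, add_zero]⟩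
      · exact ⟨n, by rw [map_add, Finsupp.add_apply, hm' n h]; omega, fun l hl => by
          rw [map_add, Finsupp.add_apply, hn' l hl, hm' l (hl.trans h), add_zero]⟩
  · intro x hx
    rcases lt_trichotomy (T x) 0 with h | h | h
    · exact Or.inr (Or.inl (by rw [map_neg]; omega))
    · obtain ⟨m, hm, hmin⟩ := Finset.exists_min_image (rep x).support e
        (Finsupp.support_nonempty_iff.mpr fun h' => hx (hrep_inj x h'))
      have hz : ∀ l, e l < e m → rep x l = 0 := fun l hl =>
        Finsupp.notMem_support_iff.mp fun h' => absurd hl (not_lt.mpr (hmin l h'))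
      rcases lt_or_gt_of_ne (Finsupp.mem_support_iff.mp hm) with h' | h'
      · exact Or.inr (Or.inr ⟨by rw [map_neg]; omega, m,
          by rw [map_neg, Finsupp.neg_apply]; omega, fun l hl => by
            rw [map_neg, Finsupp.neg_apply, hz l hl, neg_zero]⟩)
      · exact Or.inl (Or.inr ⟨h, m, h', hz⟩)
    · exact Or.inl (Or.inl h)
  · rintro x (hx | ⟨hx, m, hm, hm'⟩) (hy | ⟨hy, n, hn, hn'⟩)
    · rw [map_neg] at hy; omega
    · rw [map_neg] at hy; omega
    · rw [map_neg] at hy; omega
    · rw [map_neg, Finsupp.neg_apply] at hn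
      rcases lt_trichotomy (e m) (e n) with h | h | h
      · have := hn' m h; rw [map_neg, Finsupp.neg_apply] at this; omega
      · obtain rfl := e.injective h; omega
      · have := hm' n h; omega
  · rw [RootSys.base_isPos_iff, RootSys.pos_iff_one_le_ht hΔ]
    have h0 := RootSys.ht_neg hΔ i
    have hne : RootSys.ht hΔ i ≠ 0 := fun h => by
      rcases RootSys.pos_or_neg hΔ i with h' | h'
      · have := RootSys.one_le_ht hΔ h'; omega
      · have := RootSys.one_le_ht hΔ h'; omega
    change (0 < T _ ∨ (T _ = 0 ∧ LP _)) ↔ _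
    rw [hTroot]
    exact ⟨fun h => h.elim (fun h => by omega) (fun h => absurd h.1 hne),
      fun h => Or.inl (by omega)⟩
  · have hφT : φ = T := by
      have hs : ∀ i : ι, φ ⟨P.root i, Submodule.subset_span (Set.mem_range_self i)⟩ =
          T ⟨P.root i, Submodule.subset_span (Set.mem_range_self i)⟩ := by
        intro i
        rw [hTroot, RootSys.ht, Finsupp.sum]
        have e : (⟨P.root i, Submodule.subset_span (Set.mem_range_self i)⟩ : S) =
            ∑ l ∈ (RootSys.coef hΔ i).support, RootSys.coef hΔ i l •
              (⟨P.root l, Submodule.subset_span (Set.mem_range_self l)⟩ : S) := by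
          apply Subtype.ext
          simp only [Submodule.coe_sum, Submodule.coe_smul]
          exact ((Finsupp.linearCombination_apply _ _).symm.trans (RootSys.coef_lc hΔ i)).symm
        rw [e, map_sum]
        exact Finset.sum_congr rfl fun l hl => by
          rw [map_zsmul, hφ l (RootSys.coef_support hΔ i hl), smul_eq_mul, mul_one]
      refine AddMonoidHom.ext fun z => ?_
      obtain ⟨z, hz⟩ := z
      induction hz using Submodule.span_induction with
      | mem w hw => obtain ⟨i, rfl⟩ := hw; exact hs i
      | zero => exact φ.map_zero.trans T.map_zero.symm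
      | add a c ha hc iha ihc =>
        have : (⟨a + c, add_mem ha hc⟩ : S) = ⟨a, ha⟩ + ⟨c, hc⟩ := rfl
        rw [this, map_add, map_add, iha, ihc]
      | smul t a ha iha =>
        have : (⟨t • a, Submodule.smul_mem _ t ha⟩ : S) = t • ⟨a, ha⟩ := rfl
        rw [this, map_zsmul, map_zsmul, iha]
    subst hφT
    rcases hxy with h | ⟨h, -⟩ <;> rw [map_sub] at h <;> omega

end Groth.Agent.S12076
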