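import Groth.Statements.S12077
import Mathlib

set_option autoImplicit false
universe u
open Polynomial
open CAlg

namespace Groth.Agent.S12077

open Polynomial CategoryTheory CategoryTheory.Limits

abbrev Mon (A : Type u) [CommRing A] := {P : A[X] // P.Monic ∧ 0 < P.natDegree}

noncomputable abbrev J (A : Type u) [CommRing A] : Ideal (MvPolynomial (Mon A) A) :=
  Ideal.span (Set.range fun P : Mon A => aeval (MvPolynomial.X (R := A) P) P.1)

theorem exists_roots (A : Type u) [CommRing A] (s : Finset (Mon A)) :
    ∃ (C : Type u) (_ : CommRing C) (φ : A →+* C), Function.Injective φ ∧ ∀ P ∈ s, ∃ x : C, eval₂ φ x P.1 = 0 := by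
  classical
  induction s using Finset.induction_on with
  | empty => exact ⟨A, inferInstance, RingHom.id A, fun _ _ h => h, fun P hP => absurd hP (Finset.notMem_empty P)⟩
  | insert P s _ ih =>
    obtain ⟨C, _, φ, hφ, hs⟩ := ih
    refine ⟨AdjoinRoot (P.1.map φ), inferInstance, (AdjoinRoot.of _).comp φ, ?_, ?_⟩
    · rw [injective_iff_map_eq_zero]
      intro a ha
      apply hφ
      rw [map_zero]
      by_contra h
      refine (P.2.1.map φ).not_dvd_of_natDegree_lt (p := P.1.map φ) (q := Polynomial.C (φ a)) (C_ne_zero.2 h) ?_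
        (AdjoinRoot.mk_eq_zero.1 (by rw [AdjoinRoot.mk_C]; exact ha))
      rw [natDegree_C, natDegree_map_eq_of_injective hφ]
      exact P.2.2
    · intro Q hQ
      rcases Finset.mem_insert.1 hQ with rfl | hQ
      · refine ⟨AdjoinRoot.root _, ?_⟩
        rw [← eval₂_map]
        exact AdjoinRoot.eval₂_root _
      · obtain ⟨x, hx⟩ := hs Q hQ
        exact ⟨AdjoinRoot.of _ x, by rw [← hom_eval₂, hx, map_zero]⟩

theorem inj_step (A : Type u) [CommRing A] :
    Function.Injective (algebraMap A (MvPolynomial (Mon A) A ⧸ J A)) := by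
  classical
  rw [injective_iff_map_eq_zero]
  intro a ha
  have hmem : MvPolynomial.C a ∈ J A := Ideal.Quotient.eq_zero_iff_mem.1 ha
  obtain ⟨c, hc⟩ := Finsupp.mem_span_range_iff_exists_finsupp.1 hmem
  obtain ⟨C, _, φ, hφ, hs⟩ := exists_roots A c.support
  choose x hx using hs
  let e := MvPolynomial.eval₂Hom φ (fun P : Mon A => if h : P ∈ c.support then x P h else 0)
  apply hφ
  rw [map_zero, ← MvPolynomial.eval₂Hom_C φ (fun P : Mon A => if h : P ∈ c.support then x P h else 0) a, ← hc]
  rw [Finsupp.sum, map_sum]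
  refine Finset.sum_eq_zero fun P hP => ?_
  rw [smul_eq_mul, map_mul, aeval_def, hom_eval₂]
  have : e.comp (algebraMap A (MvPolynomial (Mon A) A)) = φ := RingHom.ext fun b => MvPolynomial.eval₂Hom_C _ _ b
  rw [this, MvPolynomial.eval₂Hom_X', dif_pos hP, hx P hP, mul_zero]

noncomputable def nextRing (R : CommRingCat.{u}) : CommRingCat.{u} := CommRingCat.of (MvPolynomial (Mon R) R ⧸ J R)

noncomputable def stage (A : Type u) [CommRing A] : ℕ → CommRingCat.{u}
  | 0 => CommRingCat.of A
  | n + 1 => nextRing (stage A n)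

noncomputable def stepHom (A : Type u) [CommRing A] (n : ℕ) : stage A n ⟶ stage A (n + 1) :=
  CommRingCat.ofHom (algebraMap (stage A n) (MvPolynomial (Mon (stage A n)) (stage A n) ⧸ J (stage A n)))

noncomputable def tower (A : Type u) [CommRing A] : ℕ ⥤ CommRingCat.{u} := Functor.ofSequence (stepHom A)

instance : PreservesFilteredColimitsOfSize.{0, 0} (forget CommRingCat.{u}) :=
  preservesFilteredColimitsOfSize_shrink.{0, u, 0, u} _

theorem tower_inj (A : Type u) [CommRing A] (i j : ℕ) (h : i ⟶ j) : Function.Injective ((tower A).map h).hom := by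
  obtain ⟨k, rfl⟩ := Nat.exists_eq_add_of_le (leOfHom h)
  induction k with
  | zero =>
    rw [Subsingleton.elim h (𝟙 i), CategoryTheory.Functor.map_id]
    exact fun _ _ h => h
  | succ k ih =>
    have e : h = homOfLE (Nat.le_add_right i k) ≫ homOfLE (Nat.le_succ (i + k)) := Subsingleton.elim _ _
    rw [e, Functor.map_comp]
    have : (tower A).map (homOfLE (Nat.le_succ (i + k))) = stepHom A (i + k) :=
      Functor.ofSequence_map_homOfLE_succ (stepHom A) (i + k)
    rw [this]
    intro x y hxy
    exact ih _ (inj_step _ hxy)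

noncomputable def inc (A : Type u) [CommRing A] (n : ℕ) : stage A n →+* (colimit (tower A) : CommRingCat.{u}) :=
  (colimit.ι (tower A) n).hom

noncomputable def trans (A : Type u) [CommRing A] {n m : ℕ} (h : n ≤ m) : stage A n →+* stage A m :=
  ((tower A).map (homOfLE h)).hom

theorem inc_trans (A : Type u) [CommRing A] {n m : ℕ} (h : n ≤ m) : (inc A m).comp (trans A h) = inc A n :=
  congrArg CommRingCat.Hom.hom (colimit.w (tower A) (homOfLE h))

theorem inc_step (A : Type u) [CommRing A] (n : ℕ) : (inc A (n + 1)).comp (stepHom A n).hom = inc A n := by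
  have : trans A (Nat.le_succ n) = (stepHom A n).hom :=
    congrArg CommRingCat.Hom.hom (Functor.ofSequence_map_homOfLE_succ (stepHom A) n)
  rw [← this]
  exact inc_trans A _

theorem inc_rep (A : Type u) [CommRing A] (b : (colimit (tower A) : CommRingCat.{u})) : ∃ n x, inc A n x = b :=
  Concrete.colimit_exists_rep (tower A) b

theorem exists_lift {A : Type u} [CommRing A] (p : (colimit (tower A) : CommRingCat.{u})[X]) :
    ∃ (n : ℕ) (q : (stage A n)[X]), q.map (inc A n) = p := by
  induction p using Polynomial.induction_on' with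
  | monomial m b =>
    obtain ⟨n, x, hx⟩ := inc_rep A b
    exact ⟨n, monomial m x, by rw [map_monomial, hx]⟩
  | add p q hp hq =>
    obtain ⟨n, p', rfl⟩ := hp
    obtain ⟨m, q', rfl⟩ := hq
    refine ⟨max n m, p'.map (trans A (le_max_left n m)) + q'.map (trans A (le_max_right n m)), ?_⟩
    rw [Polynomial.map_add, Polynomial.map_map, Polynomial.map_map, inc_trans, inc_trans]

theorem exists_root {A : Type u} [CommRing A] (f : (colimit (tower A) : CommRingCat.{u})[X]) (hf : f.Monic)
    (hd : 0 < f.natDegree) : ∃ b, f.IsRoot b := by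
  obtain ⟨n, q, hq⟩ := exists_lift f
  obtain ⟨g, hg, hgd, hgm⟩ := lifts_and_natDegree_eq_and_monic (f := inc A n) (p := f) ⟨q, hq⟩ hf
  let P : Mon (stage A n) := ⟨g, hgm, hgd ▸ hd⟩
  let x : stage A (n + 1) := Ideal.Quotient.mk (J (stage A n)) (MvPolynomial.X P)
  have hx : eval₂ (stepHom A n).hom x g = 0 := by
    show eval₂ ((Ideal.Quotient.mk (J (stage A n))).comp (algebraMap (stage A n) (MvPolynomial (Mon (stage A n)) (stage A n))))
      (Ideal.Quotient.mk (J (stage A n)) (MvPolynomial.X P)) g = 0
    rw [← hom_eval₂, ← aeval_def]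
    exact Ideal.Quotient.eq_zero_iff_mem.2 (Ideal.subset_span ⟨P, rfl⟩)
  refine ⟨inc A (n + 1) x, ?_⟩
  rw [← hg, IsRoot.def, Polynomial.eval_map, ← inc_step A n, ← hom_eval₂, hx]
  exact map_zero _

theorem splits_of_root {B : Type u} [CommRing B] (h : ∀ f : B[X], f.Monic → 0 < f.natDegree → ∃ b, f.IsRoot b) :
    ∀ f : B[X], f.Monic → ∃ s : Multiset B, f = (s.map fun b => X - C b).prod := by
  intro f
  induction hd : f.natDegree generalizing f with
  | zero => intro hf; exact ⟨0, by simpa using hf.natDegree_eq_zero.1 hd⟩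
  | succ d ih =>
    intro hf
    rcases subsingleton_or_nontrivial B with hB | hB
    · exact ⟨0, Subsingleton.elim _ _⟩
    obtain ⟨b, hb⟩ := h f hf (by omega)
    have e := mul_divByMonic_eq_iff_isRoot.2 hb
    have hg : (f /ₘ (X - C b)).Monic := (monic_X_sub_C b).of_mul_monic_left (e.symm ▸ hf)
    obtain ⟨s, hs⟩ := ih _ (by rw [natDegree_divByMonic f (monic_X_sub_C b), natDegree_X_sub_C, hd]; rfl) hg
    refine ⟨b ::ₘ s, ?_⟩
    rw [Multiset.map_cons, Multiset.prod_cons, ← hs, e]

/-- Every commutative ring `A` admits an injective ring map into an absolutely integrally closed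
commutative ring `B`, that is, one over which every monic polynomial is a product of linear factors
`X - b`. (Only the existence of such an extension is stated, not the finer structure of the
construction.) -/
theorem result (A : Type u) [CommRing A] :
    ∃ (B : Type u) (_ : CommRing B) (_ : Algebra A B), Function.Injective (algebraMap A B) ∧
      ∀ f : B[X], f.Monic → ∃ s : Multiset B, f = (s.map fun b => X - C b).prod := by
  letI : Algebra A (colimit (tower A) : CommRingCat.{u}) := (colimit.ι (tower A) 0).hom.toAlgebra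
  refine ⟨(colimit (tower A) : CommRingCat.{u}), inferInstance, inferInstance, ?_, splits_of_root fun f hf hd => exists_root f hf hd⟩
  intro x y hxy
  obtain ⟨k, f, g, hk⟩ := Concrete.colimit_exists_of_rep_eq (tower A) (i := 0) (j := 0) (x : (tower A).obj 0) (y : (tower A).obj 0) hxy
  rw [Subsingleton.elim g f] at hk
  exact tower_inj A 0 k f hk

end Groth.Agent.S12077
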