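import Groth.Statements.S12078
import Mathlib.RingTheory.Bezout
import Mathlib.Algebra.BigOperators.Fin
import Mathlib.LinearAlgebra.Matrix.Notation
import Mathlib.Data.Matrix.Mul

set_option autoImplicit false
universe u
open CAlg

namespace Groth.Agent.S12078

/-- An elementary divisor domain is Bézout. Here `R` is a domain such that for all `n, m ≥ 1` and every
`n × m` matrix `A` there are invertible matrices `U` (`n × n`) and `V` (`m × m`) with `U * A * V`
zero off the diagonal and with diagonal entries `f 0 ∣ f 1 ∣ f 2 ∣ …`; the conclusion is that every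
finitely generated ideal of `R` is principal. -/
theorem result (R : Type u) [CommRing R] [IsDomain R]
    (hR : ∀ n m : ℕ, 1 ≤ n → 1 ≤ m → ∀ A : Matrix (Fin n) (Fin m) R,
      ∃ (U : (Matrix (Fin n) (Fin n) R)ˣ) (V : (Matrix (Fin m) (Fin m) R)ˣ) (f : ℕ → R),
        (∀ k : ℕ, f k ∣ f (k + 1)) ∧
        ∀ (i : Fin n) (j : Fin m), ((U : Matrix (Fin n) (Fin n) R) * A * (V : Matrix (Fin m) (Fin m) R)) i j =
          if (i : ℕ) = (j : ℕ) then f i else 0) :
    IsBezout R := by
  rw [IsBezout.iff_span_pair_isPrincipal]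
  intro x y
  obtain ⟨U, V, f, -, hf⟩ := hR 1 2 le_rfl (by norm_num) (Matrix.of ![![x, y]])
  let z := f 0
  have hd : ∀ (i : Fin 1) (j : Fin 2), z ∣ ((U : Matrix (Fin 1) (Fin 1) R) * (Matrix.of ![![x, y]]) * (V : Matrix (Fin 2) (Fin 2) R)) i j := by
    intro i j
    rw [hf]
    have h0 : (i : ℕ) = 0 := by omega
    rw [h0]
    split_ifs
    · exact dvd_rfl
    · exact dvd_zero _
  have hmem : z ∈ Ideal.span {x, y} := by
    have h := hf 0 0
    rw [if_pos (show ((0 : Fin 1) : ℕ) = ((0 : Fin 2) : ℕ) from rfl), Matrix.mul_apply] at h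
    rw [show z = f ((0 : Fin 1) : ℕ) from rfl, ← h]
    simp only [Matrix.mul_apply, Fin.sum_univ_two, Fin.sum_univ_one]
    refine Ideal.add_mem _ (Ideal.mul_mem_right _ _ (Ideal.mul_mem_left _ _ (Ideal.subset_span (by simp))))
      (Ideal.mul_mem_right _ _ (Ideal.mul_mem_left _ _ (Ideal.subset_span (by simp))))
  have hdvd : ∀ (i : Fin 1) (j : Fin 2), z ∣ (Matrix.of ![![x, y]]) i j := by
    intro i j
    have e : (Matrix.of ![![x, y]]) = (↑U⁻¹ : Matrix (Fin 1) (Fin 1) R) * ((U : Matrix (Fin 1) (Fin 1) R) * (Matrix.of ![![x, y]]) * (V : Matrix (Fin 2) (Fin 2) R)) * (↑V⁻¹ : Matrix (Fin 2) (Fin 2) R) := by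
      rw [← Matrix.mul_assoc, ← Matrix.mul_assoc, Units.inv_mul, Matrix.one_mul, Matrix.mul_assoc, Units.mul_inv, Matrix.mul_one]
    rw [e, Matrix.mul_apply]
    refine Finset.dvd_sum fun l _ => Dvd.dvd.mul_right ?_ _
    rw [Matrix.mul_apply]
    exact Finset.dvd_sum fun l' _ => Dvd.dvd.mul_left (hd _ _) _
  refine ⟨z, le_antisymm (Ideal.span_le.mpr ?_) (Ideal.span_le.mpr (Set.singleton_subset_iff.mpr hmem))⟩
  intro w hw
  rcases hw with rfl | rfl
  · exact Ideal.mem_span_singleton.mpr (hdvd 0 0)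
  · exact Ideal.mem_span_singleton.mpr (hdvd 0 1)

end Groth.Agent.S12078
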