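import Groth.Statements.S12079
import Mathlib

set_option autoImplicit false
universe u
open TensorProduct
open CAlg

namespace Groth.Agent.S12079

open TensorProduct in
lemma aux {R : Type u} [CommRing R] {M N L : Type u} [AddCommGroup M] [Module R M] [AddCommGroup N] [Module R N]
    [AddCommGroup L] [Module R L] [Module.Flat R L] {n m : ℕ}
    (π : (Fin n → R) →ₗ[R] M) (hπ : Function.Surjective π)
    (ρ : (Fin m → R) →ₗ[R] (Fin n → R)) (hρ : LinearMap.range ρ = LinearMap.ker π) :
    Function.Bijective (TensorProduct.rTensorHomToHomRTensor (RingHom.id R) M N L) := by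
  let A := LinearMap.lcomp R N π
  let B := LinearMap.lcomp R N ρ
  have hA : Function.Injective A := fun a b hab => LinearMap.ext fun x => by
    obtain ⟨y, rfl⟩ := hπ x
    exact LinearMap.congr_fun hab y
  have hexρ : Function.Exact ρ π := LinearMap.exact_iff.2 hρ.symm
  have hex : Function.Exact A B := by
    intro φ
    refine ⟨fun h => ?_, ?_⟩
    · have hker : LinearMap.ker π ≤ LinearMap.ker φ := by
        rw [← hρ]
        rintro _ ⟨y, rfl⟩
        exact LinearMap.congr_fun h y
      refine ⟨(LinearMap.ker π).liftQ φ hker ∘ₗ (LinearMap.quotKerEquivOfSurjective π hπ).symm.toLinearMap, ?_⟩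
      refine LinearMap.ext fun y => ?_
      show (LinearMap.ker π).liftQ φ hker ((LinearMap.quotKerEquivOfSurjective π hπ).symm (π y)) = φ y
      rw [show (LinearMap.quotKerEquivOfSurjective π hπ).symm (π y) = Submodule.Quotient.mk y from
        (LinearEquiv.symm_apply_eq _).2 rfl]
      rfl
    · rintro ⟨ψ, rfl⟩
      refine LinearMap.ext fun y => ?_
      show ψ (π (ρ y)) = 0
      rw [hexρ.apply_apply_eq_zero, map_zero]
  have hbij : ∀ k : ℕ, Function.Bijective
      (TensorProduct.rTensorHomToHomRTensor (RingHom.id R) (Fin k → R) N L) := fun k => by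
    rw [← rTensorHomEquivHomRTensor_toLinearMap]
    exact (rTensorHomEquivHomRTensor R (Fin k → R) N L).bijective
  have hnat : ∀ {P Q : Type u} [AddCommGroup P] [Module R P] [AddCommGroup Q] [Module R Q] (g : P →ₗ[R] Q)
      (z : (Q →ₗ[R] N) ⊗[R] L),
      (TensorProduct.rTensorHomToHomRTensor (RingHom.id R) P N L) ((LinearMap.lcomp R N g).rTensor L z) =
        (TensorProduct.rTensorHomToHomRTensor (RingHom.id R) Q N L z).comp g := by
    intro P Q _ _ _ _ g z
    induction z using TensorProduct.induction_on with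
    | zero => simp
    | tmul a b => ext; rfl
    | add a b ha hb => simp only [map_add, LinearMap.add_comp, ha, hb]
  refine ⟨fun x y hxy => ?_, fun t => ?_⟩
  · refine Module.Flat.rTensor_preserves_injective_linearMap A hA ((hbij n).1 ?_)
    rw [hnat, hnat, hxy]
  · obtain ⟨z, hz⟩ := (hbij n).2 (t.comp π)
    have hz0 : B.rTensor L z = 0 := (hbij m).1 (by
      rw [hnat, hz, map_zero]
      refine LinearMap.ext fun y => ?_
      show t (π (ρ y)) = 0
      rw [hexρ.apply_apply_eq_zero, map_zero])
    obtain ⟨w, hw⟩ := (Module.Flat.rTensor_exact L hex z).1 hz0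
    refine ⟨w, LinearMap.ext fun x => ?_⟩
    obtain ⟨y, rfl⟩ := hπ x
    rw [← hw, hnat] at hz
    exact LinearMap.congr_fun hz y

/-- For a finitely presented `R`-module `M`, any `R`-module `N` and a flat `R`-module `L`, the canonical
map `Hom_R(M, N) ⊗_R L → Hom_R(M, N ⊗_R L)` sending `f ⊗ l` to `m ↦ f m ⊗ l` is bijective. -/
theorem result (R : Type u) [CommRing R]
    (M N L : Type u) [AddCommGroup M] [Module R M] [AddCommGroup N] [Module R N] [AddCommGroup L] [Module R L]
    [Module.FinitePresentation R M] [Module.Flat R L] :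
    Function.Bijective (TensorProduct.rTensorHomToHomRTensor (RingHom.id R) M N L) := by
  obtain ⟨n, π, hπ⟩ := Module.Finite.exists_fin' R M
  obtain ⟨m, ρ, hρ⟩ : ∃ (m : ℕ) (ρ : (Fin m → R) →ₗ[R] (Fin n → R)), LinearMap.range ρ = LinearMap.ker π := by
    haveI : Module.Finite R (LinearMap.ker π) :=
      Module.Finite.iff_fg.2 (Module.FinitePresentation.fg_ker π hπ)
    obtain ⟨m, g, hg⟩ := Module.Finite.exists_fin' R (LinearMap.ker π)
    exact ⟨m, (LinearMap.ker π).subtype ∘ₗ g, by
      rw [LinearMap.range_comp, LinearMap.range_eq_top.2 hg, Submodule.map_top, Submodule.range_subtype]⟩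
  exact aux π hπ ρ hρ

end Groth.Agent.S12079
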