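import Groth.Statements.S12080
import Mathlib.RingTheory.PicardGroup
import Mathlib.RingTheory.LocalProperties.FinitePresentation
import Mathlib.RingTheory.Localization.Module

set_option autoImplicit false
universe u
open TensorProduct
open CAlg

namespace Groth.Agent.S12080

/-- (1) ⇒ (2): let `M` be a finite locally free `R`-module of rank `1`, i.e. there is a set `s ⊆ R`
generating the unit ideal with `M_f ≅ R_f` as `R_f`-modules for every `f ∈ s`. Then the evaluation
map `Hom_R(M, R) ⊗_R M → R` is bijective, so `M` is invertible with inverse its dual. -/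
theorem result (R : Type u) [CommRing R] (M : Type u) [AddCommGroup M]
    [Module R M] (s : Set R) (hs : Ideal.span s = ⊤)
    (hfree : ∀ f ∈ s, Nonempty (LocalizedModule.Away f M ≃ₗ[Localization.Away f] Localization.Away f)) :
    Module.Invertible R M := by
  classical
  have hFP : Module.FinitePresentation R M := Module.FinitePresentation.of_localizationSpan (M := M) s hs fun f => by
    obtain ⟨e⟩ := hfree f.1 f.2
    exact Module.FinitePresentation.of_equiv e.symm
  have hzero : ∀ z : M, (∀ f ∈ s, ∃ n : ℕ, f ^ n • z = 0) → z = 0 := by
    intro z hz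
    let I : Ideal R := LinearMap.ker (LinearMap.toSpanSingleton R M z)
    have : I.radical = ⊤ := by
      rw [eq_top_iff, ← hs, Ideal.span_le]
      intro f hf
      obtain ⟨n, hn⟩ := hz f hf
      exact ⟨n, hn⟩
    rw [Ideal.radical_eq_top, Ideal.eq_top_iff_one] at this
    simpa [I] using this
  have hsym : ∀ (g : Module.Dual R M) (a b : M), g a • b = g b • a := by
    intro g a b
    rw [← sub_eq_zero]
    refine hzero _ fun f hf => ?_
    obtain ⟨e⟩ := hfree f hf
    let mk := LocalizedModule.mkLinearMap (Submonoid.powers f) M
    let G := IsLocalizedModule.mapExtendScalars (Submonoid.powers f) mk (Algebra.linearMap R (Localization.Away f)) (Localization.Away f) g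
    have hG : ∀ x, G (mk x) = algebraMap R (Localization.Away f) (g x) := fun x =>
      IsLocalizedModule.map_apply (Submonoid.powers f) mk (Algebra.linearMap R (Localization.Away f)) g x
    have hlin : ∀ y, G y = e y * G (e.symm 1) := fun y => by
      rw [← smul_eq_mul, ← map_smul, ← map_smul, smul_eq_mul, mul_one, LinearEquiv.symm_apply_apply]
    have : mk (g a • b - g b • a) = 0 := by
      apply e.injective
      rw [map_zero, map_sub, map_smul, map_smul, ← algebraMap_smul (Localization.Away f) (g a), ← algebraMap_smul (Localization.Away f) (g b),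
        map_sub, map_smul, map_smul, ← hG, ← hG, hlin (mk a), hlin (mk b), smul_eq_mul, smul_eq_mul]
      ring
    obtain ⟨⟨_, n, rfl⟩, hn⟩ := (IsLocalizedModule.eq_zero_iff (Submonoid.powers f) mk).mp this
    exact ⟨n, hn⟩
  have hone : ∃ t : Module.Dual R M ⊗[R] M, contractLeft R M t = 1 := by
    have : LinearMap.range (contractLeft R M) = ⊤ := by
      let J : Ideal R := LinearMap.range (contractLeft R M)
      change J = ⊤
      have : J.radical = ⊤ := by
        rw [eq_top_iff, ← hs, Ideal.span_le]
        intro f hf
        obtain ⟨e⟩ := hfree f hf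
        let mk := LocalizedModule.mkLinearMap (Submonoid.powers f) M
        obtain ⟨g, ⟨c, hc0⟩, hgc⟩ := Module.FinitePresentation.exists_lift_of_isLocalizedModule (Submonoid.powers f)
          (Algebra.linearMap R (Localization.Away f)) ((e.restrictScalars R).toLinearMap ∘ₗ mk)
        obtain ⟨i, rfl⟩ := hc0
        obtain ⟨⟨x, ⟨_, j, rfl⟩⟩, hx⟩ := IsLocalizedModule.surj (Submonoid.powers f) mk (e.symm 1)
        have h1 : algebraMap R (Localization.Away f) (g x) = algebraMap R (Localization.Away f) (f ^ (i + j)) := by
          have h2 := LinearMap.congr_fun hgc x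
          have hx' : e (mk x) = algebraMap R (Localization.Away f) (f ^ j) := by
            rw [← hx]
            show e ((f ^ j : R) • e.symm 1) = _
            rw [← algebraMap_smul (Localization.Away f) (f ^ j), map_smul, LinearEquiv.apply_symm_apply, smul_eq_mul, mul_one]
          simp only [LinearMap.comp_apply, Algebra.linearMap_apply, LinearMap.smul_apply, LinearEquiv.coe_coe, LinearEquiv.restrictScalars_apply] at h2
          rw [h2, hx']
          show (f ^ i : R) • algebraMap R (Localization.Away f) (f ^ j) = _
          rw [Algebra.smul_def, ← map_mul, pow_add]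
        obtain ⟨⟨_, k, rfl⟩, hk⟩ := (IsLocalization.eq_iff_exists (Submonoid.powers f) (Localization.Away f)).mp h1
        refine ⟨k + (i + j), ?_⟩
        rw [pow_add, ← hk, ← smul_eq_mul]
        exact Submodule.smul_mem (LinearMap.range (contractLeft R M)) _ ⟨g ⊗ₜ x, contractLeft_apply g x⟩
      exact Ideal.radical_eq_top.mp this
    exact (this ▸ Submodule.mem_top : (1 : R) ∈ LinearMap.range (contractLeft R M))
  obtain ⟨t, ht⟩ := hone
  refine ⟨⟨?_, fun r => ⟨r • t, by rw [map_smul, ht, smul_eq_mul, mul_one]⟩⟩⟩
  have key : ∀ u t : Module.Dual R M ⊗[R] M, contractLeft R M u • t = contractLeft R M t • u := by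
    intro u t
    induction u with
    | zero => simp
    | add x y hx hy => simp [add_smul, smul_add, hx, hy]
    | tmul φ y =>
      induction t with
      | zero => simp
      | add x z hx hz => rw [map_add, add_smul, smul_add, hx, hz]
      | tmul g m =>
        simp only [contractLeft_apply]
        have hφ : φ m • g = g m • φ := by
          ext z
          simp only [LinearMap.smul_apply, smul_eq_mul]
          have := congrArg φ (hsym g z m)
          simp only [map_smul, smul_eq_mul] at this
          rw [mul_comm, this]
        rw [← TensorProduct.tmul_smul, ← hsym φ m y, TensorProduct.tmul_smul, TensorProduct.smul_tmul', hφ,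
          TensorProduct.smul_tmul']
  intro u v huv
  have hu := key u t
  have hv := key v t
  rw [ht, one_smul] at hu hv
  rw [← hu, ← hv, huv]

end Groth.Agent.S12080
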