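import Groth.Statements.S12081
import Groth.Agent.MilnorLib.Basic

set_option autoImplicit false
universe u
open TensorProduct
open EtAlg

namespace Groth.Agent.S12081

/-- Let `B' = B ×_A A'` be a fibre square of rings with `A' → A` surjective with kernel `I`, let `J =
Ker(B' → B)`, let `D'` be a `B'`-algebra and `C' = D' ⊗_{B'} A'`. Then the ideal `I C'` is, as a
subset of `C'`, the image of the ideal `J D'` under `D' → C'`; that is, the map `J D' → I C'` is
surjective. -/
theorem result (B' B A' A : Type u) [CommRing B'] [CommRing B] [CommRing A'] [CommRing A]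
    [Algebra B' B] [Algebra B' A'] [Algebra B A] [Algebra A' A] [Algebra B' A] [IsScalarTower B' B A] [IsScalarTower B' A' A]
    (hsq : EtMil.IsFibreSquare B' B A' A)
    (D' C' : Type u) [CommRing D'] [CommRing C'] [Algebra B' D'] [Algebra A' C']
    [Algebra D' C'] [Algebra B' C'] [IsScalarTower B' A' C'] [IsScalarTower B' D' C'] [Algebra.IsPushout B' A' D' C'] :
    (algebraMap D' C') '' ((RingHom.ker (algebraMap B' B)).map (algebraMap B' D') : Set D') =
      ((RingHom.ker (algebraMap A' A)).map (algebraMap A' C') : Set C') := by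
  apply Set.Subset.antisymm
  · rintro _ ⟨d, hd, rfl⟩
    have h := Ideal.mem_map_of_mem (algebraMap D' C') (SetLike.mem_coe.1 hd)
    rw [Ideal.map_map, ← IsScalarTower.algebraMap_eq, IsScalarTower.algebraMap_eq B' A' C', ← Ideal.map_map] at h
    refine Ideal.map_mono ?_ h
    rw [Ideal.map_le_iff_le_comap]
    intro j hj
    exact MilnorLib.map_mem_ker hj
  · intro c hc
    let P : Ideal D' := (RingHom.ker (algebraMap B' B)).map (algebraMap B' D')
    suffices ∀ i ∈ RingHom.ker (algebraMap A' A), ∀ x : C', ∃ d ∈ P, algebraMap D' C' d = algebraMap A' C' i * x by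
      have h : ∀ x, x ∈ (RingHom.ker (algebraMap A' A)).map (algebraMap A' C') → ∀ y, ∃ d ∈ P, algebraMap D' C' d = x * y := by
        intro x hx
        induction hx using Submodule.span_induction with
        | mem x hx => obtain ⟨i, hi, rfl⟩ := hx; exact this i hi
        | zero => exact fun y => ⟨0, zero_mem _, by simp⟩
        | add a b _ _ ha hb =>
          intro y
          obtain ⟨d, hd, hd'⟩ := ha y
          obtain ⟨e, he, he'⟩ := hb y
          exact ⟨d + e, add_mem hd he, by rw [map_add, hd', he', add_mul]⟩
        | smul r a _ ha =>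
          intro y
          obtain ⟨d, hd, hd'⟩ := ha (r * y)
          exact ⟨d, hd, by rw [hd', smul_eq_mul]; ring⟩
      obtain ⟨d, hd, hd'⟩ := h c hc 1
      exact ⟨d, hd, by rw [hd', mul_one]⟩
    intro i hi x
    revert i
    have hC : Algebra.IsPushout B' A' D' C' := inferInstance
    induction x using hC.out.inductionOn with
    | tmul d =>
      intro i hi
      obtain ⟨j, hj, rfl⟩ := MilnorLib.exists_lift_ker hsq hi
      refine ⟨algebraMap B' D' j * d, Ideal.mul_mem_right _ _ (Ideal.mem_map_of_mem _ hj), ?_⟩
      rw [map_mul, ← IsScalarTower.algebraMap_apply, ← IsScalarTower.algebraMap_apply]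
      rfl
    | zero => exact fun i _ => ⟨0, zero_mem _, by simp⟩
    | smul a x hx =>
      intro i hi
      obtain ⟨d, hd, hd'⟩ := hx (i * a) (Ideal.mul_mem_right a _ hi)
      exact ⟨d, hd, by rw [hd', map_mul, Algebra.smul_def, mul_assoc]⟩
    | add x y hx hy =>
      intro i hi
      obtain ⟨d, hd, hd'⟩ := hx i hi
      obtain ⟨e, he, he'⟩ := hy i hi
      exact ⟨d + e, add_mem hd he, by rw [map_add, hd', he', mul_add]⟩

end Groth.Agent.S12081
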