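import Groth.Statements.S12085
import Groth.Agent.LimSch.DescendsSmooth
import Mathlib

set_option autoImplicit false
universe u
open TensorProduct
open CAlg

namespace Groth.Agent.S12085

/-- If `R → S` is G-unramified (of finite presentation and formally unramified), then there are a finite
type `ℤ`-algebra `R₀`, a ring map `R₀ → R` and a G-unramified ring map `R₀ → S₀` such that `S ≅ R
⊗_{R₀} S₀` as `R`-algebras (existence of an isomorphism). -/
theorem result (R : Type u) [CommRing R] (S : Type u) [CommRing S]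
    [Algebra R S] [Algebra.FinitePresentation R S] [Algebra.FormallyUnramified R S] :
    ∃ (R₀ : Type u) (_ : CommRing R₀) (_ : Algebra.FiniteType ℤ R₀) (S₀ : Type u) (_ : CommRing S₀)
      (_ : Algebra R₀ S₀) (_ : Algebra.FinitePresentation R₀ S₀) (_ : Algebra.FormallyUnramified R₀ S₀)
      (_ : Algebra R₀ R), Nonempty (R ⊗[R₀] S₀ ≃ₐ[R] S) := by
  classical
  let P := Algebra.Presentation.ofFinitePresentation R S
  let A₀ := Algebra.adjoin ℤ P.coeffs
  haveI : P.HasCoeffs A₀ := ⟨by simp [A₀]⟩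
  have hA₀ : A₀.FG := ⟨P.finite_coeffs.toFinset, by simp [A₀]⟩
  let C₀ := P.ModelOfHasCoeffs A₀
  let e : R ⊗[A₀] C₀ ≃ₐ[R] S := P.tensorModelOfHasCoeffsEquiv A₀
  let ι := {B : Subalgebra A₀ R // B.FG}
  haveI : Nonempty ι := ⟨⟨⊥, Subalgebra.fg_bot⟩⟩
  let G : ι → Type u := fun B => B.1
  let g : ∀ B : ι, G B →ₐ[A₀] R := fun B => B.1.val
  have hd : EtSmColim.Directed g := fun B C =>
    ⟨⟨B.1 ⊔ C.1, B.2.sup C.2⟩, ⟨⟨Subalgebra.inclusion le_sup_left, AlgHom.ext fun _ => rfl⟩⟩,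
      ⟨⟨Subalgebra.inclusion le_sup_right, AlgHom.ext fun _ => rfl⟩⟩⟩
  have hs : ∀ a : R, ∃ j, ∃ x : G j, g j x = a := fun a =>
    ⟨⟨Algebra.adjoin A₀ {a}, ⟨{a}, by simp⟩⟩, ⟨a, Algebra.self_mem_adjoin_singleton _ a⟩, rfl⟩
  have hk : ∀ j (x : G j), g j x = 0 → ∃ l, ∃ a : EtSmColim.Step g j l, a.hom x = 0 := fun j x hx =>
    ⟨j, EtSmColim.Step.refl j, Subtype.ext hx⟩
  haveI : Algebra.FormallyUnramified R (R ⊗[A₀] C₀) := Algebra.FormallyUnramified.of_equiv e.symm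
  obtain ⟨j, -, hj⟩ := EtSmColim.exists_formallyUnramified hd hs hk A₀ C₀ (⟨⊥, Subalgebra.fg_bot⟩ : ι)
    ((LimSch.formallyUnramified_lid_iff A₀ R C₀).1 inferInstance)
  haveI := (LimSch.formallyUnramified_lid_iff A₀ (G j) C₀).2 hj
  haveI : Algebra.FiniteType ℤ A₀ := (Subalgebra.fg_iff_finiteType A₀).1 hA₀
  haveI : Algebra.FiniteType A₀ j.1 := (Subalgebra.fg_iff_finiteType j.1).1 j.2
  haveI h1 : Algebra.FiniteType ℤ j.1 := Algebra.FiniteType.trans (R := ℤ) (S := A₀) (A := j.1) inferInstance inferInstance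
  exact ⟨j.1, inferInstance, by convert h1, j.1 ⊗[A₀] C₀, inferInstance, inferInstance, inferInstance,
    inferInstanceAs (Algebra.FormallyUnramified (G j) (G j ⊗[A₀] C₀)), inferInstance,
    ⟨(Algebra.TensorProduct.cancelBaseChange A₀ j.1 R R C₀).trans e⟩⟩

end Groth.Agent.S12085
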