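import Groth.Statements.S12091
-- import your own Groth.Agent.* helpers here

set_option autoImplicit false
universe u
open TensorProduct MvPolynomial
open FlatMor

namespace Groth.Agent.S12091

/-- Let `x_1, …, x_m` generate the `A`-module `M`, let `K ⊆ A^m` be the module of relations, `C =
Sym_A(M)` and `α : A[y_1, …, y_m] → C` the presentation with `y_j ↦ x_j`, with kernel `J`. Then the
`C`-linear map `C ⊗_A K → J/J²` sending `1 ⊗ k` to the class of `Σ_j k_j y_j` is surjective, and it
is bijective when `M` is a projective `A`-module (so that then `J/J² ≅ K ⊗_A C` and the naive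
cotangent complex of `α` is `K ⊗_A C → ⊕_j C dy_j`). (The published statement asserts `J/J² ≅ K ⊗_A
C` for every `M`. For `A = ℤ`, `M = (ℤ/2)²`, `m = 2` and the two unit vectors, `K = 2ℤ²` and the
element `y_2 ⊗ (2, 0) - y_1 ⊗ (0, 2)` of `C ⊗_A K` is non-zero but maps to the class of `y_2 · 2y_1
- y_1 · 2y_2 = 0`; in degree `2` the graded piece of `J/J²` has `8` elements and that of `K ⊗_A C`
has `16`. The published degree-by-degree computation does show that `J` is generated by the linear
forms coming from `K`, which is the surjectivity, and it is valid as written when `0 → K → A^m → M →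
0` splits, which is the projective case.) -/
theorem result (A : Type u) [CommRing A] (M : Type u)
    [AddCommGroup M] [Module A M] (m : ℕ) (x : Fin m → M)
    (hx : Function.Surjective (Fintype.linearCombination A x))
    (G : Algebra.Generators A (SymmetricAlgebra A M) (Fin m))
    (hG : ∀ j, G.val j = SymmetricAlgebra.ι A M (x j)) :
    ∃ e : SymmetricAlgebra A M ⊗[A] (LinearMap.ker (Fintype.linearCombination A x)) →ₗ[SymmetricAlgebra A M]
        G.toExtension.Cotangent,
      (∀ (k : LinearMap.ker (Fintype.linearCombination A x))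
        (hk : (∑ j, C ((k : Fin m → A) j) * X j : MvPolynomial (Fin m) A) ∈ G.toExtension.ker),
        e (1 ⊗ₜ k) = Algebra.Extension.Cotangent.mk ⟨_, hk⟩) ∧
      Function.Surjective e ∧ (Module.Projective A M → Function.Bijective e) := by
  classical
  let S := SymmetricAlgebra A M
  let P := MvPolynomial (Fin m) A
  let K := LinearMap.ker (Fintype.linearCombination A x)
  let ι := SymmetricAlgebra.ι A M
  let lin : (Fin m → A) →ₗ[A] P := Fintype.linearCombination A fun j => (X j : P)
  have hlin : ∀ k : Fin m → A, lin k = ∑ j, C (k j) * X j := fun k => by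
    simp only [lin, Fintype.linearCombination_apply]
    exact Finset.sum_congr rfl fun j _ => MvPolynomial.smul_eq_C_mul (X j) (k j)
  have haev : ∀ k : Fin m → A, aeval G.val (lin k) = ι (Fintype.linearCombination A x k) := fun k => by
    simp only [lin, Fintype.linearCombination_apply, map_sum, map_smul, aeval_X, hG, ι]
  have hkerG : G.toExtension.ker = RingHom.ker (aeval (R := A) G.val) := G.ker_eq_ker_aeval_val
  have hmem : ∀ k : K, lin k ∈ G.toExtension.ker := fun k => by
    have h1 : aeval G.val (lin k) = 0 := by rw [haev, LinearMap.mem_ker.1 k.2, map_zero]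
    rw [hkerG]
    exact h1
  let linK : K →ₗ[A] G.toExtension.Cotangent :=
    { toFun := fun k => Algebra.Extension.Cotangent.mk ⟨lin k, hmem k⟩
      map_add' := fun k k' => by
        rw [← map_add]
        exact congrArg _ (Subtype.ext (map_add lin _ _))
      map_smul' := fun a k => by
        rw [RingHom.id_apply, ← algebraMap_smul G.toExtension.Ring a (Algebra.Extension.Cotangent.mk _)]
        erw [← map_smul]
        refine congrArg _ (Subtype.ext ?_)
        show lin (a • (k : Fin m → A)) = algebraMap A P a * lin k
        rw [map_smul, Algebra.smul_def] }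
  let e : S ⊗[A] K →ₗ[S] G.toExtension.Cotangent := linK.liftBaseChange S
  have he : ∀ k : K, e (1 ⊗ₜ k) = Algebra.Extension.Cotangent.mk ⟨lin k, hmem k⟩ := fun k => by
    rw [LinearMap.liftBaseChange_tmul, one_smul]
    rfl
  have hsurj : Function.Surjective e := by
    let L : Ideal P := Ideal.span (Set.range fun k : K => lin k)
    let μ : (Fin m → A) →ₗ[A] P ⧸ L := (Ideal.Quotient.mkₐ A L).toLinearMap ∘ₗ lin
    have hμ : K ≤ LinearMap.ker μ := fun k hk =>
      Ideal.Quotient.eq_zero_iff_mem.2 (Ideal.subset_span ⟨⟨k, hk⟩, rfl⟩)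
    let q := (Fintype.linearCombination A x).quotKerEquivOfSurjective hx
    let ν : M →ₗ[A] P ⧸ L := K.liftQ μ hμ ∘ₗ q.symm.toLinearMap
    have hν : ∀ k, ν (Fintype.linearCombination A x k) = μ k := fun k => by
      show K.liftQ μ hμ (q.symm (Fintype.linearCombination A x k)) = _
      rw [show Fintype.linearCombination A x k = q (Submodule.Quotient.mk k) from rfl, LinearEquiv.symm_apply_apply]
      rfl
    let g : S →ₐ[A] P ⧸ L := SymmetricAlgebra.lift ν
    have hg : g.comp (aeval G.val) = Ideal.Quotient.mkₐ A L := by
      refine MvPolynomial.algHom_ext fun j => ?_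
      show g (aeval G.val (X j)) = _
      rw [aeval_X, hG, SymmetricAlgebra.lift_ι_apply,
        show x j = Fintype.linearCombination A x (Pi.single j 1) by rw [Fintype.linearCombination_apply_single, one_smul],
        hν]
      show Ideal.Quotient.mk L (lin (Pi.single j 1)) = _
      rw [show lin (Pi.single j 1) = X j by simp [lin, Fintype.linearCombination_apply_single]]
      rfl
    have hle : G.toExtension.ker ≤ L := fun f hf => by
      rw [hkerG] at hf
      refine Ideal.Quotient.eq_zero_iff_mem.1 ?_
      exact ((AlgHom.congr_fun hg f).symm.trans (congrArg g (RingHom.mem_ker.1 hf))).trans (map_zero g)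
    intro z
    obtain ⟨⟨f, hf⟩, rfl⟩ := Algebra.Extension.Cotangent.mk_surjective z
    suffices key : ∀ f ∈ L, ∃ hf : f ∈ G.toExtension.ker, ∃ w, e w = Algebra.Extension.Cotangent.mk ⟨f, hf⟩ by
      obtain ⟨hf', w, hw⟩ := key f (hle hf)
      exact ⟨w, hw⟩
    intro f hf
    induction hf using Submodule.span_induction with
    | mem f hf =>
      obtain ⟨k, rfl⟩ := hf
      exact ⟨hmem k, 1 ⊗ₜ k, he k⟩
    | zero => exact ⟨zero_mem _, 0, (map_zero e).trans (map_zero Algebra.Extension.Cotangent.mk).symm⟩
    | add f g _ _ hf hg =>
      obtain ⟨hf, w, hw⟩ := hf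
      obtain ⟨hg, w', hw'⟩ := hg
      refine ⟨add_mem hf hg, w + w', ?_⟩
      rw [map_add, hw, hw', ← map_add]
      rfl
    | smul b f _ hf =>
      obtain ⟨hf, w, hw⟩ := hf
      refine ⟨Ideal.mul_mem_left _ b hf, aeval G.val b • w, ?_⟩
      rw [map_smul, hw]
      refine Eq.trans ?_ (map_smul (Algebra.Extension.Cotangent.mk (P := G.toExtension)) (show G.toExtension.Ring from b) (⟨f, hf⟩ : G.toExtension.ker)).symm
      exact (congrArg (· • Algebra.Extension.Cotangent.mk (P := G.toExtension) ⟨f, hf⟩) (G.algebraMap_apply b).symm).trans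
        (algebraMap_smul (R := G.toExtension.Ring) (M := G.toExtension.Cotangent) S (show G.toExtension.Ring from b) _)
  refine ⟨e, fun k hk => ?_, hsurj, fun hproj => ⟨?_, hsurj⟩⟩
  · rw [he]
    exact congrArg _ (Subtype.ext (hlin k))
  · obtain ⟨s, hs⟩ := Module.projective_lifting_property (Fintype.linearCombination A x) LinearMap.id hx
    let r : (Fin m → A) →ₗ[A] K :=
      (LinearMap.id - s ∘ₗ Fintype.linearCombination A x).codRestrict K fun v => by
        rw [LinearMap.mem_ker, LinearMap.sub_apply, map_sub, LinearMap.comp_apply]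
        have h1 := LinearMap.congr_fun hs (Fintype.linearCombination A x v)
        simp only [LinearMap.comp_apply, LinearMap.id_apply] at h1 ⊢
        rw [h1, sub_self]
    let T : G.toExtension.CotangentSpace →ₗ[S] S ⊗[A] K :=
      G.cotangentSpaceBasis.constr S fun j => (1 : S) ⊗ₜ[A] r (Pi.single j 1)
    let d := T ∘ₗ G.toExtension.cotangentComplex
    have hd : d ∘ₗ e = LinearMap.id := by
      refine TensorProduct.AlgebraTensorModule.ext fun c k => ?_
      have h1 : d (e (1 ⊗ₜ k)) = 1 ⊗ₜ k := by
        rw [he, LinearMap.comp_apply, Algebra.Extension.cotangentComplex_mk]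
        rw [Module.Basis.constr_apply_fintype]
        have h2 : ∀ j, G.cotangentSpaceBasis.repr (1 ⊗ₜ KaehlerDifferential.D A G.Ring (lin k)) j =
            algebraMap A S ((k : Fin m → A) j) := fun j => by
          erw [G.cotangentSpaceBasis_repr_one_tmul]
          rw [hlin, map_sum]
          simp [Pi.single_apply, apply_ite]
          rfl
        simp only [Module.Basis.equivFun_apply]
        refine (Finset.sum_congr rfl fun j _ =>
          (congrArg (· • ((1 : S) ⊗ₜ[A] r (Pi.single j 1))) (h2 j)).trans
            ((algebraMap_smul S _ _).trans (TensorProduct.tmul_smul _ _ _).symm)).trans ?_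
        rw [← TensorProduct.tmul_sum]
        congr 1
        rw [← Finset.sum_congr rfl fun j _ => r.map_smul ((k : Fin m → A) j) (Pi.single j 1), ← map_sum]
        have h3 : ∑ j, (k : Fin m → A) j • (Pi.single j 1 : Fin m → A) = k := by
          funext i; simp [Pi.single_apply]
        rw [h3]
        refine Subtype.ext ?_
        show (k : Fin m → A) - s (Fintype.linearCombination A x k) = k
        rw [LinearMap.mem_ker.1 k.2, map_zero, sub_zero]
      rw [LinearMap.comp_apply, LinearMap.id_apply, show c ⊗ₜ[A] k = c • ((1 : S) ⊗ₜ[A] k) by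
        rw [TensorProduct.smul_tmul', smul_eq_mul, mul_one], map_smul, map_smul, h1]
    exact Function.LeftInverse.injective (g := d) fun z => LinearMap.congr_fun hd z
end Groth.Agent.S12091
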