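import Groth.Statements.S12096
import Mathlib.RingTheory.Localization.Ideal
-- import your own Groth.Agent.* helpers here

set_option autoImplicit false
universe u
open BlowUp

namespace Groth.Agent.S12096

/-- Néron's blowup is compatible with localization. For a ring `A`, an ideal `I`, elements `π, a ∈ A`,
`A' = A[I/π] ⊆ A_π` the affine blowup algebra and `(A_a)' = A_a[I A_a/π]` that of the localization,
the canonical map `A' → (A_a)'` (the restriction of `A_π → (A_a)_π`, given here as a datum with that
compatibility) identifies `(A_a)'` with the localization `A'_a`. In Néron's situation (`I` the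
inverse image of the maximal ideal of `Λ`, `π` a uniformizer, `a ∉ I`) this reads: the Néron blowup
of `A_a` is `A'_a`; the identity holds for arbitrary `A, I, π, a`. -/
theorem result (A : Type u) [CommRing A] (I : Ideal A) (π a : A) (hπ : π ∈ I)
    (ψ : BlowUp.affineAlgebra A I π →+*
      BlowUp.affineAlgebra (Localization.Away a) (I.map (algebraMap A (Localization.Away a))) (algebraMap A (Localization.Away a) π))
    (hψ : ∀ x : BlowUp.affineAlgebra A I π,
      ((ψ x : BlowUp.affineAlgebra (Localization.Away a) (I.map (algebraMap A (Localization.Away a))) (algebraMap A (Localization.Away a) π)) :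
          Localization.Away (algebraMap A (Localization.Away a) π)) =
        Localization.awayMap (algebraMap A (Localization.Away a)) π (x : Localization.Away π)) :
    letI := ψ.toAlgebra
    IsLocalization.Away (algebraMap A (BlowUp.affineAlgebra A I π) a)
      (BlowUp.affineAlgebra (Localization.Away a) (I.map (algebraMap A (Localization.Away a))) (algebraMap A (Localization.Away a) π)) := by
  letI := ψ.toAlgebra
  let Aa := Localization.Away a
  let B := BlowUp.affineAlgebra A I π
  let B' := BlowUp.affineAlgebra Aa (I.map (algebraMap A Aa)) (algebraMap A Aa π)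
  let S := Localization.Away (algebraMap A Aa π)
  have hval : ∀ r : A, ((ψ (algebraMap A B r) : B') : S) = algebraMap Aa S (algebraMap A Aa r) := by
    intro r
    rw [hψ]
    exact IsLocalization.map_eq _ r
  have haa : ψ (algebraMap A B a) = algebraMap Aa B' (algebraMap A Aa a) :=
    Subtype.ext (hval a)
  have hu : IsUnit (ψ (algebraMap A B a)) :=
    haa ▸ (IsLocalization.Away.algebraMap_isUnit (S := Aa) a).map (algebraMap Aa B')
  refine IsLocalization.Away.mk (algebraMap A B a) hu ?_ ?_
  · rintro ⟨z, hz⟩
    show ∃ (n : ℕ) (b : B), (⟨z, hz⟩ : B') * ψ (algebraMap A B a) ^ n = ψ b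
    refine Algebra.adjoin_induction (p := fun z hz => ∃ (n : ℕ) (b : B),
      (⟨z, hz⟩ : B') * ψ (algebraMap A B a) ^ n = ψ b) ?_ ?_ ?_ ?_ hz
    · rintro z ⟨y, hy, rfl⟩
      obtain ⟨⟨⟨x, hx⟩, ⟨_, n, rfl⟩⟩, hxy⟩ :=
        (IsLocalization.mem_map_algebraMap_iff (Submonoid.powers a) Aa).1 hy
      refine ⟨n, ⟨IsLocalization.mk' (Localization.Away π) x ⟨π, Submonoid.mem_powers π⟩,
        Algebra.subset_adjoin ⟨x, hx, rfl⟩⟩, Subtype.ext ?_⟩
      rw [hψ, haa]
      simp only [map_pow, MulMemClass.coe_mul, SubmonoidClass.coe_pow] at hxy ⊢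
      change IsLocalization.mk' S y _ * algebraMap Aa S (algebraMap A Aa a) ^ n = _
      rw [Localization.awayMap, IsLocalization.Away.map, IsLocalization.map_mk']
      refine (IsLocalization.eq_mk'_iff_mul_eq (M := Submonoid.powers (algebraMap A Aa π))).2 ?_
      show _ * algebraMap Aa S (algebraMap A Aa π) = _
      rw [mul_right_comm, IsLocalization.mk'_spec' S y ⟨algebraMap A Aa π, Submonoid.mem_powers _⟩ |> fun h => (mul_comm _ _).trans h,
        ← map_pow, ← map_mul, hxy]
    · intro r
      obtain ⟨n, b, hb⟩ := IsLocalization.Away.surj a r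
      refine ⟨n, algebraMap A B b, Subtype.ext ?_⟩
      rw [hval, haa, ← hb]
      simp [map_mul, map_pow]
      rfl
    · rintro x y hx hy ⟨n, b, hb⟩ ⟨m, c, hc⟩
      refine ⟨n + m, b * algebraMap A B a ^ m + c * algebraMap A B a ^ n, ?_⟩
      rw [map_add, map_mul, map_mul, map_pow, map_pow, ← hb, ← hc,
        show (⟨x + y, add_mem hx hy⟩ : B') = ⟨x, hx⟩ + ⟨y, hy⟩ from rfl]
      ring
    · rintro x y hx hy ⟨n, b, hb⟩ ⟨m, c, hc⟩
      refine ⟨n + m, b * c, ?_⟩
      rw [map_mul, ← hb, ← hc, show (⟨x * y, mul_mem hx hy⟩ : B') = ⟨x, hx⟩ * ⟨y, hy⟩ from rfl]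
      ring
  · intro x y h
    have h0 : ((ψ (x - y) : B') : S) = 0 := by
      rw [map_sub, show ψ x = ψ y from h, sub_self]; rfl
    rw [hψ] at h0
    obtain ⟨⟨r, m⟩, hr⟩ := IsLocalization.surj (Submonoid.powers π) (((x - y : B) : Localization.Away π))
    have h1 : algebraMap Aa S (algebraMap A Aa r) = 0 := by
      have := congrArg (Localization.awayMap (algebraMap A Aa) π) hr
      rw [map_mul, h0, zero_mul] at this
      exact (IsLocalization.map_eq (g := algebraMap A Aa) (S := Localization.Away π) (Q := S) _ r).symm.trans this.symm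
    obtain ⟨⟨_, k, rfl⟩, hk⟩ := (IsLocalization.map_eq_zero_iff (Submonoid.powers (algebraMap A Aa π)) S _).1 h1
    simp only [← map_pow, ← map_mul] at hk
    obtain ⟨⟨_, l, rfl⟩, hl⟩ := (IsLocalization.map_eq_zero_iff (Submonoid.powers a) Aa _).1 hk
    refine ⟨l, sub_eq_zero.1 ?_⟩
    rw [← mul_sub, ← map_pow]
    refine Subtype.ext ?_
    show algebraMap A (Localization.Away π) (a ^ l) * ((x - y : B) : Localization.Away π) = 0
    have hπk : IsUnit (algebraMap A (Localization.Away π) (π ^ k) * algebraMap A (Localization.Away π) m.1) :=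
      ((IsLocalization.map_units _ (⟨π ^ k, k, rfl⟩ : Submonoid.powers π))).mul (IsLocalization.map_units _ m)
    refine hπk.mul_left_eq_zero.1 ?_
    calc _ = algebraMap A (Localization.Away π) (a ^ l * π ^ k) * (((x - y : B) : Localization.Away π) * algebraMap A (Localization.Away π) m.1) := by
          rw [map_mul]; ring
      _ = algebraMap A (Localization.Away π) (a ^ l * (π ^ k * r)) := by rw [hr, ← map_mul, mul_assoc]
      _ = 0 := by rw [show a ^ l * (π ^ k * r) = 0 from hl, map_zero]

end Groth.Agent.S12096
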