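import Groth.Statements.S12097
import Mathlib.RingTheory.Localization.Away.Basic
-- import your own Groth.Agent.* helpers here

set_option autoImplicit false
universe u
open BlowUp

namespace Groth.Agent.S12097

/-- Néron's blowup is compatible with closed immersions. For a surjective ring map `B → A` with kernel
`J`, an ideal `I ⊆ B` containing `π`, and the affine blowup algebras `B' = B[I/π] ⊆ B_π`, `A' =
A[IA/π] ⊆ A_π`, the canonical map `B' → A'` (the restriction of `B_π → A_π`, given as a datum with
that compatibility) is surjective with kernel the elements `x` such that `π^n x ∈ J B'` for some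
`n`: `A'` is the quotient of `B'/JB'` by its `π`-power torsion. In Néron's situation (`I` the
inverse image of the maximal ideal of `Λ`, `π` a uniformizer) this is the printed functoriality; the
identity holds for any surjection. -/
theorem result (B A : Type u) [CommRing B] [CommRing A] [Algebra B A]
    (hq : Function.Surjective (algebraMap B A)) (I : Ideal B) (π : B) (hπ : π ∈ I)
    (ψ : BlowUp.affineAlgebra B I π →+* BlowUp.affineAlgebra A (I.map (algebraMap B A)) (algebraMap B A π))
    (hψ : ∀ x : BlowUp.affineAlgebra B I π,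
      ((ψ x : BlowUp.affineAlgebra A (I.map (algebraMap B A)) (algebraMap B A π)) : Localization.Away (algebraMap B A π)) =
        Localization.awayMap (algebraMap B A) π (x : Localization.Away π)) :
    Function.Surjective ψ ∧
      ∀ x : BlowUp.affineAlgebra B I π, x ∈ RingHom.ker ψ ↔
        ∃ n : ℕ, algebraMap B (BlowUp.affineAlgebra B I π) π ^ n * x ∈
          (RingHom.ker (algebraMap B A)).map (algebraMap B (BlowUp.affineAlgebra B I π)) := by
  let B' := BlowUp.affineAlgebra B I π
  let A' := BlowUp.affineAlgebra A (I.map (algebraMap B A)) (algebraMap B A π)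
  let S := Localization.Away (algebraMap B A π)
  have hval : ∀ r : B, ((ψ (algebraMap B B' r) : A') : S) = algebraMap A S (algebraMap B A r) := by
    intro r
    rw [hψ]
    exact IsLocalization.map_eq _ r
  have hker : ∀ r : B, algebraMap B A r = 0 → ψ (algebraMap B B' r) = 0 := fun r hr =>
    Subtype.ext (by rw [hval, hr, map_zero]; rfl)
  constructor
  · rintro ⟨z, hz⟩
    refine Algebra.adjoin_induction (p := fun z hz => ∃ b : B', ψ b = ⟨z, hz⟩) ?_ ?_ ?_ ?_ hz
    · rintro z ⟨y, hy, rfl⟩
      obtain ⟨x, hx, rfl⟩ := (Ideal.mem_map_iff_of_surjective _ hq).1 hy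
      refine ⟨⟨IsLocalization.mk' (Localization.Away π) x ⟨π, Submonoid.mem_powers π⟩,
        Algebra.subset_adjoin ⟨x, hx, rfl⟩⟩, Subtype.ext ?_⟩
      rw [hψ]
      exact IsLocalization.map_mk' _ _ _
    · intro r
      obtain ⟨b, rfl⟩ := hq r
      exact ⟨algebraMap B B' b, Subtype.ext (hval b)⟩
    · rintro x y hx hy ⟨b, hb⟩ ⟨c, hc⟩
      exact ⟨b + c, by rw [map_add, hb, hc]; rfl⟩
    · rintro x y hx hy ⟨b, hb⟩ ⟨c, hc⟩
      exact ⟨b * c, by rw [map_mul, hb, hc]; rfl⟩
  · intro x
    rw [RingHom.mem_ker]
    constructor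
    · intro h
      obtain ⟨⟨r, ⟨_, m, rfl⟩⟩, hr⟩ := IsLocalization.surj (Submonoid.powers π) ((x : Localization.Away π))
      have he : x * algebraMap B B' (π ^ m) = algebraMap B B' r := Subtype.ext hr
      have h1 : algebraMap A S (algebraMap B A r) = 0 := by
        rw [← hval, ← he, map_mul, h, zero_mul]; rfl
      obtain ⟨⟨_, k, rfl⟩, hk⟩ := (IsLocalization.map_eq_zero_iff (Submonoid.powers (algebraMap B A π)) S _).1 h1
      refine ⟨k + m, ?_⟩
      have : algebraMap B B' π ^ (k + m) * x = algebraMap B B' (π ^ k * r) := by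
        rw [map_mul, ← he, pow_add, map_pow, map_pow]; ring
      rw [this]
      exact Ideal.mem_map_of_mem _ (RingHom.mem_ker.2 (by rw [map_mul, map_pow]; exact hk))
    · rintro ⟨n, hn⟩
      have h0 : ψ (algebraMap B B' π ^ n * x) = 0 := by
        refine (Ideal.map_le_iff_le_comap.2 ?_ : _ ≤ RingHom.ker ψ) hn
        intro r hr
        exact hker r hr
      refine Subtype.ext ?_
      have h1 := congrArg (fun t : A' => (t : S)) h0
      simp only [map_mul, map_pow, MulMemClass.coe_mul, SubmonoidClass.coe_pow, hval, ZeroMemClass.coe_zero] at h1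
      exact ((IsLocalization.Away.algebraMap_isUnit (S := S) (algebraMap B A π)).pow n).mul_right_eq_zero.1 h1

end Groth.Agent.S12097
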