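import Groth.Statements.S12099
import Mathlib.Algebra.Homology.ShortComplex.Exact
import Mathlib.CategoryTheory.Abelian.Refinements

set_option autoImplicit false
universe v u
open CategoryTheory CategoryTheory.Limits
open PCoh

namespace Groth.Agent.S12099

/-- Punctual site: let C be an abelian category and C₀ a strictly full additive subcategory,
quasi-liftable in C. For an exact sequence F → G → H → 0 with F of C₀-finite type and G precoherent
relative to C₀ (every morphism from a C₀-object into G has kernel of C₀-finite type), H is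
precoherent relative to C₀. -/
theorem result {C : Type u} [Category.{v} C] [Abelian C]
    (P : ObjectProperty C) [P.IsClosedUnderIsomorphisms] [P.ContainsZero] (hsum : ∀ X Y : C, P X → P Y → P (X ⨯ Y))
    (hql : PCoh.IsQuasiLiftable P)
    (S : ShortComplex C) (hS : S.Exact) (hg : Epi S.g)
    (hF : PCoh.IsOfFiniteType P S.X₁) (hG : ∀ (E : C) (u : E ⟶ S.X₂), P E → PCoh.IsOfFiniteType P (kernel u)) :
    ∀ (E : C) (u : E ⟶ S.X₃), P E → PCoh.IsOfFiniteType P (kernel u) := by
  intro E u hE
  haveI := hg
  obtain ⟨E₁, π, hE₁, hπ⟩ := hF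
  obtain ⟨F', v, hF', hv⟩ := hql _ E (pullback.snd S.g u) inferInstance hE
  haveI : Epi (v ≫ pullback.snd S.g u) := hv
  let a : E₁ ⨯ F' ⟶ S.X₂ := prod.fst ≫ π ≫ S.f + prod.snd ≫ v ≫ pullback.fst S.g u
  obtain ⟨E₂, σ, hE₂, hσ⟩ := hG _ a (hsum _ _ hE₁ hF')
  let q : kernel a ⟶ kernel u := kernel.lift u (kernel.ι a ≫ prod.snd ≫ v ≫ pullback.snd S.g u) (by
    have h := kernel.condition a =≫ S.g
    simp only [a, Category.assoc, Preadditive.add_comp, Preadditive.comp_add, S.zero, comp_zero, zero_comp,
      zero_add] at h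
    simp only [Category.assoc, ← pullback.condition]
    exact h)
  haveI : Epi q := by
    rw [epi_iff_surjective_up_to_refinements]
    intro T y
    obtain ⟨T₁, r, hr, z, hz⟩ := surjective_up_to_refinements_of_epi (v ≫ pullback.snd S.g u) (y ≫ kernel.ι u)
    have hzg : (z ≫ v ≫ pullback.fst S.g u) ≫ S.g = 0 := by
      simp only [Category.assoc, pullback.condition]
      have := hz =≫ u
      simp only [Category.assoc, kernel.condition, comp_zero] at this
      exact this.symm
    obtain ⟨T₂, r', hr', w, hw⟩ := hS.exact_up_to_refinements _ hzg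
    obtain ⟨T₃, r'', hr'', w', hw'⟩ := surjective_up_to_refinements_of_epi π w
    haveI := hr; haveI := hr'; haveI := hr''
    refine ⟨T₃, r'' ≫ r' ≫ r, epi_comp _ _, kernel.lift a (prod.lift (-w') (r'' ≫ r' ≫ z)) ?_, ?_⟩
    · simp only [a, Preadditive.comp_add, prod.lift_fst_assoc, prod.lift_snd_assoc, Preadditive.neg_comp,
        Category.assoc]
      rw [hw, reassoc_of% hw']
      simp
    · rw [← cancel_mono (kernel.ι u)]
      simp only [q, Category.assoc, kernel.lift_ι, kernel.lift_ι_assoc, prod.lift_snd_assoc]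
      rw [hz]
  exact ⟨E₂, σ ≫ q, hE₂, epi_comp' hσ inferInstance⟩

end Groth.Agent.S12099
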