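import Groth.Statements.S12104
import Groth.Agent.GeomConnDesc.Basic
import Groth.Agent.FormalFun.GeomFibres


set_option autoImplicit false
open CategoryTheory MonoidalCategory CartesianMonoidalCategory MonObj GrpObj AlgebraicGeometry
universe u
open RedSub

namespace Groth.Agent.S12104Aux
open CategoryTheory CategoryTheory.Limits AlgebraicGeometry

theorem geometricallyConnected_of_geomFibre {X Y : Scheme.{u}} (f : X ⟶ Y) [LocallyOfFiniteType f]
    (h : ∀ y : Y, ConnectedSpace ↥(Red.geomFibre y (Over.mk f)).left) : GeometricallyConnected f := by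
  refine ⟨fun K _ s P p₁ p₂ hP => ?_⟩
  let y := s (IsLocalRing.closedPoint K)
  obtain ⟨φ, hφ⟩ : ∃ φ : Y.residueField y ⟶ CommRingCat.of K,
      Spec.map φ ≫ Y.fromSpecResidueField y = s :=
    ⟨_, Scheme.descResidueField_stalkClosedPointTo_fromSpecResidueField K _ s⟩
  let L := AlgebraicClosure (Y.residueField y)
  let tL : Spec (CommRingCat.of L) ⟶ Y := Red.geomPt y
  haveI : ConnectedSpace ↥(pullback f tL) := h y
  haveI : JacobsonSpace ↥(pullback f tL) := LocallyOfFiniteType.jacobsonSpace (pullback.snd f tL)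
  obtain ⟨x, -, hx⟩ := nonempty_inter_closedPoints (X := ↥(pullback f tL)) (Z := Set.univ) Set.univ_nonempty
    isOpen_univ.isLocallyClosed
  haveI : ConnectedSpace ↥(pullback f s) := Groth.Agent.FormalFun.connectedSpace_of_common_extension (κ := Y.residueField y) f
    (Y.fromSpecResidueField y) φ.hom (algebraMap (Y.residueField y) L) s tL hφ.symm rfl
    (pointOfClosedPoint (pullback.snd f tL) x hx) (pointOfClosedPoint_comp _ _ _)
  exact hP.isoPullback.inv.homeomorph.surjective.connectedSpace hP.isoPullback.inv.homeomorph.continuous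

end Groth.Agent.S12104Aux

namespace Groth.Agent.S12104

/-- Let G be a reductive S-group and (M, h : H ⟶ G_M) a representing pair for the functor of subgroups
of type (RC) of G (type (R) with closed root sets on the geometric fibres; every such subgroup of a
base change G_{S'} has the same points as the pullback of h along exactly one S-morphism S' ⟶ M).
Suppose (Cl₁, cl₁ : M ⟶ Cl₁) and (Cl₂, cl₂ : M ⟶ Cl₂) are two pairs with the following properties:
Clᵢ finite and etale over S; clᵢ smooth, surjective, quasi-compact, locally of finite presentation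
and locally quasi-projective with connected geometric fibres; and two subgroups of type (RC) of
G_{S'} with classifying maps g₁, g₂ : S' ⟶ M have the same image under clᵢ if and only if at every
point of S' their geometric fibres are conjugate under a point of the geometric fibre of G. Then
there is exactly one S-isomorphism e : Cl₁ ≅ Cl₂ with cl₁ ≫ e.hom = cl₂. -/
theorem result {S : Scheme.{u}} (G : Over S) [GrpObj G] (hG : Red.IsReductive G)
    (M : Over S) (H : Over M.left) [GrpObj H] (h : H ⟶ Red.bc M.hom G) (hh : RedSub.IsTypeR h)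
    (hRC : (∀ (s : ↥M.left) (D' : Red.SplitRed (Red.geomFibre s (Red.bc M.hom G))) (t' : D'.T ⟶ Red.geomFibre s _),
        t' ≫ (Over.pullback (Red.geomPt s)).map h = D'.i →
        ∀ a b c : D'.idx, (∃ v, v ≫ (Over.pullback (Red.geomPt s)).map h = D'.u a) →
          (∃ v, v ≫ (Over.pullback (Red.geomPt s)).map h = D'.u b) → D'.P.root a + D'.P.root b = D'.P.root c →
          ∃ v, v ≫ (Over.pullback (Red.geomPt s)).map h = D'.u c))
    (huniv : ∀ (S' : Scheme.{u}) (f : S' ⟶ S) (H' : Over S') [GrpObj H'] (h' : H' ⟶ Red.bc f G), RedSub.IsTypeR h' →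
        (∀ (s : ↥S') (D' : Red.SplitRed (Red.geomFibre s (Red.bc f G))) (t' : D'.T ⟶ Red.geomFibre s _),
        t' ≫ (Over.pullback (Red.geomPt s)).map h' = D'.i →
        ∀ a b c : D'.idx, (∃ v, v ≫ (Over.pullback (Red.geomPt s)).map h' = D'.u a) →
          (∃ v, v ≫ (Over.pullback (Red.geomPt s)).map h' = D'.u b) → D'.P.root a + D'.P.root b = D'.P.root c →
          ∃ v, v ≫ (Over.pullback (Red.geomPt s)).map h' = D'.u c) →
        ∃! g : S' ⟶ M.left, g ≫ M.hom = f ∧ RedSub.SamePoints G f h' M h g) 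
    (Cl₁ : Over S) (cl₁ : M ⟶ Cl₁) (Cl₂ : Over S) (cl₂ : M ⟶ Cl₂)
    (hCl₁ : IsFinite Cl₁.hom ∧ Etale Cl₁.hom ∧ Smooth cl₁.left ∧ Surjective cl₁.left ∧
      QuasiCompact cl₁.left ∧ LocallyOfFinitePresentation cl₁.left ∧ RedSub.IsLocallyQuasiProjective (Over.mk cl₁.left) ∧
      (∀ c : ↥Cl₁.left, ConnectedSpace ↥(Red.geomFibre c (Over.mk cl₁.left)).left) ∧
      ∀ (S' : Scheme.{u}) (f : S' ⟶ S) (H₁ H₂ : Over S') [GrpObj H₁] [GrpObj H₂] (h₁ : H₁ ⟶ Red.bc f G)
        (h₂ : H₂ ⟶ Red.bc f G) (g₁ g₂ : S' ⟶ M.left), RedSub.IsTypeR h₁ → RedSub.IsTypeR h₂ →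
        g₁ ≫ M.hom = f → g₂ ≫ M.hom = f → RedSub.SamePoints G f h₁ M h g₁ → RedSub.SamePoints G f h₂ M h g₂ →
        (g₁ ≫ cl₁.left = g₂ ≫ cl₁.left ↔
          ∀ s : ↥S', ∃ gpt : 𝟙_ _ ⟶ Red.geomFibre s (Red.bc f G),
            RedSub.ConjEq ((Over.pullback (Red.geomPt s)).map h₁) ((Over.pullback (Red.geomPt s)).map h₂) gpt))
    (hCl₂ : IsFinite Cl₂.hom ∧ Etale Cl₂.hom ∧ Smooth cl₂.left ∧ Surjective cl₂.left ∧
      QuasiCompact cl₂.left ∧ LocallyOfFinitePresentation cl₂.left ∧ RedSub.IsLocallyQuasiProjective (Over.mk cl₂.left) ∧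
      (∀ c : ↥Cl₂.left, ConnectedSpace ↥(Red.geomFibre c (Over.mk cl₂.left)).left) ∧
      ∀ (S' : Scheme.{u}) (f : S' ⟶ S) (H₁ H₂ : Over S') [GrpObj H₁] [GrpObj H₂] (h₁ : H₁ ⟶ Red.bc f G)
        (h₂ : H₂ ⟶ Red.bc f G) (g₁ g₂ : S' ⟶ M.left), RedSub.IsTypeR h₁ → RedSub.IsTypeR h₂ →
        g₁ ≫ M.hom = f → g₂ ≫ M.hom = f → RedSub.SamePoints G f h₁ M h g₁ → RedSub.SamePoints G f h₂ M h g₂ →
        (g₁ ≫ cl₂.left = g₂ ≫ cl₂.left ↔
          ∀ s : ↥S', ∃ gpt : 𝟙_ _ ⟶ Red.geomFibre s (Red.bc f G),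
            RedSub.ConjEq ((Over.pullback (Red.geomPt s)).map h₁) ((Over.pullback (Red.geomPt s)).map h₂) gpt)) :
    ∃! e : Cl₁ ≅ Cl₂, cl₁ ≫ e.hom = cl₂ := by
  obtain ⟨hf₁, he₁, hs₁, hj₁, hq₁, hl₁, -, hc₁, -⟩ := hCl₁
  obtain ⟨hf₂, he₂, hs₂, hj₂, hq₂, hl₂, -, hc₂, -⟩ := hCl₂
  haveI : GeometricallyConnected cl₁.left := S12104Aux.geometricallyConnected_of_geomFibre _ hc₁
  haveI : GeometricallyConnected cl₂.left := S12104Aux.geometricallyConnected_of_geomFibre _ hc₂
  obtain ⟨φ, ⟨hφ1, hφ2⟩, -⟩ := GeomConnDesc.existsUnique_desc cl₁.left Cl₁.hom Cl₂.hom cl₂.left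
    (by rw [Over.w, Over.w])
  obtain ⟨ψ, ⟨hψ1, hψ2⟩, -⟩ := GeomConnDesc.existsUnique_desc cl₂.left Cl₂.hom Cl₁.hom cl₁.left
    (by rw [Over.w, Over.w])
  haveI : Epi cl₁.left := Flat.epi_of_flat_of_surjective _
  haveI : Epi cl₂.left := Flat.epi_of_flat_of_surjective _
  refine ⟨⟨Over.homMk φ hφ1, Over.homMk ψ hψ1, ?_, ?_⟩, Over.OverMorphism.ext hφ2, fun e he => ?_⟩
  · apply Over.OverMorphism.ext
    simp only [Over.comp_left, Over.homMk_left, Over.id_left]
    rw [← cancel_epi cl₁.left, ← Category.assoc, hφ2, hψ2, Category.comp_id]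
  · apply Over.OverMorphism.ext
    simp only [Over.comp_left, Over.homMk_left, Over.id_left]
    rw [← cancel_epi cl₂.left, ← Category.assoc, hψ2, hφ2, Category.comp_id]
  · apply Iso.ext
    apply Over.OverMorphism.ext
    rw [← cancel_epi cl₁.left]
    have := congrArg (fun m => m.left) he
    simp only [Over.comp_left] at this
    exact this.trans hφ2.symm

end Groth.Agent.S12104
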