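import Groth.Statements.S12107
import Mathlib.CategoryTheory.Adhesive.Basic
import Mathlib.CategoryTheory.Sites.Limits
import Mathlib.CategoryTheory.Sites.LeftExact

set_option autoImplicit false
universe u
open CategoryTheory
open SGA4

namespace Groth.Agent.S12107

open CategoryTheory.Limits in
/-- In the topos of sheaves of sets on a small site, let U be an open (a subobject of the final object)
and, for an object X, let X_CU be the pushout of U ← U × X → X along the two projections. For a
morphism m : X ⟶ X' let k : X_CU ⟶ X'_CU be the induced morphism (compatible with the maps from U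
and with m). Then the square with sides m, k and the canonical maps X ⟶ X_CU, X' ⟶ X'_CU is
cartesian if and only if id_U × m : U × X ⟶ U × X' is an isomorphism (that is, m restricts to an
isomorphism over U). -/
theorem result {C : Type u} [SmallCategory C] (J : GrothendieckTopology C)
    (U : Sheaf J (Type u)) (hU : SGA4.IsOpen U) {X X' : Sheaf J (Type u)} (m : X ⟶ X')
    (k : pushout (prod.fst : U ⨯ X ⟶ U) (prod.snd : U ⨯ X ⟶ X) ⟶
      pushout (prod.fst : U ⨯ X' ⟶ U) (prod.snd : U ⨯ X' ⟶ X'))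
    (hk₁ : pushout.inl (prod.fst : U ⨯ X ⟶ U) (prod.snd : U ⨯ X ⟶ X) ≫ k =
      pushout.inl (prod.fst : U ⨯ X' ⟶ U) (prod.snd : U ⨯ X' ⟶ X'))
    (hk₂ : pushout.inr (prod.fst : U ⨯ X ⟶ U) (prod.snd : U ⨯ X ⟶ X) ≫ k =
      m ≫ pushout.inr (prod.fst : U ⨯ X' ⟶ U) (prod.snd : U ⨯ X' ⟶ X')) :
    IsPullback m (pushout.inr (prod.fst : U ⨯ X ⟶ U) (prod.snd : U ⨯ X ⟶ X))
        (pushout.inr (prod.fst : U ⨯ X' ⟶ U) (prod.snd : U ⨯ X' ⟶ X')) k ↔
      IsIso (prod.map (𝟙 U) m) := by
  haveI : Mono (terminal.from U) := hU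
  haveI : ∀ Y : Sheaf J (Type u), Mono (prod.snd : U ⨯ Y ⟶ Y) := fun Y =>
    ⟨fun a b hab => prod.hom_ext ((cancel_mono (terminal.from U)).1 (Subsingleton.elim _ _)) hab⟩
  constructor
  · intro h
    let inl := pushout.inl (prod.fst : U ⨯ X ⟶ U) (prod.snd : U ⨯ X ⟶ X)
    have hs : (prod.snd : U ⨯ X' ⟶ X') ≫ pushout.inr (prod.fst : U ⨯ X' ⟶ U) prod.snd =
        (prod.fst ≫ inl) ≫ k := by
      rw [Category.assoc, hk₁, pushout.condition]
    refine ⟨prod.lift prod.fst (h.lift prod.snd (prod.fst ≫ inl) hs), ?_, ?_⟩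
    · apply prod.hom_ext
      · simp <;> exact prod.lift_fst _ _
      · simp only [Category.assoc, prod.lift_snd, Category.id_comp]
        apply h.hom_ext
        · simp
        · simp [inl, pushout.condition]
    · apply prod.hom_ext <;> simp
  · intro h
    haveI : Adhesive (Sheaf J (Type u)) := inferInstance
    have H : IsPushout (prod.snd : U ⨯ X' ⟶ X') prod.fst (pushout.inr prod.fst prod.snd) (pushout.inl prod.fst prod.snd) :=
      (IsPushout.of_hasPushout _ _).flip
    have hf : IsPullback (prod.snd : U ⨯ X ⟶ X) (prod.map (𝟙 U) m) m (prod.snd : U ⨯ X' ⟶ X') := by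
      refine (IsPullback.of_right (v₁₃ := terminal.from U) (h₂₂ := terminal.from X') ?_ (by simp) (IsPullback.of_hasBinaryProduct' U X')).flip
      rw [prod.map_fst, Category.comp_id, Subsingleton.elim (m ≫ terminal.from X') (terminal.from X)]
      exact IsPullback.of_hasBinaryProduct' U X
    have hg : IsPullback (prod.fst : U ⨯ X ⟶ U) (prod.map (𝟙 U) m) (𝟙 U) (prod.fst : U ⨯ X' ⟶ U) :=
      IsPullback.of_vert_isIso ⟨by simp⟩
    exact ((Adhesive.van_kampen H _ _ (pushout.inr _ _) (pushout.inl _ _) _ m (𝟙 U) k hf hg ⟨hk₂⟩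
      ⟨by rw [hk₁, Category.id_comp]⟩ ⟨pushout.condition.symm⟩).1 (IsPushout.of_hasPushout _ _).flip).1.flip

end Groth.Agent.S12107
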