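import Groth.Statements.S12113
import Groth.Agent.ExtDesc.Basic
-- import your own Groth.Agent.* helpers here

set_option autoImplicit false
universe u
open CategoryTheory CategoryTheory.Limits MonoidalCategory CartesianMonoidalCategory MonObj AlgebraicGeometry
open SGA7

set_option backward.isDefEq.respectTransparency false
set_option synthInstance.maxHeartbeats 200000

namespace Groth.Agent.S12113

open ExtDesc

theorem pts {S : Scheme.{u}} {P E : Over S} (v : E ⟶ P) {T : Over S} (a b : T ⟶ E) :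
    lift a b ≫ (v ▷ E ≫ P ◁ v) = lift (a ≫ v) (b ≫ v) := by
  ext <;> simp

theorem exists_lift {S : Scheme.{u}} {X Y : Over S} {T : Over S} (x : T ⟶ X ⊗ Y) :
    ∃ a b, x = lift a b := ⟨x ≫ fst X Y, x ≫ snd X Y, by ext <;> simp⟩

/-- Group schemes, fppf site: over a base scheme S, let P and G be S-group schemes with G commutative,
and let u : G → E, v : E → P and u' : G → E', v' : E' → P be homomorphisms forming sequences 1 → G →
E → P → 1 and 1 → G → E' → P → 1 exact for the fppf topology. Suppose every morphism of S-schemes P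
×_S P → G trivial on P × e_P and on e_P × P is trivial. Let f : E → E' be a morphism of S-schemes
over P (f ≫ v' = v) and under G (u ≫ f = u'), preserving the unit section, and compatible with left
and right translations by G: for all points g of G and x of E with values in any S-scheme, f(u(g) x)
= u'(g) f(x) and f(x u(g)) = f(x) u'(g). Then f is a homomorphism of S-group schemes: such
extensions have no non-multiplicative morphisms of their underlying rigidified bitorsors. (The
published statement is for sheaves of groups on an arbitrary topos and phrased as full faithfulness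
of the functor from extensions to rigidified bitorsors; this row is the case of representable
sheaves on the fppf site of S, with G commutative so that the defect of multiplicativity descends to
P ×_S P as in the printed argument. Morphisms to a group scheme form a group; trivial means equal to
its unit.) -/
theorem result (S : Scheme.{u})
    (P G E E' : Over S) [GrpObj P] [GrpObj G] [GrpObj E] [GrpObj E'] [IsCommMonObj G]
    (u : G ⟶ E) (v : E ⟶ P) (hex : NonAbH1.IsExactSeq Scheme.fppfPrecoverage u v)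
    (u' : G ⟶ E') (v' : E' ⟶ P) (hex' : NonAbH1.IsExactSeq Scheme.fppfPrecoverage u' v')
    (hPP : ∀ c : P ⊗ P ⟶ G, lift (𝟙 P) (toUnit P ≫ η[P]) ≫ c = 1 → lift (toUnit P ≫ η[P]) (𝟙 P) ≫ c = 1 → c = 1)
    (f : E ⟶ E') (hv : f ≫ v' = v) (hu : u ≫ f = u') (h1 : η[E] ≫ f = η[E'])
    (hl : ∀ (T : Over S) (g : T ⟶ G) (x : T ⟶ E), ((g ≫ u) * x) ≫ f = (g ≫ u') * (x ≫ f))
    (hr : ∀ (T : Over S) (g : T ⟶ G) (x : T ⟶ E), (x * (g ≫ u)) ≫ f = (x ≫ f) * (g ≫ u')) :
    IsMonHom f := by
  obtain ⟨hum, hvm, -, -, -⟩ := id hex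
  obtain ⟨hum', hvm', -, -, -⟩ := id hex'
  haveI := hum; haveI := hvm; haveI := hum'; haveI := hvm'
  let F : E ⊗ E ⟶ E' := ((fst E E * snd E E) ≫ f) * ((fst E E ≫ f) * (snd E E ≫ f))⁻¹
  have hF : ∀ {T : Over S} (a b : T ⟶ E), lift a b ≫ F = ((a * b) ≫ f) * ((a ≫ f) * (b ≫ f))⁻¹ :=
    fun a b => by
      simp only [F, MonObj.comp_mul, GrpObj.comp_inv, ← Category.assoc, lift_fst, lift_snd]
  have hFv : F ≫ v' = 1 := by
    simp only [F, MonObj.mul_comp, GrpObj.inv_comp, Category.assoc, hv]
    rw [mul_inv_cancel]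
  obtain ⟨c, hc⟩ := exists_of_comp_eq_one hex' hFv
  have hinv : ∀ (T : Over S) (x y : T ⟶ E ⊗ E), x ≫ (v ▷ E ≫ P ◁ v) = y ≫ (v ▷ E ≫ P ◁ v) →
      x ≫ c = y ≫ c := by
    intro T x y h
    obtain ⟨a, b, rfl⟩ := exists_lift x
    obtain ⟨a', b', rfl⟩ := exists_lift y
    rw [pts, pts] at h
    have ha : a ≫ v = a' ≫ v := by simpa using congrArg (· ≫ fst P P) h
    have hb : b ≫ v = b' ≫ v := by simpa using congrArg (· ≫ snd P P) h
    obtain ⟨g, rfl⟩ := exists_eq_mul hex ha
    obtain ⟨g₂, rfl⟩ := exists_eq_mul hex hb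
    apply injective_comp hex'
    rw [Category.assoc, Category.assoc, hc, hF, hF]
    -- move `u g` to the right of `b`
    obtain ⟨g', hg'⟩ := exists_of_comp_eq_one hex (b := b⁻¹ * (g ≫ u) * b) (by
      rw [MonObj.mul_comp, MonObj.mul_comp, GrpObj.inv_comp, Category.assoc, comp_eq_one hex,
        _root_.mul_one, inv_mul_cancel])
    have e1 : (g ≫ u) * b = b * (g' ≫ u) := by
      rw [hg', ← _root_.mul_assoc, ← _root_.mul_assoc, mul_inv_cancel, _root_.one_mul]
    have e2 : (g ≫ u') * (b ≫ f) = (b ≫ f) * (g' ≫ u') := by rw [← hl, e1, hr]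
    have e3 : a * (g ≫ u) * (b * (g₂ ≫ u)) = a * b * ((g' * g₂) ≫ u) := by
      rw [MonObj.mul_comp, _root_.mul_assoc a, ← _root_.mul_assoc (g ≫ u), e1]
      group
    have e4 : (a ≫ f) * (g ≫ u') * ((b ≫ f) * (g₂ ≫ u')) = (a ≫ f) * (b ≫ f) * ((g' * g₂) ≫ u') := by
      rw [MonObj.mul_comp, _root_.mul_assoc (a ≫ f), ← _root_.mul_assoc (g ≫ u'), e2]
      group
    rw [hr, hr, e3, e4, hr]
    group
  obtain ⟨cb, hcb⟩ := exists_desc (cover_tensor (cover_of_isExactSeq hex)) c hinv
  have h10 : (1 : E ⟶ E) ≫ f = 1 := by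
    rw [Hom.one_def, Category.assoc, h1]
    rfl
  have hlft : ∀ (a b : E ⟶ E), lift (a ≫ v) (b ≫ v) ≫ cb = lift a b ≫ c := fun a b => by
    rw [← pts, Category.assoc, hcb]
  have hcb1 : cb = 1 := by
    refine hPP cb ?_ ?_
    · apply over_hom_ext (cover_of_isExactSeq hex)
      have h2 : v ≫ lift (𝟙 P) (toUnit P ≫ η[P]) = lift (𝟙 E ≫ v) ((1 : E ⟶ E) ≫ v) := by
        rw [MonObj.one_comp, Hom.one_def]; ext <;> simp
      rw [← Category.assoc, h2, hlft, MonObj.comp_one]
      apply injective_comp hex'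
      rw [Category.assoc, hc, hF, _root_.mul_one, h10, _root_.mul_one, mul_inv_cancel, MonObj.one_comp]
    · apply over_hom_ext (cover_of_isExactSeq hex)
      have h2 : v ≫ lift (toUnit P ≫ η[P]) (𝟙 P) = lift ((1 : E ⟶ E) ≫ v) (𝟙 E ≫ v) := by
        rw [MonObj.one_comp, Hom.one_def]; ext <;> simp
      rw [← Category.assoc, h2, hlft, MonObj.comp_one]
      apply injective_comp hex'
      rw [Category.assoc, hc, hF, _root_.one_mul, h10, _root_.one_mul, mul_inv_cancel, MonObj.one_comp]
  have hF1 : F = 1 := by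
    rw [← hc, ← hcb, hcb1, MonObj.comp_one, MonObj.one_comp]
  refine ⟨h1, ?_⟩
  have hμ : μ[E] = fst E E * snd E E := by rw [Hom.mul_def, lift_fst_snd, Category.id_comp]
  have h3 : (f ⊗ₘ f) ≫ μ[E'] = (fst E E ≫ f) * (snd E E ≫ f) := by
    rw [Hom.mul_def]
    congr 1
  rw [hμ, h3]
  exact mul_inv_eq_one.mp hF1

end Groth.Agent.S12113
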