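import Groth.Statements.S12118
import Mathlib

set_option autoImplicit false
universe u v
open EGA41

namespace Groth.Agent.S12118

theorem Submodule.mem_smul_span_singleton_aux {A : Type*} [CommRing A] {M : Type*} [AddCommGroup M] [Module A M] {f : A}
    {N : Submodule A M} {z : M} (hz : z ∈ Ideal.span {f} • N) : ∃ y ∈ N, f • y = z := by
  rwa [Submodule.ideal_span_singleton_smul, Submodule.mem_smul_pointwise_iff_exists] at hz


/-- Let A be a commutative ring, M an A-module, (M_k)_{k ≥ 0} a decreasing filtration of M by submodules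
with M_0 = M and ⋂_k M_k = 0, and f an element of A which is a non-zero-divisor on every graded
piece M_k/M_{k+1} (equivalently on the associated graded module). Then (i) f is a non-zero-divisor
on M, and (ii) M_k ∩ fM = fM_k for every k ≥ 0. -/
theorem result {A : Type u} [CommRing A] {M : Type v} [AddCommGroup M] [Module A M]
    (F : ℕ → Submodule A M) (hanti : Antitone F) (h0 : F 0 = ⊤) (hsep : ⨅ k, F k = ⊥) (f : A)
    (hreg : ∀ k : ℕ, IsSMulRegular (↥(F k) ⧸ Submodule.comap (F k).subtype (F (k + 1))) f) :
    IsSMulRegular M f ∧ ∀ k : ℕ, F k ⊓ (Ideal.span {f} • (⊤ : Submodule A M)) = Ideal.span {f} • F k := by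
  have key : ∀ k (x : M), x ∈ F k → f • x ∈ F (k + 1) → x ∈ F (k + 1) := by
    intro k x hx hfx
    have h1 := hreg k (a₁ := Submodule.Quotient.mk (⟨x, hx⟩ : F k)) (a₂ := 0) (by
      simp only [smul_zero]
      rw [← Submodule.Quotient.mk_smul, Submodule.Quotient.mk_eq_zero, Submodule.mem_comap]
      exact hfx)
    rw [Submodule.Quotient.mk_eq_zero, Submodule.mem_comap] at h1
    exact h1
  have key2 : ∀ k (x : M), f • x ∈ F k → x ∈ F k := by
    intro k
    induction k with
    | zero => intro x _; rw [h0]; exact Submodule.mem_top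
    | succ k ih =>
      intro x hx
      exact key k x (ih x (hanti k.le_succ hx)) hx
  refine ⟨fun x y hxy => ?_, fun k => le_antisymm ?_ ?_⟩
  · rw [← sub_eq_zero, ← Submodule.mem_bot A, ← hsep, Submodule.mem_iInf]
    intro k
    refine key2 k _ ?_
    rw [smul_sub, show f • x = f • y from hxy, sub_self]
    exact zero_mem _
  · rintro z ⟨hz, hz'⟩
    obtain ⟨y, -, rfl⟩ := Submodule.mem_smul_span_singleton_aux hz'
    exact Submodule.smul_mem_smul (Ideal.mem_span_singleton_self f) (key2 k y hz)
  · exact le_inf (Submodule.smul_le.mpr fun r _ m hm => Submodule.smul_mem _ r hm) (Submodule.smul_mono le_rfl le_top)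

end Groth.Agent.S12118
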