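import Groth.Statements.S1212
import Groth.Agent.FlatBasics.AssocMax
import Mathlib.LinearAlgebra.Finsupp.Supported

set_option autoImplicit false
universe u
open FlatMor

namespace Groth.Agent.S1212

open TensorProduct IsLocalRing in
/-- Let R be a local ring, S an R-algebra and N an S-module which is projective as an R-module, such
that the closed fibre ring of S is Noetherian and the closed fibre module of N is finite over it.
Then every prime q of S, over p in R, which is an associated prime (the annihilator of an element)
of the S-module N ⊗_R κ(p) satisfies q + 𝔪_R S ≠ S. -/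
theorem result {R S : Type u} [CommRing R] [IsLocalRing R] [CommRing S] [Algebra R S]
    (N : Type u) [AddCommGroup N] [Module S N] [Module R N] [IsScalarTower R S N] [Module.Projective R N]
    [IsNoetherianRing ((maximalIdeal R).Fiber S)]
    [Module.Finite ((maximalIdeal R).Fiber S) (FlatCA.fiberMod (maximalIdeal R) S N)]
    (p : Ideal R) [p.IsPrime] (q : Ideal S) [q.IsPrime] [q.LiesOver p]
    (hq : q ∈ FlatCA.ass S (N ⊗[R] p.ResidueField)) :
    q ⊔ (maximalIdeal R).map (algebraMap R S) ≠ ⊤ := by
  obtain ⟨hqp, x, hqx⟩ := hq
  intro htop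
  obtain ⟨a, ha, e, he, hae⟩ := Submodule.mem_sup.mp (htop.ge (Submodule.mem_top (x := (1 : S))))
  have hax : a • x = 0 := by
    rw [hqx, Submodule.mem_annihilator_span_singleton] at ha
    exact ha
  rw [eq_sub_of_add_eq hae, sub_smul, one_smul, sub_eq_zero] at hax
  have hx0 : x ≠ 0 := fun h => hqp.ne_top (by rw [hqx, h, Submodule.span_zero_singleton, Submodule.annihilator_bot])
  refine hx0 ?_
  obtain ⟨s, hs⟩ := Module.projective_def'.mp (inferInstance : Module.Projective R N)
  let P := Finsupp.linearCombination R (id : N → N)
  let E : (N →₀ R) →ₗ[R] (N →₀ R) := s ∘ₗ ((LinearMap.lsmul S N e).restrictScalars R) ∘ₗ P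
  have h1 : s.rTensor p.ResidueField x = 0 := by
    refine Groth.Agent.FlatBasics.rTensor_one_sub_injective ?_ E (fun f => ?_) ?_
    · intro N₀ hN₀
      classical
      obtain ⟨t, ht⟩ := hN₀
      let T : Finset N := t.biUnion Finsupp.support
      refine ⟨Finsupp.supported R R (T : Set N), Finsupp.restrictDom R R (T : Set N), ?_, ?_, ?_⟩
      · exact Module.Finite.iff_fg.mp (Module.Finite.equiv (Finsupp.supportedEquivFinsupp (T : Set N)).symm)
      · rw [← ht, Submodule.span_le]
        exact fun f hf => Finset.coe_subset.mpr (Finset.subset_biUnion_of_mem Finsupp.support hf)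
      · intro g
        ext i
        by_cases hi : i ∈ T
        · simp [Finsupp.restrictDom_apply, Finsupp.filter_apply, hi]
        · have : g.1 i = 0 := Finsupp.notMem_support_iff.mp fun h => hi (g.2 h)
          simp [Finsupp.restrictDom_apply, Finsupp.filter_apply, hi, this]
    · have h := Submodule.mem_map_of_mem (f := s) (Groth.Agent.FlatBasics.smul_mem_of_mem_map (n := 0) he (x := P f) (by simp [Ideal.one_eq_top]))
      rw [Submodule.map_smul'', zero_add, pow_one] at h
      exact Submodule.smul_mono le_rfl le_top h
    · simp only [E, LinearMap.rTensor_comp, LinearMap.comp_apply]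
      rw [← LinearMap.rTensor_comp_apply p.ResidueField P s, hs, LinearMap.rTensor_id, LinearMap.id_apply,
        ← Groth.Agent.FlatBasics.smul_eq_rTensor_lsmul, ← hax]
  rw [← LinearMap.id_apply (R := R) x, ← LinearMap.rTensor_id p.ResidueField N, ← hs, LinearMap.rTensor_comp_apply, h1, map_zero]

end Groth.Agent.S1212
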