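import Groth.Statements.S12126
import Groth.Agent.LeadFCat.DimFormulaLocal

set_option autoImplicit false
universe u
open CAlg

namespace Groth.Agent.S12126

/-- Let A be a Noetherian local domain with maximal ideal m and residue field k, B a domain containing A
which is an A-algebra of finite type, q a prime ideal of B over m and k' the residue field of B_q.
If for every sub-A-algebra A' of finite type of the polynomial ring B[T] and every maximal ideal m'
of A' lying over m the local ring A'_{m'} is catenary, then ht(q) + trdeg_k k' = dim(A) + trdeg_A B,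
stated with heights and transcendence degrees as cardinals (the transcendence degree of B over A is
that of the fraction fields, and that of k' over k is that of B/q over A/m). -/
theorem result (R : Type u) [CommRing R] [IsDomain R]
    [IsNoetherianRing R] [IsLocalRing R] (S : Type u) [CommRing S] [IsDomain S] [Algebra R S]
    [FaithfulSMul R S] [Algebra.FiniteType R S] (q : Ideal S) [q.IsPrime]
    [q.LiesOver (IsLocalRing.maximalIdeal R)]
    (hcat : ∀ A' : Subalgebra R (Polynomial S), A'.FG →
      ∀ (m' : Ideal A') [m'.IsMaximal], m'.LiesOver (IsLocalRing.maximalIdeal R) →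
        CAlg.IsCatenary (Localization.AtPrime m')) :
    (q.height : Cardinal.{u}) + Algebra.trdeg (R ⧸ IsLocalRing.maximalIdeal R) (S ⧸ q) =
      ((IsLocalRing.maximalIdeal R).height : Cardinal.{u}) + Algebra.trdeg R S := by
  obtain ⟨s, hs⟩ := (‹Algebra.FiniteType R S›).out
  let e : Algebra.adjoin R (s : Set S) ≃ₐ[R] S := (Subalgebra.equivOfEq _ _ hs).trans Subalgebra.topEquiv
  let q' : Ideal (Algebra.adjoin R (s : Set S)) := q.comap e.toRingEquiv.toRingHom
  have hq'o : q'.LiesOver (IsLocalRing.maximalIdeal R) := ⟨by
    ext r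
    show r ∈ IsLocalRing.maximalIdeal R ↔ e (algebraMap R _ r) ∈ q
    rw [e.commutes, q.over_def (IsLocalRing.maximalIdeal R)]
    rfl⟩
  obtain ⟨a, b, t, T, ha, hb, ht, hT, hsum⟩ := Groth.Agent.LeadFCat.dimEqAt_maximal hcat s q'
  have h1 : q.height = (a : ℕ∞) := by
    rw [← ha]; exact (e.toRingEquiv.height_comap q).symm
  let χ : (Algebra.adjoin R (s : Set S) ⧸ q') ≃ₐ[R ⧸ IsLocalRing.maximalIdeal R] (S ⧸ q) :=
    AlgEquiv.ofBijective
      { toRingHom := Ideal.quotientMap q e.toRingEquiv.toRingHom le_rfl
        commutes' := fun x => by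
          obtain ⟨x, rfl⟩ := Ideal.Quotient.mk_surjective x
          exact congrArg (Ideal.Quotient.mk q) (e.commutes x) }
      ⟨Ideal.quotientMap_injective, Ideal.quotientMap_surjective (H := le_rfl) e.surjective⟩
  rw [h1, hb, ← χ.trdeg_eq, ← e.trdeg_eq, ht, hT, Cardinal.ofENat_nat, Cardinal.ofENat_nat]
  exact_mod_cast hsum

end Groth.Agent.S12126
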