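import Groth.Statements.S1213
import Groth.Agent.FlatBasics.AssocMax
import Mathlib.RingTheory.Finiteness.Lattice

set_option autoImplicit false
universe u
open scoped Classical
open FlatMor

namespace Groth.Agent.S1213

open TensorProduct IsLocalRing in
/-- Let R be a local ring, S an R-algebra and N an S-module which, as an R-module, is an internal direct
sum of finite R-submodules. Then for every R-module M and every prime q of S which is the
annihilator of an element of the S-module N ⊗_R M we have q + 𝔪_R S ≠ S. -/
theorem result {R S : Type u} [CommRing R] [IsLocalRing R] [CommRing S] [Algebra R S]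
    (N : Type u) [AddCommGroup N] [Module S N] [Module R N] [IsScalarTower R S N]
    (ι : Type u) (F : ι → Submodule R N) (hF : DirectSum.IsInternal F) (hfin : ∀ i, Module.Finite R (F i))
    (M : Type u) [AddCommGroup M] [Module R M]
    (q : Ideal S) [q.IsPrime] (hq : q ∈ FlatCA.ass S (N ⊗[R] M)) :
    q ⊔ (maximalIdeal R).map (algebraMap R S) ≠ ⊤ := by
  obtain ⟨hqp, x, hqx⟩ := hq
  intro htop
  obtain ⟨a, ha, e, he, hae⟩ := Submodule.mem_sup.mp (htop.ge (Submodule.mem_top (x := (1 : S))))
  have hax : a • x = 0 := by
    rw [hqx, Submodule.mem_annihilator_span_singleton] at ha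
    exact ha
  rw [eq_sub_of_add_eq hae, sub_smul, one_smul, sub_eq_zero] at hax
  have hx0 : x ≠ 0 := fun h => hqp.ne_top (by rw [hqx, h, Submodule.span_zero_singleton, Submodule.annihilator_bot])
  refine hx0 ?_
  refine Groth.Agent.FlatBasics.rTensor_one_sub_injective ?_ ((LinearMap.lsmul S N e).restrictScalars R)
    (fun f => ?_) ((Groth.Agent.FlatBasics.smul_eq_rTensor_lsmul e x).symm.trans hax.symm)
  · intro N₀ hN₀
    classical
    have htop' : (⊤ : Submodule R N) = ⨆ i, F i := hF.submodule_iSup_eq_top.symm
    obtain ⟨t, ht⟩ := CompleteLattice.IsCompactElement.exists_finset_of_le_iSup _ ((Submodule.fg_iff_compact N₀).mp hN₀) F (htop' ▸ le_top)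
    let dec := hF.chooseDecomposition
    letI := dec
    let G : Submodule R N := ⨆ i ∈ t, F i
    have hG : G.FG := Submodule.fg_biSup t F (fun i _ => Module.Finite.iff_fg.mp (hfin i))
    let p : N →ₗ[R] N := ∑ i ∈ t, (F i).subtype ∘ₗ (DirectSum.component R ι (fun i => F i) i) ∘ₗ (DirectSum.decomposeLinearEquiv F).toLinearMap
    have hp : ∀ y, p y ∈ G := fun y => by
      simp only [p, LinearMap.coe_sum, Finset.sum_apply, LinearMap.coe_comp, Function.comp_apply]
      exact sum_mem fun i hi => Submodule.mem_iSup_of_mem i (Submodule.mem_iSup_of_mem hi (Subtype.mem _))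
    refine ⟨G, p.codRestrict G hp, hG, ht, fun g => Subtype.ext ?_⟩
    show p g.1 = g.1
    have hle : G ≤ LinearMap.eqLocus p LinearMap.id := iSup₂_le fun i hi y hy => by
      show p y = y
      simp only [p, LinearMap.coe_sum, Finset.sum_apply, LinearMap.coe_comp, Function.comp_apply,
        LinearEquiv.coe_coe, DirectSum.decomposeLinearEquiv_apply, Submodule.subtype_apply]
      rw [Finset.sum_eq_single i]
      · exact DirectSum.decompose_of_mem_same F hy
      · intro j _ hji
        exact DirectSum.decompose_of_mem_ne F hy hji.symm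
      · exact fun h => absurd hi h
    exact hle g.2
  · simpa using Groth.Agent.FlatBasics.smul_mem_of_mem_map (n := 0) he (x := f) (by simp [Ideal.one_eq_top])

end Groth.Agent.S1213
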