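import Groth.Statements.S12132
import Groth.Agent.AssSchLib.LengthIneq

set_option autoImplicit false
universe u
open AssSch

namespace Groth.Agent.S12132

/-- Let B be a Noetherian local ring (the local ring of X at the generic point z of an irreducible
component Z of the support of F/tF), t an element of its maximal ideal, and M a finite B-module (the
stalk F_z) such that the support of M has positive dimension (Z is not an irreducible component of
Supp F) and M/tM has finite length (z is a maximal point of Supp(F/tF)). Then the length of M/tM is
at least the sum, over the primes p of B minimal over the annihilator of M (the generic points of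
the irreducible components of Supp F through z), of the lengths of the B_p-modules M_p; and the two
are equal if and only if t is a non-zero-divisor on M and for every such p the image of t generates
the maximal ideal of B/p (so that B/p is a discrete valuation ring with uniformizer t). -/
theorem result {B : Type u} [CommRing B] [IsNoetherianRing B]
    [IsLocalRing B] (t : B) (ht : t ∈ IsLocalRing.maximalIdeal B)
    (M : Type u) [AddCommGroup M] [Module B M] [Module.Finite B M]
    (hdim : 0 < Module.supportDim B M)
    (hfin : Module.length B (M ⧸ (Ideal.span {t} • (⊤ : Submodule B M))) ≠ ⊤) :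
    (∑ᶠ p : (Module.annihilator B M).minimalPrimes,
        haveI : p.1.IsPrime := p.2.1.1
        Module.length (Localization.AtPrime p.1) (LocalizedModule p.1.primeCompl M)) ≤
      Module.length B (M ⧸ (Ideal.span {t} • (⊤ : Submodule B M))) ∧
    ((∑ᶠ p : (Module.annihilator B M).minimalPrimes,
        haveI : p.1.IsPrime := p.2.1.1
        Module.length (Localization.AtPrime p.1) (LocalizedModule p.1.primeCompl M)) =
      Module.length B (M ⧸ (Ideal.span {t} • (⊤ : Submodule B M))) ↔
    IsSMulRegular M t ∧
      ∀ p : (Module.annihilator B M).minimalPrimes,
        Ideal.map (Ideal.Quotient.mk p.1) (IsLocalRing.maximalIdeal B) =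
          Ideal.span {Ideal.Quotient.mk p.1 t}) := by
  classical
  haveI : Fintype (Module.annihilator B M).minimalPrimes :=
    ((Module.annihilator B M).finite_minimalPrimes_of_isNoetherianRing B).fintype
  haveI hP : ∀ i : (Module.annihilator B M).minimalPrimes, (i.1).IsPrime := fun i => i.2.1.1
  have hnt : ∀ i : (Module.annihilator B M).minimalPrimes, Nontrivial (LocalizedModule i.1.primeCompl M) :=
    fun i => Module.mem_support_iff.1 ((Module.mem_support_iff_of_finite (p := ⟨i.1, i.2.1.1⟩)).2 i.2.1.2)
  have hmain := Groth.Agent.AssSchLib.LengthIneq.main ht (fun i : (Module.annihilator B M).minimalPrimes => i.1)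
    (fun i j h => Subtype.ext (le_antisymm h (j.2.2 ⟨i.2.1.1, i.2.1.2⟩ h))) M
    (fun i _ hti => by
      have h0 := Groth.Agent.AssSchLib.LengthIneq.eq_maximalIdeal_of_mem (t := t) M hfin (r := i.1) i.2.1.2 hti
      have hsub : Subsingleton (Module.support B M) := by
        refine ⟨fun a b => ?_⟩
        have hall : ∀ c : Module.support B M, c.1.asIdeal = IsLocalRing.maximalIdeal B := fun c => by
          refine le_antisymm (IsLocalRing.le_maximalIdeal c.1.2.ne_top) ?_
          have h1 := i.2.2 ⟨c.1.2, Module.mem_support_iff_of_finite.1 c.2⟩
            (h0 ▸ IsLocalRing.le_maximalIdeal c.1.2.ne_top)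
          rwa [h0] at h1
        exact Subtype.ext (PrimeSpectrum.ext ((hall a).trans (hall b).symm))
      exact absurd hdim (not_lt.2 (Order.krullDim_nonpos_of_subsingleton (α := Module.support B M))))
    (fun p hp hle htp => by
      obtain ⟨q, hq, hqp⟩ := Ideal.exists_minimalPrimes_le hle
      haveI := hq.1.1
      exact ⟨⟨q, hq⟩, Groth.Agent.AssSchLib.LengthIneq.eq_of_le_of_notMem ht M hfin hq.1.2 hqp htp⟩)
    hfin
  rw [finsum_eq_sum_of_fintype]
  exact ⟨hmain.1, hmain.2.trans (and_congr_right fun _ => forall_congr' fun i => ⟨fun h => h (hnt i), fun h _ => h⟩)⟩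

end Groth.Agent.S12132
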