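import Groth.Statements.S12135
import Groth.Agent.ProConsLib.Cons

set_option autoImplicit false
universe u
open EGA41

namespace Groth.Agent.S12135

open AlgebraicGeometry Topology in
/-- Let f : X → Y be a morphism of schemes with X and Y quasi-separated, and let X^cons, Y^cons denote
the underlying sets with the constructible topology (generated by the quasi-compact open subsets and
their complements; for quasi-separated schemes the open sets are exactly the ind-constructible
subsets). Then f is quasi-compact if and only if the map X^cons → Y^cons underlying f is proper
(continuous and universally closed). (The published statement is for arbitrary schemes with the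
ind-constructible topology; this row covers the quasi-separated case, where that topology is the one
used here.) -/
theorem result {X Y : Scheme.{u}} [QuasiSeparatedSpace X]
    [QuasiSeparatedSpace Y] (f : X ⟶ Y) :
    QuasiCompact f ↔ @IsProperMap X Y (constructibleTopology X) (constructibleTopology Y) f := by
  refine ⟨fun _ => Groth.Agent.ProConsLib.isProperMap_con f, fun h => ⟨fun U hU hUc => ?_⟩⟩
  have := @IsProperMap.isCompact_preimage X Y (constructibleTopology X) (constructibleTopology Y) f h _
    (Groth.Agent.ProConsLib.isCompact_con hU hUc)
  simpa using @IsCompact.image X X (constructibleTopology X) _ (f ⁻¹' U) id this
    (continuous_id_of_le Groth.Agent.Spectral.con_le)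

end Groth.Agent.S12135
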