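import Groth.Statements.S1214
import Groth.Agent.FlatBasics.AssocMax

set_option autoImplicit false
universe u
open FlatMor

namespace Groth.Agent.S1214

open TensorProduct in
/-- Let R → S be a ring map, I an ideal of R and N an S-module which is I-adically complete. Then for
every R-module M and every prime q of S which is the annihilator of an element of the S-module N ⊗_R
M we have q + IS ≠ S. -/
theorem result {R S : Type u} [CommRing R] [CommRing S] [Algebra R S] (I : Ideal R)
    (N : Type u) [AddCommGroup N] [Module S N] [Module R N] [IsScalarTower R S N] [IsAdicComplete I N]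
    (M : Type u) [AddCommGroup M] [Module R M]
    (q : Ideal S) [q.IsPrime] (hq : q ∈ FlatCA.ass S (N ⊗[R] M)) :
    q ⊔ I.map (algebraMap R S) ≠ ⊤ := by
  obtain ⟨hqp, x, hqx⟩ := hq
  intro htop
  obtain ⟨a, ha, e, he, hae⟩ := Submodule.mem_sup.mp (htop.ge (Submodule.mem_top (x := (1 : S))))
  have hax : a • x = 0 := by
    rw [hqx, Submodule.mem_annihilator_span_singleton] at ha
    exact ha
  rw [eq_sub_of_add_eq hae, sub_smul, one_smul, sub_eq_zero] at hax
  have hx0 : x ≠ 0 := fun h => hqp.ne_top (by rw [hqx, h, Submodule.span_zero_singleton, Submodule.annihilator_bot])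
  refine hx0 ?_
  have hbij := Groth.Agent.FlatBasics.smul_one_sub_bijective (N := N) I he
  refine ((LinearEquiv.ofBijective _ hbij).rTensor M).injective ?_
  rw [map_zero]
  show LinearMap.rTensor M ((LinearMap.lsmul S N (1 - e)).restrictScalars R) x = 0
  rw [← Groth.Agent.FlatBasics.smul_eq_rTensor_lsmul, sub_smul, one_smul, ← hax, sub_self]

end Groth.Agent.S1214
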