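import Groth.Statements.S12151
import Groth.Agent.SymAlgRel.RLimm

set_option autoImplicit false
universe u
open CategoryTheory CategoryTheory.Limits AlgebraicGeometry TopologicalSpace Opposite
open scoped HomogeneousIdeal
noncomputable section
open EGA2

namespace Groth.Agent.S12151

/-- Let q : X → Y be a morphism with Y affine, L an invertible O_X-module with 𝒮L = ⊕ L^{⊗n} (whose Proj
is X), 𝒮 a quasi-coherent positively graded O_Y-algebra with S = Γ(Y, 𝒮), ψ♭ = u : 𝒮 → q_*𝒮L a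
graded q-morphism and r = r_{L,ψ} : G(ψ) → P = Proj(𝒮). For a family s_a ∈ S_{n_a} (n_a > 0) put f_a
= ψ♭(s_a) ∈ Γ(X, L^{⊗n_a}) and let X_{f_a} be the open where f_a does not vanish; conditions: (i)
the X_{f_a} cover X; (ii) the X_{f_a} are affine; (iii) every function t on X_{f_a} is of the form
ψ♭(s') f_a^{-m} with m > 0 and s' ∈ S_{m n_a} (that is, t f_a^m = ψ♭(s') in 𝒮L(X_{f_a})); (iv) for
every m > 0 and s' ∈ S_{m n_a} with ψ♭(s')|X_{f_a} = 0 there is k > 0 with s_a^k s' = 0. Then r is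
everywhere defined and an open immersion if and only if there is a family (s_a) satisfying (i),
(ii), (iii) and (iv). -/
theorem result {Y X P PL : Scheme.{u}} (q : X ⟶ Y)
    (L : X.Modules) (hL : PicF.IsInvertible L) (hLq : Coh.IsQCoh L)
    (𝒮 : RelProj.QCGrAlg Y) (𝒮L : RelProj.QCGrAlg X) (j : L ⟶ 𝒮L.toModule) (hj : RelProj.IsGrSymAlg L 𝒮L j)
    (u : RelProj.QGrHom q 𝒮 𝒮L)
    (p : P ⟶ Y) (chart : ∀ (U : Y.Opens) (hU : IsAffineOpen U), (((p ⁻¹ᵁ U : P.Opens) : Scheme.{u}) ≅ Proj (𝒮.deg U hU)))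
    (hP : RelProj.IsRelProj 𝒮 p chart)
    (pL : PL ⟶ X) (chartL : ∀ (U : X.Opens) (hU : IsAffineOpen U), (((pL ⁻¹ᵁ U : PL.Opens) : Scheme.{u}) ≅ Proj (𝒮L.deg U hU)))
    (hPL : RelProj.IsRelProj 𝒮L pL chartL)
    (r : ((RelProj.domQ u pL chartL : PL.Opens) : Scheme.{u}) ⟶ P)
    (hr : RelProj.IsProjQMapOn u p chart pL chartL (RelProj.domQ u pL chartL) r)
    (hY : IsAffineOpen (⊤ : Y.Opens)) :
    (RelProj.domQ u pL chartL = ⊤ ∧ IsOpenImmersion r) ↔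
      ∃ (ι : Type u) (n : ι → ℕ) (s : ι → 𝒮.presheaf.obj (op ⊤)) (XT : ι → X.Opens),
        (∀ a, 0 < n a ∧ s a ∈ 𝒮.deg ⊤ hY (n a)) ∧
        (∀ a, XT a = (⨆ V : {V : X.affineOpens //
          ((𝒮L.deg V.1 V.2 (n a) : AddSubgroup (𝒮L.presheaf.obj (op (V.1 : X.Opens)))) : Set (𝒮L.presheaf.obj (op (V.1 : X.Opens)))) ⊆
            (Ideal.span {(u.appLE ⊤ (V.1 : X.Opens) (le_top.trans (Scheme.Hom.preimage_top q).ge)).hom (s a)} : Set (𝒮L.presheaf.obj (op (V.1 : X.Opens))))},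
          (V.1.1 : X.Opens))) ∧
        (⨆ a, XT a) = ⊤ ∧ (∀ a, IsAffineOpen (XT a)) ∧
        (∀ (a : ι) (t : X.presheaf.obj (op (XT a))), ∃ (m : ℕ) (_ : 0 < m) (s' : 𝒮.presheaf.obj (op ⊤)) (_ : s' ∈ 𝒮.deg ⊤ hY (m * n a)),
            (𝒮L.str.app (op (XT a))).hom t * ((u.appLE ⊤ (XT a) (le_top.trans (Scheme.Hom.preimage_top q).ge)).hom (s a)) ^ m =
              (u.appLE ⊤ (XT a) (le_top.trans (Scheme.Hom.preimage_top q).ge)).hom s') ∧
        (∀ (a : ι) (m : ℕ), 0 < m → ∀ s' ∈ 𝒮.deg ⊤ hY (m * n a),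
            (u.appLE ⊤ (XT a) (le_top.trans (Scheme.Hom.preimage_top q).ge)).hom s' = 0 → ∃ (k : ℕ), 0 < k ∧ (s a) ^ k * s' = 0) := by
  open Groth.Agent.SymAlgRel in
  constructor
  · rintro ⟨htop, hi⟩
    refine ⟨{a : ℕ × 𝒮.presheaf.obj (op (⊤ : Y.Opens)) // 0 < a.1 ∧ a.2 ∈ 𝒮.deg ⊤ hY a.1 ∧ IsAffineOpen (xs u ⊤ a.1 a.2) ∧
        Frac u ⊤ hY (xs u ⊤ a.1 a.2) (xs_le u ⊤ a.1 a.2) a.1 a.2 ∧
        Tors u ⊤ hY (xs u ⊤ a.1 a.2) (xs_le u ⊤ a.1 a.2) a.1 a.2},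
      fun a => a.1.1, fun a => a.1.2, fun a => xs u ⊤ a.1.1 a.1.2,
      fun a => ⟨a.2.1, a.2.2.1⟩, fun a => (xs_top_eq u _ _).symm, ?_, fun a => a.2.2.2.1, fun a => a.2.2.2.2.1,
      fun a => a.2.2.2.2.2⟩
    refine eq_top_iff.2 fun x _ => ?_
    haveI := hi
    have hiso : ∀ W : P.Opens, W ≤ r.opensRange → IsIso (r ∣_ W) := fun W hW => by
      rw [isIso_iff_isOpenImmersion_and_surjective]
      refine ⟨IsZariskiLocalAtTarget.restrict (P := @IsOpenImmersion) inferInstance W, ⟨fun y => ?_⟩⟩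
      obtain ⟨z, hz⟩ := hW y.2
      exact ⟨⟨z, show r z ∈ W by rw [hz]; exact y.2⟩,
        Subtype.ext ((morphismRestrict_base_coe _ _ _).trans hz)⟩
    obtain ⟨d, hd, f, hf, hx, hle, hT, hF⟩ := exists_good u hj hLq hL hP hPL hr htop r.opensRange
      (fun z => ⟨z, rfl⟩) (fun W hW => by haveI := hiso W hW; infer_instance) x ⊤ hY trivial
    exact Opens.mem_iSup.2 ⟨⟨(d, f), hd, hf, hT, hF,
      ((isIso_restrict_iff u hj hLq hL hP hPL hr ⊤ hY hd f hf hT).1 (hiso _ hle)).2⟩, hx⟩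
  · rintro ⟨ι, n, s, XT, hs, hXT, hcov, hA, hF, hK⟩
    obtain rfl : XT = fun a => xs u ⊤ (n a) (s a) := funext fun a => (hXT a).trans (xs_top_eq u _ _)
    obtain ⟨h1, h2, h3⟩ := prop_of_family u hj hLq hL hP hPL hr @IsOpenImmersion (fun _ => ⊤) (fun _ => hY) n
      (fun a => (hs a).1) s (fun a => (hs a).2)
      (fun x => Opens.mem_iSup.1 (hcov.ge (show x ∈ (⊤ : X.Opens) from trivial)))
      (fun a => by
        haveI := (isIso_restrict_iff u hj hLq hL hP hPL hr ⊤ hY (hs a).1 (s a) (hs a).2 (hA a)).2 ⟨hF a, hK a⟩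
        infer_instance)
    obtain ⟨i, hi, e⟩ := exists_comp_restrict r _ h2
    haveI := hi
    haveI := h3
    exact ⟨h1, by rw [e]; infer_instance⟩

end Groth.Agent.S12151
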