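import Groth.Statements.S12154
import Groth.Agent.EGA2Misc.ProjQComp

set_option autoImplicit false
universe u
open CategoryTheory CategoryTheory.Limits AlgebraicGeometry TopologicalSpace Opposite
open scoped HomogeneousIdeal
noncomputable section
open EGA2

namespace Groth.Agent.S12154

/-- Let q : X → Y be a morphism, L an invertible O_X-module with 𝒮L = ⊕ L^{⊗n} (whose Proj, with its
charts, is X), v : 𝒯 → 𝒮 a graded homomorphism of quasi-coherent positively graded O_Y-algebras, ψ♭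
= u : 𝒮 → q_*𝒮L a graded q-morphism and ψ'♭ = u' its composite with v; let r = r_{L,ψ} : G(ψ) →
Proj(𝒮) and r' = r_{L,ψ'} : G(ψ') → Proj(𝒯), with r' everywhere defined and v (TN)-surjective (v :
𝒯_k → 𝒮_k surjective for all large k, on sections over affine opens). If r' is an open immersion, so
is r; if r' is a closed immersion, so is r. -/
theorem result {Y X P PL P' : Scheme.{u}} (q : X ⟶ Y)
    (L : X.Modules) (hL : PicF.IsInvertible L) (hLq : Coh.IsQCoh L)
    (𝒮 : RelProj.QCGrAlg Y) (𝒮L : RelProj.QCGrAlg X) (j : L ⟶ 𝒮L.toModule) (hj : RelProj.IsGrSymAlg L 𝒮L j)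
    (u : RelProj.QGrHom q 𝒮 𝒮L)
    (p : P ⟶ Y) (chart : ∀ (U : Y.Opens) (hU : IsAffineOpen U), (((p ⁻¹ᵁ U : P.Opens) : Scheme.{u}) ≅ Proj (𝒮.deg U hU)))
    (hP : RelProj.IsRelProj 𝒮 p chart)
    (pL : PL ⟶ X) (chartL : ∀ (U : X.Opens) (hU : IsAffineOpen U), (((pL ⁻¹ᵁ U : PL.Opens) : Scheme.{u}) ≅ Proj (𝒮L.deg U hU)))
    (hPL : RelProj.IsRelProj 𝒮L pL chartL)
    (r : ((RelProj.domQ u pL chartL : PL.Opens) : Scheme.{u}) ⟶ P)
    (hr : RelProj.IsProjQMapOn u p chart pL chartL (RelProj.domQ u pL chartL) r)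
    (𝒯 : RelProj.QCGrAlg Y) (v : 𝒯.toQCAlg ⟶ 𝒮.toQCAlg) (hv : RelProj.IsGradedHom v)
    (u' : RelProj.QGrHom q 𝒯 𝒮L) (hu' : ∀ U : Y.Opens, u'.app U = v.hom.app (op U) ≫ u.app U)
    (p' : P' ⟶ Y) (chart' : ∀ (U : Y.Opens) (hU : IsAffineOpen U), (((p' ⁻¹ᵁ U : P'.Opens) : Scheme.{u}) ≅ Proj (𝒯.deg U hU)))
    (hP' : RelProj.IsRelProj 𝒯 p' chart')
    (r' : ((RelProj.domQ u' pL chartL : PL.Opens) : Scheme.{u}) ⟶ P')
    (hr' : RelProj.IsProjQMapOn u' p' chart' pL chartL (RelProj.domQ u' pL chartL) r')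
    (hTN : ∃ n : ℕ, ∀ k, n ≤ k → ∀ (U : Y.Opens) (hU : IsAffineOpen U), ∀ y ∈ 𝒮.deg U hU k,
      ∃ x ∈ 𝒯.deg U hU k, (v.hom.app (op U)).hom x = y)
    (hdef : RelProj.domQ u' pL chartL = ⊤) :
    (IsOpenImmersion r' → IsOpenImmersion r) ∧ (IsClosedImmersion r' → IsClosedImmersion r) := by
  obtain ⟨hle, r₁, ρ, hρ, h1, h2, -⟩ :=
    Groth.Agent.EGA2Misc.exists_comp (hv := hv) hu' hP hPL hP' hr hr'
  let G := RelProj.domQ (RelProj.QGrHom.ofHom v hv) p chart
  have hG : G = ⊤ := Groth.Agent.EGA2Misc.domQ_ofHom_eq_top hTN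
  haveI : IsClosedImmersion ρ := by
    obtain ⟨n, hn⟩ := hTN
    refine Groth.Agent.EGA2Misc.projQMap_prop hP' hP hρ @IsClosedImmersion fun U hU d hd f hf => ?_
    refine IsClosedImmersion.spec_of_surjective _
      (Groth.Agent.EGA2Misc.away_map_surjective _ (n := n) hd hf fun k hk y hy => ?_)
    obtain ⟨x, hx, hxy⟩ := hn k hk U hU y hy
    exact ⟨x, hx, (Groth.Agent.EGA2Misc.gradedAt_ofHom_apply U hU x).trans hxy⟩
  haveI : IsIso G.ι := by
    have hrg : Set.range G.ι = Set.univ := by rw [Scheme.Opens.range_ι, hG]; rfl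
    haveI : Surjective G.ι := ⟨Set.range_eq_univ.1 hrg⟩
    exact (isIso_iff_isOpenImmersion_and_surjective G.ι).2 ⟨inferInstance, inferInstance⟩
  have htop : RelProj.domQ u pL chartL = ⊤ := top_le_iff.1 (hdef ▸ hle)
  haveI : IsIso (PL.homOfLE hle) := by
    have e : RelProj.domQ u' pL chartL = RelProj.domQ u pL chartL := hdef.trans htop.symm
    have : PL.homOfLE hle = (PL.isoOfEq e).hom := by
      rw [← cancel_mono (RelProj.domQ u pL chartL).ι, Scheme.homOfLE_ι, Scheme.isoOfEq_hom_ι]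
    rw [this]
    infer_instance
  refine ⟨fun h => ?_, fun h => ?_⟩
  · haveI : IsOpenImmersion r₁ := by
      have hpb : IsPullback (𝟙 _) r₁ (r₁ ≫ ρ) ρ :=
        IsPullback.of_isLimit' ⟨Category.id_comp _⟩ (PullbackCone.IsLimit.mk _ (fun s => s.fst)
          (fun s => Category.comp_id _)
          (fun s => by rw [← cancel_mono ρ, Category.assoc]; exact s.condition)
          (fun s m hm _ => (Category.comp_id m).symm.trans hm))
      exact MorphismProperty.of_isPullback (P := @IsOpenImmersion) hpb (h2 ▸ h)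
    exact (MorphismProperty.cancel_left_of_respectsIso @IsOpenImmersion (PL.homOfLE hle) r).1
      (h1 ▸ inferInstance)
  · haveI : IsClosedImmersion (r₁ ≫ ρ) := h2 ▸ h
    haveI : IsClosedImmersion r₁ := IsClosedImmersion.of_comp r₁ ρ
    exact (MorphismProperty.cancel_left_of_respectsIso @IsClosedImmersion (PL.homOfLE hle) r).1
      (h1 ▸ inferInstance)

end Groth.Agent.S12154
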