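import Groth.Statements.S12160
import Groth.Agent.SymAlgRel.RLpsi

set_option autoImplicit false
universe u
open CategoryTheory CategoryTheory.Limits AlgebraicGeometry TopologicalSpace Opposite
open scoped HomogeneousIdeal
noncomputable section
open EGA2

namespace Groth.Agent.S12160

/-- Let Y be a quasi-compact scheme, q : X → Y a quasi-compact morphism, L an invertible O_X-module with
𝒮L = ⊕ L^{⊗n} (whose Proj is X), 𝒮 = colim 𝒮^i a filtered colimit of quasi-coherent positively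
graded O_Y-algebras along graded homomorphisms φ_i : 𝒮^i → 𝒮 (colimit taken on sections over affine
opens), ψ♭ = u : 𝒮 → q_*𝒮L a graded q-morphism and ψ_i♭ = u ∘ φ_i; let r = r_{L,ψ} : G(ψ) → Proj(𝒮)
and r_i = r_{L,ψ_i} : G(ψ_i) → Proj(𝒮^i). If all the r_i are dominant then r is dominant; the
converse holds when the φ_i are injective. -/
theorem result {Y X P PL : Scheme.{u}} (q : X ⟶ Y)
    (L : X.Modules) (hL : PicF.IsInvertible L) (hLq : Coh.IsQCoh L)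
    (𝒮 : RelProj.QCGrAlg Y) (𝒮L : RelProj.QCGrAlg X) (j : L ⟶ 𝒮L.toModule) (hj : RelProj.IsGrSymAlg L 𝒮L j)
    (u : RelProj.QGrHom q 𝒮 𝒮L)
    (p : P ⟶ Y) (chart : ∀ (U : Y.Opens) (hU : IsAffineOpen U), (((p ⁻¹ᵁ U : P.Opens) : Scheme.{u}) ≅ Proj (𝒮.deg U hU)))
    (hP : RelProj.IsRelProj 𝒮 p chart)
    (pL : PL ⟶ X) (chartL : ∀ (U : X.Opens) (hU : IsAffineOpen U), (((pL ⁻¹ᵁ U : PL.Opens) : Scheme.{u}) ≅ Proj (𝒮L.deg U hU)))
    (hPL : RelProj.IsRelProj 𝒮L pL chartL)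
    [CompactSpace Y] [QuasiCompact q]
    (r : ((RelProj.domQ u pL chartL : PL.Opens) : Scheme.{u}) ⟶ P)
    (hr : RelProj.IsProjQMapOn u p chart pL chartL (RelProj.domQ u pL chartL) r)
    (Λ : Type u) [Preorder Λ] [IsDirected Λ (· ≤ ·)] [Nonempty Λ]
    (𝒮i : Λ → RelProj.QCGrAlg Y) (φ : ∀ i, (𝒮i i).toQCAlg ⟶ 𝒮.toQCAlg) (hφ : ∀ i, RelProj.IsGradedHom (φ i))
    (t : ∀ i j, i ≤ j → ((𝒮i i).toQCAlg ⟶ (𝒮i j).toQCAlg)) (ht : ∀ i j (h : i ≤ j), RelProj.IsGradedHom (t i j h))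
    (hφt : ∀ i j (h : i ≤ j), t i j h ≫ φ j = φ i)
    (hsurj : ∀ (U : Y.Opens), IsAffineOpen U → ∀ x : 𝒮.presheaf.obj (op U),
      ∃ (i : Λ) (y : (𝒮i i).presheaf.obj (op U)), ((φ i).hom.app (op U)).hom y = x)
    (hker : ∀ (U : Y.Opens), IsAffineOpen U → ∀ (i : Λ) (y : (𝒮i i).presheaf.obj (op U)),
      ((φ i).hom.app (op U)).hom y = 0 → ∃ (j : Λ) (h : i ≤ j), ((t i j h).hom.app (op U)).hom y = 0)
    (ui : ∀ i, RelProj.QGrHom q (𝒮i i) 𝒮L) (hui : ∀ i (U : Y.Opens), (ui i).app U = (φ i).hom.app (op U) ≫ u.app U)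
    (Pi : Λ → Scheme.{u}) (pi : ∀ i, Pi i ⟶ Y)
    (charti : ∀ i (U : Y.Opens) (hU : IsAffineOpen U), ((((pi i) ⁻¹ᵁ U : (Pi i).Opens) : Scheme.{u}) ≅ Proj ((𝒮i i).deg U hU)))
    (hPi : ∀ i, RelProj.IsRelProj (𝒮i i) (pi i) (charti i))
    (ri : ∀ i, ((RelProj.domQ (ui i) pL chartL : PL.Opens) : Scheme.{u}) ⟶ Pi i)
    (hri : ∀ i, RelProj.IsProjQMapOn (ui i) (pi i) (charti i) pL chartL (RelProj.domQ (ui i) pL chartL) (ri i)) :
    ((∀ i, IsDominant (ri i)) → IsDominant r) ∧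
      ((∀ i (U : Y.Opens), IsAffineOpen U → Function.Injective ((φ i).hom.app (op U)).hom) →
        IsDominant r → ∀ i, IsDominant (ri i)) := by
  refine ⟨fun hi => ⟨dense_iff_inter_open.2 fun O hO ⟨y₀, hy₀⟩ => ?_⟩,
    fun hinj hdom i => ⟨dense_iff_inter_open.2 fun O hO ⟨y₀, hy₀⟩ => ?_⟩⟩
  · obtain ⟨_, ⟨U, hU, rfl⟩, hyU, -⟩ :=
      Y.isBasis_affineOpens.exists_subset_of_mem_open (Set.mem_univ (p y₀)) isOpen_univ
    obtain ⟨w, hw⟩ : y₀ ∈ (RelProj.emb p chart U hU).opensRange := by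
      rw [Groth.Agent.EGA2Misc.opensRange_emb]; exact hyU
    obtain ⟨d, f, hd, hf, hwf, hfO⟩ := Groth.Agent.SymAlgRel.exists_mem_basicOpen_le
      (W := RelProj.emb p chart U hU ⁻¹ᵁ ⟨O, hO⟩) (w := w) (show RelProj.emb p chart U hU w ∈ O from hw ▸ hy₀)
    obtain ⟨i, z, hz⟩ := hsurj U hU f
    letI := (𝒮i i).graded U hU
    letI := 𝒮.graded U hU
    let ν := (RelProj.QGrHom.ofHom (φ i) (hφ i)).gradedAt U hU U hU le_rfl
    let b : (𝒮i i).presheaf.obj (op U) := DirectSum.decompose ((𝒮i i).deg U hU) z d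
    have hb : b ∈ (𝒮i i).deg U hU d := SetLike.coe_mem _
    have hνb : ν b = f := by
      show ν (DirectSum.decompose ((𝒮i i).deg U hU) z d) = f
      rw [GradedRingHom.map_directSumDecompose, Groth.Agent.EGA2Misc.gradedAt_ofHom_apply, hz]
      exact DirectSum.decompose_of_mem_same _ hf
    obtain ⟨v, hv⟩ : ∃ v, v ∈ Proj.basicOpen ((𝒮i i).deg U hU) b := by
      by_contra hcon
      push Not at hcon
      have hnil := Groth.Agent.SymAlgRel.isNilpotent_of_basicOpen_eq_bot hb hd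
        (eq_bot_iff.2 fun v hv => (hcon v hv).elim)
      have h := Groth.Agent.SymAlgRel.basicOpen_eq_bot_of_isNilpotent (𝒜 := 𝒮.deg U hU) (hnil.map ν)
      rw [hνb] at h
      rw [h] at hwf
      exact hwf
    obtain ⟨_, ⟨v', hv', rfl⟩, x, hx⟩ := (hi i).denseRange.inter_open_nonempty _
      (RelProj.emb (pi i) (charti i) U hU ''ᵁ Proj.basicOpen ((𝒮i i).deg U hU) b).2
      ⟨_, v, hv, rfl⟩
    obtain ⟨U', hU', hle, hm⟩ := (Groth.Agent.EGA2Misc.mem_emb_iff (ui i) (hPi i) hPL (hri i) U hU hd b hb x).1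
      ⟨v', hv', hx.symm⟩
    rw [Groth.Agent.EGA2Misc.gradedAt_comp (hui i) (hv := hφ i), hνb] at hm
    have hxD : x.1 ∈ RelProj.domQ u pL chartL :=
      Groth.Agent.EGA2Misc.mem_domQ_of_mem_emb u U hU U' hU' hle hd f hf _ hm
    obtain ⟨w', hw', hr'⟩ := (Groth.Agent.EGA2Misc.mem_emb_iff u hP hPL hr U hU hd f hf ⟨x.1, hxD⟩).2
      ⟨U', hU', hle, hm⟩
    exact ⟨r ⟨x.1, hxD⟩, hr' ▸ hfO hw', ⟨x.1, hxD⟩, rfl⟩
  · obtain ⟨_, ⟨U, hU, rfl⟩, hyU, -⟩ :=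
      Y.isBasis_affineOpens.exists_subset_of_mem_open (Set.mem_univ (pi i y₀)) isOpen_univ
    obtain ⟨w, hw⟩ : y₀ ∈ (RelProj.emb (pi i) (charti i) U hU).opensRange := by
      rw [Groth.Agent.EGA2Misc.opensRange_emb]; exact hyU
    obtain ⟨d, b, hd, hb, hwb, hbO⟩ := Groth.Agent.SymAlgRel.exists_mem_basicOpen_le
      (W := RelProj.emb (pi i) (charti i) U hU ⁻¹ᵁ ⟨O, hO⟩) (w := w)
      (show RelProj.emb (pi i) (charti i) U hU w ∈ O from hw ▸ hy₀)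
    let ν := (RelProj.QGrHom.ofHom (φ i) (hφ i)).gradedAt U hU U hU le_rfl
    obtain ⟨v, hv⟩ : ∃ v, v ∈ Proj.basicOpen (𝒮.deg U hU) (ν b) := by
      by_contra hcon
      push Not at hcon
      obtain ⟨k, hk⟩ := Groth.Agent.SymAlgRel.isNilpotent_of_basicOpen_eq_bot (ν.map_mem hb) hd
        (eq_bot_iff.2 fun v hv => (hcon v hv).elim)
      have hk' : ((φ i).hom.app (op U)).hom (b ^ k) = 0 :=
        (Groth.Agent.EGA2Misc.gradedAt_ofHom_apply U hU (b ^ k)).symm.trans ((map_pow ν b k).trans hk)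
      have hnil : IsNilpotent b := ⟨k, hinj i U hU (hk'.trans (map_zero _).symm)⟩
      rw [Groth.Agent.SymAlgRel.basicOpen_eq_bot_of_isNilpotent hnil] at hwb
      exact hwb
    obtain ⟨_, ⟨v', hv', rfl⟩, x, hx⟩ := hdom.denseRange.inter_open_nonempty _
      (RelProj.emb p chart U hU ''ᵁ Proj.basicOpen (𝒮.deg U hU) (ν b)).2 ⟨_, v, hv, rfl⟩
    obtain ⟨U', hU', hle, hm⟩ := (Groth.Agent.EGA2Misc.mem_emb_iff u hP hPL hr U hU hd (ν b) (ν.map_mem hb) x).1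
      ⟨v', hv', hx.symm⟩
    rw [← Groth.Agent.EGA2Misc.gradedAt_comp (hui i) (hv := hφ i)] at hm
    have hxD : x.1 ∈ RelProj.domQ (ui i) pL chartL :=
      Groth.Agent.EGA2Misc.mem_domQ_of_mem_emb (ui i) U hU U' hU' hle hd b hb _ hm
    obtain ⟨w', hw', hr'⟩ := (Groth.Agent.EGA2Misc.mem_emb_iff (ui i) (hPi i) hPL (hri i) U hU hd b hb ⟨x.1, hxD⟩).2
      ⟨U', hU', hle, hm⟩
    exact ⟨ri i ⟨x.1, hxD⟩, hr' ▸ hbO hw', ⟨x.1, hxD⟩, rfl⟩

end Groth.Agent.S12160
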