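import Groth.Statements.S12161
import Groth.Agent.SymAlgRel.RLcolim

set_option autoImplicit false
universe u
open CategoryTheory CategoryTheory.Limits AlgebraicGeometry TopologicalSpace Opposite
open scoped HomogeneousIdeal
noncomputable section
open EGA2

namespace Groth.Agent.S12161

/-- Let Y be a quasi-compact scheme, q : X → Y a quasi-compact morphism, L an invertible O_X-module with
𝒮L = ⊕ L^{⊗n} (whose Proj is X), 𝒮 = colim 𝒮^i a filtered colimit of quasi-coherent positively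
graded O_Y-algebras along graded homomorphisms φ_i : 𝒮^i → 𝒮 (colimit taken on sections over affine
opens), ψ♭ = u : 𝒮 → q_*𝒮L a graded q-morphism and ψ_i♭ = u ∘ φ_i, with q of finite type; let r =
r_{L,ψ} : G(ψ) → Proj(𝒮) and r_i = r_{L,ψ_i} : G(ψ_i) → Proj(𝒮^i). Then r is everywhere defined and
an immersion if and only if some r_i is, and then so is r_j for all j ≥ i. -/
theorem result {Y X P PL : Scheme.{u}} (q : X ⟶ Y)
    (L : X.Modules) (hL : PicF.IsInvertible L) (hLq : Coh.IsQCoh L)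
    (𝒮 : RelProj.QCGrAlg Y) (𝒮L : RelProj.QCGrAlg X) (j : L ⟶ 𝒮L.toModule) (hj : RelProj.IsGrSymAlg L 𝒮L j)
    (u : RelProj.QGrHom q 𝒮 𝒮L)
    (p : P ⟶ Y) (chart : ∀ (U : Y.Opens) (hU : IsAffineOpen U), (((p ⁻¹ᵁ U : P.Opens) : Scheme.{u}) ≅ Proj (𝒮.deg U hU)))
    (hP : RelProj.IsRelProj 𝒮 p chart)
    (pL : PL ⟶ X) (chartL : ∀ (U : X.Opens) (hU : IsAffineOpen U), (((pL ⁻¹ᵁ U : PL.Opens) : Scheme.{u}) ≅ Proj (𝒮L.deg U hU)))
    (hPL : RelProj.IsRelProj 𝒮L pL chartL)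
    [CompactSpace Y] [QuasiCompact q] [LocallyOfFiniteType q]
    (r : ((RelProj.domQ u pL chartL : PL.Opens) : Scheme.{u}) ⟶ P)
    (hr : RelProj.IsProjQMapOn u p chart pL chartL (RelProj.domQ u pL chartL) r)
    (Λ : Type u) [Preorder Λ] [IsDirected Λ (· ≤ ·)] [Nonempty Λ]
    (𝒮i : Λ → RelProj.QCGrAlg Y) (φ : ∀ i, (𝒮i i).toQCAlg ⟶ 𝒮.toQCAlg) (hφ : ∀ i, RelProj.IsGradedHom (φ i))
    (t : ∀ i j, i ≤ j → ((𝒮i i).toQCAlg ⟶ (𝒮i j).toQCAlg)) (ht : ∀ i j (h : i ≤ j), RelProj.IsGradedHom (t i j h))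
    (hφt : ∀ i j (h : i ≤ j), t i j h ≫ φ j = φ i)
    (hsurj : ∀ (U : Y.Opens), IsAffineOpen U → ∀ x : 𝒮.presheaf.obj (op U),
      ∃ (i : Λ) (y : (𝒮i i).presheaf.obj (op U)), ((φ i).hom.app (op U)).hom y = x)
    (hker : ∀ (U : Y.Opens), IsAffineOpen U → ∀ (i : Λ) (y : (𝒮i i).presheaf.obj (op U)),
      ((φ i).hom.app (op U)).hom y = 0 → ∃ (j : Λ) (h : i ≤ j), ((t i j h).hom.app (op U)).hom y = 0)
    (ui : ∀ i, RelProj.QGrHom q (𝒮i i) 𝒮L) (hui : ∀ i (U : Y.Opens), (ui i).app U = (φ i).hom.app (op U) ≫ u.app U)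
    (Pi : Λ → Scheme.{u}) (pi : ∀ i, Pi i ⟶ Y)
    (charti : ∀ i (U : Y.Opens) (hU : IsAffineOpen U), ((((pi i) ⁻¹ᵁ U : (Pi i).Opens) : Scheme.{u}) ≅ Proj ((𝒮i i).deg U hU)))
    (hPi : ∀ i, RelProj.IsRelProj (𝒮i i) (pi i) (charti i))
    (ri : ∀ i, ((RelProj.domQ (ui i) pL chartL : PL.Opens) : Scheme.{u}) ⟶ Pi i)
    (hri : ∀ i, RelProj.IsProjQMapOn (ui i) (pi i) (charti i) pL chartL (RelProj.domQ (ui i) pL chartL) (ri i)) :
    ((RelProj.domQ u pL chartL = ⊤ ∧ IsImmersion r) ↔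
        ∃ i, RelProj.domQ (ui i) pL chartL = ⊤ ∧ IsImmersion (ri i)) ∧
      ∀ i, (RelProj.domQ (ui i) pL chartL = ⊤ ∧ IsImmersion (ri i)) →
        ∀ j, i ≤ j → RelProj.domQ (ui j) pL chartL = ⊤ ∧ IsImmersion (ri j) := by
  open Groth.Agent.SymAlgRel in
  refine ⟨⟨fun ⟨htop, hi⟩ => ?_, fun ⟨i, htop, hi⟩ => ?_⟩, fun i ⟨htop, hi⟩ k hik => ?_⟩
  · haveI := QuasiCompact.compactSpace_of_compactSpace q
    have h : ∀ x : X, ∃ (U : Y.Opens) (hU : IsAffineOpen U) (d : ℕ) (_ : 0 < d)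
        (f : 𝒮.presheaf.obj (op U)) (_ : f ∈ 𝒮.deg U hU d), x ∈ xs u U d f ∧ IsAffineOpen (xs u U d f) ∧
          Frac u U hU (xs u U d f) (xs_le u U d f) d f := by
      intro x
      obtain ⟨_, ⟨U, hU, rfl⟩, hxU, -⟩ :=
        Y.isBasis_affineOpens.exists_subset_of_mem_open (Set.mem_univ (q x)) isOpen_univ
      exact ⟨U, hU, exists_good_of_isImmersion u hj hLq hL hP hPL hr htop hi x U hU hxU⟩
    choose U hU d hd f hf hx hT hF using h
    obtain ⟨F, hFcov⟩ := isCompact_univ.elim_finite_subcover (fun x => (xs u (U x) (d x) (f x) : Set X))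
      (fun x => (xs u (U x) (d x) (f x)).2) (fun x _ => Set.mem_iUnion.2 ⟨x, hx x⟩)
    choose idx hidx using fun x => exists_index u 𝒮i φ hφ t ht hφt hsurj ui hui (U x) (hU x) (f x) (hf x)
      (hT x) (hF x)
    classical
    obtain ⟨k, hk⟩ := Finset.exists_le (F.image idx)
    refine ⟨k, isImmersion_of_forall (ui k) hj hLq hL (hPi k) hPL (hri k) fun x => ?_⟩
    obtain ⟨a, ha, hxa⟩ := Set.mem_iUnion₂.1 (hFcov (Set.mem_univ x))
    obtain ⟨z, hz, e, hFz⟩ := hidx a k (hk _ (Finset.mem_image_of_mem idx ha))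
    exact ⟨U a, hU a, d a, hd a, z, hz, e ▸ hxa, e ▸ hT a, hFz⟩
  · refine isImmersion_of_forall u hj hLq hL hP hPL hr (good_comp u (ui i) (φ i) (hui i) (hφ i) fun x => ?_)
    obtain ⟨_, ⟨U, hU, rfl⟩, hxU, -⟩ :=
      Y.isBasis_affineOpens.exists_subset_of_mem_open (Set.mem_univ (q x)) isOpen_univ
    exact ⟨U, hU, exists_good_of_isImmersion (ui i) hj hLq hL (hPi i) hPL (hri i) htop hi x U hU hxU⟩
  · refine isImmersion_of_forall (ui k) hj hLq hL (hPi k) hPL (hri k)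
      (good_comp (ui k) (ui i) (t i k hik) (ui_comp u 𝒮i φ t hφt ui hui hik) (ht i k hik) fun x => ?_)
    obtain ⟨_, ⟨U, hU, rfl⟩, hxU, -⟩ :=
      Y.isBasis_affineOpens.exists_subset_of_mem_open (Set.mem_univ (q x)) isOpen_univ
    exact ⟨U, hU, exists_good_of_isImmersion (ui i) hj hLq hL (hPi i) hPL (hri i) htop hi x U hU hxU⟩

end Groth.Agent.S12161
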