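import Groth.Statements.S12195
import Groth.Agent.AlgSpFormal.Cover
-- import your own Groth.Agent.* helpers here

set_option autoImplicit false
universe u
open CategoryTheory CategoryTheory.Limits AlgebraicGeometry
open AlgSp

namespace Groth.Agent.S12195
open Groth.Agent.AlgSpFormal in
theorem factor {R Q : Type u} [CommRing R] [CommRing Q] (I : Ideal R) (φ : R →+* Q) {V : Scheme.{u}}
    (p : V ⟶ Spec (CommRingCat.of (R ⧸ I))) (q : V ⟶ Spec (CommRingCat.of Q))
    (h : p ≫ Spec.map (CommRingCat.ofHom (Ideal.Quotient.mk I)) = q ≫ Spec.map (CommRingCat.ofHom φ)) :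
    ∃ r : V ⟶ Spec (CommRingCat.of (Q ⧸ I.map φ)),
      r ≫ Spec.map (CommRingCat.ofHom (Ideal.Quotient.mk (I.map φ))) = q ∧
      r ≫ Spec.map (CommRingCat.ofHom (Ideal.quotientMap _ φ Ideal.le_comap_map)) = p := by
  have key : ∀ {R' : CommRingCat.{u}} (m : V ⟶ Spec R'), m = V.toSpecΓ ≫ Spec.map ((Scheme.ΓSpecIso R').inv ≫ m.appTop) := by
    intro R' m
    rw [Spec.map_comp, ← Scheme.toSpecΓ_naturality_assoc, ← SpecMap_ΓSpecIso_hom, ← Spec.map_comp,
      Iso.inv_hom_id, Spec.map_id, Category.comp_id]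
  let ψ := (Scheme.ΓSpecIso (CommRingCat.of Q)).inv ≫ q.appTop
  let ψp := (Scheme.ΓSpecIso (CommRingCat.of (R ⧸ I))).inv ≫ p.appTop
  have e : CommRingCat.ofHom φ ≫ ψ = CommRingCat.ofHom (Ideal.Quotient.mk I) ≫ ψp := by
    have h' := congrArg Scheme.Hom.appTop h
    rw [Scheme.Hom.comp_appTop, Scheme.Hom.comp_appTop] at h'
    have := congrArg (fun m => (Scheme.ΓSpecIso (CommRingCat.of R)).inv ≫ m) h'
    rw [← Category.assoc, ← Category.assoc, ← Scheme.ΓSpecIso_inv_naturality,
      ← Scheme.ΓSpecIso_inv_naturality, Category.assoc, Category.assoc] at this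
    exact this.symm
  have hI : ∀ x ∈ I.map φ, ψ.hom x = 0 := by
    have : I.map φ ≤ RingHom.ker ψ.hom := Ideal.map_le_iff_le_comap.2 fun i hi => by
      rw [Ideal.mem_comap, RingHom.mem_ker, show ψ.hom (φ i) = ψp.hom (Ideal.Quotient.mk I i) from congr($e i),
        Ideal.Quotient.eq_zero_iff_mem.2 hi, map_zero]
    exact fun x hx => this hx
  let r := V.toSpecΓ ≫ Spec.map (CommRingCat.ofHom (Ideal.Quotient.lift _ ψ.hom hI))
  have e₁ : r ≫ Spec.map (CommRingCat.ofHom (Ideal.Quotient.mk (I.map φ))) = q := by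
    refine Eq.trans ?_ (key q).symm
    rw [Category.assoc, ← Spec.map_comp]
    rfl
  refine ⟨r, e₁, ?_⟩
  have : Mono (Spec.map (CommRingCat.ofHom (Ideal.Quotient.mk I))) := by
    have : IsClosedImmersion (Spec.map (CommRingCat.ofHom (Ideal.Quotient.mk I))) :=
      IsClosedImmersion.spec_of_surjective _ Ideal.Quotient.mk_surjective
    infer_instance
  rw [← cancel_mono (Spec.map (CommRingCat.ofHom (Ideal.Quotient.mk I))), h, Category.assoc, ← Spec.map_comp,
    ← CommRingCat.ofHom_comp, Ideal.quotientMap_comp_mk, CommRingCat.ofHom_comp, Spec.map_comp, reassoc_of% e₁]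


/-- Let a : F ⟶ G be a representable, surjective and etale morphism of fppf sheaves on (Sch/S) and b : G
⟶ H a morphism such that a ≫ b is formally smooth. Consider a solid infinitesimal lifting square for
b: a square-zero thickening T = Spec (A/I) ⊂ T' = Spec A of affine schemes over S, a morphism T ⟶ G
and a morphism T' ⟶ H making the square commute. Then for every point t of T' there exist an affine
scheme U', an etale morphism U' ⟶ T' whose image contains t, and a morphism U' ⟶ G lying over T' ⟶ H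
whose restriction to T ×_{T'} U' agrees with the given T ⟶ G (stated for every scheme V mapping
compatibly to T and U'). (The published statement is for transformations of arbitrary presheaves of
sets on (Sch/S)_fppf; this row takes fppf sheaves, the case of algebraic spaces.) -/
theorem result {S : Scheme.{u}} {F G H : AlgSp.Sp S} (a : F ⟶ G)
    (b : G ⟶ H) (ha : AlgSp.RepWith @Etale a) (ha' : AlgSp.RepWith @Surjective a)
    (hab : AlgSp.IsFormallySmoothMor (a ≫ b)) (sq : AlgSp.InfSq b) (t : ↥sq.ptT'.left) :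
    ∃ (U' : Over S) (g : U' ⟶ sq.ptT') (l : (AlgSp.yon S).obj U' ⟶ G),
      IsAffine U'.left ∧ Etale g.left ∧ (∃ u : ↥U'.left, g.left u = t) ∧
        l ≫ b = (AlgSp.yon S).map g ≫ sq.bot ∧
          ∀ (V : Over S) (p : V ⟶ sq.ptT) (q : V ⟶ U'), p ≫ sq.j = q ≫ g →
            (AlgSp.yon S).map q ≫ l = (AlgSp.yon S).map p ≫ sq.top := by
  open Groth.Agent.AlgSpFormal in
  obtain ⟨Q, _, φ, u, hφ, hφT, ht, hu⟩ := exists_top_lift_nbhd sq ha ha' t
  have w : u ≫ (a ≫ b) = (yon S).map (bc sq φ).j ≫ (bc sq φ).bot := by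
    rw [← (bc sq φ).comm, reassoc_of% hu]
    rfl
  obtain ⟨l', h₁, h₂⟩ := hab (withMaps (bc sq φ) (a ≫ b) u (bc sq φ).bot w)
  have h₁ : (yon S).map (bc sq φ).j ≫ l' = u := h₁
  have h₂ : l' ≫ a ≫ b = (yon S).map (bcT' sq φ) ≫ sq.bot := h₂
  have : Etale (bcT' sq φ).left := (HasRingHomProperty.Spec_iff (P := @Etale)).2 hφ
  refine ⟨(bc sq φ).ptT', bcT' sq φ, l' ≫ a, isAffine_Spec _, this, ht, (Category.assoc _ _ _).trans h₂,
    fun V p q hpq => ?_⟩
  obtain ⟨r, hr₁, hr₂⟩ := factor sq.I φ p.left q.left (congrArg CommaMorphism.left hpq)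
  let r' : V ⟶ (bc sq φ).ptT := Over.homMk r ((reassoc_of% hr₁) _ |>.trans (Over.w q))
  rw [← show r' ≫ (bc sq φ).j = q from Over.OverMorphism.ext hr₁, ← show r' ≫ bcT sq φ = p from Over.OverMorphism.ext hr₂,
    Functor.map_comp_assoc, Functor.map_comp_assoc, reassoc_of% h₁, hu]

end Groth.Agent.S12195
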