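import Groth.Statements.S12208
import Groth.Agent.CAlgH.NoetherInt
import Groth.Agent.DimTheory.Algebra

set_option autoImplicit false
universe u
open CAlg

namespace Groth.Agent.S12208

/-- Let k be a field and S = k[x_1, …, x_n]/I with I a proper ideal. Then there exist r ≥ 0 and elements
y_1, …, y_r of k[x_1, …, x_n] lying in the subring generated by x_1, …, x_n (polynomials with
integer coefficients) such that the k-algebra map from the polynomial ring k[t_1, …, t_r] to S
sending t_i to the class of y_i is injective and finite; and for any r ≥ 0 and any y_1, …, y_r in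
k[x_1, …, x_n] (with or without the integer-coefficient condition) for which that map is injective
and finite, r is the Krull dimension of S. -/
theorem result (k : Type u) [Field k] (n : ℕ) (I : Ideal (MvPolynomial (Fin n) k))
    (hI : I ≠ ⊤) :
    (∃ (r : ℕ) (y : Fin r → MvPolynomial (Fin n) k),
      (∀ i, y i ∈ Set.range (MvPolynomial.map (Int.castRingHom k) : MvPolynomial (Fin n) ℤ → MvPolynomial (Fin n) k)) ∧
      Function.Injective ((Ideal.Quotient.mkₐ k I).comp (MvPolynomial.aeval y)) ∧
      ((Ideal.Quotient.mkₐ k I).comp (MvPolynomial.aeval y)).toRingHom.Finite) ∧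
    ∀ (r : ℕ) (y : Fin r → MvPolynomial (Fin n) k),
      Function.Injective ((Ideal.Quotient.mkₐ k I).comp (MvPolynomial.aeval y)) →
      ((Ideal.Quotient.mkₐ k I).comp (MvPolynomial.aeval y)).toRingHom.Finite →
      ringKrullDim (MvPolynomial (Fin n) k ⧸ I) = r := by
  haveI : Nontrivial (MvPolynomial (Fin n) k ⧸ I) := Ideal.Quotient.nontrivial_iff.mpr hI
  refine ⟨?_, ?_⟩
  · let x : Fin n → MvPolynomial (Fin n) k ⧸ I := fun i => Ideal.Quotient.mk I (MvPolynomial.X i)
    have hx : (MvPolynomial.aeval x : MvPolynomial (Fin n) k →ₐ[k] _) = Ideal.Quotient.mkₐ k I :=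
      MvPolynomial.algHom_ext fun i => by simp [x]
    obtain ⟨r, y, hinj, hint⟩ := CAlgH.NoetherInt.exists_integer_normalization n
      (MvPolynomial (Fin n) k ⧸ I) x (by rw [hx]; exact Ideal.Quotient.mkₐ_surjective k I)
    have heq : (Ideal.Quotient.mkₐ k I).comp (MvPolynomial.aeval fun i => MvPolynomial.map (Int.castRingHom k) (y i)) =
        MvPolynomial.aeval (fun i => MvPolynomial.aeval x (MvPolynomial.map (Int.castRingHom k) (y i))) :=
      MvPolynomial.algHom_ext fun i => by simp [hx]
    refine ⟨r, fun i => MvPolynomial.map (Int.castRingHom k) (y i), fun i => ⟨y i, rfl⟩, ?_, ?_⟩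
    · rw [heq]; exact hinj
    · rw [heq]
      refine hint.to_finite ?_
      refine RingHom.FiniteType.of_comp_finiteType (f := algebraMap k (MvPolynomial (Fin r) k)) ?_
      have : (MvPolynomial.aeval (fun i => MvPolynomial.aeval x (MvPolynomial.map (Int.castRingHom k) (y i))) :
          MvPolynomial (Fin r) k →ₐ[k] MvPolynomial (Fin n) k ⧸ I).toRingHom.comp (algebraMap k _) =
          algebraMap k _ := RingHom.ext fun c => by simp
      rw [this]
      exact RingHom.finiteType_algebraMap.mpr inferInstance
  · intro r y hinj hfin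
    set φ := (Ideal.Quotient.mkₐ k I).comp (MvPolynomial.aeval y)
    algebraize [φ.toRingHom]
    haveI : FaithfulSMul (MvPolynomial (Fin r) k) (MvPolynomial (Fin n) k ⧸ I) :=
      (faithfulSMul_iff_algebraMap_injective _ _).mpr hinj
    rw [Groth.Agent.DimTheory.ringKrullDim_eq_of_integral (MvPolynomial (Fin r) k) (MvPolynomial (Fin n) k ⧸ I),
      Groth.Agent.DimTheory.ringKrullDim_mvPolynomial_fin]

end Groth.Agent.S12208
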