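import Groth.Statements.S12209
import Mathlib

set_option autoImplicit false
universe u
open CAlg

namespace Groth.Agent.S12209

/-- Let (R_i) be a system of commutative rings over a nonempty directed preorder, with colimit R, and
let M be an R-module which is flat as an R_i-module for every i (the R_i-module structure being
restriction of scalars along R_i → R). Then M is flat as an R-module. -/
theorem result {ι : Type u} [Preorder ι] [Nonempty ι] [IsDirectedOrder ι]
    (G : ι → Type u) [∀ i, CommRing (G i)] (f : ∀ i j, i ≤ j → G i →+* G j)
    [DirectedSystem G fun i j h => f i j h]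
    (M : Type u) [AddCommGroup M] [Module (Ring.DirectLimit G fun i j h => f i j h) M]
    (hflat : ∀ i, letI : Module (G i) M := Module.compHom M (Ring.DirectLimit.of G (fun i j h => f i j h) i);
      Module.Flat (G i) M) :
    Module.Flat (Ring.DirectLimit G fun i j h => f i j h) M := by
  classical
  refine Module.Flat.of_forall_isTrivialRelation fun {l} {c} {x} h => ?_
  choose i a ha using fun t : Fin l => Ring.DirectLimit.exists_of (c t)
  obtain ⟨j, hj⟩ := Finite.exists_le i
  let of' := Ring.DirectLimit.of G (fun i j h => f i j h) j
  let c' : Fin l → G j := fun t => f (i t) j (hj t) (a t)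
  have hc : ∀ t, of' (c' t) = c t := fun t => (Ring.DirectLimit.of_f (hj t) (a t)).trans (ha t)
  letI : Module (G j) M := Module.compHom M of'
  haveI : Module.Flat (G j) M := hflat j
  obtain ⟨k, b, y, hxy, hb⟩ := Module.Flat.isTrivialRelation_of_sum_smul_eq_zero (f := c') (x := x) (by
    rw [← h]
    exact Finset.sum_congr rfl fun t _ => by rw [← hc]; rfl)
  refine ⟨k, fun t s => of' (b t s), y, fun t => hxy t, fun s => ?_⟩
  rw [Finset.sum_congr rfl fun t _ => show c t * of' (b t s) = of' (c' t * b t s) by rw [map_mul, hc], ← map_sum, hb, map_zero]

end Groth.Agent.S12209
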