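import Groth.Statements.S12213
import Groth.Agent.KummerLib.Basic

set_option autoImplicit false
universe u
open CategoryTheory AlgebraicGeometry MonoidalCategory CartesianMonoidalCategory MonObj GrpObj
open EtCoh

namespace Groth.Agent.S12213

set_option backward.isDefEq.respectTransparency false
set_option backward.isDefEq.respectTransparency.types false

open CategoryTheory.Limits in
theorem lfp_powMap {S : Scheme.{u}} (n : ℕ) :
    LocallyOfFinitePresentation (Groth.Agent.KummerLib.powMap S n).left := by
  let R := ULift.{u} ℤ
  let φ := _root_.Magnet.AMon.map R (zmultiplesHom ℤ (n : ℤ))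
  let p := Limits.IsTerminal.from specULiftZIsTerminal S
  have hsq : IsPullback (pullback.fst (_root_.Magnet.AMon R ℤ).hom p)
      (Groth.Agent.KummerLib.powMap S n).left φ.left
      (pullback.fst (_root_.Magnet.AMon R ℤ).hom p) := by
    refine IsPullback.of_bot ?_ (pullback.lift_fst _ _ _).symm (IsPullback.of_hasPullback _ p)
    have e1 : (Groth.Agent.KummerLib.powMap S n).left ≫ pullback.snd (_root_.Magnet.AMon R ℤ).hom p =
        pullback.snd _ p := pullback.lift_snd _ _ _
    rw [e1, Over.w φ]
    exact IsPullback.of_hasPullback _ p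
  refine MorphismProperty.of_isPullback (P := @LocallyOfFinitePresentation) hsq ?_
  rw [_root_.Magnet.AMon.map_left]
  refine (HasRingHomProperty.Spec_iff (P := @LocallyOfFinitePresentation)).mpr ?_
  haveI : Algebra.FiniteType R (MonoidAlgebra R (Multiplicative ℤ)) := MonoidAlgebra.finiteType_of_fg
  haveI : IsNoetherianRing R := isNoetherianRing_of_ringEquiv ℤ ULift.ringEquiv.symm
  haveI : IsNoetherianRing (MonoidAlgebra R (Multiplicative ℤ)) := Algebra.FiniteType.isNoetherianRing R _
  let g : MonoidAlgebra R (Multiplicative ℤ) →+* MonoidAlgebra R (Multiplicative ℤ) :=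
    (MonoidAlgebra.mapDomainAlgHom R R (AddMonoidHom.toMultiplicative (zmultiplesHom ℤ (n : ℤ)))).toRingHom
  have hg : g.FiniteType := by
    refine RingHom.FiniteType.of_comp_finiteType (f := algebraMap R (MonoidAlgebra R (Multiplicative ℤ))) ?_
    have hc : g.comp (algebraMap R (MonoidAlgebra R (Multiplicative ℤ))) =
        algebraMap R (MonoidAlgebra R (Multiplicative ℤ)) :=
      RingHom.ext fun r => AlgHom.commutes (MonoidAlgebra.mapDomainAlgHom R R (AddMonoidHom.toMultiplicative (zmultiplesHom ℤ (n : ℤ)))) r
    rw [hc]
    exact RingHom.finiteType_algebraMap.mpr inferInstance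
  exact RingHom.FinitePresentation.of_finiteType.mp hg

/-- For a scheme S and an integer n ≥ 1 the Kummer sequence 1 → μ_n → G_m → G_m → 1 over S, the last map
being the n-th power, is a short exact sequence for the fppf topology. Here G_m = D_S(ℤ), μ_n =
D_S(ℤ/n) mapped into G_m by the morphism of diagonalisable groups induced by ℤ → ℤ/n, and exactness
means: both maps are homomorphisms with trivial composite, (g, z) ↦ (g, gz) identifies G_m ×_S μ_n
with the fibre product of the n-th power map with itself, and the n-th power map acquires sections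
on the members of some fppf covering family of its target. (For n = 0 the sequence is not exact; n ≥
1 is assumed.) -/
theorem result {S : Scheme.{u}} (n : ℕ) (hn : 0 < n) :
    NonAbH1.IsExactSeq Scheme.fppfPrecoverage
      (Red.DSmap S (Int.castAddHom (ZMod n))) (Red.chi S (n : ℤ)) := by
  obtain ⟨hu, hv, h1, h2, -⟩ := Groth.Agent.KummerLib.isExactSeq (S := S) n hn
  refine ⟨hu, hv, h1, h2, ?_⟩
  obtain ⟨hf, hs, -⟩ := Groth.Agent.KummerLib.prop_powMap (S := S) n hn
  haveI := lfp_powMap (S := S) n
  have e2 : Red.chi S (n : ℤ) = Groth.Agent.KummerLib.powMap S n := Groth.Agent.KummerLib.DSmap_eq _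
  rw [e2]
  refine ⟨Presieve.singleton (Groth.Agent.KummerLib.powMap S n).left, Scheme.Hom.singleton_mem_fppfPrecoverage _, ?_⟩
  rintro S' f ⟨⟩
  exact ⟨𝟙 _, Category.id_comp _⟩

end Groth.Agent.S12213
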