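import Groth.Statements.S12228
import Mathlib
set_option autoImplicit false
universe w v u
open CategoryTheory CategoryTheory.Limits
open CohDer


namespace Groth.Agent.S12228

set_option backward.isDefEq.respectTransparency false
set_option backward.defeqAttrib.useBackward true

/-- Full faithfulness of Kᵇ(A)[Qis⁻¹] → Dᵇ(A), written in terms of roofs. Let A be an abelian category
and K, L bounded complexes (zero outside a finite range of degrees), viewed in the homotopy
category. Then every morphism Qh(K) → Qh(L) in the derived category is Qh(f) ≫ Qh(t)⁻¹ for some map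
f : K → L' and quasi-isomorphism t : L → L' of K(A) with L' again bounded; and two maps f₁, f₂ : K →
L of K(A) become equal in D(A) only if f₁ ≫ t = f₂ ≫ t for some quasi-isomorphism t : L → L' with L'
bounded. -/
theorem result {A : Type u} [Category.{v} A] [Abelian A] [HasDerivedCategory.{w} A]
    (K L : HomotopyCategory A (ComplexShape.up ℤ)) (a b a' b' : ℤ) [CochainComplex.IsStrictlyGE K.as a] [CochainComplex.IsStrictlyLE K.as b]
    [CochainComplex.IsStrictlyGE L.as a'] [CochainComplex.IsStrictlyLE L.as b'] :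
    (∀ φ : DerivedCategory.Qh.obj K ⟶ DerivedCategory.Qh.obj L,
      ∃ (L' : HomotopyCategory A (ComplexShape.up ℤ)) (m n : ℤ) (_ : CochainComplex.IsStrictlyGE L'.as m) (_ : CochainComplex.IsStrictlyLE L'.as n) (f : K ⟶ L') (t : L ⟶ L'),
        HomotopyCategory.quasiIso A (ComplexShape.up ℤ) t ∧ φ ≫ DerivedCategory.Qh.map t = DerivedCategory.Qh.map f) ∧
    (∀ f₁ f₂ : K ⟶ L, DerivedCategory.Qh.map f₁ = DerivedCategory.Qh.map f₂ →
      ∃ (L' : HomotopyCategory A (ComplexShape.up ℤ)) (m n : ℤ) (_ : CochainComplex.IsStrictlyGE L'.as m) (_ : CochainComplex.IsStrictlyLE L'.as n) (t : L ⟶ L'),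
        HomotopyCategory.quasiIso A (ComplexShape.up ℤ) t ∧ f₁ ≫ t = f₂ ≫ t) := by
  obtain ⟨K, rfl⟩ : ∃ M : CochainComplex A ℤ, (HomotopyCategory.quotient _ _).obj M = K :=
      HomotopyCategory.quotient_obj_surjective K
  obtain ⟨L, rfl⟩ : ∃ M : CochainComplex A ℤ, (HomotopyCategory.quotient _ _).obj M = L :=
      HomotopyCategory.quotient_obj_surjective L
  haveI : CochainComplex.IsStrictlyLE K b := ‹CochainComplex.IsStrictlyLE ((HomotopyCategory.quotient _ _).obj K).as b›
  haveI : CochainComplex.IsStrictlyLE L b' := ‹CochainComplex.IsStrictlyLE ((HomotopyCategory.quotient _ _).obj L).as b'›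
  haveI : CochainComplex.IsStrictlyGE L a' := ‹CochainComplex.IsStrictlyGE ((HomotopyCategory.quotient _ _).obj L).as a'›
  haveI := CochainComplex.isStrictlyLE_of_le K b (max b b') (le_max_left _ _)
  haveI := CochainComplex.isStrictlyLE_of_le L b' (max b b') (le_max_right _ _)
  refine ⟨fun φ => ?_, fun f₁ f₂ h => ?_⟩
  · obtain ⟨Y', h₁, h₂, g, s, hs, hφ⟩ := DerivedCategory.left_fac_of_isStrictlyLE_of_isStrictlyGE a' (max b b')
      (show DerivedCategory.Q.obj K ⟶ DerivedCategory.Q.obj L from φ)
    refine ⟨(HomotopyCategory.quotient _ _).obj Y', a', max b b', h₁, h₂,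
      (HomotopyCategory.quotient _ _).map g, (HomotopyCategory.quotient _ _).map s, ?_, ?_⟩
    · rw [HomotopyCategory.quotient_map_mem_quasiIso_iff, HomologicalComplex.mem_quasiIso_iff,
        ← DerivedCategory.isIso_Q_map_iff_quasiIso]
      exact hs
    · change φ ≫ DerivedCategory.Q.map s = DerivedCategory.Q.map g
      exact (congrArg (· ≫ DerivedCategory.Q.map s) hφ).trans
        ((Category.assoc _ _ _).trans ((congrArg (DerivedCategory.Q.map g ≫ ·) (IsIso.inv_hom_id _)).trans (Category.comp_id _)))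
  · obtain ⟨Y', t, ht, e⟩ := (MorphismProperty.map_eq_iff_postcomp DerivedCategory.Qh
      (HomotopyCategory.quasiIso A (ComplexShape.up ℤ)) f₁ f₂).1 h
    obtain ⟨Y', rfl⟩ : ∃ M : CochainComplex A ℤ, (HomotopyCategory.quotient _ _).obj M = Y' :=
      HomotopyCategory.quotient_obj_surjective Y'
    obtain ⟨t, rfl⟩ := (HomotopyCategory.quotient _ _).map_surjective t
    obtain ⟨g₁, rfl⟩ := (HomotopyCategory.quotient _ _).map_surjective f₁
    obtain ⟨g₂, rfl⟩ := (HomotopyCategory.quotient _ _).map_surjective f₂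
    rw [← Functor.map_comp, ← Functor.map_comp] at e
    let H := HomotopyCategory.homotopyOfEq _ _ e
    rw [HomotopyCategory.quotient_map_mem_quasiIso_iff, HomologicalComplex.mem_quasiIso_iff] at ht
    haveI := ht
    obtain ⟨N, hN⟩ : ∃ N, N = max b b' := ⟨_, rfl⟩
    haveI : K.IsStrictlyLE N := hN ▸ inferInstance
    haveI : L.IsStrictlyLE N := hN ▸ inferInstance
    let Cyl : CochainComplex A ℤ := HomologicalComplex.cylinder K
    haveI : Cyl.IsStrictlyLE N := by
      rw [CochainComplex.isStrictlyLE_iff]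
      intro i hi
      refine IsZero.of_iso ?_ (HomologicalComplex.homotopyCofiber.XIsoBiprod (biprod.lift (𝟙 K) (-𝟙 K)) i (i + 1) rfl)
      refine (biprod_isZero_iff _ _).2 ⟨CochainComplex.isZero_of_isStrictlyLE K N (i + 1) (by omega), ?_⟩
      exact IsZero.of_iso ((biprod_isZero_iff _ _).2 ⟨CochainComplex.isZero_of_isStrictlyLE K N i hi,
        CochainComplex.isZero_of_isStrictlyLE K N i hi⟩) (HomologicalComplex.biprodXIso K K i)
    let h : Cyl ⟶ Y' := HomologicalComplex.cylinder.desc (g₁ ≫ t) (g₂ ≫ t) H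
    let hc := inv (Cyl.ιTruncLE N) ≫ CochainComplex.truncLEMap h N
    let t₀ := inv (L.ιTruncLE N) ≫ CochainComplex.truncLEMap t N
    haveI : Mono (Y'.ιTruncLE N) :=
      inferInstanceAs (Mono (HomologicalComplex.ιTruncLE Y' (ComplexShape.embeddingUpIntLE N)))
    have ht₀ : t₀ ≫ Y'.ιTruncLE N = t := by simp [t₀]
    have hhc : hc ≫ Y'.ιTruncLE N = h := by simp [hc]
    clear_value t₀ hc
    haveI : Y'.IsLE N := by
      haveI : L.IsLE N := inferInstance
      exact (HomologicalComplex.isSupported_iff_of_quasiIso t _).1 inferInstance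
    haveI : (Y'.truncLE N).IsGE a' := by
      haveI : L.IsGE a' := inferInstance
      haveI : Y'.IsGE a' := (HomologicalComplex.isSupported_iff_of_quasiIso t _).1 inferInstance
      exact (HomologicalComplex.isSupported_iff_of_quasiIso (Y'.ιTruncLE N) _).2 inferInstance
    haveI : QuasiIso t₀ := by
      haveI : QuasiIso (t₀ ≫ Y'.ιTruncLE N) := by rw [ht₀]; exact ht
      exact quasiIso_of_comp_right t₀ (Y'.ιTruncLE N)
    have e' : (HomotopyCategory.quotient A (ComplexShape.up ℤ)).map (g₁ ≫ t₀) =
        (HomotopyCategory.quotient A (ComplexShape.up ℤ)).map (g₂ ≫ t₀) := by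
      have i₀ : HomologicalComplex.cylinder.ι₀ K ≫ hc = g₁ ≫ t₀ := by
        rw [← cancel_mono (Y'.ιTruncLE N), Category.assoc, Category.assoc, hhc, ht₀]
        exact HomologicalComplex.cylinder.ι₀_desc _ _ _
      have i₁ : HomologicalComplex.cylinder.ι₁ K ≫ hc = g₂ ≫ t₀ := by
        rw [← cancel_mono (Y'.ιTruncLE N), Category.assoc, Category.assoc, hhc, ht₀]
        exact HomologicalComplex.cylinder.ι₁_desc _ _ _
      rw [← i₀, ← i₁]
      exact HomotopyCategory.eq_of_homotopy _ _
        ((HomologicalComplex.cylinder.homotopy₀₁ K (fun j => ⟨j - 1, by simp⟩)).compRight hc)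
    refine ⟨(HomotopyCategory.quotient _ _).obj ((Y'.truncLE N).truncGE a'), a', N,
      (inferInstance : CochainComplex.IsStrictlyGE ((Y'.truncLE N).truncGE a') a'),
      (inferInstance : CochainComplex.IsStrictlyLE ((Y'.truncLE N).truncGE a') N),
      (HomotopyCategory.quotient _ _).map (t₀ ≫ (Y'.truncLE N).πTruncGE a'), ?_, ?_⟩
    · rw [HomotopyCategory.quotient_map_mem_quasiIso_iff, HomologicalComplex.mem_quasiIso_iff]
      infer_instance
    · rw [← Functor.map_comp, ← Functor.map_comp, ← Category.assoc, ← Category.assoc,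
        Functor.map_comp _ (g₁ ≫ t₀), Functor.map_comp _ (g₂ ≫ t₀), e']

end Groth.Agent.S12228
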