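import Groth.Statements.S12229
import Mathlib

set_option autoImplicit false
universe w w' v v' u u'
open CategoryTheory CategoryTheory.Limits
open CohDer

namespace Groth.Agent.S12229

open CategoryTheory.Pretriangulated DerivedCategory in
section
variable {C : Type u} [Category.{v} C] [Abelian C] [HasDerivedCategory.{w} C]

/-- `K⁺(Inj C) ⥤ D⁺(C)` -/
noncomputable abbrev G (C : Type u) [Category.{v} C] [Abelian C] [HasDerivedCategory.{w} C] :
    HomotopyCategory.Plus (InjectiveObject C) ⥤ DerivedCategory.Plus C :=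
  (InjectiveObject.ι C).mapHomotopyCategoryPlus ⋙ DerivedCategory.Plus.Qh

lemma isKInjective_G (Y : HomotopyCategory.Plus (InjectiveObject C)) :
    CochainComplex.IsKInjective ((InjectiveObject.ι C).mapHomotopyCategoryPlus.obj Y).1.as := by
  obtain ⟨X, hX⟩ := Y
  obtain ⟨K, rfl⟩ := HomotopyCategory.quotient_obj_surjective X
  obtain ⟨n, hn⟩ := (HomotopyCategory.plus_quotient_obj_iff _).mp hX
  show CochainComplex.IsKInjective (((InjectiveObject.ι C).mapHomologicalComplex (.up ℤ)).obj K)
  have : ∀ m : ℤ, Injective ((((InjectiveObject.ι C).mapHomologicalComplex (.up ℤ)).obj K).X m) :=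
    fun m => inferInstanceAs (Injective ((InjectiveObject.ι C).obj (K.X m)))
  have := (CochainComplex.isStrictlyGE_mapHomologicalComplex_obj_iff K (InjectiveObject.ι C) n).2 hn
  exact CochainComplex.isKInjective_of_injective _ n

instance full_G : (G C).Full where
  map_surjective {X Y} φ := by
    obtain ⟨ψ, hψ⟩ := (DerivedCategory.Plus.Qh_map_bijective_of_isKInjective
      _ _ (isKInjective_G Y)).2 φ
    exact ⟨(InjectiveObject.ι C).mapHomotopyCategoryPlus.preimage ψ, by simpa using hψ⟩

instance essSurj_G [EnoughInjectives C] : (G C).EssSurj where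
  mem_essImage X := by
    obtain ⟨n, hn⟩ := X.property
    have : X.IsGE n := (X.isGE_ι_obj_iff n).1 hn
    obtain ⟨L, _, ⟨e⟩⟩ := DerivedCategory.Plus.exists_injective_nonempty_iso X n
    exact ⟨(HomotopyCategory.Plus.quotient _).obj L, ⟨e⟩⟩

end

open CategoryTheory.Pretriangulated DerivedCategory in
lemma les {C : Type u} [Category.{v} C] [Abelian C] [HasDerivedCategory.{w} C]
    [EnoughInjectives C] {D : Type u'} [Category.{v'} D] [Abelian D] [HasDerivedCategory.{w'} D]
    (F : C ⥤ D) [F.Additive]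
    {X₁ X₂ X₃ : DerivedCategory.Plus C} (f : X₁ ⟶ X₂) (g : X₂ ⟶ X₃)
    (d : (DerivedCategory.Plus.ι.obj X₃) ⟶ (DerivedCategory.Plus.ι.obj X₁)⟦(1 : ℤ)⟧)
    (hT : Triangle.mk (DerivedCategory.Plus.ι.map f) (DerivedCategory.Plus.ι.map g) d ∈
      distTriang (DerivedCategory C)) (i : ℤ) :
    let Φ := F.rightDerivedFunctorPlus ⋙ DerivedCategory.Plus.ι ⋙ DerivedCategory.homologyFunctor D i
    let Ψ := F.rightDerivedFunctorPlus ⋙ DerivedCategory.Plus.ι ⋙
      DerivedCategory.homologyFunctor D (i + 1)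
    kernelSubobject (Φ.map g) = imageSubobject (Φ.map f) ∧
      ∃ δ : Φ.obj X₃ ⟶ Ψ.obj X₁,
        kernelSubobject δ = imageSubobject (Φ.map g) ∧
          kernelSubobject (Ψ.map f) = imageSubobject δ := by
  intro Φ Ψ
  -- injective models
  let e₁ := (G C).objObjPreimageIso X₁
  let e₂ := (G C).objObjPreimageIso X₂
  let f' := (G C).preimage (e₁.hom ≫ f ≫ e₂.inv)
  have hf' : (G C).map f' = e₁.hom ≫ f ≫ e₂.inv := (G C).map_preimage _
  obtain ⟨I₃, g', h', hT'⟩ := distinguished_cocone_triangle f'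
  let T' := Triangle.mk f' g' h'
  have hT'' := (G C ⋙ DerivedCategory.Plus.ι).map_distinguished T' hT'
  obtain ⟨e₃', h₁, h₂⟩ := exists_iso_of_arrow_iso _ _ hT'' hT
    (Arrow.isoMk (DerivedCategory.Plus.ι.mapIso e₁) (DerivedCategory.Plus.ι.mapIso e₂) (by
      show DerivedCategory.Plus.ι.map e₁.hom ≫ DerivedCategory.Plus.ι.map f =
        DerivedCategory.Plus.ι.map ((G C).map f') ≫ DerivedCategory.Plus.ι.map e₂.hom
      rw [← Functor.map_comp, ← Functor.map_comp, hf']
      simp))
  let e₃ : (G C).obj I₃ ≅ X₃ := DerivedCategory.Plus.ι.preimageIso (Triangle.π₃.mapIso e₃')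
  have hg' : (G C).map g' ≫ e₃.hom = e₂.hom ≫ g := by
    apply DerivedCategory.Plus.ι.map_injective
    rw [Functor.map_comp, Functor.map_comp, show DerivedCategory.Plus.ι.map e₃.hom = e₃'.hom.hom₃
      from DerivedCategory.Plus.ι.map_preimage _]
    refine e₃'.hom.comm₂.trans ?_
    rw [h₂]; rfl
  -- the derived functor on injective complexes
  let H := (InjectiveObject.ι C).mapHomotopyCategoryPlus ⋙ F.mapHomotopyCategoryPlus ⋙
    DerivedCategory.Plus.Qh ⋙ DerivedCategory.Plus.ι
  let η : H ⟶ G C ⋙ F.rightDerivedFunctorPlus ⋙ DerivedCategory.Plus.ι :=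
    Functor.whiskerLeft (InjectiveObject.ι C).mapHomotopyCategoryPlus
      (Functor.whiskerRight F.rightDerivedFunctorPlusUnit DerivedCategory.Plus.ι)
  have : ∀ X, IsIso (η.app X) := fun X => by
    show IsIso (DerivedCategory.Plus.ι.map (F.rightDerivedFunctorPlusUnit.app _))
    infer_instance
  let hH := H.map_distinguished T' hT'
  let E : ∀ {I : HomotopyCategory.Plus (InjectiveObject C)} {X : DerivedCategory.Plus C},
      ((G C).obj I ≅ X) → (H.obj I ≅ DerivedCategory.Plus.ι.obj (F.rightDerivedFunctorPlus.obj X)) :=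
    fun {I X} e => asIso (η.app I) ≪≫
      (F.rightDerivedFunctorPlus ⋙ DerivedCategory.Plus.ι).mapIso e
  have hE : ∀ {I J : HomotopyCategory.Plus (InjectiveObject C)} {X Y : DerivedCategory.Plus C}
      (a : (G C).obj I ≅ X) (b : (G C).obj J ≅ Y) (p : I ⟶ J) (q : X ⟶ Y),
      (G C).map p ≫ b.hom = a.hom ≫ q →
      (E a).hom ≫ DerivedCategory.Plus.ι.map (F.rightDerivedFunctorPlus.map q) =
        H.map p ≫ (E b).hom := by
    intro I J X Y a b p q h
    simp only [E, Iso.trans_hom, asIso_hom, Functor.mapIso_hom, Category.assoc]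
    rw [reassoc_of% (η.naturality p)]
    congr 1
    simp only [Functor.comp_map, ← Functor.map_comp]
    rw [← h]; rfl
  have hf'' : (G C).map f' ≫ e₂.hom = e₁.hom ≫ f := by rw [hf']; simp
  let a₁ := (DerivedCategory.homologyFunctor D i).mapIso (E e₁)
  let a₂ := (DerivedCategory.homologyFunctor D i).mapIso (E e₂)
  let a₃ := (DerivedCategory.homologyFunctor D i).mapIso (E e₃)
  let b₁ := (DerivedCategory.homologyFunctor D (i + 1)).mapIso (E e₁)
  let b₂ := (DerivedCategory.homologyFunctor D (i + 1)).mapIso (E e₂)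
  have c₁₂ : a₁.hom ≫ Φ.map f = (DerivedCategory.homologyFunctor D i).map (H.map f') ≫ a₂.hom := by
    simp only [a₁, a₂, Φ, Functor.mapIso_hom, Functor.comp_map, ← Functor.map_comp,
      hE e₁ e₂ f' f hf'']
  have c₂₃ : a₂.hom ≫ Φ.map g = (DerivedCategory.homologyFunctor D i).map (H.map g') ≫ a₃.hom := by
    simp only [a₂, a₃, Φ, Functor.mapIso_hom, Functor.comp_map, ← Functor.map_comp,
      hE e₂ e₃ g' g hg']
  have c₁₂' : b₁.hom ≫ Ψ.map f =
      (DerivedCategory.homologyFunctor D (i + 1)).map (H.map f') ≫ b₂.hom := by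
    simp only [b₁, b₂, Ψ, Functor.mapIso_hom, Functor.comp_map, ← Functor.map_comp,
      hE e₁ e₂ f' f hf'']
  let δ₀ := DerivedCategory.HomologySequence.δ (H.mapTriangle.obj T') i (i + 1) rfl
  have ex₂ := DerivedCategory.HomologySequence.exact₂ _ hH i
  have ex₃ := DerivedCategory.HomologySequence.exact₃ _ hH i (i + 1) rfl
  have ex₁ := DerivedCategory.HomologySequence.exact₁ _ hH i (i + 1) rfl
  let δ : Φ.obj X₃ ⟶ Ψ.obj X₁ := a₃.inv ≫ δ₀ ≫ b₁.hom
  have cδ : a₃.hom ≫ δ = δ₀ ≫ b₁.hom := a₃.hom_inv_id_assoc _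
  have key : ∀ {P Q R P' Q' R' : D} (p : P ⟶ Q) (q : Q ⟶ R) (w : p ≫ q = 0)
      (p' : P' ⟶ Q') (q' : Q' ⟶ R') (u₁ : P ≅ P') (u₂ : Q ≅ Q') (u₃ : R ≅ R'),
      (ShortComplex.mk p q w).Exact → u₁.hom ≫ p' = p ≫ u₂.hom → u₂.hom ≫ q' = q ≫ u₃.hom →
      kernelSubobject q' = imageSubobject p' := by
    intro P Q R P' Q' R' p q w p' q' u₁ u₂ u₃ hex h h'
    have w' : p' ≫ q' = 0 := by
      rw [← cancel_epi u₁.hom, reassoc_of% h, h', reassoc_of% w, zero_comp, comp_zero]
    exact ((ShortComplex.mk p' q' w').exact_iff_image_eq_kernel.1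
      ((ShortComplex.exact_iff_of_iso (ShortComplex.isoMk u₁ u₂ u₃ h h')).1 hex)).symm
  exact ⟨key _ _ _ _ _ a₁ a₂ a₃ ex₂ c₁₂ c₂₃, δ, key _ _ _ _ _ a₂ a₃ b₁ ex₃ c₂₃ cδ,
    key _ _ _ _ _ a₃ b₁ b₂ ex₁ cδ c₁₂'⟩

/-- Let F : C → D be a left exact functor between abelian categories with C having enough injectives,
and let 0 → X₁ → X₂ → X₃ → 0 be a short exact sequence of bounded below complexes of C (maps f, g
with f a monomorphism, g an epimorphism and ker g = im f, degreewise). Then there is a long exact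
cohomology sequence … → H^i(RF X₁) → H^i(RF X₂) → H^i(RF X₃) → H^{i+1}(RF X₁) → …: for every i the
induced sequence is exact at H^i(RF X₂), and there is a connecting morphism H^i(RF X₃) → H^{i+1}(RF
X₁) with exactness at H^i(RF X₃) and at H^{i+1}(RF X₁). Here RF is the right derived functor on the
bounded below derived category and H^i is computed in D(D); exactness is expressed as equality of
kernel and image subobjects. Existence of such a connecting morphism only; the canonical one coming
from the distinguished triangle of the short exact sequence is not named. -/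
theorem result {C : Type u} [Category.{v} C] [Abelian C] [HasDerivedCategory.{w} C]
    [EnoughInjectives C] {D : Type u'} [Category.{v'} D] [Abelian D] [HasDerivedCategory.{w'} D]
    (F : C ⥤ D) [F.Additive] [PreservesFiniteLimits F]
    {X₁ X₂ X₃ : CochainComplex.Plus C} (f : X₁ ⟶ X₂) (g : X₂ ⟶ X₃)
    (hf : Mono ((CochainComplex.Plus.ι C).map f)) (hg : Epi ((CochainComplex.Plus.ι C).map g))
    (hex : kernelSubobject ((CochainComplex.Plus.ι C).map g) = imageSubobject ((CochainComplex.Plus.ι C).map f))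
    (i : ℤ) :
    let Φ := HomotopyCategory.Plus.quotient C ⋙ DerivedCategory.Plus.Qh ⋙ F.rightDerivedFunctorPlus ⋙
      DerivedCategory.Plus.ι ⋙ DerivedCategory.homologyFunctor D i
    let Ψ := HomotopyCategory.Plus.quotient C ⋙ DerivedCategory.Plus.Qh ⋙ F.rightDerivedFunctorPlus ⋙
      DerivedCategory.Plus.ι ⋙ DerivedCategory.homologyFunctor D (i + 1)
    kernelSubobject (Φ.map g) = imageSubobject (Φ.map f) ∧
      ∃ δ : Φ.obj X₃ ⟶ Ψ.obj X₁,
        kernelSubobject δ = imageSubobject (Φ.map g) ∧ kernelSubobject (Ψ.map f) = imageSubobject δ := by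
  intro Φ Ψ
  let S : ShortComplex (CochainComplex C ℤ) :=
    ShortComplex.mk ((CochainComplex.Plus.ι C).map f) ((CochainComplex.Plus.ι C).map g) (by
      rw [← imageSubobject_arrow_comp ((CochainComplex.Plus.ι C).map f), Category.assoc]
      rw [show (imageSubobject ((CochainComplex.Plus.ι C).map f)).arrow =
        Subobject.ofLE _ _ hex.ge ≫ (kernelSubobject ((CochainComplex.Plus.ι C).map g)).arrow from
        (Subobject.ofLE_arrow _).symm, Category.assoc, kernelSubobject_arrow_comp, comp_zero,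
        comp_zero])
  have hS : S.ShortExact :=
    { exact := S.exact_iff_image_eq_kernel.2 hex.symm, mono_f := hf, epi_g := hg }
  exact les F ((HomotopyCategory.Plus.quotient C ⋙ DerivedCategory.Plus.Qh).map f)
    ((HomotopyCategory.Plus.quotient C ⋙ DerivedCategory.Plus.Qh).map g)
    (DerivedCategory.triangleOfSESδ hS) (DerivedCategory.triangleOfSES_distinguished hS) i

end Groth.Agent.S12229
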