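import Groth.Statements.S12232
import Groth.Agent.DerCat.AdjHomotopy
import Groth.Agent.S0476
import Groth.Agent.S1032
import Mathlib.CategoryTheory.Functor.Derived.Adjunction
import Mathlib.CategoryTheory.Functor.Derived.PointwiseLeftDerived
import Mathlib.Algebra.Homology.DerivedCategory.ExactFunctor

set_option autoImplicit false
set_option backward.isDefEq.respectTransparency false
set_option backward.defeqAttrib.useBackward true
universe w w' v u
open CategoryTheory CategoryTheory.Limits
open CohDer

namespace Groth.Agent.S12232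


lemma isRightDerived_of_iso_on {A B H : Type*} [Category* A] [Category* B] [Category* H]
    (L : A ⥤ B) (W : MorphismProperty A) [L.IsLocalization W] (F : A ⥤ H) (P : ObjectProperty A)
    [F.HasRightDerivedFunctor W] (hres : ∀ X, ∃ (Y : A) (s : X ⟶ Y), P Y ∧ W s)
    (hF : ∀ X, P X → IsIso ((F.totalRightDerivedUnit L W).app X))
    (G : B ⥤ H) (β : F ⟶ L ⋙ G) (hβ : ∀ X, P X → IsIso (β.app X)) : G.IsRightDerivedFunctor β W := by
  let τ := (F.totalRightDerived L W).rightDerivedDesc (F.totalRightDerivedUnit L W) W G β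
  haveI : L.EssSurj := Localization.essSurj L W
  have hP : ∀ X, P X → IsIso (τ.app (L.obj X)) := fun X hX => by
    haveI := hF X hX
    have h : IsIso ((F.totalRightDerivedUnit L W).app X ≫ τ.app (L.obj X)) := by
      rw [Functor.rightDerived_fac_app]; exact hβ X hX
    exact IsIso.of_isIso_comp_left ((F.totalRightDerivedUnit L W).app X) _
  haveI : ∀ Z, IsIso (τ.app Z) := fun Z => by
    obtain ⟨Y, s, hY, hs⟩ := hres (L.objPreimage Z)
    haveI := Localization.inverts L W s hs
    let e : L.obj Y ≅ Z := (asIso (L.map s)).symm ≪≫ L.objObjPreimageIso Z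
    haveI := hP Y hY
    rw [show τ.app Z = (F.totalRightDerived L W).map e.inv ≫ τ.app (L.obj Y) ≫ G.map e.hom from by
      rw [← τ.naturality, ← Functor.map_comp_assoc, e.inv_hom_id, CategoryTheory.Functor.map_id, Category.id_comp]]
    infer_instance
  haveI : IsIso τ := NatIso.isIso_of_isIso_app τ
  exact (Functor.isRightDerivedFunctor_iff_of_iso (F.totalRightDerivedUnit L W) β W (asIso τ)
    ((F.totalRightDerived L W).rightDerived_fac (F.totalRightDerivedUnit L W) W G β)).1 inferInstance


/-- Let C be a Grothendieck abelian category, U a generator, R = End(U)ᵒᵖ, G = Hom(U, −) : C → Mod_R and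
F : Mod_R → C its left adjoint, which is exact and makes G fully faithful (Gabriel–Popescu). Then on
derived categories F : D(Mod_R) → D(C) (induced by the exact functor F) is left adjoint to the total
right derived functor RG : D(C) → D(Mod_R), RG is fully faithful, and F ∘ RG ≅ id. Existence of the
adjunction and of the isomorphism is asserted (the derived unit/counit are not named); the existence
of RG and the exactness and additivity of F are carried as instance hypotheses, all of which hold. -/
theorem result {C : Type u} [Category.{v} C] [Abelian C]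
    [IsGrothendieckAbelian.{v} C] [HasDerivedCategory.{w} C] (U : C) (hU : IsSeparator U)
    [HasDerivedCategory.{w'} (ModuleCat.{v} (End U)ᵐᵒᵖ)]
    [(IsGrothendieckAbelian.tensorObj U).Additive] [PreservesFiniteLimits (IsGrothendieckAbelian.tensorObj U)]
    [PreservesFiniteColimits (IsGrothendieckAbelian.tensorObj U)]
    [((preadditiveCoyonedaObj U).mapHomotopyCategory (ComplexShape.up ℤ) ⋙ DerivedCategory.Qh).HasRightDerivedFunctor
      (HomotopyCategory.quasiIso C (ComplexShape.up ℤ))] :
    let RG := ((preadditiveCoyonedaObj U).mapHomotopyCategory (ComplexShape.up ℤ) ⋙ DerivedCategory.Qh).totalRightDerived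
      DerivedCategory.Qh (HomotopyCategory.quasiIso C (ComplexShape.up ℤ))
    let LF := (IsGrothendieckAbelian.tensorObj U).mapDerivedCategory
    Nonempty (LF ⊣ RG) ∧ RG.Full ∧ RG.Faithful ∧
      Nonempty (RG ⋙ LF ≅ 𝟭 (DerivedCategory C)) := by
  intro RG LF
  let T := IsGrothendieckAbelian.tensorObj U
  let adj₀ := IsGrothendieckAbelian.tensorObjPreadditiveCoyonedaObjAdjunction U
  let G := preadditiveCoyonedaObj U
  haveI : G.Full := IsGrothendieckAbelian.GabrielPopescu.full U hU
  haveI : G.Faithful := (isSeparator_iff_faithful_preadditiveCoyonedaObj U).1 hU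
  let adjK := Groth.Agent.DerCat.adjHomotopy adj₀ (ComplexShape.up ℤ)
  let W₁ := HomotopyCategory.quasiIso (ModuleCat.{v} (End U)ᵐᵒᵖ) (ComplexShape.up ℤ)
  let W₂ := HomotopyCategory.quasiIso C (ComplexShape.up ℤ)
  let F₀ := G.mapHomotopyCategory (ComplexShape.up ℤ) ⋙ DerivedCategory.Qh
  let β := F₀.totalRightDerivedUnit DerivedCategory.Qh W₂
  let α := T.mapDerivedCategoryFactorsh
  have hinj : ∀ K : CochainComplex C ℤ, ∃ (I : CochainComplex C ℤ) (f : K ⟶ I), I.IsKInjective ∧ QuasiIso f :=
    fun K => by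
      obtain ⟨I, f, h1, h2, -, -⟩ := Groth.Agent.S0476.result K
      exact ⟨I, f, h1, h2⟩
  let P : ObjectProperty (HomotopyCategory C (ComplexShape.up ℤ)) :=
    fun Z => ∃ I : CochainComplex C ℤ, I.IsKInjective ∧ (HomotopyCategory.quotient _ _).obj I = Z
  have hres : ∀ Z, ∃ (Y : _) (s : Z ⟶ Y), P Y ∧ W₂ s := fun Z => by
    obtain ⟨K, rfl⟩ := HomotopyCategory.quotient_obj_surjective Z
    obtain ⟨I, f, hI, hf⟩ := hinj K
    exact ⟨_, (HomotopyCategory.quotient _ _).map f, ⟨I, hI, rfl⟩,
      (HomotopyCategory.quotient_map_mem_quasiIso_iff f).2 hf⟩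
  have hunit : ∀ Z, P Z → IsIso (β.app Z) := by
    rintro _ ⟨I, hI, rfl⟩
    exact (Groth.Agent.S1032.result hinj F₀).2 I hI
  let F₁ := (G.mapHomotopyCategory (ComplexShape.up ℤ) ⋙ DerivedCategory.Qh) ⋙ LF
  have hF₁ := Groth.Agent.S1032.result hinj F₁
  haveI : F₁.HasRightDerivedFunctor W₂ := hF₁.1
  haveI : LF.IsLeftDerivedFunctor α.hom W₁ :=
    Functor.isLeftDerivedFunctor_of_inverts W₁ LF α
  haveI : (LF ⋙ RG).IsLeftDerivedFunctor
      ((Functor.associator _ _ _).inv ≫ Functor.whiskerRight α.hom RG) W₁ :=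
    Functor.isLeftDerivedFunctor_of_inverts W₁ (LF ⋙ RG) ((Functor.associator _ _ _).symm ≪≫ Functor.isoWhiskerRight α RG)
  haveI : (RG ⋙ LF).IsRightDerivedFunctor
      (Functor.whiskerRight β LF ≫ (Functor.associator _ _ _).hom) W₂ := by
    refine isRightDerived_of_iso_on DerivedCategory.Qh W₂ F₁ P hres ?_ (RG ⋙ LF) _ fun Z hZ => ?_
    · rintro _ ⟨I, hI, rfl⟩
      exact hF₁.2 I hI
    · haveI := hunit Z hZ
      dsimp
      infer_instance
  let adj : LF ⊣ RG := adjK.derived W₁ W₂ α.hom β
  haveI hε : ∀ Z, IsIso (adj.counit.app Z) := by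
    intro Z
    haveI : DerivedCategory.Qh.EssSurj := Localization.essSurj DerivedCategory.Qh W₂
    obtain ⟨Y, s, hY, hs⟩ := hres (DerivedCategory.Qh.objPreimage Z)
    haveI := Localization.inverts DerivedCategory.Qh W₂ s hs
    let e : DerivedCategory.Qh.obj Y ≅ Z :=
      (asIso (DerivedCategory.Qh.map s)).symm ≪≫ DerivedCategory.Qh.objObjPreimageIso Z
    haveI := hunit Y hY
    haveI : IsIso (adjK.counit.app Y) := by
      haveI : IsIso (Groth.Agent.DerCat.counitCx adj₀ (ComplexShape.up ℤ) Y.as) := by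
        haveI : ∀ i, IsIso ((Groth.Agent.DerCat.counitCx adj₀ (ComplexShape.up ℤ) Y.as).f i) := fun i => by
          dsimp; infer_instance
        exact HomologicalComplex.Hom.isIso_of_components _
      exact Functor.map_isIso (HomotopyCategory.quotient C (ComplexShape.up ℤ)) _
    have h : LF.map (β.app Y) ≫ adj.counit.app (DerivedCategory.Qh.obj Y) =
        α.hom.app _ ≫ DerivedCategory.Qh.map (adjK.counit.app Y) :=
      Adjunction.derivedε_fac_app adjK W₂ α.hom β Y
    haveI : IsIso (LF.map (β.app Y) ≫ adj.counit.app (DerivedCategory.Qh.obj Y)) := by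
      rw [h]; infer_instance
    haveI := IsIso.of_isIso_comp_left (LF.map (β.app Y)) (adj.counit.app (DerivedCategory.Qh.obj Y))
    rw [show adj.counit.app Z = (RG ⋙ LF).map e.inv ≫ adj.counit.app (DerivedCategory.Qh.obj Y) ≫ e.hom from by
      rw [adj.counit.naturality_assoc]; simp]
    infer_instance
  haveI : IsIso adj.counit := NatIso.isIso_of_isIso_app _
  exact ⟨⟨adj⟩, adj.fullyFaithfulROfIsIsoCounit.full, adj.fullyFaithfulROfIsIsoCounit.faithful,
    ⟨asIso adj.counit⟩⟩

end Groth.Agent.S12232
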