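import Groth.Statements.S1224
import Groth.Agent.FlatBasics.Fiber
import Mathlib.RingTheory.Ideal.GoingUp

set_option autoImplicit false
universe u
open FlatMor

namespace Groth.Agent.S1224

open scoped TensorProduct

/-- Ring form, X = Spec B affine, where proper support means finite support: let B be a finite type
A-algebra and N a finite B-module such that B modulo the annihilator of N is finite over A. Then N
is universally pure relative to Spec A. -/
theorem result {A B : Type u} [CommRing A] [CommRing B] [Algebra A B] [Algebra.FiniteType A B]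
    (N : Type u) [AddCommGroup N] [Module B N] [Module A N] [IsScalarTower A B N] [Module.Finite B N]
    [Module.Finite A (B ⧸ Module.annihilator B N)] : FlatCA.IsUnivPure A B N := by
  intro p _ A' B' N' _ _ _ _ _ _ _ _ _ _ _ _ _ _ f t' t _ _ P _
  rintro ⟨hpush, hbc, htt, -, hP, hass, hnone⟩
  -- elements of the annihilator lie in `P`
  let J : Ideal B' := (Module.annihilator B N).map (algebraMap B B')
  have hJ : J ≤ P := by
    rw [Ideal.map_le_iff_le_comap]
    intro b hb
    refine Groth.Agent.FlatBasics.mem_of_one_tmul_mem t' P ?_
    refine hass.annihilator_le ?_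
    rw [Submodule.annihilator_top, Module.mem_annihilator]
    have h1 : ∀ y : N', algebraMap B B' b • y = 0 := fun y => by
      induction y using IsBaseChange.inductionOn hbc with
      | zero => exact smul_zero _
      | tmul m => rw [algebraMap_smul, ← map_smul, Module.mem_annihilator.mp hb, map_zero]
      | smul s y hy => rw [smul_comm, hy, smul_zero]
      | add x y hx hy => rw [smul_add, hx, hy, add_zero]
    letI := Algebra.TensorProduct.rightAlgebra (R := A') (A := t'.ResidueField) (B := B')
    intro z
    show ((1 : t'.ResidueField) ⊗ₜ[A'] algebraMap B B' b) • (show (t'.Fiber B') ⊗[B'] N' from z) = 0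
    generalize (show (t'.Fiber B') ⊗[B'] N' from z) = w
    induction w with
    | zero => exact smul_zero _
    | add x y hx hy => rw [smul_add, hx, hy, add_zero]
    | tmul c y =>
      rw [TensorProduct.smul_tmul']
      have : ((1 : t'.ResidueField) ⊗ₜ[A'] algebraMap B B' b) • c = algebraMap B B' b • c := by
        rw [Algebra.smul_def (R := B')]; rfl
      rw [this, TensorProduct.smul_tmul, h1, TensorProduct.tmul_zero]
  haveI : Module.Finite A' (B' ⧸ J) := by
    obtain ⟨T, hT⟩ := (inferInstance : Module.Finite A (B ⧸ Module.annihilator B N)).fg_top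
    let lift : (B ⧸ Module.annihilator B N) →ₐ[A] (B' ⧸ J) :=
      Ideal.Quotient.liftₐ _ ((Ideal.Quotient.mkₐ A J).comp (IsScalarTower.toAlgHom A B B'))
        (fun b hb => Ideal.Quotient.eq_zero_iff_mem.mpr (Ideal.mem_map_of_mem _ hb))
    refine Module.Finite.of_fg_top ?_
    classical
    refine ⟨T.image lift, top_le_iff.mp ?_⟩
    intro z hz
    clear hz
    obtain ⟨z, rfl⟩ := Ideal.Quotient.mk_surjective z
    induction z using IsBaseChange.inductionOn hpush.symm.out with
    | zero => rw [map_zero]; exact zero_mem _
    | tmul b =>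
      have h1 : lift (Ideal.Quotient.mk _ b) ∈ (Submodule.span A (T : Set (B ⧸ Module.annihilator B N))).map lift.toLinearMap := by
        rw [hT]; exact ⟨Ideal.Quotient.mk _ b, trivial, rfl⟩
      rw [Submodule.map_span] at h1
      rw [Finset.coe_image]
      exact (Submodule.span_le.mpr (Submodule.subset_span (R := A')) :
        Submodule.span A (lift '' (T : Set (B ⧸ Module.annihilator B N))) ≤
          (Submodule.span A' (lift '' (T : Set (B ⧸ Module.annihilator B N)))).restrictScalars A) h1
    | smul s y hy =>
      rw [Algebra.smul_def, map_mul]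
      have := Submodule.smul_mem _ s hy
      rwa [Algebra.smul_def, ← Ideal.Quotient.mk_algebraMap] at this
    | add x y hx hy => rw [map_add]; exact add_mem hx hy
  haveI : Algebra.IsIntegral A' (B' ⧸ J) := Algebra.IsIntegral.of_finite A' _
  haveI : (P.map (Ideal.Quotient.mk J)).IsPrime :=
    Ideal.map_isPrime_of_surjective Ideal.Quotient.mk_surjective (by rwa [Ideal.mk_ker])
  obtain ⟨Q, hQP, hQ, hQt⟩ := Ideal.exists_ideal_over_prime_of_isIntegral t (P.map (Ideal.Quotient.mk J)) (by
    intro a ha
    rw [Ideal.mem_comap, ← Ideal.Quotient.mk_algebraMap, ← Ideal.mem_comap,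
      Ideal.comap_map_of_surjective' _ Ideal.Quotient.mk_surjective, Ideal.mk_ker, sup_eq_left.mpr hJ] at ha
    exact htt (by rw [hP.over]; exact ha))
  haveI := hQ
  refine hnone (Q.comap (Ideal.Quotient.mk J)) ?_ ⟨?_⟩
  · exact (Ideal.le_comap_map).trans (Ideal.comap_mono hQP)
  · rw [Ideal.under, Ideal.comap_comap, ← hQt]; rfl

end Groth.Agent.S1224
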