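import Groth.Statements.S12249
import Groth.Prelude.Def_ArtFun5
import Mathlib.RingTheory.Ideal.Cotangent
import Mathlib.LinearAlgebra.Dual.Basis
import Mathlib.RingTheory.Nakayama


set_option autoImplicit false
universe u v
open CategoryTheory
open Deform

namespace Groth.Agent.S12249

/-- Let k be an algebraically closed field and F a set-valued functor on local Artinian k-algebras with
residue field k such that F(k) is a single point. If F has a semiuniversal formal element and its
tangent space F(k[ε]) is reduced to one element, then F(A) consists of exactly one element for every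
A: F is the constant one-point functor h_k. -/
theorem result
    {k : Type u} [Field k] [IsAlgClosed k]
    (F : ArtFun.Art k k ⥤ Type v) (h0 : ArtFun.H0 F) (hF : ArtFun.HasHull F)
    (ht : Subsingleton (ArtFun.TangentSpace F)) (A : ArtFun.Art k k) :
    Nonempty (F.obj A) ∧ Subsingleton (F.obj A) := by
  classical
  obtain ⟨H⟩ := hF
  let R := H.ring
  have hsurj : ∀ A, Function.Surjective (H.family.app A) := fun A y => by
    have := h0.2
    let φ₀ : ArtFun.HomSet R.carrier R.res (ArtFun.Art.base k k) := ⟨R.res, AlgHom.id_comp _⟩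
    obtain ⟨ψ, -, hψ⟩ := H.miniversal.1 (ArtFun.Art.toBase A) A.res_surjective φ₀ y
      (Subsingleton.elim _ _)
    exact ⟨ψ, hψ⟩
  have hTR : Subsingleton (ArtFun.HomSet R.carrier R.res (ArtFun.Art.dual k k)) :=
    have : Subsingleton (F.obj (ArtFun.Art.dual k k)) := ht
    H.miniversal.2.1.subsingleton
  let m := IsLocalRing.maximalIdeal R.carrier
  have hm2 : m ≤ m ^ 2 := by
    intro x hx
    by_contra hx2
    have : IsScalarTower k R.carrier m.Cotangent := inferInstance
    have hne : m.toCotangent ⟨x, hx⟩ ≠ 0 := fun h => hx2 ((m.toCotangent_eq_zero _).mp h)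
    obtain ⟨ℓ, hℓ⟩ : ∃ ℓ : m.Cotangent →ₗ[k] k, ℓ (m.toCotangent ⟨x, hx⟩) ≠ 0 := by
      by_contra! h
      exact hne ((Module.forall_dual_apply_eq_zero_iff k _).mp h)
    have hp : ∀ r : R.carrier, r - algebraMap k R.carrier (R.res r) ∈ m := fun r => by
      rw [R.mem_maximalIdeal_iff, map_sub, AlgHom.commutes, sub_eq_zero]
      rfl
    let δ : R.carrier → k := fun r => ℓ (m.toCotangent ⟨_, hp r⟩)
    have hδadd : ∀ r s, δ (r + s) = δ r + δ s := fun r s => by
      simp only [δ, ← map_add]
      congr 2
      exact Subtype.ext (by simp only [map_add, Submodule.coe_add]; ring)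
    have hδmul : ∀ r s, δ (r * s) = R.res r * δ s + R.res s * δ r := fun r s => by
      have e : (⟨_, hp (r * s)⟩ : m) = R.res r • (⟨_, hp s⟩ : m) + R.res s • (⟨_, hp r⟩ : m) +
          ⟨(r - algebraMap k _ (R.res r)) * (s - algebraMap k _ (R.res s)),
            m.mul_mem_left _ (hp s)⟩ := Subtype.ext (by
        simp only [Submodule.coe_add, SetLike.val_smul_of_tower, Algebra.smul_def, map_mul]
        ring)
      have e0 : m.toCotangent ⟨(r - algebraMap k _ (R.res r)) * (s - algebraMap k _ (R.res s)),
          m.mul_mem_left _ (hp s)⟩ = 0 := (m.toCotangent_eq_zero _).mpr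
            ((pow_two m).symm ▸ Ideal.mul_mem_mul (hp r) (hp s))
      simp only [δ]
      rw [e, map_add, map_add, e0, map_zero, add_zero, map_add, map_add, m.toCotangent.map_smul_of_tower (R.res r),
        m.toCotangent.map_smul_of_tower (R.res s), map_smul, map_smul, smul_eq_mul, smul_eq_mul]
    have hδc : ∀ c : k, δ (algebraMap k R.carrier c) = 0 := fun c => by
      have : (⟨_, hp (algebraMap k R.carrier c)⟩ : m) = 0 := Subtype.ext (by simp)
      simp only [δ, this, map_zero]
    let φ : R.carrier →ₐ[k] DualNumber k :=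
      { toFun := fun r => (R.res r, δ r)
        map_one' := TrivSqZeroExt.ext (map_one _) (by simpa using hδc 1)
        map_mul' := fun r s => TrivSqZeroExt.ext (map_mul _ r s) (by
          rw [TrivSqZeroExt.snd_mul, op_smul_eq_smul, smul_eq_mul, smul_eq_mul]
          exact hδmul r s)
        map_zero' := TrivSqZeroExt.ext (map_zero _) (by simpa using hδc 0)
        map_add' := fun r s => TrivSqZeroExt.ext (map_add _ r s) (hδadd r s)
        commutes' := fun c => TrivSqZeroExt.ext (R.res.commutes c) (hδc c) }
    let φ' : ArtFun.HomSet R.carrier R.res (ArtFun.Art.dual k k) := ⟨φ, AlgHom.ext fun _ => rfl⟩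
    let φ'' : ArtFun.HomSet R.carrier R.res (ArtFun.Art.dual k k) :=
      ⟨(TrivSqZeroExt.inlAlgHom k k k).comp R.res, AlgHom.ext fun _ => rfl⟩
    have h1 : δ x = 0 :=
      congrArg (fun ψ : ArtFun.HomSet R.carrier R.res (ArtFun.Art.dual k k) => (ψ.1 x : DualNumber k).snd)
        (Subsingleton.elim φ' φ'')
    have : (⟨_, hp x⟩ : m) = ⟨x, hx⟩ := Subtype.ext (by simp [(R.mem_maximalIdeal_iff x).mp hx])
    exact hℓ (this ▸ h1)
  have hm : m = ⊥ := Submodule.eq_bot_of_le_smul_of_le_jacobson_bot m m
    (IsNoetherian.noetherian m) (by rwa [smul_eq_mul, ← pow_two])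
    (IsLocalRing.maximalIdeal_le_jacobson ⊥)
  have hres : ∀ r : R.carrier, r = algebraMap k R.carrier (R.res r) := fun r => by
    have : r - algebraMap k R.carrier (R.res r) ∈ m := by
      rw [R.mem_maximalIdeal_iff, map_sub, AlgHom.commutes, sub_eq_zero]
      rfl
    rwa [hm, Ideal.mem_bot, sub_eq_zero] at this
  have : Subsingleton (ArtFun.HomSet R.carrier R.res A) := ⟨fun a b => Subtype.ext (AlgHom.ext fun r => by
    rw [hres r, a.1.commutes, b.1.commutes])⟩
  refine ⟨⟨H.family.app A ⟨(Algebra.ofId k A).comp R.res, AlgHom.ext fun r => ?_⟩⟩, (hsurj A).subsingleton⟩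
  exact A.res.commutes (R.res r)

end Groth.Agent.S12249
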