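import Groth.Statements.S12251
import Mathlib.CategoryTheory.Limits.Types.Pullbacks
import Mathlib.CategoryTheory.Limits.Preserves.Shapes.BinaryProducts
import Mathlib.CategoryTheory.Limits.FunctorCategory.Basic
import Mathlib.CategoryTheory.Limits.Shapes.Pullback.IsPullback.Basic


set_option autoImplicit false
universe u v
open CategoryTheory
open Deform

namespace Groth.Agent.S12251

/-- Let k be an algebraically closed field, Λ a complete local Noetherian k-algebra with residue field
k, F and G set-valued functors on local Artinian Λ-algebras with residue field k with F(k) and G(k)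
single points, and f : F → G a smooth morphism of functors. Then F is a smooth functor, i.e. F(B) →
F(A) is surjective for every surjection B → A, if and only if G is a smooth functor. -/
theorem result
    {k Λ : Type u} [Field k] [IsAlgClosed k] [CommRing Λ] [IsLocalRing Λ] [IsNoetherianRing Λ]
    [IsAdicComplete (IsLocalRing.maximalIdeal Λ) Λ] [Algebra k Λ] [Algebra Λ k] [IsScalarTower k Λ k]
    {F G : ArtFun.Art Λ k ⥤ Type v} (η : F ⟶ G) (hη : ArtFun.IsSmooth η)
    (hF : ArtFun.H0 F) (hG : ArtFun.H0 G) :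
    ArtFun.IsSmoothFunctor F ↔ ArtFun.IsSmoothFunctor G := by
  have happ : ∀ A : ArtFun.Art Λ k, Function.Surjective (η.app A) := fun A y => by
    obtain ⟨⟨a⟩, -⟩ := hF
    obtain ⟨-, hGs⟩ := hG
    obtain ⟨z, hz⟩ := hη (ArtFun.Art.toBase A) A.res_surjective ⟨(a, y), hGs.elim _ _⟩
    exact ⟨z, congrArg (fun x => x.1.2) hz⟩
  constructor
  · intro hFs B A μ hμ y
    obtain ⟨x, rfl⟩ := happ A y
    obtain ⟨z, rfl⟩ := hFs μ hμ x
    exact ⟨η.app B z, (CategoryTheory.NatTrans.naturality_apply η μ z).symm⟩
  · intro hGs B A μ hμ x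
    obtain ⟨w, hw⟩ := hGs μ hμ (η.app A x)
    obtain ⟨z, hz⟩ := hη μ hμ ⟨(x, w), hw.symm⟩
    exact ⟨z, congrArg (fun x => x.1.1) hz⟩

end Groth.Agent.S12251
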