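import Groth.Statements.S12257
import Mathlib.CategoryTheory.Limits.Types.Pullbacks
import Mathlib.CategoryTheory.Limits.Preserves.Shapes.BinaryProducts
import Mathlib.CategoryTheory.Limits.FunctorCategory.Basic
import Mathlib.CategoryTheory.Limits.Shapes.Pullback.IsPullback.Basic


set_option autoImplicit false
universe u v
open CategoryTheory CategoryTheory.Limits
open Deform

namespace Groth.Agent.S12257

/-- Let k be an algebraically closed field, Λ a complete local Noetherian k-algebra with residue field
k, and F, G, H set-valued functors on local Artinian Λ-algebras with residue field k, each with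
one-point value at k. If F → G is a smooth morphism of functors and H → G is any morphism, then the
second projection F ×_G H → H of the fibre product of functors is smooth. -/
theorem result
    {k Λ : Type u} [Field k] [IsAlgClosed k] [CommRing Λ] [IsLocalRing Λ] [IsNoetherianRing Λ]
    [IsAdicComplete (IsLocalRing.maximalIdeal Λ) Λ] [Algebra k Λ] [Algebra Λ k] [IsScalarTower k Λ k]
    {F G H : ArtFun.Art Λ k ⥤ Type v} (η : F ⟶ G) (θ : H ⟶ G)
    (hF : ArtFun.H0 F) (hG : ArtFun.H0 G) (hH : ArtFun.H0 H) (hη : ArtFun.IsSmooth η) :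
    ArtFun.IsSmooth (pullback.snd η θ) := by
  intro B A μ hμ
  rintro ⟨⟨p, w⟩, hp⟩
  have hA := ((CategoryTheory.IsPullback.of_hasPullback η θ).map
    ((CategoryTheory.evaluation (ArtFun.Art Λ k) (Type v)).obj A))
  have hB := ((CategoryTheory.IsPullback.of_hasPullback η θ).map
    ((CategoryTheory.evaluation (ArtFun.Art Λ k) (Type v)).obj B))
  have hsq : η.app A ((pullback.fst η θ).app A p) = G.map μ (θ.app B w) :=
    (ConcreteCategory.congr_hom hA.w p).trans ((congrArg (θ.app A) hp).trans (CategoryTheory.NatTrans.naturality_apply θ μ w))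
  obtain ⟨z, hz⟩ := hη μ hμ ⟨((pullback.fst η θ).app A p, θ.app B w), hsq⟩
  have hz1 : F.map μ z = (pullback.fst η θ).app A p := congrArg (fun x => x.1.1) hz
  have hz2 : η.app B z = θ.app B w := congrArg (fun x => x.1.2) hz
  obtain ⟨r, hr1, hr2⟩ := CategoryTheory.Limits.Types.exists_of_isPullback hB z w hz2
  refine ⟨r, Subtype.ext (Prod.ext ?_ hr2)⟩
  refine CategoryTheory.Limits.Types.ext_of_isPullback hA ?_ ?_
  · exact (CategoryTheory.NatTrans.naturality_apply (pullback.fst η θ) μ r).trans ((congrArg (F.map μ) hr1).trans hz1)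
  · exact (CategoryTheory.NatTrans.naturality_apply (pullback.snd η θ) μ r).trans ((congrArg (H.map μ) hr2).trans hp.symm)

end Groth.Agent.S12257
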