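import Groth.Statements.S12258
import Mathlib.CategoryTheory.Limits.Types.Pullbacks
import Mathlib.CategoryTheory.Limits.Preserves.Shapes.BinaryProducts
import Mathlib.CategoryTheory.Limits.FunctorCategory.Basic
import Mathlib.CategoryTheory.Limits.Shapes.Pullback.IsPullback.Basic


set_option autoImplicit false
universe u v
open CategoryTheory CategoryTheory.Limits
open Deform

namespace Groth.Agent.S12258

/-- Let k be an algebraically closed field, Λ a complete local Noetherian k-algebra with residue field
k, and F, G set-valued functors on local Artinian Λ-algebras with residue field k, each with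
one-point value at k. If F and G are smooth functors, i.e. F(B) → F(A) and G(B) → G(A) are
surjective for every surjection B → A, then the product functor F × G is smooth. -/
theorem result
    {k Λ : Type u} [Field k] [IsAlgClosed k] [CommRing Λ] [IsLocalRing Λ] [IsNoetherianRing Λ]
    [IsAdicComplete (IsLocalRing.maximalIdeal Λ) Λ] [Algebra k Λ] [Algebra Λ k] [IsScalarTower k Λ k]
    {F G : ArtFun.Art Λ k ⥤ Type v}
    (hF : ArtFun.H0 F) (hG : ArtFun.H0 G) (sF : ArtFun.IsSmoothFunctor F) (sG : ArtFun.IsSmoothFunctor G) :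
    ArtFun.IsSmoothFunctor (F ⨯ G) := by
  intro B A μ hμ p
  have h := fun C : ArtFun.Art Λ k => CategoryTheory.Limits.isLimitOfHasBinaryProductOfPreservesLimit
    ((CategoryTheory.evaluation (ArtFun.Art Λ k) (Type v)).obj C) F G
  obtain ⟨z₁, hz₁⟩ := sF μ hμ ((CategoryTheory.Limits.prod.fst (X := F) (Y := G)).app A p)
  obtain ⟨z₂, hz₂⟩ := sG μ hμ ((CategoryTheory.Limits.prod.snd (X := F) (Y := G)).app A p)
  obtain ⟨l, hl₁, hl₂⟩ := CategoryTheory.Limits.BinaryFan.IsLimit.lift' (h B)
    (TypeCat.ofHom fun _ : PUnit.{v + 1} => z₁) (TypeCat.ofHom fun _ : PUnit.{v + 1} => z₂)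
  refine ⟨l PUnit.unit, ?_⟩
  have key : (l ≫ (F ⨯ G).map μ) = TypeCat.ofHom fun _ : PUnit.{v + 1} => p := by
    refine CategoryTheory.Limits.BinaryFan.IsLimit.hom_ext (h A) ?_ ?_
    · ext u
      exact (CategoryTheory.NatTrans.naturality_apply (CategoryTheory.Limits.prod.fst (X := F) (Y := G)) μ _).trans
        ((congrArg (F.map μ) (ConcreteCategory.congr_hom hl₁ u)).trans hz₁)
    · ext u
      exact (CategoryTheory.NatTrans.naturality_apply (CategoryTheory.Limits.prod.snd (X := F) (Y := G)) μ _).trans
        ((congrArg (G.map μ) (ConcreteCategory.congr_hom hl₂ u)).trans hz₂)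
  exact ConcreteCategory.congr_hom key PUnit.unit

end Groth.Agent.S12258
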