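import Groth.Statements.S1227
-- no helpers

set_option autoImplicit false
universe u
open FlatMor

namespace Groth.Agent.S1227

open scoped TensorProduct

open TensorProduct in
/-- Let u be a surjective linear map from a projective A-module M to an A-module N. Then there is an
ideal I of A such that for every A-algebra B, the base change u ⊗ 1 from B ⊗ M to B ⊗ N is bijective
if and only if the image of I in B is zero. -/
theorem result {A : Type u} [CommRing A] {M N : Type u} [AddCommGroup M] [Module A M] [Module.Projective A M]
    [AddCommGroup N] [Module A N] (u : M →ₗ[A] N) (hu : Function.Surjective u) :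
    ∃ I : Ideal A, ∀ (B : Type u) [CommRing B] [Algebra A B],
      Function.Bijective (u.baseChange B) ↔ I.map (algebraMap A B) = ⊥ := by
  let I : Ideal A := Ideal.span {a | ∃ φ : M →ₗ[A] A, ∃ x ∈ LinearMap.ker u, φ x = a}
  refine ⟨I, fun B _ _ => ?_⟩
  have hsurj : Function.Surjective (u.baseChange B) := LinearMap.lTensor_surjective B hu
  constructor
  · intro hb
    rw [Ideal.map_eq_bot_iff_le_ker, Ideal.span_le]
    rintro a ⟨φ, x, hx, rfl⟩
    have h1 : (1 : B) ⊗ₜ[A] x = 0 := hb.1 (by simp [LinearMap.mem_ker.mp hx])
    have h2 := congrArg (TensorProduct.rid A B ∘ φ.lTensor B) h1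
    simpa [Algebra.algebraMap_eq_smul_one] using h2
  · intro hI
    refine ⟨?_, hsurj⟩
    obtain ⟨s, hs⟩ := (Module.projective_def'.mp (inferInstance : Module.Projective A M))
    have hker : ∀ x ∈ LinearMap.ker u, (1 : B) ⊗ₜ[A] x = 0 := by
      intro x hx
      have h0 : ∀ i, algebraMap A B (s x i) = 0 := fun i => by
        have : s x i ∈ I := Ideal.subset_span ⟨(Finsupp.lapply i).comp s, x, hx, rfl⟩
        simpa [hI] using Ideal.mem_map_of_mem (algebraMap A B) this
      have h1 : Finsupp.linearCombination A (id : M → M) (s x) = x := LinearMap.congr_fun hs x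
      rw [← h1, Finsupp.linearCombination_apply, Finsupp.sum, TensorProduct.tmul_sum]
      refine Finset.sum_eq_zero fun i _ => ?_
      rw [TensorProduct.tmul_smul, TensorProduct.smul_tmul', Algebra.smul_def, h0, zero_mul, TensorProduct.zero_tmul]
    rw [injective_iff_map_eq_zero]
    intro y hy
    obtain ⟨z, rfl⟩ := (lTensor_exact B (LinearMap.exact_subtype_ker_map u) hu y).mp hy
    clear hy
    induction z with
    | zero => simp
    | add a b ha hb => simp_all
    | tmul b x =>
      rw [LinearMap.lTensor_tmul, ← mul_one b, ← smul_eq_mul, ← TensorProduct.smul_tmul', Submodule.subtype_apply,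
        hker x.1 x.2, smul_zero]

end Groth.Agent.S1227
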