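import Groth.Statements.S12288
import Groth.Agent.CotTLib.Quotient


set_option autoImplicit false
universe u w m
open scoped TensorProduct
open DefT

namespace Groth.Agent.S12288

/-- Let A be a local ring and A → B a surjective ring homomorphism whose kernel is generated by a
regular sequence a_1, …, a_r on A (each a_i is a non-zero-divisor on A/(a_1, …, a_{i-1}) and the
ideal is proper). Then T^2(B/A, M) = 0 for every B-module M, the module being computed from the
choice-free presentation of B over A. -/
theorem result
    (A B : Type u) [CommRing A] [IsLocalRing A] [CommRing B] [Algebra A B]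
    (hs : Function.Surjective (algebraMap A B)) (rs : List A) (hreg : RingTheory.Sequence.IsRegular A rs)
    (hI : RingHom.ker (algebraMap A B) = Ideal.ofList rs) (M : Type u) [AddCommGroup M] [Module B M] :
    Subsingleton (CotT.T2 (CotT.canon A B) M) := by
  have hI' : RingHom.ker (algebraMap A B) = Ideal.span (Set.range (fun i : Fin rs.length => rs[i])) := by
    rw [hI, Ideal.ofList]
    congr 1
    ext x
    simp [List.mem_iff_get, eq_comm]
  have hw : RingTheory.Sequence.IsWeaklyRegular A (List.ofFn fun i : Fin rs.length => rs[i]) := by
    have : List.ofFn (fun i : Fin rs.length => rs[i]) = rs := List.ofFn_getElem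
    rw [this]
    exact hreg.toIsWeaklyRegular
  haveI := CotTLib.subsingleton_L2_of_relKer_le (CotTLib.quotPresentation hs _ hI')
    (CotTLib.relKer_le_trivRel_quot hs _ hI' (CotTLib.mem_triv_of_isWeaklyRegular _ hw))
  haveI := CotTLib.subsingleton_T2_of_subsingleton_L2 (CotTLib.quotPresentation hs _ hI') M
  exact (CotTLib.T2equiv (CotT.canon A B) (CotTLib.quotPresentation hs _ hI') (M := M)).toEquiv.subsingleton

end Groth.Agent.S12288
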