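import Groth.Statements.S12290
import Groth.Agent.CotTLib.Smooth


set_option autoImplicit false
universe u w m
open scoped TensorProduct
open DefT

namespace Groth.Agent.S12290

/-- Let k be an algebraically closed field and B a finitely generated k-algebra, X = Spec B. Then X is
nonsingular (localizing B at any prime ideal gives a regular local ring) exactly when T^1(B/k, M)
vanishes for every B-module M; and when X is nonsingular, T^2(B/k, M) vanishes too, for every
B-module M. Here T^1, T^2 are computed from the choice-free presentation of B over k. -/
theorem result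
    (k B : Type u) [Field k] [IsAlgClosed k] [CommRing B] [Algebra k B] [Algebra.FiniteType k B] :
    ((∀ (p : Ideal B) [p.IsPrime], IsRegularLocalRing (Localization.AtPrime p)) ↔
      ∀ (M : Type u) [AddCommGroup M] [Module B M], Subsingleton (CotT.T1 (CotT.canon k B) M)) ∧
    ((∀ (p : Ideal B) [p.IsPrime], IsRegularLocalRing (Localization.AtPrime p)) →
      ∀ (M : Type u) [AddCommGroup M] [Module B M], Subsingleton (CotT.T2 (CotT.canon k B) M)) := by
  haveI : PerfectField k := inferInstance
  refine ⟨⟨fun h M _ _ => ?_, fun h => ?_⟩, fun h M _ _ => ?_⟩
  · haveI := (CotTLib.formallySmooth_iff_regular (k := k) (B := B)).mpr h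
    exact CotTLib.subsingleton_T1_of_formallySmooth (CotT.canon k B) M
  · exact (CotTLib.formallySmooth_iff_regular (k := k) (B := B)).mp
      (CotTLib.formallySmooth_of_subsingleton_T1 (CotT.canon k B) (h _))
  · haveI := (CotTLib.formallySmooth_iff_regular (k := k) (B := B)).mpr h
    exact CotTLib.subsingleton_T2_canon_of_smooth h M

end Groth.Agent.S12290
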