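import Groth.Statements.S12291
import Groth.Agent.CotTLib.LocalCI


set_option autoImplicit false
universe u w m
open scoped TensorProduct
open DefT

namespace Groth.Agent.S12291

/-- Let k be an algebraically closed field and A a regular local k-algebra with residue field k such
that T^1(A/k, N) = 0 and T^2(A/k, N) = 0 for all A-modules N; let I be a proper ideal of A and B =
A/I. Then B is cut out of A as a local complete intersection — meaning I is generated by some list
of r elements with r + dim B = dim A, i.e. by dim A − dim B elements — exactly when T^2(B/k, M)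
vanishes for each B-module M. The T^i are computed from the choice-free presentations. (The
published statement assumes only that A is a regular local k-algebra with residue field k; its proof
uses the vanishing of T^1(A/k, −) and T^2(A/k, −), which holds when A is essentially of finite type
over k and which this row carries as a hypothesis.) -/
theorem result
    (k A : Type u) [Field k] [IsAlgClosed k] [CommRing A] [IsRegularLocalRing A] [Algebra k A]
    (hres : Function.Surjective (algebraMap k (IsLocalRing.ResidueField A)))
    (hT : ∀ (N : Type u) [AddCommGroup N] [Module A N],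
      Subsingleton (CotT.T1 (CotT.canon k A) N) ∧ Subsingleton (CotT.T2 (CotT.canon k A) N))
    (I : Ideal A) (hI : I ≠ ⊤) :
    (∃ rs : List A, Ideal.ofList rs = I ∧ (rs.length : WithBot ℕ∞) + ringKrullDim (A ⧸ I) = ringKrullDim A) ↔
      ∀ (M : Type u) [AddCommGroup M] [Module (A ⧸ I) M], Subsingleton (CotT.T2 (CotT.canon k (A ⧸ I)) M) := by
  classical
  have hs : Function.Surjective (algebraMap A (A ⧸ I)) := Ideal.Quotient.mk_surjective
  haveI : Nontrivial (A ⧸ I) := Ideal.Quotient.nontrivial_iff.mpr hI
  have hker : RingHom.ker (algebraMap A (A ⧸ I)) = I := Ideal.mk_ker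
  -- `T²(B/k) = T²(B/A)`
  have key : ∀ {n : ℕ} (fs : Fin n → A) (h : RingHom.ker (algebraMap A (A ⧸ I)) = Ideal.span (Set.range fs))
      (M : Type u) [AddCommGroup M] [Module (A ⧸ I) M],
      Subsingleton (CotT.T2 (CotT.canon k (A ⧸ I)) M) ↔
        Subsingleton (CotT.T2 (CotTLib.quotPresentation hs fs h) M) := by
    intro n fs h M _ _
    letI : Module A M := Module.compHom M (algebraMap A (A ⧸ I))
    haveI : IsScalarTower A (A ⧸ I) M := IsScalarTower.of_compHom A (A ⧸ I) M
    obtain ⟨hT1, hT2⟩ := hT M
    obtain ⟨-, -, -, h22, δ₀, δ₁, -, -, hd, hd'⟩ :=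
      CotTLib.nine_term (M := M) (CotTLib.quotPresentation hs fs h) (CotT.canon k A) (CotT.canon k (A ⧸ I))
        (CotTLib.presHom (CotT.canon k (A ⧸ I)) (CotTLib.quotPresentation hs fs h))
        (CotTLib.presHom (CotT.canon k A) (CotT.canon k (A ⧸ I)))
    constructor
    · intro hk
      refine subsingleton_of_forall_eq 0 fun x => ?_
      obtain ⟨y, rfl⟩ := (hd' x).mp (hk.elim _ _)
      rw [hT1.elim y 0, map_zero]
    · intro hA
      refine subsingleton_of_forall_eq 0 fun x => ?_
      obtain ⟨y, rfl⟩ := (h22 x).mp (hT2.elim _ _)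
      rw [hA.elim y 0, map_zero]
  constructor
  · rintro ⟨rs, rfl, hdim⟩ M _ _
    have hw := CotTLib.isWeaklyRegular_of_dim rs hI hdim
    have h' : RingHom.ker (algebraMap A (A ⧸ Ideal.ofList rs)) =
        Ideal.span (Set.range (fun i : Fin rs.length => rs[i])) := by
      rw [hker, Ideal.ofList]
      congr 1
      ext x
      simp [List.mem_iff_get, eq_comm]
    have hw' : RingTheory.Sequence.IsWeaklyRegular A (List.ofFn fun i : Fin rs.length => rs[i]) := by
      rw [show List.ofFn (fun i : Fin rs.length => rs[i]) = rs from List.ofFn_getElem]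
      exact hw
    haveI := CotTLib.subsingleton_L2_of_relKer_le (CotTLib.quotPresentation hs _ h')
      (CotTLib.relKer_le_trivRel_quot hs _ h' (CotTLib.mem_triv_of_isWeaklyRegular _ hw'))
    exact (key _ h' M).mpr (CotTLib.subsingleton_T2_of_subsingleton_L2 _ M)
  · intro h
    obtain ⟨s, hcard, hspan⟩ := (IsNoetherian.noetherian I).exists_span_finset_card_eq_spanFinrank
    let fs : Fin s.card → A := fun i => (s.equivFin.symm i : A)
    have hr : Set.range fs = (s : Set A) := by
      ext x
      exact ⟨fun ⟨i, hi⟩ => hi ▸ (s.equivFin.symm i).2, fun hx => ⟨s.equivFin ⟨x, hx⟩, by simp [fs]⟩⟩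
    have hIfs : Ideal.span (Set.range fs) = I := by rw [hr]; exact hspan
    have h' : RingHom.ker (algebraMap A (A ⧸ I)) = Ideal.span (Set.range fs) := by rw [hker, hIfs]
    have hmin : (Ideal.span (Set.range fs)).spanFinrank = s.card := by rw [hIfs, hcard]
    have htriv := CotTLib.syzygies_trivial_of_T2 hs fs h'
      (fun x hx i => CotTLib.syzygy_mem_maximalIdeal fs hmin x hx i) ((key fs h' _).mp (h _))
    have hmem : ∀ i, fs i ∈ IsLocalRing.maximalIdeal A := fun i =>
      IsLocalRing.le_maximalIdeal hI (hIfs ▸ Ideal.subset_span ⟨i, rfl⟩)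
    have hlist : Ideal.ofList (List.ofFn fs) = I := by
      conv_rhs => rw [← hIfs]
      rw [Ideal.ofList]
      congr 1
      ext x
      simp [List.mem_ofFn]
    refine ⟨List.ofFn fs, hlist, ?_⟩
    have hw := CotTLib.isWeaklyRegular_of_forall_mem_triv fs hmem htriv
    have hreg : RingTheory.Sequence.IsRegular A (List.ofFn fs) :=
      (IsLocalRing.isRegular_iff_isWeaklyRegular_of_subset_maximalIdeal (M := A) (fun x hx => by
        obtain ⟨i, rfl⟩ := List.mem_ofFn.mp hx
        exact hmem i)).mpr hw
    have hd := ringKrullDim_add_length_eq_ringKrullDim_of_isRegular _ hreg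
    rw [hlist] at hd
    rw [add_comm]
    exact hd

end Groth.Agent.S12291
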