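import Groth.Statements.S12297
import Groth.Agent.CotTLib.Localization


set_option autoImplicit false
universe u w m
open scoped TensorProduct
open DefT

namespace Groth.Agent.S12297

/-- Let k be an algebraically closed field, B a finitely generated k-algebra, m a maximal ideal of B and
B_m the localization, a local k-algebra with residue field k. Then B_m is a regular local ring if
and only if T^1(B_m/k, M) = 0 for all B_m-modules M, and in that case T^2(B_m/k, M) = 0 for all M as
well; the T^i are computed from the choice-free presentation of B_m over k. (The published statement
is for a local k-algebra with residue field k, k algebraically closed, proved by localization from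
the finitely generated case; this row states it for the localizations of finitely generated
k-algebras at maximal ideals, the case that proof covers.) -/
theorem result
    (k B : Type u) [Field k] [IsAlgClosed k] [CommRing B] [Algebra k B] [Algebra.FiniteType k B]
    (m : Ideal B) [m.IsMaximal] :
    (IsRegularLocalRing (Localization.AtPrime m) ↔
      ∀ (M : Type u) [AddCommGroup M] [Module (Localization.AtPrime m) M],
        Subsingleton (CotT.T1 (CotT.canon k (Localization.AtPrime m)) M)) ∧
    (IsRegularLocalRing (Localization.AtPrime m) →
      ∀ (M : Type u) [AddCommGroup M] [Module (Localization.AtPrime m) M],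
        Subsingleton (CotT.T2 (CotT.canon k (Localization.AtPrime m)) M)) := by
  let L := Localization.AtPrime m
  haveI : Algebra.FinitePresentation k B := Algebra.FinitePresentation.of_finiteType.mp inferInstance
  haveI : Algebra.EssFiniteType B L := Algebra.EssFiniteType.of_isLocalization _ m.primeCompl
  haveI : Algebra.EssFiniteType k L := Algebra.EssFiniteType.comp k B _
  haveI : Algebra.EssFiniteType k (IsLocalRing.ResidueField L) := Algebra.EssFiniteType.comp k L _
  have hkey : Algebra.FormallySmooth k L ↔ IsRegularLocalRing L :=
    Groth.Agent.CAlgJac.formallySmooth_iff_isRegularLocalRing_of_essFiniteType k _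
  refine ⟨⟨fun h M _ _ => ?_, fun h => ?_⟩, fun h M _ _ => ?_⟩
  · haveI := hkey.mpr h
    exact CotTLib.subsingleton_T1_of_formallySmooth (CotT.canon k L) M
  · exact hkey.mp (CotTLib.formallySmooth_of_subsingleton_T1 (CotT.canon k L) (h _))
  · haveI : Algebra.IsSmoothAt k m := hkey.mpr h
    obtain ⟨g, hg, hsm⟩ := Algebra.IsSmoothAt.exists_notMem_smooth k m
    have hle : Submonoid.powers g ≤ m.primeCompl := by
      rintro _ ⟨n, rfl⟩ hn
      exact hg (‹m.IsMaximal›.isPrime.mem_of_pow_mem n hn)
    letI : Algebra (Localization.Away g) L :=
      IsLocalization.localizationAlgebraOfSubmonoidLe (Localization.Away g) L _ _ hle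
    haveI : IsScalarTower B (Localization.Away g) L :=
      IsLocalization.localization_isScalarTower_of_submonoid_le (Localization.Away g) L _ _ hle
    haveI : IsScalarTower k (Localization.Away g) L := IsScalarTower.of_algebraMap_eq fun x => by
      rw [IsScalarTower.algebraMap_apply k B L, IsScalarTower.algebraMap_apply k B (Localization.Away g),
        ← IsScalarTower.algebraMap_apply B (Localization.Away g) L]
    haveI : IsLocalization (m.primeCompl.map (algebraMap B (Localization.Away g))) L :=
      IsLocalization.isLocalization_of_submonoid_le (Localization.Away g) L _ _ hle
    letI : Module (Localization.Away g) M := Module.compHom M (algebraMap (Localization.Away g) L)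
    haveI : IsScalarTower (Localization.Away g) L M := IsScalarTower.of_compHom _ _ _
    exact CotTLib.subsingleton_T2_of_localization M (m.primeCompl.map (algebraMap B (Localization.Away g)))
      (CotTLib.subsingleton_T2_canon_of_smooth
        ((CotTLib.formallySmooth_iff_regular (k := k) (B := Localization.Away g)).mp inferInstance) M)

end Groth.Agent.S12297
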