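import Groth.Statements.S12299
import Groth.Agent.ArtHull.Versal


set_option autoImplicit false
universe u v
open CategoryTheory
open ArtFun

namespace Groth.Agent.S12299

/-- Let k be an algebraically closed field, F a set-valued functor on local Artinian k-algebras with
residue field k, and (R, ξ) a miniversal family for F, with R a complete local Noetherian k-algebra
with residue field k: the morphism h_R → F has the lifting property along surjections and is
bijective on the dual numbers. Let S be a complete local Noetherian k-algebra with residue field k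
and g₁, g₂ : R → S two k-algebra maps compatible with the augmentations along which ξ induces the
same formal family over S (the same compatible sequence in the F(S/m^(n+1))). Then g₁ and g₂ induce
the same map R → S/m_S², so the map R/m_R² → S/m_S² attached to a formal family over S is well
defined. (Coefficient rings are taken Noetherian here.) -/
theorem result
    {k : Type u} [Field k] [IsAlgClosed k] {F : ArtFun.Art k k ⥤ Type v}
    (R : ArtFun.CRing k k) (ξ : ArtFun.Family R.carrier R.res F) (hξ : ArtFun.IsMiniversal ξ)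
    (S : ArtFun.CRing k k) (g₁ g₂ : R.carrier →ₐ[k] S.carrier)
    (hg₁ : S.res.comp g₁ = R.res) (hg₂ : S.res.comp g₂ = R.res)
    (h : (ξ.along g₁ hg₁).toFormalElt = (ξ.along g₂ hg₂).toFormalElt) :
    (S.truncHom 1).1.comp g₁ = (S.truncHom 1).1.comp g₂ := by
  refine AlgHom.ext fun r => ?_
  by_contra hne
  let T := S.trunc 1
  have : IsArtinianRing T := T.isArtinianRing
  let x : T := (S.truncHom 1).1 (g₁ r) - (S.truncHom 1).1 (g₂ r)
  have hx : T.res x = 0 := by
    change T.res ((S.truncHom 1).1 (g₁ r) - (S.truncHom 1).1 (g₂ r)) = 0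
    rw [map_sub, show T.res ((S.truncHom 1).1 (g₁ r)) = S.res (g₁ r) from rfl,
      show T.res ((S.truncHom 1).1 (g₂ r)) = S.res (g₂ r) from rfl]
    exact sub_eq_zero.2 ((AlgHom.congr_fun hg₁ r).trans (AlgHom.congr_fun hg₂ r).symm)
  obtain ⟨φ, hφ, -⟩ := ArtHull.exists_hom_dual T.res
    (fun a ha => by
      by_contra hu
      exact ha ((ArtFun.Art.mem_maximalIdeal_iff T a).1 ((IsLocalRing.mem_maximalIdeal a).2 hu)))
    (⊥ : Subalgebra k T)
    (fun c => ⟨algebraMap k T c, Subalgebra.algebraMap_mem _ c, T.res.commutes c⟩) ⊥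
    (fun a ha => by rw [Ideal.mem_bot] at ha; rw [ha, map_zero])
    (fun a b ha hb => by
      obtain ⟨a, rfl⟩ := Ideal.Quotient.mk_surjective a
      obtain ⟨b, rfl⟩ := Ideal.Quotient.mk_surjective b
      rw [Ideal.mem_bot]
      change Ideal.Quotient.mk _ (a * b) = 0
      rw [Ideal.Quotient.eq_zero_iff_mem]
      change a * b ∈ IsLocalRing.maximalIdeal S.carrier ^ (1 + 1)
      rw [pow_two]
      exact Ideal.mul_mem_mul ((ArtFun.CRing.mem_maximalIdeal_iff S a).2 ha)
        ((ArtFun.CRing.mem_maximalIdeal_iff S b).2 hb))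
    (fun b hb hb0 => by
      obtain ⟨l, rfl⟩ := Algebra.mem_bot.1 hb
      rw [T.res.commutes] at hb0
      rw [show l = 0 from hb0, map_zero]
      exact Submodule.zero_mem _)
    (x := x) hx (fun hmem => hne (sub_eq_zero.1 (Ideal.mem_bot.1 hmem)))
  let F₀ : T ⟶ ArtFun.Art.dual k k := ArtFun.Art.homMk φ.1 φ.2
  have h2 : ξ.app _ (ArtFun.HomSet.map F₀ ⟨(S.truncHom 1).1.comp g₁, by
        rw [← AlgHom.comp_assoc, (S.truncHom 1).2, hg₁]⟩) =
      ξ.app _ (ArtFun.HomSet.map F₀ ⟨(S.truncHom 1).1.comp g₂, by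
        rw [← AlgHom.comp_assoc, (S.truncHom 1).2, hg₂]⟩) := by
    rw [ξ.natural, ξ.natural]
    exact congrArg _ (congrArg (fun u => ArtFun.FormalElt.elt u 1) h)
  have h3 : φ.1 ((S.truncHom 1).1 (g₁ r)) = φ.1 ((S.truncHom 1).1 (g₂ r)) :=
    AlgHom.congr_fun (congrArg Subtype.val (hξ.2.1 h2)) r
  refine hφ ?_
  change TrivSqZeroExt.snd (φ.1 ((S.truncHom 1).1 (g₁ r) - (S.truncHom 1).1 (g₂ r))) = 0
  rw [map_sub, h3, sub_self]
  rfl

end Groth.Agent.S12299
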