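import Groth.Statements.S12304
import Groth.Agent.ArtHull.Completion
-- import your own Groth.Agent.* helpers here

set_option autoImplicit false
universe u
open CategoryTheory CategoryTheory.Limits AlgebraicGeometry
open ArtFun

set_option backward.isDefEq.respectTransparency false
set_option maxHeartbeats 1000000

namespace Groth.Agent.S12304

/-- Let k be an algebraically closed field, M a locally Noetherian k-scheme and x₀ : Spec k → M a
k-rational point. For a local Artinian k-algebra A with residue field k consider the k-morphisms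
Spec A → M whose restriction along the closed point Spec k → Spec A is x₀ (the local functor of M at
x₀, a morphism A → B acting by composition with Spec B → Spec A). This functor is pro-representable:
there are a complete local Noetherian k-algebra R with residue field k and bijections, natural in A,
between the augmentation-compatible k-algebra maps R → A and these morphisms. (The published
statement is phrased for the fine moduli scheme M of a moduli problem, whose local functor at the
point of a given object is this one; M is taken locally Noetherian here so that the coefficient ring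
is Noetherian.) -/
theorem result
    {k : Type u} [Field k] [IsAlgClosed k] (M : Scheme.{u}) (m : M ⟶ Spec (CommRingCat.of k))
    [IsLocallyNoetherian M] (x₀ : Spec (CommRingCat.of k) ⟶ M) (hx₀ : x₀ ≫ m = 𝟙 _) :
    ∃ (R : ArtFun.CRing k k)
      (e : ∀ A : ArtFun.Art k k, ArtFun.HomSet R.carrier R.res A ≃
        {g : ArtFun.Art.spec A ⟶ M // g ≫ m = ArtFun.Art.specMap (ArtFun.Art.ofBase A) ∧ ArtFun.Art.specRes A ≫ g = x₀}),
      ∀ (A B : ArtFun.Art k k) (h : A ⟶ B) (φ : ArtFun.HomSet R.carrier R.res A),
        ((e B) (ArtFun.HomSet.map h φ)).1 = ArtFun.Art.specMap h ≫ ((e A) φ).1 := by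
  classical
  obtain ⟨x, hx⟩ : ∃ x : M, x = x₀ (IsLocalRing.closedPoint k) := ⟨_, rfl⟩
  haveI : IsNoetherianRing (M.presheaf.stalk x) := inferInstance
  obtain ⟨c, hc⟩ : ∃ c : CommRingCat.of k ⟶ M.presheaf.stalk x, Spec.map c = M.fromSpecStalk x ≫ m :=
    ⟨_, Spec.map_preimage _⟩
  letI : Algebra k (M.presheaf.stalk x) := c.hom.toAlgebra
  obtain ⟨ψ, hψ⟩ : ∃ ψ : M.presheaf.stalk x ⟶ CommRingCat.of k, Spec.map ψ ≫ M.fromSpecStalk x = x₀ :=
    hx ▸ ⟨_, Scheme.Spec_stalkClosedPointTo_fromSpecStalk x₀⟩
  have hcψ : c ≫ ψ = 𝟙 _ := by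
    apply Spec.map_injective
    rw [Spec.map_comp, hc, ← Category.assoc, hψ, hx₀, Spec.map_id]
  let res : M.presheaf.stalk x →ₐ[k] k :=
    { toRingHom := ψ.hom, commutes' := fun r => ConcreteCategory.congr_hom hcψ r }
  have hres : Function.Surjective res := fun r => ⟨c.hom r, ConcreteCategory.congr_hom hcψ r⟩
  obtain ⟨C, i, hi, hu⟩ := ArtHull.exists_completion (M.presheaf.stalk x) res hres (IsNoetherian.noetherian _)
  let mor : ∀ A : Art k k, (M.presheaf.stalk x →ₐ[k] A) → (ArtFun.Art.spec A ⟶ M) := fun A φ =>
    Spec.map (CommRingCat.ofHom φ.toRingHom) ≫ M.fromSpecStalk x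
  have hmor : ∀ (A : Art k k) (φ : M.presheaf.stalk x →ₐ[k] A), A.res.comp φ = res →
      mor A φ ≫ m = ArtFun.Art.specMap (ArtFun.Art.ofBase A) ∧ ArtFun.Art.specRes A ≫ mor A φ = x₀ := by
    intro A φ h
    constructor
    · rw [Category.assoc, ← hc, ← Spec.map_comp]
      congr 1
      ext r
      exact φ.commutes r
    · rw [← Category.assoc, ← Spec.map_comp]
      refine Eq.trans ?_ hψ
      congr 2
      ext s
      exact AlgHom.congr_fun h s
  have hbij : ∀ A : Art k k, Function.Bijective (fun φ : ArtFun.HomSet C.carrier C.res A =>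
      (⟨mor A (φ.1.comp i), hmor A _ (by rw [← AlgHom.comp_assoc, φ.2, hi])⟩ :
        {g : ArtFun.Art.spec A ⟶ M // g ≫ m = ArtFun.Art.specMap (ArtFun.Art.ofBase A) ∧
          ArtFun.Art.specRes A ≫ g = x₀})) := by
    intro A
    constructor
    · intro φ φ' h
      have h1 := congrArg Subtype.val h
      rw [cancel_mono] at h1
      have h2 : φ.1.comp i = φ'.1.comp i :=
        AlgHom.ext fun t => ConcreteCategory.congr_hom (Spec.map_injective h1) t
      obtain ⟨w, -, hw⟩ := hu (ArtHull.artCRing A) (φ.1.comp i) (by
        rw [← AlgHom.comp_assoc]; exact (congrArg (·.comp i) φ.2).trans hi)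
      exact Subtype.ext ((hw φ.1 ⟨φ.2, rfl⟩).trans (hw φ'.1 ⟨φ'.2, h2.symm⟩).symm)
    · rintro ⟨g, hg1, hg2⟩
      have hpt : g (IsLocalRing.closedPoint A) = x := by
        rw [hx]
        rw [← hg2, Scheme.Hom.comp_apply]
        congr 1
        refine PrimeSpectrum.ext ?_
        change IsLocalRing.maximalIdeal A = Ideal.comap A.res.toRingHom (IsLocalRing.maximalIdeal k)
        haveI : (Ideal.comap A.res.toRingHom (IsLocalRing.maximalIdeal k)).IsMaximal :=
          Ideal.comap_isMaximal_of_surjective A.res.toRingHom A.res_surjective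
        exact (IsLocalRing.eq_maximalIdeal inferInstance).symm
      obtain ⟨φ, hφ⟩ : ∃ φ : M.presheaf.stalk x ⟶ CommRingCat.of A, Spec.map φ ≫ M.fromSpecStalk x = g :=
        ⟨M.presheaf.stalkSpecializes (specializes_of_eq hpt) ≫ Scheme.stalkClosedPointTo g, by
          rw [Spec.map_comp, Category.assoc, Scheme.SpecMap_stalkSpecializes_fromSpecStalk,
            Scheme.Spec_stalkClosedPointTo_fromSpecStalk]⟩
      have hφc : c ≫ φ = CommRingCat.ofHom (Algebra.ofId k A).toRingHom := by
        apply Spec.map_injective
        rw [Spec.map_comp, hc, ← Category.assoc, hφ, hg1]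
        rfl
      let φa : M.presheaf.stalk x →ₐ[k] A :=
        { toRingHom := φ.hom, commutes' := fun r => ConcreteCategory.congr_hom hφc r }
      have hra : A.res.comp φa = res := by
        have : φ ≫ CommRingCat.ofHom A.res.toRingHom = ψ := by
          apply Spec.map_injective
          rw [← cancel_mono (M.fromSpecStalk x), Spec.map_comp, Category.assoc, hφ, hg2, hψ]
        exact AlgHom.ext fun t => ConcreteCategory.congr_hom this t
      obtain ⟨w, ⟨hw1, hw2⟩, -⟩ := hu (ArtHull.artCRing A) φa hra
      refine ⟨⟨w, hw1⟩, Subtype.ext ?_⟩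
      change mor A (w.comp i) = g
      rw [show w.comp i = φa from hw2]
      exact hφ
  refine ⟨C, fun A => Equiv.ofBijective _ (hbij A), fun A B h φ => ?_⟩
  change Spec.map _ ≫ M.fromSpecStalk x = Spec.map _ ≫ Spec.map _ ≫ M.fromSpecStalk x
  rw [← Category.assoc, ← Spec.map_comp]
  rfl

end Groth.Agent.S12304
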