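import Groth.Statements.S12305
import Groth.Agent.RigidSing.Singular
import Mathlib.RingTheory.Smooth.Locus
import Mathlib.RingTheory.Noetherian.Basic


set_option autoImplicit false
universe u
open CotT

noncomputable section

namespace Groth.Agent.RigidSing

open MvPolynomial TensorProduct

universe v

variable {A B : Type v} [CommRing A] [CommRing B] [Algebra A B] {n : ℕ} (val : Fin n → B)

lemma cotangent_mk_sum (P : Algebra.Generators A B (Fin n)) (s : Fin n → P.toExtension.ker) (g : Fin n → P.toExtension.Ring) :
    ∑ i, algebraMap P.toExtension.Ring B (g i) • Algebra.Extension.Cotangent.mk (s i) =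
      Algebra.Extension.Cotangent.mk (∑ i, g i • s i) := by
  rw [map_sum]
  exact Finset.sum_congr rfl fun i _ => by rw [map_smul, algebraMap_smul]

theorem smooth_iff_killed [IsNoetherianRing A] [Algebra.FiniteType A B] (c : A) :
    (∀ q : PrimeSpectrum B, algebraMap A B c ∉ q.asIdeal → q ∈ Algebra.smoothLocus A B) ↔
    ∃ n₀ : ℕ, ∀ (M : Type v) [AddCommGroup M] [Module B M] [Module.Finite B M],
      ∀ x : CotT.T1 (CotT.canon A B) M, (algebraMap A B c) ^ n₀ • x = 0 := by
  have : Algebra.FinitePresentation A B := Algebra.FinitePresentation.of_finiteType.1 inferInstance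
  obtain ⟨n, φ₁, hφ₁⟩ := Algebra.FiniteType.iff_quotient_mvPolynomial''.1 ‹Algebra.FiniteType A B›
  let G : Algebra.Generators A B (Fin n) := Algebra.Generators.ofAlgHom φ₁ hφ₁
  let P : Algebra.Presentation A B (Fin n) G.ker :=
    { __ := G
      relation := Subtype.val
      span_range_relation_eq_ker := by
        refine le_antisymm (Ideal.span_le.mpr ?_) fun x hx => Ideal.subset_span ⟨⟨x, hx⟩, rfl⟩
        rintro _ ⟨r, rfl⟩
        exact r.2 }
  let φ : MvPolynomial (Fin n) A →ₐ[A] B := aeval P.val
  have hφ : Function.Surjective φ := fun b => ⟨G.σ b, G.aeval_val_σ b⟩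
  have hPφ : ∀ f : P.toExtension.Ring, algebraMap P.toExtension.Ring B f = φ f := CotT.algebraMap_toExtension P
  have hmem : ∀ f : P.toExtension.Ring, f ∈ P.toExtension.ker ↔ φ f = 0 := fun f => by
    rw [← hPφ]; rfl
  have hker : P.toExtension.ker = RingHom.ker φ := Ideal.ext hmem
  have hrepr : ∀ (M : Type v) [AddCommGroup M] [Module B M] (ψ : CotT.L0 P →ₗ[B] M) (f : P.toExtension.Ring),
      ψ (1 ⊗ₜ KaehlerDifferential.D A P.toExtension.Ring f) = ∑ i, φ (pderiv i f) • ψ (P.cotangentSpaceBasis i) := by
    intro M _ _ ψ f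
    conv_lhs => rw [← P.cotangentSpaceBasis.sum_repr (1 ⊗ₜ KaehlerDifferential.D A P.toExtension.Ring f)]
    rw [map_sum]
    exact Finset.sum_congr rfl fun i _ => by rw [map_smul, Algebra.Generators.cotangentSpaceBasis_repr_one_tmul]
  have hC : ∀ N : ℕ, φ (C c ^ N) = algebraMap A B c ^ N := fun N => by
    rw [map_pow, ← algebraMap_eq, AlgHom.commutes]
  have hlin : ∀ (N : ℕ) (s : Fin n → P.toExtension.ker),
      (∀ f, φ f = 0 → diff (fun i => (show MvPolynomial (Fin n) A from (s i).1)) f - C c ^ N * f ∈ RingHom.ker φ * RingHom.ker φ) ↔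
      ∀ x : P.toExtension.ker, ∑ i, φ (pderiv i x.1) • Algebra.Extension.Cotangent.mk (s i) =
        (algebraMap A B c ^ N) • Algebra.Extension.Cotangent.mk x := by
    intro N s
    have key : ∀ x : P.toExtension.ker, (∑ i, φ (pderiv i x.1) • Algebra.Extension.Cotangent.mk (s i) =
        (algebraMap A B c ^ N) • Algebra.Extension.Cotangent.mk x) ↔
        diff (fun i => (show MvPolynomial (Fin n) A from (s i).1)) (show MvPolynomial (Fin n) A from x.1) - (C c : MvPolynomial (Fin n) A) ^ N * (show MvPolynomial (Fin n) A from x.1) ∈ RingHom.ker φ * RingHom.ker φ := fun x => by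
      rw [← hC, ← hPφ (C c ^ N)]
      simp only [← hPφ]
      rw [cotangent_mk_sum P.toGenerators s, algebraMap_smul, ← map_smul, Algebra.Extension.Cotangent.mk_eq_mk_iff_sub_mem,
        pow_two, show P.toExtension.ker * P.toExtension.ker = _ from congrArg (fun J => J * J) hker]
      simp only [diff, AddSubmonoidClass.coe_finsetSum, SetLike.val_smul, smul_eq_mul]
      rfl
    exact ⟨fun h x => (key x).2 (h x.1 ((hmem _).1 x.2)), fun h f hf => (key ⟨f, (hmem _).2 hf⟩).1 (h _)⟩
  constructor
  · intro hsm
    obtain ⟨N, s, hs, hsf⟩ := exists_split φ hφ c (Algebra.basicOpen_subset_smoothLocus_iff.1 fun q hq => hsm q hq)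
    refine ⟨N, fun M _ _ _ x => ?_⟩
    obtain ⟨y, rfl⟩ := (CotTLib.T1equiv P (CotT.canon A B) M).surjective x
    rw [← map_smul]
    obtain ⟨f, rfl⟩ := CotTLib.homToT1_surjective y
    rw [← map_smul, show CotT.homToT1 P M (algebraMap A B c ^ N • f) = 0 from ?_, map_zero]
    rw [← LinearMap.mem_ker, CotTLib.ker_homToT1]
    let s' : Fin n → P.toExtension.ker := fun i => ⟨s i, (hmem _).2 (hs i)⟩
    refine ⟨P.cotangentSpaceBasis.constr B fun i => f (Algebra.Extension.Cotangent.mk (s' i)), LinearMap.ext fun y => ?_⟩
    obtain ⟨x, rfl⟩ := Algebra.Extension.Cotangent.mk_surjective y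
    change (P.cotangentSpaceBasis.constr B fun i => f (Algebra.Extension.Cotangent.mk (s' i)))
      (1 ⊗ₜ KaehlerDifferential.D A P.toExtension.Ring x.1) = _
    rw [hrepr]
    simp only [Module.Basis.constr_basis]
    rw [LinearMap.smul_apply, ← map_smul, ← (hlin N s').1 hsf x, map_sum]
    exact Finset.sum_congr rfl fun i _ => (map_smul f _ _).symm
  · rintro ⟨N, hN⟩ q hq
    have : IsNoetherianRing P.toExtension.Ring := inferInstanceAs (IsNoetherianRing (MvPolynomial (Fin n) A))
    have : Module.Finite P.toExtension.Ring P.toExtension.ker := Module.Finite.iff_fg.2 (IsNoetherian.noetherian _)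
    have : Module.Finite P.toExtension.Ring P.toExtension.Cotangent :=
      Module.Finite.of_surjective _ Algebra.Extension.Cotangent.mk_surjective
    have : Module.Finite B P.toExtension.Cotangent := Module.Finite.of_restrictScalars_finite P.toExtension.Ring B _
    have h0 := hN P.toExtension.Cotangent (CotTLib.T1equiv P (CotT.canon A B) _ (CotT.homToT1 P _ LinearMap.id))
    rw [← map_smul, LinearEquiv.map_eq_zero_iff, ← map_smul, ← LinearMap.mem_ker, CotTLib.ker_homToT1] at h0
    obtain ⟨ψ, hψ⟩ := h0
    choose s hs using fun i => Algebra.Extension.Cotangent.mk_surjective (ψ (P.cotangentSpaceBasis i))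
    have hsplit : Split (A := A) c φ N := ⟨fun i => (s i).1, fun i => (hmem _).1 (s i).2, (hlin N s).2 fun x => by
      simp only [hs]
      rw [← hrepr]
      exact LinearMap.congr_fun hψ (Algebra.Extension.Cotangent.mk x)⟩
    exact Algebra.basicOpen_subset_smoothLocus_iff.2 (formallySmooth_away_of_split φ hφ c N hsplit) hq

end Groth.Agent.RigidSing

end

namespace Groth.Agent.S12305

/-- Let k be an algebraically closed field, A a finitely generated k-algebra which is a domain, smooth
over k and of Krull dimension one (the coordinate ring of a nonsingular affine curve T), t ∈ A an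
element generating a maximal ideal (a point 0 of T), and B a finitely generated flat A-algebra (an
affine flat family X = Spec B over T). Then the following are equivalent: (i) B is smooth over A at
every prime of B not containing t, that is, every fibre of X over a point of T other than 0 is
smooth; (ii) there is an integer n₀ such that t^(n₀) annihilates the cotangent module T¹(B/A, M),
computed from the choice-free presentation of B over A, for every finitely generated B-module M. -/
theorem result
    {k : Type u} [Field k] [IsAlgClosed k] (A B : Type u) [CommRing A] [CommRing B] [IsDomain A]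
    [Algebra k A] [Algebra.FiniteType k A] [Algebra.Smooth k A] (hdim : ringKrullDim A = 1)
    (t : A) (ht : (Ideal.span {t}).IsMaximal)
    [Algebra A B] [Algebra.FiniteType A B] [Module.Flat A B] :
    (∀ q : PrimeSpectrum B, algebraMap A B t ∉ q.asIdeal → q ∈ Algebra.smoothLocus A B) ↔
    ∃ n₀ : ℕ, ∀ (M : Type u) [AddCommGroup M] [Module B M] [Module.Finite B M],
      ∀ x : CotT.T1 (CotT.canon A B) M, (algebraMap A B t) ^ n₀ • x = 0 := by
  have : IsNoetherianRing A := Algebra.FiniteType.isNoetherianRing k A
  exact RigidSing.smooth_iff_killed t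

end Groth.Agent.S12305
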