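import Groth.Statements.S12306
import Groth.Agent.RigidSing.Rigid
import Groth.Agent.RigidSing.Split
import Mathlib.RingTheory.Smooth.Locus
import Mathlib.RingTheory.Jacobson.Ring
import Mathlib.RingTheory.KrullDimension.Field


set_option autoImplicit false
universe u
open CotT

noncomputable section

namespace Groth.Agent.RigidSing

open MvPolynomial Groth.Agent.RigidSing in
theorem main {k : Type u} [Field k] [IsAlgClosed k] (B₀ : Type u) [CommRing B₀] [Algebra k B₀] [Algebra.FiniteType k B₀]
    (hsing : ¬ Algebra.Smooth k B₀) (hrigid : Subsingleton (CotT.T1 (CotT.canon k B₀) B₀))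
    (A B : Type u) [CommRing A] [CommRing B] [IsDomain A] [Algebra k A] [Algebra.FiniteType k A]
    (hdim : ringKrullDim A = 1) (t : A) (ht : (Ideal.span {t}).IsMaximal)
    [Algebra A B] [Algebra.FiniteType A B] [Module.Flat A B] [Algebra k B] [IsScalarTower k A B]
    (e : (B ⧸ Ideal.span {algebraMap A B t}) ≃ₐ[k] B₀) :
    ∃ q : PrimeSpectrum B, algebraMap A B t ∉ q.asIdeal ∧ q ∉ Algebra.smoothLocus A B := by
  have : IsNoetherianRing A := Algebra.FiniteType.isNoetherianRing k A
  have htA0 : t ≠ 0 := by
    rintro rfl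
    have hbot : (⊥ : Ideal A).IsMaximal := by simpa using ht
    have hF : IsField A := not_imp_comm.1 Ring.not_isField_iff_exists_ideal_bot_lt_and_lt_top.1
      fun ⟨I, h1, h2⟩ => h1.ne (hbot.eq_of_le h2.ne bot_le)
    rw [ringKrullDim_eq_zero_of_isField hF] at hdim
    exact zero_ne_one hdim
  have htA : Function.Injective fun x : A => t * x := mul_right_injective₀ htA0
  have hBt : ∀ b : B, algebraMap A B t * b = 0 → b = 0 := fun b hb =>
    (IsSMulRegular.of_flat (S := B) (x := t) htA) (by simpa using hb)
  -- the residue field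
  have hbij : Function.Bijective (algebraMap k (A ⧸ Ideal.span {t})) := by
    let := Ideal.Quotient.field (Ideal.span {t})
    have : Module.Finite k (A ⧸ Ideal.span {t}) := finite_of_finite_type_of_isJacobsonRing k _
    exact IsAlgClosed.algebraMap_bijective_of_isIntegral
  let eq0 : k ≃ₐ[k] A ⧸ Ideal.span {t} := AlgEquiv.ofBijective (Algebra.ofId k _) hbij
  let ε : A →ₐ[k] k := eq0.symm.toAlgHom.comp (Ideal.Quotient.mkₐ k _)
  have hεt : RingHom.ker ε.toRingHom = Ideal.span {t} := by
    ext a
    rw [RingHom.mem_ker]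
    change eq0.symm (Ideal.Quotient.mk _ a) = 0 ↔ _
    rw [map_eq_zero_iff _ eq0.symm.injective, Ideal.Quotient.eq_zero_iff_mem]
  have hεmem : ∀ a, a - algebraMap k A (ε a) ∈ Ideal.span {t} := fun a => by
    rw [← hεt, RingHom.mem_ker]
    change ε (a - algebraMap k A (ε a)) = 0
    rw [map_sub, AlgHom.commutes]; exact sub_self _
  -- coordinates
  obtain ⟨n, φ, hφ⟩ := Algebra.FiniteType.iff_quotient_mvPolynomial''.1 ‹Algebra.FiniteType A B›
  let π : B →+* B₀ := e.toRingEquiv.toRingHom.comp (Ideal.Quotient.mk _)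
  have hπs : Function.Surjective π := e.surjective.comp Ideal.Quotient.mk_surjective
  have hkerπ : RingHom.ker π = Ideal.span {algebraMap A B t} := by
    ext b
    rw [RingHom.mem_ker]
    change e (Ideal.Quotient.mk _ b) = 0 ↔ _
    rw [map_eq_zero_iff _ e.injective, Ideal.Quotient.eq_zero_iff_mem]
  have hπA : ∀ a, π (algebraMap A B a) = algebraMap k B₀ (ε a) := fun a => by
    change e (Ideal.Quotient.mk _ (algebraMap A B a)) = _
    have h : algebraMap A B a - algebraMap k B (ε a) ∈ Ideal.span {algebraMap A B t} := by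
      have h1 := Ideal.mem_map_of_mem (algebraMap A B) (hεmem a)
      rwa [Ideal.map_span, Set.image_singleton, map_sub, ← IsScalarTower.algebraMap_apply] at h1
    rw [Ideal.Quotient.eq.2 h]
    exact e.commutes _
  let φ₀ : MvPolynomial (Fin n) k →ₐ[k] B₀ := aeval fun i => π (φ (X i))
  have hπ : ∀ p, π (φ p) = φ₀ (red ε p) := by
    intro p
    change (π.comp φ.toRingHom) p = (φ₀.toRingHom.comp (red ε)) p
    congr 1
    refine MvPolynomial.ringHom_ext (fun a => ?_) fun i => ?_
    · change π (φ (C a)) = φ₀ (red ε (C a))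
      rw [map_C, ← algebraMap_eq, AlgHom.commutes, hπA]
      exact (φ₀.commutes _).symm
    · change π (φ (X i)) = φ₀ (red ε (X i))
      rw [map_X, aeval_X]
  have hφ₀ : Function.Surjective φ₀ := fun b => by
    obtain ⟨y, rfl⟩ := hπs b
    obtain ⟨p, rfl⟩ := hφ y
    exact ⟨red ε p, (hπ p).symm⟩
  by_contra hcon
  have : Algebra.FinitePresentation A B := Algebra.FinitePresentation.of_finiteType.1 inferInstance
  have hsub : ↑(PrimeSpectrum.basicOpen (algebraMap A B t)) ⊆ Algebra.smoothLocus A B := fun q hq =>
    by_contra fun h => hcon ⟨q, hq, h⟩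
  obtain ⟨N, hsplit⟩ := exists_split φ hφ t (Algebra.basicOpen_subset_smoothLocus_iff.1 hsub)
  -- a functional
  obtain ⟨f, hf, hf'⟩ := Submodule.exists_dual_map_eq_bot_of_notMem
    (p := (Ideal.span {t ^ (N + 1)}).restrictScalars k) (x := t ^ N) (by
      rw [Submodule.restrictScalars_mem, Ideal.mem_span_singleton]
      rintro ⟨c, hc⟩
      rw [pow_succ, mul_assoc] at hc
      have h1 : t * c = 1 := (mul_right_injective₀ (pow_ne_zero N htA0) (by simpa using hc.symm))
      exact ht.ne_top (Ideal.eq_top_of_isUnit_mem _ (Ideal.mem_span_singleton_self t) (IsUnit.of_mul_eq_one c h1)))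
    inferInstance
  obtain ⟨u, hu0, hu⟩ := exists_retraction t ε φ φ₀ π hεt hπ hkerπ hφ hBt htA
    (rigid_of_subsingleton_T1 φ₀ hφ₀ hrigid) ((f (t ^ N))⁻¹ • f) N
    (by simp [inv_mul_cancel₀ hf]) (fun a => by
      have h : f (t ^ (N + 1) * a) = 0 := by
        rw [← Submodule.mem_bot k, ← hf']
        exact Submodule.mem_map_of_mem (Ideal.mul_mem_right _ _ (Ideal.mem_span_singleton_self _))
      simp [h]) hsplit
  refine hsing ?_
  have hFP : Algebra.FinitePresentation k B₀ := Algebra.FinitePresentation.of_finiteType.1 inferInstance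
  suffices hFS : Algebra.FormallySmooth k B₀ from ⟨hFS, hFP⟩
  rw [Algebra.FormallySmooth.iff_split_surjection φ₀ hφ₀]
  let J := RingHom.ker φ₀.toRingHom
  let Q₀ := MvPolynomial (Fin n) k ⧸ J ^ 2
  let ψ : MvPolynomial (Fin n) k →ₐ[k] Q₀ := (Ideal.Quotient.mkₐ k (J ^ 2)).comp (aeval fun i => X i + -u i)
  have hJ : ∀ p, φ₀ p = 0 → ψ p = 0 := by
    intro p hp
    have h1 := aeval_add_sub_mem X (fun i => -u i) (J * J)
      (fun i j => Ideal.mul_mem_mul (neg_mem (hu0 i)) (neg_mem (hu0 j))) p
    have h2 : diff u p - p ∈ J * J := hu p hp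
    refine Ideal.Quotient.eq_zero_iff_mem.2 ?_
    rw [pow_two]
    convert sub_mem h1 h2 using 1
    simp only [diff, aeval_X_left_apply, mul_neg, Finset.sum_neg_distrib]
    abel
  refine ⟨AlgHom.liftOfSurjective φ₀ hφ₀ ψ fun p hp => hJ p hp, AlgHom.ext fun b => ?_⟩
  obtain ⟨p, rfl⟩ := hφ₀ b
  rw [AlgHom.comp_apply, AlgHom.liftOfSurjective_apply]
  change φ₀ (aeval (fun i => X i + -u i) p) = φ₀ p
  rw [← AlgHom.comp_apply]
  congr 1
  refine MvPolynomial.algHom_ext fun i => ?_
  rw [AlgHom.comp_apply, aeval_X, map_add, map_neg, hu0, neg_zero, add_zero]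

end Groth.Agent.RigidSing

end

namespace Groth.Agent.S12306

/-- Let k be an algebraically closed field and B₀ a finitely generated k-algebra which is not smooth
over k and is rigid, in the sense that the cotangent module T¹(B₀/k, B₀) (from the choice-free
presentation) vanishes. Let A be a finitely generated k-algebra which is a domain, smooth over k of
Krull dimension one, t ∈ A an element generating a maximal ideal, and B a finitely generated flat
A-algebra, a k-algebra compatibly with A, whose fibre B/tB is k-isomorphic to B₀. Then this family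
does not smooth Spec B₀: there is a prime of B not containing t at which B is not smooth over A.
(The published statement asserts that a singular rigid scheme admits no smoothing by any flat
family; this row states it for flat families with affine total space over an affine nonsingular
curve whose point is cut out by one equation.) -/
theorem result
    {k : Type u} [Field k] [IsAlgClosed k] (B₀ : Type u) [CommRing B₀] [Algebra k B₀] [Algebra.FiniteType k B₀]
    (hsing : ¬ Algebra.Smooth k B₀) (hrigid : Subsingleton (CotT.T1 (CotT.canon k B₀) B₀))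
    (A B : Type u) [CommRing A] [CommRing B] [IsDomain A] [Algebra k A] [Algebra.FiniteType k A]
    [Algebra.Smooth k A] (hdim : ringKrullDim A = 1) (t : A) (ht : (Ideal.span {t}).IsMaximal)
    [Algebra A B] [Algebra.FiniteType A B] [Module.Flat A B] [Algebra k B] [IsScalarTower k A B]
    (e : (B ⧸ Ideal.span {algebraMap A B t}) ≃ₐ[k] B₀) :
    ∃ q : PrimeSpectrum B, algebraMap A B t ∉ q.asIdeal ∧ q ∉ Algebra.smoothLocus A B := by
  exact RigidSing.main B₀ hsing hrigid A B hdim t ht e

end Groth.Agent.S12306
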