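import Groth.Statements.S12314
-- import your own Groth.Agent.* helpers here

set_option autoImplicit false
universe u
open CategoryTheory CategoryTheory.Limits AlgebraicGeometry MonObj
open SGA7

namespace Groth.Agent.S12314

/-- Let R be a henselian discrete valuation ring with fraction field K and residue field k, Ω a
separable closure of K, W a valuation subring of Ω lying over R, A and C abelian varieties over K
(proper, geometrically integral commutative group schemes), and u : C → A an isogeny, in the form: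
there are a homomorphism v : A → C and an integer n > 0 with v ∘ u = n and u ∘ v = n. Let ℓ be a
prime invertible in k and consider the ℓ-adic Tate modules of the Ω-points of C and A; call an
element fixed when all its components are fixed by the inertia group at W (for such ℓ the fixed part
is the inertia invariants). Then T_ℓ(u) maps the fixed part of T_ℓ(C) into the fixed part of T_ℓ(A)
and induces an isogeny between them: T_ℓ(u) is injective, and n times every fixed element of T_ℓ(A)
is the image of a fixed element of T_ℓ(C). (The case of a prime equal to the residue characteristic,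
where the fixed part is defined through the Néron model, is not stated.) -/
theorem result (R K Ω : Type u) [CommRing R] [IsDomain R] [IsDiscreteValuationRing R] [HenselianLocalRing R]
    [Field K] [Algebra R K] [IsFractionRing R K] [Field Ω] [Algebra K Ω] [IsSepClosure K Ω]
    (W : ValuationSubring Ω) (hW : SGA7.LiesOver K R W)
    (A C : Over (Spec (CommRingCat.of K))) [GrpObj A] [IsCommMonObj A] [IsProper A.hom] [GeometricallyIntegral A.hom]
    [GrpObj C] [IsCommMonObj C] [IsProper C.hom] [GeometricallyIntegral C.hom]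
    (u : C ⟶ A) [IsMonHom u] (v : A ⟶ C) [IsMonHom v] (n : ℕ) (hn : 0 < n)
    (huv : u ≫ v = (𝟙 C) ^ n) (hvu : v ≫ u = (𝟙 A) ^ n)
    (l : ℕ) (hl : l.Prime) (hlp : (l : IsLocalRing.ResidueField R) ≠ 0) :
    (∀ z : AbDual.TateMod C l (SGA7.pt Ω),
      (∀ (τ : Ω ≃ₐ[K] Ω) (m : ℕ), SGA7.IsInertia W τ →
        SGA7.galAct τ (AbDual.TateMod.component C l (SGA7.pt Ω) m z).toMul =
          (AbDual.TateMod.component C l (SGA7.pt Ω) m z).toMul) →
      (∀ (τ : Ω ≃ₐ[K] Ω) (m : ℕ), SGA7.IsInertia W τ →
        SGA7.galAct τ (AbDual.TateMod.component A l (SGA7.pt Ω) m (AbDual.tateMap u z)).toMul =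
          (AbDual.TateMod.component A l (SGA7.pt Ω) m (AbDual.tateMap u z)).toMul)) ∧
    (∀ z : AbDual.TateMod C l (SGA7.pt Ω), AbDual.tateMap (l := l) (T := SGA7.pt Ω) u z = 0 → z = 0) ∧
    (∀ y : AbDual.TateMod A l (SGA7.pt Ω),
      (∀ (τ : Ω ≃ₐ[K] Ω) (m : ℕ), SGA7.IsInertia W τ →
        SGA7.galAct τ (AbDual.TateMod.component A l (SGA7.pt Ω) m y).toMul =
          (AbDual.TateMod.component A l (SGA7.pt Ω) m y).toMul) →
      ∃ z : AbDual.TateMod C l (SGA7.pt Ω),
        (∀ (τ : Ω ≃ₐ[K] Ω) (m : ℕ), SGA7.IsInertia W τ →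
        SGA7.galAct τ (AbDual.TateMod.component C l (SGA7.pt Ω) m z).toMul =
          (AbDual.TateMod.component C l (SGA7.pt Ω) m z).toMul) ∧
        AbDual.tateMap (l := l) (T := SGA7.pt Ω) u z = n • y) := by
  haveI : Fact l.Prime := ⟨hl⟩
  have hcomp : ∀ {X Y : Over (Spec (CommRingCat.of K))} (f : X ⟶ Y) (τ : Ω ≃ₐ[K] Ω) (x : SGA7.Pts Ω X),
      SGA7.galAct τ (x ≫ f) = SGA7.galAct τ x ≫ f := fun f τ x => (Category.assoc _ _ _).symm
  have hpw : ∀ (B : Over (Spec (CommRingCat.of K))) [GrpObj B] (x : SGA7.Pts Ω B), x ≫ (𝟙 B) ^ n = x ^ n :=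
    fun B _ x => by rw [MonObj.comp_pow, Category.comp_id]
  refine ⟨fun z hz τ m hτ => ?_, fun z hz => ?_, fun y hy => ?_⟩
  · rw [AbDual.tateMap_component, hcomp, hz τ m hτ]
  · have h1 : ∀ m, n • AbDual.TateMod.component C l (SGA7.pt Ω) m z = 0 := fun m => by
      have h := congrArg (fun w => ((AbDual.TateMod.component A l (SGA7.pt Ω) m w).toMul ≫ v)) hz
      simp only [AbDual.tateMap_component, Category.assoc, huv, hpw, map_zero] at h
      exact Additive.toMul.injective (h.trans (MonObj.one_comp v))
    obtain ⟨a, n', hn', rfl⟩ := Nat.exists_eq_pow_mul_and_not_dvd hn.ne' l hl.ne_one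
    refine AbDual.TateMod.ext fun m => ?_
    have h2 : ∀ j, (AbDual.TateMod.component C l (SGA7.pt Ω) m z) =
        l ^ j • AbDual.TateMod.component C l (SGA7.pt Ω) (m + j) z := fun j => by
      induction j with
      | zero => simp
      | succ j ih => rw [ih, pow_succ, mul_nsmul', ← Nat.add_assoc]; congr 1; exact (z.compat _).symm
    have h3 : n' • AbDual.TateMod.component C l (SGA7.pt Ω) m z = 0 := by
      rw [h2 a, ← mul_nsmul', mul_comm]; exact h1 _
    have h4 : l ^ m • AbDual.TateMod.component C l (SGA7.pt Ω) m z = 0 := z.torsion m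
    have h5 : Nat.Coprime n' (l ^ m) := (((hl.coprime_iff_not_dvd).mpr hn').symm).pow_right m
    exact AddMonoid.addOrderOf_eq_one_iff.mp (Nat.dvd_one.mp (h5 ▸ Nat.dvd_gcd
      (addOrderOf_dvd_of_nsmul_eq_zero h3) (addOrderOf_dvd_of_nsmul_eq_zero h4)))
  · refine ⟨AbDual.tateMap v y, fun τ m hτ => by rw [AbDual.tateMap_component, hcomp, hy τ m hτ], ?_⟩
    refine AbDual.TateMod.ext fun m => Additive.toMul.injective ?_
    change ((AbDual.TateMod.component A l (SGA7.pt Ω) m y).toMul ≫ v) ≫ u =
      (AbDual.TateMod.component A l (SGA7.pt Ω) m (n • y)).toMul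
    rw [Category.assoc, hvu, hpw, map_nsmul, toMul_nsmul]

end Groth.Agent.S12314
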