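import Groth.Statements.S12316
import Groth.Agent.ArtHull.General
-- import your own Groth.Agent.* helpers here

set_option autoImplicit false
universe u v
open CategoryTheory
open SGA7

namespace Groth.Agent.S12316

/-- Suppose Λ is a Noetherian local ring, complete for its maximal ideal, whose residue field is k (so Λ
→ k is surjective), and work with functors defined on the category of local Artinian Λ-algebras
having residue field k. Take morphisms φ : F → G and ψ : G → H of such functors. Assume that each of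
F(k), G(k), H(k) consists of a single point; that for G the comparison map on fibre products A₁ ×_A
A₂ is surjective as soon as A₂ → A is surjective, and is bijective for products of the form A' ×_k
k[ε]; that for H the comparison map is bijective on every fibre product A₁ ×_A A₂ with A₂ → A
surjective; and that the induced map on tangent spaces G(k[ε]) → H(k[ε]) coming from ψ is injective.
Under these assumptions, φ ≫ ψ is smooth if and only if both φ and ψ are smooth. (The published
statement is for functors of cofibred groupoids with G semi-homogeneous and H homogeneous; this row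
is the case of set-valued functors.) -/
theorem result (Λ k : Type u) [CommRing Λ] [IsLocalRing Λ] [IsNoetherianRing Λ]
    [IsAdicComplete (IsLocalRing.maximalIdeal Λ) Λ] [Field k] [Algebra Λ k]
    (hk : Function.Surjective (algebraMap Λ k))
    {F G H : ArtFun.Art Λ k ⥤ Type v} (φ : F ⟶ G) (ψ : G ⟶ H)
    (hF : ArtFun.H0 F) (hG : ArtFun.H0 G ∧ ArtFun.S1 G ∧ ArtFun.Heps G) (hH0 : ArtFun.H0 H)
    (hH : ∀ ⦃B A A' A'' : ArtFun.Art Λ k⦄ (p' : B ⟶ A') (p'' : B ⟶ A'') (f' : A' ⟶ A) (f'' : A'' ⟶ A)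
      (h : ArtFun.Art.IsFibreProd p' p'' f' f''), Function.Surjective f'' → Function.Bijective (ArtFun.cmp H h))
    (hψ : Function.Injective (ArtFun.TangentSpace.map ψ)) :
    ArtFun.IsSmooth (φ ≫ ψ) ↔ (ArtFun.IsSmooth φ ∧ ArtFun.IsSmooth ψ) := by
  haveI : Module.Finite Λ k := Module.Finite.of_surjective (Algebra.linearMap Λ k) hk
  have hHsq : ArtFun.HSq H := fun _ _ _ p₁ p₂ f h hf => hH p₁ p₂ f f h hf.1
  have hGbar : ArtFun.Hbar G := fun _ _ _ _ p' p'' f' f'' h hf => hG.2.1 p' p'' f' f'' h hf.1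
  constructor
  · intro h
    have hφ : ArtFun.IsSmooth φ := ArtHull.isSmooth_of_small φ fun B A μ hμ ⟨⟨x, y⟩, w⟩ => by
      obtain ⟨z, hz₁, hz₂⟩ := ArtHull.exists_of_relCmp_surjective (h μ hμ.1) x (ψ.app B y) (by
        refine (congrArg (ψ.app A) w).trans ?_
        exact NatTrans.naturality_apply ψ μ y)
      refine ⟨z, Subtype.ext (Prod.ext hz₁ ?_)⟩
      refine ArtHull.eq_of_lifts_small ψ hH0.2 hG.1.2 hHsq hGbar hG.2.2 hψ μ hμ (φ.app B z) y ?_ hz₂
      rw [← NatTrans.naturality_apply φ μ z, hz₁]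
      exact w
    refine ⟨hφ, fun B A μ hμ ⟨⟨g, y⟩, w⟩ => ?_⟩
    obtain ⟨⟨x₀⟩⟩ := hF
    obtain ⟨x, -, hx⟩ := ArtHull.exists_of_relCmp_surjective (hφ (ArtFun.Art.toBase A) (ArtHull.toBase_surjective A))
      x₀ g (Subsingleton.elim (h := hG.1.2) _ _)
    obtain ⟨z, hz₁, hz₂⟩ := ArtHull.exists_of_relCmp_surjective (h μ hμ) x y (by
      refine Eq.trans ?_ w
      exact congrArg (ψ.app A) hx)
    refine ⟨φ.app B z, Subtype.ext (Prod.ext ?_ hz₂)⟩
    exact ((NatTrans.naturality_apply φ μ z).symm.trans (congrArg (φ.app A) hz₁)).trans hx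
  · rintro ⟨h₁, h₂⟩ B A μ hμ ⟨⟨x, y⟩, w⟩
    obtain ⟨g, hg₁, hg₂⟩ := ArtHull.exists_of_relCmp_surjective (h₂ μ hμ) (φ.app A x) y w
    obtain ⟨z, hz₁, hz₂⟩ := ArtHull.exists_of_relCmp_surjective (h₁ μ hμ) x g hg₁.symm
    exact ⟨z, Subtype.ext (Prod.ext hz₁ ((congrArg (ψ.app B) hz₂).trans hg₂))⟩

end Groth.Agent.S12316
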