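import Groth.Statements.S5721
import Groth.Agent.SymAlgRel.BundleImm
import Groth.Agent.SymAlgRel.ProjExist
import Groth.Agent.TensorMod.Invertible

set_option autoImplicit false
universe u
open CategoryTheory CategoryTheory.Limits AlgebraicGeometry TopologicalSpace Opposite
open scoped HomogeneousIdeal
open EGA2

namespace Groth.Agent.S5721

/-- Let f : X → Y be a quasi-compact morphism and L an invertible O_X-module. If L is very ample
relative to f (there are a quasi-coherent O_Y-module E and a Y-immersion i : X → P(E) into its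
projective bundle with L isomorphic to i^*O_{P(E)}(1)), then L is ample relative to f. -/
theorem result {X Y : Scheme.{u}} (f : X ⟶ Y) [QuasiCompact f] (L : X.Modules)
    (hL : PicF.IsInvertible L) (h : RelProj.IsRelVeryAmple f L) : RelAmple.IsRelAmple f L := by
  have hLq := TensorMod.isQCoh_of_isInvertible hL
  obtain ⟨𝒮L, jL, hjL⟩ := SymAlgRel.exists_isGrSymAlg L hLq
  obtain ⟨PL, pL, chartL, hPL⟩ := SymAlgRel.exists_isRelProj 𝒮L
  obtain ⟨E, hE, 𝒯, j, hj, P, p, chart, hP, u, σ, r, -, hr, htop, himm, -⟩ :=
    SymAlgRel.exists_of_isRelVeryAmple h hjL hLq hL hPL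
  haveI := himm
  exact SymAlgRel.isRelAmple_of_isEmbedding u hjL hLq hL hP hPL hr htop r.isEmbedding

end Groth.Agent.S5721
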