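import Groth.Statements.S5732
import Groth.Agent.SymAlgRel.BundleImm
import Groth.Agent.RelTildeEx.Basic

set_option autoImplicit false
universe u
open CategoryTheory CategoryTheory.Limits AlgebraicGeometry TopologicalSpace Opposite
open scoped HomogeneousIdeal
open EGA2

namespace Groth.Agent.S5732
open Groth.Agent.QCohBase Groth.Agent.GenLocus

/-- Let E be a quasi-coherent O_Y-module with graded symmetric algebra 𝒮 (j : E → 𝒮 landing in degree
one), p : P = P(E) → Y its projective bundle with its charts over affine opens, and O_P(1) the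
fundamental sheaf with its chart identifications. Let φ : E → p_*O_P(1) be the canonical map,
characterised as follows: for an affine open U and a section e of E over U, the section φ(e) of
O_P(1) over p⁻¹(U), read on the chart Proj(𝒮(U)), has value j(e)/1 at every point. Then the morphism
p^*E → O_P(1) adjoint to φ is an epimorphism. -/
theorem result {Y P : Scheme.{u}} (E : Y.Modules) (hE : Coh.IsQCoh E)
    (𝒮 : RelProj.QCGrAlg Y) (j : E ⟶ 𝒮.toModule) (hj : RelProj.IsGrSymAlg E 𝒮 j) (p : P ⟶ Y)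
    (chart : ∀ (U : Y.Opens) (hU : IsAffineOpen U), ((p ⁻¹ᵁ U : P.Opens) : Scheme.{u}) ≅ Proj (𝒮.deg U hU))
    (hP : RelProj.IsRelProj 𝒮 p chart) (O1 : P.Modules)
    (lam : ∀ (U : Y.Opens) (hU : IsAffineOpen U),
      O1 ⟶ (Scheme.Modules.pushforward (RelProj.emb p chart U hU)).obj (GrTwist.twist (𝒮.deg U hU) 1))
    (hO1 : RelProj.IsRelTwist 𝒮 p chart 1 O1 lam)
    (φ : E ⟶ (Scheme.Modules.pushforward p).obj O1)
    (hφ : ∀ (U : Y.Opens) (hU : IsAffineOpen U) (e : Γ(E, U))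
      (y : ↥(RelProj.emb p chart U hU ⁻¹ᵁ (p ⁻¹ᵁ U))),
      GrTwist.val (V := RelProj.emb p chart U hU ⁻¹ᵁ (p ⁻¹ᵁ U))
          ((lam U hU).app (p ⁻¹ᵁ U) ((φ.app U) e)) y =
        algebraMap (𝒮.presheaf.obj (op U)) (GrTwist.Loc (𝒮.deg U hU) y.1)
          ((j.app U) e : 𝒮.presheaf.obj (op U))) :
    Epi (((Scheme.Modules.pullbackPushforwardAdjunction p).homEquiv E O1).symm φ) := by
  let adj := Scheme.Modules.pullbackPushforwardAdjunction p
  have h2 := Adjunction.homEquiv_unit adj E O1 ((adj.homEquiv E O1).symm φ)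
  rw [Equiv.apply_symm_apply] at h2
  have htri : ∀ (U : Y.Opens) (e : Γ(E, U)),
      ((adj.homEquiv E O1).symm φ).app (p ⁻¹ᵁ U) (pullSec p E U e) = φ.app U e := fun U e =>
    (congr($(congrArg (fun f => Scheme.Modules.Hom.app f U) h2) e)).symm
  refine RelTildeEx.epi_of_local _ fun V s x => ?_
  obtain ⟨_, ⟨U, hU, rfl⟩, hxU, -⟩ :=
    Y.isBasis_affineOpens.exists_subset_of_mem_open (Set.mem_univ (p x.1)) isOpen_univ
  obtain ⟨w, hw⟩ : x.1 ∈ (RelProj.emb p chart U hU).opensRange := by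
    rw [EGA2Misc.opensRange_emb]
    exact hxU
  obtain ⟨e₀, he₀⟩ := SymAlgRel.exists_gen_notMem hE hj U hU w
  let W₀ := SymAlgRel.T₀ j chart U hU e₀
  have hWU : W₀ ≤ p ⁻¹ᵁ U := SymAlgRel.T₀_le U hU e₀
  have hfr : IsFrame O1 (mres O1 hWU (φ.app U e₀)) := SymAlgRel.isFrame_phi hj hO1 φ hφ U hU e₀
  obtain ⟨c, hc⟩ := (hfr (V ⊓ W₀) inf_le_right).2 (mres O1 inf_le_left s)
  refine ⟨V ⊓ W₀, inf_le_left, ⟨x.2, w, he₀, hw⟩,
    c • mres _ ((inf_le_right : V ⊓ W₀ ≤ W₀).trans hWU) (pullSec p E U e₀), ?_⟩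
  refine (Scheme.Modules.Hom.app_smul _ c _).trans ?_
  refine Eq.trans ?_ hc
  refine congrArg (c • ·) ?_
  refine ((app_mres _ ((inf_le_right : V ⊓ W₀ ≤ W₀).trans hWU) _).symm.trans
    (congrArg _ (htri U e₀))).trans ?_
  exact (mres_mres O1 hWU inf_le_right (φ.app U e₀)).symm

end Groth.Agent.S5732
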