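import Groth.Statements.S8262
import Groth.Agent.EGA2Misc.RelProjMap
-- import your own Groth.Agent.* helpers here

set_option autoImplicit false
universe u
open CategoryTheory CategoryTheory.Limits AlgebraicGeometry Opposite TopologicalSpace
open scoped HomogeneousIdeal
open EGA2

namespace Groth.Agent.S8262

/-- The morphism of relative homogeneous spectra induced by a graded homomorphism, in the case where it
is everywhere defined: let φ : 𝒜 → ℬ be a graded homomorphism of quasi-coherent positively graded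
O_Y-algebras such that over every affine open U the irrelevant ideal of ℬ(U) lies in the ideal
generated by the image of that of 𝒜(U) (a condition stronger than the published one, which only asks
that the induced rational map be everywhere defined). Then there is a unique morphism h : Proj(ℬ) →
Proj(𝒜) that over each affine open U of Y is, under the charts, the morphism Proj ℬ(U) → Proj 𝒜(U)
induced by φ(U); and such an h is a Y-morphism. -/
theorem result {Y PA PB : Scheme.{u}} {𝒜 ℬ : RelProj.QCGrAlg Y}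
    (φ : 𝒜.toQCAlg ⟶ ℬ.toQCAlg) (hφ : RelProj.IsGradedHom φ)
    (hirr : ∀ (U : Y.Opens) (hU : IsAffineOpen U),
      (ℬ.deg U hU)₊ ≤ ((𝒜.deg U hU)₊).map (RelProj.gradedHomAt φ hφ U hU))
    (pA : PA ⟶ Y) (pB : PB ⟶ Y)
    (chartA : ∀ (U : Y.Opens) (hU : IsAffineOpen U), (((pA ⁻¹ᵁ U : PA.Opens) : Scheme.{u}) ≅ Proj (𝒜.deg U hU)))
    (chartB : ∀ (U : Y.Opens) (hU : IsAffineOpen U), (((pB ⁻¹ᵁ U : PB.Opens) : Scheme.{u}) ≅ Proj (ℬ.deg U hU)))
    (hA : RelProj.IsRelProj 𝒜 pA chartA) (hB : RelProj.IsRelProj ℬ pB chartB) :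
    (∃! h : PB ⟶ PA, RelProj.IsRelProjMap φ hφ hirr chartA chartB h) ∧
      ∀ h : PB ⟶ PA, RelProj.IsRelProjMap φ hφ hirr chartA chartB h → h ≫ pA = pB := by
  let g : ∀ U : Y.affineOpens, ((pB ⁻¹ᵁ U.1 : PB.Opens) : Scheme.{u}) ⟶ PA := fun U =>
    (chartB U.1 U.2).hom ≫ Proj.map (RelProj.gradedHomAt φ hφ U.1 U.2) (hirr U.1 U.2) ≫
      (chartA U.1 U.2).inv ≫ (pA ⁻¹ᵁ U.1).ι
  have hres : ∀ (U : Y.Opens) (hU : IsAffineOpen U) (r : Γ(Y, U)),
      PB.homOfLE (pB.preimage_mono (Y.basicOpen_le r)) ≫ g ⟨U, hU⟩ = g ⟨Y.basicOpen r, hU.basicOpen r⟩ := by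
    intro U hU r
    simp only [g]
    rw [reassoc_of% (hB.chart_res U hU r)]
    congr 1
    have hA' : Proj.map (𝒜.res hU (hU.basicOpen r) (Y.basicOpen_le r)) (𝒜.irrelevant_le_map U hU r) ≫
        (chartA U hU).inv ≫ (pA ⁻¹ᵁ U).ι =
        (chartA (Y.basicOpen r) (hU.basicOpen r)).inv ≫ (pA ⁻¹ᵁ Y.basicOpen r).ι := by
      have h := congrArg (fun m => (chartA (Y.basicOpen r) (hU.basicOpen r)).inv ≫ m ≫ (chartA U hU).inv ≫
        (pA ⁻¹ᵁ U).ι) (hA.chart_res U hU r)
      simp only [Category.assoc, Iso.inv_hom_id_assoc, Iso.hom_inv_id_assoc, Scheme.homOfLE_ι] at h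
      exact h.symm
    rw [← hA', ← Category.assoc, ← Category.assoc (Proj.map (RelProj.gradedHomAt φ hφ (Y.basicOpen r) _) _),
      ← Proj.map_comp, ← Proj.map_comp]
    congr 2
    refine GradedRingHom.ext fun x => ?_
    exact (congr($(φ.hom.naturality (homOfLE (Y.basicOpen_le r)).op) x)).symm
  obtain ⟨h, hh, hu⟩ := EGA2Misc.exists_hom_of_agree (fun U : Y.affineOpens => pB ⁻¹ᵁ U.1)
    (EGA2Misc.iSup_preimage_affineOpens pB) g fun U V x hx => by
      obtain ⟨f, f', hff, hxf⟩ := exists_basicOpen_le_affine_inter U.2 V.2 (pB x) hx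
      refine ⟨pB ⁻¹ᵁ Y.basicOpen f, hxf, pB.preimage_mono (Y.basicOpen_le f),
        pB.preimage_mono (hff ▸ Y.basicOpen_le f'), ?_⟩
      rw [hres U.1 U.2 f]
      have key : ∀ (D : Y.Opens) (hD : IsAffineOpen D) (_ : D = Y.basicOpen f') (hle : pB ⁻¹ᵁ D ≤ pB ⁻¹ᵁ V.1),
          g ⟨D, hD⟩ = PB.homOfLE hle ≫ g V := by
        intro D hD e hle
        subst e
        exact (hres V.1 V.2 f').symm
      exact key _ _ hff _
  refine ⟨⟨h, fun U hU => hh ⟨U, hU⟩, fun h' hh' => hu h' fun U => hh' U.1 U.2⟩, fun h' hh' => ?_⟩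
  exact EGA2Misc.relProjMap_comp hA hB hh'

end Groth.Agent.S8262
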