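import Groth.Statements.S12473
import Groth.Agent.SymAlgRel.SegreComp
import Groth.Agent.ProjUPLib.RelVeryAmple

set_option autoImplicit false
universe u
open CategoryTheory CategoryTheory.Limits AlgebraicGeometry TopologicalSpace Opposite
open scoped HomogeneousIdeal
open EGA2

namespace Groth.Agent.S12473

/-- Let Z be a quasi-compact scheme, f : X → Y a morphism of finite type, g : Y → Z a quasi-compact
morphism, L an invertible O_X-module which is very ample relative to f and K an invertible
O_Y-module which is very ample relative to g (each isomorphic to the inverse image of O(1) along an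
immersion, over the base, into the projective bundle of a quasi-coherent module on the base). Then
there is an integer n₀ > 0 such that for every n ≥ n₀ the module L ⊗ f^*(K^{⊗n}) is very ample
relative to the composite X → Y → Z. -/
theorem result {X Y Z : Scheme.{u}} [CompactSpace Z] (f : X ⟶ Y)
    [QuasiCompact f] [LocallyOfFiniteType f] (g : Y ⟶ Z) [QuasiCompact g]
    (L : X.Modules) (hL : PicF.IsInvertible L) (hLva : RelProj.IsRelVeryAmple f L)
    (K : Y.Modules) (hK : PicF.IsInvertible K) (hKva : RelProj.IsRelVeryAmple g K) :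
    ∃ n₀ : ℕ, 0 < n₀ ∧ ∀ n : ℕ, n₀ ≤ n →
      RelProj.IsRelVeryAmple (f ≫ g)
        (CohB1.tensorMod L ((Scheme.Modules.pullback f).obj (CohB1.tensorPow K n))) := by
  classical
  haveI : CompactSpace Y := QuasiCompact.compactSpace_of_compactSpace g
  obtain ⟨t, ht⟩ := isCompact_univ.elim_finite_subcover (fun V : Z.affineOpens => (V.1 : Set Z)) (fun V => V.1.2)
    (fun y _ => by
      obtain ⟨_, ⟨V, hV, rfl⟩, hy, -⟩ := Z.isBasis_affineOpens.exists_subset_of_mem_open (Set.mem_univ y) isOpen_univ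
      exact Set.mem_iUnion.2 ⟨⟨V, hV⟩, hy⟩)
  have hcov : ⨆ V : t, V.1.1 = ⊤ := eq_top_iff.2 fun y _ => by
    obtain ⟨V, hV, hy⟩ := Set.mem_iUnion₂.1 (ht (Set.mem_univ y))
    exact TopologicalSpace.Opens.mem_iSup.2 ⟨⟨V, hV⟩, hy⟩
  have H : ∀ V : t, ∀ᶠ n in Filter.atTop, RelProj.IsRelVeryAmple ((f ≫ g) ∣_ V.1.1)
      ((CohB1.tensorMod L ((Scheme.Modules.pullback f).obj (CohB1.tensorPow K n))).restrict ((f ≫ g) ⁻¹ᵁ V.1.1).ι) := by
    intro V
    haveI : IsAffine (V.1.1 : Scheme.{u}) := V.1.2
    haveI : LocallyOfFiniteType (f ∣_ (g ⁻¹ᵁ V.1.1)) :=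
      MorphismProperty.of_isPullback (P := @LocallyOfFiniteType) (isPullback_morphismRestrict f _).flip ‹_›
    refine (SymAlgRel.eventually_isRelVeryAmple_comp_affine (f ∣_ (g ⁻¹ᵁ V.1.1)) (g ∣_ V.1.1)
      (TensorMod.isInvertible_restrict hL _) (SymAlgRel.isRelVeryAmple_restrict _ hLva)
      (TensorMod.isInvertible_restrict hK _) (SymAlgRel.isRelVeryAmple_restrict _ hKva)).mono fun n hn => ?_
    rw [morphismRestrict_comp]
    exact SymAlgRel.isRelVeryAmple_of_iso hn (TensorMod.tensorIso (Iso.refl _)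
      ((Scheme.Modules.pullback _).mapIso (TensorMod.restrictPowIso _ K n).symm ≪≫
        (TensorMod.pullbackRestrictIso f (g ⁻¹ᵁ V.1.1) (CohB1.tensorPow K n)).symm) ≪≫
      (TensorMod.restrictTensorIso _ _ _).symm)
  obtain ⟨n₀, hn₀⟩ := Filter.eventually_atTop.1 (Filter.eventually_all.2 H)
  exact ⟨n₀ + 1, Nat.succ_pos _, fun n hn => SymAlgRel.isRelVeryAmple_of_openCover
    (TensorMod.isInvertible_tensorMod hL (GenLocus.isInvertible_pullback f (TensorMod.isInvertible_tensorPow hK n)))
    (fun V : t => V.1.1) hcov (hn₀ n (by omega))⟩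

end Groth.Agent.S12473
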