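import Groth.Statements.S4414
import Groth.Agent.ProjUPLib.QProjAmple
-- import your own Groth.Agent.* helpers here

set_option autoImplicit false
set_option backward.isDefEq.respectTransparency false
set_option backward.isDefEq.respectTransparency.types false
universe u
open CategoryTheory CategoryTheory.Limits AlgebraicGeometry
open EGA2

namespace Groth.Agent.S4414

/-- Let Y be a quasi-compact separated scheme possessing an ample invertible O_Y-module, and f : X → Y a
morphism. Then f is quasi-projective (of finite type with some O_X-module ample relative to f) if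
and only if f is of finite type and there are r ≥ 0 and an immersion i of X into projective r-space
over Y with i followed by the projection equal to f. -/
theorem result {X Y : Scheme.{u}} [CompactSpace Y] [Y.IsSeparated]
    (hY : ∃ M : Y.Modules, CohB1.IsAmple M) (f : X ⟶ Y) :
    RelProj.IsQuasiProjective f ↔
      (LocallyOfFiniteType f ∧ QuasiCompact f ∧
        ∃ (r : ℕ) (i : X ⟶ CohB1.ProjSpaceOver r Y), IsImmersion i ∧ i ≫ CohB1.ProjSpaceOver.toBase r Y = f) := by
  obtain ⟨N, hN⟩ := hY
  constructor
  · rintro ⟨h1, h2, h⟩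
    obtain ⟨r, i, hi, -, hif⟩ := Groth.Agent.ProjUPLib.exists_immersion_of_ample f
      (Groth.Agent.ProjUPLib.exists_ample_of_relAmple ⟨N, hN⟩ f h)
    exact ⟨h1, h2, r, i, hi, hif⟩
  · rintro ⟨h1, h2, r, i, hi, hif⟩
    haveI := Groth.Agent.ProjUPLib.isProper_toBase.{u} r Y
    haveI : QuasiCompact (i ≫ pullback.snd (CohB1.ProjSpace.toSpec r (ULift.{u} ℤ)) (specULiftZIsTerminal.from Y)) := by
      rw [show i ≫ pullback.snd (CohB1.ProjSpace.toSpec r (ULift.{u} ℤ)) (specULiftZIsTerminal.from Y) = f from hif]
      exact h2
    haveI : QuasiCompact i := QuasiCompact.of_comp i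
      (pullback.snd (CohB1.ProjSpace.toSpec r (ULift.{u} ℤ)) (specULiftZIsTerminal.from Y))
    exact ⟨h1, h2, (Groth.Agent.ProjUPLib.of_immersion f i hif).2.2⟩

end Groth.Agent.S4414
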