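import Groth.Statements.S12486
import Groth.Agent.SymAlgRel.FTSubImm

set_option autoImplicit false
universe u
open CategoryTheory CategoryTheory.Limits AlgebraicGeometry TopologicalSpace Opposite
open scoped HomogeneousIdeal
open EGA2

namespace Groth.Agent.S12486

/-- Let Y be a scheme which is either quasi-compact and separated or has Noetherian underlying space, q
: X → Y a morphism of finite type and L an invertible O_X-module which is very ample relative to q.
Then the quasi-coherent module of the definition can be taken of finite type: there are a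
quasi-coherent O_Y-module E of finite type, its graded symmetric algebra 𝒯 with projective bundle p
: P(E) = Proj(𝒯) → Y (given with its charts over affine opens) and fundamental sheaf O(1) (given
with its chart identifications), and an immersion i : X → P(E) with i ≫ p = q and L isomorphic to
i^*O(1). (The published statement phrases this condition through the morphism to P(E) attached to an
epimorphism q^*E → L, and adds a variant in which E is a submodule of q_*L; those forms are not
stated here.) -/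
theorem result {X Y : Scheme.{u}}
    (hY : (CompactSpace Y ∧ Y.IsSeparated) ∨ TopologicalSpace.NoetherianSpace Y) (q : X ⟶ Y) [QuasiCompact q]
    [LocallyOfFiniteType q] (L : X.Modules) (hL : PicF.IsInvertible L) (h : RelProj.IsRelVeryAmple q L) :
    ∃ (E : Y.Modules) (𝒯 : RelProj.QCGrAlg Y) (j : E ⟶ 𝒯.toModule) (P : Scheme.{u}) (p : P ⟶ Y)
      (chart : ∀ (U : Y.Opens) (hU : IsAffineOpen U), ((p ⁻¹ᵁ U : P.Opens) : Scheme.{u}) ≅ Proj (𝒯.deg U hU))
      (O1 : P.Modules)
      (lam : ∀ (U : Y.Opens) (hU : IsAffineOpen U),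
        O1 ⟶ (Scheme.Modules.pushforward (RelProj.emb p chart U hU)).obj (GrTwist.twist (𝒯.deg U hU) 1))
      (i : X ⟶ P),
      Coh.IsQCoh E ∧ CohB1.IsFT E ∧ RelProj.IsGrSymAlg E 𝒯 j ∧ RelProj.IsRelProj 𝒯 p chart ∧
        RelProj.IsRelTwist 𝒯 p chart 1 O1 lam ∧ IsImmersion i ∧ i ≫ p = q ∧
        Nonempty (L ≅ (Scheme.Modules.pullback i).obj O1) := by
  obtain ⟨_, _⟩ := SymAlgRel.qcqs_of_or hY
  have hLq := TensorMod.isQCoh_of_isInvertible hL
  obtain ⟨𝒮L, jL, hjL⟩ := SymAlgRel.exists_isGrSymAlg L hLq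
  obtain ⟨PL, pL, chartL, hPL⟩ := SymAlgRel.exists_isRelProj 𝒮L
  obtain ⟨E, hE, hft, ι, hι, 𝒯, jE, hj, u, hu, hsurj, hgood⟩ :=
    SymAlgRel.exists_ft_sub_of_isRelVeryAmple hL hjL hPL h
  obtain ⟨P, p, chart, hP⟩ := SymAlgRel.exists_isRelProj 𝒯
  obtain ⟨r, hr, -⟩ := EGA2Misc.existsUnique_projQMapOn u hP hPL
  obtain ⟨htop, himm⟩ := SymAlgRel.isImmersion_of_forall u hjL hLq hL hP hPL hr hgood
  haveI := SymAlgRel.isIso_pL hjL hLq hPL hL
  haveI : IsIso (RelProj.domQ u pL chartL).ι := by rw [htop]; exact inferInstanceAs (IsIso PL.topIso.hom)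
  haveI := himm
  let τ := (RelProj.domQ u pL chartL).ι ≫ pL
  obtain ⟨O1, lam, hO1⟩ := SymAlgRel.exists_isRelTwist hP 1
  obtain ⟨e⟩ := SymAlgRel.nonempty_pullback_qmap_one u hjL hLq hL hP hPL hr hO1
    (SymAlgRel.grSymAlg_isGenDegOne hE hj)
  have hcomp : r ≫ p = (RelProj.domQ u pL chartL).ι ≫ pL ≫ q := EGA2Misc.projQMapOn_comp u hP hPL r hr
  refine ⟨E, 𝒯, jE, P, p, chart, O1, lam, inv τ ≫ r, hE, hft, hj, hP, hO1, inferInstance,
    by rw [Category.assoc, hcomp, IsIso.inv_comp_eq, Category.assoc], ⟨?_⟩⟩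
  exact ((Scheme.Modules.pullbackId X).app L).symm ≪≫
    (Scheme.Modules.pullbackCongr (IsIso.inv_hom_id τ).symm).app L ≪≫
    ((Scheme.Modules.pullbackComp (inv τ) τ).app L).symm ≪≫ (Scheme.Modules.pullback (inv τ)).mapIso e.symm ≪≫
    (Scheme.Modules.pullbackComp (inv τ) r).app O1

end Groth.Agent.S12486
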