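import Groth.Statements.S4419
import Groth.Agent.SymAlgRel.ProjModel
import Groth.Agent.S12484

set_option autoImplicit false
universe u
open CategoryTheory CategoryTheory.Limits AlgebraicGeometry
open EGA2

namespace Groth.Agent.S4419

/-- Let Y be a scheme which is either quasi-compact and separated or has a Noetherian underlying space,
and f : X → Y a morphism which is quasi-projective and proper. Then f is projective. -/
theorem result {X Y : Scheme.{u}}
    (hY : (CompactSpace Y ∧ Y.IsSeparated) ∨ TopologicalSpace.NoetherianSpace Y) (f : X ⟶ Y)
    (hq : RelProj.IsQuasiProjective f) [IsProper f] : RelProj.IsProjective f := by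
  obtain ⟨E, 𝒯, j, P, p, chart, i, hE, hft, hj, hP, hi, hc⟩ := S12484.result hY f hq
  haveI := hi
  haveI : QuasiCompact (i ≫ p) := by rw [hc]; infer_instance
  haveI : UniversallyClosed (i ≫ p) := by rw [hc]; infer_instance
  rw [← hc]
  exact SymAlgRel.isProjective_of_bundle hE hft hj hP i

end Groth.Agent.S4419
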