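import Groth.Statements.S12417


set_option autoImplicit false
universe u
open CategoryTheory AlgebraicGeometry
open Props

namespace Groth.Agent.S12417

/-- Let X be a quasi-compact quasi-separated scheme and P a property of opens of X such that (a) P holds
for every affine open, and (b) whenever a quasi-compact open U has a finite affine open covering U =
V_1 ∪ … ∪ V_n with P holding for every intersection V_i ∩ V_j, P holds for U. Then P holds for every
quasi-compact open of X. -/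
theorem result (X : Scheme.{u}) [CompactSpace X] [QuasiSeparatedSpace X]
    (P : X.Opens → Prop) (ha : ∀ U : X.Opens, IsAffineOpen U → P U)
    (hb : ∀ (U : X.Opens) (n : ℕ) (V : Fin n → X.Opens), IsCompact (U : Set X) →
      (∀ i, IsAffineOpen (V i)) → ⨆ i, V i = U → (∀ i j, P (V i ⊓ V j)) → P U)
    (U : X.Opens) (hU : IsCompact (U : Set X)) : P U := by
  have hQ : ∀ (W : X.Opens), IsAffineOpen W → ∀ U : X.Opens, U ≤ W → IsCompact (U : Set X) → P U := by
    intro W hW U hUW hUc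
    obtain ⟨n, s, hs, hsU⟩ : ∃ (n : ℕ) (s : Fin n → X.Opens),
        (∀ i, ∃ r : Γ(X, W), X.basicOpen r = s i) ∧ ⨆ i, s i = U := by
      obtain ⟨t, ht⟩ := hUc.elim_finite_subcover
        (fun r : {r : Γ(X, W) // X.basicOpen r ≤ U} ↦ (X.basicOpen r.1 : Set X))
        (fun r ↦ (X.basicOpen r.1).isOpen) (fun x hx ↦ by
          obtain ⟨r, hr, hxr⟩ := hW.exists_basicOpen_le (V := U) ⟨x, hx⟩ (hUW hx)
          exact Set.mem_iUnion.mpr ⟨⟨r, hr⟩, hxr⟩)
      refine ⟨t.card, fun i ↦ X.basicOpen (t.equivFin.symm i).1.1, fun i ↦ ⟨_, rfl⟩, le_antisymm ?_ ?_⟩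
      · exact iSup_le fun i ↦ (t.equivFin.symm i).1.2
      · intro x hx
        obtain ⟨r, hr, hxr⟩ := Set.mem_iUnion₂.mp (ht hx)
        exact TopologicalSpace.Opens.mem_iSup.mpr ⟨t.equivFin ⟨r, hr⟩, by simpa using hxr⟩
    refine hb U n s hUc (fun i ↦ ?_) hsU fun i j ↦ ?_
    · obtain ⟨r, hr⟩ := hs i
      exact hr ▸ hW.basicOpen r
    · obtain ⟨r, hr⟩ := hs i
      obtain ⟨r', hr'⟩ := hs j
      refine ha _ ?_
      rw [← hr, ← hr', ← Scheme.basicOpen_mul]
      exact hW.basicOpen _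
  obtain ⟨t, ht⟩ := hU.elim_finite_subcover
    (fun V : {V : X.Opens // IsAffineOpen V ∧ V ≤ U} ↦ (V.1 : Set X)) (fun V ↦ V.1.isOpen) (fun x hx ↦ by
      obtain ⟨_, ⟨V, hV, rfl⟩, hxV, hVU⟩ :=
        X.isBasis_affineOpens.exists_subset_of_mem_open hx U.isOpen
      exact Set.mem_iUnion.mpr ⟨⟨V, hV, hVU⟩, hxV⟩)
  refine hb U t.card (fun i ↦ (t.equivFin.symm i).1.1) hU (fun i ↦ (t.equivFin.symm i).1.2.1)
    (le_antisymm (iSup_le fun i ↦ (t.equivFin.symm i).1.2.2) fun x hx ↦ ?_) fun i j ↦ ?_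
  · obtain ⟨r, hr, hxr⟩ := Set.mem_iUnion₂.mp (ht hx)
    exact TopologicalSpace.Opens.mem_iSup.mpr ⟨t.equivFin ⟨r, hr⟩, by simpa using hxr⟩
  · exact hQ _ (t.equivFin.symm i).1.2.1 _ inf_le_left
      ((t.equivFin.symm i).1.2.1.isCompact.inter_of_isOpen (t.equivFin.symm j).1.2.1.isCompact
        (t.equivFin.symm i).1.1.isOpen (t.equivFin.symm j).1.1.isOpen)

end Groth.Agent.S12417
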