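import Groth.Statements.S12418
import Mathlib.RingTheory.Ideal.Colon

set_option autoImplicit false
universe u
open CAlg

namespace Groth.Agent.S12418

/-- Let R be a Noetherian ring and b ∈ R; for x outside the ideal (b) put I_x = ((b) : x), the ideal of
r with r x ∈ (b). If s ∉ (b) and I_s is maximal among the I_x (x ∉ (b)), then I_s is prime. -/
theorem result {R : Type u} [CommRing R] [IsNoetherianRing R]
    (b s : R) (hs : s ∉ Ideal.span {b})
    (hmax : ∀ x : R, x ∉ Ideal.span {b} →
      Submodule.colon (Ideal.span {b}) (Ideal.span {s}) ≤ Submodule.colon (Ideal.span {b}) (Ideal.span {x}) →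
      Submodule.colon (Ideal.span {b}) (Ideal.span {x}) = Submodule.colon (Ideal.span {b}) (Ideal.span {s})) :
    (Submodule.colon (Ideal.span {b}) (Ideal.span ({s} : Set R))).IsPrime := by
  have key : ∀ x r : R, r ∈ Submodule.colon (Ideal.span {b}) ((Ideal.span {x} : Ideal R) : Set R) ↔ r * x ∈ Ideal.span {b} := by
    intro x r
    rw [Submodule.mem_colon]
    refine ⟨fun h => h x (Ideal.mem_span_singleton_self x), fun h y hy => ?_⟩
    obtain ⟨c, rfl⟩ := Ideal.mem_span_singleton'.mp hy
    rw [smul_eq_mul, mul_left_comm]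
    exact Ideal.mul_mem_left _ _ h
  have key' : ∀ r : R, r ∈ Submodule.colon (Ideal.span {b}) (Ideal.span ({s} : Set R)) ↔ r * s ∈ Ideal.span {b} := key s
  constructor
  · intro h
    exact hs (by simpa using (key' 1).mp (h ▸ Submodule.mem_top))
  · intro x y hxy
    by_contra hc
    push Not at hc
    apply hc.1
    rw [key'] at hxy
    have h1 : y * s ∉ Ideal.span {b} := fun h => hc.2 ((key' y).mpr h)
    have := hmax (y * s) h1 (fun r hr => (key _ r).mpr (by rw [mul_left_comm]; exact Ideal.mul_mem_left _ _ ((key s r).mp hr)))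
    exact this ▸ (key _ x).mpr (by rwa [← mul_assoc])

end Groth.Agent.S12418
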