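import Groth.Statements.S12419
import Mathlib
import Groth.Agent.FlatFamily.Basic
import Groth.Agent.FlatFamily.Maximals
import Groth.Agent.FlatFree.Spread

set_option autoImplicit false
set_option linter.all false
universe u
open TensorProduct
open CAlg

namespace Groth.Agent.S12419

/-- A localization of a flat module is flat. -/
theorem flat_localized {R C : Type u} [CommRing R] [CommRing C] [Algebra R C] (P : Type u) [AddCommGroup P] [Module R P]
    [Module C P] [IsScalarTower R C P] [Module.Flat R P] (T : Submonoid C) : Module.Flat R (LocalizedModule T P) := by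
  rw [Groth.Agent.FlatFree.flat_localized_iff_torsion]
  intro X Y _ _ _ _ j hj z hz
  refine ⟨1, T.one_mem, ?_⟩
  rw [one_smul]
  exact Module.Flat.lTensor_preserves_injective_linearMap (M := P) j hj (hz.trans (map_zero _).symm)

/-- Let A → B be a local homomorphism of Noetherian local rings, m the maximal ideal of A, and φ : A →
A' a ring homomorphism to a semi-local Noetherian ring A' with Jacobson radical r', such that
φ⁻¹(r') = m and such that every power m^n contains φ⁻¹(r'^N) for some N. Then B is flat over A if
and only if A' ⊗_A B is flat over A'. (Given φ⁻¹(r') = m, the condition on powers says that the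
m-adic topology of A is induced by the r'-adic topology of A', equivalently that the induced
homomorphism of adic completions is injective, which is how the published statement phrases this
hypothesis.) -/
theorem result (A B A' : Type u) [CommRing A] [CommRing B]
    [CommRing A'] [IsNoetherianRing A] [IsLocalRing A] [IsNoetherianRing B] [IsLocalRing B]
    [Algebra A B] [IsLocalHom (algebraMap A B)] [IsNoetherianRing A'] [Finite (MaximalSpectrum A')]
    [Algebra A A']
    (hrad : (Ideal.jacobson (⊥ : Ideal A')).comap (algebraMap A A') = IsLocalRing.maximalIdeal A)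
    (htop : ∀ n : ℕ, ∃ N : ℕ,
      ((Ideal.jacobson (⊥ : Ideal A')) ^ N).comap (algebraMap A A') ≤ (IsLocalRing.maximalIdeal A) ^ n) :
    Module.Flat A B ↔ Module.Flat A' (A' ⊗[A] B) := by
  refine ⟨fun h => inferInstance, fun h => ?_⟩
  let q := IsLocalRing.maximalIdeal B
  have hq : q.comap (algebraMap A B) = IsLocalRing.maximalIdeal A :=
    ((IsLocalRing.local_hom_TFAE (algebraMap A B)).out 0 4).1 ‹IsLocalHom (algebraMap A B)›
  let ι := MaximalSpectrum A'
  let L : ι → Type u := fun M => Localization.AtPrime M.asIdeal
  letI : ∀ M : ι, CommRing (L M) := fun M => inferInstanceAs (CommRing (Localization.AtPrime M.asIdeal))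
  haveI : ∀ M : ι, IsLocalRing (L M) := fun M => inferInstanceAs (IsLocalRing (Localization.AtPrime M.asIdeal))
  letI : ∀ M : ι, Algebra A (L M) := fun M => inferInstanceAs (Algebra A (Localization.AtPrime M.asIdeal))
  letI : ∀ M : ι, Algebra A' (L M) := fun M => inferInstanceAs (Algebra A' (Localization.AtPrime M.asIdeal))
  haveI : ∀ M : ι, IsScalarTower A A' (L M) := fun M => inferInstanceAs (IsScalarTower A A' (Localization.AtPrime M.asIdeal))
  let B' : ι → Type u := fun M => L M ⊗[A] B
  letI : ∀ M : ι, Algebra B (L M ⊗[A] B) := fun M => Algebra.TensorProduct.rightAlgebra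
  haveI hmain : Module.Flat A (LocalizedModule q.primeCompl B) := by
    refine Groth.Agent.FlatFamily.flat_of_families (A := A) (B := B) (M := B) q hq L (fun M => L M ⊗[A] B)
      (fun N => ?_) fun M Q _ _ _ => ?_
    · refine Groth.Agent.FlatFamily.hsep_maximals (S := A') (fun n => ?_) N
      obtain ⟨K, hK⟩ := htop n
      refine ⟨Ideal.jacobson (⊥ : Ideal A') ^ (K + 1), fun M hM => (Ideal.pow_le_self (Nat.succ_ne_zero _)).trans
        (sInf_le ⟨bot_le, hM⟩), (Ideal.comap_mono (Ideal.pow_le_pow_right (Nat.le_succ K))).trans hK, K + 1, ?_⟩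
      refine Ideal.map_le_iff_le_comap.1 ?_
      rw [Ideal.map_pow]
      exact Ideal.pow_right_mono (Ideal.map_le_iff_le_comap.2 hrad.ge) _
    · haveI : Module.Flat (L M) (L M ⊗[A] B) :=
        Module.Flat.of_linearEquiv (TensorProduct.AlgebraTensorModule.cancelBaseChange A A' (L M) (L M) B).symm
      haveI : Module.Flat (L M) ((L M ⊗[A] B) ⊗[B] B) :=
        Module.Flat.of_linearEquiv
          ((TensorProduct.AlgebraTensorModule.rid B (L M ⊗[A] B) (L M ⊗[A] B)).restrictScalars (L M))
      exact flat_localized ((L M ⊗[A] B) ⊗[B] B) Q.primeCompl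
  refine Module.Flat.of_linearEquiv ((LinearEquiv.ofBijective (LocalizedModule.mkLinearMap q.primeCompl B) ?_).restrictScalars A)
  have hu : ∀ t : q.primeCompl, IsUnit (t : B) := fun t => (IsLocalRing.notMem_maximalIdeal).1 t.2
  refine ⟨(injective_iff_map_eq_zero _).2 fun b hb => ?_, fun z => ?_⟩
  · obtain ⟨t, ht⟩ := (IsLocalizedModule.eq_zero_iff q.primeCompl _).1 hb
    exact (hu t).mul_right_eq_zero.1 ht
  · induction z using LocalizedModule.induction_on with
    | h b t =>
      refine ⟨↑(hu t).unit⁻¹ * b, ?_⟩
      rw [LocalizedModule.mkLinearMap_apply, LocalizedModule.mk_eq]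
      refine ⟨1, ?_⟩
      simp only [one_smul]
      show (t : B) * (↑(hu t).unit⁻¹ * b) = b
      rw [← mul_assoc, IsUnit.mul_val_inv, one_mul]

end Groth.Agent.S12419
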