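import Groth.Statements.S12428
import Groth.Agent.GrpSch.FunPts
import Mathlib.GroupTheory.QuotientGroup.Basic

set_option autoImplicit false
set_option backward.isDefEq.respectTransparency.types false
universe u
open CategoryTheory MonoidalCategory CartesianMonoidalCategory MonObj GrpObj AlgebraicGeometry
open scoped TensorProduct
open AGF

namespace Groth.Agent.S12428

open GrpSch GrpSch.FunPts

section Abstract

variable {P R : Type*} [Group P] [CommRing R]

/-- `a` is invariant under right translation by `S`. -/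
def Inv (S : Subgroup P) (a : P → R) : Prop := ∀ x, ∀ s ∈ S, a (x * s) = a x

/-- `S` is the set of elements fixing all `S`-invariant functions in `A`. -/
def Obs (A : Subring (P → R)) (S : Subgroup P) : Prop :=
  ∀ g, (∀ a ∈ A, Inv S a → ∀ x, a (x * g) = a x) → g ∈ S

/-- The same for the restrictions to the subgroup `C`. -/
def ObsOn (A : Subring (P → R)) (S C : Subgroup P) : Prop :=
  ∀ g ∈ C, (∀ a ∈ A, (∀ x ∈ C, ∀ s ∈ S ⊓ C, a (x * s) = a x) → ∀ x ∈ C, a (x * g) = a x) → g ∈ S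

variable {A : Subring (P → R)} {S C : Subgroup P}

theorem obsOn_of_obs (hA : ∀ a ∈ A, ∀ p q : P, (fun x => a (p * x * q)) ∈ A) (h : Obs A S) :
    ObsOn A S C := by
  intro g _ hg
  refine h g fun f hf hinv x => ?_
  have := hg _ (hA f hf x 1)
    (fun y _ s hs => by simp only [_root_.mul_one]; rw [← _root_.mul_assoc]; exact hinv _ s hs.1) 1 (one_mem C)
  simpa using this

theorem obs_of_obsOn [Nontrivial R] [C.FiniteIndex]
    (hA : ∀ a ∈ A, ∀ p q : P, (fun x => a (p * x * q)) ∈ A) {e : P → R} (heA : e ∈ A)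
    (he1 : ∀ x ∈ C, e x = 1) (he0 : ∀ x ∉ C, e x = 0) (h : ObsOn A S C) : Obs A S := by
  classical
  intro g hg
  let : Fintype (P ⧸ C) := Fintype.ofFinite _
  let Q0 : Finset (P ⧸ C) := {q | ∃ s ∈ S, (QuotientGroup.mk s : P ⧸ C) = q}
  have hQ : ∀ q, q ∈ Q0 ↔ ∃ s ∈ S, (QuotientGroup.mk s : P ⧸ C) = q := fun q => by simp [Q0]
  let r : P ⧸ C → P := fun q => if h : ∃ s ∈ S, (QuotientGroup.mk s : P ⧸ C) = q then h.choose else 1
  have hr : ∀ q ∈ Q0, r q ∈ S ∧ (QuotientGroup.mk (r q) : P ⧸ C) = q := fun q hq => by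
    simp only [r, dif_pos ((hQ q).1 hq)]
    exact ((hQ q).1 hq).choose_spec
  let ext : (P → R) → P → R := fun a x => ∑ q ∈ Q0, e (x * r q) * a (x * r q)
  have hextA : ∀ a ∈ A, ext a ∈ A := fun a ha => by
    have hs : ext a = ∑ q ∈ Q0, (fun x => (e * a) (1 * x * r q)) := by
      funext x
      simp [ext, Finset.sum_apply]
    rw [hs]
    exact Subring.sum_mem A fun q _ => hA _ (mul_mem heA ha) 1 (r q)
  have hterm : ∀ a : P → R, (∀ x ∈ C, ∀ s ∈ S ⊓ C, a (x * s) = a x) → ∀ y, ∀ c ∈ S ⊓ C,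
      e (y * c) * a (y * c) = e y * a y := fun a ha y c hc => by
    by_cases hy : y ∈ C
    · rw [he1 _ hy, he1 _ (mul_mem hy hc.2), ha y hy c hc]
    · rw [he0 _ hy, he0 _ fun h' => hy ((Subgroup.mul_mem_cancel_right C hc.2).1 h'),
        zero_mul, zero_mul]
  have hinv : ∀ a : P → R, (∀ x ∈ C, ∀ s ∈ S ⊓ C, a (x * s) = a x) → Inv S (ext a) := by
    intro a ha x s hs
    refine Finset.sum_equiv (MulAction.toPerm s) (fun q => ?_) fun q hq => ?_
    · simp only [hQ, MulAction.toPerm_apply]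
      constructor
      · rintro ⟨t, ht, rfl⟩
        exact ⟨s * t, mul_mem hs ht, rfl⟩
      · rintro ⟨t, ht, htq⟩
        refine ⟨s⁻¹ * t, mul_mem (inv_mem hs) ht, ?_⟩
        change s⁻¹ • (QuotientGroup.mk t : P ⧸ C) = q
        rw [htq, inv_smul_smul]
    · obtain ⟨h1, h2⟩ := hr q hq
      have hq' : MulAction.toPerm s q ∈ Q0 := (hQ _).2 ⟨s * r q, mul_mem hs h1, by
        conv_rhs => rw [← h2]
        rfl⟩
      obtain ⟨h1', h2'⟩ := hr _ hq'
      have hc : (r (MulAction.toPerm s q))⁻¹ * (s * r q) ∈ S ⊓ C := by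
        refine Subgroup.mem_inf.2 ⟨mul_mem (inv_mem h1') (mul_mem hs h1), QuotientGroup.eq.1 ?_⟩
        rw [h2', MulAction.toPerm_apply]
        conv_lhs => rw [← h2]
        rfl
      have := hterm a ha (x * r (MulAction.toPerm s q)) _ hc
      rw [_root_.mul_assoc x, mul_inv_cancel_left, ← _root_.mul_assoc] at this
      exact this
  have hval : ∀ a : P → R, (∀ x ∈ C, ∀ s ∈ S ⊓ C, a (x * s) = a x) → ∀ c ∈ C, ext a c = a c := by
    intro a ha c hc
    have h1 : (QuotientGroup.mk 1 : P ⧸ C) ∈ Q0 := (hQ _).2 ⟨1, one_mem S, rfl⟩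
    obtain ⟨h2, h3⟩ := hr _ h1
    have h4 : r (QuotientGroup.mk 1) ∈ C := by simpa using QuotientGroup.eq.1 h3
    change ∑ q ∈ Q0, _ = _
    rw [Finset.sum_eq_single_of_mem _ h1 fun q hq hne => ?_]
    · rw [he1 _ (mul_mem hc h4), _root_.one_mul, ha c hc _ ⟨h2, h4⟩]
    · rw [he0 _ fun h5 => hne ?_, zero_mul]
      rw [← (hr q hq).2]
      exact QuotientGroup.eq.2 (by simpa using inv_mem ((Subgroup.mul_mem_cancel_left C hc).1 h5))
  have hfix : ∀ a ∈ A, (∀ x ∈ C, ∀ s ∈ S ⊓ C, a (x * s) = a x) → ∀ x, ext a (x * g) = ext a x :=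
    fun a ha ha' => hg _ (hextA a ha) (hinv a ha')
  obtain ⟨q, hq, hqC⟩ : ∃ q ∈ Q0, g * r q ∈ C := by
    by_contra! hno
    have h1 : ext 1 g = 0 := Finset.sum_eq_zero fun q hq => by rw [he0 _ (hno q hq), zero_mul]
    have h2 := hfix 1 (one_mem A) (fun _ _ _ _ => rfl) 1
    rw [_root_.one_mul, h1, hval 1 (fun _ _ _ _ => rfl) 1 (one_mem C)] at h2
    exact zero_ne_one h2
  obtain ⟨h1, -⟩ := hr q hq
  have hc : g * r q ∈ S := h _ hqC fun a ha ha' x hx => by
    rw [← hval a ha' (x * (g * r q)) (mul_mem hx hqC), ← hval a ha' x hx, ← _root_.mul_assoc,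
      hinv a ha' _ _ h1, hfix a ha ha' x]
  exact (Subgroup.mul_mem_cancel_right S h1).1 hc

end Abstract

/-- Let k be an algebraically closed field, G a linear algebraic group over k (an affine smooth group
scheme over k), i : H → G a closed subgroup (smooth closed subgroup scheme), j : G° → G the identity
component (a connected open subgroup scheme), and K = H ∩ G° the intersection subgroup scheme, with
homomorphisms a : K → H and b : K → G° whose underlying square of schemes is a pullback of i and j.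
Then H is observable in G if and only if K is observable in G°. -/
theorem result (k : Type u) [Field k] [IsAlgClosed k]
    (G : Over (Spec (CommRingCat.of k))) [GrpObj G] [IsAffine G.left] [Smooth G.hom]
    (H : Over (Spec (CommRingCat.of k))) [GrpObj H] [Smooth H.hom] (i : H ⟶ G) [IsMonHom i]
    [IsClosedImmersion i.left]
    (G₀ : Over (Spec (CommRingCat.of k))) [GrpObj G₀] [ConnectedSpace G₀.left] (j : G₀ ⟶ G) [IsMonHom j]
    [IsOpenImmersion j.left]
    (K : Over (Spec (CommRingCat.of k))) [GrpObj K] (a : K ⟶ H) [IsMonHom a] (b : K ⟶ G₀) [IsMonHom b]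
    (hK : IsPullback a.left b.left i.left j.left) :
    AGF.IsObservableIn k i ↔ AGF.IsObservableIn k b := by
  classical
  have e : b ≫ j = a ≫ i := Over.OverMorphism.ext hK.w.symm
  have := isReduced_of_smooth G
  have hG₀ : Smooth G₀.hom := by rw [← Over.w j]; infer_instance
  have hOa : IsOpenImmersion a.left := MorphismProperty.of_isPullback hK.flip inferInstance
  have hKs : Smooth K.hom := by rw [← Over.w a]; infer_instance
  let S : Subgroup (VecGrp.pt k k ⟶ G) := (IsMonHom.monoidHom i (VecGrp.pt k k)).range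
  let C : Subgroup (VecGrp.pt k k ⟶ G) := subPts j
  have hA : ∀ f ∈ funRing G, ∀ p q : VecGrp.pt k k ⟶ G, (fun x => f (p * x * q)) ∈ funRing G := by
    intro f hf p q
    obtain ⟨p', rfl⟩ := exists_unit_pt p
    obtain ⟨q', rfl⟩ := exists_unit_pt q
    exact translate_mem_funRing hf p' q'
  have hlift : ∀ (g : VecGrp.pt k k ⟶ G₀) (s : VecGrp.pt k k ⟶ H), s ≫ i = g ≫ j →
      ∃ t : VecGrp.pt k k ⟶ K, t ≫ b = g ∧ t ≫ a = s := by
    intro g s hgs
    refine ⟨Over.homMk (hK.lift s.left g.left (congrArg Over.Hom.left hgs)) ?_, ?_, ?_⟩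
    · rw [← Over.w b, hK.lift_snd_assoc]; exact Over.w g
    · exact Over.OverMorphism.ext (hK.lift_snd _ _ _)
    · exact Over.OverMorphism.ext (hK.lift_fst _ _ _)
  have hH : AGF.IsObservableIn k i ↔ Obs (funRing G) S := by
    constructor
    · intro h g hg
      obtain ⟨s, rfl⟩ := h g fun f hf => (isRTransInv_pt_iff g f).2 fun x =>
        hg (fun y => ev y f) (mem_funRing.2 ⟨f, fun _ => rfl⟩)
          (fun y s hs => by obtain ⟨t, rfl⟩ := hs; exact (isRTransInv_hom_iff i f).1 hf y t) x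
      exact ⟨s, rfl⟩
    · intro h g hg
      obtain ⟨s, hs⟩ := h g fun f' hf' hinv x => by
        obtain ⟨f, hf⟩ := mem_funRing.1 hf'
        rw [← hf, ← hf]
        refine (isRTransInv_pt_iff g f).1 (hg f ((isRTransInv_hom_iff i f).2 fun y s => ?_)) x
        rw [hf, hf]
        exact hinv y _ ⟨s, rfl⟩
      exact ⟨s, hs⟩
  have hK' : AGF.IsObservableIn k b ↔ ObsOn (funRing G) S C := by
    constructor
    · intro h g hgC hg
      obtain ⟨g', rfl⟩ := hgC
      obtain ⟨t, ht⟩ := h g' fun f hf => (isRTransInv_pt_iff g' f).2 fun y => by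
        obtain ⟨f', hf', hext⟩ := exists_extend j f
        rw [← hext, ← hext, MonObj.mul_comp (g := j)]
        refine hg f' hf' (fun x hx s hs => ?_) _ ⟨y, rfl⟩
        obtain ⟨x', rfl⟩ := hx
        obtain ⟨⟨sH, hsH⟩, ⟨s', rfl⟩⟩ := hs
        obtain ⟨t, rfl, -⟩ := hlift s' sH hsH
        change f' ((x' ≫ j) * ((t ≫ b) ≫ j)) = f' (x' ≫ j)
        rw [← MonObj.mul_comp (g := j), hext, hext]
        exact (isRTransInv_hom_iff b f).1 hf x' t
      refine ⟨t ≫ a, ?_⟩
      change (t ≫ a) ≫ i = g' ≫ j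
      rw [← ht, Category.assoc, Category.assoc, e]
    · intro h g' hg
      obtain ⟨sH, hsH⟩ := h (g' ≫ j) ⟨g', rfl⟩ fun f' hf' hinv x hx => by
        obtain ⟨x', rfl⟩ := hx
        obtain ⟨F, hF⟩ := mem_funRing.1 hf'
        change f' ((x' ≫ j) * (g' ≫ j)) = f' (x' ≫ j)
        rw [← MonObj.mul_comp (g := j), ← hF, ← hF, ev_comp, ev_comp]
        refine (isRTransInv_pt_iff g' (j.left.appTop F)).1
          (hg _ ((isRTransInv_hom_iff b _).2 fun y t => ?_)) x'
        rw [← ev_comp, ← ev_comp, hF, hF, MonObj.mul_comp (g := j)]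
        refine hinv _ ⟨y, rfl⟩ _ ⟨⟨t ≫ a, ?_⟩, ⟨t ≫ b, rfl⟩⟩
        change (t ≫ a) ≫ i = (t ≫ b) ≫ j
        rw [Category.assoc, Category.assoc, e]
      obtain ⟨t, ht, -⟩ := hlift g' sH hsH
      exact ⟨t, ht⟩
  rw [hH, hK']
  have := finiteIndex_subPts j
  obtain ⟨e', he', he1, he0⟩ := exists_indicator j
  exact ⟨obsOn_of_obs hA, obs_of_obsOn hA he' he1 he0⟩

end Groth.Agent.S12428
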