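import Groth.Statements.S12447
import Groth.Agent.CatenarySch.DimFun
import Mathlib.AlgebraicGeometry.Noetherian


set_option autoImplicit false
set_option backward.isDefEq.respectTransparency.types false
universe u
open CategoryTheory AlgebraicGeometry
open Props

namespace Groth.Agent.S12447

/-- Let S be a locally Noetherian scheme. Then the underlying topological space of S is catenary if and
only if locally in the Zariski topology there is a dimension function, i.e. every point has an open
neighbourhood U carrying a function δ : U → ℤ which strictly decreases along nontrivial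
specializations and drops by exactly one along immediate specializations. -/
theorem result (S : Scheme.{u}) [IsLocallyNoetherian S] :
    PtTop.IsCatenarySpace S ↔
      ∀ s : S, ∃ U : S.Opens, s ∈ U ∧ ∃ δ : U → ℤ, PtTop.IsDimensionFunction δ := by
  constructor
  · intro h s
    obtain ⟨V, hV, hsV, -⟩ := exists_isAffineOpen_mem_and_subset (x := s) (U := (⊤ : S.Opens)) trivial
    haveI : IsNoetherianRing Γ(S, V) := IsLocallyNoetherian.component_noetherian ⟨V, hV⟩
    haveI : IsNoetherian V.toScheme :=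
      { toIsLocallyNoetherian := inferInstance, toCompactSpace := isCompact_iff_compactSpace.1 hV.isCompact }
    haveI : QuasiSober ↥V := (V.2.isOpenEmbedding_subtypeVal).quasiSober
    haveI : TopologicalSpace.NoetherianSpace ↥V := inferInstanceAs (TopologicalSpace.NoetherianSpace V.toScheme)
    obtain ⟨W, hsW, δ, hδ⟩ := Groth.Agent.CatenarySch.exists_dimensionFunction_nhd
      (X := ↥V) (Groth.Agent.PtTopLib.catenary_iff_open_cover.2 h _ V.2.isLocallyClosed) ⟨s, hsV⟩
    refine ⟨V.ι ''ᵁ W, ⟨⟨s, hsV⟩, hsW, rfl⟩, ?_⟩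
    have hmem : ∀ z : ↥(V.ι ''ᵁ W), ∃ h : z.1 ∈ V, (⟨z.1, h⟩ : ↥V) ∈ W := by
      rintro ⟨_, w, hw, rfl⟩
      exact ⟨w.2, hw⟩
    choose hm hm' using hmem
    let e : ↥(V.ι ''ᵁ W) → ↥W := fun z => ⟨⟨z.1, hm z⟩, hm' z⟩
    have hsp : ∀ a b, e a ⤳ e b ↔ a ⤳ b := fun a b =>
      (subtype_specializes_iff (e a) (e b)).trans ((subtype_specializes_iff (⟨a.1, hm a⟩ : ↥V) ⟨b.1, hm b⟩).trans
        (subtype_specializes_iff a b).symm)
    have hinj : Function.Injective e := fun a b hab =>
      Subtype.ext (congrArg (fun z : ↥W => z.1.1) hab)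
    have hsurj : Function.Surjective e := fun w =>
      ⟨⟨w.1.1, ⟨w.1, w.2, rfl⟩⟩, rfl⟩
    refine ⟨fun z => δ (e z), fun x y hxy hne => hδ.1 _ _ ((hsp x y).2 hxy) (hinj.ne hne), fun x y hxy => hδ.2 _ _ ⟨(hsp x y).2 hxy.1, hinj.ne hxy.2.1, fun z hz hz' => ?_⟩⟩
    obtain ⟨z, rfl⟩ := hsurj z
    rcases hxy.2.2 z ((hsp x z).1 hz) ((hsp z y).1 hz') with h' | h'
    · exact Or.inl (congrArg e h')
    · exact Or.inr (congrArg e h')
  · intro h
    refine Groth.Agent.PtTopLib.catenary_iff_open_cover.1.2 fun s => ?_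
    obtain ⟨U, hsU, δ, hδ⟩ := h s
    haveI : QuasiSober ↥U := (U.2.isOpenEmbedding_subtypeVal).quasiSober
    exact ⟨U, hsU, (Groth.Agent.PtTopLib.catenary_of_dimensionFunction hδ).1⟩

end Groth.Agent.S12447
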