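import Groth.Statements.S12451
import Groth.Agent.FinLocFreeSections.Basic


set_option autoImplicit false
universe u
open CategoryTheory AlgebraicGeometry
open Props

namespace Groth.Agent.S12451

/-- For a commutative ring R and an R-module M, the associated quasi-coherent module M~ on Spec R is a
finite locally free O-module exactly when M is finitely generated and projective over R
(equivalently, a finite locally free R-module). -/
theorem result {R : CommRingCat.{u}} (M : ModuleCat.{u} R) :
    FlatMod.IsFinLocFree (tilde M) ↔ Module.Finite R M ∧ Module.Projective R M := by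
  haveI : (tilde M).IsQuasicoherent := inferInstance
  let e₀ : R ≃+* Γ(Spec R, ⊤) := (Scheme.ΓSpecIso R).symm.commRingCatIsoToRingEquiv
  let t : M → Γ(tilde M, ⊤) := fun x => (tilde.toOpen M ⊤) x
  have ht : Function.Bijective t := ConcreteCategory.bijective_of_isIso (tilde.toOpen M ⊤)
  have hts : ∀ (a : R) (x : M), t (a • x) = e₀ a • t x := fun a x => by
    refine ((tilde.toOpen M ⊤).hom.map_smul a x).trans ?_
    refine (Scheme.Modules.smul_Spec_def a (t x)).trans ?_
    rw [show (TopologicalSpace.Opens.leTop (⊤ : (Spec R).Opens)).op = 𝟙 _ from rfl, (Spec R).presheaf.map_id]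
    rfl
  haveI := RingHomInvPair.of_ringEquiv e₀
  haveI := RingHomInvPair.of_ringEquiv e₀.symm
  let e : M ≃ₛₗ[(e₀ : R →+* Γ(Spec R, ⊤))] Γ(tilde M, ⊤) :=
    { Equiv.ofBijective t ht with
      map_add' := fun x y => map_add (tilde.toOpen M ⊤).hom x y
      map_smul' := hts }
  rw [Groth.Agent.FinLocFreeSections.isFinLocFree_iff]
  constructor
  · intro h
    haveI := (h ⊤ (isAffineOpen_top (Spec R))).1
    haveI := (h ⊤ (isAffineOpen_top (Spec R))).2
    exact ⟨Module.Finite.of_surjective e.symm.toLinearMap e.symm.surjective,
      Module.Projective.of_equiv e.symm⟩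
  · rintro ⟨h1, h2⟩ U hU
    haveI : Module.Finite Γ(Spec R, ⊤) Γ(tilde M, ⊤) :=
      Module.Finite.of_surjective e.toLinearMap e.surjective
    refine ⟨Groth.Agent.QCohBase.finite_sections (tilde M)
      (Groth.Agent.QCohBase.isFiniteType_of_finite (tilde M)
        fun x => ⟨⊤, isAffineOpen_top (Spec R), trivial, inferInstance⟩) hU, ?_⟩
    exact Groth.Agent.ProjLocal.projective_of_cover (tilde M)
      (fun x => ⟨⊤, isAffineOpen_top (Spec R), trivial, Module.Projective.of_equiv e⟩) hU

end Groth.Agent.S12451
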