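import Groth.Statements.S12452
import Groth.Agent.ShBLib.Basic

set_option autoImplicit false
universe u
open CategoryTheory TopologicalSpace Opposite
open ShSp

namespace Groth.Agent.S12452

/-- For sheaves of sets, let f : X → Y be a continuous map, F a sheaf of sets on X, G a sheaf of sets on
Y, and B_X, B_Y bases for the topologies of X and Y. Suppose given, for every V in B_Y and U in B_X
with U ⊆ f⁻¹V, a map φ_V^U : G(V) → F(U), compatibly with restrictions. Then there is exactly one
morphism of sheaves ψ : G → f_*F (an f-map G → F) such that G(V) → F(f⁻¹V) → F(U) equals φ_V^U for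
every such pair. -/
theorem result {X Y : TopCat.{u}} (f : X ⟶ Y) (F : X.Sheaf (Type u)) (G : Y.Sheaf (Type u))
    {BX : Set (Opens X)} (hBX : Opens.IsBasis BX) {BY : Set (Opens Y)} (hBY : Opens.IsBasis BY)
    (φ : ∀ (V : BY) (U : BX), (U : Opens X) ≤ (Opens.map f).obj V →
      (G.presheaf.obj (op (V : Opens Y)) → F.presheaf.obj (op (U : Opens X))))
    (hφ : ∀ (V V' : BY) (U U' : BX) (hUV : (U : Opens X) ≤ (Opens.map f).obj V)
      (hU'V' : (U' : Opens X) ≤ (Opens.map f).obj V') (hV : (V' : Opens Y) ≤ V) (hU : (U' : Opens X) ≤ U)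
      (s : G.presheaf.obj (op (V : Opens Y))),
      F.presheaf.map (homOfLE hU).op (φ V U hUV s) = φ V' U' hU'V' (G.presheaf.map (homOfLE hV).op s)) :
    ∃! ψ : G ⟶ (TopCat.Sheaf.pushforward (Type u) f).obj F,
      ∀ (V : BY) (U : BX) (hUV : (U : Opens X) ≤ (Opens.map f).obj V) (s : G.presheaf.obj (op (V : Opens Y))),
        F.presheaf.map (homOfLE hUV).op (ψ.1.app (op (V : Opens Y)) s) = φ V U hUV s := by
  classical
  have hcompat : ∀ (V : BY) (s : G.presheaf.obj (op (V : Opens Y))),
      TopCat.Presheaf.IsCompatible F.presheaf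
        (fun U : {U : BX // (U : Opens X) ≤ (Opens.map f).obj V} => (U.1 : Opens X))
        (fun U => φ V U.1 U.2 s) := by
    intro V s U U'
    let I := {W : BX // (W : Opens X) ≤ (U.1 : Opens X) ⊓ U'.1}
    refine TopCat.Sheaf.eq_of_locally_eq' F (fun W : I => (W.1 : Opens X)) _
      (fun W => homOfLE W.2) (fun x hx => ?_) _ _ fun W => ?_
    · obtain ⟨W, hW, hxW, hWle⟩ := Opens.isBasis_iff_nbhd.1 hBX hx
      exact Opens.mem_iSup.2 ⟨⟨⟨W, hW⟩, hWle⟩, hxW⟩
    · have key : ∀ (T : BX) (hT : (T : Opens X) ≤ (Opens.map f).obj V) (hWT : (W.1 : Opens X) ≤ T),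
          F.presheaf.map (homOfLE hWT).op (φ V T hT s) = φ V W.1 (hWT.trans hT) s := fun T hT hWT => by
        refine (hφ V V T W.1 hT (hWT.trans hT) le_rfl hWT s).trans ?_
        exact congrArg (φ V W.1 _) (ConcreteCategory.congr_hom (G.presheaf.map_id _) s)
      rw [← ConcreteCategory.comp_apply, ← ConcreteCategory.comp_apply, ← Functor.map_comp,
        ← Functor.map_comp]
      exact (key U.1 U.2 (W.2.trans inf_le_left)).trans (key U'.1 U'.2 (W.2.trans inf_le_right)).symm
  have hg := fun (V : BY) (s : G.presheaf.obj (op (V : Opens Y))) =>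
    TopCat.Sheaf.existsUnique_gluing' F
      (fun U : {U : BX // (U : Opens X) ≤ (Opens.map f).obj V} => (U.1 : Opens X)) ((Opens.map f).obj V)
      (fun U => homOfLE U.2) (fun x hx => by
        obtain ⟨W, hW, hxW, hWle⟩ := Opens.isBasis_iff_nbhd.1 hBX hx
        exact Opens.mem_iSup.2 ⟨⟨⟨W, hW⟩, hWle⟩, hxW⟩) _ (hcompat V s)
  obtain ⟨ψ, hψ, hu⟩ := Groth.Agent.ShBLib.exists_unique_hom hBY (G := G)
    (G' := (TopCat.Sheaf.pushforward (Type u) f).obj F) (fun V s => (hg V s).choose) (fun {V V'} h s => by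
      refine (hg V' _).choose_spec.2 _ fun U => ?_
      refine Eq.trans ?_ ((congrArg (F.presheaf.map (homOfLE (le_refl (U.1 : Opens X))).op)
        ((hg V s).choose_spec.1 ⟨U.1, U.2.trans ((Opens.map f).map (homOfLE h)).le⟩)).trans
          (hφ V V' U.1 U.1 (U.2.trans ((Opens.map f).map (homOfLE h)).le) U.2 h le_rfl s))
      change F.presheaf.map (homOfLE U.2).op (F.presheaf.map ((Opens.map f).map (homOfLE h)).op _) = _
      rw [← ConcreteCategory.comp_apply, ← Functor.map_comp, ← ConcreteCategory.comp_apply,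
        ← Functor.map_comp]
      rfl)
  refine ⟨ψ, fun V U hUV s => ?_, fun χ hχ => hu χ fun V s => ?_⟩
  · rw [hψ V s]
    exact (hg V s).choose_spec.1 ⟨U, hUV⟩
  · exact (hg V s).choose_spec.2 _ fun U => hχ V U.1 U.2 s

end Groth.Agent.S12452
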