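import Groth.Statements.S12456
import Groth.Agent.ThickFirst.Basic


set_option autoImplicit false
universe u
open CategoryTheory AlgebraicGeometry
open OmegaSh

namespace Groth.Agent.S12456

/-- Let i : Z → X be an immersion, written as the closed subscheme of an open U ⊆ X cut out by an ideal
sheaf I followed by the inclusion of U. Then the first order infinitesimal neighbourhood of Z in X —
the closed subscheme of U cut out by I² — together with Z ⊂ V(I²) and V(I²) → U → X is a universal
first order thickening of Z over X. (The inequality I² ≤ I is carried as an argument h; it always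
holds.) -/
theorem result {X : Scheme.{u}} (U : X.Opens) (I : (U : Scheme.{u}).IdealSheafData)
    (h : I ^ 2 ≤ I) :
    OmegaSh.IsUnivThickening (I.subschemeι ≫ U.ι) (Scheme.IdealSheafData.inclusion h)
      ((I ^ 2).subschemeι ≫ U.ι) := by
  let e := Scheme.IdealSheafData.inclusion h
  have he : e ≫ (I ^ 2).subschemeι = I.subschemeι := Scheme.IdealSheafData.inclusion_subschemeι h
  have hcl : IsClosedImmersion (e ≫ (I ^ 2).subschemeι) := by rw [he]; infer_instance
  have : IsClosedImmersion e := IsClosedImmersion.of_comp e (I ^ 2).subschemeι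
  have hker : e.ker = I.comap (I ^ 2).subschemeι := by
    rw [ThickFirst.ker_of_isPullback (IsPullback.of_vert_isIso_mono ⟨by rw [he, Category.id_comp]⟩ :
      IsPullback e (𝟙 _) (I ^ 2).subschemeι I.subschemeι), Scheme.IdealSheafData.ker_subschemeι]
  have hself : (I ^ 2).comap (I ^ 2).subschemeι = ⊥ := by
    have h1 := ThickFirst.ker_of_isPullback
      (IsPullback.of_vert_isIso_mono ⟨rfl⟩ : IsPullback (𝟙 _) (𝟙 _) (I ^ 2).subschemeι (I ^ 2).subschemeι)
    rw [Scheme.IdealSheafData.ker_subschemeι] at h1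
    rw [← h1]
    simp
  have hsurj : Surjective e := ⟨fun p => by
    have hp : (I ^ 2).subschemeι p ∈ Set.range I.subschemeι := by
      rw [Scheme.IdealSheafData.range_subschemeι, ← I.support_pow 2 two_ne_zero,
        ← Scheme.IdealSheafData.range_subschemeι]
      exact ⟨p, rfl⟩
    obtain ⟨q, hq⟩ := hp
    refine ⟨q, (I ^ 2).subschemeι.isClosedEmbedding.injective ?_⟩
    rw [← hq, ← Scheme.Hom.comp_apply, he]⟩
  refine ⟨⟨⟨inferInstance, hsurj⟩, ?_⟩, ?_, fun T T' j b a hj hb => ?_⟩
  · rw [hker, ← ModPairLib.comap_mul, ← pow_two, hself]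
  · rw [← Category.assoc, he]
  · obtain ⟨⟨hjc, hjs⟩, hj2⟩ := hj
    have hrange : Set.range b ⊆ Set.range U.ι := by
      rintro _ ⟨p, rfl⟩
      obtain ⟨q, rfl⟩ := hjs.surj p
      exact ⟨(a ≫ I.subschemeι) q, by rw [← Scheme.Hom.comp_apply, ← Scheme.Hom.comp_apply, Category.assoc, ← hb]⟩
    let b' := IsOpenImmersion.lift U.ι b hrange
    have hb' : b' ≫ U.ι = b := IsOpenImmersion.lift_fac _ _ _
    have hj' : j ≫ b' = a ≫ I.subschemeι := by
      rw [← cancel_mono U.ι, Category.assoc, hb', hb, Category.assoc]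
    have hle : (I ^ 2).subschemeι.ker ≤ b'.ker := by
      rw [Scheme.IdealSheafData.ker_subschemeι]
      have h1 : I.comap b' ≤ j.ker := by
        refine ((Scheme.IdealSheafData.map_gc b') _ _).2 ?_
        show I ≤ (j.ker.subschemeι ≫ b').ker
        have h2 : j.toImage ≫ j.ker.subschemeι ≫ b' = a ≫ I.subschemeι := by
          rw [← Category.assoc, show j.toImage ≫ j.ker.subschemeι = j from j.toImage_imageι, hj']
        rw [← Scheme.Hom.ker_comp_of_isIso j.toImage (j.ker.subschemeι ≫ b'), h2]
        exact I.ker_subschemeι.symm.le.trans (Scheme.Hom.le_ker_comp _ _)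
      have h3 : (I ^ 2).comap b' ≤ ⊥ := by
        rw [pow_two, ModPairLib.comap_mul, ← hj2, Scheme.IdealSheafData.le_def]
        intro V
        simp only [Scheme.IdealSheafData.ideal_mul, Pi.mul_apply]
        exact Ideal.mul_mono (h1 V) (h1 V)
      refine le_trans ((Scheme.IdealSheafData.map_gc b') _ _ |>.1 h3) ?_
      show ((⊥ : T'.IdealSheafData).subschemeι ≫ b').ker ≤ b'.ker
      rw [Scheme.Hom.ker_comp_of_isIso]
    refine ⟨IsClosedImmersion.lift _ _ hle, ⟨?_, ?_⟩, fun x ⟨_, hx⟩ => ?_⟩
    · rw [← cancel_mono (I ^ 2).subschemeι, Category.assoc, IsClosedImmersion.lift_fac, hj', Category.assoc, he]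
    · rw [← Category.assoc, IsClosedImmersion.lift_fac, hb']
    · rw [← cancel_mono (I ^ 2).subschemeι, IsClosedImmersion.lift_fac, ← cancel_mono U.ι, hb', Category.assoc, hx]

end Groth.Agent.S12456
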