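import Groth.Statements.S12459
import Groth.Agent.CatenarySch.Basic


set_option autoImplicit false
set_option backward.isDefEq.respectTransparency.types false
universe u
open CategoryTheory AlgebraicGeometry
open Props

namespace Groth.Agent.S12459

/-- For a locally Noetherian scheme S, the scheme S is universally catenary — every scheme X locally of
finite type over S has catenary underlying topological space — if and only if all local rings
O_{S,s} are universally catenary rings. (Schemes X over S are taken in the universe of S.) -/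
theorem result (S : Scheme.{u}) [IsLocallyNoetherian S] :
    (∀ (X : Scheme.{u}) (f : X ⟶ S), LocallyOfFiniteType f → PtTop.IsCatenarySpace X) ↔
      ∀ s : S, CAlg.IsUniversallyCatenary (S.presheaf.stalk s) := by
  constructor
  · intro h s
    obtain ⟨U, hU, hsU, -⟩ := exists_isAffineOpen_mem_and_subset (x := s) (U := (⊤ : S.Opens)) trivial
    haveI : IsNoetherianRing Γ(S, U) := IsLocallyNoetherian.component_noetherian ⟨U, hU⟩
    letI : Algebra Γ(S, U) (S.presheaf.stalk s) := (S.presheaf.germ U s hsU).hom.toAlgebra
    haveI : IsLocalization.AtPrime (S.presheaf.stalk s) (hU.primeIdealOf ⟨s, hsU⟩).asIdeal :=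
      hU.isLocalization_stalk ⟨s, hsU⟩
    refine ⟨IsLocalization.isNoetherianRing (hU.primeIdealOf ⟨s, hsU⟩).asIdeal.primeCompl _ inferInstance,
      fun B _ _ hB => ?_⟩
    obtain ⟨n, φ, hφ⟩ := Algebra.FiniteType.iff_quotient_mvPolynomial''.1 hB
    let R := Γ(S, U)
    let A := MvPolynomial (Fin n) R
    have hA : CAlg.IsCatenary A := by
      rw [← Groth.Agent.CatenarySch.isCatenarySpace_primeSpectrum_iff]
      refine h (Spec (CommRingCat.of A)) (Spec.map (CommRingCat.ofHom (MvPolynomial.C (R := R) (σ := Fin n))) ≫ hU.fromSpec) ?_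
      haveI : LocallyOfFiniteType (Spec.map (CommRingCat.ofHom (MvPolynomial.C (R := R) (σ := Fin n)))) := by
        rw [HasRingHomProperty.Spec_iff (P := @LocallyOfFiniteType)]
        exact RingHom.finiteType_algebraMap.2 (inferInstance : Algebra.FiniteType R A)
      infer_instance
    letI : Algebra A (MvPolynomial (Fin n) (S.presheaf.stalk s)) :=
      (MvPolynomial.map (algebraMap R (S.presheaf.stalk s))).toAlgebra
    haveI : IsLocalization ((hU.primeIdealOf ⟨s, hsU⟩).asIdeal.primeCompl.map (MvPolynomial.C (R := R) (σ := Fin n)))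
        (MvPolynomial (Fin n) (S.presheaf.stalk s)) :=
      MvPolynomial.isLocalization (hU.primeIdealOf ⟨s, hsU⟩).asIdeal.primeCompl (S.presheaf.stalk s)
    exact Groth.Agent.CatenaryLib.isCatenary_of_surjective φ.toRingHom hφ
      (Groth.Agent.CatenaryLib.isCatenary_of_isLocalization
        ((hU.primeIdealOf ⟨s, hsU⟩).asIdeal.primeCompl.map (MvPolynomial.C (R := R) (σ := Fin n))) hA)
  · intro h X f hf
    rw [Groth.Agent.CatenarySch.isCatenarySpace_iff_stalks]
    intro x
    letI : Algebra (S.presheaf.stalk (f x)) (X.presheaf.stalk x) := (f.stalkMap x).hom.toAlgebra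
    haveI : Algebra.EssFiniteType (S.presheaf.stalk (f x)) (X.presheaf.stalk x) :=
      LocallyOfFiniteType.stalkMap f x
    exact Groth.Agent.CatenaryLib.isCatenary_of_essFiniteType (h (f x))

end Groth.Agent.S12459
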