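import Mathlib.RingTheory.RegularLocalRing.Defs
import Groth.Statements.S12460
-- import your own Groth.Agent.* helpers here

set_option autoImplicit false
set_option backward.isDefEq.respectTransparency false
set_option backward.isDefEq.respectTransparency.types false
universe u
open CategoryTheory AlgebraicGeometry
open Props

namespace Groth.Agent.S12460

/-- (1) ⇔ (3) ⇔ (4): let X be a locally Noetherian scheme. Then X is J-2 — for every morphism Y → X
locally of finite type the set of points y with O_{Y,y} a regular local ring is open in Y — if and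
only if for every affine open U of X the ring Γ(X, U) is J-2 (every finite type algebra over it has
open regular locus), if and only if every point of X lies in such an affine open. (Schemes Y over X
are taken in the universe of X.) -/
theorem result (X : Scheme.{u}) [IsLocallyNoetherian X] :
    ((∀ (Y : Scheme.{u}) (g : Y ⟶ X), LocallyOfFiniteType g →
        IsOpen {y : Y | IsRegularLocalRing (Y.presheaf.stalk y)}) ↔
      ∀ U : X.affineOpens, EGA4.IsJ2 Γ(X, U)) ∧
    ((∀ (Y : Scheme.{u}) (g : Y ⟶ X), LocallyOfFiniteType g →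
        IsOpen {y : Y | IsRegularLocalRing (Y.presheaf.stalk y)}) ↔
      ∀ x : X, ∃ U : X.affineOpens, x ∈ (U : X.Opens) ∧ EGA4.IsJ2 Γ(X, U)) := by
  have pre : ∀ (Y : Scheme.{u}) (W : Y.Opens) (hW : IsAffineOpen W),
      hW.fromSpec ⁻¹' {y : Y | IsRegularLocalRing (Y.presheaf.stalk y)} = EGA4.regLocus Γ(Y, W) := by
    intro Y W hW
    ext p
    let y := hW.fromSpec p
    have hy : y ∈ W := hW.range_fromSpec.le ⟨p, rfl⟩
    letI := (TopCat.Presheaf.algebra_section_stalk Y.presheaf (U := W) ⟨y, hy⟩)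
    haveI : IsLocalization.AtPrime (Y.presheaf.stalk y) p.asIdeal := hW.isLocalization_stalk' p hy
    let E := (IsLocalization.algEquiv p.asIdeal.primeCompl (Localization.AtPrime p.asIdeal) (Y.presheaf.stalk y)).toRingEquiv
    exact ⟨fun h => by haveI : IsRegularLocalRing (Y.presheaf.stalk y) := h; exact IsRegularLocalRing.of_ringEquiv E.symm, fun h => by haveI : IsRegularLocalRing (Localization.AtPrime p.asIdeal) := h; exact IsRegularLocalRing.of_ringEquiv E⟩
  have h13 : (∀ (Y : Scheme.{u}) (g : Y ⟶ X), LocallyOfFiniteType g →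
      IsOpen {y : Y | IsRegularLocalRing (Y.presheaf.stalk y)}) → ∀ U : X.affineOpens, EGA4.IsJ2 Γ(X, U) := by
    intro h U S _ _ hS
    let Y := Spec (CommRingCat.of S)
    let a : Y ⟶ Spec Γ(X, U) := Spec.map (CommRingCat.ofHom (algebraMap Γ(X, U) S))
    haveI : LocallyOfFiniteType a := (HasRingHomProperty.Spec_iff (P := @LocallyOfFiniteType)).2 (RingHom.finiteType_algebraMap.2 hS)
    have ho := h Y (a ≫ U.2.fromSpec) inferInstance
    refine (congrArg IsOpen ?_).mp ho
    ext q
    refine ⟨fun h => ?_, fun h => ?_⟩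
    · haveI : IsRegularLocalRing ((structurePresheafInCommRingCat S).stalk q) := h
      exact IsRegularLocalRing.of_ringEquiv (StructureSheaf.stalkIso S q).toRingEquiv.symm
    · haveI : IsRegularLocalRing (Localization.AtPrime q.asIdeal) := h
      exact IsRegularLocalRing.of_ringEquiv (StructureSheaf.stalkIso S q).toRingEquiv
  have h34 : (∀ U : X.affineOpens, EGA4.IsJ2 Γ(X, U)) → ∀ x : X, ∃ U : X.affineOpens, x ∈ (U : X.Opens) ∧ EGA4.IsJ2 Γ(X, U) := fun h x => by
    obtain ⟨_, ⟨U, hU, rfl⟩, hx, -⟩ := X.isBasis_affineOpens.exists_subset_of_mem_open (Set.mem_univ x) isOpen_univ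
    exact ⟨⟨U, hU⟩, hx, h _⟩
  have h41 : (∀ x : X, ∃ U : X.affineOpens, x ∈ (U : X.Opens) ∧ EGA4.IsJ2 Γ(X, U)) → ∀ (Y : Scheme.{u}) (g : Y ⟶ X), LocallyOfFiniteType g →
      IsOpen {y : Y | IsRegularLocalRing (Y.presheaf.stalk y)} := by
    intro h Y g hg
    refine isOpen_iff_forall_mem_open.2 fun y hy => ?_
    obtain ⟨U, hyU, hJ⟩ := h (g y)
    obtain ⟨_, ⟨W, hW, rfl⟩, hyW, hWU⟩ := Y.isBasis_affineOpens.exists_subset_of_mem_open hyU (g ⁻¹ᵁ (U : X.Opens)).2
    letI := (g.appLE U.1 W hWU).hom.toAlgebra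
    have hft : Algebra.FiniteType Γ(X, U) Γ(Y, W) := HasRingHomProperty.appLE @LocallyOfFiniteType g hg U ⟨W, hW⟩ hWU
    have ho := hJ Γ(Y, W) hft
    rw [← pre Y W hW] at ho
    refine ⟨_, Set.image_preimage_subset hW.fromSpec _, hW.fromSpec.isOpenEmbedding.isOpenMap _ ho, ?_⟩
    obtain ⟨p, rfl⟩ := hW.range_fromSpec.ge hyW
    exact ⟨p, hy, rfl⟩
  exact ⟨⟨h13, fun h => h41 (h34 h)⟩, ⟨fun h => h34 (h13 h), h41⟩⟩

end Groth.Agent.S12460
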