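import Groth.Statements.S12462
import Groth.Agent.Spectral.Basic

set_option autoImplicit false
universe u
open CategoryTheory CategoryTheory.Limits
open SpecSp

namespace Groth.Agent.S12462

/-- A spectral space is a directed inverse limit of finite sober topological spaces. Precisely: for X
spectral there exist a nonempty directed preordered index set J, a functor from the opposite of J to
topological spaces whose values are finite sober (T0, every irreducible closed subset has a generic
point) spaces, and a limit cone of it whose vertex is isomorphic to X. -/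
theorem result (X : Type u) [TopologicalSpace X] [SpectralSpace X] :
    ∃ (J : Type u) (_ : Preorder J) (_ : Nonempty J) (_ : IsDirected J (· ≤ ·)) (F : Jᵒᵖ ⥤ TopCat.{u})
      (c : Cone F), Nonempty (IsLimit c) ∧
        (∀ j : Jᵒᵖ, Finite (F.obj j) ∧ T0Space (F.obj j) ∧ QuasiSober (F.obj j)) ∧
        Nonempty (c.pt ≅ TopCat.of X) := by
  open Groth.Agent.Spectral TopologicalSpace Topology Set Opposite in
  let I := {U : Set X // IsOpen U ∧ IsCompact U}
  let φ : ∀ s : Finset I, X → (↥s → Prop) := fun s x U => x ∈ (U.1 : Set X)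
  have hφ : ∀ s, Continuous (φ s) := fun s => continuous_pi fun U => isOpen_iff_continuous_mem.1 U.1.2.1
  let F : (Finset I)ᵒᵖ ⥤ TopCat.{u} :=
    { obj := fun s => TopCat.of (Set.range (φ (unop s)))
      map := fun {s t} a => TopCat.ofHom (X := Set.range (φ (unop s))) (Y := Set.range (φ (unop t)))
        ⟨fun p => ⟨fun U => p.1 ⟨U.1, leOfHom a.unop U.2⟩,
          p.2.elim fun x hx => ⟨x, funext fun U => congrFun hx ⟨U.1, leOfHom a.unop U.2⟩⟩⟩,
         Continuous.subtype_mk (continuous_pi fun U : ↥(unop t) =>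
           (continuous_apply (A := fun _ : ↥(unop s) => Prop) ⟨U.1, leOfHom a.unop U.2⟩).comp continuous_subtype_val) _⟩
      map_id := fun s => rfl
      map_comp := fun a b => rfl }
  have hfin : ∀ s : (Finset I)ᵒᵖ, Finite (F.obj s) := fun s => Subtype.finite
  have hsob : ∀ (Y : Type u) [TopologicalSpace Y] [Finite Y], QuasiSober Y := by
    intro Y _ _
    refine ⟨fun {Z} hZ hZc => ?_⟩
    classical
    obtain ⟨z, hz, h⟩ := isIrreducible_iff_sUnion_isClosed.1 hZ
      ((Set.toFinite Z).toFinset.image fun z => closure {z})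
      (by simp only [Finset.mem_image]; rintro _ ⟨z, _, rfl⟩; exact isClosed_closure)
      (fun z hz => mem_sUnion.2 ⟨closure {z},
        Finset.mem_coe.2 (Finset.mem_image.2 ⟨z, (Set.toFinite Z).mem_toFinset.2 hz, rfl⟩),
        subset_closure rfl⟩)
    obtain ⟨w, hw, rfl⟩ := Finset.mem_image.1 hz
    exact ⟨w, (hZc.closure_subset_iff.2 (singleton_subset_iff.2 ((Set.toFinite Z).mem_toFinset.1 hw))).antisymm h⟩
  refine ⟨Finset I, inferInstance, inferInstance,
    ⟨fun a b => by classical exact ⟨a ∪ b, Finset.subset_union_left, Finset.subset_union_right⟩⟩,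
    F, TopCat.limitCone F, ⟨TopCat.limitConeIsLimit F⟩, fun s => ⟨hfin s, ?_, ?_⟩, ?_⟩
  · have : T0Space (↥(unop s) → Prop) := ⟨fun p q h => funext fun i =>
      propext (h.mem_open_iff (isOpen_iff_continuous_mem.2 (continuous_apply i)))⟩
    exact inferInstanceAs (T0Space (Set.range (φ (unop s))))
  · have := hfin s; exact hsob _
  let ψ : X → (TopCat.limitCone F).pt := fun x => ⟨fun s => ⟨φ (unop s) x, x, rfl⟩, fun _ => rfl⟩
  have hψ : Continuous ψ := (continuous_pi fun s => (hφ (unop s)).subtype_mk _).subtype_mk _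
  have hinj : Function.Injective ψ := fun x y h =>
    (PrespectralSpace.isTopologicalBasis (X := X)).eq_iff.2 fun U hU => by
      have := congrArg (fun q => (q.1 (op {⟨U, hU⟩})).1 ⟨⟨U, hU⟩, Finset.mem_singleton_self _⟩) h
      exact iff_of_eq this
  have hsurj : Function.Surjective ψ := by
    intro q
    let Z : Finset I → Set (WithConstructibleTopology X) := fun s => ofCon ⁻¹' {x | φ s x = (q.1 (op s)).1}
    have hZc : ∀ s, IsClosed (Z s) := by
      intro s
      have : Z s = ⋂ U : ↥s, {z | (ofCon z ∈ (U.1 : Set X)) = (q.1 (op s)).1 U} := by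
        ext z; simp [Z, φ, funext_iff]
      rw [this]
      refine isClosed_iInter fun U => ?_
      by_cases h : (q.1 (op s)).1 U
      · convert (isClopen_preimage_ofCon U.1.2.1 U.1.2.2).1 using 1
        ext z; simp [h]
      · convert (isClopen_preimage_ofCon U.1.2.1 U.1.2.2).compl.1 using 1
        ext z; simp [h]
    have hmono : ∀ s t : Finset I, s ⊆ t → Z t ⊆ Z s := by
      intro s t hst z (hz : φ t (ofCon z) = (q.1 (op t)).1)
      show φ s (ofCon z) = (q.1 (op s)).1
      rw [← q.2 (homOfLE hst).op]
      funext U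
      exact congrFun hz ⟨U.1, hst U.2⟩
    classical
    obtain ⟨z, hz⟩ := IsCompact.nonempty_iInter_of_directed_nonempty_isCompact_isClosed Z
      (fun a b => ⟨a ∪ b, hmono _ _ Finset.subset_union_left, hmono _ _ Finset.subset_union_right⟩)
      (fun s => by obtain ⟨x, hx⟩ := (q.1 (op s)).2; exact ⟨WithTopology.toTopology _ x, hx⟩)
      (fun s => (hZc s).isCompact) hZc
    refine ⟨ofCon z, Subtype.ext (funext fun s => Subtype.ext ?_)⟩
    exact mem_iInter.1 hz (unop s)
  have hopen : IsOpenMap ψ := by
    rw [(PrespectralSpace.isTopologicalBasis (X := X)).isOpenMap_iff]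
    intro U hU
    let V : Set (TopCat.limitCone F).pt :=
      {q | (q.1 (op {⟨U, hU⟩})).1 ⟨⟨U, hU⟩, Finset.mem_singleton_self _⟩}
    let u₀ : I := ⟨U, hU⟩
    have h1 : Continuous fun q : (TopCat.limitCone F).pt => q.1 (op ({u₀} : Finset I)) := by
      exact (continuous_apply (op ({u₀} : Finset I))).comp continuous_subtype_val
    have h2 : Continuous fun p : Set.range (φ {⟨U, hU⟩}) =>
        p.1 ⟨⟨U, hU⟩, Finset.mem_singleton_self _⟩ :=
      (continuous_apply (A := fun _ : ↥({⟨U, hU⟩} : Finset I) => Prop)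
        ⟨⟨U, hU⟩, Finset.mem_singleton_self _⟩).comp continuous_subtype_val
    have hV : IsOpen V := isOpen_iff_continuous_mem.2 (h2.comp h1)
    convert hV using 1
    exact (image_preimage_eq V hsurj)
  exact ⟨(TopCat.isoOfHomeo (Equiv.toHomeomorphOfContinuousOpen (Equiv.ofBijective ψ ⟨hinj, hsurj⟩) hψ hopen)).symm⟩

end Groth.Agent.S12462
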