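import Groth.Statements.S12472
import Groth.Agent.S12485
import Groth.Agent.SymAlgRel.QMapTwist
import Groth.Agent.SymAlgRel.ProjExist
import Groth.Agent.SymAlgRel.GrSymExist
import Groth.Agent.TensorMod.Invertible
-- import your own Groth.Agent.* helpers here

set_option autoImplicit false
universe u
open CategoryTheory CategoryTheory.Limits AlgebraicGeometry TopologicalSpace Opposite
open scoped HomogeneousIdeal
open EGA2

namespace Groth.Agent.S12472

/-- Let Y be a scheme and L an invertible O_Y-module. Then L is very ample relative to the identity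
morphism of Y: there are a quasi-coherent O_Y-module E and a Y-immersion i of Y into the projective
bundle P(E) with L isomorphic to i^*O_{P(E)}(1). -/
theorem result (Y : Scheme.{u}) (L : Y.Modules) (hL : PicF.IsInvertible L) :
    RelProj.IsRelVeryAmple (𝟙 Y) L := by
  have hLq : Coh.IsQCoh L := by exact Groth.Agent.TensorMod.isQCoh_of_isInvertible hL
  obtain ⟨𝒮, j, hj⟩ := SymAlgRel.exists_isGrSymAlg L hLq
  obtain ⟨P, p, chart, hP⟩ := SymAlgRel.exists_isRelProj 𝒮
  haveI := SymAlgRel.isIso_pL hj hLq hP hL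
  have hφ : RelProj.IsGradedHom (𝟙 𝒮.toQCAlg) := fun U hU d x hx => hx
  let u := RelProj.QGrHom.ofHom (𝟙 𝒮.toQCAlg) hφ
  have htop : RelProj.domQ u p chart = ⊤ := SymAlgRel.domQ_eq_top_of_forall u hj hLq hL hP fun x => by
    obtain ⟨U, hU, hxU, -, e, he⟩ := Groth.Agent.GenLocus.exists_isFrame hL (show x ∈ (⊤ : Y.Opens) from trivial)
    refine ⟨U, hU, 1, one_pos, SymAlgRel.tgen j e, SymAlgRel.tgen_mem hj hU e,
      (SymAlgRel.mem_xs u).2 ⟨U, hU, le_rfl, hxU, ?_⟩⟩
    intro y hy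
    obtain ⟨r, rfl⟩ := SymAlgRel.exists_eq_of_mem_deg hj hLq hU he hy
    refine Ideal.mul_mem_left _ _ ?_
    rw [pow_one]
    refine Ideal.subset_span (Set.mem_singleton_iff.2 ?_)
    show _ = (𝒮.presheaf.map (𝟙 (op U))).hom (SymAlgRel.tgen j e)
    rw [𝒮.presheaf.map_id]
    rfl
  obtain ⟨O1, lam, hO1⟩ := SymAlgRel.exists_isRelTwist hP 1
  obtain ⟨r, hr, -⟩ := EGA2Misc.existsUnique_projQMapOn u hP hP
  have hgen := SymAlgRel.grSymAlg_isGenDegOne hLq hj
  obtain ⟨e⟩ := SymAlgRel.nonempty_pullback_qmap_one u hj hLq hL hP hP hr hO1 hgen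
  haveI : IsIso (RelProj.domQ u p chart).ι := by rw [htop]; exact inferInstanceAs (IsIso P.topIso.hom)
  let τ := (RelProj.domQ u p chart).ι ≫ p
  have hcomp : r ≫ p = (RelProj.domQ u p chart).ι ≫ p ≫ 𝟙 Y := EGA2Misc.projQMapOn_comp u hP hP r hr
  have hr' : r = (RelProj.domQ u p chart).ι := by
    rw [← cancel_mono p, hcomp, Category.comp_id]
  subst hr'
  refine S12485.result (𝟙 Y) L hL 𝒮 hgen p chart hP O1 lam hO1 (inv τ ≫ (RelProj.domQ u p chart).ι)
    (by rw [Category.assoc]; exact IsIso.inv_hom_id τ) ?_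
  exact ((Scheme.Modules.pullbackId Y).app L).symm ≪≫ (Scheme.Modules.pullbackCongr (IsIso.inv_hom_id τ).symm).app L ≪≫
    ((Scheme.Modules.pullbackComp (inv τ) τ).app L).symm ≪≫ (Scheme.Modules.pullback (inv τ)).mapIso e.symm ≪≫
    (Scheme.Modules.pullbackComp (inv τ) _).app O1

end Groth.Agent.S12472
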