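import Groth.Statements.S12474
import Groth.Agent.SymAlgRel.VABundle

set_option autoImplicit false
universe u
open CategoryTheory CategoryTheory.Limits AlgebraicGeometry TopologicalSpace Opposite
open scoped HomogeneousIdeal
open EGA2

namespace Groth.Agent.S12474

/-- Let f : X → Y and g : Y' → Y be morphisms of schemes and let X', with g' : X' → X and f' : X' → Y',
be a fibre product of X and Y' over Y (the square is cartesian). If L is an invertible O_X-module
which is very ample relative to f (isomorphic to the inverse image of O(1) along a Y-immersion of X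
into the projective bundle P(E) of a quasi-coherent O_Y-module E), then the inverse image g'^*L is
very ample relative to f'. -/
theorem result {X Y X' Y' : Scheme.{u}} (f : X ⟶ Y) (g : Y' ⟶ Y) (g' : X' ⟶ X) (f' : X' ⟶ Y')
    (hsq : IsPullback g' f' f g) (L : X.Modules) (hL : PicF.IsInvertible L) (hva : RelProj.IsRelVeryAmple f L) :
    RelProj.IsRelVeryAmple f' ((Scheme.Modules.pullback g').obj L) := by
  obtain ⟨E, hE, 𝒯, j, hj, P, p, chart, hP, O1, lam, hO1, i, hi, hcomp, ⟨e⟩⟩ := hva
  obtain ⟨𝒯', j', hE', hj', P', p', chart', hP', O1', lam', hO1', h, hpb, ⟨θ⟩⟩ :=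
    SymAlgRel.exists_bundle_baseChange g hE hj hP hO1
  subst hcomp
  let i' : X' ⟶ P' := hpb.lift (g' ≫ i) f' (by rw [Category.assoc]; exact hsq.w)
  have hsq2 : IsPullback g' i' i h := by
    refine IsPullback.of_bot ?_ (hpb.lift_fst _ _ _).symm hpb
    rw [hpb.lift_snd]; exact hsq
  haveI : IsImmersion i' := MorphismProperty.of_isPullback hsq2 hi
  exact ⟨_, hE', 𝒯', j', hj', P', p', chart', hP', O1', lam', hO1', i', inferInstance, hpb.lift_snd _ _ _,
    ⟨(Scheme.Modules.pullback g').mapIso e ≪≫ (Scheme.Modules.pullbackComp g' i).app O1 ≪≫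
      (Scheme.Modules.pullbackCongr (hpb.lift_fst (g' ≫ i) f' _).symm).app O1 ≪≫
      ((Scheme.Modules.pullbackComp i' h).app O1).symm ≪≫ (Scheme.Modules.pullback i').mapIso θ⟩⟩

end Groth.Agent.S12474
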