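import Groth.Statements.S12475
import Groth.Agent.SymAlgRel.SegreBundle
import Groth.Agent.SymAlgRel.VABundle

set_option autoImplicit false
universe u
open CategoryTheory CategoryTheory.Limits AlgebraicGeometry TopologicalSpace Opposite
open scoped HomogeneousIdeal
open EGA2

namespace Groth.Agent.S12475

/-- Let Y₁ → S and Y₂ → S be schemes over S, f₁ : X₁ → Y₁ and f₂ : X₂ → Y₂ morphisms (so that X₁, X₂ are
S-schemes through them), P with projections p₁, p₂ a fibre product X₁ ×_S X₂, Q with projections q₁,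
q₂ a fibre product Y₁ ×_S Y₂, and h : P → Q the morphism f₁ ×_S f₂, that is, the one with h ≫ q₁ =
p₁ ≫ f₁ and h ≫ q₂ = p₂ ≫ f₂. If L₁ is an invertible O_{X₁}-module very ample relative to f₁ and L₂
an invertible O_{X₂}-module very ample relative to f₂ (each isomorphic to the inverse image of O(1)
along an immersion over the base into the projective bundle of a quasi-coherent module on the base),
then the external tensor product p₁^*L₁ ⊗ p₂^*L₂ is very ample relative to h. -/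
theorem result {S X₁ X₂ Y₁ Y₂ P Q : Scheme.{u}} (y₁ : Y₁ ⟶ S) (y₂ : Y₂ ⟶ S)
    (f₁ : X₁ ⟶ Y₁) (f₂ : X₂ ⟶ Y₂) (p₁ : P ⟶ X₁) (p₂ : P ⟶ X₂) (hP : IsPullback p₁ p₂ (f₁ ≫ y₁) (f₂ ≫ y₂))
    (q₁ : Q ⟶ Y₁) (q₂ : Q ⟶ Y₂) (hQ : IsPullback q₁ q₂ y₁ y₂) (h : P ⟶ Q)
    (hh₁ : h ≫ q₁ = p₁ ≫ f₁) (hh₂ : h ≫ q₂ = p₂ ≫ f₂)
    (L₁ : X₁.Modules) (hL₁ : PicF.IsInvertible L₁) (hva₁ : RelProj.IsRelVeryAmple f₁ L₁)
    (L₂ : X₂.Modules) (hL₂ : PicF.IsInvertible L₂) (hva₂ : RelProj.IsRelVeryAmple f₂ L₂) :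
    RelProj.IsRelVeryAmple h
      (CohB1.tensorMod ((Scheme.Modules.pullback p₁).obj L₁) ((Scheme.Modules.pullback p₂).obj L₂)) := by
  obtain ⟨E₁, hE₁, 𝒯₁, j₁, hj₁, P₁, π₁, chart₁, hP₁, O₁, lam₁, hO₁, i₁, hi₁, hc₁, ⟨θ₁⟩⟩ := hva₁
  obtain ⟨E₂, hE₂, 𝒯₂, j₂, hj₂, P₂, π₂, chart₂, hP₂, O₂, lam₂, hO₂, i₂, hi₂, hc₂, ⟨θ₂⟩⟩ := hva₂
  obtain ⟨𝒯₁', j₁', hE₁', hj₁', P₁', π₁', chart₁', hP₁', O₁', lam₁', hO₁', k₁, hpb₁, ⟨φ₁⟩⟩ :=
    SymAlgRel.exists_bundle_baseChange q₁ hE₁ hj₁ hP₁ hO₁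
  obtain ⟨𝒯₂', j₂', hE₂', hj₂', P₂', π₂', chart₂', hP₂', O₂', lam₂', hO₂', k₂, hpb₂, ⟨φ₂⟩⟩ :=
    SymAlgRel.exists_bundle_baseChange q₂ hE₂ hj₂ hP₂ hO₂
  let c₁ : P ⟶ P₁' := hpb₁.lift (p₁ ≫ i₁) h (by rw [Category.assoc, hc₁, hh₁])
  let c₂ : P ⟶ P₂' := hpb₂.lift (p₂ ≫ i₂) h (by rw [Category.assoc, hc₂, hh₂])
  have ha₁ : c₁ ≫ π₁' = h := hpb₁.lift_snd _ _ _
  have ha₂ : c₂ ≫ π₂' = h := hpb₂.lift_snd _ _ _
  have hb₁ : c₁ ≫ k₁ = p₁ ≫ i₁ := hpb₁.lift_fst _ _ _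
  have hb₂ : c₂ ≫ k₂ = p₂ ≫ i₂ := hpb₂.lift_fst _ _ _
  let j : P ⟶ pullback π₁' π₂' := pullback.lift c₁ c₂ (ha₁.trans ha₂.symm)
  let M : pullback π₁' π₂' ⟶ pullback (π₁ ≫ y₁) (π₂ ≫ y₂) :=
    pullback.lift (pullback.fst _ _ ≫ k₁) (pullback.snd _ _ ≫ k₂) (by
      simp only [Category.assoc]
      rw [reassoc_of% hpb₁.w, reassoc_of% hpb₂.w, hQ.w, pullback.condition_assoc])
  have e₁ : f₁ ≫ y₁ = i₁ ≫ π₁ ≫ y₁ := by rw [← Category.assoc, hc₁]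
  have e₂ : f₂ ≫ y₂ = i₂ ≫ π₂ ≫ y₂ := by rw [← Category.assoc, hc₂]
  haveI := hi₁
  haveI := hi₂
  haveI : IsImmersion (pullback.map (f₁ ≫ y₁) (f₂ ≫ y₂) (π₁ ≫ y₁) (π₂ ≫ y₂) i₁ i₂ (𝟙 S)
      ((Category.comp_id _).trans e₁) ((Category.comp_id _).trans e₂)) :=
    MorphismProperty.pullbackMap (P := @IsImmersion) hi₁ hi₂ e₁ e₂
  have hjM : j ≫ M = hP.isoPullback.hom ≫ pullback.map (f₁ ≫ y₁) (f₂ ≫ y₂) (π₁ ≫ y₁) (π₂ ≫ y₂) i₁ i₂ (𝟙 S)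
      ((Category.comp_id _).trans e₁) ((Category.comp_id _).trans e₂) := by
    apply pullback.hom_ext
    · rw [Category.assoc, Category.assoc]
      erw [pullback.lift_fst, pullback.lift_fst_assoc, hb₁, pullback.lift_fst, hP.isoPullback_hom_fst_assoc]
    · rw [Category.assoc, Category.assoc]
      erw [pullback.lift_snd, pullback.lift_snd_assoc, hb₂, pullback.lift_snd, hP.isoPullback_hom_snd_assoc]
  haveI : IsImmersion (j ≫ M) := by rw [hjM]; infer_instance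
  haveI : IsImmersion j := IsImmersion.of_comp j M
  have hva := SymAlgRel.isRelVeryAmple_pullback_immersion j
    (SymAlgRel.isRelVeryAmple_segre hE₁' hj₁' hP₁' hO₁' hE₂' hj₂' hP₂' hO₂' (IsPullback.of_hasPullback π₁' π₂'))
  have hq : j ≫ pullback.fst π₁' π₂' ≫ π₁' = h := by rw [pullback.lift_fst_assoc, ha₁]
  rw [hq] at hva
  have hO₁i := SymAlgRel.isInvertible_relTwist (SymAlgRel.grSymAlg_isGenDegOne hE₁' hj₁') hO₁'
  have hO₂i := SymAlgRel.isInvertible_relTwist (SymAlgRel.grSymAlg_isGenDegOne hE₂' hj₂') hO₂'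
  refine SymAlgRel.isRelVeryAmple_of_iso hva (GenLocus.pullTensorIso j (GenLocus.isInvertible_pullback _ hO₁i)
    (GenLocus.isInvertible_pullback _ hO₂i) ≪≫ TensorMod.tensorIso ?_ ?_)
  · exact (Scheme.Modules.pullbackComp j _).app O₁' ≪≫
      (Scheme.Modules.pullbackCongr (show j ≫ pullback.fst π₁' π₂' = c₁ from pullback.lift_fst _ _ _)).app O₁' ≪≫
      (Scheme.Modules.pullback c₁).mapIso φ₁.symm ≪≫ (Scheme.Modules.pullbackComp c₁ k₁).app O₁ ≪≫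
      (Scheme.Modules.pullbackCongr hb₁).app O₁ ≪≫ ((Scheme.Modules.pullbackComp p₁ i₁).app O₁).symm ≪≫
      (Scheme.Modules.pullback p₁).mapIso θ₁.symm
  · exact (Scheme.Modules.pullbackComp j _).app O₂' ≪≫
      (Scheme.Modules.pullbackCongr (show j ≫ pullback.snd π₁' π₂' = c₂ from pullback.lift_snd _ _ _)).app O₂' ≪≫
      (Scheme.Modules.pullback c₂).mapIso φ₂.symm ≪≫ (Scheme.Modules.pullbackComp c₂ k₂).app O₂ ≪≫
      (Scheme.Modules.pullbackCongr hb₂).app O₂ ≪≫ ((Scheme.Modules.pullbackComp p₂ i₂).app O₂).symm ≪≫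
      (Scheme.Modules.pullback p₂).mapIso θ₂.symm

end Groth.Agent.S12475
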