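import Groth.Statements.S12479
import Groth.Agent.SymAlgRel.VALocal
import Groth.Agent.ProjUPLib.AmpleTwist

set_option autoImplicit false
universe u
open CategoryTheory CategoryTheory.Limits AlgebraicGeometry TopologicalSpace Opposite
open scoped HomogeneousIdeal
open EGA2

namespace Groth.Agent.S12479

/-- Let Y be a quasi-compact scheme, f : X → Y a morphism of finite type, L an invertible O_X-module
which is ample relative to f and L' an invertible O_X-module. Then there is an integer n₀ such that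
for every n ≥ n₀ the module L^{⊗n} ⊗ L' is very ample relative to f (isomorphic to the inverse image
of O(1) along a Y-immersion of X into the projective bundle P(E) of a quasi-coherent O_Y-module E). -/
theorem result {X Y : Scheme.{u}} [CompactSpace Y] (f : X ⟶ Y)
    [QuasiCompact f] [LocallyOfFiniteType f] (L L' : X.Modules) (hL : PicF.IsInvertible L) (hL' : PicF.IsInvertible L')
    (h : RelAmple.IsRelAmple f L) :
    ∃ n₀ : ℕ, ∀ n : ℕ, n₀ ≤ n → RelProj.IsRelVeryAmple f (CohB1.tensorMod (CohB1.tensorPow L n) L') := by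
  classical
  obtain ⟨t, ht⟩ := isCompact_univ.elim_finite_subcover (fun V : Y.affineOpens => (V.1 : Set Y)) (fun V => V.1.2)
    (fun y _ => by
      obtain ⟨_, ⟨V, hV, rfl⟩, hy, -⟩ := Y.isBasis_affineOpens.exists_subset_of_mem_open (Set.mem_univ y) isOpen_univ
      exact Set.mem_iUnion.2 ⟨⟨V, hV⟩, hy⟩)
  have hcov : ⨆ V : t, V.1.1 = ⊤ := eq_top_iff.2 fun y _ => by
    obtain ⟨V, hV, hy⟩ := Set.mem_iUnion₂.1 (ht (Set.mem_univ y))
    exact Opens.mem_iSup.2 ⟨⟨V, hV⟩, hy⟩
  have H : ∀ V : t, ∀ᶠ n in Filter.atTop, RelProj.IsRelVeryAmple (f ∣_ V.1.1)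
      ((CohB1.tensorMod (CohB1.tensorPow L n) L').restrict (f ⁻¹ᵁ V.1.1).ι) := fun V => by
    haveI : LocallyOfFiniteType (f ∣_ V.1.1) :=
      MorphismProperty.of_isPullback (P := @LocallyOfFiniteType) (isPullback_morphismRestrict f V.1.1).flip ‹_›
    refine (ProjUPLib.eventually_veryAmple (f ∣_ V.1.1) (h.2 V.1)
      (TensorMod.isInvertible_restrict hL' (f ⁻¹ᵁ V.1.1).ι)).mono fun n hn => ?_
    exact SymAlgRel.isRelVeryAmple_of_iso (SymAlgRel.isRelVeryAmple_of_Pn hn)
      (TensorMod.tensorIso (TensorMod.restrictPowIso _ L n).symm (Iso.refl _) ≪≫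
        (TensorMod.restrictTensorIso _ _ _).symm)
  obtain ⟨n₀, hn₀⟩ := Filter.eventually_atTop.1 (Filter.eventually_all.2 H)
  exact ⟨n₀, fun n hn => SymAlgRel.isRelVeryAmple_of_openCover
    (TensorMod.isInvertible_tensorMod (TensorMod.isInvertible_tensorPow hL n) hL') (fun V : t => V.1.1) hcov
    (hn₀ n hn)⟩

end Groth.Agent.S12479
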