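import Groth.Statements.S12480
import Groth.Agent.SymAlgRel.VASections

set_option autoImplicit false
universe u
open CategoryTheory CategoryTheory.Limits AlgebraicGeometry TopologicalSpace Opposite
open scoped HomogeneousIdeal
open EGA2

namespace Groth.Agent.S12480
open Groth.Agent.QCohBase Groth.Agent.GenLocus

/-- Let X be a quasi-affine scheme and L an invertible O_X-module. Then L is very ample relative to the
canonical morphism u : X → Spec Γ(X, O_X): there are a quasi-coherent module E on that spectrum and
an immersion i of X into the projective bundle P(E), compatible with u, with L isomorphic to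
i^*O_{P(E)}(1). (The published statement adds that L is then ample; that assertion is stated
separately.) -/
theorem result (X : Scheme.{u}) [X.IsQuasiAffine] (L : X.Modules)
    (hL : PicF.IsInvertible L) : RelProj.IsRelVeryAmple X.toSpecΓ L := by
  haveI : CompactSpace X := Scheme.IsQuasiAffine.toCompactSpace
  refine SymAlgRel.isRelVeryAmple_of_sections hL fun x => ?_
  obtain ⟨V, hV, hxV, -, e, he⟩ := exists_isFrame hL (show x ∈ (⊤ : X.Opens) from trivial)
  let U := X.toSpecΓ ''ᵁ V
  have hUV : X.toSpecΓ ⁻¹ᵁ U = V := X.toSpecΓ.preimage_image_eq V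
  refine ⟨U, hV.image_of_isOpenImmersion X.toSpecΓ, mres L hUV.le e, X.toSpecΓ ⁻¹ᵁ U, le_rfl, hUV.ge hxV,
    hUV.symm ▸ hV, ?_, fun G hG _ => hG, ?_⟩
  · rw [mres_mres]
    exact he.res _
  · refine eq_top_iff.2 fun z _ => Subring.subset_closure (Or.inl ?_)
    haveI := X.toSpecΓ.isIso_app U (X.toSpecΓ.image_le_opensRange V)
    obtain ⟨r, hr⟩ := ((ConcreteCategory.isIso_iff_bijective (X.toSpecΓ.app U)).1 inferInstance).2 z
    exact ⟨r, by rw [← hr, Scheme.Hom.app_eq_appLE]⟩

end Groth.Agent.S12480
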