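import Groth.Statements.S12491
import Groth.Agent.CAlgReg.AusBuch
import Groth.Agent.RegUFD.Basic
import Groth.Agent.QGorLib.Depth

open IsLocalRing in
theorem Groth.Agent.S12491.free_of_syzygy.{v} {R : Type v} [CommRing R] [IsRegularLocalRing R] (k : ℕ)
    (hk : ringKrullDim R ≤ (k : ℕ∞)) (M : ℕ → Type v) [∀ i, AddCommGroup (M i)] [∀ i, Module R (M i)]
    [Module.Finite R (M 0)]
    (hfree : ∀ i, 1 ≤ i → i ≤ k → Module.Free R (M i) ∧ Module.Finite R (M i))
    (d : ∀ i, M i →ₗ[R] M (i + 1)) (hinj : Function.Injective (d 0))
    (hex : ∀ i, i + 1 < k → LinearMap.range (d i) = LinearMap.ker (d (i + 1))) : Module.Free R (M 0) := by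
  haveI : IsNoetherianRing R := inferInstance
  obtain ⟨D, hD⟩ := Groth.Agent.CAlgReg.exists_dim (R := R)
  have hDk : D ≤ k := by rw [hD] at hk; exact_mod_cast hk
  have hdR : LocCoh.depth R R = D := Groth.Agent.CAlgReg.depth_self_eq_dim hD
  have hF : ∀ i, 1 ≤ i → i ≤ k → (D : ℕ∞) ≤ LocCoh.depth R (M i) := fun i h1 h2 => by
    obtain ⟨hf, hfin⟩ := hfree i h1 h2
    rcases subsingleton_or_nontrivial (M i) with hs | hs
    · rw [LocCoh.depth, Depth.idealDepth_of_subsingleton]; exact le_top
    · rw [Groth.Agent.CAlgReg.depth_of_free (M i), hdR]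
  rcases subsingleton_or_nontrivial (M 0) with hs | hs
  · exact Module.Free.of_subsingleton R (M 0)
  refine Groth.Agent.CAlgReg.free_of_depth_eq_dim (M 0) ?_
  rw [hD]
  rcases Nat.eq_zero_or_pos k with rfl | hkpos
  · obtain rfl : D = 0 := by omega
    have := Depth.depth_le_ringKrullDim (R := R) (M := M 0)
    rw [hD] at this
    exact le_antisymm this (WithBot.coe_le_coe.2 bot_le)
  have key : ∀ n i, i + 1 + n = k → min ((n + 1 : ℕ) : ℕ∞) D ≤ LocCoh.depth R (LinearMap.range (d i)) := by
    intro n
    induction n with
    | zero =>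
      intro i hi
      obtain ⟨hf, hfin⟩ := hfree (i + 1) (by omega) (by omega)
      rcases Nat.eq_zero_or_pos D with hD0 | hD0
      · subst hD0; simp
      · rw [Nat.cast_one]
        refine (min_le_left _ _).trans (Groth.Agent.QGorLib.one_le_idealDepth_of_injective _ (Submodule.injective_subtype _) ?_)
        exact le_trans (by exact_mod_cast hD0) (hF (i + 1) (by omega) (by omega))
    | succ n ih =>
      intro i hi
      obtain ⟨hf, hfin⟩ := hfree (i + 1) (by omega) (by omega)
      obtain ⟨hf', hfin'⟩ := hfree (i + 2) (by omega) (by omega)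
      have h1 := ih (i + 1) (by omega)
      have he : min ((n + 1 + 1 : ℕ) : ℕ∞) D = ((min (n + 2) D : ℕ) : ℕ∞) := by norm_cast
      rw [he]
      refine Depth.le_idealDepth_left (n := min (n + 2) D) (Submodule.injective_subtype (LinearMap.range (d i)))
        (d (i + 1)).surjective_rangeRestrict (fun y => ?_) ?_ ?_
      · rw [Submodule.coe_subtype, Subtype.range_coe_subtype]
        change _ ↔ y ∈ LinearMap.range (d i)
        rw [hex i (by omega), LinearMap.mem_ker, ← Subtype.coe_inj]
        rfl
      · exact le_trans (by exact_mod_cast min_le_right _ _) (hF (i + 1) (by omega) (by omega))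
      · refine le_trans ?_ (add_le_add h1 le_rfl)
        rw [← (Nat.mono_cast (α := ℕ∞)).map_min]
        exact_mod_cast (show min (n + 2) D ≤ min (n + 1) D + 1 by omega)
  refine le_antisymm ?_ ?_
  · have := Depth.depth_le_ringKrullDim (R := R) (M := M 0)
    rwa [hD] at this
  · have := key (k - 1) 0 (by omega)
    rw [show k - 1 + 1 = k by omega, min_eq_right (by exact_mod_cast hDk)] at this
    haveI hfin1 := (hfree 1 le_rfl hkpos).2
    rw [LocCoh.depth, Depth.idealDepth_congr (LinearEquiv.ofInjective (d 0) hinj)]
    exact WithBot.coe_le_coe.2 this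

set_option autoImplicit false
universe u
open VBPn

namespace Groth.Agent.S12491

/-- Let A be a regular local ring, k ≥ 0, and N_0, N_1, … A-modules with N_0 finitely generated and N_1,
…, N_k finitely generated and free, with linear maps d_i : N_i → N_{i+1} such that d_0 is injective
and the sequence 0 → N_0 → N_1 → ⋯ → N_k is exact. Then for every prime ideal p of A of height at
most k the localization of N_0 at p is a free module over A_p. The published statement is for a
coherent analytic sheaf on a complex manifold that is locally a k-th syzygy sheaf and says its set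
of non-free stalks has codimension greater than k; this row is the statement at one stalk, over any
regular local ring. -/
theorem result (A : Type u) [CommRing A] [IsRegularLocalRing A]
    (k : ℕ) (N : ℕ → Type u) [∀ i, AddCommGroup (N i)] [∀ i, Module A (N i)] [Module.Finite A (N 0)]
    (hfree : ∀ i, 1 ≤ i → i ≤ k → Module.Free A (N i) ∧ Module.Finite A (N i))
    (d : ∀ i, N i →ₗ[A] N (i + 1)) (hinj : Function.Injective (d 0))
    (hex : ∀ i, i + 1 < k → LinearMap.range (d i) = LinearMap.ker (d (i + 1)))
    (p : Ideal A) [p.IsPrime] (hp : p.height ≤ k) :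
    Module.Free (Localization.AtPrime p) (LocalizedModule p.primeCompl (N 0)) := by
  haveI := Groth.Agent.RegUFD.isRegularLocalRing_atPrime A p
  refine Groth.Agent.S12491.free_of_syzygy k ?_ (fun i => LocalizedModule p.primeCompl (N i))
    (fun i h1 h2 => ?_) (fun i => LocalizedModule.map p.primeCompl (d i))
    (LocalizedModule.map_injective _ _ hinj) (fun i hi => ?_)
  · rw [IsLocalization.AtPrime.ringKrullDim_eq_height p]
    exact WithBot.coe_le_coe.2 hp
  · obtain ⟨hf, hfin⟩ := hfree i h1 h2
    exact ⟨Module.free_of_isLocalizedModule p.primeCompl (LocalizedModule.mkLinearMap p.primeCompl (N i)), inferInstance⟩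
  · have h : Function.Exact (LocalizedModule.map p.primeCompl (d i)) (LocalizedModule.map p.primeCompl (d (i + 1))) :=
      LocalizedModule.map_exact p.primeCompl _ _ (LinearMap.exact_iff.2 (hex i hi).symm)
    exact (LinearMap.exact_iff.1 h).symm


end Groth.Agent.S12491
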