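import Groth.Statements.S12498
import Mathlib.RingTheory.Flat.EquationalCriterion


set_option autoImplicit false
universe u
open Deform

namespace Groth.Agent.S12498

/-- Let k be an algebraically closed field, A a local Artinian k-algebra with residue field k, and t a
nonzero element of the maximal ideal m_A annihilated by m_A, so that A → A/tA is a small extension.
Let B be a flat A-algebra (a deformation over A of its closed fibre B_0 = B/m_A B), and σ an
A-algebra automorphism of B/tB inducing the identity on B_0. Fix an A-algebra automorphism τ of B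
inducing σ (so τ induces the identity on B_0). Then the A-algebra automorphisms η of B inducing σ
correspond bijectively to the k-derivations d of B_0 through the rule η = τ + t·d, meaning η(b) =
τ(b) + t b′ for all b ∈ B and all b′ ∈ B lifting d applied to the image of b in B_0: every such η
determines a unique d, and every d comes from some such η. (The published statement phrases the
conclusion as a free and transitive action of Der_k(B_0, B_0) on the nonempty set of lifts of σ; the
condition that σ induces the identity on B_0 is expressed here through the chosen lift τ.) -/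
theorem result
    {k : Type u} [Field k] [IsAlgClosed k]
    {A : Type u} [CommRing A] [Algebra k A] [IsLocalRing A] [IsArtinianRing A]
    (hres : ∀ a : A, ∃ c : k, a - algebraMap k A c ∈ IsLocalRing.maximalIdeal A)
    (t : A) (ht : t ∈ IsLocalRing.maximalIdeal A) (ht0 : t ≠ 0)
    (htm : ∀ a ∈ IsLocalRing.maximalIdeal A, a * t = 0)
    {B : Type u} [CommRing B] [Algebra A B] [Module.Flat A B] [Algebra k B] [IsScalarTower k A B]
    (σ : (B ⧸ Ideal.span {algebraMap A B t}) ≃ₐ[A] (B ⧸ Ideal.span {algebraMap A B t}))
    (τ : B ≃ₐ[A] B)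
    (hτ : ∀ b : B, Ideal.Quotient.mk (Ideal.span {algebraMap A B t}) (τ b) =
      σ (Ideal.Quotient.mk (Ideal.span {algebraMap A B t}) b))
    (hτ0 : ∀ b : B, τ b - b ∈ (IsLocalRing.maximalIdeal A).map (algebraMap A B)) :
    (∀ η : B ≃ₐ[A] B, (∀ b : B, Ideal.Quotient.mk (Ideal.span {algebraMap A B t}) (η b) =
        σ (Ideal.Quotient.mk (Ideal.span {algebraMap A B t}) b)) →
      ∃! d : Derivation k (B ⧸ (IsLocalRing.maximalIdeal A).map (algebraMap A B))
          (B ⧸ (IsLocalRing.maximalIdeal A).map (algebraMap A B)),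
        ∀ b b' : B, Ideal.Quotient.mk ((IsLocalRing.maximalIdeal A).map (algebraMap A B)) b' =
            d (Ideal.Quotient.mk ((IsLocalRing.maximalIdeal A).map (algebraMap A B)) b) →
          η b = τ b + algebraMap A B t * b') ∧
    (∀ d : Derivation k (B ⧸ (IsLocalRing.maximalIdeal A).map (algebraMap A B))
        (B ⧸ (IsLocalRing.maximalIdeal A).map (algebraMap A B)),
      ∃ η : B ≃ₐ[A] B, (∀ b : B, Ideal.Quotient.mk (Ideal.span {algebraMap A B t}) (η b) =
          σ (Ideal.Quotient.mk (Ideal.span {algebraMap A B t}) b)) ∧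
        ∀ b b' : B, Ideal.Quotient.mk ((IsLocalRing.maximalIdeal A).map (algebraMap A B)) b' =
            d (Ideal.Quotient.mk ((IsLocalRing.maximalIdeal A).map (algebraMap A B)) b) →
          η b = τ b + algebraMap A B t * b') := by
  classical
  let I : Ideal B := (IsLocalRing.maximalIdeal A).map (algebraMap A B)
  let T : B := algebraMap A B t
  change (∀ η : B ≃ₐ[A] B, (∀ b : B, Ideal.Quotient.mk (Ideal.span {T}) (η b) =
        σ (Ideal.Quotient.mk (Ideal.span {T}) b)) →
      ∃! d : Derivation k (B ⧸ I) (B ⧸ I), ∀ b b' : B,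
        Ideal.Quotient.mk I b' = d (Ideal.Quotient.mk I b) → η b = τ b + T * b') ∧
    (∀ d : Derivation k (B ⧸ I) (B ⧸ I), ∃ η : B ≃ₐ[A] B,
      (∀ b : B, Ideal.Quotient.mk (Ideal.span {T}) (η b) = σ (Ideal.Quotient.mk (Ideal.span {T}) b)) ∧
        ∀ b b' : B, Ideal.Quotient.mk I b' = d (Ideal.Quotient.mk I b) → η b = τ b + T * b')
  have hTI : T ∈ I := Ideal.mem_map_of_mem _ ht
  have hT0 : ∀ c ∈ I, T * c = 0 := by
    intro c hc
    have h : I ≤ LinearMap.ker (LinearMap.mulLeft B T) :=
      Ideal.map_le_iff_le_comap.2 fun a ha => by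
        show T * algebraMap A B a = 0
        rw [mul_comm, ← map_mul, htm a ha, map_zero]
    exact h hc
  have hTc : ∀ c, T * c = 0 → c ∈ I := by
    intro c hc
    obtain ⟨l, a, y, hy, ha⟩ := Module.Flat.isTrivialRelation_of_sum_smul_eq_zero (R := A) (M := B) (ι := Fin 1)
      (f := fun _ => t) (x := fun _ => c) (by simpa [Algebra.smul_def, T] using hc)
    rw [show c = _ from hy 0]
    refine Ideal.sum_mem _ fun j _ => ?_
    rw [Algebra.smul_def]
    refine I.mul_mem_right _ (Ideal.mem_map_of_mem _ ((IsLocalRing.mem_maximalIdeal _).2 fun hu => ht0 ?_))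
    have h := ha j
    rw [Fin.sum_univ_one] at h
    exact hu.mul_left_eq_zero.1 h
  have hT : ∀ c c', T * c = T * c' ↔ Ideal.Quotient.mk I c = Ideal.Quotient.mk I c' := fun c c' => by
    rw [Ideal.Quotient.eq, ← sub_eq_zero, ← mul_sub]
    exact ⟨hTc _, hT0 _⟩
  have hτI : ∀ b, Ideal.Quotient.mk I (τ b) = Ideal.Quotient.mk I b := fun b => Ideal.Quotient.eq.2 (hτ0 b)
  have hτT : ∀ c, τ (T * c) = T * τ c := fun c => by rw [map_mul, τ.commutes]
  have hmul : ∀ b c u v : B, (τ b + T * u) * (τ c + T * v) = τ b * τ c + T * (τ b * v + τ c * u) := fun b c u v => by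
    linear_combination (u * v) * hT0 T hTI
  have hex : ∀ (g : B → B), (∀ b, Ideal.Quotient.mk (Ideal.span {T}) (g b) = σ (Ideal.Quotient.mk (Ideal.span {T}) b)) →
      ∀ b, ∃ c, g b = τ b + T * c := fun g hg b => by
    have h : g b - τ b ∈ Ideal.span {T} := Ideal.Quotient.eq.1 ((hg b).trans (hτ b).symm)
    obtain ⟨c, hc⟩ := Ideal.mem_span_singleton'.1 h
    exact ⟨c, by linear_combination -hc⟩
  constructor
  · intro η hη
    choose δ hδ using hex η hη
    let δ' : B → B ⧸ I := fun b => Ideal.Quotient.mk I (δ b)
    have hadd : ∀ b c, δ' (b + c) = δ' b + δ' c := fun b c => by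
      refine Eq.trans ?_ (map_add (Ideal.Quotient.mk I) _ _)
      refine (hT _ _).1 ?_
      linear_combination (map_add η b c) - hδ (b + c) + hδ b + hδ c - (map_add τ b c)
    have hleib : ∀ b c, δ' (b * c) = Ideal.Quotient.mk I b * δ' c + Ideal.Quotient.mk I c * δ' b := fun b c => by
      rw [← hτI b, ← hτI c]
      refine Eq.trans ?_ (show Ideal.Quotient.mk I (τ b * δ c + τ c * δ b) = _ by simp [δ'])
      refine (hT _ _).1 ?_
      have h := map_mul η b c
      rw [hδ, hδ b, hδ c, hmul, map_mul] at h
      linear_combination h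
    have halg : ∀ a, δ' (algebraMap A B a) = 0 := fun a => by
      refine (Ideal.Quotient.eq_zero_iff_mem).2 (hTc _ ?_)
      have h := hδ (algebraMap A B a)
      rw [η.commutes, τ.commutes] at h
      linear_combination -h
    have hI : ∀ b ∈ I, δ' b = 0 := fun b hb => by
      refine Submodule.span_induction ?_ ?_ ?_ ?_ hb
      · rintro _ ⟨a, -, rfl⟩
        exact halg a
      · simpa using halg 0
      · intro x y _ _ hx hy
        rw [hadd, hx, hy, add_zero]
      · intro r x hx hx0
        rw [smul_eq_mul, hleib, hx0, Ideal.Quotient.eq_zero_iff_mem.2 (show x ∈ I from hx), zero_mul, mul_zero, add_zero]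
    have hwd : ∀ b c, Ideal.Quotient.mk I b = Ideal.Quotient.mk I c → δ' b = δ' c := fun b c h => by
      have := hI _ (Ideal.Quotient.eq.1 h)
      have h2 := hadd (b - c) c
      rw [sub_add_cancel, this, zero_add] at h2
      exact h2
    let f : B ⧸ I → B ⧸ I := fun x => δ' (Function.surjInv Ideal.Quotient.mk_surjective x)
    have hf : ∀ b, f (Ideal.Quotient.mk I b) = δ' b := fun b => hwd _ _ (Function.surjInv_eq _ _)
    have hfadd : ∀ x y, f (x + y) = f x + f y := fun x y => by
      obtain ⟨b, rfl⟩ := Ideal.Quotient.mk_surjective x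
      obtain ⟨c, rfl⟩ := Ideal.Quotient.mk_surjective y
      rw [← map_add, hf, hf, hf, hadd]
    let fl : B ⧸ I →ₗ[k] B ⧸ I :=
      { toFun := f
        map_add' := hfadd
        map_smul' := fun r x => by
          obtain ⟨b, rfl⟩ := Ideal.Quotient.mk_surjective x
          rw [RingHom.id_apply, hf, Algebra.smul_def, IsScalarTower.algebraMap_apply k B (B ⧸ I),
            Ideal.Quotient.algebraMap_eq, ← map_mul, hf, hleib, IsScalarTower.algebraMap_apply k A B, halg,
            mul_zero, add_zero, ← IsScalarTower.algebraMap_apply k A B, ← Ideal.Quotient.algebraMap_eq,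
            ← IsScalarTower.algebraMap_apply k B (B ⧸ I), Algebra.smul_def] }
    refine ⟨Derivation.mk' fl fun x y => ?_, ?_, ?_⟩
    · obtain ⟨b, rfl⟩ := Ideal.Quotient.mk_surjective x
      obtain ⟨c, rfl⟩ := Ideal.Quotient.mk_surjective y
      show f _ = _ • f _ + _ • f _
      rw [← map_mul, hf, hf, hf, hleib, smul_eq_mul, smul_eq_mul]
    · intro b b' h
      have h2 : Ideal.Quotient.mk I b' = δ' b := h.trans (hf b)
      rw [hδ, (hT _ _).2 h2]
    · intro d hd
      refine Derivation.ext fun x => ?_
      obtain ⟨b, rfl⟩ := Ideal.Quotient.mk_surjective x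
      obtain ⟨b', hb'⟩ := Ideal.Quotient.mk_surjective (d (Ideal.Quotient.mk I b))
      have h2 := hd b b' hb'
      rw [hδ] at h2
      show _ = f _
      rw [hf, ← hb']
      exact ((hT _ _).1 (add_left_cancel h2)).symm
  · intro d
    have hs : Function.Surjective (Ideal.Quotient.mk I) := Ideal.Quotient.mk_surjective
    let D : B → B := fun b => Function.surjInv hs (d (Ideal.Quotient.mk I b))
    have hD : ∀ b, Ideal.Quotient.mk I (D b) = d (Ideal.Quotient.mk I b) := fun b => Function.surjInv_eq hs _
    have hdA : ∀ a, d (Ideal.Quotient.mk I (algebraMap A B a)) = 0 := fun a => by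
      obtain ⟨c, hc⟩ := hres a
      rw [Ideal.Quotient.eq.2 (show algebraMap A B a - algebraMap A B (algebraMap k A c) ∈ I by
        rw [← map_sub]; exact Ideal.mem_map_of_mem _ hc), ← IsScalarTower.algebraMap_apply k A B,
        ← Ideal.Quotient.algebraMap_eq, ← IsScalarTower.algebraMap_apply k B (B ⧸ I)]
      exact d.map_algebraMap c
    have hres' : ∀ a, T * D (algebraMap A B a) = 0 := fun a =>
      hT0 _ (Ideal.Quotient.eq_zero_iff_mem.1 ((hD _).trans (hdA a)))
    let g : B →ₐ[A] B :=
      { toFun := fun b => τ b + T * D b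
        map_one' := by
          have h := hres' 1
          rw [map_one] at h
          simp [h]
        map_mul' := fun b c => by
          rw [hmul, map_mul, (hT (D (b * c)) (τ b * D c + τ c * D b)).2]
          simp [hD, hτI]
        map_zero' := by
          have h := hres' 0
          rw [map_zero] at h
          simp [h]
        map_add' := fun b c => by
          rw [map_add, (hT (D (b + c)) (D b + D c)).2 (by simp [hD])]
          ring
        commutes' := fun a => by simp [hres'] }
    have hg : ∀ b, g b = τ b + T * D b := fun _ => rfl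
    have hgT : ∀ c, g (T * c) = T * τ c := fun c => by
      rw [map_mul, g.commutes, hg, mul_add, ← mul_assoc, hT0 T hTI, zero_mul, add_zero]
    have hbij : Function.Bijective g := by
      constructor
      · refine (injective_iff_map_eq_zero g).2 fun b hb => ?_
        have hbT : b ∈ Ideal.span {T} := by
          have h1 : σ (Ideal.Quotient.mk (Ideal.span {T}) b) = 0 := by
            rw [← hτ, Ideal.Quotient.eq_zero_iff_mem, Ideal.mem_span_singleton']
            exact ⟨-D b, by linear_combination (hb.symm.trans (hg b))⟩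
          exact Ideal.Quotient.eq_zero_iff_mem.1 (σ.map_eq_zero_iff.1 h1)
        obtain ⟨c, rfl⟩ := Ideal.mem_span_singleton'.1 hbT
        rw [mul_comm c T] at hb ⊢
        rw [hgT] at hb
        have h := hTc _ hb
        exact hT0 c (by simpa using I.sub_mem h (hτ0 c))
      · intro y
        refine ⟨τ.symm y - T * τ.symm (D (τ.symm y)), ?_⟩
        rw [map_sub, hgT, hg, AlgEquiv.apply_symm_apply, AlgEquiv.apply_symm_apply, add_sub_cancel_right]
    refine ⟨AlgEquiv.ofBijective g hbij, fun b => ?_, fun b b' h => ?_⟩
    · show Ideal.Quotient.mk _ (g b) = _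
      rw [hg, map_add, hτ, map_mul, Ideal.Quotient.eq_zero_iff_mem.2 (Ideal.mem_span_singleton_self T), zero_mul,
        add_zero]
    · show g b = _
      rw [hg, (hT (D b) b').2 ((hD b).trans h.symm)]

end Groth.Agent.S12498
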