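import Groth.Statements.S12504
import Groth.Agent.SiteDer.KInjPush
import Groth.Agent.SiteDer.Adj

set_option autoImplicit false
universe v u
open CategoryTheory CategoryTheory.Limits
attribute [local instance] HasDerivedCategory.standard
open CohDer


namespace Groth.Agent.S12504

set_option backward.isDefEq.respectTransparency false
set_option backward.defeqAttrib.useBackward true

/-- Let A and B be abelian categories with B a Grothendieck category, F : A → B an exact additive
functor with right adjoint G, and RG : D(B) → D(A) a right derived functor of G on the unbounded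
derived categories, i.e. a functor equipped with a natural transformation α from the composite 'G
termwise on cochain complexes, then localisation' to 'localisation, then RG' that makes (RG, α) a
right derived functor with respect to quasi-isomorphisms. Then the functor D(A) → D(B) induced by F
is left adjoint to RG (existence of an adjunction; the existence of RG itself is assumed, as a
binder). -/
theorem result
    {A : Type u} [Category.{v} A] [Abelian A] {B : Type u} [Category.{v} B] [Abelian B]
    [IsGrothendieckAbelian.{v} B]
    (F : A ⥤ B) (G : B ⥤ A) (adj : F ⊣ G) [F.Additive] [G.Additive]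
    [PreservesFiniteLimits F] [PreservesFiniteColimits F]
    (RG : DerivedCategory B ⥤ DerivedCategory A)
    (α : G.mapHomologicalComplex (ComplexShape.up ℤ) ⋙ DerivedCategory.Q ⟶ DerivedCategory.Q ⋙ RG)
    [RG.IsRightDerivedFunctor α (HomologicalComplex.quasiIso B (ComplexShape.up ℤ))] :
    Nonempty (F.mapDerivedCategory ⊣ RG) := by
  have hinj : ∀ K : CochainComplex B ℤ, ∃ (I : CochainComplex B ℤ) (f : K ⟶ I), I.IsKInjective ∧ QuasiIso f :=
    Groth.Agent.SiteDer.exists_kInj
  let F₀ := G.mapHomotopyCategory (ComplexShape.up ℤ) ⋙ DerivedCategory.Qh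
  let W₂ := HomotopyCategory.quasiIso B (ComplexShape.up ℤ)
  let W := HomologicalComplex.quasiIso B (ComplexShape.up ℤ)
  haveI : F₀.HasRightDerivedFunctor W₂ := (Groth.Agent.S1032.result hinj F₀).1
  obtain ⟨adj'⟩ := Groth.Agent.SiteDer.nonempty_derivedAdjunction F G adj
  let tot := F₀.totalRightDerived DerivedCategory.Qh W₂
  let β := F₀.totalRightDerivedUnit DerivedCategory.Qh W₂
  let cA := DerivedCategory.quotientCompQhIso A
  let cB := DerivedCategory.quotientCompQhIso B
  let γ : G.mapHomologicalComplex (ComplexShape.up ℤ) ⋙ DerivedCategory.Q ⟶ DerivedCategory.Q ⋙ tot :=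
    { app := fun K => cA.inv.app _ ≫ β.app ((HomotopyCategory.quotient _ _).obj K) ≫ tot.map (cB.hom.app K)
      naturality := fun K L g => by
        have h1 := β.naturality ((HomotopyCategory.quotient _ _).map g)
        have h2 := congrArg tot.map (cB.hom.naturality g)
        have h3 := cA.inv.naturality ((G.mapHomologicalComplex (ComplexShape.up ℤ)).map g)
        simp only [Functor.comp_map, Functor.map_comp, F₀] at h1 h2 h3 ⊢
        rw [← Category.assoc, h3, Category.assoc, Category.assoc, Category.assoc, ← h2]
        exact congrArg (cA.inv.app _ ≫ ·) ((Category.assoc _ _ _).symm.trans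
          ((congrArg (· ≫ tot.map (cB.hom.app L)) h1).trans (Category.assoc _ _ _))) }
  let aT : ∀ Z : HomotopyCategory B (ComplexShape.up ℤ), F₀.obj Z ⟶ RG.obj (DerivedCategory.Qh.obj Z) :=
    fun Z => cA.hom.app ((G.mapHomologicalComplex _).obj Z.as) ≫ α.app Z.as ≫ RG.map (cB.inv.app Z.as)
  let αh : F₀ ⟶ DerivedCategory.Qh ⋙ RG :=
    { app := aT
      naturality := by
        rintro ⟨K⟩ ⟨L⟩ g
        obtain ⟨g, rfl⟩ := (HomotopyCategory.quotient B (ComplexShape.up ℤ)).map_surjective g
        have h1 := α.naturality g
        have h2 := congrArg RG.map (cB.inv.naturality g)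
        have h3 := cA.hom.naturality ((G.mapHomologicalComplex (ComplexShape.up ℤ)).map g)
        simp only [Functor.comp_map, Functor.map_comp, aT] at h1 h2 h3 ⊢
        refine Eq.trans ((Category.assoc _ _ _).symm.trans (congrArg (· ≫ (α.app L ≫ RG.map (cB.inv.app L))) h3)) ?_
        rw [Category.assoc, Category.assoc]
        refine congrArg (cA.hom.app _ ≫ ·) ?_
        rw [← Category.assoc, h1, Category.assoc, Category.assoc]
        exact congrArg (α.app K ≫ ·) h2 }
  let u : RG ⟶ tot := RG.rightDerivedDesc α W tot γ
  let w : tot ⟶ RG := tot.rightDerivedDesc β W₂ RG αh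
  let e : RG ≅ tot :=
    { hom := u
      inv := w
      hom_inv_id := RG.rightDerived_ext α W _ _ _ <| by
        ext K
        have hu := RG.rightDerived_fac_app α W tot γ K
        have hw := tot.rightDerived_fac_app β W₂ RG αh ((HomotopyCategory.quotient _ _).obj K)
        change α.app K ≫ u.app _ ≫ w.app _ = α.app K ≫ 𝟙 _
        rw [Category.comp_id, ← Category.assoc, hu]
        change (cA.inv.app _ ≫ β.app _ ≫ tot.map (cB.hom.app K)) ≫ w.app _ = _
        rw [Category.assoc, Category.assoc]
        have h4 := w.naturality (cB.hom.app K)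
        refine (congrArg (fun t => cA.inv.app _ ≫ β.app _ ≫ t) h4).trans ?_
        rw [← Category.assoc (β.app _)]
        refine (congrArg (fun t => cA.inv.app _ ≫ t ≫ RG.map (cB.hom.app K)) hw).trans ?_
        change cA.inv.app _ ≫ (cA.hom.app _ ≫ α.app K ≫ RG.map (cB.inv.app K)) ≫ RG.map (cB.hom.app K) = _
        simp [← Functor.map_comp]
      inv_hom_id := tot.rightDerived_ext β W₂ _ _ _ <| by
        ext ⟨K⟩
        have hu := RG.rightDerived_fac_app α W tot γ K
        have hw := tot.rightDerived_fac_app β W₂ RG αh ((HomotopyCategory.quotient _ _).obj K)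
        change β.app _ ≫ w.app _ ≫ u.app _ = β.app _ ≫ 𝟙 _
        rw [Category.comp_id]
        refine ((Category.assoc _ _ _).symm.trans (congrArg (· ≫ u.app _) hw)).trans ?_
        change (cA.hom.app _ ≫ α.app K ≫ RG.map (cB.inv.app K)) ≫ u.app _ = _
        rw [Category.assoc, Category.assoc]
        have h4 := u.naturality (cB.inv.app K)
        refine (congrArg (fun t => cA.hom.app _ ≫ α.app K ≫ t) h4).trans ?_
        rw [← Category.assoc (α.app K)]
        refine (congrArg (fun t => cA.hom.app _ ≫ t ≫ tot.map (cB.inv.app K)) hu).trans ?_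
        change cA.hom.app _ ≫ (cA.inv.app _ ≫ β.app _ ≫ tot.map (cB.hom.app K)) ≫ tot.map (cB.inv.app K) = _
        simp [← Functor.map_comp]
        exact Category.comp_id _ }
  exact ⟨adj'.ofNatIsoRight e.symm⟩

end Groth.Agent.S12504
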