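import Groth.Statements.S12514
import Groth.Agent.FunFldLib.Galois

set_option autoImplicit false
open FunFld

namespace Groth.Agent.S12514

/-- For a geometric function field of one variable `K/k` and finite extensions `K ⊆ K' ⊆ K''`, the
conorm maps on divisors compose: `N*_{K''/K'} ∘ N*_{K'/K} = N*_{K''/K}`. The companion identity for
norms is not stated. -/
theorem result (k K K' K'' : Type*) [Field k] [Field K] [Field K'] [Field K'']
    [Algebra k K] [Algebra k K'] [Algebra k K''] [Algebra K K'] [Algebra K' K''] [Algebra K K'']
    [IsScalarTower k K K'] [IsScalarTower k K' K''] [IsScalarTower k K K''] [IsScalarTower K K' K'']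
    [FiniteDimensional K K'] [FiniteDimensional K' K'']
    (hK : FunFld.IsFunctionField k K) (hg : FunFld.IsGeometric k K) (D : FunFld.Divisor k K) :
    FunFld.conorm K'' (FunFld.conorm K' D) = FunFld.conorm K'' D := by
  refine Finsupp.ext fun R => ?_
  have hK' := FunFldLib.isFF_extension (K' := K') hK.1
  haveI : FiniteDimensional K K'' := FiniteDimensional.trans K K' K''
  rw [FunFldLib.conorm_apply hK', FunFldLib.conorm_apply hK.1, FunFldLib.conorm_apply hK.1]
  have h1 := FunFldLib.isOverWith_below hK' R
  have h2 := FunFldLib.isOverWith_below hK.1 (FunFldLib.below hK' R)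
  have h3 : FunFld.IsOverWith R (FunFldLib.below hK.1 (FunFldLib.below hK' R))
      (FunFldLib.eAt hK.1 (FunFldLib.below hK' R) * FunFldLib.eAt hK' R) := fun x => by
    rw [IsScalarTower.algebraMap_apply K K' K'', h1, h2, ← pow_mul]
  obtain ⟨a, b⟩ := FunFldLib.place_unique (FunFldLib.isOverWith_below hK.1 R) h3
  rw [a, b]; push_cast; ring

end Groth.Agent.S12514
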