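import Groth.Statements.S12515
import Mathlib

set_option autoImplicit false
open FunFld

namespace Groth.Agent.S12515

/-- If `char k ≠ 2` and `K` has degree `2` over the rational function field `k(x)`, then `K = k(x)(y)`
for some `y` with `y² = f(x)`, `f` a squarefree polynomial over `k`. -/
theorem result (k K : Type*) [Field k] [Field K] (h2 : ringChar k ≠ 2)
    [Algebra (RatFunc k) K] (hdeg : Module.finrank (RatFunc k) K = 2) :
    ∃ (y : K) (f : Polynomial k), Squarefree f ∧
      y ^ 2 = algebraMap (RatFunc k) K (algebraMap (Polynomial k) (RatFunc k) f) ∧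
      IntermediateField.adjoin (RatFunc k) ({y} : Set K) = ⊤ := by
  classical
  haveI : FiniteDimensional (RatFunc k) K := Module.finite_of_finrank_eq_succ hdeg
  have hk2 : (2 : k) ≠ 0 := Ring.two_ne_zero h2
  have hF2 : (2 : RatFunc k) ≠ 0 := by
    rw [← map_ofNat (algebraMap k (RatFunc k)) 2]; simpa using hk2
  have h2K : (2 : K) ≠ 0 := by
    rw [← map_ofNat (algebraMap (RatFunc k) K) 2]; simpa using hF2
  obtain ⟨θ, hθ⟩ : ∃ θ : K, θ ∉ (⊥ : IntermediateField (RatFunc k) K) := by
    by_contra h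
    push Not at h
    have : (⊥ : IntermediateField (RatFunc k) K) = ⊤ := eq_top_iff.2 fun x _ => h x
    rw [IntermediateField.bot_eq_top_iff_finrank_eq_one] at this
    omega
  have hint : IsIntegral (RatFunc k) θ := IsIntegral.of_finite _ θ
  have hdeg2 : (minpoly (RatFunc k) θ).natDegree = 2 := by
    have h1 : (minpoly (RatFunc k) θ).natDegree ∣ 2 := hdeg ▸ minpoly.degree_dvd hint
    rcases (Nat.dvd_prime Nat.prime_two).1 h1 with h | h
    · refine absurd ?_ hθ
      rw [IntermediateField.mem_bot]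
      exact minpoly.natDegree_eq_one_iff.1 h
    · exact h
  obtain ⟨b, c, heq⟩ : ∃ b c : RatFunc k,
      θ ^ 2 + algebraMap (RatFunc k) K b * θ + algebraMap (RatFunc k) K c = 0 := by
    refine ⟨(minpoly (RatFunc k) θ).coeff 1, (minpoly (RatFunc k) θ).coeff 0, ?_⟩
    have h := minpoly.aeval (RatFunc k) θ
    rw [Polynomial.aeval_eq_sum_range, hdeg2] at h
    have hlead : (minpoly (RatFunc k) θ).coeff 2 = 1 := by
      rw [← hdeg2]; exact minpoly.monic hint
    simp only [Finset.sum_range_succ, Finset.sum_range_zero, zero_add, hlead, pow_zero, pow_one,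
      one_smul, Algebra.smul_def, mul_one] at h
    rw [map_one, one_mul] at h
    linear_combination h
  set y₀ := 2 * θ + algebraMap (RatFunc k) K b with hy₀
  have hy₀n : y₀ ∉ (⊥ : IntermediateField (RatFunc k) K) := fun h => hθ (by
    obtain ⟨z, hz⟩ := IntermediateField.mem_bot.1 h
    exact IntermediateField.mem_bot.2 ⟨(z - b) / 2, by rw [map_div₀, map_sub, hz, map_ofNat, hy₀]; field_simp; ring⟩)
  have hsq : y₀ ^ 2 = algebraMap (RatFunc k) K (b ^ 2 - 4 * c) := by
    rw [hy₀, map_sub, map_mul, map_pow, map_ofNat]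
    linear_combination 4 * heq
  set r : RatFunc k := b ^ 2 - 4 * c
  have hr0 : r ≠ 0 := fun h => hy₀n (by
    rw [h, map_zero, pow_eq_zero_iff two_ne_zero] at hsq
    rw [hsq]; exact zero_mem _)
  have hsf : ∀ P : Polynomial k, P ≠ 0 → ∃ s f : Polynomial k, Squarefree f ∧ s ≠ 0 ∧ P = s ^ 2 * f := by
    intro P
    induction P using UniqueFactorizationMonoid.induction_on_prime with
    | h₁ => intro h; exact absurd rfl h
    | h₂ P hP => intro _; exact ⟨1, P, hP.squarefree, one_ne_zero, by ring⟩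
    | h₃ P π hP hπ ih =>
      intro _
      obtain ⟨s, f, hf, hs, hPe⟩ := ih hP
      by_cases hd : π ∣ f
      · obtain ⟨g, hg⟩ := hd
        exact ⟨s * π, g, hf.squarefree_of_dvd ⟨π, by rw [hg, mul_comm]⟩, mul_ne_zero hs hπ.ne_zero,
          by rw [hPe, hg]; ring⟩
      · exact ⟨s, π * f, squarefree_mul_iff.2 ⟨hπ.irreducible.isRelPrime_iff_not_dvd.2 hd, hπ.squarefree, hf⟩, hs,
          by rw [hPe]; ring⟩
  obtain ⟨s, f, hf, hs, hsfe⟩ := hsf (r.num * r.denom)
    (mul_ne_zero (RatFunc.num_ne_zero hr0) (RatFunc.denom_ne_zero r))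
  let e : Polynomial k →+* K := (algebraMap (RatFunc k) K).comp (algebraMap (Polynomial k) (RatFunc k))
  have hinj : Function.Injective e :=
    (algebraMap (RatFunc k) K).injective.comp (RatFunc.algebraMap_injective k)
  have hes : e s ≠ 0 := (map_ne_zero_iff e hinj).2 hs
  have hed : e r.denom ≠ 0 := (map_ne_zero_iff e hinj).2 (RatFunc.denom_ne_zero r)
  refine ⟨y₀ * e r.denom / e s, f, hf, ?_, ?_⟩
  · have hr : algebraMap (RatFunc k) K r = e r.num / e r.denom := by
      conv_lhs => rw [← RatFunc.num_div_denom r, map_div₀]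
      rfl
    rw [div_pow, mul_pow, hsq, hr, div_eq_iff (pow_ne_zero 2 hes)]
    change _ = e f * e s ^ 2
    rw [← map_pow e s, ← map_mul, mul_comm f, ← hsfe, map_mul]
    field_simp
  · refine ((IntermediateField.isSimpleOrder_of_finrank_prime (RatFunc k) K (hdeg ▸ Nat.prime_two)).eq_bot_or_eq_top _).resolve_left ?_
    intro h
    rw [IntermediateField.adjoin_simple_eq_bot_iff, IntermediateField.mem_bot] at h
    obtain ⟨z, hz⟩ := h
    exact hy₀n (IntermediateField.mem_bot.2 ⟨z * algebraMap _ (RatFunc k) s / algebraMap _ (RatFunc k) r.denom, by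
      rw [map_div₀, map_mul, hz]; change _ / _ * e s / e r.denom = y₀; field_simp⟩)

end Groth.Agent.S12515
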