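import Groth.Statements.S12516
import Groth.Agent.FunFldLib.RatPlace
import Groth.Agent.FunFldLib.QuadPlace
import Groth.Agent.FunFldLib.Galois

set_option autoImplicit false
open FunFld

namespace Groth.Agent.S12516

open WithZero Groth.Agent.FunFldLib Polynomial in
theorem core {k K : Type*} [Field k] [Field K] [Algebra k K] [Algebra (RatFunc k) K] [IsScalarTower k (RatFunc k) K]
    [FiniteDimensional (RatFunc k) K] (h2 : (2 : k) ≠ 0)
    (hdeg : Module.finrank (RatFunc k) K = 2) (y : K) (f : Polynomial k) (hf : Squarefree f) (hd : 1 ≤ f.natDegree)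
    (heq : y ^ 2 = algebraMap (RatFunc k) K (algebraMap (Polynomial k) (RatFunc k) f))
    (Pinf : FunFld.Place k (RatFunc k)) (hinf : Pinf.ord (RatFunc.X : RatFunc k) < 0) :
    (Odd f.natDegree → (∃! P : FunFld.Place k K, FunFld.IsOver P Pinf) ∧
      ∀ P : FunFld.Place k K, FunFld.IsOver P Pinf → FunFld.IsOverWith P Pinf 2 ∧ P.deg = 1) ∧
    (Even f.natDegree → (FunFld.conorm K (Finsupp.single Pinf 1)).deg = 2 ∧
      ∀ P : FunFld.Place k K, FunFld.IsOver P Pinf → FunFld.IsOverWith P Pinf 1) := by
  have hF := ratFunc_isFunctionField k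
  have hX : 1 < Pinf.1 RatFunc.X := lt_of_not_ge fun h => by
    have := (val_le_one_iff Pinf RatFunc.X_ne_zero).1 h; omega
  have hdegP : Pinf.deg = 1 := deg_inf Pinf hX
  set F : RatFunc k := algebraMap (Polynomial k) (RatFunc k) f with hFdef
  have hfne : f ≠ 0 := fun h => by simp [h] at hd
  have hPf : Pinf.1 F = exp (f.natDegree : ℤ) := by
    rw [hFdef, poly_val_inf Pinf hX hfne, val_X_inf Pinf hX, ← exp_nsmul, nsmul_eq_mul, mul_one]
  have hordQ : ∀ {Q : FunFld.Place k K} {e : ℕ}, FunFld.IsOverWith Q Pinf e →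
      2 * Q.ord y = -((e : ℤ) * f.natDegree) := fun {Q e} he => by
    have h1 : Q.1 (y ^ 2) = exp ((e : ℤ) * f.natDegree) := by rw [heq, he, hPf, ← exp_nsmul, nsmul_eq_mul]
    rw [map_pow] at h1
    have h3 := congrArg WithZero.log h1
    rw [log_pow, log_exp, nsmul_eq_mul] at h3
    simp only [FunFld.Place.ord]
    push_cast at h3
    omega
  constructor
  · intro hodd
    have key : ∀ (Q : FunFld.Place k K) (e : ℕ), FunFld.IsOverWith Q Pinf e → 2 ≤ e := fun Q e he => by
      have := hordQ he
      by_contra hlt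
      obtain rfl : e = 1 := by have := isOverWith_pos he; omega
      obtain ⟨m, hm⟩ := hodd
      omega
    obtain ⟨Q₀, e₀, hQ₀⟩ := exists_over (K' := K) hF Pinf
    refine ⟨⟨Q₀, ⟨e₀, hQ₀⟩, (ramified_two hF hdeg hQ₀ (key _ _ hQ₀)).2.2⟩, fun Q hQ => ?_⟩
    obtain ⟨e, he⟩ := hQ
    obtain ⟨h2, hd', -⟩ := ramified_two hF hdeg he (key _ _ he)
    exact ⟨h2 ▸ he, hd'.trans hdegP⟩
  · intro heven
    refine ⟨by rw [deg_conorm hF, deg_single, hdeg, hdegP]; norm_num, fun Q hQ => ?_⟩
    obtain ⟨e, he⟩ := hQ
    rcases Nat.lt_or_ge e 2 with h | h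
    · obtain rfl : e = 1 := by have := isOverWith_pos he; omega
      exact he
    exfalso
    obtain ⟨-, hdQ, huniq⟩ := ramified_two hF hdeg he h
    obtain ⟨m, hm⟩ := heven
    set z := y / algebraMap (RatFunc k) K RatFunc.X ^ m with hz
    have hy0 : y ≠ 0 := fun h0 => by
      have := hordQ he
      rw [h0, ord_zero] at this
      have := isOverWith_pos he
      nlinarith
    have hz1 : Q.1 z = 1 := by
      have h3 := hordQ he
      rw [hz, map_div₀, map_pow, he, val_X_inf Pinf hX, val_eq_exp Q hy0, ← exp_nsmul, ← exp_nsmul, ← exp_sub]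
      refine (congrArg exp ?_).trans exp_zero
      simp only [nsmul_eq_mul, mul_one]
      rw [hm] at h3; push_cast at h3 ⊢
      linarith
    obtain ⟨c, -, hc⟩ := exists_residue_below hF.1 he hdQ hz1.le
    have h2F : (2 : RatFunc k) ≠ 0 := by
      rw [← map_ofNat (algebraMap k (RatFunc k)) 2]; exact (_root_.map_ne_zero _).2 h2
    have hsep : Algebra.IsSeparable (RatFunc k) K := by
      refine ⟨fun x => ?_⟩
      have hi : IsIntegral (RatFunc k) x := IsIntegral.of_finite _ x
      rw [IsSeparable, Polynomial.separable_iff_derivative_ne_zero (minpoly.irreducible hi)]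
      intro h0
      have hdvd : (minpoly (RatFunc k) x).natDegree ∣ 2 := hdeg ▸ minpoly.degree_dvd hi
      have hpos := minpoly.natDegree_pos hi
      have h1 := congrArg (fun p => Polynomial.coeff p ((minpoly (RatFunc k) x).natDegree - 1)) h0
      simp only [Polynomial.coeff_derivative, Polynomial.coeff_zero] at h1
      rw [Nat.sub_add_cancel hpos, (minpoly.monic hi).coeff_natDegree, one_mul] at h1
      rcases (Nat.dvd_prime Nat.prime_two).1 hdvd with hd' | hd'
      · rw [hd'] at h1; norm_num at h1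
      · rw [hd'] at h1; exact h2F (by norm_num at h1; exact h1)
    haveI : Algebra.IsQuadraticExtension (RatFunc k) K := ⟨hdeg⟩
    haveI : IsGalois (RatFunc k) K := ⟨⟩
    have hy : y ∉ Set.range (algebraMap (RatFunc k) K) := by
      rintro ⟨r, rfl⟩
      have hr : r ^ 2 = F := (algebraMap (RatFunc k) K).injective (by rw [map_pow, heq])
      have hri : IsIntegral (Polynomial k) (r ^ 2) := by rw [hr, hFdef]; exact isIntegral_algebraMap
      obtain ⟨q, rfl⟩ := IsIntegrallyClosed.exists_algebraMap_eq_of_isIntegral_pow two_pos hri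
      rw [hFdef, ← map_pow] at hr
      have hq := RatFunc.algebraMap_injective k hr
      have hu : IsUnit q := hf q ⟨1, by rw [← hq]; ring⟩
      rw [← hq, natDegree_pow, natDegree_eq_zero_of_isUnit hu] at hd
      omega
    obtain ⟨σ, hσ⟩ : ∃ σ : K ≃ₐ[RatFunc k] K, σ y ≠ y := by
      by_contra! hall
      exact hy (IsGalois.mem_range_algebraMap_iff_fixed y |>.2 hall)
    have hσy : σ y = -y := by
      have h1 : (σ y) ^ 2 = y ^ 2 := by rw [← map_pow, heq, σ.commutes]
      exact (sq_eq_sq_iff_eq_or_eq_neg.1 h1).resolve_left hσ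
    have hfix := huniq (twist σ Q) ⟨e, isOverWith_twist he σ⟩
    have h4 : Q.1 (σ (z - algebraMap _ K c)) < 1 := by rw [← twist_val, hfix]; exact hc
    have hσz : σ z = -z := by rw [hz, map_div₀, map_pow, σ.commutes, hσy, neg_div]
    rw [map_sub, σ.commutes, hσz] at h4
    have h5 : Q.1 ((z - algebraMap _ K c) - (-z - algebraMap _ K c)) < 1 :=
      (Q.1.map_sub _ _).trans_lt (max_lt hc h4)
    rw [show (z - algebraMap _ K c) - (-z - algebraMap _ K c) = (2 : K) * z by ring, map_mul, hz1, mul_one,
      ← map_ofNat (algebraMap k K) 2, val_algebraMap Q h2] at h5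
    exact lt_irrefl _ h5

/-- Let `char k ≠ 2`, `K` of degree `2` over `k(x)`, `y ∈ K` with `y² = f(x)` for a squarefree
polynomial `f` of degree `≥ 1`, and `P∞` the place of `k(x)` at which `x` has a pole. If `deg f` is
odd there is a unique place of `K` above `P∞`; it has ramification index `2` and degree `1`. If `deg
f` is even, every place of `K` above `P∞` is unramified and the conorm of `P∞` has degree `2` (so it
is one place of degree `2` or the sum of two places of degree `1`). -/
theorem result (k K : Type*) [Field k] [Field K] (h2 : ringChar k ≠ 2) [Algebra k K]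
    [Algebra (RatFunc k) K] [IsScalarTower k (RatFunc k) K]
    (hdeg : Module.finrank (RatFunc k) K = 2) (y : K) (f : Polynomial k) (hf : Squarefree f)
    (hd : 1 ≤ f.natDegree)
    (heq : y ^ 2 = algebraMap (RatFunc k) K (algebraMap (Polynomial k) (RatFunc k) f))
    (Pinf : FunFld.Place k (RatFunc k)) (hinf : Pinf.ord (RatFunc.X : RatFunc k) < 0) :
    (Odd f.natDegree → (∃! P : FunFld.Place k K, FunFld.IsOver P Pinf) ∧
      ∀ P : FunFld.Place k K, FunFld.IsOver P Pinf → FunFld.IsOverWith P Pinf 2 ∧ P.deg = 1) ∧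
    (Even f.natDegree → (FunFld.conorm K (Finsupp.single Pinf 1)).deg = 2 ∧
      ∀ P : FunFld.Place k K, FunFld.IsOver P Pinf → FunFld.IsOverWith P Pinf 1) := by
  haveI : FiniteDimensional (RatFunc k) K := Module.finite_of_finrank_eq_succ hdeg
  exact core (Ring.two_ne_zero h2) hdeg y f hf hd heq Pinf hinf

end Groth.Agent.S12516
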