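import Groth.Statements.S12517
import Mathlib

set_option autoImplicit false
open FunFld

namespace Groth.Agent.S12517

/-- If `k` is perfect of characteristic `2` and `K` is a separable extension of degree `2` of the
rational function field `k(x)`, then `K = k(x)(y)` for some `y` with `y² + y = f(x)`, `f ∈ k(x)`.
The correspondence between such extensions and cosets of `{a² + a}` in `k(x)` is not stated. -/
theorem result (k K : Type*) [Field k] [Field K] [PerfectField k]
    (h2 : ringChar k = 2) [Algebra (RatFunc k) K] (hdeg : Module.finrank (RatFunc k) K = 2)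
    [Algebra.IsSeparable (RatFunc k) K] :
    ∃ (y : K) (f : RatFunc k), y ^ 2 + y = algebraMap (RatFunc k) K f ∧
      IntermediateField.adjoin (RatFunc k) ({y} : Set K) = ⊤ := by
  haveI : FiniteDimensional (RatFunc k) K := Module.finite_of_finrank_eq_succ hdeg
  haveI : CharP k 2 := ringChar.of_eq h2
  haveI : CharP (RatFunc k) 2 := charP_of_injective_algebraMap (algebraMap k (RatFunc k)).injective 2
  haveI : CharP K 2 := charP_of_injective_algebraMap (algebraMap (RatFunc k) K).injective 2
  obtain ⟨θ, hθ⟩ : ∃ θ : K, θ ∉ (⊥ : IntermediateField (RatFunc k) K) := by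
    by_contra h
    push Not at h
    have : (⊥ : IntermediateField (RatFunc k) K) = ⊤ := eq_top_iff.2 fun x _ => h x
    rw [IntermediateField.bot_eq_top_iff_finrank_eq_one] at this
    omega
  have hint : IsIntegral (RatFunc k) θ := IsIntegral.of_finite _ θ
  have hdeg2 : (minpoly (RatFunc k) θ).natDegree = 2 := by
    have h1 : (minpoly (RatFunc k) θ).natDegree ∣ 2 := hdeg ▸ minpoly.degree_dvd hint
    rcases (Nat.dvd_prime Nat.prime_two).1 h1 with h | h
    · refine absurd ?_ hθ
      rw [IntermediateField.mem_bot]
      exact minpoly.natDegree_eq_one_iff.1 h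
    · exact h
  set b := (minpoly (RatFunc k) θ).coeff 1 with hb
  set c := (minpoly (RatFunc k) θ).coeff 0 with hc
  have heq : θ ^ 2 + algebraMap (RatFunc k) K b * θ + algebraMap (RatFunc k) K c = 0 := by
    have h := minpoly.aeval (RatFunc k) θ
    rw [Polynomial.aeval_eq_sum_range, hdeg2] at h
    have hlead : (minpoly (RatFunc k) θ).coeff 2 = 1 := by
      rw [← hdeg2]; exact minpoly.monic hint
    simp only [Finset.sum_range_succ, Finset.sum_range_zero, zero_add, hlead, pow_zero, pow_one,
      one_smul, Algebra.smul_def, mul_one] at h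
    rw [map_one, one_mul] at h
    linear_combination h
  have hb0 : b ≠ 0 := by
    intro h0
    have hs : (minpoly (RatFunc k) θ).Separable := Algebra.IsSeparable.isSeparable (RatFunc k) θ
    have hder : Polynomial.derivative (minpoly (RatFunc k) θ) = 0 := by
      ext n
      rw [Polynomial.coeff_derivative, Polynomial.coeff_zero]
      rcases lt_trichotomy n 1 with hn | hn | hn
      · rw [show n = 0 by omega]; rw [zero_add, ← hb, h0, zero_mul]
      · subst hn
        simp [one_add_one_eq_two, CharTwo.two_eq_zero]
      · rw [Polynomial.coeff_eq_zero_of_natDegree_lt (by omega), zero_mul]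
    rw [Polynomial.separable_def, hder, isCoprime_zero_right] at hs
    have := Polynomial.natDegree_eq_zero_of_isUnit hs
    omega
  have hb' : algebraMap (RatFunc k) K b ≠ 0 := by simpa using hb0
  refine ⟨θ / algebraMap (RatFunc k) K b, c / b ^ 2, ?_, ?_⟩
  · rw [map_div₀, map_pow]
    field_simp
    linear_combination heq - (algebraMap (RatFunc k) K c) * (CharTwo.two_eq_zero : (2 : K) = 0)
  · haveI : Fact (Module.finrank (RatFunc k) K).Prime := ⟨hdeg ▸ Nat.prime_two⟩
    refine ((IntermediateField.isSimpleOrder_of_finrank_prime (RatFunc k) K (hdeg ▸ Nat.prime_two)).eq_bot_or_eq_top _).resolve_left ?_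
    intro h
    rw [IntermediateField.adjoin_simple_eq_bot_iff, IntermediateField.mem_bot] at h
    obtain ⟨z, hz⟩ := h
    exact hθ (IntermediateField.mem_bot.2 ⟨z * b, by rw [map_mul, hz, div_mul_cancel₀ _ hb']⟩)

end Groth.Agent.S12517
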