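import Groth.Statements.S12518
import Groth.Agent.S12517
import Groth.Agent.FunFldLib.RatPlace
import Mathlib.FieldTheory.Perfect

set_option autoImplicit false
open FunFld

namespace Groth.Agent.S12518

open WithZero Groth.Agent.FunFldLib in
theorem step {k : Type*} [Field k] [PerfectField k] [CharP k 2] [CharP (RatFunc k) 2] (f : RatFunc k)
    (P : FunFld.Place k (RatFunc k)) (hneg : P.ord f < 0) (heven : ¬ Odd (P.ord f)) :
    ∃ h : RatFunc k, P.1 (f + h ^ 2 + h) < P.1 f ∧
      ∀ Q : FunFld.Place k (RatFunc k), Q ≠ P → Q.1 (f + h ^ 2 + h) ≤ max (Q.1 f) 1 := by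
  classical
  have hK := ratFunc_isFunctionField k
  have hf0 : f ≠ 0 := fun h => by simp [h] at hneg
  obtain ⟨m', hm'⟩ := Int.not_odd_iff_even.1 heven
  set m := (-m').toNat with hm
  have hm1 : 1 ≤ m := by omega
  have hPf : P.1 f = exp ((m : ℤ) + m) := by rw [val_eq_exp P hf0]; congr 1; omega
  obtain ⟨t, ht0, htv⟩ := exists_val_eq P (-1)
  have htm : P.1 (t ^ m) = exp (-(m : ℤ)) := by rw [map_pow, htv, ← exp_nsmul, nsmul_eq_mul]; congr 1; ring
  set a := f * (t ^ m) ^ 2 with ha
  have hav : P.1 a = 1 := by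
    rw [ha, map_mul, map_pow, htm, hPf, sq, ← exp_add, ← exp_add]; exact (congrArg exp (by ring)).trans exp_zero
  haveI : @Module.Finite k (IsLocalRing.ResidueField P.O) _ _ Algebra.toModule := finite_residue hK.1 P
  haveI : Algebra.IsAlgebraic k (IsLocalRing.ResidueField P.O) := Algebra.IsAlgebraic.of_finite k _
  haveI : PerfectField (IsLocalRing.ResidueField P.O) := Algebra.IsAlgebraic.perfectField (K := k)
  haveI : CharP (IsLocalRing.ResidueField P.O) 2 :=
    charP_of_injective_algebraMap (algebraMap k (IsLocalRing.ResidueField P.O)).injective 2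
  haveI : ExpChar (IsLocalRing.ResidueField P.O) 2 := ExpChar.prime Nat.prime_two
  haveI : PerfectRing (IsLocalRing.ResidueField P.O) 2 := PerfectField.toPerfectRing 2
  obtain ⟨b', hb'⟩ := surjective_frobenius (IsLocalRing.ResidueField P.O) 2
    (IsLocalRing.residue P.O ⟨a, (Valuation.mem_valuationSubring_iff P.1 a).2 hav.le⟩)
  obtain ⟨b, rfl⟩ := IsLocalRing.residue_surjective b'
  have hb1 : P.1 (b : RatFunc k) ≤ 1 := (Valuation.mem_valuationSubring_iff P.1 _).1 b.2
  have hba : P.1 ((b : RatFunc k) ^ 2 - a) < 1 := by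
    have h0 : IsLocalRing.residue P.O (b ^ 2 - ⟨a, (Valuation.mem_valuationSubring_iff P.1 a).2 hav.le⟩) = 0 := by
      rw [map_sub, map_pow, ← hb', frobenius_def, sub_self]
    exact (residue_eq_zero_iff_val P _).1 h0
  set g := (b : RatFunc k) / t ^ m with hg
  have hgv : P.1 g ≤ exp (m : ℤ) := by
    rw [hg, map_div₀, htm, div_le_iff₀ exp_pos, ← exp_add, add_neg_cancel, exp_zero]; exact hb1
  obtain ⟨h, hh1, hh2, hh3⟩ := exists_principal P m hm1 g hgv
  refine ⟨h, ?_, fun Q hQ => ?_⟩
  · rw [hPf]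
    have e : f + h ^ 2 + h = (g - h) ^ 2 + (g ^ 2 - f) + h := by
      have h2 : (2 : RatFunc k) = 0 := CharTwo.two_eq_zero
      linear_combination (f + g * h - g ^ 2) * h2
    have hga : g ^ 2 - f = ((b : RatFunc k) ^ 2 - a) / (t ^ m) ^ 2 := by
      rw [hg, ha]; field_simp
    rw [e]
    refine P.1.map_add_lt (P.1.map_add_lt ?_ ?_) (hh1.trans_lt (exp_lt_exp.2 (by omega)))
    · rw [map_pow, exp_add, ← sq]; exact pow_lt_pow_left₀ hh2 zero_le two_ne_zero
    · rw [hga, map_div₀, map_pow P.1 (t ^ m), htm, ← exp_nsmul, div_lt_iff₀ exp_pos, ← exp_add,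
        show ((m : ℤ) + m) + 2 • (-(m : ℤ)) = 0 by simp; ring, exp_zero]
      exact hba
  · have h1 := hh3 Q hQ
    refine (Q.1.map_add _ _).trans (max_le ((Q.1.map_add _ _).trans (max_le (le_max_left _ _) ?_)) (le_max_of_le_right h1))
    rw [map_pow]; exact le_max_of_le_right (pow_le_one₀ zero_le h1)

open WithZero Groth.Agent.FunFldLib in
theorem descent {k : Type*} [Field k] [PerfectField k] [CharP k 2] [CharP (RatFunc k) 2] (f : RatFunc k) :
    ∃ h : RatFunc k, ∀ P : FunFld.Place k (RatFunc k), P.ord (f + h ^ 2 + h) < 0 → Odd (P.ord (f + h ^ 2 + h)) := by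
  classical
  have hK := ratFunc_isFunctionField k
  let E : RatFunc k → FunFld.Divisor k (RatFunc k) := fun g => (-FunFld.div k g) ⊔ 0
  have hE : ∀ g P, E g P = max (-P.ord g) 0 := fun g P => by
    simp only [E, Finsupp.sup_apply, Finsupp.neg_apply, div_apply hK.1, Finsupp.zero_apply]
  induction hn : ((E f).sum fun _ n => n).toNat using Nat.strong_induction_on generalizing f with
  | _ n ih =>
    by_cases hall : ∀ P : FunFld.Place k (RatFunc k), P.ord f < 0 → Odd (P.ord f)
    · exact ⟨0, fun P => by simpa using hall P⟩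
    push Not at hall
    obtain ⟨P, hneg, heven⟩ := hall
    obtain ⟨h, hP, hQ⟩ := step f P hneg heven
    set f' := f + h ^ 2 + h with hf'
    have hf0 : f ≠ 0 := fun h => by simp [h] at hneg
    have hle : ∀ Q, E f' Q ≤ E f Q ∧ (Q = P → E f' Q < E f Q) := fun Q => by
      rw [hE, hE]
      rcases eq_or_ne f' 0 with h0 | h0
      · rw [h0, ord_zero]
        refine ⟨by omega, ?_⟩
        rintro rfl; omega
      rcases eq_or_ne Q P with rfl | hne
      · rw [val_eq_exp Q h0, val_eq_exp Q hf0, exp_lt_exp] at hP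
        exact ⟨by omega, fun _ => by omega⟩
      · refine ⟨?_, fun h' => absurd h' hne⟩
        have h1 := hQ Q hne
        rcases le_max_iff.1 h1 with h2 | h2
        · rw [val_eq_exp Q h0, val_eq_exp Q hf0, exp_le_exp] at h2; omega
        · have := (val_le_one_iff Q h0).1 h2; omega
    have hlt : ((E f').sum fun _ n => n).toNat < n := by
      subst hn
      set S := (E f).support ∪ (E f').support
      rw [Finsupp.sum_of_support_subset _ (Finset.subset_union_right : (E f').support ⊆ S) _ (by simp),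
        Finsupp.sum_of_support_subset _ (Finset.subset_union_left : (E f).support ⊆ S) _ (by simp)]
      have hPS : P ∈ S := Finset.mem_union_left _ (Finsupp.mem_support_iff.2 (by rw [hE]; omega))
      have h1 := Finset.sum_lt_sum (s := S) (fun Q _ => (hle Q).1) ⟨P, hPS, (hle P).2 rfl⟩
      have h2 : 0 ≤ ∑ Q ∈ S, E f' Q := Finset.sum_nonneg fun Q _ => by rw [hE]; exact le_max_right _ _
      show (∑ Q ∈ S, E f' Q).toNat < (∑ Q ∈ S, E f Q).toNat
      omega
    obtain ⟨h', hh'⟩ := ih _ hlt f' rfl
    refine ⟨h + h', fun Q => ?_⟩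
    rw [show f + (h + h') ^ 2 + (h + h') = f' + h' ^ 2 + h' by
      rw [hf', CharTwo.add_sq]; ring]
    exact hh' Q

/-- If `k` is perfect of characteristic `2` and `K` is a separable extension of degree `2` of `k(x)`,
then `K = k(x)(y)` for some `y` with `y² + y = f(x)` such that every pole of `f`, at any place of
`k(x)/k` including the infinite one, has odd order. -/
theorem result (k K : Type*) [Field k] [Field K] [PerfectField k] (h2 : ringChar k = 2)
    [Algebra k K] [Algebra (RatFunc k) K] [IsScalarTower k (RatFunc k) K]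
    (hdeg : Module.finrank (RatFunc k) K = 2) [Algebra.IsSeparable (RatFunc k) K] :
    ∃ (y : K) (f : RatFunc k), y ^ 2 + y = algebraMap (RatFunc k) K f ∧
      IntermediateField.adjoin (RatFunc k) ({y} : Set K) = ⊤ ∧
      ∀ P : FunFld.Place k (RatFunc k), P.ord f < 0 → Odd (P.ord f) := by
  haveI : FiniteDimensional (RatFunc k) K := Module.finite_of_finrank_eq_succ hdeg
  haveI : CharP k 2 := ringChar.of_eq h2
  haveI : CharP (RatFunc k) 2 := charP_of_injective_algebraMap (algebraMap k (RatFunc k)).injective 2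
  haveI : CharP K 2 := charP_of_injective_algebraMap (algebraMap (RatFunc k) K).injective 2
  obtain ⟨y, f, heq, htop⟩ := Groth.Agent.S12517.result k K h2 hdeg
  obtain ⟨h, hh⟩ := descent f
  refine ⟨y + algebraMap (RatFunc k) K h, f + h ^ 2 + h, ?_, ?_, hh⟩
  · rw [map_add, map_add, map_pow, ← heq, CharTwo.add_sq]; ring
  · refine eq_top_iff.2 (htop ▸ ?_)
    rw [IntermediateField.adjoin_simple_le_iff]
    have h1 := IntermediateField.mem_adjoin_simple_self (RatFunc k) (y + algebraMap (RatFunc k) K h)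
    have h3 := sub_mem h1 ((IntermediateField.adjoin (RatFunc k) {y + algebraMap (RatFunc k) K h}).algebraMap_mem h)
    rwa [add_sub_cancel_right] at h3

end Groth.Agent.S12518
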