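import Groth.Statements.S12520
import Groth.Agent.FunFldLib.GeomBasic

set_option autoImplicit false
universe u v
open FunFld

namespace Groth.Agent.S12520

/-- For a geometric function field of one variable `K/k` of characteristic `p > 0` and a geometric
function field `K₀/k₀` with `K₀ ⊆ K` of finite index (and `k₀ ⊆ k` compatibly), the map `Ω_{K₀/k₀} →
Ω_{K/k}` induced by the inclusion vanishes when `K₀ ⊆ kK^p` and is injective otherwise. -/
theorem result (k₀ k : Type u) (K₀ K : Type v) [Field k₀] [Field k] [Field K₀] [Field K]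
    [Algebra k₀ k] [Algebra k₀ K₀] [Algebra k₀ K] [Algebra k K] [Algebra K₀ K]
    [IsScalarTower k₀ k K] [IsScalarTower k₀ K₀ K] [FiniteDimensional K₀ K]
    (p : ℕ) [Fact p.Prime] [CharP K p]
    (hK : FunFld.IsFunctionField k K) (hg : FunFld.IsGeometric k K)
    (hK₀ : FunFld.IsFunctionField k₀ K₀) (hg₀ : FunFld.IsGeometric k₀ K₀) :
    (Set.range (algebraMap K₀ K) ⊆ ↑(IntermediateField.adjoin k (Set.range fun y : K => y ^ p)) →
      KaehlerDifferential.map k₀ k K₀ K = 0) ∧
    (¬ Set.range (algebraMap K₀ K) ⊆ ↑(IntermediateField.adjoin k (Set.range fun y : K => y ^ p)) →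
      Function.Injective (KaehlerDifferential.map k₀ k K₀ K)) := by
  constructor
  · intro hsub
    refine LinearMap.ext_on_range (KaehlerDifferential.span_range_derivation k₀ K₀) fun x => ?_
    rw [KaehlerDifferential.map_D, LinearMap.zero_apply]
    exact (Groth.Agent.FunFldLib.mem_M_iff p hK hg _).1 (hsub ⟨x, rfl⟩)
  · intro hns
    obtain ⟨_, ⟨z, rfl⟩, hz⟩ := Set.not_subset.1 hns
    have hz' : KaehlerDifferential.D k K (algebraMap K₀ K z) ≠ 0 := fun h => hz ((Groth.Agent.FunFldLib.mem_M_iff p hK hg _).2 h)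
    obtain ⟨s, -, -, hs⟩ := Groth.Agent.FunFldLib.exists_d_ne_zero hK₀ hg₀
    have hfin := Groth.Agent.FunFldLib.finrank_omega hK₀ hg₀
    have hz0 : KaehlerDifferential.D k₀ K₀ z ≠ 0 := fun h => hz' (by
      have := KaehlerDifferential.map_D k₀ k K₀ K z
      rw [h, map_zero] at this
      exact this.symm)
    rw [injective_iff_map_eq_zero]
    intro w hw
    obtain ⟨a, rfl⟩ := exists_smul_eq_of_finrank_eq_one hfin hz0 w
    rw [map_smul, KaehlerDifferential.map_D, ← IsScalarTower.algebraMap_smul K a] at hw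
    rcases smul_eq_zero.1 hw with h | h
    · rw [(map_eq_zero _).1 h, zero_smul]
    · exact absurd h hz'

end Groth.Agent.S12520
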