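import Groth.Statements.S12521
import Groth.Agent.FunFldLib.RamGroups

set_option autoImplicit false
open FunFld

namespace Groth.Agent.S12521

/-- For a finite Galois extension `K'/K` of a geometric function field of one variable, a place `Q` of
`K'` with residue field separable over `k`, and `K₁` the inertia field of `Q` (fixed field of the
inertia group), `K'/K₁` is totally ramified at `Q`: the place of `K₁` under `Q` has ramification
index `[K' : K₁]`. (The published hypothesis is that the residue field of `Q` is separable over the
residue field of the place of `K` below `Q`; this row assumes the stronger condition that the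
residue field of `Q` is separable over `k`.) -/
theorem result (k K K' : Type*) [Field k] [Field K] [Field K'] [Algebra k K] [Algebra K K'] [Algebra k K']
    [IsScalarTower k K K'] [FiniteDimensional K K'] (hK : FunFld.IsFunctionField k K) (hg : FunFld.IsGeometric k K)
    [IsGalois K K'] (Q : FunFld.Place k K') [Algebra.IsSeparable k (IsLocalRing.ResidueField Q.O)] :
    let K₁ : IntermediateField K K' := IntermediateField.fixedField
        (((Q.O).inertiaSubgroup K).map ((Q.O).decompositionSubgroup K).subtype)
    ∃ Q₁ : FunFld.Place k K₁, FunFld.IsOverWith Q Q₁ (Module.finrank K₁ K') := by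
  intro K₁
  haveI : IsScalarTower k K₁ K' := IsScalarTower.of_algebraMap_eq fun c => by
    rw [IsScalarTower.algebraMap_apply k K K', IsScalarTower.algebraMap_apply k K K₁, ← IsScalarTower.algebraMap_apply K K₁ K']
  have hK1 : FunFldLib.IsFF k K₁ := FunFldLib.isFF_extension hK.1
  obtain ⟨Q₁, e₁, he₁⟩ := FunFldLib.exists_restrict hK1 Q
  refine ⟨Q₁, ?_⟩
  have hcard := FunFldLib.card_inertia hK1 he₁
  set G : Subgroup (K' ≃ₐ[K] K') := ((Q.O).inertiaSubgroup K).map ((Q.O).decompositionSubgroup K).subtype with hG
  have htop : (Q.O.inertiaSubgroup K₁).map (Q.O.decompositionSubgroup K₁).subtype = ⊤ := by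
    refine eq_top_iff.2 fun σ _ => ?_
    rw [FunFldLib.inertia_iff]
    have hmem : σ.restrictScalars K ∈ G := by
      rw [← IntermediateField.fixingSubgroup_fixedField G, IntermediateField.mem_fixingSubgroup_iff]
      exact fun x hx => σ.commutes ⟨x, hx⟩
    exact fun x hx => (FunFldLib.inertia_iff.1 hmem) x hx
  have h2 : Nat.card ((Q.O.inertiaSubgroup K₁).map (Q.O.decompositionSubgroup K₁).subtype) = Module.finrank K₁ K' := by
    rw [htop, Subgroup.card_top, IsGalois.card_aut_eq_finrank]
  rw [Subgroup.card_map_of_injective (Subgroup.subtype_injective _), hcard] at h2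
  rw [← h2]
  exact he₁

end Groth.Agent.S12521
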