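import Groth.Statements.S12532
import Groth.Agent.FunFldLib.Nonsingular

set_option autoImplicit false
open FunFld

namespace Groth.Agent.S12532

/-- Over an algebraically closed field `k`, let `φ = (φ₀, …, φₙ)`, `n ≥ 1`, be a birational projective
map of the function field `K/k` and `P` a place with image point `a = φ(P)`. Then for some `N`,
every `z ∈ K` with `ord_Q z ≥ N` at all places `Q` over `a` belongs to the local ring `O_a` of `φ`
at `P` (quotients of polynomials in the ratios `φᵢ/φⱼ` with denominator a unit at `P`). (The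
published statement asserts that each nonzero ideal of `O_a` includes some nonzero ideal of the
integral closure `R_a`, with `R_a/I` finite-dimensional; this row states the inclusion the printed
proof establishes, from which those follow.) -/
theorem result (k K : Type*) [Field k] [IsAlgClosed k] [Field K] [Algebra k K]
    (hK : FunFld.IsFunctionField k K) {n : ℕ} (hn : 1 ≤ n)
    (φ : Fin (n + 1) → K) (hφ : LinearIndependent k φ)
    (hbir : IntermediateField.adjoin k (Set.range fun i => φ i / φ 0) = ⊤) (P : FunFld.Place k K) :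
    ∃ N : ℕ, ∀ z : K, (∀ Q : FunFld.Place k K, FunFld.SameImage φ P Q → Q.1 z ≤ WithZero.exp (-(N : ℤ))) →
      FunFld.InLocRing φ P z := by
  open WithZero Groth.Agent.FunFldLib in
  classical
  have h0 := Or.inl (b := ∃ i, φ i = 1) fun i => hφ.ne_zero i
  obtain ⟨j, hj0, hjP, hj⟩ := exists_chart hK.1 φ h0 P
  have hE := (mapDiv_exact hK.1 φ h0).scale hK.1 hj0
  rw [map_span_ratio] at hE
  set E := FunFld.mapDiv k φ + FunFld.div k (φ j)
  set V := Submodule.span k (Set.range fun i => φ i / φ j) with hV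
  set A := Algebra.adjoin k (Set.range fun i => φ i / φ j) with hA
  have h1 : (1 : K) ∈ V := Submodule.subset_span ⟨j, div_self hj0⟩
  have hVA : ∀ v ∈ V, v ∈ A := fun v hv => Algebra.span_le_adjoin k _ hv
  have hAB : ∀ a ∈ A, InB E a := fun a ha => adjoin_le_subB hE h1
    (Algebra.adjoin_mono (by rintro _ ⟨i, rfl⟩; exact Submodule.subset_span ⟨i, rfl⟩) ha)
  have hPE : E P = 0 := chart_div_zero (E := FunFld.mapDiv k φ) hK.1 hj0 hjP
  have hnn := hE.nonneg h1
  have hE0 : E ≠ 0 := by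
    intro hz
    have hc : ∀ i, ∃ c : k, φ i / φ j = algebraMap k K c := fun i => by
      obtain ⟨c, hc⟩ := hK.2 _ (isAlgebraic_of_mem_L_zero hK.1 (x := φ i / φ j) fun Q =>
        hz ▸ hE.1 _ (Submodule.subset_span ⟨i, rfl⟩) Q)
      exact ⟨c, hc.symm⟩
    haveI : Nontrivial (Fin (n + 1)) := Fin.nontrivial_iff_two_le.2 (by omega)
    obtain ⟨i, hi⟩ := exists_ne j
    obtain ⟨c, hc⟩ := hc i
    have := linearIndependent_iff'.1 hφ {i, j} (fun l => if l = i then 1 else -c) (by
      rw [Finset.sum_pair hi, if_pos rfl, if_neg (Ne.symm hi), one_smul, neg_smul, Algebra.smul_def, ← hc,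
        div_mul_cancel₀ _ hj0, add_neg_cancel]) i (by simp)
    simp at this
  obtain ⟨zz, hzzV, hzz, hp⟩ := exists_z hK hE h1 hE0
  have hzz0 : zz ≠ 0 := fun h => hzz (h ▸ isAlgebraic_zero)
  obtain ⟨r, e, heB, hspan⟩ := exists_span_B hK hnn hE0 hzz0 hp
  have hzA : Algebra.adjoin k ({zz} : Set K) ≤ A := Algebra.adjoin_le (Set.singleton_subset_iff.2 (hVA zz hzzV))
  have hfrac : ∀ x : K, ∃ a ∈ A, ∃ b ∈ A, b ≠ 0 ∧ x * b = a := by
    intro x
    have htop : IntermediateField.adjoin k (Set.range fun i => φ i / φ j) = ⊤ := by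
      refine eq_top_iff.2 (hbir ▸ IntermediateField.adjoin_le_iff.2 ?_)
      rintro _ ⟨i, rfl⟩
      show φ i / φ 0 ∈ IntermediateField.adjoin k (Set.range fun i => φ i / φ j)
      rw [show φ i / φ 0 = (φ i / φ j) / (φ 0 / φ j) by rw [div_div_div_cancel_right₀ hj0]]
      exact div_mem (IntermediateField.subset_adjoin k _ ⟨i, rfl⟩) (IntermediateField.subset_adjoin k _ ⟨0, rfl⟩)
    obtain ⟨a, ha, b, hb, rfl⟩ := IntermediateField.mem_adjoin_iff_div.1
      (htop ▸ IntermediateField.mem_top : x ∈ IntermediateField.adjoin k (Set.range fun i => φ i / φ j))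
    rcases eq_or_ne b 0 with h | h
    · exact ⟨0, A.zero_mem, 1, A.one_mem, one_ne_zero, by rw [h, div_zero, zero_mul]⟩
    · exact ⟨a, ha, b, hb, h, div_mul_cancel₀ _ h⟩
  choose fa hfa fb hfb hfb0 hfeq using fun i => hfrac (e i)
  set w := ∏ i, fb i with hw
  have hw0 : w ≠ 0 := Finset.prod_ne_zero_iff.2 fun i _ => hfb0 i
  have hwA : ∀ f, InB E f → w * f ∈ A := fun f hf => by
    obtain ⟨α, rfl⟩ := hspan f hf
    rw [Finset.mul_sum]
    refine A.sum_mem fun i _ => ?_
    rw [mul_left_comm]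
    refine A.mul_mem (hzA (α i).2) ?_
    rw [hw, ← Finset.mul_prod_erase _ _ (Finset.mem_univ i), mul_comm _ (e i), ← mul_assoc, hfeq]
    exact A.mul_mem (hfa i) (A.prod_mem fun l _ => hfb l)
  set S := (finite_support_ord' hK.1 w).toFinset with hS
  refine ⟨∑ Q ∈ S, (Q.ord w).natAbs, fun z hz => ?_⟩
  rcases eq_or_ne z 0 with rfl | hz0
  · exact inLoc_of_chart φ P hj0 hj (zero_mem _)
  set T := ((finite_support_ord' hK.1 z).toFinset ∪ S).filter
    (fun Q => E Q = 0 ∧ ¬ FunFld.SameImage φ P Q) with hT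
  have hb : ∀ Q ∈ T, ∃ b ∈ A, P.1 b = 1 ∧ Q.1 b < 1 := fun Q hQ => by
    obtain ⟨-, hQE, hQP⟩ := Finset.mem_filter.1 hQ
    obtain ⟨u, hu, huP, huQ⟩ := (sameImage_or_sep hK φ h0 P Q).resolve_right hQP
    have haV : u / φ j ∈ V := by
      rw [hV, ← map_span_ratio]
      exact ⟨u, hu, by simp [div_eq_inv_mul]⟩
    have haP : P.1 (u / φ j) < 1 := by rw [map_div₀, hjP, div_lt_one₀ exp_pos]; exact huP
    have hjQ : Q.1 (φ j) = exp (FunFld.mapDiv k φ Q) := by
      have h2 : FunFld.mapDiv k φ Q + Q.ord (φ j) = 0 := by rw [← div_apply hK.1]; exact hQE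
      rw [val_eq_exp Q hj0]; congr 1; omega
    have haQ : Q.1 (u / φ j) = 1 := by rw [map_div₀, huQ, hjQ, div_self exp_ne_zero]
    obtain ⟨c, hc⟩ := exists_const hK Q haQ.le
    have hc0 : c ≠ 0 := by
      rintro rfl
      rw [map_zero, sub_zero, haQ] at hc
      exact lt_irrefl _ hc
    refine ⟨1 - algebraMap k K c⁻¹ * (u / φ j), A.sub_mem A.one_mem (A.mul_mem (A.algebraMap_mem _) (hVA _ haV)), ?_, ?_⟩
    · rw [sub_eq_add_neg]
      refine val_one_add_of_lt_one P ?_
      rw [Valuation.map_neg, map_mul, val_algebraMap P (inv_ne_zero hc0), one_mul]; exact haP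
    · rw [show 1 - algebraMap k K c⁻¹ * (u / φ j) = -(algebraMap k K c⁻¹ * (u / φ j - algebraMap k K c)) by
        rw [mul_sub, ← map_mul, inv_mul_cancel₀ hc0, map_one]; ring,
        Valuation.map_neg, map_mul, val_algebraMap Q (inv_ne_zero hc0), one_mul]
      exact hc
  choose! b hbA hbP hbQ using hb
  set q := ∏ Q ∈ T, b Q ^ (Q.ord w - Q.ord z).toNat with hq
  have hqA : q ∈ A := A.prod_mem fun Q hQ => A.pow_mem (hbA Q hQ) _
  have hqP : P.1 q = 1 := by
    rw [hq, map_prod]
    exact Finset.prod_eq_one fun Q hQ => by rw [map_pow, hbP Q hQ, one_pow]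
  have hqz : InB E (q * z / w) := fun Q hQ => by
    have hq1 : Q.1 q ≤ 1 := hAB q hqA Q hQ
    rw [map_div₀, map_mul, div_le_one₀ (zero_lt_iff.2 (val_ne_zero Q hw0))]
    by_cases hsame : FunFld.SameImage φ P Q
    · refine (mul_le_of_le_one_left' hq1).trans ((hz Q hsame).trans ?_)
      rw [val_eq_exp Q hw0, exp_le_exp, neg_le_neg_iff]
      by_cases hQS : Q ∈ S
      · have h3 : (Q.ord w).natAbs ≤ ∑ Q ∈ S, (Q.ord w).natAbs :=
          Finset.single_le_sum (f := fun Q : FunFld.Place k K => (Q.ord w).natAbs) (fun _ _ => Nat.zero_le _) hQS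
        omega
      · have h2 : Q.ord w = 0 := by
          by_contra h
          exact hQS ((Set.Finite.mem_toFinset _).2 h)
        omega
    · rcases le_or_gt (Q.ord w) (Q.ord z) with hle | hlt
      · refine (mul_le_of_le_one_left' hq1).trans ?_
        rw [val_eq_exp Q hw0, val_eq_exp Q hz0, exp_le_exp]; omega
      have hQT : Q ∈ T := by
        refine Finset.mem_filter.2 ⟨Finset.mem_union.2 ?_, le_antisymm hQ (hnn Q), hsame⟩
        by_cases h : Q.ord z = 0
        · exact Or.inr ((Set.Finite.mem_toFinset _).2 (show Q.ord w ≠ 0 by omega))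
        · exact Or.inl ((Set.Finite.mem_toFinset _).2 h)
      have h2 : Q.1 q ≤ exp (-((Q.ord w - Q.ord z).toNat : ℤ)) := by
        rw [hq, ← Finset.mul_prod_erase _ _ hQT, map_mul, map_pow]
        have h3 : Q.1 (b Q) ≤ exp (-1 : ℤ) := (lt_one_iff_le Q _).1 (hbQ Q hQT)
        have h4 : Q.1 (∏ R ∈ T.erase Q, b R ^ (R.ord w - R.ord z).toNat) ≤ 1 :=
          hAB _ (A.prod_mem fun R hR => A.pow_mem (hbA R (Finset.mem_of_mem_erase hR)) _) Q hQ
        refine (mul_le_of_le_one_right' h4).trans ((pow_le_pow_left₀ zero_le h3 _).trans ?_)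
        rw [← exp_nsmul, nsmul_eq_mul, mul_neg, mul_one]
      refine (mul_le_mul' h2 le_rfl).trans ?_
      rw [val_eq_exp Q hw0, val_eq_exp Q hz0, ← exp_add, exp_le_exp]; omega
  have hzq := hwA _ hqz
  rw [mul_div_cancel₀ _ hw0] at hzq
  exact ⟨j, hj0, hj, q * z, hzq, q, hqA, hqP, mul_comm z q⟩

end Groth.Agent.S12532
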