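import Groth.Statements.S12534
import Groth.Agent.FunFldLib.Extension
import Mathlib

set_option autoImplicit false
universe u v
open FunFld

namespace Groth.Agent.S12534

set_option backward.isDefEq.respectTransparency.types false
set_option maxHeartbeats 1000000
open FunFld Groth.Agent.FunFldLib WithZero

section coords
variable {k' k'' K' K'' : Type*} [Field k'] [Field k''] [Field K'] [Field K''] [Algebra k' k''] [Algebra k' K']
  [Algebra K' K''] [Algebra k'' K''] [Algebra k' K''] [IsScalarTower k' k'' K''] [IsScalarTower k' K' K'']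
  {ι : Type*} [Fintype ι] (b : Module.Basis ι k' k'')

/-- combination -/
noncomputable def comb (a : ι → K') : K'' := ∑ i, algebraMap K' K'' (a i) * algebraMap k'' K'' (b i)

theorem coords (h2 : Function.Bijective (Algebra.TensorProduct.productMap
      (IsScalarTower.toAlgHom k' k'' K'') (IsScalarTower.toAlgHom k' K' K''))) :
    Function.Bijective (comb (K'' := K'') (K' := K') b) := by
  classical
  let e := TensorProduct.equivFinsuppOfBasisLeft (N := K') b
  have hf : ∀ a : ι → K', comb (K'' := K'') b a = Algebra.TensorProduct.productMap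
      (IsScalarTower.toAlgHom k' k'' K'') (IsScalarTower.toAlgHom k' K' K'') (e.symm (Finsupp.equivFunOnFinite.symm a)) := by
    intro a
    rw [TensorProduct.equivFinsuppOfBasisLeft_symm_apply, Finsupp.sum_fintype _ _ (by simp), map_sum]
    refine Finset.sum_congr rfl fun i _ => ?_
    simp [mul_comm]
  rw [show comb (K'' := K'') (K' := K') b = _ from funext hf]
  exact h2.comp (e.symm.bijective.comp Finsupp.equivFunOnFinite.symm.bijective)

/-- elements with all coordinates in `S` -/
def M (S : Set K') (z : K'') : Prop := ∃ a : ι → K', (∀ i, a i ∈ S) ∧ z = comb b a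

theorem M_mul_const (S : Subring K') (hS : ∀ c : k', algebraMap k' K' c ∈ S) {a : K'} (ha : a ∈ S) (β : k'') :
    M (K'' := K'') b (S : Set K') (algebraMap K' K'' a * algebraMap k'' K'' β) := by
  refine ⟨fun i => a * algebraMap k' K' (b.repr β i), fun i => S.mul_mem ha (hS _), ?_⟩
  conv_lhs => rw [← b.sum_repr β, map_sum, Finset.mul_sum]
  refine Finset.sum_congr rfl fun i _ => ?_
  rw [Algebra.smul_def, map_mul, map_mul, ← IsScalarTower.algebraMap_apply, ← IsScalarTower.algebraMap_apply]
  ring

theorem M_add (S : Subring K') {z w : K''} (hz : M b (S : Set K') z) (hw : M b (S : Set K') w) :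
    M b (S : Set K') (z + w) := by
  obtain ⟨a, ha, rfl⟩ := hz
  obtain ⟨a', ha', rfl⟩ := hw
  exact ⟨a + a', fun i => S.add_mem (ha i) (ha' i), by simp [comb, add_mul, Finset.sum_add_distrib]⟩

theorem M_sum (S : Subring K') {α : Type*} (s : Finset α) (f : α → K'')
    (hf : ∀ x ∈ s, M b (S : Set K') (f x)) : M b (S : Set K') (∑ x ∈ s, f x) := by
  classical
  induction s using Finset.induction_on with
  | empty => exact ⟨0, fun _ => S.zero_mem, by simp [comb]⟩
  | insert x s hx ih =>
    rw [Finset.sum_insert hx]
    exact M_add b S (hf x (Finset.mem_insert_self _ _)) (ih fun y hy => hf y (Finset.mem_insert_of_mem hy))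

theorem adjoin_M (S : Subring K') (hS : ∀ c : k', algebraMap k' K' c ∈ S) (R : Subring K'')
    (hR : ∀ r ∈ R, ∃ a ∈ S, algebraMap K' K'' a = r) {z : K''}
    (hz : z ∈ Algebra.adjoin R (Set.range (algebraMap k'' K''))) : M b (S : Set K') z := by
  induction hz using Algebra.adjoin_induction with
  | mem x hx =>
    obtain ⟨β, rfl⟩ := hx
    simpa using M_mul_const (K'' := K'') b S hS S.one_mem β
  | algebraMap r =>
    obtain ⟨a, ha, e⟩ := hR r r.2
    have h := M_mul_const (K'' := K'') b S hS ha (1 : k'')
    rw [map_one, mul_one, e] at h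
    exact h
  | add x y _ _ hx hy => exact M_add b S hx hy
  | mul x y _ _ hx hy =>
    obtain ⟨a, ha, rfl⟩ := hx
    obtain ⟨a', ha', rfl⟩ := hy
    simp only [comb, Finset.sum_mul, Finset.mul_sum]
    refine M_sum b S _ _ fun i _ => M_sum b S _ _ fun j _ => ?_
    have h := M_mul_const (K'' := K'') b S hS (S.mul_mem (ha j) (ha' i)) (b j * b i)
    rw [map_mul, map_mul] at h
    convert h using 1
    ring
end coords

theorem mem_iff {k : Type*} {K K' : Type*} [Field k] [Field K] [Field K'] [Algebra k K] [Algebra K K'] [Algebra k K']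
    [IsScalarTower k K K'] [FiniteDimensional K K'] (hK : IsFF k K) (P : Place k K) (z : K') :
    z ∈ integralClosure (P.O.toSubring.map (algebraMap K K')) K' ↔ ∀ Q : Place k K', IsOver Q P → Q.1 z ≤ 1 := by
  set R := P.O.toSubring.map (algebraMap K K') with hR
  have key : z ∈ integralClosure R K' ↔ ∀ V : ValuationSubring K', (R : Set K') ⊆ V.toSubring → z ∈ V := by
    have h : (⨅ V : {V : ValuationSubring K' // (R : Set K') ⊆ V.toSubring}, V.1.toSubring) =
        (integralClosure (Subring.closure (R : Set K')) K').toSubring := iInf_valuationSubring_superset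
    rw [Subring.closure_eq] at h
    constructor
    · intro hz V hV
      have hz' : z ∈ (integralClosure R K').toSubring := hz
      rw [← h, Subring.mem_iInf] at hz'
      exact hz' ⟨V, hV⟩
    · intro hV
      show z ∈ (integralClosure R K').toSubring
      rw [← h, Subring.mem_iInf]
      exact fun V => hV V.1 V.2
  rw [key]
  constructor
  · intro h Q ⟨e, he⟩
    refine h Q.O ?_
    rintro _ ⟨x, hx, rfl⟩
    show Q.1 _ ≤ 1
    rw [he]
    exact pow_le_one₀ zero_le hx
  · intro h V hV
    by_contra hz
    have hk : ∀ c : k, algebraMap k K' c ∈ V := fun c => by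
      rw [IsScalarTower.algebraMap_apply k K K']
      exact hV ⟨_, P.2.1 c, rfl⟩
    have hz0 : z ≠ 0 := fun e => hz (e ▸ V.zero_mem)
    obtain ⟨Q, hQ⟩ := exists_place (isFF_extension (K' := K') hK) V hk (inv_ne_zero hz0) (by rwa [inv_inv])
    obtain ⟨P', e, he⟩ := exists_restrict hK Q
    have hP : P = P' := eq_of_forall_le_one fun x hx => by
      have hm : algebraMap K K' x ∈ Q.O := hQ ▸ hV ⟨x, hx, rfl⟩
      have h2 : Q.1 (algebraMap K K' x) ≤ 1 := hm
      rw [he] at h2
      exact (pow_le_one_iff (by have := isOverWith_pos he; omega)).1 h2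
    have := h Q ⟨e, hP ▸ he⟩
    exact hz (hQ ▸ (show z ∈ Q.O from this))

theorem finite_of_comb {k' k'' K' K'' : Type*} [Field k'] [Field k''] [Field K'] [Field K''] [Algebra k' k''] [Algebra k' K']
    [Algebra K' K''] [Algebra k'' K''] [Algebra k' K''] [IsScalarTower k' k'' K''] [IsScalarTower k' K' K'']
    [FiniteDimensional k' k'']
    (h2 : Function.Bijective (Algebra.TensorProduct.productMap
      (IsScalarTower.toAlgHom k' k'' K'') (IsScalarTower.toAlgHom k' K' K''))) : FiniteDimensional K' K'' := by
  classical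
  let b := Module.finBasis k' k''
  refine ⟨⟨Finset.univ.image fun i => algebraMap k'' K'' (b i), eq_top_iff.2 fun z _ => ?_⟩⟩
  obtain ⟨a, rfl⟩ := (coords (K' := K') b h2).2 z
  refine Submodule.sum_mem _ fun i _ => ?_
  rw [← Algebra.smul_def]
  exact Submodule.smul_mem _ _ (Submodule.subset_span (Finset.mem_coe.2 (Finset.mem_image_of_mem _ (Finset.mem_univ i))))

/-- Let `K/k` be a geometric function field of one variable, `P` a place of `K`, and `k ⊆ k' ⊆ k''`
finite extensions, `K' = k' ⊗_k K`, `K'' = k'' ⊗_{k'} K'`. Then `P` is nonsingular with respect to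
`k''` if and only if `P` is nonsingular with respect to `k'` and every place `Q` of `K'` above `P`
is nonsingular with respect to `k''`. Here 'nonsingular with respect to `k'`' means that the
integral closure of the valuation ring in `K'` is the ring generated over it by `k'`, both taken
inside `K'` over the image of the valuation ring. -/
theorem result (k k' k'' : Type u) (K K' K'' : Type v) [Field k] [Field k'] [Field k''] [Field K] [Field K'] [Field K'']
    [Algebra k k'] [Algebra k' k''] [Algebra k k''] [IsScalarTower k k' k'']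
    [FiniteDimensional k k'] [FiniteDimensional k' k'']
    [Algebra k K] [Algebra K K'] [Algebra k' K'] [Algebra k K'] [IsScalarTower k k' K'] [IsScalarTower k K K']
    [Algebra K' K''] [Algebra k'' K''] [Algebra k' K''] [Algebra k K''] [Algebra K K'']
    [IsScalarTower k' k'' K''] [IsScalarTower k' K' K''] [IsScalarTower K K' K''] [IsScalarTower k K K'']
    (h1 : Function.Bijective (Algebra.TensorProduct.productMap
      (IsScalarTower.toAlgHom k k' K') (IsScalarTower.toAlgHom k K K')))
    (h2 : Function.Bijective (Algebra.TensorProduct.productMap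
      (IsScalarTower.toAlgHom k' k'' K'') (IsScalarTower.toAlgHom k' K' K'')))
    (hK : FunFld.IsFunctionField k K) (hg : FunFld.IsGeometric k K) (P : FunFld.Place k K) :
    (integralClosure (P.O.toSubring.map (algebraMap K K'')) K'' =
        Algebra.adjoin (P.O.toSubring.map (algebraMap K K'')) (Set.range (algebraMap k'' K''))) ↔
      (integralClosure (P.O.toSubring.map (algebraMap K K')) K' =
          Algebra.adjoin (P.O.toSubring.map (algebraMap K K')) (Set.range (algebraMap k' K')) ∧
        ∀ Q : FunFld.Place k K', FunFld.IsOver Q P →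
          integralClosure (Q.O.toSubring.map (algebraMap K' K'')) K'' =
            Algebra.adjoin (Q.O.toSubring.map (algebraMap K' K'')) (Set.range (algebraMap k'' K''))) := by
  classical
  haveI : FiniteDimensional K K' := finite_of_comb h1
  haveI : FiniteDimensional K' K'' := finite_of_comb h2
  haveI : FiniteDimensional K K'' := Module.Finite.trans K' K''
  haveI : IsScalarTower k K' K'' := IsScalarTower.of_algebraMap_eq fun c => by
    rw [IsScalarTower.algebraMap_apply k K K', ← IsScalarTower.algebraMap_apply K K' K'', ← IsScalarTower.algebraMap_apply]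
  haveI : IsScalarTower k k'' K'' := IsScalarTower.of_algebraMap_eq fun c => by
    rw [IsScalarTower.algebraMap_apply k k' k'', ← IsScalarTower.algebraMap_apply k' k'' K'',
      IsScalarTower.algebraMap_apply k' K' K'', ← IsScalarTower.algebraMap_apply k k' K', ← IsScalarTower.algebraMap_apply k K' K'']
  haveI : FiniteDimensional k k'' := Module.Finite.trans k' k''
  have hFF : IsFF k K := hK.1
  have hFF' : IsFF k K' := isFF_extension (K' := K') hFF
  let b := Module.finBasis k' k''
  have hb := coords (K' := K') (K'' := K'') b h2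
  set R' := P.O.toSubring.map (algebraMap K K')
  set R'' := P.O.toSubring.map (algebraMap K K'')
  set A' := Algebra.adjoin R' (Set.range (algebraMap k' K'))
  set A'' := Algebra.adjoin R'' (Set.range (algebraMap k'' K''))
  have hkA : ∀ c : k', algebraMap k' K' c ∈ A'.toSubring := fun c => Algebra.subset_adjoin ⟨c, rfl⟩
  have hA''sub : ∀ z, z ∈ A'' → z ∈ integralClosure R'' K'' := by
    intro z hz
    refine (mem_iff hFF P z).2 fun Q hQ => ?_
    induction hz using Algebra.adjoin_induction with
    | mem x hx =>
      obtain ⟨β, rfl⟩ := hx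
      rcases eq_or_ne β 0 with rfl | hβ
      · simp
      refine le_of_eq (val_eq_one_of_isAlgebraic (k := k) Q.1 Q.2.1 ((_root_.map_ne_zero _).2 hβ) ?_)
      exact (Algebra.IsAlgebraic.isAlgebraic β).algebraMap
    | algebraMap r =>
      obtain ⟨x, hx, e⟩ := r.2
      obtain ⟨n, hn⟩ := hQ
      show Q.1 r.1 ≤ 1
      rw [← e, hn]; exact pow_le_one₀ zero_le hx
    | add x y _ _ hx hy => exact (Q.1.map_add _ _).trans (max_le hx hy)
    | mul x y _ _ hx hy => rw [map_mul]; exact mul_le_one' hx hy
  have hA'M : ∀ z, z ∈ A'' → M b (A'.toSubring : Set K') z := by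
    intro z hz
    refine adjoin_M b A'.toSubring hkA R'' ?_ hz
    rintro _ ⟨x, hx, rfl⟩
    exact ⟨algebraMap K K' x, A'.algebraMap_mem ⟨_, x, hx, rfl⟩, (IsScalarTower.algebraMap_apply K K' K'' x).symm⟩
  have hMA'' : ∀ a : Fin (Module.finrank k' k'') → K', (∀ i, a i ∈ A') → comb (K'' := K'') b a ∈ A'' := by
    intro a ha
    refine A''.sum_mem fun i _ => A''.mul_mem ?_ (Algebra.subset_adjoin ⟨b i, rfl⟩)
    have hai := ha i
    generalize a i = x0 at hai ⊢
    induction hai using Algebra.adjoin_induction with
    | mem x hx =>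
      obtain ⟨c, rfl⟩ := hx
      rw [← IsScalarTower.algebraMap_apply, IsScalarTower.algebraMap_apply k' k'' K'']
      exact Algebra.subset_adjoin ⟨_, rfl⟩
    | algebraMap r =>
      obtain ⟨x, hx, e⟩ := r.2
      show algebraMap K' K'' r.1 ∈ A''
      rw [← e, ← IsScalarTower.algebraMap_apply]
      exact A''.algebraMap_mem ⟨_, x, hx, rfl⟩
    | add x y _ _ hx hy => rw [map_add]; exact A''.add_mem hx hy
    | mul x y _ _ hx hy => rw [map_mul]; exact A''.mul_mem hx hy
  have hkint : ∀ (Q : Place k K') (c : k'), Q.1 (algebraMap k' K' c) ≤ 1 := fun Q c => by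
    rcases eq_or_ne c 0 with rfl | hc
    · simp
    exact le_of_eq (val_eq_one_of_isAlgebraic (k := k) Q.1 Q.2.1 ((_root_.map_ne_zero _).2 hc) (Algebra.IsAlgebraic.isAlgebraic c).algebraMap)
  have hA'Q : ∀ (Q : Place k K'), IsOver Q P → ∀ x ∈ A', Q.1 x ≤ 1 := fun Q ⟨n, hn⟩ x hx => by
    induction hx using Algebra.adjoin_induction with
    | mem x hx => obtain ⟨c, rfl⟩ := hx; exact hkint Q c
    | algebraMap r =>
      obtain ⟨x, hx, e⟩ := r.2
      show Q.1 r.1 ≤ 1
      rw [← e, hn]; exact pow_le_one₀ zero_le hx
    | add x y _ _ hx hy => exact (Q.1.map_add _ _).trans (max_le hx hy)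
    | mul x y _ _ hx hy => rw [map_mul]; exact mul_le_one' hx hy
  have hkQ : ∀ (Q : Place k K') (c : k'), algebraMap k' K' c ∈ Q.O.toSubring := hkint
  constructor
  · intro hEq
    have hEq' : integralClosure R' K' = A' := by
      ext x
      refine ⟨fun hx => ?_, fun hx => (mem_iff hFF P x).2 fun Q hQ => hA'Q Q hQ x hx⟩
      have hx'' : algebraMap K' K'' x ∈ integralClosure R'' K'' := by
        refine (mem_iff hFF P _).2 fun R hR => ?_
        obtain ⟨Q, e, he⟩ := exists_restrict hFF' R
        obtain ⟨n, hn⟩ := hR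
        obtain ⟨P', e', he'⟩ := exists_restrict hFF Q
        have hP : P' = P := by
          refine (place_unique (Q := R) (e := e' * e) (fun y => ?_) hn).1
          rw [IsScalarTower.algebraMap_apply K K' K'', he, he', pow_mul]
        rw [he]
        exact pow_le_one₀ zero_le ((mem_iff hFF P x).1 hx Q ⟨e', hP ▸ he'⟩)
      rw [hEq] at hx''
      obtain ⟨a, ha, hax⟩ := hA'M _ hx''
      have h1 : algebraMap K' K'' x = comb b fun i => x * algebraMap k' K' (b.repr 1 i) := by
        have hs : algebraMap k'' K'' 1 = ∑ i, algebraMap k'' K'' ((b.repr 1 i) • b i) := by rw [← map_sum, b.sum_repr]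
        rw [map_one] at hs
        conv_lhs => rw [← mul_one (algebraMap K' K'' x), hs, Finset.mul_sum]
        refine Finset.sum_congr rfl fun i _ => ?_
        rw [Algebra.smul_def, map_mul, map_mul, ← IsScalarTower.algebraMap_apply, ← IsScalarTower.algebraMap_apply]
        ring
      have h2' := hb.1 (h1.symm.trans hax)
      obtain ⟨i, hi⟩ : ∃ i, b.repr 1 i ≠ 0 := by
        by_contra! hc
        have := b.sum_repr (1 : k'')
        simp [hc] at this
      have h3 : x * algebraMap k' K' (b.repr 1 i) ∈ A' := by
        rw [congrFun h2' i]; exact ha i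
      have h4 := A'.mul_mem h3 (hkA (b.repr 1 i)⁻¹)
      rwa [mul_assoc, ← map_mul, mul_inv_cancel₀ hi, map_one, mul_one] at h4
    refine ⟨hEq', fun Q hQ => ?_⟩
    set RQ := Q.O.toSubring.map (algebraMap K' K'')
    ext z
    constructor
    · intro hz
      have hfin' := finite_over (K' := K') hFF P
      have hfin'' := finite_over (K' := K'') hFF P
      let N : ℤ := ∑ R ∈ hfin''.toFinset, |R.ord z|
      obtain ⟨s, hs⟩ := exists_approx (insert Q hfin'.toFinset) (fun Q' => if Q' = Q then 1 else 0)
        (fun Q' => if Q' = Q then -1 else -(N + 1))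
      have hsQ : Q.1 s = 1 := by
        have h := hs Q (Finset.mem_insert_self _ _)
        simp only [if_pos] at h
        have hlt : Q.1 (s - 1) < Q.1 (1 : K') := by
          rw [map_one]; exact h.trans_lt (by rw [← exp_zero, exp_lt_exp]; norm_num)
        have h2 := Valuation.map_add_eq_of_lt_left Q.1 hlt
        rwa [add_sub_cancel, map_one] at h2
      have hsO : ∀ Q', IsOver Q' P → Q'.1 s ≤ 1 := fun Q' hQ' => by
        rcases eq_or_ne Q' Q with rfl | hne
        · exact hsQ.le
        have h := hs Q' (Finset.mem_insert_of_mem (hfin'.mem_toFinset.2 hQ'))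
        simp only [if_neg hne, sub_zero] at h
        refine h.trans ?_
        have : 0 ≤ N := Finset.sum_nonneg fun _ _ => abs_nonneg _
        rw [← exp_zero, exp_le_exp]; omega
      have hsA : s ∈ A' := hEq' ▸ (mem_iff hFF P s).2 hsO
      have hsz : algebraMap K' K'' s * z ∈ integralClosure R'' K'' := by
        refine (mem_iff hFF P _).2 fun R hR => ?_
        have hR' := hR
        obtain ⟨n, hn⟩ := hR
        obtain ⟨Q', e, he⟩ := exists_restrict hFF' R
        obtain ⟨P', e', he'⟩ := exists_restrict hFF Q'
        have hP : P' = P := by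
          refine (place_unique (Q := R) (e := e' * e) (fun y => ?_) hn).1
          rw [IsScalarTower.algebraMap_apply K K' K'', he, he', pow_mul]
        subst hP
        rw [map_mul, he]
        rcases eq_or_ne Q' Q with rfl | hne
        · rw [hsQ, one_pow, one_mul]
          exact (mem_iff hFF' Q' z).1 hz R ⟨e, he⟩
        rcases eq_or_ne z 0 with rfl | hz0
        · simp
        have h := hs Q' (Finset.mem_insert_of_mem (hfin'.mem_toFinset.2 ⟨e', he'⟩))
        simp only [if_neg hne, sub_zero] at h
        have he1 := isOverWith_pos he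
        have hN0 : 0 ≤ N := Finset.sum_nonneg fun _ _ => abs_nonneg _
        have hle : |R.ord z| ≤ N := Finset.single_le_sum (f := fun R => |R.ord z|) (fun _ _ => abs_nonneg _) (hfin''.mem_toFinset.2 hR')
        rw [val_eq_exp R hz0]
        calc Q'.1 s ^ e * exp (-R.ord z) ≤ exp (-(N + 1)) * exp (-R.ord z) := by
              gcongr
              calc Q'.1 s ^ e ≤ Q'.1 s ^ 1 := pow_le_pow_right_of_le_one' (hsO Q' ⟨e', he'⟩) he1
                _ ≤ _ := by rw [pow_one]; exact h
          _ ≤ 1 := by
              rw [← exp_add, ← exp_zero, exp_le_exp]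
              have := abs_le.1 hle
              omega
      rw [hEq] at hsz
      obtain ⟨a, ha, haz⟩ := hA'M _ hsz
      obtain ⟨c, rfl⟩ := hb.2 z
      have hcs : algebraMap K' K'' s * comb b c = comb b fun i => s * c i := by
        simp [comb, Finset.mul_sum, mul_assoc]
      have h5 := hb.1 (hcs.symm.trans haz)
      refine Subalgebra.sum_mem _ fun i _ => Subalgebra.mul_mem _ ?_ (Algebra.subset_adjoin ⟨b i, rfl⟩)
      have hci : Q.1 (c i) ≤ 1 := by
        have := hA'Q Q hQ _ (ha i)
        rwa [← congrFun h5 i, map_mul, hsQ, one_mul] at this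
      exact Subalgebra.algebraMap_mem _ (⟨_, c i, hci, rfl⟩ : RQ)
    · intro hz
      refine (mem_iff hFF' Q z).2 fun R hR => ?_
      induction hz using Algebra.adjoin_induction with
      | mem x hx =>
        obtain ⟨β, rfl⟩ := hx
        rcases eq_or_ne β 0 with rfl | hβ
        · simp
        refine le_of_eq (val_eq_one_of_isAlgebraic (k := k) R.1 R.2.1 ((_root_.map_ne_zero _).2 hβ) ?_)
        exact (Algebra.IsAlgebraic.isAlgebraic β).algebraMap
      | algebraMap r =>
        obtain ⟨x, hx, e⟩ := r.2
        obtain ⟨n, hn⟩ := hR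
        show R.1 r.1 ≤ 1
        rw [← e, hn]; exact pow_le_one₀ zero_le hx
      | add x y _ _ hx hy => exact (R.1.map_add _ _).trans (max_le hx hy)
      | mul x y _ _ hx hy => rw [map_mul]; exact mul_le_one' hx hy
  · rintro ⟨hEq', hQ⟩
    ext z
    refine ⟨fun hz => ?_, hA''sub z⟩
    obtain ⟨c, rfl⟩ := hb.2 z
    refine hMA'' c fun i => hEq' ▸ (mem_iff hFF P (c i)).2 fun Q hQP => ?_
    have hzQ : comb (K'' := K'') b c ∈ integralClosure (Q.O.toSubring.map (algebraMap K' K'')) K'' := by
      refine (mem_iff hFF' Q _).2 fun R hR => (mem_iff hFF P _).1 hz R ?_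
      obtain ⟨e, he⟩ := hR
      obtain ⟨e', he'⟩ := hQP
      exact ⟨e' * e, fun y => by rw [IsScalarTower.algebraMap_apply K K' K'', he, he', pow_mul]⟩
    rw [hQ Q hQP] at hzQ
    obtain ⟨a, ha, hac⟩ := adjoin_M b Q.O.toSubring (hkQ Q) _ (by rintro _ ⟨x, hx, rfl⟩; exact ⟨x, hx, rfl⟩) hzQ
    rw [congrFun (hb.1 hac) i]
    exact ha i

end Groth.Agent.S12534
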