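import Groth.Statements.S12535
import Groth.Agent.FunFldLib.RatPlace
import Groth.Agent.FunFldLib.QuadPlace

set_option autoImplicit false
open FunFld

namespace Groth.Agent.S12535

set_option backward.isDefEq.respectTransparency.types false
open WithZero Groth.Agent.FunFldLib in
theorem ord_pos_iff {k K : Type*} [Field k] [Field K] [Algebra k K] (P : FunFld.Place k K) {x : K} (hx : x ≠ 0) :
    (0 < P.ord x ↔ P.1 x < 1) ∧ (0 ≤ P.ord x ↔ P.1 x ≤ 1) := by
  have h := exp_log (val_ne_zero P hx)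
  constructor
  · rw [← h]
    simp only [FunFld.Place.ord]
    refine ⟨fun h0 => (exp_lt_exp.2 (by omega)).trans_eq exp_zero, fun h0 => ?_⟩
    have h1 := exp_lt_exp.1 (h0.trans_eq exp_zero.symm)
    omega
  · rw [← h]
    simp only [FunFld.Place.ord]
    refine ⟨fun h0 => (exp_le_exp.2 (by omega)).trans_eq exp_zero, fun h0 => ?_⟩
    have h1 := exp_le_exp.1 (h0.trans_eq exp_zero.symm)
    omega

/-- Let `char k ≠ 2`, `K` of degree `2` over `k(x)`, and `y ∈ K` with `y² = f(x)`, `f` a squarefree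
polynomial of degree `≥ 1`. Then a place `P` of `K` is a zero of `y` exactly when it lies over a
finite place of `k(x)` where `f` has a zero, and in that case `ord_P(y) = 1`: the divisor of zeros
of `y` is `Σ P_i`, one place over each irreducible factor of `f`, with multiplicity one. -/
theorem result (k K : Type*) [Field k] [Field K] (h2 : ringChar k ≠ 2) [Algebra k K]
    [Algebra (RatFunc k) K] [IsScalarTower k (RatFunc k) K]
    (hdeg : Module.finrank (RatFunc k) K = 2) (y : K) (f : Polynomial k) (hf : Squarefree f)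
    (hd : 1 ≤ f.natDegree)
    (heq : y ^ 2 = algebraMap (RatFunc k) K (algebraMap (Polynomial k) (RatFunc k) f)) (P : FunFld.Place k K) :
    (0 < P.ord y → P.ord y = 1) ∧
    (0 < P.ord y ↔ ∃ P₀ : FunFld.Place k (RatFunc k), FunFld.IsOver P P₀ ∧ 0 ≤ P₀.ord (RatFunc.X : RatFunc k) ∧
      0 < P₀.ord (algebraMap (Polynomial k) (RatFunc k) f)) := by
  open WithZero Groth.Agent.FunFldLib in
  have hR := ratFunc_isFunctionField k
  set F : RatFunc k := algebraMap (Polynomial k) (RatFunc k) f with hF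
  have hf0 : f ≠ 0 := fun h => by rw [h] at hd; simp at hd
  have hF0 : F ≠ 0 := RatFunc.algebraMap_ne_zero hf0
  have hy0 : y ≠ 0 := fun h => by
    rw [h, zero_pow two_ne_zero, eq_comm, map_eq_zero] at heq; exact hF0 heq
  haveI : FiniteDimensional (RatFunc k) K := Module.finite_of_finrank_eq_succ hdeg
  obtain ⟨P₀, e, he⟩ : ∃ (P₀ : FunFld.Place k (RatFunc k)) (e : ℕ), FunFld.IsOverWith P P₀ e :=
    ⟨_, _, Groth.Agent.FunFldLib.isOverWith_below hR.1 P⟩
  have hepos : 1 ≤ e := Groth.Agent.FunFldLib.isOverWith_pos he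
  have hsq : P.1 y ^ 2 = P₀.1 F ^ e := by rw [← map_pow, heq, he]
  have hiff : 0 < P.ord y ↔ P₀.1 F < 1 := by
    rw [(ord_pos_iff P hy0).1, ← pow_lt_one_iff (two_ne_zero : 2 ≠ 0), hsq, pow_lt_one_iff (by omega : e ≠ 0)]
  have hfin : P₀.1 F < 1 → P₀.1 RatFunc.X ≤ 1 := fun h => not_lt.1 fun hX => by
    rw [hF, Groth.Agent.FunFldLib.poly_val_inf P₀ hX hf0] at h
    exact absurd h (not_lt.2 (one_le_pow₀ hX.le))
  refine ⟨fun hpos => ?_, ⟨fun hpos => ⟨P₀, ⟨e, he⟩, ?_, ?_⟩, ?_⟩⟩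
  · have hlt := hiff.1 hpos
    have hX := hfin hlt
    obtain ⟨π, hπ, hπiff⟩ := Groth.Agent.FunFldLib.exists_prime P₀ hX
    obtain ⟨g, hg⟩ := (hπiff f).1 hlt
    have hπg : ¬ π ∣ g := fun ⟨c, hc⟩ => hπ.not_isUnit (hf π ⟨c, by rw [hg, hc, mul_assoc]⟩)
    have hval : P₀.1 F = WithZero.exp (-1 : ℤ) := by
      rw [hF, hg, map_mul, map_mul, Groth.Agent.FunFldLib.val_prime P₀ hX hπ hπiff,
        le_antisymm (Groth.Agent.FunFldLib.poly_le_one P₀ hX g) (not_lt.1 fun h => hπg ((hπiff g).1 h)), mul_one]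
    have h1 := congrArg WithZero.log hsq
    rw [hval, WithZero.log_pow, WithZero.log_pow, WithZero.log_exp] at h1
    have h2' := (Groth.Agent.FunFldLib.two_deg_bound hR hdeg he).1
    have h3 := Groth.Agent.FunFldLib.deg_le_of_over hR.1 he
    have h4 := Groth.Agent.FunFldLib.deg_pos hR.1 P₀
    have h5 : e ≤ 2 := by
      by_contra h5
      have := Nat.mul_le_mul (show 3 ≤ e by omega) h3
      omega
    simp only [FunFld.Place.ord] at hpos ⊢
    simp only [nsmul_eq_mul, Nat.cast_ofNat] at h1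
    omega
  · rw [(ord_pos_iff P₀ RatFunc.X_ne_zero).2]; exact hfin (hiff.1 hpos)
  · rw [(ord_pos_iff P₀ hF0).1]; exact hiff.1 hpos
  · rintro ⟨P₁, hov, -, hpos⟩
    have e1 := (Groth.Agent.FunFldLib.isOver_iff hR.1 P P₁).1 hov
    have e2 := (Groth.Agent.FunFldLib.isOver_iff hR.1 P P₀).1 ⟨e, he⟩
    rw [show P₁ = P₀ from e1.symm.trans e2, (ord_pos_iff P₀ hF0).1] at hpos
    exact hiff.2 hpos

end Groth.Agent.S12535
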