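import Groth.Statements.S12540
import Groth.Agent.GrpSch.QuotRed
import Groth.Agent.SmoothReduced.Basic
import Groth.Agent.S0021

set_option autoImplicit false
universe u
open CategoryTheory MonoidalCategory CartesianMonoidalCategory MonObj GrpObj AlgebraicGeometry
open AlgGrp

namespace Groth.Agent.S12540

/-- Over an algebraically closed field k, let G be an algebraic group (a smooth k-group scheme of finite
type), h : H → G a closed subgroup scheme, and h' : H' → H a closed subgroup scheme of H which is
reduced with the same underlying space as H (the reduced subgroup scheme H_red; it is a subgroup of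
G through h' ≫ h). Let X, with its G-action and base point, be the quotient G/H, and X' the quotient
G/H' (each locally of finite type over k, with flat surjective orbit map identifying G × H with G
×_X G, respectively G × H' with G ×_{X'} G). Then X is affine if and only if X' is affine. (The
published statement adds the same equivalence with the identity component of H_red; that clause is
not stated here.) -/
theorem result (k : Type u) [Field k] [IsAlgClosed k]
    (G : Over (Spec (CommRingCat.of k))) [GrpObj G] [Smooth G.hom] [QuasiCompact G.hom]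
    (H : Over (Spec (CommRingCat.of k))) [GrpObj H] (h : H ⟶ G) [IsMonHom h] [IsClosedImmersion h.left]
    (H' : Over (Spec (CommRingCat.of k))) [GrpObj H'] (h' : H' ⟶ H) [IsMonHom h'] [IsClosedImmersion h'.left]
    [Surjective h'.left] [IsReduced H'.left]
    (X : Over (Spec (CommRingCat.of k))) (a : AlgGrp.Action G X) (o : 𝟙_ (Over (Spec (CommRingCat.of k))) ⟶ X)
    (hX : AGF.IsQuotient h X a o)
    (X' : Over (Spec (CommRingCat.of k))) (a' : AlgGrp.Action G X') (o' : 𝟙_ (Over (Spec (CommRingCat.of k))) ⟶ X')
    (hX' : AGF.IsQuotient (h' ≫ h) X' a' o') :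
    IsAffine X.left ↔ IsAffine X'.left := by
  haveI : LocallyOfFiniteType H.hom := by rw [← Over.w h]; infer_instance
  haveI : IsClosedImmersion (h' ≫ h).left := by rw [Over.comp_left]; infer_instance
  haveI : IsSeparated X.hom := Groth.Agent.GrpSch.QuotRed.isSeparated_of_isQuotient h a o hX
  haveI : IsSeparated X'.hom := Groth.Agent.GrpSch.QuotRed.isSeparated_of_isQuotient (h' ≫ h) a' o' hX'
  obtain ⟨hlft, hflat, hsurj, hpb⟩ := hX
  obtain ⟨hlft', hflat', hsurj', hpb'⟩ := hX'
  haveI := hflat; haveI := hsurj; haveI := hflat'; haveI := hsurj'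
  haveI := Groth.Agent.GrpSch.QuotRed.fppf_orbit a o hlft
  haveI := Groth.Agent.GrpSch.QuotRed.fppf_orbit a' o' hlft'
  haveI : IsReduced G.left := Groth.Agent.SmoothReduced.isReduced_of_smooth_scheme G.hom
  let π := a.orbitMap o
  let π' := a'.orbitMap o'
  obtain ⟨f, hf, -⟩ := Groth.Agent.GrpSch.Desc.exists_desc π' π fun T p q hpq => by
    obtain ⟨l, hl1, hl2⟩ := hpb'.exists_lift p q hpq
    have hm : (G ◁ (h' ≫ h)) ≫ μ[G] = (G ◁ h') ≫ (G ◁ h) ≫ μ[G] := by
      rw [whiskerLeft_comp, Category.assoc]
    have hw := congrArg (fun r => (l ≫ G ◁ h') ≫ r) hpb.w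
    simp only [Category.assoc, whiskerLeft_fst_assoc] at hw
    rw [← hl1, ← hl2, hm]
    simpa only [Category.assoc] using hw
  have hfl : π'.left ≫ f.left = π.left := by rw [← Over.comp_left, hf]
  haveI : Surjective f.left := ⟨fun x => by
    obtain ⟨g, hg⟩ := π.left.surjective x
    exact ⟨π'.left g, by rw [← Scheme.Hom.comp_apply, hfl, hg]⟩⟩
  -- the pullback along the orbit map is a thickening of `G`
  have hP := IsPullback.of_hasPullback π f
  let s : G ⟶ Limits.pullback π f := hP.lift (𝟙 G) π' (by rw [Category.id_comp, hf])
  have hs : s ≫ Limits.pullback.fst π f = 𝟙 G := hP.lift_fst _ _ _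
  haveI : IsSeparated (Limits.pullback.fst π f).left := by
    haveI : IsSeparated (f.left ≫ X.hom) := by rw [Over.w f]; infer_instance
    haveI : IsSeparated f.left := IsSeparated.of_comp f.left X.hom
    exact MorphismProperty.of_isPullback (Groth.Agent.GrpSch.isPullback_left hP).flip ‹IsSeparated f.left›
  haveI : IsClosedImmersion s.left := by
    haveI : IsClosedImmersion (s.left ≫ (Limits.pullback.fst π f).left) := by
      rw [← Over.comp_left, hs]; exact inferInstanceAs (IsClosedImmersion (𝟙 G.left))
    exact IsClosedImmersion.of_comp s.left (Limits.pullback.fst π f).left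
  haveI : Surjective s.left := by
    let u : G ⊗ H ⟶ Limits.pullback π f := hP.lift (fst G H) (((G ◁ h) ≫ μ[G]) ≫ π') (by
      rw [Category.assoc, hf]; exact hpb.w)
    have hu : IsPullback u ((G ◁ h) ≫ μ[G]) (Limits.pullback.snd π f) π' := by
      refine IsPullback.of_right ?_ (hP.lift_snd _ _ _) hP
      rw [hP.lift_fst, hf]; exact hpb
    haveI : Surjective u.left :=
      MorphismProperty.of_isPullback (Groth.Agent.GrpSch.isPullback_left hu).flip hsurj'
    haveI : Surjective (G ◁ h').left := Groth.Agent.GrpSch.Desc.whiskerLeft_prop G h' ‹Surjective h'.left›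
    have hc : (G ◁ h') ≫ u = fst G H' ≫ s := by
      apply hP.hom_ext
      · rw [Category.assoc, hP.lift_fst, Category.assoc, hs, Category.comp_id, whiskerLeft_fst]
      · rw [Category.assoc, hP.lift_snd, Category.assoc (fst G H'), hP.lift_snd]
        have := hpb'.w
        rw [whiskerLeft_comp, Category.assoc] at this
        simpa only [Category.assoc] using this.symm
    refine ⟨fun x => ?_⟩
    obtain ⟨z, rfl⟩ := u.left.surjective x
    obtain ⟨w, rfl⟩ := (G ◁ h').left.surjective z
    exact ⟨(fst G H').left w, by
      rw [← Scheme.Hom.comp_apply, ← Over.comp_left, ← hc, Over.comp_left, Scheme.Hom.comp_apply]⟩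
  haveI hA : IsAffineHom (Limits.pullback.fst π f).left :=
    Groth.Agent.GrpSch.QuotRed.isAffineHom_of_section _ s.left (by rw [← Over.comp_left, hs]; rfl)
  haveI : UniversallyClosed (Limits.pullback.fst π f).left := by
    haveI : UniversallyClosed (s.left ≫ (Limits.pullback.fst π f).left) := by
      rw [← Over.comp_left, hs]; exact inferInstanceAs (UniversallyClosed (𝟙 G.left))
    exact UniversallyClosed.of_comp_surjective s.left (Limits.pullback.fst π f).left
  haveI : LocallyOfFiniteType f.left := by
    haveI : LocallyOfFiniteType (f.left ≫ X.hom) := by rw [Over.w f]; exact hlft'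
    exact locallyOfFiniteType_of_comp f.left X.hom
  haveI : LocallyOfFiniteType (Limits.pullback.fst π f).left :=
    MorphismProperty.of_isPullback (Groth.Agent.GrpSch.isPullback_left hP).flip ‹LocallyOfFiniteType f.left›
  haveI : IsProper (Limits.pullback.fst π f).left := ⟨⟩
  haveI : IsFinite f.left :=
    MorphismProperty.of_isPullback_of_descendsAlong (P := @IsFinite)
      (Q := @Surjective ⊓ @Flat ⊓ @LocallyOfFinitePresentation) (Groth.Agent.GrpSch.isPullback_left hP)
      ⟨⟨inferInstance, inferInstance⟩, inferInstance⟩
      (IsFinite.iff_isProper_and_isAffineHom.2 ⟨inferInstance, hA⟩)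
  refine ⟨fun hX => ?_, fun hX => ?_⟩
  · exact isAffine_of_isAffineHom f.left
  · haveI : IsLocallyNoetherian X.left := LocallyOfFiniteType.isLocallyNoetherian X.hom
    haveI : CompactSpace G.left := QuasiCompact.compactSpace_of_compactSpace G.hom
    haveI : CompactSpace X.left := ⟨by
      rw [← Set.range_eq_univ.2 π.left.surjective]; exact isCompact_range π.left.continuous⟩
    haveI : AlgebraicGeometry.IsNoetherian X.left := {}
    exact Groth.Agent.S0021.result f.left

end Groth.Agent.S12540
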