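import Groth.Statements.S12545
import Groth.Agent.GLinMuLib.Basic

set_option autoImplicit false
universe u
open TensorProduct LaurentPolynomial
open GIT

namespace Groth.Agent.S12545

/-- Let a commutative bialgebra A over a field k coact linearly on affine ι-space, let λ be a
one-parameter subgroup (a bialgebra map to the Laurent polynomial ring) and v ≠ 0 a vector; write
μ(v, λ) = m when t^m · (v moved by λ(t)) extends to the affine line with non-zero value at t = 0.
Then v moved by λ(t) has no limit as t → 0 exactly when μ(v, λ) > 0, has a limit different from the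
origin exactly when μ(v, λ) = 0, and tends to the origin exactly when μ(v, λ) < 0. -/
theorem result (k : Type u) [Field k] (A : Type u) [CommRing A] [Bialgebra k A]
    (ι : Type u) [Fintype ι] [HopfRep.Comod k A (MvPolynomial ι k)] [GLin.IsCoactAlg k A (MvPolynomial ι k)]
    (hlin : GLin.IsLinear k A ι) (lam : A →ₐc[k] k[T;T⁻¹]) (v : ι → k) (hv : v ≠ 0) :
    (¬ GLin.HasLimit k A lam (GLin.vecPt k ι v) ↔ ∃ m : ℤ, GLin.IsMu k A lam v m ∧ 0 < m) ∧
      ((GLin.HasLimit k A lam (GLin.vecPt k ι v) ∧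
          ¬ GLin.IsLimit k A lam (GLin.vecPt k ι v) (GLin.vecPt k ι (fun _ => (0 : k)))) ↔
        GLin.IsMu k A lam v 0) ∧
      (GLin.IsLimit k A lam (GLin.vecPt k ι v) (GLin.vecPt k ι (fun _ => (0 : k))) ↔
        ∃ m : ℤ, GLin.IsMu k A lam v m ∧ m < 0) := by
  obtain ⟨m, hm, huniq⟩ := Groth.Agent.GLinMuLib.existsUnique_isMu lam v hv
  have hex : ∀ P : ℤ → Prop, (∃ n, GLin.IsMu k A lam v n ∧ P n) ↔ P m :=
    fun P => ⟨fun ⟨n, hn, h⟩ => huniq n hn ▸ h, fun h => ⟨m, hm, h⟩⟩
  obtain ⟨H, i, hi⟩ := (Groth.Agent.GLinMuLib.isMu_iff lam v m).1 hm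
  have h0 : GLin.IsMu k A lam v 0 ↔ m = 0 := ⟨fun h => (huniq 0 h).symm, fun h => h ▸ hm⟩
  have hlim : GLin.HasLimit k A lam (GLin.vecPt k ι v) ↔ m ≤ 0 := by
    rw [Groth.Agent.GLinMuLib.hasLimit_iff]
    exact ⟨fun h => not_lt.1 fun hm' => hi (h i (-m) (by omega)), fun h j n hn => H j n (by omega)⟩
  have hzero : GLin.IsLimit k A lam (GLin.vecPt k ι v) (GLin.vecPt k ι (fun _ => (0 : k))) ↔ m < 0 := by
    rw [Groth.Agent.GLinMuLib.isLimit_iff]
    refine ⟨fun h => not_le.1 fun hm' => hi ?_,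
      fun h => ⟨fun j n hn => H j n (by omega), fun j => H j 0 (by omega)⟩⟩
    rcases hm'.lt_or_eq with h' | h'
    · exact h.1 i (-m) (by omega)
    · rw [← h', neg_zero]; exact h.2 i
  rw [hex, hex, h0, hlim, hzero]
  omega

end Groth.Agent.S12545
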