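import Groth.Statements.S12549
import Groth.Agent.GITChain.Basic

set_option autoImplicit false
universe u
open GIT

namespace Groth.Agent.S12549

/-- Let g ≥ 1 and n ≥ 2g, and let e_0, …, e_n be natural numbers with e_0 = 0, e_n = n + g, e_0 ≤ … ≤
e_n, e_i ≤ i for i ≤ n − g and e_i ≤ i + g for all i. Then for all real r_0 ≥ r_1 ≥ … ≥ r_n with Σ
r_i = 0, not all zero, some chain 0 = c_0 < c_1 < … < c_μ = n has Σ_j (e_(c_(j+1)) − e_(c_j)) ·
(r_(c_(j+1)) + r_(c_j)) < 0. -/
theorem result (n g : ℕ) (hg : 1 ≤ g) (hn : 2 * g ≤ n)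
    (e : Fin (n + 1) → ℕ) (he0 : e 0 = 0) (hen : e (Fin.last n) = n + g) (hmono : Monotone e)
    (hle : ∀ i : Fin (n + 1), (i : ℕ) ≤ n - g → e i ≤ (i : ℕ)) (hle' : ∀ i : Fin (n + 1), e i ≤ (i : ℕ) + g)
    (r : Fin (n + 1) → ℝ) (hanti : Antitone r) (hsum : ∑ i, r i = 0) (hr : r ≠ 0) :
    ∃ (μ : ℕ) (c : Fin (μ + 1) → Fin (n + 1)), StrictMono c ∧ c 0 = 0 ∧ c (Fin.last μ) = Fin.last n ∧
      ∑ j : Fin μ, ((e (c j.succ) : ℝ) - (e (c j.castSucc) : ℝ)) * (r (c j.succ) + r (c j.castSucc)) < 0 := by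
  open Groth.Agent.GITChain in
  let R : ℕ → ℝ := fun i => if h : i < n + 1 then r ⟨i, h⟩ else 0
  let E : ℕ → ℕ := fun i => if h : i < n + 1 then e ⟨i, h⟩ else 0
  have hR : ∀ i : Fin (n + 1), R i = r i := fun i => dif_pos i.2
  have hE : ∀ i : Fin (n + 1), E i = e i := fun i => dif_pos i.2
  have hantiR : ∀ i j, i ≤ j → j ≤ n → R j ≤ R i := fun i j hij hj => by
    simp only [R, dif_pos (show j < n + 1 by omega), dif_pos (show i < n + 1 by omega)]
    exact hanti (Fin.le_def.2 hij)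
  have hsumR : ∑ i ∈ Finset.range (n + 1), R i = 0 := by
    rw [← Fin.sum_univ_eq_sum_range]; simp only [hR]; exact hsum
  have hR0 : 0 < R 0 := by
    by_contra h
    push Not at h
    refine hr (funext fun i => ?_)
    have hnp : ∀ i : Fin (n + 1), r i ≤ 0 := fun i => by
      rw [← hR]; exact le_trans (hantiR 0 i (Nat.zero_le _) (Nat.lt_succ_iff.1 i.2)) h
    exact (Finset.sum_eq_zero_iff_of_nonpos fun i _ => hnp i).1 hsum i (Finset.mem_univ i)
  have hE0 : E 0 = 0 := (hE 0).trans he0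
  have hEn : E n = n + g := by simpa using (hE (Fin.last n)).trans hen
  suffices ∃ (μ : ℕ) (c : ℕ → ℕ), (∀ i < μ, c i < c (i + 1)) ∧ c 0 = 0 ∧ c μ = n ∧
      Groth.Agent.GITChain.value E c R μ < 0 by
    obtain ⟨μ, c, hc, hc0, hcμ, hv⟩ := this
    have hmono' : ∀ i j, i ≤ j → j ≤ μ → c i ≤ c j := by
      intro i j hij hj
      induction j, hij using Nat.le_induction with
      | base => exact le_rfl
      | succ j _ ih => exact (ih (by omega)).trans (hc j (by omega)).le
    refine ⟨μ, fun i => ⟨c i, Nat.lt_succ_of_le ((hmono' i μ (Nat.lt_succ_iff.1 i.2) le_rfl).trans hcμ.le)⟩,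
      ?_, Fin.ext hc0, Fin.ext hcμ, ?_⟩
    · intro i j hij
      show c i < c j
      exact lt_of_lt_of_le (hc i (by omega)) (hmono' (i + 1) j (Nat.succ_le_of_lt hij) (Nat.lt_succ_iff.1 j.2))
    · refine lt_of_eq_of_lt ?_ hv
      rw [Groth.Agent.GITChain.value, ← Fin.sum_univ_eq_sum_range]
      refine Finset.sum_congr rfl fun j _ => ?_
      simp only [← hR, ← hE, Fin.val_succ, Fin.val_castSucc]
  rcases Groth.Agent.GITChain.exists_chain R hg hn hantiR hsumR hR0 with ⟨j, hj, hlt⟩ | hlt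
  · refine ⟨n - 2 * j, Groth.Agent.GITChain.chain n g j, fun i hi => ?_, ?_, ?_, lt_of_le_of_lt ?_ hlt⟩
    · simp only [Groth.Agent.GITChain.chain]; split_ifs <;> omega
    · simp only [Groth.Agent.GITChain.chain]; split_ifs <;> omega
    · simp only [Groth.Agent.GITChain.chain]; split_ifs <;> omega
    have hle_n : ∀ i ≤ n - 2 * j, Groth.Agent.GITChain.chain n g j i ≤ n := fun i hi => by
      simp only [Groth.Agent.GITChain.chain]; split_ifs <;> omega
    refine Groth.Agent.GITChain.value_le R (fun i hi => ?_) ?_ ?_ fun i hi => ?_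
    · have hlt := hle_n i hi
      generalize Groth.Agent.GITChain.chain n g j i = c at hlt
      simp only [E, dif_pos (show c < n + 1 by omega), Groth.Agent.GITChain.wt]
      split_ifs with hc
      · exact hle ⟨c, _⟩ hc
      · exact hle' ⟨c, _⟩
    · have h0 : Groth.Agent.GITChain.chain n g j 0 = 0 := if_pos (Nat.zero_le _)
      rw [h0, hE0]; simp [Groth.Agent.GITChain.wt]
    · have hμ : Groth.Agent.GITChain.chain n g j (n - 2 * j) = n := by
        simp only [Groth.Agent.GITChain.chain]; split_ifs <;> omega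
      rw [hμ, hEn]; simp only [Groth.Agent.GITChain.wt]; split_ifs <;> omega
    · refine hantiR _ _ ?_ (hle_n _ (by omega))
      simp only [Groth.Agent.GITChain.chain]; split_ifs <;> omega
  · refine ⟨1, fun i => n * i, fun i hi => ?_, by simp, by simp, ?_⟩
    · rw [Nat.lt_one_iff.1 hi]; simp; omega
    · simp only [Groth.Agent.GITChain.value, Finset.sum_range_one, mul_one, mul_zero, zero_add, hE0, hEn,
        Nat.cast_zero, sub_zero]
      refine mul_neg_of_pos_of_neg (by positivity) ?_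
      linarith

end Groth.Agent.S12549
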