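import Groth.Statements.S12550
import Mathlib

set_option autoImplicit false
universe u
open GIT

namespace Groth.Agent.S12550

/-- Let V be a finite-dimensional vector space over a field K and x_0, …, x_m non-zero vectors, a
configuration of m + 1 points of the projective space P(V). If for every subspace L with 0 ≠ L ≠ V
the number of indices i with x_i ∈ L, multiplied by dim V, is less than dim L · (m + 1) (the
configuration is stable), then no two proper subspaces L', L'' with L' ∩ L'' = 0 contain between
them all the x_i. -/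
theorem result (K : Type u) [Field K]
    (V : Type u) [AddCommGroup V] [Module K V] [FiniteDimensional K V]
    (m : ℕ) (x : Fin (m + 1) → V) (hx : ∀ i, x i ≠ 0)
    (hst : ∀ L : Submodule K V, L ≠ ⊥ → L ≠ ⊤ →
      Set.ncard {i : Fin (m + 1) | x i ∈ L} * Module.finrank K V < Module.finrank K L * (m + 1)) :
    ¬ ∃ L' L'' : Submodule K V, L' ≠ ⊤ ∧ L'' ≠ ⊤ ∧ Disjoint L' L'' ∧ ∀ i, x i ∈ L' ∨ x i ∈ L'' := by
  classical
  rintro ⟨L, M, hL, hM, hd, hcov⟩
  set s := {i : Fin (m + 1) | x i ∈ L}
  set t := {i : Fin (m + 1) | x i ∈ M}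
  have hcard : m + 1 ≤ s.ncard + t.ncard := by
    have : s ∪ t = Set.univ := Set.eq_univ_of_forall hcov
    calc m + 1 = (Set.univ : Set (Fin (m + 1))).ncard := by simp
      _ ≤ _ := by rw [← this]; exact Set.ncard_union_le _ _
  have hLb : L ≠ ⊥ := by
    rintro rfl
    have : t = Set.univ := Set.eq_univ_of_forall fun i => (hcov i).resolve_left (by simpa using hx i)
    have hMb : M ≠ ⊥ := fun h => hx 0 (by have := (hcov 0); simp_all)
    have h1 := hst M hMb hM
    have h2 : t.ncard = m + 1 := by simp [this]
    rw [show ({i | x i ∈ M} : Set (Fin (m+1))).ncard = m + 1 from h2] at h1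
    have := Submodule.finrank_le M
    nlinarith
  have hMb : M ≠ ⊥ := by
    rintro rfl
    have : s = Set.univ := Set.eq_univ_of_forall fun i => (hcov i).resolve_right (by simpa using hx i)
    have h1 := hst L hLb hL
    have h2 : s.ncard = m + 1 := by simp [this]
    rw [show ({i | x i ∈ L} : Set (Fin (m+1))).ncard = m + 1 from h2] at h1
    have := Submodule.finrank_le L
    nlinarith
  have h1 : s.ncard * _ < _ := hst L hLb hL
  have h2 : t.ncard * _ < _ := hst M hMb hM
  have h3 := Submodule.finrank_sup_add_finrank_inf_eq L M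
  rw [hd.eq_bot, finrank_bot, add_zero] at h3
  have h4 := Submodule.finrank_le (L ⊔ M)
  nlinarith

end Groth.Agent.S12550
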