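import Groth.Statements.S12552
import Groth.Agent.RootChLib.Farkas
-- import your own Groth.Agent.* helpers here

set_option autoImplicit false
universe u
open GIT

namespace Groth.Agent.S12552

private theorem sum_shift_nonneg {E : Type*} (c d : E → ℚ) :
    ∀ (n : ℕ) (s : Finset E), s.card ≤ n →
      (∀ t : ℚ, ∑ j ∈ s.filter (fun j => c j ≤ t), d j ≤ 0) →
      ∀ M : ℚ, (∀ j ∈ s, c j ≤ M) → 0 ≤ ∑ j ∈ s, (c j - M) * d j := by
  classical
  intro n
  induction n with
  | zero =>
    intro s hs _ M _
    simp [Finset.card_eq_zero.1 (Nat.le_zero.1 hs)]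
  | succ n ih =>
    intro s hs h M hM
    rcases s.eq_empty_or_nonempty with rfl | hne
    · simp
    obtain ⟨a, ha, hamax⟩ := s.exists_max_image c hne
    let s' := s.filter (fun j => c j < c a)
    have hcard : s'.card ≤ n := by
      have : s'.card < s.card := Finset.card_lt_card (Finset.filter_ssubset.2 ⟨a, ha, lt_irrefl _⟩)
      omega
    have hs' : ∑ j ∈ s, (c j - c a) * d j = ∑ j ∈ s', (c j - c a) * d j := by
      refine (Finset.sum_subset (Finset.filter_subset _ _) fun j hj hj' => ?_).symm
      have : c j = c a := le_antisymm (hamax j hj) (not_lt.1 fun e => hj' (Finset.mem_filter.2 ⟨hj, e⟩))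
      simp [this]
    have h0 : 0 ≤ ∑ j ∈ s, (c j - c a) * d j := by
      rw [hs']
      rcases s'.eq_empty_or_nonempty with e | hne'
      · simp [e]
      obtain ⟨b, hb, hbmax⟩ := s'.exists_max_image c hne'
      have hb' : c b < c a := (Finset.mem_filter.1 hb).2
      have hle : ∀ t : ℚ, ∑ j ∈ s'.filter (fun j => c j ≤ t), d j ≤ 0 := by
        intro t
        have : s'.filter (fun j => c j ≤ t) = s.filter (fun j => c j ≤ min t (c b)) := by
          ext j
          simp only [s', Finset.mem_filter, le_min_iff]
          constructor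
          · rintro ⟨⟨h1, h2⟩, h3⟩
            exact ⟨h1, h3, hbmax j (Finset.mem_filter.2 ⟨h1, h2⟩)⟩
          · rintro ⟨h1, h2, h3⟩
            exact ⟨⟨h1, h3.trans_lt hb'⟩, h2⟩
        rw [this]
        exact h _
      have hih := ih s' hcard hle (c b) hbmax
      have hsum : ∑ j ∈ s', d j ≤ 0 := by
        have := hle (c b)
        rwa [Finset.filter_true_of_mem hbmax] at this
      have e : ∑ j ∈ s', (c j - c a) * d j = ∑ j ∈ s', (c j - c b) * d j + (c b - c a) * ∑ j ∈ s', d j := by
        rw [Finset.mul_sum, ← Finset.sum_add_distrib]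
        exact Finset.sum_congr rfl fun j _ => by ring
      rw [e]
      exact add_nonneg hih (mul_nonneg_of_nonpos_of_nonpos (by linarith) hsum)
    have hall : ∑ j ∈ s, d j ≤ 0 := by
      have := h (c a)
      rwa [Finset.filter_true_of_mem hamax] at this
    have e : ∑ j ∈ s, (c j - M) * d j = ∑ j ∈ s, (c j - c a) * d j + (c a - M) * ∑ j ∈ s, d j := by
      rw [Finset.mul_sum, ← Finset.sum_add_distrib]
      exact Finset.sum_congr rfl fun j _ => by ring
    rw [e]
    exact add_nonneg h0 (mul_nonneg_of_nonpos_of_nonpos (by linarith [hM a ha]) hall)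

/-- A point of the base polytope pairs with any cost at least as much as some basis. -/
private theorem exists_basis_cost_le {K V E : Type*} [Field K] [AddCommGroup V] [Module K V]
    [FiniteDimensional K V] [Fintype E] (x : E → V) (hspan : Submodule.span K (Set.range x) = ⊤)
    (z : E → ℚ) (htot : ∑ j, z j = Module.finrank K V)
    (hz : ∀ s : Finset E, ∑ j ∈ s, z j ≤ Module.finrank K (Submodule.span K (x '' (s : Set E))))
    (c : E → ℚ) :
    ∃ S : Finset E, (S.card = Module.finrank K V ∧ LinearIndependent K (fun j : S => x j)) ∧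
      ∑ j ∈ S, c j ≤ ∑ j, c j * z j := by
  classical
  let bases : Finset (Finset E) := Finset.univ.filter fun S =>
    S.card = Module.finrank K V ∧ LinearIndependent K (fun j : S => x j)
  have card_of : ∀ t : Set E, LinearIndepOn K x t → Submodule.span K (x '' t) = ⊤ →
      t.toFinset.card = Module.finrank K V ∧ LinearIndependent K (fun j : t.toFinset => x j) := by
    intro t ht hsp
    refine ⟨?_, ?_⟩
    · have h1 := finrank_span_eq_card (R := K) (b := fun j : t => x j) ht
      rw [show Set.range (fun j : t => x j) = x '' t by simp [Set.image_eq_range], hsp, finrank_top] at h1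
      rw [h1, Set.toFinset_card]
    · have : LinearIndepOn K x (t.toFinset : Set E) := by simpa using ht
      exact this
  have hne : bases.Nonempty := by
    obtain ⟨t, -, -, h3, h4⟩ := exists_linearIndepOn_extension (K := K) (v := x) (s := ∅) (t := Set.univ)
      (linearIndepOn_empty K x) (Set.subset_univ _)
    refine ⟨t.toFinset, Finset.mem_filter.2 ⟨Finset.mem_univ _, card_of t h4 ?_⟩⟩
    rw [Set.image_univ] at h3
    exact top_le_iff.1 (hspan ▸ Submodule.span_le.2 h3)
  obtain ⟨S, hS, hmin⟩ := bases.exists_min_image (fun S => ∑ j ∈ S, c j) hne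
  obtain ⟨-, hScard, hSli⟩ := Finset.mem_filter.1 hS
  refine ⟨S, ⟨hScard, hSli⟩, ?_⟩
  have hSli' : LinearIndepOn K x (S : Set E) := hSli
  have hSspan : Submodule.span K (x '' (S : Set E)) = ⊤ := by
    apply Submodule.eq_top_of_finrank_eq
    have h1 := finrank_span_eq_card (R := K) (b := fun j : S => x j) hSli
    rw [show Set.range (fun j : S => x j) = x '' (S : Set E) by simp [Set.image_eq_range]] at h1
    rw [h1, Fintype.card_coe, hScard]
  have hexch : ∀ j, x j ∈ Submodule.span K (x '' (S.filter (fun b => c b ≤ c j) : Set E)) := by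
    intro j
    by_contra hj
    have hjS : j ∉ S := fun h => hj (Submodule.subset_span ⟨j, by simp [h], rfl⟩)
    have hli0 : LinearIndepOn K x (insert j (S.filter (fun b => c b ≤ c j) : Set E)) :=
      (hSli'.mono (Finset.coe_subset.2 (Finset.filter_subset _ _))).insert hj
    obtain ⟨t, ht1, ht2, ht3, ht4⟩ := exists_linearIndepOn_extension (K := K) (v := x) hli0
      (t := insert j (S : Set E)) (Set.insert_subset_insert (Finset.coe_subset.2 (Finset.filter_subset _ _)))
    have hsp : Submodule.span K (x '' t) = ⊤ := by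
      refine top_le_iff.1 (hSspan ▸ Submodule.span_le.2 ?_)
      exact (Set.image_mono (Set.subset_insert _ _)).trans ht3
    obtain ⟨hc, hli⟩ := card_of t ht4 hsp
    have hm := hmin t.toFinset (Finset.mem_filter.2 ⟨Finset.mem_univ _, hc, hli⟩)
    have hjt : j ∈ t := ht2 (Set.mem_insert _ _)
    have hsub : t.toFinset.erase j ⊆ S := by
      intro b hb
      obtain ⟨hbj, hbt⟩ := Finset.mem_erase.1 hb
      exact ((ht1 (Set.mem_toFinset.1 hbt)).resolve_left hbj)
    have hd : (S \ t.toFinset.erase j).card = 1 := by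
      rw [Finset.card_sdiff_of_subset hsub, Finset.card_erase_of_mem (Set.mem_toFinset.2 hjt), hc, hScard]
      have : 0 < t.toFinset.card := Finset.card_pos.2 ⟨j, Set.mem_toFinset.2 hjt⟩
      omega
    obtain ⟨b, hb⟩ := Finset.card_eq_one.1 hd
    have hbmem : b ∈ S \ t.toFinset.erase j := by rw [hb]; exact Finset.mem_singleton_self b
    obtain ⟨hbS, hbt⟩ := Finset.mem_sdiff.1 hbmem
    have hcb : c j < c b := by
      by_contra hle
      apply hbt
      refine Finset.mem_erase.2 ⟨fun e => hjS (e ▸ hbS), Set.mem_toFinset.2 (ht2 (Set.mem_insert_of_mem _ ?_))⟩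
      simp [hbS, not_lt.1 hle]
    have e1 : ∑ k ∈ S, c k = c b + ∑ k ∈ t.toFinset.erase j, c k := by
      rw [← Finset.sum_sdiff hsub, hb, Finset.sum_singleton]
    have e2 : ∑ k ∈ t.toFinset, c k = c j + ∑ k ∈ t.toFinset.erase j, c k :=
      (Finset.add_sum_erase _ _ (Set.mem_toFinset.2 hjt)).symm
    linarith
  let d : E → ℚ := fun j => z j - if j ∈ S then 1 else 0
  have hrank : ∀ t : ℚ, ∑ j ∈ (Finset.univ : Finset E).filter (fun j => c j ≤ t), d j ≤ 0 := by
    intro t
    have hspeq : Submodule.span K (x '' (((Finset.univ : Finset E).filter fun j => c j ≤ t) : Set E)) =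
        Submodule.span K (x '' ((S.filter fun b => c b ≤ t) : Set E)) := by
      refine le_antisymm (Submodule.span_le.2 ?_) (Submodule.span_mono (Set.image_mono (by simp [Set.subset_def])))
      rintro _ ⟨j, hj, rfl⟩
      have hj' : c j ≤ t := by simpa using hj
      refine Submodule.span_mono (Set.image_mono ?_) (hexch j)
      intro b hb
      simp only [Finset.coe_filter, Set.mem_setOf_eq] at hb ⊢
      exact ⟨hb.1, hb.2.trans hj'⟩
    have h1 := hz ((Finset.univ : Finset E).filter fun j => c j ≤ t)
    rw [hspeq] at h1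
    have hli : LinearIndepOn K x ((S.filter fun b => c b ≤ t) : Set E) := hSli'.mono (Finset.coe_subset.2 (Finset.filter_subset _ _))
    have h2 : Module.finrank K (Submodule.span K (x '' ((S.filter fun b => c b ≤ t) : Set E))) =
        (S.filter fun b => c b ≤ t).card := by
      rw [Set.image_eq_range, finrank_span_eq_card (R := K) (b := fun j : ((S.filter fun b => c b ≤ t) : Set E) => x j) hli]
      simp
    rw [h2] at h1
    simp only [d, Finset.sum_sub_distrib, Finset.sum_boole]
    rw [Finset.filter_filter, show (Finset.univ.filter fun j => c j ≤ t ∧ j ∈ S) = S.filter (fun b => c b ≤ t) by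
      ext; simp [and_comm]]
    linarith
  obtain ⟨M, hM⟩ : ∃ M : ℚ, ∀ j, c j ≤ M := ⟨∑ j, |c j|, fun j => (le_abs_self _).trans
    (Finset.single_le_sum (f := fun j => |c j|) (fun _ _ => abs_nonneg _) (Finset.mem_univ j))⟩
  have key := sum_shift_nonneg c d _ Finset.univ le_rfl hrank M fun j _ => hM j
  have e : ∑ j, (c j - M) * d j = ∑ j, c j * z j - ∑ j ∈ S, c j - M * (∑ j, z j - S.card) := by
    simp only [d, sub_mul, mul_sub, mul_ite, mul_one, mul_zero, Finset.sum_sub_distrib, ← Finset.mul_sum,
      Finset.sum_ite_mem, Finset.univ_inter, Finset.sum_const, nsmul_eq_mul]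
    ring
  rw [e, htot, hScard] at key
  linarith

private theorem backward {K V : Type*} [Field K] [AddCommGroup V] [Module K V] [FiniteDimensional K V]
    (m : ℕ) (x : Fin (m + 1) → V)
    (h : ∃ N N₀ : ℕ, 0 < N₀ ∧ N₀ ≤ N ∧
        ∀ i : Fin (m + 1), ∃ P : Multiset (Finset (Fin (m + 1))), P ≠ 0 ∧
          (∀ S ∈ P, S.card = Module.finrank K V ∧ LinearIndependent K (fun j : S => x j)) ∧
          ∀ j : Fin (m + 1),
            Multiset.card (P.filter (fun S => j ∈ S)) = if j = i then N - N₀ else N)
    (L : Submodule K V) (hbot : L ≠ ⊥) (htop : L ≠ ⊤) :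
    Set.ncard {i : Fin (m + 1) | x i ∈ L} * Module.finrank K V < Module.finrank K L * (m + 1) := by
  classical
  obtain ⟨N, N₀, hN₀, hle, hP⟩ := h
  let A : Finset (Fin (m + 1)) := Finset.univ.filter fun i => x i ∈ L
  have hA : Set.ncard {i : Fin (m + 1) | x i ∈ L} = A.card := by
    rw [← Set.ncard_coe_finset]; congr 1; ext; simp [A]
  obtain ⟨i, hi⟩ : ∃ i, x i ∉ L := by
    by_contra! hall
    obtain ⟨P, hP0, hPb, -⟩ := hP 0
    obtain ⟨S, hS⟩ := Multiset.exists_mem_of_ne_zero hP0
    obtain ⟨hc, hli⟩ := hPb S hS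
    have h1 := finrank_span_eq_card (R := K) (b := fun j : S => x j) hli
    rw [Fintype.card_coe, hc] at h1
    exact htop (top_le_iff.1 (Submodule.eq_top_of_finrank_eq h1 ▸ Submodule.span_le.2 (by
      rintro _ ⟨j, rfl⟩
      exact hall j)))
  obtain ⟨P, hP0, hPb, hPc⟩ := hP i
  have hcount : ∀ T : Finset (Fin (m + 1)),
      ∑ j ∈ T, Multiset.card (P.filter (fun S => j ∈ S)) = (P.map (fun S => (T ∩ S).card)).sum := by
    intro T
    clear hPc hPb hP0
    induction P using Multiset.induction_on with
    | empty => simp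
    | cons S P ih =>
      simp only [Multiset.filter_cons, Multiset.card_add, Finset.sum_add_distrib, ih, Multiset.map_cons,
        Multiset.sum_cons]
      congr 1
      rw [← Finset.filter_mem_eq_inter, Finset.card_filter]
      exact Finset.sum_congr rfl fun j _ => by split_ifs <;> simp
  have hT := hcount Finset.univ
  have hAc := hcount A
  rw [Multiset.map_congr rfl (g := fun _ => Module.finrank K V) fun S hS => by
      rw [Finset.univ_inter, (hPb S hS).1], Multiset.map_const', Multiset.sum_replicate, smul_eq_mul] at hT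
  have hbd : (P.map (fun S => (A ∩ S).card)).sum ≤ Multiset.card P * Module.finrank K L := by
    refine le_trans (Multiset.sum_le_card_nsmul _ (Module.finrank K L) ?_) (by simp)
    intro q hq
    obtain ⟨S, hS, rfl⟩ := Multiset.mem_map.1 hq
    have hli : LinearIndepOn K x ((A ∩ S : Finset (Fin (m + 1))) : Set (Fin (m + 1))) :=
      (show LinearIndepOn K x (S : Set (Fin (m + 1))) from (hPb S hS).2).mono
        (Finset.coe_subset.2 Finset.inter_subset_right)
    have h1 := finrank_span_eq_card (R := K)
      (b := fun j : ((A ∩ S : Finset (Fin (m + 1))) : Set (Fin (m + 1))) => x j) hli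
    simp only [Finset.coe_sort_coe, Fintype.card_coe] at h1
    refine h1 ▸ Submodule.finrank_mono (Submodule.span_le.2 ?_)
    rintro _ ⟨j, rfl⟩
    have := (Finset.mem_inter.1 j.2).1
    simpa [A] using this
  have hAN : ∑ j ∈ A, Multiset.card (P.filter (fun S => j ∈ S)) = A.card * N := by
    rw [← smul_eq_mul, ← Finset.sum_const]
    refine Finset.sum_congr rfl fun j hj => ?_
    rw [hPc, if_neg]
    rintro rfl
    exact hi (by simpa [A] using hj)
  have htot : ∑ j, Multiset.card (P.filter (fun S => j ∈ S)) + N₀ = (m + 1) * N := by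
    rw [Finset.sum_congr rfl fun j _ => hPc j,
      ← Finset.add_sum_erase _ _ (Finset.mem_univ i), if_pos rfl,
      Finset.sum_congr rfl fun j hj => if_neg (Finset.ne_of_mem_erase hj),
      Finset.sum_const, Finset.card_erase_of_mem (Finset.mem_univ i), Finset.card_univ, Fintype.card_fin,
      smul_eq_mul, Nat.add_sub_cancel, Nat.succ_mul]
    omega
  have hd : 0 < Module.finrank K L := Nat.pos_of_ne_zero fun e => hbot (Submodule.finrank_eq_zero.1 e)
  rw [hA]
  have key : A.card * N ≤ Multiset.card P * Module.finrank K L := hAN ▸ hAc ▸ hbd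
  have htot' : Multiset.card P * Module.finrank K V + N₀ = (m + 1) * N := by rw [← hT]; exact htot
  by_contra hcon
  rw [not_lt] at hcon
  have h3 := Nat.mul_le_mul_right (Module.finrank K V) key
  have h4 := Nat.mul_le_mul_right N hcon
  nlinarith [Nat.mul_pos hd hN₀]

private theorem forward {K V : Type*} [Field K] [AddCommGroup V] [Module K V] [FiniteDimensional K V]
    (m : ℕ) (x : Fin (m + 1) → V) (hx : ∀ i, x i ≠ 0)
    (h : ∀ L : Submodule K V, L ≠ ⊥ → L ≠ ⊤ →
        Set.ncard {i : Fin (m + 1) | x i ∈ L} * Module.finrank K V < Module.finrank K L * (m + 1)) :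
    ∃ N N₀ : ℕ, 0 < N₀ ∧ N₀ ≤ N ∧
        ∀ i : Fin (m + 1), ∃ P : Multiset (Finset (Fin (m + 1))), P ≠ 0 ∧
          (∀ S ∈ P, S.card = Module.finrank K V ∧ LinearIndependent K (fun j : S => x j)) ∧
          ∀ j : Fin (m + 1),
            Multiset.card (P.filter (fun S => j ∈ S)) = if j = i then N - N₀ else N := by
  classical
  set r := Module.finrank K V with hr
  haveI : Nontrivial V := nontrivial_of_ne (x 0) 0 (hx 0)
  have hrpos : 0 < r := Module.finrank_pos
  have hspan : Submodule.span K (Set.range x) = ⊤ := by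
    by_contra htop
    set L := Submodule.span K (Set.range x) with hL
    have hbot : L ≠ ⊥ := fun e => hx 0 (by
      have : x 0 ∈ L := Submodule.subset_span ⟨0, rfl⟩
      rw [e] at this; exact (Submodule.mem_bot K).1 this)
    have h1 := h L hbot htop
    have h2 : Set.ncard {i : Fin (m + 1) | x i ∈ L} = m + 1 := by
      rw [Set.eq_univ_of_forall (s := {i : Fin (m + 1) | x i ∈ L}) fun i => Submodule.subset_span ⟨i, rfl⟩,
        Set.ncard_univ, Nat.card_eq_fintype_card, Fintype.card_fin]
    rw [h2, mul_comm] at h1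
    exact absurd (Nat.lt_of_mul_lt_mul_right h1) (not_lt.2 (Submodule.finrank_le L))
  let bases : Finset (Finset (Fin (m + 1))) := Finset.univ.filter fun S =>
    S.card = r ∧ LinearIndependent K (fun j : S => x j)
  let w : Fin (m + 1) → Fin (m + 1) → ℚ := fun i j => (r : ℚ) + 1 - if j = i then 1 else 0
  have hcone : ∀ i, ∃ c : Finset (Fin (m + 1)) → ℚ, (∀ S ∈ bases, 0 ≤ c S) ∧
      ∀ j, ∑ S ∈ bases, (if j ∈ S then c S else 0) = w i j := by
    intro i
    by_contra hno
    obtain ⟨f, hf, hfw⟩ := Groth.Agent.RootChLib.farkas (R := ℚ) bases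
      (fun S => fun j => if j ∈ S then (1 : ℚ) else 0) (w i) fun c hc e => hno ⟨c, hc, fun j => by
        have := congrFun e j
        simpa [Finset.sum_apply] using this⟩
    let cst : Fin (m + 1) → ℚ := fun j => f (Pi.single j 1)
    have hfe : ∀ y : Fin (m + 1) → ℚ, f y = ∑ j, cst j * y j := fun y => by
      conv_lhs => rw [pi_eq_sum_univ' y]
      simp [cst, map_sum, mul_comm]
    let D : ℚ := ((r : ℚ) + 1) * (m + 1) - 1
    have hD : 0 < D := by
      have : (1 : ℚ) ≤ r := by exact_mod_cast hrpos
      have : (0 : ℚ) ≤ m := Nat.cast_nonneg m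
      simp only [D]; nlinarith
    let z : Fin (m + 1) → ℚ := fun j => (r : ℚ) / D * w i j
    have hwsum : ∑ j, w i j = D := by
      simp [w, D, Finset.sum_add_distrib, Finset.sum_sub_distrib]
      ring
    have hwnn : ∀ j, 0 ≤ w i j := fun j => by
      have : (1 : ℚ) ≤ r := by exact_mod_cast hrpos
      simp only [w]; split_ifs <;> linarith
    have hznn : ∀ j, 0 ≤ z j := fun j => mul_nonneg (div_nonneg (Nat.cast_nonneg r) hD.le) (hwnn j)
    have htot : ∑ j, z j = r := by
      rw [← Finset.mul_sum, hwsum, div_mul_cancel₀ _ hD.ne']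
    have hz : ∀ s : Finset (Fin (m + 1)),
        ∑ j ∈ s, z j ≤ Module.finrank K (Submodule.span K (x '' (s : Set (Fin (m + 1))))) := by
      intro s
      set L := Submodule.span K (x '' (s : Set (Fin (m + 1)))) with hL
      by_cases htop : L = ⊤
      · rw [htop, finrank_top, ← hr, ← htot]
        exact Finset.sum_le_sum_of_subset_of_nonneg (Finset.subset_univ _) fun j _ _ => hznn j
      rcases s.eq_empty_or_nonempty with hs | ⟨a, ha⟩
      · simp [hs]
      have hbot : L ≠ ⊥ := fun e => hx a (by
        have : x a ∈ L := Submodule.subset_span ⟨a, ha, rfl⟩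
        rw [e] at this; exact (Submodule.mem_bot K).1 this)
      have h1 := h L hbot htop
      have h2 : s.card ≤ Set.ncard {i : Fin (m + 1) | x i ∈ L} := by
        rw [← Set.ncard_coe_finset]
        exact Set.ncard_le_ncard (fun j hj => Submodule.subset_span ⟨j, hj, rfl⟩) (Set.toFinite _)
      have h3 : s.card * r + 1 ≤ Module.finrank K L * (m + 1) :=
        Nat.succ_le_of_lt ((Nat.mul_le_mul_right r h2).trans_lt h1)
      have h3' : (s.card : ℚ) * r + 1 ≤ Module.finrank K L * (m + 1) := by exact_mod_cast h3
      have h4 : (Module.finrank K L : ℚ) ≤ r := by exact_mod_cast Submodule.finrank_le L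
      have h5 : ∑ j ∈ s, z j ≤ (r : ℚ) / D * (s.card * ((r : ℚ) + 1)) := by
        rw [← Finset.mul_sum]
        refine mul_le_mul_of_nonneg_left ?_ (div_nonneg (Nat.cast_nonneg r) hD.le)
        rw [← nsmul_eq_mul, ← Finset.sum_const]
        exact Finset.sum_le_sum fun j _ => by simp only [w]; split_ifs <;> linarith
      refine h5.trans ?_
      rw [div_mul_eq_mul_div, div_le_iff₀ hD]
      simp only [D]
      nlinarith
    obtain ⟨S, hS, hle⟩ := exists_basis_cost_le x hspan z htot hz cst
    have h1 := hf S (Finset.mem_filter.2 ⟨Finset.mem_univ _, hS⟩)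
    rw [hfe] at h1 hfw
    have h2 : ∑ j, cst j * z j = (r : ℚ) / D * ∑ j, cst j * w i j := by
      rw [Finset.mul_sum]
      exact Finset.sum_congr rfl fun j _ => by simp only [z]; ring
    have h3 : ∑ j, cst j * (if j ∈ S then (1 : ℚ) else 0) = ∑ j ∈ S, cst j := by simp
    rw [h3] at h1
    rw [h2] at hle
    have : 0 < (r : ℚ) / D := div_pos (by exact_mod_cast hrpos) hD
    nlinarith
  choose c hc hcw using hcone
  let D : ℕ := ∏ p : Fin (m + 1) × Finset (Fin (m + 1)), (c p.1 p.2).den
  have hDpos : 0 < D := Finset.prod_pos fun p _ => Rat.den_pos _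
  have hint : ∀ i S, S ∈ bases → ∃ n : ℕ, (n : ℚ) = D * c i S := by
    intro i S hS
    obtain ⟨q, hq⟩ := Finset.dvd_prod_of_mem (fun p : Fin (m + 1) × Finset (Fin (m + 1)) => (c p.1 p.2).den)
      (Finset.mem_univ (i, S))
    refine ⟨q * (c i S).num.toNat, ?_⟩
    rw [show D = (c i S).den * q from hq]
    have h1 : ((c i S).num.toNat : ℚ) = ((c i S).num : ℚ) := by
      exact_mod_cast Int.toNat_of_nonneg (Rat.num_nonneg.2 (hc i S hS))
    push_cast
    rw [h1, ← Rat.mul_den_eq_num]
    ring
  choose! n hn using hint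
  refine ⟨D * (r + 1), D, hDpos, Nat.le_mul_of_pos_right D r.succ_pos, fun i => ?_⟩
  let P : Multiset (Finset (Fin (m + 1))) := ∑ S ∈ bases, Multiset.replicate (n i S) S
  have hcnt : ∀ j, Multiset.card (P.filter (fun S => j ∈ S)) =
      if j = i then D * (r + 1) - D else D * (r + 1) := by
    intro j
    have h1 : Multiset.card (P.filter (fun S => j ∈ S)) = ∑ S ∈ bases, if j ∈ S then n i S else 0 := by
      rw [← Multiset.countP_eq_card_filter]
      change Multiset.countP (fun S => j ∈ S) P = _
      rw [show Multiset.countP (fun S => j ∈ S) P = Multiset.countPAddMonoidHom (fun S => j ∈ S) P from rfl,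
        map_sum]
      refine Finset.sum_congr rfl fun S _ => ?_
      rw [Multiset.coe_countPAddMonoidHom]
      split_ifs with hj
      · rw [Multiset.countP_eq_card.2 fun a ha => by rw [Multiset.eq_of_mem_replicate ha]; exact hj,
          Multiset.card_replicate]
      · exact Multiset.countP_eq_zero.2 fun a ha => by rw [Multiset.eq_of_mem_replicate ha]; exact hj
    have h2 : ((∑ S ∈ bases, if j ∈ S then n i S else 0 : ℕ) : ℚ) = D * w i j := by
      rw [← hcw i j, Finset.mul_sum]
      push_cast
      exact Finset.sum_congr rfl fun S hS => by split_ifs <;> simp [hn i S hS]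
    rw [h1]
    have : D ≤ D * (r + 1) := Nat.le_mul_of_pos_right D r.succ_pos
    apply (Nat.cast_injective (R := ℚ))
    rw [h2]
    simp only [w]
    split_ifs
    · rw [Nat.cast_sub this]; push_cast; ring
    · push_cast; ring
  refine ⟨P, fun e => ?_, fun S hS => ?_, hcnt⟩
  · have := hcnt i
    rw [e, if_pos rfl] at this
    simp only [Multiset.filter_zero, Multiset.card_zero] at this
    have h' : D * 1 < D * (r + 1) := Nat.mul_lt_mul_of_pos_left (by omega) hDpos
    omega
  · obtain ⟨T, hT, hST⟩ := Multiset.mem_sum.1 hS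
    obtain rfl := Multiset.eq_of_mem_replicate hST
    exact (Finset.mem_filter.1 hT).2

/-- Let V be a finite-dimensional vector space over a field K and x_0, …, x_m non-zero vectors, a
configuration of m + 1 points of P(V); a set S of dim V indices with (x_j)_(j ∈ S) linearly
independent is a determinant section non-zero at the configuration. Then the configuration is stable
(for every subspace L with 0 ≠ L ≠ V, the number of i with x_i ∈ L times dim V is less than dim L ·
(m + 1)) if and only if there are integers N ≥ N_0 > 0 such that for each index i some non-empty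
finite multiset of such sets S contains every index j ≠ i exactly N times and the index i exactly N
− N_0 times (a monomial in the determinant sections, non-zero at the configuration, of multidegree
(N, …, N − N_0, …, N) with the N − N_0 in place i). -/
theorem result (K : Type u) [Field K]
    (V : Type u) [AddCommGroup V] [Module K V] [FiniteDimensional K V]
    (m : ℕ) (x : Fin (m + 1) → V) (hx : ∀ i, x i ≠ 0) :
    (∀ L : Submodule K V, L ≠ ⊥ → L ≠ ⊤ →
        Set.ncard {i : Fin (m + 1) | x i ∈ L} * Module.finrank K V < Module.finrank K L * (m + 1)) ↔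
      ∃ N N₀ : ℕ, 0 < N₀ ∧ N₀ ≤ N ∧
        ∀ i : Fin (m + 1), ∃ P : Multiset (Finset (Fin (m + 1))), P ≠ 0 ∧
          (∀ S ∈ P, S.card = Module.finrank K V ∧ LinearIndependent K (fun j : S => x j)) ∧
          ∀ j : Fin (m + 1),
            Multiset.card (P.filter (fun S => j ∈ S)) = if j = i then N - N₀ else N := by
  exact ⟨forward m x hx, fun h => backward m x h⟩

end Groth.Agent.S12552
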