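import Groth.Statements.S12553
import Groth.Agent.LinRed.Separation
import Mathlib.RingTheory.Bialgebra.GroupLike

set_option autoImplicit false
universe u
open TensorProduct LaurentPolynomial
open GIT

namespace Groth.Agent.S12553

open TensorProduct LaurentPolynomial
open Groth.Agent.LinRed Groth.Agent.Comod

theorem toLaurent_coeff {k : Type*} [Semiring k] (p : Polynomial k) (n : ℤ) :
    (Polynomial.toLaurent p).coeff n = if 0 ≤ n then p.coeff n.toNat else 0 := by
  induction p using Polynomial.induction_on' with
  | add p q hp hq =>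
    simp only [map_add, AddMonoidAlgebra.coeff_add, Finsupp.add_apply, hp, hq, Polynomial.coeff_add]
    split_ifs <;> simp
  | monomial m a =>
    rw [Polynomial.toLaurent_C_mul_T, ← LaurentPolynomial.single_eq_C_mul_T, AddMonoidAlgebra.coeff_single,
      Finsupp.single_apply, Polynomial.coeff_monomial]
    split_ifs <;> first | rfl | (exfalso; omega)


/-- Let k be a field and T = Spec A a diagonalizable affine group (A a commutative Hopf algebra spanned
by its group-like elements, e.g. a torus) acting linearly on affine ι-space. Then there are finitely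
many characters χ_1, …, χ_N of T (group-like elements of A) such that every vector v ≠ 0 has a
non-empty set I of indices for which, for every one-parameter subgroup λ of T with λ(χ_j) = t^(e_j),
the numerical function μ(v, λ) (the m for which t^m · (v moved by λ(t)) tends to a non-zero vector)
equals the maximum of −e_j over j ∈ I: μ is the maximum of finitely many linear functionals on
one-parameter subgroups. (The published proposition concerns a maximal torus of a reductive group
acting on a proper scheme with an ample linearised invertible sheaf; this row is the case of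
projective space with the hyperplane bundle, for any diagonalizable group acting linearly, stated on
the affine cone.) -/
theorem result (k : Type u) [Field k]
    (A : Type u) [CommRing A] [HopfAlgebra k A] (hdiag : HopfRep.IsDiagonalizable k A)
    (ι : Type u) [Fintype ι] [HopfRep.Comod k A (MvPolynomial ι k)] [GLin.IsCoactAlg k A (MvPolynomial ι k)]
    (hlin : GLin.IsLinear k A ι) :
    ∃ (N : ℕ) (χ : Fin N → A), (∀ j, IsGroupLikeElem k (χ j)) ∧
      ∀ v : ι → k, v ≠ 0 → ∃ I : Finset (Fin N), I.Nonempty ∧
        ∀ (lam : A →ₐc[k] k[T;T⁻¹]) (e : Fin N → ℤ), (∀ j, lam (χ j) = LaurentPolynomial.T (e j)) →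
          ∀ m : ℤ, GLin.IsMu k A lam v m ↔ ((∀ j ∈ I, -e j ≤ m) ∧ ∃ j ∈ I, m = -e j) := by
  classical
  have hspan : Submodule.span k {a : A | IsGroupLikeElem k a} = ⊤ := hdiag
  let G := {a : A // IsGroupLikeElem k a}
  let b : Module.Basis G k A := Module.Basis.mk (v := fun a : G => a.1)
    (linearIndepOn_isGroupLikeElem (R := k) (A := A)) (by rw [← hspan]; exact le_of_eq (by congr 1; simp [G]))
  have hb : ∀ g : G, b g = g.1 := fun g => Module.Basis.mk_apply _ _ g
  choose mm hmm using hlin
  let S : Finset G := Finset.univ.biUnion fun ij : ι × ι => (b.repr (mm ij.1 ij.2)).support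
  let χ : Fin S.card → A := fun j => (S.equivFin.symm j).1.1
  refine ⟨S.card, χ, fun j => (S.equivFin.symm j).1.2, fun v hv => ?_⟩
  let x : MvPolynomial ι k →ₐ[k] k := GLin.vecPt k ι v
  let φ : G → (A →ₗ[k] k) := fun g => b.coord g
  let a : G → ι → k := fun g i => x (actL (φ g) (MvPolynomial.X i))
  have hrepr : ∀ i, HopfRep.Comod.coact (k := k) (A := A) (MvPolynomial.X i : MvPolynomial ι k) =
      ∑ g ∈ S, actL (φ g) (MvPolynomial.X i) ⊗ₜ[k] g.1 := by
    intro i
    have e1 : ∀ g, actL (φ g) (MvPolynomial.X i : MvPolynomial ι k) = ∑ j, φ g (mm i j) • MvPolynomial.X j := by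
      intro g
      rw [actL_apply, hmm i, map_sum]
      simp only [slR_tmul]
    rw [hmm i]
    simp only [e1, TensorProduct.sum_tmul]
    rw [Finset.sum_comm]
    refine Finset.sum_congr rfl fun j _ => ?_
    simp only [TensorProduct.smul_tmul, ← TensorProduct.tmul_sum]
    congr 1
    have hsub : (b.repr (mm i j)).support ⊆ S := fun g hg =>
      Finset.mem_biUnion.2 ⟨(i, j), Finset.mem_univ _, hg⟩
    conv_lhs => rw [← b.linearCombination_repr (mm i j)]
    rw [Finsupp.linearCombination_apply, Finsupp.sum_of_support_subset _ hsub (fun g a => a • b g) (fun g _ => zero_smul k _)]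
    exact Finset.sum_congr rfl fun g _ => by rw [hb]; rfl
  have hsum : ∀ i, ∑ g ∈ S, a g i = v i := by
    intro i
    have h := congrArg (fun z => x (slR (Coalgebra.counit (R := k)) z)) (hrepr i)
    simp only [map_sum, slR_tmul, map_smul, ← actL_apply, actL_counit] at h
    rw [show v i = x (MvPolynomial.X i) from (MvPolynomial.aeval_X _ i).symm, h]
    exact Finset.sum_congr rfl fun g _ => by rw [g.2.counit_eq_one, one_smul]
  -- orthogonality of the projections
  have hconv : ∀ g g' : G, conv (φ g) (φ g') = if g = g' then φ g else 0 := by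
    intro g g'
    refine b.ext fun h => ?_
    simp only [conv, LinearMap.comp_apply, LinearEquiv.coe_coe, hb, h.2.comul_eq_tmul_self,
      TensorProduct.map_tmul, TensorProduct.lid_tmul, smul_eq_mul]
    rw [← hb]
    split_ifs with hgg
    · subst hgg
      simp only [φ, Module.Basis.coord_apply, Module.Basis.repr_self, Finsupp.single_apply]
      split_ifs <;> simp
    · simp only [φ, Module.Basis.coord_apply, Module.Basis.repr_self, Finsupp.single_apply, LinearMap.zero_apply]
      split_ifs with h1 h2
      · exact absurd (h1.symm.trans h2) hgg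
      all_goals simp
  let J : Finset G := S.filter fun g => ∃ i, a g i ≠ 0
  let I : Finset (Fin S.card) := Finset.univ.filter fun j => (S.equivFin.symm j).1 ∈ J
  refine ⟨I, ?_, fun lam e he m => ?_⟩
  · obtain ⟨i, hi⟩ := Function.ne_iff.1 hv
    obtain ⟨g, hg, hgi⟩ := Finset.exists_ne_zero_of_sum_ne_zero (by rw [hsum i]; exact hi : ∑ g ∈ S, a g i ≠ 0)
    exact ⟨S.equivFin ⟨g, hg⟩, Finset.mem_filter.2 ⟨Finset.mem_univ _, by
      rw [Equiv.symm_apply_apply]; exact Finset.mem_filter.2 ⟨hg, i, hgi⟩⟩⟩
  let e' : G → ℤ := fun g => if hg : g ∈ S then e (S.equivFin ⟨g, hg⟩) else 0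
  have hlam : ∀ g ∈ S, lam g.1 = LaurentPolynomial.T (e' g) := by
    intro g hg
    have := he (S.equivFin ⟨g, hg⟩)
    simp only [χ, Equiv.symm_apply_apply] at this
    rw [this]
    simp [e', hg]
  have hL : ∀ i, GLin.lamOrbit k A lam x (MvPolynomial.X i) = ∑ g ∈ S, AddMonoidAlgebra.single (e' g) (a g i) := by
    intro i
    show lam (GLin.orbitHom k A x (MvPolynomial.X i)) = _
    rw [orbitHom_eq_slL, hrepr, map_sum, map_sum]
    refine Finset.sum_congr rfl fun g hg => ?_
    rw [slL_tmul, map_smul, hlam g hg, LaurentPolynomial.T, AddMonoidAlgebra.smul_single', mul_one]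
    rfl
  have hshift : ∀ i, GLin.shiftedOrbit k A lam v m (MvPolynomial.X i) =
      ∑ g ∈ S, AddMonoidAlgebra.single (m + e' g) (a g i) := by
    intro i
    rw [GLin.shiftedOrbit, MvPolynomial.aeval_X, hL, Finset.mul_sum]
    exact Finset.sum_congr rfl fun g _ => by
      rw [LaurentPolynomial.T, AddMonoidAlgebra.single_mul_single, one_mul]
  have hcoef : ∀ i n, (GLin.shiftedOrbit k A lam v m (MvPolynomial.X i)).coeff n =
      ∑ g ∈ S.filter (fun g => m + e' g = n), a g i := by
    intro i n
    rw [hshift, AddMonoidAlgebra.coeff_sum, Finset.sum_apply', Finset.sum_filter]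
    exact Finset.sum_congr rfl fun g _ => by rw [AddMonoidAlgebra.coeff_single, Finsupp.single_apply]
  -- no cancellation
  have hnc : ∀ g₀ ∈ J, ∃ i, ∑ g ∈ S.filter (fun g => m + e' g = m + e' g₀), a g i ≠ 0 := by
    intro g₀ hg₀
    obtain ⟨hg₀S, i, hi⟩ := Finset.mem_filter.1 hg₀
    by_contra! hall
    refine hi ?_
    have h0 : ∀ f ∈ Submodule.span k (Set.range (MvPolynomial.X : ι → MvPolynomial ι k)),
        ∑ g ∈ S.filter (fun g => m + e' g = m + e' g₀), x (actL (φ g) f) = 0 := by
      intro f hf
      induction hf using Submodule.span_induction with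
      | mem y hy => obtain ⟨j, rfl⟩ := hy; exact hall j
      | zero => simp
      | add p q _ _ hp hq => simp only [map_add, Finset.sum_add_distrib, hp, hq, add_zero]
      | smul c p _ hp => simp only [map_smul, ← Finset.smul_sum, hp, smul_zero]
    have hmem : actL (φ g₀) (MvPolynomial.X i : MvPolynomial ι k) ∈
        Submodule.span k (Set.range (MvPolynomial.X : ι → MvPolynomial ι k)) := by
      rw [actL_apply, hmm i, map_sum]
      exact Submodule.sum_mem _ fun j _ => by
        rw [slR_tmul]; exact Submodule.smul_mem _ _ (Submodule.subset_span ⟨j, rfl⟩)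
    have h1 := h0 _ hmem
    rw [Finset.sum_eq_single g₀] at h1
    · rwa [actL_actL, hconv, if_pos rfl] at h1
    · intro g _ hne
      rw [actL_actL, hconv, if_neg hne]
      simp [actL_apply, slR]
    · intro hnot
      exact absurd (Finset.mem_filter.2 ⟨hg₀S, rfl⟩ : g₀ ∈ S.filter (fun g => m + e' g = m + e' g₀)) hnot
  have hIJ : ∀ j, j ∈ I ↔ (S.equivFin.symm j).1 ∈ J := fun j => by simp [I]
  have hee : ∀ j, e' (S.equivFin.symm j).1 = e j := fun j => by simp [e']
  have hge : ∀ g ∈ J, ∃ j ∈ I, e j = e' g := fun g hg => by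
    refine ⟨S.equivFin ⟨g, (Finset.mem_filter.1 hg).1⟩, (hIJ _).2 (by rw [Equiv.symm_apply_apply]; exact hg), ?_⟩
    rw [← hee, Equiv.symm_apply_apply]
  constructor
  · rintro ⟨h, hh, hh0⟩
    have hp : ∀ i n, (Polynomial.toLaurent (h (MvPolynomial.X i))).coeff n =
        ∑ g ∈ S.filter (fun g => m + e' g = n), a g i := by
      intro i n
      rw [← hcoef, ← hh]
      rfl
    refine ⟨fun j hj => ?_, ?_⟩
    · obtain ⟨i, hi⟩ := hnc _ ((hIJ j).1 hj)
      rw [← hp, toLaurent_coeff] at hi
      rw [hee] at hi
      by_contra hneg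
      rw [if_neg (by omega)] at hi
      exact hi rfl
    · obtain ⟨i, hi⟩ : ∃ i, Polynomial.aeval (0 : k) (h (MvPolynomial.X i)) ≠ 0 := by
        by_contra! hall
        exact hh0 (MvPolynomial.algHom_ext fun i => by rw [MvPolynomial.aeval_X]; exact hall i)
      rw [← Polynomial.coeff_zero_eq_aeval_zero] at hi
      have h2 := hp i 0
      rw [toLaurent_coeff, if_pos le_rfl, Int.toNat_zero] at h2
      rw [h2] at hi
      obtain ⟨g, hg, hgi⟩ := Finset.exists_ne_zero_of_sum_ne_zero hi
      obtain ⟨hgS, hg0⟩ := Finset.mem_filter.1 hg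
      obtain ⟨j, hj, hje⟩ := hge g (Finset.mem_filter.2 ⟨hgS, i, hgi⟩)
      exact ⟨j, hj, by omega⟩
  · rintro ⟨hle, j₀, hj₀, hm⟩
    let p : ι → Polynomial k := fun i => ∑ g ∈ J, Polynomial.monomial (m + e' g).toNat (a g i)
    have hpL : ∀ i, Polynomial.toLaurent (p i) = GLin.shiftedOrbit k A lam v m (MvPolynomial.X i) := by
      intro i
      rw [hshift]
      simp only [p, map_sum]
      rw [← Finset.sum_subset (show J ⊆ S from Finset.filter_subset _ S) (fun g hg hgJ => by
        have : a g i = 0 := by
          by_contra hne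
          exact hgJ (Finset.mem_filter.2 ⟨hg, i, hne⟩)
        rw [this, AddMonoidAlgebra.single_zero])]
      refine Finset.sum_congr rfl fun g hg => ?_
      obtain ⟨j, hj, hje⟩ := hge g hg
      have := hle j hj
      rw [Polynomial.toLaurent_C_mul_T, ← LaurentPolynomial.single_eq_C_mul_T,
        Int.toNat_of_nonneg (by omega)]
    refine ⟨MvPolynomial.aeval p, MvPolynomial.algHom_ext fun i => ?_, fun heq => ?_⟩
    · rw [AlgHom.comp_apply, MvPolynomial.aeval_X]
      exact hpL i
    · obtain ⟨i, hi⟩ := hnc _ ((hIJ j₀).1 hj₀)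
      refine hi ?_
      rw [← hcoef, ← hpL, toLaurent_coeff, hee, if_pos (by omega), show (m + e j₀).toNat = 0 by omega,
        Polynomial.coeff_zero_eq_eval_zero]
      have := DFunLike.congr_fun heq (MvPolynomial.X i)
      simpa using this

end Groth.Agent.S12553
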