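import Groth.Statements.S12570
import Groth.Agent.FunFldLib.DiffExp

set_option autoImplicit false
universe u v w
open FunFld

namespace Groth.Agent.S12570

open WithZero in
theorem ord_deriv {F : Type*} [Field F] {f : LaurentSeries F} {e : ℕ} (hf : Valued.v f = exp (-(e : ℤ)))
    (hD : LocRes.D F f ≠ 0) :
    ((e : F) ≠ 0 → Valued.v (LocRes.D F f) = exp (-((e : ℤ) - 1))) ∧
    ((e : F) = 0 → Valued.v (LocRes.D F f) ≤ exp (-(e : ℤ))) := by
  have h0 := (LaurentSeries.valuation_le_iff_coeff_lt_eq_zero (K := F)).1 hf.le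
  have h1 : f.coeff e ≠ 0 := fun h => by
    have h3 : Valued.v f ≤ exp (-((e : ℤ) + 1)) := (LaurentSeries.valuation_le_iff_coeff_lt_eq_zero (K := F)).2 fun n hn => by
      rcases eq_or_ne n (e : ℤ) with rfl | hne
      · exact h
      · exact h0 n (by omega)
    rw [hf, exp_le_exp] at h3; omega
  have hle : Valued.v (LocRes.D F f) ≤ exp (-((e : ℤ) - 1)) :=
    (LaurentSeries.valuation_le_iff_coeff_lt_eq_zero (K := F)).2 fun n hn => by
      rw [LocRes.D_coeff, h0 (n + 1) (by omega), smul_zero]
  have hc : (LocRes.D F f).coeff ((e : ℤ) - 1) = (e : F) * f.coeff e := by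
    rw [LocRes.D_coeff, sub_add_cancel, zsmul_eq_mul, Int.cast_natCast]
  constructor
  · intro he
    refine le_antisymm hle (not_lt.1 fun hlt => ?_)
    have h2 : Valued.v (LocRes.D F f) ≤ exp (-(e : ℤ)) := by
      have hne : Valued.v (LocRes.D F f) ≠ 0 := (Valuation.ne_zero_iff _).2 hD
      rw [← exp_log hne] at hlt ⊢
      rw [exp_lt_exp] at hlt; rw [exp_le_exp]; omega
    have := (LaurentSeries.valuation_le_iff_coeff_lt_eq_zero (K := F)).1 h2 ((e : ℤ) - 1) (by omega)
    rw [hc] at this
    exact mul_ne_zero he h1 this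
  · intro he
    refine (LaurentSeries.valuation_le_iff_coeff_lt_eq_zero (K := F)).2 fun n hn => ?_
    rcases eq_or_ne n ((e : ℤ) - 1) with rfl | hne
    · rw [hc, he, zero_mul]
    · rw [LocRes.D_coeff, h0 (n + 1) (by omega), smul_zero]

/-- For a place `Q` of a finite separable extension `K'` of a geometric function field of one variable
`K/k`, lying over `P` with ramification index `e`, both places having Laurent expansions over `k` in
local parameters (separable places), and `x` with `dx` of finite order above and below: the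
different exponent `d(Q|P)`, computed on `dx`, is `e - 1` if `char K` does not divide `e`, and is `≥
e` otherwise. (The published statement allows any finite extension along which differentials of `K`
pull back injectively; this row takes `K'` separable over `K`.) -/
theorem result (k : Type u) (K K' : Type v) [Field k] [Field K] [Field K'] [Algebra k K] [Algebra K K'] [Algebra k K']
    [IsScalarTower k K K'] [FiniteDimensional K K'] [Algebra.IsSeparable K K']
    (hK : FunFld.IsFunctionField k K) (hg : FunFld.IsGeometric k K)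
    (F F' : Type w) [Field F] [Algebra k F] [Field F'] [Algebra k F']
    (P : FunFld.Place k K) (Q : FunFld.Place k K') (e : ℕ) (he : FunFld.IsOverWith Q P e)
    (φ : K →ₐ[k] LaurentSeries F) (hφ : LocRes.IsExpansionAt P.1 φ)
    (ψ : K' →ₐ[k] LaurentSeries F') (hψ : LocRes.IsExpansionAt Q.1 ψ)
    (x : K) (hx : LocRes.vDiff φ 1 x ≠ 0) (hx' : LocRes.vDiff ψ 1 (algebraMap K K' x) ≠ 0) :
    (¬ (ringChar K ∣ e) → LocRes.diffExp φ ψ e x = (e : ℤ) - 1) ∧
    (ringChar K ∣ e → (e : ℤ) ≤ LocRes.diffExp φ ψ e x) := by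
  open WithZero in
  obtain ⟨t, ht0, ht⟩ := Groth.Agent.FunFldLib.exists_val_eq P (-1)
  open WithZero in
  obtain ⟨hne, hd⟩ := Groth.Agent.FunFldLib.diffExp_eq hK hg he hφ hψ hx hx' ht
  have hv : Valued.v (ψ (algebraMap K K' t)) = WithZero.exp (-(e : ℤ)) := by
    rw [hψ.1, he t, ht, ← WithZero.exp_nsmul, nsmul_eq_mul, mul_neg, mul_one]
  obtain ⟨h1, h2⟩ := ord_deriv hv hne
  haveI := ringChar.charP K
  haveI : CharP k (ringChar K) := (algebraMap k K).charP (algebraMap k K).injective _
  haveI : CharP F' (ringChar K) := charP_of_injective_algebraMap (algebraMap k F').injective _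
  refine ⟨fun hnd => ?_, fun hdv => ?_⟩
  · rw [hd, h1 (fun h0 => hnd ((CharP.cast_eq_zero_iff F' (ringChar K) e).1 h0)), WithZero.log_exp, neg_neg]
  · have h3 := h2 ((CharP.cast_eq_zero_iff F' (ringChar K) e).2 hdv)
    rw [hd]
    have hne' : Valued.v (LocRes.D F' (ψ (algebraMap K K' t))) ≠ 0 := (Valuation.ne_zero_iff _).2 hne
    rw [← WithZero.exp_log hne', WithZero.exp_le_exp] at h3
    omega

end Groth.Agent.S12570
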