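import Groth.Statements.S12572
import Groth.Agent.FunFldLib.DiffEisen
import Groth.Agent.FunFldLib.PlaceIntClosure
import Mathlib.FieldTheory.Minpoly.IsIntegrallyClosed
import Mathlib.RingTheory.Norm.Basic

set_option autoImplicit false
universe u v w
open FunFld

namespace Groth.Agent.S12572

open WithZero Groth.Agent.FunFldLib in
theorem gen_and_coeff {k K K' : Type*} [Field k] [Field K] [Field K'] [Algebra k K] [Algebra K K'] [Algebra k K']
    [IsScalarTower k K K'] [FiniteDimensional K K'] [Algebra.IsSeparable K K'] (hK : FunFld.IsFunctionField k K)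
    {P : FunFld.Place k K} [Algebra P.O K'] [IsScalarTower P.O K K'] {Q : FunFld.Place k K'} {e : ℕ}
    (he : FunFld.IsOverWith Q P e) {s : K'} (hs : Q.1 s = exp (-1))
    (hs' : ∀ Q' : FunFld.Place k K', FunFld.IsOver Q' P → Q' ≠ Q → Q'.1 s = 1)
    (hres : ∀ z : K', Q.1 z ≤ 1 → ∃ c : P.O, Q.1 (z - algebraMap P.O K' c) < 1) :
    IntermediateField.adjoin K ({s} : Set K') = ⊤ ∧ (∀ i, P.1 ((minpoly K s).coeff i) ≤ 1) ∧
      P.1 ((minpoly K s).coeff 0) = exp (-1) := by
  haveI := isPID_O P
  have hN := val_norm_eq hK.1 he hs hs' hres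
  have hi : IsIntegral K s := IsIntegral.of_finite K s
  have hint : IsIntegral P.O s := (integral_iff hK.1 s).2 fun Q' hQ' => by
    rcases eq_or_ne Q' Q with rfl | h
    · rw [hs]; exact exp_neg_one_le_one'
    · exact (hs' Q' hQ' h).le
  have hcoeff : ∀ i, P.1 ((minpoly K s).coeff i) ≤ 1 := fun i => by
    rw [minpoly.isIntegrallyClosed_eq_field_fractions' K hint, Polynomial.coeff_map]
    exact (Valuation.mem_valuationSubring_iff P.1 _).1 ((minpoly P.O s).coeff i).2
  set d := Module.finrank (IntermediateField.adjoin K ({s} : Set K')) K' with hd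
  have hpow : P.1 (Algebra.norm K s) = P.1 ((minpoly K s).coeff 0) ^ d := by
    rw [Algebra.norm_eq_norm_adjoin, ← IntermediateField.adjoin.powerBasis_gen hi,
      Algebra.PowerBasis.norm_gen_eq_coeff_zero_minpoly, map_pow, map_mul, map_pow, Valuation.map_neg, map_one, one_pow,
      one_mul, IntermediateField.adjoin.powerBasis_gen, IntermediateField.minpoly_gen]
  rw [hN] at hpow
  have hne : P.1 ((minpoly K s).coeff 0) ≠ 0 := fun h => by
    rw [h, zero_pow (Module.finrank_pos.ne')] at hpow; exact exp_ne_zero hpow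
  rw [← exp_log hne, ← exp_nsmul, exp_inj, nsmul_eq_mul] at hpow
  have hd1 : d = 1 := by
    have h0 := Int.eq_one_of_mul_eq_one_right (Int.natCast_nonneg d) (show (d : ℤ) * (-log (P.1 ((minpoly K s).coeff 0))) = 1 by linarith)
    exact_mod_cast h0
  rw [hd1, Nat.cast_one, one_mul] at hpow
  refine ⟨?_, hcoeff, by rw [← exp_log hne, ← hpow]⟩
  exact IntermediateField.eq_of_le_of_finrank_eq' le_top (hd1.trans IntermediateField.finrank_top.symm)

/-- Let `Q` be a place of a finite separable extension `K'` of a geometric function field of one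
variable `K/k`, over `P` with ramification index `e` and residue degree `1`, both places with
Laurent expansions over `k` in local parameters; if `s` with `v_Q(s) = 1` is a unit at every other
place of `K'` above `P`, then `K'` is generated over `K` by `s`, and `d(Q|P) = v_Q(f'(s))` for the
minimal polynomial `f` of `s` over `K` (the different exponent computed on `dx`). -/
theorem result (k : Type u) (K K' : Type v) [Field k] [Field K] [Field K'] [Algebra k K] [Algebra K K'] [Algebra k K']
    [IsScalarTower k K K'] [FiniteDimensional K K'] [Algebra.IsSeparable K K']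
    (hK : FunFld.IsFunctionField k K) (hg : FunFld.IsGeometric k K)
    (F F' : Type w) [Field F] [Algebra k F] [Field F'] [Algebra k F']
    (P : FunFld.Place k K) (Q : FunFld.Place k K') (e : ℕ) (he : FunFld.IsOverWith Q P e)
    (φ : K →ₐ[k] LaurentSeries F) (hφ : LocRes.IsExpansionAt P.1 φ)
    (ψ : K' →ₐ[k] LaurentSeries F') (hψ : LocRes.IsExpansionAt Q.1 ψ)
    (x : K) (hx : LocRes.vDiff φ 1 x ≠ 0) (hx' : LocRes.vDiff ψ 1 (algebraMap K K' x) ≠ 0)
    [P.1.HasExtension Q.1]
    (hf : Function.Surjective (algebraMap (IsLocalRing.ResidueField P.O) (IsLocalRing.ResidueField Q.O)))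
    (s : K') (hs : Q.1 s = WithZero.exp (-1))
    (hs' : ∀ Q' : FunFld.Place k K', FunFld.IsOver Q' P → Q' ≠ Q → Q'.1 s = 1) :
    IntermediateField.adjoin K ({s} : Set K') = ⊤ ∧
    Q.ord (Polynomial.aeval s (Polynomial.derivative (minpoly K s))) = LocRes.diffExp φ ψ e x := by
  letI : Algebra P.O K' := ((algebraMap K K').comp P.O.subtype).toAlgebra
  haveI : IsScalarTower P.O K K' := IsScalarTower.of_algebraMap_eq' rfl
  obtain ⟨h1, h2, h3⟩ := gen_and_coeff hK he hs hs' (fun z hz => by
    obtain ⟨r, hr⟩ := hf (IsLocalRing.residue Q.O ⟨z, (Valuation.mem_valuationSubring_iff Q.1 z).2 hz⟩)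
    obtain ⟨c, rfl⟩ := IsLocalRing.residue_surjective r
    refine ⟨c, ?_⟩
    have h0 : IsLocalRing.residue Q.O (⟨z, (Valuation.mem_valuationSubring_iff Q.1 z).2 hz⟩ - algebraMap P.O Q.O c) = 0 := by
      rw [map_sub, ← hr]; exact sub_self _
    exact (Groth.Agent.FunFldLib.residue_eq_zero_iff_val Q _).1 h0)
  exact ⟨h1, Groth.Agent.FunFldLib.diff_core hK hg he hφ hψ hx hx' hs (minpoly.aeval K s) h2 h3⟩

end Groth.Agent.S12572
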