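import Groth.Statements.S12574
import Groth.Agent.FunFldLib.PlaceLocal

set_option autoImplicit false
universe u v w
open FunFld

namespace Groth.Agent.S12574

/-- Let `Q` be a place of a finite separable extension `K'` of a geometric function field of one
variable `K/k`, over `P` with ramification index `e` and residue degree `1`, both with Laurent
expansions over `k` in local parameters, and let `R^*` be the dual, under the trace form of `K'/K`,
of the integral closure of `O_P` in `K'`. Then `min_{y ∈ R^*} v_Q(y) = -d(Q|P)`: in multiplicative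
notation every `y ∈ R^*` has `v_Q(y) ≤ exp d(Q|P)` and equality is attained. -/
theorem result (k : Type u) (K K' : Type v) [Field k] [Field K] [Field K'] [Algebra k K] [Algebra K K'] [Algebra k K']
    [IsScalarTower k K K'] [FiniteDimensional K K'] [Algebra.IsSeparable K K']
    (hK : FunFld.IsFunctionField k K) (hg : FunFld.IsGeometric k K)
    (F F' : Type w) [Field F] [Algebra k F] [Field F'] [Algebra k F']
    (P : FunFld.Place k K) (Q : FunFld.Place k K') (e : ℕ) (he : FunFld.IsOverWith Q P e)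
    (φ : K →ₐ[k] LaurentSeries F) (hφ : LocRes.IsExpansionAt P.1 φ)
    (ψ : K' →ₐ[k] LaurentSeries F') (hψ : LocRes.IsExpansionAt Q.1 ψ)
    (x : K) (hx : LocRes.vDiff φ 1 x ≠ 0) (hx' : LocRes.vDiff ψ 1 (algebraMap K K' x) ≠ 0)
    [P.1.HasExtension Q.1]
    (hf : Function.Surjective (algebraMap (IsLocalRing.ResidueField P.O) (IsLocalRing.ResidueField Q.O)))
    [Algebra P.O K'] [IsScalarTower P.O K K'] :
    (∀ y : K', (∀ z : K', IsIntegral P.O z → P.1 (Algebra.trace K K' (y * z)) ≤ 1) →
      Q.1 y ≤ WithZero.exp (LocRes.diffExp φ ψ e x)) ∧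
    ∃ y : K', (∀ z : K', IsIntegral P.O z → P.1 (Algebra.trace K K' (y * z)) ≤ 1) ∧
      Q.1 y = WithZero.exp (LocRes.diffExp φ ψ e x) := by
  have hres : ∀ z : K', Q.1 z ≤ 1 → ∃ c : P.O, Q.1 (z - algebraMap P.O K' c) < 1 := fun z hz => by
    obtain ⟨r, hr⟩ := hf (IsLocalRing.residue Q.O ⟨z, (Valuation.mem_valuationSubring_iff Q.1 z).2 hz⟩)
    obtain ⟨c, rfl⟩ := IsLocalRing.residue_surjective r
    refine ⟨c, ?_⟩
    have h0 : IsLocalRing.residue Q.O (⟨z, (Valuation.mem_valuationSubring_iff Q.1 z).2 hz⟩ - algebraMap P.O Q.O c) = 0 := by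
      rw [map_sub, ← hr]; exact sub_self _
    rw [IsScalarTower.algebraMap_apply P.O K K']
    exact (Groth.Agent.FunFldLib.residue_eq_zero_iff_val Q _).1 h0
  obtain ⟨s, hs, hs'⟩ := Groth.Agent.FunFldLib.exists_special (K' := K') hK.1 (Q := Q) (P := P) ⟨e, he⟩
  obtain ⟨hgen, hcoef, h0⟩ := Groth.Agent.S12572.gen_and_coeff hK he hs hs' hres
  have hsi : IsIntegral P.O s := (Groth.Agent.FunFldLib.integral_iff hK.1 s).2 fun Q' hQ' => by
    rcases eq_or_ne Q' Q with rfl | h
    · rw [hs]; exact Groth.Agent.FunFldLib.exp_neg_one_le_one'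
    · exact (hs' Q' hQ' h).le
  have hd := Groth.Agent.FunFldLib.diff_core hK hg he hφ hψ hx hx' hs (minpoly.aeval K s) hcoef h0
  set g := Polynomial.aeval s (Polynomial.derivative (minpoly K s)) with hgdef
  have hg0 : g ≠ 0 := (Algebra.IsSeparable.isSeparable K s).aeval_derivative_ne_zero (minpoly.aeval _ _)
  have hgv : Q.1 g = WithZero.exp (-LocRes.diffExp φ ψ e x) := by
    rw [← hd, Groth.Agent.FunFldLib.val_eq_exp Q hg0]
  refine ⟨fun y hy => ?_, ?_⟩
  · have hm := (Groth.Agent.FunFldLib.dual_adjoin hgen hsi (x := y)).1 fun w hw =>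
      hy w (Groth.Agent.FunFldLib.adjoin_integral hsi hw)
    have h1 := Groth.Agent.FunFldLib.integral_le_one he (Groth.Agent.FunFldLib.adjoin_integral hsi hm)
    rw [map_mul, hgv] at h1
    rw [← mul_one (WithZero.exp (LocRes.diffExp φ ψ e x)), ← neg_neg (LocRes.diffExp φ ψ e x), WithZero.exp_neg,
      ← div_eq_inv_mul, le_div_iff₀ WithZero.exp_pos]
    exact h1
  · obtain ⟨c, hc, hc1, hclear⟩ := Groth.Agent.FunFldLib.exists_clear hK.1 he
      (fun z hz => Groth.Agent.FunFldLib.local_frac he hs hgen hsi hcoef h0 hz)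
    refine ⟨c / g, fun z hz => ?_, by rw [map_div₀, hc1, hgv, WithZero.exp_neg, one_div, inv_inv]⟩
    have h2 := (Groth.Agent.FunFldLib.dual_adjoin hgen hsi (x := c / g * z)).2
      (by rw [mul_assoc, mul_comm z, ← mul_assoc, div_mul_cancel₀ _ hg0, mul_comm]; exact hclear z hz) 1 (Subalgebra.one_mem _)
    rwa [mul_one] at h2

end Groth.Agent.S12574
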