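import Groth.Statements.S12575
import Groth.Agent.FunFldLib.PlaceLocal

set_option autoImplicit false
universe u v w
open FunFld

namespace Groth.Agent.S12575

/-- Let `Q` be a place of a finite separable extension `K' = K(y)` of a geometric function field of one
variable `K/k`, over `P` with ramification index `e` and residue degree `1`, both with Laurent
expansions over `k` in local parameters, with `y` integral over `O_P` and `g` its minimal polynomial
over `K`. Then `v_Q(g'(y)) ≥ d(Q|P)`, and when equality holds `O_Q` is the localisation of `O_P[y]`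
at `Q`. -/
theorem result (k : Type u) (K K' : Type v) [Field k] [Field K] [Field K'] [Algebra k K] [Algebra K K'] [Algebra k K']
    [IsScalarTower k K K'] [FiniteDimensional K K'] [Algebra.IsSeparable K K']
    (hK : FunFld.IsFunctionField k K) (hg : FunFld.IsGeometric k K)
    (F F' : Type w) [Field F] [Algebra k F] [Field F'] [Algebra k F']
    (P : FunFld.Place k K) (Q : FunFld.Place k K') (e : ℕ) (he : FunFld.IsOverWith Q P e)
    (φ : K →ₐ[k] LaurentSeries F) (hφ : LocRes.IsExpansionAt P.1 φ)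
    (ψ : K' →ₐ[k] LaurentSeries F') (hψ : LocRes.IsExpansionAt Q.1 ψ)
    (x : K) (hx : LocRes.vDiff φ 1 x ≠ 0) (hx' : LocRes.vDiff ψ 1 (algebraMap K K' x) ≠ 0)
    [P.1.HasExtension Q.1]
    (hf : Function.Surjective (algebraMap (IsLocalRing.ResidueField P.O) (IsLocalRing.ResidueField Q.O)))
    [Algebra P.O K'] [IsScalarTower P.O K K']
    (y : K') (hy : IntermediateField.adjoin K ({y} : Set K') = ⊤) (hyi : IsIntegral P.O y) :
    LocRes.diffExp φ ψ e x ≤ Q.ord (Polynomial.aeval y (Polynomial.derivative (minpoly K y))) ∧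
    (Q.ord (Polynomial.aeval y (Polynomial.derivative (minpoly K y))) = LocRes.diffExp φ ψ e x →
      ∀ z : K', Q.1 z ≤ 1 → ∃ a ∈ Algebra.adjoin P.O ({y} : Set K'), ∃ b ∈ Algebra.adjoin P.O ({y} : Set K'),
        Q.1 b = 1 ∧ z * b = a) := by
  have hres : ∀ z : K', Q.1 z ≤ 1 → ∃ c : P.O, Q.1 (z - algebraMap P.O K' c) < 1 := fun z hz => by
    obtain ⟨r, hr⟩ := hf (IsLocalRing.residue Q.O ⟨z, (Valuation.mem_valuationSubring_iff Q.1 z).2 hz⟩)
    obtain ⟨c, rfl⟩ := IsLocalRing.residue_surjective r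
    refine ⟨c, ?_⟩
    have h0 : IsLocalRing.residue Q.O (⟨z, (Valuation.mem_valuationSubring_iff Q.1 z).2 hz⟩ - algebraMap P.O Q.O c) = 0 := by
      rw [map_sub, ← hr]; exact sub_self _
    rw [IsScalarTower.algebraMap_apply P.O K K']
    exact (Groth.Agent.FunFldLib.residue_eq_zero_iff_val Q _).1 h0
  obtain ⟨s, hs, hs'⟩ := Groth.Agent.FunFldLib.exists_special (K' := K') hK.1 (Q := Q) (P := P) ⟨e, he⟩
  obtain ⟨hgen, hcoef, h0⟩ := Groth.Agent.S12572.gen_and_coeff hK he hs hs' hres
  have hsi : IsIntegral P.O s := (Groth.Agent.FunFldLib.integral_iff hK.1 s).2 fun Q' hQ' => by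
    rcases eq_or_ne Q' Q with rfl | h
    · rw [hs]; exact Groth.Agent.FunFldLib.exp_neg_one_le_one'
    · exact (hs' Q' hQ' h).le
  have hd := Groth.Agent.FunFldLib.diff_core hK hg he hφ hψ hx hx' hs (minpoly.aeval K s) hcoef h0
  set g := Polynomial.aeval s (Polynomial.derivative (minpoly K s)) with hgdef
  have hg0 : g ≠ 0 := (Algebra.IsSeparable.isSeparable K s).aeval_derivative_ne_zero (minpoly.aeval _ _)
  set g' := Polynomial.aeval y (Polynomial.derivative (minpoly K y)) with hg'def
  have hg'0 : g' ≠ 0 := (Algebra.IsSeparable.isSeparable K y).aeval_derivative_ne_zero (minpoly.aeval _ _)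
  have hfrac : ∀ z : K', Q.1 z ≤ 1 → _ := fun z hz => Groth.Agent.FunFldLib.local_frac he hs hgen hsi hcoef h0 hz
  obtain ⟨c, hc, hc1, hclear⟩ := Groth.Agent.FunFldLib.exists_clear hK.1 he hfrac
  have hkey : ∀ b : K', IsIntegral P.O b → b * c / g * g' ∈ Algebra.adjoin P.O ({y} : Set K') := fun b hb => by
    refine (Groth.Agent.FunFldLib.dual_adjoin hy hyi (x := b * c / g)).1 fun w hw => ?_
    have hbw : IsIntegral P.O (b * w) := hb.mul (Groth.Agent.FunFldLib.adjoin_integral hyi hw)
    have h2 := (Groth.Agent.FunFldLib.dual_adjoin hgen hsi (x := b * c / g * w)).2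
      (by rw [mul_assoc, mul_comm w, ← mul_assoc, div_mul_cancel₀ _ hg0, mul_right_comm]; exact hclear _ hbw)
      1 (Subalgebra.one_mem _)
    rwa [mul_one] at h2
  have hu := hkey 1 isIntegral_one
  rw [one_mul] at hu
  have huv : Q.1 (c / g * g') = WithZero.exp (LocRes.diffExp φ ψ e x - Q.ord g') := by
    rw [map_mul, map_div₀, hc1, Groth.Agent.FunFldLib.val_eq_exp Q hg0, Groth.Agent.FunFldLib.val_eq_exp Q hg'0,
      one_div, WithZero.exp_neg, inv_inv, ← WithZero.exp_add, ← hd, sub_eq_add_neg]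
  have hle := Groth.Agent.FunFldLib.integral_le_one he (Groth.Agent.FunFldLib.adjoin_integral hyi hu)
  rw [huv] at hle
  refine ⟨?_, fun heq z hz => ?_⟩
  · have h3 := WithZero.exp_le_exp.1 (hle.trans_eq WithZero.exp_zero.symm)
    omega
  · rw [heq, sub_self, WithZero.exp_zero] at huv
    obtain ⟨a, ha, d, hdm, hd1, hzd⟩ := hfrac z hz
    refine ⟨a * c / g * g', hkey a (Groth.Agent.FunFldLib.adjoin_integral hsi ha),
      d * c / g * g', hkey d (Groth.Agent.FunFldLib.adjoin_integral hsi hdm), ?_, ?_⟩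
    · rw [show d * c / g * g' = d * (c / g * g') by ring, map_mul, hd1, huv, mul_one]
    · rw [← hzd]; ring

end Groth.Agent.S12575
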