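import Groth.Statements.S12580
import Groth.Agent.FunFldLib.Divisor

set_option autoImplicit false
universe u v w
open FunFld

namespace Groth.Agent.S12580

open LaurentSeries in
theorem res_zero_of_le_one {F : Type*} [Field F] {f g : LaurentSeries F} (hf : Valued.v f ≤ (1 : WithZero (Multiplicative ℤ)))
    (hg : Valued.v g ≤ (1 : WithZero (Multiplicative ℤ))) : LocRes.res F (f * LocRes.D F g) = 0 := by
  obtain ⟨A, rfl⟩ := (LaurentSeries.val_le_one_iff_eq_coe F f).1 hf
  obtain ⟨B, rfl⟩ := (LaurentSeries.val_le_one_iff_eq_coe F g).1 hg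
  rw [LocRes.D_coe, ← PowerSeries.coe_mul, LocRes.res_apply, PowerSeries.coeff_coe, if_pos (by norm_num)]

/-- In a function field of one variable `K/k`, `Res_P(u dv) = 0` when `u, v ∈ O_P` (already before the
trace), and for a repartition `α` and `v ∈ K`, `Res_P(α_P dv) = 0` for almost all `P`; residues read
through Laurent expansions over `k` at every place. -/
theorem result (k : Type u) (K : Type v) [Field k] [Field K] [Algebra k K] (hK : FunFld.IsFunctionField k K)
    (F : FunFld.Place k K → Type w) [∀ P, Field (F P)] [∀ P, Algebra k (F P)] [∀ P, FiniteDimensional k (F P)]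
    (φ : ∀ P, K →ₐ[k] LaurentSeries (F P)) (hφ : ∀ P, LocRes.IsExpansionAt P.1 (φ P)) :
    (∀ (P : FunFld.Place k K) (u v : K), P.1 u ≤ 1 → P.1 v ≤ 1 → LocRes.resExp (φ P) u v = 0) ∧
    ∀ (a : FunFld.Place k K → K), a ∈ FunFld.adele k K → ∀ v : K,
      {P : FunFld.Place k K | LocRes.resExp (φ P) (a P) v ≠ 0}.Finite := by
  have h1 : ∀ (P : FunFld.Place k K) (u v : K), P.1 u ≤ 1 → P.1 v ≤ 1 → LocRes.resExp (φ P) u v = 0 :=
    fun P u v hu hv => res_zero_of_le_one ((hφ P).1 u ▸ hu) ((hφ P).1 v ▸ hv)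
  refine ⟨h1, fun a ha v => ?_⟩
  have ha' : {P : FunFld.Place k K | ¬ P.1 (a P) ≤ 1}.Finite := Filter.eventually_cofinite.1 ha
  refine (ha'.union (FunFldLib.finite_support_ord' hK.1 v)).subset fun P hP => ?_
  by_contra hc
  simp only [Set.mem_union, Set.mem_setOf_eq, not_not, Function.mem_support, not_or] at hc
  refine hP (h1 P (a P) v hc.1 ?_)
  rcases eq_or_ne v 0 with rfl | hv
  · simp
  · rw [FunFldLib.val_eq_exp P hv, hc.2]; simp

end Groth.Agent.S12580
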