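import Groth.Statements.S12583
import Groth.Agent.FunFldLib.DiffExp
import Groth.Agent.FunFldLib.LaurentHasse
import Mathlib.RingTheory.Unramified.Field

set_option autoImplicit false
universe u v w
open FunFld

namespace Groth.Agent.S12583

open Polynomial in
theorem hom_unique {k K L : Type*} [Field k] [Field K] [Field L] [Algebra k K] [Algebra k L] {x : K}
    [FiniteDimensional (IntermediateField.adjoin k ({x} : Set K)) K]
    [Algebra.IsSeparable (IntermediateField.adjoin k ({x} : Set K)) K]
    (ι : K →+* L) {A B : K →+* PowerSeries L} (hk : ∀ c : k, A (algebraMap k K c) = B (algebraMap k K c))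
    (h : A x = B x) (hA : ∀ y, PowerSeries.constantCoeff (A y) = ι y) (hB : ∀ y, PowerSeries.constantCoeff (B y) = ι y) :
    A = B := by
  set F := IntermediateField.adjoin k ({x} : Set K) with hF
  have hFF : A.comp (algebraMap F K) = B.comp (algebraMap F K) := by
    have heq : IntermediateField.adjoin k ({x} : Set K) ≤ (RingHom.eqLocusField A B).toIntermediateField hk :=
      IntermediateField.adjoin_le_iff.2 (Set.singleton_subset_iff.2 h)
    exact RingHom.ext fun f => heq f.2
  refine RingHom.ext fun y => ?_
  set m := minpoly F y with hm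
  let φ : F →+* PowerSeries L := A.comp (algebraMap F K)
  have hu : (m.map φ).eval (A y) = 0 := by
    have := hom_eval₂ m (algebraMap F K) A y
    rw [show eval₂ (algebraMap F K) y m = 0 from minpoly.aeval F y, map_zero] at this
    rw [eval_map]; exact this.symm
  have hv : (m.map φ).eval (B y) = 0 := by
    have := hom_eval₂ m (algebraMap F K) B y
    rw [show eval₂ (algebraMap F K) y m = 0 from minpoly.aeval F y, map_zero, ← hFF] at this
    rw [eval_map]; exact this.symm
  obtain ⟨w, hw⟩ := binomExpansion (m.map φ) (B y) (A y - B y)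
  rw [add_sub_cancel, hu, hv, zero_add] at hw
  have hunit : (derivative (m.map φ)).eval (B y) + w * (A y - B y) ≠ 0 := by
    intro h0
    have h1 := congrArg (PowerSeries.constantCoeff (R := L)) h0
    rw [map_zero, map_add, map_mul, map_sub, hA, hB, sub_self, mul_zero, add_zero,
      derivative_map, eval_map, hom_eval₂, hB] at h1
    have h2 : PowerSeries.constantCoeff.comp φ = ι.comp (algebraMap F K) := RingHom.ext fun f => hA f
    rw [h2, ← hom_eval₂] at h1
    exact (Algebra.IsSeparable.isSeparable F y).aeval_derivative_ne_zero (minpoly.aeval F y)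
      ((_root_.map_eq_zero ι).1 h1)
  have : (A y - B y) * ((derivative (m.map φ)).eval (B y) + w * (A y - B y)) = 0 := by linear_combination -hw
  exact sub_eq_zero.1 ((mul_eq_zero.1 this).resolve_right hunit)

open Groth.Agent.FunFldLib in
theorem separable_over_param {k K F : Type*} [Field k] [Field K] [Algebra k K] [Field F] [Algebra k F]
    (hK : FunFld.IsFunctionField k K) (hg : FunFld.IsGeometric k K) (φ : K →ₐ[k] LaurentSeries F) {t : K}
    (ht : LocRes.D F (φ t) ≠ 0) [FiniteDimensional (IntermediateField.adjoin k ({t} : Set K)) K] :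
    Algebra.IsSeparable (IntermediateField.adjoin k ({t} : Set K)) K := by
  set E := IntermediateField.adjoin k ({t} : Set K) with hE
  haveI : Subsingleton (Ω[K⁄E]) := by
    refine subsingleton_of_forall_eq 0 fun w => ?_
    have hw : w ∈ (⊤ : Submodule K (Ω[K⁄E])) := trivial
    rw [← KaehlerDifferential.span_range_derivation] at hw
    induction hw using Submodule.span_induction with
    | mem w hw =>
      obtain ⟨y, rfl⟩ := hw
      obtain ⟨a, ha⟩ := exists_ratio hK hg (d_ne_zero_of_D φ ht) y
      have h1 := congrArg (KaehlerDifferential.map k E K K) ha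
      rw [map_smul, KaehlerDifferential.map_D, KaehlerDifferential.map_D, Algebra.algebraMap_self] at h1
      rw [RingHom.id_apply, RingHom.id_apply] at h1
      rw [h1]
      have h2 : KaehlerDifferential.D E K t = 0 :=
        (KaehlerDifferential.D E K).map_algebraMap ⟨t, IntermediateField.mem_adjoin_simple_self k t⟩
      rw [h2, smul_zero]
    | zero => rfl
    | add a b _ _ ha hb => rw [ha, hb, add_zero]
    | smul c a _ ha => rw [ha, smul_zero]
  haveI : Algebra.FormallyUnramified E K := ⟨inferInstance⟩
  exact Algebra.FormallyUnramified.isSeparable E K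

/-- At a separable place `P` of a geometric function field of one variable `K/k` with local parameter
`t`, if `x ∈ O_P` has expansion `∑ a_m t^m` then the Hasse derivative `D_t^{(n)}(x)` expands as the
series with coefficients `C(m,n) a_m` in degree `m - n`; in particular `D_t^{(n)}(O_P) ⊆ O_P`. Here
`φ` is a Laurent expansion over `k` at `P` with `φ t = X` and `H` is the total Hasse derivative with
respect to `t`. -/
theorem result (k : Type u) (K : Type v) [Field k] [Field K] [Algebra k K] (hK : FunFld.IsFunctionField k K) (hg : FunFld.IsGeometric k K)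
    (P : FunFld.Place k K) (F : Type w) [Field F] [Algebra k F]
    (φ : K →ₐ[k] LaurentSeries F) (hφ : LocRes.IsExpansionAt P.1 φ)
    (t : K) (ht : φ t = HahnSeries.single 1 1)
    (H : K →ₐ[k] PowerSeries K) (hH : LocRes.IsHasseFamily t H)
    (x : K) (hx : P.1 x ≤ 1) (n : ℕ) :
    φ (LocRes.hasseD H n x) = LaurentSeries.hasseDeriv F n (φ x) := by
  open WithZero in
  have htv : P.1 t = WithZero.exp (-1) := by
    rw [← hφ.1, ht, LaurentSeries.valuation_single_zpow]
  open Groth.Agent.FunFldLib in
  have hDt : LocRes.D F (φ t) ≠ 0 := (ordDiff_param hφ htv).2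
  haveI := Groth.Agent.FunFldLib.finite_adjoin hK.1
    (Groth.Agent.FunFldLib.transcendental_of_ord_ne_zero hK (P := P) (x := t)
      (by rw [(Groth.Agent.FunFldLib.ord_param htv).2]; omega))
  haveI := separable_over_param hK hg φ hDt
  have hAB := hom_unique (k := k) (x := t) φ.toRingHom
    (A := (PowerSeries.map φ.toRingHom).comp H.toRingHom)
    (B := Groth.Agent.FunFldLib.laurentTaylor.comp φ.toRingHom) ?_ ?_ ?_ ?_
  · have h := congrArg (PowerSeries.coeff n) (RingHom.congr_fun hAB x)
    simp only [RingHom.comp_apply, PowerSeries.coeff_map, Groth.Agent.FunFldLib.coeff_laurentTaylor] at h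
    exact h
  · intro c
    simp only [RingHom.comp_apply, AlgHom.toRingHom_eq_coe, RingHom.coe_coe]
    rw [H.commutes, LocRes.map_algebraMap, Groth.Agent.FunFldLib.laurentTaylor_C, PowerSeries.algebraMap_apply,
      PowerSeries.map_C, RingHom.coe_coe, LocRes.map_algebraMap]
  · simp only [RingHom.comp_apply, AlgHom.toRingHom_eq_coe, RingHom.coe_coe]
    rw [hH.1, ht, Groth.Agent.FunFldLib.laurentTaylor_X, map_add, PowerSeries.map_C, PowerSeries.map_X, RingHom.coe_coe, ht]
  · intro y
    simp only [RingHom.comp_apply, AlgHom.toRingHom_eq_coe, RingHom.coe_coe]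
    rw [← PowerSeries.coeff_zero_eq_constantCoeff_apply, PowerSeries.coeff_map, PowerSeries.coeff_zero_eq_constantCoeff_apply, hH.2]
    rfl
  · intro y
    simp only [RingHom.comp_apply, AlgHom.toRingHom_eq_coe, RingHom.coe_coe]
    rw [← PowerSeries.coeff_zero_eq_constantCoeff_apply, Groth.Agent.FunFldLib.coeff_laurentTaylor]
    simp

end Groth.Agent.S12583
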