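import Groth.Statements.S12584
import Groth.Agent.S11014
import Groth.Agent.S11034
import Groth.Agent.FunFldLib.DiffExp
import Groth.Agent.FunFldLib.QuadPlace
import Groth.Agent.FunFldLib.Galois
import Groth.Agent.FunFldLib.RatPlace

set_option autoImplicit false
universe u v w
open FunFld

namespace Groth.Agent.S12584

open Groth.Agent.FunFldLib WithZero Polynomial in
theorem no_ramified {k K : Type*} [Field k] [Field K] [Algebra k K] [Algebra (RatFunc k) K] [IsScalarTower k (RatFunc k) K]
    (h2 : (2 : K) ≠ 0) (hdeg : Module.finrank (RatFunc k) K = 2) (σ : K ≃ₐ[RatFunc k] K)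
    {Q : FunFld.Place k K} {P : FunFld.Place k (RatFunc k)} (he : FunFld.IsOverWith Q P 2)
    {w : K} (hw : σ w = -w) (hw1 : Q.1 w = 1) (hQ2 : Q.1 (2 : K) = 1) : False := by
  haveI : FiniteDimensional (RatFunc k) K := FiniteDimensional.of_finrank_pos (by omega)
  have hF := ratFunc_isFunctionField k
  obtain ⟨-, hd, huniq⟩ := ramified_two hF hdeg he le_rfl
  have htw : twist σ Q = Q := huniq _ ⟨2, isOverWith_twist he σ⟩
  obtain ⟨c, -, hc⟩ := exists_residue_below hF.1 he hd hw1.le
  have hc' := hc
  rw [← htw, twist_val, map_sub, hw, σ.commutes, show -w - algebraMap (RatFunc k) K c = -(w + algebraMap (RatFunc k) K c) by ring,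
    Valuation.map_neg] at hc'
  have h := Valuation.map_add_lt Q.1 hc hc'
  rw [show w - algebraMap (RatFunc k) K c + (w + algebraMap (RatFunc k) K c) = 2 * w by ring, map_mul, hQ2, hw1, one_mul] at h
  exact lt_irrefl _ h

open Groth.Agent.FunFldLib Polynomial in
theorem D_aeval {k K F : Type*} [Field k] [Field K] [Field F] [Algebra k K] [Algebra k F]
    (ψ : K →ₐ[k] LaurentSeries F) (x : K) (p : Polynomial k) :
    LocRes.D F (ψ (aeval x p)) = ψ (aeval x (derivative p)) * LocRes.D F (ψ x) := by
  letI := ψ.toRingHom.toAlgebra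
  haveI : IsScalarTower k K (LaurentSeries F) := LocRes.isScalarTower_exp ψ
  have h := (LocRes.dExp ψ).map_aeval p x
  exact h

open Groth.Agent.FunFldLib WithZero Polynomial in
theorem ord_dx {k K : Type*} [Field k] [Field K] [Algebra k K] [Algebra (RatFunc k) K] [IsScalarTower k (RatFunc k) K]
    (hdeg : Module.finrank (RatFunc k) K = 2) (h2 : (2 : k) ≠ 0)
    (y : K) (f : Polynomial k) (hf : Squarefree f) (hd : 1 ≤ f.natDegree)
    (heq : y ^ 2 = algebraMap (RatFunc k) K (algebraMap (Polynomial k) (RatFunc k) f))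
    (σ : K ≃ₐ[RatFunc k] K) (hσ : σ y = -y)
    (Q : FunFld.Place k K) {F : Type*} [Field F] [Algebra k F]
    (ψ : K →ₐ[k] LaurentSeries F) (hψ : LocRes.IsExpansionAt Q.1 ψ) :
    LocRes.D F (ψ (algebraMap (RatFunc k) K RatFunc.X)) ≠ 0 ∧
      -log (Valued.v (LocRes.D F (ψ (algebraMap (RatFunc k) K RatFunc.X)))) =
        Q.ord y + ((((f.natDegree - 1) / 2 : ℕ) : ℤ) - 1) * max (-Q.ord (algebraMap (RatFunc k) K RatFunc.X)) 0 := by
  classical
  haveI : FiniteDimensional (RatFunc k) K := FiniteDimensional.of_finrank_pos (by omega)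
  set x := algebraMap (RatFunc k) K RatFunc.X with hx
  set d := f.natDegree with hdd
  have hF := ratFunc_isFunctionField k
  have hf0 : f ≠ 0 := fun h => by simp [hdd, h] at hd
  have haev : ∀ p : Polynomial k, aeval x p = algebraMap (RatFunc k) K (algebraMap (Polynomial k) (RatFunc k) p) := fun p => by
    rw [hx, aeval_algebraMap_apply, ← RatFunc.algebraMap_X, aeval_algebraMap_apply, aeval_X_left_apply]
  rw [← haev] at heq
  have h2K : (2 : K) ≠ 0 := by rw [← map_ofNat (algebraMap k K) 2]; exact (_root_.map_ne_zero _).2 h2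
  have hQ2 : Q.1 (2 : K) = 1 := by rw [← map_ofNat (algebraMap k K) 2]; exact val_algebraMap Q h2
  obtain ⟨P, e, he⟩ := exists_restrict hF.1 Q
  have he1 := isOverWith_pos he
  have he2 : e ≤ 2 := by
    by_contra h
    have := (ramified_two hF hdeg he (by omega)).1
    omega
  obtain ⟨s, hs0, hs⟩ := exists_val_eq Q (-1)
  have hDs : Valued.v (LocRes.D F (ψ s)) = 1 := val_D_param (by rw [hψ.1, hs])
  have hvf : ∀ p : Polynomial k, Q.1 (aeval x p) = P.1 (algebraMap (Polynomial k) (RatFunc k) p) ^ e := fun p => by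
    rw [haev, he]
  have hy2 : Q.1 y ^ 2 = Q.1 (aeval x f) := by rw [← map_pow, heq]
  set a := LocRes.D F (ψ x) with ha
  rcases le_or_gt (P.1 RatFunc.X) 1 with hX | hX
  · have hQx : Q.1 x ≤ 1 := by rw [hx, he]; exact pow_le_one₀ zero_le hX
    have hxpos : 0 ≤ Q.ord x := by
      rw [FunFld.Place.ord, Left.nonneg_neg_iff]
      rcases eq_or_ne (Q.1 x) 0 with h | h
      · rw [h, log_zero]
      · rw [log_le_iff_le_exp h, exp_zero]; exact hQx
    have ha1 : Valued.v a ≤ 1 := val_D_le_one (by rw [hψ.1]; exact hQx)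
    rw [max_eq_right (by omega), mul_zero, add_zero]
    obtain ⟨p, hp, hpP⟩ := exists_prime P hX
    have hvp := val_prime P hX hp hpP
    have hle : ∀ q : Polynomial k, Q.1 (aeval x q) ≤ 1 := fun q => by
      rw [hvf]; exact pow_le_one₀ zero_le (poly_le_one P hX q)
    have hsmall : ∀ q : Polynomial k, Q.1 (aeval x q) < 1 → Q.1 (aeval x q) ≤ exp (-(e : ℤ)) := fun q hq => by
      rw [hvf] at hq ⊢
      have h1 : P.1 (algebraMap (Polynomial k) (RatFunc k) q) < 1 := by
        by_contra hc; exact absurd hq (not_lt.2 (one_le_pow₀ (not_lt.1 hc)))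
      obtain ⟨c, rfl⟩ := (hpP q).1 h1
      rw [map_mul, map_mul, hvp, mul_pow, ← exp_nsmul, nsmul_eq_mul, mul_neg, mul_one]
      exact mul_le_of_le_one_right' (pow_le_one₀ zero_le (poly_le_one P hX c))
    by_cases hpf : p ∣ f
    · obtain ⟨-, hcore⟩ := Groth.Agent.S11034.core hdeg y f hf (by rw [heq, haev]) p hp hpf P ((hpP p).2 dvd_rfl)
      have he' : e = 2 := (place_unique he (hcore Q ⟨e, he⟩).1).2
      subst he'
      obtain ⟨g, rfl⟩ := hpf
      have hg : ¬ p ∣ g := fun ⟨c, hc⟩ => hp.not_isUnit (hf p ⟨c, by rw [hc]; ring⟩)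
      have hvy : Q.1 y = exp (-1) := by
        have h1 : Q.1 y ^ 2 = exp (-1) ^ 2 := by
          rw [hy2, hvf, map_mul, map_mul, hvp,
            le_antisymm (poly_le_one P hX g) (not_lt.1 fun h => hg ((hpP g).1 h)), mul_one]
        exact (pow_left_inj₀ zero_le zero_le two_ne_zero).1 h1
      have hDy : Valued.v (LocRes.D F (ψ y)) = 1 := val_D_param (by rw [hψ.1, hvy])
      have key : ψ (aeval x (derivative (p * g))) * a = (ψ 2 * ψ y) * LocRes.D F (ψ y) := by
        rw [ha, ← D_aeval, ← heq, map_pow, sq, Derivation.leibniz, smul_eq_mul, map_ofNat]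
        ring
      generalize derivative (p * g) = Df at key
      have hv := congrArg Valued.v key
      rw [map_mul, map_mul, map_mul, hψ.1, hψ.1, hψ.1, hQ2, hvy, hDy, one_mul, mul_one] at hv
      have hone : Q.1 (aeval x Df) = 1 := by
        refine le_antisymm (hle _) (not_lt.1 fun hlt => ?_)
        have := mul_le_mul' (hsmall _ hlt) ha1
        rw [hv, mul_one, exp_le_exp] at this
        omega
      rw [hone, one_mul] at hv
      refine ⟨(Valuation.ne_zero_iff _).1 (by rw [hv]; exact exp_ne_zero), ?_⟩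
      rw [hv, log_exp, FunFld.Place.ord, hvy, log_exp]
    · have hfu : P.1 (algebraMap (Polynomial k) (RatFunc k) f) = 1 :=
        le_antisymm (poly_le_one P hX f) (not_lt.1 fun h => hpf ((hpP f).1 h))
      have hvy : Q.1 y = 1 := (pow_eq_one_iff_of_nonneg zero_le two_ne_zero).1 (by rw [hy2, hvf, hfu, one_pow])
      have hee : e = 1 := by
        by_contra hne
        obtain rfl : e = 2 := by omega
        exact no_ramified h2K hdeg σ he hσ hvy hQ2
      subst hee
      have hw : Valued.v (LocRes.D F (ψ (aeval x p))) = 1 := val_D_param (by rw [hψ.1, hvf, hvp, pow_one])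
      rw [D_aeval, ← ha, map_mul, hψ.1] at hw
      have hone : Q.1 (aeval x (derivative p)) = 1 := by
        refine le_antisymm (hle _) (not_lt.1 fun hlt => ?_)
        have := mul_le_mul' (hsmall _ hlt) ha1
        rw [hw, mul_one, ← exp_zero, exp_le_exp] at this
        omega
      rw [hone, one_mul] at hw
      refine ⟨(Valuation.ne_zero_iff _).1 (by rw [hw]; exact one_ne_zero), ?_⟩
      rw [hw, FunFld.Place.ord, hvy]
  · have hvX := val_X_inf P hX
    have hQx : Q.1 x = exp (e : ℤ) := by rw [hx, he, hvX, ← exp_nsmul, nsmul_eq_mul, mul_one]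
    have hox : Q.ord x = -(e : ℤ) := by rw [FunFld.Place.ord, hQx, log_exp]
    have hx0 : x ≠ 0 := fun h => by rw [h, map_zero] at hQx; exact exp_ne_zero hQx.symm
    have hy0 : Q.1 y ^ 2 = exp ((e * d : ℕ) : ℤ) := by
      rw [hy2, hvf, poly_val_inf P hX hf0, hvX, ← pow_mul, ← exp_nsmul, nsmul_eq_mul, mul_one, mul_comm d e]
    have hoy : 2 * Q.ord y = -((e * d : ℕ) : ℤ) := by
      have := congrArg log hy0
      rw [log_pow, log_exp, nsmul_eq_mul] at this
      rw [FunFld.Place.ord]; push_cast at this ⊢; linarith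
    rw [max_eq_left (by omega), hox]
    rcases (show e = 1 ∨ e = 2 by omega) with rfl | rfl
    · have hu : Valued.v (ψ x⁻¹) = exp (-1) := by rw [hψ.1, map_inv₀, hQx, ← exp_neg]; norm_num
      have h1 := val_D_param hu
      rw [map_inv₀, Derivation.leibniz_inv, smul_eq_mul, neg_mul, Valuation.map_neg, map_mul, ← ha, map_pow, map_inv₀, hψ.1, hQx] at h1
      have hva : Valued.v a = exp (2 : ℤ) := by
        rw [← exp_neg, ← exp_nsmul] at h1
        have h3 := congrArg (exp (2 : ℤ) * ·) h1
        simp only [← mul_assoc, ← exp_add, mul_one] at h3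
        rw [← h3]; simp
      refine ⟨(Valuation.ne_zero_iff _).1 (by rw [hva]; exact exp_ne_zero), ?_⟩
      rw [hva, log_exp]
      push_cast at hoy ⊢
      omega
    · have hodd : Odd d := by
        rcases Nat.even_or_odd d with ⟨c, hc⟩ | ho
        · exfalso
          have hσx : σ (x ^ c) = x ^ c := by rw [map_pow, hx, σ.commutes]
          refine no_ramified h2K hdeg σ he (w := y / x ^ c) (by rw [map_div₀, hσ, hσx, neg_div]) ?_ hQ2
          have hw : Q.1 (y / x ^ c) ^ 2 = 1 := by
            rw [map_div₀, div_pow, hy0, map_pow, hQx, ← pow_mul, ← exp_nsmul, nsmul_eq_mul, ← exp_sub, ← exp_zero, exp_inj]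
            push_cast [hc]; ring
          exact (pow_eq_one_iff_of_nonneg zero_le two_ne_zero).1 hw
        · exact ho
      set w := x * s ^ 2 with hw
      have hvw : Valued.v (ψ w) = 1 := by
        rw [hψ.1, hw, map_mul, map_pow, hQx, hs, ← exp_nsmul, ← exp_add, ← exp_zero, exp_inj]; norm_num
      have hDw : LocRes.D F (ψ w) = ψ s ^ 2 * a + ψ x * (2 * ψ s * LocRes.D F (ψ s)) := by
        rw [hw, map_mul, map_pow, Derivation.leibniz, sq, Derivation.leibniz, smul_eq_mul, smul_eq_mul, smul_eq_mul, ← ha]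
        ring
      have h2v : Valued.v (2 : LaurentSeries F) = 1 := by
        rw [← map_ofNat ψ 2, hψ.1, hQ2]
      have hbig : Valued.v (ψ x * (2 * ψ s * LocRes.D F (ψ s))) = exp (1 : ℤ) := by
        rw [map_mul, map_mul, map_mul, h2v, hψ.1, hψ.1, hs, hQx, hDs, one_mul, mul_one, ← exp_add]; norm_num
      have hsum : Valued.v (ψ s ^ 2 * a) = exp (1 : ℤ) := by
        rw [eq_sub_of_add_eq hDw.symm, Valuation.map_sub_eq_of_lt_right _ (by
          rw [hbig]; exact (val_D_le_one hvw.le).trans_lt (by rw [← exp_zero, exp_lt_exp]; norm_num)), hbig]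
      have hva : Valued.v a = exp (3 : ℤ) := by
        rw [map_mul, map_pow, hψ.1, hs, ← exp_nsmul] at hsum
        have h3 := congrArg (exp (2 : ℤ) * ·) hsum
        simp only [← mul_assoc, ← exp_add] at h3
        simpa using h3
      refine ⟨(Valuation.ne_zero_iff _).1 (by rw [hva]; exact exp_ne_zero), ?_⟩
      rw [hva, log_exp]
      obtain ⟨c, hc⟩ := hodd
      push_cast at hoy ⊢
      omega

open Groth.Agent.FunFldLib WithZero Polynomial in
theorem main {k K : Type*} [Field k] [Field K] [Algebra k K] [Algebra (RatFunc k) K] [IsScalarTower k (RatFunc k) K]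
    (hK : FunFld.IsFunctionField k K) (hdeg : Module.finrank (RatFunc k) K = 2) (h2 : ringChar k ≠ 2)
    (y : K) (f : Polynomial k) (hf : Squarefree f) (hd : 1 ≤ f.natDegree)
    (heq : y ^ 2 = algebraMap (RatFunc k) K (algebraMap (Polynomial k) (RatFunc k) f))
    (F : FunFld.Place k K → Type*) [∀ P, Field (F P)] [∀ P, Algebra k (F P)]
    (φ : ∀ P, K →ₐ[k] LaurentSeries (F P)) (hφ : ∀ P, LocRes.IsExpansionAt P.1 (φ P)) :
    (∀ i : ℕ, i < FunFld.genus k K → ∀ P,
      LocRes.vDiff (φ P) (algebraMap (RatFunc k) K RatFunc.X ^ i / y) (algebraMap (RatFunc k) K RatFunc.X) ≤ 1) ∧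
    ∀ z : K, (∀ P, LocRes.vDiff (φ P) z (algebraMap (RatFunc k) K RatFunc.X) ≤ 1) →
      ∃ a : Polynomial k, a.degree < (FunFld.genus k K : WithBot ℕ) ∧
        z = algebraMap (RatFunc k) K (algebraMap (Polynomial k) (RatFunc k) a) / y := by
  classical
  haveI : FiniteDimensional (RatFunc k) K := FiniteDimensional.of_finrank_pos (by omega)
  have h2' : (2 : k) ≠ 0 := fun h => h2 (CharP.ringChar_of_prime_eq_zero Nat.prime_two (by exact_mod_cast h))
  set x := algebraMap (RatFunc k) K RatFunc.X with hx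
  have haev : ∀ p : Polynomial k, aeval x p = algebraMap (RatFunc k) K (algebraMap (Polynomial k) (RatFunc k) p) := fun p => by
    rw [hx, aeval_algebraMap_apply, ← RatFunc.algebraMap_X, aeval_algebraMap_apply, aeval_X_left_apply]
  have hxT : Transcendental k x := transcendental_algebraMap RatFunc.transcendental_X
  have heq' : y ^ 2 = aeval x f := by rw [haev, heq]
  have hxy : IntermediateField.adjoin k ({x, y} : Set K) = ⊤ := by
    set L := IntermediateField.adjoin k ({x, y} : Set K)
    have hxL : x ∈ L := IntermediateField.subset_adjoin k _ (Set.mem_insert _ _)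
    have hyL : y ∈ L := IntermediateField.subset_adjoin k _ (Set.mem_insert_of_mem _ rfl)
    have hR : ∀ r : RatFunc k, algebraMap (RatFunc k) K r ∈ L := fun r => by
      rw [← RatFunc.num_div_denom r, map_div₀]
      refine div_mem ?_ ?_ <;> (rw [← haev]; exact IntermediateField.algebra_adjoin_le_adjoin k _ (Algebra.adjoin_mono (Set.singleton_subset_iff.2 (Set.mem_insert x _)) (aeval_mem_adjoin_singleton k x)))
    have hy : y ∉ Set.range (algebraMap (RatFunc k) K) := by
      rintro ⟨r, rfl⟩
      rw [← map_pow] at heq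
      have h := (algebraMap (RatFunc k) K).injective heq
      have hri : IsIntegral (Polynomial k) r :=
        ⟨Polynomial.X ^ 2 - Polynomial.C f, monic_X_pow_sub_C _ two_ne_zero, by simp [h]⟩
      obtain ⟨q, rfl⟩ := IsIntegrallyClosed.isIntegral_iff.1 hri
      rw [← map_pow] at h
      have hq : f = q ^ 2 := (RatFunc.algebraMap_injective k h).symm
      have := hf q ⟨1, by rw [hq, mul_one, sq]⟩
      rw [hq, natDegree_pow, natDegree_eq_zero_of_isUnit this] at hd
      omega
    have hli : LinearIndependent (RatFunc k) ![(1 : K), y] := by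
      rw [LinearIndependent.pair_iff]
      intro s t hst
      by_cases ht : t = 0
      · subst ht; exact ⟨by simpa [Algebra.smul_def] using hst, rfl⟩
      · exfalso; apply hy
        refine ⟨-s / t, ?_⟩
        rw [Algebra.smul_def, Algebra.smul_def, mul_one] at hst
        rw [map_div₀, map_neg, div_eq_iff ((_root_.map_ne_zero _).2 ht)]; linear_combination -hst
    have hspan := hli.span_eq_top_of_card_eq_finrank (by simp [hdeg])
    refine eq_top_iff.2 fun z _ => ?_
    have hz : z ∈ Submodule.span (RatFunc k) (Set.range ![(1 : K), y]) := by rw [hspan]; trivial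
    rw [Submodule.mem_span_range_iff_exists_fun] at hz
    obtain ⟨c, rfl⟩ := hz
    simp only [Fin.sum_univ_two, Matrix.cons_val_zero, Matrix.cons_val_one, Algebra.smul_def, mul_one]
    exact add_mem (hR _) (mul_mem (hR _) hyL)
  have hset := Groth.Agent.S11014.setup h2' x y hxT hxy f hf hd heq'
  obtain ⟨-, ⟨σ₀, hσy⟩, hdec⟩ := hset
  have hmemF : ∀ r : RatFunc k, algebraMap (RatFunc k) K r ∈ IntermediateField.adjoin k ({x} : Set K) := fun r => by
    rw [← RatFunc.num_div_denom r, map_div₀]
    refine div_mem ?_ ?_ <;> (rw [← haev]; exact IntermediateField.algebra_adjoin_le_adjoin k _ (aeval_mem_adjoin_singleton k x))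
  let σ : K ≃ₐ[RatFunc k] K := AlgEquiv.ofRingEquiv (f := σ₀.toRingEquiv) fun r => σ₀.commutes ⟨_, hmemF r⟩
  have hgen : FunFld.genus k K = (f.natDegree - 1) / 2 := Groth.Agent.S11014.result k K hK h2 x y hxT hxy f hf hd heq'
  rw [hgen]
  set g := (f.natDegree - 1) / 2 with hg
  have hy0 : y ≠ 0 := fun h => by
    rw [h, zero_pow two_ne_zero] at heq'
    have : f = 0 := transcendental_iff.1 hxT f heq'.symm
    rw [this] at hd; simp at hd
  have hx0 : x ≠ 0 := fun h => hxT (h ▸ isAlgebraic_zero)
  have key : ∀ (P : FunFld.Place k K) (z : K), z ≠ 0 →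
      (LocRes.vDiff (φ P) z x ≤ 1 ↔ 0 ≤ P.ord (z * y) + ((g : ℤ) - 1) * max (-P.ord x) 0) := fun P z hz => by
    obtain ⟨hne, ho⟩ := ord_dx hdeg h2' y f hf hd heq σ hσy P (φ P) (hφ P)
    rw [← hx] at hne
    have hv0 : Valued.v (LocRes.D (F P) (φ P x)) ≠ 0 := (Valuation.ne_zero_iff _).2 hne
    rw [LocRes.vDiff, map_mul, (hφ P).1, val_eq_exp P hz, ← exp_log hv0, ← exp_add, ← exp_zero,
      exp_le_exp, ord_mul P hz hy0]
    rw [← hx, ← hg] at ho
    omega
  refine ⟨fun i hi P => ?_, fun z hz => ?_⟩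
  · rw [key P _ (div_ne_zero (pow_ne_zero _ hx0) hy0), div_mul_cancel₀ _ hy0, ord_pow]
    rcases le_total 0 (P.ord x) with h | h
    · rw [max_eq_right (by omega), mul_zero, add_zero]; exact mul_nonneg (Int.natCast_nonneg i) h
    · rw [max_eq_left (by omega)]
      have : (i : ℤ) + 1 ≤ g := by exact_mod_cast hi
      nlinarith
  · rcases eq_or_ne z 0 with rfl | hz0
    · exact ⟨0, by rw [degree_zero]; exact WithBot.bot_lt_coe _, by simp⟩
    obtain ⟨a, b, hab⟩ := hdec (z * y)
    have hb : ∀ P : FunFld.Place k K, -(((g : ℤ) - 1) * max (-P.ord x) 0) ≤ P.ord (z * y) := fun P => by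
      have := (key P z hz0).1 (hz P); linarith
    have hσab : σ₀ (z * y) = (a : K) - b * y := by
      rw [hab, map_add, map_mul, hσy, show σ₀ (a : K) = a from σ₀.commutes a, show σ₀ (b : K) = b from σ₀.commutes b]; ring
    have hbσ : ∀ P : FunFld.Place k K, -(((g : ℤ) - 1) * max (-P.ord x) 0) ≤ P.ord (σ₀ (z * y)) := fun P => by
      have := hb (twist σ₀ P)
      rw [FunFld.Place.ord, FunFld.Place.ord, twist_val, twist_val,
        show σ₀ x = x from σ₀.commutes ⟨x, IntermediateField.mem_adjoin_simple_self k x⟩] at this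
      exact this
    have h2K : (2 : K) ≠ 0 := by rw [← map_ofNat (algebraMap k K) 2]; exact (_root_.map_ne_zero _).2 h2'
    have hord2 : ∀ (P : FunFld.Place k K) (w : K), P.ord (2 * w) = P.ord w := fun P w => by
      rw [FunFld.Place.ord, map_mul, ← map_ofNat (algebraMap k K) 2, val_algebraMap P h2', one_mul]; rfl
    have hboth : ∀ P : FunFld.Place k K, ((a : K) ≠ 0 → -(((g : ℤ) - 1) * max (-P.ord x) 0) ≤ P.ord (a : K)) ∧
        ((b : K) * y ≠ 0 → -(((g : ℤ) - 1) * max (-P.ord x) 0) ≤ P.ord ((b : K) * y)) := by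
      intro P
      refine ⟨fun ha0 => ?_, fun hb0 => ?_⟩
      · have e : z * y + σ₀ (z * y) = 2 * (a : K) := by rw [hσab, hab]; ring
        have := le_ord_add P (x := z * y) (y := σ₀ (z * y)) (by rw [e]; exact mul_ne_zero h2K ha0)
        rw [e, hord2] at this
        exact (le_min (hb P) (hbσ P)).trans this
      · have e : z * y + -σ₀ (z * y) = 2 * ((b : K) * y) := by rw [hσab, hab]; ring
        have := le_ord_add P (x := z * y) (y := -σ₀ (z * y)) (by rw [e]; exact mul_ne_zero h2K hb0)
        rw [e, hord2, ord_neg] at this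
        exact (le_min (hb P) (hbσ P)).trans this
    have hfin : ∀ w : K, (∀ P : FunFld.Place k K, w ≠ 0 → -(((g : ℤ) - 1) * max (-P.ord x) 0) ≤ P.ord w) →
        ∀ P : FunFld.Place k K, 0 ≤ P.ord x → 0 ≤ P.ord w := fun w hw P hP => by
      rcases eq_or_ne w 0 with rfl | hw0
      · simp
      · have := hw P hw0
        rw [max_eq_right (by omega), mul_zero, neg_zero] at this
        exact this
    obtain ⟨P, hP⟩ : ∃ P : FunFld.Place k K, P.ord x < 0 := by
      obtain ⟨P, hP⟩ := exists_place_val_lt_one hK.1 (y := x⁻¹) (fun h => hxT (IsAlgebraic.inv_iff.1 h))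
      rw [val_lt_one_iff P (inv_ne_zero hx0), ord_inv] at hP
      exact ⟨P, by omega⟩
    have hb0 : (b : K) = 0 := by
      by_contra hbne
      obtain ⟨r, hr⟩ := Groth.Agent.S11014.exists_poly hK hxT (b ^ 2 * ⟨aeval x f,
          IntermediateField.algebra_adjoin_le_adjoin k _ (aeval_mem_adjoin_singleton k x)⟩) (fun Q hQ => by
        have := hfin ((b : K) * y) (fun Q => (hboth Q).2) Q hQ
        push_cast
        rw [← heq', ← mul_pow, ord_pow]
        positivity)
      push_cast at hr
      rw [← heq', ← mul_pow] at hr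
      have hr0 : r ≠ 0 := fun h => by
        rw [h, map_zero] at hr
        exact mul_ne_zero hbne hy0 (pow_eq_zero_iff two_ne_zero |>.1 hr)
      have h1 := (hboth P).2 (mul_ne_zero hbne hy0)
      have h3 : 2 * P.ord ((b : K) * y) = r.natDegree * P.ord x := by
        rw [← Groth.Agent.S11014.ord_aeval_pole P hxT hP r hr0, ← hr, ord_pow]; push_cast; ring
      obtain ⟨u, hu⟩ := (RatFunc.algEquivOfTranscendental x hxT).surjective b
      have hbu : (b : K) = aeval x u.num / aeval x u.denom := by rw [← hu]; exact RatFunc.algEquivOfTranscendental_apply x hxT u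
      have hden : aeval x u.denom ≠ 0 := fun h => RatFunc.denom_ne_zero u (transcendental_iff.1 hxT _ h)
      have hpoly : u.num ^ 2 * f = u.denom ^ 2 * r := transcendental_iff_injective.1 hxT (by
        rw [map_mul, map_mul, map_pow, map_pow, ← hr, hbu, mul_pow, heq']
        field_simp)
      have hunit := Groth.Agent.S11014.poly_of_sq f u.denom r hf u.num (RatFunc.denom_ne_zero u) (RatFunc.isCoprime_num_denom u) hpoly
      have hnum : u.num ≠ 0 := fun h => by
        rw [h, zero_pow two_ne_zero, zero_mul, eq_comm, mul_eq_zero] at hpoly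
        exact hpoly.elim (pow_ne_zero _ (RatFunc.denom_ne_zero u)) hr0
      have hdg := congrArg natDegree hpoly
      rw [natDegree_mul (pow_ne_zero _ hnum) (fun h => by simp [h] at hd), natDegree_mul (pow_ne_zero _ (RatFunc.denom_ne_zero u)) hr0,
        natDegree_pow, natDegree_pow, natDegree_eq_zero_of_isUnit hunit] at hdg
      rw [max_eq_left (by omega)] at h1
      have h4 : (2 * (g : ℤ) + 1) ≤ r.natDegree := by omega
      nlinarith
    rw [hb0, zero_mul, add_zero] at hab
    obtain ⟨p, hp⟩ := Groth.Agent.S11014.exists_poly hK hxT a (hfin (a : K) fun Q => (hboth Q).1)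
    have hp0 : p ≠ 0 := fun h => by rw [h, map_zero] at hp; exact mul_ne_zero hz0 hy0 (hab.trans hp)
    refine ⟨p, ?_, ?_⟩
    · rw [← natDegree_lt_iff_degree_lt hp0]
      have h1 := (hboth P).1 (fun h => mul_ne_zero hz0 hy0 (hab.trans h))
      rw [hp, Groth.Agent.S11014.ord_aeval_pole P hxT hP p hp0, max_eq_left (by omega)] at h1
      have : (p.natDegree : ℤ) + 1 ≤ g := by nlinarith
      omega
    · rw [← haev, ← hp, ← hab, mul_div_cancel_right₀ _ hy0]

/-- For `char k ≠ 2` and `K` of degree `2` over `k(x)` with `y² = f(x)`, `f` squarefree of degree `≥ 1`,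
the forms `x^i dx/y`, `0 ≤ i < g`, are a `k`-basis of the regular differential forms: each is
regular, and every regular `z dx` has `z = a(x)/y` with `deg a < g`; regularity read through Laurent
expansions over `k` at every place (all places separable). -/
theorem result (k : Type u) (K : Type v) [Field k] [Field K] [Algebra k K] [Algebra (RatFunc k) K] [IsScalarTower k (RatFunc k) K]
    (hK : FunFld.IsFunctionField k K) (hdeg : Module.finrank (RatFunc k) K = 2) (h2 : ringChar k ≠ 2)
    (y : K) (f : Polynomial k) (hf : Squarefree f) (hd : 1 ≤ f.natDegree)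
    (heq : y ^ 2 = algebraMap (RatFunc k) K (algebraMap (Polynomial k) (RatFunc k) f))
    (F : FunFld.Place k K → Type w) [∀ P, Field (F P)] [∀ P, Algebra k (F P)] [∀ P, FiniteDimensional k (F P)]
    (φ : ∀ P, K →ₐ[k] LaurentSeries (F P)) (hφ : ∀ P, LocRes.IsExpansionAt P.1 (φ P)) :
    (∀ i : ℕ, i < FunFld.genus k K → ∀ P,
      LocRes.vDiff (φ P) (algebraMap (RatFunc k) K RatFunc.X ^ i / y) (algebraMap (RatFunc k) K RatFunc.X) ≤ 1) ∧
    ∀ z : K, (∀ P, LocRes.vDiff (φ P) z (algebraMap (RatFunc k) K RatFunc.X) ≤ 1) →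
      ∃ a : Polynomial k, a.degree < (FunFld.genus k K : WithBot ℕ) ∧
        z = algebraMap (RatFunc k) K (algebraMap (Polynomial k) (RatFunc k) a) / y := by
  exact main hK hdeg h2 y f hf hd heq F φ hφ

end Groth.Agent.S12584
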