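import Groth.Statements.S12587
import Groth.Agent.FunFldLib.ASGenus

set_option autoImplicit false
universe u v w
open FunFld

namespace Groth.Agent.S12587

open Groth.Agent.FunFldLib Polynomial in
theorem rat_pole {k : Type*} [Field k] : ∃ I : FunFld.Place k (RatFunc k), 1 < I.1 RatFunc.X := by
  have hF := ratFunc_isFunctionField k
  obtain ⟨I, hI⟩ := exists_place_val_lt_one hF.1 (y := (RatFunc.X : RatFunc k)⁻¹)
    (fun h => RatFunc.transcendental_X (IsAlgebraic.inv_iff.1 h))
  refine ⟨I, ?_⟩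
  rw [map_inv₀, inv_lt_one₀ (zero_lt_iff.2 (val_ne_zero I RatFunc.X_ne_zero))] at hI
  exact hI

open Groth.Agent.FunFldLib WithZero Polynomial in
theorem main {k K : Type*} [Field k] [Field K] [Algebra k K] [Algebra (RatFunc k) K] [IsScalarTower k (RatFunc k) K]
    (hK : FunFld.IsFunctionField k K) (hdeg : Module.finrank (RatFunc k) K = 2) [PerfectField k] (h2 : ringChar k = 2)
    [Algebra.IsSeparable (RatFunc k) K]
    (y : K) (hy : y ∉ Set.range (algebraMap (RatFunc k) K)) (f : RatFunc k)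
    (heq : y ^ 2 + y = algebraMap (RatFunc k) K f)
    (hodd : ∀ p : FunFld.Place k (RatFunc k), 1 < p.1 f → Odd (p.ord f))
    (q : Polynomial k) (hq0 : q ≠ 0)
    (hq : ∀ p : FunFld.Place k (RatFunc k), p.1 RatFunc.X ≤ 1 →
      p.ord (algebraMap (Polynomial k) (RatFunc k) q) = if 1 < p.1 f then (1 - p.ord f) / 2 else 0)
    (F : FunFld.Place k K → Type*) [∀ P, Field (F P)] [∀ P, Algebra k (F P)]
    (φ : ∀ P, K →ₐ[k] LaurentSeries (F P)) (hφ : ∀ P, LocRes.IsExpansionAt P.1 (φ P)) :
    (∀ i : ℕ, i < FunFld.genus k K → ∀ P,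
      LocRes.vDiff (φ P) (algebraMap (RatFunc k) K (RatFunc.X ^ i / algebraMap (Polynomial k) (RatFunc k) q))
        (algebraMap (RatFunc k) K RatFunc.X) ≤ 1) ∧
    ∀ z : K, (∀ P, LocRes.vDiff (φ P) z (algebraMap (RatFunc k) K RatFunc.X) ≤ 1) →
      ∃ a : Polynomial k, a.degree < (FunFld.genus k K : WithBot ℕ) ∧
        z = algebraMap (RatFunc k) K (algebraMap (Polynomial k) (RatFunc k) a / algebraMap (Polynomial k) (RatFunc k) q) := by
  classical
  haveI : CharP k 2 := ringChar.of_eq h2
  haveI : CharP K 2 := charP_of_injective_algebraMap (algebraMap k K).injective 2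
  haveI : FiniteDimensional (RatFunc k) K := Module.finite_of_finrank_eq_succ hdeg
  have hF := ratFunc_isFunctionField k
  have hf0 : f ≠ 0 := fun h0 => by
    rw [h0, map_zero] at heq
    have : y * (y + 1) = 0 := by linear_combination heq
    rcases mul_eq_zero.1 this with h | h
    · exact hy ⟨0, by rw [h, map_zero]⟩
    · exact hy ⟨-1, by rw [map_neg, map_one, eq_neg_of_add_eq_zero_left h]⟩
  have hlt1 : ∀ p : FunFld.Place k (RatFunc k), 1 < p.1 f ↔ p.ord f < 0 := fun p => by
    rw [← not_le, val_le_one_iff p hf0, not_le]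
  have hodd' : ∀ p : FunFld.Place k (RatFunc k), p.ord f < 0 → Odd (p.ord f) := fun p hp => hodd p ((hlt1 p).2 hp)
  obtain ⟨I, hI⟩ := rat_pole (k := k)
  set C := asDelta f - (2 : ℤ) • Finsupp.single I 1 with hC
  have hreg : ∀ z : K, (∀ P, LocRes.vDiff (φ P) z (algebraMap (RatFunc k) K RatFunc.X) ≤ 1) ↔ z ∈ FunFld.L (FunFld.conorm K C) := by
    intro z
    refine forall_congr' fun P => ?_
    rw [LocRes.vDiff, map_mul, (hφ P).1, as_dx hdeg hy heq hodd' I hI P (hφ P), ← hC, exp_neg,
      mul_inv_le_iff₀ exp_pos, one_mul]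
  have hq1 : algebraMap (Polynomial k) (RatFunc k) q ≠ 0 := RatFunc.algebraMap_ne_zero hq0
  set Q := algebraMap (Polynomial k) (RatFunc k) q with hQ
  have hqfin : ∀ p : FunFld.Place k (RatFunc k), p ≠ I → p.ord Q = asDelta f p := fun p hp => by
    rw [hq p (not_lt.1 fun h => hp (inf_unique h hI)), asDelta_apply]
    exact if_congr (hlt1 p) rfl rfl
  have hqinf : ∀ a : Polynomial k, a ≠ 0 → I.ord (algebraMap (Polynomial k) (RatFunc k) a) = -(a.natDegree : ℤ) := fun a ha => by
    rw [FunFld.Place.ord, poly_val_inf I hI ha, val_X_inf I hI, log_pow, log_exp, nsmul_eq_mul, mul_one]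
  have hId : I.deg = 1 := deg_inf I hI
  have hdivq : FunFld.div k Q = asDelta f - (asDelta f I + q.natDegree) • Finsupp.single I 1 := Finsupp.ext fun p => by
    rw [div_apply hF.1, Finsupp.sub_apply, Finsupp.smul_apply, smul_eq_mul]
    rcases eq_or_ne p I with rfl | hp
    · rw [Finsupp.single_eq_same, hqinf q hq0]; ring
    · rw [Finsupp.single_eq_of_ne hp, hqfin p hp]; ring
  have hdegq : (q.natDegree : ℤ) = (asDelta f).deg - asDelta f I := by
    have h := deg_div hF.1 Q
    rw [hdivq, deg_sub, Finsupp.smul_single, deg_single, hId, smul_eq_mul] at h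
    push_cast at h
    linarith
  have hgen := as_genus hdeg hy heq hodd' hK
  have hCapp : ∀ p, C p = if p = I then asDelta f I - 2 else asDelta f p := fun p => by
    rw [hC, Finsupp.sub_apply, Finsupp.smul_apply, smul_eq_mul]
    split_ifs with hp
    · subst hp; rw [Finsupp.single_eq_same]; ring
    · rw [Finsupp.single_eq_of_ne hp]; ring
  have hbot : FunFld.L (C - asDelta f) = ⊥ := L_eq_bot hF (by
    rw [deg_sub, hC, deg_sub, Finsupp.smul_single, deg_single, hId]; norm_num)
  refine ⟨fun i hi => (hreg _).2 ?_, fun z hz => ?_⟩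
  · have h := (as_mem_L hdeg hy heq hodd' hK C (RatFunc.X ^ i / Q) 0).2 ⟨?_, zero_mem _⟩
    · rwa [map_zero, zero_mul, add_zero] at h
    have hX : (RatFunc.X : RatFunc k) ^ i = algebraMap (Polynomial k) (RatFunc k) (Polynomial.X ^ i) := by
      rw [map_pow, RatFunc.algebraMap_X]
    rw [mem_L_iff (div_ne_zero (pow_ne_zero _ RatFunc.X_ne_zero) hq1)]
    intro p
    rw [ord_div p (pow_ne_zero _ RatFunc.X_ne_zero) hq1, hCapp]
    split_ifs with hp
    · subst hp
      rw [hX, hqinf _ (pow_ne_zero _ Polynomial.X_ne_zero), natDegree_X_pow, hQ, hqinf q hq0, hdegq]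
      omega
    · have h1 : 0 ≤ p.ord ((RatFunc.X : RatFunc k) ^ i) := by
        rw [ord_pow]
        exact mul_nonneg (Int.natCast_nonneg i) ((val_le_one_iff p RatFunc.X_ne_zero).1 (not_lt.1 fun h => hp (inf_unique h hI)))
      rw [hqfin p hp]
      omega
  · have hzL := (hreg z).1 hz
    obtain ⟨-, hdec⟩ := as_setup hdeg hy heq
    obtain ⟨a, b, rfl⟩ := hdec z
    obtain ⟨ha, hb⟩ := (as_mem_L hdeg hy heq hodd' hK C a b).1 hzL
    rw [hbot, Submodule.mem_bot] at hb
    subst hb
    rcases eq_or_ne a 0 with rfl | ha0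
    · exact ⟨0, by rw [degree_zero]; exact WithBot.bot_lt_coe _, by simp⟩
    rw [mem_L_iff ha0] at ha
    have hfin : ∀ p : FunFld.Place k (RatFunc k), 0 ≤ p.ord RatFunc.X → 0 ≤ p.ord (a * Q) := fun p hp => by
      have hne : p ≠ I := fun h => by
        have := (val_le_one_iff p RatFunc.X_ne_zero).2 hp
        rw [h] at this; exact this.not_gt hI
      have := ha p
      rw [hCapp, if_neg hne] at this
      rw [ord_mul p ha0 hq1, hqfin p hne]
      omega
    obtain ⟨r, hr⟩ := Groth.Agent.S11014.exists_poly hF (x := (RatFunc.X : RatFunc k)) RatFunc.transcendental_X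
      ⟨a * Q, by rw [RatFunc.adjoin_X]; trivial⟩ hfin
    have hr' : a * Q = algebraMap (Polynomial k) (RatFunc k) r :=
      hr.trans (by rw [← RatFunc.algebraMap_X, aeval_algebraMap_apply, aeval_X_left_apply])
    have hr0 : r ≠ 0 := fun h => mul_ne_zero ha0 hq1 (by rw [hr', h, map_zero])
    refine ⟨r, ?_, ?_⟩
    · rw [← natDegree_lt_iff_degree_lt hr0]
      have h1 := ha I
      rw [hCapp, if_pos rfl] at h1
      have h2 : I.ord (a * Q) = -(r.natDegree : ℤ) := by rw [hr', hqinf r hr0]
      rw [ord_mul I ha0 hq1, hQ, hqinf q hq0, hdegq] at h2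
      omega
    · rw [← hr', mul_div_cancel_right₀ _ hq1, map_zero, zero_mul, add_zero]

/-- For `k` perfect of characteristic `2` and `K = k(x, y)` with `y² + y = f(x)`, all poles of `f` of
odd order `2d_i - 1` at `p_i`, and `q = ∏ p_i^{d_i}` over the finite poles, the forms `x^i dx/q(x)`,
`0 ≤ i < g`, are a `k`-basis of the regular differential forms; regularity read through Laurent
expansions over `k` at every place; `q` is pinned up to a constant by its orders at the finite
places. -/
theorem result (k : Type u) (K : Type v) [Field k] [Field K] [Algebra k K] [Algebra (RatFunc k) K] [IsScalarTower k (RatFunc k) K]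
    (hK : FunFld.IsFunctionField k K) (hdeg : Module.finrank (RatFunc k) K = 2) [PerfectField k] (h2 : ringChar k = 2)
    [Algebra.IsSeparable (RatFunc k) K]
    (y : K) (hy : y ∉ Set.range (algebraMap (RatFunc k) K)) (f : RatFunc k)
    (heq : y ^ 2 + y = algebraMap (RatFunc k) K f)
    (hodd : ∀ p : FunFld.Place k (RatFunc k), 1 < p.1 f → Odd (p.ord f))
    (q : Polynomial k) (hq0 : q ≠ 0)
    (hq : ∀ p : FunFld.Place k (RatFunc k), p.1 RatFunc.X ≤ 1 →
      p.ord (algebraMap (Polynomial k) (RatFunc k) q) = if 1 < p.1 f then (1 - p.ord f) / 2 else 0)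
    (F : FunFld.Place k K → Type w) [∀ P, Field (F P)] [∀ P, Algebra k (F P)] [∀ P, FiniteDimensional k (F P)]
    (φ : ∀ P, K →ₐ[k] LaurentSeries (F P)) (hφ : ∀ P, LocRes.IsExpansionAt P.1 (φ P)) :
    (∀ i : ℕ, i < FunFld.genus k K → ∀ P,
      LocRes.vDiff (φ P) (algebraMap (RatFunc k) K (RatFunc.X ^ i / algebraMap (Polynomial k) (RatFunc k) q))
        (algebraMap (RatFunc k) K RatFunc.X) ≤ 1) ∧
    ∀ z : K, (∀ P, LocRes.vDiff (φ P) z (algebraMap (RatFunc k) K RatFunc.X) ≤ 1) →
      ∃ a : Polynomial k, a.degree < (FunFld.genus k K : WithBot ℕ) ∧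
        z = algebraMap (RatFunc k) K (algebraMap (Polynomial k) (RatFunc k) a / algebraMap (Polynomial k) (RatFunc k) q) := by
  exact main hK hdeg h2 y hy f heq hodd q hq0 hq F φ hφ

end Groth.Agent.S12587
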