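import Groth.Statements.S12588
import Groth.Agent.S12519
import Groth.Agent.FunFldLib.RatGeometric
import Groth.Agent.FunFldLib.DiffEisen

set_option autoImplicit false
universe u v w
open FunFld

namespace Groth.Agent.S12588

set_option maxHeartbeats 800000

/-- For `k` perfect of characteristic `2`, `K` separable of degree `2` over `k(x)` with `y² + y = f(x)`,
and a place `p` of `k(x)` where `f` has a pole whose order `2d - 1` is odd: a place `P` of `K` above
`p` with ramification index `e` (necessarily `e = 2`, `P` unique) has different exponent `d(P|p) =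
2d = 1 - ord_p(f)`; the exponent is computed on `dz` through Laurent expansions over `k` at `p` and
`P`. -/
theorem result (k : Type u) (K : Type v) [Field k] [Field K] [Algebra k K] [Algebra (RatFunc k) K] [IsScalarTower k (RatFunc k) K]
    (hK : FunFld.IsFunctionField k K) (hdeg : Module.finrank (RatFunc k) K = 2) [PerfectField k] (h2 : ringChar k = 2)
    [Algebra.IsSeparable (RatFunc k) K]
    (y : K) (hy : y ∉ Set.range (algebraMap (RatFunc k) K)) (f : RatFunc k)
    (heq : y ^ 2 + y = algebraMap (RatFunc k) K f)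
    (p : FunFld.Place k (RatFunc k)) (hp : 1 < p.1 f) (hodd : Odd (p.ord f))
    (P : FunFld.Place k K) (e : ℕ) (he : FunFld.IsOverWith P p e)
    (F F' : Type w) [Field F] [Algebra k F] [Field F'] [Algebra k F']
    (φ : RatFunc k →ₐ[k] LaurentSeries F) (hφ : LocRes.IsExpansionAt p.1 φ)
    (ψ : K →ₐ[k] LaurentSeries F') (hψ : LocRes.IsExpansionAt P.1 ψ)
    (z : RatFunc k) (hz : LocRes.vDiff φ 1 z ≠ 0) (hz' : LocRes.vDiff ψ 1 (algebraMap (RatFunc k) K z) ≠ 0) :
    LocRes.diffExp φ ψ e z = 1 - p.ord f := by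
  open WithZero Groth.Agent.FunFldLib Polynomial in
  haveI : CharP k 2 := ringChar.of_eq h2
  haveI : CharP (RatFunc k) 2 := charP_of_injective_algebraMap (algebraMap k (RatFunc k)).injective 2
  haveI : CharP K 2 := charP_of_injective_algebraMap (algebraMap (RatFunc k) K).injective 2
  haveI : FiniteDimensional (RatFunc k) K := Module.finite_of_finrank_eq_succ hdeg
  have hF := Groth.Agent.FunFldLib.ratFunc_isFunctionField k
  have hf0 : f ≠ 0 := fun h0 => by rw [h0, map_zero] at hp; exact absurd hp (not_lt.2 zero_le_one)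
  have hneg : p.ord f < 0 := by
    by_contra hc
    exact hp.not_ge ((Groth.Agent.FunFldLib.val_le_one_iff p hf0).2 (not_lt.1 hc))
  have he2 : e = 2 := (Groth.Agent.FunFldLib.place_unique he
    (((Groth.Agent.S12519.core hF hdeg y hy f heq p).1 ⟨hneg, hodd⟩).2 P ⟨e, he⟩).1).2
  subst he2
  obtain ⟨m, hm⟩ := hodd
  obtain ⟨t, ht0, ht⟩ := Groth.Agent.FunFldLib.exists_val_eq p (-1)
  set c := (-m).toNat with hc
  have hc0 : (c : ℤ) = -m := by omega
  have hta : p.1 (t ^ c) = WithZero.exp m := by
    rw [map_pow, ht, ← WithZero.exp_nsmul, nsmul_eq_mul, mul_neg, mul_one, hc0, neg_neg]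
  have hpf : p.1 f = WithZero.exp (-(2 * m + 1)) := by rw [Groth.Agent.FunFldLib.val_eq_exp p hf0, hm]
  set a := t ^ c with ha
  have ha0 : a ≠ 0 := pow_ne_zero _ ht0
  set A := algebraMap (RatFunc k) K a with hA
  have hA0 : A ≠ 0 := (_root_.map_ne_zero _).2 ha0
  have hy2 : 2 * P.ord y = 2 * (2 * m + 1) := by
    have hy0 : y ≠ 0 := fun h => hy ⟨0, by rw [h, map_zero]⟩
    have h1 : 1 < P.1 (algebraMap (RatFunc k) K f) := by rw [he]; exact one_lt_pow₀ hp two_ne_zero
    have h2 : 1 < P.1 y := by
      by_contra hle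
      rw [not_lt] at hle
      rw [← heq] at h1
      exact h1.not_ge ((P.1.map_add _ _).trans (max_le (by rw [map_pow]; exact pow_le_one₀ zero_le hle) hle))
    have h3 : P.1 (algebraMap (RatFunc k) K f) = P.1 y ^ 2 := by
      rw [← heq, Valuation.map_add_eq_of_lt_left, map_pow]
      rw [map_pow, sq]; exact lt_mul_of_one_lt_left (zero_lt_one.trans h2) h2
    have h4 := Groth.Agent.FunFldLib.ord_algebraMap_eq he f
    simp only [FunFld.Place.ord, h3, WithZero.log_pow, nsmul_eq_mul] at h4
    rw [← hm]
    simp only [FunFld.Place.ord]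
    push_cast at h4
    linarith
  have hs : P.1 (A * y) = WithZero.exp (-1) := by
    rw [map_mul, hA, he, hta, Groth.Agent.FunFldLib.val_eq_exp P (fun h => hy ⟨0, by rw [h, map_zero]⟩),
      ← WithZero.exp_nsmul, ← WithZero.exp_add, WithZero.exp_inj, nsmul_eq_mul]
    push_cast; omega
  set g : Polynomial (RatFunc k) := Polynomial.X ^ 2 + Polynomial.C a * Polynomial.X + Polynomial.C (a ^ 2 * f) with hg
  have hgs : Polynomial.aeval (A * y) g = 0 := by
    rw [hg, map_add, map_add, map_pow, map_mul, Polynomial.aeval_X, Polynomial.aeval_C, Polynomial.aeval_C,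
      map_mul (algebraMap (RatFunc k) K), map_pow (algebraMap (RatFunc k) K) a 2, ← heq, ← hA]
    linear_combination (A ^ 2 * (y ^ 2 + y)) * (CharTwo.two_eq_zero : (2 : K) = 0)
  have hga : p.1 (a ^ 2 * f) = WithZero.exp (-1) := by
    rw [map_mul, map_pow, hta, hpf, ← WithZero.exp_nsmul, ← WithZero.exp_add, WithZero.exp_inj, nsmul_eq_mul]
    push_cast; ring
  have hcoef : ∀ i, p.1 (g.coeff i) ≤ 1 := fun i => by
    rw [hg, Polynomial.coeff_add, Polynomial.coeff_add, Polynomial.coeff_X_pow, Polynomial.coeff_C_mul_X, Polynomial.coeff_C]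
    match i with
    | 0 =>
      rw [if_neg (by norm_num), if_neg (by norm_num), if_pos rfl, zero_add, zero_add, hga]
      exact Groth.Agent.FunFldLib.exp_neg_one_lt_one.le
    | 1 =>
      rw [if_neg (by norm_num), if_pos rfl, if_neg (by norm_num), zero_add, add_zero, hta]
      exact (WithZero.exp_le_exp.2 (by omega)).trans_eq WithZero.exp_zero
    | 2 => rw [if_pos rfl, if_neg (by norm_num), if_neg (by norm_num), add_zero, add_zero, map_one]
    | i + 3 => rw [if_neg (by omega), if_neg (by omega), if_neg (by omega), add_zero, add_zero, map_zero]; exact zero_le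
  have hg0 : p.1 (g.coeff 0) = WithZero.exp (-1) := by
    rw [hg, Polynomial.coeff_add, Polynomial.coeff_add, Polynomial.coeff_X_pow, Polynomial.coeff_C_mul_X, Polynomial.coeff_C,
      if_neg (by norm_num), if_neg (by norm_num), if_pos rfl, zero_add, zero_add, hga]
  have hd := Groth.Agent.FunFldLib.diff_core (k := k) (K := RatFunc k) (K' := K) (F := F) (F' := F') (P := p) (Q := P) (e := 2)
    hF (Groth.Agent.FunFldLib.ratFunc_isGeometric k) he (φ := φ) hφ (ψ := ψ) hψ (x := z) hz hz' (s := A * y) hs (f := g) hgs hcoef hg0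
  have hgd : Polynomial.derivative g = Polynomial.C a := by
    rw [hg, Polynomial.derivative_add, Polynomial.derivative_add, Polynomial.derivative_X_pow,
      Polynomial.derivative_C_mul_X, Polynomial.derivative_C, add_zero, Nat.cast_ofNat,
      show (2 : RatFunc k) = 0 from CharTwo.two_eq_zero, map_zero, zero_mul, zero_add]
  rw [← hd, hgd, Polynomial.aeval_C, Groth.Agent.FunFldLib.ord_algebraMap_eq he, hm]
  have h5 : p.ord a = -m := by simp [FunFld.Place.ord, hta]
  rw [h5]; push_cast; ring

end Groth.Agent.S12588
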