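import Groth.Statements.S12589
import Groth.Agent.FunFldLib.Extension
import Mathlib.RingTheory.Valuation.LocalSubring

set_option autoImplicit false
universe u v
open FunFld

namespace Groth.Agent.S12589

open Polynomial in
theorem isIntegral_closure_range (O : Type*) {L : Type*} [CommRing O] [Field L] [Algebra O L] (w : L)
    (h : w ∈ (integralClosure (Subring.closure (Set.range (algebraMap O L))) L).toSubring) : IsIntegral O w := by
  set R := Subring.closure (Set.range (algebraMap O L))
  obtain ⟨p, hp, hpw⟩ := h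
  have hR : ∀ r : R, (r : L) ∈ Set.range (algebraMap O L) := fun r => by
    have hle : R ≤ (algebraMap O L).range := Subring.closure_le.2 (fun x hx => hx)
    exact hle r.2
  have hmem : p.map (algebraMap R L) ∈ lifts (algebraMap O L) := by
    rw [lifts_iff_coeff_lifts]
    intro n
    rw [coeff_map]
    exact hR (p.coeff n)
  obtain ⟨q, hq, -, hqm⟩ := lifts_and_degree_eq_and_monic hmem (Monic.map (algebraMap R L) hp)
  refine ⟨q, hqm, ?_⟩
  rw [← eval_map, hq, eval_map]
  exact hpw

open WithZero Groth.Agent.FunFldLib in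
theorem approx_integral {k K K' : Type*} [Field k] [Field K] [Field K'] [Algebra k K] [Algebra K K'] [Algebra k K']
    [IsScalarTower k K K'] [FiniteDimensional K K'] (hK : IsFF k K) {P : FunFld.Place k K} [Algebra P.O K']
    [IsScalarTower P.O K K'] {Q : FunFld.Place k K'} (hQ : FunFld.IsOver Q P) {z : K'} (hz : Q.1 z ≤ 1) :
    ∃ w : K', IsIntegral P.O w ∧ Q.1 (w - z) < 1 := by
  classical
  have hQS : Q ∈ (finite_over (K' := K') hK P).toFinset := by rw [Set.Finite.mem_toFinset]; exact hQ
  obtain ⟨w, hw⟩ := exists_approx (finite_over (K' := K') hK P).toFinset (fun R => if R = Q then z else 0) (fun _ => -1)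
  have hlt : (exp (-1 : ℤ) : WithZero (Multiplicative ℤ)) < 1 := by rw [← exp_zero, exp_lt_exp]; norm_num
  have h1 := hw Q hQS
  rw [if_pos rfl] at h1
  refine ⟨w, ?_, h1.trans_lt hlt⟩
  by_contra hni
  obtain ⟨V, hV, hwV⟩ : ∃ V : ValuationSubring K', (∀ a : P.O, algebraMap P.O K' a ∈ V) ∧ w ∉ V := by
    by_contra! hall
    apply hni
    have h2 : w ∈ (⨅ (V : ValuationSubring K') (_ : Set.range (algebraMap P.O K') ⊆ V), V.toSubring) := by
      simp only [Subring.mem_iInf]
      exact fun V hV => hall V fun a => hV ⟨a, rfl⟩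
    have h2' : w ∈ (⨅ V : {V : ValuationSubring K' // Set.range (algebraMap P.O K') ⊆ V.toSubring}, V.1.toSubring) := by
      rw [iInf_subtype]; exact h2
    rw [iInf_valuationSubring_superset] at h2'
    exact isIntegral_closure_range P.O w h2'
  have hk : ∀ c : k, algebraMap k K' c ∈ V := fun c => by
    have := hV ⟨algebraMap k K c, (Valuation.mem_valuationSubring_iff P.1 _).2 (P.2.1 c)⟩
    rwa [IsScalarTower.algebraMap_apply P.O K K', show ((algebraMap P.O K) ⟨algebraMap k K c, _⟩) = algebraMap k K c from rfl,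
      ← IsScalarTower.algebraMap_apply] at this
  have hw0 : w ≠ 0 := fun h => hwV (h ▸ zero_mem _)
  obtain ⟨R, hR⟩ := exists_place (isFF_extension (K' := K') hK) V hk (inv_ne_zero hw0) (by rwa [inv_inv])
  obtain ⟨P', e, he⟩ := exists_restrict hK R
  have hPP : P = P' := eq_of_forall_le_one fun x hx => by
    have h1 := hV ⟨x, (Valuation.mem_valuationSubring_iff P.1 x).2 hx⟩
    rw [← hR, Valuation.mem_valuationSubring_iff, IsScalarTower.algebraMap_apply P.O K K'] at h1
    exact (pow_le_one_iff (by have := isOverWith_pos he; omega)).1 ((he x).symm.trans_le h1)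
  subst hPP
  have h3 := hw R (by rw [Set.Finite.mem_toFinset]; exact ⟨e, he⟩)
  apply hwV
  rw [← hR, Valuation.mem_valuationSubring_iff]
  split_ifs at h3 with hRQ
  · subst hRQ
    calc R.1 w = R.1 ((w - z) + z) := by rw [sub_add_cancel]
      _ ≤ 1 := (R.1.map_add _ _).trans (max_le (h3.trans hlt.le) hz)
  · rw [sub_zero] at h3; exact h3.trans hlt.le


/-- If a place `P` of a geometric function field of one variable `K/k` is nonsingular with respect to
the finite extension `k'/k` (the integral closure of `O_P` in `K' = k' ⊗_k K` is `O_P[k']`) and `Q`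
is a place of `K'` above `P`, then `F_Q = k' F_P`. -/
theorem result (k k' : Type u) (K K' : Type v) [Field k] [Field k'] [Field K] [Field K']
    [Algebra k k'] [FiniteDimensional k k'] [Algebra k K] [Algebra K K'] [Algebra k' K'] [Algebra k K']
    [IsScalarTower k k' K'] [IsScalarTower k K K']
    (h : Function.Bijective (Algebra.TensorProduct.productMap
      (IsScalarTower.toAlgHom k k' K') (IsScalarTower.toAlgHom k K K')))
    (hK : FunFld.IsFunctionField k K) (hg : FunFld.IsGeometric k K)
    (P : FunFld.Place k K) [Algebra P.O K'] [IsScalarTower P.O K K']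
    (hns : (integralClosure P.O K').toSubring = (Algebra.adjoin P.O (Set.range (algebraMap k' K'))).toSubring)
    (Q : FunFld.Place k K') [P.1.HasExtension Q.1] (hk' : ∀ c : k', Q.1 (algebraMap k' K' c) ≤ 1) :
    Algebra.adjoin (IsLocalRing.ResidueField P.O)
      (Set.range fun c : k' => IsLocalRing.residue Q.O ⟨algebraMap k' K' c, hk' c⟩) = ⊤ := by
  haveI : FiniteDimensional K K' := by
    let f : TensorProduct k k' K →ₐ[k] K' := Algebra.TensorProduct.productMap
      (IsScalarTower.toAlgHom k k' K') (IsScalarTower.toAlgHom k K K')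
    obtain ⟨S, hS⟩ := (Module.Finite.fg_top (R := k) (M := k'))
    refine ⟨⟨S.map ⟨algebraMap k' K', (algebraMap k' K').injective⟩, eq_top_iff.2 fun z _ => ?_⟩⟩
    obtain ⟨t, rfl⟩ := h.2 z
    induction t using TensorProduct.induction_on with
    | zero => rw [map_zero]; exact zero_mem _
    | add a b ha hb => rw [map_add]; exact add_mem (ha trivial) (hb trivial)
    | tmul c x =>
      rw [Algebra.TensorProduct.productMap_apply_tmul]
      show algebraMap k' K' c * algebraMap K K' x ∈ _
      rw [mul_comm, ← Algebra.smul_def]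
      refine Submodule.smul_mem _ _ ?_
      rw [Finset.coe_map]
      have hc : c ∈ Submodule.span k (S : Set k') := hS ▸ Submodule.mem_top
      have h1 := Submodule.mem_map_of_mem (f := (IsScalarTower.toAlgHom k k' K').toLinearMap) hc
      rw [Submodule.map_span] at h1
      exact Submodule.span_le_restrictScalars k K _ h1
  set S := Algebra.adjoin (IsLocalRing.ResidueField P.O)
      (Set.range fun c : k' => IsLocalRing.residue Q.O ⟨algebraMap k' K' c, hk' c⟩) with hS
  have hmem : ∀ w ∈ Algebra.adjoin P.O (Set.range (algebraMap k' K')),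
      ∃ hw : Q.1 w ≤ 1, IsLocalRing.residue Q.O ⟨w, (Valuation.mem_valuationSubring_iff Q.1 w).2 hw⟩ ∈ S := by
    intro w hw
    induction hw using Algebra.adjoin_induction with
    | mem x hx =>
      obtain ⟨c, rfl⟩ := hx
      exact ⟨hk' c, Algebra.subset_adjoin ⟨c, rfl⟩⟩
    | algebraMap r =>
      rw [IsScalarTower.algebraMap_apply P.O K K']
      refine ⟨(Valuation.mem_valuationSubring_iff Q.1 _).1 (algebraMap P.O Q.O r).2, ?_⟩
      exact S.algebraMap_mem (IsLocalRing.residue P.O r)
    | add a b _ _ ha hb =>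
      obtain ⟨ha, ha'⟩ := ha
      obtain ⟨hb, hb'⟩ := hb
      exact ⟨(Q.1.map_add _ _).trans (max_le ha hb), by
        have := add_mem ha' hb'; rw [← map_add] at this; exact this⟩
    | mul a b _ _ ha hb =>
      obtain ⟨ha, ha'⟩ := ha
      obtain ⟨hb, hb'⟩ := hb
      exact ⟨(map_mul Q.1 _ _).trans_le (mul_le_one' ha hb), by
        have := mul_mem ha' hb'; rw [← map_mul] at this; exact this⟩
  rw [eq_top_iff]
  intro r _
  obtain ⟨z, rfl⟩ := IsLocalRing.residue_surjective r
  have hQ : FunFld.IsOver Q P := by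
    obtain ⟨P', e, he⟩ := Groth.Agent.FunFldLib.exists_restrict hK.1 Q
    have hPP : P = P' := Groth.Agent.FunFldLib.eq_of_forall_le_one fun x hx => by
      have h1 := (Valuation.HasExtension.val_map_le_one_iff P.1 Q.1 x).2 hx
      rw [he x] at h1
      exact (pow_le_one_iff (by have := Groth.Agent.FunFldLib.isOverWith_pos he; omega)).1 h1
    exact ⟨e, hPP ▸ he⟩
  obtain ⟨w, hw, hwz⟩ := approx_integral hK.1 hQ ((Valuation.mem_valuationSubring_iff Q.1 _).1 z.2)
  have hwA : w ∈ Algebra.adjoin P.O (Set.range (algebraMap k' K')) := by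
    have h1 : w ∈ (integralClosure P.O K').toSubring := hw
    rw [hns] at h1
    exact h1
  obtain ⟨hw1, hwS⟩ := hmem w hwA
  have heq : IsLocalRing.residue Q.O z = IsLocalRing.residue Q.O ⟨w, (Valuation.mem_valuationSubring_iff Q.1 w).2 hw1⟩ := by
    rw [eq_comm, ← sub_eq_zero, ← map_sub, Groth.Agent.FunFldLib.residue_eq_zero_iff_val]
    exact hwz
  rw [heq]
  exact hwS

end Groth.Agent.S12589
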