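import Groth.Statements.S12590
import Groth.Agent.FunFldLib.DiffExp
import Mathlib.RingTheory.Unramified.Field
import Mathlib.RingTheory.Trace.Basic

set_option autoImplicit false
universe u v w
open FunFld

namespace Groth.Agent.S12590

set_option backward.isDefEq.respectTransparency.types false
open WithZero

noncomputable def coefDer {k F : Type*} [Field k] [Field F] [Algebra k F] (δ : Derivation k F F) (x : LaurentSeries F) :
    LaurentSeries F := x.map δ.toLinearMap

theorem coefDer_coeff {k F : Type*} [Field k] [Field F] [Algebra k F] (δ : Derivation k F F) (x : LaurentSeries F) (n : ℤ) :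
    (coefDer δ x).coeff n = δ (x.coeff n) := rfl

theorem coefDer_mul {k F : Type*} [Field k] [Field F] [Algebra k F] (δ : Derivation k F F) (x y : LaurentSeries F) :
    coefDer δ (x * y) = x * coefDer δ y + coefDer δ x * y := by
  ext n
  rw [HahnSeries.coeff_add, coefDer_coeff, HahnSeries.coeff_mul,
    HahnSeries.coeff_mul_right' y.isPWO_support (fun i hi => by
      simp only [HahnSeries.mem_support, coefDer_coeff] at hi ⊢
      exact fun h => hi (by rw [h, map_zero])),
    HahnSeries.coeff_mul_left' x.isPWO_support (fun i hi => by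
      simp only [HahnSeries.mem_support, coefDer_coeff] at hi ⊢
      exact fun h => hi (by rw [h, map_zero])),
    map_sum, ← Finset.sum_add_distrib]
  refine Finset.sum_congr rfl fun ij _ => ?_
  simp only [Derivation.leibniz, smul_eq_mul, coefDer_coeff]
  ring

theorem main {k : Type*} {K : Type*} [Field k] [Field K] [Algebra k K] (hK : FunFld.IsFunctionField k K) (hg : FunFld.IsGeometric k K)
    (P : FunFld.Place k K) (F : Type*) [Field F] [Algebra k F] [FiniteDimensional k F]
    (φ : K →ₐ[k] LaurentSeries F) (hφ : LocRes.IsExpansionAt P.1 φ)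
    (x : K) (hx : KaehlerDifferential.D k K x ≠ 0) :
    ∃ y : K, LocRes.locRes φ y x ≠ 0 := by
  obtain ⟨t, ht⟩ := hφ.2.2
  obtain ⟨-, ht'⟩ := Groth.Agent.FunFldLib.ordDiff_param hφ ht
  have hvt : Valued.v (LocRes.D F (φ t)) = 1 := Groth.Agent.FunFldLib.val_D_param (f := φ t) (by rw [hφ.1, ht])
  have hDt := Groth.Agent.FunFldLib.d_ne_zero_of_D φ ht'
  -- every derivation of the coefficient field is zero
  have hδ : ∀ (δ : Derivation k F F) (β : F), δ β = 0 := by
    intro δ β
    obtain ⟨f, hf, rfl⟩ := hφ.2.1 β
    obtain ⟨a, ha⟩ := Groth.Agent.FunFldLib.exists_ratio hK hg hDt f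
    letI := φ.toRingHom.toAlgebra
    haveI : IsScalarTower k K (LaurentSeries F) := LocRes.isScalarTower_exp φ
    let Δ : Derivation k K (LaurentSeries F) :=
      { toFun := fun z => coefDer δ (φ z)
        map_add' := fun u v => by
          ext n; simp only [coefDer_coeff, map_add, HahnSeries.coeff_add]
        map_smul' := fun c u => by
          ext n
          show δ ((φ (c • u)).coeff n) = (c • coefDer δ (φ u)).coeff n
          rw [Algebra.smul_def, map_mul, AlgHom.commutes, HahnSeries.algebraMap_apply', PowerSeries.algebraMap_apply,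
            HahnSeries.ofPowerSeries_C, HahnSeries.C_mul_eq_smul, HahnSeries.coeff_smul, HahnSeries.coeff_smul,
            coefDer_coeff, smul_eq_mul, Derivation.leibniz, Derivation.map_algebraMap,
            smul_zero, add_zero, smul_eq_mul, ← Algebra.smul_def]
        map_one_eq_zero' := by
          ext n
          show δ ((φ 1).coeff n) = 0
          rw [map_one, HahnSeries.coeff_one]
          split <;> simp
        leibniz' := fun u v => by
          show coefDer δ (φ (u * v)) = φ u * coefDer δ (φ v) + φ v * coefDer δ (φ u)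
          rw [map_mul, coefDer_mul]; ring }
    have h1 := congrArg Δ.liftKaehlerDifferential ha
    rw [map_smul, Derivation.liftKaehlerDifferential_comp_D, Derivation.liftKaehlerDifferential_comp_D] at h1
    change coefDer δ (φ f) = φ a * coefDer δ (φ t) at h1
    have h2 := congrArg (fun z => z.coeff 0) h1
    simp only [coefDer_coeff] at h2
    rw [h2]
    have hDf := Groth.Agent.FunFldLib.D_map_smul φ ha
    have hva : Valued.v (φ a) ≤ exp (-(0 : ℤ)) := by
      have h3 : Valued.v (LocRes.D F (φ f)) ≤ exp (-(0 : ℤ)) := by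
        have h4 : Valued.v (φ f) ≤ exp (-(0 : ℤ)) := by rw [hφ.1]; simpa using hf
        rw [LaurentSeries.valuation_le_iff_coeff_lt_eq_zero]
        intro n hn
        rw [LocRes.D_coeff]
        rcases eq_or_ne n (-1) with rfl | hne
        · simp
        · rw [LaurentSeries.coeff_zero_of_lt_valuation F h4 (by omega), smul_zero]
      rw [hDf, map_mul, hvt, mul_one] at h3
      exact h3
    have hvd : Valued.v (coefDer δ (φ t)) ≤ exp (-(1 : ℤ)) := by
      rw [LaurentSeries.valuation_le_iff_coeff_lt_eq_zero]
      intro n hn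
      rw [coefDer_coeff, LaurentSeries.coeff_zero_of_lt_valuation F (by rw [hφ.1, ht]) hn, map_zero]
    refine LaurentSeries.coeff_zero_of_lt_valuation F (D := 1) ?_ one_pos
    rw [map_mul]
    calc _ ≤ exp (-(0 : ℤ)) * exp (-(1 : ℤ)) := mul_le_mul' hva hvd
      _ = _ := by rw [← exp_add]; norm_num
  haveI : Algebra.FormallyUnramified k F := by
    refine ⟨subsingleton_of_forall_eq 0 fun ω => ?_⟩
    refine (Module.forall_dual_apply_eq_zero_iff F ω).1 fun ℓ => ?_
    have : ℓ.comp LinearMap.id = 0 := by
      refine LinearMap.ext_on_range (KaehlerDifferential.span_range_derivation k F) fun b => ?_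
      simpa using hδ (ℓ.compDer (KaehlerDifferential.D k F)) b
    simpa using congrArg (fun m => m ω) this
  haveI : Algebra.IsSeparable k F := Algebra.FormallyUnramified.isSeparable k F
  obtain ⟨c, hc⟩ := Algebra.trace_surjective k F 1
  obtain ⟨a, ha⟩ := Groth.Agent.FunFldLib.exists_ratio hK hg hDt x
  have ha0 : a ≠ 0 := fun h => hx (by rw [ha, h, zero_smul])
  have hDx := Groth.Agent.FunFldLib.D_map_smul φ ha
  set u : LaurentSeries F := φ t⁻¹ * LocRes.D F (φ t) with hu
  have hvu : Valued.v u = exp (1 : ℤ) := by
    rw [hu, map_mul, hφ.1, map_inv₀, ht, hvt, mul_one, ← exp_neg, neg_neg]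
  have hu0 : u.coeff (-1) ≠ 0 := by
    intro h
    have h5 : Valued.v u ≤ exp (-(0 : ℤ)) := by
      rw [LaurentSeries.valuation_le_iff_coeff_lt_eq_zero]
      intro n hn
      rcases eq_or_ne n (-1) with rfl | hne
      · exact h
      · exact LaurentSeries.coeff_zero_of_lt_valuation F (D := -1) (by rw [hvu, neg_neg]) (by omega)
    rw [hvu, exp_le_exp] at h5
    omega
  obtain ⟨f, hf, hf0⟩ := hφ.2.1 (c / u.coeff (-1))
  refine ⟨f * t⁻¹ * a⁻¹, ?_⟩
  rw [LocRes.locRes, LocRes.resExp, hDx, show φ (f * t⁻¹ * a⁻¹) * (φ a * LocRes.D F (φ t)) = φ f * u by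
    rw [hu, map_mul, map_mul, map_inv₀ φ a]
    field_simp [(map_ne_zero φ).2 ha0]]
  have h6 : (φ f * u).coeff (-1) = c := by
    have h7 : Valued.v (φ f - HahnSeries.C ((φ f).coeff 0)) ≤ exp (-(1 : ℤ)) := by
      rw [LaurentSeries.valuation_le_iff_coeff_lt_eq_zero]
      intro n hn
      rw [HahnSeries.coeff_sub, HahnSeries.C_apply, HahnSeries.coeff_single]
      rcases eq_or_ne n 0 with rfl | hne
      · simp
      · rw [if_neg hne, sub_zero]
        exact LaurentSeries.coeff_zero_of_lt_valuation F (D := 0) (by rw [hφ.1]; simpa using hf) (by omega)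
    have h8 : ((φ f - HahnSeries.C ((φ f).coeff 0)) * u).coeff (-1) = 0 := by
      refine LaurentSeries.coeff_zero_of_lt_valuation F (D := 0) ?_ (by omega)
      rw [map_mul, hvu]
      calc _ ≤ exp (-(1 : ℤ)) * exp (1 : ℤ) := mul_le_mul' h7 le_rfl
        _ = _ := by rw [← exp_add]; norm_num
    rw [sub_mul, HahnSeries.coeff_sub, sub_eq_zero] at h8
    rw [h8, HahnSeries.C_mul_eq_smul, HahnSeries.coeff_smul, smul_eq_mul, hf0, div_mul_cancel₀ _ hu0]
  rw [LocRes.res_apply, h6, hc]
  exact one_ne_zero

/-- At a place `P` of a geometric function field of one variable `K/k` and for a separating variable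
`x`, the local residue `Res_P(y dx)` is nonzero for some `y`; stated at a separable place through a
Laurent expansion over `k`, with `y` found in `K` itself. (The companion assertion on the largest
finite extension of `k` inside the completion is not stated.) -/
theorem result (k : Type u) (K : Type v) [Field k] [Field K] [Algebra k K] (hK : FunFld.IsFunctionField k K) (hg : FunFld.IsGeometric k K)
    (P : FunFld.Place k K) (F : Type w) [Field F] [Algebra k F] [FiniteDimensional k F]
    (φ : K →ₐ[k] LaurentSeries F) (hφ : LocRes.IsExpansionAt P.1 φ)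
    (x : K) (hx : KaehlerDifferential.D k K x ≠ 0) :
    ∃ y : K, LocRes.locRes φ y x ≠ 0 := by
  exact main hK hg P F φ hφ x hx

end Groth.Agent.S12590
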