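import Groth.Statements.S12593
import Groth.Agent.FunFldLib.Gaps
import Groth.Agent.FunFldLib.Cor

set_option autoImplicit false
universe u v
open FunFld

namespace Groth.Agent.S12593

set_option backward.isDefEq.respectTransparency.types false
open WithZero

theorem main {k kbar K Kbar : Type*} [Field k] [Field kbar] [Field K] [Field Kbar]
    [Algebra k kbar] [IsAlgClosure k kbar] [Algebra k K] [Algebra K Kbar] [Algebra kbar Kbar] [Algebra k Kbar]
    [IsScalarTower k kbar Kbar] [IsScalarTower k K Kbar]
    (h : Function.Surjective (Algebra.TensorProduct.productMap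
      (IsScalarTower.toAlgHom k kbar Kbar) (IsScalarTower.toAlgHom k K Kbar)))
    (hK : FunFld.IsFunctionField k K) (Q : FunFld.Place kbar Kbar) :
    ∃ k' : IntermediateField k kbar, FiniteDimensional k k' ∧
      (∃ z ∈ Algebra.adjoin K (Set.range fun c : k' => algebraMap kbar Kbar c), Q.1 z = WithZero.exp (-1)) ∧
      ∀ Q' : FunFld.Place kbar Kbar,
        (∃ e : ℕ, ∀ z ∈ Algebra.adjoin K (Set.range fun c : k' => algebraMap kbar Kbar c), Q'.1 z = Q.1 z ^ e) → Q' = Q := by
  classical
  haveI : IsAlgClosed kbar := IsAlgClosure.isAlgClosed k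
  haveI : Algebra.IsAlgebraic k kbar := IsAlgClosure.isAlgebraic
  have hsplit : ∀ y : Kbar, ∃ S : Finset kbar, y ∈ Algebra.adjoin K (algebraMap kbar Kbar '' (S : Set kbar)) := by
    intro y
    obtain ⟨t, rfl⟩ := h y
    induction t using TensorProduct.induction_on with
    | zero => exact ⟨∅, by rw [map_zero]; exact zero_mem _⟩
    | tmul c a =>
      refine ⟨{c}, ?_⟩
      rw [Algebra.TensorProduct.productMap_apply_tmul]
      exact mul_mem (Algebra.subset_adjoin ⟨c, Finset.mem_singleton_self c, rfl⟩) (Subalgebra.algebraMap_mem _ a)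
    | add t t' ht ht' =>
      obtain ⟨S, hS⟩ := ht
      obtain ⟨S', hS'⟩ := ht'
      refine ⟨S ∪ S', ?_⟩
      rw [map_add]
      exact add_mem (Algebra.adjoin_mono (Set.image_mono (by simp)) hS) (Algebra.adjoin_mono (Set.image_mono (by simp)) hS')
  -- the function field over the closure
  obtain ⟨x, hx, hfin⟩ := hK.1
  have hxT : Transcendental kbar (algebraMap K Kbar x) := fun hal =>
    hx ((isAlgebraic_algebraMap_iff (algebraMap K Kbar).injective).1 (IsAlgebraic.restrictScalars k hal))
  set F := IntermediateField.adjoin k ({x} : Set K) with hF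
  haveI := hfin
  obtain ⟨n, b, hb⟩ := Module.Finite.exists_fin (R := F) (M := K)
  set E := IntermediateField.adjoin kbar ({algebraMap K Kbar x} : Set Kbar) with hE
  have hFE : ∀ a : F, algebraMap K Kbar a ∈ E := fun a => by
    obtain ⟨a, ha⟩ := a
    show algebraMap K Kbar a ∈ E
    induction ha using IntermediateField.adjoin_induction with
    | mem z hz => rw [Set.mem_singleton_iff.1 hz]; exact IntermediateField.mem_adjoin_simple_self _ _
    | algebraMap r =>
      rw [← IsScalarTower.algebraMap_apply, IsScalarTower.algebraMap_apply k kbar Kbar]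
      exact IntermediateField.algebraMap_mem _ _
    | add a b _ _ ha hb => rw [map_add]; exact add_mem ha hb
    | inv a _ ha => rw [map_inv₀]; exact inv_mem ha
    | mul a b _ _ ha hb => rw [map_mul]; exact mul_mem ha hb
  have hfinE : FiniteDimensional E Kbar := by
    refine Module.Finite.of_fg_top ⟨Finset.univ.image (fun i => algebraMap K Kbar (b i)), eq_top_iff.2 fun y hy => ?_⟩
    clear hy
    rw [Finset.coe_image, Finset.coe_univ, Set.image_univ]
    obtain ⟨t, rfl⟩ := h y
    induction t using TensorProduct.induction_on with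
    | zero => rw [map_zero]; exact zero_mem _
    | add t t' ht ht' => rw [map_add]; exact add_mem ht ht'
    | tmul c a =>
      rw [Algebra.TensorProduct.productMap_apply_tmul, IsScalarTower.toAlgHom_apply, IsScalarTower.toAlgHom_apply]
      have ha : a ∈ Submodule.span F (Set.range b) := hb ▸ Submodule.mem_top
      refine Submodule.smul_mem _ (⟨algebraMap kbar Kbar c, IntermediateField.algebraMap_mem _ _⟩ : E) ?_
      induction ha using Submodule.span_induction with
      | mem z hz => obtain ⟨i, rfl⟩ := hz; exact Submodule.subset_span ⟨i, rfl⟩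
      | zero => rw [map_zero]; exact zero_mem _
      | add u v _ _ hu hv => rw [map_add]; exact add_mem hu hv
      | smul r u _ hu =>
        rw [Algebra.smul_def, map_mul]
        exact Submodule.smul_mem _ (⟨_, hFE r⟩ : E) hu
  have hKb : FunFld.IsFunctionField kbar Kbar :=
    ⟨⟨_, hxT, hfinE⟩, fun y hy => minpoly.mem_range_of_degree_eq_one kbar y
      (IsAlgClosed.degree_eq_one_of_irreducible kbar (minpoly.irreducible hy.isIntegral))⟩
  obtain ⟨z, hz0, hzv⟩ := Groth.Agent.FunFldLib.exists_ord_eq Q 1
  obtain ⟨w, hw, hw0, hwv⟩ := Groth.Agent.FunFldLib.exists_ord_eq_of_large hKb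
    (Groth.Agent.FunFldLib.deg_eq_one hKb Q) (m := 2 * FunFld.genus kbar Kbar + 1) (by omega)
  have hvQ : ∀ {u : Kbar}, u ≠ 0 → Q.1 u = exp (-Q.ord u) := fun {u} hu => by
    rw [FunFld.Place.ord, neg_neg, exp_log (Groth.Agent.FunFldLib.val_ne_zero Q hu)]
  obtain ⟨S, hS⟩ := hsplit z
  obtain ⟨S', hS'⟩ := hsplit w
  let k' := IntermediateField.adjoin k ((S ∪ S' : Finset kbar) : Set kbar)
  have hmem : ∀ {T : Finset kbar} {u : Kbar}, T ⊆ S ∪ S' → u ∈ Algebra.adjoin K (algebraMap kbar Kbar '' (T : Set kbar)) →
      u ∈ Algebra.adjoin K (Set.range fun c : k' => algebraMap kbar Kbar c) := fun {T u} hT hu =>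
    Algebra.adjoin_mono (by
      rintro _ ⟨c, hc, rfl⟩
      exact ⟨⟨c, IntermediateField.subset_adjoin k _ (Finset.mem_coe.2 (hT hc))⟩, rfl⟩) hu
  refine ⟨k', IntermediateField.finiteDimensional_adjoin fun c _ => Algebra.IsIntegral.isIntegral c,
    ⟨z, hmem Finset.subset_union_left hS, by rw [hvQ hz0, hzv]⟩, fun Q' ⟨e, he⟩ => ?_⟩
  rcases Nat.eq_zero_or_pos e with rfl | he0
  · exfalso
    have hle : ∀ y : Kbar, Q'.1 y ≤ 1 := by
      intro y
      obtain ⟨t, rfl⟩ := h y
      induction t using TensorProduct.induction_on with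
      | zero => simp
      | add t t' ht ht' => rw [map_add]; exact (Q'.1.map_add _ _).trans (max_le ht ht')
      | tmul c a =>
        rw [Algebra.TensorProduct.productMap_apply_tmul, IsScalarTower.toAlgHom_apply, IsScalarTower.toAlgHom_apply, map_mul,
          he _ (Subalgebra.algebraMap_mem _ a), pow_zero, mul_one]
        exact Q'.2.1 c
    obtain ⟨u, hu⟩ := Q'.2.2 (exp 1)
    have := hle u
    rw [hu, ← exp_zero, exp_le_exp] at this
    omega
  · by_contra hne
    have h1 : Q'.1 w ≤ exp ((Finsupp.single Q ((2 * FunFld.genus kbar Kbar + 1 : ℕ) : ℤ)) Q') := hw Q'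
    rw [Finsupp.single_eq_of_ne hne, exp_zero, he w (hmem Finset.subset_union_right hS'), hvQ hw0, hwv, neg_neg,
      pow_le_one_iff he0.ne', ← exp_zero, exp_le_exp] at h1
    omega

/-- Every divisor of `K̄ = k̄ ⊗_k K`, for a geometric function field of one variable `K/k`, is defined
over a finite extension `k'` of `k`; stated for a single place `Q` of `K̄/k̄`: for some finite `k' ⊆
k̄`, the field `K' = k'K ⊆ K̄` contains a local parameter at `Q` and `Q` is the only place of `K̄`
above its restriction to `K'` (so `Q` is the conorm of the point `Q ∩ K'`). -/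
theorem result (k kbar : Type u) (K Kbar : Type v) [Field k] [Field kbar] [Field K] [Field Kbar]
    [Algebra k kbar] [IsAlgClosure k kbar] [Algebra k K] [Algebra K Kbar] [Algebra kbar Kbar] [Algebra k Kbar]
    [IsScalarTower k kbar Kbar] [IsScalarTower k K Kbar]
    (h : Function.Bijective (Algebra.TensorProduct.productMap
      (IsScalarTower.toAlgHom k kbar Kbar) (IsScalarTower.toAlgHom k K Kbar)))
    (hK : FunFld.IsFunctionField k K) (hg : FunFld.IsGeometric k K) (Q : FunFld.Place kbar Kbar) :
    ∃ k' : IntermediateField k kbar, FiniteDimensional k k' ∧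
      (∃ z ∈ Algebra.adjoin K (Set.range fun c : k' => algebraMap kbar Kbar c), Q.1 z = WithZero.exp (-1)) ∧
      ∀ Q' : FunFld.Place kbar Kbar,
        (∃ e : ℕ, ∀ z ∈ Algebra.adjoin K (Set.range fun c : k' => algebraMap kbar Kbar c), Q'.1 z = Q.1 z ^ e) → Q' = Q := by
  exact main h.2 hK Q

end Groth.Agent.S12593
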