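import Groth.Statements.S12595
import Groth.Agent.FunFldLib.Orders

set_option autoImplicit false
open FunFld

namespace Groth.Agent.S12595

/-- Over an algebraically closed constant field, let `φ` be a birational projective map of the function
field `K` (the ratios `φ i / φ 0` generate `K`), `τ` a `k`-endomorphism of `K` and `H` a total Hasse
derivative. Then the first `τ`-order of `φ` is positive — the column `φ` of `0`-th Hasse derivatives
lies in the `K`-span of the leading column `τ(φ)` — exactly when `τ` is the identity. -/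
theorem result
    (k K : Type*) [Field k] [IsAlgClosed k] [Field K] [Algebra k K]
    (hK : FunFld.IsFunctionField k K) {n : ℕ} (φ : Fin (n + 1) → K) (h0 : φ 0 ≠ 0)
    (hbir : IntermediateField.adjoin k (Set.range fun i => φ i / φ 0) = ⊤)
    (τ : K →ₐ[k] K) (s : K) (H : K →ₐ[k] PowerSeries K) (hH : LocRes.IsHasseFamily s H) :
    ¬ FunFld.IsJump K (FunFld.hcol τ H φ) 1 ↔ τ = AlgHom.id k K := by
  have hc1 : hcol τ H φ 1 = φ := funext fun i => FunFldLib.hasseD_zero hH (φ i)
  have hset : hcol τ H φ '' Set.Iio 1 = {fun i => τ (φ i)} := by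
    ext v; simp [hcol, eq_comm]
  rw [IsJump, not_not, hset, hc1, Submodule.mem_span_singleton]
  constructor
  · rintro ⟨a, ha⟩
    have hφi : ∀ i, a * τ (φ i) = φ i := fun i => congrFun ha i
    have ha0 : a ≠ 0 := fun h => h0 (by rw [← hφi 0, h, zero_mul])
    have hfix : ∀ i, τ (φ i / φ 0) = φ i / φ 0 := fun i => by
      rw [map_div₀]
      conv_rhs => rw [← hφi i, ← hφi 0, mul_div_mul_left _ _ ha0]
    refine AlgHom.ext fun y => ?_
    have hy : y ∈ IntermediateField.adjoin k (Set.range fun i => φ i / φ 0) := hbir ▸ IntermediateField.mem_top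
    rw [AlgHom.id_apply]
    induction hy using IntermediateField.adjoin_induction with
    | mem x hx => obtain ⟨i, rfl⟩ := hx; exact hfix i
    | algebraMap c => exact τ.commutes c
    | add x y _ _ hx hy => rw [map_add, hx, hy]
    | inv x _ hx => rw [map_inv₀, hx]
    | mul x y _ _ hx hy => rw [map_mul, hx, hy]
  · rintro rfl
    exact ⟨1, by simp⟩

end Groth.Agent.S12595
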