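import Groth.Statements.S12596
import Groth.Agent.FunFldLib.Orders
import Mathlib.LinearAlgebra.Matrix.NonsingularInverse

set_option autoImplicit false
open FunFld

namespace Groth.Agent.S12596

/-- Over an algebraically closed constant field, replacing a projective map `φ` by `Aφ` for an
invertible matrix `A` over `k` does not change the `τ`-order sequence, and multiplies every
generalized Wronskian determinant `det [τ(φ) | D^(I₁) φ | ⋯ | D^(Iₙ) φ]` (Hasse derivatives taken
with `H`) by `det A`. -/
theorem result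
    (k K : Type*) [Field k] [IsAlgClosed k] [Field K] [Algebra k K]
    (hK : FunFld.IsFunctionField k K) {n : ℕ} (φ : Fin (n + 1) → K) (hφ : LinearIndependent k φ)
    (τ : K →ₐ[k] K) (s : K) (H : K →ₐ[k] PowerSeries K) (hH : LocRes.IsHasseFamily s H)
    (A : Matrix (Fin (n + 1)) (Fin (n + 1)) k) (hA : A.det ≠ 0)
    (φ' : Fin (n + 1) → K) (hφ' : ∀ i, φ' i = ∑ j, A i j • φ j) :
    (∀ J : Fin n → ℕ, FunFld.IsOrders K (FunFld.hcol τ H φ') J ↔ FunFld.IsOrders K (FunFld.hcol τ H φ) J) ∧
    ∀ I : Fin n → ℕ, (FunFld.wrMat τ H φ' I).det = algebraMap k K A.det * (FunFld.wrMat τ H φ I).det := by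
  set AK : Matrix (Fin (n + 1)) (Fin (n + 1)) K := A.map (algebraMap k K)
  have hdet : AK.det = algebraMap k K A.det := (RingHom.map_det (algebraMap k K) A).symm
  have hinj : Function.Injective AK.mulVecLin := by
    have := Matrix.mulVec_injective_iff_isUnit.2 ((Matrix.isUnit_iff_isUnit_det AK).2 (isUnit_iff_ne_zero.2 (by
      rw [hdet, map_ne_zero]; exact hA)))
    exact this
  have hc : hcol τ H φ' = fun j => AK.mulVecLin (hcol τ H φ j) := by
    funext j i
    rw [Matrix.mulVecLin_apply, Matrix.mulVec, dotProduct]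
    rcases j with _ | j
    · simp only [hcol, hφ', map_sum, map_smul]
      simp only [AK, Matrix.map_apply, Algebra.smul_def]
    · simp only [hcol, hφ', FunFldLib.hasseD_sum, FunFldLib.hasseD_smul]
      simp only [AK, Matrix.map_apply, Algebra.smul_def]
  refine ⟨fun J => FunFldLib.isOrders_congr (fun j => by rw [hc]; exact FunFldLib.isJump_congr AK.mulVecLin hinj _ j) J,
    fun I => ?_⟩
  have hM : wrMat τ H φ' I = AK * wrMat τ H φ I := by
    ext i c
    rw [FunFldLib.wrMat_eq, hc, Matrix.mul_apply]
    simp only [Matrix.mulVecLin_apply, Matrix.mulVec, dotProduct, FunFldLib.wrMat_eq]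
  rw [hM, Matrix.det_mul, hdet]

end Groth.Agent.S12596
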