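import Groth.Statements.S12597
import Groth.Agent.FunFldLib.Orders

set_option autoImplicit false
open FunFld

namespace Groth.Agent.S12597

/-- Over an algebraically closed constant field, multiplying a projective map `φ = (φ₀, …, φₙ)` by a
nonzero function `y` does not change its `τ`-order sequence `J`, and multiplies the Wronskian `det
[τ(φ) | D^(j₁) φ | ⋯ | D^(jₙ) φ]` taken at that sequence by `τ(y) yⁿ`. -/
theorem result
    (k K : Type*) [Field k] [IsAlgClosed k] [Field K] [Algebra k K]
    (hK : FunFld.IsFunctionField k K) {n : ℕ} (φ : Fin (n + 1) → K) (hφ : LinearIndependent k φ)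
    (τ : K →ₐ[k] K) (s : K) (H : K →ₐ[k] PowerSeries K) (hH : LocRes.IsHasseFamily s H) (y : K) (hy : y ≠ 0) :
    (∀ J : Fin n → ℕ, FunFld.IsOrders K (FunFld.hcol τ H (y • φ)) J ↔ FunFld.IsOrders K (FunFld.hcol τ H φ) J) ∧
    ∀ J : Fin n → ℕ, FunFld.IsOrders K (FunFld.hcol τ H φ) J →
      (FunFld.wrMat τ H (y • φ) J).det = τ y * y ^ n * (FunFld.wrMat τ H φ J).det := by
  classical
  let a : ℕ → K := fun j => if j = 0 then τ y else y
  have ha : ∀ j, a j ≠ 0 := fun j => by
    simp only [a]; split_ifs
    · exact (map_ne_zero_iff _ τ.toRingHom.injective).2 hy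
    · exact hy
  have h : ∀ j, hcol τ H (y • φ) j - a j • hcol τ H φ j ∈ Submodule.span K (hcol τ H φ '' Set.Iio j) := by
    intro j
    rcases j with _ | j
    · convert Submodule.zero_mem _
      funext i
      simp [hcol, a, map_mul]
    · have he : hcol τ H (y • φ) (j + 1) = ∑ p ∈ Finset.HasAntidiagonal.antidiagonal j,
          LocRes.hasseD H p.1 y • hcol τ H φ (p.2 + 1) := by
        funext i
        simp only [hcol, Finset.sum_apply, Pi.smul_apply, smul_eq_mul, FunFldLib.hasseD_mul]
      rw [he, ← Finset.add_sum_erase _ _ (show ((0, j) : ℕ × ℕ) ∈ Finset.HasAntidiagonal.antidiagonal j by simp)]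
      simp only [FunFldLib.hasseD_zero hH, a, Nat.succ_ne_zero, if_false, add_sub_cancel_left]
      refine sum_mem fun p hp => Submodule.smul_mem _ _ (Submodule.subset_span ⟨p.2 + 1, ?_, rfl⟩)
      rw [Finset.mem_erase, Finset.HasAntidiagonal.mem_antidiagonal] at hp
      rcases Nat.eq_zero_or_pos p.1 with h1 | h1
      · exact absurd (Prod.ext h1 (by omega)) hp.1
      · simp only [Set.mem_Iio]; omega
  refine ⟨fun J => FunFldLib.isOrders_congr
    (FunFldLib.isJump_of_span_eq (FunFldLib.span_eq_of_triangular ha h)) J, fun J hJ => ?_⟩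
  rw [FunFldLib.det_triangular hφ h hJ]
  simp [Fin.prod_univ_succ, a]

end Groth.Agent.S12597
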