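import Groth.Statements.S12598
import Groth.Agent.FunFldLib.Orders

set_option autoImplicit false
open FunFld

namespace Groth.Agent.S12598

/-- Over an algebraically closed constant field, the `τ`-order sequence `J = (j₁, …, jₙ)` of a
projective map `φ` does not depend on the separating variable used for the Hasse derivatives, and
the Wronskians with respect to `t` and to `s` differ by the factor `(ds/dt)^(j₁ + ⋯ + jₙ)`, where
`ds/dt` is the first Hasse derivative of `s` with respect to `t`. -/
theorem result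
    (k K : Type*) [Field k] [IsAlgClosed k] [Field K] [Algebra k K]
    (hK : FunFld.IsFunctionField k K) {n : ℕ} (φ : Fin (n + 1) → K) (hφ : LinearIndependent k φ)
    (τ : K →ₐ[k] K) (s : K) (Hs : K →ₐ[k] PowerSeries K) (hHs : LocRes.IsHasseFamily s Hs)
    (t : K) (Ht : K →ₐ[k] PowerSeries K) (hHt : LocRes.IsHasseFamily t Ht) :
    (∀ J : Fin n → ℕ, FunFld.IsOrders K (FunFld.hcol τ Ht φ) J ↔ FunFld.IsOrders K (FunFld.hcol τ Hs φ) J) ∧
    ∀ J : Fin n → ℕ, FunFld.IsOrders K (FunFld.hcol τ Hs φ) J →
      (FunFld.wrMat τ Ht φ J).det =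
        LocRes.hasseD Ht 1 s ^ (∑ l, J l) * (FunFld.wrMat τ Hs φ J).det := by
  classical
  set w := Ht s - PowerSeries.C s with hw
  have hc : PowerSeries.constantCoeff w = 0 := by
    rw [hw, map_sub, hHt.2, PowerSeries.constantCoeff_C, sub_self]
  have h1 : PowerSeries.coeff 1 w = LocRes.hasseD Ht 1 s := by simp [hw, PowerSeries.coeff_C]
  have hw1 : LocRes.hasseD Ht 1 s ≠ 0 := FunFldLib.hasseD_one_ne_zero hK hHs hHt
  let a : ℕ → K := fun j => LocRes.hasseD Ht 1 s ^ (j - 1)
  have hlow : ∀ d j : ℕ, j < d → PowerSeries.coeff j (w ^ d) = 0 := fun d j hjd =>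
    PowerSeries.X_pow_dvd_iff.1 (pow_dvd_pow_of_dvd (PowerSeries.X_dvd_iff.2 hc) d) j hjd
  have hdiag : ∀ j : ℕ, PowerSeries.coeff j (w ^ j) = LocRes.hasseD Ht 1 s ^ j := fun j => by
    obtain ⟨u, hu⟩ := PowerSeries.X_dvd_iff.2 hc
    rw [← h1, hu, mul_pow, PowerSeries.coeff_succ_X_mul]
    have := PowerSeries.coeff_X_pow_mul (u ^ j) j 0
    rw [zero_add] at this
    rw [this, PowerSeries.coeff_zero_eq_constantCoeff_apply, map_pow, PowerSeries.coeff_zero_eq_constantCoeff_apply]
  have h : ∀ j, hcol τ Ht φ j - a j • hcol τ Hs φ j ∈ Submodule.span K (hcol τ Hs φ '' Set.Iio j) := by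
    intro j
    rcases j with _ | j
    · convert Submodule.zero_mem _
      funext i
      simp [hcol, a]
    · have he : hcol τ Ht φ (j + 1) = ∑ d ∈ Finset.range (j + 1), PowerSeries.coeff j (w ^ d) • hcol τ Hs φ (d + 1) := by
        funext i
        simp only [hcol, Finset.sum_apply, Pi.smul_apply, smul_eq_mul, LocRes.hasseD_apply]
        rw [FunFldLib.hasse_change hK hHs hHt, ← hw,
          PowerSeries.coeff_subst' (PowerSeries.HasSubst.of_constantCoeff_zero' hc), finsum_eq_sum_of_support_subset _ (fun d hd => ?_)]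
        · exact Finset.sum_congr rfl fun d _ => by rw [smul_eq_mul, mul_comm]
        · simp only [Function.mem_support] at hd
          simp only [Finset.coe_range, Set.mem_Iio]
          by_contra hlt
          exact hd (by rw [hlow d j (by omega), smul_zero])
      rw [he, Finset.sum_range_succ, hdiag]
      simp only [a, Nat.add_sub_cancel, add_sub_cancel_right]
      refine sum_mem fun d hd => Submodule.smul_mem _ _ (Submodule.subset_span ⟨d + 1, ?_, rfl⟩)
      have := Finset.mem_range.1 hd
      simp only [Set.mem_Iio]; omega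
  refine ⟨fun J => FunFldLib.isOrders_congr
    (FunFldLib.isJump_of_span_eq (FunFldLib.span_eq_of_triangular (fun j => pow_ne_zero _ hw1) h)) J, fun J hJ => ?_⟩
  rw [FunFldLib.det_triangular hφ h hJ]
  simp [Fin.prod_univ_succ, a, Finset.prod_pow_eq_pow_sum, Fin.sum_univ_succ]

end Groth.Agent.S12598
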