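import Groth.Statements.S12602
import Groth.Agent.FunFldLib.Orders

set_option autoImplicit false
open FunFld

namespace Groth.Agent.S12602

/-- Over an algebraically closed constant field, for a birational projective map `φ = (φ₀, …, φₙ)`, `n ≥
1`, with orders `j₁ < ⋯ < jₙ`, and `τ ≠ 1`, the `τ`-orders of `φ` are `(0, j₁, …, j_{m-1}, j_{m+1},
…, jₙ)` for some `m`: the jump indices of `[τ(φ) | D^(0) φ | D^(1) φ | ⋯]` after the leading column
are `0` and the `jₗ` with `l ≠ m`. -/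
theorem result
    (k K : Type*) [Field k] [IsAlgClosed k] [Field K] [Algebra k K]
    (hK : FunFld.IsFunctionField k K) {n : ℕ} (hn : 0 < n) (φ : Fin (n + 1) → K) (hφ : LinearIndependent k φ)
    (h0 : φ 0 ≠ 0) (hbir : IntermediateField.adjoin k (Set.range fun i => φ i / φ 0) = ⊤)
    (τ : K →ₐ[k] K) (hτ : τ ≠ AlgHom.id k K) (s : K) (H : K →ₐ[k] PowerSeries K) (hH : LocRes.IsHasseFamily s H)
    (J : Fin n → ℕ) (hJ : FunFld.IsOrders K (FunFld.hcol (AlgHom.id k K) H φ) J) :
    ∃ m : Fin n, ∀ j : ℕ,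
      FunFld.IsJump K (FunFld.hcol τ H φ) (j + 1) ↔ (j = 0 ∨ ∃ l, l ≠ m ∧ J l = j) := by
  classical
  have hcid : ∀ ρ : K →ₐ[k] K, hcol ρ H φ 1 = φ := fun ρ => funext fun i => FunFldLib.hasseD_zero hH (φ i)
  have hid0 : hcol (AlgHom.id k K) H φ 0 = φ := rfl
  have hJ1 : ∀ l, 1 ≤ J l := fun l => by
    by_contra h
    have h1 := (hJ.2 (J l)).1 ⟨l, rfl⟩
    rw [show J l = 0 by omega] at h1
    exact h1 (Submodule.subset_span ⟨0, by simp, by rw [hid0, hcid]⟩)
  obtain ⟨Jτ, hJτ⟩ := FunFldLib.exists_orders_hcol hK hφ τ hH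
  have h01 : IsJump K (hcol τ H φ) 1 := by
    by_contra hno
    have hset : hcol τ H φ '' Set.Iio 1 = {fun i => τ (φ i)} := by ext v; simp [hcol, eq_comm]
    rw [IsJump, not_not, hset, hcid, Submodule.mem_span_singleton] at hno
    obtain ⟨a, ha⟩ := hno
    have hφi : ∀ i, a * τ (φ i) = φ i := fun i => congrFun ha i
    have ha0 : a ≠ 0 := fun h => h0 (by rw [← hφi 0, h, zero_mul])
    have hfix : ∀ i, τ (φ i / φ 0) = φ i / φ 0 := fun i => by
      rw [map_div₀]
      conv_rhs => rw [← hφi i, ← hφi 0, mul_div_mul_left _ _ ha0]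
    refine hτ (AlgHom.ext fun y => ?_)
    have hy : y ∈ IntermediateField.adjoin k (Set.range fun i => φ i / φ 0) := hbir ▸ IntermediateField.mem_top
    rw [AlgHom.id_apply]
    induction hy using IntermediateField.adjoin_induction with
    | mem x hx => obtain ⟨i, rfl⟩ := hx; exact hfix i
    | algebraMap c => exact τ.commutes c
    | add x y _ _ hx hy => rw [map_add, hx, hy]
    | inv x _ hx => rw [map_inv₀, hx]
    | mul x y _ _ hx hy => rw [map_mul, hx, hy]
  obtain ⟨l0, hl0⟩ := (hJτ.2 0).2 h01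
  have hsub : ∀ j, 1 ≤ j → IsJump K (hcol τ H φ) (j + 1) → IsJump K (hcol (AlgHom.id k K) H φ) (j + 1) := by
    intro j hj h hmem
    refine h ?_
    have hle : Submodule.span K (hcol (AlgHom.id k K) H φ '' Set.Iio (j + 1)) ≤
        Submodule.span K (hcol τ H φ '' Set.Iio (j + 1)) := by
      rw [Submodule.span_le]
      rintro _ ⟨i, hi, rfl⟩
      rcases i with _ | i
      · exact Submodule.subset_span ⟨1, by simp only [Set.mem_Iio]; omega, by rw [hid0, hcid]⟩
      · exact Submodule.subset_span ⟨i + 1, hi, rfl⟩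
    exact hle hmem
  let A : Finset ℕ := (Finset.univ.image Jτ).erase 0
  let B : Finset ℕ := Finset.univ.image J
  have hAB : A ⊆ B := fun j hj => by
    rw [Finset.mem_erase, Finset.mem_image] at hj
    obtain ⟨hj0, l, -, rfl⟩ := hj
    obtain ⟨l', hl'⟩ := (hJ.2 _).2 (hsub _ (by omega) ((hJτ.2 _).1 ⟨l, rfl⟩))
    exact Finset.mem_image.2 ⟨l', Finset.mem_univ _, hl'⟩
  have hA : A.card = n - 1 := by
    rw [Finset.card_erase_of_mem (Finset.mem_image.2 ⟨l0, Finset.mem_univ _, hl0⟩),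
      Finset.card_image_of_injective _ hJτ.1.injective, Finset.card_univ, Fintype.card_fin]
  have hB : B.card = n := by
    rw [Finset.card_image_of_injective _ hJ.1.injective, Finset.card_univ, Fintype.card_fin]
  obtain ⟨x, hx⟩ := Finset.card_eq_one.1 (show (B \ A).card = 1 by rw [Finset.card_sdiff_of_subset hAB]; omega)
  obtain ⟨m, -, hm⟩ := Finset.mem_image.1 (Finset.mem_sdiff.1 (hx ▸ Finset.mem_singleton_self x : x ∈ B \ A)).1
  refine ⟨m, fun j => ?_⟩
  rw [← hJτ.2 j]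
  constructor
  · rintro ⟨l, rfl⟩
    by_cases h : Jτ l = 0
    · exact Or.inl h
    have hjA : Jτ l ∈ A := Finset.mem_erase.2 ⟨h, Finset.mem_image.2 ⟨l, Finset.mem_univ _, rfl⟩⟩
    obtain ⟨l', -, hl'⟩ := Finset.mem_image.1 (hAB hjA)
    refine Or.inr ⟨l', fun he => ?_, hl'⟩
    have : x ∈ B \ A := hx ▸ Finset.mem_singleton_self x
    rw [← hm, ← he, hl'] at this
    exact (Finset.mem_sdiff.1 this).2 hjA
  · rintro (rfl | ⟨l, hl, rfl⟩)
    · exact ⟨l0, hl0⟩
    · by_contra hno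
      have : J l ∈ B \ A := Finset.mem_sdiff.2 ⟨Finset.mem_image.2 ⟨l, Finset.mem_univ _, rfl⟩, fun h => by
        obtain ⟨-, h2⟩ := Finset.mem_erase.1 h
        obtain ⟨l', -, hl'⟩ := Finset.mem_image.1 h2
        exact hno ⟨l', hl'⟩⟩
      rw [hx, Finset.mem_singleton, ← hm] at this
      exact hl (hJ.1.injective this)

end Groth.Agent.S12602
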