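import Groth.Statements.S12607
import Groth.Agent.FunFldLib.WrCore

set_option autoImplicit false
open FunFld

namespace Groth.Agent.S12607

/-- Over an algebraically closed constant field, let `φ = (φ₀, …, φₙ)` be an effective projective map
normalized at the place `P`, `t` a local parameter at `P` and `j'₁ < ⋯ < j'ₙ` the orders of `φ` at
`P`, `j'₀ = 0`. Then the span of `φ` has a basis `φ'₀, …, φ'ₙ` with `φ'ₗ = t^(j'ₗ) · (1 + higher
order terms)` at `P`; in particular `j` is one of the `j'ₗ` exactly when some function in the span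
of `φ` has order `j` at `P`. -/
theorem result
    (k K : Type*) [Field k] [IsAlgClosed k] [Field K] [Algebra k K]
    (hK : FunFld.IsFunctionField k K) (P : FunFld.Place k K) {n : ℕ} (φ : Fin (n + 1) → K) (hφ : LinearIndependent k φ)
    (heff : (1 : K) ∈ Submodule.span k (Set.range φ)) (hnorm : ∀ i, P.1 (φ i) ≤ 1)
    (t : K) (ht : P.1 t = WithZero.exp (-1))
    (Ht : K →ₐ[k] PowerSeries K) (hHt : LocRes.IsHasseFamily t Ht)
    (J' : Fin n → ℕ) (hJ' : FunFld.IsOrders (IsLocalRing.ResidueField P.O) (FunFld.hcolAt P Ht φ) J') :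
    (∃ φ' : Fin (n + 1) → K,
      Submodule.span k (Set.range φ') = Submodule.span k (Set.range φ) ∧
      P.1 (φ' 0) = 1 ∧ FunFld.evalP P (φ' 0) = 1 ∧
      ∀ l : Fin n, P.1 (φ' l.succ) = WithZero.exp (-(J' l : ℤ)) ∧
        FunFld.evalP P (φ' l.succ / t ^ J' l) = 1) ∧
    ∀ j : ℕ, (j = 0 ∨ j ∈ Set.range J') ↔
      ∃ f ∈ Submodule.span k (Set.range φ), P.1 f = WithZero.exp (-(j : ℤ)) := by
  obtain ⟨hJ1, f, A, hf0, hf, -, hspan, -, -⟩ := FunFldLib.exists_adapted hK hφ heff hnorm ht hHt hJ'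
  refine ⟨⟨f, hspan, by rw [hf0, map_one], ?_, fun l => ?_⟩, fun j => ?_⟩
  · rw [hf0, ← map_one (algebraMap k K), FunFldLib.evalP_algebraMap, map_one]
  · have hq : P.1 (f l.succ / t ^ J' l) = 1 := by
      rw [show f l.succ / t ^ J' l = 1 + (f l.succ / t ^ J' l - 1) by ring]
      exact FunFldLib.val_one_add_of_lt_one P (hf l)
    refine ⟨?_, ?_⟩
    · rw [map_div₀, FunFldLib.val_param_pow ht, div_eq_one_iff_eq WithZero.exp_ne_zero] at hq
      exact hq
    · rw [FunFldLib.evalP_eq_const (c := (1 : k)) (by rw [map_one]; exact hf l), map_one]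
  · rcases Nat.eq_zero_or_pos j with rfl | hj
    · refine iff_of_true (Or.inl rfl) ⟨1, heff, by simp⟩
    rw [or_iff_right hj.ne', hJ'.2 j, FunFldLib.hcolAt_jump_iff hK ht hHt hnorm]
    simp [show 1 ≤ j from hj]

end Groth.Agent.S12607
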