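import Groth.Statements.S12610
import Groth.Agent.FunFldLib.WDiv

set_option autoImplicit false
open FunFld

namespace Groth.Agent.S12610

/-- Over an algebraically closed constant field, for a birational projective map `φ`, a `k`-endomorphism
`τ ≠ 1` and a place `P` fixed by `τ`, the place `P` is a Weierstrass point of `φ` with respect to
`τ`: the Weierstrass divisor `W(φ, τ) = [w_s(φ, τ)] + [τ(φ)] + n[φ] + j(φ, τ)[ds]` has positive
coefficient at `P` (the divisor of `ds` read through a family of Laurent expansions). -/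
theorem result
    (k K : Type*) [Field k] [IsAlgClosed k] [Field K] [Algebra k K]
    (hK : FunFld.IsFunctionField k K) {n : ℕ} (φ : Fin (n + 1) → K) (hφ : LinearIndependent k φ)
    (h0 : φ 0 ≠ 0) (hbir : IntermediateField.adjoin k (Set.range fun i => φ i / φ 0) = ⊤)
    (τ : K →ₐ[k] K) (hτ : τ ≠ AlgHom.id k K) (P : FunFld.Place k K) (hP : FunFld.IsFixedPt τ P)
    (s : K) (H : K →ₐ[k] PowerSeries K) (hH : LocRes.IsHasseFamily s H)
    (J : Fin n → ℕ) (hJ : FunFld.IsOrders K (FunFld.hcol τ H φ) J)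
    (Φ : FunFld.Place k K → (K →ₐ[k] LaurentSeries k))
    (hΦ : ∀ P : FunFld.Place k K, LocRes.IsExpansionAt P.1 (Φ P)) :
    0 < FunFld.wDiv τ H Φ s φ J P := by
  classical
  rw [FunFldLib.wDiv_eq hK τ hH φ J hΦ]
  have hn : 0 < n := by
    by_contra hn
    obtain rfl : n = 0 := by omega
    obtain ⟨x, hx, -⟩ := hK.1
    have hr : (Set.range fun i => φ i / φ 0) ⊆ Set.range (algebraMap k K) := by
      rintro _ ⟨i, rfl⟩
      exact ⟨1, by simp [Fin.fin_one_eq_zero i, h0]⟩
    have hx' : x ∈ (⊥ : IntermediateField k K) := by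
      have h : IntermediateField.adjoin k (Set.range fun i => φ i / φ 0) ≤ ⊥ := IntermediateField.adjoin_le_iff.2 fun z hz =>
        IntermediateField.mem_bot.2 (hr hz)
      rw [hbir] at h
      exact h IntermediateField.mem_top
    obtain ⟨c, rfl⟩ := IntermediateField.mem_bot.1 hx'
    exact hx (isAlgebraic_algebraMap c)
  obtain ⟨y, t, Ht, J', hHt, hy, ht, heff, hnorm, hli, hord, hJ', he⟩ := FunFldLib.exists_local hK τ hφ hH hJ P
  rw [he]
  refine lt_of_lt_of_le ?_ (FunFldLib.le_wD hK τ hli heff hnorm ht hHt hord hJ' hP).1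
  obtain ⟨J0, hJ0⟩ := FunFldLib.exists_orders_hcol hK hli (AlgHom.id k K) hHt
  have hle := FunFldLib.orders_le_at hK hli heff hnorm ht hHt hJ0 hJ'
  have h1 : FunFld.IsJump K (hcol τ Ht (y • φ)) 1 := by
    intro hmem
    have hset : hcol τ Ht (y • φ) '' Set.Iio 1 = {fun i => τ ((y • φ) i)} := by ext v; simp [hcol, eq_comm]
    have hc1 : hcol τ Ht (y • φ) 1 = y • φ := funext fun i => FunFldLib.hasseD_zero hHt _
    rw [hset, hc1, Submodule.mem_span_singleton] at hmem
    obtain ⟨a, ha⟩ := hmem
    have hφi : ∀ i, a * τ (y * φ i) = y * φ i := fun i => congrFun ha i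
    have ha0 : a ≠ 0 := fun h => mul_ne_zero hy h0 (by rw [← hφi 0, h, zero_mul])
    have hfix : ∀ i, τ (φ i / φ 0) = φ i / φ 0 := fun i => by
      rw [← mul_div_mul_left (φ i) (φ 0) hy, map_div₀]
      conv_rhs => rw [← hφi i, ← hφi 0, mul_div_mul_left _ _ ha0]
    refine hτ (AlgHom.ext fun z => ?_)
    have hz : z ∈ IntermediateField.adjoin k (Set.range fun i => φ i / φ 0) := hbir ▸ IntermediateField.mem_top
    rw [AlgHom.id_apply]
    induction hz using IntermediateField.adjoin_induction with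
    | mem x hx => obtain ⟨i, rfl⟩ := hx; exact hfix i
    | algebraMap c => exact τ.commutes c
    | add x y _ _ hx hy => rw [map_add, hx, hy]
    | inv x _ hx => rw [map_inv₀, hx]
    | mul x y _ _ hx hy => rw [map_mul, hx, hy]
  obtain ⟨l0, hl0⟩ := (hord.2 0).2 h1
  have hpos := FunFldLib.orders_pos_id hHt hJ0
  have hJle : ∀ l, J l ≤ J0 l := fun l => by
    have hl : (l : ℕ) + 2 ≤ n + 1 := by have := l.isLt; omega
    let e : Fin ((l : ℕ) + 2) → ℕ := Fin.cases 1 fun i => FunFldLib.jidx J0 (Fin.castLE hl i.succ)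
    have hind : LinearIndependent K (hcol τ Ht (y • φ) ∘ e) := by
      have h0 := ((FunFldLib.IsOrders.linearIndependent (FunFldLib.hcol_zero_ne hli (AlgHom.id k K) Ht) hJ0).comp
        (Fin.castLE hl) (Fin.castLE_injective _))
      suffices heq : hcol τ Ht (y • φ) ∘ e = (hcol (AlgHom.id k K) Ht (y • φ) ∘ FunFldLib.jidx J0) ∘ Fin.castLE hl by
        rw [heq]; exact h0
      funext i
      induction i using Fin.cases with
      | zero => funext a; simp [e, hcol, hHt.2]
      | succ i =>
        have : Fin.castLE hl i.succ = (Fin.castLE (by omega) i : Fin n).succ := Fin.ext rfl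
        simp only [Function.comp_apply, e, Fin.cases_succ, this, FunFldLib.jidx_succ]
        rfl
    refine FunFldLib.orders_le_of_indep (FunFldLib.hcol_zero_ne hli τ Ht) hord e (fun i => ?_) hind (by simp)
    induction i using Fin.cases with
    | zero => simp [e]
    | succ i =>
      simp only [e, Fin.cases_succ]
      rw [← FunFldLib.jidx_succ J0 l]
      refine (FunFldLib.jidx_strictMono hJ0.1).monotone ?_
      rw [Fin.le_def]; simp only [Fin.val_castLE, Fin.val_succ]; omega
  have hsum : ∑ l, (J l : ℤ) < ∑ l, (J0 l : ℤ) := Finset.sum_lt_sum (fun l _ => by exact_mod_cast hJle l)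
    ⟨l0, Finset.mem_univ _, by rw [hl0]; exact_mod_cast hpos l0⟩
  have hsum2 : ∑ l, (J0 l : ℤ) ≤ ∑ l, (J' l : ℤ) := Finset.sum_le_sum fun l _ => by exact_mod_cast hle l
  rw [Finset.sum_sub_distrib]
  omega

end Groth.Agent.S12610
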