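import Groth.Statements.S12611
import Groth.Agent.FunFldLib.WStrong

set_option autoImplicit false
open FunFld

namespace Groth.Agent.S12611

/-- Over an algebraically closed constant field of characteristic `0` or greater than `deg φ`, a
birational projective map `φ = (φ₀, …, φₙ)` is classical: its orders are `(1, 2, …, n)`, and for a
`k`-endomorphism `τ ≠ 1` its `τ`-orders are `(0, 1, …, n-1)`. (The published statement has no
fixed-point hypothesis for `τ ≠ 1` and is false without one: on a smooth plane cubic in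
characteristic `0`, pulling back along multiplication by `-2` gives `τ`-orders `(0, 2)`. This row
assumes `τ` has a strong fixed point — a place whose maximal ideal `τ` maps into its square — which
is what the proof uses, through the equality criterion for Wronskian orders at such a point.) -/
theorem result
    (k K : Type*) [Field k] [IsAlgClosed k] [Field K] [Algebra k K]
    (hK : FunFld.IsFunctionField k K) {n : ℕ} (φ : Fin (n + 1) → K) (hφ : LinearIndependent k φ)
    (h0 : φ 0 ≠ 0) (hbir : IntermediateField.adjoin k (Set.range fun i => φ i / φ 0) = ⊤)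
    (hchar : ringChar k = 0 ∨ (FunFld.mapDiv k φ).deg < ringChar k)
    (τ : K →ₐ[k] K) (s : K) (H : K →ₐ[k] PowerSeries K) (hH : LocRes.IsHasseFamily s H) :
    (τ = AlgHom.id k K → FunFld.IsOrders K (FunFld.hcol τ H φ) (fun l : Fin n => (l : ℕ) + 1)) ∧
    (τ ≠ AlgHom.id k K → (∃ P : FunFld.Place k K, FunFld.IsStrongFixedPt τ P) →
      FunFld.IsOrders K (FunFld.hcol τ H φ) (fun l : Fin n => (l : ℕ))) := by
  classical
  have main : ∀ P : FunFld.Place k K, FunFld.IsFixedPt τ P → ∀ ε : ℕ, ε ≤ 1 →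
      (((∀ l : Fin n, 0 < (l : ℕ) + ε) ∨ FunFld.IsStrongFixedPt τ P)) →
      ∀ J : Fin n → ℕ, FunFld.IsOrders K (hcol τ H φ) J → ∀ l, J l ≤ (l : ℕ) + ε := by
    intro P hP ε hε hor J hJ
    obtain ⟨y, t, Ht, J', hHt, hy, ht, heff, hnorm, hli, hord, hJ', -⟩ := FunFldLib.exists_local hK τ hφ hH hJ P
    obtain ⟨hJ1, f, A, hf0, hf, -, -, hA, hAf⟩ := FunFldLib.exists_adapted hK hli heff hnorm ht hHt hJ'
    have hEexact := FunFldLib.mapDiv_exact hK.1 (y • φ) (Or.inl fun i => hli.ne_zero i)
    have hdeg : (FunFld.mapDiv k (y • φ)).deg = (FunFld.mapDiv k φ).deg := by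
      rw [FunFldLib.mapDiv_scale hK.1 φ (y • φ) (Or.inl fun i => hφ.ne_zero i) (Or.inl fun i => hli.ne_zero i) hy
        (FunFldLib.span_scale hφ (A := 1) (by rw [Matrix.det_one]; exact one_ne_zero) hy (fun i => by simp [Matrix.one_apply])),
        FunFldLib.deg_sub, FunFldLib.deg_div hK.1, sub_zero]
    have hB : ∀ r, (J' r : ℤ) ≤ (FunFld.mapDiv k φ).deg := fun r => by
      obtain ⟨g, hg, hgv⟩ := ((FunFldLib.hcolAt_jump_iff hK ht hHt hnorm _).1 ((hJ'.2 _).1 ⟨r, rfl⟩)).2
      have hg0 : g ≠ 0 := fun h => by rw [h, map_zero] at hgv; exact WithZero.exp_ne_zero hgv.symm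
      have := FunFldLib.ord_le_deg hK hEexact heff (FunFldLib.mapDiv_normalized hK.1 hli heff hnorm) hg hg0
      rw [hdeg] at this
      rw [FunFldLib.val_eq_exp P hg0, WithZero.exp_inj, neg_inj] at hgv
      omega
    have hdeg0 : 0 ≤ (FunFld.mapDiv k φ).deg := hdeg ▸ FunFldLib.deg_nonneg (hEexact.nonneg heff)
    obtain ⟨B, hBeq⟩ := Int.eq_ofNat_of_zero_le hdeg0
    rw [hBeq] at hB hchar
    have hbin := FunFldLib.binom_det_ne_zero (k := k) hJ'.1 hJ1 (B := B) (fun r => by have := hB r; omega)
      (hchar.imp id (fun h => by exact_mod_cast h)) hε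
    have hI : StrictMono fun s : Fin n => (s : ℕ) + ε := fun a b h => Nat.add_lt_add_right (show (a : ℕ) < b from h) ε
    have hval := ((FunFldLib.wr_core hK hP hf0 ht hHt hJ1 hf hI).2 hor).2 hbin
    intro l
    refine FunFldLib.orders_le (FunFldLib.hcol_zero_ne hli τ Ht) hord hI
      ((FunFldLib.det_wrMat_ne_zero_iff τ Ht (y • φ) _).1 fun h0 => ?_) l
    rw [FunFldLib.wrMat_basis_change τ Ht (y • φ) f A hAf, mul_eq_zero] at h0
    rcases h0 with h0 | h0
    · exact hA ((map_eq_zero _).1 h0)
    · rw [h0, map_zero] at hval; exact WithZero.exp_ne_zero hval.symm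
  obtain ⟨J, hJ⟩ := FunFldLib.exists_orders_hcol hK hφ τ hH
  have hge : ∀ (a : ℕ) (ha : a < n), a ≤ J ⟨a, ha⟩ := by
    intro a
    induction a with
    | zero => exact fun _ => Nat.zero_le _
    | succ a ih => intro ha; have := hJ.1 (show (⟨a, by omega⟩ : Fin n) < ⟨a + 1, ha⟩ by simp); have := ih (by omega); omega
  refine ⟨fun hid => ?_, fun hne => ?_⟩
  · subst hid
    obtain ⟨P, -⟩ := FunFldLib.exists_place_integral hK (fun _ : Fin 1 => (1 : K))
    suffices h : J = fun l : Fin n => (l : ℕ) + 1 by rwa [← h]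
    funext l
    refine le_antisymm (main P (FunFldLib.isFixedPt_id P) 1 le_rfl (Or.inl fun l => Nat.succ_pos _) J hJ l) ?_
    have hpos := FunFldLib.orders_pos_id hH hJ
    have : ∀ (a : ℕ) (ha : a < n), a + 1 ≤ J ⟨a, ha⟩ := by
      intro a
      induction a with
      | zero => exact fun _ => hpos _
      | succ a ih => intro ha; have := hJ.1 (show (⟨a, by omega⟩ : Fin n) < ⟨a + 1, ha⟩ by simp); have := ih (by omega); omega
    exact this l l.isLt
  · rintro ⟨P, hP⟩
    suffices h : J = fun l : Fin n => (l : ℕ) by rwa [← h]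
    funext l
    refine le_antisymm ?_ (hge l l.isLt)
    simpa using main P (FunFldLib.isFixedPt_of_strong hP) 0 zero_le_one (Or.inr hP) J hJ l

end Groth.Agent.S12611
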