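import Groth.Statements.S12613
import Groth.Agent.FunFldLib.Adjoint
open Groth.Agent.FunFldLib MvPolynomial WithZero

set_option autoImplicit false
open FunFld

namespace Groth.Agent.S12613

/-- Over an algebraically closed constant field, for a birational plane map `φ = (1 : x : y)` of degree
`e` with irreducible relation `f̂(x, y) = 0`, the adjoint divisor `Δ(φ) = (e - 3)[φ] - [dx/f̂_y]`
has nonnegative coefficient at every place `Q`, and the coefficient is `0` exactly when `φ` is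
nonsingular at `Q`. The order of `dx/f̂_y` at `Q` is read through a Laurent expansion at `Q`,
through which that differential is assumed nonzero. -/
theorem result
    (k K : Type*) [Field k] [IsAlgClosed k] [Field K] [Algebra k K]
    (hK : FunFld.IsFunctionField k K) (x y : K) (hxy : IntermediateField.adjoin k ({x, y} : Set K) = ⊤)
    (f : MvPolynomial (Fin 2) k) (hf : Irreducible f) (hfxy : MvPolynomial.aeval ![x, y] f = 0)
    (Q : FunFld.Place k K) (ΦQ : K →ₐ[k] LaurentSeries k) (hΦQ : LocRes.IsExpansionAt Q.1 ΦQ)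
    (hne : LocRes.vDiff ΦQ (MvPolynomial.aeval ![x, y] (MvPolynomial.pderiv 1 f))⁻¹ x ≠ 0) :
    0 ≤ ((FunFld.mapDiv k ![(1 : K), x, y]).deg - 3) * FunFld.mapDiv k ![(1 : K), x, y] Q -
        LocRes.ordDiff ΦQ (MvPolynomial.aeval ![x, y] (MvPolynomial.pderiv 1 f))⁻¹ x ∧
    (((FunFld.mapDiv k ![(1 : K), x, y]).deg - 3) * FunFld.mapDiv k ![(1 : K), x, y] Q -
        LocRes.ordDiff ΦQ (MvPolynomial.aeval ![x, y] (MvPolynomial.pderiv 1 f))⁻¹ x = 0 ↔
      FunFld.IsNonsingularAt ![(1 : K), x, y] Q) := by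
  set A := MvPolynomial.aeval ![x, y] (MvPolynomial.pderiv 0 f) with hA
  set B := MvPolynomial.aeval ![x, y] (MvPolynomial.pderiv 1 f) with hB
  set w : LaurentSeries k := ΦQ B⁻¹ * LocRes.D k (ΦQ x) with hw
  have hvd : LocRes.vDiff ΦQ B⁻¹ x = Valued.v w := rfl
  have hod : LocRes.ordDiff ΦQ B⁻¹ x = - WithZero.log (Valued.v w) := rfl
  have hw0 : w ≠ 0 := fun h => hne (by rw [hvd, h, map_zero])
  have hB0 : B ≠ 0 := fun h => hw0 (by rw [hw, h, inv_zero, map_zero, zero_mul])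
  have hPB : ΦQ B ≠ 0 := (map_ne_zero_iff _ ΦQ.toRingHom.injective).2 hB0
  have hom : IsOm ΦQ f x y w := by
    have h1 : LocRes.D k (ΦQ x) = w * ΦQ B := by
      rw [hw, map_inv₀]; field_simp
    refine ⟨h1, ?_⟩
    have h2 := D_aeval_two ΦQ x y f
    rw [hfxy, map_zero, map_zero, ← hA, ← hB, h1] at h2
    show LocRes.D k (ΦQ y) = -(w * ΦQ A)
    apply mul_left_cancel₀ hPB
    linear_combination -h2
  obtain ⟨hker, hdeg⟩ := plane_equation hK hxy hf hfxy
  rw [← hdeg, hod]
  have hφ : (∀ i, ![(1 : K), x, y] i ≠ 0) ∨ ∃ i, ![(1 : K), x, y] i = 1 := Or.inr ⟨0, rfl⟩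
  have fin : ∀ (j : Fin 3) (v : WithZero (Multiplicative ℤ)) (a b : K), ![(1 : K), x, y] j ≠ 0 →
      (∀ i, Q.1 (![(1 : K), x, y] i) ≤ Q.1 (![(1 : K), x, y] j)) →
      Algebra.adjoin k (Set.range fun i => ![(1 : K), x, y] i / ![(1 : K), x, y] j) =
        Algebra.adjoin k ({a, b} : Set K) →
      1 ≤ v → (v = 1 ↔ ∀ z : K, Q.1 z ≤ 1 → InPt Q a b z) →
      Valued.v w * Q.1 (![(1 : K), x, y] j) ^ f.totalDegree = v * Q.1 (![(1 : K), x, y] j) ^ 3 →
      0 ≤ ((f.totalDegree : ℤ) - 3) * FunFld.mapDiv k ![(1 : K), x, y] Q - -WithZero.log (Valued.v w) ∧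
      (((f.totalDegree : ℤ) - 3) * FunFld.mapDiv k ![(1 : K), x, y] Q - -WithZero.log (Valued.v w) = 0 ↔
        FunFld.IsNonsingularAt ![(1 : K), x, y] Q) := by
    intro j v a b hj0 hj hadj h1 h2 hv
    have hns : FunFld.IsNonsingularAt ![(1 : K), x, y] Q ↔ ∀ z : K, Q.1 z ≤ 1 → InPt Q a b z :=
      forall₂_congr fun z _ => inLocRing_iff_inPt _ Q hj0 hj hadj z
    rw [chart_eq hK.1 _ hφ hj] at hv
    have hv0 : v ≠ 0 := fun h => by rw [h] at h1; exact not_lt_zero (h1.trans_lt' zero_lt_one)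
    have hw' : Valued.v w ≠ 0 := (Valuation.ne_zero_iff _).2 hw0
    have hl := congrArg WithZero.log hv
    rw [log_mul hw' (pow_ne_zero _ exp_ne_zero), log_mul hv0 (pow_ne_zero _ exp_ne_zero), log_pow, log_pow,
      log_exp, nsmul_eq_mul, nsmul_eq_mul] at hl
    have he : ((f.totalDegree : ℤ) - 3) * FunFld.mapDiv k ![(1 : K), x, y] Q - -WithZero.log (Valued.v w) =
        WithZero.log v := by push_cast at hl; linarith
    rw [he]
    refine ⟨(log_le_log one_ne_zero hv0).2 h1 |>.trans' (le_of_eq log_one.symm), ?_⟩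
    rw [hns, ← h2]
    constructor
    · intro h; rw [← exp_log hv0, h, exp_zero]
    · intro h; rw [h, log_one]
  by_cases hfin : Q.1 x ≤ 1 ∧ Q.1 y ≤ 1
  · obtain ⟨h1, h2⟩ := affine_point hK Q hΦQ hfin.1 hfin.2 hxy hfxy hker hom hw0 (Or.inr hB0)
    refine fin 0 _ x y (by simp) (fun i => by fin_cases i <;> simp [hfin.1, hfin.2]) ?_ h1 h2 (by simp)
    refine le_antisymm (Algebra.adjoin_le ?_) (Algebra.adjoin_mono ?_)
    · rintro _ ⟨i, rfl⟩
      fin_cases i
      · simp
      · simpa using Algebra.subset_adjoin (R := k) (show x ∈ ({x, y} : Set K) from Set.mem_insert _ _)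
      · simpa using Algebra.subset_adjoin (R := k) (show y ∈ ({x, y} : Set K) from Set.mem_insert_of_mem _ rfl)
    · intro z hz
      rcases hz with hz | hz
      · exact ⟨1, by simp [hz]⟩
      · exact ⟨2, by simp [Set.mem_singleton_iff.1 hz]⟩
  by_cases hyx : Q.1 y ≤ Q.1 x
  · have hx1 : 1 < Q.1 x := not_le.1 fun h => hfin ⟨h, hyx.trans h⟩
    have hx0 : x ≠ 0 := fun h => by rw [h, map_zero] at hx1; exact not_lt_zero hx1
    obtain ⟨w', h1, h2, h3⟩ := infinite_point hK hxy hf hfxy Q hΦQ hx1 hyx (Or.inr hB0) hom hw0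
    refine fin 1 _ x⁻¹ (y / x) (by simpa using hx0) (fun i => by fin_cases i <;> simp [hx1.le, hyx]) ?_ h1 h3
      (by simpa using h2)
    refine le_antisymm (Algebra.adjoin_le ?_) (Algebra.adjoin_mono ?_)
    · rintro _ ⟨i, rfl⟩
      fin_cases i
      · simpa using Algebra.subset_adjoin (R := k) (show x⁻¹ ∈ ({x⁻¹, y / x} : Set K) from Set.mem_insert _ _)
      · simp [hx0]
      · simpa using Algebra.subset_adjoin (R := k) (show y / x ∈ ({x⁻¹, y / x} : Set K) from Set.mem_insert_of_mem _ rfl)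
    · intro z hz
      rcases hz with hz | hz
      · exact ⟨0, by simp [hz]⟩
      · exact ⟨2, by simp [Set.mem_singleton_iff.1 hz]⟩
  · have hyx' : Q.1 x ≤ Q.1 y := le_of_not_ge hyx
    have hy1 : 1 < Q.1 y := not_le.1 fun h => hfin ⟨hyx'.trans h, h⟩
    have hy0 : y ≠ 0 := fun h => by rw [h, map_zero] at hy1; exact not_lt_zero hy1
    obtain ⟨w', h1, h2, h3⟩ := infinite_point hK (x := y) (y := x) (by rwa [Set.pair_comm])
      (irreducible_swapP hf) (by rw [aeval_swapP, hfxy]) Q hΦQ hy1 hyx'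
      (Or.inl (by rw [(pderiv_swapP f).1, aeval_swapP]; exact hB0)) hom.swap (neg_ne_zero.2 hw0)
    rw [totalDegree_swapP, Valuation.map_neg] at h2
    refine fin 2 _ y⁻¹ (x / y) (by simpa using hy0) (fun i => by fin_cases i <;> simp [hy1.le, hyx']) ?_ h1 h3
      (by simpa using h2)
    refine le_antisymm (Algebra.adjoin_le ?_) (Algebra.adjoin_mono ?_)
    · rintro _ ⟨i, rfl⟩
      fin_cases i
      · simpa using Algebra.subset_adjoin (R := k) (show y⁻¹ ∈ ({y⁻¹, x / y} : Set K) from Set.mem_insert _ _)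
      · simpa using Algebra.subset_adjoin (R := k) (show x / y ∈ ({y⁻¹, x / y} : Set K) from Set.mem_insert_of_mem _ rfl)
      · simp [hy0]
    · intro z hz
      rcases hz with hz | hz
      · exact ⟨0, by simp [hz]⟩
      · exact ⟨1, by simp [Set.mem_singleton_iff.1 hz]⟩

end Groth.Agent.S12613
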