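import Groth.Statements.S12616
import Groth.Agent.FunFldLib.CoordChange
import Groth.Agent.FunFldLib.DivDiffForm

set_option autoImplicit false
open FunFld

namespace Groth.Agent.S12616

open Groth.Agent.FunFldLib in
theorem mapDiv_change {k K : Type*} [Field k] [Field K] [Algebra k K] (hK : FunFld.IsFunctionField k K)
    (x y : K) (A : Matrix (Fin 3) (Fin 3) k) (hA : A.det ≠ 0)
    (u : Fin 3 → K) (hu : ∀ i, ∑ j, algebraMap k K (A i j) * u j = ![(1 : K), x, y] i) (hu0 : u 0 ≠ 0) :
    FunFld.mapDiv k ![(1 : K), u 1 / u 0, u 2 / u 0] =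
      FunFld.mapDiv k ![(1 : K), x, y] + FunFld.div k (u 0) := by
  set v : Fin 3 → K := ![(1 : K), x, y] with hv
  have hinv : ∀ i, u i = ∑ j, A⁻¹ i j • v j := fun i => by
    have h1 : A⁻¹ * A = 1 := Matrix.nonsing_inv_mul A (isUnit_iff_ne_zero.2 hA)
    calc u i = ∑ l, (A⁻¹ * A) i l • u l := by simp [h1, Matrix.one_apply]
      _ = ∑ l, ∑ j, (A⁻¹ i j * A j l) • u l := Finset.sum_congr rfl fun l _ => by
          rw [Matrix.mul_apply, Finset.sum_smul]
      _ = _ := by
          rw [Finset.sum_comm]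
          refine Finset.sum_congr rfl fun j _ => ?_
          rw [← hu j, Finset.smul_sum]
          exact Finset.sum_congr rfl fun l _ => by rw [mul_smul, Algebra.smul_def (A j l)]
  have hspan : Submodule.span k (Set.range u) = Submodule.span k (Set.range v) := by
    refine le_antisymm (Submodule.span_le.2 ?_) (Submodule.span_le.2 ?_)
    · rintro _ ⟨i, rfl⟩
      exact hinv i ▸ Submodule.sum_mem _ fun j _ => Submodule.smul_mem _ _ (Submodule.subset_span ⟨j, rfl⟩)
    · rintro _ ⟨i, rfl⟩
      rw [← hu i]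
      exact Submodule.sum_mem _ fun j _ => by
        rw [← Algebra.smul_def]; exact Submodule.smul_mem _ _ (Submodule.subset_span ⟨j, rfl⟩)
  rw [mapDiv_scale hK.1 v ![(1 : K), u 1 / u 0, u 2 / u 0] (Or.inr ⟨0, rfl⟩) (Or.inr ⟨0, rfl⟩) (inv_ne_zero hu0) ?_,
    div_inv hK.1, sub_neg_eq_add]
  rw [← hspan, Submodule.map_span, ← Set.range_comp]
  congr 2
  funext i
  fin_cases i <;> simp [hu0, div_eq_inv_mul]

/-- Over an algebraically closed constant field, the adjoint divisor `Δ(φ) = (e - 3)[φ] - [dx/f̂_y]` of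
an effective plane map `φ = (1 : x : y)` of degree `e`, with a homogeneous relation `f` of the same
degree `e` satisfying `f(1, x, y) = 0`, depends only on the equivalence class of `φ`: it is
unchanged under a change of projective coordinates `X = AX'`, with `x' = u₁/u₀`, `y' = u₂/u₀`, `u =
A⁻¹(1, x, y)ᵗ`, `f'(X') = f(AX')`. Here `dx ≠ 0`, both `f̂_y` and `f̂'_{y'}` are nonzero, and
divisors of differentials are read through a family of Laurent expansions. (The published statement
takes `f` to be the minimal relation of `x` and `y` for a plane model `K = k(x, y)`, where the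
degree of the map equals the degree of `f`; this row assumes only that `f` is homogeneous of degree
equal to the degree of the map, which is all the change-of-coordinates computation uses — when the
two degrees differ the two sides differ by a multiple of the divisor of `u₀`.) -/
theorem result
    (k K : Type*) [Field k] [IsAlgClosed k] [Field K] [Algebra k K]
    (hK : FunFld.IsFunctionField k K) (f : MvPolynomial (Fin 3) k) (e : ℕ) (hf : f.IsHomogeneous e)
    (x y : K) (hfxy : MvPolynomial.aeval ![(1 : K), x, y] f = 0)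
    (hdx : KaehlerDifferential.D k K x ≠ 0)
    (he : (FunFld.mapDiv k ![(1 : K), x, y]).deg = e)
    (A : Matrix (Fin 3) (Fin 3) k) (hA : A.det ≠ 0)
    (u : Fin 3 → K) (hu : ∀ i, ∑ j, algebraMap k K (A i j) * u j = ![(1 : K), x, y] i)
    (hu0 : u 0 ≠ 0)
    (hfy : (MvPolynomial.aeval ![(1 : K), x, y] (MvPolynomial.pderiv 2 f)) ≠ 0)
    (hfy' : (MvPolynomial.aeval ![(1 : K), u 1 / u 0, u 2 / u 0] (MvPolynomial.pderiv 2 (MvPolynomial.aeval (fun i : Fin 3 => ∑ j, MvPolynomial.C (A i j) * MvPolynomial.X j) f))) ≠ 0)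
    (Φ : FunFld.Place k K → (K →ₐ[k] LaurentSeries k))
    (hΦ : ∀ P : FunFld.Place k K, LocRes.IsExpansionAt P.1 (Φ P)) :
    ((FunFld.mapDiv k ![(1 : K), x, y]).deg - 3) • FunFld.mapDiv k ![(1 : K), x, y] -
        FunFld.divDiff Φ (MvPolynomial.aeval ![(1 : K), x, y] (MvPolynomial.pderiv 2 f))⁻¹ x =
      ((FunFld.mapDiv k ![(1 : K), u 1 / u 0, u 2 / u 0]).deg - 3) •
          FunFld.mapDiv k ![(1 : K), u 1 / u 0, u 2 / u 0] -
        FunFld.divDiff Φ (MvPolynomial.aeval ![(1 : K), u 1 / u 0, u 2 / u 0] (MvPolynomial.pderiv 2 (MvPolynomial.aeval (fun i : Fin 3 => ∑ j, MvPolynomial.C (A i j) * MvPolynomial.X j) f)))⁻¹ (u 1 / u 0) := by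
  have hc := Groth.Agent.FunFldLib.coord_change f e hf x y hfxy A u hu hu0 hfy hfy'
  set g := (MvPolynomial.aeval ![(1 : K), x, y] (MvPolynomial.pderiv 2 f)) with hg
  set g' := (MvPolynomial.aeval ![(1 : K), u 1 / u 0, u 2 / u 0] (MvPolynomial.pderiv 2
    (MvPolynomial.aeval (fun i : Fin 3 => ∑ j, MvPolynomial.C (A i j) * MvPolynomial.X j) f))) with hg'
  rw [mapDiv_change hK x y A hA u hu hu0, Groth.Agent.FunFldLib.divDiff_smul hK hΦ (inv_ne_zero hfy) hdx hc,
    Groth.Agent.FunFldLib.deg_add, Groth.Agent.FunFldLib.deg_div hK.1, add_zero, he]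
  refine Finsupp.ext fun P => ?_
  simp only [Finsupp.sub_apply, Finsupp.add_apply, Finsupp.smul_apply, smul_eq_mul,
    Groth.Agent.FunFldLib.div_apply hK.1]
  rw [Groth.Agent.FunFldLib.ord_mul P ((map_ne_zero _).2 hA) (zpow_ne_zero _ (inv_ne_zero hu0)),
    Groth.Agent.FunFldLib.ord_algebraMap, Groth.Agent.FunFldLib.ord_zpow, Groth.Agent.FunFldLib.ord_inv]
  ring

end Groth.Agent.S12616
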