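import Groth.Statements.S12617
import Groth.Agent.FunFldLib.Orders

set_option autoImplicit false
open FunFld

namespace Groth.Agent.S12617

/-- Over an algebraically closed constant field, if the effective projective map `φ = (φ₀, …, φₙ)`, `n ≥
1`, normalized at `P`, is nonsingular at `P`, then its first order at `P` is `1`. -/
theorem result
    (k K : Type*) [Field k] [IsAlgClosed k] [Field K] [Algebra k K]
    (hK : FunFld.IsFunctionField k K) (P : FunFld.Place k K) {n : ℕ} (hn : 0 < n) (φ : Fin (n + 1) → K)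
    (hφ : LinearIndependent k φ)
    (heff : (1 : K) ∈ Submodule.span k (Set.range φ)) (hnorm : ∀ i, P.1 (φ i) ≤ 1) (hns : FunFld.IsNonsingularAt φ P)
    (t : K) (ht : P.1 t = WithZero.exp (-1))
    (Ht : K →ₐ[k] PowerSeries K) (hHt : LocRes.IsHasseFamily t Ht)
    (J' : Fin n → ℕ) (hJ' : FunFld.IsOrders (IsLocalRing.ResidueField P.O) (FunFld.hcolAt P Ht φ) J') :
    J' ⟨0, hn⟩ = 1 := by
  classical
  have hf : ∃ f ∈ Submodule.span k (Set.range φ), P.1 f = WithZero.exp (-((1 : ℕ) : ℤ)) := by
    by_contra! hno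
    obtain ⟨z, hz0, hz1, hz2⟩ := FunFldLib.exists_uniformizer P
    obtain ⟨j, hj0, hjmax, u, hu, w, hw, hw1, he⟩ := hns z hz1.le
    have hmax1 : P.1 (φ j) = 1 := by
      refine le_antisymm (hnorm j) ?_
      obtain ⟨c, hc⟩ := (Submodule.mem_span_range_iff_exists_fun k).1 heff
      calc (1 : WithZero (Multiplicative ℤ)) = P.1 (∑ i, c i • φ i) := by rw [hc, map_one]
        _ ≤ P.1 (φ j) := Valuation.map_sum_le _ fun i _ => (FunFldLib.val_smul_le P _ _).trans (hjmax i)
    have hgen : Algebra.adjoin k (Set.range fun i => φ i / φ j) ≤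
        FunFldLib.congrAlg P P (WithZero.exp (-2)) (WithZero.exp (-2)) (by rw [← WithZero.exp_zero, WithZero.exp_le_exp]; omega)
          (by rw [← WithZero.exp_zero, WithZero.exp_le_exp]; omega) := by
      refine Algebra.adjoin_le ?_
      rintro _ ⟨i, rfl⟩
      obtain ⟨c, hc⟩ := FunFldLib.exists_const hK P (y := φ i / φ j) (by
        rw [map_div₀, hmax1, div_one]; exact hnorm i)
      have hle : P.1 (φ i / φ j - algebraMap k K c) ≤ WithZero.exp (-2) := by
        rw [show φ i / φ j - algebraMap k K c = (φ i - c • φ j) / φ j by rw [Algebra.smul_def]; field_simp,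
          map_div₀, hmax1, div_one]
        have hlt : P.1 (φ i - c • φ j) < 1 := by
          rw [show φ i - c • φ j = (φ i / φ j - algebraMap k K c) * φ j by rw [Algebra.smul_def]; field_simp, map_mul, hmax1,
            mul_one]
          exact hc
        rcases eq_or_ne (φ i - c • φ j) 0 with h | h
        · rw [h]; simp
        rw [FunFldLib.val_le_exp_iff P h]
        have h1 := (FunFldLib.val_lt_one_iff P h).1 hlt
        by_contra hlt2
        refine hno (φ i - c • φ j) (sub_mem (Submodule.subset_span ⟨i, rfl⟩) (Submodule.smul_mem _ _ (Submodule.subset_span ⟨j, rfl⟩))) ?_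
        rw [FunFldLib.val_eq_exp P h]
        congr 1
        omega
      exact ⟨c, hle, hle⟩
    obtain ⟨cu, hcu, -⟩ := hgen hu
    obtain ⟨cw, hcw, -⟩ := hgen hw
    have hz : P.1 z = WithZero.exp (-1) := by rw [FunFldLib.val_eq_exp P hz0, hz2]
    have hzu : P.1 u = WithZero.exp (-1) := by rw [← he, map_mul, hz, hw1, mul_one]
    have hcu0 : cu = 0 := FunFldLib.const_eq_zero (P := P) (by
      rw [show algebraMap k K cu = u - (u - algebraMap k K cu) by ring]
      refine (Valuation.map_sub _ _ _).trans_lt (max_lt (hzu ▸ FunFldLib.exp_neg_one_lt_one) (hcu.trans_lt ?_))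
      rw [← WithZero.exp_zero, WithZero.exp_lt_exp]; omega)
    rw [hcu0, map_zero, sub_zero, hzu, WithZero.exp_le_exp] at hcu
    omega
  have h1 := (FunFldLib.hcolAt_jump_iff hK ht hHt hnorm 1).2 ⟨le_rfl, hf⟩
  obtain ⟨l, hl⟩ := (hJ'.2 1).2 h1
  have hpos := (hJ'.2 (J' ⟨0, hn⟩)).1 ⟨_, rfl⟩
  have h2 := ((FunFldLib.hcolAt_jump_iff hK ht hHt hnorm _).1 hpos).1
  have h3 : J' ⟨0, hn⟩ ≤ J' l := hJ'.1.monotone (by simp [Fin.le_def])
  omega

end Groth.Agent.S12617
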