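import Groth.Statements.S12621
import Groth.Agent.FunFldLib.ResAux

set_option autoImplicit false
universe u v w
open LocRes

namespace Groth.Agent.S12621

/-- For a `k`-algebra homomorphism `φ : K → F((X))` from a field into formal Laurent series over a
field, an element `f` of `K` and a nonzero integer `n`, the residue of `f^(n-1) df` read through `φ`
— the `X⁻¹`-coefficient of `φ(f)^(n-1) · (φ f)′` — vanishes, in every characteristic (also when the
characteristic divides `n`). (The published statement is for the intrinsic residue of a complete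
field with a perfect coefficient field; read through an expansion it is this identity of Laurent
series, and no property of `φ` is needed.) -/
theorem result {k : Type u} {K : Type v} {F : Type w} [CommRing k] [Field K] [Field F]
    [Algebra k K] [Algebra k F]
    (φ : K →ₐ[k] LaurentSeries F) (f : K) (n : ℤ) (hn : n ≠ 0) :
    LocRes.resExp φ (f ^ (n - 1)) f = 0 := by
  change LocRes.res F (φ (f ^ (n - 1)) * LocRes.D F (φ f)) = 0
  rw [map_zpow₀]
  rcases lt_or_gt_of_ne hn with h | h
  · obtain ⟨m, rfl⟩ : ∃ m : ℕ, n = -((m : ℤ) + 1) := ⟨(-n - 1).toNat, by omega⟩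
    rcases eq_or_ne (φ f) 0 with h0 | h0
    · rw [h0, map_zero, mul_zero, map_zero]
    · have h1 := FunFldLib.res_pow_mul_D (φ f)⁻¹ m
      rw [Derivation.leibniz_inv, smul_eq_mul] at h1
      have h2 : (φ f) ^ (-((m : ℤ) + 1) - 1) * LocRes.D F (φ f) =
          -((φ f)⁻¹ ^ m * (-(φ f)⁻¹ ^ 2 * LocRes.D F (φ f))) := by
        rw [show -((m : ℤ) + 1) - 1 = -((m + 2 : ℕ) : ℤ) by push_cast; ring, zpow_neg, zpow_natCast, ← inv_pow, pow_add]
        ring
      rw [h2, map_neg, h1, neg_zero]
  · obtain ⟨m, rfl⟩ : ∃ m : ℕ, n = (m : ℤ) + 1 := ⟨(n - 1).toNat, by omega⟩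
    rw [add_sub_cancel_right, zpow_natCast]
    exact FunFldLib.res_pow_mul_D _ m

end Groth.Agent.S12621
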