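import Groth.Statements.S12686
import Groth.Agent.SymAlgRel.BundleImm
import Groth.Agent.SymAlgRel.ToBundle

set_option autoImplicit false
universe u
open CategoryTheory CategoryTheory.Limits AlgebraicGeometry TopologicalSpace Opposite
open scoped HomogeneousIdeal
noncomputable section
open EGA2

namespace Groth.Agent.S12686

/-- Let q : X → Y be a quasi-compact morphism, L an invertible O_X-module with graded symmetric algebra
𝒮L = ⊕_{n≥0} L^{⊗n} (whose relative Proj PL, given with its charts, is identified with X by its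
structure morphism), and suppose the direct image E = q_*L is quasi-coherent, with graded symmetric
algebra 𝒜 = Sym(E) (structure map jE : E → 𝒜) and projective bundle P = P(E) = Proj(𝒜) → Y given
with its charts. Let u : 𝒜 → q_*𝒮L be the graded q-morphism which on E ⊆ 𝒜 is the inclusion of q_*L
= (q_*𝒮L)_1, i.e. the adjoint of Sym(σ) for the canonical σ : q^*q_*L → L, and r = r_{L,σ} : G(σ) →
P the induced morphism on its open of definition G(σ) ⊆ PL. If L is very ample relative to q, then r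
is everywhere defined (G(σ) is all of PL) and r is an immersion. (The published statement also
asserts that q_*L is quasi-coherent and that the canonical q^*q_*L → L is surjective; this row
presupposes the former through the datum E = q_*L, and its first conclusion, that G(σ) is
everything, expresses the latter.) -/
theorem result {X Y P PL : Scheme.{u}} (q : X ⟶ Y) [QuasiCompact q]
    (L : X.Modules) (hL : PicF.IsInvertible L) (hLq : Coh.IsQCoh L)
    (𝒮L : RelProj.QCGrAlg X) (jL : L ⟶ 𝒮L.toModule) (hjL : RelProj.IsGrSymAlg L 𝒮L jL)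
    (pL : PL ⟶ X) (chartL : ∀ (U : X.Opens) (hU : IsAffineOpen U), (((pL ⁻¹ᵁ U : PL.Opens) : Scheme.{u}) ≅ Proj (𝒮L.deg U hU)))
    (hPL : RelProj.IsRelProj 𝒮L pL chartL)
    (hEq : Coh.IsQCoh ((Scheme.Modules.pushforward q).obj L))
    (𝒜 : RelProj.QCGrAlg Y) (jE : (Scheme.Modules.pushforward q).obj L ⟶ 𝒜.toModule)
    (h𝒜 : RelProj.IsGrSymAlg ((Scheme.Modules.pushforward q).obj L) 𝒜 jE)
    (u : RelProj.QGrHom q 𝒜 𝒮L)
    (hu : ∀ (U : Y.Opens) (x : Γ((Scheme.Modules.pushforward q).obj L, U)),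
      (u.app U).hom ((jE.app U) x) = (jL.app (q ⁻¹ᵁ U)) x)
    (p : P ⟶ Y) (chart : ∀ (U : Y.Opens) (hU : IsAffineOpen U), (((p ⁻¹ᵁ U : P.Opens) : Scheme.{u}) ≅ Proj (𝒜.deg U hU)))
    (hP : RelProj.IsRelProj 𝒜 p chart)
    (r : ((RelProj.domQ u pL chartL : PL.Opens) : Scheme.{u}) ⟶ P)
    (hr : RelProj.IsProjQMapOn u p chart pL chartL (RelProj.domQ u pL chartL) r)
    (h : RelProj.IsRelVeryAmple q L) :
    RelProj.domQ u pL chartL = ⊤ ∧ IsImmersion r := by
  obtain ⟨E, hE, 𝒯, j, hj, P', p', chart', hP', u', σ, r', hu', -, -, -, hgood⟩ :=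
    SymAlgRel.exists_of_isRelVeryAmple h hjL hLq hL hPL
  obtain ⟨a, ha, -⟩ := hj.1 𝒜.toQCAlg (σ ≫ jE)
  have haj : ∀ (U : Y.Opens) (e : Γ(E, U)), (a.hom.app (op U)).hom (SymAlgRel.tgen j e) = jE.app U (σ.app U e) :=
    fun U e => congrArg (fun f : E ⟶ 𝒜.toModule => f.app U e) ha
  have hag : RelProj.IsGradedHom a := SymAlgRel.isGradedHom_of_gen hE hj a fun U hU e => by
    rw [show (a.hom.app (op U)).hom (j.app U e) = _ from haj U e]
    exact h𝒜.2 U hU _
  have key : ∀ (U : Y.Opens) (hU : IsAffineOpen U) (V : X.Opens) (hV : V ≤ q ⁻¹ᵁ U) (f : 𝒯.presheaf.obj (op U)),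
      (u.appLE U V hV).hom ((a.hom.app (op U)).hom f) = (u'.appLE U V hV).hom f := by
    intro U hU V hV
    have he : (u.app U).hom.comp (a.hom.app (op U)).hom = (u'.app U).hom := by
      refine SymAlgRel.hom_ext_sym E hE hj.1 hU (fun r => ?_) fun m => ?_
      · show (u.app U).hom ((a.hom.app (op U)).hom ((𝒯.str.app (op U)).hom r)) = (u'.app U).hom _
        rw [show (a.hom.app (op U)).hom ((𝒯.str.app (op U)).hom r) = (𝒜.str.app (op U)).hom r from
          ConcreteCategory.congr_hom (NatTrans.congr_app a.comm (op U)) r]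
        exact (ConcreteCategory.congr_hom (u.toQHom.str_app U) r).trans
          (ConcreteCategory.congr_hom (u'.toQHom.str_app U) r).symm
      · show (u.app U).hom ((a.hom.app (op U)).hom (SymAlgRel.tgen j m)) = (u'.app U).hom (SymAlgRel.tgen j m)
        rw [haj, hu U (σ.app U m), hu' U hU m]
    exact fun f => congrArg (fun y => (𝒮L.presheaf.map (homOfLE hV).op).hom y) (DFunLike.congr_fun he f)
  refine SymAlgRel.isImmersion_of_forall u hjL hLq hL hP hPL hr fun x => ?_
  obtain ⟨_, ⟨U, hU, rfl⟩, hxU, -⟩ :=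
    Y.isBasis_affineOpens.exists_subset_of_mem_open (Set.mem_univ (q x)) isOpen_univ
  obtain ⟨d, hd, f, hf, hx, hA, hF⟩ := hgood x U hU hxU
  let f' := (a.hom.app (op U)).hom f
  have hxs : SymAlgRel.xs u U d f' = SymAlgRel.xs u' U d f := SetLike.ext fun y =>
    (SymAlgRel.mem_xs u).trans (Iff.trans ⟨fun ⟨V, hV, hle, hy, hg⟩ => ⟨V, hV, hle, hy, key U hU V hle f ▸ hg⟩,
      fun ⟨V, hV, hle, hy, hg⟩ => ⟨V, hV, hle, hy, (key U hU V hle f).symm ▸ hg⟩⟩ (SymAlgRel.mem_xs u').symm)
  refine ⟨U, hU, d, hd, f', hag U hU d f hf, hxs.ge hx, hxs.symm ▸ hA, ?_⟩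
  have key' : ∀ (T : X.Opens) (hT : T ≤ q ⁻¹ᵁ U), SymAlgRel.Frac u' U hU T hT d f → SymAlgRel.Frac u U hU T hT d f' :=
    fun T hT hF t => by
      obtain ⟨m, hm, b, hb, hmb⟩ := hF t
      exact ⟨m, hm, (a.hom.app (op U)).hom b, hag U hU _ b hb, by rw [key U hU T hT f, key U hU T hT b]; exact hmb⟩
  exact key' _ _ (by
    have : ∀ (T : X.Opens) (hT : T ≤ q ⁻¹ᵁ U), T = SymAlgRel.xs u' U d f → SymAlgRel.Frac u' U hU T hT d f := by
      rintro T hT rfl; exact hF
    exact this _ _ hxs)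

end Groth.Agent.S12686
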