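import Groth.Statements.S12689
import Groth.Agent.SymAlgRel.FTSubImm

set_option autoImplicit false
universe u
open CategoryTheory CategoryTheory.Limits AlgebraicGeometry TopologicalSpace Opposite
open scoped HomogeneousIdeal
noncomputable section
open EGA2

namespace Groth.Agent.S12689

/-- Let Y be a scheme which is either quasi-compact and separated or has Noetherian underlying space, q
: X → Y a morphism of finite type, L an invertible O_X-module with graded symmetric algebra 𝒮L =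
⊕_{n≥0} L^{⊗n} (whose relative Proj PL, given with its charts, is identified with X by its structure
morphism), F a quasi-coherent O_Y-module with graded symmetric algebra 𝒯 = Sym(F) (structure map jF)
and projective bundle P = P(F) = Proj(𝒯) → Y given with its charts, u : 𝒯 → q_*𝒮L a graded
q-morphism — adjoint to Sym(φ) for the homomorphism φ : q^*F → L it determines in degree one — with
φ surjective (every point of X has an affine neighbourhood V over which the image of a single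
section of F generates L), and r = r_{L,φ} : G(φ) → P the induced morphism on its open of definition
G(φ) ⊆ PL (which is all of PL, φ being surjective). Then r is an immersion if and only if there are
a quasi-coherent O_Y-module E of finite type with an injective map ι : E → F, its graded symmetric
algebra 𝒯' = Sym(E) (structure map jE) and the graded q-morphism u' : 𝒯' → q_*𝒮L obtained from u
through Sym(ι), such that the corresponding φ' : q^*E → L is surjective (in the same stalkwise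
sense) and, for the projective bundle P(E) = Proj(𝒯') → Y (with its charts) and the induced r' =
r_{L,φ'} : G(φ') → P(E), r' is everywhere defined and an immersion. -/
theorem result {X Y P PL : Scheme.{u}}
    (hYs : (CompactSpace Y ∧ Y.IsSeparated) ∨ NoetherianSpace Y) (q : X ⟶ Y) [QuasiCompact q] [LocallyOfFiniteType q]
    (L : X.Modules) (hL : PicF.IsInvertible L) (hLq : Coh.IsQCoh L)
    (𝒮L : RelProj.QCGrAlg X) (jL : L ⟶ 𝒮L.toModule) (hjL : RelProj.IsGrSymAlg L 𝒮L jL)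
    (pL : PL ⟶ X) (chartL : ∀ (U : X.Opens) (hU : IsAffineOpen U), (((pL ⁻¹ᵁ U : PL.Opens) : Scheme.{u}) ≅ Proj (𝒮L.deg U hU)))
    (hPL : RelProj.IsRelProj 𝒮L pL chartL)
    (F : Y.Modules) (hFq : Coh.IsQCoh F) (𝒯 : RelProj.QCGrAlg Y) (jF : F ⟶ 𝒯.toModule) (h𝒯 : RelProj.IsGrSymAlg F 𝒯 jF)
    (u : RelProj.QGrHom q 𝒯 𝒮L)
    (hsurj : ∀ x : X, ∃ (U : Y.Opens) (hU : IsAffineOpen U) (e : Γ(F, U)) (V : X.Opens) (hV : IsAffineOpen V)
        (hVU : V ≤ q ⁻¹ᵁ U), x ∈ V ∧
          ((𝒮L.deg V hV 1 : AddSubgroup (𝒮L.presheaf.obj (op V))) : Set (𝒮L.presheaf.obj (op V))) ⊆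
              (Ideal.span {(u.appLE U V hVU).hom ((jF.app U) e)} : Set (𝒮L.presheaf.obj (op V))))
    (p : P ⟶ Y) (chart : ∀ (U : Y.Opens) (hU : IsAffineOpen U), (((p ⁻¹ᵁ U : P.Opens) : Scheme.{u}) ≅ Proj (𝒯.deg U hU)))
    (hP : RelProj.IsRelProj 𝒯 p chart)
    (r : ((RelProj.domQ u pL chartL : PL.Opens) : Scheme.{u}) ⟶ P)
    (hr : RelProj.IsProjQMapOn u p chart pL chartL (RelProj.domQ u pL chartL) r) :
    IsImmersion r ↔
      ∃ (E : Y.Modules) (_ : Coh.IsQCoh E) (_ : CohB1.IsFT E) (ι : E ⟶ F) (_ : ∀ U : Y.Opens, Function.Injective (ι.app U))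
        (𝒯' : RelProj.QCGrAlg Y) (jE : E ⟶ 𝒯'.toModule) (_ : RelProj.IsGrSymAlg E 𝒯' jE)
        (u' : RelProj.QGrHom q 𝒯' 𝒮L)
        (_ : ∀ (U : Y.Opens) (x : Γ(E, U)), (u'.app U).hom ((jE.app U) x) = (u.app U).hom ((jF.app U) ((ι.app U) x))),
        (∀ x : X, ∃ (U : Y.Opens) (hU : IsAffineOpen U) (e : Γ(E, U)) (V : X.Opens) (hV : IsAffineOpen V)
            (hVU : V ≤ q ⁻¹ᵁ U), x ∈ V ∧
              ((𝒮L.deg V hV 1 : AddSubgroup (𝒮L.presheaf.obj (op V))) : Set (𝒮L.presheaf.obj (op V))) ⊆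
              (Ideal.span {(u'.appLE U V hVU).hom ((jE.app U) e)} : Set (𝒮L.presheaf.obj (op V)))) ∧
        ∀ (P' : Scheme.{u}) (p' : P' ⟶ Y)
            (chart' : ∀ (U : Y.Opens) (hU : IsAffineOpen U), (((p' ⁻¹ᵁ U : P'.Opens) : Scheme.{u}) ≅ Proj (𝒯'.deg U hU)))
            (_ : RelProj.IsRelProj 𝒯' p' chart')
            (r' : ((RelProj.domQ u' pL chartL : PL.Opens) : Scheme.{u}) ⟶ P')
            (_ : RelProj.IsProjQMapOn u' p' chart' pL chartL (RelProj.domQ u' pL chartL) r'),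
          RelProj.domQ u' pL chartL = ⊤ ∧ IsImmersion r' := by
  obtain ⟨_, _⟩ := SymAlgRel.qcqs_of_or hYs
  constructor
  · intro hi
    have htop := SymAlgRel.domQ_eq_top_of_surj hL hjL hPL h𝒯 u hsurj
    have hgood : ∀ x : X, ∃ (U : Y.Opens) (hU : IsAffineOpen U) (d : ℕ) (_ : 0 < d) (f : 𝒯.presheaf.obj (op U))
        (_ : f ∈ 𝒯.deg U hU d), x ∈ SymAlgRel.xs u U d f ∧ IsAffineOpen (SymAlgRel.xs u U d f) ∧
          SymAlgRel.Frac u U hU (SymAlgRel.xs u U d f) (SymAlgRel.xs_le u U d f) d f := fun x => by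
      obtain ⟨U, hU, hxU, -⟩ := Opens.isBasis_iff_nbhd.1 Y.isBasis_affineOpens (U := ⊤) (Opens.mem_top (q x))
      obtain ⟨d, hd, f, hf, h1⟩ := SymAlgRel.exists_good_of_isImmersion u hjL hLq hL hP hPL hr htop hi x U hU hxU
      exact ⟨U, hU, d, hd, f, hf, h1⟩
    obtain ⟨E, hE, hft, ι, hι, 𝒯', jE, hj, u', hu', h1, h2⟩ := SymAlgRel.exists_ft_sub hFq h𝒯 u hgood hsurj
    exact ⟨E, hE, hft, ι, hι, 𝒯', jE, hj, u', hu', h2, fun P' p' chart' hP' r' hr' =>
      SymAlgRel.isImmersion_of_forall u' hjL hLq hL hP' hPL hr' h1⟩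
  · rintro ⟨E, hE, -, ι, -, 𝒯', jE, hj, u', hu', -, h⟩
    obtain ⟨P', p', chart', hP'⟩ := SymAlgRel.exists_isRelProj 𝒯'
    obtain ⟨r', hr', -⟩ := EGA2Misc.existsUnique_projQMapOn u' hP' hPL
    obtain ⟨htop', hi'⟩ := h P' p' chart' hP' r' hr'
    exact (SymAlgRel.isImmersion_of_forall u hjL hLq hL hP hPL hr
      (SymAlgRel.good_of_sub h𝒯 u hE hj u' (fun U _ x => ⟨_, (hu' U x).symm⟩) fun x => by
        obtain ⟨U, hU, hxU, -⟩ := Opens.isBasis_iff_nbhd.1 Y.isBasis_affineOpens (U := ⊤) (Opens.mem_top (q x))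
        obtain ⟨d, hd, f, hf, h1⟩ :=
          SymAlgRel.exists_good_of_isImmersion u' hjL hLq hL hP' hPL hr' htop' hi' x U hU hxU
        exact ⟨U, hU, d, hd, f, hf, h1⟩)).2

end Groth.Agent.S12689
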