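import Groth.Statements.S12694
import Groth.Agent.SymAlgRel.Segre
import Groth.Agent.SymAlgRel.RLmain
import Groth.Agent.ProjUPLib.AmpleTwist
import Groth.Agent.GenLocus.Extend

set_option autoImplicit false
universe u
open CategoryTheory CategoryTheory.Limits AlgebraicGeometry TopologicalSpace Opposite
open scoped HomogeneousIdeal
noncomputable section
open EGA2

namespace Groth.Agent.S12694
open Groth.Agent.QCohBase Groth.Agent.GenLocus

/-- Let f : X → Y be a quasi-compact morphism, L an invertible O_X-module with graded symmetric algebra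
𝒮L = ⊕_{m≥0} L^{⊗m} (whose relative Proj pL : PL → X, given with its charts, is identified with X by
pL), 𝒜 a quasi-coherent graded O_Y-algebra given with a graded f-morphism u : 𝒜 → f_*𝒮L bijective on
sections over every affine open of Y — so that 𝒜 is ⊕_{m≥0} f_*(L^{⊗m}) and u is adjoint to the
canonical σ — P = Proj(𝒜) → Y with its charts, O_P(n) its twisting module of degree n ≥ 0 (given
with its chart identifications) and r = r_{L,σ} : G(σ) → P the induced morphism on its open of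
definition G(σ) ⊆ PL. If L is ample relative to f, then the inverse image r^*O_P(n) is isomorphic to
the inverse image of L^{⊗n} along G(σ) ⊆ PL → X. (Existence of an isomorphism only: the published
statement asserts that a named canonical homomorphism r^*O_P(n) → L^{⊗n} is an isomorphism, for
every integer n; negative degrees are not stated here.) -/
theorem result {X Y P PL : Scheme.{u}} (f : X ⟶ Y) [QuasiCompact f]
    (L : X.Modules) (hL : PicF.IsInvertible L) (hLq : Coh.IsQCoh L)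
    (𝒮L : RelProj.QCGrAlg X) (jL : L ⟶ 𝒮L.toModule) (hjL : RelProj.IsGrSymAlg L 𝒮L jL)
    (pL : PL ⟶ X) (chartL : ∀ (U : X.Opens) (hU : IsAffineOpen U), (((pL ⁻¹ᵁ U : PL.Opens) : Scheme.{u}) ≅ Proj (𝒮L.deg U hU)))
    (hPL : RelProj.IsRelProj 𝒮L pL chartL)
    (𝒜 : RelProj.QCGrAlg Y) (u : RelProj.QGrHom f 𝒜 𝒮L)
    (p : P ⟶ Y) (chart : ∀ (U : Y.Opens) (hU : IsAffineOpen U), (((p ⁻¹ᵁ U : P.Opens) : Scheme.{u}) ≅ Proj (𝒜.deg U hU)))
    (hP : RelProj.IsRelProj 𝒜 p chart)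
    (r : ((RelProj.domQ u pL chartL : PL.Opens) : Scheme.{u}) ⟶ P)
    (hr : RelProj.IsProjQMapOn u p chart pL chartL (RelProj.domQ u pL chartL) r)
    (hu : ∀ (U : Y.Opens), IsAffineOpen U → Function.Bijective (u.app U).hom)
    (h : RelAmple.IsRelAmple f L) (n : ℕ) (On : P.Modules)
    (lamn : ∀ (U : Y.Opens) (hU : IsAffineOpen U),
      On ⟶ (Scheme.Modules.pushforward (RelProj.emb p chart U hU)).obj (GrTwist.twist (𝒜.deg U hU) (n : ℤ)))
    (hOn : RelProj.IsRelTwist 𝒜 p chart (n : ℤ) On lamn) :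
    Nonempty ((Scheme.Modules.pullback r).obj On ≅
      (Scheme.Modules.pullback ((RelProj.domQ u pL chartL).ι ≫ pL)).obj (CohB1.tensorPow L n)) := by
  obtain ⟨htop, -, -⟩ := SymAlgRel.sigma_openImmersion u hjL hLq hL hP hPL hr hu h
  refine SymAlgRel.nonempty_pullback_qmap_iso u hjL hLq hL hP hPL hr hOn (CohB1.tensorPow L n)
    (fun V ε _ => GenLocus.framePow ε n) (fun V ε hε => hε.framePow n)
    (fun V V' hV ε _ => GenLocus.framePow_res hV ε n) (fun V ε ε' _ _ w hw => ?_) fun y => ?_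
  · subst hw
    rw [GenLocus.framePow_smul]
    simp
  let x := pL y.1
  obtain ⟨_, ⟨U, hU, rfl⟩, hxU, -⟩ :=
    Y.isBasis_affineOpens.exists_subset_of_mem_open (Set.mem_univ (f x)) isOpen_univ
  replace hU : IsAffineOpen U := hU
  let W := f ⁻¹ᵁ U
  let Lw := L.restrict W.ι
  have hamp : CohB1.IsAmple Lw := h.2 ⟨U, hU⟩
  haveI := hamp.2.1
  haveI := GenLocus.isSeparated_of_isAmple hamp
  obtain ⟨d, hd, κ, _, c, -, hcov, -, hfr⟩ := ProjUPLib.exists_affine_cover_of_ample (𝟙 (W : Scheme.{u})) hamp hamp.1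
  obtain ⟨k, hxk⟩ := hcov ⟨x, hxU⟩
  obtain ⟨⟨e, he⟩, -⟩ := hfr k
  have hLn := TensorMod.isInvertible_tensorPow hamp.1 n
  obtain ⟨N, hN, c', hc'⟩ : ∃ N : ℕ, 0 < N ∧
      ∃ c' : Γ(CohB1.tensorMod (CohB1.tensorPow Lw n) (CohB1.tensorPow (CohB1.tensorPow Lw d) N), ⊤),
        ⟨x, hxU⟩ ∈ ProjUPLib.loc _ c' := by
    obtain ⟨N₀, hN₀⟩ := Filter.eventually_atTop.1
      (ProjUPLib.eventually_extend (TensorMod.isInvertible_tensorPow hamp.1 d) hLn (c k) (GenLocus.framePow e n))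
    obtain ⟨c', hc'⟩ := hN₀ (N₀ + 1) (Nat.le_succ _)
    refine ⟨N₀ + 1, Nat.succ_pos _, c', ProjUPLib.le_loc ?_ hxk⟩
    rw [hc']
    exact (he.framePow n).tmul ((ProjUPLib.isFrame_loc (c k)).framePow _)
  let e' := TensorMod.tensorIso (Iso.refl (CohB1.tensorPow Lw n)) (TensorMod.tensorPowMulIso Lw d N) ≪≫
    (TensorMod.tensorPowAddIso Lw n (d * N)).symm
  have hdN : 0 < d * N := Nat.mul_pos hd hN
  obtain ⟨F, hF, hxsF⟩ := SymAlgRel.exists_deg_of_section u hjL hLq hL hPL U hU (hu U hU) (d := n + d * N) (by omega)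
    (homOfSection _ c' ≫ e'.hom)
  obtain ⟨S, hS, hxsS⟩ := SymAlgRel.exists_deg_of_section u hjL hLq hL hPL U hU (hu U hU) hd (homOfSection _ (c k))
  have hpow : ∀ m : ℕ, 0 < m → x ∈ SymAlgRel.xs u U (d * m) (S ^ m) ∧ S ^ m ∈ 𝒜.deg U hU (d * m) := by
    intro m hm
    induction m with
    | zero => exact absurd hm (lt_irrefl 0)
    | succ m ih =>
      rcases Nat.eq_zero_or_pos m with rfl | hm'
      · rw [Nat.zero_add, mul_one, pow_one]
        exact ⟨hxsS.ge ⟨⟨x, hxU⟩, hxk, rfl⟩, hS⟩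
      · obtain ⟨h1, h2⟩ := ih hm'
        rw [pow_succ, Nat.mul_succ]
        refine ⟨?_, SetLike.mul_mem_graded h2 hS⟩
        rw [SymAlgRel.xs_mul u hjL hLq hL hPL U hU (Nat.mul_pos hd hm') hd _ _ h2 hS]
        exact ⟨h1, hxsS.ge ⟨⟨x, hxU⟩, hxk, rfl⟩⟩
  obtain ⟨hxS, hSN⟩ := hpow N hN
  refine SymAlgRel.exists_qfrac u hjL hLq hL hPL ⟨U, hU⟩ (i := n + d * N) hdN (by push_cast; ring) ⟨F, hF⟩ ⟨_, hSN⟩ y.1 ?_
  have hxF : x ∈ SymAlgRel.xs u U (n + d * N) F := by
    rw [hxsF, ProjUPLib.genLocus_comp_iso]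
    exact ⟨⟨x, hxU⟩, hc', rfl⟩
  refine (SymAlgRel.mem_xs u).1 ?_
  rw [SymAlgRel.xs_mul u hjL hLq hL hPL U hU (by omega) hdN F (S ^ N) hF hSN]
  exact ⟨hxF, hxS⟩

end Groth.Agent.S12694
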