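import Groth.Statements.S12708
import Mathlib.RingTheory.Length
import Mathlib.RingTheory.LocalRing.Length

set_option autoImplicit false
universe u v
open CategoryTheory
open ArtFun

namespace Groth.Agent.S12708

/-- For Λ Noetherian with a finite map to a field k, A a local Λ-algebra whose residue field is k
(through a surjective Λ-algebra map A → k) and M an A-module, the length of M over Λ equals the
degree of k over the image of Λ times the length of M over A. The degree is written as the length of
k as a Λ-module, which is the same number; lengths are in ℕ∞. -/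
theorem result {Λ : Type u} {k : Type u} [CommRing Λ] [Field k] [Algebra Λ k]
    [IsNoetherianRing Λ] [Module.Finite Λ k]
    (A : Type u) [CommRing A] [Algebra Λ A] [IsLocalRing A] [Algebra A k] [IsScalarTower Λ A k]
    (hres : Function.Surjective (algebraMap A k))
    (M : Type v) [AddCommGroup M] [Module A M] [Module Λ M] [IsScalarTower Λ A M] :
    Module.length Λ k * Module.length A M = Module.length Λ M := by
  classical
  have hker : RingHom.ker (algebraMap A k) = IsLocalRing.maximalIdeal A :=
    IsLocalRing.eq_maximalIdeal (RingHom.ker_isMaximal_of_surjective _ hres)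
  let ek : (A ⧸ IsLocalRing.maximalIdeal A) ≃ₗ[A] k :=
    (Submodule.quotEquivOfEq (IsLocalRing.maximalIdeal A) (LinearMap.ker (Algebra.linearMap A k))
      (by rw [← hker]; rfl)).trans (LinearMap.quotKerEquivOfSurjective (Algebra.linearMap A k) hres)
  have hstep : ∀ {p q : Submodule A M}, p ⋖ q →
      Module.length Λ q = Module.length Λ p + Module.length Λ k := by
    intro p q h
    let f : p →ₗ[A] q := Submodule.inclusion h.le
    have key : IsSimpleModule A (q ⧸ LinearMap.range f) := by
      rwa [Submodule.range_inclusion, ← covBy_iff_quot_is_simple h.le]
    obtain ⟨m, hm, ⟨e⟩⟩ := isSimpleModule_iff_quot_maximal.mp key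
    obtain rfl := IsLocalRing.eq_maximalIdeal hm
    let g : q →ₗ[A] k := (e.trans ek).toLinearMap.comp (LinearMap.range f).mkQ
    have h1 : Function.Injective f := Submodule.inclusion_injective _
    have h2 : Function.Surjective g := (e.trans ek).surjective.comp (Submodule.mkQ_surjective _)
    have h3 : Function.Exact f g := LinearMap.exact_iff.mpr
      (((e.trans ek).ker_comp (LinearMap.range f).mkQ).trans (LinearMap.range f).ker_mkQ)
    exact Module.length_eq_add_of_exact (f.restrictScalars Λ) (g.restrictScalars Λ) h1 h2 h3
  by_cases h : IsFiniteLength A M
  · obtain ⟨s, hs_bot, hs_top⟩ := isFiniteLength_iff_exists_compositionSeries.mp h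
    rw [← Module.length_compositionSeries s hs_bot hs_top, mul_comm]
    suffices ∀ j, Module.length Λ (s j) = (j : ℕ) * Module.length Λ k by
      rw [← Fin.val_last s.length, ← this, ← RelSeries.last, hs_top]
      exact Module.length_top (R := Λ) (M := M)
    intro j
    induction j using Fin.induction with
    | zero =>
      rw [← RelSeries.head, hs_bot, Fin.val_zero, Nat.cast_zero, zero_mul]
      exact Module.length_eq_zero
    | succ i hi =>
      rw [hstep (s.step i), hi, Fin.val_succ, Fin.val_castSucc, Nat.cast_add, Nat.cast_one, add_one_mul]
  · have h' : ¬ IsFiniteLength Λ M := by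
      contrapose! h
      rw [isFiniteLength_iff_isNoetherian_isArtinian] at h ⊢
      exact h.imp (isNoetherian_of_tower Λ) (isArtinian_of_tower Λ)
    rw [← Module.length_ne_top_iff, not_ne_iff] at h h'
    rw [h, h', ENat.mul_top (by simpa [pos_iff_ne_zero] using Module.length_pos (R := Λ) (M := k))]

end Groth.Agent.S12708
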