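import Groth.Statements.S12709
import Groth.Agent.ArtHull.Tangent
-- import your own Groth.Agent.* helpers here

set_option autoImplicit false
universe u v
open CategoryTheory
open ArtFun ArtFun.Art

namespace Groth.Agent.S12709

/-- Given a morphism f : A → B in the category of Artinian local Λ-algebras with residue field k, three
conditions coincide: (1) surjectivity of f; (2) f induces an onto map from the cotangent space of A
to the cotangent space of B, which in ideal-theoretic form says f(m_A)B + m_B² = m_B; (3) the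
induced map on cotangent spaces relative to Λ is surjective, written as m_Λ B + f(m_A)B + m_B² = m_B
with m_Λ the kernel of Λ → k. -/
theorem result {Λ : Type u} {k : Type u} [CommRing Λ] [Field k] [Algebra Λ k]
    [IsNoetherianRing Λ] [Module.Finite Λ k]
    {A B : ArtFun.Art Λ k} (f : A ⟶ B) :
    List.TFAE [Function.Surjective f,
      Ideal.map f.toAlgHom (IsLocalRing.maximalIdeal A) ⊔ IsLocalRing.maximalIdeal B ^ 2 = IsLocalRing.maximalIdeal B,
      Ideal.map (algebraMap Λ B) (RingHom.ker (algebraMap Λ k)) ⊔ Ideal.map f.toAlgHom (IsLocalRing.maximalIdeal A) ⊔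
        IsLocalRing.maximalIdeal B ^ 2 = IsLocalRing.maximalIdeal B] := by
  have hle : Ideal.map f.toAlgHom (IsLocalRing.maximalIdeal A) ≤ IsLocalRing.maximalIdeal B :=
    Ideal.map_le_iff_le_comap.2 fun a ha => by
      rw [Ideal.mem_comap, ArtFun.Art.mem_maximalIdeal_iff, ArtFun.Art.res_app]
      exact (ArtFun.Art.mem_maximalIdeal_iff A a).1 ha
  have hsq : IsLocalRing.maximalIdeal B ^ 2 ≤ IsLocalRing.maximalIdeal B := Ideal.pow_le_self two_ne_zero
  have hlam : Ideal.map (algebraMap Λ B) (RingHom.ker (algebraMap Λ k)) ≤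
      Ideal.map f.toAlgHom (IsLocalRing.maximalIdeal A) := Ideal.map_le_iff_le_comap.2 fun l hl => by
    rw [Ideal.mem_comap, ← f.toAlgHom.commutes l]
    exact Ideal.mem_map_of_mem f.toAlgHom ((ArtFun.Art.mem_maximalIdeal_iff A _).2 ((A.res.commutes l).trans hl))
  tfae_have 1 → 2 := fun hs => le_antisymm (sup_le hle hsq) fun a ha => Ideal.mem_sup_left (by
    obtain ⟨r, rfl⟩ := hs a
    exact Ideal.mem_map_of_mem f.toAlgHom ((ArtFun.Art.mem_maximalIdeal_iff A r).2
      ((ArtFun.Art.res_app f r).symm.trans ((ArtFun.Art.mem_maximalIdeal_iff B _).1 ha))))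
  tfae_have 2 → 3 := fun h => by rw [sup_assoc, h]; exact sup_eq_right.2 (hlam.trans hle)
  tfae_have 3 → 1 := fun h => Groth.Agent.ArtHull.surjective_of_cotangent (Groth.Agent.ArtHull.artCRing A)
    (Groth.Agent.ArtHull.artCRing B) f.toAlgHom f.res_comp
    (h.ge.trans (sup_le (sup_le (hlam.trans le_sup_left) le_sup_left) le_sup_right))
  tfae_finish

end Groth.Agent.S12709
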