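import Groth.Statements.S12714
import Groth.Agent.ArtHull.Tangent
-- import your own Groth.Agent.* helpers here

set_option autoImplicit false
universe u v
open CategoryTheory
open ArtFun ArtFun.CRing

namespace Groth.Agent.S12714

/-- For a morphism f : R → S of complete local Noetherian Λ-algebras with residue field k (compatible
with the augmentations to k), the following are equivalent: (1) f is surjective; (2) m_R/m_R² →
m_S/m_S² is surjective, written as f(m_R)S + m_S² = m_S; (3) the map of cotangent spaces relative to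
Λ is surjective, written as m_Λ S + f(m_R)S + m_S² = m_S with m_Λ the kernel of Λ → k. -/
theorem result {Λ : Type u} {k : Type u} [CommRing Λ] [Field k] [Algebra Λ k]
    [IsNoetherianRing Λ] [Module.Finite Λ k]
    (R S : ArtFun.CRing Λ k) (f : R.carrier →ₐ[Λ] S.carrier) (hf : S.res.comp f = R.res) :
    List.TFAE [Function.Surjective f,
      Ideal.map f (IsLocalRing.maximalIdeal R.carrier) ⊔ IsLocalRing.maximalIdeal S.carrier ^ 2 =
        IsLocalRing.maximalIdeal S.carrier,
      Ideal.map (algebraMap Λ S.carrier) (RingHom.ker (algebraMap Λ k)) ⊔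
        Ideal.map f (IsLocalRing.maximalIdeal R.carrier) ⊔ IsLocalRing.maximalIdeal S.carrier ^ 2 =
        IsLocalRing.maximalIdeal S.carrier] := by
  have hle : Ideal.map f (IsLocalRing.maximalIdeal R.carrier) ≤ IsLocalRing.maximalIdeal S.carrier :=
    Ideal.map_le_iff_le_comap.2 (ArtFun.CRing.maximalIdeal_le_comap f hf)
  have hsq : IsLocalRing.maximalIdeal S.carrier ^ 2 ≤ IsLocalRing.maximalIdeal S.carrier := Ideal.pow_le_self two_ne_zero
  have hlam : Ideal.map (algebraMap Λ S.carrier) (RingHom.ker (algebraMap Λ k)) ≤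
      Ideal.map f (IsLocalRing.maximalIdeal R.carrier) := Ideal.map_le_iff_le_comap.2 fun l hl => by
    rw [Ideal.mem_comap, ← f.commutes l]
    exact Ideal.mem_map_of_mem f ((ArtFun.CRing.mem_maximalIdeal_iff R _).2 ((R.res.commutes l).trans hl))
  tfae_have 1 → 2 := fun hs => le_antisymm (sup_le hle hsq) fun a ha => Ideal.mem_sup_left (by
    obtain ⟨r, rfl⟩ := hs a
    exact Ideal.mem_map_of_mem f ((ArtFun.CRing.mem_maximalIdeal_iff R r).2
      ((AlgHom.congr_fun hf r).symm.trans ((ArtFun.CRing.mem_maximalIdeal_iff S _).1 ha))))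
  tfae_have 2 → 3 := fun h => by rw [sup_assoc, h]; exact sup_eq_right.2 (hlam.trans hle)
  tfae_have 3 → 1 := fun h => Groth.Agent.ArtHull.surjective_of_cotangent R S f hf
    (h.ge.trans (sup_le (sup_le (hlam.trans le_sup_left) le_sup_left) le_sup_right))
  tfae_finish

end Groth.Agent.S12714
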