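import Groth.Statements.S12715
import Mathlib

set_option autoImplicit false
universe u v
open CategoryTheory
open ArtFun

namespace Groth.Agent.S12715

/-- For Λ Noetherian with a finite map to the field k and S a complete local Noetherian Λ-algebra with
residue field k (through a surjective map S → k over Λ), the space of Λ-derivations S → k is
finite-dimensional over k. -/
theorem result {Λ : Type u} {k : Type u} [CommRing Λ] [Field k] [Algebra Λ k]
    [IsNoetherianRing Λ] [Module.Finite Λ k]
    (S : Type u) [CommRing S] [Algebra Λ S] [IsLocalRing S] [IsNoetherianRing S]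
    [IsAdicComplete (IsLocalRing.maximalIdeal S) S] [Algebra S k] [IsScalarTower Λ S k]
    (hres : Function.Surjective (algebraMap S k)) :
    Module.Finite k (Derivation Λ S k) := by
  classical
  obtain ⟨T, hT⟩ := Module.Finite.fg_top (R := Λ) (M := k)
  choose t ht using hres
  have hker : RingHom.ker (algebraMap S k) = IsLocalRing.maximalIdeal S :=
    IsLocalRing.eq_maximalIdeal (RingHom.ker_isMaximal_of_surjective _ (fun x => ⟨t x, ht x⟩))
  obtain ⟨G, hG⟩ := (IsNoetherian.noetherian (IsLocalRing.maximalIdeal S) : (IsLocalRing.maximalIdeal S).FG)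
  let ev : Derivation Λ S k →ₗ[k] ((T → k) × (G → k)) :=
    { toFun := fun D => (fun i => D (t i.1), fun g => D g.1)
      map_add' := fun D E => rfl
      map_smul' := fun c D => rfl }
  refine Module.Finite.of_injective ev ?_
  rw [injective_iff_map_eq_zero]
  intro D hD
  have hDT : ∀ i ∈ T, D (t i) = 0 := fun i hi => congrFun (congrArg Prod.fst hD) ⟨i, hi⟩
  have hDG : ∀ g ∈ G, D g = 0 := fun g hg => congrFun (congrArg Prod.snd hD) ⟨g, hg⟩
  have hzero : ∀ m ∈ IsLocalRing.maximalIdeal S, ∀ x : k, m • x = 0 := by
    intro m hm x
    rw [← hker, RingHom.mem_ker] at hm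
    rw [Algebra.smul_def, hm, zero_mul]
  have hm : ∀ m ∈ IsLocalRing.maximalIdeal S, D m = 0 := by
    intro m hm
    rw [← hG] at hm
    induction hm using Submodule.span_induction with
    | mem x hx => exact hDG x hx
    | zero => exact map_zero D
    | add x y _ _ hx hy => rw [map_add, hx, hy, add_zero]
    | smul a x hx' hx =>
      rw [smul_eq_mul, D.leibniz, hx, smul_zero, zero_add, hzero x (by rw [← hG]; exact hx')]
  have hS : ∀ x : k, D (t x) = 0 := by
    intro x
    have hx : x ∈ Submodule.span Λ (T : Set k) := by rw [hT]; exact Submodule.mem_top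
    induction hx using Submodule.span_induction with
    | mem i hi => exact hDT i hi
    | zero => exact hm _ (by rw [← hker, RingHom.mem_ker, ht])
    | add a b _ _ ha hb =>
      have : D (t (a + b) - (t a + t b)) = 0 := hm _ (by rw [← hker, RingHom.mem_ker, map_sub, map_add, ht, ht, ht, sub_self])
      rwa [map_sub, map_add, ha, hb, add_zero, sub_zero] at this
    | smul c a _ ha =>
      have : D (t (c • a) - c • t a) = 0 := hm _ (by
        rw [← hker, RingHom.mem_ker, map_sub, Algebra.smul_def c (t a), map_mul, ht, ht,
          ← IsScalarTower.algebraMap_apply, ← Algebra.smul_def, sub_self])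
      rwa [map_sub, D.map_smul, ha, smul_zero, sub_zero] at this
  ext s
  have : D (s - t (algebraMap S k s)) = 0 := hm _ (by rw [← hker, RingHom.mem_ker, map_sub, ht, sub_self])
  rw [map_sub, hS, sub_zero] at this
  simpa using this

end Groth.Agent.S12715
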