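import Groth.Statements.S12728
import Groth.Agent.ArtHull.Versal
import Groth.Agent.ArtHull.Deform
-- import your own Groth.Agent.* helpers here

set_option autoImplicit false
universe u v
open CategoryTheory
open ArtFun

namespace Groth.Agent.S12728

/-- For functors, let F be a functor on Artinian local Λ-algebras with residue field k with F(k) a
point, satisfying (S1) and (S2), and ξ a family of F over a complete local Noetherian R with residue
field k. Then ξ is versal if and only if (1) the map h_R(k[ε]) → F(k[ε]) on tangent spaces is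
surjective, and (2) whenever μ : B → A is a small extension, φ : R → A, and y ∈ F(B) lies over ξ(φ),
the map φ lifts to some R → B. -/
theorem result {Λ : Type u} {k : Type u} [CommRing Λ] [Field k] [Algebra Λ k]
    [IsNoetherianRing Λ] [Module.Finite Λ k]
    {F : ArtFun.Art Λ k ⥤ Type v} (h0 : ArtFun.H0 F) (h1 : ArtFun.S1 F) (h2 : ArtFun.Heps F)
    (R : ArtFun.CRing Λ k) (ξ : ArtFun.Family R.carrier R.res F) :
    ArtFun.IsVersal ξ ↔
      (Function.Surjective (ArtFun.TangentSpace.ofFamily ξ) ∧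
        ∀ ⦃B A : ArtFun.Art Λ k⦄ (μ : B ⟶ A), ArtFun.Art.IsSmallExt μ →
          ∀ (φ : ArtFun.HomSet R.carrier R.res A) (y : F.obj B), F.map μ y = ξ.app A φ →
            ∃ ψ : ArtFun.HomSet R.carrier R.res B, ArtFun.HomSet.map μ ψ = φ) := by
  refine ⟨fun hv => ⟨Groth.Agent.ArtHull.versal_surjective hv h0 _, fun B A μ hμ φ y hy => ?_⟩, fun ⟨hd, hl⟩ => ?_⟩
  · obtain ⟨ψ, hψ, -⟩ := hv μ hμ.1 φ y hy
    exact ⟨ψ, hψ⟩
  intro B A μ hμ
  refine Groth.Agent.ArtHull.surjective_induction (fun {B A} μ =>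
    ∀ (φ : ArtFun.HomSet R.carrier R.res A) (y : F.obj B), F.map μ y = ξ.app A φ →
      ∃ ψ : ArtFun.HomSet R.carrier R.res B, ArtFun.HomSet.map μ ψ = φ ∧ ξ.app B ψ = y) ?_ ?_ μ hμ
  · intro B A f hf φ y hy
    obtain ⟨g, hg, hg'⟩ := Groth.Agent.ArtHull.exists_inv_of_bijective f hf
    refine ⟨ArtFun.HomSet.map g φ, ?_, ?_⟩
    · exact Subtype.ext (AlgHom.ext fun r => congrArg (fun h : A ⟶ A => h (φ.1 r)) hg')
    · rw [ξ.natural, ← hy, Groth.Agent.ArtHull.map_map_apply, hg, Groth.Agent.ArtHull.map_id_elt]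
  intro B C A g t _ hg ht φ y hy
  obtain ⟨ψ₁, hψ₁, hψ₁'⟩ := ht φ (F.map g y) (by rw [Groth.Agent.ArtHull.map_map_apply, hy])
  suffices ∃ ψ : ArtFun.HomSet R.carrier R.res B, ArtFun.HomSet.map g ψ = ψ₁ ∧ ξ.app B ψ = y by
    obtain ⟨ψ, h, h'⟩ := this
    exact ⟨ψ, by rw [← hψ₁, ← h]; exact Subtype.ext (AlgHom.ext fun _ => rfl), h'⟩
  rcases hg with hg | hg
  · obtain ⟨g', hg₁, hg₂⟩ := Groth.Agent.ArtHull.exists_inv_of_bijective g hg
    refine ⟨ArtFun.HomSet.map g' ψ₁, ?_, ?_⟩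
    · exact Subtype.ext (AlgHom.ext fun r => congrArg (fun h : C ⟶ C => h (ψ₁.1 r)) hg₂)
    · rw [ξ.natural, hψ₁', Groth.Agent.ArtHull.map_map_apply, hg₁, Groth.Agent.ArtHull.map_id_elt]
  obtain ⟨ψ, hψ⟩ := hl g hg ψ₁ y hψ₁'.symm
  obtain ⟨E, p, q, Θ, hE, hsq, -⟩ := Groth.Agent.ArtHull.exists_dual_square' g hg
  obtain ⟨w, hw₁, hw₂⟩ := Groth.Agent.ArtHull.exists_of_cmp_surjective (h1 p Θ g g hsq hg.1) (ξ.app B ψ) y
    (by rw [← ξ.natural, hψ, hψ₁'])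
  obtain ⟨t, ht⟩ := hd (F.map q w)
  obtain ⟨c, hc₁, hc₂⟩ := Groth.Agent.ArtHull.fibreProd_lift hE ψ t
    (Subtype.ext ((ArtFun.HomSet.map (ArtFun.Art.toBase B) ψ).2.trans
      (ArtFun.HomSet.map (ArtFun.Art.toBase (ArtFun.Art.dual Λ k)) t).2.symm))
  have hcw : ξ.app E c = w := (h2 p q hE).1 ((Groth.Agent.ArtHull.cmp_eq_iff hE).mpr
    ⟨by rw [← ξ.natural, hc₁, hw₁], by rw [← ξ.natural, hc₂]; exact ht⟩)
  refine ⟨ArtFun.HomSet.map Θ c, ?_, by rw [ξ.natural, hcw, hw₂]⟩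
  rw [← hψ, ← hc₁]
  exact Subtype.ext (AlgHom.ext fun r => (hsq.w_apply (c.1 r)).symm)

end Groth.Agent.S12728
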