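import Groth.Statements.S12729
import Groth.Agent.ArtHull.Tangent
-- import your own Groth.Agent.* helpers here

set_option autoImplicit false
universe u v
open CategoryTheory
open ArtFun

namespace Groth.Agent.S12729

/-- For functors, let F satisfy (S1), let p : B → A be a surjection in the category of Artinian local
Λ-algebras with residue field k whose kernel I is annihilated by m_B, and let x ∈ F(A). Then the set
of ideals J ⊆ I for which x lifts to F(B/J) along B/J → A has a least element. -/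
theorem result {Λ : Type u} {k : Type u} [CommRing Λ] [Field k] [Algebra Λ k]
    [IsNoetherianRing Λ] [Module.Finite Λ k]
    {F : ArtFun.Art Λ k ⥤ Type v} (h1 : ArtFun.S1 F)
    {B A : ArtFun.Art Λ k} (p : B ⟶ A) (hp : ArtFun.Art.IsSemismallExt p) (x : F.obj A) :
    ∃ (J₀ : Ideal B) (hJ₀ : J₀ ≤ RingHom.ker p.toAlgHom) (hJ₀' : J₀ ≤ IsLocalRing.maximalIdeal B),
      (∃ y : F.obj (ArtFun.Art.quot B J₀ hJ₀'), F.map (ArtFun.Art.quotFactor hJ₀' p hJ₀) y = x) ∧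
      ∀ (J : Ideal B) (hJ : J ≤ RingHom.ker p.toAlgHom) (hJ' : J ≤ IsLocalRing.maximalIdeal B),
        (∃ y : F.obj (ArtFun.Art.quot B J hJ'), F.map (ArtFun.Art.quotFactor hJ' p hJ) y = x) → J₀ ≤ J := by
  classical
  let I := RingHom.ker p.toAlgHom
  let Good : Ideal B → Prop := fun J => J ≤ I ∧ ∀ hJ : J ≤ I, ∀ hJ' : J ≤ IsLocalRing.maximalIdeal B,
    ∃ y : F.obj (ArtFun.Art.quot B J hJ'), F.map (ArtFun.Art.quotFactor hJ' p hJ) y = x
  have hIm : I ≤ IsLocalRing.maximalIdeal B := Groth.Agent.ArtHull.ker_le_maximalIdeal p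
  have hI : Good I := ⟨le_rfl, fun hJ hJ' => by
    obtain ⟨g, hg, -⟩ := Groth.Agent.ArtHull.exists_inv_of_bijective (ArtFun.Art.quotFactor hJ' p hJ) ⟨fun a b e => by
        obtain ⟨a, rfl⟩ := Ideal.Quotient.mk_surjective a
        obtain ⟨b, rfl⟩ := Ideal.Quotient.mk_surjective b
        refine Ideal.Quotient.eq.2 (RingHom.mem_ker.2 ?_)
        rw [map_sub, sub_eq_zero]
        exact e, fun a => by
        obtain ⟨b, rfl⟩ := hp.1 a
        exact ⟨Ideal.Quotient.mk _ b, rfl⟩⟩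
    obtain ⟨g', -, hg'⟩ := Groth.Agent.ArtHull.exists_inv_of_bijective (ArtFun.Art.quotFactor hJ' p hJ) ⟨fun a b e => by
        obtain ⟨a, rfl⟩ := Ideal.Quotient.mk_surjective a
        obtain ⟨b, rfl⟩ := Ideal.Quotient.mk_surjective b
        refine Ideal.Quotient.eq.2 (RingHom.mem_ker.2 ?_)
        rw [map_sub, sub_eq_zero]
        exact e, fun a => by
        obtain ⟨b, rfl⟩ := hp.1 a
        exact ⟨Ideal.Quotient.mk _ b, rfl⟩⟩
    exact ⟨F.map g' x, by rw [Groth.Agent.ArtHull.map_map_apply, hg', Groth.Agent.ArtHull.map_id_elt]⟩⟩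
  have hinter : ∀ J₁ J₂, Good J₁ → Good J₂ → Good (J₁ ⊓ J₂) := by
    intro J₁ J₂ ⟨h₁, hg₁⟩ ⟨h₂, hg₂⟩
    obtain ⟨J, ⟨hJ₂, hJI, hJ₁⟩, hmax⟩ := (wellFounded_gt (α := Ideal B)).has_min
      {J | J₂ ≤ J ∧ J ≤ I ∧ J₁ ⊓ J = J₁ ⊓ J₂} ⟨J₂, le_rfl, h₂, rfl⟩
    have hsum : I ≤ J₁ ⊔ J := fun a ha => by
      by_contra hna
      have hnJ : a ∉ J := fun h => hna (Submodule.mem_sup_right h)
      refine hmax (J ⊔ Ideal.span {a}) ⟨hJ₂.trans le_sup_left,
        sup_le hJI ((Ideal.span_singleton_le_iff_mem _).2 ha), le_antisymm ?_ ?_⟩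
        (left_lt_sup.2 fun h => hnJ (h (Ideal.mem_span_singleton_self a)))
      · rintro w ⟨hw₁, hw⟩
        obtain ⟨j, hj, c', hc', rfl⟩ := Submodule.mem_sup.1 hw
        obtain ⟨c, rfl⟩ := Ideal.mem_span_singleton'.1 hc'
        by_cases hc : IsUnit c
        · exfalso
          obtain ⟨ci, hci⟩ := hc.exists_left_inv
          refine hna ?_
          rw [show a = ci * (j + c * a) + (-(ci * j)) by rw [mul_add, ← mul_assoc, hci, one_mul]; ring]
          exact add_mem (Submodule.mem_sup_left (J₁.mul_mem_left _ hw₁))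
            (Submodule.mem_sup_right (neg_mem (J.mul_mem_left _ hj)))
        · have : c * a = 0 := by
            have h := Ideal.mul_mem_mul ((IsLocalRing.mem_maximalIdeal c).2 hc) ha
            rwa [hp.2, Ideal.mem_bot] at h
          rw [this, add_zero] at hw₁ ⊢
          rw [← hJ₁]
          exact ⟨hw₁, hj⟩
      · exact le_inf inf_le_left (inf_le_right.trans (hJ₂.trans le_sup_left))
    refine ⟨inf_le_left.trans h₁, fun hJ hJ' => ?_⟩
    obtain ⟨y₁, hy₁⟩ := hg₁ h₁ (h₁.trans hIm)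
    obtain ⟨y₂', hy₂'⟩ := hg₂ h₂ (h₂.trans hIm)
    let t : ArtFun.Art.quot B J₂ (h₂.trans hIm) ⟶ ArtFun.Art.quot B J (hJI.trans hIm) :=
      ArtFun.Art.quotFactor (h₂.trans hIm) (ArtFun.Art.quotMk B J (hJI.trans hIm))
        (fun b hb => Ideal.Quotient.eq_zero_iff_mem.2 (hJ₂ hb))
    have ht : t ≫ ArtFun.Art.quotFactor (hJI.trans hIm) p hJI = ArtFun.Art.quotFactor (h₂.trans hIm) p h₂ :=
      ArtFun.Art.hom_ext (AlgHom.ext fun a => by obtain ⟨a, rfl⟩ := Ideal.Quotient.mk_surjective a; rfl)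
    let a₁ : ArtFun.Art.quot B (J₁ ⊓ J₂) hJ' ⟶ ArtFun.Art.quot B J₁ (h₁.trans hIm) :=
      ArtFun.Art.quotFactor hJ' (ArtFun.Art.quotMk B J₁ (h₁.trans hIm))
        (fun b hb => Ideal.Quotient.eq_zero_iff_mem.2 hb.1)
    let a₂ : ArtFun.Art.quot B (J₁ ⊓ J₂) hJ' ⟶ ArtFun.Art.quot B J (hJI.trans hIm) :=
      ArtFun.Art.quotFactor hJ' (ArtFun.Art.quotMk B J (hJI.trans hIm))
        (fun b hb => Ideal.Quotient.eq_zero_iff_mem.2 (hJ₂ hb.2))
    have hsq : ArtFun.Art.IsFibreProd a₁ a₂ (ArtFun.Art.quotFactor (h₁.trans hIm) p h₁)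
        (ArtFun.Art.quotFactor (hJI.trans hIm) p hJI) := by
      refine ⟨ArtFun.Art.hom_ext (AlgHom.ext fun a => by obtain ⟨a, rfl⟩ := Ideal.Quotient.mk_surjective a; rfl),
        fun u v e₁ e₂ => ?_, fun u v e => ?_⟩
      · obtain ⟨u, rfl⟩ := Ideal.Quotient.mk_surjective u
        obtain ⟨v, rfl⟩ := Ideal.Quotient.mk_surjective v
        refine Ideal.Quotient.eq.2 ?_
        rw [← hJ₁]
        exact ⟨Ideal.Quotient.eq.1 e₁, Ideal.Quotient.eq.1 e₂⟩
      · obtain ⟨u, rfl⟩ := Ideal.Quotient.mk_surjective u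
        obtain ⟨v, rfl⟩ := Ideal.Quotient.mk_surjective v
        have : u - v ∈ I := by
          rw [RingHom.mem_ker, map_sub, sub_eq_zero]
          exact e
        obtain ⟨j₁, hj₁, j, hj, hjj⟩ := Submodule.mem_sup.1 (hsum this)
        refine ⟨Ideal.Quotient.mk _ (u - j₁), Ideal.Quotient.eq.2 ?_, Ideal.Quotient.eq.2 ?_⟩
        · rw [show u - j₁ - u = -j₁ by ring]; exact neg_mem hj₁
        · rw [show u - j₁ - v = j by rw [← sub_eq_zero]; linear_combination -hjj]; exact hj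
    obtain ⟨y, hy, -⟩ := Groth.Agent.ArtHull.exists_of_cmp_surjective (h1 a₁ a₂ _ _ hsq (fun a => by
        obtain ⟨b, rfl⟩ := hp.1 a
        exact ⟨Ideal.Quotient.mk _ b, rfl⟩)) y₁ (F.map t y₂')
      (by rw [hy₁, Groth.Agent.ArtHull.map_map_apply, ht, hy₂'])
    refine ⟨y, ?_⟩
    rw [show ArtFun.Art.quotFactor hJ' p hJ = a₁ ≫ ArtFun.Art.quotFactor (h₁.trans hIm) p h₁ from
      ArtFun.Art.hom_ext (AlgHom.ext fun a => by obtain ⟨a, rfl⟩ := Ideal.Quotient.mk_surjective a; rfl),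
      ← Groth.Agent.ArtHull.map_map_apply, hy, hy₁]
  obtain ⟨J₀, hJ₀, hmin⟩ := (wellFounded_lt (α := Ideal B)).has_min {J | Good J} ⟨I, hI⟩
  refine ⟨J₀, hJ₀.1, hJ₀.1.trans hIm, hJ₀.2 hJ₀.1 _, fun J hJ hJ' hy => ?_⟩
  have := hinter J₀ J hJ₀ ⟨hJ, fun _ _ => hy⟩
  exact inf_eq_left.1 (eq_of_le_of_not_lt inf_le_left (hmin _ this))

end Groth.Agent.S12729
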