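import Groth.Statements.S12733
import Groth.Agent.ArtHull.Versal
import Groth.Agent.ArtHull.Deform
-- import your own Groth.Agent.* helpers here

set_option autoImplicit false
universe u v
open CategoryTheory
open ArtFun

namespace Groth.Agent.S12733

/-- Let F, G be deformation functors on Artinian local Λ-algebras with residue field k (value at k a
point, and condition (RS): the comparison map for A₁ ×_A A₂ is bijective whenever A₂ → A is
surjective). A smooth morphism φ : F → G inducing a bijection on tangent spaces is an isomorphism: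
every φ_A is bijective. -/
theorem result {Λ : Type u} {k : Type u} [CommRing Λ] [Field k] [Algebra Λ k]
    [IsNoetherianRing Λ] [Module.Finite Λ k]
    {F G : ArtFun.Art Λ k ⥤ Type v}
    (hF0 : ArtFun.H0 F) (hF : (∀ ⦃B A A' A'' : ArtFun.Art Λ k⦄ (p' : B ⟶ A') (p'' : B ⟶ A'') (f' : A' ⟶ A) (f'' : A'' ⟶ A)
        (h : ArtFun.Art.IsFibreProd p' p'' f' f''), Function.Surjective f'' → Function.Bijective (ArtFun.cmp F h)))
    (hG0 : ArtFun.H0 G) (hG : (∀ ⦃B A A' A'' : ArtFun.Art Λ k⦄ (p' : B ⟶ A') (p'' : B ⟶ A'') (f' : A' ⟶ A) (f'' : A'' ⟶ A)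
        (h : ArtFun.Art.IsFibreProd p' p'' f' f''), Function.Surjective f'' → Function.Bijective (ArtFun.cmp G h)))
    (φ : F ⟶ G) (hφ : ArtFun.IsSmooth φ) (hd : Function.Bijective (ArtFun.TangentSpace.map φ))
    (A : ArtFun.Art Λ k) : Function.Bijective (φ.app A) := by
  refine ⟨fun a b e => ?_, ?_⟩
  · have := hF0.2
    exact Groth.Agent.ArtHull.eq_of_lifts φ hG0.2 hF0.2 hG hF hd.1 (ArtFun.Art.toBase A) A.res_surjective a b
      (Subsingleton.elim _ _) e
  · intro y
    obtain ⟨x₀⟩ := hF0.1
    have := hG0.2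
    obtain ⟨z, -, hz⟩ := Groth.Agent.ArtHull.exists_of_relCmp_surjective (hφ (ArtFun.Art.toBase A) A.res_surjective) x₀ y
      (Subsingleton.elim _ _)
    exact ⟨z, hz⟩

end Groth.Agent.S12733
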