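import Groth.Statements.S12734
import Groth.Agent.ArtHull.ProrepGen
-- import your own Groth.Agent.* helpers here

set_option autoImplicit false
universe u v
open CategoryTheory
open ArtFun

namespace Groth.Agent.S12734

/-- A functor F on Artinian local Λ-algebras with residue field k is prorepresentable if and only if (a)
F(k) is a point and F satisfies (RS): F(A₁ ×_A A₂) → F(A₁) ×_{F(A)} F(A₂) is bijective whenever A₂ →
A is surjective; (b) its tangent space is finite-dimensional; and (c) the map from morphisms k →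
k[ε] of the category (the Λ-derivations of k) to the tangent space, σ ↦ F(σ)(x₀), is injective.
Condition (c) is empty when k is separable over the image of Λ in k. -/
theorem result {Λ : Type u} {k : Type u} [CommRing Λ] [Field k] [Algebra Λ k]
    [IsNoetherianRing Λ] [Module.Finite Λ k]
    (F : ArtFun.Art Λ k ⥤ Type v) [ArtFun.TangentStr F] :
    ArtFun.IsProrepresentable F ↔
      ((ArtFun.H0 F ∧ (∀ ⦃B A A' A'' : ArtFun.Art Λ k⦄ (p' : B ⟶ A') (p'' : B ⟶ A'') (f' : A' ⟶ A) (f'' : A'' ⟶ A)
        (h : ArtFun.Art.IsFibreProd p' p'' f' f''), Function.Surjective f'' → Function.Bijective (ArtFun.cmp F h))) ∧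
        ArtFun.Hfin F ∧
        ∀ x₀ : F.obj (ArtFun.Art.base Λ k),
          Function.Injective (fun σ : ArtFun.Art.base Λ k ⟶ ArtFun.Art.dual Λ k => F.map σ x₀)) := by
  constructor
  · rintro ⟨P⟩
    have h0 : ArtFun.H0 F :=
      ⟨⟨P.family.app _ ⟨P.ring.res, AlgHom.id_comp _⟩⟩, ⟨fun x y => by
        obtain ⟨a, rfl⟩ := (P.universal _).2 x
        obtain ⟨b, rfl⟩ := (P.universal _).2 y
        exact congrArg _ (Subtype.ext ((AlgHom.id_comp a.1).symm.trans
          (a.2.trans (b.2.symm.trans (AlgHom.id_comp b.1)))))⟩⟩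
    refine ⟨⟨h0, fun B A A' A'' p' p'' f' f'' h hf => ⟨fun z₁ z₂ e => ?_, fun x => ?_⟩⟩,
      Groth.Agent.ArtHull.hfin_of_tangent_bijective P.family (P.universal _), fun x₀ σ σ' e => ?_⟩
    · obtain ⟨a, rfl⟩ := (P.universal B).2 z₁
      obtain ⟨b, rfl⟩ := (P.universal B).2 z₂
      obtain ⟨e₁, e₂⟩ := (Groth.Agent.ArtHull.cmp_eq_iff h).mp e
      rw [← P.family.natural, ← P.family.natural] at e₁ e₂
      exact congrArg _ (Subtype.ext (AlgHom.ext fun r => h.inj _ _
        (AlgHom.congr_fun (congrArg Subtype.val ((P.universal A').1 e₁)) r)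
        (AlgHom.congr_fun (congrArg Subtype.val ((P.universal A'').1 e₂)) r)))
    · obtain ⟨a, ha⟩ := (P.universal A').2 x.1.1
      obtain ⟨b, hb⟩ := (P.universal A'').2 x.1.2
      obtain ⟨c, hc₁, hc₂⟩ := Groth.Agent.ArtHull.fibreProd_lift h a b ((P.universal A).1 (by
        rw [P.family.natural, P.family.natural, ha, hb]; exact x.2))
      refine ⟨P.family.app B c, ArtFun.FibProd.ext ?_ ?_⟩
      · change F.map p' _ = _
        rw [← P.family.natural, hc₁, ha]
      · change F.map p'' _ = _
        rw [← P.family.natural, hc₂, hb]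
    · obtain ⟨φ, rfl⟩ := (P.universal _).2 x₀
      have e' : F.map σ (P.family.app _ φ) = F.map σ' (P.family.app _ φ) := e
      rw [← P.family.natural, ← P.family.natural] at e'
      refine ArtFun.Art.hom_ext (AlgHom.ext fun c => ?_)
      obtain ⟨r, hr⟩ := P.ring.res_surjective c
      have h1 : φ.1 r = c := (AlgHom.congr_fun φ.2 r).trans hr
      rw [← h1]
      exact AlgHom.congr_fun (congrArg Subtype.val ((P.universal _).1 e')) r
  · rintro ⟨⟨h0, hrs⟩, hfin, hc⟩
    have hs1 : ArtFun.S1 F := fun B A A' A'' p' p'' f' f'' h hf => (hrs p' p'' f' f'' h hf).2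
    have heps := Groth.Agent.ArtHull.heps_of_rs hrs
    obtain ⟨V, hV⟩ := Groth.Agent.ArtHull.exists_minimalVersal h0
      (Groth.Agent.ArtHull.exists_versal F h0 hs1 heps hfin)
    exact ⟨⟨V.ring, V.family, Groth.Agent.ArtHull.isUniversal_of_isMiniversal h0
      (Groth.Agent.ArtHull.hsq_of_rs hrs)
      (Groth.Agent.ArtHull.isMiniversal_of_isMinimalVersal_inj hc h0 heps hV)⟩⟩

end Groth.Agent.S12734
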