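import Groth.Statements.S12744
import Groth.Agent.ArtHull.Family
import Groth.Agent.ArtHull.Versal
import Groth.Agent.ArtHull.General
-- import your own Groth.Agent.* helpers here

set_option autoImplicit false
universe u v
open CategoryTheory
open ArtFun

namespace Groth.Agent.S12744

/-- For functors, if η : F → G is a smooth morphism of functors on Artinian local Λ-algebras with
residue field k and F(k) → G(k) is surjective, then for every complete local Noetherian R with
residue field k the induced map on formal elements over R (compatible systems of elements over the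
truncations R/m^(n+1)) is surjective. -/
theorem result {Λ : Type u} {k : Type u} [CommRing Λ] [Field k] [Algebra Λ k]
    [IsNoetherianRing Λ] [Module.Finite Λ k]
    {F G : ArtFun.Art Λ k ⥤ Type v} (η : F ⟶ G) (hη : ArtFun.IsSmooth η)
    (h0 : Function.Surjective (η.app (ArtFun.Art.base Λ k))) (R : ArtFun.CRing Λ k) :
    Function.Surjective (fun u : ArtFun.FormalElt F R => u.map η) := by
  intro v
  have hs : ∀ A : ArtFun.Art Λ k, Function.Surjective (η.app A) := fun A y => by
    obtain ⟨x, hx⟩ := h0 (G.map (ArtFun.Art.toBase A) y)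
    obtain ⟨z, -, hz⟩ := Groth.Agent.ArtHull.exists_of_relCmp_surjective (hη (ArtFun.Art.toBase A) A.res_surjective) x y hx
    exact ⟨z, hz⟩
  have hstep : ∀ n (a : F.obj (R.trunc n)), η.app _ a = v.elt n →
      ∃ b : F.obj (R.trunc (n + 1)), F.map (R.truncMap n) b = a ∧ η.app _ b = v.elt (n + 1) := fun n a ha =>
    Groth.Agent.ArtHull.exists_of_relCmp_surjective (hη (R.truncMap n) (Groth.Agent.ArtHull.truncMap_surjective R n)) a _ (ha.trans (v.compat n).symm)
  choose next hn₁ hn₂ using hstep
  choose a₀ ha₀ using hs (R.trunc 0) (v.elt 0)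
  let s : ∀ n, {a : F.obj (R.trunc n) // η.app _ a = v.elt n} :=
    fun n => Nat.rec (motive := fun n => {a : F.obj (R.trunc n) // η.app _ a = v.elt n})
      ⟨a₀, ha₀⟩ (fun n p => ⟨next n p.1 p.2, hn₂ n p.1 p.2⟩) n
  exact ⟨⟨fun n => (s n).1, fun n => hn₁ n (s n).1 (s n).2⟩, ArtFun.FormalElt.ext' fun n => (s n).2⟩

end Groth.Agent.S12744
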