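import Groth.Statements.S12746
import Groth.Agent.ArtHull.Deform
-- import your own Groth.Agent.* helpers here

set_option autoImplicit false
universe u v
open CategoryTheory
open ArtFun

namespace Groth.Agent.S12746

/-- For functors, if F, G, H are functors on Artinian local Λ-algebras with residue field k satisfying
(RS) and f : H → F, g : G → F are morphisms, then the fibre product functor H ×_F G satisfies (RS). -/
theorem result {Λ : Type u} {k : Type u} [CommRing Λ] [Field k] [Algebra Λ k]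
    [IsNoetherianRing Λ] [Module.Finite Λ k]
    {F G H : ArtFun.Art Λ k ⥤ Type v} (f : H ⟶ F) (g : G ⟶ F)
    (hF : (∀ ⦃B A A' A'' : ArtFun.Art Λ k⦄ (p' : B ⟶ A') (p'' : B ⟶ A'') (f' : A' ⟶ A) (f'' : A'' ⟶ A)
        (h : ArtFun.Art.IsFibreProd p' p'' f' f''), Function.Surjective f'' → Function.Bijective (ArtFun.cmp F h))) (hG : (∀ ⦃B A A' A'' : ArtFun.Art Λ k⦄ (p' : B ⟶ A') (p'' : B ⟶ A'') (f' : A' ⟶ A) (f'' : A'' ⟶ A)
        (h : ArtFun.Art.IsFibreProd p' p'' f' f''), Function.Surjective f'' → Function.Bijective (ArtFun.cmp G h))) (hH : (∀ ⦃B A A' A'' : ArtFun.Art Λ k⦄ (p' : B ⟶ A') (p'' : B ⟶ A'') (f' : A' ⟶ A) (f'' : A'' ⟶ A)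
        (h : ArtFun.Art.IsFibreProd p' p'' f' f''), Function.Surjective f'' → Function.Bijective (ArtFun.cmp H h))) :
    (∀ ⦃B A A' A'' : ArtFun.Art Λ k⦄ (p' : B ⟶ A') (p'' : B ⟶ A'') (f' : A' ⟶ A) (f'' : A'' ⟶ A)
        (h : ArtFun.Art.IsFibreProd p' p'' f' f''), Function.Surjective f'' → Function.Bijective (ArtFun.cmp (CategoryTheory.Limits.pullback f g) h)) := by
  intro B A A' A'' p' p'' f' f'' h hf
  refine ⟨fun z₁ z₂ e => ?_, fun x => ?_⟩
  · obtain ⟨e₁, e₂⟩ := (Groth.Agent.ArtHull.cmp_eq_iff h).mp e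
    refine Groth.Agent.ArtHull.pullback_elt_ext f g B ((hH p' p'' f' f'' h hf).1 ?_) ((hG p' p'' f' f'' h hf).1 ?_) <;>
    · refine (Groth.Agent.ArtHull.cmp_eq_iff h).mpr ⟨?_, ?_⟩
      · rw [← NatTrans.naturality_apply, ← NatTrans.naturality_apply, e₁]
      · rw [← NatTrans.naturality_apply, ← NatTrans.naturality_apply, e₂]
  obtain ⟨a, ha₁, ha₂⟩ := Groth.Agent.ArtHull.exists_of_cmp_surjective (hH p' p'' f' f'' h hf).2
    ((CategoryTheory.Limits.pullback.fst f g).app A' x.1.1) ((CategoryTheory.Limits.pullback.fst f g).app A'' x.1.2)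
    (by rw [← NatTrans.naturality_apply, ← NatTrans.naturality_apply, x.2])
  obtain ⟨b, hb₁, hb₂⟩ := Groth.Agent.ArtHull.exists_of_cmp_surjective (hG p' p'' f' f'' h hf).2
    ((CategoryTheory.Limits.pullback.snd f g).app A' x.1.1) ((CategoryTheory.Limits.pullback.snd f g).app A'' x.1.2)
    (by rw [← NatTrans.naturality_apply, ← NatTrans.naturality_apply, x.2])
  have hab : f.app B a = g.app B b := (hF p' p'' f' f'' h hf).1 ((Groth.Agent.ArtHull.cmp_eq_iff h).mpr ⟨by
      rw [← NatTrans.naturality_apply f p' a, ← NatTrans.naturality_apply g p' b, ha₁, hb₁,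
        Groth.Agent.ArtHull.pullback_elt_w], by
      rw [← NatTrans.naturality_apply f p'' a, ← NatTrans.naturality_apply g p'' b, ha₂, hb₂,
        Groth.Agent.ArtHull.pullback_elt_w]⟩)
  obtain ⟨z, hz₁, hz₂⟩ := Groth.Agent.ArtHull.exists_pullback_elt f g B a b hab
  refine ⟨z, ArtFun.FibProd.ext ?_ ?_⟩ <;> refine Groth.Agent.ArtHull.pullback_elt_ext f g _ ?_ ?_
  · change (CategoryTheory.Limits.pullback.fst f g).app A' ((CategoryTheory.Limits.pullback f g).map p' z) = _
    rw [NatTrans.naturality_apply, hz₁, ha₁]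
  · change (CategoryTheory.Limits.pullback.snd f g).app A' ((CategoryTheory.Limits.pullback f g).map p' z) = _
    rw [NatTrans.naturality_apply, hz₂, hb₁]
  · change (CategoryTheory.Limits.pullback.fst f g).app A'' ((CategoryTheory.Limits.pullback f g).map p'' z) = _
    rw [NatTrans.naturality_apply, hz₁, ha₂]
  · change (CategoryTheory.Limits.pullback.snd f g).app A'' ((CategoryTheory.Limits.pullback f g).map p'' z) = _
    rw [NatTrans.naturality_apply, hz₂, hb₂]

end Groth.Agent.S12746
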