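import Groth.Statements.S12747
import Groth.Agent.ArtHull.Deform
-- import your own Groth.Agent.* helpers here

set_option autoImplicit false
universe u v
open CategoryTheory
open ArtFun

namespace Groth.Agent.S12747

/-- For functors, let H₁ → G, H₂ → G and q : G → F be morphisms of functors on Artinian local Λ-algebras
with residue field k where F and G are deformation functors (value at k a point, condition (RS)) and
q is injective on tangent spaces. Then the induced morphism H₁ ×_G H₂ → H₁ ×_F H₂ is smooth. (The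
published statement also assumes that infinitesimal automorphisms of G map onto those of F; for
functors that condition is empty.) -/
theorem result {Λ : Type u} {k : Type u} [CommRing Λ] [Field k] [Algebra Λ k]
    [IsNoetherianRing Λ] [Module.Finite Λ k]
    {F G H₁ H₂ : ArtFun.Art Λ k ⥤ Type v} (p₁ : H₁ ⟶ G) (p₂ : H₂ ⟶ G) (q : G ⟶ F)
    (hF0 : ArtFun.H0 F) (hF : (∀ ⦃B A A' A'' : ArtFun.Art Λ k⦄ (p' : B ⟶ A') (p'' : B ⟶ A'') (f' : A' ⟶ A) (f'' : A'' ⟶ A)
        (h : ArtFun.Art.IsFibreProd p' p'' f' f''), Function.Surjective f'' → Function.Bijective (ArtFun.cmp F h)))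
    (hG0 : ArtFun.H0 G) (hG : (∀ ⦃B A A' A'' : ArtFun.Art Λ k⦄ (p' : B ⟶ A') (p'' : B ⟶ A'') (f' : A' ⟶ A) (f'' : A'' ⟶ A)
        (h : ArtFun.Art.IsFibreProd p' p'' f' f''), Function.Surjective f'' → Function.Bijective (ArtFun.cmp G h)))
    (hq : Function.Injective (ArtFun.TangentSpace.map q)) :
    ArtFun.IsSmooth (CategoryTheory.Limits.pullback.map p₁ p₂ (p₁ ≫ q) (p₂ ≫ q) (𝟙 H₁) (𝟙 H₂) q
      (CategoryTheory.Category.id_comp _).symm (CategoryTheory.Category.id_comp _).symm) := by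
  intro B A μ hμ x
  have k₁ : ∀ A z, (CategoryTheory.Limits.pullback.fst (p₁ ≫ q) (p₂ ≫ q)).app A
      ((CategoryTheory.Limits.pullback.map p₁ p₂ (p₁ ≫ q) (p₂ ≫ q) (𝟙 H₁) (𝟙 H₂) q
        (CategoryTheory.Category.id_comp _).symm (CategoryTheory.Category.id_comp _).symm).app A z) =
      (CategoryTheory.Limits.pullback.fst p₁ p₂).app A z := fun A z => by
    rw [← NatTrans.comp_app_apply, CategoryTheory.Limits.pullback.lift_fst, CategoryTheory.Category.comp_id]
  have k₂ : ∀ A z, (CategoryTheory.Limits.pullback.snd (p₁ ≫ q) (p₂ ≫ q)).app A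
      ((CategoryTheory.Limits.pullback.map p₁ p₂ (p₁ ≫ q) (p₂ ≫ q) (𝟙 H₁) (𝟙 H₂) q
        (CategoryTheory.Category.id_comp _).symm (CategoryTheory.Category.id_comp _).symm).app A z) =
      (CategoryTheory.Limits.pullback.snd p₁ p₂).app A z := fun A z => by
    rw [← NatTrans.comp_app_apply, CategoryTheory.Limits.pullback.lift_snd, CategoryTheory.Category.comp_id]
  have ha : (CategoryTheory.Limits.pullback.fst p₁ p₂).app A x.1.1 =
      H₁.map μ ((CategoryTheory.Limits.pullback.fst (p₁ ≫ q) (p₂ ≫ q)).app B x.1.2) := by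
    rw [← k₁, x.2, NatTrans.naturality_apply]
  have hb : (CategoryTheory.Limits.pullback.snd p₁ p₂).app A x.1.1 =
      H₂.map μ ((CategoryTheory.Limits.pullback.snd (p₁ ≫ q) (p₂ ≫ q)).app B x.1.2) := by
    rw [← k₂, x.2, NatTrans.naturality_apply]
  open CategoryTheory.Limits Groth.Agent.ArtHull in
  have hab : p₁.app B ((pullback.fst (p₁ ≫ q) (p₂ ≫ q)).app B x.1.2) =
      p₂.app B ((pullback.snd (p₁ ≫ q) (p₂ ≫ q)).app B x.1.2) :=
    eq_of_lifts q hF0.2 hG0.2 hF hG hq μ hμ _ _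
      (by rw [← NatTrans.naturality_apply p₁, ← NatTrans.naturality_apply p₂, ← ha, ← hb, pullback_elt_w])
      (pullback_elt_w (p₁ ≫ q) (p₂ ≫ q) B x.1.2)
  obtain ⟨z, hz₁, hz₂⟩ := Groth.Agent.ArtHull.exists_pullback_elt p₁ p₂ B _ _ hab
  refine ⟨z, Subtype.ext (Prod.ext (Groth.Agent.ArtHull.pullback_elt_ext p₁ p₂ A ?_ ?_)
    (Groth.Agent.ArtHull.pullback_elt_ext _ _ B ?_ ?_))⟩
  · change (CategoryTheory.Limits.pullback.fst p₁ p₂).app A ((CategoryTheory.Limits.pullback p₁ p₂).map μ z) = _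
    rw [NatTrans.naturality_apply, hz₁, ha]
  · change (CategoryTheory.Limits.pullback.snd p₁ p₂).app A ((CategoryTheory.Limits.pullback p₁ p₂).map μ z) = _
    rw [NatTrans.naturality_apply, hz₂, hb]
  · exact (k₁ B z).trans hz₁
  · exact (k₂ B z).trans hz₂

end Groth.Agent.S12747
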