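import Groth.Statements.S12750
import Groth.Agent.ArtHull.Essential
-- import your own Groth.Agent.* helpers here

set_option autoImplicit false
universe u v
open CategoryTheory
open ArtFun ArtFun.Art

namespace Groth.Agent.S12750

/-- (1) ⇔ (3): let f : B → A be a morphism in the category of Artinian local Λ-algebras with residue
field k, and let q_B : B → B', q_A : A → A' be the quotients by m_Λ B + m_B² and m_Λ A + m_A² (m_Λ
the kernel of Λ → k), realised as surjective morphisms with these kernels, with f' : B' → A' the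
induced morphism. Then f is an essential surjection — surjective, and every morphism g into B whose
composite with f is surjective is itself surjective — if and only if f' is. (The intermediate
equivalence with the map B/m_B² → A/m_A² is the special case Λ-structure trivialised and follows by
applying this one twice.) -/
theorem result {Λ : Type u} {k : Type u} [CommRing Λ] [Field k] [Algebra Λ k]
    [IsNoetherianRing Λ] [Module.Finite Λ k]
    {A B A' B' : ArtFun.Art Λ k} (f : B ⟶ A)
    (qB : B ⟶ B') (hqB : Function.Surjective qB)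
    (hkB : RingHom.ker qB.toAlgHom = Ideal.map (algebraMap Λ B) (RingHom.ker (algebraMap Λ k)) ⊔ IsLocalRing.maximalIdeal B ^ 2)
    (qA : A ⟶ A') (hqA : Function.Surjective qA)
    (hkA : RingHom.ker qA.toAlgHom = Ideal.map (algebraMap Λ A) (RingHom.ker (algebraMap Λ k)) ⊔ IsLocalRing.maximalIdeal A ^ 2)
    (f' : B' ⟶ A') (hf' : qB ≫ f' = f ≫ qA) :
    (Function.Surjective f ∧ ∀ (C : ArtFun.Art Λ k) (g : C ⟶ B), Function.Surjective (g ≫ f) → Function.Surjective g) ↔ (Function.Surjective f' ∧ ∀ (C : ArtFun.Art Λ k) (g : C ⟶ B'), Function.Surjective (g ≫ f') → Function.Surjective g) := by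
  have hkey : ∀ {C : ArtFun.Art Λ k} (g : C ⟶ B), Function.Surjective ((g ≫ qB) ≫ f') → Function.Surjective (g ≫ f) :=
    fun g h => ArtHull.surjective_of_comp_surjective _ qA hkA.le (by rwa [Category.assoc, hf', ← Category.assoc] at h)
  refine ⟨fun ⟨hf, hess⟩ => ⟨?_, fun C g' hg' => ?_⟩, fun ⟨hf, hess⟩ => ⟨?_, fun C g hg => ?_⟩⟩
  · intro a
    obtain ⟨b, hb⟩ := (hqA.comp hf) a
    exact ⟨qB b, (congrArg (fun φ : B ⟶ A' => φ b) hf').trans hb⟩
  · obtain ⟨P, p₁, p₂, hP⟩ := ArtHull.exists_fibreProd_of_surjective g' qB hqB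
    have hp := ArtHull.surjective_fst hP hqB
    have h1 : Function.Surjective p₂ := hess P p₂ (hkey p₂ (by
      rw [← hP.w, Category.assoc]
      exact hg'.comp hp))
    intro b
    obtain ⟨x, hx⟩ := (hqB.comp h1) b
    exact ⟨p₁ x, (hP.w_apply x).trans hx⟩
  · exact ArtHull.surjective_of_comp_surjective f qA hkA.le (hf' ▸ hf.comp hqB)
  · refine ArtHull.surjective_of_comp_surjective g qB hkB.le (hess C _ ?_)
    rw [Category.assoc, hf', ← Category.assoc]
    exact hqA.comp hg

end Groth.Agent.S12750
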