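import Groth.Statements.S12751
import Groth.Agent.ArtHull.Tangent
-- import your own Groth.Agent.* helpers here

set_option autoImplicit false
universe u v
open CategoryTheory
open scoped TensorProduct
open ArtFun ArtFun.Art

namespace Groth.Agent.S12751

/-- A morphism f : B → A in the category of Artinian local Λ-algebras with residue field k is surjective
if and only if Ω_{B/Λ} ⊗_B k → Ω_{A/Λ} ⊗_A k is surjective; by right exactness of the sequence
Ω_{B/Λ} ⊗_B A → Ω_{A/Λ} → Ω_{A/B} → 0 this surjectivity is the vanishing of Ω_{A/B} ⊗_A k, which is
how it is written here (A a B-algebra through f, k an A-module through the augmentation). -/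
theorem result {Λ : Type u} {k : Type u} [CommRing Λ] [Field k] [Algebra Λ k]
    [IsNoetherianRing Λ] [Module.Finite Λ k]
    {A B : ArtFun.Art Λ k} (f : B ⟶ A) :
    letI : Algebra B A := f.toAlgHom.toRingHom.toAlgebra
    letI : Algebra A k := A.res.toRingHom.toAlgebra
    Function.Surjective f ↔ Subsingleton (k ⊗[A] Ω[A⁄B]) := by
  letI iBA : Algebra B A := f.toAlgHom.toRingHom.toAlgebra
  letI iAk : Algebra A k := A.res.toRingHom.toAlgebra
  have hres : ∀ a, algebraMap A k a = A.res a := fun a => rfl
  have : IsScalarTower Λ A k := IsScalarTower.of_algebraMap_eq fun l => (A.res.commutes l).symm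
  have : IsScalarTower Λ B A := IsScalarTower.of_algebraMap_eq fun l => (f.toAlgHom.commutes l).symm
  constructor
  · intro hs
    have : Subsingleton (Ω[A⁄B]) := KaehlerDifferential.subsingleton_of_surjective B A hs
    infer_instance
  · intro hss
    have key : ∀ D : Derivation Λ A k, (∀ b, D (f b) = 0) → D = 0 := by
      intro D hB
      let iBk : Algebra B k := ((algebraMap A k).comp (algebraMap B A)).toAlgebra
      have : IsScalarTower B A k := IsScalarTower.of_algebraMap_eq fun b => rfl
      let D' : Derivation B A k := Derivation.mk'
        { toFun := D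
          map_add' := map_add D
          map_smul' := fun b a => by
            rw [Algebra.smul_def, show D (algebraMap B A b * a) = _ from D.leibniz _ _]
            rw [show D (algebraMap B A b) = 0 from hB b, smul_zero, add_zero, algebraMap_smul]
            rfl }
        (fun a b => D.leibniz a b)
      have hzero : (D'.liftKaehlerDifferential : Ω[A⁄B] →ₗ[A] k) = 0 := LinearMap.ext fun x => by
        have h1 : LinearMap.liftBaseChange k D'.liftKaehlerDifferential ((1 : k) ⊗ₜ[A] x) =
            D'.liftKaehlerDifferential x := by
          rw [LinearMap.liftBaseChange_tmul, one_smul]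
        rw [← h1, Subsingleton.elim ((1 : k) ⊗ₜ[A] x) 0, map_zero]
        rfl
      refine Derivation.ext fun a => ?_
      change D' a = 0
      rw [← Derivation.liftKaehlerDifferential_comp_D D' a, hzero]
      rfl
    refine @Groth.Agent.ArtHull.surjective_of_derivation Λ k _ _ _ (Groth.Agent.ArtHull.artCRing B)
      (Groth.Agent.ArtHull.artCRing A) iAk ‹IsScalarTower Λ A k› hres f.toAlgHom f.res_comp fun D₁ D₂ h => ?_
    let E₁ : Derivation Λ A k := D₁
    let E₂ : Derivation Λ A k := D₂
    have := key (E₁ - E₂) fun b => sub_eq_zero.2 (h b)
    exact sub_eq_zero.1 this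

end Groth.Agent.S12751
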