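import Groth.Statements.S12752
import Groth.Agent.ArtHull.KaehlerResidue
-- import your own Groth.Agent.* helpers here

set_option autoImplicit false
universe u v
open CategoryTheory
open scoped TensorProduct
open ArtFun ArtFun.Art

namespace Groth.Agent.S12752

/-- (a) ⇔ (c): a morphism f : B → A in the category of Artinian local Λ-algebras with residue field k is
an essential surjection (surjective, and any morphism g into B with g followed by f surjective is
surjective) if and only if the map Ω_{B/Λ} ⊗_B k → Ω_{A/Λ} ⊗_A k is an isomorphism of k-vector
spaces. These spaces are finite-dimensional, so the isomorphism condition is written as: the map is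
surjective (that is, Ω_{A/B} ⊗_A k = 0) and the two spaces have equal dimension. -/
theorem result {Λ : Type u} {k : Type u} [CommRing Λ] [Field k] [Algebra Λ k]
    [IsNoetherianRing Λ] [Module.Finite Λ k]
    {A B : ArtFun.Art Λ k} (f : B ⟶ A) :
    letI : Algebra B A := f.toAlgHom.toRingHom.toAlgebra
    letI : Algebra A k := A.res.toRingHom.toAlgebra
    letI : Algebra B k := B.res.toRingHom.toAlgebra
    (Function.Surjective f ∧ ∀ (C : ArtFun.Art Λ k) (g : C ⟶ B), Function.Surjective (g ≫ f) → Function.Surjective g) ↔
      (Subsingleton (k ⊗[A] Ω[A⁄B]) ∧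
        Module.finrank k (k ⊗[B] Ω[B⁄Λ]) = Module.finrank k (k ⊗[A] Ω[A⁄Λ])) := by
  letI : Algebra B A := f.toAlgHom.toRingHom.toAlgebra
  letI : Algebra A k := A.res.toRingHom.toAlgebra
  letI : Algebra B k := B.res.toRingHom.toAlgebra
  have : IsScalarTower Λ B A := IsScalarTower.of_algebraMap_eq fun l => (f.toAlgHom.commutes l).symm
  have : IsScalarTower Λ A k := IsScalarTower.of_algebraMap_eq fun l => (A.res.commutes l).symm
  have : IsScalarTower Λ B k := IsScalarTower.of_algebraMap_eq fun l => (B.res.commutes l).symm
  have : IsScalarTower B A k := IsScalarTower.of_algebraMap_eq fun b => (ArtFun.Art.res_app f b).symm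
  have := ArtHull.finite_carrier_of_finite B
  have hfin : Module.Finite B Ω[B⁄Λ] := inferInstance
  have key := fun hf : Function.Surjective (algebraMap B A) =>
    (ArtHull.finrank_eq_iff_forall_derivation Λ B A k hf).trans
      (ArtHull.essential_iff_forall_derivation f hf fun _ => rfl).symm
  constructor
  · rintro ⟨hf, hess⟩
    have : Subsingleton Ω[A⁄B] := KaehlerDifferential.subsingleton_of_surjective B A hf
    exact ⟨inferInstance, (key hf).2 hess⟩
  · rintro ⟨hsub, hdim⟩
    have hf : Function.Surjective f := by
      let : Algebra (ArtHull.artCRing A).carrier k := A.res.toRingHom.toAlgebra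
      have : IsScalarTower Λ (ArtHull.artCRing A).carrier k :=
        IsScalarTower.of_algebraMap_eq fun l => (A.res.commutes l).symm
      refine ArtHull.surjective_of_derivation (ArtHull.artCRing B) (ArtHull.artCRing A) (fun _ => rfl)
        f.toAlgHom f.res_comp fun D₁ D₂ hD => Derivation.ext fun a => ?_
      change A.carrier at a
      let E₁ : Derivation Λ A k := D₁
      let E₂ : Derivation Λ A k := D₂
      have hE : ∀ b, E₁ (algebraMap B A b) = E₂ (algebraMap B A b) := hD
      let d : Derivation B A k := Derivation.mk'
        { toFun := fun a => (E₁ - E₂) a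
          map_add' := fun x y => map_add _ x y
          map_smul' := fun b x => by
            rw [RingHom.id_apply, Algebra.smul_def b x, Derivation.leibniz]
            simp only [Derivation.sub_apply, hE b, sub_self, smul_zero, add_zero,
              IsScalarTower.algebraMap_smul] }
        (fun x y => Derivation.leibniz (E₁ - E₂) x y)
      have h0 : (1 : k) ⊗ₜ[A] KaehlerDifferential.D B A a = 0 := Subsingleton.elim _ _
      have h1 := congrArg (LinearMap.liftBaseChange k d.liftKaehlerDifferential) h0
      rw [LinearMap.liftBaseChange_tmul, map_zero, one_smul,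
        Derivation.liftKaehlerDifferential_comp_D] at h1
      exact sub_eq_zero.1 h1
    exact ⟨hf, (key hf).1 hdim⟩

end Groth.Agent.S12752
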