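import Groth.Statements.S12753
import Groth.Agent.ArtHull.Essential
-- import your own Groth.Agent.* helpers here

set_option autoImplicit false
universe u v
open CategoryTheory
open ArtFun ArtFun.Art

namespace Groth.Agent.S12753

/-- Suppose k is separable over the image of Λ → k. A morphism f : B → A in the category of Artinian
local Λ-algebras with residue field k is an essential surjection (surjective, and any morphism g
into B with g followed by f surjective is surjective) if and only if the map of cotangent spaces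
relative to Λ, m_B/(m_Λ B + m_B²) → m_A/(m_Λ A + m_A²), is an isomorphism; surjectivity and
injectivity are written out in terms of ideals, m_Λ being the kernel of Λ → k. -/
theorem result {Λ : Type u} {k : Type u} [CommRing Λ] [Field k] [Algebra Λ k]
    [IsNoetherianRing Λ] [Module.Finite Λ k]
    [Algebra.IsSeparable (↥(algebraMap Λ k).range) k]
    {A B : ArtFun.Art Λ k} (f : B ⟶ A) :
    (Function.Surjective f ∧ ∀ (C : ArtFun.Art Λ k) (g : C ⟶ B), Function.Surjective (g ≫ f) → Function.Surjective g) ↔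
      (Ideal.map (algebraMap Λ A) (RingHom.ker (algebraMap Λ k)) ⊔ Ideal.map f.toAlgHom (IsLocalRing.maximalIdeal B) ⊔ IsLocalRing.maximalIdeal A ^ 2 =
          IsLocalRing.maximalIdeal A ∧
        ∀ b ∈ IsLocalRing.maximalIdeal B, f b ∈ Ideal.map (algebraMap Λ A) (RingHom.ker (algebraMap Λ k)) ⊔ IsLocalRing.maximalIdeal A ^ 2 →
          b ∈ Ideal.map (algebraMap Λ B) (RingHom.ker (algebraMap Λ k)) ⊔ IsLocalRing.maximalIdeal B ^ 2) := by
  refine ⟨fun ⟨hf, hess⟩ => ⟨((S12709.result f).out 0 2).1 hf, fun b hb hfb => ?_⟩, fun ⟨h1, h2⟩ => ?_⟩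
  · have hle : ArtHull.relW A ≤ Ideal.map f.toAlgHom (ArtHull.relW B) := by
      rw [ArtHull.relW, ArtHull.relW, Ideal.map_sup, Ideal.map_pow]
      refine sup_le_sup (Ideal.map_le_iff_le_comap.2 fun l hl => ?_) (Ideal.pow_right_mono (fun a ha => ?_) 2)
      · rw [Ideal.mem_comap, ← f.toAlgHom.commutes l]
        exact Ideal.mem_map_of_mem _ (Ideal.mem_map_of_mem _ hl)
      · obtain ⟨b, rfl⟩ := hf a
        exact Ideal.mem_map_of_mem _ ((ArtFun.Art.mem_maximalIdeal_iff B b).2
          ((ArtFun.Art.res_app f b).symm.trans ((ArtFun.Art.mem_maximalIdeal_iff A _).1 ha)))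
    obtain ⟨w, hw, hwb⟩ := (Ideal.mem_map_iff_of_surjective f.toAlgHom hf).1 (hle hfb)
    have h0 := ArtHull.ker_le_relW_of_essential ArtHull.subsingleton_derivation_of_isSeparable f hf hess
      (show b - w ∈ RingHom.ker f.toAlgHom by rw [RingHom.mem_ker, map_sub, hwb]; exact sub_self _)
    simpa using add_mem h0 hw
  · refine ⟨((S12709.result f).out 0 2).2 h1, fun C g hg => ArtHull.surjective_of_maximalIdeal_le g fun b hb => ?_⟩
    obtain ⟨c, hc⟩ := hg (f b)
    have hres : C.res c = 0 := by
      rw [← ArtFun.Art.res_app (g ≫ f) c, hc, ArtFun.Art.res_app]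
      exact (ArtFun.Art.mem_maximalIdeal_iff B b).1 hb
    refine ⟨c, (ArtFun.Art.mem_maximalIdeal_iff C c).2 hres, h2 _ (sub_mem hb ?_) ?_⟩
    · rw [ArtFun.Art.mem_maximalIdeal_iff, ArtFun.Art.res_app, hres]
    · rw [map_sub, show f (g c) = f b from hc, sub_self]
      exact zero_mem _

end Groth.Agent.S12753
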