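import Groth.Statements.S12754
-- import your own Groth.Agent.* helpers here

set_option autoImplicit false
universe u
open CategoryTheory
open ArtFun

namespace Groth.Agent.S12754

open CategoryTheory

variable {K : Type u} [Field K]

/-- A linear map as a morphism of `FGModuleCat`. -/
def mk {V W : FGModuleCat.{u} K} (f : V →ₗ[K] W) : V ⟶ W :=
  ObjectProperty.homMk (ModuleCat.ofHom f)

@[simp] lemma mk_hom {V W : FGModuleCat.{u} K} (f : V →ₗ[K] W) : (mk f).hom.hom = f := rfl

lemma mk_add {V W : FGModuleCat.{u} K} (f g : V →ₗ[K] W) : mk (f + g) = mk f + mk g := rfl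

lemma mk_smul {V W : FGModuleCat.{u} K} (a : K) (f : V →ₗ[K] W) : mk (a • f) = a • mk f := rfl

/-- The line through `v`. -/
def line (V : FGModuleCat.{u} K) (v : V) : FGModuleCat.of K K ⟶ V :=
  mk (LinearMap.toSpanSingleton K V v)

variable (L : FGModuleCat.{u} K ⥤ ModuleCat.{u} K) [L.Additive] [Functor.Linear K L]

/-- `v ↦ L(line v)`. -/
def lineMap (V : FGModuleCat.{u} K) :
    V →ₗ[K] (L.obj (FGModuleCat.of K K) →ₗ[K] L.obj V) where
  toFun v := (L.map (line V v)).hom
  map_add' v w := by
    have h : line V (v + w) = line V v + line V w := by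
      apply FGModuleCat.hom_ext; apply LinearMap.ext; intro a; exact smul_add a v w
    rw [h, Functor.map_add]; rfl
  map_smul' a v := by
    have h : line V (a • v) = a • line V v := by
      apply FGModuleCat.hom_ext; apply LinearMap.ext; intro c; exact smul_comm c a v
    rw [h, Functor.map_smul]; rfl

/-- The comparison map. -/
def theta (V : FGModuleCat.{u} K) :
    TensorProduct K (L.obj (FGModuleCat.of K K)) V →ₗ[K] L.obj V :=
  TensorProduct.lift (lineMap L V).flip

lemma theta_tmul (V : FGModuleCat.{u} K) (x : L.obj (FGModuleCat.of K K)) (v : V) :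
    theta L V (TensorProduct.tmul K x v) = (L.map (line V v)).hom x := rfl

lemma theta_bijective (V : FGModuleCat.{u} K) : Function.Bijective (theta L V) := by
  classical
  let b := Module.finBasis K V
  let inv : L.obj V →ₗ[K] TensorProduct K (L.obj (FGModuleCat.of K K)) V :=
    ∑ i, ((TensorProduct.mk K (L.obj (FGModuleCat.of K K)) V).flip (b i)).comp
      (L.map (mk (V := V) (W := FGModuleCat.of K K) (b.coord i))).hom
  have h1 : ∀ y, theta L V (inv y) = y := by
    intro y
    have hid : (∑ i, mk (V := V) (W := FGModuleCat.of K K) (b.coord i) ≫ line V (b i)) = 𝟙 V := by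
      apply FGModuleCat.hom_ext
      have : ∀ (s : Finset (Fin (Module.finrank K V))) (F : Fin (Module.finrank K V) → (V ⟶ V)),
          (∑ i ∈ s, F i).hom.hom = ∑ i ∈ s, (F i).hom.hom := by
        intro s F
        induction s using Finset.induction_on with
        | empty => rfl
        | insert a s ha ih =>
          rw [Finset.sum_insert ha, Finset.sum_insert ha, ← ih]
          rfl
      rw [this]
      apply LinearMap.ext
      intro v
      rw [LinearMap.sum_apply]
      exact b.sum_repr v
    have := congrArg (fun m => (L.map m).hom y) hid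
    simp only [Functor.map_sum, ModuleCat.hom_sum, LinearMap.sum_apply, Functor.map_comp,
      ModuleCat.hom_comp, LinearMap.comp_apply, CategoryTheory.Functor.map_id, ModuleCat.hom_id,
      LinearMap.id_apply] at this
    simp only [inv, LinearMap.sum_apply, LinearMap.comp_apply, LinearMap.flip_apply,
      TensorProduct.mk_apply, map_sum, theta_tmul]
    exact this
  have h2 : inv.comp (theta L V) = LinearMap.id := by
    apply TensorProduct.ext'
    intro x v
    rw [LinearMap.comp_apply, theta_tmul, LinearMap.id_apply]
    simp only [inv, LinearMap.sum_apply, LinearMap.comp_apply, LinearMap.flip_apply,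
      TensorProduct.mk_apply]
    have hc : ∀ i, (L.map (mk (V := V) (W := FGModuleCat.of K K) (b.coord i))).hom
        ((L.map (line V v)).hom x) = b.coord i v • x := by
      intro i
      have hcomp : line V v ≫ mk (V := V) (W := FGModuleCat.of K K) (b.coord i) =
          b.coord i v • 𝟙 (FGModuleCat.of K K) := by
        apply FGModuleCat.hom_ext; apply LinearMap.ext; intro a
        change b.coord i (a • v) = b.coord i v * a
        rw [map_smul, smul_eq_mul, mul_comm]
      have := congrArg (fun m => (L.map m).hom x) hcomp
      simp only [Functor.map_comp, Functor.map_smul, CategoryTheory.Functor.map_id] at this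
      exact this
    simp only [hc, TensorProduct.smul_tmul]
    rw [← TensorProduct.tmul_sum]
    congr 1
    exact b.sum_repr v
  exact Function.bijective_iff_has_inverse.mpr ⟨inv, fun z => LinearMap.congr_fun h2 z, h1⟩

open MonoidalCategory in
/-- The isomorphism of functors. -/
noncomputable def iso : L ≅ (ModuleCat.isFG.{u} K).ι ⋙ tensorLeft (L.obj (FGModuleCat.of K K)) :=
  (NatIso.ofComponents
    (F := (ModuleCat.isFG.{u} K).ι ⋙ tensorLeft (L.obj (FGModuleCat.of K K))) (G := L)
    (fun V => (LinearEquiv.ofBijective (theta L V) (theta_bijective L V)).toModuleIso)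
    (fun {V W} g => by
      apply ModuleCat.hom_ext
      apply TensorProduct.ext'
      intro x v
      change theta L W (TensorProduct.tmul K x (g.hom.hom v)) =
        (L.map g).hom (theta L V (TensorProduct.tmul K x v))
      rw [theta_tmul, theta_tmul]
      have h : line V v ≫ g = line W (g.hom.hom v) := by
        apply FGModuleCat.hom_ext; apply LinearMap.ext; intro a; exact map_smul g.hom.hom a v
      rw [← h, Functor.map_comp]
      rfl)).symm

/-- A K-linear functor L from finite-dimensional K-vector spaces to K-vector spaces (K a field) is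
isomorphic to the functor V ↦ L(K) ⊗_K V. (Existence of an isomorphism of functors, which is how the
published statement reads; the natural choice sends x ⊗ v to L(f_v)(x) with f_v : K → V, 1 ↦ v.) -/
theorem result (K : Type u) [Field K]
    (L : FGModuleCat.{u} K ⥤ ModuleCat.{u} K) [L.Additive] [Functor.Linear K L] :
    Nonempty (L ≅ (ModuleCat.isFG.{u} K).ι ⋙ MonoidalCategory.tensorLeft (L.obj (FGModuleCat.of K K))) := by
  exact ⟨iso L⟩

end Groth.Agent.S12754
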