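import Groth.Statements.S12755
import Groth.Agent.ArtHull.Family
import Groth.Agent.ArtHull.Versal
import Groth.Agent.ArtHull.General
-- import your own Groth.Agent.* helpers here

set_option autoImplicit false
universe u v
open CategoryTheory
open ArtFun

namespace Groth.Agent.S12755

/-- For functors on Artinian local Λ-algebras with residue field k, the composite of two smooth
morphisms φ : F → G and ψ : G → H is smooth. -/
theorem result {Λ : Type u} {k : Type u} [CommRing Λ] [Field k] [Algebra Λ k]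
    [IsNoetherianRing Λ] [Module.Finite Λ k]
    {F G H : ArtFun.Art Λ k ⥤ Type v} (φ : F ⟶ G) (ψ : G ⟶ H)
    (hφ : ArtFun.IsSmooth φ) (hψ : ArtFun.IsSmooth ψ) : ArtFun.IsSmooth (φ ≫ ψ) := by
  intro B A μ hμ x
  obtain ⟨y, hy₁, hy₂⟩ := Groth.Agent.ArtHull.exists_of_relCmp_surjective (hψ μ hμ) (φ.app A x.1.1) x.1.2 x.2
  obtain ⟨z, hz₁, hz₂⟩ := Groth.Agent.ArtHull.exists_of_relCmp_surjective (hφ μ hμ) x.1.1 y hy₁.symm
  refine ⟨z, Subtype.ext (Prod.ext hz₁ ?_)⟩
  change ψ.app B (φ.app B z) = _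
  rw [hz₂, hy₂]

end Groth.Agent.S12755
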