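import Groth.Statements.S12758
import Groth.Agent.ArtHull.Tangent
-- import your own Groth.Agent.* helpers here

set_option autoImplicit false
universe u v
open CategoryTheory
open ArtFun

namespace Groth.Agent.S12758

/-- For functors, two minimal versal families of a functor F on Artinian local Λ-algebras with residue
field k with F(k) a point — over complete local Noetherian coefficient rings R₁, R₂ with residue
field k — are isomorphic: there is an isomorphism R₁ ≅ R₂ over Λ, compatible with the augmentations,
along which the formal element of the first family pushes forward to that of the second. -/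
theorem result {Λ : Type u} {k : Type u} [CommRing Λ] [Field k] [Algebra Λ k]
    [IsNoetherianRing Λ] [Module.Finite Λ k]
    {F : ArtFun.Art Λ k ⥤ Type v} (h0 : ArtFun.H0 F) {R₁ R₂ : ArtFun.CRing Λ k}
    (ξ₁ : ArtFun.Family R₁.carrier R₁.res F) (ξ₂ : ArtFun.Family R₂.carrier R₂.res F)
    (h₁ : ξ₁.IsMinimalVersal) (h₂ : ξ₂.IsMinimalVersal) :
    ∃ (e : R₁.carrier ≃ₐ[Λ] R₂.carrier) (he : R₂.res.comp (e : R₁.carrier →ₐ[Λ] R₂.carrier) = R₁.res),
      (ξ₁.along (e : R₁.carrier →ₐ[Λ] R₂.carrier) he).toFormalElt = ξ₂.toFormalElt := by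
  obtain ⟨e, he, hea⟩ := Groth.Agent.ArtHull.exists_along_of_h0 h₁.1 h0 ξ₂
  obtain ⟨d, hd, hda⟩ := Groth.Agent.ArtHull.exists_along_of_h0 h₂.1 h0 ξ₁
  have hes : Function.Surjective e := h₂.2 R₁ ξ₁.toFormalElt e he
    (by rw [Groth.Agent.ArtHull.push_eq_along, hea])
  have hds : Function.Surjective d := h₁.2 R₂ ξ₂.toFormalElt d hd
    (by rw [Groth.Agent.ArtHull.push_eq_along, hda])
  have hinj : Function.Injective (d.comp e) :=
    Groth.Agent.ArtHull.injective_of_surjective_endo (d.comp e).toRingHom (hds.comp hes)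
  let E := AlgEquiv.ofBijective e ⟨fun a b h => hinj (congrArg d h), hes⟩
  refine ⟨E, he, ?_⟩
  exact congrArg _ hea

end Groth.Agent.S12758
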