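import Groth.Statements.S12794
import Groth.Agent.Fib.Yoneda
import Groth.Agent.Fib.Basic

set_option autoImplicit false
open CategoryTheory
universe w v u
open Stk

namespace Groth.Agent.S12794

/-- Let `𝒳`, `𝒴` be stacks in groupoids over `C` for the topology `J` and `F : 𝒳 ⟶ 𝒴` a functor over `C`
whose underlying functor is fully faithful. Then `F` is an equivalence over `C` if and only if every
object `y` of `𝒴` is locally in the essential image: there is a covering sieve `R` of the object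
under `y` such that for every arrow `f` of `R` some object `x` of `𝒳` has a morphism `F x ⟶ y` lying
over `f` (equivalently, the pullback of `y` along `f` is isomorphic in its fibre to an object in the
image of `F`). (The published statement is for stacks over the site, not necessarily in groupoids,
and 1-morphisms of stacks; this row treats stacks in groupoids.) -/
theorem result {C : Type u} [Category.{v} C] (J : GrothendieckTopology C) {𝒳 𝒴 : BasedCategory.{v, max u v} C}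
    (h𝒳 : Stk.IsStack J 𝒳) (h𝒴 : Stk.IsStack J 𝒴) (F : 𝒳 ⥤ᵇ 𝒴) [F.toFunctor.Full] [F.toFunctor.Faithful] :
    FibCat.IsEquivOver F ↔
      ∀ y : 𝒴.obj, ∃ R ∈ J (𝒴.p.obj y), ∀ ⦃V : C⦄ (f : V ⟶ 𝒴.p.obj y), R f →
        ∃ (x : 𝒳.obj) (φ : F.obj x ⟶ y), 𝒴.p.IsHomLift f φ := by
  constructor
  · intro hF y
    refine ⟨⊤, J.top_mem _, fun V f _ => ?_⟩
    obtain ⟨ξ, e, he⟩ := Groth.Agent.Fib.exists_iso_over_of_isEquivOver hF y
    have hξ : 𝒳.p.obj ξ = 𝒴.p.obj y :=
      (F.w_obj ξ).symm.trans (IsHomLift.domain_eq 𝒴.p (𝟙 (𝒴.p.obj y)) e.hom)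
    obtain ⟨z, φ, hφ⟩ := Groth.Agent.Fib.exists_lift _ h𝒳.1 hξ f
    refine ⟨z, F.toFunctor.map φ ≫ e.hom, ?_⟩
    have : 𝒴.p.IsHomLift f (F.toFunctor.map φ) := BasedFunctor.preserves_isHomLift F f φ
    have : 𝒴.p.IsHomLift (f ≫ 𝟙 _) (F.toFunctor.map φ ≫ e.hom) := inferInstance
    simpa using this
  intro h
  refine Groth.Agent.Fib.isEquivOver_of_exists_iso_over F fun η => ?_
  obtain ⟨R, hR, hloc⟩ := h η
  haveI : 𝒴.p.IsFibered := Groth.Agent.Fib.isFibered_of_isFibGrpd _ h𝒴.1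
  obtain ⟨H, -, eH, heH⟩ := Groth.Agent.Fib.exists_basedFunctor (𝒳 := 𝒴)
    (⟨η, rfl⟩ : 𝒴.p.Fiber (𝒴.p.obj η))
  choose x φ hφ using fun a : (Stk.sieveCat R).obj => hloc a.obj.hom a.property
  have hex : ∀ a : (Stk.sieveCat R).obj, ∃ m : F.obj (x a) ≅ H.obj a.obj,
      𝒴.p.IsHomLift (𝟙 a.obj.left) m.hom := by
    intro a
    have := hφ a
    have := Groth.Agent.Fib.map_toId_isHomLift H a.obj
    have := heH
    have : 𝒴.p.IsHomLift (a.obj.hom ≫ 𝟙 _) (H.map (Groth.Agent.Fib.toId a.obj) ≫ eH.hom) :=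
      inferInstance
    rw [Category.comp_id] at this
    have := Groth.Agent.Fib.isStronglyCartesian_of_isFibGrpd _ h𝒴.1 a.obj.hom
      (H.map (Groth.Agent.Fib.toId a.obj) ≫ eH.hom)
    obtain ⟨m, ⟨hm, -⟩, -⟩ := CategoryTheory.Functor.IsStronglyCartesian.universal_property 𝒴.p a.obj.hom
      (H.map (Groth.Agent.Fib.toId a.obj) ≫ eH.hom) (𝟙 a.obj.left) a.obj.hom
      (Category.id_comp _).symm (φ a)
    have := Groth.Agent.Fib.isIso_of_isHomLift _ h𝒴.1 (𝟙 a.obj.left) m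
    exact ⟨asIso m, hm⟩
  choose ε hε using hex
  have hobj : ∀ a : (Stk.sieveCat R).obj, 𝒳.p.obj (x a) = a.obj.left := fun a =>
    (F.w_obj (x a)).symm.trans (have := hε a; IsHomLift.domain_eq 𝒴.p (𝟙 a.obj.left) (ε a).hom)
  let G₀ : (Stk.sieveCat R).obj ⥤ 𝒳.obj :=
    { obj := x
      map := fun {a b} g => F.toFunctor.preimage ((ε a).hom ≫ H.map g.hom ≫ (ε b).inv)
      map_id := fun a => F.toFunctor.map_injective (by
        simp only [Functor.map_preimage]
        erw [H.toFunctor.map_id]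
        simp)
      map_comp := fun g h => F.toFunctor.map_injective (by
        simp only [Functor.map_preimage, Functor.map_comp]
        erw [H.toFunctor.map_comp]
        simp) }
  have hlift : ∀ {a b : (Stk.sieveCat R).obj} (g : a ⟶ b),
      𝒳.p.IsHomLift g.hom.left (G₀.map g) := by
    intro a b g
    rw [← BasedFunctor.isHomLift_iff F]
    change 𝒴.p.IsHomLift _ (F.toFunctor.map (F.toFunctor.preimage _))
    rw [Functor.map_preimage]
    have := hε a
    have := hε b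
    have : (FibCat.overCat (𝒴.p.obj η)).p.IsHomLift g.hom.left g.hom :=
      IsHomLift.map (FibCat.overCat (𝒴.p.obj η)).p g.hom
    have : 𝒴.p.IsHomLift g.hom.left (H.map g.hom) := BasedFunctor.preserves_isHomLift H _ _
    infer_instance
  let G : Stk.sieveCat R ⥤ᵇ 𝒳 :=
    { toFunctor := G₀
      w := CategoryTheory.Functor.ext hobj fun a b g => by
        have := hlift g
        exact CategoryTheory.IsHomLift.fac' 𝒳.p g.hom.left (G₀.map g) }
  let i₁ : BasedFunctor.comp G F ≅ (Stk.resSieve R 𝒴).obj H :=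
    Groth.Agent.Fib.isoMk (fun a => ε a) (fun {a b} g => by
      show F.toFunctor.map (F.toFunctor.preimage _) ≫ (ε b).hom = (ε a).hom ≫ H.map g.hom
      simp) hε
  haveI : (Stk.resSieve R 𝒳).IsEquivalence := h𝒳.2 R hR
  haveI : (Stk.resSieve R 𝒴).IsEquivalence := h𝒴.2 R hR
  let G' := (Stk.resSieve R 𝒳).objPreimage G
  let i₂ : (Stk.resSieve R 𝒴).obj (BasedFunctor.comp G' F) ≅ BasedFunctor.comp G F :=
    Groth.Agent.Fib.isoWhiskerRight ((Stk.resSieve R 𝒳).objObjPreimageIso G) F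
  let i := (Stk.resSieve R 𝒴).preimageIso (i₂ ≪≫ i₁)
  refine ⟨G'.obj (Over.mk (𝟙 (𝒴.p.obj η))),
    Groth.Agent.Fib.appIso i (Over.mk (𝟙 (𝒴.p.obj η))) ≪≫ eH, ?_⟩
  have h1 : 𝒴.p.IsHomLift (𝟙 (𝒴.p.obj η))
      (Groth.Agent.Fib.appIso i (Over.mk (𝟙 (𝒴.p.obj η)))).hom :=
    Groth.Agent.Fib.appIso_isHomLift i (Over.mk (𝟙 (𝒴.p.obj η)))
  have := heH
  have : 𝒴.p.IsHomLift (𝟙 (𝒴.p.obj η) ≫ 𝟙 _)
      ((Groth.Agent.Fib.appIso i (Over.mk (𝟙 (𝒴.p.obj η)))).hom ≫ eH.hom) := inferInstance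
  rw [Category.comp_id] at this
  exact this

end Groth.Agent.S12794
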