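import Groth.Statements.S12797
import Groth.Agent.AlgStB.PshStack
import Groth.Agent.AlgStB.Invariance
-- import your own Groth.Agent.* helpers here

set_option autoImplicit false
open CategoryTheory
universe w v u
open Stk

set_option backward.isDefEq.respectTransparency false
set_option backward.isDefEq.respectTransparency.types false

namespace Groth.Agent.S12797

variable {C : Type u} [Category.{v} C]

/-- The slice category as the category of elements of the representable presheaf. -/
def toPsh (U : C) : FibCat.overCat U ⥤ᵇ Stk.ofPsh (yoneda.obj U) where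
  toFunctor :=
    { obj := fun a => ⟨a.left, a.hom⟩
      map := fun φ => ⟨φ.left, Over.w φ⟩ }
  w := rfl

/-- Its inverse. -/
def ofPsh' (U : C) : Stk.ofPsh (yoneda.obj U) ⥤ᵇ FibCat.overCat U where
  toFunctor :=
    { obj := fun a => Over.mk (Y := a.base) a.sec
      map := fun φ => Over.homMk φ.hom φ.map_sec }
  w := rfl

theorem isEquivOver_toPsh (U : C) : FibCat.IsEquivOver (toPsh U) := by
  refine ⟨ofPsh' U, ⟨?_⟩, ⟨?_⟩⟩
  · exact Fib.isoMk (fun a => Iso.refl _) (fun φ => by
      rw [Iso.refl_hom, Iso.refl_hom, Category.id_comp, Category.comp_id]; rfl)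
      (fun a => IsHomLift.id rfl)
  · exact Fib.isoMk (fun a => Iso.refl _) (fun φ => by
      rw [Iso.refl_hom, Iso.refl_hom, Category.id_comp, Category.comp_id]; rfl)
      (fun a => IsHomLift.id rfl)


/-- For an object `U` of `C`, the slice category `C/U` with its forgetful functor to `C` is a stack in
groupoids for the topology `J` if and only if the representable presheaf `h_U` is a sheaf for `J`. -/
theorem result {C : Type u} [Category.{v} C] (J : GrothendieckTopology C) (U : C) :
    Stk.IsStack J (FibCat.overCat U) ↔ Presieve.IsSheaf J (yoneda.obj U) := by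
  rw [AlgStB.isStack_iff_of_isEquivOver (isEquivOver_toPsh U) J]
  exact ⟨AlgStB.isSheaf_of_isStack_ofPsh, AlgStB.isStack_ofPsh_of_isSheaf⟩

end Groth.Agent.S12797
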