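import Groth.Statements.S12798
import Groth.Agent.StkLocal.Vert

set_option autoImplicit false
open CategoryTheory
universe w v u
open Stk

set_option backward.isDefEq.respectTransparency false
set_option backward.isDefEq.respectTransparency.types false

namespace Groth.Agent.S12798

/-- Let `𝒮₁`, `𝒮₂`, `𝒯₁` be stacks in groupoids over `C` for the topology `J`, and `F : 𝒮₂ ⟶ 𝒮₁`, `G :
𝒯₁ ⟶ 𝒮₁` functors over `C` such that every object of `𝒮₁` is locally in the essential image of `F`.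
If the first projection `𝒮₂ ×_{𝒮₁} 𝒯₁ ⟶ 𝒮₂` of the 2-fibre product over `C` is faithful, then `G` is
faithful. (The published statement is for any 2-cartesian square of stacks in groupoids; this row is
the case of the explicit 2-fibre product, to which the general case reduces because faithfulness is
invariant under equivalence.) -/
theorem result {C : Type u} [Category.{v} C] (J : GrothendieckTopology C) {𝒮₁ 𝒮₂ 𝒯₁ : BasedCategory.{v, max u v} C}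
    (h₁ : Stk.IsStack J 𝒮₁) (h₂ : Stk.IsStack J 𝒮₂) (h₃ : Stk.IsStack J 𝒯₁) (F : 𝒮₂ ⥤ᵇ 𝒮₁) (G : 𝒯₁ ⥤ᵇ 𝒮₁)
    (hF : ∀ y : 𝒮₁.obj, ∃ R ∈ J (𝒮₁.p.obj y), ∀ ⦃V : C⦄ (f : V ⟶ 𝒮₁.p.obj y), R f →
      ∃ (x : 𝒮₂.obj) (φ : F.obj x ⟶ y), 𝒮₁.p.IsHomLift f φ)
    (hG' : (FibCat.fpFst F G).toFunctor.Faithful) : G.toFunctor.Faithful := by
  refine ⟨fun {a b} φ ψ hφψ => ?_⟩
  let U := 𝒮₁.p.obj (G.obj a)
  let f : U ⟶ 𝒮₁.p.obj (G.obj b) := 𝒮₁.p.map (G.map ψ)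
  haveI : 𝒯₁.p.IsHomLift f ψ := (BasedFunctor.isHomLift_iff G f ψ).1 (IsHomLift.map 𝒮₁.p (G.map ψ))
  haveI : 𝒯₁.p.IsHomLift f φ := (BasedFunctor.isHomLift_iff G f φ).1 (by
    rw [show G.map φ = G.map ψ from hφψ]; exact IsHomLift.map 𝒮₁.p (G.map ψ))
  obtain ⟨α, hαlift, hαψ⟩ := Groth.Agent.StkLocal.exists_endo h₃.1 f φ ψ
  haveI := hαlift
  haveI : 𝒮₁.p.IsHomLift (𝟙 U) (𝟙 (G.obj a)) := IsHomLift.id rfl
  have hGα : G.map α = 𝟙 _ := by
    haveI : 𝒮₁.p.IsStronglyCartesian f (G.map ψ) := Groth.Agent.Fib.isStronglyCartesian_of_isFibGrpd _ h₁.1 _ _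
    refine Functor.IsStronglyCartesian.ext 𝒮₁.p f (G.map ψ) (𝟙 U) ?_
    rw [Category.id_comp, ← Functor.map_comp, hαψ]
    exact hφψ
  obtain ⟨R, hR, hR'⟩ := hF (G.obj a)
  suffices α = 𝟙 a by rw [← hαψ, this, Category.id_comp]
  refine Groth.Agent.StkLocal.eq_id_of_local h₃ (G.w_obj a).symm α R hR fun V g hg a' l hl β hβ hβl => ?_
  haveI := hl; haveI := hβ
  haveI : 𝒮₁.p.IsHomLift (𝟙 V) (G.map β) := inferInstance
  have hGβ : G.map β = 𝟙 _ := by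
    haveI : 𝒮₁.p.IsStronglyCartesian g (G.map l) := Groth.Agent.Fib.isStronglyCartesian_of_isFibGrpd _ h₁.1 _ _
    haveI : 𝒮₁.p.IsHomLift (𝟙 V) (𝟙 (G.obj a')) := IsHomLift.id (IsHomLift.domain_eq 𝒮₁.p g (G.map l))
    refine Functor.IsStronglyCartesian.ext 𝒮₁.p g (G.map l) (𝟙 V) ?_
    rw [← Functor.map_comp, hβl, Functor.map_comp, hGα, Category.comp_id, Category.id_comp]
  obtain ⟨x, φx, hφx⟩ := hR' g hg
  haveI := hφx
  haveI : 𝒮₂.p.IsHomLift (𝟙 V) (𝟙 x) := IsHomLift.id ((F.w_obj x).symm.trans (IsHomLift.domain_eq 𝒮₁.p g φx))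
  obtain ⟨i, hi⟩ := Groth.Agent.StkLocal.exists_iso h₁.1 g φx (G.map l)
  have hV : 𝒮₂.p.obj x = V := (F.w_obj x).symm.trans (IsHomLift.domain_eq 𝒮₁.p g φx)
  let o : (FibCat.fp F G).obj := ⟨{ fst := x, snd := a', iso := i }, by subst hV; exact hi⟩
  have hw : F.map (𝟙 x) ≫ i.hom = i.hom ≫ G.map β := by
    rw [CategoryTheory.Functor.map_id, hGβ, Category.id_comp, Category.comp_id]
  let m : o ⟶ o := ObjectProperty.homMk { fst := 𝟙 x, snd := β, w := hw }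
  have hm : m = 𝟙 o := hG'.map_injective (show m.hom.fst = (𝟙 o : o ⟶ o).hom.fst from rfl)
  exact congrArg (fun t : o ⟶ o => t.hom.snd) hm

end Groth.Agent.S12798
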