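import Groth.Statements.S12799
import Groth.Agent.StkLocal.Vert

set_option autoImplicit false
open CategoryTheory
universe w v u
open Stk

set_option backward.isDefEq.respectTransparency false
set_option backward.isDefEq.respectTransparency.types false

namespace Groth.Agent.S12799

/-- Let `𝒮₁`, `𝒮₂`, `𝒯₁` be stacks in groupoids over `C` for the topology `J`, `F : 𝒮₂ ⟶ 𝒮₁` a functor
over `C` whose underlying functor is fully faithful and such that every object of `𝒮₁` is locally in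
the essential image of `F`, and `G : 𝒯₁ ⟶ 𝒮₁` a functor over `C`. If the 2-fibre product `𝒮₂ ×_{𝒮₁}
𝒯₁` over `C` is fibred in setoids, then `𝒯₁` is fibred in setoids, hence a stack in setoids. (The
published statement is for any 2-cartesian square of stacks in groupoids; this row is the case of
the explicit 2-fibre product, to which the general case reduces because being fibred in setoids is
invariant under equivalence over `C`.) -/
theorem result {C : Type u} [Category.{v} C] (J : GrothendieckTopology C) {𝒮₁ 𝒮₂ 𝒯₁ : BasedCategory.{v, max u v} C}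
    (h₁ : Stk.IsStack J 𝒮₁) (h₂ : Stk.IsStack J 𝒮₂) (h₃ : Stk.IsStack J 𝒯₁) (F : 𝒮₂ ⥤ᵇ 𝒮₁) [F.toFunctor.Full] [F.toFunctor.Faithful]
    (hF : ∀ y : 𝒮₁.obj, ∃ R ∈ J (𝒮₁.p.obj y), ∀ ⦃V : C⦄ (f : V ⟶ 𝒮₁.p.obj y), R f →
      ∃ (x : 𝒮₂.obj) (φ : F.obj x ⟶ y), 𝒮₁.p.IsHomLift f φ)
    (G : 𝒯₁ ⥤ᵇ 𝒮₁) (h : FibCat.IsFibSetoid (FibCat.fp F G).p) : FibCat.IsFibSetoid 𝒯₁.p := by
  refine ⟨h₃.1, fun U₀ X Y => ⟨fun φ ψ => ?_⟩⟩
  haveI : 𝒯₁.p.IsHomLift (𝟙 U₀) φ.1 := φ.2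
  haveI : 𝒯₁.p.IsHomLift (𝟙 U₀) ψ.1 := ψ.2
  obtain ⟨α, hαlift, hαψ⟩ := Groth.Agent.StkLocal.exists_endo h₃.1 (𝟙 U₀) φ.1 ψ.1
  haveI := hαlift
  refine Subtype.ext ?_
  suffices α = 𝟙 X.1 by rw [← hαψ, this, Category.id_comp]
  obtain ⟨R, hR, hR'⟩ := hF (G.obj X.1)
  have hU : 𝒯₁.p.obj X.1 = 𝒮₁.p.obj (G.obj X.1) := (G.w_obj X.1).symm
  haveI : 𝒯₁.p.IsHomLift (𝟙 (𝒮₁.p.obj (G.obj X.1))) α := by
    have e : U₀ = 𝒮₁.p.obj (G.obj X.1) := X.2.symm.trans hU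
    exact e ▸ hαlift
  refine Groth.Agent.StkLocal.eq_id_of_local h₃ hU α R hR fun V g hg a' l hl β hβ _ => ?_
  haveI := hl; haveI := hβ
  obtain ⟨x, φx, hφx⟩ := hR' g hg
  haveI := hφx
  obtain ⟨i, hi⟩ := Groth.Agent.StkLocal.exists_iso h₁.1 g φx (G.map l)
  haveI := hi
  haveI : 𝒮₁.p.IsHomLift (𝟙 V) i.inv := IsHomLift.lift_id_inv _ _ i
  have hV : 𝒮₂.p.obj x = V := (F.w_obj x).symm.trans (IsHomLift.domain_eq 𝒮₁.p g φx)
  let γ : x ⟶ x := F.toFunctor.preimage (i.hom ≫ G.map β ≫ i.inv)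
  have hγ : 𝒮₂.p.IsHomLift (𝟙 V) γ := by
    rw [← BasedFunctor.isHomLift_iff F, Functor.map_preimage]
    infer_instance
  let o : (FibCat.fp F G).obj := ⟨{ fst := x, snd := a', iso := i }, by subst hV; exact hi⟩
  have hw : F.map γ ≫ i.hom = i.hom ≫ G.map β := by
    simp [γ, F.toFunctor.map_preimage]
  let m : o ⟶ o := ObjectProperty.homMk { fst := γ, snd := β, w := hw }
  let O : (FibCat.fp F G).p.Fiber V := ⟨o, hV⟩
  haveI h1 : (FibCat.fp F G).p.IsHomLift (𝟙 V) m :=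
    IsHomLift.of_fac _ _ m hV hV (IsHomLift.fac 𝒮₂.p (𝟙 V) γ)
  have hm : (⟨m, h1⟩ : O ⟶ O) = 𝟙 O := (h.2 V O O).elim _ _
  exact congrArg (fun t : O ⟶ O => t.1.hom.snd) hm

end Groth.Agent.S12799
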