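import Groth.Statements.S12810
import Groth.Agent.AlgStB.Invariance
import Groth.Agent.Fib.Setoid

set_option autoImplicit false
open CategoryTheory
universe v u
open Stk

namespace Groth.Agent.S12810

/-- If two categories over `C` are equivalent in the 2-category of categories over `C`, then one is a
stack in setoids for the topology `J` (a stack in groupoids fibred in setoids) if and only if the
other is. -/
theorem result {C : Type u} [Category.{v} C] (J : GrothendieckTopology C) {𝒳 𝒴 : BasedCategory.{v, max u v} C}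
    (F : 𝒳 ⥤ᵇ 𝒴) (hF : FibCat.IsEquivOver F) :
    (Stk.IsStack J 𝒳 ∧ FibCat.IsFibSetoid 𝒳.p) ↔ (Stk.IsStack J 𝒴 ∧ FibCat.IsFibSetoid 𝒴.p) := by
  have key : ∀ {𝒳 𝒴 : BasedCategory.{v, max u v} C} (F : 𝒳 ⥤ᵇ 𝒴), FibCat.IsEquivOver F →
      (Stk.IsStack J 𝒳 ↔ Stk.IsStack J 𝒴) →
      (Stk.IsStack J 𝒴 ∧ FibCat.IsFibSetoid 𝒴.p) → (Stk.IsStack J 𝒳 ∧ FibCat.IsFibSetoid 𝒳.p) := by
    intro 𝒳 𝒴 F hF hst h
    refine ⟨hst.2 h.1, ?_⟩
    have := Groth.Agent.Fib.faithful_of_isFibSetoid _ h.2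
    obtain ⟨G, ⟨i⟩, -⟩ := hF
    have : 𝒳.p.Faithful := ⟨fun {a b} φ ψ e => by
      have h1 : F.toFunctor.map φ = F.toFunctor.map ψ := by
        apply 𝒴.p.map_injective
        simpa [Functor.congr_hom F.w.symm, cancel_epi, cancel_mono] using e
      have n1 : G.toFunctor.map (F.toFunctor.map φ) ≫ i.hom.toNatTrans.app b =
          i.hom.toNatTrans.app a ≫ φ := i.hom.toNatTrans.naturality φ
      have n2 : G.toFunctor.map (F.toFunctor.map ψ) ≫ i.hom.toNatTrans.app b =
          i.hom.toNatTrans.app a ≫ ψ := i.hom.toNatTrans.naturality ψ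
      rw [h1, n2] at n1
      have e1 : i.inv.toNatTrans.app a ≫ i.hom.toNatTrans.app a = 𝟙 a :=
        congrArg (fun z : BasedFunctor.id 𝒳 ⟶ BasedFunctor.id 𝒳 => z.toNatTrans.app a) i.inv_hom_id
      have := congrArg (fun z => i.inv.toNatTrans.app a ≫ z) n1
      simp only [← Category.assoc, e1] at this
      exact ((Category.id_comp _).symm.trans this.symm).trans (Category.id_comp _)⟩
    exact Groth.Agent.Fib.isFibSetoid_of_faithful _ (hst.2 h.1).1
  constructor
  · intro h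
    obtain ⟨G, hi, hj⟩ := hF
    exact key G ⟨F, hj, hi⟩ (Groth.Agent.AlgStB.isStack_iff_of_isEquivOver (e := G) ⟨F, hj, hi⟩ J) h
  · exact key F hF (Groth.Agent.AlgStB.isStack_iff_of_isEquivOver hF J)

end Groth.Agent.S12810
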