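import Groth.Statements.S12811
import Groth.Agent.AlgStB.StackFp
import Groth.Agent.Fib.Setoid

set_option autoImplicit false
open CategoryTheory
universe v u
open Stk

namespace Groth.Agent.S12811

/-- For stacks in setoids `𝒳`, `𝒴`, `𝒮` over `C` for the topology `J` (stacks in groupoids that are
fibred in setoids) and functors `F : 𝒳 ⟶ 𝒮`, `G : 𝒴 ⟶ 𝒮` over `C`, the 2-fibre product `𝒳 ×_𝒮 𝒴`
over `C` is again a stack in setoids for `J`. -/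
theorem result {C : Type u} [Category.{v} C] (J : GrothendieckTopology C) {𝒳 𝒴 𝒮 : BasedCategory.{v, max u v} C}
    (F : 𝒳 ⥤ᵇ 𝒮) (G : 𝒴 ⥤ᵇ 𝒮) (h𝒳 : Stk.IsStack J 𝒳 ∧ FibCat.IsFibSetoid 𝒳.p) (h𝒴 : Stk.IsStack J 𝒴 ∧ FibCat.IsFibSetoid 𝒴.p)
    (h𝒮 : Stk.IsStack J 𝒮 ∧ FibCat.IsFibSetoid 𝒮.p) :
    Stk.IsStack J (FibCat.fp F G) ∧ FibCat.IsFibSetoid (FibCat.fp F G).p := by
  refine ⟨Groth.Agent.AlgStB.isStack_fp J F G h𝒳.1 h𝒴.1 (Groth.Agent.AlgStB.isPrestack_of_isStack h𝒮.1), ?_⟩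
  have := Groth.Agent.Fib.faithful_of_isFibSetoid _ h𝒳.2
  have : (F.toFunctor ⋙ 𝒮.p).Faithful := by rw [F.w]; infer_instance
  have : F.toFunctor.Faithful := Functor.Faithful.of_comp F.toFunctor 𝒮.p
  exact Groth.Agent.Fib.isFibSetoid_fp F G h𝒳.1.1 h𝒴.2 h𝒮.1.1

end Groth.Agent.S12811
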