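import Groth.Statements.S12816
import Groth.Agent.Fib.Yoneda
import Mathlib.CategoryTheory.Bicategory.Basic

set_option autoImplicit false
open CategoryTheory CategoryTheory.Functor
universe v u
open Stk

set_option backward.isDefEq.respectTransparency false
set_option backward.isDefEq.respectTransparency.types false

namespace Groth.Agent.S12816

/-- Let `𝒳`, `𝒴` be fibred in groupoids over `C` and `F : 𝒳 ⟶ 𝒴` a functor over `C`. Then the underlying
functor of `F` is fully faithful if and only if, for every object `U` of `C`, postcomposition with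
`F` is a fully faithful functor from the category of functors `C/U ⟶ 𝒳` over `C` to that of functors
`C/U ⟶ 𝒴` over `C`; under the 2-Yoneda lemma the latter says that `F` induces bijections between
morphisms of pullbacks `x|_V ⟶ y|_V` and `F(x)|_V ⟶ F(y)|_V` for all objects `x, y` over `U` and all
`V ⟶ U`, that is, isomorphisms of the presheaves of morphisms. (The published statement is for
stacks over a site, not necessarily in groupoids; the stack property plays no role and is not
assumed here, and this row treats categories fibred in groupoids.) -/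
theorem result {C : Type u} [Category.{v} C] {𝒳 𝒴 : BasedCategory.{v, max u v} C}
    (h𝒳 : FibCat.IsFibGrpd 𝒳.p) (h𝒴 : FibCat.IsFibGrpd 𝒴.p) (F : 𝒳 ⟶ 𝒴) :
    (F.toFunctor.Full ∧ F.toFunctor.Faithful) ↔
      ∀ U : C, (Bicategory.postcomp (FibCat.overCat U) F).Full ∧ (Bicategory.postcomp (FibCat.overCat U) F).Faithful := by
  constructor
  · rintro ⟨hFull, hFaith⟩ U
    refine ⟨⟨fun {G H} β => ?_⟩, ⟨fun {G H} α β h => ?_⟩⟩
    · refine ⟨{ toNatTrans := { app := fun a => F.toFunctor.preimage (β.toNatTrans.app a),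
                                naturality := fun a b g => F.toFunctor.map_injective ?_ },
                isHomLift' := fun a => ?_ }, Groth.Agent.Fib.hom_ext' fun a => F.toFunctor.map_preimage _⟩
      · simp only [Functor.map_comp, Functor.map_preimage]
        exact β.toNatTrans.naturality g
      · rw [← BasedFunctor.isHomLift_iff F, Functor.map_preimage]
        exact β.isHomLift' a
    · exact Groth.Agent.Fib.hom_ext' fun a => F.toFunctor.map_injective
        (congrArg (fun t => BasedNatTrans.toNatTrans t |>.app a) h)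
  · intro h
    haveI := Groth.Agent.Fib.isFibered_of_isFibGrpd _ h𝒳
    -- vertical morphisms out of a slice
    have vert : ∀ {U : C} {G H : FibCat.overCat U ⥤ᵇ 𝒳} (b : F.obj (G.obj (Over.mk (𝟙 U))) ⟶ F.obj (H.obj (Over.mk (𝟙 U)))),
        𝒴.p.IsHomLift (𝟙 U) b → ∃ a : G.obj (Over.mk (𝟙 U)) ⟶ H.obj (Over.mk (𝟙 U)),
          𝒳.p.IsHomLift (𝟙 U) a ∧ F.map a = b := by
      intro U G H b hb
      obtain ⟨β, hβ⟩ := Groth.Agent.Fib.exists_natTrans_app_id (G := BasedFunctor.comp G F) (H := BasedFunctor.comp H F)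
        (Groth.Agent.Fib.preservesStronglyCartesian _ h𝒴) b
      obtain ⟨α, hα⟩ := (h U).1.map_surjective β
      exact ⟨α.toNatTrans.app _, BasedNatTrans.isHomLift α rfl,
        (congrArg (fun t => BasedNatTrans.toNatTrans t |>.app (Over.mk (𝟙 U))) hα).trans hβ⟩
    refine ⟨⟨fun {x y} g => ?_⟩, ⟨fun {x y} φ ψ hφψ => ?_⟩⟩
    · let f : 𝒳.p.obj x ⟶ 𝒳.p.obj y := eqToHom (F.w_obj x).symm ≫ 𝒴.p.map g ≫ eqToHom (F.w_obj y)
      haveI hg : 𝒴.p.IsHomLift f g := IsHomLift.of_fac _ f g (F.w_obj x) (F.w_obj y) rfl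
      obtain ⟨y', l, hl⟩ := IsPreFibered.exists_isCartesian 𝒳.p rfl f
      haveI := hl
      haveI : 𝒴.p.IsStronglyCartesian f (F.map l) :=
        Groth.Agent.Fib.isStronglyCartesian_of_isFibGrpd _ h𝒴 f (F.map l)
      obtain ⟨g', ⟨hg', hg'l⟩, -⟩ := Functor.IsStronglyCartesian.universal_property 𝒴.p f (F.map l)
        (𝟙 (𝒳.p.obj x)) f (Category.id_comp f).symm g
      haveI := hg'
      obtain ⟨G, -, e, he⟩ := Groth.Agent.Fib.exists_basedFunctor (𝒳 := 𝒳) ⟨x, rfl⟩
      obtain ⟨H, -, e', he'⟩ := Groth.Agent.Fib.exists_basedFunctor (𝒳 := 𝒳)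
        (U := 𝒳.p.obj x) ⟨y', IsHomLift.domain_eq 𝒳.p f l⟩
      haveI := he
      haveI := he'
      haveI : 𝒳.p.IsHomLift (𝟙 (𝒳.p.obj x)) e'.inv := IsHomLift.lift_id_inv _ _ e'
      obtain ⟨a, -, ha⟩ := vert (F.map e.hom ≫ g' ≫ F.map e'.inv)
        inferInstance
      refine ⟨e.inv ≫ a ≫ e'.hom ≫ l, ?_⟩
      simp only [Functor.map_comp, ha, Category.assoc]
      rw [← F.toFunctor.map_comp_assoc e'.inv, e'.inv_hom_id, ← F.toFunctor.map_comp_assoc e.inv, e.inv_hom_id]
      simp [hg'l]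
    · let f : 𝒳.p.obj x ⟶ 𝒳.p.obj y := 𝒳.p.map ψ
      haveI : 𝒳.p.IsHomLift f ψ := IsHomLift.map 𝒳.p ψ
      haveI : 𝒳.p.IsHomLift f φ := by
        have : 𝒴.p.IsHomLift f (F.map φ) := by rw [show F.map φ = F.map ψ from hφψ]; infer_instance
        exact (BasedFunctor.isHomLift_iff F f φ).1 this
      haveI : 𝒳.p.IsStronglyCartesian f ψ := Groth.Agent.Fib.isStronglyCartesian_of_isFibGrpd _ h𝒳 f ψ
      haveI : 𝒴.p.IsStronglyCartesian f (F.map ψ) :=
        Groth.Agent.Fib.isStronglyCartesian_of_isFibGrpd _ h𝒴 f (F.map ψ)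
      obtain ⟨a, ⟨ha, haψ⟩, -⟩ := Functor.IsStronglyCartesian.universal_property 𝒳.p f ψ
        (𝟙 (𝒳.p.obj x)) f (Category.id_comp f).symm φ
      haveI := ha
      have hFa : F.map a = 𝟙 _ := by
        haveI : 𝒴.p.IsHomLift (𝟙 (𝒳.p.obj x)) (𝟙 (F.obj x)) := IsHomLift.id (F.w_obj x)
        refine Functor.IsStronglyCartesian.ext 𝒴.p f (F.map ψ) (𝟙 (𝒳.p.obj x)) ?_
        rw [Category.id_comp, ← Functor.map_comp, haψ]
        exact hφψ
      obtain ⟨G, hG, e, he⟩ := Groth.Agent.Fib.exists_basedFunctor (𝒳 := 𝒳) ⟨x, rfl⟩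
      haveI := he
      haveI : 𝒳.p.IsHomLift (𝟙 (𝒳.p.obj x)) e.inv := IsHomLift.lift_id_inv _ _ e
      haveI : 𝒳.p.IsHomLift (𝟙 (𝒳.p.obj x)) (e.hom ≫ a ≫ e.inv) :=
        inferInstance
      obtain ⟨α, hα⟩ := Groth.Agent.Fib.exists_natTrans_app_id (G := G) (H := G) hG (e.hom ≫ a ≫ e.inv)
      have h1 : α = 𝟙 G := (h _).2.map_injective (Groth.Agent.Fib.eq_of_app_id
        (Groth.Agent.Fib.preservesStronglyCartesian _ h𝒴) _ _ (by
          show F.map (α.toNatTrans.app _) = F.map (𝟙 _)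
          rw [hα, Functor.map_comp, Functor.map_comp, hFa]
          refine (congrArg (F.map e.hom ≫ ·) (Category.id_comp _)).trans ?_
          rw [← Functor.map_comp, e.hom_inv_id]))
      have h2 : e.hom ≫ a ≫ e.inv = 𝟙 _ := by rw [← hα, h1]; rfl
      have h3 : a = 𝟙 x := by
        have := congrArg (fun t => e.inv ≫ t ≫ e.hom) h2
        simpa using this
      rw [← haψ, h3, Category.id_comp]

end Groth.Agent.S12816
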