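import Groth.Statements.S12824
import Groth.Agent.AlgStB.PointsTop

set_option autoImplicit false
universe u
open CategoryTheory AlgebraicGeometry
open AlgSt

namespace Groth.Agent.S12824

/-- For an algebraic stack `𝒳` over `S`, every open neighbourhood of a point of `|𝒳|` contains a
quasi-compact open neighbourhood of that point; hence `|𝒳|` is locally quasi-compact. -/
theorem result {S : Scheme.{u}} {𝒳 : AlgSt.Cat S}
    (h𝒳 : AlgSt.IsAlgStack Scheme.fppfPrecoverage 𝒳) (x : AlgSt.Points 𝒳) (W : Set (AlgSt.Points 𝒳)) (hW : IsOpen W) (hx : x ∈ W) :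
    ∃ V : Set (AlgSt.Points 𝒳), IsOpen V ∧ IsCompact V ∧ x ∈ V ∧ V ⊆ W := by
  obtain ⟨U, y, hy, hys⟩ := h𝒳.atlas
  have hg := h𝒳.isStack.1
  obtain ⟨u, rfl⟩ := AlgStB.surjective_ofChart hg y hys x
  have hc := AlgStB.continuous_ofChart hg h𝒳.atlas y
  obtain ⟨O, hO, huO, hOW⟩ := U.left.isBasis_affineOpens.exists_subset_of_mem_open
    (show u ∈ AlgSt.Points.ofChart y ⁻¹' W from hx) (hW.preimage hc)
  obtain ⟨A, hA, rfl⟩ := hO
  exact ⟨AlgSt.Points.ofChart y '' A, AlgStB.isOpenMap_ofChart hg y (AlgStB.flat_lfp_of_smooth hy).1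
    (AlgStB.flat_lfp_of_smooth hy).2 _ A.2, hA.isCompact.image hc, ⟨u, huO, rfl⟩,
    Set.image_subset_iff.2 hOW⟩

end Groth.Agent.S12824
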