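import Groth.Statements.S12837
import Groth.Agent.TorsorDesc.Basic
import Groth.Agent.MultHopf.HomLocus
import Groth.Agent.TorsorDesc.Equiv

set_option autoImplicit false
universe u
open CategoryTheory AlgebraicGeometry
open NonAbH1

namespace Groth.Agent.S12837

open AlgebraicGeometry CategoryTheory CategoryTheory.Limits MonoidalCategory CartesianMonoidalCategory

set_option backward.isDefEq.respectTransparency.types false


/-- Let `G` be a group scheme over `S` which is flat and locally of finite presentation over `S`, acting
on an `S`-scheme `X`. If `X` is a principal homogeneous space under `G` — a pseudo-torsor which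
acquires sections on the members of some fpqc covering family of `S` — then `X` is a `G`-torsor for
the fppf topology: it acquires sections on the members of some fppf covering family of `S`. (The
published statement is the equivalence of the stack of fppf torsors with the stack of principal
homogeneous spaces for a group algebraic space `G` flat and locally of finite presentation over an
algebraic space `B`, torsors being algebraic spaces; this row is its content for `B = S`, `G` a
scheme and a torsor that is a scheme, the other inclusion being the comparison of the two
topologies.) -/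
theorem result {S : Scheme.{u}}
    (G X : Over S) [GrpObj G] [Flat G.hom] [LocallyOfFinitePresentation G.hom] (a : AlgGrp.Action G X)
    (h : NonAbH1.IsTorsorFor Scheme.fpqcPrecoverage a) :
    NonAbH1.IsTorsorFor Scheme.fppfPrecoverage a := by
  have : Flat X.hom := TorsorDesc.of_isTorsorFor @Flat a h ‹_›
  have : LocallyOfFinitePresentation X.hom := TorsorDesc.of_isTorsorFor @LocallyOfFinitePresentation a h ‹_›
  obtain ⟨κ, W, z, hz, hsec⟩ := TorsorDesc.exists_cover h.2
  have hs : Surjective X.hom := ⟨fun s => by
    obtain ⟨i, w, hw⟩ := SchDescent.exists_mem_range hz s
    exact ⟨(hsec i).some.left w, (congr($(Over.w (hsec i).some) w)).trans hw⟩⟩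
  refine ⟨h.1, Presieve.ofArrows (fun _ : PUnit.{u+1} => X.left) (fun _ => X.hom), ?_, ?_⟩
  · exact (Scheme.ofArrows_mem_precoverage_iff (P := @Flat ⊓ @LocallyOfFinitePresentation)).mpr
      ⟨fun s => ⟨PUnit.unit, hs.surj s⟩, fun _ => ⟨inferInstance, inferInstance⟩⟩
  · rintro S' f ⟨_⟩
    exact ⟨𝟙 _, Category.id_comp _⟩

end Groth.Agent.S12837
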