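import Groth.Statements.S12839
import Groth.Agent.AlgStB.QuotHom

set_option autoImplicit false
universe u
open CategoryTheory AlgebraicGeometry
open AlgSt

namespace Groth.Agent.S12839
set_option backward.isDefEq.respectTransparency false
set_option maxHeartbeats 1000000

/-- Let `G` be a group scheme over `S` acting on an `S`-scheme `X` and let `A` be an object of the
quotient category `[X/G]` over the `S`-scheme `T` — a `G`-torsor `P ⟶ T` for the fppf topology which
is a scheme, with an equivariant `P ⟶ X`. Then there is an fppf covering family of `T` such that for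
every member `f : T' ⟶ T` there are a `T'`-point `x` of `X` and a morphism of `[X/G]` lying over `f`
from the image of `x` under the canonical functor `X ⟶ [X/G]` (the trivial torsor `G ×_S T'` with
`(h, t) ↦ h · x(t)`) to `A`: every object is, fppf-locally on its base, isomorphic to a trivial one. -/
theorem result (S : Scheme.{u}) (G : Over S) [GrpObj G] (X : Over S)
    (aX : AlgGrp.Action G X) (A : AlgSt.QuotObj Scheme.fppfPrecoverage G aX) :
    ∃ (R : Presieve A.base.left) (_ : R ∈ Scheme.fppfPrecoverage A.base.left),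
      ∀ ⦃T' : Scheme.{u}⦄ (f : T' ⟶ A.base.left), R f →
        ∃ (x : Over.mk (f ≫ A.base.hom) ⟶ X)
          (h : (AlgSt.quotMap Scheme.fppfPrecoverage G aX).obj ((AlgSt.ofOverCat X).obj (Over.mk x)) ⟶ A),
          h.base = Over.homMk f rfl := by
  obtain ⟨R, hR, hs⟩ := A.loc
  refine ⟨R, hR, fun T' f hf => ?_⟩
  obtain ⟨s₀, hs₀⟩ := hs f hf
  have hs₀' : s₀ ≫ A.π.left = f := hs₀
  let s : Over.mk (f ≫ A.base.hom) ⟶ A.P :=
    Over.homMk s₀ (by simp only [Over.mk_hom]; rw [← hs₀', Category.assoc, Over.w A.π])
  exact ⟨s ≫ A.φ, Groth.Agent.AlgStB.QuotHom.homOfSection A (Over.homMk f rfl : Over.mk (f ≫ A.base.hom) ⟶ A.base) s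
    (Over.OverMorphism.ext (show (s ≫ A.π).left = f from hs₀')), rfl⟩

end Groth.Agent.S12839
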