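import Groth.Statements.S12844
import Groth.Agent.AlgStB.CoverDescent
import Groth.Agent.AlgStB.Comp

set_option autoImplicit false
open CategoryTheory AlgebraicGeometry
universe u
open AlgSt

namespace Groth.Agent.S12844

/-- Let `P` be a property of morphisms of algebraic spaces over `S` which is stable under base change
and fppf local on the base, `f : 𝒳 ⟶ 𝒴` a 1-morphism of algebraic stacks over `S` representable by
algebraic spaces, `W` an algebraic space and `w : W ⟶ 𝒴` surjective, flat and locally of finite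
presentation. Then `f` has `P` if and only if the projection `V = W ×_𝒴 𝒳 ⟶ W` has `P`; here `V ⟶ W`
is named by an algebraic space `V`, a morphism `a : V ⟶ W` and an equivalence over `(Sch/S)` from
the category of `V` to the 2-fibre product whose composite with the first projection is 2-isomorphic
to the functor of `a`. (Stability under base change is asked for every pullback square of fppf
sheaves whose four corners are algebraic spaces.) -/
theorem result {S : Scheme.{u}} {𝒳 𝒴 : AlgSt.Cat S}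
    (h𝒳 : AlgSt.IsAlgStack Scheme.fppfPrecoverage 𝒳) (h𝒴 : AlgSt.IsAlgStack Scheme.fppfPrecoverage 𝒴)
    (P : MorphismProperty (AlgSp.Sp S))
    (hPb : ∀ ⦃X₁ Y₁ X₂ Y₂ : AlgSp.Sp S⦄, AlgSp.IsAlgSpace X₁ → AlgSp.IsAlgSpace Y₁ → AlgSp.IsAlgSpace X₂ →
      AlgSp.IsAlgSpace Y₂ → ∀ (a : X₁ ⟶ Y₁) (b : Y₂ ⟶ Y₁) (a' : X₂ ⟶ Y₂) (b' : X₂ ⟶ X₁),
      IsPullback b' a' a b → P a → P a')
    (hP : AlgSp.IsLocalOnBase AlgSp.IsFppfCover P)
    (f : 𝒳 ⥤ᵇ 𝒴) (hf : AlgSt.RepByAlgSp1 f) (W : AlgSp.Space S) (w : AlgSt.ofSp W.obj ⥤ᵇ 𝒴)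
    (hw₁ : AlgSt.RepByAlgSpWith (AlgSp.LocP @Flat) w)
    (hw₂ : AlgSt.RepByAlgSpWith (AlgSp.LocP @LocallyOfFinitePresentation) w)
    (hw₃ : AlgSt.RepByAlgSpWith AlgSp.IsSurjectiveMor w) :
    AlgSt.RepByAlgSpWith P f ↔
      ∃ (V : AlgSp.Space S) (a : V ⟶ W) (e : AlgSt.ofSp V.obj ⥤ᵇ FibCat.fp w f),
        FibCat.IsEquivOver e ∧
          Nonempty (BasedFunctor.comp e (FibCat.fpFst w f) ≅ AlgSt.ofSpMap a.hom) ∧ P a.hom := by
  constructor
  · intro h
    obtain ⟨V, e, π, he, k, hπ⟩ :=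
      AlgStB.exists_fp_ofSp h𝒳.isStack.1 h𝒴.isStack.1 hPb hP h W.property w
    exact ⟨V, ObjectProperty.homMk π, e, he, k, hπ⟩
  · rintro ⟨V, a, e, he, ⟨k⟩, ha⟩
    refine AlgStB.repByAlgSpWith_of_fppf (AlgStB.StableBC.respectsSrcIso hPb) hP f hf w hw₁ hw₂ hw₃ ?_
    refine (AlgStB.repByAlgSpWith_iff_of_square (FibCat.fpFst w f) (AlgSt.ofSpMap a.hom) e
      (BasedFunctor.id _) he (Fib.isEquivOver_id _) k.symm).2 ?_
    exact AlgStB.repByAlgSpWith_of_repBySpWith ((AlgSp.repBySpWith_hom_iff _ a.hom).2 fun U _ _ _ _ sq =>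
      ⟨AlgSpc.isAlgSpace_of_isPullback V.property W.property (AlgSp.IsAlgSpace.yon_obj U) sq,
        hPb V.property W.property (AlgSpc.isAlgSpace_of_isPullback V.property W.property
          (AlgSp.IsAlgSpace.yon_obj U) sq) (AlgSp.IsAlgSpace.yon_obj U) _ _ _ _ sq ha⟩)

end Groth.Agent.S12844
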