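import Groth.Statements.S12859
import Groth.Agent.AlgStB.SubstackPoints

set_option autoImplicit false
open CategoryTheory AlgebraicGeometry
universe u
open AlgSt

namespace Groth.Agent.S12859

/-- Let `𝒳` be an algebraic stack over `S`. The rule sending an open substack `𝒰 ⊂ 𝒳` (a predicate on
objects closed under isomorphisms whose full subcategory is an algebraic stack with open-immersion
inclusion) to `|𝒰| ⊂ |𝒳|` is a bijection from open substacks onto open subsets of `|𝒳|`, and `𝒰 ⊂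
𝒰'` holds exactly when `|𝒰| ⊂ |𝒰'|`. -/
theorem result {S : Scheme.{u}} {𝒳 : AlgSt.Cat S}
    (h𝒳 : AlgSt.IsAlgStack Scheme.fppfPrecoverage 𝒳) :
    Set.BijOn (fun Q : 𝒳.obj → Prop => Set.range (AlgSt.Points.map (AlgSt.subIncl 𝒳 Q)))
        {Q | AlgSt.IsOpenSubstack 𝒳 Q Scheme.fppfPrecoverage} {T | IsOpen T} ∧
      ∀ (Q Q' : 𝒳.obj → Prop), AlgSt.IsOpenSubstack 𝒳 Q Scheme.fppfPrecoverage → AlgSt.IsOpenSubstack 𝒳 Q' Scheme.fppfPrecoverage →
        ((∀ y, Q y → Q' y) ↔ Set.range (AlgSt.Points.map (AlgSt.subIncl 𝒳 Q)) ⊆ Set.range (AlgSt.Points.map (AlgSt.subIncl 𝒳 Q'))) := by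
  have hG := h𝒳.isStack.1
  have hle : ∀ Q Q' : 𝒳.obj → Prop, AlgSt.IsOpenSubstack 𝒳 Q Scheme.fppfPrecoverage →
      AlgSt.IsOpenSubstack 𝒳 Q' Scheme.fppfPrecoverage →
      ((∀ y, Q y → Q' y) ↔ Set.range (AlgSt.Points.map (AlgSt.subIncl 𝒳 Q)) ⊆ Set.range (AlgSt.Points.map (AlgSt.subIncl 𝒳 Q'))) := by
    refine fun Q Q' hQ hQ' => ⟨?_, fun h y hy => ?_⟩
    · rintro h _ ⟨w, rfl⟩
      obtain ⟨q, rfl⟩ := AlgSt.Points.mk_surjective w
      exact Groth.Agent.AlgStB.objPts_subset_range hG hQ' (h _ q.obj.property)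
        ⟨q.map (AlgSt.subIncl 𝒳 Q), 𝟙 _, rfl⟩
    · exact (Groth.Agent.AlgStB.openSubstack_iff hG hQ' y).2
        (((Groth.Agent.AlgStB.openSubstack_iff hG hQ y).1 hy).trans h)
  refine ⟨⟨fun Q hQ => Groth.Agent.AlgStB.isOpen_range hG hQ, fun Q hQ Q' hQ' h => ?_,
    fun W hW => ⟨_, Groth.Agent.AlgStB.isOpenSubstack_objPts h𝒳 hW,
      Groth.Agent.AlgStB.range_objPts W⟩⟩, hle⟩
  funext y
  exact propext ⟨(hle Q Q' hQ hQ').2 h.le y, (hle Q' Q hQ' hQ).2 h.ge y⟩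

end Groth.Agent.S12859
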