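import Groth.Statements.S12860
import Groth.Agent.AlgStB.SubstackPoints
import Groth.Agent.AlgStB.PointsSurj
import Groth.Agent.AlgStB.PointsMono
import Groth.Agent.AlgStB.DiagLft
import Groth.Agent.AlgStB.Algebraic

set_option autoImplicit false
open CategoryTheory AlgebraicGeometry
universe u
open AlgSt

namespace Groth.Agent.S12860

/-- Let `𝒳` be an algebraic stack over `S`, `U` an algebraic space with a surjective smooth `u : U ⟶ 𝒳`,
and `j : V ⟶ U` an open immersion of algebraic spaces. Then there are an algebraic stack `𝒴`, an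
open immersion `i : 𝒴 ⟶ 𝒳` and a surjective smooth `g : V ⟶ 𝒴` such that `i ∘ g` is 2-isomorphic to
`u ∘ j` (the compatibility is part of the published proof, which constructs `𝒴` as the image of
`V`). -/
theorem result {S : Scheme.{u}} {𝒳 : AlgSt.Cat S}
    (h𝒳 : AlgSt.IsAlgStack Scheme.fppfPrecoverage 𝒳) (U : AlgSp.Space S) (u : AlgSt.ofSp U.obj ⥤ᵇ 𝒳)
    (hu₁ : AlgSt.RepByAlgSpWith (AlgSp.LocP @Smooth) u) (hu₂ : AlgSt.RepByAlgSpWith AlgSp.IsSurjectiveMor u)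
    (V : AlgSp.Space S) (j : V ⟶ U) (hj : AlgSp.RepWith @IsOpenImmersion j.hom) :
    ∃ (𝒴 : AlgSt.Cat S) (i : 𝒴 ⥤ᵇ 𝒳) (g : AlgSt.ofSp V.obj ⥤ᵇ 𝒴),
      AlgSt.IsAlgStack Scheme.fppfPrecoverage 𝒴 ∧ AlgSt.IsOpenImm i ∧
        AlgSt.RepByAlgSpWith (AlgSp.LocP @Smooth) g ∧ AlgSt.RepByAlgSpWith AlgSp.IsSurjectiveMor g ∧
          Nonempty (BasedFunctor.comp g i ≅ BasedFunctor.comp (AlgSt.ofSpMap j.hom) u) := by
  have hV : FibCat.IsFibGrpd (AlgSt.ofSp V.obj).p := AlgStB.isFibGrpd_ofSp V.property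
  have hU : FibCat.IsFibGrpd (AlgSt.ofSp U.obj).p := AlgStB.isFibGrpd_ofSp U.property
  have hX := h𝒳.isStack.1
  let F := BasedFunctor.comp (AlgSt.ofSpMap j.hom) u
  have hj' : AlgSp.LocP @Smooth j.hom :=
    AlgSpc.locP_of_repWith (fun e f he hf => AlgSpc.EtLoc.precomp e f he hf)
      (AlgSpc.repWith_mono (fun _ _ f (hf : IsOpenImmersion f) => inferInstanceAs (Smooth f)) hj)
  have hF : AlgSt.RepByAlgSpWith (AlgSp.LocP @Smooth) F :=
    AlgStB.repByAlgSpWith_comp' hV hU AlgStB.respectsSrcIso_locP AlgStB.hc_locP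
      (AlgStB.repByAlgSpWith_ofSpMap_of_locP V.property U.property j.hom hj') hu₁
  obtain ⟨h₁, h₂⟩ := AlgStB.flat_lfp_of_smooth hF
  let W : Set (AlgSt.Points 𝒳) := Set.range (AlgSt.Points.map F)
  have hW : IsOpen W :=
    (AlgStB.isOpenMap_map hV (AlgStB.hasAtlas_ofSp V.property) hX F h₁ h₂).isOpen_range
  let Q : 𝒳.obj → Prop := fun b => AlgStB.objPts b ⊆ W
  have hQ := AlgStB.isOpenSubstack_objPts h𝒳 hW
  have hmem : ∀ a, Q (F.obj a) := by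
    rintro a _ ⟨r, m, rfl⟩
    obtain ⟨a', φ, hφ⟩ := Fib.exists_lift (AlgSt.ofSp V.obj).p hV (x := a) rfl
      (eqToHom r.lies.symm ≫ 𝒳.p.map m ≫ eqToHom (F.w_obj a))
    let f := eqToHom r.lies.symm ≫ 𝒳.p.map m ≫ eqToHom (F.w_obj a)
    have h₀ : (AlgSt.ofSp V.obj).p.obj a' = Over.mk r.str :=
      IsHomLift.domain_eq (AlgSt.ofSp V.obj).p f φ
    have hFφ : 𝒳.p.IsHomLift f (F.map φ) := BasedFunctor.preserves_isHomLift F f φ
    have hm : 𝒳.p.IsHomLift f m := IsHomLift.of_fac' _ _ _ r.lies (F.w_obj a) (by simp [f])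
    have := Fib.isStronglyCartesian_of_isFibGrpd 𝒳.p hX f m
    let θ := Functor.IsCartesian.map 𝒳.p f m (F.map φ)
    refine ⟨AlgSt.Points.mk ⟨r.K, r.str, a', h₀⟩, ?_⟩
    exact AlgStB.mk_eq_of_hom (q := r) θ
  let g : AlgSt.ofSp V.obj ⥤ᵇ AlgSt.fullSub 𝒳 Q :=
    { toFunctor := ObjectProperty.lift Q F.toFunctor hmem
      w := F.w }
  have hg : ∀ {P : MorphismProperty (AlgSp.Sp S)}, AlgSt.RepByAlgSpWith P F →
      AlgSt.RepByAlgSpWith P g := fun h => by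
    have : (AlgSt.subIncl 𝒳 Q).toFunctor.Full := ObjectProperty.full_ι Q
    have : (AlgSt.subIncl 𝒳 Q).toFunctor.Faithful := ObjectProperty.faithful_ι Q
    refine AlgStB.repByAlgSpWith_transfer' (fun T y' => ?_) h
    exact ⟨BasedFunctor.comp y' (AlgSt.subIncl 𝒳 Q), Fib.fpMap (BasedFunctor.id _) (BasedFunctor.id _)
      (AlgSt.subIncl 𝒳 Q) (F' := y') (G' := g) (F := BasedFunctor.comp y' (AlgSt.subIncl 𝒳 Q))
      (G := F) (Iso.refl _) (Iso.refl _),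
      Fib.isEquivOver_fpMap _ _ _ _ _ (Fib.isEquivOver_id _) (Fib.isEquivOver_id _), ⟨eqToIso rfl⟩⟩
  have hinj := AlgStB.injective_map_of_full hQ.2.1.isStack.1 hX (AlgSt.subIncl 𝒳 Q)
    (ObjectProperty.full_ι Q)
  have hgs : AlgSt.IsSurjective g := fun z => by
    have : AlgSt.Points.map (AlgSt.subIncl 𝒳 Q) z ∈ W :=
      (AlgStB.range_objPts W).le ⟨z, rfl⟩
    obtain ⟨v, hv⟩ := this
    refine ⟨v, hinj ?_⟩
    rw [← AlgStB.map_comp_apply]
    exact hv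
  exact ⟨AlgSt.fullSub 𝒳 Q, AlgSt.subIncl 𝒳 Q, g, hQ.2.1, hQ.2.2, hg hF,
    AlgStB.repWith_surjective_of_isSurjective hV hQ.2.1.isStack.1 g
      (AlgStB.repByAlgSp1_of_with (hg hF)) hgs, ⟨Iso.refl _⟩⟩

end Groth.Agent.S12860
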