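import Groth.Statements.S12861
import Groth.Agent.AlgStB.SubstackPoints

set_option autoImplicit false
open CategoryTheory AlgebraicGeometry
universe u w
open AlgSt

namespace Groth.Agent.S12861

/-- Let `𝒳` be an algebraic stack over `S` and `𝒳_i ⊂ 𝒳` a family of open substacks. Then there is an
open substack `𝒳' ⊂ 𝒳`, the union of the `𝒳_i`, containing every `𝒳_i` and covered by them: its
points in `|𝒳|` are the union of the points of the `𝒳_i`. -/
theorem result {S : Scheme.{u}} {𝒳 : AlgSt.Cat S}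
    (h𝒳 : AlgSt.IsAlgStack Scheme.fppfPrecoverage 𝒳) {ι : Type w} (Q : ι → 𝒳.obj → Prop)
    (hQ : ∀ i, AlgSt.IsOpenSubstack 𝒳 (Q i) Scheme.fppfPrecoverage) :
    ∃ Q' : 𝒳.obj → Prop, AlgSt.IsOpenSubstack 𝒳 Q' Scheme.fppfPrecoverage ∧ (∀ i y, Q i y → Q' y) ∧
      Set.range (AlgSt.Points.map (AlgSt.subIncl 𝒳 Q')) = ⋃ i, Set.range (AlgSt.Points.map (AlgSt.subIncl 𝒳 (Q i))) := by
  have hG := h𝒳.isStack.1
  exact ⟨_, Groth.Agent.AlgStB.isOpenSubstack_objPts h𝒳
      (isOpen_iUnion fun i => Groth.Agent.AlgStB.isOpen_range hG (hQ i)),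
    fun i y hy => ((Groth.Agent.AlgStB.openSubstack_iff hG (hQ i) y).1 hy).trans (Set.subset_iUnion_of_subset i subset_rfl),
    Groth.Agent.AlgStB.range_objPts _⟩

end Groth.Agent.S12861
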