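import Groth.Statements.S12875
import Groth.Agent.S12844
import Groth.Agent.S12842
import Groth.Agent.AlgSpLoc.Inst3
import Groth.Agent.AlgStB.MonoImmStack
import Groth.Agent.AlgStB.DiagComp

set_option autoImplicit false
open CategoryTheory AlgebraicGeometry
universe u
open AlgSt

namespace Groth.Agent.S12875

/-- Let `f : 𝒳 ⟶ 𝒴` be a 1-morphism of algebraic stacks over `S`, `W` an algebraic space and `w : W ⟶ 𝒴`
surjective, flat and locally of finite presentation. Then `f` is a closed immersion if and only if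
`V = W ×_𝒴 𝒳` is an algebraic space and the projection `V ⟶ W` is a closed immersion of algebraic
spaces; the projection is named by `V`, a morphism `a : V ⟶ W` and an equivalence over `(Sch/S)`
from the category of `V` to the 2-fibre product whose composite with the first projection is
2-isomorphic to the functor of `a`. -/
theorem result {S : Scheme.{u}} {𝒳 𝒴 : AlgSt.Cat S}
    (h𝒳 : AlgSt.IsAlgStack Scheme.fppfPrecoverage 𝒳) (h𝒴 : AlgSt.IsAlgStack Scheme.fppfPrecoverage 𝒴)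
    (f : 𝒳 ⥤ᵇ 𝒴) (W : AlgSp.Space S) (w : AlgSt.ofSp W.obj ⥤ᵇ 𝒴)
    (hw₁ : AlgSt.RepByAlgSpWith (AlgSp.LocP @Flat) w)
    (hw₂ : AlgSt.RepByAlgSpWith (AlgSp.LocP @LocallyOfFinitePresentation) w)
    (hw₃ : AlgSt.RepByAlgSpWith AlgSp.IsSurjectiveMor w) :
    AlgSt.IsClosedImm f ↔
      ∃ (V : AlgSp.Space S) (a : V ⟶ W) (e : AlgSt.ofSp V.obj ⥤ᵇ FibCat.fp w f),
        FibCat.IsEquivOver e ∧
          Nonempty (BasedFunctor.comp e (FibCat.fpFst w f) ≅ AlgSt.ofSpMap a.hom) ∧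
            AlgSp.RepWith @IsClosedImmersion a.hom := by
  refine ⟨fun h => (S12844.result h𝒳 h𝒴 _ ?_ ?_ f (AlgStB.repByAlgSp1_of_with h) W w hw₁ hw₂ hw₃).1 h,
    fun ⟨V, a, e, he, hk, ha⟩ => (S12844.result h𝒳 h𝒴 _ ?_ ?_ f
      (S12842.result h𝒳 h𝒴 f W w hw₁ hw₂ hw₃ ⟨V, e, he⟩) W w hw₁ hw₂ hw₃).2 ⟨V, a, e, he, hk, ha⟩⟩
  all_goals first
    | exact AlgStB.stableBC_repWith _
    | exact AlgStB.isLocalOnBase_fppf_of_fpqc AlgSpLoc.isLocalOnBase_closedImmersion

end Groth.Agent.S12875
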