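import Groth.Statements.S12876
import Groth.Agent.AlgStB.DiagSep
import Groth.Agent.Fib.Fp

set_option autoImplicit false
open CategoryTheory AlgebraicGeometry
universe u
open AlgSt

namespace Groth.Agent.S12876

/-- Let `i : 𝒳 ⟶ 𝒳'` and `g : 𝒳' ⟶ 𝒴` be 1-morphisms of algebraic stacks over `S` with `i` a
monomorphism. Then the square whose top is the diagonal `𝒳 ⟶ 𝒳 ×_𝒴 𝒳` of `g ∘ i`, whose left side is
`i`, whose right side is the 1-morphism `𝒳 ×_𝒴 𝒳 ⟶ 𝒳' ×_𝒴 𝒳'` induced by `i` on both factors and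
whose bottom is the diagonal of `g` (it commutes strictly, the 2-cell being the identity) is
2-cartesian: the induced 1-morphism from `𝒳` to the 2-fibre product is an equivalence over
`(Sch/S)`. -/
theorem result {S : Scheme.{u}} {𝒳 𝒳' 𝒴 : AlgSt.Cat S}
    (h𝒳 : AlgSt.IsAlgStack Scheme.fppfPrecoverage 𝒳) (h𝒳' : AlgSt.IsAlgStack Scheme.fppfPrecoverage 𝒳') (h𝒴 : AlgSt.IsAlgStack Scheme.fppfPrecoverage 𝒴)
    (i : 𝒳 ⥤ᵇ 𝒳') (g : 𝒳' ⥤ᵇ 𝒴) (hi : AlgSt.IsMono i) :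
    FibCat.IsTwoCartOver
      (F := (FibCat.fpLift (BasedFunctor.comp (FibCat.fpFst (BasedFunctor.comp i g) (BasedFunctor.comp i g)) i)
        (BasedFunctor.comp (FibCat.fpSnd (BasedFunctor.comp i g) (BasedFunctor.comp i g)) i) (FibCat.fpIso (BasedFunctor.comp i g) (BasedFunctor.comp i g))))
      (G := FibCat.diag g) (FibCat.diag (BasedFunctor.comp i g)) i (Iso.refl _) := by
  obtain ⟨hfull, hfaith⟩ := Groth.Agent.AlgStB.full_faithful_of_isMono h𝒳.isStack.1 h𝒳'.isStack.1 i hi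
  let ig := BasedFunctor.comp i g
  let F : FibCat.fp ig ig ⥤ᵇ FibCat.fp g g :=
    FibCat.fpLift (BasedFunctor.comp (FibCat.fpFst ig ig) i) (BasedFunctor.comp (FibCat.fpSnd ig ig) i)
      (FibCat.fpIso ig ig)
  let Φ : 𝒳 ⥤ᵇ FibCat.fp F (FibCat.diag g) := FibCat.fpLift (FibCat.diag ig) i (Iso.refl _)
  have : Φ.toFunctor.Faithful := ⟨fun {a b} φ ψ h =>
    congrArg (fun m : Φ.obj a ⟶ Φ.obj b => m.hom.fst.hom.fst) h⟩
  have : Φ.toFunctor.Full := ⟨fun {a b} m => by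
    have hw : F.map m.hom.fst ≫ 𝟙 _ = 𝟙 _ ≫ (FibCat.diag g).map m.hom.snd := m.hom.w
    rw [Category.comp_id, Category.id_comp] at hw
    have h₁ : i.map m.hom.fst.hom.fst = m.hom.snd := congrArg (fun q => q.hom.fst) hw
    have h₂ : i.map m.hom.fst.hom.snd = m.hom.snd := congrArg (fun q => q.hom.snd) hw
    have h₃ : m.hom.fst.hom.snd = m.hom.fst.hom.fst := i.toFunctor.map_injective (h₂.trans h₁.symm)
    exact ⟨m.hom.fst.hom.fst, Groth.Agent.Fib.fp_hom_ext (Groth.Agent.Fib.fp_hom_ext rfl h₃.symm) h₁⟩⟩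
  refine Groth.Agent.Fib.isEquivOver_of_exists_iso_over Φ fun w => ?_
  obtain ⟨⟨x, x', β⟩, hβ⟩ := w
  obtain ⟨⟨x₁, x₂, α⟩, hα⟩ := x
  let β₁ : i.obj x₁ ≅ x' := (FibCat.fpFst g g).toFunctor.mapIso β
  let β₂ : i.obj x₂ ≅ x' := (FibCat.fpSnd g g).toFunctor.mapIso β
  let δ : x₁ ≅ x₂ := i.toFunctor.preimageIso (β₁ ≪≫ β₂.symm)
  have hw : g.map β₁.hom ≫ 𝟙 _ = α.hom ≫ g.map β₂.hom := β.hom.hom.w
  rw [Category.comp_id] at hw
  have hα' : g.map (i.map δ.hom) = α.hom := by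
    simp only [δ, Functor.preimageIso_hom, Functor.map_preimage, Iso.trans_hom, Iso.symm_hom,
      Functor.map_comp]
    rw [hw]
    refine (Category.assoc _ _ _).trans ?_
    refine Eq.trans (congrArg (α.hom ≫ ·) ?_) (Category.comp_id _)
    exact (g.toFunctor.mapIso β₂).hom_inv_id
  have hl : 𝒳'.p.IsHomLift (𝟙 (𝒳.p.obj x₁)) β₁.hom := by
    have : (FibCat.fp g g).p.IsHomLift (𝟙 (𝒳.p.obj x₁)) β.hom := hβ
    exact BasedFunctor.preserves_isHomLift (FibCat.fpFst g g) (𝟙 (𝒳.p.obj x₁)) β.hom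
  let e₁ : (FibCat.diag ig).obj x₁ ≅ (⟨⟨x₁, x₂, α⟩, hα⟩ : (FibCat.fp ig ig).obj) :=
    Groth.Agent.Fib.fpIsoMk (Iso.refl _) δ (by
      change g.map (i.map (𝟙 x₁)) ≫ α.hom = 𝟙 _ ≫ g.map (i.map δ.hom)
      simp [hα'])
  let e : Φ.obj x₁ ≅ (⟨⟨⟨⟨x₁, x₂, α⟩, hα⟩, x', β⟩, hβ⟩ : (FibCat.fp F (FibCat.diag g)).obj) :=
    Groth.Agent.Fib.fpIsoMk e₁ β₁ (by
      refine Groth.Agent.Fib.fp_hom_ext ?_ ?_
      · change i.map (𝟙 x₁) ≫ β₁.hom = 𝟙 _ ≫ β₁.hom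
        simp
      · change i.map δ.hom ≫ β₂.hom = 𝟙 _ ≫ β₁.hom
        simp [δ])
  refine ⟨_, e, Groth.Agent.Fib.fp_iso_isHomLift_id e ?_⟩
  exact (Groth.Agent.Fib.fp_isHomLift_iff _ _).2 (IsHomLift.id rfl)

end Groth.Agent.S12876
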