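import Groth.Statements.S12878
import Groth.Agent.AlgStB.DiagSep
import Groth.Agent.AlgStB.Mono
import Groth.Agent.AlgStB.Invariance
import Groth.Agent.AlgStB.RepWith

set_option autoImplicit false
open CategoryTheory AlgebraicGeometry
universe u
open AlgSt

namespace Groth.Agent.S12878

/-- Let `i : 𝒵 ⟶ 𝒳` be an immersion of algebraic stacks over `S`. Then there is a unique locally closed
substack `𝒳' ⊂ 𝒳` (a predicate on objects closed under isomorphisms, with algebraic full subcategory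
and immersion inclusion) such that `i` is 2-isomorphic to an equivalence `𝒵 ⟶ 𝒳'` over `(Sch/S)`
followed by the inclusion `𝒳' ⟶ 𝒳`; moreover `𝒳'` is closed (resp. open) as a substack whenever `i`
is a closed (resp. open) immersion. -/
theorem result {S : Scheme.{u}} {𝒵 𝒳 : AlgSt.Cat S}
    (h𝒵 : AlgSt.IsAlgStack Scheme.fppfPrecoverage 𝒵) (h𝒳 : AlgSt.IsAlgStack Scheme.fppfPrecoverage 𝒳) (i : 𝒵 ⥤ᵇ 𝒳) (hi : AlgSt.IsImm i) :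
    ∃ Q : 𝒳.obj → Prop,
      (AlgSt.IsLocClosedSubstack 𝒳 Q Scheme.fppfPrecoverage ∧
        (∃ i' : 𝒵 ⥤ᵇ AlgSt.fullSub 𝒳 Q, FibCat.IsEquivOver i' ∧
          Nonempty (BasedFunctor.comp i' (AlgSt.subIncl 𝒳 Q) ≅ i)) ∧
        (AlgSt.IsClosedImm i → AlgSt.IsClosedSubstack 𝒳 Q Scheme.fppfPrecoverage) ∧
        (AlgSt.IsOpenImm i → AlgSt.IsOpenSubstack 𝒳 Q Scheme.fppfPrecoverage)) ∧
      ∀ Q' : 𝒳.obj → Prop, AlgSt.IsLocClosedSubstack 𝒳 Q' Scheme.fppfPrecoverage →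
        (∃ i' : 𝒵 ⥤ᵇ AlgSt.fullSub 𝒳 Q', FibCat.IsEquivOver i' ∧
          Nonempty (BasedFunctor.comp i' (AlgSt.subIncl 𝒳 Q') ≅ i)) → Q' = Q := by
  have hG := h𝒵.isStack.1
  obtain ⟨hfull, hfaith⟩ := AlgStB.full_faithful_of_isMono hG h𝒳.isStack.1 i
    (AlgStB.isMono_of_repWith AlgStB.mono_of_isImmersion hi)
  let Q : 𝒳.obj → Prop := fun b => ∃ z, Nonempty (i.obj z ≅ b)
  let i' : 𝒵 ⥤ᵇ AlgSt.fullSub 𝒳 Q :=
    { toFunctor := ObjectProperty.lift Q i.toFunctor fun z => ⟨z, ⟨Iso.refl _⟩⟩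
      w := i.w }
  have : i'.toFunctor.Full := ⟨fun {a b} m => ⟨i.toFunctor.preimage m.hom,
    ObjectProperty.hom_ext _ (i.toFunctor.map_preimage m.hom)⟩⟩
  have : i'.toFunctor.Faithful := ⟨fun {a b} f g h =>
    i.toFunctor.map_injective (congrArg (fun m : i'.obj a ⟶ i'.obj b => m.hom) h)⟩
  have hi' : FibCat.IsEquivOver i' := by
    refine Fib.isEquivOver_of_exists_iso_over i' ?_
    rintro ⟨b, z, ⟨φ⟩⟩
    let g : 𝒳.p.obj b ⟶ 𝒵.p.obj z := 𝒳.p.map φ.inv ≫ eqToHom (i.w_obj z)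
    obtain ⟨z', ψ, hψ⟩ := hG.exists_lift (x := z) g
    have : IsIso ψ := Fib.isIso_of_isHomLift 𝒵.p hG g ψ
    refine ⟨z', ObjectProperty.isoMk _ (i.toFunctor.mapIso (asIso ψ) ≪≫ φ), ?_⟩
    have hz : 𝒵.p.obj z' = 𝒳.p.obj b := IsHomLift.domain_eq 𝒵.p g ψ
    refine IsHomLift.of_fac' _ _ _ ((i.w_obj z').trans hz) rfl ?_
    change 𝒳.p.map (i.map ψ ≫ φ.hom) = _
    simp only [Functor.map_comp, Fib.w_map i, IsHomLift.fac' 𝒵.p g ψ, g]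
    simp [← Functor.map_comp]
  have hsq : ∀ {P : MorphismProperty (AlgSp.Sp S)}, AlgSt.RepByAlgSpWith P i →
      AlgSt.RepByAlgSpWith P (AlgSt.subIncl 𝒳 Q) := fun h =>
    (AlgStB.repByAlgSpWith_iff_of_square (AlgSt.subIncl 𝒳 Q) i i' (BasedFunctor.id _) hi'
      (Fib.isEquivOver_id _) (Iso.refl _)).2 h
  have hiso : ObjectProperty.IsClosedUnderIsomorphisms Q :=
    ⟨fun e ⟨z, ⟨φ⟩⟩ => ⟨z, ⟨φ ≪≫ e⟩⟩⟩
  have halg := AlgStB.isAlgStack_of_isEquivOver hi' h𝒵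
  refine ⟨Q, ⟨⟨hiso, halg, hsq hi⟩, ⟨i', hi', ⟨Iso.refl _⟩⟩, fun h => ⟨hiso, halg, hsq h⟩,
    fun h => ⟨hiso, halg, hsq h⟩⟩, ?_⟩
  rintro Q' ⟨hc, -, -⟩ ⟨j, hj, ⟨e⟩⟩
  funext b
  refine propext ⟨fun hb => ?_, fun ⟨z, ⟨φ⟩⟩ => ?_⟩
  · obtain ⟨z, ψ, -⟩ := Fib.exists_iso_over_of_isEquivOver hj ⟨b, hb⟩
    exact ⟨z, ⟨(Fib.appIso e z).symm ≪≫ (AlgSt.subIncl 𝒳 Q').toFunctor.mapIso ψ⟩⟩
  · exact hc.of_iso ((Fib.appIso e z) ≪≫ φ) (j.obj z).property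

end Groth.Agent.S12878
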