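import Groth.Statements.S12902
import Groth.Agent.QCohBase.Qcqs
import Groth.Agent.QCohBase.Exact

set_option autoImplicit false
universe u
open CategoryTheory CategoryTheory.Limits AlgebraicGeometry
open Coherent

namespace Groth.Agent.S12902

/-- Let X be a scheme, j : U → X a quasi-compact open immersion, Z the closed complement of U, and F a
quasi-coherent O_X-module. Then the subsheaf Γ_Z(F) ⊆ F of sections supported in Z (the kernel of F
→ j_*(F|_U)) is a quasi-coherent O_X-module. -/
theorem result {U X : Scheme.{u}} (j : U ⟶ X) [IsOpenImmersion j] [QuasiCompact j]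
    (F : X.Modules) (hF : Coh.IsQCoh F) :
    Coh.IsQCoh ((DCoh.gammaZ j).obj F) := by
  haveI : F.IsQuasicoherent := hF
  exact Groth.Agent.QCohBase.isQuasicoherent_kernel _ hF
    (Groth.Agent.QCohBase.isQuasicoherent_pushforward
      ((Scheme.Modules.restrictFunctor j).obj F) j)

end Groth.Agent.S12902
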