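import Groth.Statements.S12903
import Groth.Agent.QCohBase.Qcqs
import Groth.Agent.QCohBase.Exact

set_option backward.isDefEq.respectTransparency.types false
set_option linter.style.haveILetI false

set_option autoImplicit false
universe u
open CategoryTheory CategoryTheory.Limits AlgebraicGeometry Opposite
open Coherent

namespace Groth.Agent.S12903

/-- Let X be a scheme, j : U → X a quasi-compact open immersion with closed complement Z, F a
quasi-coherent O_X-module, V an affine open of X and I a finitely generated ideal of Γ(V, O_X)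
cutting out Z ∩ V (a point of V lies outside U if and only if it lies in no basic open X_f with f ∈
I). Then a section s of F over V belongs to the subsheaf Γ_Z(F) of sections supported in Z (the
kernel of F → j_*(F|_U)) if and only if I^n s = 0 for some n. -/
theorem result {U X : Scheme.{u}} (j : U ⟶ X) [IsOpenImmersion j] [QuasiCompact j]
    (F : X.Modules) (hF : Coh.IsQCoh F) (V : X.Opens) (hV : IsAffineOpen V)
    (I : Ideal (X.ringCatSheaf.obj.obj (op V))) (hI : I.FG)
    (hZ : ∀ x : X, x ∈ V → (x ∉ Set.range j.base ↔ ∀ f ∈ I, x ∉ X.basicOpen (f : Γ(X, V))))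
    (s : F.val.obj (op V)) :
    s ∈ Set.range ((((CxOX.gammaZι j).app F).val.app (op V)).hom) ↔ ∃ n : ℕ, ∀ a ∈ I ^ n, a • s = 0 := by
  open Groth.Agent.QCohBase in
  haveI : F.IsQuasicoherent := hF
  let η := (Scheme.Modules.restrictAdjunction j).unit.app F
  let W₀ : X.Opens := j ''ᵁ (j ⁻¹ᵁ V)
  have hW₀ : W₀ ≤ V := j.image_preimage_le V
  have hmem : ∀ x : X, x ∈ W₀ ↔ x ∈ V ∧ x ∈ Set.range j.base := fun x => by
    constructor
    · rintro ⟨y, hy, rfl⟩; exact ⟨hy, y, rfl⟩
    · rintro ⟨hxV, y, rfl⟩; exact ⟨y, hxV, rfl⟩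
  let s' : Γ(F, V) := s
  have hiff : s ∈ Set.range ((((CxOX.gammaZι j).app F).val.app (Opposite.op V)).hom) ↔ mres F hW₀ s' = 0 := by
    constructor
    · rintro ⟨t, ht⟩
      have h := ConcreteCategory.congr_hom
        (congrArg (fun r => Scheme.Modules.Hom.app r V) (Limits.kernel.condition η)) t
      show η.app V s' = 0
      rw [show s' = (Limits.kernel.ι η).app V t from ht.symm]
      exact h
    · intro h
      obtain ⟨t, ht⟩ := sections_exact_left (T := ShortComplex.mk (Limits.kernel.ι η) η (Limits.kernel.condition η))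
        (ShortComplex.exact_of_f_is_kernel _ (Limits.kernelIsKernel η)) s' h
      exact ⟨t, ht⟩
  rw [hiff]
  constructor
  · intro h0
    let K : Ideal Γ(X, V) :=
      { carrier := {a | a • s' = 0}
        add_mem' := fun {a b} ha hb => by
          simp only [Set.mem_ofPred_eq] at ha hb ⊢
          rw [add_smul, ha, hb, add_zero]
        zero_mem' := zero_smul _ _
        smul_mem' := fun c a ha => by
          simp only [Set.mem_ofPred_eq, smul_eq_mul] at ha ⊢
          rw [mul_smul, ha, smul_zero] }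
    have hrad : (show Ideal Γ(X, V) from I) ≤ K.radical := fun f hf => by
      have hD : X.basicOpen f ≤ W₀ := fun x hx => (hmem x).2 ⟨X.basicOpen_le f hx, by
        by_contra hxr
        exact (hZ x (X.basicOpen_le f hx)).1 hxr f hf hx⟩
      obtain ⟨n, hn⟩ := exists_pow_smul_eq_zero F hV f rfl (X.basicOpen_le f) s' (by
        rw [← mres_mres F hW₀ hD s', h0, map_zero])
      exact ⟨n, hn⟩
    obtain ⟨n, hn⟩ := Ideal.exists_pow_le_of_le_radical_of_fg hrad hI
    exact ⟨n, fun a ha => hn ha⟩
  · rintro ⟨n, hn⟩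
    have hcov : ∀ x : W₀, ∃ f : Γ(X, V), f ∈ (show Ideal Γ(X, V) from I) ∧ x.1 ∈ X.basicOpen f := fun x => by
      obtain ⟨hxV, hxr⟩ := (hmem x.1).1 x.2
      by_contra hc
      push Not at hc
      exact (hZ x.1 hxV).2 (fun f hf => hc f hf) hxr
    choose f hfI hxf using hcov
    refine eq_of_iSup_le F (fun x : W₀ => X.basicOpen (f x) ⊓ W₀) (fun x => inf_le_right)
      (fun x hx => TopologicalSpace.Opens.mem_iSup.2 ⟨⟨x, hx⟩, hxf ⟨x, hx⟩, hx⟩) _ _ fun x => ?_
    rw [map_zero, mres_mres]
    have hle : X.basicOpen (f x) ⊓ W₀ ≤ X.basicOpen (f x) := inf_le_left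
    rw [← mres_mres F (X.basicOpen_le (f x)) hle s']
    have hu : IsUnit (ores (X.basicOpen_le (f x)) (f x) ^ n) :=
      (X.toRingedSpace.isUnit_res_basicOpen (f x)).pow n
    have h1 : ores (X.basicOpen_le (f x)) (f x) ^ n • mres F (X.basicOpen_le (f x)) s' = 0 := by
      rw [← map_pow, ← mres_smul, show (f x ^ n) • s' = 0 from hn _ (Ideal.pow_mem_pow (hfI x) n), map_zero]
    rw [hu.smul_eq_zero.1 h1, map_zero]

end Groth.Agent.S12903
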