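import Groth.Statements.S12905
import Groth.Agent.GrModLib.TwistN
import Groth.Agent.ProjCoord.Basic
import Groth.Agent.CurveDeg.ZeroSupp
import Groth.Agent.Devissage.Vanishing
-- import your own Groth.Agent.* helpers here

set_option autoImplicit false
universe u
open CategoryTheory CategoryTheory.Limits AlgebraicGeometry
open Variety

namespace Groth.Agent.S12905

/-- Let k be a field and φ : F' → F a monomorphism of coherent modules on P^n_k whose cokernel has
support of Krull dimension at most zero (a finite set of closed points, possibly empty). If F' is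
m-regular then F is m-regular. (The published statement is the case of an ideal sheaf contained in
the ideal sheaf of a curve with quotient supported at finitely many points, phrased as an inequality
of regularities; the argument gives the form stated here.) -/
theorem result (k : Type u) [Field k] (n : ℕ)
    (F' F : (CohB1.ProjSpace n k).Modules) (hF' : Coh.IsCoh F') (hF : Coh.IsCoh F) (φ : F' ⟶ F) [Mono φ]
    (hsupp : topologicalKrullDim (CohB1.support (cokernel φ)) ≤ 0) (m : ℤ)
    (h : Curv2.IsMRegular k n F' m) : Curv2.IsMRegular k n F m := by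
  let _ : (CohB1.ProjSpace n k).Over (Spec (CommRingCat.of k)) := ⟨CohB1.ProjSpace.toSpec n k⟩
  have : IsProper (CohB1.ProjSpace n k ↘ Spec (CommRingCat.of k)) :=
    Groth.Agent.ProjCoord.isProper_baseMap (n := n) (R := k)
  have hcov : (⨆ f : CohB1.polyGrading n k 1,
      Proj.basicOpen (CohB1.polyGrading n k) (f : MvPolynomial (Fin (n + 1)) k)) = ⊤ :=
    Proj.iSup_basicOpen_eq_top _ (fun f : CohB1.polyGrading n k 1 => (f : MvPolynomial (Fin (n + 1)) k))
      (Groth.Agent.ProjCoord.irrelevant_le_span_X.trans (Ideal.span_mono (by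
        rintro _ ⟨j, rfl⟩
        exact ⟨⟨_, MvPolynomial.isHomogeneous_X k j⟩, rfl⟩)))
  intro i h1 hn
  have hL : PicF.IsInvertible (Twist.twistProjSpace n k (m - i)) :=
    Groth.Agent.GrModLib.isInvertible_twist (CohB1.polyGrading n k) _ hcov
  have hC : Coh.IsCoh (cokernel φ) := Groth.Agent.QCohBase.isCoh_cokernel φ hF'.1 hF
  obtain ⟨hfin, hcl⟩ := Groth.Agent.CurveDeg.finite_support (k := k) _ hC hsupp
  have hS : (ShortComplex.mk φ (cokernel.π φ) (cokernel.condition φ)).ShortExact :=
    { exact := ShortComplex.exact_of_g_is_cokernel _ (cokernelIsCokernel φ)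
      mono_f := inferInstanceAs (Mono φ)
      epi_g := inferInstanceAs (Epi (cokernel.π φ)) }
  obtain ⟨w, hw⟩ := Groth.Agent.CurveDeg.shortExact_twist hS hL
  exact Groth.Agent.Devissage.subsingleton_HH_middle hw i (h i h1 hn)
    (Groth.Agent.CurveDeg.subsingleton_HH_of_finite_support (k := k)
      (Groth.Agent.TwistVanish.isCoh_tensorMod hC hL) hfin hcl
      (Groth.Agent.CurveDeg.support_tensorMod_subset _ hL) h1)

end Groth.Agent.S12905
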