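import Groth.Statements.S12907
import Groth.Agent.McCoy.HilbertBurch

set_option autoImplicit false
universe u
open CAlgX

namespace Groth.Agent.S12907

/-- Let R be a Noetherian ring and I a nonzero ideal admitting a free resolution 0 → R^m → R^n → I → 0:
an injective matrix Ψ with n rows and m columns, and a linear map π : R^n → R with image I whose
kernel is the image of Ψ. Then n = m + 1; there is a non-zero-divisor a with I = a · I_m(Ψ), where
I_m(Ψ) is the ideal generated by the m × m minors of Ψ; and the I_m(Ψ)-depth of R is at least 2.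
(The published statement also asserts that this depth is exactly 2; only the lower bound is stated
here. The hypothesis that I is nonzero is implicit in the published statement.) -/
theorem result {R : Type u} [CommRing R] [IsNoetherianRing R] (m n : ℕ)
    (Ψ : Matrix (Fin n) (Fin m) R) (π : (Fin n → R) →ₗ[R] R)
    (hΨ : LinearMap.ker Ψ.mulVecLin = ⊥) (hex : LinearMap.ker π = LinearMap.range Ψ.mulVecLin)
    (hI : LinearMap.range π ≠ ⊥) :
    n = m + 1 ∧
      (∃ a : R, a ∈ nonZeroDivisors R ∧ LinearMap.range π = Ideal.span {a} * CAlgX.minorIdeal Ψ m) ∧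
      2 ≤ LocCoh.idealDepth (CAlgX.minorIdeal Ψ m) R := by
  classical
  obtain ⟨p, rfl⟩ : ∃ p : Fin n → R, π = Fintype.linearCombination R p := by
    refine ⟨fun i => π (Pi.single i 1), LinearMap.pi_ext' fun i => LinearMap.ext_ring ?_⟩
    simp [Fintype.linearCombination_apply_single]
  have hinj : Function.Injective Ψ.mulVecLin := LinearMap.ker_eq_bot.1 hΨ
  have hex' : ∀ v, ∑ i, p i * v i = 0 ↔ ∃ x, Ψ.mulVec x = v := fun v => by
    have := SetLike.ext_iff.1 hex v
    simp only [LinearMap.mem_ker, LinearMap.mem_range, Fintype.linearCombination_apply,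
      smul_eq_mul, Matrix.mulVecLin_apply] at this
    rw [← this]
    simp only [mul_comm]
  have hrel : ∀ j, ∑ i, p i * Ψ i j = 0 := fun j => (hex' _).2 ⟨Pi.single j 1, by ext i; simp⟩
  have hp : ∃ i, p i ≠ 0 := by
    by_contra hne
    push Not at hne
    refine hI (LinearMap.range_eq_bot.2 ?_)
    ext i
    simp [hne]
  obtain rfl := Groth.Agent.McCoy.card_eq Ψ p hinj hrel (fun v => (hex' v).1) hp
  obtain ⟨hd, a, ha, hpa⟩ := Groth.Agent.McCoy.structure_eq Ψ p hinj hex'
  refine ⟨rfl, ⟨a, ha, ?_⟩, hd⟩
  rw [show p = fun i => a * Groth.Agent.McCoy.Δ Ψ i from funext hpa,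
    Groth.Agent.McCoy.range_linearCombination_smul, Groth.Agent.McCoy.minorIdeal_eq_span]

end Groth.Agent.S12907
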