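import Groth.Statements.S12908
import Groth.Agent.McCoy.HilbertBurch

set_option autoImplicit false
universe u
open CAlgX

namespace Groth.Agent.S12908

/-- Let R be a Noetherian ring, t a natural number, Ψ a (t+1) × t matrix over R such that the
I_t(Ψ)-depth of R is at least 2, where I_t(Ψ) is the ideal generated by the t × t minors of Ψ, and a
a non-zero-divisor of R. Put Δ_i = a · (-1)^i det Ψ_i, where Ψ_i is Ψ with row i deleted. Then 0 →
R^t → R^{t+1} → R, with first map Ψ and second map v ↦ Σ_i Δ_i v_i, is exact: Ψ is injective and the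
kernel of the second map equals the image of Ψ; moreover the image of the second map is the ideal a
· I_t(Ψ). (The published statement adds that this ideal has depth 2 exactly when a is a unit; that
clause is not stated here.) -/
theorem result {R : Type u} [CommRing R] [IsNoetherianRing R] (t : ℕ)
    (Ψ : Matrix (Fin (t + 1)) (Fin t) R) (hdepth : 2 ≤ LocCoh.idealDepth (CAlgX.minorIdeal Ψ t) R)
    (a : R) (ha : a ∈ nonZeroDivisors R) :
    LinearMap.ker Ψ.mulVecLin = ⊥ ∧
      LinearMap.ker (Fintype.linearCombination R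
          (fun i : Fin (t + 1) => a * ((-1 : R) ^ (i : ℕ) * (Ψ.submatrix i.succAbove id).det))) =
        LinearMap.range Ψ.mulVecLin ∧
      LinearMap.range (Fintype.linearCombination R
          (fun i : Fin (t + 1) => a * ((-1 : R) ^ (i : ℕ) * (Ψ.submatrix i.succAbove id).det))) =
        Ideal.span {a} * CAlgX.minorIdeal Ψ t := by
  obtain ⟨x, y, hx, hy, hxy⟩ := Groth.Agent.McCoy.exists_pairReg hdepth
  have ha' : ∀ z : R, a * z = 0 → z = 0 := fun z hz =>
    mem_nonZeroDivisors_iff_right.1 ha z (by rwa [mul_comm])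
  have hinj : Function.Injective Ψ.mulVecLin :=
    (Groth.Agent.McCoy.injective_iff Ψ).2 (Groth.Agent.McCoy.annihilator_eq_bot_of_mem hx
      (mem_nonZeroDivisors_iff_right.2 fun z hz => hxy.1 z (by rwa [mul_comm])))
  have hsum : ∀ v : Fin (t + 1) → R, Fintype.linearCombination R
      (fun i : Fin (t + 1) => a * Groth.Agent.McCoy.Δ Ψ i) v =
      a * ∑ i, v i * Groth.Agent.McCoy.Δ Ψ i := fun v => by
    rw [Fintype.linearCombination_apply, Finset.mul_sum]
    exact Finset.sum_congr rfl fun i _ => by rw [smul_eq_mul]; ring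
  refine ⟨LinearMap.ker_eq_bot.2 hinj, ?_, ?_⟩
  · ext v
    rw [LinearMap.mem_ker, LinearMap.mem_range]
    refine ⟨fun hv => ?_, fun ⟨z, hz⟩ => ?_⟩
    · obtain ⟨z, hz⟩ := Groth.Agent.McCoy.exact_of_depth Ψ hdepth
        (ha' _ ((hsum v).symm.trans hv))
      exact ⟨z, hz⟩
    · refine (hsum v).trans ?_
      rw [← hz]
      rw [Matrix.mulVecLin_apply, Groth.Agent.McCoy.sum_mulVec_Δ, mul_zero]
  · refine (Groth.Agent.McCoy.range_linearCombination_smul a (Groth.Agent.McCoy.Δ Ψ)).trans ?_
    rw [Groth.Agent.McCoy.minorIdeal_eq_span]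

end Groth.Agent.S12908
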