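import Groth.Statements.S12909
import Groth.Agent.McCoy.FreeRes

set_option autoImplicit false
universe u
open CAlgX

namespace Groth.Agent.S12909

/-- Let R be a Noetherian ring and I a nonzero ideal with a finite free resolution 0 → R^{n_e} → … →
R^{n_1} → R^{n_0} → I → 0 with e ≥ 1: the map R^{n_{i+1}} → R^{n_i} is the matrix A_i, the map π :
R^{n_0} → R is linear with image I, the kernel of π is the image of A_0, the kernel of A_i is the
image of A_{i+1} for 0 ≤ i ≤ e - 2, and A_{e-1} is injective. Then I contains a non-zero-divisor of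
R. (The hypothesis that I is nonzero is implicit in the published statement: the zero ideal of a
domain has a finite free resolution and contains no non-zero-divisor.) -/
theorem result {R : Type u} [CommRing R] [IsNoetherianRing R]
    (e : ℕ) (he : 1 ≤ e) (n : ℕ → ℕ) (A : (i : ℕ) → Matrix (Fin (n i)) (Fin (n (i + 1))) R)
    (π : (Fin (n 0) → R) →ₗ[R] R) (hI : LinearMap.range π ≠ ⊥)
    (h0 : LinearMap.ker π = LinearMap.range (A 0).mulVecLin)
    (hA : ∀ i, i + 2 ≤ e → LinearMap.ker (A i).mulVecLin = LinearMap.range (A (i + 1)).mulVecLin)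
    (hlast : LinearMap.ker (A (e - 1)).mulVecLin = ⊥) :
    ∃ x : R, x ∈ LinearMap.range π ∧ x ∈ nonZeroDivisors R := by
  classical
  let P : Matrix (Fin 1) (Fin (n 0)) R := Matrix.of fun _ j => π (Pi.single j 1)
  have hsum : ∀ v, P.mulVecLin v = fun _ => π v := fun v => funext fun _ => by
    conv_rhs => rw [pi_eq_sum_univ' v, map_sum]
    simp [P, Matrix.mulVec, dotProduct, map_smul, mul_comm]
  have hker : LinearMap.ker P.mulVecLin = LinearMap.ker π := by
    ext v
    simp only [LinearMap.mem_ker, hsum, funext_iff, Pi.zero_apply]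
    exact ⟨fun h => h 0, fun h _ => h⟩
  have hP : P ≠ 0 := fun hP => hI (LinearMap.range_eq_bot.2 (LinearMap.ext fun v => by
    have := congr_fun (hsum v) 0
    simp [hP] at this
    simpa using this.symm))
  obtain ⟨x, hx, hx'⟩ := Groth.Agent.McCoy.exists_nonZeroDivisor_of_resolution e he n A P hP
    (hker.trans h0) hA hlast
  refine ⟨x, ?_, hx'⟩
  refine Ideal.span_le.2 ?_ hx
  rintro _ ⟨j, rfl⟩
  exact ⟨_, rfl⟩

end Groth.Agent.S12909
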