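import Groth.Statements.S12910
import Groth.Agent.S10829
import Groth.Agent.GrModLib.TwistN
import Groth.Agent.ProjCoord.Basic
import Groth.Agent.CurveDeg.ZeroDim
import Groth.Agent.CurveDeg.Tensor
import Groth.Agent.CurveDeg.Euler
import Groth.Agent.CohFinite.Vanishing
import Groth.Agent.QCohBase.CohProps
-- import your own Groth.Agent.* helpers here

set_option autoImplicit false
universe u
open CategoryTheory CategoryTheory.Limits AlgebraicGeometry
open Variety

namespace Groth.Agent.S12910

variable {k : Type u} [Field k] {n : ℕ}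

local notation "P" => CohB1.ProjSpace n k
local notation "O(" d ")" => Twist.twistProjSpace n k d

theorem inv_twist (d : ℤ) : PicF.IsInvertible (O(d)) :=
  Groth.Agent.GrModLib.isInvertible_twist (CohB1.polyGrading n k) d
    (Proj.iSup_basicOpen_eq_top _ (fun f : CohB1.polyGrading n k 1 => (f : MvPolynomial (Fin (n + 1)) k))
      (Groth.Agent.ProjCoord.irrelevant_le_span_X.trans (Ideal.span_mono (by
        rintro _ ⟨j, rfl⟩
        exact ⟨⟨_, MvPolynomial.isHomogeneous_X k j⟩, rfl⟩))))

theorem vanish_supp (M : (P).Modules) (hM : Coh.IsCoh M) (e : ℤ) {c p : ℕ}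
    (hc : topologicalKrullDim (CohB1.support M) ≤ c) (hp : c < p) :
    Subsingleton (Coh.HH P (CohB1.tensorMod M (O(e))) p) := by
  let _ : (P).Over (Spec (CommRingCat.of k)) := ⟨CohB1.ProjSpace.toSpec n k⟩
  have : IsProper (P ↘ Spec (CommRingCat.of k)) :=
    Groth.Agent.ProjCoord.isProper_baseMap (n := n) (R := k)
  have := Groth.Agent.CurveDeg.isSeparated_of_proper (k := k) (X := P)
  have := Groth.Agent.CurveDeg.isNoetherian_of_proper (k := k) (X := P)
  refine Groth.Agent.CohFinite.subsingleton_HH_of_support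
    ⟨_, Groth.Agent.QCohBase.isClosed_support M hM.2⟩ _
    (Groth.Agent.TensorMod.isQCoh_tensorMod (inv_twist e) hM.1)
    (Groth.Agent.CurveDeg.support_tensorMod_subset _ (inv_twist e)) p ?_
  exact lt_of_le_of_lt hc (by exact_mod_cast hp)

theorem vanish_top (M : (P).Modules) (hM : Coh.IsQCoh M) (e : ℤ) {p : ℕ} (hp : n < p) :
    Subsingleton (Coh.HH P (CohB1.tensorMod M (O(e))) p) := by
  let _ : (P).Over (Spec (CommRingCat.of k)) := ⟨CohB1.ProjSpace.toSpec n k⟩
  have : IsProper (P ↘ Spec (CommRingCat.of k)) :=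
    Groth.Agent.ProjCoord.isProper_baseMap (n := n) (R := k)
  have := Groth.Agent.CurveDeg.isSeparated_of_proper (k := k) (X := P)
  have := Groth.Agent.CurveDeg.isNoetherian_of_proper (k := k) (X := P)
  refine Groth.Agent.CohFinite.subsingleton_HH_of_dim_lt _
    (Groth.Agent.TensorMod.isQCoh_tensorMod (inv_twist e) hM) p ?_
  rw [Groth.Agent.S10829.result k n]
  exact_mod_cast hp

/-- vanishing in all positive degrees -/
def V (M : (P).Modules) (e : ℤ) : Prop :=
  ∀ i : ℕ, 1 ≤ i → Subsingleton (Coh.HH P (CohB1.tensorMod M (O(e - i))) i)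

theorem V_of_reg {M : (P).Modules} (hM : Coh.IsQCoh M) {e : ℤ} (h : Curv2.IsMRegular k n M e) : V M e :=
  fun i hi => (le_or_gt i n).elim (h i hi) (fun hn => vanish_top M hM _ hn)

theorem step {S : ShortComplex (P).Modules} (hS : S.ShortExact)
    {T : ShortComplex (P).Modules} (hT : T.ShortExact) (eZ : T.X₂ ≅ S.X₁)
    (hH : Coh.IsCoh T.X₃) (hsupp : topologicalKrullDim (CohB1.support T.X₃) ≤ 1) {e : ℤ}
    (hE : V S.X₂ e) (hB : V T.X₁ (e + 1)) : V S.X₃ e := by
  intro i hi
  obtain ⟨w, hw⟩ := Groth.Agent.CurveDeg.shortExact_twist hS (inv_twist (n := n) (k := k) (e - i))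
  obtain ⟨w', hw'⟩ := Groth.Agent.CurveDeg.shortExact_twist hT (inv_twist (n := n) (k := k) (e - i))
  refine Groth.Agent.Devissage.subsingleton_HH_right hw i (hE i hi) ?_
  refine Groth.Agent.Devissage.subsingleton_HH_of_iso
    (Groth.Agent.TensorMod.tensorIso eZ (Iso.refl _)) (i + 1) ?_
  refine Groth.Agent.Devissage.subsingleton_HH_middle hw' (i + 1) ?_
    (vanish_supp _ hH _ (c := 1) (by exact_mod_cast hsupp) (by omega))
  have h := hB (i + 1) (by omega)
  rwa [show (e + 1 - ((i + 1 : ℕ) : ℤ)) = e - i by push_cast; ring] at h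

theorem shortExact_image {A B : (P).Modules} (f : A ⟶ B) :
    (ShortComplex.mk (Abelian.image.ι f) (cokernel.π f) (kernel.condition _)).ShortExact :=
  { exact := ShortComplex.exact_of_f_is_kernel _ (kernelIsKernel (cokernel.π f))
    mono_f := inferInstanceAs (Mono (kernel.ι _))
    epi_g := inferInstanceAs (Epi (cokernel.π f)) }

set_option maxHeartbeats 1000000 in
theorem V_image (E : ChainComplex (P).Modules ℕ) (t : ℕ) (hbdd : ∀ s : ℕ, t < s → IsZero (E.X s))
    (hcoh : ∀ s : ℕ, Coh.IsCoh (E.X s)) (d : ℤ)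
    (hreg : ∀ s : ℕ, Curv2.IsMRegular k n (E.X s) (d + s))
    (hsupp : ∀ i : ℕ, 0 < i → topologicalKrullDim (CohB1.support (E.homology i)) ≤ 1) :
    ∀ (m s : ℕ), t ≤ s + m → V (Abelian.image (E.d (s + 1) s)) (d + s + 1) := by
  intro m
  induction m with
  | zero =>
    intro s hs i _
    refine Groth.Agent.Devissage.subsingleton_HH_of_isZero ?_ i
    have h0 : IsZero (E.X (s + 1)) := hbdd _ (by omega)
    have hz : IsZero (Abelian.image (E.d (s + 1) s)) := by
      rw [IsZero.iff_id_eq_zero]
      apply (cancel_epi (Abelian.factorThruImage (E.d (s + 1) s))).1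
      exact h0.eq_of_src _ _
    let M := Abelian.image (E.d (s + 1) s)
    have hL := inv_twist (n := n) (k := k) (d + s + 1 - i)
    have hS0 : (ShortComplex.mk (0 : M ⟶ M) (0 : M ⟶ M) zero_comp).ShortExact :=
      { exact := ShortComplex.exact_of_isZero_X₂ _ hz
        mono_f := ⟨fun a b _ => hz.eq_of_tgt a b⟩
        epi_g := ⟨fun a b _ => hz.eq_of_src a b⟩ }
    obtain ⟨w, hw⟩ := Groth.Agent.CurveDeg.shortExact_twist hS0 hL
    have := hw.mono_f
    exact IsZero.of_mono_eq_zero _ (Groth.Agent.CurveDeg.twist_zero (M := M) (N := M) hL)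
  | succ m ih =>
    intro s hs
    let _ : (P).Over (Spec (CommRingCat.of k)) := ⟨CohB1.ProjSpace.toSpec n k⟩
    have : IsProper (P ↘ Spec (CommRingCat.of k)) :=
      Groth.Agent.ProjCoord.isProper_baseMap (n := n) (R := k)
    have := Groth.Agent.CurveDeg.isNoetherian_of_proper (k := k) (X := P)
    let f := E.d (s + 2) (s + 1)
    let g := E.d (s + 1) s
    let C := E.sc' (s + 2) (s + 1) s
    -- 0 → ker g → E → im g → 0
    have hS : (ShortComplex.mk (kernel.ι g) (cokernel.π (kernel.ι g) ≫ (Abelian.coimageIsoImage g).hom)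
        (by simp)).ShortExact :=
      { exact := ShortComplex.exact_of_g_is_cokernel _
          (cokernel.cokernelIso (kernel.ι g) _ (Abelian.coimageIsoImage g) rfl)
        mono_f := inferInstanceAs (Mono (kernel.ι g))
        epi_g := inferInstanceAs (Epi (cokernel.π (kernel.ι g) ≫ (Abelian.coimageIsoImage g).hom)) }
    -- 0 → im f → ker g → H → 0
    have hzero : Abelian.image.ι f ≫ g = 0 := by
      apply (cancel_epi (Abelian.factorThruImage f)).1
      rw [← Category.assoc, Abelian.image.fac, comp_zero]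
      exact E.d_comp_d _ _ _
    let φ : Abelian.image f ⟶ kernel g := kernel.lift g (Abelian.image.ι f) hzero
    have : Mono φ := mono_of_mono_fac (kernel.lift_ι g (Abelian.image.ι f) hzero)
    have hT : (ShortComplex.mk φ (cokernel.π φ) (cokernel.condition φ)).ShortExact :=
      { exact := ShortComplex.exact_of_g_is_cokernel _ (cokernelIsCokernel φ)
        mono_f := inferInstanceAs (Mono φ)
        epi_g := inferInstanceAs (Epi (cokernel.π φ)) }
    have hfac : Abelian.factorThruImage f ≫ φ = kernel.lift C.g C.f C.zero := by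
      apply equalizer.hom_ext
      show (Abelian.factorThruImage f ≫ φ) ≫ kernel.ι g = kernel.lift C.g C.f C.zero ≫ kernel.ι C.g
      rw [kernel.lift_ι, Category.assoc, kernel.lift_ι, Abelian.image.fac]
      rfl
    have eH : cokernel φ ≅ E.homology (s + 1) :=
      (cokernelEpiComp (Abelian.factorThruImage f) φ).symm ≪≫ cokernelIsoOfEq hfac ≪≫
        C.homologyIsoCokernelLift.symm ≪≫
        (E.homologyIsoSc' (s + 2) (s + 1) s (by simp) (by simp)).symm
    have hC1 : Coh.IsCoh (kernel g) :=
      Groth.Agent.QCohBase.isCoh_kernel g (hcoh _) (hcoh _).1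
    have hI : (Abelian.image f).IsQuasicoherent :=
      Groth.Agent.QCohBase.isQuasicoherent_kernel _ (hcoh _).1
        (Groth.Agent.QCohBase.isQuasicoherent_cokernel f (hcoh _).1 (hcoh _).1)
    refine step hS hT (Iso.refl _) (Groth.Agent.QCohBase.isCoh_cokernel φ hI hC1) ?_ ?_ ?_
    · show topologicalKrullDim (CohB1.support (cokernel φ)) ≤ 1
      rw [show CohB1.support (cokernel φ) = CohB1.support (E.homology (s + 1)) from Groth.Agent.Devissage.support_eq_of_iso eH]
      exact hsupp _ (by omega)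
    · have h := V_of_reg (hcoh (s + 1)).1 (hreg (s + 1))
      rwa [show d + ((s + 1 : ℕ) : ℤ) = d + s + 1 by push_cast; ring] at h
    · have h := ih (s + 1) (by omega)
      rwa [show d + ((s + 1 : ℕ) : ℤ) + 1 = d + s + 1 + 1 by push_cast; ring] at h

/-- Let k be a field, d an integer, and E a bounded chain complex ⋯ → E_2 → E_1 → E_0 of coherent
modules on P^n_k (E_s = 0 for s large) such that E_s is (d + s)-regular for every s and, for every i
> 0, the homology sheaf H_i(E) has support of Krull dimension at most 1. Then the cokernel of E_1 →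
E_0 is d-regular and the image of E_1 → E_0 is (d + 1)-regular. -/
theorem result (k : Type u) [Field k] (n : ℕ)
    (E : ChainComplex ((CohB1.ProjSpace n k).Modules) ℕ) (t : ℕ) (hbdd : ∀ s : ℕ, t < s → IsZero (E.X s))
    (hcoh : ∀ s : ℕ, Coh.IsCoh (E.X s)) (d : ℤ)
    (hreg : ∀ s : ℕ, Curv2.IsMRegular k n (E.X s) (d + s))
    (hsupp : ∀ i : ℕ, 0 < i → topologicalKrullDim (CohB1.support (E.homology i)) ≤ 1) :
    Curv2.IsMRegular k n (cokernel (E.d 1 0)) d ∧
      Curv2.IsMRegular k n (Abelian.image (E.d 1 0)) (d + 1) := by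
  have h := V_image E t hbdd hcoh d hreg hsupp t 0 (by omega)
  rw [show d + ((0 : ℕ) : ℤ) + 1 = d + 1 by simp] at h
  refine ⟨fun i hi _ => ?_, fun i hi _ => h i hi⟩
  obtain ⟨w, hw⟩ := Groth.Agent.CurveDeg.shortExact_twist (shortExact_image (E.d 1 0))
    (inv_twist (n := n) (k := k) (d - i))
  have h0 := V_of_reg (hcoh 0).1 (hreg 0)
  rw [show d + ((0 : ℕ) : ℤ) = d by simp] at h0
  refine Groth.Agent.Devissage.subsingleton_HH_right hw i (h0 i hi) ?_
  have h1 := h (i + 1) (by omega)
  rwa [show d + 1 - ((i + 1 : ℕ) : ℤ) = d - i by push_cast; ring] at h1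

end Groth.Agent.S12910
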