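import Groth.Statements.S12914
import Mathlib

set_option autoImplicit false
universe u
open CAlgX

namespace Groth.Agent.S12914


open MvPolynomial Module

section
variable {F : Type*} [Field F] {ι : Type*}

/-- forms of degree `j` vanishing at the given vectors -/
noncomputable def V (z : ι → Fin 3 → F) (j : ℕ) : Submodule F (MvPolynomial (Fin 3) F) :=
  homogeneousSubmodule (Fin 3) F j ⊓ ⨅ i, LinearMap.ker (aeval (z i)).toLinearMap

lemma mem_V {z : ι → Fin 3 → F} {j : ℕ} {f : MvPolynomial (Fin 3) F} :
    f ∈ V z j ↔ f.IsHomogeneous j ∧ ∀ i, eval (z i) f = 0 := by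
  simp [V, mem_homogeneousSubmodule, aeval_eq_eval]

instance (z : ι → Fin 3 → F) (j : ℕ) : FiniteDimensional F (V z j) := by
  haveI : FiniteDimensional F (homogeneousSubmodule (Fin 3) F j) :=
    Module.Finite.iff_fg.2 (homogeneousSubmodule_fg (σ := Fin 3) (R := F) j)
  exact Submodule.finiteDimensional_of_le inf_le_left

/-- linear forms times forms of degree `j` vanishing at the given vectors -/
noncomputable def P (z : ι → Fin 3 → F) (j : ℕ) : Submodule F (MvPolynomial (Fin 3) F) :=
  homogeneousSubmodule (Fin 3) F 1 * V z j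

lemma P_le (z : ι → Fin 3 → F) (j : ℕ) : P z j ≤ V z (j + 1) := by
  refine Submodule.mul_le.2 fun a ha b hb => mem_V.2 ⟨?_, fun i => ?_⟩
  · rw [add_comm]; exact IsHomogeneous.mul ha (mem_V.1 hb).1
  · rw [map_mul, (mem_V.1 hb).2, mul_zero]

instance (z : ι → Fin 3 → F) (j : ℕ) : FiniteDimensional F (P z j) :=
  Submodule.finiteDimensional_of_le (P_le z j)

lemma finrank_map_add {M N : Type*} [AddCommGroup M] [Module F M] [AddCommGroup N] [Module F N]
    (g : M →ₗ[F] N) (W : Submodule F M) [FiniteDimensional F W] :
    finrank F (W.map g) + finrank F ↥(W ⊓ LinearMap.ker g) = finrank F W := by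
  have h := LinearMap.finrank_range_add_finrank_ker (g.domRestrict W)
  rw [LinearMap.range_domRestrict, LinearMap.ker_domRestrict] at h
  rw [← Submodule.map_comap_subtype, Submodule.finrank_map_subtype_eq]
  exact h

lemma finrank_mul_map {σ : Type*} {l : MvPolynomial σ F} (hl : l ≠ 0)
    (W : Submodule F (MvPolynomial σ F)) :
    finrank F (W.map (LinearMap.mulLeft F l)) = finrank F W :=
  (Submodule.equivMapOfInjective _ (fun a b h => mul_left_cancel₀ hl h) W).finrank_eq.symm

lemma key [Infinite F] [Finite ι] (z : ι → Fin 3 → F) (hz : ∀ i, z i ≠ 0) (m : ℕ) :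
    finrank F (V z (m + 1)) ≤ finrank F (V z m) + (m + 2) ∧
    (finrank F (V z m) < finrank F (V z (m + 1)) →
      finrank F (V z (m + 1)) + finrank F (V z (m + 1)) + 1
        ≤ finrank F (P z (m + 1)) + finrank F (V z m)) := by
  classical
  obtain ⟨c, hc⟩ : ∃ c : F, ∀ i, z i 0 + c * z i 1 + c ^ 2 * z i 2 ≠ 0 := by
    let p : ι → Polynomial F := fun i => Polynomial.C (z i 0) + Polynomial.C (z i 1) * Polynomial.X
      + Polynomial.C (z i 2) * Polynomial.X ^ 2
    have hp : ∀ i, p i ≠ 0 := fun i h => hz i (by
      have h0 := congrArg (Polynomial.coeff · 0) h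
      have h1 := congrArg (Polynomial.coeff · 1) h
      have h2 := congrArg (Polynomial.coeff · 2) h
      simp [p, Polynomial.coeff_C, Polynomial.coeff_X, Polynomial.coeff_X_pow] at h0 h1 h2
      funext j; fin_cases j <;> assumption)
    obtain ⟨c, hc⟩ := (Set.finite_iUnion fun i => Polynomial.finite_setOf_isRoot (hp i)).exists_notMem
    refine ⟨c, fun i h => hc (Set.mem_iUnion.2 ⟨i, ?_⟩)⟩
    simp only [Set.mem_setOf_eq, Polynomial.IsRoot, p, Polynomial.eval_add, Polynomial.eval_mul,
      Polynomial.eval_C, Polynomial.eval_X, Polynomial.eval_pow]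
    linear_combination h
  let l : MvPolynomial (Fin 3) F := X 0 + C c * X 1 + C (c ^ 2) * X 2
  let sub : MvPolynomial (Fin 3) F →ₐ[F] MvPolynomial (Fin 2) F :=
    aeval ![-(C c * X 0 + C (c ^ 2) * X 1), X 0, X 1]
  let back : MvPolynomial (Fin 2) F →ₐ[F] MvPolynomial (Fin 3) F := aeval ![X 1, X 2]
  have hl1 : l.IsHomogeneous 1 :=
    ((isHomogeneous_X F 0).add (isHomogeneous_C_mul_X c 1)).add (isHomogeneous_C_mul_X _ 2)
  have hlev : ∀ i, eval (z i) l ≠ 0 := fun i => by
    simpa [l] using hc i
  have hl0 : l ≠ 0 := fun h => by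
    have h' : eval (![1, 0, 0] : Fin 3 → F) l = 1 := by simp [l]
    rw [h, map_zero] at h'
    exact zero_ne_one h'
  have hsub : sub l = 0 := by
    simp [sub, l, aeval_C, ← algebraMap_eq]
  have hdvd : ∀ f, sub f = 0 → l ∣ f := by
    intro f hf
    have he : (Ideal.Quotient.mkₐ F (Ideal.span {l})).comp (back.comp sub) =
        Ideal.Quotient.mkₐ F (Ideal.span {l}) := by
      apply MvPolynomial.algHom_ext
      intro i
      have hb : back.comp sub (X i) - X i ∈ Ideal.span {l} := by
        rw [Ideal.mem_span_singleton]
        fin_cases i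
        · exact ⟨-1, by simp [back, sub, l, ← algebraMap_eq]; ring⟩
        · simp [back, sub]
        · simp [back, sub]
      exact Ideal.Quotient.eq.2 hb
    have h1 := DFunLike.congr_fun he f
    simp only [AlgHom.comp_apply, hf, map_zero] at h1
    exact Ideal.mem_span_singleton.1 (Ideal.Quotient.eq_zero_iff_mem.1 h1.symm)
  have hker : V z (m + 1) ⊓ LinearMap.ker sub.toLinearMap =
      (V z m).map (LinearMap.mulLeft F l) := by
    apply le_antisymm
    · rintro f ⟨hf, hf'⟩
      obtain ⟨g, rfl⟩ := hdvd f hf'
      obtain ⟨hh, hv⟩ := mem_V.1 hf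
      have hcomp : l * homogeneousComponent m g = l * g := by
        rcases eq_or_ne g 0 with rfl | hg0
        · simp
        have hg : g.IsHomogeneous m := by
          have hsum := (sum_homogeneousComponent g)
          have key2 : ∀ j, j ≠ m → homogeneousComponent j g = 0 := by
            intro j hj
            have hj' : homogeneousComponent (j + 1) (l * g) = l * homogeneousComponent j g := by
              conv_lhs => rw [← sum_homogeneousComponent g, Finset.mul_sum, map_sum]
              rw [Finset.sum_eq_single j]
              · exact homogeneousComponent_eq_self (by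
                  rw [add_comm]
                  exact hl1.mul (homogeneousComponent_isHomogeneous j g))
              · intro b _ hb
                rw [homogeneousComponent_of_mem (m := j + 1) (n := 1 + b)
                  (hl1.mul (homogeneousComponent_isHomogeneous b g)), if_neg (by omega)]
              · intro hnot
                rw [homogeneousComponent_eq_zero j g (by
                  simp [Finset.mem_range] at hnot; omega)]
                simp
            rw [homogeneousComponent_of_mem hh, if_neg (by omega)] at hj'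
            exact (mul_eq_zero.1 hj'.symm).resolve_left hl0
          rw [← hsum]
          refine IsHomogeneous.sum _ _ _ fun j _ => ?_
          rcases eq_or_ne j m with rfl | hj
          · exact homogeneousComponent_isHomogeneous j g
          · rw [key2 j hj]; exact isHomogeneous_zero _ _ _
        rw [homogeneousComponent_eq_self hg]
      refine ⟨g, mem_V.2 ⟨?_, fun i => ?_⟩, rfl⟩
      · have := mul_left_cancel₀ hl0 hcomp
        rw [← this]; exact homogeneousComponent_isHomogeneous m g
      · have := hv i
        rw [map_mul] at this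
        exact (mul_eq_zero.1 this).resolve_left (hlev i)
    · rintro _ ⟨g, hg, rfl⟩
      refine ⟨mem_V.2 ⟨?_, fun i => ?_⟩, ?_⟩
      · rw [add_comm]; exact hl1.mul (mem_V.1 hg).1
      · simp [(mem_V.1 hg).2 i]
      · simp [hsub]
  set J := (V z (m + 1)).map sub.toLinearMap with hJ
  have hJdim : finrank F J + finrank F (V z m) = finrank F (V z (m + 1)) := by
    rw [← finrank_map_add sub.toLinearMap (V z (m + 1)), hker, finrank_mul_map hl0]
  have hJhom : ∀ f ∈ J, f.IsHomogeneous (m + 1) := by
    rintro _ ⟨f, hf, rfl⟩
    have h2 := (mem_V.1 hf).1.aeval (g := (![-(C c * X 0 + C (c ^ 2) * X 1), X 0, X 1] : Fin 3 → MvPolynomial (Fin 2) F))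
      (n := 1) (fun i => by
        fin_cases i
        · exact ((isHomogeneous_C_mul_X c (0 : Fin 2)).add (isHomogeneous_C_mul_X (c ^ 2) 1)).neg
        · exact isHomogeneous_X F _
        · exact isHomogeneous_X F _)
    rw [one_mul] at h2
    exact h2
  refine ⟨?_, fun hlt => ?_⟩
  · let mon : Fin (m + 2) → MvPolynomial (Fin 2) F := fun i => X 0 ^ (i : ℕ) * X 1 ^ (m + 1 - i)
    have hle : J ≤ Submodule.span F (Set.range mon) := by
      intro f hf
      rw [as_sum f]
      refine Submodule.sum_mem _ fun d hd => ?_
      have hdeg : d 0 + d 1 = m + 1 := by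
        have := hJhom f hf (mem_support_iff.1 hd)
        simpa [Finsupp.weight_apply, Finsupp.sum_fintype, Fin.sum_univ_two] using this
      have heq : monomial d (coeff d f) = coeff d f • mon ⟨d 0, by omega⟩ := by
        rw [monomial_eq, Finsupp.prod_fintype _ _ (fun i => pow_zero _), Fin.prod_univ_two, smul_eq_C_mul]
        simp only [mon]
        rw [show m + 1 - d 0 = d 1 by omega]
      rw [heq]
      exact Submodule.smul_mem _ _ (Submodule.subset_span ⟨_, rfl⟩)
    have h1 : finrank F J ≤ m + 2 := by
      haveI : FiniteDimensional F (Submodule.span F (Set.range mon)) :=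
        Module.Finite.span_of_finite F (Set.finite_range _)
      exact (Submodule.finrank_mono hle).trans ((finrank_range_le_card mon).trans (by simp))
    omega
  · let A := J.map (LinearMap.mulLeft F (X 0 : MvPolynomial (Fin 2) F))
    let B := J.map (LinearMap.mulLeft F (X 1 : MvPolynomial (Fin 2) F))
    have hnot : ¬ B ≤ A := by
      intro hle
      have hpow : ∀ (n : ℕ), ∀ f ∈ J, (X 0 : MvPolynomial (Fin 2) F) ^ n ∣ f := by
        intro n
        induction n with
        | zero => exact fun f _ => one_dvd _
        | succ n ih =>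
          intro f hf
          obtain ⟨g, hg, hgf⟩ := hle (Submodule.mem_map_of_mem hf)
          simp only [LinearMap.mulLeft_apply] at hgf
          have hnd : ¬ (X 0 : MvPolynomial (Fin 2) F) ∣ X 1 := by
            simp [X_dvd_X]
          have h1 : (X 0 : MvPolynomial (Fin 2) F) ^ (n + 1) ∣ X 1 * f := by
            rw [← hgf, pow_succ']; exact mul_dvd_mul_left _ (ih g hg)
          exact Prime.pow_dvd_of_dvd_mul_left X_prime _ hnd h1
      have hJbot : J = ⊥ := by
        refine (Submodule.eq_bot_iff _).2 fun f hf => ?_
        by_contra hf0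
        obtain ⟨g, hg⟩ := hpow (m + 2) f hf
        have hg0 : g ≠ 0 := fun h => hf0 (by simp [hg, h])
        have := (hJhom f hf).totalDegree hf0
        rw [hg, totalDegree_mul_of_isDomain (pow_ne_zero _ (X_ne_zero _)) hg0, totalDegree_X_pow] at this
        omega
      have h0 : finrank F J = 0 := by rw [hJbot, finrank_bot]
      omega
    have hAlt : A < A ⊔ B := lt_of_le_of_ne le_sup_left fun h => hnot (h.symm ▸ le_sup_right)
    have hA : finrank F A = finrank F J := finrank_mul_map (X_ne_zero _) J
    have hsup : A ⊔ B ≤ (P z (m + 1)).map sub.toLinearMap := by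
      refine sup_le ?_ ?_
      · rintro _ ⟨_, ⟨f, hf, rfl⟩, rfl⟩
        exact ⟨X 1 * f, Submodule.mul_mem_mul (isHomogeneous_X F _) hf, by simp [sub]⟩
      · rintro _ ⟨_, ⟨f, hf, rfl⟩, rfl⟩
        exact ⟨X 2 * f, Submodule.mul_mem_mul (isHomogeneous_X F _) hf, by simp [sub]⟩
    have hkerP : (V z (m + 1)).map (LinearMap.mulLeft F l) ≤ P z (m + 1) ⊓ LinearMap.ker sub.toLinearMap := by
      rintro _ ⟨g, hg, rfl⟩
      exact ⟨Submodule.mul_mem_mul hl1 hg, by simp [hsub]⟩
    haveI : FiniteDimensional F ↥(A ⊔ B) := Submodule.finiteDimensional_of_le hsup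
    have h1 := Submodule.finrank_lt_finrank_of_lt hAlt
    have h2 := Submodule.finrank_mono hsup
    have h3 := Submodule.finrank_mono hkerP
    rw [finrank_mul_map hl0] at h3
    have h4 := finrank_map_add sub.toLinearMap (P z (m + 1))
    omega

end

section
variable {k K : Type*} [Field k] [Field K] [Algebra k K] {ι : Type*}

lemma finrank_span_map {σ : Type*} (U : Submodule k (MvPolynomial σ k)) [FiniteDimensional k U] :
    finrank K (Submodule.span K (MvPolynomial.map (algebraMap k K) '' (U : Set (MvPolynomial σ k)))) =
      finrank k U := by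
  classical
  let b := Module.finBasis k U
  let v : Fin (finrank k U) → MvPolynomial σ K := fun s =>
    MvPolynomial.map (algebraMap k K) (b s : MvPolynomial σ k)
  let bK := Basis.ofVectorSpace k K
  have hli : LinearIndependent K v := by
    rw [Fintype.linearIndependent_iff]
    intro g hg
    have hb : LinearIndependent k (fun s => (b s : MvPolynomial σ k)) :=
      b.linearIndependent.map' U.subtype (Submodule.ker_subtype U)
    intro s
    apply bK.repr.injective
    ext i
    rw [map_zero, Finsupp.zero_apply]
    refine Fintype.linearIndependent_iff.1 hb (fun t => bK.repr (g t) i) ?_ s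
    ext d
    have h := congrArg (fun q => bK.repr (coeff d q) i) hg
    simp only [coeff_sum, coeff_smul, coeff_zero, map_zero, Finsupp.zero_apply, map_sum,
      Finsupp.finsetSum_apply] at h
    simp only [coeff_sum, coeff_smul, coeff_zero, smul_eq_mul]
    rw [← h]
    refine Finset.sum_congr rfl fun t _ => ?_
    simp only [v, coeff_map]
    simp only [smul_eq_mul]
    rw [mul_comm (g t), ← Algebra.smul_def, map_smul, Finsupp.smul_apply, smul_eq_mul, mul_comm]
  have hspan : Submodule.span K (MvPolynomial.map (algebraMap k K) '' (U : Set (MvPolynomial σ k))) =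
      Submodule.span K (Set.range v) := by
    apply le_antisymm
    · rw [Submodule.span_le]
      rintro _ ⟨u, hu, rfl⟩
      have h := congrArg (fun x : U => MvPolynomial.map (algebraMap k K) (x : MvPolynomial σ k))
        (b.sum_repr ⟨u, hu⟩)
      simp only [AddSubmonoidClass.coe_finsetSum, SetLike.val_smul, map_sum] at h
      rw [← h]
      refine Submodule.sum_mem _ fun s _ => ?_
      rw [smul_eq_C_mul, map_mul, map_C, ← smul_eq_C_mul]
      exact Submodule.smul_mem _ _ (Submodule.subset_span ⟨s, rfl⟩)
    · refine Submodule.span_mono ?_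
      rintro _ ⟨s, rfl⟩
      exact ⟨_, (b s).2, rfl⟩
  rw [hspan, finrank_span_eq_card hli, Fintype.card_fin]

lemma V_baseChange (z : ι → Fin 3 → k) (j : ℕ) :
    V (fun i s => algebraMap k K (z i s)) j =
      Submodule.span K (MvPolynomial.map (algebraMap k K) '' (V z j : Set (MvPolynomial (Fin 3) k))) := by
  classical
  apply le_antisymm
  · intro f hf
    let bK := Basis.ofVectorSpace k K
    obtain ⟨hh, hv⟩ := mem_V.1 hf
    let S := f.support.biUnion fun d => (bK.repr (coeff d f)).support
    let part : _ → MvPolynomial (Fin 3) k := fun i => ∑ d ∈ f.support, monomial d (bK.repr (coeff d f) i)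
    have hf' : f = ∑ i ∈ S, bK i • MvPolynomial.map (algebraMap k K) (part i) := by
      simp only [part, map_sum, map_monomial, Finset.smul_sum, smul_monomial, smul_eq_mul]
      rw [Finset.sum_comm]
      conv_lhs => rw [as_sum f]
      refine Finset.sum_congr rfl fun d hd => ?_
      rw [← map_sum]
      congr 1
      conv_lhs => rw [← bK.linearCombination_repr (coeff d f)]
      rw [Finsupp.linearCombination_apply, Finsupp.sum_of_support_subset _
        (Finset.subset_biUnion_of_mem (fun d => (bK.repr (coeff d f)).support) hd) _ (by simp)]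
      exact Finset.sum_congr rfl fun i _ => by rw [Algebra.smul_def, mul_comm]
    rw [hf']
    refine Submodule.sum_mem _ fun i _ => Submodule.smul_mem _ _ (Submodule.subset_span ⟨part i, ?_, rfl⟩)
    refine mem_V.2 ⟨IsHomogeneous.sum _ _ _ fun d hd =>
      isHomogeneous_monomial _ (by
        have := hh (mem_support_iff.1 hd)
        rw [Finsupp.degree_eq_weight_one]; exact this), fun p => ?_⟩
    have h := congrArg (fun x => bK.repr x i) (hv p)
    simp only [map_zero, Finsupp.zero_apply] at h
    rw [eval_eq, map_sum, Finsupp.finsetSum_apply] at h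
    simp only [part, map_sum, eval_monomial]
    rw [← h]
    refine Finset.sum_congr rfl fun d _ => ?_
    simp only [← map_pow]
    rw [← map_prod, mul_comm (coeff d f), ← Algebra.smul_def, map_smul, Finsupp.smul_apply, smul_eq_mul,
      mul_comm, Finsupp.prod]
  · rw [Submodule.span_le]
    rintro _ ⟨g, hg, rfl⟩
    obtain ⟨hh, hv⟩ := mem_V.1 hg
    refine mem_V.2 ⟨hh.map _, fun i => ?_⟩
    rw [eval_map, ← coe_eval₂Hom]
    have h := congrArg (algebraMap k K) (hv i)
    rw [map_zero] at h
    rw [← h, eval, ← RingHom.comp_apply]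
    congr 1
    exact MvPolynomial.ringHom_ext (by simp) (by simp)

lemma P_baseChange (z : ι → Fin 3 → k) (j : ℕ) :
    P (fun i s => algebraMap k K (z i s)) j =
      Submodule.span K (MvPolynomial.map (algebraMap k K) '' (P z j : Set (MvPolynomial (Fin 3) k))) := by
  have h1 : ∀ {F : Type _} [Field F], homogeneousSubmodule (Fin 3) F 1 =
      V (fun (i : Empty) => (i.elim : Fin 3 → F)) 1 := by
    intro F _
    ext f
    simp [mem_V, mem_homogeneousSubmodule]
  have hh : homogeneousSubmodule (Fin 3) K 1 = Submodule.span K
      (MvPolynomial.map (algebraMap k K) '' (homogeneousSubmodule (Fin 3) k 1 : Set (MvPolynomial (Fin 3) k))) := by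
    have h2 := V_baseChange (K := K) (fun (i : Empty) => (i.elim : Fin 3 → k)) 1
    rw [← h1] at h2
    rw [← h2]
    ext f
    simp [mem_V, mem_homogeneousSubmodule]
  apply le_antisymm
  · rw [P, hh, V_baseChange, Submodule.span_mul_span, Submodule.span_le]
    rintro _ ⟨_, ⟨a, ha, rfl⟩, _, ⟨b, hb, rfl⟩, rfl⟩
    exact Submodule.subset_span ⟨a * b, Submodule.mul_mem_mul ha hb, by simp⟩
  · rw [Submodule.span_le]
    rintro _ ⟨f, hf, rfl⟩
    refine Submodule.mul_induction_on hf (fun a ha b hb => ?_) (fun a b ha hb => ?_)
    · rw [map_mul]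
      refine Submodule.mul_mem_mul (IsHomogeneous.map ha _) ?_
      rw [V_baseChange]
      exact Submodule.subset_span ⟨b, hb, rfl⟩
    · rw [map_add]; exact Submodule.add_mem _ ha hb

end

lemma key' {k : Type*} [Field k] {ι : Type*} [Finite ι] (z : ι → Fin 3 → k) (hz : ∀ i, z i ≠ 0) (m : ℕ) :
    finrank k (V z (m + 1)) ≤ finrank k (V z m) + (m + 2) ∧
    (finrank k (V z m) < finrank k (V z (m + 1)) →
      finrank k (V z (m + 1)) + finrank k (V z (m + 1)) + 1
        ≤ finrank k (P z (m + 1)) + finrank k (V z m)) := by
  have h := key (F := AlgebraicClosure k) (fun i s => algebraMap k (AlgebraicClosure k) (z i s))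
    (fun i h => hz i (funext fun s => (algebraMap k (AlgebraicClosure k)).injective
      (by simpa using congrFun h s))) m
  rw [V_baseChange, V_baseChange, P_baseChange] at h
  simp only [finrank_span_map] at h
  exact h

lemma exists_spanning {k : Type*} [Field k] {M : Type*} [AddCommGroup M] [Module k M]
    (A B : Submodule k M) (h : A ≤ B) [FiniteDimensional k B] :
    ∃ S : Finset M, (S : Set M) ⊆ B ∧ A ⊔ Submodule.span k (S : Set M) = B ∧
      S.card + finrank k A ≤ finrank k B := by
  classical
  obtain ⟨T, hT⟩ := Submodule.exists_isCompl (A.comap B.subtype)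
  let b := Module.finBasis k T
  refine ⟨Finset.univ.image fun s => (((b s : T) : B) : M), ?_, ?_, ?_⟩
  · intro x hx
    simp at hx
    obtain ⟨s, rfl⟩ := hx
    exact Subtype.coe_prop _
  · have hspan : Submodule.span k (Set.range fun s => (((b s : T) : B) : M)) = T.map B.subtype := by
      rw [show (fun s => (((b s : T) : B) : M)) = (B.subtype ∘ₗ T.subtype) ∘ b from rfl, Set.range_comp,
        ← Submodule.map_span, b.span_eq, Submodule.map_top, LinearMap.range_comp, Submodule.range_subtype]
    rw [Finset.coe_image, Finset.coe_univ, Set.image_univ, hspan]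
    have h1 := congrArg (Submodule.map B.subtype) hT.sup_eq_top
    rwa [Submodule.map_sup, Submodule.map_comap_subtype, Submodule.map_top, Submodule.range_subtype,
      inf_eq_right.2 h] at h1
  · have h1 := Submodule.finrank_add_eq_of_isCompl hT
    rw [(Submodule.comapSubtypeEquivOfLe h).finrank_eq] at h1
    have h2 : (Finset.univ.image fun s => (((b s : T) : B) : M)).card ≤ finrank k T :=
      Finset.card_image_le.trans (by simp)
    omega


/-- Let k be a field, Z a finite set of nonzero vectors in k^3, regarded as points of the projective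
plane, and I the homogeneous vanishing ideal of Z in k[x_0, x_1, x_2]: a polynomial belongs to I
exactly when every one of its homogeneous components vanishes at every vector of Z. If Z lies on a
curve of degree d, that is I contains a nonzero homogeneous form of degree d, then I is generated by
at most d + 1 elements. -/
theorem result (k : Type u) [Field k]
    (Z : Finset (Fin 3 → k)) (hZ : ∀ p ∈ Z, p ≠ 0) (I : Ideal (MvPolynomial (Fin 3) k))
    (hI : ∀ f : MvPolynomial (Fin 3) k, f ∈ I ↔
      ∀ p ∈ Z, ∀ j : ℕ, MvPolynomial.eval p (MvPolynomial.homogeneousComponent j f) = 0)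
    (d : ℕ) (hf : ∃ f ∈ I, MvPolynomial.IsHomogeneous f d ∧ f ≠ 0) :
    Submodule.spanFinrank I ≤ d + 1 := by
  classical
  let z : {p // p ∈ Z} → Fin 3 → k := fun p => p.1
  have hz' : ∀ i, z i ≠ 0 := fun i => hZ i.1 i.2
  have hVI : ∀ j, ∀ f ∈ V z j, f ∈ I := by
    intro j f hf
    obtain ⟨hh, hv⟩ := mem_V.1 hf
    refine (hI f).2 fun p hp i => ?_
    rw [homogeneousComponent_of_mem hh]
    split
    · exact hv ⟨p, hp⟩
    · simp
  obtain ⟨f₀, hf₀, hfd, hf₀0⟩ := hf
  have hf₀V : f₀ ∈ V z d := mem_V.2 ⟨hfd, fun p => by
    have := (hI f₀).1 hf₀ p.1 p.2 d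
    rwa [homogeneousComponent_eq_self hfd] at this⟩
  have hex : ∃ j, V z j ≠ ⊥ := ⟨d, fun h => hf₀0 (by simpa [h] using hf₀V)⟩
  have had : Nat.find hex ≤ d := Nat.find_min' hex fun h => hf₀0 (by simpa [h] using hf₀V)
  have hbelow : ∀ j, j < Nat.find hex → V z j = ⊥ := fun j hj => not_not.1 (Nat.find_min hex hj)
  have hne := Nat.find_spec hex
  rcases ha : Nat.find hex with _ | a
  · rw [ha] at hne
    obtain ⟨g, hg, hg0⟩ := (Submodule.ne_bot_iff _).1 hne
    obtain ⟨hh, hv⟩ := mem_V.1 hg
    have hgC : g = C (coeff 0 g) := by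
      rw [← homogeneousComponent_zero, homogeneousComponent_eq_self hh]
    have hu : IsUnit g := by
      rw [hgC]
      exact (isUnit_iff_ne_zero.2 fun h => hg0 (by rw [hgC, h, map_zero])).map C
    have hI1 : I = Submodule.span (MvPolynomial (Fin 3) k) ({1} : Set (MvPolynomial (Fin 3) k)) := by
      rw [I.eq_top_of_isUnit_mem (hVI 0 g hg) hu]
      exact Ideal.span_singleton_one.symm
    rw [hI1]
    exact (Submodule.spanFinrank_span_le_ncard_of_finite (Set.finite_singleton _)).trans
      (by rw [Set.ncard_singleton]; omega)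
  · have hchoice : ∀ n, ∃ S : Finset (MvPolynomial (Fin 3) k), (S : Set (MvPolynomial (Fin 3) k)) ⊆ (V z (a + 1 + n + 1) : Set (MvPolynomial (Fin 3) k)) ∧
        P z (a + 1 + n) ⊔ Submodule.span k (S : Set (MvPolynomial (Fin 3) k)) = V z (a + 1 + n + 1) ∧
        S.card + finrank k (P z (a + 1 + n)) ≤ finrank k (V z (a + 1 + n + 1)) :=
      fun n => exists_spanning _ _ (P_le z _)
    choose S hS1 hS2 hS3 using hchoice
    obtain ⟨S₀, hS₀1, hS₀2, hS₀3⟩ := exists_spanning (⊥ : Submodule k (MvPolynomial (Fin 3) k))
      (V z (a + 1)) bot_le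
    rw [finrank_bot] at hS₀3
    let U : ℕ → Finset (MvPolynomial (Fin 3) k) := fun n =>
      Nat.rec S₀ (fun i U => U ∪ S i) n
    have hU0 : (U 0).card = S₀.card := rfl
    have hinv : ∀ n, finrank k (V z (a + n)) < finrank k (V z (a + n + 1)) ∧
        (U n).card + n + finrank k (V z (a + n)) ≤ finrank k (V z (a + n + 1)) := by
      intro n
      induction n with
      | zero =>
        have h0 : finrank k (V z a) = 0 := by rw [hbelow a (by omega), finrank_bot]
        have h1 : finrank k (V z (a + 1)) ≠ 0 := fun h => by
          rw [ha] at hne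
          exact hne (Submodule.finrank_eq_zero.1 h)
        constructor
        · simp only [Nat.add_zero]; omega
        · simp only [Nat.add_zero]; omega
      | succ n ih =>
        obtain ⟨hlt, hc⟩ := ih
        have hk := (key' z hz' (a + n)).2 hlt
        have hs := hS3 n
        have hcard : (U (n + 1)).card ≤ (U n).card + (S n).card := Finset.card_union_le _ _
        have e1 : a + 1 + n = a + n + 1 := by omega
        have e2 : a + (n + 1) = a + n + 1 := by omega
        rw [e1] at hs
        rw [e2]
        constructor <;> omega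
    have hcardU : ∀ n, (U n).card ≤ d + 1 := fun n => by
      have h1 := (hinv n).2
      have h2 := (key' z hz' (a + n)).1
      omega
    have hspanU : ∀ n, ∀ f ∈ V z (a + 1 + n),
        f ∈ Ideal.span (SetLike.coe (U n)) := by
      intro n
      induction n with
      | zero =>
        intro f hf
        rw [Nat.add_zero, ← hS₀2, bot_sup_eq] at hf
        exact Submodule.span_le_restrictScalars k (MvPolynomial (Fin 3) k) _ hf
      | succ n ih =>
        intro f hf
        rw [show a + 1 + (n + 1) = a + 1 + n + 1 from rfl, ← hS2 n] at hf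
        obtain ⟨x, hx, y, hy, rfl⟩ := Submodule.mem_sup.1 hf
        refine Ideal.add_mem _ ?_ ?_
        · refine Submodule.mul_induction_on hx (fun u _ w hw => ?_) (fun _ _ => Ideal.add_mem _)
          refine Ideal.mul_mem_left _ u (Ideal.span_mono ?_ (ih w hw))
          exact Finset.coe_subset.2 Finset.subset_union_left
        · refine Ideal.span_mono ?_ (Submodule.span_le_restrictScalars k (MvPolynomial (Fin 3) k) _ hy)
          exact Finset.coe_subset.2 Finset.subset_union_right
    have hUmono : Monotone fun n => Ideal.span (SetLike.coe (U n)) :=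
      monotone_nat_of_le_succ fun n => Ideal.span_mono (Finset.coe_subset.2 Finset.subset_union_left)
    obtain ⟨N, hN⟩ := monotone_stabilizes_iff_noetherian.2
      (inferInstanceAs (IsNoetherianRing (MvPolynomial (Fin 3) k))) ⟨_, hUmono⟩
    have hU : ∀ n, SetLike.coe (U n) ⊆ (I : Set (MvPolynomial (Fin 3) k)) := by
      intro n
      induction n with
      | zero => exact fun x hx => hVI _ x (hS₀1 hx)
      | succ n ih =>
        intro x hx
        rcases Finset.mem_union.1 hx with h | h
        · exact ih h
        · exact hVI _ x (hS1 n h)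
    have hIeq : I = Submodule.span (MvPolynomial (Fin 3) k) (SetLike.coe (U N)) := by
      refine le_antisymm (fun f hf => ?_) (Ideal.span_le.2 (hU N))
      rw [← sum_homogeneousComponent f]
      refine Submodule.sum_mem _ fun j _ => ?_
      have hjV : homogeneousComponent j f ∈ V z j :=
        mem_V.2 ⟨homogeneousComponent_isHomogeneous j f, fun p => (hI f).1 hf p.1 p.2 j⟩
      by_cases hj : j < a + 1
      · rw [hbelow j (by omega), Submodule.mem_bot] at hjV
        rw [hjV]; exact Submodule.zero_mem _
      obtain ⟨n, rfl⟩ := Nat.exists_eq_add_of_le (not_lt.1 hj)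
      have h1 := hspanU n _ hjV
      rcases le_total n N with h | h
      · exact hUmono h h1
      · have h2 : Ideal.span (SetLike.coe (U N)) = Ideal.span (SetLike.coe (U n)) := hN n h
        show homogeneousComponent (a + 1 + n) f ∈ Ideal.span (SetLike.coe (U N))
        rw [h2]; exact h1
    rw [hIeq]
    exact (Submodule.spanFinrank_span_le_ncard_of_finite (Finset.finite_toSet _)).trans
      (by rw [Set.ncard_coe_finset]; exact hcardU N)

end Groth.Agent.S12914
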