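import Groth.Statements.S12915
import Mathlib

set_option autoImplicit false
universe u
open CAlgX

namespace Groth.Agent.S12915

open MvPolynomial in
theorem finrank_hom (k : Type u) [Field k] (r t : ℕ) :
    Module.finrank k (homogeneousSubmodule (Fin (r + 1)) k t) = Nat.choose (t + r) r := by
  classical
  let s := (Finset.univ : Finset (Fin (r + 1))).finsuppAntidiag t
  have hs : ∀ e : Fin (r + 1) →₀ ℕ, e ∈ s ↔ e.degree = t := fun e => by
    simp only [s, Finset.mem_finsuppAntidiag, Finset.subset_univ, and_true, Finsupp.degree_eq_sum]
  have hspan : homogeneousSubmodule (Fin (r + 1)) k t =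
      Submodule.span k (Set.range fun e : s => monomial e.1 (1 : k)) := by
    refine le_antisymm (fun P hP => ?_) (Submodule.span_le.2 ?_)
    · rw [as_sum P]
      refine Submodule.sum_mem _ fun e he => ?_
      have hem : e.degree = t := by
        rw [Finsupp.degree_eq_weight_one]
        exact hP (mem_support_iff.1 he)
      rw [show monomial e (P.coeff e) = P.coeff e • monomial e (1 : k) by
        rw [smul_monomial, smul_eq_mul, mul_one]]
      exact Submodule.smul_mem _ _ (Submodule.subset_span ⟨⟨e, (hs e).2 hem⟩, rfl⟩)
    · rintro _ ⟨e, rfl⟩
      exact isHomogeneous_monomial 1 ((hs e.1).1 e.2)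
  have hli : LinearIndependent k (fun e : s => monomial e.1 (1 : k)) :=
    ((basisMonomials (Fin (r + 1)) k).linearIndependent.comp (fun e : s => e.1) Subtype.val_injective : _)
  rw [hspan, finrank_span_eq_card hli, Fintype.card_coe, Finset.card_finsuppAntidiag_nat_eq_choose,
    Finset.card_univ, Fintype.card_fin, show r + 1 + t - 1 = t + r by omega]
  exact Nat.choose_symm_of_eq_add rfl


/-- Let k be a field, S = k[x_0, …, x_r], and f a nonzero homogeneous polynomial of degree m. For every
t ≥ m the image in S/(f) of the homogeneous polynomials of degree t is a k-vector space of dimension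
C(t + r, r) - C(t + r - m, r). (The published clause states that the hypersurface f = 0 in P^r has
degree m; its proof computes exactly this Hilbert function, whose polynomial has leading term m
t^(r-1)/(r-1)!, and that computation is what is stated here.) -/
theorem result (k : Type u) [Field k] (r m : ℕ)
    (f : MvPolynomial (Fin (r + 1)) k) (hf : f.IsHomogeneous m) (hf0 : f ≠ 0) (t : ℕ) (ht : m ≤ t) :
    Module.finrank k
        (Submodule.map ((Ideal.Quotient.mkₐ k (Ideal.span {f})).toLinearMap)
          (MvPolynomial.homogeneousSubmodule (Fin (r + 1)) k t)) =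
      Nat.choose (t + r) r - Nat.choose (t + r - m) r := by
  classical
  set V := MvPolynomial.homogeneousSubmodule (Fin (r + 1)) k t
  set W := MvPolynomial.homogeneousSubmodule (Fin (r + 1)) k (t - m)
  set π := (Ideal.Quotient.mkₐ k (Ideal.span {f})).toLinearMap
  haveI : Module.Finite k V := Module.finite_of_finrank_pos (by rw [finrank_hom]; exact Nat.choose_pos (by omega))
  haveI : Module.Finite k W := Module.finite_of_finrank_pos (by rw [finrank_hom]; exact Nat.choose_pos (by omega))
  have hker : LinearMap.ker π ⊓ V = W.map (LinearMap.mulLeft k f) := by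
    refine le_antisymm ?_ ?_
    · rintro z ⟨hz, hzV⟩
      have hz' : z ∈ Ideal.span {f} := Ideal.Quotient.eq_zero_iff_mem.mp hz
      obtain ⟨g, rfl⟩ := Ideal.mem_span_singleton'.mp hz'
      refine ⟨MvPolynomial.homogeneousComponent (t - m) g, MvPolynomial.homogeneousComponent_mem _ _, ?_⟩
      show f * MvPolynomial.homogeneousComponent (t - m) g = g * f
      have hsum : MvPolynomial.homogeneousComponent t (g * f) =
          ∑ i ∈ Finset.range (g.totalDegree + 1), MvPolynomial.homogeneousComponent t (MvPolynomial.homogeneousComponent i g * f) := by
        rw [← map_sum, ← Finset.sum_mul, MvPolynomial.sum_homogeneousComponent]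
      rw [MvPolynomial.homogeneousComponent_of_mem hzV, if_pos rfl] at hsum
      rw [hsum]
      have hi : ∀ i, MvPolynomial.homogeneousComponent t (MvPolynomial.homogeneousComponent i g * f) =
          if t - m = i then MvPolynomial.homogeneousComponent i g * f else 0 := fun i => by
        rw [MvPolynomial.homogeneousComponent_of_mem ((MvPolynomial.homogeneousComponent_isHomogeneous i g).mul hf)]
        by_cases h : t - m = i
        · rw [if_pos h, if_pos (by omega)]
        · rw [if_neg h, if_neg (by omega)]
      simp only [hi, Finset.sum_ite_eq]
      split_ifs with h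
      · ring
      · rw [MvPolynomial.homogeneousComponent_eq_zero _ _ (by simp at h; omega), mul_zero]
    · rintro _ ⟨w, hw, rfl⟩
      refine ⟨Ideal.Quotient.eq_zero_iff_mem.mpr (Ideal.mem_span_singleton'.mpr ⟨w, mul_comm _ _⟩), ?_⟩
      have := hf.mul hw
      rwa [show m + (t - m) = t by omega] at this
  have h1 := (π.comp V.subtype).finrank_range_add_finrank_ker
  have h2 : LinearMap.range (π.comp V.subtype) = V.map π := by rw [LinearMap.range_comp, Submodule.range_subtype]
  have h3 : Module.finrank k (LinearMap.ker (π.comp V.subtype)) = Module.finrank k W := by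
    rw [(Submodule.equivMapOfInjective V.subtype V.injective_subtype _).finrank_eq, LinearMap.ker_comp,
      Submodule.map_comap_subtype, inf_comm, hker]
    exact (Submodule.equivMapOfInjective _ (mul_right_injective₀ hf0) W).finrank_eq.symm
  rw [h2, h3, finrank_hom, finrank_hom] at h1
  rw [show t + r - m = t - m + r by omega, ← h1]
  exact (Nat.add_sub_cancel ..).symm

end Groth.Agent.S12915
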