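import Groth.Statements.S12916
import Mathlib.RingTheory.MvPolynomial.Homogeneous
import Mathlib.RingTheory.Ideal.AssociatedPrime.Finiteness
import Mathlib.RingTheory.Ideal.AssociatedPrime.Localization
import Mathlib.Algebra.Module.Submodule.Union
import Mathlib.RingTheory.Length
import Mathlib.RingTheory.MvPolynomial.Ideal
import Mathlib.RingTheory.Support

set_option autoImplicit false
universe u
open CAlgX

namespace Groth.Agent.S12916

/-- Let k be an infinite field, S = k[x_0, …, x_r], M a finitely generated S-module and d a natural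
number. Then some nonzero homogeneous polynomial f of degree d is quasi-regular on M: the submodule
(0 :_M f) of elements of M annihilated by f has finite length. (The published statement assumes M
graded; this row assumes only that M is finitely generated.) -/
theorem result (k : Type u) [Field k] [Infinite k] (r d : ℕ)
    (M : Type u) [AddCommGroup M] [Module (MvPolynomial (Fin (r + 1)) k) M] [Module.Finite (MvPolynomial (Fin (r + 1)) k) M] :
    ∃ f : MvPolynomial (Fin (r + 1)) k, f.IsHomogeneous d ∧ f ≠ 0 ∧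
      IsFiniteLength (MvPolynomial (Fin (r + 1)) k) ↥(Submodule.torsionBy (MvPolynomial (Fin (r + 1)) k) M f) := by
  classical
  let S := MvPolynomial (Fin (r + 1)) k
  let bad : Set (Ideal S) := {p | p ∈ associatedPrimes S M ∧ ¬ p.IsMaximal}
  haveI : Finite bad := ((associatedPrimes.finite S M).subset fun p hp => hp.1).to_subtype
  let P : bad → Submodule k (MvPolynomial.homogeneousSubmodule (Fin (r + 1)) k d) := fun p =>
    ((p.1 : Ideal S).restrictScalars k).comap (MvPolynomial.homogeneousSubmodule (Fin (r + 1)) k d).subtype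
  have hX : ∀ p : Ideal S, p.IsPrime → (∀ i, (MvPolynomial.X i : S) ^ d ∈ p) → p.IsMaximal := by
    intro p hp hpow
    have hXi : ∀ i, (MvPolynomial.X i : S) ∈ p := fun i => hp.mem_of_pow_mem d (hpow i)
    have hle : RingHom.ker (MvPolynomial.constantCoeff (σ := Fin (r + 1)) (R := k)) ≤ p := by
      intro f hf
      have hf' : f ∈ MvPolynomial.idealOfVars (Fin (r + 1)) k ^ 1 :=
        (MvPolynomial.mem_pow_idealOfVars_iff _ _).2 fun x hx => by
          rw [Nat.one_le_iff_ne_zero]
          intro hdeg
          obtain rfl : x = 0 := (Finsupp.degree_eq_zero_iff x).1 hdeg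
          rw [MvPolynomial.mem_support_iff, ← MvPolynomial.constantCoeff_eq] at hx
          exact hx hf
      rw [pow_one] at hf'
      refine Ideal.span_le.2 ?_ hf'
      rintro _ ⟨i, rfl⟩
      exact hXi i
    have hmax : (RingHom.ker (MvPolynomial.constantCoeff (σ := Fin (r + 1)) (R := k))).IsMaximal :=
      RingHom.ker_isMaximal_of_surjective _ fun c => ⟨MvPolynomial.C c, MvPolynomial.constantCoeff_C _ c⟩
    exact hmax.eq_of_le hp.ne_top hle ▸ hmax
  have hP : ∀ p : bad, P p ≠ ⊤ := by
    rintro ⟨p, hp, hmax⟩ htop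
    refine hmax (hX p hp.isPrime fun i => ?_)
    have : (⟨(MvPolynomial.X i : S) ^ d, MvPolynomial.isHomogeneous_X_pow i d⟩ :
        MvPolynomial.homogeneousSubmodule (Fin (r + 1)) k d) ∈ P ⟨p, hp, hmax⟩ := htop ▸ trivial
    exact this
  obtain ⟨f, hf, hf0⟩ : ∃ f : S, f.IsHomogeneous d ∧ f ≠ 0 ∧ ∀ p ∈ bad, f ∉ p := by
    by_cases hbad : Nonempty bad
    · obtain ⟨⟨f, hf⟩, hfP⟩ := Submodule.exists_forall_notMem_of_forall_ne_top P hP
      obtain ⟨p0⟩ := hbad
      exact ⟨f, hf, fun h0 => hfP p0 (by subst h0; exact Ideal.zero_mem _), fun p hp => hfP ⟨p, hp⟩⟩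
    · exact ⟨(MvPolynomial.X 0 : S) ^ d, MvPolynomial.isHomogeneous_X_pow 0 d,
        pow_ne_zero _ (MvPolynomial.X_ne_zero 0), fun p hp => (hbad ⟨⟨p, hp⟩⟩).elim⟩
  refine ⟨f, hf, hf0.1, ?_⟩
  rw [← Module.length_ne_top_iff]
  have hsupp : ∀ q ∈ Module.support S ↥(Submodule.torsionBy S M f), q.asIdeal.IsMaximal := by
    intro q hq
    obtain ⟨p, hp, hpq⟩ := Ideal.exists_minimalPrimes_le (Module.mem_support_iff_of_finite.1 hq)
    have hass := Module.associatedPrimes.minimalPrimes_annihilator_subset_associatedPrimes S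
      ↥(Submodule.torsionBy S M f) hp
    have hfp : f ∈ p := by
      refine hp.1.2 (Module.mem_annihilator.2 fun x => ?_)
      exact Subtype.ext x.2
    have hpm : p.IsMaximal := by
      by_contra hmax
      exact hf0.2 p ⟨associatedPrimes.subset_of_injective
        (Submodule.torsionBy S M f).injective_subtype hass, hmax⟩ hfp
    exact hpm.eq_of_le q.isPrime.ne_top hpq ▸ hpm
  revert hsupp
  refine IsNoetherianRing.induction_on_isQuotientEquivQuotientPrime S
    (M := ↥(Submodule.torsionBy S M f)) inferInstance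
    (motive := fun N _ _ _ => (∀ q ∈ Module.support S N, q.asIdeal.IsMaximal) →
      Module.length S N ≠ ⊤) ?_ ?_ ?_
  · intro N _ _ _ _ _
    simp
  · intro N _ _ _ p e hN
    have hp : p.asIdeal.IsMaximal := hN p (by
      rw [e.support_eq, Module.mem_support_iff_of_finite, Ideal.annihilator_quotient])
    haveI : IsSimpleModule S (S ⧸ p.asIdeal) := isSimpleModule_iff_isCoatom.2 hp.out
    rw [e.length_eq, Module.length_eq_one]
    exact ENat.one_ne_top
  · intro N₁ _ _ _ N₂ _ _ _ N₃ _ _ _ φ ψ hφ hψ hex h₁ h₃ hN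
    rw [Module.length_eq_add_of_exact φ ψ hφ hψ hex, Ne, ENat.add_eq_top, not_or]
    exact ⟨h₁ fun q hq => hN q (Module.support_subset_of_injective φ hφ hq),
      h₃ fun q hq => hN q (Module.support_subset_of_surjective ψ hψ hq)⟩

end Groth.Agent.S12916
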