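import Groth.Statements.S12918
import Groth.Agent.Comod.Tame

set_option autoImplicit false
universe u v w
open HopfRep

namespace Groth.Agent.S12918

open scoped TensorProduct


/-- Let `k` be a commutative ring, `A` a commutative Hopf algebra over `k`, flat as a `k`-module and `B`
a commutative `k`-algebra with a coaction `ρ : B → B ⊗ A` that is an algebra map (an action of the
affine group scheme `Spec A` on `Spec B`). Then the action admits a total integral — a comodule map
`α : A → B`, for the regular coaction on `A`, with `α 1 = 1` — if and only if `ρ` has a left inverse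
`B ⊗ A → B` which is a comodule map for the coaction `id ⊗ Δ` on `B ⊗ A`. -/
theorem result
    (k : Type u) [CommRing k] (A : Type v) [CommRing A] [HopfAlgebra k A] [Module.Flat k A]
    (B : Type w) [CommRing B] [Algebra k B] [HopfRep.Comod k A B] [GLin.IsCoactAlg k A B] :
    (∃ α : A →ₗ[k] B, Hoch.IsComodHom A α ∧ α 1 = 1) ↔
      ∃ lam : Hoch.Ind k A B →ₗ[k] B, Hoch.IsComodHom A lam ∧ lam ∘ₗ Hoch.toInd k A B = LinearMap.id := by
  constructor
  · rintro ⟨α, hα, hα1⟩
    exact ⟨Groth.Agent.Comod.tameAvg B α ∘ₗ (Hoch.Ind.equiv k A B).symm.toLinearMap,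
      Groth.Agent.Comod.isComodHom_tameAvg hα,
      LinearMap.ext fun b => Groth.Agent.Comod.tameAvg_coact hα1 b⟩
  · rintro ⟨lam, hlam, hid⟩
    refine ⟨lam ∘ₗ (Hoch.Ind.equiv k A B).toLinearMap ∘ₗ TensorProduct.mk k B A 1, ?_, ?_⟩
    · apply LinearMap.ext
      intro a
      have h := LinearMap.congr_fun hlam (Hoch.Ind.equiv k A B (1 ⊗ₜ a))
      simp only [LinearMap.comp_apply, LinearEquiv.coe_coe, TensorProduct.mk_apply] at h ⊢
      rw [h]
      show lam.rTensor A (Hoch.Ind.coactAux k A B (1 ⊗ₜ a)) = _
      rw [Hoch.Ind.coactAux_tmul]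
      generalize Coalgebra.comul (R := k) a = y
      induction y with
      | zero => simp only [TensorProduct.tmul_zero, map_zero]; exact map_zero _
      | tmul p q => rfl
      | add y z hy hz =>
        simp only [TensorProduct.tmul_add, map_add]
        exact (map_add (lam.rTensor A) _ _).trans (congrArg₂ (· + ·) hy hz)
    · show lam (Hoch.Ind.equiv k A B ((1 : B) ⊗ₜ[k] (1 : A))) = 1
      have h := LinearMap.congr_fun hid (1 : B)
      simp only [LinearMap.comp_apply, LinearMap.id_apply] at h
      rw [← Algebra.TensorProduct.one_def, ← GLin.IsCoactAlg.coact_one (k := k) (A := A) (R := B)]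
      exact h

end Groth.Agent.S12918
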