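import Groth.Statements.S12921
import Groth.Agent.Comod.Tame

set_option autoImplicit false
universe u v w
open HopfRep

namespace Groth.Agent.S12921

open Groth.Agent.Comod


/-- Let `k` be a commutative ring, `A` a commutative Hopf algebra over `k`, flat as a `k`-module, `B` a
commutative `k`-algebra with a coaction of `A` that is an algebra map and admits a total integral (a
comodule map `α : A → B` with `α 1 = 1`), and `C = B^A` the subring of invariants. Then for every
ideal `c` of `C` one has `cB ∩ C = c`. (The published statement assumes only that taking invariants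
is exact on `(B, A)`-modules; a total integral, assumed here, gives that exactness.) -/
theorem result
    (k : Type u) [CommRing k] (A : Type v) [CommRing A] [HopfAlgebra k A] [Module.Flat k A]
    (B : Type w) [CommRing B] [Algebra k B] [HopfRep.Comod k A B] [GLin.IsCoactAlg k A B]
    (htame : ∃ α : A →ₗ[k] B, Hoch.IsComodHom A α ∧ α 1 = 1)
    (c : Ideal (GLin.invariants k A B)) :
    (c.map (algebraMap (GLin.invariants k A B) B)).comap (algebraMap (GLin.invariants k A B) B) = c := by
  obtain ⟨α, hα, hα1⟩ := htame
  let R0 : B → GLin.invariants k A B := fun b =>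
    ⟨TameAct.reynolds k A B B α b, reynolds_mem_fixedPts hα b⟩
  refine le_antisymm (fun x hx => ?_) Ideal.le_comap_map
  rw [Ideal.mem_comap] at hx
  have key : ∀ y ∈ c.map (algebraMap (GLin.invariants k A B) B), ∀ b : B, R0 (b * y) ∈ c := by
    intro y hy
    induction hy using Submodule.span_induction with
    | mem z hz =>
      obtain ⟨z, hz, rfl⟩ := hz
      intro b
      have : R0 (b * algebraMap (GLin.invariants k A B) B z) = z * R0 b := Subtype.ext (by
        show TameAct.reynolds k A B B α (b * (z : B)) = (z : B) * TameAct.reynolds k A B B α b
        rw [mul_comm, ← smul_eq_mul (z : B), reynolds_smul_invariant α z.2, smul_eq_mul])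
      rw [this]
      exact c.mul_mem_right _ hz
    | zero =>
      intro b
      have : R0 (b * 0) = 0 := Subtype.ext (by show TameAct.reynolds k A B B α (b * 0) = 0; simp)
      rw [this]; exact c.zero_mem
    | add y z _ _ hy hz =>
      intro b
      have : R0 (b * (y + z)) = R0 (b * y) + R0 (b * z) := Subtype.ext (by
        show TameAct.reynolds k A B B α (b * (y + z)) = _
        rw [mul_add, map_add]; rfl)
      rw [this]; exact c.add_mem (hy b) (hz b)
    | smul r y _ hy =>
      intro b
      rw [smul_eq_mul, ← mul_assoc]
      exact hy _
  have := key _ hx 1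
  have hR : R0 (1 * algebraMap (GLin.invariants k A B) B x) = x := Subtype.ext (by
    show TameAct.reynolds k A B B α (1 * (x : B)) = (x : B)
    rw [one_mul]; exact reynolds_eq_self hα1 x.2)
  rwa [hR] at this

end Groth.Agent.S12921
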