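import Groth.Statements.S12923
import Groth.Agent.Comod.Tame

set_option autoImplicit false
universe u v w
open HopfRep

namespace Groth.Agent.S12923

open Groth.Agent.Comod


/-- Let `k` be a commutative ring, `A` a commutative Hopf algebra over `k`, flat as a `k`-module, `B` a
commutative `k`-algebra with a coaction of `A` that is an algebra map and admits a total integral (a
comodule map `α : A → B` with `α 1 = 1`), `C = B^A`, and `b` an ideal of `B` which is a subcomodule
(a closed subscheme of `Spec B` stable under the action). Then the image of `V(b)` under `Spec B →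
Spec C` is the closed set `V(b ∩ C)`. (The published statement assumes only that taking invariants
is exact on `(B, A)`-modules; a total integral, assumed here, gives that exactness.) -/
theorem result
    (k : Type u) [CommRing k] (A : Type v) [CommRing A] [HopfAlgebra k A] [Module.Flat k A]
    (B : Type w) [CommRing B] [Algebra k B] [HopfRep.Comod k A B] [GLin.IsCoactAlg k A B]
    (htame : ∃ α : A →ₗ[k] B, Hoch.IsComodHom A α ∧ α 1 = 1)
    (b : Ideal B) (hb : HopfRep.IsSubcomod (k := k) (A := A) (b.restrictScalars k)) :
    PrimeSpectrum.comap (algebraMap (GLin.invariants k A B) B) '' PrimeSpectrum.zeroLocus (b : Set B) =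
      PrimeSpectrum.zeroLocus ((b.comap (algebraMap (GLin.invariants k A B) B) : Ideal (GLin.invariants k A B)) : Set (GLin.invariants k A B)) := by
  obtain ⟨α, hα, hα1⟩ := htame
  let φ := algebraMap (GLin.invariants k A B) B
  let R0 : B → GLin.invariants k A B := fun b =>
    ⟨TameAct.reynolds k A B B α b, reynolds_mem_fixedPts hα b⟩
  apply Set.Subset.antisymm
  · rintro _ ⟨q, hq, rfl⟩ x hx
    exact hq hx
  intro p hp
  have hp' : b.comap φ ≤ p.asIdeal := hp
  have hz : ∀ z ∈ p.asIdeal.map φ, ∀ t : B, R0 (t * z) ∈ p.asIdeal := by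
    intro z hz
    induction hz using Submodule.span_induction with
    | mem z hz =>
      obtain ⟨z, hz, rfl⟩ := hz
      intro t
      have : R0 (t * φ z) = z * R0 t := Subtype.ext (by
        show TameAct.reynolds k A B B α (t * (z : B)) = (z : B) * TameAct.reynolds k A B B α t
        rw [mul_comm, ← smul_eq_mul (z : B), reynolds_smul_invariant α z.2, smul_eq_mul])
      rw [this]
      exact p.asIdeal.mul_mem_right _ hz
    | zero =>
      intro t
      have : R0 (t * 0) = 0 := Subtype.ext (by show TameAct.reynolds k A B B α (t * 0) = 0; simp)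
      rw [this]; exact p.asIdeal.zero_mem
    | add y z _ _ hy hz =>
      intro t
      have : R0 (t * (y + z)) = R0 (t * y) + R0 (t * z) := Subtype.ext (by
        show TameAct.reynolds k A B B α (t * (y + z)) = _
        rw [mul_add, map_add]; rfl)
      rw [this]; exact p.asIdeal.add_mem (hy t) (hz t)
    | smul r y _ hy =>
      intro t
      rw [smul_eq_mul, ← mul_assoc]
      exact hy _
  have hb' : ∀ y ∈ b, R0 y ∈ p.asIdeal := fun y hy => hp'
    (show TameAct.reynolds k A B B α y ∈ b from reynolds_mem_subcomod (W := b) hb hy)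
  have hle : (b ⊔ p.asIdeal.map φ).comap φ ≤ p.asIdeal := by
    intro x hx
    obtain ⟨y, hy, z, hzz, hyz⟩ := Submodule.mem_sup.1 (Ideal.mem_comap.1 hx)
    have : x = R0 y + R0 (1 * z) := Subtype.ext (by
      show (x : B) = TameAct.reynolds k A B B α y + TameAct.reynolds k A B B α (1 * z)
      rw [one_mul, ← map_add, hyz]
      exact (reynolds_eq_self hα1 x.2).symm)
    rw [this]
    exact p.asIdeal.add_mem (hb' y hy) (hz z hzz 1)
  let M : Submonoid B := p.asIdeal.primeCompl.map φ.toMonoidHom
  have hd : Disjoint ((b ⊔ p.asIdeal.map φ : Ideal B) : Set B) (M : Set B) := by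
    rw [Set.disjoint_left]
    rintro _ hx ⟨s, hs, rfl⟩
    exact hs (hle hx)
  obtain ⟨q, hq, hleq, hdq⟩ := Ideal.exists_le_prime_disjoint _ _ hd
  refine ⟨⟨q, hq⟩, le_sup_left.trans hleq, PrimeSpectrum.ext (le_antisymm (fun x hx => ?_) ?_)⟩
  · by_contra hxp
    exact Set.disjoint_left.1 hdq hx ⟨x, hxp, rfl⟩
  · exact fun x hx => hleq (Submodule.mem_sup_right (Ideal.mem_map_of_mem _ hx))

end Groth.Agent.S12923
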