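import Groth.Statements.S12925
import Groth.Agent.Comod.Tame

set_option autoImplicit false
universe u w
open HopfRep

namespace Groth.Agent.S12925

open scoped TensorProduct


/-- Let `k` be a commutative ring, `M` a commutative group and `B` a commutative `k`-algebra with a
coaction of the group algebra `k[M]` that is an algebra map (an action of the diagonalizable group
scheme `D(M) = Spec k[M]` on `Spec B`). Then the action is tame: there is a comodule map `α : k[M] →
B`, for the regular coaction on `k[M]`, with `α 1 = 1`. -/
theorem result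
    (k : Type u) [CommRing k] (M : Type u) [CommGroup M]
    (B : Type w) [CommRing B] [Algebra k B] [HopfRep.Comod k (MonoidAlgebra k M) B]
    [GLin.IsCoactAlg k (MonoidAlgebra k M) B] :
    ∃ α : MonoidAlgebra k M →ₗ[k] B, Hoch.IsComodHom (MonoidAlgebra k M) α ∧ α 1 = 1 := by
  classical
  refine ⟨((Finsupp.lapply (1 : M)) ∘ₗ (MonoidAlgebra.coeffLinearEquiv k).toLinearMap).smulRight (1 : B), ?_, ?_⟩
  · apply MonoidAlgebra.lhom_ext'
    intro g
    apply LinearMap.ext_ring
    simp only [LinearMap.comp_apply]
    have hc : Coalgebra.comul (R := k) (MonoidAlgebra.single g (1 : k)) =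
        MonoidAlgebra.single g (1 : k) ⊗ₜ[k] MonoidAlgebra.single g (1 : k) := by simp
    show HopfRep.Comod.coact (k := k) (A := MonoidAlgebra k M) _ = LinearMap.rTensor _ _ (Coalgebra.comul (R := k) _)
    rw [show (MonoidAlgebra.lsingle g : k →ₗ[k] MonoidAlgebra k M) 1 = MonoidAlgebra.single g 1 from rfl,
      hc, LinearMap.rTensor_tmul]
    by_cases hg : g = 1
    · subst hg
      simp [GLin.IsCoactAlg.coact_one (k := k), Algebra.TensorProduct.one_def, MonoidAlgebra.one_def]
    · simp [Finsupp.single_apply, hg]
  · simp [MonoidAlgebra.one_def]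

end Groth.Agent.S12925
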