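import Groth.Statements.S12926
import Groth.Agent.Comod.Basic

set_option autoImplicit false
universe u v
open HopfRep

namespace Groth.Agent.S12926

/-- Let `k` be a commutative ring and `A` a commutative bialgebra over `k`, flat as a `k`-module. If the
submodule `k · 1` of the regular comodule `A` has a complement `H` which is a subcomodule — the case
used when `A` is cosemisimple, i.e. every subcomodule of every comodule is a direct summand as a
comodule — then the trivial action of `Spec A` on `Spec k` is tame: there is a comodule map `α : A →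
k`, for the regular coaction on `A` and the trivial coaction `r ↦ r ⊗ 1` on `k`, with `α 1 = 1`. -/
theorem result
    (k : Type u) [CommRing k] (A : Type v) [CommRing A] [Bialgebra k A] [Module.Flat k A]
    (H : Submodule k A) (hH : HopfRep.IsSubcomod (k := k) (A := A) H)
    (hc : IsCompl (Submodule.span k {(1 : A)}) H) :
    ∃ α : A →ₗ[k] k, @Hoch.IsComodHom k _ A _ _ _ A _ _ _ k _ _ (HopfRep.Comod.trivial k A k) α ∧ α 1 = 1 := by
  let P := Submodule.span k {(1 : A)}
  let π : A →ₗ[k] A := P.subtype ∘ₗ P.projectionOnto H hc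
  let α : A →ₗ[k] k := CoalgebraStruct.counit (R := k) ∘ₗ π
  have hα0 : ∀ h ∈ H, α h = 0 := fun h hh => by
    simp [α, π, (Submodule.projectionOnto_apply_eq_zero_iff hc).2 hh]
    rw [(Submodule.projection_apply_eq_zero_iff hc).2 hh, map_zero]
  have h1 : ∀ c : k, α (c • (1 : A)) = c := fun c => by
    have hm : c • (1 : A) ∈ P := Submodule.smul_mem _ _ (Submodule.subset_span rfl)
    have : π (c • (1 : A)) = c • (1 : A) :=
      congrArg Subtype.val (Submodule.projectionOnto_apply_left hc ⟨_, hm⟩)
    show CoalgebraStruct.counit (R := k) (π (c • (1 : A))) = c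
    rw [this, map_smul, Bialgebra.counit_one, smul_eq_mul, mul_one]
  refine ⟨α, LinearMap.ext fun a => ?_, by simpa using h1 1⟩
  obtain ⟨x, hx, h, hh, rfl⟩ := Submodule.mem_sup.1 (hc.sup_eq_top ▸ Submodule.mem_top (x := a))
  obtain ⟨c, rfl⟩ := Submodule.mem_span_singleton.1 hx
  show α (c • 1 + h) ⊗ₜ[k] (1 : A) = α.rTensor A (CoalgebraStruct.comul (R := k) (c • 1 + h))
  obtain ⟨y, hy⟩ : ∃ y, H.subtype.rTensor A y = CoalgebraStruct.comul (R := k) h := hH h hh
  have hz : α ∘ₗ H.subtype = 0 := LinearMap.ext fun z => hα0 z z.2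
  simp only [map_add, map_smul, h1, hα0 h hh, add_zero, Bialgebra.comul_one, Algebra.TensorProduct.one_def,
    LinearMap.rTensor_tmul, ← hy, ← LinearMap.rTensor_comp_apply, hz, LinearMap.rTensor_zero, LinearMap.zero_apply]
  rw [show α 1 = 1 by simpa using h1 1]
  simp [TensorProduct.smul_tmul']

end Groth.Agent.S12926
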