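import Groth.Statements.S12929
import Groth.Agent.Comod.Along

set_option autoImplicit false
universe u v w w'
open HopfRep

namespace Groth.Agent.S12929

open scoped TensorProduct


/-- Let `k` be a commutative ring, `A` a commutative Hopf algebra over `k`, `M` a right `A`-comodule and
`N` a `k`-module; give `N ⊗ A` the coaction `id ⊗ Δ`. Then for every `k`-linear map `h : M → N` the
composite `(h ⊗ id_A) ∘ ρ_M : M → N ⊗ A` is a comodule map, and every comodule map `f : M → N ⊗ A`
is of this form for exactly one `h` (which is `(id_N ⊗ ε) ∘ f`): comodule maps `M → N ⊗ A`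
correspond bijectively to linear maps `M → N`. -/
theorem result
    (k : Type u) [CommRing k] (A : Type v) [CommRing A] [HopfAlgebra k A]
    (M : Type w) [AddCommGroup M] [Module k M] [HopfRep.Comod k A M]
    (N : Type w') [AddCommGroup N] [Module k N] :
    (∀ h : M →ₗ[k] N, Hoch.IsComodHom A
        ((Hoch.Ind.equiv k A N).toLinearMap ∘ₗ h.rTensor A ∘ₗ HopfRep.Comod.coact (k := k) (A := A))) ∧
      ∀ f : M →ₗ[k] Hoch.Ind k A N, Hoch.IsComodHom A f →
        ∃! h : M →ₗ[k] N,
          f = (Hoch.Ind.equiv k A N).toLinearMap ∘ₗ h.rTensor A ∘ₗ HopfRep.Comod.coact (k := k) (A := A) := by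
  let ρ := HopfRep.Comod.coact (k := k) (A := A) (V := M)
  have hM := HopfRep.Comod.coassoc (k := k) (A := A) (V := M)
  have hcu := HopfRep.Comod.counit_comp (k := k) (A := A) (V := M)
  refine ⟨fun h => ?_, fun f hf => ?_⟩
  · apply LinearMap.ext
    intro m
    show Hoch.Ind.coactAux k A N (h.rTensor A (ρ m)) = (h.rTensor A ∘ₗ ρ).rTensor A (ρ m)
    have h1 : ∀ x : M ⊗[k] A, Hoch.Ind.coactAux k A N (h.rTensor A x) =
        (TensorProduct.assoc k N A A).symm (h.rTensor (A ⊗[k] A) ((Coalgebra.comul (R := k) (A := A)).lTensor M x)) := by
      intro x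
      induction x with
      | zero => simp
      | tmul a b => simp
      | add y z hy hz => simp only [map_add, hy, hz]
    rw [h1]
    have h2 := LinearMap.congr_fun hM m
    simp only [LinearMap.comp_apply, LinearEquiv.coe_coe] at h2
    rw [← h2, LinearMap.rTensor_comp, LinearMap.comp_apply]
    generalize ρ.rTensor A (ρ m) = x
    induction x with
    | zero => simp
    | tmul a b =>
      induction a with
      | zero => simp
      | tmul p q => simp
      | add y z hy hz => simp only [TensorProduct.add_tmul, map_add, hy, hz]
    | add y z hy hz => simp only [map_add, hy, hz]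
  · let c : N ⊗[k] A →ₗ[k] N :=
      (TensorProduct.rid k N).toLinearMap ∘ₗ (Coalgebra.counit (R := k) (A := A)).lTensor N
    let f' : M →ₗ[k] N ⊗[k] A := (Hoch.Ind.equiv k A N).symm.toLinearMap ∘ₗ f
    refine ⟨c ∘ₗ f', ?_, ?_⟩
    · apply LinearMap.ext
      intro m
      show f' m = (c ∘ₗ f').rTensor A (ρ m)
      have h2 : Hoch.Ind.coactAux k A N (f' m) = f'.rTensor A (ρ m) := LinearMap.congr_fun hf m
      rw [LinearMap.rTensor_comp]
      show f' m = c.rTensor A (f'.rTensor A (ρ m))
      rw [← h2]
      have h3 : ∀ x : N ⊗[k] A, x = c.rTensor A (Hoch.Ind.coactAux k A N x) := by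
        intro x
        induction x with
        | zero => simp
        | tmul p a =>
          rw [Hoch.Ind.coactAux_tmul]
          have h4 : ∀ y : A ⊗[k] A, c.rTensor A ((TensorProduct.assoc k N A A).symm (p ⊗ₜ y)) =
              p ⊗ₜ Groth.Agent.Comod.slL (Coalgebra.counit (R := k)) y := by
            intro y
            induction y with
            | zero => simp
            | tmul a b =>
              rw [TensorProduct.assoc_symm_tmul, LinearMap.rTensor_tmul, Groth.Agent.Comod.slL_tmul,
                ← TensorProduct.smul_tmul]
              rfl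
            | add y z hy hz => simp only [TensorProduct.tmul_add, map_add, hy, hz]
          rw [h4]
          congr 1
          simp [Groth.Agent.Comod.slL]
        | add y z hy hz =>
          conv_lhs => rw [hy, hz]
          simp only [map_add]
      exact h3 (f' m)
    · intro h hh
      apply LinearMap.ext
      intro m
      show h m = c (f' m)
      show h m = c ((Hoch.Ind.equiv k A N).symm (f m))
      rw [hh]
      show h m = TensorProduct.rid k N ((Coalgebra.counit (R := k) (A := A)).lTensor N (h.rTensor A (ρ m)))
      have h3 : ∀ x : M ⊗[k] A, TensorProduct.rid k N ((Coalgebra.counit (R := k) (A := A)).lTensor N (h.rTensor A x)) =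
          h (TensorProduct.rid k M ((Coalgebra.counit (R := k) (A := A)).lTensor M x)) := by
        intro x
        induction x with
        | zero => simp
        | tmul a b => simp
        | add y z hy hz => simp only [map_add, hy, hz]
      have h5 := LinearMap.congr_fun hcu m
      simp only [LinearMap.comp_apply] at h5
      rw [h3, h5]
      simp

end Groth.Agent.S12929
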