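import Groth.Statements.S12931
import Mathlib

set_option autoImplicit false
universe u v w
open HopfRep

namespace Groth.Agent.S12931

/-- Let `R` be a commutative ring, `Γ` a finite set and `T` a commutative `R`-algebra which is
connected: nonzero, with no idempotents other than `0` and `1`. Then `γ ↦ (evaluation at γ : (Γ → R)
→ R → T)` is a bijection from `Γ` onto the `R`-algebra maps `(Γ → R) → T`: every such map sends
exactly one of the indicator functions to `1` and the others to `0`. (Only the bijection of sets is
stated; when `Γ` is a group, the compatibility with the group structures on both sides is not.) -/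
theorem result
    (R : Type u) [CommRing R] (Γ : Type v) [Finite Γ]
    (T : Type w) [CommRing T] [Algebra R T] [Nontrivial T]
    (hT : ∀ e : T, IsIdempotentElem e → e = 0 ∨ e = 1) :
    Function.Bijective (fun γ : Γ => (Algebra.ofId R T).comp (Pi.evalAlgHom R (fun _ : Γ => R) γ)) := by
  classical
  have := Fintype.ofFinite Γ
  constructor
  · intro a b h
    by_contra hab
    have := AlgHom.congr_fun h (Pi.single a 1)
    simp [Pi.single_apply, Ne.symm hab, Algebra.ofId_apply] at this
  · intro φ
    have hd : ∀ g, φ (Pi.single g 1) = 0 ∨ φ (Pi.single g 1) = 1 := fun g =>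
      hT _ (by rw [IsIdempotentElem, ← map_mul, ← Pi.single_mul, mul_one])
    obtain ⟨g, hg⟩ : ∃ g, φ (Pi.single g 1) = 1 := by
      by_contra h
      push Not at h
      have h1 : φ (∑ g, Pi.single g 1) = 0 := by
        rw [map_sum]; exact Finset.sum_eq_zero fun g _ => (hd g).resolve_right (h g)
      rw [show (∑ g, Pi.single g (1:R)) = (1 : Γ → R) from Finset.univ_sum_single _, map_one] at h1
      exact one_ne_zero h1
    refine ⟨g, AlgHom.ext fun f => ?_⟩
    have : f * Pi.single g 1 = f g • (Pi.single g 1 : Γ → R) := by
      ext i; by_cases h : i = g <;> simp [h, Pi.single_apply]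
    have h2 := congrArg φ this
    rw [map_mul, map_smul, hg, mul_one, Algebra.smul_def, mul_one] at h2
    simpa [Algebra.ofId_apply] using h2.symm

end Groth.Agent.S12931
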