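import Groth.Statements.S12932
import Mathlib


set_option autoImplicit false
universe u v
open scoped BigOperators
open InvTh

namespace Groth.Agent.S12932

universe u₀ v₀

/-- The fixed subring of a group action. -/
private abbrev Fix (B : Type u₀) [CommRing B] (Γ : Type v₀) [Group Γ] [MulSemiringAction Γ B] : Subring B :=
  FixedPoints.subring B Γ

/-- The trace as an ideal of the invariant ring. -/
private def trIdeal (B : Type u₀) [CommRing B] (Γ : Type v₀) [Group Γ] [Fintype Γ]
    [MulSemiringAction Γ B] : Ideal (Fix B Γ) where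
  carrier := {t | ∃ b : B, ∑ γ : Γ, γ • b = (t : B)}
  zero_mem' := ⟨0, by simp⟩
  add_mem' := by
    rintro s t ⟨b, hb⟩ ⟨c, hc⟩
    exact ⟨b + c, by simp [smul_add, Finset.sum_add_distrib, hb, hc]⟩
  smul_mem' := by
    rintro r t ⟨b, hb⟩
    refine ⟨r * b, ?_⟩
    simp only [smul_mul', r.2 _, ← Finset.mul_sum, hb]
    rfl

private theorem exists_trace_notMem {B : Type u₀} [CommRing B] {Γ : Type v₀} [Group Γ] [Fintype Γ]
    [MulSemiringAction Γ B] (P : Ideal B) [P.IsPrime]
    (h : ((Nat.card (P.inertia Γ) : ℕ) : B ⧸ P) ≠ 0) : ∃ b : B, ∑ γ : Γ, γ • b ∉ P := by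
  classical
  by_contra hc
  push Not at hc
  let φ : Γ → (B →* B ⧸ P) := fun γ =>
    ((Ideal.Quotient.mk P).comp (MulSemiringAction.toRingHom Γ B γ)).toMonoidHom
  have hφ : ∀ γ b, φ γ b = Ideal.Quotient.mk P (γ • b) := fun _ _ => rfl
  have hli := linearIndependent_monoidHom B (B ⧸ P)
  rw [linearIndependent_iff'] at hli
  have h0 := hli (Finset.univ.image φ)
    (fun f => ((Finset.univ.filter fun γ => φ γ = f).card : B ⧸ P)) ?_ (φ 1)
    (Finset.mem_image_of_mem _ (Finset.mem_univ _))
  · apply h
    convert h0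
    rw [Nat.card_eq_fintype_card]
    apply Fintype.card_of_subtype
    intro γ
    simp only [Finset.mem_filter, Finset.mem_univ, true_and, DFunLike.ext_iff, hφ, one_smul]
    refine forall_congr' fun b => ?_
    rw [Ideal.Quotient.eq]
    rfl
  · funext b
    simp only [Finset.sum_apply, Pi.smul_apply, smul_eq_mul, Pi.zero_apply]
    calc _ = ∑ f ∈ Finset.univ.image φ, ∑ γ ∈ Finset.univ.filter (fun γ => φ γ = f), φ γ b := by
          refine Finset.sum_congr rfl fun f _ => ?_
          rw [Finset.sum_congr rfl (fun γ hγ => by rw [(Finset.mem_filter.1 hγ).2] :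
            ∀ γ ∈ Finset.univ.filter (fun γ => φ γ = f), φ γ b = f b), Finset.sum_const, nsmul_eq_mul]
      _ = ∑ γ, φ γ b := Finset.sum_fiberwise_of_maps_to
            (fun γ _ => Finset.mem_image_of_mem _ (Finset.mem_univ γ)) _
      _ = 0 := by
          simp only [hφ, ← map_sum]
          exact Ideal.Quotient.eq_zero_iff_mem.2 (hc b)

private theorem trace_mem_of_card_eq_zero {B : Type u₀} [CommRing B] {Γ : Type v₀} [Group Γ] [Fintype Γ]
    [MulSemiringAction Γ B] (P : Ideal B)
    (h : ((Nat.card (P.inertia Γ) : ℕ) : B ⧸ P) = 0) (b : B) : ∑ γ : Γ, γ • b ∈ P := by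
  classical
  let I := P.inertia Γ
  have hinv : ∀ i ∈ I, ∀ γ : Γ, Ideal.Quotient.mk P ((i * γ) • b) = Ideal.Quotient.mk P (γ • b) := by
    intro i hi γ
    rw [mul_smul, Ideal.Quotient.eq]
    exact hi _
  let := QuotientGroup.rightRel I
  rw [← Ideal.Quotient.eq_zero_iff_mem, map_sum,
    ← Finset.sum_fiberwise Finset.univ (fun γ => (Quotient.mk (QuotientGroup.rightRel I) γ))]
  refine Finset.sum_eq_zero fun q _ => ?_
  obtain ⟨g, rfl⟩ := Quotient.exists_rep q
  have hset : (Finset.univ.filter fun γ => Quotient.mk (QuotientGroup.rightRel I) γ =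
      Quotient.mk (QuotientGroup.rightRel I) g) = (Finset.univ : Finset I).image (fun i : I => (i : Γ) * g) := by
    ext γ
    simp only [Finset.mem_filter, Finset.mem_univ, true_and, Finset.mem_image, Quotient.eq,
      QuotientGroup.rightRel_apply]
    constructor
    · intro h'
      exact ⟨⟨γ * g⁻¹, by simpa [mul_inv_rev] using I.inv_mem h'⟩, by simp⟩
    · rintro ⟨i, rfl⟩
      simp [mul_inv_rev]
  rw [hset, Finset.sum_image (fun x _ y _ hxy => Subtype.ext (mul_right_cancel hxy)),
    Finset.sum_congr rfl (fun i _ => hinv i.1 i.2 g), Finset.sum_const, Finset.card_univ,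
    ← Nat.card_eq_fintype_card, nsmul_eq_mul, h, zero_mul]



/-- Let `B` be a commutative ring with an action of a finite group `Γ` by ring automorphisms, and call a
prime ideal `P` of `B` tame when the order of its inertia group `{γ | γ • x - x ∈ P for all x}` is
not divisible by the characteristic of `B/P` (its ramification group is trivial). Then every prime
of `B` is tame if and only if the trace `b ↦ Σ_γ γ • b`, which takes values in the invariant ring
`B^Γ` and is `B^Γ`-linear, is onto `B^Γ` — equivalently, some element of `B` has trace `1`. -/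
theorem result
    (B : Type u) [CommRing B] (Γ : Type v) [Group Γ] [Fintype Γ] [MulSemiringAction Γ B] :
    (∃ b : B, ∑ γ : Γ, γ • b = 1) ↔
      ∀ P : Ideal B, P.IsPrime → ((Nat.card (P.inertia Γ) : ℕ) : B ⧸ P) ≠ 0 := by
  constructor
  · rintro ⟨b, hb⟩ P hP h0
    have := trace_mem_of_card_eq_zero P h0 b
    rw [hb] at this
    exact hP.ne_top ((Ideal.eq_top_iff_one P).2 this)
  · intro h
    have : Algebra.IsInvariant (Fix B Γ) B Γ := ⟨fun b hb => ⟨⟨b, hb⟩, rfl⟩⟩
    have : Algebra.IsIntegral (Fix B Γ) B := Algebra.IsInvariant.isIntegral (Fix B Γ) B Γ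
    have htop : trIdeal B Γ = ⊤ := by
      by_contra hne
      obtain ⟨m, hm, hle⟩ := Ideal.exists_le_maximal _ hne
      have := hm.isPrime
      obtain ⟨Q, -, hQ, hQm⟩ := Ideal.exists_ideal_over_prime_of_isIntegral m (⊥ : Ideal B)
        (fun t ht => by
          have : t = 0 := Subtype.ext (by simpa using ht)
          simp [this])
      obtain ⟨b, hb⟩ := exists_trace_notMem Q (h Q hQ)
      refine hb ?_
      have hmem : (⟨∑ γ : Γ, γ • b, fun g => by
          rw [Finset.smul_sum]
          exact Fintype.sum_equiv (Equiv.mulLeft g) _ _ (fun γ => by simp [mul_smul])⟩ : Fix B Γ)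
          ∈ trIdeal B Γ := ⟨b, rfl⟩
      have := hle hmem
      rw [← hQm] at this
      exact this
    obtain ⟨b, hb⟩ := (trIdeal B Γ).eq_top_iff_one.1 htop
    exact ⟨b, hb⟩

end Groth.Agent.S12932
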