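-- statement InvTh.GrothFrozen.S12933 (Groth/Statements/S12933.lean; the theorem InvTh.forall_map_smul_eq_iff_mem_span_tmul_fixed_of_flat);
import Groth.Statements.S12933
import Mathlib

set_option autoImplicit false
universe u v w w'
open TensorProduct
open InvTh

namespace Groth.Agent.S12933

/-- Let `R` be a commutative ring, `B` a commutative `R`-algebra with an action of a finite group `Γ` by
`R`-algebra automorphisms, and `R'` a flat commutative `R`-algebra; let `Γ` act on `R' ⊗_R B`
through the factor `B`. Then an element of `R' ⊗_R B` is fixed by every element of `Γ` if and only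
if it lies in the `R'`-submodule spanned by the tensors `1 ⊗ b` with `b ∈ B^Γ`: taking invariants
commutes with flat base change (the map `R' ⊗_R B^Γ → R' ⊗_R B` being moreover injective by
flatness). -/
theorem result
    (R : Type u) [CommRing R] (B : Type v) [CommRing B] [Algebra R B]
    (Γ : Type w) [Group Γ] [Finite Γ] [MulSemiringAction Γ B] [SMulCommClass Γ R B]
    (R' : Type w') [CommRing R'] [Algebra R R'] [Module.Flat R R']
    (x : R' ⊗[R] B) :
    (∀ γ : Γ, Algebra.TensorProduct.map (AlgHom.id R R') (MulSemiringAction.toAlgHom R B γ) x = x) ↔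
      x ∈ Submodule.span R' ((fun b : B => (1 : R') ⊗ₜ[R] b) '' {b : B | ∀ γ : Γ, γ • b = b}) := by
  classical
  cases nonempty_fintype Γ
  let Φ : B →ₗ[R] (Γ → B) := LinearMap.pi fun γ => (MulSemiringAction.toAlgHom R B γ).toLinearMap - LinearMap.id
  let F : Submodule R B := LinearMap.ker Φ
  have hF : ∀ b, b ∈ F ↔ ∀ γ : Γ, γ • b = b := fun b => by
    simp [F, Φ, funext_iff, sub_eq_zero]
  constructor
  · intro hx
    have hexact := Module.Flat.lTensor_exact R' (Φ.exact_subtype_ker_map)
    have h0 : Φ.lTensor R' x = 0 := by
      refine (TensorProduct.piRight R R R' (fun _ : Γ => B)).injective ?_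
      have hk : ∀ z, TensorProduct.piRight R R R' (fun _ : Γ => B) (Φ.lTensor R' z) = fun γ =>
          Algebra.TensorProduct.map (AlgHom.id R R') (MulSemiringAction.toAlgHom R B γ) z - z := fun z => by
        induction z using TensorProduct.induction_on with
        | zero => funext γ; simp
        | add p q hp hq => funext γ; simp only [map_add, hp, hq, Pi.add_apply]; abel
        | tmul a b => funext γ; simp [Φ, TensorProduct.tmul_sub]
      rw [hk, map_zero]
      funext γ
      rw [hx γ, sub_self]; rfl
    obtain ⟨w, rfl⟩ := (hexact x).1 h0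
    clear hx h0
    induction w using TensorProduct.induction_on with
    | zero => rw [map_zero]; exact zero_mem _
    | add p q hp hq => rw [map_add]; exact add_mem hp hq
    | tmul a b =>
      rw [LinearMap.lTensor_tmul, show a ⊗ₜ[R] (F.subtype b) = a • ((1 : R') ⊗ₜ[R] (b : B)) by simp [TensorProduct.smul_tmul']]
      exact Submodule.smul_mem _ _ (Submodule.subset_span ⟨b, (hF b).1 b.2, rfl⟩)
  · intro hx γ
    induction hx using Submodule.span_induction with
    | mem z hz => obtain ⟨b, hb, rfl⟩ := hz; simp [hb γ]
    | zero => exact map_zero _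
    | add p q _ _ hp hq => rw [map_add, hp, hq]
    | smul a p _ hp =>
      have : a • p = (a ⊗ₜ[R] (1 : B)) * p := by rw [Algebra.smul_def]; rfl
      rw [this, map_mul, hp, Algebra.TensorProduct.map_tmul, map_one]
      rfl

end Groth.Agent.S12933
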