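-- statement InvTh.GrothFrozen.S12935 (Groth/Statements/S12935.lean; the theorem InvTh.decomposition_inertia_fixedPoints_normal_subgroup);
import Groth.Statements.S12935
import Mathlib

set_option autoImplicit false
universe u v
open InvTh

namespace Groth.Agent.S12935
open scoped Pointwise

/-- Let `B` be a commutative ring with an action of a finite group `Γ` by ring automorphisms, `Ω` a
normal subgroup of `Γ`, `B^Ω` the subring of `Ω`-invariants (stable under `Γ`, with the induced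
action of `Γ/Ω`), and `P` a prime ideal of `B`. Then (decomposition groups) an element `γ` maps `P ∩
B^Ω` onto itself if and only if `γω` maps `P` onto itself for some `ω ∈ Ω`; and (inertia groups) `γ`
fixes `B^Ω` modulo `P ∩ B^Ω` if and only if `γω` fixes `B` modulo `P` for some `ω ∈ Ω`. In other
words the decomposition and inertia groups of `P ∩ B^Ω` under `Γ/Ω` are the images of those of `P`.
(The published statement also asserts the same for the ramification groups, the Sylow subgroups of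
the inertia groups at the residue characteristic; that clause is not included here.) -/
theorem result
    (B : Type u) [CommRing B] (Γ : Type v) [Group Γ] [Finite Γ] [MulSemiringAction Γ B]
    (Ω : Subgroup Γ) [Ω.Normal] (P : Ideal B) [P.IsPrime] (γ : Γ) :
    ((∀ x : B, (∀ ω ∈ Ω, ω • x = x) → (x ∈ P ↔ γ • x ∈ P)) ↔
        ∃ ω ∈ Ω, ∀ x : B, x ∈ P ↔ (γ * ω) • x ∈ P) ∧
      ((∀ x : B, (∀ ω ∈ Ω, ω • x = x) → γ • x - x ∈ P) ↔
        ∃ ω ∈ Ω, ∀ x : B, (γ * ω) • x - x ∈ P) := by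
  classical
  let C := FixedPoints.subring B Ω
  haveI : SMulCommClass Ω C B := ⟨fun ω c b => by
    show (ω : Γ) • ((c : B) * b) = (c : B) * (ω : Γ) • b
    rw [smul_mul']
    exact congrArg (· * _) (c.2 ω)⟩
  haveI : Algebra.IsInvariant C B Ω := ⟨fun b hb => ⟨⟨b, hb⟩, rfl⟩⟩
  have hfix : ∀ (ω : Γ), ω ∈ Ω → ∀ x : B, (∀ ω' ∈ Ω, ω' • x = x) → (γ * ω) • x = γ • x := fun ω hω x hx => by
    rw [mul_smul, hx ω hω]
  have h1 : (∀ x : B, (∀ ω ∈ Ω, ω • x = x) → (x ∈ P ↔ γ • x ∈ P)) →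
      ∃ ω ∈ Ω, ∀ x : B, x ∈ P ↔ (γ * ω) • x ∈ P := fun h => by
    let P' := P.comap (MulSemiringAction.toRingHom Γ B γ)
    have heq : P.under C = P'.under C := Ideal.ext fun c => h c fun ω hω => c.2 ⟨ω, hω⟩
    obtain ⟨ω, hω⟩ := Algebra.IsInvariant.exists_smul_of_under_eq C B Ω P P' heq
    refine ⟨ω, ω.2, fun x => ?_⟩
    rw [← Ideal.smul_mem_pointwise_smul_iff (a := ω), ← hω, mul_smul]
    rfl
  refine ⟨⟨h1, fun ⟨ω, hω, h⟩ x hx => by rw [h x, hfix ω hω x hx]⟩, fun h => ?_,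
    fun ⟨ω, hω, h⟩ x hx => by rw [← hfix ω hω x hx]; exact h x⟩
  obtain ⟨ω, hω, hstab⟩ := h1 fun x hx => ⟨fun hxP => by simpa using P.add_mem (h x hx) hxP,
    fun hxP => by simpa using P.sub_mem hxP (h x hx)⟩
  let σ : B →+* B := MulSemiringAction.toRingHom Γ B (γ * ω)
  let p := P.under C
  have hσP : P ≤ P.comap σ := fun x hx => (hstab x).1 hx
  let σP : B ⧸ P →+* B ⧸ P := Ideal.quotientMap P σ hσP
  have hbij : Function.Bijective σP := ⟨Ideal.quotientMap_injective' (fun x hx => (hstab x).2 hx), fun z => by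
    obtain ⟨b, rfl⟩ := Ideal.Quotient.mk_surjective z
    refine ⟨Ideal.Quotient.mk P ((γ * ω)⁻¹ • b), ?_⟩
    rw [Ideal.quotientMap_mk]
    exact congrArg _ (smul_inv_smul (γ * ω) b)⟩
  let f : (B ⧸ P) ≃ₐ[C ⧸ p] (B ⧸ P) := AlgEquiv.ofRingEquiv (f := RingEquiv.ofBijective σP hbij) fun z => by
    obtain ⟨c, rfl⟩ := Ideal.Quotient.mk_surjective z
    show σP (Ideal.Quotient.mk P (c : B)) = Ideal.Quotient.mk P (c : B)
    rw [Ideal.quotientMap_mk, Ideal.Quotient.eq]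
    show (γ * ω) • (c : B) - c ∈ P
    rw [hfix ω hω _ fun ω' hω' => c.2 ⟨ω', hω'⟩]
    exact h _ fun ω' hω' => c.2 ⟨ω', hω'⟩
  obtain ⟨⟨τ, hτ⟩, hτf⟩ := Ideal.Quotient.stabilizerHom_surjective Ω p P f
  refine ⟨ω * (τ : Γ)⁻¹, Ω.mul_mem hω (Ω.inv_mem τ.2), fun x => ?_⟩
  have := AlgEquiv.congr_fun hτf (Ideal.Quotient.mk P ((τ : Γ)⁻¹ • x))
  change Ideal.Quotient.mk P ((τ : Γ) • (τ : Γ)⁻¹ • x) = Ideal.Quotient.mk P ((γ * ω) • (τ : Γ)⁻¹ • x) at this
  rw [smul_inv_smul, Ideal.Quotient.eq, smul_smul, mul_assoc] at this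
  rw [← neg_sub]
  exact P.neg_mem this

end Groth.Agent.S12935
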