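-- statement InvTh.GrothFrozen.S12936 (Groth/Statements/S12936.lean; the theorem InvTh.exists_invariant_sub_mem_of_fixed_by_decomposition);
import Groth.Statements.S12936
import Mathlib

set_option autoImplicit false
universe u v
open InvTh

namespace Groth.Agent.S12936

/-- Let `B` be a commutative ring with an action of a finite group `Γ` by ring automorphisms and `P` a
maximal ideal of `B`, with decomposition group `D_P = {γ | γP = P}` and decomposition ring `D =
B^{D_P}`. Then `D = B^Γ + (P ∩ D)`: every element of `B` fixed by `D_P` is congruent modulo `P` to a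
`Γ`-invariant element. Hence the residue field of `D` at `P ∩ D` is that of `B^Γ` at `P ∩ B^Γ`; for
an arbitrary prime `P` the same equality of residue fields follows by localising at `P ∩ B^Γ`. (The
published statement prints this residue field as `k(P)`; the proof establishes the equality with the
residue field of `B^Γ` stated here.) -/
theorem result
    (B : Type u) [CommRing B] (Γ : Type v) [Group Γ] [Finite Γ] [MulSemiringAction Γ B]
    (P : Ideal B) [P.IsMaximal] (x : B)
    (hx : ∀ γ : Γ, (∀ y : B, y ∈ P ↔ γ • y ∈ P) → γ • x = x) :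
    ∃ c : B, (∀ γ : Γ, γ • c = c) ∧ x - c ∈ P := by
  classical
  cases nonempty_fintype Γ
  have key : ∀ γ : Γ, ¬ (∀ y : B, y ∈ P ↔ γ • y ∈ P) → ∃ e : B, e - 1 ∈ P ∧ γ • e ∈ P := fun γ hγ => by
    haveI : (P.comap (MulSemiringAction.toRingHom Γ B γ)).IsMaximal :=
      Ideal.comap_isMaximal_of_surjective _ (MulAction.surjective γ)
    have hne : P.comap (MulSemiringAction.toRingHom Γ B γ) ≠ P := fun h => hγ fun y => by
      conv_lhs => rw [← h]
      rfl
    obtain ⟨a, ha, b, hb, hab⟩ := Submodule.mem_sup.1 ((Ideal.eq_top_iff_one _).1 (Ideal.IsMaximal.coprime_of_ne ‹_› ‹_› hne))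
    exact ⟨a, by rw [← hab, sub_add_cancel_left]; exact P.neg_mem hb, ha⟩
  let D : Subgroup Γ :=
    { carrier := {γ | ∀ y : B, y ∈ P ↔ γ • y ∈ P}
      one_mem' := fun y => by rw [one_smul]
      mul_mem' := fun {a b} ha hb y => by rw [mul_smul]; exact (hb y).trans (ha _)
      inv_mem' := fun {a} ha y => by rw [ha (a⁻¹ • y), smul_inv_smul] }
  choose e he1 he2 using key
  let E : B := ∏ γ : {γ : Γ // γ ∉ D}, e γ.1 γ.2
  let y : B := x * ∏ d : D, (d : Γ) • E
  have hprod1 : ∀ {s : Type v} [Fintype s] (f : s → B), (∀ i, f i - 1 ∈ P) → (∏ i, f i) - 1 ∈ P := fun {s} _ f hf => by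
    refine Finset.prod_induction f (fun z => z - 1 ∈ P) (fun a b ha hb => ?_) (by rw [sub_self]; exact P.zero_mem) fun i _ => hf i
    rw [show a * b - 1 = a * (b - 1) + (a - 1) by ring]
    exact P.add_mem (P.mul_mem_left _ hb) ha
  have hy1 : x - y ∈ P := by
    have : (∏ d : D, (d : Γ) • E) - 1 ∈ P := hprod1 _ fun d => by
      have h := (d.2 (E - 1)).1 (hprod1 _ fun γ => he1 γ.1 γ.2)
      rwa [smul_sub, smul_one] at h
    rw [show x - y = -(x * ((∏ d : D, (d : Γ) • E) - 1)) by simp only [y]; ring]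
    exact P.neg_mem (P.mul_mem_left _ this)
  have hy2 : ∀ γ ∉ D, γ • y ∈ P := fun γ hγ => by
    rw [show γ • y = γ • x * γ • ∏ d : D, (d : Γ) • E from smul_mul' γ _ _]
    refine P.mul_mem_left _ ?_
    rw [Finset.smul_prod']
    refine P.prod_mem (Finset.mem_univ (1 : D)) ?_
    rw [Subgroup.coe_one, one_smul, show E = ∏ γ : {γ : Γ // γ ∉ D}, e γ.1 γ.2 from rfl, Finset.smul_prod']
    exact P.prod_mem (Finset.mem_univ (⟨γ, hγ⟩ : {γ : Γ // γ ∉ D})) (he2 γ hγ)
  have hyfix : ∀ d : D, (d : Γ) • y = y := fun d => by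
    rw [show y = x * ∏ d : D, (d : Γ) • E from rfl, smul_mul', hx d d.2, Finset.smul_prod']
    congr 1
    simp_rw [smul_smul]
    exact Equiv.prod_comp (Equiv.mulLeft d) fun d' : D => (d' : Γ) • E
  let F : Γ ⧸ D → B := fun q => Quotient.liftOn' q (fun g => g • y) fun a b hab => by
    have := hyfix ⟨_, QuotientGroup.leftRel_apply.1 hab⟩
    simp only at this ⊢
    conv_lhs => rw [← this]
    rw [smul_smul, mul_inv_cancel_left]
  refine ⟨∑ q, F q, fun γ => ?_, ?_⟩
  · rw [Finset.smul_sum]
    refine Fintype.sum_equiv (MulAction.toPerm γ) _ _ fun q => ?_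
    induction q using QuotientGroup.induction_on with
    | _ g => show γ • g • y = (γ * g) • y; rw [mul_smul]
  · rw [Finset.sum_eq_add_sum_sdiff_singleton_of_mem (Finset.mem_univ ((1 : Γ) : Γ ⧸ D)), ← sub_sub]
    refine P.sub_mem (by show x - (1 : Γ) • y ∈ P; rw [one_smul]; exact hy1) (Ideal.sum_mem _ fun q hq => ?_)
    induction q using QuotientGroup.induction_on with
    | _ g =>
      refine hy2 g fun hg => ?_
      simp only [Finset.mem_sdiff, Finset.mem_singleton] at hq
      exact hq.2 (QuotientGroup.eq.2 (by simpa using D.inv_mem hg))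

end Groth.Agent.S12936
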