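import Groth.Statements.S12959
import Groth.Agent.AlgStB.DiagComp

set_option autoImplicit false
universe u
open CategoryTheory AlgebraicGeometry
open AlgSt

namespace Groth.Agent.S12959

/-- If the composite of f : 𝒳 → 𝒴 and g : 𝒴 → 𝒵 (morphisms of algebraic stacks) is quasi-separated and
the diagonal of g is quasi-separated (as a morphism representable by algebraic spaces), then f is
quasi-separated. -/
theorem result
    (S : Scheme.{u}) (𝒳 : AlgSt.Cat S) (𝒴 : AlgSt.Cat S) (𝒵 : AlgSt.Cat S)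
    (h𝒳 : AlgSt.IsAlgStack Scheme.fppfPrecoverage 𝒳)
    (h𝒴 : AlgSt.IsAlgStack Scheme.fppfPrecoverage 𝒴)
    (h𝒵 : AlgSt.IsAlgStack Scheme.fppfPrecoverage 𝒵)
    (f : 𝒳 ⥤ᵇ 𝒴) (g : 𝒴 ⥤ᵇ 𝒵) :
    AlgSt.IsQuasiSeparatedMor (BasedFunctor.comp f g) →
      AlgSt.RepByAlgSpWith AlgSp.IsQuasiSeparatedMor (FibCat.diag g) → AlgSt.IsQuasiSeparatedMor f := by
  intro h hg
  obtain ⟨ι, ⟨i⟩, hι⟩ := AlgStB.exists_diag_comp_factor f g
  exact AlgStB.repByAlgSpWith_cancel h𝒳.isStack.1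
    (Fib.isFibGrpd_fp f f h𝒳.isStack.1 h𝒳.isStack.1 h𝒴.isStack.1)
    (Fib.isFibGrpd_fp _ _ h𝒳.isStack.1 h𝒳.isStack.1 h𝒵.isStack.1) AlgStB.respectsSrcIso_qcqs
    AlgStB.hc_qcqs
    ((AlgStB.isQuasiSeparatedMor_iff ι (AlgStB.repByAlgSp1_of_with (hι hg))).2 (hι hg))
    (AlgStB.repByAlgSpWith_of_iso i.symm h)

end Groth.Agent.S12959
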