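import Groth.Statements.S12969
import Groth.Agent.AlgStB.DiagCover

set_option autoImplicit false
universe u
open CategoryTheory AlgebraicGeometry
open AlgSt

namespace Groth.Agent.S12969

/-- Let 𝒳 be an algebraic stack and W → 𝒳 a surjective, flat, locally finitely presented morphism from
an algebraic space which is moreover unramified. Then 𝒳 is DM over the base scheme: its diagonal
over the base is unramified. (The published statement concludes DM over the integers; this row
concludes it over the base scheme, which is equivalent for algebraic stacks.) -/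
theorem result
    (S : Scheme.{u}) (𝒳 : AlgSt.Cat S)
    (h𝒳 : AlgSt.IsAlgStack Scheme.fppfPrecoverage 𝒳)
    (W : AlgSp.Space S) (w : AlgSt.ofSp W.obj ⥤ᵇ 𝒳)
    (hw₁ : AlgSt.RepByAlgSpWith (AlgSp.LocP @Flat) w)
    (hw₂ : AlgSt.RepByAlgSpWith (AlgSp.LocP @LocallyOfFinitePresentation) w)
    (hw₃ : AlgSt.RepByAlgSpWith AlgSp.IsSurjectiveMor w)
    (hw₄ : AlgSt.RepByAlgSpWith (AlgSp.LocP (@LocallyOfFiniteType ⊓ @FormallyUnramified)) w) :
    AlgSt.IsDMOver 𝒳 := by
  exact AlgStB.repByAlgSpWith_diag_toSelf_of_space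
    (R := @LocallyOfFiniteType ⊓ @FormallyUnramified)
    (fun f g h => by
      have := h.1; have := h.2
      exact ⟨locallyOfFiniteType_of_comp f g, FormallyUnramified.of_comp f g⟩)
    (AlgStB.isLocalOnBase_fppf_of_fpqc AlgSpLoc.isLocalOnBase_unramified)
    (fun _ _ e he => ⟨inferInstance, inferInstance⟩) h𝒳 W w hw₁ hw₂ hw₃ hw₄

end Groth.Agent.S12969
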