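import Groth.Statements.S12979
import Groth.Agent.AlgStB.DiagSep
import Groth.Agent.AlgStB.DiagLft
import Groth.Agent.AlgStB.DiagComp
import Groth.Agent.AlgSpDesc.UnivClosedQC

set_option autoImplicit false
universe u
open CategoryTheory AlgebraicGeometry
open AlgSt

namespace Groth.Agent.S12979

/-- If the first and second diagonals of a morphism f of algebraic stacks are both universally closed
(as morphisms representable by algebraic spaces), then f is separated. (The published statement is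
an equivalence; this row states the implication from the two diagonals to separatedness.) -/
theorem result
    (S : Scheme.{u}) (𝒳 : AlgSt.Cat S) (𝒴 : AlgSt.Cat S)
    (h𝒳 : AlgSt.IsAlgStack Scheme.fppfPrecoverage 𝒳)
    (h𝒴 : AlgSt.IsAlgStack Scheme.fppfPrecoverage 𝒴)
    (f : 𝒳 ⥤ᵇ 𝒴) :
    AlgSt.RepByAlgSpWith AlgSp.IsUnivClosedMor (FibCat.diag f) →
      AlgSt.RepByAlgSpWith AlgSp.IsUnivClosedMor (FibCat.diag (FibCat.diag f)) → AlgSt.IsSeparatedMor f := by
  intro h₁ h₂ U y
  have hs := AlgStB.separated_of_univClosed_diag (FibCat.diag f) (AlgStB.repByAlgSp1_of_with h₁) h₂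
  obtain ⟨F, e, he, ⟨hsep, hcl⟩, hlft⟩ := AlgStB.repByAlgSpWith_inf (AlgStB.repByAlgSpWith_inf hs h₁)
    (AlgStB.repByAlgSpWith_lft_diag h𝒳 h𝒴 f) U y
  exact ⟨F, e, he, hsep, ⟨hlft, AlgSpDesc.isQuasiCompactMor_of_univClosed F.property
    (AlgSp.IsAlgSpace.yon_obj U) hcl⟩, hcl⟩

end Groth.Agent.S12979
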