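import Groth.Statements.S1298
import Groth.Agent.NwDenseGen.Basic
import Mathlib.AlgebraicGeometry.Fiber
import Mathlib.AlgebraicGeometry.Noetherian
import Mathlib.Topology.GDelta.Basic

set_option autoImplicit false
universe u
open FlatMor

namespace Groth.Agent.S1298

open AlgebraicGeometry CategoryTheory Limits in
/-- Let f be of finite type with irreducible target and let Z be a closed subset of the source whose
trace on the generic fibre is nowhere dense there. Then over some nonempty open of the target every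
fibre of Z is nowhere dense in the corresponding fibre of f. -/
theorem result {X Y : Scheme.{u}} (f : X ⟶ Y) [IrreducibleSpace ↑Y] [LocallyOfFiniteType f] [QuasiCompact f]
    (Z : Set ↑X) (hZ : IsClosed Z) (h : IsNowhereDense ((f.fiberι (genericPoint ↑Y)) ⁻¹' Z)) :
    ∃ V : Y.Opens, (V : Set ↑Y).Nonempty ∧ ∀ y ∈ V, IsNowhereDense ((f.fiberι y) ⁻¹' Z) := by
  classical
  set η := genericPoint ↑Y with hηdef
  -- nowhere density in a fibre is density of the complement
  have hnd : ∀ y : Y, IsNowhereDense ((f.fiberι y) ⁻¹' Z) ↔ f ⁻¹' {y} ⊆ closure (Zᶜ ∩ f ⁻¹' {y}) := by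
    intro y
    rw [(hZ.preimage (f.fiberι y).continuous).isNowhereDense_iff, interior_eq_empty_iff_dense_compl,
      (f.fiberι y).isEmbedding.isInducing.dense_iff, ← Set.preimage_compl, Set.image_preimage_eq_inter_range,
      f.range_fiberι]
    constructor
    · intro h x hx
      obtain ⟨z, rfl⟩ : x ∈ Set.range (f.fiberι y) := (f.range_fiberι y).symm ▸ hx
      exact h z
    · intro h z
      exact h (f.range_fiberι y ▸ Set.mem_range_self z)
  obtain ⟨U, hU, hηU, -⟩ := exists_isAffineOpen_mem_and_subset (U := (⊤ : Y.Opens)) (x := η) trivial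
  obtain ⟨S, hSfin, hS⟩ := (isCompact_iff_finite_and_eq_biUnion_affineOpens (U := f ⁻¹ᵁ U)).mp
    (f.isCompact_preimage hU.isCompact)
  have hcl := (hnd η).mp h
  -- every piece
  have key : ∀ V ∈ S, ∃ a : Γ(Y, U), η ∈ Y.basicOpen a ∧
      ∀ y ∈ Y.basicOpen a, f ⁻¹' {y} ∩ (V.1 : Set X) ⊆ closure (Zᶜ ∩ f ⁻¹' {y}) := by
    intro V hV
    have hVU : V.1 ≤ f ⁻¹ᵁ U := by rw [hS]; exact le_iSup₂_of_le V hV le_rfl
    letI : Algebra Γ(Y, U) Γ(X, V.1) := (f.appLE U V.1 hVU).hom.toAlgebra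
    haveI : Algebra.FiniteType Γ(Y, U) Γ(X, V.1) := f.finiteType_appLE hU V.2 hVU
    let j := hU.fromSpec
    let i := V.2.fromSpec
    have hcomp : ∀ z, f (i z) = j (PrimeSpectrum.comap (algebraMap Γ(Y, U) Γ(X, V.1)) z) := fun z =>
      congr($((IsAffineOpen.SpecMap_appLE_fromSpec f hU V.2 hVU).symm) z)
    have hfib : ∀ q : PrimeSpectrum Γ(Y, U), PrimeSpectrum.comap (algebraMap Γ(Y, U) Γ(X, V.1)) ⁻¹' {q} =
        i ⁻¹' (f ⁻¹' {j q}) := by
      intro q
      ext z
      change _ = q ↔ f (i z) = j q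
      rw [hcomp]
      exact j.isOpenEmbedding.injective.eq_iff.symm
    let p := hU.primeIdealOf ⟨η, hηU⟩
    have hp : j p = η := hU.fromSpec_primeIdealOf ⟨η, hηU⟩
    have hpnil : p.asIdeal = nilradical Γ(Y, U) := by
      refine le_antisymm ?_ (nilradical_le_prime _)
      rw [nilradical_eq_sInf, le_sInf_iff]
      intro P hP
      have h1 : j p ⤳ j ⟨P, hP⟩ := hp ▸ genericPoint_specializes _
      exact (PrimeSpectrum.le_iff_specializes _ _).2 (j.isOpenEmbedding.isInducing.specializes_iff.mp h1)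
    -- finitely many basic opens inside the complement cover its trace on the generic fibre
    have hc : IsCompact (i ⁻¹' (Zᶜ ∩ f ⁻¹' {η})) := by
      haveI : QuasiCompact (f.fiberToSpecResidueField η) := inferInstance
      haveI : CompactSpace (f.fiber η) := QuasiCompact.compactSpace_of_compactSpace (f.fiberToSpecResidueField η)
      haveI : LocallyOfFiniteType (f.fiberToSpecResidueField η) :=
        MorphismProperty.pullback_snd _ _ ‹LocallyOfFiniteType f›
      haveI : IsLocallyNoetherian (f.fiber η) := LocallyOfFiniteType.isLocallyNoetherian (f.fiberToSpecResidueField η)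
      haveI : IsNoetherian (f.fiber η) := {}
      rw [i.isOpenEmbedding.isInducing.isCompact_iff, Set.image_preimage_eq_inter_range, V.2.range_fromSpec]
      have : Zᶜ ∩ f ⁻¹' {η} ∩ (V.1 : Set X) = f.fiberι η '' (f.fiberι η ⁻¹' (Zᶜ ∩ (V.1 : Set X))) := by
        rw [Set.image_preimage_eq_inter_range, f.range_fiberι, Set.inter_right_comm]
      rw [this]
      exact (TopologicalSpace.NoetherianSpace.isCompact _).image (f.fiberι η).continuous
    have hopen : IsOpen (i ⁻¹' Zᶜ) := hZ.isOpen_compl.preimage i.continuous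
    have hb : ∀ z ∈ i ⁻¹' (Zᶜ ∩ f ⁻¹' {η}), ∃ b : Γ(X, V.1), z ∈ PrimeSpectrum.basicOpen b ∧
        (PrimeSpectrum.basicOpen b : Set (PrimeSpectrum Γ(X, V.1))) ⊆ i ⁻¹' Zᶜ := by
      intro z hz
      obtain ⟨_, ⟨b, rfl⟩, hzb, hb⟩ :=
        PrimeSpectrum.isTopologicalBasis_basic_opens.exists_subset_of_mem_open (show z ∈ i ⁻¹' Zᶜ from hz.1) hopen
      exact ⟨b, hzb, hb⟩
    choose b hzb hbZ using hb
    obtain ⟨t, ht⟩ := hc.elim_finite_subcover
      (fun z : i ⁻¹' (Zᶜ ∩ f ⁻¹' {η}) => (PrimeSpectrum.basicOpen (b z.1 z.2) : Set (PrimeSpectrum Γ(X, V.1))))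
      (fun z => (PrimeSpectrum.basicOpen _).2) (fun z hz => Set.mem_iUnion.mpr ⟨⟨z, hz⟩, hzb z hz⟩)
    let W : Set (PrimeSpectrum Γ(X, V.1)) :=
      ⋃ z ∈ t, (PrimeSpectrum.basicOpen (b z.1 z.2) : Set (PrimeSpectrum Γ(X, V.1)))
    have hWZ : W ⊆ i ⁻¹' Zᶜ := Set.iUnion₂_subset fun z _ => hbZ z.1 z.2
    have hW : Topology.IsConstructible W := Topology.IsConstructible.biUnion t.finite_toSet fun z _ =>
      PrimeSpectrum.isConstructible_basicOpen
    have hWgen : Groth.Agent.NwDenseGen.DenseOver W p := by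
      intro z hz
      rw [hfib, hp] at hz ⊢
      have h1 : z ∈ i ⁻¹' closure (Zᶜ ∩ f ⁻¹' {η}) := hcl hz
      rw [i.isOpenEmbedding.isOpenMap.preimage_closure_eq_closure_preimage i.continuous] at h1
      refine closure_mono ?_ h1
      rintro w ⟨hw1, hw2⟩
      exact ⟨ht (show w ∈ i ⁻¹' (Zᶜ ∩ f ⁻¹' {η}) from ⟨hw1, hw2⟩), hw2⟩
    obtain ⟨a, ha, hd⟩ := Groth.Agent.NwDenseGen.exists_of_irreducible p hpnil W hW hWgen
    refine ⟨a, ?_, ?_⟩
    · rw [← hp]
      show p ∈ j ⁻¹ᵁ Y.basicOpen a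
      rw [hU.fromSpec_preimage_basicOpen]
      exact ha
    · rintro y hy x ⟨hxy, hxV⟩
      obtain ⟨z, rfl⟩ : x ∈ Set.range i := V.2.range_fromSpec.symm ▸ hxV
      have hy' : y = j (PrimeSpectrum.comap (algebraMap Γ(Y, U) Γ(X, V.1)) z) := (hxy.symm).trans (hcomp z)
      have hq : a ∉ (PrimeSpectrum.comap (algebraMap Γ(Y, U) Γ(X, V.1)) z).asIdeal := by
        have : PrimeSpectrum.comap (algebraMap Γ(Y, U) Γ(X, V.1)) z ∈ j ⁻¹ᵁ Y.basicOpen a := by
          show j _ ∈ Y.basicOpen a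
          rw [← hy']; exact hy
        rw [hU.fromSpec_preimage_basicOpen] at this
        exact this
      have h2 := hd _ hq (show z ∈ PrimeSpectrum.comap (algebraMap Γ(Y, U) Γ(X, V.1)) ⁻¹' {_} from rfl)
      rw [hfib, ← hy'] at h2
      have h3 : z ∈ closure (i ⁻¹' (Zᶜ ∩ f ⁻¹' {y})) := by
        refine closure_mono ?_ h2
        rintro w ⟨hw1, hw2⟩
        exact ⟨hWZ hw1, hw2⟩
      exact i.continuous.closure_preimage_subset _ h3
  choose! a ha hgood using key
  haveI := hSfin.fintype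
  refine ⟨⟨(U : Set Y) ∩ ⋂ V : S, (Y.basicOpen (a V.1) : Set Y),
    U.2.inter (isOpen_iInter_of_finite fun V => (Y.basicOpen _).2)⟩,
    ⟨η, hηU, Set.mem_iInter.mpr fun V => ha V.1 V.2⟩, ?_⟩
  rintro y ⟨hyU, hy⟩
  rw [hnd]
  intro x hx
  have hxU : x ∈ f ⁻¹ᵁ U := by
    show f x ∈ U
    rw [hx]; exact hyU
  rw [hS] at hxU
  simp only [TopologicalSpace.Opens.mem_iSup] at hxU
  obtain ⟨V, hV, hxV⟩ := hxU
  exact hgood V hV y (Set.mem_iInter.mp hy ⟨V, hV⟩) ⟨hx, hxV⟩

end Groth.Agent.S1298
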