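import Groth.Statements.S12982
import Groth.Agent.AlgStB.PointsQC
import Groth.Agent.AlgStB.SmoothLocal
import Groth.Agent.Fib.FpPaste

set_option autoImplicit false
universe u
open CategoryTheory AlgebraicGeometry
open AlgSt

namespace Groth.Agent.S12982

/-- The base change of a quasi-compact morphism of algebraic stacks along any morphism of algebraic
stacks is quasi-compact (quasi-compact: base change to any quasi-compact algebraic stack is
quasi-compact). -/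
theorem result
    (S : Scheme.{u}) (𝒳 : AlgSt.Cat S) (𝒴 : AlgSt.Cat S) (𝒴' : AlgSt.Cat S)
    (h𝒳 : AlgSt.IsAlgStack Scheme.fppfPrecoverage 𝒳)
    (h𝒴 : AlgSt.IsAlgStack Scheme.fppfPrecoverage 𝒴)
    (h𝒴' : AlgSt.IsAlgStack Scheme.fppfPrecoverage 𝒴')
    (f : 𝒳 ⥤ᵇ 𝒴) (g : 𝒴' ⥤ᵇ 𝒴) :
    AlgSt.IsQuasiCompactMor Scheme.fppfPrecoverage f → AlgSt.IsQuasiCompactMor Scheme.fppfPrecoverage (FibCat.fpFst g f) := by
  intro hf 𝒲 h𝒲 hqc k
  have hA := Groth.Agent.AlgStB.isAlgStack_fp h𝒴.isStack h𝒴.diag h𝒴' h𝒳 g f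
  have h1 := Groth.Agent.AlgStB.isAlgStack_fp h𝒴'.isStack h𝒴'.diag h𝒲 hA k (FibCat.fpFst g f)
  have h2 := Groth.Agent.AlgStB.isAlgStack_fp h𝒴.isStack h𝒴.diag h𝒲 h𝒳 (BasedFunctor.comp k g) f
  obtain ⟨c, hc, -, -⟩ := Groth.Agent.Fib.exists_quasiInverse (Groth.Agent.Fib.isEquivOver_fpBC k g f)
  have := (Groth.Agent.AlgStB.isQuasiCompact_iff h2).1 (hf 𝒲 h𝒲 hqc (BasedFunctor.comp k g))
  exact (Groth.Agent.AlgStB.isQuasiCompact_iff h1).2
    (Groth.Agent.AlgStB.compactSpace_of_isSurjective h1 c (Groth.Agent.AlgStB.bijective_map c hc).2)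

end Groth.Agent.S12982
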