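import Groth.Statements.S12983
import Groth.Agent.AlgStB.PointsQC
import Groth.Agent.AlgStB.SmoothLocal
import Groth.Agent.Fib.FpPaste

set_option autoImplicit false
universe u
open CategoryTheory AlgebraicGeometry
open AlgSt

namespace Groth.Agent.S12983

/-- The composition of two quasi-compact morphisms of algebraic stacks is quasi-compact. -/
theorem result
    (S : Scheme.{u}) (𝒳 : AlgSt.Cat S) (𝒴 : AlgSt.Cat S) (𝒵 : AlgSt.Cat S)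
    (h𝒳 : AlgSt.IsAlgStack Scheme.fppfPrecoverage 𝒳)
    (h𝒴 : AlgSt.IsAlgStack Scheme.fppfPrecoverage 𝒴)
    (h𝒵 : AlgSt.IsAlgStack Scheme.fppfPrecoverage 𝒵)
    (f : 𝒳 ⥤ᵇ 𝒴) (g : 𝒴 ⥤ᵇ 𝒵) :
    AlgSt.IsQuasiCompactMor Scheme.fppfPrecoverage f → AlgSt.IsQuasiCompactMor Scheme.fppfPrecoverage g → AlgSt.IsQuasiCompactMor Scheme.fppfPrecoverage (BasedFunctor.comp f g) := by
  intro hf hg 𝒲 h𝒲 hqc k
  have hA := Groth.Agent.AlgStB.isAlgStack_fp h𝒵.isStack h𝒵.diag h𝒲 h𝒴 k g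
  have h1 := Groth.Agent.AlgStB.isAlgStack_fp h𝒵.isStack h𝒵.diag h𝒲 h𝒳 k (BasedFunctor.comp f g)
  have h2 := Groth.Agent.AlgStB.isAlgStack_fp h𝒴.isStack h𝒴.diag hA h𝒳 (FibCat.fpSnd k g) f
  have := (Groth.Agent.AlgStB.isQuasiCompact_iff h2).1 (hf _ hA (hg 𝒲 h𝒲 hqc k) (FibCat.fpSnd k g))
  exact (Groth.Agent.AlgStB.isQuasiCompact_iff h1).2
    (Groth.Agent.AlgStB.compactSpace_of_isSurjective h1 _
      (Groth.Agent.AlgStB.bijective_map _ (Groth.Agent.Fib.isEquivOver_fpAssoc k g f)).2)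

end Groth.Agent.S12983
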