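import Groth.Statements.S13001
import Groth.Agent.AlgStB.LocQDescent

set_option autoImplicit false
universe u
open CategoryTheory AlgebraicGeometry
open AlgSt

namespace Groth.Agent.S13001

/-- Let 𝒳 → 𝒴 → 𝒵 be morphisms of algebraic stacks with 𝒳 → 𝒵 locally of finite type and with 𝒳 → 𝒴
flat, surjective, locally of finite presentation and representable by algebraic spaces. In this
situation 𝒴 → 𝒵 is also locally of finite type. -/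
theorem result
    (S : Scheme.{u}) (𝒳 : AlgSt.Cat S) (𝒴 : AlgSt.Cat S) (𝒵 : AlgSt.Cat S)
    (h𝒳 : AlgSt.IsAlgStack Scheme.fppfPrecoverage 𝒳)
    (h𝒴 : AlgSt.IsAlgStack Scheme.fppfPrecoverage 𝒴)
    (h𝒵 : AlgSt.IsAlgStack Scheme.fppfPrecoverage 𝒵)
    (f : 𝒳 ⥤ᵇ 𝒴) (g : 𝒴 ⥤ᵇ 𝒵)
    (hf₁ : AlgSt.RepByAlgSpWith (AlgSp.LocP @Flat) f)
    (hf₂ : AlgSt.RepByAlgSpWith (AlgSp.LocP @LocallyOfFinitePresentation) f)
    (hf₃ : AlgSt.RepByAlgSpWith AlgSp.IsSurjectiveMor f) :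
    AlgSt.LocQ (AlgSp.LocP @LocallyOfFiniteType) (BasedFunctor.comp f g) → AlgSt.LocQ (AlgSp.LocP @LocallyOfFiniteType) g := by
  intro h
  exact Groth.Agent.AlgStB.locQ_source_descent h𝒳 h𝒴 h𝒵 Groth.Agent.AlgStB.isSmoothLocalST_lft
    (fun a b _ _ _ hab => @Groth.Agent.S5938.result _ _ _ a b ‹_› ‹_› ‹_› hab)
    (Groth.Agent.AlgStB.locQ_of_repByAlgSpWith h𝒳 h𝒴 Groth.Agent.AlgStB.smooth_le_flat hf₁)
    (Groth.Agent.AlgStB.locQ_of_repByAlgSpWith h𝒳 h𝒴 Groth.Agent.AlgStB.smooth_le_lfp hf₂)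
    (Groth.Agent.AlgStB.isSurjective_of_repWith h𝒳.isStack.1 h𝒴.isStack.1 f hf₃) h

end Groth.Agent.S13001
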