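import Groth.Statements.S13016
import Groth.Agent.AlgStB.DiagComp
import Groth.Agent.AlgStB.Mono
import Groth.Agent.AlgSpc.TestedMor

set_option autoImplicit false
universe u
open CategoryTheory AlgebraicGeometry
open AlgSt

namespace Groth.Agent.S13016

/-- In a 2-commutative triangle of algebraic stacks f : 𝒳 → 𝒴, a : 𝒳 → 𝒵, b : 𝒴 → 𝒵 with b ∘ f
2-isomorphic to a, if a is affine and the diagonal of b is affine then f is affine. -/
theorem result
    (S : Scheme.{u}) (𝒳 : AlgSt.Cat S) (𝒴 : AlgSt.Cat S) (𝒵 : AlgSt.Cat S)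
    (h𝒳 : AlgSt.IsAlgStack Scheme.fppfPrecoverage 𝒳)
    (h𝒴 : AlgSt.IsAlgStack Scheme.fppfPrecoverage 𝒴)
    (h𝒵 : AlgSt.IsAlgStack Scheme.fppfPrecoverage 𝒵)
    (f : 𝒳 ⥤ᵇ 𝒴) (a : 𝒳 ⥤ᵇ 𝒵) (b : 𝒴 ⥤ᵇ 𝒵) (e : BasedFunctor.comp f b ≅ a) :
    AlgSt.RepByAlgSpWith AlgSp.IsAffineMor a → AlgSt.RepByAlgSpWith AlgSp.IsAffineMor (FibCat.diag b) → AlgSt.RepByAlgSpWith AlgSp.IsAffineMor f := by
  intro ha hb
  let Pa : MorphismProperty Scheme.{u} := @IsAffineHom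
  have : Pa.RespectsIso := inferInstanceAs (MorphismProperty.RespectsIso @IsAffineHom)
  have : (Pa.inverseImage (Over.forget S)).RespectsIso :=
    MorphismProperty.RespectsIso.inverseImage _ _
  refine AlgStB.repByAlgSpWith_mono (fun _ _ a h => (AlgSpc.repWith_affineHom_iff a).2 h) ?_
  exact AlgStB.repByAlgSpWith_cancel h𝒳.isStack.1 h𝒴.isStack.1 h𝒵.isStack.1
    AlgStB.respectsSrcIso_of_respectsIso
    (fun _ _ _ _ _ _ a b ha hb => AlgSpc.repWith_comp (AlgStB.repWith_of_forall_pullback a ha) hb)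
    (AlgStB.repByAlgSpWith_mono (fun _ _ a h => (AlgSpc.repWith_affineHom_iff a).1 h) hb)
    (AlgStB.repByAlgSpWith_of_iso e.symm
      (AlgStB.repByAlgSpWith_mono (fun _ _ a h => (AlgSpc.repWith_affineHom_iff a).1 h) ha))

end Groth.Agent.S13016
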