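import Groth.Statements.S13021
import Groth.Agent.AlgStB.PointsNoeth

set_option autoImplicit false
universe u
open CategoryTheory AlgebraicGeometry
open AlgSt

namespace Groth.Agent.S13021

/-- The space of points of a locally Noetherian algebraic stack is quasi-sober: every irreducible closed
subset has a generic point. -/
theorem result
    (S : Scheme.{u}) (𝒳 : AlgSt.Cat S)
    (h𝒳 : AlgSt.IsAlgStack Scheme.fppfPrecoverage 𝒳) :
    AlgSt.SmoothLocally (fun T ↦ IsLocallyNoetherian T) 𝒳 → QuasiSober (AlgSt.Points 𝒳) := by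
  intro hN
  have H := AlgStB.exists_noetherian_nhd h𝒳 hN
  choose V hV hzV _ hVs using H
  refine @quasiSober_of_open_cover _ _ (Set.range V) (fun ⟨s, z, hz⟩ => hz ▸ hV z)
    (fun ⟨s, z, hz⟩ => hz ▸ hVs z) ?_
  exact Set.eq_univ_of_forall fun z => ⟨V z, ⟨z, rfl⟩, hzV z⟩

end Groth.Agent.S13021
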