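import Groth.Statements.S13035
import Groth.Agent.AlgStB.LocQApps
import Groth.Agent.AlgStB.PointsTop
import Groth.Agent.AlgStB.LiftSet
import Groth.Agent.VCov.Basic

set_option autoImplicit false
universe u
open CategoryTheory AlgebraicGeometry
open AlgSt

namespace Groth.Agent.S13035

/-- Let f : 𝒳 → 𝒴 be a flat morphism of algebraic stacks and Spec A → 𝒴 a morphism with A a valuation
ring whose closed point maps into the image of |𝒳| → |𝒴|. Then there are an extension of valuation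
rings A → A' (an injective local homomorphism of valuation rings) and a morphism Spec A' → 𝒳 making
the square with Spec A' → Spec A → 𝒴 2-commute. -/
theorem result
    (S : Scheme.{u}) (𝒳 : AlgSt.Cat S) (𝒴 : AlgSt.Cat S)
    (h𝒳 : AlgSt.IsAlgStack Scheme.fppfPrecoverage 𝒳)
    (h𝒴 : AlgSt.IsAlgStack Scheme.fppfPrecoverage 𝒴)
    (f : 𝒳 ⥤ᵇ 𝒴)
    (hf : AlgSt.LocQ (AlgSp.LocP @Flat) f)
    (A : Type u) [CommRing A] [IsDomain A] [ValuationRing A] (sA : Spec (CommRingCat.of A) ⟶ S)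
    (a : FibCat.overCat (Over.mk sA) ⥤ᵇ 𝒴)
    (ha : AlgSt.Points.ofChart a (IsLocalRing.closedPoint A) ∈ Set.range (AlgSt.Points.map f)) :
    ∃ (A' : Type u) (_ : CommRing A') (_ : IsDomain A') (_ : ValuationRing A') (φ : A →+* A'),
      Function.Injective φ ∧ IsLocalHom φ ∧
      ∃ x : FibCat.overCat (Over.mk (Spec.map (CommRingCat.ofHom φ) ≫ sA)) ⥤ᵇ 𝒳,
        Nonempty (BasedFunctor.comp x f ≅
          BasedFunctor.comp (AlgSt.overMap (Over.homMk (Spec.map (CommRingCat.ofHom φ)) rfl :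
            Over.mk (Spec.map (CommRingCat.ofHom φ) ≫ sA) ⟶ Over.mk sA)) a) := by
  obtain ⟨V₀, y, hy, hys⟩ := h𝒴.atlas
  obtain ⟨U, x, h, α, hx, hxs, hL⟩ := AlgStB.exists_chart_square h𝒳 h𝒴 f y hy
  have hflat : Flat h.left := AlgStB.locP_left h
    (AlgStB.prop_of_locQ h𝒳 h𝒴 AlgStB.isSmoothLocalST_flat hf x y h α hy hL.1)
  have hR : AlgSt.RepByAlgSpWith (AlgSp.LocP @Flat) (BasedFunctor.comp x f) :=
    AlgStB.repByAlgSpWith_of_iso α.symm (AlgStB.repByAlgSpWith_comp' (Fib.isFibGrpd_overCat U)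
      (Fib.isFibGrpd_overCat V₀) AlgStB.respectsSrcIso_locP AlgStB.hc_locP
      (AlgStB.repByAlgSpWith_overMap (P := @Flat) h hflat) (AlgStB.flat_lfp_of_smooth hy).1)
  obtain ⟨T, k, τ, ⟨i⟩, hp, hk, -⟩ := AlgStB.exists_cover_point (Fib.isFibGrpd_overCat U)
    h𝒴.isStack.1 (BasedFunctor.comp x f) (AlgStB.repByAlgSp1_of_with hR) a
  obtain ⟨z, hz⟩ := ha
  obtain ⟨u₀, hu₀⟩ := AlgStB.isSurjective_of_repWith (Fib.isFibGrpd_overCat U) h𝒳.isStack.1 x
    (hxs hys) z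
  obtain ⟨t, ht, -⟩ := hp (IsLocalRing.closedPoint A) u₀ (by rw [AlgStB.map_comp_apply, hu₀, hz])
  have : Flat k.left := hk _ hR
  let η : ↥(Over.mk sA).left := (⟨⊥, Ideal.isPrime_bot⟩ : PrimeSpectrum A)
  have hsp : η ⤳ k.left t := by rw [ht]; exact IsLocalRing.specializes_closedPoint _
  obtain ⟨t', ht', hη⟩ := Flat.generalizingMap k.left hsp
  obtain ⟨W, _, _, m, hm₁, hm₂⟩ := VCov.exists_valuation_of_specializes ht'
  obtain ⟨ψ, hψ⟩ := Spec.map_surjective (m ≫ k.left)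
  refine ⟨W, inferInstance, inferInstance, inferInstance, ψ.hom, ?_, ?_, ?_⟩
  · rw [RingHom.injective_iff_ker_eq_bot]
    have h₁ : Spec.map ψ (⟨⊥, Ideal.isPrime_bot⟩ : PrimeSpectrum W) = η := by
      rw [hψ]
      exact (congrArg k.left hm₂).trans hη
    exact congrArg PrimeSpectrum.asIdeal h₁
  · have h₁ : Spec.map ψ (IsLocalRing.closedPoint W) = IsLocalRing.closedPoint A := by
      rw [hψ]
      exact (congrArg k.left hm₁).trans ht
    exact ((IsLocalRing.local_hom_TFAE ψ.hom).out 0 4).mpr (congrArg PrimeSpectrum.asIdeal h₁)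
  · let M : (Over.mk (Spec.map (CommRingCat.ofHom ψ.hom) ≫ sA) : Over S) ⟶ T :=
      Over.homMk m (by
        change m ≫ T.hom = Spec.map ψ ≫ sA
        rw [hψ, Category.assoc, ← Over.w k]
        rfl)
    have hM : M ≫ k = (Over.homMk (Spec.map (CommRingCat.ofHom ψ.hom)) rfl :
        (Over.mk (Spec.map (CommRingCat.ofHom ψ.hom) ≫ sA) : Over S) ⟶ Over.mk sA) :=
      Over.OverMorphism.ext hψ.symm
    exact ⟨BasedFunctor.comp (AlgSt.overMap M) (BasedFunctor.comp τ x),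
      ⟨Fib.isoWhiskerLeft (AlgSt.overMap M) i ≪≫ Fib.isoWhiskerRight (AlgStB.overMapComp M k ≪≫
        eqToIso (congrArg AlgSt.overMap hM)) a⟩⟩

end Groth.Agent.S13035
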