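import Groth.Statements.S13036
import Groth.Agent.AlgStB.PointsQC
import Groth.Agent.AlgStB.SmoothLocal
import Groth.Agent.AlgStB.LiftSet
import Groth.Agent.AlgStB.DiagLft
import Groth.Agent.LimSch.ClosureRange
import Mathlib.AlgebraicGeometry.ValuativeCriterion

set_option autoImplicit false
universe u
open CategoryTheory AlgebraicGeometry
open AlgSt

namespace Groth.Agent.S13036

/-- Let f : 𝒳 → 𝒴 be a quasi-compact morphism of algebraic stacks and y a point of |𝒴| in the closure of
the image of |f|. Then there are a valuation ring A with fraction field K and a 2-commutative square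
Spec K → 𝒳, Spec A → 𝒴 (over Spec K → Spec A and f) such that the closed point of Spec A maps to y. -/
theorem result
    (S : Scheme.{u}) (𝒳 : AlgSt.Cat S) (𝒴 : AlgSt.Cat S)
    (h𝒳 : AlgSt.IsAlgStack Scheme.fppfPrecoverage 𝒳)
    (h𝒴 : AlgSt.IsAlgStack Scheme.fppfPrecoverage 𝒴)
    (f : 𝒳 ⥤ᵇ 𝒴)
    (hf : AlgSt.IsQuasiCompactMor Scheme.fppfPrecoverage f)
    (y : AlgSt.Points 𝒴) (hy : y ∈ closure (Set.range (AlgSt.Points.map f))) :
    ∃ (A : Type u) (_ : CommRing A) (_ : IsDomain A) (_ : ValuationRing A) (sA : Spec (CommRingCat.of A) ⟶ S)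
      (a : FibCat.overCat (Over.mk sA) ⥤ᵇ 𝒴)
      (x : FibCat.overCat (Over.mk (Spec.map (CommRingCat.ofHom (algebraMap A (FractionRing A))) ≫ sA)) ⥤ᵇ 𝒳),
      Nonempty (BasedFunctor.comp x f ≅
        BasedFunctor.comp (AlgSt.overMap (Over.homMk (Spec.map (CommRingCat.ofHom (algebraMap A (FractionRing A)))) rfl :
          Over.mk (Spec.map (CommRingCat.ofHom (algebraMap A (FractionRing A))) ≫ sA) ⟶ Over.mk sA)) a) ∧
      AlgSt.Points.ofChart a (IsLocalRing.closedPoint A) = y := by
  have hX := h𝒳.isStack.1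
  have hY := h𝒴.isStack.1
  obtain ⟨V₀, y₀, hy₀, hy₀s⟩ := h𝒴.atlas
  obtain ⟨v, rfl⟩ := AlgStB.surjective_ofChart hY y₀ hy₀s y
  obtain ⟨_, ⟨O, hO, rfl⟩, hvO, -⟩ :=
    V₀.left.isBasis_affineOpens.exists_subset_of_mem_open (Set.mem_univ v) isOpen_univ
  let V : Over S := Over.mk (Scheme.Opens.ι O ≫ V₀.hom)
  let jO : V ⟶ V₀ := Over.homMk (Scheme.Opens.ι O) rfl
  have : IsAffine V.left := hO
  have hj : Smooth jO.left := by
    have : IsOpenImmersion jO.left := inferInstanceAs (IsOpenImmersion (Scheme.Opens.ι O))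
    infer_instance
  let y' := BasedFunctor.comp (AlgSt.overMap jO) y₀
  have hy' : AlgSt.RepByAlgSpWith (AlgSp.LocP @Smooth) y' :=
    AlgStB.repByAlgSpWith_comp' (Fib.isFibGrpd_overCat V) (Fib.isFibGrpd_overCat V₀)
      AlgStB.respectsSrcIso_locP AlgStB.hc_locP (AlgStB.repByAlgSpWith_overMap (P := @Smooth) jO hj) hy₀
  let v' : ↥V.left := ⟨v, hvO⟩
  have hv' : AlgSt.Points.ofChart y' v' = AlgSt.Points.ofChart y₀ v :=
    (AlgStB.ofChart_comp_overMap jO y₀ v')
  -- the base change to the affine chart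
  have hV := AlgStB.isAlgStack_overCat V
  have hP := AlgStB.isAlgStack_fp h𝒴.isStack h𝒴.diag hV h𝒳 y' f
  have hVc : CompactSpace (AlgSt.Points (FibCat.overCat V)) := AlgStB.compactSpace_points_overCat V
  obtain ⟨W, σ, hW, hσ, hσs⟩ := hf _ hV ((AlgStB.isQuasiCompact_iff hV).2 hVc) y'
  obtain ⟨k, ⟨jk⟩⟩ := AlgStB.exists_iso_overMap (BasedFunctor.comp σ (FibCat.fpFst y' f))
  have : IsAffine W.left := hW
  have hrange : AlgSt.Points.ofChart y' ⁻¹' Set.range (AlgSt.Points.map f) ⊆ Set.range k.left := by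
    intro t ⟨z, hz⟩
    obtain ⟨p, hp, -⟩ := AlgStB.exists_point_fp hX hY hV.isStack.1 f y' (AlgStB.schMk V t) z
      (by rw [← AlgStB.ofChart_eq_map]; exact hz.symm)
    obtain ⟨q, rfl⟩ := AlgStB.isSurjective_of_repWith (Fib.isFibGrpd_overCat W) hP.isStack.1 σ hσs p
    refine ⟨AlgStB.schPt W q, ?_⟩
    rw [← AlgStB.schPt_map_overMap, ← AlgStB.map_congr jk, AlgStB.map_comp_apply, hp,
      AlgStB.schPt_schMk]
  have hcl : v' ∈ closure (Set.range k.left) := by
    refine closure_mono hrange ?_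
    refine (AlgStB.isOpenMap_ofChart hY y' (AlgStB.flat_lfp_of_smooth hy').1
      (AlgStB.flat_lfp_of_smooth hy').2).preimage_closure_subset_closure_preimage ?_
    rw [Set.mem_preimage, hv']
    exact hy
  obtain ⟨w, hw⟩ := LimSch.exists_specializes_of_mem_closure_range k.left hcl
  -- the valuation ring in the residue field of the point of the chart
  let β := V.left.presheaf.stalkSpecializes hw ≫ V.left.residue (k.left w) ≫
    k.left.residueFieldMap w
  obtain ⟨A, hA, hloc⟩ := IsLocalRing.exists_factor_valuationRing β.hom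
  let α' : V.left.presheaf.stalk v' ⟶ CommRingCat.of A := CommRingCat.ofHom (β.hom.codRestrict _ hA)
  have : IsLocalHom α'.hom := hloc
  let m : Spec (CommRingCat.of A) ⟶ V.left := Spec.map α' ≫ V.left.fromSpecStalk v'
  let e : FractionRing A ≃ₐ[A] W.left.residueField w := FractionRing.algEquiv A _
  let r : W.left.residueField w ⟶ CommRingCat.of (FractionRing A) :=
    CommRingCat.ofHom (e.symm : W.left.residueField w →+* FractionRing A)
  have hr : CommRingCat.ofHom A.subtype ≫ r = CommRingCat.ofHom (algebraMap A (FractionRing A)) := by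
    ext a
    exact e.symm.commutes a
  have hK : Spec.map (CommRingCat.ofHom A.subtype) ≫ m = W.left.fromSpecResidueField w ≫ k.left := by
    rw [← Spec.map_comp_assoc, show α' ≫ CommRingCat.ofHom A.subtype = β from rfl, Spec.map_comp_assoc,
      Spec.map_comp_assoc, Scheme.SpecMap_stalkSpecializes_fromSpecStalk]
    exact k.left.SpecMap_residueFieldMap_fromSpecResidueField w
  let sA : Spec (CommRingCat.of A) ⟶ S := m ≫ V.hom
  let M : (Over.mk sA : Over S) ⟶ V := Over.homMk m rfl
  let N : (Over.mk (Spec.map (CommRingCat.ofHom (algebraMap A (FractionRing A))) ≫ sA) : Over S) ⟶ W :=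
    Over.homMk (Spec.map r ≫ W.left.fromSpecResidueField w) (by
      change (Spec.map r ≫ W.left.fromSpecResidueField w) ≫ W.hom =
        Spec.map (CommRingCat.ofHom (algebraMap A (FractionRing A))) ≫ sA
      rw [← hr, Spec.map_comp, Category.assoc, Category.assoc, ← Over.w k]
      simp only [sA]
      rw [← Category.assoc (Spec.map (CommRingCat.ofHom A.subtype)) m, hK, Category.assoc])
  let g : (Over.mk (Spec.map (CommRingCat.ofHom (algebraMap A (FractionRing A))) ≫ sA) : Over S) ⟶
      Over.mk sA := Over.homMk (Spec.map (CommRingCat.ofHom (algebraMap A (FractionRing A)))) rfl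
  have hg : N ≫ k = g ≫ M := Over.OverMorphism.ext (by
    change (Spec.map r ≫ W.left.fromSpecResidueField w) ≫ k.left =
      Spec.map (CommRingCat.ofHom (algebraMap A (FractionRing A))) ≫ m
    rw [← hr, Spec.map_comp, Category.assoc, Category.assoc, hK])
  refine ⟨A, inferInstance, inferInstance, inferInstance, sA, BasedFunctor.comp (AlgSt.overMap M) y',
    BasedFunctor.comp (AlgSt.overMap N) (BasedFunctor.comp σ (FibCat.fpSnd y' f)), ⟨?_⟩, ?_⟩
  · exact Fib.isoWhiskerLeft (AlgSt.overMap N) (Fib.isoWhiskerLeft σ (FibCat.fpIso y' f).symm ≪≫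
      Fib.isoWhiskerRight jk y') ≪≫ Fib.isoWhiskerRight (AlgStB.overMapComp N k ≪≫
        eqToIso (congrArg AlgSt.overMap hg) ≪≫ (AlgStB.overMapComp g M).symm) y'
  · refine (AlgStB.ofChart_comp_overMap M y' _).trans ?_
    refine Eq.trans (congrArg _ ?_) hv'
    change (Spec.map α' ≫ V.left.fromSpecStalk v') (IsLocalRing.closedPoint A) = v'
    exact (congrArg (V.left.fromSpecStalk v') (IsLocalRing.comap_closedPoint α'.hom)).trans
      Scheme.fromSpecStalk_closedPoint

end Groth.Agent.S13036
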