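import Groth.Statements.S13041
import Mathlib.RingTheory.Flat.Basic
import Mathlib.RingTheory.TensorProduct.Maps
import Mathlib.RingTheory.Localization.FractionRing

set_option autoImplicit false
universe u
open MaxMod

namespace Groth.Agent.S13041

/-- Let R be a domain with fraction field K, let A → B be a homomorphism of commutative R-algebras that
are flat over R, with B module-finite over A, such that the induced map K ⊗_R A → K ⊗_R B is
bijective. If the A-linear map Hom_A(B, A) → A evaluating at 1 is surjective, then A → B is
bijective. (The published statement concerns a finite morphism of flat schemes over a discrete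
valuation ring, with locally free relative dualizing sheaves, that is an isomorphism over a
schematically dense open and whose trace map on dualizing sheaves is surjective; this row is the
statement about rings to which the printed proof reduces it and which that proof establishes, and
the argument uses only that R is a domain.) -/
theorem result
    (R K A B : Type u) [CommRing R] [IsDomain R] [Field K] [Algebra R K] [IsFractionRing R K]
    [CommRing A] [CommRing B] [Algebra R A] [Algebra R B] [Algebra A B] [IsScalarTower R A B]
    [Module.Flat R A] [Module.Flat R B] [Module.Finite A B]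
    (hK : Function.Bijective
      (Algebra.TensorProduct.map (AlgHom.id R K) (IsScalarTower.toAlgHom R A B)))
    (htr : Function.Surjective (fun u : B →ₗ[A] A => u 1)) :
    Function.Bijective (algebraMap A B) := by
  obtain ⟨v, hv⟩ := htr 1
  change v 1 = 1 at hv
  have hvA : ∀ a, v (algebraMap A B a) = a := fun a => by
    rw [Algebra.algebraMap_eq_smul_one, map_smul, hv, smul_eq_mul, mul_one]
  refine ⟨fun a a' h => by rw [← hvA a, h, hvA a'], fun b => ⟨v b, ?_⟩⟩
  have hinj : Function.Injective (fun x : B => (1 : K) ⊗ₜ[R] x) := by
    have h := Module.Flat.rTensor_preserves_injective_linearMap (M := B) (Algebra.linearMap R K)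
      (IsFractionRing.injective R K)
    intro x y hxy
    have := h (a₁ := (1 : R) ⊗ₜ[R] x) (a₂ := (1 : R) ⊗ₜ[R] y) (by simpa using hxy)
    simpa using congrArg (TensorProduct.lid R B) this
  let v' : B →ₗ[R] A := v.restrictScalars R
  obtain ⟨z, hz⟩ := hK.2 ((1 : K) ⊗ₜ[R] (b - algebraMap A B (v b)))
  have hid : ∀ w : TensorProduct R K A,
      LinearMap.lTensor K v' (Algebra.TensorProduct.map (AlgHom.id R K) (IsScalarTower.toAlgHom R A B) w) = w := by
    intro w
    induction w using TensorProduct.induction_on with
    | zero => simp
    | tmul k a =>
      rw [Algebra.TensorProduct.map_tmul, LinearMap.lTensor_tmul]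
      change k ⊗ₜ[R] v (algebraMap A B a) = k ⊗ₜ[R] a
      rw [hvA]
    | add x y hx hy => rw [map_add, map_add, hx, hy]
  have hz0 : z = 0 := by
    rw [← hid z, hz, LinearMap.lTensor_tmul]
    change (1 : K) ⊗ₜ[R] v (b - algebraMap A B (v b)) = 0
    rw [map_sub, hvA, sub_self, TensorProduct.tmul_zero]
  rw [hz0, map_zero] at hz
  have := hinj (a₁ := b - algebraMap A B (v b)) (a₂ := 0) (by simp [← hz])
  exact (sub_eq_zero.1 this).symm

end Groth.Agent.S13041
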