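import Groth.Statements.S13042
import Mathlib.Algebra.CharP.Lemmas
import Mathlib.RingTheory.MvPolynomial.Basic
import Mathlib.RingTheory.Ideal.Quotient.Operations
import Mathlib.RingTheory.LocalRing.MaximalIdeal.Basic

set_option autoImplicit false
universe u
open MaxMod

namespace Groth.Agent.S13042

open MvPolynomial in
/-- Let p be a prime, R a local ring of characteristic p, λ an element of the maximal ideal of R and f ∈
R. Then there is an isomorphism of R-algebras R[W₁, W₂]/(W₁^p − f, W₂^p − f) ≅ R[x, W]/(x^p, W^p −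
f) with W₁ ↦ x + W + λ·x·W and W₂ ↦ W; that is, Spec R[W]/(W^p − f) with the action w ↦ x + w + λxw
is a torsor under the group scheme Spec R[x]/(x^p) with law x₁ ∘ x₂ = x₁ + x₂ + λx₁x₂. (The
published statement is over a complete discrete valuation ring of characteristic p with λ a nonzero
nonunit, and also asserts that for f in the fraction field with negative valuation v(f) > −p·v(λ)
the torsor W^p = f extends to a torsor over R, using the coordinate 1/W; that second case fails: for
p = 2, λ = π a uniformizer and f = 1/π, every model is Spec R[π^a t] with t² = π, and none of these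
is a torsor since the coaction sends t to t − π(1 + t)x. Only the case f ∈ R is stated, and the
argument there uses only that R is local of characteristic p.) -/
theorem result
    (p : ℕ) [Fact p.Prime] (R : Type u) [CommRing R] [IsLocalRing R] [CharP R p]
    (lam f : R) (hlam : lam ∈ IsLocalRing.maximalIdeal R) :
    ∃ e : (MvPolynomial (Fin 2) R ⧸ Ideal.span {(X 0 ^ p - C f : MvPolynomial (Fin 2) R), X 1 ^ p - C f}) ≃ₐ[R]
        (MvPolynomial (Fin 2) R ⧸ Ideal.span {(X 0 ^ p : MvPolynomial (Fin 2) R), X 1 ^ p - C f}),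
      e (Ideal.Quotient.mk _ (X 0)) = Ideal.Quotient.mk _ (X 0 + X 1 + C lam * X 0 * X 1) ∧
      e (Ideal.Quotient.mk _ (X 1)) = Ideal.Quotient.mk _ (X 1) := by
    have hp : p ≠ 0 := (Fact.out : p.Prime).ne_zero
    have hunit : IsUnit (1 + lam ^ p * f) := by
      rcases IsLocalRing.isUnit_or_isUnit_one_sub_self (-(lam ^ p * f)) with h | h
      · exfalso
        have : -(lam ^ p * f) ∈ IsLocalRing.maximalIdeal R :=
          neg_mem (Ideal.mul_mem_right _ _ (Ideal.pow_mem_of_mem _ hlam p (Nat.pos_of_ne_zero hp)))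
        exact (IsLocalRing.mem_maximalIdeal _).1 this h
      · simpa [sub_neg_eq_add] using h
    obtain ⟨r, hr⟩ := hunit
    let I : Ideal (MvPolynomial (Fin 2) R) := Ideal.span {(X 0 ^ p - C f : MvPolynomial (Fin 2) R), X 1 ^ p - C f}
    let I' : Ideal (MvPolynomial (Fin 2) R) := Ideal.span {(X 0 ^ p : MvPolynomial (Fin 2) R), X 1 ^ p - C f}
    let g : MvPolynomial (Fin 2) R := X 0 + X 1 + C lam * X 0 * X 1
    let u : MvPolynomial (Fin 2) R := C (↑r⁻¹ : R) * (1 + C lam * X 1) ^ (p - 1)
    have hu : ∀ J : Ideal (MvPolynomial (Fin 2) R), (X 1 ^ p - C f : MvPolynomial (Fin 2) R) ∈ J →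
        Ideal.Quotient.mk J ((1 + C lam * X 1) * u) = 1 := by
      intro J hJ
      have e : ((1 + C lam * X 1) * u : MvPolynomial (Fin 2) R) =
          C (↑r⁻¹ : R) * (C lam ^ p * (X 1 ^ p - C f)) + C ((↑r⁻¹ : R) * (↑r : R)) := by
        have h1 : ((1 + C lam * X 1) * u : MvPolynomial (Fin 2) R) = C (↑r⁻¹ : R) * (1 + C lam * X 1) ^ p := by
          calc ((1 + C lam * X 1) * u : MvPolynomial (Fin 2) R)
              = C (↑r⁻¹ : R) * ((1 + C lam * X 1) ^ (p - 1) * (1 + C lam * X 1)) := by simp only [u]; ring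
            _ = _ := by rw [← pow_succ, Nat.sub_add_cancel (Nat.pos_of_ne_zero hp)]
        rw [h1, add_pow_char, one_pow, mul_pow, hr, map_mul, map_add, map_one, map_mul, map_pow]
        ring
      rw [e, Units.inv_mul, map_one, map_add, map_one, map_mul, map_mul,
        Ideal.Quotient.eq_zero_iff_mem.2 hJ, mul_zero, mul_zero, zero_add]
    have hI₀ : (X 0 ^ p - C f : MvPolynomial (Fin 2) R) ∈ I := Ideal.subset_span (by simp)
    have hI₁ : (X 1 ^ p - C f : MvPolynomial (Fin 2) R) ∈ I := Ideal.subset_span (by simp)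
    have hI'₀ : (X 0 ^ p : MvPolynomial (Fin 2) R) ∈ I' := Ideal.subset_span (by simp)
    have hI'₁ : (X 1 ^ p - C f : MvPolynomial (Fin 2) R) ∈ I' := Ideal.subset_span (by simp)
    let φ : MvPolynomial (Fin 2) R →ₐ[R] MvPolynomial (Fin 2) R := aeval ![g, X 1]
    let ψ : MvPolynomial (Fin 2) R →ₐ[R] MvPolynomial (Fin 2) R := aeval ![(X 0 - X 1) * u, X 1]
    have hφI : I ≤ I'.comap φ := Ideal.span_le.2 fun x hx => by
      rcases hx with rfl | rfl
      · show φ (X 0 ^ p - C f) ∈ I'
        have : φ (X 0 ^ p - C f) = X 0 ^ p * (1 + C lam ^ p * X 1 ^ p) + (X 1 ^ p - C f) := by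
          simp only [φ, map_sub, map_pow, aeval_X, aeval_C, Matrix.cons_val_zero, g]
          rw [add_pow_char, add_pow_char, mul_pow, mul_pow, MvPolynomial.algebraMap_eq]
          ring
        rw [this]; exact add_mem (Ideal.mul_mem_right _ _ hI'₀) hI'₁
      · show φ (X 1 ^ p - C f) ∈ I'
        simpa [φ] using hI'₁
    have hψI : I' ≤ I.comap ψ := Ideal.span_le.2 fun x hx => by
      rcases hx with rfl | rfl
      · show ψ (X 0 ^ p) ∈ I
        have : ψ (X 0 ^ p) = ((X 0 ^ p - C f) - (X 1 ^ p - C f)) * u ^ p := by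
          simp only [ψ, map_pow, aeval_X, Matrix.cons_val_zero]
          rw [mul_pow, sub_pow_char]; ring
        rw [this]; exact Ideal.mul_mem_right _ _ (sub_mem hI₀ hI₁)
      · show ψ (X 1 ^ p - C f) ∈ I
        simpa [ψ] using hI₁
    let F := Ideal.quotientMapₐ I' φ hφI
    let G := Ideal.quotientMapₐ I ψ hψI
    refine ⟨AlgEquiv.ofAlgHom F G ?_ ?_, ?_, ?_⟩
    · refine Ideal.Quotient.algHom_ext R (MvPolynomial.algHom_ext fun i => ?_)
      show Ideal.Quotient.mk I' (φ (ψ (X i))) = Ideal.Quotient.mk I' (X i)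
      fin_cases i
      · have : φ (ψ (X 0)) = X 0 * ((1 + C lam * X 1) * φ u) := by
          simp [ψ, φ, g]; ring
        have hφu : φ u = u := by simp [φ, u]
        simp only [Fin.zero_eta, this, hφu, map_mul]
        rw [← map_mul (Ideal.Quotient.mk I') (1 + C lam * X 1) u, hu I' hI'₁, mul_one]
      · simp [φ, ψ]
    · refine Ideal.Quotient.algHom_ext R (MvPolynomial.algHom_ext fun i => ?_)
      show Ideal.Quotient.mk I (ψ (φ (X i))) = Ideal.Quotient.mk I (X i)
      fin_cases i
      · have : ψ (φ (X 0)) = X 1 + (X 0 - X 1) * ((1 + C lam * X 1) * u) := by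
          simp [ψ, φ, g]; ring
        simp only [Fin.zero_eta, this]
        rw [map_add, map_mul, hu I hI₁, map_sub]; ring
      · simp [φ, ψ]
    · show Ideal.Quotient.mk I' (φ (X 0)) = _
      simp [φ, g]
      rfl
    · show Ideal.Quotient.mk I' (φ (X 1)) = _
      simp [φ]
      rfl

end Groth.Agent.S13042
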