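import Groth.Statements.S13043
import Groth.Agent.AffCompl.Basic
-- import your own Groth.Agent.* helpers here

set_option autoImplicit false
universe u
open CoPerf

namespace Groth.Agent.S13043Aux

open AlgebraicGeometry CategoryTheory TopologicalSpace

theorem exists_generic_pts {S : Scheme.{u}} [IsNoetherian S] (V : S.Opens) :
    ∃ F : Set S, F.Finite ∧ (∀ g ∈ F, g ∉ V) ∧ ∀ z : S, z ∉ V → ∃ g ∈ F, g ⤳ z := by
  obtain ⟨T, hT, hTc, hTi, hTU⟩ := NoetherianSpace.exists_finite_set_isClosed_irreducible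
    (α := S) (s := (V : Set S)ᶜ) V.2.isClosed_compl
  refine ⟨Set.range (fun t : T => (hTi _ t.2).genericPoint), ?_, ?_, ?_⟩
  · haveI := hT.to_subtype
    exact Set.finite_range _
  · rintro _ ⟨t, rfl⟩ hg
    have h1 := (hTi _ t.2).isGenericPoint_genericPoint_closure
    rw [(hTc _ t.2).closure_eq] at h1
    exact (hTU.ge (Set.mem_sUnion_of_mem h1.mem t.2)) hg
  · intro z hz
    obtain ⟨t, ht, hzt⟩ := hTU.le hz
    refine ⟨_, ⟨⟨t, ht⟩, rfl⟩, ?_⟩
    have h1 := (hTi _ ht).isGenericPoint_genericPoint_closure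
    rw [(hTc _ ht).closure_eq] at h1
    exact h1.specializes hzt

theorem exists_max {S : Scheme.{u}} [IsNoetherian S] (V : S.Opens) (z : S) (hz : z ∉ V) :
    ∃ g : S, g ∉ V ∧ g ⤳ z ∧ ∀ y : S, y ∉ V → y ⤳ g → y = g := by
  obtain ⟨F, hF, hFV, hFz⟩ := exists_generic_pts V
  have hne : {g | g ∈ F ∧ g ⤳ z}.Nonempty := by
    obtain ⟨g, hg, hgz⟩ := hFz z hz
    exact ⟨g, hg, hgz⟩
  obtain ⟨g, ⟨hg, hgz⟩, hmax⟩ := (hF.subset fun _ h => h.1).exists_maximal (s := {g | g ∈ F ∧ g ⤳ z}) hne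
  refine ⟨g, hFV g hg, hgz, fun y hy hyg => ?_⟩
  obtain ⟨g', hg', hg'y⟩ := hFz y hy
  have h1 : g' ≤ g := hmax ⟨hg', hg'y.trans (hyg.trans hgz)⟩
    ((Scheme.le_iff_specializes).2 (hg'y.trans hyg))
  exact (inseparable_iff_specializes_and.2
    ⟨hyg, ((Scheme.le_iff_specializes).1 h1).trans hg'y⟩).eq

theorem finite_max {S : Scheme.{u}} [IsNoetherian S] (U : S.Opens) :
    {g : S | g ∉ U ∧ ∀ y : S, y ∉ U → y ⤳ g → y = g}.Finite := by
  obtain ⟨F, hF, hFU, hFz⟩ := exists_generic_pts U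
  refine hF.subset fun g hg => ?_
  obtain ⟨g', hg', h'⟩ := hFz g hg.1
  exact hg.2 g' (hFU g' hg') h' ▸ hg'

theorem max_of_le {S : Scheme.{u}} [IsNoetherian S] (U V : S.Opens) (hU : Dense (U : Set S)) (hUV : U ≤ V)
    [IsAffineHom V.ι] (g : S) (hg : g ∉ V) (hmax : ∀ y : S, y ∉ V → y ⤳ g → y = g) :
    g ∉ U ∧ ∀ y : S, y ∉ U → y ⤳ g → y = g := by
  refine ⟨fun h => hg (hUV h), fun y hy hyg => ?_⟩
  by_contra hne
  obtain ⟨z, hz⟩ := FpqcDescent.exists_specializes_of_mem_closure_range U.ι (x := y)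
    (by rw [Scheme.Opens.range_ι]; exact hU y)
  have hzy : y < U.ι z := lt_of_le_not_ge ((Scheme.le_iff_specializes).2 hz) fun h =>
    hy ((inseparable_iff_specializes_and.2 ⟨hz, (Scheme.le_iff_specializes).1 h⟩).eq ▸ z.2)
  have hgy : g < y := lt_of_le_not_ge ((Scheme.le_iff_specializes).2 hyg) fun h =>
    hne (inseparable_iff_specializes_and.2 ⟨hyg, (Scheme.le_iff_specializes).1 h⟩).eq
  have h1 := AffCompl.dim_stalk_le_one V hg hmax
  rw [ringKrullDim_stalk_eq_coheight] at h1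
  have h2 : Order.coheight g ≤ 1 := WithBot.coe_le_coe.1 h1
  have h3 := Order.coheight_add_one_le hgy
  have h4 := Order.coheight_add_one_le hzy
  have h5 : (1 : ℕ∞) + 1 ≤ Order.coheight g := le_trans (add_le_add ((le_add_self).trans h4) le_rfl) h3
  exact absurd (h5.trans h2) (by norm_num)

end Groth.Agent.S13043Aux

namespace Groth.Agent.S13043

open AlgebraicGeometry in
/-- For a Noetherian scheme S that is separated, and a dense open subset U ⊆ S that is not empty, only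
finitely many open subsets V ⊇ U have an affine inclusion morphism V → S, and among them there is
one contained in all the others (a least element for inclusion). -/
theorem result
    (S : Scheme.{u}) [IsNoetherian S] [S.IsSeparated] (U : S.Opens)
    (hne : (U : Set S).Nonempty) (hU : Dense (U : Set S)) :
    Set.Finite {V : S.Opens | U ≤ V ∧ IsAffineHom V.ι} ∧
      ∃ V₀ : S.Opens, (U ≤ V₀ ∧ IsAffineHom V₀.ι) ∧
        ∀ V : S.Opens, U ≤ V → IsAffineHom V.ι → V₀ ≤ V := by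
  classical
  let A : Set S.Opens := {V | U ≤ V ∧ IsAffineHom V.ι}
  let G : Set S := {g : S | g ∉ U ∧ ∀ y : S, y ∉ U → y ⤳ g → y = g}
  have key : ∀ V ∈ A, ∀ W ∈ A, {g | g ∈ G ∧ g ∉ V} = {g | g ∈ G ∧ g ∉ W} → W ≤ V := fun V hV W hW e z hzW => by
    by_contra hzV
    obtain ⟨g, hgV, hgz, hmax⟩ := S13043Aux.exists_max V z hzV
    haveI := hV.2
    have hgW : g ∉ W := ((Set.ext_iff.1 e g).1 ⟨S13043Aux.max_of_le U V hU hV.1 g hgV hmax, hgV⟩).2
    exact hgW (hgz.mem_open W.2 hzW)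
  have hfin : A.Finite := Set.Finite.of_finite_image
    ((S13043Aux.finite_max U).finite_subsets.subset (Set.image_subset_iff.2 fun V _ g hg => hg.1))
    (f := fun V : S.Opens => {g | g ∈ G ∧ g ∉ V})
    (fun V hV W hW e => le_antisymm (key W hW V hV e.symm) (key V hV W hW e))
  open CategoryTheory in
    have hinf : ∀ V W : S.Opens, IsAffineHom V.ι → IsAffineHom W.ι → IsAffineHom (V ⊓ W).ι := fun V W hV hW => by
      haveI : IsAffineHom (V.ι ⁻¹ᵁ W).ι :=
        CategoryTheory.MorphismProperty.of_isPullback (isPullback_morphismRestrict V.ι W) hW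
      have hr : Set.range (V ⊓ W).ι = Set.range ((V.ι ⁻¹ᵁ W).ι ≫ V.ι) := by
        rw [Scheme.Opens.range_ι]
        apply Set.ext
        intro a
        constructor
        · intro ha
          exact ⟨⟨⟨a, ha.1⟩, ha.2⟩, rfl⟩
        · rintro ⟨b, rfl⟩
          exact ⟨b.1.2, b.2⟩
      rw [← IsOpenImmersion.isoOfRangeEq_hom_fac _ _ hr]
      infer_instance
    have htop : IsAffineHom (⊤ : S.Opens).ι := by
      rw [show (⊤ : S.Opens).ι = S.topIso.hom from rfl]; infer_instance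
    refine ⟨hfin, hfin.toFinset.inf id, ⟨Finset.le_inf fun V hV => ((hfin.mem_toFinset).1 hV).1, ?_⟩,
      fun V hUV hV => Finset.inf_le (f := id) (hfin.mem_toFinset.2 ⟨hUV, hV⟩)⟩
    exact Finset.inf_induction (p := fun V : S.Opens => IsAffineHom V.ι) htop
      (fun a ha b hb => hinf a b ha hb) (fun V hV => ((hfin.mem_toFinset).1 hV).2)

end Groth.Agent.S13043
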