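import Groth.Statements.S13044
import Groth.Agent.GrpdSep.ImageGrpd

set_option autoImplicit false
set_option backward.isDefEq.respectTransparency false
universe u
open MaxMod

namespace Groth.Agent.S13044

open CategoryTheory Limits AlgebraicGeometry in
/-- Let R be a discrete valuation ring with fraction field K, let Y be a flat separated R-scheme and let
Γ → Y ×_R Y be a closed subscheme, with projections p₁, p₂ : Γ → Y, such that Γ is flat over R
(equivalently, Γ is the schematic closure of its generic fibre) and p₁, p₂ are flat. If for every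
scheme T over Spec K the relation on the T-valued points of Y defined by the T-valued points of Γ is
an equivalence relation, then for every scheme T over Spec R that relation is an equivalence
relation: Γ is a flat equivalence relation on Y. -/
theorem result
    (R K : Type u) [CommRing R] [IsDomain R] [IsDiscreteValuationRing R]
    [Field K] [Algebra R K] [IsFractionRing R K]
    (Y Γ : Scheme.{u}) (f : Y ⟶ Spec (CommRingCat.of R)) [IsSeparated f] [Flat f]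
    (p₁ p₂ : Γ ⟶ Y) (h : p₁ ≫ f = p₂ ≫ f)
    (hΓ : IsClosedImmersion (pullback.lift p₁ p₂ h))
    [Flat (p₁ ≫ f)] [Flat p₁] [Flat p₂]
    (hK : ∀ (T : Scheme.{u}) (t : T ⟶ Spec (CommRingCat.of R)),
      (∃ s : T ⟶ Spec (CommRingCat.of K), t = s ≫ Spec.map (CommRingCat.ofHom (algebraMap R K))) →
      _root_.Equivalence fun a b : {a : T ⟶ Y // a ≫ f = t} =>
        ∃ c : T ⟶ Γ, c ≫ p₁ = a.1 ∧ c ≫ p₂ = b.1) :
    ∀ (T : Scheme.{u}) (t : T ⟶ Spec (CommRingCat.of R)),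
      _root_.Equivalence fun a b : {a : T ⟶ Y // a ≫ f = t} =>
        ∃ c : T ⟶ Γ, c ≫ p₁ = a.1 ∧ c ≫ p₂ = b.1 := by
  haveI := hΓ
  let ι := pullback.lift p₁ p₂ h
  let η := Spec.map (CommRingCat.ofHom (algebraMap R K))
  haveI : IsSchemeTheoreticallyDominant η := by
    refine ⟨(Scheme.ker_of_isAffine _).trans ?_⟩
    have hinj : Function.Injective η.appTop := by
      have e : η.appTop = (Scheme.ΓSpecIso (CommRingCat.of R)).hom ≫ CommRingCat.ofHom (algebraMap R K) ≫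
          (Scheme.ΓSpecIso (CommRingCat.of K)).inv := by
        rw [Scheme.ΓSpecIso_inv_naturality, Iso.hom_inv_id_assoc]
      rw [e]
      exact ((ConcreteCategory.bijective_of_isIso (Scheme.ΓSpecIso (CommRingCat.of K)).inv).1.comp
        ((IsFractionRing.injective R K).comp (ConcreteCategory.bijective_of_isIso (Scheme.ΓSpecIso (CommRingCat.of R)).hom).1))
    rw [(RingHom.injective_iff_ker_eq_bot η.appTop.hom).1 hinj]
    refine Scheme.IdealSheafData.ext_of_isAffine ?_; simp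
  -- a property of points over `R` holds if it holds on the generic fibre
  have key : ∀ (X : Scheme.{u}) (x₁ x₂ : X ⟶ Y) (e : x₁ ≫ f = x₂ ≫ f) [Flat (x₁ ≫ f)],
      (∃ c : pullback (x₁ ≫ f) η ⟶ Γ, c ≫ p₁ = pullback.fst (x₁ ≫ f) η ≫ x₁ ∧ c ≫ p₂ = pullback.fst (x₁ ≫ f) η ≫ x₂) →
      ∃ c : X ⟶ Γ, c ≫ p₁ = x₁ ∧ c ≫ p₂ = x₂ := by
    rintro X x₁ x₂ e _ ⟨c, hc₁, hc₂⟩
    haveI : IsSchemeTheoreticallyDominant (pullback.fst (x₁ ≫ f) η) :=
      IsSchemeTheoreticallyDominant.of_isPullback (f := η) (g := x₁ ≫ f) (IsPullback.of_hasPullback (x₁ ≫ f) η).flip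
    obtain ⟨l, hl⟩ := Groth.Agent.GrpdSep.ImageGrpd.exists_factor ι (pullback.fst (x₁ ≫ f) η)
      (pullback.lift x₁ x₂ e) c (by apply pullback.hom_ext <;> simp [ι, hc₁, hc₂])
    exact ⟨l, by simpa [ι] using congrArg (· ≫ pullback.fst f f) hl, by simpa [ι] using congrArg (· ≫ pullback.snd f f) hl⟩
  have gen : ∀ (X : Scheme.{u}) (g : X ⟶ Spec (CommRingCat.of R)),
      _root_.Equivalence fun a b : {a : pullback g η ⟶ Y // a ≫ f = pullback.fst g η ≫ g} =>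
        ∃ c, c ≫ p₁ = a.1 ∧ c ≫ p₂ = b.1 := fun X g => hK _ _ ⟨pullback.snd g η, pullback.condition⟩
  obtain ⟨e, he₁, he₂⟩ : ∃ e : Y ⟶ Γ, e ≫ p₁ = 𝟙 Y ∧ e ≫ p₂ = 𝟙 Y := by
    haveI : Flat (𝟙 Y ≫ f) := by rw [Category.id_comp]; infer_instance
    refine key Y (𝟙 Y) (𝟙 Y) rfl ?_
    exact (gen Y (𝟙 Y ≫ f)).refl ⟨pullback.fst _ η ≫ 𝟙 Y, Category.assoc _ _ _⟩
  obtain ⟨i, hi₁, hi₂⟩ : ∃ i : Γ ⟶ Γ, i ≫ p₁ = p₂ ∧ i ≫ p₂ = p₁ := by
    haveI : Flat (p₂ ≫ f) := h ▸ inferInstance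
    refine key Γ p₂ p₁ h.symm ?_
    exact (gen Γ (p₂ ≫ f)).symm (x := ⟨pullback.fst _ η ≫ p₁, by rw [Category.assoc, h]⟩)
      (y := ⟨pullback.fst _ η ≫ p₂, Category.assoc _ _ _⟩) ⟨pullback.fst _ η, rfl, rfl⟩
  obtain ⟨m, hm₁, hm₂⟩ : ∃ m : pullback p₂ p₁ ⟶ Γ, m ≫ p₁ = pullback.fst p₂ p₁ ≫ p₁ ∧ m ≫ p₂ = pullback.snd p₂ p₁ ≫ p₂ := by
    haveI : Flat (pullback.fst p₂ p₁) := MorphismProperty.pullback_fst _ _ inferInstance
    haveI : Flat ((pullback.fst p₂ p₁ ≫ p₁) ≫ f) := by rw [Category.assoc]; infer_instance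
    have e' : (pullback.fst p₂ p₁ ≫ p₁) ≫ f = (pullback.snd p₂ p₁ ≫ p₂) ≫ f := by
      rw [Category.assoc, Category.assoc, ← h, ← pullback.condition_assoc, h]
    refine key _ _ _ e' ?_
    let q := pullback.fst ((pullback.fst p₂ p₁ ≫ p₁) ≫ f) η
    exact (gen _ ((pullback.fst p₂ p₁ ≫ p₁) ≫ f)).trans (x := ⟨q ≫ pullback.fst p₂ p₁ ≫ p₁, by simp [q]⟩)
      (y := ⟨q ≫ pullback.fst p₂ p₁ ≫ p₂, by simp [q, h]⟩)
      (z := ⟨q ≫ pullback.snd p₂ p₁ ≫ p₂, (Category.assoc _ _ _).trans (congrArg (q ≫ ·) e'.symm)⟩)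
      ⟨q ≫ pullback.fst p₂ p₁, Category.assoc _ _ _, Category.assoc _ _ _⟩
      ⟨q ≫ pullback.snd p₂ p₁, (Category.assoc _ _ _).trans (congrArg (q ≫ ·) pullback.condition.symm), Category.assoc _ _ _⟩
  intro T t
  refine ⟨fun a => ⟨a.1 ≫ e, by rw [Category.assoc, he₁, Category.comp_id], by rw [Category.assoc, he₂, Category.comp_id]⟩, ?_, ?_⟩
  · rintro a b ⟨c, hc₁, hc₂⟩
    exact ⟨c ≫ i, by rw [Category.assoc, hi₁, hc₂], by rw [Category.assoc, hi₂, hc₁]⟩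
  · rintro a b c ⟨x, hx₁, hx₂⟩ ⟨y, hy₁, hy₂⟩
    exact ⟨pullback.lift x y (hx₂.trans hy₁.symm) ≫ m, by rw [Category.assoc, hm₁, pullback.lift_fst_assoc, hx₁],
      by rw [Category.assoc, hm₂, pullback.lift_snd_assoc, hy₂]⟩

end Groth.Agent.S13044
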