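import Groth.Statements.S13046
import Mathlib
import Groth.Agent.CAlgH.ProjTensor

set_option autoImplicit false
universe u
open FrobAlg

namespace Groth.Agent.S13046

open TensorProduct in
/-- Let p be a prime, R a commutative ring of characteristic p and A a commutative R-algebra of
characteristic p, with Frobenius twists A^{p^i/R} = R ⊗_{F^i,R} A, relative Frobenius maps F_i :
A^{p^{i+1}/R} → A^{p^i/R} and preperfection A^{p^∞/R} = lim_i A^{p^i/R} ⊆ Π_i A^{p^i/R}. For every
finitely generated projective R-module M, a sequence y ∈ Π_i (M ⊗_R A^{p^i/R}) lies in the image of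
the natural map M ⊗_R A^{p^∞/R} → Π_i (M ⊗_R A^{p^i/R}), m ⊗ x ↦ (m ⊗ x_i)_i, if and only if (M ⊗
F_i)(y_{i+1}) = y_i for all i: the image is exactly the module of compatible sequences. Together
with the injectivity of that map, which holds for every projective M, this says that the base change
map M ⊗_R lim_i A^{p^i/R} → lim_i (M ⊗_R A^{p^i/R}) is an isomorphism. (The published statement is
phrased for a finite locally free R-algebra R′ in place of M and identifies the target with the
preperfection of A ⊗_R R′ over R′; the printed argument is the module statement given here, and that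
identification is not part of this row; the injectivity half is stated separately for all projective
M.) -/
theorem result
    (p : ℕ) [Fact p.Prime] (R : Type u) [CommRing R] [CharP R p]
    (A : Type u) [CommRing A] [Algebra R A] [CharP A p]
    (M : Type u) [AddCommGroup M] [Module R M] [Module.Finite R M] [Module.Projective R M]
    (y : Π i : ℕ, M ⊗[R] W4c1imperftorsors.Twist p R A i) :
    y ∈ LinearMap.range
        (LinearMap.pi fun i : ℕ =>
        LinearMap.lTensor M
          (((Pi.evalAlgHom R (fun k => W4c1imperftorsors.Twist p R A k) i).comp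
            (W4c1imperftorsors.prePerf p R A).val).toLinearMap) :
        M ⊗[R] ↥(W4c1imperftorsors.prePerf p R A) →ₗ[R] (Π i : ℕ, M ⊗[R] W4c1imperftorsors.Twist p R A i)) ↔
      ∀ i : ℕ, LinearMap.lTensor M (W4c1imperftorsors.relFrob p R A i).toLinearMap (y (i + 1)) = y i := by
  classical
  constructor
  · rintro ⟨t, rfl⟩ i
    simp only [LinearMap.pi_apply]
    rw [← LinearMap.comp_apply, ← LinearMap.lTensor_comp]
    congr 2
    refine LinearMap.ext fun g => ?_
    exact (Algebra.mem_iInf.mp g.2 i :)
  · intro hy
    obtain ⟨n, f, g, -, -, hfg⟩ := Module.Finite.exists_comp_eq_id_of_projective R M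
    let G : Fin n → ↥(W4c1imperftorsors.prePerf p R A) := fun a =>
      ⟨fun i => Groth.Agent.CAlgH.ProjTensor.ev (LinearMap.proj a ∘ₗ g) (y i), Algebra.mem_iInf.mpr fun i => by
        show W4c1imperftorsors.relFrob p R A i (Groth.Agent.CAlgH.ProjTensor.ev _ (y (i + 1))) = _
        rw [← AlgHom.toLinearMap_apply, ← Groth.Agent.CAlgH.ProjTensor.ev_natural, hy i]
        rfl⟩
    refine ⟨∑ a, f (Pi.single a 1) ⊗ₜ[R] G a, funext fun i => ?_⟩
    simp only [LinearMap.pi_apply, map_sum, LinearMap.lTensor_tmul]
    have key : ∀ z : M ⊗[R] W4c1imperftorsors.Twist p R A i,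
        ∑ a, f (Pi.single a 1) ⊗ₜ[R] Groth.Agent.CAlgH.ProjTensor.ev (LinearMap.proj a ∘ₗ g) z = z := by
      intro z
      induction z using TensorProduct.induction_on with
      | zero => simp
      | tmul m x =>
        simp only [Groth.Agent.CAlgH.ProjTensor.ev_tmul, TensorProduct.tmul_smul, TensorProduct.smul_tmul',
          ← TensorProduct.sum_tmul]
        congr 1
        have : ∑ a, g m a • f (Pi.single a 1) = f (g m) := by
          simp only [← map_smul, ← map_sum]
          congr 1
          funext a
          simp [Finset.sum_apply, Pi.single_apply]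
        exact this.trans (LinearMap.congr_fun hfg m)
      | add u v hu hv => simp only [map_add, TensorProduct.tmul_add, Finset.sum_add_distrib, hu, hv]
    exact key (y i)

end Groth.Agent.S13046
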