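import Groth.Statements.S13048
import Mathlib

set_option autoImplicit false
universe u
open FrobAlg

namespace Groth.Agent.S13048

theorem local_const (p : ℕ) [Fact p.Prime] (k : Type u) [Field k] [IsAlgClosed k] [CharP k p]
    (A : Type u) [CommRing A] [Algebra k A] [Algebra.FiniteType k A] [Nontrivial A]
    (x : A) (hx : ∀ n : ℕ, ∃ a : A, a ^ p ^ n = x) (m : Ideal A) (hm : m.IsMaximal) :
    ∃ c : k, x - algebraMap k A c ∈ m ∧ ∃ u ∉ m, u * (x - algebraMap k A c) = 0 := by
  haveI := hm
  haveI : IsNoetherianRing A := Algebra.FiniteType.isNoetherianRing k A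
  letI : Field (A ⧸ m) := Ideal.Quotient.field m
  haveI : Module.Finite k (A ⧸ m) := finite_of_finite_type_of_isJacobsonRing k (A ⧸ m)
  obtain ⟨c, hc⟩ := (IsAlgClosed.algebraMap_bijective_of_isIntegral (k := k) (K := A ⧸ m)).surjective
    (Ideal.Quotient.mk m x)
  have hc' : x - algebraMap k A c ∈ m := by
    rw [← Ideal.Quotient.eq]
    exact hc.symm
  refine ⟨c, hc', ?_⟩
  haveI : CharP A p := charP_of_injective_algebraMap (algebraMap k A).injective p
  have hpow : ∀ n, x - algebraMap k A c ∈ m ^ p ^ n := fun n => by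
    obtain ⟨a, ha⟩ := hx n
    obtain ⟨c', hc''⟩ := IsAlgClosed.exists_pow_nat_eq c (pow_pos (Fact.out : p.Prime).pos n)
    have h : (a - algebraMap k A c') ^ p ^ n = x - algebraMap k A c := by
      rw [sub_pow_char_pow, ha, ← map_pow, hc'']
    rw [← h]
    exact Ideal.pow_mem_pow (hm.isPrime.mem_of_pow_mem (p ^ n) (h ▸ hc')) _
  have h0 : algebraMap A (Localization.AtPrime m) (x - algebraMap k A c) ∈
      (⨅ n : ℕ, IsLocalRing.maximalIdeal (Localization.AtPrime m) ^ n) := by
    rw [Submodule.mem_iInf]
    intro n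
    have hn : n ≤ p ^ n := (Nat.lt_pow_self (Fact.out : p.Prime).one_lt).le
    refine Ideal.pow_le_pow_right hn ?_
    rw [← Localization.AtPrime.map_eq_maximalIdeal, ← Ideal.map_pow]
    exact Ideal.mem_map_of_mem _ (hpow n)
  rw [Ideal.iInf_pow_eq_bot_of_isLocalRing _ (IsLocalRing.maximalIdeal.isMaximal _).ne_top, Ideal.mem_bot,
    IsLocalization.map_eq_zero_iff m.primeCompl] at h0
  obtain ⟨⟨u, hu⟩, h⟩ := h0
  exact ⟨u, hu, h⟩


/-- Let k be an algebraically closed field of characteristic p > 0 and let A be a reduced finitely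
generated commutative k-algebra with connected spectrum (A ≠ 0 and 0, 1 are its only idempotents).
If x ∈ A is a p^n-th power in A for every n ≥ 0, then x lies in the image of k; that is, ⋂_n A^{p^n}
= k. (The published statement is: for an artinian local ring R of characteristic p and a flat
R-algebra A of finite type, the maps A^ét → O(π₀(A)) → A^{p^∞/R} from the largest étale subalgebra
to the preperfection are isomorphisms. This row is the case R = k algebraically closed and A reduced
with connected spectrum, where A^ét = k and the preperfection is ⋂_n A^{p^n}; the printed proof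
reduces to this case and its last step proves it.) -/
theorem result
    (p : ℕ) [Fact p.Prime] (k : Type u) [Field k] [IsAlgClosed k] [CharP k p]
    (A : Type u) [CommRing A] [Algebra k A] [Algebra.FiniteType k A] [IsReduced A] [Nontrivial A]
    (hconn : ∀ e : A, IsIdempotentElem e → e = 0 ∨ e = 1)
    (x : A) (hx : ∀ n : ℕ, ∃ a : A, a ^ p ^ n = x) :
    x ∈ (algebraMap k A).range := by
  obtain ⟨m₀, hm₀⟩ := Ideal.exists_maximal A
  obtain ⟨c₀, hc₀, -⟩ := local_const p k A x hx m₀ hm₀
  set z := x - algebraMap k A c₀ with hz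
  have htop : (Ideal.span {z}).annihilator ⊔ Ideal.span {z} = ⊤ := by
    by_contra h
    obtain ⟨m, hm, hle⟩ := Ideal.exists_le_maximal _ h
    obtain ⟨c, hc, u, hu, hu0⟩ := local_const p k A x hx m hm
    have hzm : z ∈ m := hle (Ideal.mem_sup_right (Ideal.mem_span_singleton_self z))
    have hcc : c = c₀ := by
      by_contra hne
      refine hm.ne_top (Ideal.eq_top_of_isUnit_mem m ?_ ((sub_ne_zero.mpr hne).isUnit.map (algebraMap k A)))
      have := sub_mem hzm hc
      rwa [hz, sub_sub_sub_cancel_left, ← map_sub] at this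
    subst hcc
    exact hu (hle (Ideal.mem_sup_left ((Submodule.mem_annihilator_span_singleton z u).mpr hu0)))
  obtain ⟨u, hu, v, hv, huv⟩ := Submodule.mem_sup.mp (htop ▸ Submodule.mem_top : (1 : A) ∈ _)
  have hu0 : u * z = 0 := (Submodule.mem_annihilator_span_singleton z u).mp hu
  obtain ⟨w, rfl⟩ := Ideal.mem_span_singleton'.mp hv
  have hidem : IsIdempotentElem u := by
    show u * u = u
    linear_combination u * huv - w * hu0
  rcases hconn u hidem with rfl | rfl
  · exfalso
    rw [zero_add] at huv
    exact hm₀.ne_top ((Ideal.eq_top_iff_one _).mpr (huv ▸ Ideal.mul_mem_left _ w hc₀))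
  · exact ⟨c₀, (sub_eq_zero.mp (by simpa using hu0)).symm⟩

end Groth.Agent.S13048
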