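import Groth.Statements.S13049
import Mathlib

set_option autoImplicit false
universe u
open FrobAlg

namespace Groth.Agent.S13049

/-- Let p be a prime and A a commutative ring of characteristic p whose nilradical N satisfies x^(p^e) =
0 for all x ∈ N and some fixed e (for instance A Noetherian). Then the map between the inverse-limit
perfections along the absolute Frobenius, lim (⋯ → A → A) → lim (⋯ → A/N → A/N), induced by the
projection A → A/N, is bijective. (The published argument takes A of finite type over a field, where
the nilradical is finitely generated; this row assumes only that the nilradical is killed by one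
fixed iterate of Frobenius, which is all that argument uses.) -/
theorem result
    (p : ℕ) [Fact p.Prime] (A : Type u) [CommRing A] [CharP A p]
    [CharP (A ⧸ nilradical A) p] (e : ℕ) (he : ∀ x ∈ nilradical A, x ^ p ^ e = 0) :
    Function.Bijective (Perfection.map p (Ideal.Quotient.mk (nilradical A))) := by
  classical
  have hpow : ∀ (R : Type u) [CommRing R] [CharP R p] (f : Perfection R p) (m n : ℕ),
      Perfection.coeff R p (n + m) f ^ p ^ m = Perfection.coeff R p n f := by
    intro R _ _ f m
    induction m with
    | zero => intro n; simp
    | succ m ih => intro n; rw [← ih n, pow_succ', pow_mul, ← add_assoc, Perfection.coeff_pow_p']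
  have hN : ∀ a b : A, a - b ∈ nilradical A → a ^ p ^ e = b ^ p ^ e := fun a b h => by
    rw [← sub_eq_zero, ← sub_pow_char_pow]; exact he _ h
  constructor
  · intro f g h
    refine Perfection.ext fun n => ?_
    have h1 := congrArg (Perfection.coeff _ p (n + e)) h
    rw [Perfection.coeff_map, Perfection.coeff_map, Ideal.Quotient.eq] at h1
    rw [← hpow A f e n, ← hpow A g e n, hN _ _ h1]
  · intro g
    choose l hl using fun n => Ideal.Quotient.mk_surjective (Perfection.coeff (A ⧸ nilradical A) p n g)
    refine ⟨⟨fun n => l (n + e) ^ p ^ e, fun n => ?_⟩, Perfection.ext fun n => ?_⟩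
    · rw [← pow_mul, mul_comm, pow_mul]
      refine hN _ _ (Ideal.Quotient.eq.mp ?_)
      rw [map_pow, hl, hl, show n + 1 + e = (n + e) + 1 by omega]
      exact Perfection.coeff_pow_p' _ _
    · rw [Perfection.coeff_map]
      show Ideal.Quotient.mk _ (l (n + e) ^ p ^ e) = _
      rw [map_pow, hl, hpow _ g e n]

end Groth.Agent.S13049
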