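import Groth.Statements.S13051
import Groth.Agent.ZetaFun.Basic

set_option autoImplicit false
universe u
open CategoryTheory AlgebraicGeometry
open Zeta

namespace Groth.Agent.S13051

open Groth.Agent.ZetaFun Groth.Agent.FunFldLib PowerSeries

/-- For a scheme X of finite type over a finite field k, Z(X, t) = ∏ over the closed points x of (1 −
t^{deg x})^{−1}, that is ∏_{r ≥ 1} (1 − t^r)^{−a_r} with a_r the number of closed points of residue
degree r; equivalently, for every n the product Z(X, t) · ∏_{r = 1}^{n} (1 − t^r)^{a_r} is ≡ 1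
modulo t^{n+1}. In particular Z(X, t) has integer coefficients. (Stated for any scheme of finite
type over k; reducedness plays no role.) -/
theorem result {k : Type u} [Field k] [Finite k] {X : Scheme.{u}}
    (f : X ⟶ Spec (CommRingCat.of k)) [LocallyOfFiniteType f] [QuasiCompact f] :
    (∀ n : ℕ, PowerSeries.trunc (n + 1)
        (Zeta.zetaFun f * ∏ r ∈ Finset.Icc 1 n, (1 - PowerSeries.X ^ r) ^ Zeta.degCount f r) = 1) ∧
      ∀ n : ℕ, ∃ z : ℤ, PowerSeries.coeff n (Zeta.zetaFun f) = (z : ℚ) := by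
  classical
  have key : ∀ n m : ℕ, m ≤ n → coeff m (Zeta.zetaFun f * ∏ r ∈ Finset.Icc 1 n, (1 - PowerSeries.X ^ r) ^ Zeta.degCount f r) =
      coeff m (1 : ℚ⟦X⟧) := by
    intro n
    let V : ℚ⟦X⟧ := U f + ∑ r ∈ Finset.Icc 1 n, ((Zeta.degCount f r : ℚ⟦X⟧) * (-((r : ℚ⟦X⟧) * per ℚ r)))
    have hF := theta_mul_of (theta_zetaFun f) (theta_prod_of (Finset.Icc 1 n) fun r hr =>
      theta_pow_of (theta_one_sub_X_pow (R := ℚ) (r := r) (Finset.mem_Icc.1 hr).1) (Zeta.degCount f r))
    have hG : theta (1 : ℚ⟦X⟧) = 1 * 0 := by rw [theta_one, mul_zero]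
    have hV : ∀ m ≤ n, coeff m V = coeff m (0 : ℚ⟦X⟧) := by
      intro m hm
      have hc : ∀ r, coeff m ((Zeta.degCount f r : ℚ⟦X⟧) * (-((r : ℚ⟦X⟧) * per ℚ r))) =
          - (if m ≠ 0 ∧ r ∣ m then (r : ℚ) * Zeta.degCount f r else 0) := fun r => by
        rw [mul_neg, map_neg, ← mul_assoc, ← map_natCast (C : ℚ →+* ℚ⟦X⟧), ← map_natCast (C : ℚ →+* ℚ⟦X⟧), ← map_mul,
          coeff_C_mul, per, coeff_mk]
        split_ifs <;> ring
      rw [map_zero, map_add, map_sum, Finset.sum_congr rfl fun r _ => hc r, Finset.sum_neg_distrib, ← sub_eq_add_neg,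
        sub_eq_zero, U, coeff_mk, Zeta.nPts, ← Finset.sum_filter]
      push_cast
      refine Finset.sum_congr ?_ fun _ _ => rfl
      ext r
      simp only [Nat.mem_divisors, Finset.mem_filter, Finset.mem_Icc]
      refine ⟨fun h => ⟨⟨Nat.pos_of_ne_zero fun h0 => h.2 (Nat.eq_zero_of_zero_dvd (h0 ▸ h.1)), ?_⟩, h.2, h.1⟩,
        fun h => ⟨h.2.2, h.2.1⟩⟩
      exact (Nat.le_of_dvd (Nat.pos_of_ne_zero h.2) h.1).trans hm
    refine coeff_eq_of_theta n hF hG ?_ ?_ (map_zero _) hV
    · rw [coeff_zero_eq_constantCoeff_apply, map_mul, map_prod, ← coeff_zero_eq_constantCoeff_apply, coeff_zero_zetaFun,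
        one_mul, coeff_zero_eq_constantCoeff_apply, map_one]
      refine Finset.prod_eq_one fun r hr => ?_
      rw [map_pow, map_sub, map_one, map_pow, constantCoeff_X, zero_pow (by simp at hr; omega), sub_zero, one_pow]
    · exact (hV 0 (Nat.zero_le n)).trans (map_zero _)
  refine ⟨fun n => Polynomial.ext fun m => ?_, fun n => ?_⟩
  · rw [PowerSeries.coeff_trunc]
    split_ifs with hm
    · rw [key n m (by omega), PowerSeries.coeff_one, Polynomial.coeff_one]
    · rw [Polynomial.coeff_one, if_neg (by omega)]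
  · refine Groth.Agent.ZetaFun.inv_int_coeff (P := ∏ r ∈ Finset.Icc 1 n, (1 - PowerSeries.X ^ r) ^ Zeta.degCount f r) ?_ _ n
      fun m hm => ?_
    · rw [map_prod]
      refine Finset.prod_eq_one fun r hr => ?_
      rw [map_pow, map_sub, map_one, map_pow, PowerSeries.constantCoeff_X, zero_pow (by simp at hr; omega), sub_zero, one_pow]
    · rw [map_prod]
      simp only [map_pow, map_sub, map_one, PowerSeries.map_X]
      exact key n m hm

end Groth.Agent.S13051
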