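import Groth.Statements.S13052
import Groth.Agent.ZetaFun.Points

set_option autoImplicit false
universe u
open CategoryTheory AlgebraicGeometry
open Zeta

namespace Groth.Agent.S13052

/-- If X is a scheme of finite type over a finite field k, Y ↪ X a closed subscheme and U = X ∖ Y its
open complement, then Z(X, t) = Z(Y, t) · Z(U, t). Here Y is any scheme with a closed immersion into
X whose image is the complement of U (its scheme structure plays no role), and Y, U are k-schemes
through X. -/
theorem result {k : Type u} [Field k] [Finite k]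
    {X Y : Scheme.{u}} (f : X ⟶ Spec (CommRingCat.of k)) [LocallyOfFiniteType f] [QuasiCompact f]
    (U : X.Opens) (i : Y ⟶ X) [IsClosedImmersion i] (hY : Set.range i.base = (U : Set X)ᶜ) :
    Zeta.zetaFun f = Zeta.zetaFun (i ≫ f) * Zeta.zetaFun (U.ι ≫ f) := by
  let Z : ULift.{u} Bool → Scheme.{u} := fun b => if b.down then (U : Scheme.{u}) else Y
  let g : ∀ b, Z b ⟶ X := fun b => match b with
    | ⟨true⟩ => U.ι
    | ⟨false⟩ => i
  haveI : ∀ b, IsImmersion (g b) := fun b => match b with
    | ⟨true⟩ => (inferInstance : IsImmersion U.ι)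
    | ⟨false⟩ => (inferInstance : IsImmersion i)
  have hr : Set.range U.ι.base = (U : Set X) := Scheme.Opens.range_ι U
  have h := Groth.Agent.ZetaFun.zetaFun_partition f Z g fun x _ => ?_
  · rw [h, ← (Equiv.ulift.{u}.symm).prod_comp, Fintype.prod_bool]
    exact mul_comm _ _
  · by_cases hx : x ∈ (U : Set X)
    · refine ⟨⟨true⟩, hr.ge hx, ?_⟩
      rintro ⟨_ | _⟩ hb
      · exact absurd hx (hY.le hb)
      · rfl
    · refine ⟨⟨false⟩, hY.ge hx, ?_⟩
      rintro ⟨_ | _⟩ hb
      · rfl
      · exact absurd (hr.le hb) hx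

end Groth.Agent.S13052
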