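import Groth.Statements.S13053
import Groth.Agent.ZetaFun.Points
import Groth.Agent.ProjCoord.Mult

set_option autoImplicit false
universe u
open CategoryTheory AlgebraicGeometry
open Zeta

namespace Groth.Agent.S13053

set_option backward.isDefEq.respectTransparency.types false
open Groth.Agent.ZetaFun Groth.Agent.FunFldLib Groth.Agent.ProjCoord

theorem pointCount_proj (k : Type u) [Field k] (n : ℕ) (K : Type u) [Field K] [Algebra k K] [Finite K] :
    SgaExt.pointCount (CohB1.ProjSpace.toSpec n k) K = ∑ i ∈ Finset.range (n + 1), Nat.card K ^ i := by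
  classical
  let inv := (Scheme.ΓSpecIso (CommRingCat.of K)).inv.hom
  let ρ : k →+* Γ(Spec (CommRingCat.of K), ⊤) := inv.comp (algebraMap k K)
  have hρ : ∀ ρ' : k →+* Γ(Spec (CommRingCat.of K), ⊤),
      (Spec (CommRingCat.of K)).toSpecΓ ≫ Spec.map (CommRingCat.ofHom ρ') = Spec.map (CommRingCat.ofHom (algebraMap k K)) →
      ρ' = ρ := by
    intro ρ' h
    rw [← SpecMap_ΓSpecIso_hom, ← Spec.map_comp] at h
    have h2 := Spec.map_injective h
    ext c
    have h3 := congrArg (fun r => inv (r.hom c)) h2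
    simp [ρ, inv] at h3 ⊢
    exact h3
  let V : (i : Fin (n + 1)) → ({j : Fin (n + 1) // i < j} → K) → Fin (n + 1) → K :=
    fun i w j => if h : i < j then w ⟨j, h⟩ else if j = i then 1 else 0
  have hVi : ∀ i w, V i w i = 1 := fun i w => by simp [V]
  have hu : ∀ i w, IsUnit (inv (V i w i)) := fun i w => by rw [hVi, map_one]; exact isUnit_one
  have hpt : ∀ i w, pt ρ (fun s => inv (V i w s)) i (hu i w) ≫ CohB1.ProjSpace.toSpec n k =
      Spec.map (CommRingCat.ofHom (algebraMap k K)) := fun i w => by
    refine (pt_toSpec ρ (fun s => inv (V i w s)) i (hu i w)).trans ?_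
    rw [← SpecMap_ΓSpecIso_hom, ← Spec.map_comp]
    congr 1
    ext c
    simp [ρ, inv]
  let F : (Σ i : Fin (n + 1), ({j : Fin (n + 1) // i < j} → K)) →
      {g : Spec (CommRingCat.of K) ⟶ CohB1.ProjSpace n k //
        g ≫ CohB1.ProjSpace.toSpec n k = Spec.map (CommRingCat.ofHom (algebraMap k K))} :=
    fun t => ⟨pt ρ (fun s => inv (V t.1 t.2 s)) t.1 (hu t.1 t.2), hpt t.1 t.2⟩
  have hinj : Function.Injective inv := (Scheme.ΓSpecIso (CommRingCat.of K)).symm.commRingCatIsoToRingEquiv.injective
  have hF : Function.Bijective F := by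
    refine ⟨?_, ?_⟩
    · rintro ⟨i, w⟩ ⟨j, w'⟩ h
      have hc : ∀ a b, V i w a * V j w' b = V i w b * V j w' a := fun a b =>
        hinj (by rw [map_mul, map_mul]; exact cross_of_pt_eq ρ _ _ i j (hu i w) (hu j w') (congrArg Subtype.val h) a b)
      obtain rfl : i = j := by
        rcases lt_trichotomy i j with hlt | rfl | hlt
        · have := hc i j
          rw [hVi, hVi, show V j w' i = 0 by simp [V, hlt.not_gt, hlt.ne]] at this
          simp at this
        · rfl
        · have := hc i j
          rw [hVi, hVi, show V i w j = 0 by simp [V, hlt.not_gt, hlt.ne]] at this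
          simp at this
      refine congrArg (Sigma.mk i) (funext fun ⟨a, ha⟩ => ?_)
      have := hc a i
      rw [hVi, hVi, mul_one, one_mul] at this
      simpa [V, ha] using this
    · rintro ⟨(g : Spec (CommRingCat.of K) ⟶ Proj (CohB1.polyGrading n k)), hg⟩
      obtain ⟨⟨t⟩, y, hy⟩ := (cover n k).openCover.exists_eq (g.base default)
      let a := Proj.awayι (CohB1.polyGrading n k) (MvPolynomial.X t) (X_mem t) one_pos
      have hrg : Set.range g.base ⊆ Set.range a.base := by
        rintro _ ⟨z, rfl⟩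
        rw [Subsingleton.elim z default]
        exact ⟨y, hy⟩
      obtain ⟨ρ', ω, hω, hU, he⟩ := exists_coords t K (IsOpenImmersion.lift a g hrg)
      rw [IsOpenImmersion.lift_fac] at he
      obtain rfl : ρ' = ρ := hρ ρ' (by
        rw [← hg, he]; exact (pt_toSpec ρ' _ t hU).symm)
      have hne : (Finset.univ.filter fun s => ω s ≠ 0).Nonempty := ⟨t, by simp [hω]⟩
      set i := (Finset.univ.filter fun s => ω s ≠ 0).min' hne with hi
      have hi0 : ω i ≠ 0 := (Finset.mem_filter.1 (Finset.min'_mem _ hne)).2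
      have hlow : ∀ s, s < i → ω s = 0 := fun s hs => by
        by_contra h
        exact (Finset.min'_le _ s (Finset.mem_filter.2 ⟨Finset.mem_univ _, h⟩)).not_gt hs
      let w : {j : Fin (n + 1) // i < j} → K := fun j => ω j.1 / ω i
      have hV : ∀ s, V i w s = ω s / ω i := fun s => by
        rcases lt_trichotomy i s with h | rfl | h
        · simp [V, h, w]
        · simp [V, hi0]
        · simp [V, h.not_gt, h.ne, hlow s h]
      refine ⟨⟨i, w⟩, Subtype.ext ?_⟩
      show pt ρ (fun s => inv (V i w s)) i (hu i w) = g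
      rw [he]
      refine pt_eq ρ _ _ i t _ hU fun a b => ?_
      rw [← map_mul, ← map_mul, hV, hV]
      congr 1
      ring
  rw [SgaExt.pointCount, ← Nat.card_congr (Equiv.ofBijective F hF), Nat.card_sigma, ← Fin.sum_univ_eq_sum_range,
    ← Equiv.sum_comp Fin.revPerm]
  refine Finset.sum_congr rfl fun i _ => ?_
  rw [Nat.card_fun, Nat.card_eq_fintype_card (α := {j : Fin (n + 1) // Fin.revPerm i < j}), Fintype.card_subtype,
    Finset.filter_lt_eq_Ioi, Fin.card_Ioi]
  congr 1
  simp [Fin.rev]
  omega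

/-- For a finite field k with q elements, Z(P^n_k, t) = 1 / ((1 − t)(1 − qt) ⋯ (1 − q^n t)); stated as
Z(P^n_k, t) · ∏_{i = 0}^{n} (1 − q^i t) = 1 in ℚ⟦t⟧. -/
theorem result (k : Type u) [Field k] [Finite k] (n : ℕ) :
    Zeta.zetaFun (CohB1.ProjSpace.toSpec n k) *
        ∏ i ∈ Finset.range (n + 1), (1 - PowerSeries.C ((Nat.card k : ℚ) ^ i) * PowerSeries.X) = 1 := by
  haveI : IsProper (CohB1.ProjSpace.toSpec n k) := isProper_baseMap (n := n) (R := k)
  haveI : LocallyOfFiniteType (CohB1.ProjSpace.toSpec n k) := inferInstance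
  haveI : QuasiCompact (CohB1.ProjSpace.toSpec n k) := inferInstance
  set f := CohB1.ProjSpace.toSpec n k
  have hN : ∀ m, 0 < m → Zeta.nPts f m = ∑ i ∈ Finset.range (n + 1), (Nat.card k ^ i) ^ m := by
    intro m hm
    obtain ⟨p, hp⟩ := CharP.exists k
    haveI : Fact p.Prime := ⟨CharP.char_is_prime k p⟩
    haveI : NeZero m := ⟨hm.ne'⟩
    let k' := ULift.{u} (FiniteField.Extension k p m)
    have hd : Module.finrank k k' = m :=
      (ULift.moduleEquiv (R := k) (M := FiniteField.Extension k p m)).finrank_eq.trans (FiniteField.finrank_extension k p m)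
    haveI : Finite k' := Finite.of_equiv _ Equiv.ulift.symm
    have h1 : SgaExt.pointCount f k' = Zeta.nPts f m := by
      letI : (CohB1.ProjSpace n k).Over (Spec (CommRingCat.of k)) := ⟨f⟩
      haveI : LocallyOfFiniteType (CohB1.ProjSpace n k ↘ Spec (CommRingCat.of k)) := ‹LocallyOfFiniteType f›
      haveI : QuasiCompact (CohB1.ProjSpace n k ↘ Spec (CommRingCat.of k)) := ‹QuasiCompact f›
      exact (pointCount_eq_nPts (k := k) (X := CohB1.ProjSpace n k) k').trans (congrArg (Zeta.nPts f) hd)
    rw [← h1, pointCount_proj, Module.natCard_eq_pow_finrank (K := k), hd]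
    exact Finset.sum_congr rfl fun i _ => by rw [← pow_mul, ← pow_mul, mul_comm]
  set q : ℚ := (Nat.card k : ℚ) with hq
  have hF := theta_mul_of (theta_zetaFun f) (theta_prod_of (Finset.range (n + 1)) fun i _ => theta_linear (q ^ i))
  refine theta_eq_unique (U := (0 : PowerSeries ℚ)) (map_zero _) ?_ (by rw [theta_one, mul_zero]) ?_
  · refine hF.trans ?_
    rw [show U f + ∑ i ∈ Finset.range (n + 1), -geo (q ^ i) = 0 from ?_]
    ext m
    rw [map_add, map_sum, map_zero]
    simp only [U, geo, map_neg, PowerSeries.coeff_mk, Finset.sum_neg_distrib]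
    rcases Nat.eq_zero_or_pos m with rfl | hm
    · simp [Zeta.nPts]
    · simp [hm.ne', hN m hm, hq]
  · simp only [PowerSeries.coeff_zero_eq_constantCoeff_apply, map_mul, map_prod, map_sub, map_one,
      PowerSeries.constantCoeff_C, PowerSeries.constantCoeff_X, mul_zero, sub_zero, Finset.prod_const_one, mul_one]
    rw [← PowerSeries.coeff_zero_eq_constantCoeff_apply, coeff_zero_zetaFun]

end Groth.Agent.S13053
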