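import Groth.Statements.S13054
import Groth.Agent.ZetaFun.Points

set_option autoImplicit false
universe u
open CategoryTheory AlgebraicGeometry Limits
open Zeta

namespace Groth.Agent.S13054

open Groth.Agent.ZetaFun Groth.Agent.FunFldLib

theorem nPts_baseChange {k : Type u} [Field k] [Finite k] {X : Scheme.{u}} (f : X ⟶ Spec (CommRingCat.of k))
    [LocallyOfFiniteType f] [QuasiCompact f] (k' : Type u) [Field k'] [Algebra k k'] [Finite k'] {m : ℕ} (hm : 0 < m) :
    Zeta.nPts (Limits.pullback.snd f (Spec.map (CommRingCat.ofHom (algebraMap k k')))) m =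
      Zeta.nPts f (Module.finrank k k' * m) := by
  set a := Spec.map (CommRingCat.ofHom (algebraMap k k')) with ha
  set g := Limits.pullback.snd f a with hgdef
  obtain ⟨p, hp⟩ := CharP.exists k'
  haveI : Fact p.Prime := ⟨CharP.char_is_prime k' p⟩
  haveI : NeZero m := ⟨hm.ne'⟩
  let k'' := ULift.{u} (FiniteField.Extension k' p m)
  have hd : Module.finrank k' k'' = m :=
    (ULift.moduleEquiv (R := k') (M := FiniteField.Extension k' p m)).finrank_eq.trans (FiniteField.finrank_extension k' p m)
  haveI : Finite k'' := Finite.of_equiv _ Equiv.ulift.symm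
  letI : Algebra k k'' := ((algebraMap k' k'').comp (algebraMap k k')).toAlgebra
  haveI : IsScalarTower k k' k'' := IsScalarTower.of_algebraMap_eq fun _ => rfl
  have hd2 : Module.finrank k k'' = Module.finrank k k' * m := by rw [← Module.finrank_mul_finrank k k' k'', hd]
  have hb : Spec.map (CommRingCat.ofHom (algebraMap k k'')) = Spec.map (CommRingCat.ofHom (algebraMap k' k'')) ≫ a := by
    rw [ha, ← Spec.map_comp]
    rfl
  have hcount : SgaExt.pointCount g k'' = SgaExt.pointCount f k'' := Nat.card_congr
    { toFun := fun x => ⟨x.1 ≫ Limits.pullback.fst f a, by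
        rw [Category.assoc, Limits.pullback.condition, ← Category.assoc, x.2, ← hb]⟩
      invFun := fun y => ⟨Limits.pullback.lift y.1 (Spec.map (CommRingCat.ofHom (algebraMap k' k''))) (y.2.trans hb),
        Limits.pullback.lift_snd _ _ _⟩
      left_inv := fun x => Subtype.ext (Limits.pullback.hom_ext (Limits.pullback.lift_fst _ _ _) ((Limits.pullback.lift_snd _ _ _).trans x.2.symm))
      right_inv := fun y => Subtype.ext (Limits.pullback.lift_fst _ _ _) }
  have h1 : SgaExt.pointCount f k'' = Zeta.nPts f (Module.finrank k k' * m) := by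
    letI : X.Over (Spec (CommRingCat.of k)) := ⟨f⟩
    haveI : LocallyOfFiniteType (X ↘ Spec (CommRingCat.of k)) := ‹LocallyOfFiniteType f›
    haveI : QuasiCompact (X ↘ Spec (CommRingCat.of k)) := ‹QuasiCompact f›
    exact (pointCount_eq_nPts (k := k) (X := X) k'').trans (congrArg (Zeta.nPts f) hd2)
  have h2 : SgaExt.pointCount g k'' = Zeta.nPts g m := by
    letI : (Limits.pullback f a).Over (Spec (CommRingCat.of k')) := ⟨g⟩
    haveI : LocallyOfFiniteType ((Limits.pullback f a) ↘ Spec (CommRingCat.of k')) := (inferInstance : LocallyOfFiniteType (Limits.pullback.snd f a))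
    haveI : QuasiCompact ((Limits.pullback f a) ↘ Spec (CommRingCat.of k')) := (inferInstance : QuasiCompact (Limits.pullback.snd f a))
    exact (pointCount_eq_nPts (k := k') (X := Limits.pullback f a) k'').trans (congrArg (Zeta.nPts g) hd)
  rw [← h2, hcount, h1]

/-- Let X be a scheme of finite type over a finite field k, k'/k a finite extension of degree r and X' =
X ×_{Spec k} Spec k', a k'-scheme. Then Z(X', t^r) = ∏_{i = 1}^{r} Z(X, ξ^i t) for ξ a primitive
r-th root of unity; stated in ℂ⟦t⟧ with the product over the exponents 0, …, r − 1. (Reducedness of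
X plays no role.) -/
theorem result {k : Type u} [Field k] [Finite k]
    {X : Scheme.{u}} (f : X ⟶ Spec (CommRingCat.of k)) [LocallyOfFiniteType f] [QuasiCompact f]
    (k' : Type u) [Field k'] [Algebra k k'] [Finite k'] (ξ : ℂ)
    (hξ : IsPrimitiveRoot ξ (Module.finrank k k')) :
    PowerSeries.subst ((PowerSeries.X : PowerSeries ℂ) ^ Module.finrank k k')
        (PowerSeries.map (algebraMap ℚ ℂ) (Zeta.zetaFun
          (pullback.snd f (Spec.map (CommRingCat.ofHom (algebraMap k k')))))) =
      ∏ i ∈ Finset.range (Module.finrank k k'),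
        PowerSeries.rescale (ξ ^ i) (PowerSeries.map (algebraMap ℚ ℂ) (Zeta.zetaFun f)) := by
  classical
  set r := Module.finrank k k' with hr
  have hr0 : 0 < r := Module.finrank_pos
  set Z := PowerSeries.map (algebraMap ℚ ℂ) (Zeta.zetaFun f) with hZ
  set g := pullback.snd f (Spec.map (CommRingCat.ofHom (algebraMap k k')))
  set Z' := PowerSeries.map (algebraMap ℚ ℂ) (Zeta.zetaFun g) with hZ'
  set V := PowerSeries.map (algebraMap ℚ ℂ) (U f) with hV
  set V' := PowerSeries.map (algebraMap ℚ ℂ) (U g) with hV'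
  have hθ : theta Z = Z * V := by rw [hZ, ← map_theta, theta_zetaFun, map_mul]
  have hθ' : theta Z' = Z' * V' := by rw [hZ', ← map_theta, theta_zetaFun, map_mul]
  have hresc : ∀ (c : ℂ) (F : PowerSeries ℂ), theta (PowerSeries.rescale c F) = PowerSeries.rescale c (theta F) := fun c F => by
    ext n; simp only [coeff_theta, PowerSeries.coeff_rescale]; ring
  have hsubst : ∀ F : PowerSeries ℂ, theta (PowerSeries.subst ((PowerSeries.X : PowerSeries ℂ) ^ r) F) =
      (r : PowerSeries ℂ) * PowerSeries.subst ((PowerSeries.X : PowerSeries ℂ) ^ r) (theta F) := fun F => by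
    ext n
    rw [coeff_theta, ← map_natCast (PowerSeries.C : ℂ →+* PowerSeries ℂ), PowerSeries.coeff_C_mul,
      PowerSeries.coeff_subst_X_pow hr0.ne', PowerSeries.coeff_subst_X_pow hr0.ne']
    split_ifs with hd
    · obtain ⟨c, rfl⟩ := hd
      rw [Nat.mul_div_cancel_left c hr0, coeff_theta]
      simp
      ring
    · simp
  have hR := theta_prod_of (Finset.range r) (F := fun i => PowerSeries.rescale (ξ ^ i) Z)
    (U := fun i => PowerSeries.rescale (ξ ^ i) V) fun i _ => by rw [hresc, hθ, map_mul]
  refine (theta_eq_unique (U := ∑ i ∈ Finset.range r, PowerSeries.rescale (ξ ^ i) V) ?_ ?_ hR ?_)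
  · rw [map_sum]
    refine Finset.sum_eq_zero fun i _ => ?_
    rw [PowerSeries.coeff_rescale, hV, PowerSeries.coeff_map, coeff_U_zero, map_zero, mul_zero]
  · have hs : PowerSeries.HasSubst ((PowerSeries.X : PowerSeries ℂ) ^ r) :=
      PowerSeries.HasSubst.of_constantCoeff_zero' (by simp [hr0.ne'])
    rw [hsubst, hθ', PowerSeries.subst_mul hs, mul_left_comm]
    congr 1
    ext n
    rw [← map_natCast (PowerSeries.C : ℂ →+* PowerSeries ℂ), PowerSeries.coeff_C_mul,
      PowerSeries.coeff_subst_X_pow hr0.ne', map_sum]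
    simp only [PowerSeries.coeff_rescale, hV, hV', PowerSeries.coeff_map, U, PowerSeries.coeff_mk, map_natCast]
    rw [← Finset.sum_mul]
    simp_rw [← pow_mul, mul_comm _ n, pow_mul]
    split_ifs with hd
    · obtain ⟨c, rfl⟩ := hd
      rw [Nat.mul_div_cancel_left c hr0, pow_mul, hξ.pow_eq_one, one_pow]
      simp only [one_pow, Finset.sum_const, Finset.card_range, nsmul_eq_mul, mul_one]
      rcases Nat.eq_zero_or_pos c with rfl | hc
      · simp [Zeta.nPts]
      · rw [nPts_baseChange f k' hc, hr]
    · have hne : ξ ^ n ≠ 1 := fun h => hd (hξ.dvd_of_pow_eq_one n h)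
      rw [geom_sum_eq hne, ← pow_mul, Nat.mul_comm n r, pow_mul, hξ.pow_eq_one, one_pow, sub_self, zero_div]
      simp
  · have hone : ∀ i ∈ Finset.range r, PowerSeries.constantCoeff (PowerSeries.rescale (ξ ^ i) Z) = 1 := fun i _ => by
      rw [← PowerSeries.coeff_zero_eq_constantCoeff_apply, PowerSeries.coeff_rescale, pow_zero, one_mul, hZ,
        PowerSeries.coeff_map, coeff_zero_zetaFun, map_one]
    rw [PowerSeries.coeff_subst_X_pow hr0.ne', if_pos (dvd_zero _), Nat.zero_div,
      PowerSeries.coeff_zero_eq_constantCoeff_apply (∏ i ∈ Finset.range r, PowerSeries.rescale (ξ ^ i) Z), map_prod,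
      Finset.prod_eq_one hone, hZ', PowerSeries.coeff_map, coeff_zero_zetaFun, map_one]
    simp

end Groth.Agent.S13054
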