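import Groth.Statements.S13055
import Groth.Agent.ZetaFun.Basic

set_option autoImplicit false
universe u
open CategoryTheory AlgebraicGeometry
open Zeta

namespace Groth.Agent.S13055

open Groth.Agent.ZetaFun Groth.Agent.FunFldLib PowerSeries

/-- Let X be a scheme of finite type over a finite field k with q elements and P = a_d y^d + ⋯ + a_0 ∈
ℤ[y] with N_m = P(q^m) for every m ≥ 1 (X is of polynomial count). Then Z(X, t) = ∏_{i = 0}^{d} (1 −
q^i t)^{−a_i}; stated cleared of denominators, with the factors of positive exponent moved to the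
left. -/
theorem result {k : Type u} [Field k] [Finite k] {X : Scheme.{u}}
    (f : X ⟶ Spec (CommRingCat.of k)) [LocallyOfFiniteType f] [QuasiCompact f] (P : Polynomial ℤ)
    (hP : ∀ m : ℕ, 1 ≤ m → (Zeta.nPts f m : ℤ) = P.eval ((Nat.card k : ℤ) ^ m)) :
    Zeta.zetaFun f * ∏ i ∈ Finset.range (P.natDegree + 1),
        (1 - PowerSeries.C ((Nat.card k : ℚ) ^ i) * PowerSeries.X) ^ (P.coeff i).toNat =
      ∏ i ∈ Finset.range (P.natDegree + 1),
        (1 - PowerSeries.C ((Nat.card k : ℚ) ^ i) * PowerSeries.X) ^ (-P.coeff i).toNat := by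
  classical
  set q : ℚ := (Nat.card k : ℚ) with hq
  have hF := theta_mul_of (theta_zetaFun f) (theta_prod_of (Finset.range (P.natDegree + 1)) fun i _ =>
    theta_pow_of (theta_linear (q ^ i)) (P.coeff i).toNat)
  have hG := theta_prod_of (Finset.range (P.natDegree + 1)) fun i (_ : i ∈ Finset.range (P.natDegree + 1)) =>
    theta_pow_of (theta_linear (q ^ i)) (-P.coeff i).toNat
  refine theta_eq_unique ?_ (U := ∑ i ∈ Finset.range (P.natDegree + 1), ((-P.coeff i).toNat : ℚ⟦X⟧) * -geo (q ^ i)) ?_ hG ?_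
  · rw [map_sum]
    exact Finset.sum_eq_zero fun i _ => by rw [coeff_zero_eq_constantCoeff_apply, map_mul, map_neg, ← coeff_zero_eq_constantCoeff_apply (geo _), coeff_zero_geo]; simp
  · refine hF.trans ?_
    congr 1
    ext m
    rw [map_add, map_sum, map_sum]
    have hc : ∀ (a : ℕ) (i : ℕ), coeff m ((a : ℚ⟦X⟧) * -geo (q ^ i)) = -((a : ℚ) * if m = 0 then 0 else (q ^ i) ^ m) := fun a i => by
      rw [mul_neg, map_neg, ← map_natCast (C : ℚ →+* ℚ⟦X⟧), coeff_C_mul, geo, coeff_mk]
    rw [Finset.sum_congr rfl fun i _ => hc _ i, Finset.sum_congr rfl fun i _ => hc _ i]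
    rcases Nat.eq_zero_or_pos m with rfl | hm
    · simp [coeff_U_zero f, Zeta.nPts, U]
    · have h1 := congrArg (fun z : ℤ => (z : ℚ)) (hP m hm)
      simp only [Int.cast_natCast] at h1
      rw [U, coeff_mk, h1, Polynomial.eval_eq_sum_range]
      simp only [if_neg hm.ne', Int.cast_sum, Int.cast_mul, Int.cast_pow, Int.cast_natCast]
      rw [← Finset.sum_add_distrib]
      refine Finset.sum_congr rfl fun i _ => ?_
      have hz : ((P.coeff i).toNat : ℚ) - ((-P.coeff i).toNat : ℚ) = (P.coeff i : ℚ) := by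
        have := Int.toNat_sub_toNat_neg (P.coeff i)
        exact_mod_cast congrArg (fun z : ℤ => (z : ℚ)) this
      rw [← hz, ← pow_mul, ← pow_mul, mul_comm m i, hq]
      ring
  · simp only [coeff_zero_eq_constantCoeff_apply, map_mul, map_prod, map_pow, map_sub, map_one, constantCoeff_C,
      constantCoeff_X, mul_zero, sub_zero, one_pow, Finset.prod_const_one, mul_one]
    rw [← coeff_zero_eq_constantCoeff_apply, coeff_zero_zetaFun]

end Groth.Agent.S13055
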