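import Groth.Statements.S13056
import Mathlib
import Groth.Agent.CharRev.Trace

set_option autoImplicit false
universe u v
open Zeta

namespace Groth.Agent.S13056

/-- For an endomorphism φ of a finite-dimensional vector space over a field K, det(Id − tφ) = exp(−∑_{m
≥ 1} tr(φ^m) t^m / m) as power series in t. Stated for a square matrix M, with det(1 − tM) Mathlib's
reversed characteristic polynomial, and over a field of characteristic zero (the exponential series
needs ℚ ⊆ K; this is the case in which the identity is used). -/
theorem result {K : Type u} [Field K] [CharZero K]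
    {n : Type v} [Fintype n] [DecidableEq n] (M : Matrix n n K) :
    ((M.charpolyRev : Polynomial K) : PowerSeries K) =
      PowerSeries.subst (PowerSeries.mk fun m : ℕ => -(Matrix.trace (M ^ m)) / (m : K))
        (PowerSeries.exp K) := by
  set L : PowerSeries K := PowerSeries.mk fun m : ℕ => -(Matrix.trace (M ^ m)) / (m : K) with hL
  set P : PowerSeries K := ((M.charpolyRev : Polynomial K) : PowerSeries K)
  set E : PowerSeries K := PowerSeries.subst L (PowerSeries.exp K)
  set A : PowerSeries K := PowerSeries.mk fun k => if k = 0 then 0 else -(M ^ k).trace with hA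
  have hL0 : PowerSeries.constantCoeff L = 0 := by
    rw [← PowerSeries.coeff_zero_eq_constantCoeff_apply, hL, PowerSeries.coeff_mk]; simp
  have hs : PowerSeries.HasSubst L := PowerSeries.HasSubst.of_constantCoeff_zero' hL0
  have hP : PowerSeries.X * PowerSeries.derivative K P = P * A := by
    have h := Groth.Agent.CharRev.X_mul_derivative_charpolyRev M
    rw [Polynomial.coe_neg, Polynomial.coe_mul, Polynomial.coe_X, neg_eq_iff_eq_neg] at h
    rw [show PowerSeries.derivative K P = ((Polynomial.derivative M.charpolyRev : Polynomial K) : PowerSeries K)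
      from PowerSeries.derivative_coe _, h, ← mul_neg]
    congr 1
    ext k; simp only [map_neg, PowerSeries.coeff_mk, hA]; split_ifs <;> simp
  have hA2 : PowerSeries.X * PowerSeries.derivative K L = A := by
    ext k
    rcases k with _ | k
    · simp [hA]
    · rw [PowerSeries.coeff_succ_X_mul, PowerSeries.coeff_derivative, hL, hA, PowerSeries.coeff_mk,
        PowerSeries.coeff_mk, if_neg (Nat.succ_ne_zero k)]
      push_cast
      field_simp
  have hE : PowerSeries.X * PowerSeries.derivative K E = E * A := by
    show PowerSeries.X * PowerSeries.derivative K (PowerSeries.subst L (PowerSeries.exp K)) = _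
    rw [PowerSeries.derivative_subst hs, PowerSeries.derivative_exp, ← hA2]
    ring
  have hP0 : PowerSeries.coeff 0 P = 1 := by
    simp [P, Polynomial.coeff_coe, Polynomial.coeff_zero_eq_eval_zero, Matrix.eval_charpolyRev]
  have hE0 : PowerSeries.coeff 0 E = 1 := by
    show PowerSeries.coeff 0 (PowerSeries.subst L (PowerSeries.exp K)) = 1
    rw [PowerSeries.coeff_subst' hs, finsum_eq_single _ 0]
    · simp
    · intro d hd; simp [map_pow, hL0, hd]
  ext k
  induction k using Nat.strong_induction_on with
  | _ k ih =>
    rcases k with _ | k
    · rw [hP0, hE0]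
    · have h1 := congrArg (PowerSeries.coeff (k+1)) hP
      have h2 := congrArg (PowerSeries.coeff (k+1)) hE
      rw [PowerSeries.coeff_succ_X_mul, PowerSeries.coeff_derivative, PowerSeries.coeff_mul] at h1 h2
      have hsum : ∑ x ∈ Finset.HasAntidiagonal.antidiagonal (k + 1), PowerSeries.coeff x.1 P * PowerSeries.coeff x.2 A =
          ∑ x ∈ Finset.HasAntidiagonal.antidiagonal (k + 1), PowerSeries.coeff x.1 E * PowerSeries.coeff x.2 A := by
        refine Finset.sum_congr rfl fun x hx => ?_
        obtain ⟨i, j⟩ := x
        have hx : i + j = k + 1 := Finset.HasAntidiagonal.mem_antidiagonal.1 hx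
        rcases j with _ | j
        · simp [hA]
        · rw [ih i (by omega)]
      rw [hsum, ← h2] at h1
      exact mul_right_cancel₀ (Nat.cast_add_one_ne_zero k) h1

end Groth.Agent.S13056
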