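import Groth.Statements.S13057
import Mathlib

set_option autoImplicit false
universe u
open Zeta

namespace Groth.Agent.S13057

/-- A power series f = ∑_{m ≥ 0} a_m t^m over a field L lies in L(t), i.e. f · Q = P for some
polynomials P, Q with Q ≠ 0, if and only if there are natural numbers M, N such that the vectors
(a_i, a_{i+1}, …, a_{i+N}) ∈ L^{N+1}, i ≥ M, span a proper subspace. -/
theorem result {L : Type u} [Field L]
    (f : PowerSeries L) :
    (∃ P Q : Polynomial L, Q ≠ 0 ∧ f * (Q : PowerSeries L) = (P : PowerSeries L)) ↔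
      ∃ M N : ℕ, Submodule.span L
          {v : Fin (N + 1) → L | ∃ i : ℕ, M ≤ i ∧ v = fun j : Fin (N + 1) => PowerSeries.coeff (i + (j : ℕ)) f} ≠ ⊤ := by
  classical
  have hcm : ∀ (Q : Polynomial L) (N n : ℕ), Q.natDegree ≤ N → N ≤ n →
      PowerSeries.coeff n (f * (Q : PowerSeries L)) =
        ∑ l ∈ Finset.range (N + 1), Q.coeff l * PowerSeries.coeff (n - l) f := by
    intro Q N n hQ hn
    rw [mul_comm, PowerSeries.coeff_mul,
      Finset.Nat.sum_antidiagonal_eq_sum_range_succ
        (fun a b => PowerSeries.coeff a (Q : PowerSeries L) * PowerSeries.coeff b f) n]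
    simp only [Polynomial.coeff_coe]
    refine (Finset.sum_subset (by intro x; simp; omega) fun l _ hl => ?_).symm
    rw [Polynomial.coeff_eq_zero_of_natDegree_lt (by simp at hl; omega), zero_mul]
  constructor
  · rintro ⟨P, Q, hQ, h⟩
    refine ⟨P.natDegree + 1, Q.natDegree, fun htop => ?_⟩
    let φ : (Fin (Q.natDegree + 1) → L) →ₗ[L] L :=
      ∑ j : Fin (Q.natDegree + 1), Q.coeff (Q.natDegree - j) • LinearMap.proj j
    have hφ : φ = 0 := by
      refine LinearMap.ext_on htop ?_
      rintro v ⟨i, hi, rfl⟩
      have h0 := congrArg (PowerSeries.coeff (i + Q.natDegree)) h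
      rw [hcm Q Q.natDegree _ le_rfl (by omega), Polynomial.coeff_coe,
        Polynomial.coeff_eq_zero_of_natDegree_lt (p := P) (by omega)] at h0
      rw [← Finset.sum_range_reflect] at h0
      simp only [φ, LinearMap.coe_sum, Finset.sum_apply, LinearMap.smul_apply, LinearMap.proj_apply,
        smul_eq_mul, LinearMap.zero_apply]
      rw [← h0, ← Fin.sum_univ_eq_sum_range]
      refine Finset.sum_congr rfl fun j _ => ?_
      have := j.isLt
      congr 3 <;> omega
    have h1 := LinearMap.congr_fun hφ (Pi.single (0 : Fin (Q.natDegree + 1)) 1)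
    simp [φ, Pi.single_apply, hQ] at h1
  · rintro ⟨M, N, hne⟩
    obtain ⟨φ, hφ0, hφ⟩ := Submodule.exists_le_ker_of_lt_top _ (lt_top_iff_ne_top.2 hne)
    let c : Fin (N + 1) → L := fun j => φ (Pi.single j 1)
    let Q : Polynomial L := ∑ j : Fin (N + 1), Polynomial.monomial (N - j) (c j)
    have hcoef : ∀ j : Fin (N + 1), Q.coeff (N - j) = c j := by
      intro j
      simp only [Q, Polynomial.finsetSum_coeff, Polynomial.coeff_monomial]
      rw [Finset.sum_eq_single j]
      · simp
      · intro b _ hb
        rw [if_neg]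
        intro e
        have := b.isLt; have := j.isLt
        exact hb (Fin.ext (by omega))
      · simp
    have hQ0 : Q ≠ 0 := by
      intro h0
      refine hφ0 (LinearMap.pi_ext' fun j => LinearMap.ext_ring ?_)
      simpa [h0, c] using (hcoef j).symm
    have hdeg : Q.natDegree ≤ N := Polynomial.natDegree_sum_le_of_forall_le _ _ fun j _ =>
      (Polynomial.natDegree_monomial_le _).trans (Nat.sub_le _ _)
    refine ⟨PowerSeries.trunc (M + N + 1) (f * (Q : PowerSeries L)), Q, hQ0, ?_⟩
    ext n
    rw [Polynomial.coeff_coe, PowerSeries.coeff_trunc]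
    split_ifs with hn
    · rfl
    rw [hcm Q N n hdeg (by omega), ← Finset.sum_range_reflect, ← Fin.sum_univ_eq_sum_range]
    have hv : φ (fun j : Fin (N + 1) => PowerSeries.coeff (n - N + (j : ℕ)) f) = 0 :=
      hφ (Submodule.subset_span ⟨n - N, by omega, rfl⟩)
    rw [pi_eq_sum_univ (fun j : Fin (N + 1) => PowerSeries.coeff (n - N + (j : ℕ)) f), map_sum] at hv
    rw [← hv]
    refine Finset.sum_congr rfl fun j _ => ?_
    have := j.isLt
    rw [map_smul, smul_eq_mul, mul_comm, show (fun j' => if j = j' then (1 : L) else 0) = Pi.single j 1 from by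
        ext j'; rw [Pi.single_apply]; exact if_congr eq_comm rfl rfl,
      show N + 1 - 1 - (j : ℕ) = N - j by omega, hcoef j]
    congr 3; omega

end Groth.Agent.S13057
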