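import Groth.Statements.S13058
import Mathlib

set_option autoImplicit false
universe u v
open Zeta

namespace Groth.Agent.S13058

/-- If L'/L is a field extension, a power series f ∈ L⟦t⟧ belongs to L(t) exactly when it belongs to
L'(t); here membership in L(t) means f · Q = P for polynomials P, Q over the field in question with
Q ≠ 0. -/
theorem result {L : Type u} {L' : Type v} [Field L] [Field L']
    [Algebra L L'] (f : PowerSeries L) :
    (∃ P Q : Polynomial L', Q ≠ 0 ∧
        PowerSeries.map (algebraMap L L') f * (Q : PowerSeries L') = (P : PowerSeries L')) ↔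
      ∃ P Q : Polynomial L, Q ≠ 0 ∧ f * (Q : PowerSeries L) = (P : PowerSeries L) := by
  classical
  constructor
  · rintro ⟨P, Q, hQ, h⟩
    obtain ⟨l, hl⟩ : ∃ l, Q.coeff l ≠ 0 := ⟨_, Polynomial.leadingCoeff_ne_zero.2 hQ⟩
    obtain ⟨φ, hφ⟩ := LinearMap.exists_extend
      (LinearMap.toSpanSingleton L L' (Q.coeff l) |> fun _ =>
        ((LinearEquiv.toSpanNonzeroSingleton L L' (Q.coeff l) hl).symm.toLinearMap))
    have hφl : φ (Q.coeff l) ≠ 0 := by
      have := LinearMap.congr_fun hφ ⟨Q.coeff l, Submodule.mem_span_singleton_self _⟩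
      simp only [LinearMap.comp_apply, Submodule.subtype_apply] at this
      rw [this]
      simp
      intro h0; exact hl h0
    refine ⟨∑ n ∈ P.support, Polynomial.monomial n (φ (P.coeff n)),
      ∑ n ∈ Q.support, Polynomial.monomial n (φ (Q.coeff n)), ?_, ?_⟩
    · intro h0
      apply hφl
      have := congrArg (fun R => Polynomial.coeff R l) h0
      simpa [Polynomial.finsetSum_coeff, Polynomial.coeff_monomial, hl] using this
    · have hc : ∀ (R : Polynomial L') n, (∑ n ∈ R.support, Polynomial.monomial n (φ (R.coeff n))).coeff n = φ (R.coeff n) := by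
        intro R n
        simp only [Polynomial.finsetSum_coeff, Polynomial.coeff_monomial, Finset.sum_ite_eq', Polynomial.mem_support_iff]
        split_ifs with h
        · rfl
        · simp [not_not.1 h]
      ext n
      have hn := congrArg (fun R => φ (PowerSeries.coeff n R)) h
      simp only [PowerSeries.coeff_mul, PowerSeries.coeff_map, Polynomial.coeff_coe, map_sum, hc] at hn ⊢
      rw [← hn]
      refine Finset.sum_congr rfl fun x _ => ?_
      rw [← Algebra.smul_def, map_smul, smul_eq_mul]
  · rintro ⟨P, Q, hQ, h⟩
    refine ⟨P.map (algebraMap L L'), Q.map (algebraMap L L'),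
      Polynomial.map_ne_zero hQ, ?_⟩
    rw [Polynomial.polynomial_map_coe, Polynomial.polynomial_map_coe, ← map_mul, h]

end Groth.Agent.S13058
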