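import Groth.Statements.S13059
import Mathlib

set_option autoImplicit false
universe u
open Zeta

namespace Groth.Agent.S13059

/-- Let B : V × W → K be a perfect pairing of finite-dimensional vector spaces over a field K, c ∈ K
nonzero, and f, g endomorphisms of V, W with B(f v, g w) = c · B(v, w) for all v, w. Then det(Id − t
g) = (−1)^r c^r t^r det(f)^{−1} det(Id − c^{−1} t^{−1} f) with r the common dimension; stated
cleared of denominators as det(f) · det(Id − t g) = (−1)^r c^r · det(t Id − c^{−1} f) in K[t],
det(Id − t g) being the reverse of the characteristic polynomial of g. -/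
theorem result (K : Type u) [Field K] (V W : Type u)
    [AddCommGroup V] [Module K V] [FiniteDimensional K V] [AddCommGroup W] [Module K W]
    [FiniteDimensional K W] (B : V →ₗ[K] W →ₗ[K] K) [B.IsPerfPair] (f : V →ₗ[K] V) (g : W →ₗ[K] W)
    (c : K) (hc : c ≠ 0) (hfg : ∀ (v : V) (w : W), B (f v) (g w) = c * B v w) :
    LinearMap.det f • (LinearMap.charpoly g).reverse =
      ((-1) ^ Module.finrank K W * c ^ Module.finrank K W) • (c⁻¹ • f).charpoly := by
  classical
  let bW := Module.finBasis K W
  let φ : V ≃ₗ[K] Module.Dual K W := B.toPerfPair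
  let bV := (bW.dualBasis).map φ.symm
  set F := LinearMap.toMatrix bV bV f with hF
  set G := LinearMap.toMatrix bW bW g with hG
  -- `B` becomes the identity pairing
  have hB : ∀ i j, B (bV i) (bW j) = if j = i then 1 else 0 := fun i j => by
    have : φ (bV i) = bW.dualBasis i := by simp [bV]
    change φ (bV i) (bW j) = _
    rw [this, Module.Basis.dualBasis_apply_self]
  have hmat : F.transpose * G = c • (1 : Matrix _ _ K) := by
    ext i j
    have h := hfg (bV i) (bW j)
    rw [← bV.sum_repr (f (bV i)), ← bW.sum_repr (g (bW j)), hB] at h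
    simp only [map_sum, map_smul, LinearMap.coe_sum, Finset.sum_apply, LinearMap.smul_apply, smul_eq_mul,
      hB, mul_ite, mul_one, mul_zero, Finset.sum_ite_eq', Finset.sum_ite_eq, Finset.mem_univ, if_true] at h
    simp only [Matrix.mul_apply, Matrix.transpose_apply, hF, hG, LinearMap.toMatrix_apply,
      Matrix.smul_apply, Matrix.one_apply, smul_eq_mul, mul_ite, mul_one, mul_zero]
    simp only [eq_comm (a := i) (b := j)]
    convert h using 1
    refine Finset.sum_congr rfl fun x _ => ?_
    ring
  rw [← LinearMap.det_toMatrix bV f, ← LinearMap.charpoly_toMatrix g bW,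
    ← LinearMap.charpoly_toMatrix (c⁻¹ • f) bV, map_smul, ← hF, ← hG, Matrix.reverse_charpoly]
  rw [← Matrix.det_transpose F, ← Matrix.charpoly_transpose (c⁻¹ • F), Matrix.transpose_smul]
  generalize F.transpose = T at hmat
  rw [Matrix.charpolyRev, Matrix.charpoly, Matrix.charmatrix, Polynomial.smul_eq_C_mul, Polynomial.smul_eq_C_mul,
    map_mul Polynomial.C, map_pow, map_pow, ← mul_pow]
  have : (Polynomial.C : K →+* Polynomial K) T.det = (T.map Polynomial.C).det := by
    rw [RingHom.map_det]; rfl
  have hds := fun A : Matrix (Fin (Module.finrank K W)) (Fin (Module.finrank K W)) (Polynomial K) =>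
    Matrix.det_smul A (Polynomial.C (-1) * Polynomial.C c)
  simp only [Fintype.card_fin] at hds
  rw [this, ← Matrix.det_mul, ← hds]
  congr 1
  rw [mul_sub, mul_one, Matrix.mul_smul, ← Matrix.map_mul, hmat]
  refine Matrix.ext fun i j => ?_
  by_cases hij : i = j
  · subst hij
    simp only [Matrix.sub_apply, Matrix.map_apply, Matrix.smul_apply, Matrix.one_apply_eq, smul_eq_mul, mul_one,
      Matrix.scalar_apply, Matrix.diagonal_apply_eq, RingHom.mapMatrix_apply]
    have h1 : Polynomial.C c * Polynomial.C c⁻¹ = 1 := by rw [← Polynomial.C_mul, mul_inv_cancel₀ hc, map_one]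
    rw [map_mul, map_neg, map_one]
    linear_combination (-(Polynomial.C (T i i))) * h1
  · simp only [Matrix.sub_apply, Matrix.map_apply, Matrix.smul_apply, Matrix.one_apply_ne hij, smul_eq_mul, mul_zero,
      Matrix.scalar_apply, Matrix.diagonal_apply_ne _ hij, RingHom.mapMatrix_apply, map_zero, sub_zero, zero_sub]
    have h1 : Polynomial.C c * Polynomial.C c⁻¹ = 1 := by rw [← Polynomial.C_mul, mul_inv_cancel₀ hc, map_one]
    rw [map_mul, map_neg, map_one]
    linear_combination -(Polynomial.C (T i j)) * h1

end Groth.Agent.S13059
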