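import Groth.Statements.S13060
import Mathlib

set_option autoImplicit false
universe u v w x
open TensorProduct
open Zeta

namespace Groth.Agent.S13060

/-- Let k be a field, V and W vector spaces over k and G a group acting on V by k-linear automorphisms;
for the induced action on V ⊗_k W (trivial on W) one has (V ⊗_k W)^G = V^G ⊗_k W, i.e. the
invariants of V ⊗ W are the image of V^G ⊗ W → V ⊗ W. -/
theorem result {k : Type u} [Field k] {G : Type v} [Group G]
    {V : Type w} {W : Type x} [AddCommGroup V] [Module k V] [AddCommGroup W] [Module k W]
    (ρ : Representation k G V) :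
    (ρ.tprod (Representation.trivial k G W)).invariants =
      LinearMap.range (TensorProduct.map ρ.invariants.subtype (LinearMap.id : W →ₗ[k] W)) := by
  classical
  apply le_antisymm
  · intro z hz
    obtain ⟨ι, ⟨b⟩⟩ : ∃ ι : Type x, Nonempty (Module.Basis ι k W) :=
      ⟨_, ⟨Module.Free.chooseBasis k W⟩⟩
    let e := TensorProduct.equivFinsuppOfBasisRight (M := V) b
    have key : ∀ g (y : V ⊗[k] W),
        e ((ρ.tprod (Representation.trivial k G W)) g y) = (e y).mapRange (ρ g) (map_zero _) := by
      intro g y
      induction y with
      | zero => simp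
      | tmul v w => ext i; simp [e, Representation.tprod_apply]
      | add a b ha hb => rw [map_add, map_add, ha, hb, map_add]; ext i; simp
    have hmem : ∀ i, e z i ∈ ρ.invariants := fun i g => by
      have := congrArg (fun f => f i) ((key g z).symm.trans (congrArg e (hz g)))
      simpa using this
    have hz' : z = ∑ i ∈ (e z).support, (e z i) ⊗ₜ[k] b i := by
      conv_lhs => rw [← e.symm_apply_apply z]
      rw [show e.symm (e z) = _ from TensorProduct.equivFinsuppOfBasisRight_symm_apply b (e z)]
      rfl
    rw [hz']
    exact Submodule.sum_mem _ fun i _ => ⟨(⟨e z i, hmem i⟩ : ρ.invariants) ⊗ₜ b i, by simp⟩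
  · rintro z ⟨x, rfl⟩ g
    induction x with
    | zero => simp
    | tmul v w => simp [Representation.tprod_apply, v.2 g]
    | add a b ha hb => rw [map_add, map_add, ha, hb]

end Groth.Agent.S13060
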