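import Groth.Statements.S13061
import Mathlib

set_option autoImplicit false
universe u v w
open Zeta

namespace Groth.Agent.S13061

/-- Let A be a commutative algebra over a field k, G a finite group acting on A by k-algebra
automorphisms and I ⊆ A an ideal preserved by G. If p^n is the largest power of p = char(k) dividing
|G| (with p^n = 1 when char(k) = 0), then for every G-invariant b ∈ A/I the power b^{p^n} lies in
the image of A^G → (A/I)^G. (The published statement takes A finitely generated over k, which the
proof does not use.) -/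
theorem result {k : Type u} [Field k]
    {A : Type v} [CommRing A] [Algebra k A] {G : Type w} [Group G] [Finite G]
    [MulSemiringAction G A] [SMulCommClass G k A] (I : Ideal A)
    (hI : ∀ (g : G) (a : A), a ∈ I → g • a ∈ I) (u : A) (hu : ∀ g : G, g • u - u ∈ I) :
    ∃ a : A, (∀ g : G, g • a = a) ∧
      Ideal.Quotient.mk I a =
        Ideal.Quotient.mk I u ^ (ringChar k ^ (Nat.card G).factorization (ringChar k)) := by
  classical
  set q := ringChar k with hq
  set e := q ^ (Nat.card G).factorization q with he
  obtain ⟨P, hP, hidx⟩ : ∃ P : Subgroup G, Nat.card P = e ∧ ((P.index : ℕ) : k) ≠ 0 := by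
    have hG0 : Nat.card G ≠ 0 := Nat.card_pos.ne'
    rcases CharP.char_is_prime_or_zero k q with hp | hp
    · haveI := Fact.mk hp
      obtain ⟨P⟩ : Nonempty (Sylow q G) := inferInstance
      refine ⟨P, P.card_eq_multiplicity, fun h => ?_⟩
      exact P.not_dvd_index ((CharP.cast_eq_zero_iff k q _).1 h)
    · refine ⟨⊥, by simp [he, hp], ?_⟩
      rw [Subgroup.index_bot]
      intro h
      have := (CharP.cast_eq_zero_iff k q _).1 h
      rw [hp, zero_dvd_iff] at this
      exact hG0 this
  haveI : Fintype P := Fintype.ofFinite _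
  set a₁ : A := ∏ g : P, (g : G) • u with ha₁
  have hmk : ∀ g : G, Ideal.Quotient.mk I (g • u) = Ideal.Quotient.mk I u := fun g =>
    Ideal.Quotient.eq.2 (hu g)
  have ha₁P : ∀ h : P, (h : G) • a₁ = a₁ := fun h => by
    rw [ha₁, Finset.smul_prod']
    exact Fintype.prod_equiv (Equiv.mulLeft h) _ _ fun g => by simp [mul_smul]
  have ha₁I : Ideal.Quotient.mk I a₁ = Ideal.Quotient.mk I u ^ e := by
    rw [ha₁, map_prod]
    simp only [hmk, Finset.prod_const, Finset.card_univ, ← Nat.card_eq_fintype_card, hP]
  have hwd : ∀ g g' : G, g⁻¹ * g' ∈ P → g • a₁ = g' • a₁ := fun g g' h => by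
    conv_lhs => rw [← ha₁P ⟨_, h⟩]
    rw [← mul_smul]; simp
  haveI : Fintype (G ⧸ P) := Fintype.ofFinite _
  let T : G ⧸ P → A := Quotient.lift (fun g : G => g • a₁) fun g g' h =>
    hwd g g' (QuotientGroup.leftRel_apply.1 h)
  refine ⟨algebraMap k A ((P.index : k)⁻¹) * ∑ x, T x, fun g => ?_, ?_⟩
  · rw [smul_mul', smul_algebraMap, Finset.smul_sum]
    congr 1
    refine Fintype.sum_equiv (MulAction.toPerm g) _ _ fun x => ?_
    induction x using QuotientGroup.induction_on with
    | H z => exact (mul_smul g z a₁).symm
  · have : ∀ x, Ideal.Quotient.mk I (T x) = Ideal.Quotient.mk I u ^ e := by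
      intro x
      induction x using QuotientGroup.induction_on with
      | H z =>
        rw [← ha₁I]
        apply Ideal.Quotient.eq.2
        have hk : ∀ y : A, y ∈ I → z • y ∈ I := fun y hy => hI z y hy
        change z • a₁ - a₁ ∈ I
        rw [ha₁, Finset.smul_prod', ← Ideal.Quotient.eq, map_prod, map_prod]
        exact Finset.prod_congr rfl fun g _ => by rw [← mul_smul, hmk, hmk]
    rw [map_mul, map_sum, Finset.sum_congr rfl fun x _ => this x, Finset.sum_const, Finset.card_univ,
      ← Nat.card_eq_fintype_card, ← Subgroup.index, nsmul_eq_mul, ← mul_assoc,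
      ← map_natCast (Ideal.Quotient.mk I), ← map_natCast (algebraMap k A), ← map_mul, ← map_mul,
      inv_mul_cancel₀ hidx, map_one, map_one, one_mul]

end Groth.Agent.S13061
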