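import Groth.Statements.S13062
import Groth.Agent.DimTheory.Algebra
import Mathlib.RingTheory.NoetherNormalization
import Mathlib.FieldTheory.Finite.Basic
import Mathlib.LinearAlgebra.Dimension.Finite
import Mathlib.AlgebraicGeometry.Morphisms.FiniteType

set_option autoImplicit false
universe u
open CategoryTheory AlgebraicGeometry
open Zeta

namespace Groth.Agent.S13062

set_option backward.isDefEq.respectTransparency.types false

/-- homomorphisms extending a given one on a finite subalgebra -/
theorem card_fibre_le {k A P k' : Type u} [CommRing k] [CommRing A] [CommRing P] [Field k'] [Algebra k A] [Algebra k k']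
    [Algebra P A] {N : ℕ} (g : Fin N → A) (hg : Submodule.span P (Set.range g) = ⊤)
    (φ : P → k') (T : Finset (A →ₐ[k] k')) (hT : ∀ σ ∈ T, ∀ p, σ (algebraMap P A p) = φ p) : T.card ≤ N := by
  classical
  have hli : LinearIndependent k' (fun (σ : T) (i : Fin N) => σ.1 (g i)) := by
    refine Fintype.linearIndependent_iff.2 fun c hc => ?_
    have h0 : ∀ a : A, ∑ σ : T, c σ * σ.1 a = 0 := by
      intro a
      induction (hg ▸ Submodule.mem_top : a ∈ Submodule.span P (Set.range g)) using Submodule.span_induction with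
      | mem x hx =>
        obtain ⟨i, rfl⟩ := hx
        have := congrFun hc i
        simpa only [Finset.sum_apply, Pi.smul_apply, smul_eq_mul, Pi.zero_apply] using this
      | zero => simp
      | add x y _ _ hx hy => simp only [map_add, mul_add, Finset.sum_add_distrib, hx, hy, add_zero]
      | smul p x _ hx =>
        calc ∑ σ : T, c σ * σ.1 (p • x) = φ p * ∑ σ : T, c σ * σ.1 x := by
              rw [Finset.mul_sum]
              refine Finset.sum_congr rfl fun σ _ => ?_
              rw [Algebra.smul_def, map_mul, hT σ.1 σ.2 p]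
              ring
          _ = 0 := by rw [hx, mul_zero]
    have hD : LinearIndependent k' (fun σ : T => ((σ.1 : A →* k') : A → k')) :=
      (linearIndependent_monoidHom A k').comp (fun σ : T => (σ.1 : A →* k'))
        fun σ τ h => Subtype.ext (AlgHom.ext fun a => congrArg (fun m : A →* k' => m a) h)
    refine Fintype.linearIndependent_iff.1 hD c (funext fun a => ?_)
    rw [Finset.sum_apply]
    exact h0 a
  simpa using hli.fintype_card_le_finrank

theorem exists_bound {k A : Type u} [Field k] [Finite k] [CommRing A] [Algebra k A] [Algebra.FiniteType k A] (r : ℕ)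
    (hr : ringKrullDim A ≤ r) :
    ∃ c : ℕ, ∀ (k' : Type u) [Field k'] [Algebra k k'] [Finite k'],
      Finite (A →ₐ[k] k') ∧ Nat.card (A →ₐ[k] k') ≤ c * Nat.card k ^ (r * Module.finrank k k') := by
  classical
  rcases subsingleton_or_nontrivial A with hA | hA
  · refine ⟨0, fun k' _ _ _ => ?_⟩
    haveI : IsEmpty (A →ₐ[k] k') := ⟨fun σ => one_ne_zero ((map_one σ).symm.trans
      ((congrArg σ (Subsingleton.elim (1 : A) 0)).trans (map_zero σ)))⟩
    exact ⟨inferInstance, by simp⟩
  obtain ⟨s, φ, hinj, hfin⟩ := exists_finite_inj_algHom_of_fg k A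
  algebraize [φ.toRingHom]
  haveI : Module.Finite (MvPolynomial (Fin s) k) A := hfin
  haveI : FaithfulSMul (MvPolynomial (Fin s) k) A := (faithfulSMul_iff_algebraMap_injective _ _).mpr hinj
  rw [DimTheory.ringKrullDim_eq_of_integral (MvPolynomial (Fin s) k) A, DimTheory.ringKrullDim_mvPolynomial_fin] at hr
  have hsr : s ≤ r := by exact_mod_cast hr
  obtain ⟨N, g, hg⟩ := Module.Finite.exists_fin (R := MvPolynomial (Fin s) k) (M := A)
  refine ⟨N, fun k' _ _ _ => ?_⟩
  let R : (A →ₐ[k] k') → (Fin s → k') := fun σ i => σ (φ (MvPolynomial.X i))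
  have hR : ∀ σ τ, R σ = R τ → σ.comp φ = τ.comp φ := fun σ τ h => MvPolynomial.algHom_ext fun i => congrFun h i
  have hfib : ∀ (b : Fin s → k') (T : Finset (A →ₐ[k] k')), (∀ σ ∈ T, R σ = b) → T.card ≤ N := by
    intro b T hT
    rcases T.eq_empty_or_nonempty with rfl | ⟨σ₀, hσ₀⟩
    · simp
    · exact card_fibre_le g hg (fun p => σ₀ (φ p)) T fun σ hσ p =>
        AlgHom.congr_fun (hR σ σ₀ ((hT σ hσ).trans (hT σ₀ hσ₀).symm)) p
  haveI : Fintype k' := Fintype.ofFinite k'
  have hb : ∀ T : Finset (A →ₐ[k] k'), T.card ≤ N * Fintype.card k' ^ s := fun T => by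
    refine (Finset.card_le_mul_card_image (f := R) T N fun b _ => hfib b _ (by simp)).trans ?_
    exact Nat.mul_le_mul_left _ ((Finset.card_le_univ _).trans (by simp))
  haveI : Finite (A →ₐ[k] k') := by
    by_contra h
    rw [not_finite_iff_infinite] at h
    obtain ⟨T, hT⟩ := Infinite.exists_subset_card_eq (A →ₐ[k] k') (N * Fintype.card k' ^ s + 1)
    have := hb T
    omega
  haveI := Fintype.ofFinite (A →ₐ[k] k')
  refine ⟨inferInstance, ?_⟩
  rw [Nat.card_eq_fintype_card]
  refine (hb Finset.univ).trans (Nat.mul_le_mul_left _ ?_)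
  have hc : Fintype.card k' = Nat.card k ^ Module.finrank k k' := by
    rw [← Nat.card_eq_fintype_card]
    exact Module.natCard_eq_pow_finrank
  rw [hc, ← pow_mul, mul_comm r]
  exact Nat.pow_le_pow_right Nat.card_pos (Nat.mul_le_mul_left _ hsr)

/-- If X is a variety of dimension r over a finite field k with q elements, there is a constant c_X > 0
with #X(F_{q^e}) ≤ c_X q^{re} for every e ≥ 1. Stated for any scheme of finite type over k of
dimension at most r, with a natural-number constant. -/
theorem result {k : Type u} [Field k] [Finite k] {X : Scheme.{u}}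
    (f : X ⟶ Spec (CommRingCat.of k)) [LocallyOfFiniteType f] [QuasiCompact f] (r : ℕ)
    (hr : topologicalKrullDim X ≤ r) :
    ∃ c : ℕ, ∀ (k' : Type u) [Field k'] [Algebra k k'] [Finite k'],
      SgaExt.pointCount f k' ≤ c * Nat.card k ^ (r * Module.finrank k k') := by
  classical
  haveI : CompactSpace X := QuasiCompact.compactSpace_of_compactSpace f
  obtain ⟨𝒰, hfin⟩ : ∃ 𝒰 : X.OpenCover, Finite 𝒰.I₀ ∧ ∀ i, IsAffine (𝒰.X i) :=
    ⟨X.affineCover.finiteSubcover, inferInstance, fun i => inferInstanceAs (IsAffine (X.affineCover.X _))⟩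
  haveI := hfin.1
  haveI := hfin.2
  let A : 𝒰.I₀ → CommRingCat.{u} := fun i => Γ(𝒰.X i, ⊤)
  let v : ∀ i, Spec (A i) ⟶ X := fun i => (𝒰.X i).isoSpec.inv ≫ 𝒰.f i
  let φ : ∀ i, CommRingCat.of k ⟶ A i := fun i => Spec.preimage (v i ≫ f)
  letI : ∀ i, Algebra k (A i) := fun i => (φ i).hom.toAlgebra
  haveI : ∀ i, Algebra.FiniteType k (A i) := fun i => by
    have h : LocallyOfFiniteType (Spec.map (φ i)) := by
      rw [Spec.map_preimage]
      infer_instance
    exact (HasRingHomProperty.Spec_iff (P := @LocallyOfFiniteType)).1 h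
  have hdim : ∀ i, ringKrullDim (A i) ≤ r := fun i => by
    rw [← PrimeSpectrum.topologicalKrullDim_eq_ringKrullDim]
    exact le_trans (v i).isOpenEmbedding.isInducing.topologicalKrullDim_le hr
  choose c hc using fun i => exists_bound (k := k) (A := A i) r (hdim i)
  haveI := Fintype.ofFinite 𝒰.I₀
  refine ⟨∑ i, c i, fun k' _ _ _ => ?_⟩
  haveI : ∀ i, Finite (A i →ₐ[k] k') := fun i => (hc i k').1
  let S := { g : Spec (CommRingCat.of k') ⟶ X // g ≫ f = Spec.map (CommRingCat.ofHom (algebraMap k k')) }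
  have hlift : ∀ g : S, ∃ t : Σ i, A i →ₐ[k] k', Spec.map (CommRingCat.ofHom t.2.toRingHom) ≫ v t.1 = g.1 := by
    intro g
    obtain ⟨i, y, hy⟩ : ∃ i y, (v i).base y = g.1.base default := by
      obtain ⟨i, z, hz⟩ := 𝒰.exists_eq (g.1.base default)
      exact ⟨i, (𝒰.X i).isoSpec.hom.base z, by
        rw [← Scheme.Hom.comp_apply, Iso.hom_inv_id_assoc]
        exact hz⟩
    have hrg : Set.range g.1.base ⊆ Set.range (v i).base := by
      rintro _ ⟨w, rfl⟩
      rw [Subsingleton.elim w default]
      exact ⟨y, hy⟩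
    obtain ⟨m, hm⟩ : ∃ m : A i ⟶ CommRingCat.of k', Spec.map m = IsOpenImmersion.lift (v i) g.1 hrg :=
      ⟨Spec.preimage _, Spec.map_preimage _⟩
    have hcomp : φ i ≫ m = CommRingCat.ofHom (algebraMap k k') := by
      apply Spec.map_injective
      rw [Spec.map_comp, Spec.map_preimage, hm, IsOpenImmersion.lift_fac_assoc, g.2]
    refine ⟨⟨i, ⟨m.hom, fun a => congrArg (fun h => h.hom a) hcomp⟩⟩, ?_⟩
    show Spec.map m ≫ v i = g.1
    rw [hm, IsOpenImmersion.lift_fac]
  choose L hL using hlift
  refine (Nat.card_le_card_of_injective L fun a b h => Subtype.ext ((hL a).symm.trans ((congrArg (fun t : (Σ i, A i →ₐ[k] k') => Spec.map (CommRingCat.ofHom t.2.toRingHom) ≫ v t.1) h).trans (hL b)))).trans ?_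
  rw [Nat.card_sigma, Finset.sum_mul]
  exact Finset.sum_le_sum fun i _ => (hc i k').2

end Groth.Agent.S13062
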