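import Groth.Statements.S13065
import Mathlib

set_option autoImplicit false
universe u
open Zeta

namespace Groth.Agent.S13065

/-- Let k be a finite field with q elements and characteristic p, n ≥ 2, and f ∈ k[x_0, …, x_n]
homogeneous of degree n + 1, defining the hypersurface Z ⊂ P^n_k. Then #Z(F_q) ≢ 1 (mod p) if and
only if the coefficient of (x_0 ⋯ x_n)^{q−1} in f^{q−1} is nonzero. Stated through the affine count:
#Z(F_q) ≡ 1 (mod p) exactly when p divides the number of zeros of f in k^{n+1} (as (q − 1) #Z(F_q) +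
1 is that number). -/
theorem result {k : Type u} [Field k] [Finite k] (p : ℕ)
    [CharP k p] (n : ℕ) (hn : 2 ≤ n) (f : MvPolynomial (Fin (n + 1)) k)
    (hf : f.IsHomogeneous (n + 1)) :
    p ∣ Nat.card {a : Fin (n + 1) → k // MvPolynomial.eval a f = 0} ↔
      MvPolynomial.coeff (Finsupp.equivFunOnFinite.symm fun _ : Fin (n + 1) => Nat.card k - 1)
        (f ^ (Nat.card k - 1)) = 0 := by
  classical
  haveI := Fintype.ofFinite k
  set q := Nat.card k with hq
  have hq' : q = Fintype.card k := Nat.card_eq_fintype_card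
  have hq1 : 1 < q := hq' ▸ Fintype.one_lt_card
  have h1 : ∀ a : Fin (n + 1) → k, (if MvPolynomial.eval a f = 0 then (1 : k) else 0) =
      1 - MvPolynomial.eval a (f ^ (q - 1)) := by
    intro a
    rw [map_pow]
    by_cases h : MvPolynomial.eval a f = 0
    · simp [h, Nat.sub_ne_zero_of_lt hq1]
    · simp [h, hq', FiniteField.pow_card_sub_one_eq_one _ h]
  have hmon : ∀ d ∈ (f ^ (q - 1)).support,
      ∑ a : Fin (n + 1) → k, ∏ i, a i ^ d i =
        if d = Finsupp.equivFunOnFinite.symm (fun _ : Fin (n + 1) => q - 1) then (-1 : k) ^ (n + 1) else 0 := by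
    intro d hd
    rw [← Fintype.prod_sum (fun (i : Fin (n + 1)) (x : k) => x ^ d i)]
    by_cases hlt : ∃ i, d i < q - 1
    · obtain ⟨i, hi⟩ := hlt
      rw [Finset.prod_eq_zero (Finset.mem_univ i) (FiniteField.sum_pow_lt_card_sub_one k _ (hq' ▸ hi)), if_neg]
      intro h; rw [h] at hi; simp at hi
    · push Not at hlt
      have hdeg : ∑ i, d i = ∑ _i : Fin (n + 1), (q - 1) := by
        have := (hf.pow (q - 1)) (MvPolynomial.mem_support_iff.1 hd)
        rw [Finsupp.weight_apply, Finsupp.sum_fintype _ _ (by simp)] at this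
        simpa [mul_comm] using this
      have hde : ∀ i, d i = q - 1 := fun i =>
        ((Finset.sum_eq_sum_iff_of_le (fun i _ => hlt i)).1 hdeg.symm i (Finset.mem_univ i)).symm
      rw [if_pos (Finsupp.ext fun i => by simp [hde])]
      have : ∑ x : k, x ^ (q - 1) = -1 := by
        rw [← Finset.sum_erase_add _ _ (Finset.mem_univ (0 : k)), zero_pow (Nat.sub_ne_zero_of_lt hq1), add_zero,
          Finset.sum_congr rfl (fun x hx => by rw [hq', FiniteField.pow_card_sub_one_eq_one _ (Finset.ne_of_mem_erase hx)]),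
          Finset.sum_const, Finset.card_erase_of_mem (Finset.mem_univ _), Finset.card_univ, nsmul_eq_mul, mul_one,
          Nat.cast_sub Fintype.card_pos, Nat.cast_card_eq_zero]
        simp
      simp [hde, this]
  have key : ((Nat.card {a : Fin (n + 1) → k // MvPolynomial.eval a f = 0} : ℕ) : k) =
      -((-1) ^ (n + 1) * MvPolynomial.coeff (Finsupp.equivFunOnFinite.symm fun _ : Fin (n + 1) => q - 1) (f ^ (q - 1))) := by
    rw [Nat.card_eq_fintype_card, Fintype.card_subtype, ← Finset.sum_boole, Finset.sum_congr rfl (fun a _ => h1 a),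
      Finset.sum_sub_distrib]
    simp only [Finset.sum_const, Finset.card_univ, Fintype.card_fun, Fintype.card_fin, nsmul_eq_mul, mul_one,
      Nat.cast_pow, Nat.cast_card_eq_zero, zero_pow (Nat.succ_ne_zero n), zero_sub]
    congr 1
    simp only [MvPolynomial.eval_eq', Finset.mul_sum]
    rw [Finset.sum_comm]
    simp only [← Finset.mul_sum]
    rw [Finset.sum_congr rfl (fun d hd => by rw [hmon d hd])]
    simp only [mul_ite, mul_zero, Finset.sum_ite_eq']
    split_ifs with h
    · ring
    · rw [MvPolynomial.notMem_support_iff.1 h, mul_zero]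
  rw [← CharP.cast_eq_zero_iff k p, key, neg_eq_zero, mul_eq_zero, or_iff_right (pow_ne_zero _ (by simp))]

end Groth.Agent.S13065
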