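import Groth.Statements.S13067
import Mathlib
import Groth.Prelude.Def_FinFr

set_option autoImplicit false
universe u
open CategoryTheory AlgebraicGeometry Limits
open Zeta

namespace Groth.Agent.S13067

set_option maxHeartbeats 1000000
set_option backward.isDefEq.respectTransparency.types false

open TensorProduct

theorem frob_apply (k R : Type u) [Field k] [Fintype k] [CommRing R] [Algebra k R] (x : R) :
    FiniteField.frobeniusAlgHom k R x = x ^ Nat.card k := by
  rw [FiniteField.coe_frobeniusAlgHom, Fintype.card_eq_nat_card]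

/-- `A/(a^q - a)` tensor a field is reduced -/
theorem isReduced_tensor_of_pow_eq (k : Type u) [Field k] [Finite k] (A' K : Type u) [CommRing A']
    [Algebra k A'] [Field K] [Algebra k K] (hA : ∀ a : A', a ^ Nat.card k = a) :
    _root_.IsReduced (A' ⊗[k] K) := by
  letI := Fintype.ofFinite k
  have hq : Fintype.card k = Nat.card k := Fintype.card_eq_nat_card
  let φ : K →ₐ[k] K := FiniteField.frobeniusAlgHom k K
  have hinj : Function.Injective (Algebra.TensorProduct.map (AlgHom.id k A') φ) :=
    Module.Flat.lTensor_preserves_injective_linearMap φ.toLinearMap φ.toRingHom.injective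
  have key : ∀ x : A' ⊗[k] K, x ^ Nat.card k = Algebra.TensorProduct.map (AlgHom.id k A') φ x := by
    intro x
    have h : (FiniteField.frobeniusAlgHom k (A' ⊗[k] K)) = Algebra.TensorProduct.map (AlgHom.id k A') φ := by
      refine Algebra.TensorProduct.ext' fun a c => ?_
      simp only [φ, Algebra.TensorProduct.map_tmul, AlgHom.id_apply, frob_apply, Algebra.TensorProduct.tmul_pow, hA]
    rw [← h, frob_apply]
  refine isReduced_iff_pow_one_lt (Nat.card k) Finite.one_lt_card |>.mpr fun x hx => ?_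
  rw [key] at hx
  exact hinj (by rw [hx, map_zero])

theorem isReduced_fix {k : Type u} [Field k] [Finite k] (K : Type u) [Field K] [Algebra k K]
    {X : Scheme.{u}} (f : X ⟶ Spec (CommRingCat.of k)) (FX : X ⟶ X)
    (hle : ∀ U : X.Opens, U ≤ FX ⁻¹ᵁ U)
    (hFapp : ∀ (U : X.Opens) (s : Γ(X, U)), (FX.appLE U U (hle U)).hom s = s ^ Nat.card k)
    (F : FinFr.ext K f ⟶ FinFr.ext K f)
    (hF1 : F ≫ FinFr.extπ K f = FinFr.extπ K f ≫ FX)
    (hF2 : F ≫ FinFr.extStr K f = FinFr.extStr K f) :
    IsReduced (FinFr.fixScheme (FinFr.extStr K f) F hF2) := by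
  classical
  letI := Fintype.ofFinite k
  have hq : Fintype.card k = Nat.card k := Fintype.card_eq_nat_card
  let p := FinFr.extStr K f
  let Z := FinFr.fixScheme p F hF2
  let gr : FinFr.ext K f ⟶ pullback p p :=
    pullback.lift (𝟙 _) F (by rw [hF2, Category.id_comp])
  let dia : FinFr.ext K f ⟶ pullback p p := pullback.lift (𝟙 _) (𝟙 _) rfl
  let i : Z ⟶ FinFr.ext K f := pullback.fst gr dia
  haveI : Mono dia := mono_of_mono_fac (pullback.lift_fst (𝟙 _) (𝟙 _) rfl)
  haveI : Mono i := show Mono (pullback.fst gr dia) from inferInstance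
  have hiF : i ≫ F = i := by
    have h1 := congrArg (· ≫ pullback.fst p p) (pullback.condition (f := gr) (g := dia))
    have h2 := congrArg (· ≫ pullback.snd p p) (pullback.condition (f := gr) (g := dia))
    simp only [gr, dia, Category.assoc, pullback.lift_fst, pullback.lift_snd, Category.comp_id] at h1 h2
    rw [← h1] at h2
    exact h2
  suffices h : ∀ z : Z, ∃ (W : Scheme.{u}) (s : W ⟶ Z),
      IsOpenImmersion s ∧ IsReduced W ∧ z ∈ Set.range s by
    choose W s h1 h2 h3 using h
    haveI : ∀ x : Z, _root_.IsReduced (Z.presheaf.stalk x) := fun x => by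
      obtain ⟨y, hy⟩ := h3 x
      haveI := h1 x
      haveI := h2 x
      rw [← hy]
      haveI : IsIso ((s x).stalkMap y) := inferInstance
      exact isReduced_of_injective ((s x).stalkMap y).hom
        (ConcreteCategory.bijective_of_isIso ((s x).stalkMap y)).1
    exact isReduced_of_isReduced_stalk Z
  intro z
  obtain ⟨U, hU, hzU, -⟩ := exists_isAffineOpen_mem_and_subset (x := (i ≫ FinFr.extπ K f) z)
    (U := (⊤ : X.Opens)) trivial
  let A := Γ(X, U)
  letI algA : Algebra k A := (Spec.preimage (hU.fromSpec ≫ f)).hom.toAlgebra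
  have hAf : Spec.map (CommRingCat.ofHom (algebraMap k A)) = hU.fromSpec ≫ f := by
    show Spec.map (CommRingCat.ofHom (Spec.preimage (hU.fromSpec ≫ f)).hom) = _
    exact Spec.map_preimage _
  let frA : (A : Type u) →ₐ[k] A := FiniteField.frobeniusAlgHom k A
  let inA : (A : Type u) →+* (A : Type u) ⊗[k] K := Algebra.TensorProduct.includeLeftRingHom
  let inK : K →+* (A : Type u) ⊗[k] K := Algebra.TensorProduct.includeRight.toRingHom
  let Φ : (A : Type u) ⊗[k] K →ₐ[k] (A : Type u) ⊗[k] K :=
    Algebra.TensorProduct.map frA (AlgHom.id k K)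
  let j : Spec (CommRingCat.of ((A : Type u) ⊗[k] K)) ⟶ FinFr.ext K f :=
    (pullbackSpecIso k A K).inv ≫ pullback.map _ _ f (FinFr.specι k K) hU.fromSpec (𝟙 _) (𝟙 _)
      (by rw [Category.comp_id]; exact hAf) (by simp)
  have hjfst : j ≫ FinFr.extπ K f = Spec.map (CommRingCat.ofHom inA) ≫ hU.fromSpec := by
    rw [Category.assoc, pullback.lift_fst, ← Category.assoc, pullbackSpecIso_inv_fst]
  have hjsnd : j ≫ p = Spec.map (CommRingCat.ofHom inK) := by
    show j ≫ pullback.snd f (FinFr.specι k K) = _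
    rw [Category.assoc, pullback.lift_snd, Category.comp_id, pullbackSpecIso_inv_snd]
    rfl
  haveI hjo : IsOpenImmersion j := by
    dsimp only [j]
    infer_instance
  have hzj : i z ∈ Set.range j := by
    show i z ∈ Set.range (_ ≫ _ : Spec _ ⟶ FinFr.ext K f)
    rw [Scheme.Hom.comp_base, TopCat.coe_comp, Set.range_comp, Set.range_eq_univ.mpr
      (ConcreteCategory.bijective_of_isIso ((pullbackSpecIso k A K).inv.base)).2, Set.image_univ,
      Scheme.Pullback.range_map]
    refine ⟨?_, ?_⟩
    · show (i ≫ FinFr.extπ K f) z ∈ Set.range hU.fromSpec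
      rw [IsAffineOpen.range_fromSpec]
      exact hzU
    · simp
  have hjF : j ≫ F = Spec.map (CommRingCat.ofHom Φ.toRingHom) ≫ j := by
    apply pullback.hom_ext
    · show (j ≫ F) ≫ FinFr.extπ K f = (_ ≫ j) ≫ FinFr.extπ K f
      have hfr : hU.fromSpec ≫ FX = Spec.map (CommRingCat.ofHom frA.toRingHom) ≫ hU.fromSpec := by
        rw [← IsAffineOpen.SpecMap_appLE_fromSpec FX hU hU (hle U)]
        congr 2
        refine CommRingCat.hom_ext (RingHom.ext fun s => ?_)
        show (FX.appLE U U (hle U)).hom s = frA s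
        rw [hFapp]
        exact (frob_apply k (A : Type u) s).symm
      rw [Category.assoc, hF1, ← Category.assoc, hjfst, Category.assoc, hfr, Category.assoc, hjfst,
        ← Category.assoc, ← Category.assoc, ← Spec.map_comp, ← Spec.map_comp]
      congr 2
    · show (j ≫ F) ≫ p = (_ ≫ j) ≫ p
      rw [Category.assoc, show F ≫ p = p from hF2, hjsnd, Category.assoc, hjsnd, ← Spec.map_comp]
      congr 1
      refine CommRingCat.hom_ext (RingHom.ext fun s => ?_)
      show inK s = Φ (inK s)
      simp [inK, Φ]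
  let I : Ideal (A : Type u) := Ideal.span (Set.range fun a : (A : Type u) => a ^ Nat.card k - a)
  have hA' : ∀ a : (A : Type u) ⧸ I, a ^ Nat.card k = a := by
    intro a
    obtain ⟨a, rfl⟩ := Ideal.Quotient.mk_surjective a
    rw [← map_pow, Ideal.Quotient.eq]
    exact Ideal.subset_span ⟨a, rfl⟩
  haveI := isReduced_tensor_of_pow_eq k ((A : Type u) ⧸ I) K hA'
  let ψ : (A : Type u) ⊗[k] K →ₐ[k] ((A : Type u) ⧸ I) ⊗[k] K :=
    Algebra.TensorProduct.map (Ideal.Quotient.mkₐ k I) (AlgHom.id k K)
  have hψs : Function.Surjective ψ := by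
    show Function.Surjective (TensorProduct.map (Ideal.Quotient.mkₐ k I).toLinearMap
      (AlgHom.id k K).toLinearMap)
    exact TensorProduct.map_surjective Ideal.Quotient.mk_surjective Function.surjective_id
  haveI : IsClosedImmersion (Spec.map (CommRingCat.ofHom ψ.toRingHom)) :=
    IsClosedImmersion.spec_of_surjective _ hψs
  have hψΦ : ψ.comp Φ = ψ := by
    refine Algebra.TensorProduct.ext' fun a c => ?_
    simp only [ψ, Φ, AlgHom.comp_apply, Algebra.TensorProduct.map_tmul, AlgHom.id_apply]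
    congr 1
    show Ideal.Quotient.mk I (frA a) = Ideal.Quotient.mk I a
    rw [show frA a = a ^ Nat.card k from frob_apply k (A : Type u) a, map_pow, hA']
  let jq : Spec (CommRingCat.of (((A : Type u) ⧸ I) ⊗[k] K)) ⟶ FinFr.ext K f :=
    Spec.map (CommRingCat.ofHom ψ.toRingHom) ≫ j
  have hjqF : jq ≫ F = jq := by
    rw [Category.assoc, hjF, ← Category.assoc, ← Spec.map_comp]
    congr 2
    refine CommRingCat.hom_ext ?_
    exact congrArg AlgHom.toRingHom hψΦ
  let uq : Spec (CommRingCat.of (((A : Type u) ⧸ I) ⊗[k] K)) ⟶ Z :=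
    pullback.lift jq jq (by
      apply pullback.hom_ext
      · simp only [gr, dia, Category.assoc]
        erw [pullback.lift_fst, pullback.lift_fst]
      · simp only [gr, dia, Category.assoc]
        erw [pullback.lift_snd, pullback.lift_snd, hjqF, Category.comp_id])
  let W := pullback i j
  let t : W ⟶ Spec (CommRingCat.of ((A : Type u) ⊗[k] K)) := pullback.snd i j
  have ht : t ≫ Spec.map (CommRingCat.ofHom Φ.toRingHom) = t := by
    rw [← cancel_mono j, Category.assoc, ← hjF, ← Category.assoc]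
    show (pullback.snd i j ≫ j) ≫ F = _
    rw [← pullback.condition, Category.assoc, hiF, pullback.condition]
  let h : CommRingCat.of ((A : Type u) ⊗[k] K) ⟶ Γ(W, ⊤) := (Scheme.ΓSpecIso _).inv ≫ t.appTop
  have hth : t = W.toSpecΓ ≫ Spec.map h := by
    rw [Spec.map_comp, ← Category.assoc, ← Scheme.toSpecΓ_naturality, Category.assoc,
      toSpecΓ_SpecMap_ΓSpecIso_inv, Category.comp_id]
  have hhΦ : ∀ x, h.hom (Φ x) = h.hom x := by
    intro x
    have h2 := congrArg Scheme.Hom.appTop ht
    rw [Scheme.Hom.comp_appTop] at h2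
    have h3 : CommRingCat.ofHom Φ.toRingHom ≫ h = h := by
      show _ ≫ (Scheme.ΓSpecIso _).inv ≫ t.appTop = (Scheme.ΓSpecIso _).inv ≫ t.appTop
      rw [← Category.assoc, Scheme.ΓSpecIso_inv_naturality, Category.assoc, h2]
    exact congrArg (fun g => g.hom x) h3
  letI : Algebra k Γ(W, ⊤) := (h.hom.comp (algebraMap k ((A : Type u) ⊗[k] K))).toAlgebra
  let ha : (A : Type u) ⊗[k] K →ₐ[k] Γ(W, ⊤) := AlgHom.mk h.hom fun _ => rfl
  let h1 : ((A : Type u) ⧸ I) →ₐ[k] Γ(W, ⊤) :=
    Ideal.Quotient.liftₐ I (ha.comp Algebra.TensorProduct.includeLeft) (by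
      have : I ≤ RingHom.ker (ha.comp Algebra.TensorProduct.includeLeft) := by
        rw [Ideal.span_le]
        rintro _ ⟨a, rfl⟩
        rw [SetLike.mem_coe, RingHom.mem_ker, map_sub, sub_eq_zero]
        show h.hom ((a ^ Nat.card k) ⊗ₜ[k] 1) = h.hom (a ⊗ₜ[k] 1)
        rw [← hhΦ (a ⊗ₜ[k] 1)]
        simp [Φ, frA, frob_apply]
      intro a ha'
      exact this ha')
  let hQ : ((A : Type u) ⧸ I) ⊗[k] K →ₐ[k] Γ(W, ⊤) :=
    Algebra.TensorProduct.lift h1 (ha.comp Algebra.TensorProduct.includeRight)
      (fun _ _ => Commute.all _ _)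
  have hfac : hQ.comp ψ = ha := by
    refine Algebra.TensorProduct.ext' fun a c => ?_
    simp only [hQ, ψ, AlgHom.comp_apply, Algebra.TensorProduct.map_tmul, AlgHom.id_apply,
      Algebra.TensorProduct.lift_tmul]
    show ha (a ⊗ₜ[k] 1) * ha (1 ⊗ₜ[k] c) = ha (a ⊗ₜ[k] c)
    rw [← map_mul]
    simp
  let w1 : W ⟶ Spec (CommRingCat.of (((A : Type u) ⧸ I) ⊗[k] K)) :=
    W.toSpecΓ ≫ Spec.map (CommRingCat.ofHom hQ.toRingHom)
  have hw1 : w1 ≫ Spec.map (CommRingCat.ofHom ψ.toRingHom) = t := by
    rw [Category.assoc, ← Spec.map_comp, hth]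
    congr 2
    exact CommRingCat.hom_ext (congrArg AlgHom.toRingHom hfac)
  let w2 : Spec (CommRingCat.of (((A : Type u) ⧸ I) ⊗[k] K)) ⟶ W :=
    pullback.lift uq (Spec.map (CommRingCat.ofHom ψ.toRingHom)) (pullback.lift_fst _ _ _)
  haveI : Mono t := show Mono (pullback.snd i j) from inferInstance
  let e : W ≅ Spec (CommRingCat.of (((A : Type u) ⧸ I) ⊗[k] K)) :=
    { hom := w1
      inv := w2
      hom_inv_id := by
        rw [← cancel_mono t, Category.assoc, Category.id_comp]
        show w1 ≫ w2 ≫ pullback.snd i j = _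
        rw [pullback.lift_snd, hw1]
      inv_hom_id := by
        rw [← cancel_mono (Spec.map (CommRingCat.ofHom ψ.toRingHom)), Category.assoc, hw1,
          Category.id_comp]
        exact pullback.lift_snd _ _ _ }
  haveI : IsIso e.hom := e.isIso_hom
  haveI : IsOpenImmersion e.hom := IsOpenImmersion.of_isIso _
  refine ⟨W, pullback.fst i j, inferInstance, isReduced_of_isOpenImmersion e.hom, ?_⟩
  rw [Scheme.Pullback.range_fst]
  exact hzj

/-- Let X be smooth over a finite field k = F_q, k̄ an algebraic closure, and F = Frob_{X,q} × id the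
k̄-endomorphism of X̄ = X ×_k k̄ induced by the q-Frobenius of X. Then the intersection Γ_F ∩ Δ of
the graph of F with the diagonal in X̄ ×_{k̄} X̄ is a reduced (finite) scheme. The published
statement is for the graph of F^r, r ≥ 1; that case is this one applied to X ×_k F_{q^r}, whose
q^r-Frobenius induces F^r on X̄. The q-Frobenius F_X is pinned as the endomorphism that is the
identity on points and raises sections to the q-th power, and F by F ≫ pr_1 = pr_1 ≫ F_X and F ≫
pr_2 = pr_2. -/
theorem result {k : Type u} [Field k] [Finite k]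
    {X : Scheme.{u}} (f : X ⟶ Spec (CommRingCat.of k)) [Smooth f] (FX : X ⟶ X)
    (hFb : FX.base = 𝟙 _) (hle : ∀ U : X.Opens, U ≤ FX ⁻¹ᵁ U)
    (hFapp : ∀ (U : X.Opens) (s : Γ(X, U)), (FX.appLE U U (hle U)).hom s = s ^ Nat.card k)
    (F : FinFr.ext (AlgebraicClosure k) f ⟶ FinFr.ext (AlgebraicClosure k) f)
    (hF1 : F ≫ FinFr.extπ (AlgebraicClosure k) f = FinFr.extπ (AlgebraicClosure k) f ≫ FX)
    (hF2 : F ≫ FinFr.extStr (AlgebraicClosure k) f = FinFr.extStr (AlgebraicClosure k) f) :
    IsReduced (FinFr.fixScheme (FinFr.extStr (AlgebraicClosure k) f) F hF2) := by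
  exact isReduced_fix (AlgebraicClosure k) f FX hle hFapp F hF1 hF2

end Groth.Agent.S13067
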