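import Groth.Statements.S13070
import Mathlib
import Groth.Agent.CAlgH.PointCount

set_option autoImplicit false
universe u
open CategoryTheory AlgebraicGeometry
open Zeta

namespace Groth.Agent.S13070

/-- For an arithmetic scheme X (of finite type over ℤ) of dimension r there are c_X > 0 and p₀ such that
#X(F_{p^m}) ≤ c_X p^{m(r−1)} for all primes p ≥ p₀ and m ≥ 1, and #X(F_{p^m}) ≤ c_X p^{mr} for p <
p₀ and m ≥ 1. Here #X(F) is the number of morphisms Spec F → X, and the dimension is only assumed ≤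
r. -/
theorem result {X : Scheme.{u}}
    (f : X ⟶ Spec (CommRingCat.of (ULift.{u} ℤ))) [LocallyOfFiniteType f] [QuasiCompact f] (r : ℕ)
    (hr : topologicalKrullDim X ≤ r) :
    ∃ (c : ℝ) (p₀ : ℕ), 0 < c ∧ ∀ (p m : ℕ), p.Prime → 1 ≤ m →
      ∀ (F : Type u) [Field F], Nat.card F = p ^ m →
        (p₀ ≤ p → (Nat.card (Spec (CommRingCat.of F) ⟶ X) : ℝ) ≤
            c * (p : ℝ) ^ ((m : ℝ) * ((r : ℝ) - 1))) ∧
        (p < p₀ → (Nat.card (Spec (CommRingCat.of F) ⟶ X) : ℝ) ≤ c * (p : ℝ) ^ ((m : ℝ) * r)) := by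
  obtain ⟨s, hs⟩ : ∃ s : Finset X.affineOpens, ∀ x : X, ∃ U ∈ s, x ∈ (U : X.Opens) := by
    haveI : CompactSpace X := QuasiCompact.compactSpace_of_compactSpace f
    obtain ⟨t, ht⟩ := isCompact_univ.elim_finite_subcover (fun U : X.affineOpens => ((U : X.Opens) : Set X))
      (fun U => (U : X.Opens).2) (fun x _ => by
        have : x ∈ (⨆ U : X.affineOpens, (U : X.Opens)) := by rw [iSup_affineOpens_eq_top]; trivial
        obtain ⟨U, hU⟩ := TopologicalSpace.Opens.mem_iSup.mp this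
        exact Set.mem_iUnion.mpr ⟨U, hU⟩)
    refine ⟨t, fun x => ?_⟩
    obtain ⟨U, hUt, hxU⟩ := Set.mem_iUnion₂.mp (ht (Set.mem_univ x))
    exact ⟨U, hUt, hxU⟩
  have hft : ∀ U : X.affineOpens, Algebra.FiniteType ℤ Γ(X, U) := by
    intro U
    haveI : IsAffine (Spec (CommRingCat.of (ULift.{u} ℤ))) := inferInstance
    have h1 := f.finiteType_appLE (isAffineOpen_top _) U.2 (e := fun x _ => trivial)
    let e : ℤ →+* Γ(Spec (CommRingCat.of (ULift.{u} ℤ)), ⊤) :=
      (Scheme.ΓSpecIso (CommRingCat.of (ULift.{u} ℤ))).inv.hom.comp ULift.ringEquiv.symm.toRingHom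
    have he : Function.Surjective e :=
      ((ConcreteCategory.bijective_of_isIso (Scheme.ΓSpecIso (CommRingCat.of (ULift.{u} ℤ))).inv).2).comp
        ULift.ringEquiv.symm.surjective
    have h2 := h1.comp (RingHom.FiniteType.of_surjective e he)
    refine RingHom.finiteType_algebraMap.mp ?_
    convert h2 using 1
    exact RingHom.ext_int _ _
  have hdim : ∀ U : X.affineOpens, ringKrullDim Γ(X, U) ≤ r := by
    intro U
    rw [← PrimeSpectrum.topologicalKrullDim_eq_ringKrullDim]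
    refine le_trans ?_ hr
    exact (U.2.fromSpec.isOpenEmbedding.isInducing).topologicalKrullDim_le
  choose M c₁ hM hc₁ using fun U : X.affineOpens => @CAlgH.PointCount.count_generic.{u, u} Γ(X, U) _ (hft U) r (hdim U)
  choose c₂ hc₂ using fun (U : X.affineOpens) (p : Nat.Primes) =>
    @CAlgH.PointCount.count_char.{u, u} Γ(X, U) _ (hft U) r (hdim U) p ⟨p.2⟩
  classical
  let p₀ : ℕ := (s.sup fun U => (M U).natAbs) + 1
  let c₂' : X.affineOpens → ℕ → ℕ := fun U q => if hq : q.Prime then c₂ U ⟨q, hq⟩ else 0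
  let C : ℕ := (∑ U ∈ s, c₁ U) + (∑ q ∈ Finset.range p₀, ∑ U ∈ s, c₂' U q) + 1
  refine ⟨C, p₀, by positivity, fun p m hp hm F _ hF => ?_⟩
  haveI : Finite F := Nat.finite_of_card_ne_zero (by rw [hF]; exact pow_ne_zero _ hp.ne_zero)
  haveI := Fintype.ofFinite F
  have hpF : (p : F) = 0 := by
    have h1 : ((Fintype.card F : ℕ) : F) = 0 := FiniteField.cast_card_eq_zero F
    rw [← Nat.card_eq_fintype_card, hF, Nat.cast_pow] at h1
    exact pow_eq_zero_iff (by omega) |>.mp h1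
  haveI : CharP F p := (CharP.charP_iff_prime_eq_zero hp).mpr hpF
  let Φ : (Σ U : s, (Γ(X, (U : X.affineOpens)) →+* F)) → (Spec (CommRingCat.of F) ⟶ X) := fun z =>
    Spec.map (CommRingCat.ofHom z.2) ≫ z.1.1.2.fromSpec
  have hΦ : Function.Surjective Φ := by
    intro g
    let pt : Spec (CommRingCat.of F) := (default : PrimeSpectrum F)
    obtain ⟨U, hUs, hU⟩ := hs (g.base pt)
    have hrange : Set.range g.base ⊆ Set.range U.2.fromSpec.base := by
      rw [U.2.range_fromSpec]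
      rintro _ ⟨y, rfl⟩
      rwa [show y = pt from Subsingleton.elim (α := PrimeSpectrum F) _ _]
    let l : Spec (CommRingCat.of F) ⟶ Spec Γ(X, U) := IsOpenImmersion.lift U.2.fromSpec g hrange
    refine ⟨⟨⟨U, hUs⟩, (Spec.preimage l).hom⟩, ?_⟩
    show Spec.map (CommRingCat.ofHom (Spec.preimage l).hom) ≫ U.2.fromSpec = g
    rw [CommRingCat.ofHom_hom, Spec.map_preimage]
    exact IsOpenImmersion.lift_fac _ _ _
  have hbound : ∀ b : X.affineOpens → ℕ, (∀ U ∈ s, Finite (Γ(X, U) →+* F) ∧ Nat.card (Γ(X, U) →+* F) ≤ b U) →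
      Nat.card (Spec (CommRingCat.of F) ⟶ X) ≤ ∑ U ∈ s, b U := by
    intro b hb
    haveI : ∀ U : s, Finite (Γ(X, (U : X.affineOpens)) →+* F) := fun U => (hb U U.2).1
    refine (Nat.card_le_card_of_surjective Φ hΦ).trans ?_
    rw [Nat.card_sigma, ← Finset.sum_coe_sort s b]
    exact Finset.sum_le_sum fun U _ => (hb U U.2).2
  have hq : (Nat.card F : ℝ) = (p : ℝ) ^ m := by rw [hF, Nat.cast_pow]
  have hp0 : (0 : ℝ) < p := by exact_mod_cast hp.pos
  constructor
  · intro hpp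
    have hMF : ∀ U ∈ s, (M U : F) ≠ 0 := fun U hU h => by
      have h1 : (p : ℤ) ∣ M U := (CharP.intCast_eq_zero_iff F p _).mp h
      have h2 := Nat.le_of_dvd (Int.natAbs_pos.mpr (hM U)) (by simpa using Int.natAbs_dvd_natAbs.mpr h1)
      have h3 := Finset.le_sup (f := fun U => (M U).natAbs) hU
      simp only [p₀] at hpp; omega
    have h1 : Nat.card (Spec (CommRingCat.of F) ⟶ X) * Nat.card F ≤ C * Nat.card F ^ r := by
      refine (Nat.mul_le_mul_right _ (hbound (fun U => Nat.card (Γ(X, U) →+* F)) fun U hU =>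
        ⟨(hc₁ U F (hMF U hU)).1, le_rfl⟩)).trans ?_
      rw [Finset.sum_mul]
      refine (Finset.sum_le_sum fun U hU => (hc₁ U F (hMF U hU)).2).trans ?_
      rw [← Finset.sum_mul]
      exact Nat.mul_le_mul_right _ (by simp only [C]; omega)
    have h2 : (Nat.card (Spec (CommRingCat.of F) ⟶ X) : ℝ) * (p : ℝ) ^ m ≤ (C : ℝ) * ((p : ℝ) ^ m) ^ r := by
      rw [← hq]; exact_mod_cast h1
    rw [← le_div_iff₀ (by positivity)] at h2
    refine h2.trans (le_of_eq ?_)
    rw [mul_div_assoc, ← Real.rpow_natCast (p : ℝ) m, ← Real.rpow_natCast ((p : ℝ) ^ (m : ℝ)) r,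
      ← Real.rpow_mul hp0.le, ← Real.rpow_sub hp0, mul_sub, mul_one]
  · intro hpp
    have h1 : Nat.card (Spec (CommRingCat.of F) ⟶ X) ≤ C * Nat.card F ^ r := by
      refine (hbound _ fun U _ => hc₂ U ⟨p, hp⟩ F hpF).trans ?_
      rw [← Finset.sum_mul]
      refine Nat.mul_le_mul_right _ ?_
      have h3 : ∑ U ∈ s, c₂ U ⟨p, hp⟩ = ∑ U ∈ s, c₂' U p := Finset.sum_congr rfl fun U _ => by simp [c₂', hp]
      have h4 := Finset.single_le_sum (f := fun q => ∑ U ∈ s, c₂' U q) (fun _ _ => Nat.zero_le _) (Finset.mem_range.mpr hpp)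
      simp only [C]; omega
    calc (Nat.card (Spec (CommRingCat.of F) ⟶ X) : ℝ) ≤ (C : ℝ) * ((p : ℝ) ^ m) ^ r := by
          rw [← hq]; exact_mod_cast h1
      _ = _ := by rw [← pow_mul, ← Nat.cast_mul, Real.rpow_natCast]

end Groth.Agent.S13070
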