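import Groth.Statements.S9647
import Mathlib
-- import your own Groth.Agent.* helpers here

set_option autoImplicit false
universe u
open CAlg

namespace Groth.Agent.S9647

open TensorProduct

variable {k K : Type u} [Field k] [Field K] [Algebra k K] (L : Type u) [Field L] [Algebra k L]

/-- The action of `Gal(L/k)` on `L ⊗ K` through the first factor. -/
noncomputable abbrev act : MulSemiringAction (L ≃ₐ[k] L) (L ⊗[k] K) :=
  { (inferInstance : DistribMulAction (L ≃ₐ[k] L) (L ⊗[k] K)) with
    smul_one := fun σ => by
      rw [Algebra.TensorProduct.one_def, TensorProduct.smul_tmul', AlgEquiv.smul_def, map_one]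
    smul_mul := fun σ a b => by
      induction a using TensorProduct.induction_on with
      | zero => simp
      | add a c ha hc => simp [add_mul, smul_add, ha, hc]
      | tmul x y =>
        induction b using TensorProduct.induction_on with
        | zero => simp
        | add a c ha hc => simp [mul_add, smul_add, ha, hc]
        | tmul x' y' => simp [TensorProduct.smul_tmul'] }

theorem aux [IsGalois k L] (P Q : Ideal (L ⊗[k] K)) [P.IsPrime] [Q.IsPrime] :
    ∃ σ : L ≃ₐ[k] L, Q = P.comap (Algebra.TensorProduct.map (σ : L →ₐ[k] L) (AlgHom.id k K)) := by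
  classical
  letI := act (k := k) (K := K) L
  letI : Algebra K (L ⊗[k] K) := Algebra.TensorProduct.rightAlgebra
  letI : TopologicalSpace (L ⊗[k] K) := ⊥
  haveI : DiscreteTopology (L ⊗[k] K) := ⟨rfl⟩
  have hsmul : ∀ (σ : L ≃ₐ[k] L) z,
      σ • z = Algebra.TensorProduct.map (σ : L →ₐ[k] L) (AlgHom.id k K) z := fun σ z => by
    induction z using TensorProduct.induction_on with
    | zero => simp
    | tmul a b => simp [TensorProduct.smul_tmul']
    | add a b ha hb => simp [smul_add, ha, hb]
  haveI : SMulCommClass (L ≃ₐ[k] L) K (L ⊗[k] K) := ⟨fun σ c z => by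
    rw [hsmul, hsmul, Algebra.smul_def, Algebra.smul_def, map_mul,
      Algebra.TensorProduct.right_algebraMap_apply]
    simp⟩
  let b := Module.Free.chooseBasis k K
  let e := TensorProduct.equivFinsuppOfBasisRight (M := L) b
  have he : ∀ (σ : L ≃ₐ[k] L) z i, e (σ • z) i = σ (e z i) := by
    intro σ z i
    induction z using TensorProduct.induction_on with
    | zero => simp
    | tmul l c =>
      rw [hsmul, Algebra.TensorProduct.map_tmul]
      simp [e, TensorProduct.equivFinsuppOfBasisRight_apply_tmul_apply]
    | add a c ha hc => simp [smul_add, ha, hc]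
  haveI : ContinuousSMul (L ≃ₐ[k] L) (L ⊗[k] K) := by
    rw [continuousSMul_iff_stabilizer_isOpen]
    intro z
    let E : IntermediateField k L :=
      IntermediateField.adjoin k (((e z).support.image (e z) : Finset L) : Set L)
    haveI : FiniteDimensional k E :=
      IntermediateField.finiteDimensional_adjoin fun x _ => Algebra.IsIntegral.isIntegral x
    refine Subgroup.isOpen_mono (fun σ hσ => ?_) E.fixingSubgroup_isOpen
    rw [MulAction.mem_stabilizer_iff]
    refine e.injective (Finsupp.ext fun i => ?_)
    rw [he]
    by_cases hi : i ∈ (e z).support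
    · exact (IntermediateField.mem_fixingSubgroup_iff E σ).1 hσ _
        (IntermediateField.subset_adjoin k _ (Finset.mem_coe.2 (Finset.mem_image_of_mem _ hi)))
    · rw [Finsupp.notMem_support_iff.1 hi, map_zero]
  haveI : Algebra.IsInvariant K (L ⊗[k] K) (L ≃ₐ[k] L) := ⟨fun z hz => by
    have hc : ∀ i, e z i ∈ Set.range (algebraMap k L) := fun i =>
      (InfiniteGalois.mem_range_algebraMap_iff_fixed (e z i)).2
        fun σ => (he σ z i).symm.trans (congrArg (fun w => e w i) (hz σ))
    choose c hc using hc
    refine ⟨∑ i ∈ (e z).support, c i • b i, ?_⟩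
    rw [Algebra.TensorProduct.right_algebraMap_apply, tmul_sum]
    conv_rhs => rw [← e.symm_apply_apply z, TensorProduct.equivFinsuppOfBasisRight_symm_apply]
    refine Finset.sum_congr rfl fun i _ => ?_
    rw [← smul_tmul, ← Algebra.algebraMap_eq_smul_one, hc]⟩
  obtain ⟨g, hg⟩ := Algebra.IsInvariant.exists_smul_of_under_eq_of_profinite (G := L ≃ₐ[k] L) (A := K)
    P Q (((Ideal.eq_bot_or_top _).resolve_right (Ideal.IsPrime.ne_top inferInstance)).trans
      ((Ideal.eq_bot_or_top _).resolve_right (Ideal.IsPrime.ne_top inferInstance)).symm)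
  refine ⟨g⁻¹, Ideal.ext fun z => ?_⟩
  rw [hg, Ideal.mem_pointwise_smul_iff_inv_smul_mem, Ideal.mem_comap, hsmul]

end Groth.Agent.S9647

namespace Groth.Agent.S9647

open TensorProduct in
/-- Let K/k be a field extension and k^sep a separable algebraic closure of k. Then the automorphism
group of k^sep over k acts transitively on the primes of k^sep ⊗_k K: for any two primes P, Q there
is a k-automorphism σ of k^sep with Q the inverse image of P under σ ⊗ id_K. -/
theorem result {k K : Type u} [Field k] [Field K] [Algebra k K]
    (P Q : Ideal (SeparableClosure k ⊗[k] K)) [P.IsPrime] [Q.IsPrime] :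
    ∃ σ : SeparableClosure k ≃ₐ[k] SeparableClosure k, Q = P.comap (Algebra.TensorProduct.map (σ : SeparableClosure k →ₐ[k] SeparableClosure k) (AlgHom.id k K)) := by
  exact aux (SeparableClosure k) P Q

end Groth.Agent.S9647
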