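import Groth.Statements.S13071
import Groth.Agent.S9647
import Mathlib

set_option autoImplicit false
universe u
open CategoryTheory AlgebraicGeometry Limits
open Zeta

namespace Groth.Agent.S13071

set_option backward.isDefEq.respectTransparency.types false
open TensorProduct CategoryTheory.Limits in
theorem main {k : Type u} [Field k] [PerfectField k]
    {X : Scheme.{u}} (f : X ⟶ Spec (CommRingCat.of k))
    (τ : (AlgebraicClosure k ≃ₐ[k] AlgebraicClosure k) →
      (pullback f (Spec.map (CommRingCat.ofHom (algebraMap k (AlgebraicClosure k)))) ⟶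
        pullback f (Spec.map (CommRingCat.ofHom (algebraMap k (AlgebraicClosure k))))))
    (hτ1 : ∀ σ, τ σ ≫ pullback.fst f _ = pullback.fst f _)
    (hτ2 : ∀ σ, τ σ ≫ pullback.snd f (Spec.map (CommRingCat.ofHom (algebraMap k (AlgebraicClosure k)))) =
        pullback.snd f _ ≫ Spec.map (CommRingCat.ofHom (σ : AlgebraicClosure k →+* AlgebraicClosure k)))
    (x y : ↑(pullback f (Spec.map (CommRingCat.ofHom (algebraMap k (AlgebraicClosure k))))))
    (hxy : (pullback.fst f (Spec.map (CommRingCat.ofHom (algebraMap k (AlgebraicClosure k))))).base x =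
        (pullback.fst f (Spec.map (CommRingCat.ofHom (algebraMap k (AlgebraicClosure k))))).base y) :
    ∃ σ, (τ σ).base x = y := by
  set x0 := (pullback.fst f (Spec.map (CommRingCat.ofHom (algebraMap k (AlgebraicClosure k))))).base x with hx0
  obtain ⟨φ, hφ⟩ := Spec.map_surjective (X.fromSpecResidueField x0 ≫ f)
  letI : Algebra k (X.residueField x0) := φ.hom.toAlgebra
  let L := AlgebraicClosure k
  let K := X.residueField x0
  have hK : Spec.map (CommRingCat.ofHom (algebraMap k K)) = X.fromSpecResidueField x0 ≫ f := hφ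
  let sL := Spec.map (CommRingCat.ofHom (algebraMap k L))
  let m := pullback.map (Spec.map (CommRingCat.ofHom (algebraMap k K))) sL f sL (X.fromSpecResidueField x0) (𝟙 _) (𝟙 _)
    (by rw [Category.comp_id, hK]) (by rw [Category.comp_id, Category.id_comp])
  let Φ : Spec (CommRingCat.of (L ⊗[k] K)) ⟶ pullback f sL :=
    (pullbackSpecIso k L K).inv ≫ (pullbackSymmetry _ _).hom ≫ m
  have hfst : Φ ≫ pullback.fst f sL =
      Spec.map (CommRingCat.ofHom (Algebra.TensorProduct.includeRight : K →ₐ[k] L ⊗[k] K).toRingHom) ≫ X.fromSpecResidueField x0 := by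
    simp only [Φ, m, Category.assoc, pullback.lift_fst, pullback.map]
    erw [pullbackSymmetry_hom_comp_fst_assoc, pullbackSpecIso_inv_snd_assoc]
    rfl
  have hsnd : Φ ≫ pullback.snd f sL =
      Spec.map (CommRingCat.ofHom (Algebra.TensorProduct.includeLeftRingHom : L →+* L ⊗[k] K)) := by
    simp only [Φ, m, Category.assoc, pullback.lift_snd, pullback.map, Category.comp_id]
    erw [pullbackSymmetry_hom_comp_snd, pullbackSpecIso_inv_fst]
  have hsurj : ∀ z : ↑(pullback f sL), (pullback.fst f sL).base z = x0 → ∃ w, Φ.base w = z := by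
    intro z hz
    have : z ∈ Set.range m := by
      rw [Scheme.Pullback.range_map]
      refine ⟨?_, ⟨_, rfl⟩⟩
      show _ ∈ Set.range (X.fromSpecResidueField x0)
      rw [Scheme.range_fromSpecResidueField]
      exact hz
    obtain ⟨w, hw⟩ := this
    obtain ⟨w', hw'⟩ := ((pullbackSpecIso k L K).inv ≫ (pullbackSymmetry _ _).hom).surjective w
    refine ⟨w', ?_⟩
    show ((pullbackSpecIso k L K).inv ≫ (pullbackSymmetry _ _).hom ≫ m).base w' = z
    rw [← Category.assoc, ← hw, ← hw']; rfl
  obtain ⟨P, hP⟩ := hsurj x rfl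
  obtain ⟨Q, hQ⟩ := hsurj y hxy.symm
  haveI : IsGalois k L := ⟨⟩
  obtain ⟨σ, hσ⟩ := Groth.Agent.S9647.aux (k := k) (K := K) L P.asIdeal Q.asIdeal
  refine ⟨σ, ?_⟩
  let M := Spec.map (CommRingCat.ofHom (Algebra.TensorProduct.map (σ : L →ₐ[k] L) (AlgHom.id k K)).toRingHom)
  have hcomm : M ≫ Φ = Φ ≫ τ σ := by
    apply pullback.hom_ext
    · rw [Category.assoc M Φ, Category.assoc Φ (τ σ), hτ1 σ, hfst, ← Category.assoc, ← Spec.map_comp]
      congr 2
      ext c
      simp
    · rw [Category.assoc M Φ, Category.assoc Φ (τ σ), hτ2 σ, ← Category.assoc Φ, hsnd, ← Spec.map_comp, ← Spec.map_comp]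
      congr 1
      try (ext c; simp)
  have hM : M.base P = Q := PrimeSpectrum.ext hσ.symm
  have h := congrArg (fun F => F.base P) hcomm
  simp only [Scheme.Hom.comp_base, TopCat.comp_app] at h
  rw [hM, hP, hQ] at h
  exact h.symm

/-- For a variety X over a perfect field k with algebraic closure k̄, the fibres of the projection π :
X_{k̄} → X are exactly the orbits of G(k̄/k) acting on X_{k̄} (σ acting as id × Spec σ). Stated for
any scheme of finite type over k; each τ_σ is pinned by τ_σ ≫ pr_1 = pr_1 and τ_σ ≫ pr_2 = pr_2 ≫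
Spec σ. -/
theorem result {k : Type u} [Field k] [PerfectField k]
    {X : Scheme.{u}} (f : X ⟶ Spec (CommRingCat.of k)) [LocallyOfFiniteType f] [QuasiCompact f]
    (τ : (AlgebraicClosure k ≃ₐ[k] AlgebraicClosure k) →
      (pullback f (Spec.map (CommRingCat.ofHom (algebraMap k (AlgebraicClosure k)))) ⟶
        pullback f (Spec.map (CommRingCat.ofHom (algebraMap k (AlgebraicClosure k))))))
    (hτ1 : ∀ σ, τ σ ≫ pullback.fst f _ = pullback.fst f _)
    (hτ2 : ∀ σ, τ σ ≫ pullback.snd f (Spec.map (CommRingCat.ofHom (algebraMap k (AlgebraicClosure k)))) =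
        pullback.snd f _ ≫ Spec.map (CommRingCat.ofHom (σ : AlgebraicClosure k →+* AlgebraicClosure k)))
    (x y : ↑(pullback f (Spec.map (CommRingCat.ofHom (algebraMap k (AlgebraicClosure k)))))) :
    (pullback.fst f (Spec.map (CommRingCat.ofHom (algebraMap k (AlgebraicClosure k))))).base x =
        (pullback.fst f (Spec.map (CommRingCat.ofHom (algebraMap k (AlgebraicClosure k))))).base y ↔
      ∃ σ, (τ σ).base x = y := by
  refine ⟨main f τ hτ1 hτ2 x y, ?_⟩
  rintro ⟨σ, rfl⟩
  have := congrArg (fun F => F.base x) (hτ1 σ)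
  simpa using this.symm

end Groth.Agent.S13071
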