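import Groth.Statements.S13072
import Mathlib
import Groth.Prelude.Def_FinFr

set_option autoImplicit false
universe u
open CategoryTheory AlgebraicGeometry Limits
open Zeta

namespace Groth.Agent.S13072

set_option maxHeartbeats 1000000
set_option backward.isDefEq.respectTransparency.types false

open TensorProduct

theorem frob_apply (k R : Type u) [Field k] [Fintype k] [CommRing R] [Algebra k R] (x : R) :
    FiniteField.frobeniusAlgHom k R x = x ^ Nat.card k := by
  rw [FiniteField.coe_frobeniusAlgHom, Fintype.card_eq_nat_card]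

/-- a radical ideal stable under the partial Frobenius is extended from the base -/
theorem mem_span_contraction (k A K : Type u) [Field k] [Fintype k] [CommRing A] [Algebra k A]
    [Field K] [Algebra k K] [Algebra.IsAlgebraic k K] [IsAlgClosed K]
    (J : Ideal (A ⊗[k] K)) (hrad : J.IsRadical)
    (hst : ∀ x ∈ J, Algebra.TensorProduct.map (FiniteField.frobeniusAlgHom k A) (AlgHom.id k K) x ∈ J)
    (x : A ⊗[k] K) (hx : x ∈ J) :
    x ∈ (J.comap (algebraMap A (A ⊗[k] K))).map (algebraMap A (A ⊗[k] K)) := by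
  classical
  let θ : A ⊗[k] K →ₐ[k] A ⊗[k] K :=
    Algebra.TensorProduct.map (AlgHom.id k A) (FiniteField.frobeniusAlgHom k K)
  let Φ : A ⊗[k] K →ₐ[k] A ⊗[k] K :=
    Algebra.TensorProduct.map (FiniteField.frobeniusAlgHom k A) (AlgHom.id k K)
  let σ : K ≃ₐ[k] K := FiniteField.frobeniusAlgEquivOfAlgebraic k K
  let Ψ : A ⊗[k] K →ₐ[k] A ⊗[k] K := Algebra.TensorProduct.map (AlgHom.id k A) σ.symm.toAlgHom
  have hσ : ∀ c : K, σ c = c ^ Nat.card k := fun c => by
    rw [FiniteField.coe_frobeniusAlgEquivOfAlgebraic, Fintype.card_eq_nat_card]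
  have hpow : ∀ y, (Ψ y) ^ Nat.card k = Φ y := by
    intro y
    rw [← frob_apply k (A ⊗[k] K) (Ψ y)]
    show ((FiniteField.frobeniusAlgHom k (A ⊗[k] K)).comp Ψ) y = Φ y
    congr 1
    refine Algebra.TensorProduct.ext' fun a c => ?_
    simp only [AlgHom.comp_apply, Ψ, Φ, Algebra.TensorProduct.map_tmul, AlgHom.id_apply, frob_apply,
      Algebra.TensorProduct.tmul_pow]
    congr 1
    rw [← hσ]
    exact σ.apply_symm_apply c
  have hΨ : ∀ y ∈ J, Ψ y ∈ J := fun y hy =>
    hrad ⟨Nat.card k, by rw [hpow]; exact hst y hy⟩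
  -- a finite field of coefficients
  have hfin : ∀ y : A ⊗[k] K, ∃ E : IntermediateField k K, FiniteDimensional k E ∧
      y ∈ (Algebra.TensorProduct.map (AlgHom.id k A) E.val).range := by
    intro y
    induction y using TensorProduct.induction_on with
    | zero => exact ⟨⊥, inferInstance, 0, map_zero _⟩
    | tmul a c =>
      exact ⟨IntermediateField.adjoin k {c},
        IntermediateField.adjoin.finiteDimensional (Algebra.IsAlgebraic.isAlgebraic c).isIntegral,
        a ⊗ₜ ⟨c, IntermediateField.mem_adjoin_simple_self k c⟩, by simp⟩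
    | add y z hy hz =>
      obtain ⟨E, hE, y', rfl⟩ := hy
      obtain ⟨E', hE', z', rfl⟩ := hz
      refine ⟨E ⊔ E', inferInstance,
        Algebra.TensorProduct.map (AlgHom.id k A) (IntermediateField.inclusion le_sup_left) y' +
          Algebra.TensorProduct.map (AlgHom.id k A) (IntermediateField.inclusion le_sup_right) z', ?_⟩
      rw [map_add]
      congr 1
      · show (Algebra.TensorProduct.map (AlgHom.id k A) (E ⊔ E').val)
            (Algebra.TensorProduct.map (AlgHom.id k A) (IntermediateField.inclusion le_sup_left) y') =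
          Algebra.TensorProduct.map (AlgHom.id k A) E.val y'
        rw [← AlgHom.comp_apply, ← Algebra.TensorProduct.map_comp]
        rfl
      · show (Algebra.TensorProduct.map (AlgHom.id k A) (E ⊔ E').val)
            (Algebra.TensorProduct.map (AlgHom.id k A) (IntermediateField.inclusion le_sup_right) z') =
          Algebra.TensorProduct.map (AlgHom.id k A) E'.val z'
        rw [← AlgHom.comp_apply, ← Algebra.TensorProduct.map_comp]
        rfl
  have hθ : ∀ y ∈ J, θ y ∈ J := by
    intro x hxJ
    obtain ⟨E, hE, y, rfl⟩ := hfin x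
    haveI := hE
    haveI : Finite E := Module.finite_of_finite k
    have hl : ∀ l, ∀ z ∈ J, (Ψ ^ l : A ⊗[k] K →ₐ[k] A ⊗[k] K) z ∈ J := by
      intro l
      induction l with
      | zero => simp
      | succ l ih => intro z hz; rw [pow_succ', AlgHom.mul_apply]; exact hΨ _ (ih z hz)
    have hm : 0 < Module.finrank k E := Module.finrank_pos
    have key : θ.comp (Algebra.TensorProduct.map (AlgHom.id k A) E.val) =
        (Ψ ^ (Module.finrank k E - 1)).comp (Algebra.TensorProduct.map (AlgHom.id k A) E.val) := by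
      have hΨl : ∀ (l : ℕ) (a : A) (c : K), (Ψ ^ l : A ⊗[k] K →ₐ[k] A ⊗[k] K) (a ⊗ₜ c) = a ⊗ₜ ((σ.symm ^ l) c) := by
        intro l a c
        induction l with
        | zero => simp
        | succ l ih =>
          rw [pow_succ', AlgHom.mul_apply, ih, pow_succ', AlgEquiv.mul_apply]
          simp [Ψ]
      refine Algebra.TensorProduct.ext' fun a c => ?_
      simp only [AlgHom.comp_apply, Algebra.TensorProduct.map_tmul, AlgHom.id_apply, θ, frob_apply,
        hΨl]
      congr 1
      have hσl : ∀ (l : ℕ) (z : K), (σ ^ l) z = z ^ (Nat.card k ^ l) := by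
        intro l z
        induction l with
        | zero => simp
        | succ l ih => rw [pow_succ', AlgEquiv.mul_apply, ih, hσ, ← pow_mul, ← pow_succ]
      have hc : (c : K) ^ (Nat.card k ^ Module.finrank k E) = c := by
        letI := Fintype.ofFinite E
        rw [← Module.natCard_eq_pow_finrank (K := k) (V := E), ← Fintype.card_eq_nat_card]
        exact congrArg Subtype.val (FiniteField.pow_card c)
      symm
      rw [show σ.symm ^ (Module.finrank k E - 1) = (σ ^ (Module.finrank k E - 1))⁻¹ from inv_pow σ _,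
        AlgEquiv.aut_inv, AlgEquiv.symm_apply_eq, hσl, ← pow_mul, ← pow_succ', Nat.sub_add_cancel hm]
      exact hc.symm
    have h1 := congrArg (fun g => g y) key
    simp only [AlgHom.comp_apply] at h1
    show θ (Algebra.TensorProduct.map (AlgHom.id k A) E.val y) ∈ J
    rw [h1]
    exact hl _ _ hxJ
  obtain ⟨E, hE, y, rfl⟩ := hfin x
  haveI := hE
  haveI : Finite E := Module.finite_of_finite k
  let b := Module.finBasis k E
  let β := (Algebra.traceForm k E).dualBasis (traceForm_nondegenerate k E) b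
  let T : A ⊗[k] E →ₗ[k] A := (TensorProduct.rid k A).toLinearMap ∘ₗ
    TensorProduct.map LinearMap.id (Algebra.trace k E)
  let inc := Algebra.TensorProduct.map (AlgHom.id k A) E.val
  have hexp : ∀ y', inc y' =
      ∑ i, algebraMap A (A ⊗[k] K) (T ((1 ⊗ₜ β i) * y')) * ((1 : A) ⊗ₜ (b i : K)) := by
    intro y'
    induction y' using TensorProduct.induction_on with
    | zero => simp
    | add y z hy hz =>
      rw [map_add, hy, hz, ← Finset.sum_add_distrib]
      exact Finset.sum_congr rfl fun i _ => by rw [mul_add, map_add, map_add, add_mul]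
    | tmul a c =>
      have hr : ∀ i, Algebra.trace k E (β i * c) = b.repr c i := by
        intro i
        have h1 : (Algebra.traceForm k E) (β i) c = b.repr c i := by
          conv_lhs => rw [← b.sum_repr c, map_sum]
          simp only [map_smul, β, LinearMap.BilinForm.apply_dualBasis_left, smul_eq_mul, mul_ite,
            mul_one, mul_zero, Finset.sum_ite_eq', Finset.mem_univ, if_true]
        rwa [Algebra.traceForm_apply] at h1
      have hterm : ∀ i, algebraMap A (A ⊗[k] K) (T ((1 ⊗ₜ β i) * (a ⊗ₜ c))) * ((1 : A) ⊗ₜ (b i : K))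
          = a ⊗ₜ ((b.repr c i • b i : E) : K) := by
        intro i
        simp only [T, Algebra.TensorProduct.tmul_mul_tmul, one_mul, LinearMap.comp_apply,
          TensorProduct.map_tmul, LinearEquiv.coe_coe, TensorProduct.rid_tmul, LinearMap.id_apply, hr,
          Algebra.TensorProduct.algebraMap_apply, Algebra.algebraMap_self, RingHom.id_apply, mul_one]
        rw [TensorProduct.smul_tmul, IntermediateField.coe_smul]
      rw [Finset.sum_congr rfl fun i _ => hterm i, ← TensorProduct.tmul_sum]
      simp only [inc, Algebra.TensorProduct.map_tmul, AlgHom.id_apply]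
      congr 1
      rw [← AddSubmonoidClass.coe_finset_sum, b.sum_repr]
      rfl
  have htr : ∀ z : A ⊗[k] E, algebraMap A (A ⊗[k] K) (T z) =
      ∑ l ∈ Finset.range (Module.finrank k E), (θ ^ l : A ⊗[k] K →ₐ[k] A ⊗[k] K) (inc z) := by
    have hθl : ∀ (l : ℕ) (a : A) (c : K),
        (θ ^ l : A ⊗[k] K →ₐ[k] A ⊗[k] K) (a ⊗ₜ c) = a ⊗ₜ (c ^ (Nat.card k ^ l)) := by
      intro l a c
      induction l with
      | zero => simp
      | succ l ih =>
        rw [pow_succ', AlgHom.mul_apply, ih]
        simp only [θ, Algebra.TensorProduct.map_tmul, AlgHom.id_apply, frob_apply, ← pow_mul, ← pow_succ]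
    intro z
    induction z using TensorProduct.induction_on with
    | zero => simp
    | add y z hy hz =>
      rw [map_add, map_add, hy, hz, ← Finset.sum_add_distrib]
      exact Finset.sum_congr rfl fun i _ => by rw [map_add, map_add]
    | tmul a c =>
      simp only [T, inc, LinearMap.comp_apply, TensorProduct.map_tmul, LinearEquiv.coe_coe,
        TensorProduct.rid_tmul, LinearMap.id_apply, Algebra.TensorProduct.map_tmul, AlgHom.id_apply,
        hθl, Algebra.TensorProduct.algebraMap_apply, Algebra.algebraMap_self, RingHom.id_apply,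
        TensorProduct.smul_tmul, ← TensorProduct.tmul_sum]
      congr 1
      rw [← Algebra.algebraMap_eq_smul_one]
      have h1 := congrArg (E.val) (FiniteField.algebraMap_trace_eq_sum_pow k E c)
      rw [AlgHom.commutes, map_sum] at h1
      exact h1
  have hθl : ∀ l, ∀ z ∈ J, (θ ^ l : A ⊗[k] K →ₐ[k] A ⊗[k] K) z ∈ J := by
    intro l
    induction l with
    | zero => simp
    | succ l ih => intro z hz; rw [pow_succ', AlgHom.mul_apply]; exact hθ _ (ih z hz)
  show inc y ∈ _
  rw [hexp]
  refine Ideal.sum_mem _ fun i _ => Ideal.mul_mem_right _ _ (Ideal.mem_map_of_mem _ ?_)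
  rw [Ideal.mem_comap, htr]
  refine Ideal.sum_mem _ fun l _ => hθl l _ ?_
  rw [map_mul]
  exact Ideal.mul_mem_left _ _ hx

theorem descends {k : Type u} [Field k] [Fintype k] (K : Type u) [Field K] [Algebra k K]
    [IsAlgClosed K] [Algebra.IsAlgebraic k K]
    {X : Scheme.{u}} (f : X ⟶ Spec (CommRingCat.of k)) (FX : X ⟶ X) (hFb : FX.base = 𝟙 _)
    (hle : ∀ U : X.Opens, U ≤ FX ⁻¹ᵁ U)
    (hFapp : ∀ (U : X.Opens) (s : Γ(X, U)), (FX.appLE U U (hle U)).hom s = s ^ Nat.card k)
    (F : FinFr.ext K f ⟶ FinFr.ext K f)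
    (hF1 : F ≫ FinFr.extπ K f = FinFr.extπ K f ≫ FX)
    (hF2 : F ≫ FinFr.extStr K f = FinFr.extStr K f)
    (W : Set ↑(FinFr.ext K f)) (hW : IsClosed W) :
    (∃ Y : Set X, IsClosed Y ∧ (FinFr.extπ K f).base ⁻¹' Y = W) ↔ F.base '' W ⊆ W := by
  constructor
  · rintro ⟨Y, -, rfl⟩ _ ⟨w, hw, rfl⟩
    show (FinFr.extπ K f).base (F.base w) ∈ Y
    have h : (F ≫ FinFr.extπ K f).base w = (FinFr.extπ K f ≫ FX).base w := by rw [hF1]
    simp only [Scheme.Hom.comp_base, TopCat.hom_comp, ContinuousMap.comp_apply, hFb, TopCat.hom_id,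
      ContinuousMap.id_apply] at h
    exact h ▸ hw
  intro hst
  haveI : IsIntegralHom (FinFr.specι k K) := by
    rw [FinFr.specι, IsIntegralHom.SpecMap_iff]
    exact algebraMap_isIntegral_iff.mpr (inferInstance : Algebra.IsIntegral k K)
  refine ⟨(FinFr.extπ K f).base '' W, (FinFr.extπ K f).isClosedMap _ hW, ?_⟩
  refine Set.Subset.antisymm ?_ (Set.subset_preimage_image _ _)
  rintro y' ⟨y, hy, hyy⟩
  obtain ⟨U, hU, hyU, -⟩ := exists_isAffineOpen_mem_and_subset (x := (FinFr.extπ K f).base y')
    (U := (⊤ : X.Opens)) trivial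
  let A := Γ(X, U)
  letI algA : Algebra k A := (Spec.preimage (hU.fromSpec ≫ f)).hom.toAlgebra
  have hAf : Spec.map (CommRingCat.ofHom (algebraMap k A)) = hU.fromSpec ≫ f := by
    show Spec.map (CommRingCat.ofHom (Spec.preimage (hU.fromSpec ≫ f)).hom) = _
    exact Spec.map_preimage _
  let frA : (A : Type u) →ₐ[k] A := FiniteField.frobeniusAlgHom k A
  let inA : (A : Type u) →+* (A : Type u) ⊗[k] K := Algebra.TensorProduct.includeLeftRingHom
  let inK : K →+* (A : Type u) ⊗[k] K := Algebra.TensorProduct.includeRight.toRingHom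
  let Φ : (A : Type u) ⊗[k] K →ₐ[k] (A : Type u) ⊗[k] K :=
    Algebra.TensorProduct.map frA (AlgHom.id k K)
  let j : Spec (CommRingCat.of ((A : Type u) ⊗[k] K)) ⟶ FinFr.ext K f :=
    (pullbackSpecIso k A K).inv ≫ pullback.map _ _ f (FinFr.specι k K) hU.fromSpec (𝟙 _) (𝟙 _)
      (by rw [Category.comp_id]; exact hAf) (by simp)
  have hjfst : j ≫ FinFr.extπ K f = Spec.map (CommRingCat.ofHom inA) ≫ hU.fromSpec := by
    rw [Category.assoc, pullback.lift_fst, ← Category.assoc, pullbackSpecIso_inv_fst]
  have hjsnd : j ≫ FinFr.extStr K f = Spec.map (CommRingCat.ofHom inK) := by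
    show j ≫ pullback.snd f (FinFr.specι k K) = _
    rw [Category.assoc, pullback.lift_snd, Category.comp_id, pullbackSpecIso_inv_snd]
    rfl
  haveI hjo : IsOpenImmersion j := by
    dsimp only [j]
    infer_instance
  have hjF : j ≫ F = Spec.map (CommRingCat.ofHom Φ.toRingHom) ≫ j := by
    apply pullback.hom_ext
    · show (j ≫ F) ≫ FinFr.extπ K f = (_ ≫ j) ≫ FinFr.extπ K f
      have hfr : hU.fromSpec ≫ FX = Spec.map (CommRingCat.ofHom frA.toRingHom) ≫ hU.fromSpec := by
        rw [← IsAffineOpen.SpecMap_appLE_fromSpec FX hU hU (hle U)]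
        congr 2
        refine CommRingCat.hom_ext (RingHom.ext fun s => ?_)
        show (FX.appLE U U (hle U)).hom s = frA s
        rw [hFapp]
        exact (frob_apply k (A : Type u) s).symm
      rw [Category.assoc, hF1, ← Category.assoc, hjfst, Category.assoc, hfr, Category.assoc, hjfst,
        ← Category.assoc, ← Category.assoc, ← Spec.map_comp, ← Spec.map_comp]
      congr 2
    · show (j ≫ F) ≫ FinFr.extStr K f = (_ ≫ j) ≫ FinFr.extStr K f
      rw [Category.assoc, hF2, hjsnd, Category.assoc, hjsnd, ← Spec.map_comp]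
      congr 1
      refine CommRingCat.hom_ext (RingHom.ext fun s => ?_)
      show inK s = Φ (inK s)
      simp [inK, Φ]
  have hrange : Set.range j = (FinFr.extπ K f).base ⁻¹' (U : Set X) := by
    show Set.range (_ ≫ _ : Spec _ ⟶ FinFr.ext K f) = _
    rw [Scheme.Hom.comp_base, TopCat.coe_comp, Set.range_comp, Set.range_eq_univ.mpr
      (ConcreteCategory.bijective_of_isIso ((pullbackSpecIso k A K).inv.base)).2, Set.image_univ,
      Scheme.Pullback.range_map, IsAffineOpen.range_fromSpec]
    simp
  obtain ⟨P', hP'⟩ : y' ∈ Set.range j := by rw [hrange]; exact hyU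
  obtain ⟨P, hP⟩ : y ∈ Set.range j := by
    rw [hrange]; show (FinFr.extπ K f).base y ∈ (U : Set X); rw [hyy]; exact hyU
  subst hP' hP
  let Z : Set (PrimeSpectrum ((A : Type u) ⊗[k] K)) := j.base ⁻¹' W
  have hZ : IsClosed Z := hW.preimage j.continuous
  let J := PrimeSpectrum.vanishingIdeal Z
  have hJst : ∀ x ∈ J, Φ x ∈ J := by
    intro x hx
    rw [PrimeSpectrum.mem_vanishingIdeal] at hx ⊢
    intro Q hQ
    refine hx (PrimeSpectrum.comap Φ.toRingHom Q) ?_
    show j.base ((Spec.map (CommRingCat.ofHom Φ.toRingHom)).base Q) ∈ W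
    have h : (j ≫ F).base Q = (Spec.map (CommRingCat.ofHom Φ.toRingHom) ≫ j).base Q := by rw [hjF]
    simp only [Scheme.Hom.comp_base, TopCat.hom_comp, ContinuousMap.comp_apply] at h
    exact h ▸ hst ⟨_, hQ, rfl⟩
  have hcontr : PrimeSpectrum.comap inA P' = PrimeSpectrum.comap inA P := by
    apply hU.fromSpec.isOpenEmbedding.injective
    have h : ∀ Q, (j ≫ FinFr.extπ K f).base Q
        = (Spec.map (CommRingCat.ofHom inA) ≫ hU.fromSpec).base Q := fun Q => by rw [hjfst]
    simp only [Scheme.Hom.comp_base, TopCat.hom_comp, ContinuousMap.comp_apply] at h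
    exact (h P').symm.trans (hyy.symm.trans (h P))
  show P' ∈ Z
  rw [← hZ.closure_eq, ← PrimeSpectrum.zeroLocus_vanishingIdeal_eq_closure]
  show ∀ x, x ∈ J → x ∈ P'.asIdeal
  intro x hx
  have h1 := mem_span_contraction k (A : Type u) K J (PrimeSpectrum.isRadical_vanishingIdeal Z) hJst x hx
  have hle' : (J.comap (algebraMap (A : Type u) ((A : Type u) ⊗[k] K))).map
      (algebraMap (A : Type u) ((A : Type u) ⊗[k] K)) ≤ P'.asIdeal := by
    rw [Ideal.map_le_iff_le_comap]
    intro a ha
    have hPJ : J ≤ P.asIdeal := fun z hz => (PrimeSpectrum.mem_vanishingIdeal _ _).mp hz P hy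
    have h2 : a ∈ (PrimeSpectrum.comap inA P).asIdeal := hPJ ha
    rw [← hcontr] at h2
    exact h2
  exact hle' h1

/-- Case r = 1, to which the general case reduces by passing to X ×_k F_{q^r}. Let X be a variety over k
= F_q, k̄ an algebraic closure and F = Frob_{X,q} × id the induced endomorphism of X_{k̄}. A closed
subset W ⊆ X_{k̄} is of the form Y_{k̄} for a closed Y ⊆ X (i.e. W = π⁻¹(Y), π the projection) if
and only if F(W) ⊆ W. Stated for schemes of finite type over k; F_X is pinned as the endomorphism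
that is the identity on points and the q-th power on sections, F by F ≫ pr_1 = pr_1 ≫ F_X and F ≫
pr_2 = pr_2. -/
theorem result {k : Type u} [Field k] [Finite k]
    {X : Scheme.{u}} (f : X ⟶ Spec (CommRingCat.of k)) [LocallyOfFiniteType f] [QuasiCompact f]
    (FX : X ⟶ X) (hFb : FX.base = 𝟙 _) (hle : ∀ U : X.Opens, U ≤ FX ⁻¹ᵁ U)
    (hFapp : ∀ (U : X.Opens) (s : Γ(X, U)), (FX.appLE U U (hle U)).hom s = s ^ Nat.card k)
    (F : FinFr.ext (AlgebraicClosure k) f ⟶ FinFr.ext (AlgebraicClosure k) f)
    (hF1 : F ≫ FinFr.extπ (AlgebraicClosure k) f = FinFr.extπ (AlgebraicClosure k) f ≫ FX)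
    (hF2 : F ≫ FinFr.extStr (AlgebraicClosure k) f = FinFr.extStr (AlgebraicClosure k) f)
    (W : Set ↑(FinFr.ext (AlgebraicClosure k) f)) (hW : IsClosed W) :
    (∃ Y : Set X, IsClosed Y ∧ (FinFr.extπ (AlgebraicClosure k) f).base ⁻¹' Y = W) ↔
      F.base '' W ⊆ W := by
  letI := Fintype.ofFinite k
  exact descends (AlgebraicClosure k) f FX hFb hle hFapp F hF1 hF2 W hW

end Groth.Agent.S13072
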