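import Groth.Statements.S13075
import Mathlib

set_option autoImplicit false
open Zeta

namespace Groth.Agent.S13075

/-- For the formal power series exp(t) = ∑_{m ≥ 0} t^m / m! and log(1 + t) = ∑_{m ≥ 1} (−1)^{m+1} t^m /
m over ℚ, log(exp(u)) = u and exp(log(1 + u)) = 1 + u for every u ∈ tℚ⟦t⟧; stated for u = t (the
general case is obtained by substitution): substituting exp(t) − 1 into log(1 + ·) gives t, and
substituting log(1 + t) into exp gives 1 + t. -/
theorem result :
    PowerSeries.subst (PowerSeries.exp ℚ - 1)
        (PowerSeries.mk fun m : ℕ => if m = 0 then (0 : ℚ) else (-1) ^ (m + 1) / (m : ℚ)) =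
      PowerSeries.X ∧
    PowerSeries.subst (PowerSeries.mk fun m : ℕ => if m = 0 then (0 : ℚ) else (-1) ^ (m + 1) / (m : ℚ))
        (PowerSeries.exp ℚ) = 1 + PowerSeries.X := by
  set l : PowerSeries ℚ := PowerSeries.mk fun m : ℕ => if m = 0 then (0 : ℚ) else (-1) ^ (m + 1) / (m : ℚ) with hl
  have hl0 : PowerSeries.constantCoeff l = 0 := by simp [hl, ← PowerSeries.coeff_zero_eq_constantCoeff_apply]
  have he0 : PowerSeries.constantCoeff (PowerSeries.exp ℚ - 1) = 0 := by simp
  have hL' : PowerSeries.derivative ℚ l * (1 + PowerSeries.X) = 1 := by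
    ext n
    rw [mul_add, mul_one, map_add, PowerSeries.coeff_derivative, PowerSeries.coeff_one]
    cases n with
    | zero => simp [hl]
    | succ n =>
      rw [PowerSeries.coeff_succ_mul_X, PowerSeries.coeff_derivative]
      simp only [hl, PowerSeries.coeff_mk, Nat.succ_ne_zero, if_false]
      push_cast
      field_simp
      ring
  have hse : PowerSeries.HasSubst (PowerSeries.exp ℚ - 1) := PowerSeries.HasSubst.of_constantCoeff_zero' he0
  have hsl : PowerSeries.HasSubst l := PowerSeries.HasSubst.of_constantCoeff_zero' hl0
  constructor
  · apply PowerSeries.derivative.ext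
    · rw [PowerSeries.derivative_subst hse, map_sub, PowerSeries.derivative_exp, Derivation.map_one_eq_zero,
        sub_zero, PowerSeries.derivative_X]
      have := congrArg (PowerSeries.subst (PowerSeries.exp ℚ - 1)) hL'
      rw [PowerSeries.subst_mul hse, PowerSeries.subst_add hse, PowerSeries.subst_X hse] at this
      rw [← PowerSeries.coe_substAlgHom hse, map_one, PowerSeries.coe_substAlgHom hse, add_sub_cancel] at this
      exact this
    · rw [PowerSeries.constantCoeff_X]
      exact PowerSeries.constantCoeff_subst_eq_zero he0 _ hl0
  · set h := PowerSeries.subst l (PowerSeries.exp ℚ) with hh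
    set D := PowerSeries.derivative ℚ l with hD
    have hh' : PowerSeries.derivative ℚ h = h * D := by
      rw [hh, PowerSeries.derivative_subst hsl, PowerSeries.derivative_exp]
    have hD' : PowerSeries.derivative ℚ D = -(D * D) := by
      have h1 := congrArg (PowerSeries.derivative ℚ) hL'
      rw [Derivation.leibniz, map_add, Derivation.map_one_eq_zero, PowerSeries.derivative_X, zero_add] at h1
      simp only [smul_eq_mul, mul_one] at h1
      linear_combination D * h1 - PowerSeries.derivative ℚ D * hL'
    have hg : h * D = 1 := by
      apply PowerSeries.derivative.ext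
      · rw [Derivation.leibniz, Derivation.map_one_eq_zero, hh', hD']
        simp only [smul_eq_mul]; ring
      · rw [map_mul, map_one, hh, ← PowerSeries.coeff_zero_eq_constantCoeff_apply, PowerSeries.coeff_subst' hsl,
          finsum_eq_single _ 0 (fun d hd => by simp [PowerSeries.coeff_zero_eq_constantCoeff_apply, hl0, zero_pow hd])]
        simp [hD, hl, ← PowerSeries.coeff_zero_eq_constantCoeff_apply, PowerSeries.coeff_derivative]
    linear_combination (1 + PowerSeries.X) * hg - h * hL'

end Groth.Agent.S13075
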