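import Groth.Statements.S13080
import Groth.Agent.QuotSch.Affine
import Groth.Agent.QuotSch.Univ

set_option autoImplicit false
universe u
open CategoryTheory AlgebraicGeometry Limits
open Zeta

namespace Groth.Agent.S13080

set_option backward.isDefEq.respectTransparency.types false
set_option maxHeartbeats 1000000
open Opposite TopologicalSpace

/-- Let G be a finite group acting by algebraic automorphisms over k on a scheme X of finite type over k
admitting a quotient p : X → X/G, H ⊆ G a subgroup and Y ⊆ X an open subset preserved by H such that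
X is the disjoint union of the translates Y g over the cosets of G mod H. Then the natural morphism
Y/H → X/G is an isomorphism: Y → X/G is a quotient of Y by H. The action of H on Y is pinned by
compatibility with the inclusion Y → X; the coset condition is stated as: the translates of Y cover
X, and g(Y) is disjoint from Y for g ∉ H. -/
theorem result {k : Type u} [Field k] {G : Type u} [Group G]
    [Finite G] {X XG : Scheme.{u}} (fX : X ⟶ Spec (CommRingCat.of k)) [LocallyOfFiniteType fX]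
    [QuasiCompact fX] (ρ : G →* Aut X) (hρ : ∀ g, (ρ g).hom ≫ fX = fX) (p : X ⟶ XG)
    (hP : SGA1.IsQuot ρ p) (H : Subgroup G) (Y : X.Opens)
    (hcov : ∀ x : X, ∃ g : G, x ∈ (ρ g).hom.base '' (Y : Set X))
    (hdisj : ∀ g : G, g ∉ H → Disjoint ((ρ g).hom.base '' (Y : Set X)) (Y : Set X))
    (ρY : H →* Aut (Y : Scheme.{u})) (hρY : ∀ h : H, (ρY h).hom ≫ Y.ι = Y.ι ≫ (ρ (h : G)).hom) :
    SGA1.IsQuot ρY (Y.ι ≫ p) := by
  classical
  haveI := hP.affine
  let e := fun g : G => (ρ g).hom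
  have e1 : e 1 = 𝟙 X := by simp [e]; rfl
  have emul : ∀ a b, e (a * b) = e b ≫ e a := fun a b => by simp [e]; rfl
  have epi : ∀ g, e g ≫ p = p := hP.inv
  have epb : ∀ g x, p.base ((e g).base x) = p.base x := fun g x => by
    have h := congrArg (fun F => F.base x) (epi g)
    simpa using h
  have eone : ∀ x, (e 1).base x = x := fun x => by rw [e1]; rfl
  have ecomp : ∀ a b x, (e (a * b)).base x = (e a).base ((e b).base x) := fun a b x => by rw [emul]; rfl
  have hHY : ∀ (h : H) (x : X), x ∈ Y → (e (h : G)).base x ∈ Y := by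
    intro h x hx
    have hh := congrArg (fun F => F.base (⟨x, hx⟩ : Y)) (hρY h)
    simp only [Scheme.Hom.comp_base, TopCat.comp_app] at hh
    show (ρ (h : G)).hom.base x ∈ Y
    have : (ρ (h : G)).hom.base x = Y.ι.base ((ρY h).hom.base ⟨x, hx⟩) := hh.symm
    rw [this]
    exact ((ρY h).hom.base ⟨x, hx⟩).2
  have hmemH : ∀ (g : G) (x : X), x ∈ Y → (e g).base x ∈ Y → g ∈ H := by
    intro g x hx hgx
    by_contra hg
    exact (hdisj g hg).le_bot ⟨⟨x, hx, rfl⟩, hgx⟩
  have hcov' : ∀ x : X, ∃ g : G, (e g).base x ∈ Y := by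
    intro x
    obtain ⟨g, y, hy, rfl⟩ := hcov x
    refine ⟨g⁻¹, ?_⟩
    show (e g⁻¹).base ((e g).base y) ∈ Y
    rw [← ecomp, inv_mul_cancel, eone]; exact hy
  have hclosed : IsClosed (Y : Set X) := by
    have hc : (Y : Set X)ᶜ = ⋃ g ∈ {g : G | g ∉ H}, (e g).base '' (Y : Set X) := by
      ext x
      simp only [Set.mem_compl_iff, Set.mem_iUnion, exists_prop]
      constructor
      · intro hx
        obtain ⟨g, y, hy, rfl⟩ := hcov x
        exact ⟨g, fun hg => hx (hHY ⟨g, hg⟩ y hy), y, hy, rfl⟩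
      · rintro ⟨g, hg, y, hy, rfl⟩ hx
        exact hg (hmemH g y hy hx)
    rw [← isOpen_compl_iff, hc]
    refine isOpen_biUnion fun g _ => ?_
    exact (ρ g).hom.isOpenEmbedding.isOpenMap _ Y.isOpen
  haveI : IsClosedImmersion Y.ι := IsClosedImmersion.of_isPreimmersion Y.ι (by
    rw [Scheme.Opens.range_ι]; exact hclosed)
  have hinv : ∀ h : H, (ρY h).hom ≫ (Y.ι ≫ p) = Y.ι ≫ p := fun h => by
    rw [← Category.assoc, hρY, Category.assoc, hP.inv]
  let W : ∀ (U : XG.Opens), G → X.Opens := fun U g => (p ⁻¹ᵁ U) ⊓ (e g) ⁻¹ᵁ Y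
  let V : ∀ (U : XG.Opens), X.Opens := fun U => (p ⁻¹ᵁ U) ⊓ Y
  have hW : ∀ U g, W U g ≤ (e g) ⁻¹ᵁ V U := fun U g x hx => ⟨by
    show p.base ((e g).base x) ∈ U
    rw [epb]; exact hx.1, hx.2⟩
  have hpre : ∀ U, (Y.ι ≫ p) ⁻¹ᵁ U = Y.ι ⁻¹ᵁ V U := fun U => by
    ext x
    exact ⟨fun hx => ⟨hx, x.2⟩, fun hx => hx.1⟩
  let ψ : ∀ U, Γ(X, V U) ⟶ Γ(Y, (Y.ι ≫ p) ⁻¹ᵁ U) := fun U => Y.ι.appLE (V U) _ (hpre U).le
  have hψ : ∀ U, Function.Bijective (ψ U).hom := fun U => by
    haveI : IsIso (Y.ι.app (V U)) := Y.ι.isIso_app (V U) (by rw [Scheme.Opens.opensRange_ι]; exact inf_le_right)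
    haveI : IsIso (ψ U) := by
      simp only [ψ, Scheme.Hom.appLE]
      have : IsIso ((Y : Scheme.{u}).presheaf.map (homOfLE (hpre U).le).op) := by
        rw [show homOfLE (hpre U).le = eqToHom (hpre U) from Subsingleton.elim _ _]; infer_instance
      infer_instance
    exact (ConcreteCategory.isIso_iff_bijective (ψ U)).mp inferInstance
  have happ : ∀ U, (Y.ι ≫ p).app U = p.appLE U (V U) inf_le_left ≫ ψ U := fun U => by
    simp only [ψ, Scheme.Hom.appLE_comp_appLE]
    rw [Scheme.Hom.app_eq_appLE]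
  refine ⟨inferInstance, hinv, fun U a b hab => ?_, fun U t => ⟨?_, fun ht => ?_⟩⟩
  · refine hP.injective U ?_
    rw [happ, CommRingCat.comp_apply, CommRingCat.comp_apply] at hab
    have h0 := (hψ U).1 hab
    refine X.sheaf.eq_of_locally_eq' (W U) (p ⁻¹ᵁ U) (fun g => homOfLE inf_le_left) ?_ _ _ fun g => ?_
    · intro x hx
      obtain ⟨g, hg⟩ := hcov' x
      exact Opens.mem_iSup.mpr ⟨g, hx, hg⟩
    · have key : p.app U ≫ X.presheaf.map (homOfLE (inf_le_left : W U g ≤ p ⁻¹ᵁ U)).op =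
          p.appLE U (V U) inf_le_left ≫ (e g).appLE (V U) (W U g) (hW U g) := by
        rw [Scheme.Hom.appLE_comp_appLE, Groth.Agent.QuotSch.appLE_congr_hom (epi g)]
        rfl
      show (p.app U ≫ X.presheaf.map (homOfLE (inf_le_left : W U g ≤ p ⁻¹ᵁ U)).op).hom a =
        (p.app U ≫ X.presheaf.map (homOfLE (inf_le_left : W U g ≤ p ⁻¹ᵁ U)).op).hom b
      rw [key, CommRingCat.comp_apply, CommRingCat.comp_apply, h0]
  · rintro ⟨a, rfl⟩ h
    rw [← CommRingCat.comp_apply, Scheme.Hom.app_eq_appLE, Scheme.Hom.appLE_comp_appLE,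
      Groth.Agent.QuotSch.appLE_congr_hom (hinv h)]
  · obtain ⟨t0, rfl⟩ := (hψ U).2 t
    have hVV : ∀ h : H, V U ≤ (e (h : G)) ⁻¹ᵁ V U := fun h x hx => ⟨by
      show p.base ((e (h : G)).base x) ∈ U
      rw [epb]; exact hx.1, hHY h x hx.2⟩
    have hfix : ∀ h : H, ((e (h : G)).appLE (V U) (V U) (hVV h)).hom t0 = t0 := by
      intro h
      apply (hψ U).1
      have hh : (e (h : G)).appLE (V U) (V U) (hVV h) ≫ ψ U = ψ U ≫
          (ρY h).hom.appLE ((Y.ι ≫ p) ⁻¹ᵁ U) ((Y.ι ≫ p) ⁻¹ᵁ U) (SGA1.preimage_le_of_inv ρY (Y.ι ≫ p) hinv h U) := by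
        simp only [ψ, Scheme.Hom.appLE_comp_appLE]
        exact Groth.Agent.QuotSch.appLE_congr_hom (hρY h).symm _ _ _
      exact (congrArg (fun F => F.hom t0) hh).trans (ht h)
    let sf : ∀ g, Γ(X, W U g) := fun g => ((e g).appLE (V U) (W U g) (hW U g)).hom t0
    have hcompat : X.sheaf.presheaf.IsCompatible (W U) sf := by
      intro g g'
      by_cases hne : Nonempty (W U g ⊓ W U g' : X.Opens)
      · obtain ⟨⟨x, hxg, hxg'⟩⟩ := hne
        have hh : g' * g⁻¹ ∈ H := by
          refine hmemH _ ((e g).base x) hxg.2 ?_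
          rw [← ecomp, inv_mul_cancel_right]; exact hxg'.2
        have heq : e g' = e g ≫ e (g' * g⁻¹) := by rw [← emul, inv_mul_cancel_right]
        show ((e g).appLE (V U) (W U g) (hW U g) ≫ X.presheaf.map (homOfLE (inf_le_left : W U g ⊓ W U g' ≤ W U g)).op).hom t0 =
          ((e g').appLE (V U) (W U g') (hW U g') ≫ X.presheaf.map (homOfLE (inf_le_right : W U g ⊓ W U g' ≤ W U g')).op).hom t0
        rw [Scheme.Hom.appLE_map, Scheme.Hom.appLE_map, Groth.Agent.QuotSch.appLE_congr_hom heq,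
          ← Scheme.Hom.appLE_comp_appLE (e g) (e (g' * g⁻¹)) (V U) (V U) _
            (hVV ⟨_, hh⟩) (show W U g ⊓ W U g' ≤ (e g) ⁻¹ᵁ V U from fun x hx => hW U g hx.1), CommRingCat.comp_apply]
        exact congrArg _ (hfix ⟨_, hh⟩).symm
      · have : (W U g ⊓ W U g' : X.Opens) = ⊥ := by
          ext x
          exact ⟨fun hx => hne ⟨⟨x, hx⟩⟩, False.elim⟩
        have hsub : Subsingleton Γ(X, W U g ⊓ W U g') := by
          rw [this]; infer_instance
        exact hsub.elim _ _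
    obtain ⟨s, hs, -⟩ := X.sheaf.existsUnique_gluing' (W U) (p ⁻¹ᵁ U) (fun g => homOfLE inf_le_left)
      (fun x hx => by
        obtain ⟨g, hg⟩ := hcov' x
        exact Opens.mem_iSup.mpr ⟨g, hx, hg⟩) sf hcompat
    have hs' : ∀ g, (X.presheaf.map (homOfLE (inf_le_left : W U g ≤ p ⁻¹ᵁ U)).op).hom s = sf g := hs
    have hsinv : s ∈ Set.range (p.app U).hom := by
      refine (hP.range_iff U s).2 fun a => ?_
      refine X.sheaf.eq_of_locally_eq' (W U) (p ⁻¹ᵁ U) (fun g => homOfLE inf_le_left) ?_ _ _ fun g => ?_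
      · intro x hx
        obtain ⟨g, hg⟩ := hcov' x
        exact Opens.mem_iSup.mpr ⟨g, hx, hg⟩
      · have hle : W U g ≤ (e a) ⁻¹ᵁ W U (g * a⁻¹) := fun x hx => ⟨by
          show p.base ((e a).base x) ∈ U
          rw [epb]; exact hx.1, by
          show (e (g * a⁻¹)).base ((e a).base x) ∈ Y
          rw [← ecomp, inv_mul_cancel_right]; exact hx.2⟩
        have k1 : (e a).appLE (p ⁻¹ᵁ U) (p ⁻¹ᵁ U) (SGA1.preimage_le_of_inv ρ p hP.inv a U) ≫
            X.presheaf.map (homOfLE (inf_le_left : W U g ≤ p ⁻¹ᵁ U)).op =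
            X.presheaf.map (homOfLE (inf_le_left : W U (g * a⁻¹) ≤ p ⁻¹ᵁ U)).op ≫ (e a).appLE _ (W U g) hle := by
          rw [Scheme.Hom.appLE_map, Scheme.Hom.map_appLE]
        refine ((congrArg (fun F => F.hom s) k1).trans ?_).trans (hs' g).symm
        show ((e a).appLE _ (W U g) hle).hom ((X.presheaf.map (homOfLE (inf_le_left : W U (g * a⁻¹) ≤ p ⁻¹ᵁ U)).op).hom s) = sf g
        rw [hs']
        show (((e (g * a⁻¹)).appLE (V U) _ (hW U _) ≫ (e a).appLE _ (W U g) hle)).hom t0 = sf g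
        rw [Scheme.Hom.appLE_comp_appLE, Groth.Agent.QuotSch.appLE_congr_hom
          (show e a ≫ e (g * a⁻¹) = e g by rw [← emul, inv_mul_cancel_right])]
    obtain ⟨a, ha⟩ := hsinv
    refine ⟨a, ?_⟩
    rw [happ, CommRingCat.comp_apply]
    congr 1
    have hle1 : V U ≤ W U 1 := fun x hx => ⟨hx.1, by
      show (e 1).base x ∈ Y
      rw [eone]; exact hx.2⟩
    have k2 : p.appLE U (V U) inf_le_left = p.app U ≫ X.presheaf.map (homOfLE (inf_le_left : W U 1 ≤ p ⁻¹ᵁ U)).op ≫
        X.presheaf.map (homOfLE hle1).op := by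
      rw [← Functor.map_comp]; rfl
    rw [k2, CommRingCat.comp_apply, CommRingCat.comp_apply, ha, hs']
    show (((e 1).appLE (V U) (W U 1) (hW U 1)) ≫ X.presheaf.map (homOfLE hle1).op).hom t0 = t0
    rw [Scheme.Hom.appLE_map, Groth.Agent.QuotSch.appLE_congr_hom e1, Scheme.Hom.appLE]
    simp
    exact congrArg (fun F => F.hom t0) (X.presheaf.map_id (op (V U)))

end Groth.Agent.S13080
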