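import Groth.Statements.S13081
import Groth.Agent.QuotSch.Affine
import Groth.Agent.QuotSch.Univ

set_option autoImplicit false
universe u
open CategoryTheory AlgebraicGeometry Limits
open Zeta

namespace Groth.Agent.S13081

set_option backward.isDefEq.respectTransparency.types false

/-- Let G be a finite group acting by algebraic automorphisms over k on a scheme X of finite type over k
admitting a quotient X → X/G, and H a normal subgroup of G. Then X/H carries an induced action of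
G/H and its quotient by this action is X/G: the induced morphism r : X/H → X/G is a quotient of X/H
by G/H. The induced action ρ̄ is pinned by p_H ≫ ρ̄(ḡ) = ρ(g) ≫ p_H and r by p_H ≫ r = p. -/
theorem result {k : Type u} [Field k] {G : Type u} [Group G]
    [Finite G] {X XG XH : Scheme.{u}} (fX : X ⟶ Spec (CommRingCat.of k)) [LocallyOfFiniteType fX]
    [QuasiCompact fX] (ρ : G →* Aut X) (hρ : ∀ g, (ρ g).hom ≫ fX = fX) (p : X ⟶ XG)
    (hP : SGA1.IsQuot ρ p) (H : Subgroup G) [H.Normal] (pH : X ⟶ XH)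
    (hPH : SGA1.IsQuot (ρ.comp H.subtype) pH) (ρbar : G ⧸ H →* Aut XH)
    (hρbar : ∀ g : G, pH ≫ (ρbar (QuotientGroup.mk g)).hom = (ρ g).hom ≫ pH)
    (r : XH ⟶ XG) (hr : pH ≫ r = p) :
    SGA1.IsQuot ρbar r := by
  subst hr
  haveI := hP.affine
  have hinv : ∀ q : G ⧸ H, (ρbar q).hom ≫ r = r := fun q => QuotientGroup.induction_on q fun g => by
    refine (Groth.Agent.QuotSch.existsUnique_desc hPH (pH ≫ r) (fun h => hP.inv (h : G))).unique ?_ rfl
    rw [← Category.assoc, hρbar g, Category.assoc]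
    exact hP.inv g
  have haff : IsAffineHom r := ⟨fun U hU =>
    Groth.Agent.QuotSch.isAffineOpen_of_preimage hPH (r ⁻¹ᵁ U) (hU.preimage (pH ≫ r))⟩
  refine ⟨haff, hinv, fun U a b hab => hP.injective U ?_, fun U t => ⟨?_, fun ht => ?_⟩⟩
  · rw [Scheme.Hom.comp_app]
    exact congrArg (pH.app (r ⁻¹ᵁ U)).hom hab
  · rintro ⟨a, rfl⟩ q
    rw [← CommRingCat.comp_apply, Scheme.Hom.app_eq_appLE, Scheme.Hom.appLE_comp_appLE,
      Groth.Agent.QuotSch.appLE_congr_hom (hinv q)]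
  · have hs : (pH.app (r ⁻¹ᵁ U)).hom t ∈ Set.range ((pH ≫ r).app U).hom := by
      refine (hP.range_iff U _).2 fun g => ?_
      have h1 : pH.app (r ⁻¹ᵁ U) ≫ (ρ g).hom.appLE ((pH ≫ r) ⁻¹ᵁ U) ((pH ≫ r) ⁻¹ᵁ U) (SGA1.preimage_le_of_inv ρ _ hP.inv g U) =
          (ρbar (QuotientGroup.mk g)).hom.appLE (r ⁻¹ᵁ U) (r ⁻¹ᵁ U) (SGA1.preimage_le_of_inv ρbar r hinv _ U) ≫ pH.app (r ⁻¹ᵁ U) := by
        simp only [Scheme.Hom.app_eq_appLE]
        erw [Scheme.Hom.appLE_comp_appLE, Scheme.Hom.appLE_comp_appLE]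
        rw [Groth.Agent.QuotSch.appLE_congr_hom (hρbar g).symm]
        rfl
      have h2 := congrArg (fun F => F.hom t) h1
      refine h2.trans ?_
      show (pH.app (r ⁻¹ᵁ U)).hom _ = (pH.app (r ⁻¹ᵁ U)).hom t
      exact congrArg (pH.app (r ⁻¹ᵁ U)).hom (ht _)
    obtain ⟨a, ha⟩ := hs
    exact ⟨a, hPH.injective (r ⁻¹ᵁ U) (by rw [Scheme.Hom.comp_app] at ha; exact ha)⟩

end Groth.Agent.S13081
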