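import Groth.Statements.S13082
import Groth.Agent.QuotSch.GeomPoints

set_option autoImplicit false
universe u
open CategoryTheory AlgebraicGeometry Limits
open Zeta

namespace Groth.Agent.S13082

/-- Let X be a scheme of finite type over k with an action of a finite group G by algebraic
automorphisms over k admitting a quotient π : X → X/G, and W a locally closed subscheme of X on
which G induces an action. Then the canonical morphism W/G → π(W) is radicial and surjective: the
induced morphism φ : W/G → X/G is universally injective with set-theoretic image π(W). The action on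
W is pinned along the immersion j : W → X, φ by p_W ≫ φ = j ≫ π for a quotient p_W : W → W/G. -/
theorem result {k : Type u} [Field k] {G : Type u}
    [Group G] [Finite G] {X XG W WG : Scheme.{u}} (fX : X ⟶ Spec (CommRingCat.of k))
    [LocallyOfFiniteType fX] [QuasiCompact fX] (ρ : G →* Aut X) (hρ : ∀ g, (ρ g).hom ≫ fX = fX)
    (p : X ⟶ XG) (hP : SGA1.IsQuot ρ p) (j : W ⟶ X) [IsImmersion j] (ρW : G →* Aut W)
    (hρW : ∀ g, (ρW g).hom ≫ j = j ≫ (ρ g).hom) (pW : W ⟶ WG) (hPW : SGA1.IsQuot ρW pW)
    (φ : WG ⟶ XG) (hφ : pW ≫ φ = j ≫ p) :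
    UniversallyInjective φ ∧ Set.range φ.base = p.base '' Set.range j.base := by
  haveI hWs : Surjective pW := ⟨Groth.Agent.QuotSch.surjective hPW⟩
  haveI := Groth.Agent.QuotSch.isIntegralHom hPW
  refine ⟨((tfae_universallyInjective φ).out 0 1).2 fun K iK a b hab => ?_, ?_⟩
  · letI := iK
    let q : Spec (CommRingCat.of (AlgebraicClosure K)) ⟶ Spec (CommRingCat.of K) :=
      Spec.map (CommRingCat.ofHom (algebraMap K (AlgebraicClosure K)))
    haveI : Surjective q := ⟨fun x => ⟨IsLocalRing.closedPoint _, Subsingleton.elim (α := PrimeSpectrum K) _ _⟩⟩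
    haveI : Flat q := Flat.SpecMap_iff.2 (RingHom.flat_algebraMap_iff.2 inferInstance)
    haveI := Flat.epi_of_flat_of_surjective q
    rw [← cancel_epi q]
    obtain ⟨a', ha⟩ := Groth.Agent.QuotSch.exists_lift_of_isIntegralHom pW (q ≫ a)
    obtain ⟨b', hb⟩ := Groth.Agent.QuotSch.exists_lift_of_isIntegralHom pW (q ≫ b)
    have hab' : a ≫ φ = b ≫ φ := hab
    obtain ⟨g, hg⟩ := Groth.Agent.QuotSch.exists_comp_eq_of_point hP (a' ≫ j) (b' ≫ j) (by
      rw [Category.assoc, Category.assoc, ← hφ, ← Category.assoc, ← Category.assoc, ha, hb,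
        Category.assoc, Category.assoc, hab'])
    rw [Category.assoc, ← hρW, ← Category.assoc, cancel_mono] at hg
    rw [← ha, ← hb, hg, Category.assoc, hPW.inv]
  · have h2 : ∀ w, φ.base (pW.base w) = p.base (j.base w) := fun w => by
      rw [← Scheme.Hom.comp_apply, hφ, Scheme.Hom.comp_apply]
    ext z
    constructor
    · rintro ⟨y, rfl⟩
      obtain ⟨w, rfl⟩ := Groth.Agent.QuotSch.surjective hPW y
      exact ⟨_, ⟨w, rfl⟩, (h2 w).symm⟩
    · rintro ⟨_, ⟨w, rfl⟩, rfl⟩
      exact ⟨_, h2 w⟩

end Groth.Agent.S13082
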