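import Groth.Statements.S13084
import Groth.Agent.ZetaFun.Euler

set_option autoImplicit false
universe u
open CategoryTheory AlgebraicGeometry
open Zeta

namespace Groth.Agent.S13084

set_option backward.isDefEq.respectTransparency.types false
open Groth.Agent.ZetaFun Groth.Agent.FunFldLib

theorem term_sum {k : Type u} [Field k] [Finite k]
    {Y : Scheme.{u}} (f : Y ⟶ Spec (CommRingCat.of k)) [LocallyOfFiniteType f] [QuasiCompact f] (r : ℕ)
    (hr : topologicalKrullDim Y ≤ r) (s : ℂ) (hs : (r : ℝ) < s.re) :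
    LSeriesSummable (Zeta.arithCoeff Y) s ∧ LSeries (Zeta.arithCoeff Y) s ≠ 0 := by
  let q := Nat.card k
  have hq : 1 < q := Finite.one_lt_card
  have hq0 : (0 : ℝ) < q := Nat.cast_pos.2 (by omega)
  let Z := Zeta.zetaFun f
  let D := Z⁻¹
  have hZ0 : PowerSeries.constantCoeff Z ≠ 0 := by
    rw [← PowerSeries.coeff_zero_eq_constantCoeff_apply, coeff_zero_zetaFun f]; exact one_ne_zero
  have hZD : Z * D = 1 := PowerSeries.mul_inv_cancel _ hZ0
  have hθD : theta D = D * (-U f) := by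
    have h := congrArg theta hZD
    rw [theta_mul, theta_one, show theta Z = Z * U f from theta_zetaFun f] at h
    refine mul_left_cancel₀ (a := Z) (fun h0 => hZ0 (by rw [h0, map_zero])) ?_
    linear_combination h
  obtain ⟨c, hc⟩ := nPts_bound f r hr
  have hbU : ∀ j, 0 < j → |((PowerSeries.coeff j (U f) : ℚ) : ℝ)| ≤ (c : ℝ) * ((q : ℝ) ^ r) ^ j := fun j hj => by
    rw [U, PowerSeries.coeff_mk, Rat.cast_natCast, abs_of_nonneg (Nat.cast_nonneg _)]
    exact_mod_cast hc j hj
  have hbU' : ∀ j, 0 < j → |((PowerSeries.coeff j (-U f) : ℚ) : ℝ)| ≤ (c : ℝ) * ((q : ℝ) ^ r) ^ j := fun j hj => by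
    rw [map_neg, Rat.cast_neg, abs_neg]; exact hbU j hj
  have hQ : (0 : ℝ) < (q : ℝ) ^ r := pow_pos hq0 r
  have hlt : (q : ℝ) ^ r < (q : ℝ) ^ s.re := by
    rw [← Real.rpow_natCast]; exact Real.rpow_lt_rpow_of_exponent_lt (by exact_mod_cast hq) hs
  let R : ℝ := ((q : ℝ) ^ r + (q : ℝ) ^ s.re) / 2
  have hR : (q : ℝ) ^ r < R := by simp only [R]; linarith
  have hR' : R < (q : ℝ) ^ s.re := by simp only [R]; linarith
  let t : ℂ := ((q : ℂ) ^ s)⁻¹
  have htn : ‖t‖ = ((q : ℝ) ^ s.re)⁻¹ := by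
    rw [norm_inv, Complex.norm_natCast_cpow_of_pos (by omega)]
  have hgeo : Summable fun m : ℕ => (R / (q : ℝ) ^ s.re) ^ m :=
    summable_geometric_of_lt_one (div_nonneg (hQ.le.trans hR.le) (Real.rpow_nonneg hq0.le _))
      ((div_lt_one (hQ.trans hlt)).2 hR')
  have key : ∀ F W : PowerSeries ℚ, theta F = F * W → PowerSeries.coeff 0 W = 0 →
      (∀ j, 0 < j → |((PowerSeries.coeff j W : ℚ) : ℝ)| ≤ (c : ℝ) * ((q : ℝ) ^ r) ^ j) →
      Summable fun m => ‖((PowerSeries.coeff m F : ℚ) : ℂ) * t ^ m‖ := by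
    intro F W hF hW hb
    obtain ⟨K, hK⟩ := exists_geom_bound F W hF hW c _ (Nat.cast_nonneg c) hQ hb R hR
    refine Summable.of_nonneg_of_le (fun _ => norm_nonneg _) (fun m => ?_) (hgeo.mul_left K)
    rw [norm_mul, norm_pow, htn, Complex.norm_ratCast, div_pow, inv_pow, ← div_eq_mul_inv, mul_div_assoc']
    exact div_le_div_of_nonneg_right (hK m) (pow_nonneg (Real.rpow_nonneg hq0.le _) m)
  have hsZ := key Z (U f) (theta_zetaFun f) (coeff_U_zero f) hbU
  have hsD := key D (-U f) hθD (by rw [map_neg, coeff_U_zero, neg_zero]) hbU'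
  let g : ℕ → ℕ := fun m => q ^ m
  have hg : Function.Injective g := Nat.pow_right_injective hq
  have hpow : ∀ m : ℕ, ((q ^ m : ℕ) : ℂ) ^ s = ((q : ℂ) ^ s) ^ m := by
    intro m
    induction m with
    | zero => simp
    | succ m ih => rw [pow_succ q m, Nat.cast_mul, Complex.natCast_mul_natCast_cpow, ih, pow_succ]
  have hterm : ∀ m, LSeries.term (Zeta.arithCoeff Y) s (g m) = ((PowerSeries.coeff m Z : ℚ) : ℂ) * t ^ m := fun m => by
    rw [LSeries.term_of_ne_zero (pow_ne_zero m (by omega)), hpow, ← cycleNormCount_pow f m, Rat.cast_natCast,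
      inv_pow, ← div_eq_mul_inv]
    rfl
  have hsupp : ∀ n ∉ Set.range g, LSeries.term (Zeta.arithCoeff Y) s n = 0 := fun n hn => by
    rcases eq_or_ne n 0 with rfl | h0
    · exact LSeries.term_zero ..
    · rw [LSeries.term_of_ne_zero h0, Zeta.arithCoeff, cycleNormCount_eq_zero f hn, Nat.cast_zero, zero_div]
  have hcomp : (LSeries.term (Zeta.arithCoeff Y) s ∘ g) = fun m => ((PowerSeries.coeff m Z : ℚ) : ℂ) * t ^ m :=
    funext hterm
  constructor
  · rw [LSeriesSummable, ← hg.summable_iff hsupp, hcomp]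
    exact hsZ.of_norm
  · have hL : LSeries (Zeta.arithCoeff Y) s = ∑' m, ((PowerSeries.coeff m Z : ℚ) : ℂ) * t ^ m := by
      rw [LSeries, ← hg.tsum_eq (fun n hn => by by_contra h; exact hn (hsupp n h))]
      exact tsum_congr hterm
    have h1 := tsum_mul_tsum_eq_tsum_sum_antidiagonal_of_summable_norm hsZ hsD
    have hanti : ∀ n : ℕ, (∑ kl ∈ Finset.HasAntidiagonal.antidiagonal n,
        ((PowerSeries.coeff kl.1 Z : ℚ) : ℂ) * t ^ kl.1 * (((PowerSeries.coeff kl.2 D : ℚ) : ℂ) * t ^ kl.2)) =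
        if n = 0 then 1 else 0 := by
      intro n
      have h := congrArg (fun z : ℚ => (z : ℂ)) (congrArg (PowerSeries.coeff n) hZD)
      simp only [PowerSeries.coeff_mul, PowerSeries.coeff_one, Rat.cast_sum, Rat.cast_mul, apply_ite (fun z : ℚ => (z : ℂ)),
        Rat.cast_one, Rat.cast_zero] at h
      calc _ = (∑ kl ∈ Finset.HasAntidiagonal.antidiagonal n,
            ((PowerSeries.coeff kl.1 Z : ℚ) : ℂ) * ((PowerSeries.coeff kl.2 D : ℚ) : ℂ)) * t ^ n := by
            rw [Finset.sum_mul]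
            refine Finset.sum_congr rfl fun kl hkl => ?_
            rw [← Finset.HasAntidiagonal.mem_antidiagonal.1 hkl, pow_add]
            ring
        _ = (if n = 0 then 1 else 0) * t ^ n := by rw [h]
        _ = _ := by split_ifs with hn <;> simp [hn]
    intro h0
    rw [← hL, h0, zero_mul, tsum_congr hanti, tsum_ite_eq] at h1
    exact zero_ne_one h1

/-- If Y is a scheme of finite type over F_p (here: over any finite field) of dimension r, then the
Dirichlet series L_Y(s) = Σ_{n ≥ 1} a_n n^{−s}, where a_n is the number of effective 0-cycles on Y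
of norm n, is convergent for Re(s) > r and has no zeros in this half-plane. The dimension is only
assumed ≤ r. -/
theorem result {k : Type u} [Field k] [Finite k]
    {Y : Scheme.{u}} (f : Y ⟶ Spec (CommRingCat.of k)) [LocallyOfFiniteType f] [QuasiCompact f] (r : ℕ)
    (hr : topologicalKrullDim Y ≤ r) :
    LSeries.abscissaOfAbsConv (Zeta.arithCoeff Y) ≤ (r : ℝ) ∧
      ∀ s : ℂ, (r : ℝ) < s.re → LSeries (Zeta.arithCoeff Y) s ≠ 0 := by
  refine ⟨LSeries.abscissaOfAbsConv_le_of_forall_lt_LSeriesSummable fun y hy => ?_,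
    fun s hs => (term_sum f r hr s hs).2⟩
  exact (term_sum f r hr (y : ℂ) (by simpa using hy)).1

end Groth.Agent.S13084
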