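import Groth.Statements.S13096
import Mathlib

set_option autoImplicit false
universe u v
open CAlg

namespace Groth.Agent.S13096

/-- Let R be a commutative ring and R' a commutative R-algebra of finite presentation. Then every
surjective R-algebra endomorphism α : R' → R' is bijective (an automorphism). -/
theorem result (R : Type u) [CommRing R]
    (R' : Type v) [CommRing R'] [Algebra R R'] [Algebra.FinitePresentation R R']
    (α : R' →ₐ[R] R') (hα : Function.Surjective α) : Function.Bijective α := by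
  classical
  refine ⟨?_, hα⟩
  have hft : Algebra.FiniteType R R' := inferInstance
  obtain ⟨s, hs⟩ := hft.out
  set G : Finset R → Set R' := fun T => algebraMap R R' '' (T : Set R) ∪ (s : Set R') with hG
  have mono : ∀ T T' : Finset R, T ⊆ T' → Algebra.adjoin ℤ (G T) ≤ Algebra.adjoin ℤ (G T') :=
    fun T T' h => Algebra.adjoin_mono (Set.union_subset_union_left _ (Set.image_mono (by simpa using h)))
  have hz : ∀ z : R', ∃ T : Finset R, z ∈ Algebra.adjoin ℤ (G T) := by
    intro z
    have hz' : z ∈ Algebra.adjoin R (s : Set R') := by rw [hs]; exact Algebra.mem_top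
    induction hz' using Algebra.adjoin_induction with
    | mem x hx => exact ⟨∅, Algebra.subset_adjoin (Or.inr hx)⟩
    | algebraMap r => exact ⟨{r}, Algebra.subset_adjoin (Or.inl ⟨r, by simp, rfl⟩)⟩
    | add a b _ _ ha hb =>
      obtain ⟨Ta, ha⟩ := ha
      obtain ⟨Tb, hb⟩ := hb
      exact ⟨Ta ∪ Tb, add_mem (mono _ _ Finset.subset_union_left ha) (mono _ _ Finset.subset_union_right hb)⟩
    | mul a b _ _ ha hb =>
      obtain ⟨Ta, ha⟩ := ha
      obtain ⟨Tb, hb⟩ := hb
      exact ⟨Ta ∪ Tb, mul_mem (mono _ _ Finset.subset_union_left ha) (mono _ _ Finset.subset_union_right hb)⟩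
  choose T hT using hz
  choose w hw using hα
  rw [injective_iff_map_eq_zero]
  intro y hy
  set T0 : Finset R := (s.biUnion fun x => T (α x) ∪ T (w x)) ∪ T y with hT0
  set S : Subalgebra ℤ R' := Algebra.adjoin ℤ (G T0) with hS
  set β : R' →ₐ[ℤ] R' := α.restrictScalars ℤ with hβ
  have hmaps : ∀ z ∈ S, α z ∈ S := by
    intro z hz
    have : S.map β ≤ S := by
      rw [hS, AlgHom.map_adjoin]
      refine Algebra.adjoin_le ?_
      rintro _ ⟨g, hg, rfl⟩
      rcases hg with ⟨r, hr, rfl⟩ | hg
      · exact Algebra.subset_adjoin (Or.inl ⟨r, hr, by simp [hβ]⟩)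
      · refine mono _ _ ?_ (hT (α g))
        intro a ha
        exact Finset.mem_union_left _ (Finset.mem_biUnion.2 ⟨g, hg, Finset.mem_union_left _ ha⟩)
    exact this ⟨z, hz, rfl⟩
  have honto : ∀ z ∈ S, ∃ u ∈ S, α u = z := by
    intro z hz
    have : S ≤ S.map β := by
      rw [hS]
      refine Algebra.adjoin_le ?_
      rintro g (⟨r, hr, rfl⟩ | hg)
      · exact ⟨algebraMap R R' r, Algebra.subset_adjoin (Or.inl ⟨r, hr, rfl⟩), by simp [hβ]⟩
      · refine ⟨w g, mono _ _ ?_ (hT (w g)), hw g⟩
        intro a ha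
        exact Finset.mem_union_left _ (Finset.mem_biUnion.2 ⟨g, hg, Finset.mem_union_right _ ha⟩)
    obtain ⟨u, hu, hu'⟩ := this hz
    exact ⟨u, hu, hu'⟩
  have hfin : (G T0).Finite := (T0.finite_toSet.image _).union s.finite_toSet
  haveI : Algebra.FiniteType ℤ S :=
    (Subalgebra.fg_iff_finiteType S).1 (Subalgebra.fg_def.2 ⟨G T0, hfin, rfl⟩)
  haveI : IsNoetherianRing S := Algebra.FiniteType.isNoetherianRing ℤ S
  let γ : S →+* S := α.toRingHom.restrict S S hmaps
  let K : ℕ →o Ideal S :=
    { toFun := fun n => RingHom.ker (γ ^ n)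
      monotone' := monotone_nat_of_le_succ fun n a ha => by
        rw [RingHom.mem_ker] at ha ⊢
        rw [pow_succ', RingHom.mul_def, RingHom.comp_apply, ha, map_zero] }
  obtain ⟨N, hN⟩ := monotone_stabilizes_iff_noetherian.mpr (inferInstance : IsNoetherianRing S) K
  have hsurj : Function.Surjective γ := fun ⟨z, hz⟩ => by
    obtain ⟨u, hu, hu'⟩ := honto z hz
    exact ⟨⟨u, hu⟩, Subtype.ext hu'⟩
  have hyS : y ∈ S := mono _ _ Finset.subset_union_right (hT y)
  obtain ⟨b, hb⟩ := hsurj.iterate N ⟨y, hyS⟩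
  have h1 : b ∈ K (N + 1) := by
    show b ∈ RingHom.ker (γ ^ (N + 1))
    rw [RingHom.mem_ker, pow_succ', RingHom.mul_def, RingHom.comp_apply, RingHom.coe_pow, hb]
    exact Subtype.ext hy
  rw [← hN (N + 1) N.le_succ] at h1
  have h2 : (γ ^ N) b = 0 := h1
  rw [RingHom.coe_pow, hb] at h2
  exact congrArg Subtype.val h2

end Groth.Agent.S13096
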