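import Groth.Statements.S13097
import Mathlib.AlgebraicGeometry.ZariskisMainTheorem
import Mathlib.AlgebraicGeometry.Morphisms.Separated

set_option autoImplicit false
set_option linter.style.haveILetI false
universe u
open FlatMor

namespace Groth.Agent.S13097

open CategoryTheory AlgebraicGeometry in
/-- Let f : X → S be a quasi-compact, separated morphism of schemes with a section e : S → X (e followed
by f is the identity of S), and U ⊆ S an open subscheme such that f⁻¹(U) is schematically dense in X
(for every open V of X, restriction of functions from V to V ∩ f⁻¹(U) is injective) and such that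
the restriction f⁻¹(U) → U of f is a homeomorphism of underlying spaces. Then f is universally a
homeomorphism (every base change of f is a homeomorphism), and f is finite as soon as it is locally
of finite type. (The published statement also lists surjectivity of f, which a section forces, and
offers as an alternative to the section the hypothesis that f be flat, still with f⁻¹(U) → U only a
homeomorphism; that flat alternative fails: the spectrum of a separable quadratic field extension
over the spectrum of the ground field, with U the whole base, is flat, surjective, quasi-compact,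
separated and a homeomorphism over U, yet not universally injective. Only the case of a section,
whose published proof is complete, is stated here.) -/
theorem result {X S : Scheme.{u}} (f : X ⟶ S)
    [QuasiCompact f] [IsSeparated f] (U : S.Opens)
    (hdense : CInt.IsSchematicallyDense (f ⁻¹ᵁ U)) (hU : IsHomeomorph (f ∣_ U).base)
    (e : S ⟶ X) (he : e ≫ f = 𝟙 S) :
    FlatMor.IsUnivHomeo f ∧ (LocallyOfFiniteType f → IsFinite f) := by
  haveI : IsClosedImmersion (e ≫ f) := by rw [he]; infer_instance
  haveI : IsClosedImmersion e := IsClosedImmersion.of_comp e f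
  have hdense' : Dense ((f ⁻¹ᵁ U : X.Opens) : Set X) := by
    rw [dense_iff_inter_open]
    intro V hV hne
    by_contra h
    rw [Set.not_nonempty_iff_eq_empty] at h
    obtain ⟨x, hx⟩ := hne
    let W : X.Opens := ⟨V, hV⟩
    have hbot : W ⊓ f ⁻¹ᵁ U = ⊥ := TopologicalSpace.Opens.ext h
    have hsub : Subsingleton Γ(X, W ⊓ f ⁻¹ᵁ U) := by
      rw [hbot]; infer_instance
    have h01 : (1 : Γ(X, W)) = 0 := hdense W (Subsingleton.elim _ _)
    exact one_ne_zero (α := X.presheaf.stalk x)
      (by rw [← map_one (X.presheaf.germ W x hx).hom, h01, map_zero])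
  have hinj : ∀ x ∈ f ⁻¹ᵁ U, x ∈ Set.range e := by
    intro x hx
    refine ⟨f x, ?_⟩
    have hex : e (f x) ∈ f ⁻¹ᵁ U := by
      change f (e (f x)) ∈ U
      rw [← Scheme.Hom.comp_apply, he]
      exact hx
    have := hU.injective (a₁ := (⟨e (f x), hex⟩ : ↥(f ⁻¹ᵁ U))) (a₂ := ⟨x, hx⟩) (by
      apply Subtype.ext
      rw [morphismRestrict_base_coe, morphismRestrict_base_coe]
      change f (e (f x)) = f x
      rw [← Scheme.Hom.comp_apply, he]
      rfl)
    exact congrArg Subtype.val this
  have hsurj : Surjective e := ⟨fun x => by
    have h1 : closure ((f ⁻¹ᵁ U : X.Opens) : Set X) ⊆ Set.range e :=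
      closure_minimal hinj e.isClosedEmbedding.isClosed_range
    exact h1 (hdense' x)⟩
  have huh : FlatMor.IsUnivHomeo f := by
    intro X' S' g' g f' hc₀
    have hc : IsPullback g' f' f g := hc₀.flip
    let e' : S' ⟶ X' := hc.lift (g ≫ e) (𝟙 S') (by rw [Category.assoc, he, Category.comp_id, Category.id_comp])
    have he' : e' ≫ f' = 𝟙 S' := hc.lift_snd _ _ _
    have hsq : IsPullback g e' e g' := by
      refine IsPullback.of_bot ?_ (hc.lift_fst _ _ _).symm hc
      rw [he', he]
      exact IsPullback.of_vert_isIso ⟨by simp⟩
    haveI : Surjective e' := MorphismProperty.of_isPullback hsq hsurj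
    haveI : IsClosedImmersion e' := MorphismProperty.of_isPullback hsq ‹IsClosedImmersion e›
    let φ := e'.isClosedEmbedding.isEmbedding.toHomeomorphOfSurjective e'.surjective
    have : (f' : X' → S') = φ.symm := funext fun x => by
      obtain ⟨s, rfl⟩ := e'.surjective x
      rw [← Scheme.Hom.comp_apply, he']
      exact (φ.symm_apply_apply s).symm
    change IsHomeomorph (f' : X' → S')
    rw [this]
    exact φ.symm.isHomeomorph
  refine ⟨huh, fun hlft => ?_⟩
  have hh : IsHomeomorph (f : X → S) := huh (𝟙 X) (𝟙 S) f (IsPullback.of_vert_isIso ⟨by simp⟩)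
  haveI : UniversallyClosed f := ⟨fun {X' S'} g' g f' hc => (huh g' g f' hc).isClosedMap⟩
  haveI : IsProper f := {}
  haveI : LocallyQuasiFinite f := LocallyQuasiFinite.of_injective hh.injective
  exact (IsFinite.iff_isProper_and_locallyQuasiFinite f).2 ⟨inferInstance, inferInstance⟩

end Groth.Agent.S13097
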