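import Groth.Statements.S13098
import Mathlib


set_option autoImplicit false
universe u v
open Lie3Mod

namespace Groth.Agent.S13098

/-- Let R be a commutative ring, M an R-module with a basis x = bs 0, y = bs 1, z = bs 2 indexed by Fin
3, and B an R-bilinear alternating map on M (B m m = 0) with B x y = a x + b y + c z, B x z = d x +
e y + f z and B y z = g x + h y + i z. Then B satisfies the Jacobi identity for all triples if and
only if the three Jacobi polynomials vanish: ah + di − fg − bg = 0, ie + bd − fh − ae = 0 and hc +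
dc − af − bi = 0. (This is the statement that Lie brackets on a based free module of rank 3 are the
points of the closed subscheme of affine 9-space defined by these three equations.) -/
theorem result (R : Type u) [CommRing R] (M : Type v) [AddCommGroup M] [Module R M]
    (bs : Module.Basis (Fin 3) R M) (B : M →ₗ[R] M →ₗ[R] M) (halt : ∀ m : M, B m m = 0)
    (a b c d e f g h i : R)
    (hxy : B (bs 0) (bs 1) = a • bs 0 + b • bs 1 + c • bs 2)
    (hxz : B (bs 0) (bs 2) = d • bs 0 + e • bs 1 + f • bs 2)
    (hyz : B (bs 1) (bs 2) = g • bs 0 + h • bs 1 + i • bs 2) :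
    (∀ u v w : M, B u (B v w) + B v (B w u) + B w (B u v) = 0) ↔
      (a * h + d * i - f * g - b * g = 0 ∧ i * e + b * d - f * h - a * e = 0 ∧
        h * c + d * c - a * f - b * i = 0) := by
  have hskew : ∀ u v : M, B u v = -B v u := fun u v => by
    have h := halt (u + v)
    simp only [map_add, LinearMap.add_apply, halt] at h
    linear_combination (norm := module) h
  let J : M → M → M → M := fun u v w => B u (B v w) + B v (B w u) + B w (B u v)
  have hyx := hskew (bs 1) (bs 0)
  have hzx := hskew (bs 2) (bs 0)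
  have hzy := hskew (bs 2) (bs 1)
  rw [hxy] at hyx; rw [hxz] at hzx; rw [hyz] at hzy
  have hJ : J (bs 0) (bs 1) (bs 2) =
      (h * c + d * c - a * f - b * i) • bs 2 + (i * e + b * d - f * h - a * e) • bs 1 +
      (a * h + d * i - f * g - b * g) • bs 0 := by
    simp only [J, hzx, hyz, hxy, map_add, map_smul, map_neg, halt, hxz, hyx, hzy, smul_zero]
    module
  constructor
  · intro H
    have h0 : J (bs 0) (bs 1) (bs 2) = 0 := H _ _ _
    rw [hJ] at h0
    have c0 := congrArg (fun m => bs.repr m 0) h0
    have c1 := congrArg (fun m => bs.repr m 1) h0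
    have c2 := congrArg (fun m => bs.repr m 2) h0
    simp at c0 c1 c2
    refine ⟨?_, ?_, ?_⟩
    · linear_combination c0
    · linear_combination c1
    · linear_combination c2
  · rintro ⟨q1, q2, q3⟩
    have h0 : J (bs 0) (bs 1) (bs 2) = 0 := by rw [hJ, q1, q2, q3]; simp
    have hbase : ∀ p q r : Fin 3, J (bs p) (bs q) (bs r) = 0 := by
      intro p q r
      simp only [J, map_add, map_smul, map_neg, hzx, hyz, hxy, hxz, hyx, hzy, halt, smul_zero] at h0
      fin_cases p <;> fin_cases q <;> fin_cases r <;>
        simp only [J, Fin.reduceFinMk, Fin.zero_eta, Fin.mk_one, map_add, map_smul, map_neg, hzx,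
          hyz, hxy, hxz, hyx, hzy, halt, smul_zero, map_zero] <;>
        first
          | module
          | linear_combination (norm := module) h0
          | linear_combination (norm := module) (-1 : R) • h0
    intro u v w
    rw [← bs.sum_repr u, ← bs.sum_repr v, ← bs.sum_repr w]
    simp only [Fin.sum_univ_three, map_add, map_smul, LinearMap.add_apply, LinearMap.smul_apply]
    have e := fun p q r => hbase p q r
    simp only [J] at e
    generalize bs.repr u 0 = u0
    generalize bs.repr u 1 = u1
    generalize bs.repr u 2 = u2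
    generalize bs.repr v 0 = v0
    generalize bs.repr v 1 = v1
    generalize bs.repr v 2 = v2
    generalize bs.repr w 0 = w0
    generalize bs.repr w 1 = w1
    generalize bs.repr w 2 = w2
    linear_combination (norm := module)
      (u0 * v0 * w0) • e 0 0 0 + (u0 * v0 * w1) • e 0 0 1 + (u0 * v0 * w2) • e 0 0 2 +
      (u0 * v1 * w0) • e 0 1 0 + (u0 * v1 * w1) • e 0 1 1 + (u0 * v1 * w2) • e 0 1 2 +
      (u0 * v2 * w0) • e 0 2 0 + (u0 * v2 * w1) • e 0 2 1 + (u0 * v2 * w2) • e 0 2 2 +
      (u1 * v0 * w0) • e 1 0 0 + (u1 * v0 * w1) • e 1 0 1 + (u1 * v0 * w2) • e 1 0 2 +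
      (u1 * v1 * w0) • e 1 1 0 + (u1 * v1 * w1) • e 1 1 1 + (u1 * v1 * w2) • e 1 1 2 +
      (u1 * v2 * w0) • e 1 2 0 + (u1 * v2 * w1) • e 1 2 1 + (u1 * v2 * w2) • e 1 2 2 +
      (u2 * v0 * w0) • e 2 0 0 + (u2 * v0 * w1) • e 2 0 1 + (u2 * v0 * w2) • e 2 0 2 +
      (u2 * v1 * w0) • e 2 1 0 + (u2 * v1 * w1) • e 2 1 1 + (u2 * v1 * w2) • e 2 1 2 +
      (u2 * v2 * w0) • e 2 2 0 + (u2 * v2 * w1) • e 2 2 1 + (u2 * v2 * w2) • e 2 2 2

end Groth.Agent.S13098
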