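import Groth.Statements.S13099
import Mathlib


set_option autoImplicit false
universe u
open GrpSch

namespace Groth.Agent.S13099

open Polynomial in
/-- Let p be a prime and A a commutative ring of characteristic p, and consider the infinitesimal group
scheme Spec A[X]/(X^{p²}) with the additive group law. In coordinates: (1) a polynomial q ∈ A[X] of
degree less than p² satisfies q(Y + Z) − q(Y) − q(Z) ∈ (Y^{p²}, Z^{p²}) in A[Y, Z] (that is, X ↦ q
respects the comultiplication) if and only if q = a₁ X + a_p X^p for some a₁, a_p ∈ A; (2) an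
A-algebra endomorphism of A[X]/(X^{p²}) that sends the class of X to the class of a₁ X + a_p X^p is
bijective if and only if a₁ is a unit of A. (The printed statement is that the automorphism group
scheme of this group scheme is the semidirect product of the additive group by the multiplicative
group, v acting on u by v^{p−1}u; this row records the two computations it consists of, in
coordinates.) -/
theorem result (p : ℕ) [Fact p.Prime] (A : Type u) [CommRing A] [CharP A p] :
    (∀ q : A[X], q.natDegree < p ^ 2 →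
      (Polynomial.aeval (MvPolynomial.X 0 + MvPolynomial.X 1 : MvPolynomial (Fin 2) A) q -
            Polynomial.aeval (MvPolynomial.X 0 : MvPolynomial (Fin 2) A) q -
            Polynomial.aeval (MvPolynomial.X 1 : MvPolynomial (Fin 2) A) q ∈
          Ideal.span ({MvPolynomial.X 0 ^ p ^ 2, MvPolynomial.X 1 ^ p ^ 2} : Set (MvPolynomial (Fin 2) A)) ↔
        ∃ a₁ ap : A, q = Polynomial.C a₁ * X + Polynomial.C ap * X ^ p)) ∧
    (∀ (a₁ ap : A) (φ : (A[X] ⧸ Ideal.span ({X ^ p ^ 2} : Set A[X])) →ₐ[A] (A[X] ⧸ Ideal.span ({X ^ p ^ 2} : Set A[X]))),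
      φ (Ideal.Quotient.mk (Ideal.span ({X ^ p ^ 2} : Set A[X])) X) =
          Ideal.Quotient.mk (Ideal.span ({X ^ p ^ 2} : Set A[X])) (Polynomial.C a₁ * X + Polynomial.C ap * X ^ p) →
        (Function.Bijective φ ↔ IsUnit a₁)) := by
  classical
  have hp : p.Prime := Fact.out
  have h1p : 1 < p := hp.one_lt
  refine ⟨fun q hq => ⟨fun h => ?_, ?_⟩, fun a₁ ap φ hφ => ?_⟩
  · -- coefficient extraction
    have key : ∀ i j : ℕ, i < p ^ 2 → j < p ^ 2 → 0 < i → 0 < j → q.coeff (i + j) * ((Nat.choose (i + j) i : ℕ) : A) = 0 := by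
      intro i j hi hj hi0 hj0
      let d : Fin 2 →₀ ℕ := Finsupp.single 0 i + Finsupp.single 1 j
      obtain ⟨u, v, huv⟩ := Ideal.mem_span_pair.1 h
      have hc := congrArg (MvPolynomial.coeff d) huv
      rw [aeval_eq_sum_range' (n := q.natDegree + 1 + i + j) (by omega), aeval_eq_sum_range' (n := q.natDegree + 1 + i + j) (by omega),
        aeval_eq_sum_range' (n := q.natDegree + 1 + i + j) (by omega)] at hc
      simp only [MvPolynomial.coeff_add, MvPolynomial.coeff_sub, MvPolynomial.coeff_sum, MvPolynomial.coeff_smul,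
        MvPolynomial.coeff_mul_monomial', MvPolynomial.X_pow_eq_monomial, MvPolynomial.coeff_add_pow, MvPolynomial.coeff_monomial] at hc
      have e0 : d 0 = i := by simp [d]
      have e1 : d 1 = j := by simp [d]
      rw [if_neg (fun h => by have := h 0; simp [e0] at this; omega), if_neg (fun h => by have := h 1; simp [e1] at this; omega)] at hc
      have z0 : ∀ n, (Finsupp.single (0 : Fin 2) n) ≠ d := fun n h => by have := DFunLike.congr_fun h 1; simp [e1] at this; omega
      have z1 : ∀ n, (Finsupp.single (1 : Fin 2) n) ≠ d := fun n h => by have := DFunLike.congr_fun h 0; simp [e0] at this; omega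
      simp [z0, z1, e0, e1] at hc
      exact hc.symm
    have h0 : q.coeff 0 = 0 := by
      obtain ⟨u, v, huv⟩ := Ideal.mem_span_pair.1 h
      have hc := congrArg (MvPolynomial.aeval (fun _ : Fin 2 => (0 : A))) huv
      simp only [map_add, map_mul, map_sub, map_pow, ← Polynomial.aeval_algHom_apply, MvPolynomial.aeval_X, add_zero] at hc
      simp [hp.ne_zero, zero_pow] at hc
      simpa [Polynomial.coeff_zero_eq_aeval_zero] using hc
    refine ⟨q.coeff 1, q.coeff p, Polynomial.ext fun n => ?_⟩
    rw [coeff_add, coeff_C_mul, coeff_C_mul, coeff_X, coeff_X_pow]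
    by_cases hn1 : n = 1
    · subst hn1; simp [h1p.ne]
    by_cases hnp : n = p
    · subst hnp; simp [Ne.symm hn1]
    simp only [Ne.symm hn1, hnp, ↓reduceIte, mul_zero, add_zero]
    rcases Nat.eq_zero_or_pos n with rfl | hn0
    · exact h0
    by_cases hlarge : p ^ 2 ≤ n
    · exact coeff_eq_zero_of_natDegree_lt (by omega)
    obtain ⟨i, hi0, hin, hunit⟩ : ∃ i, 0 < i ∧ i < n ∧ ¬ p ∣ Nat.choose n i := by
      by_cases hdvd : p ∣ n
      · refine ⟨p, hp.pos, lt_of_le_of_ne (Nat.le_of_dvd hn0 hdvd) (Ne.symm hnp), fun hd => ?_⟩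
        have hm := Choose.choose_modEq_choose_mod_mul_choose_div_nat (p := p) (n := n) (k := p)
        rw [Nat.mod_self, Nat.choose_zero_right, one_mul, Nat.div_self hp.pos, Nat.choose_one_right] at hm
        have hlt : n / p < p := by rw [Nat.div_lt_iff_lt_mul hp.pos, ← sq]; omega
        have hz : n / p % p = 0 := by rw [← hm]; exact Nat.mod_eq_zero_of_dvd hd
        rw [Nat.mod_eq_of_lt hlt] at hz
        have := Nat.div_eq_zero_iff.1 hz
        have := Nat.le_of_dvd hn0 hdvd
        omega
      · exact ⟨1, one_pos, by omega, by rwa [Nat.choose_one_right]⟩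
    have hk := key i (n - i) (by omega) (by omega) hi0 (by omega)
    rw [Nat.add_sub_cancel' hin.le] at hk
    exact (IsUnit.mul_left_eq_zero ((CharP.isUnit_natCast_iff hp).2 hunit)).1 hk
  · rintro ⟨a₁, ap, rfl⟩
    haveI : CharP (MvPolynomial (Fin 2) A) p := inferInstance
    haveI : ExpChar (MvPolynomial (Fin 2) A) p := ExpChar.prime hp
    simp [add_pow_char, mul_add]
    convert Ideal.zero_mem _ using 1
    ring
  · let I : Ideal A[X] := Ideal.span {X ^ p ^ 2}
    let x : A[X] ⧸ I := Ideal.Quotient.mk I X
    have hx : x ^ p ^ 2 = 0 := by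
      rw [← map_pow]; exact Ideal.Quotient.eq_zero_iff_mem.2 (Ideal.subset_span rfl)
    have hφx : φ x = algebraMap A _ a₁ * x + algebraMap A _ ap * x ^ p := by
      rw [hφ, map_add, map_mul, map_mul, map_pow]; rfl
    constructor
    · intro hb
      obtain ⟨z, hz⟩ := hb.2 x
      obtain ⟨f, rfl⟩ := Ideal.Quotient.mk_surjective z
      have hm : φ (Ideal.Quotient.mk I f) = Ideal.Quotient.mk I (f.comp (Polynomial.C a₁ * X + Polynomial.C ap * X ^ p)) := by
        have : φ.comp (Ideal.Quotient.mkₐ A I) = (Ideal.Quotient.mkₐ A I).comp (Polynomial.aeval (Polynomial.C a₁ * X + Polynomial.C ap * X ^ p)) :=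
          Polynomial.algHom_ext (by simpa using hφ)
        simpa [Polynomial.comp_eq_aeval] using DFunLike.congr_fun this f
      rw [hm, Ideal.Quotient.eq, Ideal.mem_span_singleton] at hz
      have h2 : (X : A[X]) ^ 2 ∣ f.comp (Polynomial.C a₁ * X + Polynomial.C ap * X ^ p) - X :=
        dvd_trans (pow_dvd_pow X (by nlinarith)) hz
      have h3 := Polynomial.X_pow_dvd_iff.1 h2 1 one_lt_two
      rw [coeff_sub, coeff_X_one, sub_eq_zero] at h3
      have h4 : (f.comp (Polynomial.C a₁ * X + Polynomial.C ap * X ^ p)).coeff 1 = f.coeff 1 * a₁ := by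
        have hd : ∀ g : A[X], g.coeff 1 = (derivative g).eval 0 := fun g => by
          simp [← coeff_zero_eq_eval_zero, coeff_derivative]
        rw [hd, hd f, derivative_comp]
        simp [hp.ne_zero, derivative_X_pow, CharP.cast_eq_zero]; ring
      exact IsUnit.of_mul_eq_one_right _ (h4.symm.trans h3)
    · intro hu
      haveI : Module.Finite A (A[X] ⧸ I) := Polynomial.Monic.finite_quotient (monic_X_pow _)
      suffices hs : Function.Surjective φ from ⟨OrzechProperty.injective_of_surjective_endomorphism φ.toLinearMap hs, hs⟩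
      obtain ⟨b, hb⟩ := hu.exists_left_inv
      intro z
      obtain ⟨f, rfl⟩ := Ideal.Quotient.mk_surjective z
      have hr : x ∈ φ.range := by
        have e2 : φ (x ^ p) = algebraMap A _ (a₁ ^ p) * x ^ p := by
          rw [map_pow, hφx]
          obtain ⟨w, hw⟩ := exists_add_pow_prime_eq hp (algebraMap A (A[X] ⧸ I) a₁ * x) (algebraMap A (A[X] ⧸ I) ap * x ^ p)
          have hp0 : (p : A[X] ⧸ I) = 0 := by rw [← map_natCast (algebraMap A (A[X] ⧸ I)), CharP.cast_eq_zero, map_zero]
          rw [hw, hp0, mul_pow, mul_pow, ← pow_mul, ← sq, hx, map_pow]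
          simp
          rfl
        have e3 : φ (algebraMap A _ b * x - algebraMap A _ (b * ap * b ^ p) * x ^ p) = x := by
          rw [map_sub, map_mul, map_mul, AlgHom.commutes, AlgHom.commutes, hφx, e2, mul_add, ← mul_assoc, ← map_mul, hb,
            map_one, one_mul, ← mul_assoc, ← mul_assoc, ← map_mul, ← map_mul,
            show b * ap * b ^ p * a₁ ^ p = b * ap from by rw [mul_assoc, ← mul_pow, hb, one_pow, mul_one]]
          ring
        exact ⟨_, e3⟩
      have : Ideal.Quotient.mk I f = Polynomial.aeval x f := by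
        have h : (Ideal.Quotient.mkₐ A I) = Polynomial.aeval x := Polynomial.algHom_ext (by simp [x])
        exact DFunLike.congr_fun h f
      rw [this]
      exact (Polynomial.aeval_subalgebra_coe f φ.range ⟨x, hr⟩) ▸ (Polynomial.aeval (⟨x, hr⟩ : φ.range) f).2

end Groth.Agent.S13099
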