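import Groth.Statements.S13100
import Mathlib.RingTheory.Henselian
import Mathlib.RingTheory.AdicCompletion.Completeness
import Mathlib.RingTheory.PowerSeries.Inverse

set_option autoImplicit false
universe u
open GrpSch

namespace Groth.Agent.S13100

/-- Let k be an algebraically closed field of characteristic different from 2 and K = k((t)) the field
of Laurent series over k. Then a non-zero Laurent series f is a square in K if and only if its order
in t is even; consequently the group Kˣ/Kˣ² of non-zero elements modulo squares has exactly two
elements, represented by 1 and t. -/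
theorem result (k : Type u) [Field k] [IsAlgClosed k] (h2 : (2 : k) ≠ 0)
    (f : LaurentSeries k) (hf : f ≠ 0) : IsSquare f ↔ Even f.order := by
  have key : ∀ u : PowerSeries k, PowerSeries.constantCoeff u ≠ 0 → IsSquare u := by
    intro u hu
    obtain ⟨z, hz⟩ := IsAlgClosed.exists_eq_mul_self (PowerSeries.constantCoeff u)
    have hI : ∀ w : PowerSeries k, w ∈ Ideal.span {(PowerSeries.X : PowerSeries k)} ↔
        PowerSeries.constantCoeff w = 0 := fun w => by
      rw [Ideal.mem_span_singleton, PowerSeries.X_dvd_iff]
    have : HenselianRing (PowerSeries k) (Ideal.span {PowerSeries.X}) := inferInstance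
    obtain ⟨r, hr, -⟩ := HenselianRing.is_henselian
      (Polynomial.X ^ 2 - Polynomial.C u) (Polynomial.monic_X_pow_sub_C u two_ne_zero)
      (PowerSeries.C z)
      (by rw [hI]; simp [hz, pow_two])
      (by
        apply IsUnit.map
        rw [PowerSeries.isUnit_iff_constantCoeff]
        have hz0 : z ≠ 0 := fun h => hu (by simp [hz, h])
        simp [hz0, h2, one_add_one_eq_two, map_ofNat])
    have hr' : r ^ 2 - u = 0 := by simpa using hr
    exact ⟨r, by linear_combination -hr'⟩
  constructor
  · rintro ⟨g, rfl⟩
    have hg : g ≠ 0 := fun h => hf (by simp [h])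
    rw [HahnSeries.order_mul hg hg]
    exact ⟨g.order, rfl⟩
  · rintro ⟨m, hm⟩
    obtain ⟨r, hr⟩ := key (LaurentSeries.powerSeriesPart f) (by
      rw [← PowerSeries.coeff_zero_eq_constantCoeff_apply, LaurentSeries.powerSeriesPart_coeff]
      simpa using HahnSeries.coeff_order_eq_zero.not.2 hf)
    refine ⟨HahnSeries.single m 1 * HahnSeries.ofPowerSeries ℤ k r, ?_⟩
    conv_lhs => rw [← LaurentSeries.single_order_mul_powerSeriesPart f]
    rw [hr, map_mul, hm, mul_mul_mul_comm, HahnSeries.single_mul_single, one_mul]

end Groth.Agent.S13100
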