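import Groth.Statements.S13101
import Groth.Agent.MiscAlg.Lie3

set_option autoImplicit false
universe u v
open GrpSch

namespace Groth.Agent.S13101

/-- Let A be a commutative ring in which 2 is a unit, and L a Lie algebra over A, free as a module with
basis x = bs 0, y = bs 1, z = bs 2 and brackets [x,y] = y, [x,z] = y + z, [y,z] = 0. Then for every
Lie algebra automorphism φ of L over A there are b, c, h ∈ A and a unit i of A with φ(x) = x + b y +
c z, φ(y) = i y and φ(z) = h y + i z. Only the form of an automorphism is stated, not that every map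
of this form is one. (The published statement identifies the automorphism group scheme with a
semidirect product of two additive groups by the product of the multiplicative and additive group,
for algebras over a field of Laurent series of characteristic not 2, and deduces the vanishing of
its first cohomology; this row records the determination of the automorphisms, over any base ring
with 2 invertible; the cohomological consequence is not restated.) -/
theorem result (A : Type u) [CommRing A] (h2 : IsUnit (2 : A))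
    (L : Type v) [LieRing L] [LieAlgebra A L] (bs : Module.Basis (Fin 3) A L)
    (hxy : ⁅bs 0, bs 1⁆ = bs 1) (hxz : ⁅bs 0, bs 2⁆ = bs 1 + bs 2) (hyz : ⁅bs 1, bs 2⁆ = 0)
    (φ : L ≃ₗ⁅A⁆ L) :
    ∃ b c h i : A, IsUnit i ∧ φ (bs 0) = bs 0 + b • bs 1 + c • bs 2 ∧ φ (bs 1) = i • bs 1 ∧
      φ (bs 2) = h • bs 1 + i • bs 2 := by
  have br : ∀ u v : L, (bs.repr ⁅u, v⁆ 0 = 0) ∧
      (bs.repr ⁅u, v⁆ 1 = (bs.repr u 0 * bs.repr v 1 - bs.repr u 1 * bs.repr v 0) +
        (bs.repr u 0 * bs.repr v 2 - bs.repr u 2 * bs.repr v 0)) ∧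
      bs.repr ⁅u, v⁆ 2 = bs.repr u 0 * bs.repr v 2 - bs.repr u 2 * bs.repr v 0 := by
    intro u v
    rw [Groth.Agent.MiscAlg.bracket_expand bs hxy hxz hyz]
    refine ⟨?_, ?_, ?_⟩ <;> simp
  have hy : φ (bs 1) = ⁅φ (bs 0), φ (bs 1)⁆ := by rw [← φ.map_lie, hxy]
  have hz : φ (bs 1) + φ (bs 2) = ⁅φ (bs 0), φ (bs 2)⁆ := by rw [← φ.map_lie, hxz, map_add]
  have y0 : bs.repr (φ (bs 1)) 0 = 0 := by rw [hy]; exact (br _ _).1
  have z0 : bs.repr (φ (bs 2)) 0 = 0 := by
    have := congrArg (fun u => bs.repr u 0) hz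
    simpa [(br _ _).1, y0] using this
  have y0' : bs.repr (φ.symm (bs 1)) 0 = 0 := by
    conv_lhs => rw [← hxy, φ.symm.map_lie]
    exact (br _ _).1
  have y1 := congrArg (fun u => bs.repr u 1) hy
  have y2 := congrArg (fun u => bs.repr u 2) hy
  have z1 := congrArg (fun u => bs.repr u 1) hz
  have z2 := congrArg (fun u => bs.repr u 2) hz
  simp only [(br _ _).2.1, (br _ _).2.2, map_add, Finsupp.coe_add, Pi.add_apply, y0, z0, mul_zero,
    sub_zero] at y1 y2 z1 z2
  have e1 := congrArg (fun u => bs.repr (φ u) 1) (Groth.Agent.MiscAlg.expand bs (φ.symm (bs 1)))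
  have e2 := congrArg (fun u => bs.repr (φ u) 2) (Groth.Agent.MiscAlg.expand bs (φ.symm (bs 1)))
  have z0' : bs.repr (φ.symm (bs 2)) 0 = 0 := by
    have h : bs 2 = ⁅bs 0, bs 2⁆ - ⁅bs 0, bs 1⁆ := by rw [hxy, hxz]; abel
    conv_lhs => rw [h, map_sub, φ.symm.map_lie, φ.symm.map_lie]
    simp [(br _ _).1]
  have f1 := congrArg (fun u => bs.repr (φ u) 1) (Groth.Agent.MiscAlg.expand bs (φ.symm (bs 2)))
  have f2 := congrArg (fun u => bs.repr (φ u) 2) (Groth.Agent.MiscAlg.expand bs (φ.symm (bs 2)))
  simp only [LieEquiv.apply_symm_apply, y0', z0', map_add, map_smul, zero_smul, Finsupp.smul_apply,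
    Finsupp.coe_add, Pi.add_apply, smul_eq_mul, Finsupp.coe_zero, Pi.zero_apply,
    Module.Basis.repr_self, Finsupp.single_eq_same, zero_add,
    Finsupp.single_eq_of_ne (show (1 : Fin 3) ≠ 2 by decide),
    Finsupp.single_eq_of_ne (show (2 : Fin 3) ≠ 1 by decide)] at e1 e2 f1 f2
  have hx := Groth.Agent.MiscAlg.expand bs (φ (bs 0))
  have hy3 := Groth.Agent.MiscAlg.expand bs (φ (bs 1))
  have hz3 := Groth.Agent.MiscAlg.expand bs (φ (bs 2))
  rw [y0, zero_smul, zero_add] at hy3
  rw [z0, zero_smul, zero_add] at hz3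
  generalize bs.repr (φ (bs 0)) 0 = a, bs.repr (φ (bs 0)) 1 = b, bs.repr (φ (bs 0)) 2 = c,
    bs.repr (φ (bs 1)) 1 = i, bs.repr (φ (bs 1)) 2 = g, bs.repr (φ (bs 2)) 1 = h,
    bs.repr (φ (bs 2)) 2 = j, bs.repr (φ.symm (bs 1)) 1 = p, bs.repr (φ.symm (bs 1)) 2 = q,
    bs.repr (φ.symm (bs 2)) 1 = s, bs.repr (φ.symm (bs 2)) 2 = t at *
  have ga : g * (a - 1) = 0 := by linear_combination -y2
  have ja : j * (a - 1) = g := by linear_combination -z2
  have ia : i * (a - 1) = -(a * g) := by linear_combination -y1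
  have ha : h * (a - 1) = i - a * j := by linear_combination -z1
  have gi : g * i = a * g * j := by linear_combination h * ga - g * ha
  have gi0 : g * i = 0 := h2.mul_right_eq_zero.1 (by linear_combination i * (0 : A) + gi + i * ja * (-1) + j * ia)
  have hdet : (i * j - g * h) * (p * t - q * s) = 1 := by
    linear_combination -(s * g + t * j) * e1 + (s * i + t * h) * e2 - f2
  have a1 : a = 1 := by
    linear_combination (p * t - q * s) * (i * ja - h * ga + gi0) - (a - 1) * hdet
  subst a1
  have g0 : g = 0 := by linear_combination -ja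
  subst g0
  have ij : i = j := by linear_combination -ha
  subst ij
  refine ⟨b, c, h, i, IsUnit.of_mul_eq_one (i * (p * t - q * s)) (by linear_combination hdet), ?_, ?_, ?_⟩
  · simpa using hx
  · simpa using hy3
  · exact hz3

end Groth.Agent.S13101
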