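import Groth.Statements.S13102
import Groth.Agent.MiscAlg.Lie3

set_option autoImplicit false
universe u v w
open GrpSch

namespace Groth.Agent.S13102

/-- Let K be a field, α ∈ K, A a commutative K-algebra and L a Lie algebra over A which is free as an
A-module with basis x = bs 0, y = bs 1, z = bs 2 and brackets [x,y] = y, [x,z] = α z, [y,z] = 0. If
α² ≠ 1 then every Lie algebra automorphism φ of L over A satisfies φ(x) = x + b y + c z, φ(y) = e y,
φ(z) = i z for some b, c ∈ A and units e, i of A. If α = 1 then every such φ satisfies φ(x) = x + b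
y + c z, φ(y) = e y + f z, φ(z) = h y + i z with e i − f h a unit of A. (The printed statement
identifies the automorphism group schemes with the corresponding semidirect products, treats also α
= −1 in characteristic not 2, and computes first cohomology over a field of Laurent series; those
clauses are not restated here.) -/
theorem result (K : Type u) [Field K] (α : K) (A : Type v) [CommRing A] [Algebra K A]
    (L : Type w) [LieRing L] [LieAlgebra A L] (bs : Module.Basis (Fin 3) A L)
    (hxy : ⁅bs 0, bs 1⁆ = bs 1) (hxz : ⁅bs 0, bs 2⁆ = algebraMap K A α • bs 2) (hyz : ⁅bs 1, bs 2⁆ = 0)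
    (φ : L ≃ₗ⁅A⁆ L) :
    (α ^ 2 ≠ 1 → ∃ b c e i : A, IsUnit e ∧ IsUnit i ∧ φ (bs 0) = bs 0 + b • bs 1 + c • bs 2 ∧
        φ (bs 1) = e • bs 1 ∧ φ (bs 2) = i • bs 2) ∧
    (α = 1 → ∃ b c e f h i : A, IsUnit (e * i - f * h) ∧ φ (bs 0) = bs 0 + b • bs 1 + c • bs 2 ∧
        φ (bs 1) = e • bs 1 + f • bs 2 ∧ φ (bs 2) = h • bs 1 + i • bs 2) := by
  have br : ∀ u v : L, (bs.repr ⁅u, v⁆ 0 = 0) ∧
      (bs.repr ⁅u, v⁆ 1 = bs.repr u 0 * bs.repr v 1 - bs.repr u 1 * bs.repr v 0) ∧
      bs.repr ⁅u, v⁆ 2 = algebraMap K A α * (bs.repr u 0 * bs.repr v 2 - bs.repr u 2 * bs.repr v 0) := by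
    intro u v
    rw [Groth.Agent.MiscAlg.bracket_expand bs hxy hxz hyz]
    refine ⟨?_, ?_, ?_⟩ <;> simp [mul_comm, Algebra.smul_def]
  have zero0 : ∀ ψ : L ≃ₗ⁅A⁆ L, bs.repr (ψ (bs 2)) 0 = 0 := by
    intro ψ
    by_cases hα : α = 0
    · have hc : ∀ v : L, ⁅bs 2, v⁆ = 0 := by
        intro v
        rw [Groth.Agent.MiscAlg.bracket_expand bs hxy hxz hyz]
        simp [hα]
      have h0 : ⁅ψ (bs 2), bs 1⁆ = 0 := by
        conv_lhs => rw [← ψ.apply_symm_apply (bs 1), ← ψ.map_lie, hc]
        exact ψ.toLieHom.map_zero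
      have := (br (ψ (bs 2)) (bs 1)).2.1
      rw [h0] at this
      simpa using this.symm
    · have h0 : algebraMap K A α • ψ (bs 2) = ⁅ψ (bs 0), ψ (bs 2)⁆ := by
        rw [← ψ.map_lie, hxz]; exact (ψ.toLinearEquiv.map_smul _ _).symm
      have h := congrArg (fun u => bs.repr u 0) h0
      simp only [map_smul, Finsupp.smul_apply, smul_eq_mul, (br _ _).1] at h
      exact ((Ne.isUnit hα).map (algebraMap K A)).mul_right_eq_zero.1 h
  have zz := zero0 φ
  have zz' := zero0 φ.symm
  have hy : φ (bs 1) = ⁅φ (bs 0), φ (bs 1)⁆ := by rw [← φ.map_lie, hxy]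
  have hz : algebraMap K A α • φ (bs 2) = ⁅φ (bs 0), φ (bs 2)⁆ := by rw [← φ.map_lie, hxz, map_smul]
  have y0 : bs.repr (φ (bs 1)) 0 = 0 := by rw [hy]; exact (br _ _).1
  have y1 := congrArg (fun u => bs.repr u 1) hy
  have y2 := congrArg (fun u => bs.repr u 2) hy
  have z1 := congrArg (fun u => bs.repr u 1) hz
  have z2 := congrArg (fun u => bs.repr u 2) hz
  simp only [(br _ _).1, (br _ _).2.1, (br _ _).2.2, map_smul, map_zero, Finsupp.smul_apply,
    Finsupp.coe_zero, Pi.zero_apply, smul_eq_mul, y0, zz, mul_zero, zero_mul, sub_zero, zero_sub]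
    at y1 y2 z1 z2
  -- the inverse
  have y0' : bs.repr (φ.symm (bs 1)) 0 = 0 := by
    conv_lhs => rw [← hxy, φ.symm.map_lie]
    exact (br _ _).1
  have e1 := congrArg (fun u => bs.repr (φ u) 1) (Groth.Agent.MiscAlg.expand bs (φ.symm (bs 1)))
  have e2 := congrArg (fun u => bs.repr (φ u) 2) (Groth.Agent.MiscAlg.expand bs (φ.symm (bs 1)))
  have f1 := congrArg (fun u => bs.repr (φ u) 1) (Groth.Agent.MiscAlg.expand bs (φ.symm (bs 2)))
  have f2 := congrArg (fun u => bs.repr (φ u) 2) (Groth.Agent.MiscAlg.expand bs (φ.symm (bs 2)))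
  simp only [LieEquiv.apply_symm_apply, y0', zz', map_add, map_smul, zero_smul, Finsupp.smul_apply,
    Finsupp.coe_add, Pi.add_apply, smul_eq_mul, Finsupp.coe_zero, Pi.zero_apply,
    Module.Basis.repr_self, Finsupp.single_eq_same, zero_mul, zero_add,
    Finsupp.single_eq_of_ne (show (1 : Fin 3) ≠ 2 by decide),
    Finsupp.single_eq_of_ne (show (2 : Fin 3) ≠ 1 by decide)] at e1 e2 f1 f2
  have hx := Groth.Agent.MiscAlg.expand bs (φ (bs 0))
  have hy3 := Groth.Agent.MiscAlg.expand bs (φ (bs 1))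
  have hz3 := Groth.Agent.MiscAlg.expand bs (φ (bs 2))
  rw [y0, zero_smul, zero_add] at hy3
  rw [zz, zero_smul, zero_add] at hz3
  generalize bs.repr (φ (bs 0)) 0 = a, bs.repr (φ (bs 0)) 1 = b, bs.repr (φ (bs 0)) 2 = c,
    bs.repr (φ (bs 1)) 1 = e, bs.repr (φ (bs 1)) 2 = f,
    bs.repr (φ (bs 2)) 1 = h, bs.repr (φ (bs 2)) 2 = i,
    bs.repr (φ.symm (bs 1)) 1 = p, bs.repr (φ.symm (bs 1)) 2 = q,
    bs.repr (φ.symm (bs 2)) 1 = s,
    bs.repr (φ.symm (bs 2)) 2 = t at *
  by_cases hα : α = 0
  · subst hα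
    refine ⟨fun _ => ?_, fun h1 => absurd h1 (by simp)⟩
    simp only [map_zero, zero_mul] at y2 z1 z2
    subst y2
    simp only [zero_smul, add_zero] at hy3
    simp only [mul_zero, add_zero, zero_add] at e1 e2 f1 f2
    have q0 : q = 0 := by linear_combination q * f2 - t * e2
    subst q0
    have pe : p * e = 1 := by linear_combination -e1
    have a1 : a = 1 := by linear_combination -p * y1 - (a - 1) * pe
    subst a1
    have h0 : h = 0 := by linear_combination -z1
    subst h0
    refine ⟨b, c, e, i, IsUnit.of_mul_eq_one p (by linear_combination pe),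
      IsUnit.of_mul_eq_one t (by linear_combination -f2), ?_, ?_, ?_⟩
    · simpa using hx
    · simpa using hy3
    · simpa using hz3
  · have hαu : IsUnit (algebraMap K A α) := (Ne.isUnit hα).map _
    generalize hα2 : algebraMap K A α = α' at *
    have z2' : (a - 1) * i = 0 := hαu.mul_right_eq_zero.1 (by linear_combination -z2)
    have y1' : (a - 1) * e = 0 := by linear_combination -y1
    have hdet : (e * i - f * h) * (p * t - q * s) = 1 := by
      linear_combination -(s * f + t * i) * e1 + (s * e + t * h) * e2 - f2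
    refine ⟨fun h2 => ?_, fun h1 => ?_⟩
    · have hu : IsUnit (α' ^ 2 - 1) := by
        rw [← hα2, ← map_pow, ← map_one (algebraMap K A), ← map_sub]
        exact (Ne.isUnit (sub_ne_zero.2 h2)).map _
      have fh : f * h = 0 := hu.mul_right_eq_zero.1 (by
        linear_combination f * α' * z1 - h * y2)
      have a1 : a = 1 := by
        linear_combination (p * t - q * s) * (i * y1') - (a - 1) * hdet
          - (p * t - q * s) * (a - 1) * fh
      subst a1
      have hu1 : IsUnit (α' - 1) :=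
        isUnit_of_mul_isUnit_left (y := α' + 1) (by rw [show (α' - 1) * (α' + 1) = α' ^ 2 - 1 by ring]; exact hu)
      have f0 : f = 0 := hu1.mul_right_eq_zero.1 (by linear_combination -y2)
      have h0 : h = 0 := hu1.mul_right_eq_zero.1 (by linear_combination z1)
      subst f0 h0
      have ei : IsUnit (e * i) := IsUnit.of_mul_eq_one (p * t - q * s) (by linear_combination hdet)
      refine ⟨b, c, e, i, isUnit_of_mul_isUnit_left ei, isUnit_of_mul_isUnit_right ei, ?_, ?_, ?_⟩
      · simpa using hx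
      · simpa using hy3
      · simpa using hz3
    · subst h1
      rw [map_one] at hα2
      subst hα2
      have a1 : a = 1 := by
        linear_combination (p * t - q * s) * i * y1' + (p * t - q * s) * h * y2 - (a - 1) * hdet
      subst a1
      refine ⟨b, c, e, f, h, i, IsUnit.of_mul_eq_one _ hdet, ?_, hy3, hz3⟩
      simpa using hx

end Groth.Agent.S13102
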