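import Groth.Statements.S13104
import Mathlib

set_option autoImplicit false
universe u
open GrpSch

namespace Groth.Agent.S13104

open CategoryTheory AlgebraicGeometry in
/-- Let B be a commutative ring, B[ε] the ring of dual numbers (ε² = 0) and B[α, β]/(α², β²) the double
dual numbers, realised as dual numbers over the dual numbers with α the inner and β the outer
generator, and let ψ : B[ε] → B[α, β]/(α², β²) be the B-algebra homomorphism with ψ(ε) = αβ. Then
for every scheme G the map u ↦ Spec(ψ) ≫ u from morphisms Spec B[ε] → G to morphisms Spec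
B[α,β]/(α²,β²) → G is injective. (The printed statement is its consequence for a group scheme G: the
map Lie(G)(B) → G(B[α,β]/(α²,β²)), x ↦ exp(αβ x), is injective; the injectivity on all B[ε]-points
stated here is what the printed argument establishes.) -/
theorem result (B : Type u) [CommRing B]
    (ψ : DualNumber B →+* DualNumber (DualNumber B))
    (hψB : ∀ b : B, ψ (algebraMap B (DualNumber B) b) = algebraMap B (DualNumber (DualNumber B)) b)
    (hψ : ψ DualNumber.eps = algebraMap (DualNumber B) (DualNumber (DualNumber B)) DualNumber.eps * DualNumber.eps)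
    (G : Scheme.{u}) :
    Function.Injective (fun u : Spec (CommRingCat.of (DualNumber B)) ⟶ G =>
      Spec.map (CommRingCat.ofHom (R := DualNumber B) (S := DualNumber (DualNumber B)) ψ) ≫ u) := by
  have hdd : ∀ b : B, algebraMap B (DualNumber (DualNumber B)) b = TrivSqZeroExt.inl (TrivSqZeroExt.inl b) := fun b => rfl
  have hψinj : Function.Injective ψ := by
    intro x y hxy
    have hx : ∀ z : DualNumber B, ψ z = algebraMap B _ z.fst + algebraMap B _ z.snd * (algebraMap (DualNumber B) (DualNumber (DualNumber B)) DualNumber.eps * DualNumber.eps) := by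
      intro z
      conv_lhs => rw [show z = algebraMap B (DualNumber B) z.fst + algebraMap B (DualNumber B) z.snd * DualNumber.eps by
        apply TrivSqZeroExt.ext <;> simp [TrivSqZeroExt.algebraMap_eq_inl]]
      rw [map_add, map_mul, hψB, hψB, hψ]
    rw [hx, hx] at hxy
    apply TrivSqZeroExt.ext
    · simpa [hdd, TrivSqZeroExt.algebraMap_eq_inl] using congrArg (fun w => (TrivSqZeroExt.fst w).fst) hxy
    · simpa [hdd, TrivSqZeroExt.algebraMap_eq_inl] using congrArg (fun w => (TrivSqZeroExt.snd w).snd) hxy
  let π : Spec (CommRingCat.of (DualNumber (DualNumber B))) ⟶ Spec (CommRingCat.of (DualNumber B)) :=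
    Spec.map (CommRingCat.ofHom (R := DualNumber B) (S := DualNumber (DualNumber B)) ψ)
  have hsurj : Function.Surjective π.base := by
    intro p
    let a2 : DualNumber (DualNumber B) →+* B := (TrivSqZeroExt.fstHom B B B).toRingHom.comp
      (TrivSqZeroExt.fstHom (DualNumber B) (DualNumber B) (DualNumber B)).toRingHom
    have ha : ∀ z : DualNumber B, a2 (ψ z) = TrivSqZeroExt.fst z := by
      intro z
      conv_lhs => rw [show z = algebraMap B (DualNumber B) z.fst + algebraMap B (DualNumber B) z.snd * DualNumber.eps by
        apply TrivSqZeroExt.ext <;> simp [TrivSqZeroExt.algebraMap_eq_inl]]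
      rw [map_add, map_mul, hψB, hψB, hψ]
      simp [a2, hdd, TrivSqZeroExt.algebraMap_eq_inl]
    let f1 := (TrivSqZeroExt.fstHom B B B).toRingHom
    have hker : RingHom.ker f1 ≤ nilradical (DualNumber B) := fun z hz => by
      have h0 : z.fst = 0 := hz
      exact TrivSqZeroExt.isNilpotent_iff_isNilpotent_fst.2 (by rw [h0]; exact IsNilpotent.zero)
    have hs1 : Function.Surjective f1 := fun b => ⟨TrivSqZeroExt.inl b, rfl⟩
    obtain ⟨r, hr⟩ : ∃ r : PrimeSpectrum B, PrimeSpectrum.comap f1 r = p := by
      have : p ∈ Set.range (PrimeSpectrum.comap f1) := by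
        rw [range_comap_of_surjective _ f1 hs1]
        exact fun z hz => nilradical_le_prime (p : PrimeSpectrum (DualNumber B)).asIdeal (hker hz)
      exact this
    refine ⟨PrimeSpectrum.comap a2 r, ?_⟩
    rw [← hr]
    apply PrimeSpectrum.ext
    ext z
    exact Iff.of_eq (congrArg (· ∈ r.asIdeal) (ha z))
  haveI : IsSchemeTheoreticallyDominant π := by
    refine ⟨Scheme.IdealSheafData.ext_of_isAffine ?_⟩
    rw [Scheme.Hom.ker_apply]
    simp only [Scheme.IdealSheafData.ideal_bot, Pi.bot_apply]
    rw [← RingHom.injective_iff_ker_eq_bot]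
    intro x y hxy
    let e := (Scheme.ΓSpecIso (CommRingCat.of (DualNumber B))).hom
    have hn := Scheme.ΓSpecIso_naturality (CommRingCat.ofHom (R := DualNumber B) (S := DualNumber (DualNumber B)) ψ)
    have hx : ∀ x, ψ (e.hom x) = (Scheme.ΓSpecIso (CommRingCat.of (DualNumber (DualNumber B)))).hom.hom (π.appTop.hom x) :=
      fun x => (congrArg (fun m => m.hom x) hn).symm
    have h1 : e.hom x = e.hom y := hψinj (by rw [hx, hx]; exact congrArg _ hxy)
    exact ((ConcreteCategory.isIso_iff_bijective e).1 inferInstance).1 h1
  intro u v h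
  have h0 : π ≫ u = π ≫ v := h
  have hb : u.base = v.base := by
    ext p
    obtain ⟨t, rfl⟩ := hsurj p
    exact congrArg (fun m => m.base t) h0
  refine Scheme.Hom.ext hb fun U => ?_
  haveI hmono : ∀ V, Mono (π.app V) := fun V => ConcreteCategory.mono_of_injective _ (π.app_injective V)
  rw [← cancel_mono (π.app _), Category.assoc, π.naturality, ← Category.assoc, ← Scheme.Hom.comp_app, Scheme.Hom.congr_app h0 U]
  erw [Category.assoc, ← Functor.map_comp]

end Groth.Agent.S13104
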