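import Groth.Statements.S13107
import Groth.Agent.MiscAlg.Lie3

set_option autoImplicit false
universe u v w
open GrpSch

namespace Groth.Agent.S13107

/-- Let k be a field, K = k((t)) the field of Laurent series over k, F a Lie algebra over K with a basis
x' = bF 0, y' = bF 1, z' = bF 2 and brackets [x',y'] = z', [x',z'] = t y', [y',z'] = 0, and L a Lie
algebra over K with a basis x = bL 0, y = bL 1, z = bL 2 and brackets [x,y] = y, [x,z] = −z, [y,z] =
0. Then there is no K-linear isomorphism of Lie algebras between L and F: F is a non-trivial form of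
L over K. (The published result is the classification of three-dimensional Lie algebras over k((t))
for k algebraically closed of characteristic not 2, with F its only non-split entry; this row states
the non-isomorphism of F and L over k((t)) for every field k.) -/
theorem result (k : Type u) [Field k]
    (F : Type v) [LieRing F] [LieAlgebra (LaurentSeries k) F] (bF : Module.Basis (Fin 3) (LaurentSeries k) F)
    (hF01 : ⁅bF 0, bF 1⁆ = bF 2) (hF02 : ⁅bF 0, bF 2⁆ = (HahnSeries.single 1 (1 : k) : LaurentSeries k) • bF 1)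
    (hF12 : ⁅bF 1, bF 2⁆ = 0)
    (L : Type w) [LieRing L] [LieAlgebra (LaurentSeries k) L] (bL : Module.Basis (Fin 3) (LaurentSeries k) L)
    (hL01 : ⁅bL 0, bL 1⁆ = bL 1) (hL02 : ⁅bL 0, bL 2⁆ = -bL 2) (hL12 : ⁅bL 1, bL 2⁆ = 0) :
    IsEmpty (L ≃ₗ⁅LaurentSeries k⁆ F) := by
  refine ⟨fun φ => ?_⟩
  have br : ∀ u v : F, (bF.repr ⁅u, v⁆ 0 = 0) ∧
      (bF.repr ⁅u, v⁆ 1 = HahnSeries.single 1 (1 : k) * (bF.repr u 0 * bF.repr v 2 - bF.repr u 2 * bF.repr v 0)) ∧
      bF.repr ⁅u, v⁆ 2 = bF.repr u 0 * bF.repr v 1 - bF.repr u 1 * bF.repr v 0 := by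
    intro u v
    rw [Groth.Agent.MiscAlg.bracket_expand bF hF01 hF02 hF12]
    refine ⟨?_, ?_, ?_⟩ <;> simp [mul_comm]
  have hy : φ (bL 1) = ⁅φ (bL 0), φ (bL 1)⁆ := by rw [← φ.map_lie, hL01]
  have y0 : bF.repr (φ (bL 1)) 0 = 0 := by rw [hy]; exact (br _ _).1
  have y1 := congrArg (fun u => bF.repr u 1) hy
  have y2 := congrArg (fun u => bF.repr u 2) hy
  simp only [(br _ _).2.1, (br _ _).2.2, y0, mul_zero, sub_zero] at y1 y2
  have hy3 := Groth.Agent.MiscAlg.expand bF (φ (bL 1))
  rw [y0, zero_smul, zero_add] at hy3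
  generalize bF.repr (φ (bL 0)) 0 = a, bF.repr (φ (bL 1)) 1 = p, bF.repr (φ (bL 1)) 2 = q at *
  have hp : p ≠ 0 := by
    intro h
    rw [h, mul_zero] at y2
    rw [h, y2] at hy3
    simp only [zero_smul, add_zero] at hy3
    exact bL.ne_zero 1 (φ.injective (hy3.trans φ.toLieHom.map_zero.symm))
  set T : LaurentSeries k := HahnSeries.single 1 (1 : k)
  have hT : T * (a * a) = 1 := mul_right_cancel₀ hp (by linear_combination -y1 - T * a * y2)
  have ha : a ≠ 0 := by rintro rfl; simp at hT
  have hT0 : T ≠ 0 := by intro h; rw [h, zero_mul] at hT; exact zero_ne_one hT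
  have h := congrArg HahnSeries.order hT
  rw [HahnSeries.order_mul hT0 (mul_ne_zero ha ha), HahnSeries.order_mul ha ha,
    HahnSeries.order_single one_ne_zero, HahnSeries.order_one] at h
  omega

end Groth.Agent.S13107
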