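import Groth.Statements.S13108
import Groth.Agent.MiscAlg.Lie3
import Mathlib.LinearAlgebra.Basis.SMul

set_option autoImplicit false
universe u v w
open GrpSch

namespace Groth.Agent.S13108

/-- Let k be a field and t, t' ∈ k both non-zero; let L be a Lie algebra over k with a basis x = b 0, y
= b 1, z = b 2 and brackets [x,y] = y, [x,z] = t z, [y,z] = 0, and L' a Lie algebra over k with a
basis x' = b' 0, y' = b' 1, z' = b' 2 and brackets [x',y'] = y', [x',z'] = t' z', [y',z'] = 0. Then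
L and L' are isomorphic Lie algebras over k if and only if t' = t or t' = t⁻¹. -/
theorem result (k : Type u) [Field k] (t t' : k) (ht : t ≠ 0) (ht' : t' ≠ 0)
    (L : Type v) [LieRing L] [LieAlgebra k L] (b : Module.Basis (Fin 3) k L)
    (h01 : ⁅b 0, b 1⁆ = b 1) (h02 : ⁅b 0, b 2⁆ = t • b 2) (h12 : ⁅b 1, b 2⁆ = 0)
    (L' : Type w) [LieRing L'] [LieAlgebra k L'] (b' : Module.Basis (Fin 3) k L')
    (h01' : ⁅b' 0, b' 1⁆ = b' 1) (h02' : ⁅b' 0, b' 2⁆ = t' • b' 2) (h12' : ⁅b' 1, b' 2⁆ = 0) :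
    Nonempty (L ≃ₗ⁅k⁆ L') ↔ (t' = t ∨ t' = t⁻¹) := by
  have br : ∀ u v : L', (b'.repr ⁅u, v⁆ 0 = 0) ∧
      (b'.repr ⁅u, v⁆ 1 = b'.repr u 0 * b'.repr v 1 - b'.repr u 1 * b'.repr v 0) ∧
      b'.repr ⁅u, v⁆ 2 = t' * (b'.repr u 0 * b'.repr v 2 - b'.repr u 2 * b'.repr v 0) := by
    intro u v
    rw [Groth.Agent.MiscAlg.bracket_expand b' h01' h02' h12']
    refine ⟨?_, ?_, ?_⟩ <;> simp [mul_comm]
  constructor
  · rintro ⟨φ⟩
    have hy : φ (b 1) = ⁅φ (b 0), φ (b 1)⁆ := by rw [← φ.map_lie, h01]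
    have hz : t • φ (b 2) = ⁅φ (b 0), φ (b 2)⁆ := by rw [← φ.map_lie, h02, map_smul]
    have y0 : b'.repr (φ (b 1)) 0 = 0 := by rw [hy]; exact (br _ _).1
    have z0 : b'.repr (φ (b 2)) 0 = 0 := by
      have := congrArg (fun u => b'.repr u 0) hz
      simpa [(br _ _).1, ht] using this
    have y1 := congrArg (fun u => b'.repr u 1) hy
    have y2 := congrArg (fun u => b'.repr u 2) hy
    have z1 := congrArg (fun u => b'.repr u 1) hz
    have z2 := congrArg (fun u => b'.repr u 2) hz
    simp only [(br _ _).2.1, (br _ _).2.2, map_smul, Finsupp.smul_apply, smul_eq_mul, y0, z0,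
      mul_zero, sub_zero] at y1 y2 z1 z2
    have li : ∀ r s : k, r • φ (b 1) + s • φ (b 2) = 0 → r = 0 ∧ s = 0 := by
      intro r s hrs
      have hrs' : φ (r • b 1 + s • b 2) = φ 0 := by
        rw [show φ (0 : L) = 0 from φ.toLieHom.map_zero, ← hrs]
        exact (φ.toLinearEquiv.map_add _ _).trans
          (congr_arg₂ _ (φ.toLinearEquiv.map_smul _ _) (φ.toLinearEquiv.map_smul _ _))
      have h := φ.injective hrs'
      exact ⟨by simpa using congrArg (fun u => b.repr u 1) h,
        by simpa using congrArg (fun u => b.repr u 2) h⟩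
    have hy3 := Groth.Agent.MiscAlg.expand b' (φ (b 1))
    have hz3 := Groth.Agent.MiscAlg.expand b' (φ (b 2))
    rw [y0, zero_smul, zero_add] at hy3
    rw [z0, zero_smul, zero_add] at hz3
    generalize b'.repr (φ (b 0)) 0 = a, b'.repr (φ (b 1)) 1 = c₁, b'.repr (φ (b 1)) 2 = c₂,
      b'.repr (φ (b 2)) 1 = d₁, b'.repr (φ (b 2)) 2 = d₂ at *
    by_cases hc₁ : c₁ = 0
    · subst hc₁
      have hd₁ : d₁ ≠ 0 := by
        intro h0
        subst h0
        have := li d₂ (-c₂) (by rw [hy3, hz3]; module)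
        obtain ⟨rfl, h'⟩ := this
        exact one_ne_zero (li 1 0 (by rw [hy3, hz3, neg_eq_zero.1 h']; module)).1
      have hc₂ : c₂ ≠ 0 := by
        intro h0
        subst h0
        exact one_ne_zero (li 1 0 (by rw [hy3]; module)).1
      have ha : a = t := mul_right_cancel₀ hd₁ (by linear_combination -z1)
      have : t' * t = 1 := mul_right_cancel₀ hc₂ (by rw [← ha]; linear_combination -y2)
      exact Or.inr (eq_inv_of_mul_eq_one_left this)
    · have ha : a = 1 := mul_right_cancel₀ hc₁ (by linear_combination -y1)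
      subst ha
      by_cases hd₂ : d₂ = 0
      · subst hd₂
        have hd₁ : d₁ ≠ 0 := by
          intro h0
          subst h0
          exact one_ne_zero (li 0 1 (by rw [hz3]; module)).2
        have ht1 : t = 1 := mul_right_cancel₀ hd₁ (by linear_combination z1)
        have hc₂ : c₂ ≠ 0 := by
          intro h0
          subst h0
          have := li d₁ (-c₁) (by rw [hy3, hz3]; module)
          exact hd₁ this.1
        have : t' = 1 := mul_right_cancel₀ hc₂ (by linear_combination -y2)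
        exact Or.inl (by rw [this, ht1])
      · exact Or.inl (mul_right_cancel₀ hd₂ (by linear_combination -z2))
  · have h10 : ⁅b' 1, b' 0⁆ = -b' 1 := by rw [← lie_skew, h01']
    have h20 : ⁅b' 2, b' 0⁆ = -(t' • b' 2) := by rw [← lie_skew, h02']
    have h21 : ⁅b' 2, b' 1⁆ = 0 := by rw [← lie_skew, h12', neg_zero]
    have g10 : ⁅b 1, b 0⁆ = -b 1 := by rw [← lie_skew, h01]
    have g20 : ⁅b 2, b 0⁆ = -(t • b 2) := by rw [← lie_skew, h02]
    have g21 : ⁅b 2, b 1⁆ = 0 := by rw [← lie_skew, h12, neg_zero]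
    rintro (rfl | rfl)
    · refine ⟨Groth.Agent.MiscAlg.lieEquivOfBasis b (b.equiv b' (Equiv.refl _)) fun i j => ?_⟩
      fin_cases i <;> fin_cases j <;>
        simp [h01, h02, h12, g10, g20, g21, h01', h02', h12', h10, h20, h21]
    · let v : Fin 3 → k := ![t, 1, 1]
      have hv : ∀ i, IsUnit (v i) := fun i => by fin_cases i <;> simp [v, ht, isUnit_iff_ne_zero]
      let b'' := b'.isUnitSMul hv
      have e0 : b'' 0 = t • b' 0 := by simp [b'', v, Module.Basis.isUnitSMul_apply]
      have e1 : b'' 1 = b' 1 := by simp [b'', v, Module.Basis.isUnitSMul_apply]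
      have e2 : b'' 2 = b' 2 := by simp [b'', v, Module.Basis.isUnitSMul_apply]
      refine ⟨Groth.Agent.MiscAlg.lieEquivOfBasis b (b.equiv b'' (Equiv.swap 1 2)) fun i j => ?_⟩
      have q0 : (Equiv.swap (1 : Fin 3) 2) 0 = 0 := by decide
      fin_cases i <;> fin_cases j <;>
        simp [h01, h02, h12, g10, g20, g21, h01', h02', h12', h10, h20, h21, q0, e0, e1, e2,
          smul_smul, ht]

end Groth.Agent.S13108
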