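import Groth.Statements.S13114
import Mathlib
-- import your own Groth.Agent.* helpers here

set_option autoImplicit false
universe u
open HilbChow

namespace Groth.Agent.S13114
theorem norm_add_nilpotent {k A : Type*} [Field k] [CommRing A] [Algebra k A]
    [Module.Finite k A] (c : k) (z : A) (hz : IsNilpotent z) :
    Algebra.norm k (algebraMap k A c + z) = c ^ Module.finrank k A := by
  have h : IsNilpotent (Algebra.lmul k A (-z)) := hz.neg.map _
  have := LinearMap.eval_charpoly (Algebra.lmul k A (-z)) c
  rw [h.charpoly_eq_X_pow_finrank, Polynomial.eval_pow, Polynomial.eval_X] at this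
  rw [this, Algebra.norm_apply, map_neg, sub_neg_eq_add]
  congr 1
  rw [map_add, AlgHom.commutes]

theorem residue_surj {k A : Type*} [Field k] [IsAlgClosed k] [CommRing A] [Algebra k A] [IsLocalRing A]
    [Module.Finite k A] (a : A) : ∃ c : k, IsLocalRing.residue A a = algebraMap k _ c := by
  have : Module.Finite k (IsLocalRing.ResidueField A) :=
    Module.Finite.of_surjective (IsScalarTower.toAlgHom k A (IsLocalRing.ResidueField A)).toLinearMap
      IsLocalRing.residue_surjective
  have : Algebra.IsIntegral k (IsLocalRing.ResidueField A) := inferInstance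
  obtain ⟨c, hc⟩ := (IsAlgClosed.algebraMap_bijective_of_isIntegral (k := k) (K := IsLocalRing.ResidueField A)).2 (IsLocalRing.residue A a)
  exact ⟨c, hc.symm⟩


/-- Let k be an algebraically closed field, A a commutative local k-algebra of finite dimension n over k
and u a unit of A. Then the determinant of multiplication by u on the k-vector space A, mapped to
the residue field of A, equals the n-th power of the residue class of u. -/
theorem result
    (k A : Type u) [Field k] [IsAlgClosed k] [CommRing A] [Algebra k A] [IsLocalRing A]
    [Module.Finite k A] (u : Aˣ) :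
    algebraMap k (IsLocalRing.ResidueField A) (Algebra.norm k (u : A)) =
      IsLocalRing.residue A (u : A) ^ Module.finrank k A := by
  obtain ⟨c, hc⟩ := residue_surj (k := k) (u : A)
  have : IsArtinianRing A := IsArtinianRing.of_finite k A
  have hz : IsNilpotent ((u : A) - algebraMap k A c) := by
    have h : (u : A) - algebraMap k A c ∈ IsLocalRing.maximalIdeal A := by
      rw [← IsLocalRing.residue_eq_zero_iff, map_sub, hc, sub_eq_zero]
      exact IsScalarTower.algebraMap_apply k A _ c
    obtain ⟨n, hn⟩ := IsArtinianRing.isNilpotent_jacobson_bot (R := A)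
    rw [IsLocalRing.jacobson_eq_maximalIdeal _ bot_ne_top] at hn
    exact ⟨n, by simpa [hn] using Ideal.pow_mem_pow h n⟩
  have := norm_add_nilpotent c _ hz
  rw [add_sub_cancel] at this
  rw [this, hc, map_pow]

end Groth.Agent.S13114
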