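import Groth.Statements.S13115
import Mathlib
-- import your own Groth.Agent.* helpers here

set_option autoImplicit false
universe u
open scoped TensorProduct
open HilbChow

namespace Groth.Agent.S13115

/-- Let k be an infinite field, V a k-vector space and m a natural number. Then every symmetric tensor
in the m-fold tensor power of V — one fixed by every permutation of the factors — is a k-linear
combination of pure powers v ⊗ ⋯ ⊗ v with v in V. (The published statement concerns the ring of
functions of an affine scheme over an infinite field, where it gives the uniqueness of the algebra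
map defining the Hilbert-to-Chow morphism for zero-cycles; this row states it for any vector space.) -/
theorem result
    (k V : Type u) [Field k] [Infinite k] [AddCommGroup V] [Module k V] (m : ℕ)
    (x : ⨂[k] _ : Fin m, V)
    (hx : ∀ σ : Equiv.Perm (Fin m), PiTensorProduct.reindex k (fun _ : Fin m => V) σ x = x) :
    x ∈ Submodule.span k (Set.range fun v : V => PiTensorProduct.tprod k (fun _ : Fin m => v)) := by
  classical
  by_contra hxs
  obtain ⟨φ, hφx, hφ⟩ := Submodule.exists_dual_map_eq_bot_of_notMem hxs inferInstance
  apply hφx
  have hpow : ∀ v : V, φ (PiTensorProduct.tprod k (fun _ : Fin m => v)) = 0 := fun v => by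
    have := Submodule.mem_map_of_mem (f := φ) (Submodule.subset_span (R := k)
      (s := Set.range fun v : V => PiTensorProduct.tprod k (fun _ : Fin m => v)) ⟨v, rfl⟩)
    rwa [hφ, Submodule.mem_bot] at this
  let b := Module.Basis.ofVectorSpace k V
  let B := Basis.piTensorProduct (fun _ : Fin m => b)
  have hB : ∀ f, B f = PiTensorProduct.tprod k (fun j => b (f j)) := fun f =>
    Basis.piTensorProduct_apply _ f
  -- coefficients are permutation invariant
  have hinv : ∀ (σ : Equiv.Perm (Fin m)) f, B.repr x (f ∘ σ) = B.repr x f := by
    intro σ f
    have hlin : ∀ y, B.repr (PiTensorProduct.reindex k (fun _ : Fin m => V) σ y) f = B.repr y (f ∘ σ) := by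
      intro y
      induction y using PiTensorProduct.induction_on with
      | smul_tprod r v =>
        simp only [map_smul, PiTensorProduct.reindex_tprod, Finsupp.smul_apply]
        rw [Basis.piTensorProduct_repr_tprod_apply, Basis.piTensorProduct_repr_tprod_apply]
        congr 1
        exact Fintype.prod_equiv σ.symm _ _ (fun i => by simp)
      | add y z hy hz => simp only [map_add, Finsupp.add_apply, hy, hz]
    rw [← hlin x, hx σ]
  let s : Finset _ := (B.repr x).support.biUnion (fun f => Finset.univ.image f)
  let U : Finset (Fin m → _) := Fintype.piFinset (fun _ : Fin m => s)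
  have hsupp : (B.repr x).support ⊆ U := fun f hf => by
    simp only [U, Fintype.mem_piFinset, s, Finset.mem_biUnion, Finset.mem_image]
    exact fun j => ⟨f, hf, j, Finset.mem_univ _, rfl⟩
  let mult : (Fin m → Module.Basis.ofVectorSpaceIndex k V) → (Module.Basis.ofVectorSpaceIndex k V →₀ ℕ) := fun f => ∑ j, Finsupp.single (f j) 1
  let Q : MvPolynomial (Module.Basis.ofVectorSpaceIndex k V) k := ∑ f ∈ U, MvPolynomial.monomial (mult f) (φ (B f))
  have hQ : Q = 0 := by
    apply MvPolynomial.funext
    intro a
    rw [map_zero, map_sum]
    have h1 := hpow (∑ i ∈ s, a i • b i)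
    rw [MultilinearMap.map_sum_finset, map_sum] at h1
    rw [← h1]
    refine Finset.sum_congr rfl fun f _ => ?_
    rw [MultilinearMap.map_smul_univ, map_smul, ← hB, MvPolynomial.monomial_sum_index, map_mul,
      MvPolynomial.eval_C, map_prod, smul_eq_mul, mul_comm]
    congr 1
    refine Finset.prod_congr rfl fun j _ => ?_
    rw [MvPolynomial.eval_monomial, one_mul, Finsupp.prod_single_index (by simp), pow_one]
  have hfib : ∀ d, ∑ f ∈ U with mult f = d, φ (B f) = 0 := by
    intro d
    have := congrArg (MvPolynomial.coeff d) hQ
    simp only [Q, MvPolynomial.coeff_sum, MvPolynomial.coeff_monomial, MvPolynomial.coeff_zero] at this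
    rw [Finset.sum_filter]
    exact this
  have hconst : ∀ f g, mult f = mult g → B.repr x f = B.repr x g := by
    intro f g h
    have hcard : ∀ c, Fintype.card { j // f j = c } = Fintype.card { j // g j = c } := by
      intro c
      have := DFunLike.congr_fun h c
      simp only [mult, Finsupp.finsetSum_apply, Finsupp.single_apply, Finset.sum_boole] at this
      simpa [Fintype.card_subtype] using this
    let σ : Equiv.Perm (Fin m) := Equiv.ofFiberEquiv (fun c => Fintype.equivOfCardEq (hcard c))
    have hσ : g ∘ σ = f := funext fun j => Equiv.ofFiberEquiv_map _ j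
    rw [← hσ, hinv]
  have hxe : x = ∑ f ∈ U, B.repr x f • B f := by
    conv_lhs => rw [← B.linearCombination_repr x]
    rw [Finsupp.linearCombination_apply, Finsupp.sum_of_support_subset _ hsupp _ (by simp)]
  rw [hxe, map_sum]
  simp only [map_smul, smul_eq_mul]
  rw [← Finset.sum_fiberwise_of_maps_to (g := mult) (t := U.image mult)
    (fun f hf => Finset.mem_image_of_mem _ hf)]
  refine Finset.sum_eq_zero fun d hd => ?_
  obtain ⟨f₀, -, rfl⟩ := Finset.mem_image.mp hd
  calc ∑ f ∈ U with mult f = mult f₀, B.repr x f * φ (B f)
      = ∑ f ∈ U with mult f = mult f₀, B.repr x f₀ * φ (B f) :=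
        Finset.sum_congr rfl fun f hf => by rw [hconst f f₀ (Finset.mem_filter.mp hf).2]
    _ = 0 := by rw [← Finset.mul_sum, hfib, mul_zero]

end Groth.Agent.S13115
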