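import Groth.Statements.S13117
import Groth.Agent.S13114
import Mathlib
-- import your own Groth.Agent.* helpers here

set_option autoImplicit false
universe u
open HilbChow

namespace Groth.Agent.S13117

/-- The norm on a finite product of free algebras. -/
lemma norm_pi_eq {k : Type*} [CommRing k] [Nontrivial k] {ι : Type*} [Fintype ι] (A : ι → Type*)
    [∀ i, CommRing (A i)] [∀ i, Algebra k (A i)] [∀ i, Module.Free k (A i)] [∀ i, Module.Finite k (A i)]
    (x : Π i, A i) : Algebra.norm k x = ∏ i, Algebra.norm k (x i) := by
  classical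
  letI : LinearOrder ι := LinearOrder.lift' (Fintype.equivFin ι) (Fintype.equivFin ι).injective
  let b := fun i => Module.Free.chooseBasis k (A i)
  let B := Pi.basis b
  rw [Algebra.norm_eq_matrix_det B]
  have hM : Algebra.leftMulMatrix B x =
      Matrix.blockDiagonal' (fun i => Algebra.leftMulMatrix (b i) (x i)) := by
    ext ⟨i, a⟩ ⟨j, c⟩
    rw [Algebra.leftMulMatrix_eq_repr_mul]
    rcases eq_or_ne i j with rfl | hne
    · rw [Matrix.blockDiagonal'_apply_eq, Algebra.leftMulMatrix_eq_repr_mul]
      simp [B]
    · rw [Matrix.blockDiagonal'_apply_ne _ _ _ hne]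
      simp [B, hne]
  rw [hM, (Matrix.blockTriangular_blockDiagonal' _).det_fintype]
  refine Finset.prod_congr rfl fun i _ => ?_
  rw [Algebra.norm_eq_matrix_det (b i)]
  let e : Module.Free.ChooseBasisIndex k (A i) ≃
      { p : (j : ι) × Module.Free.ChooseBasisIndex k (A j) // p.1 = i } :=
    { toFun := fun a => ⟨⟨i, a⟩, rfl⟩
      invFun := fun p => p.2 ▸ p.1.2
      left_inv := fun a => rfl
      right_inv := by rintro ⟨⟨j, a⟩, rfl⟩; rfl }
  rw [← Matrix.det_submatrix_equiv_self e]
  congr 1
  ext a c
  exact (Matrix.blockDiagonal'_apply_eq (fun i => Algebra.leftMulMatrix (b i) (x i)) i a c)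

set_option maxRecDepth 4000 in
/-- Let k be an algebraically closed field, A a finite-dimensional commutative k-algebra (the coordinate
ring of a zero-dimensional subscheme Z of length dim_k A) and f ∈ A. Then the determinant of
multiplication by f on A is the product over the points x of Z — the k-algebra homomorphisms A → k —
of the value f(x) raised to the length of the local ring of Z at x, that length being the
k-dimension of the localisation of A at the corresponding maximal ideal. This is the formula by
which the Hilbert-to-Chow morphism for zero-cycles sends Z to its fundamental cycle Σ ℓ(O_{Z,x})[x]. -/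
theorem result
    (k A : Type u) [Field k] [IsAlgClosed k] [CommRing A] [Algebra k A] [Module.Finite k A] (f : A) :
    Algebra.norm k f =
      ∏ᶠ φ : A →ₐ[k] k, φ f ^ Module.finrank k (Localization.AtPrime (Ideal.comap φ ⊥)) := by
  classical
  have : IsArtinianRing A := IsArtinianRing.of_finite k A
  -- the points of the spectrum
  let pt : (A →ₐ[k] k) → MaximalSpectrum A := fun φ => ⟨RingHom.ker φ,
    RingHom.ker_isMaximal_of_surjective _ fun c => ⟨algebraMap k A c, φ.commutes c⟩⟩
  have hpt : Function.Bijective pt := by
    constructor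
    · intro φ ψ h
      ext a
      have h2 : a - algebraMap k A (φ a) ∈ (pt φ).asIdeal := RingHom.mem_ker.mpr (by simp)
      rw [h] at h2
      replace h2 : ψ (a - algebraMap k A (φ a)) = 0 := RingHom.mem_ker.mp h2
      simp only [map_sub, AlgHom.commutes, Algebra.algebraMap_self, RingHom.id_apply, sub_eq_zero] at h2
      exact h2.symm
    · intro I
      have := I.isMaximal
      letI := Ideal.Quotient.field I.asIdeal
      have hb := IsAlgClosed.algebraMap_bijective_of_isIntegral (k := k) (K := A ⧸ I.asIdeal)
      refine ⟨(AlgEquiv.ofBijective (Algebra.ofId k (A ⧸ I.asIdeal)) hb).symm.toAlgHom.comp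
        (Ideal.Quotient.mkₐ k I.asIdeal), MaximalSpectrum.ext ?_⟩
      ext a
      change _ ∈ RingHom.ker _ ↔ _
      rw [RingHom.mem_ker]
      simp [Ideal.Quotient.eq_zero_iff_mem]
  let e := Equiv.ofBijective pt hpt
  haveI : Fintype (MaximalSpectrum A) := Fintype.ofFinite _
  haveI : Fintype (A →ₐ[k] k) := Fintype.ofEquiv _ e.symm
  have hfin : ∀ I : MaximalSpectrum A, Module.Finite k (Localization.AtPrime I.asIdeal) := fun I =>
    Module.Finite.of_surjective (Algebra.algHom k A (Localization.AtPrime I.asIdeal)).toLinearMap
      (IsArtinianRing.localization_surjective I.asIdeal.primeCompl (Localization.AtPrime I.asIdeal))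
  let E := (MaximalSpectrum.toPiLocalizationEquiv A).restrictScalars k
  rw [← Algebra.norm_eq_of_algEquiv E f]
  refine (norm_pi_eq (fun I : MaximalSpectrum A => Localization.AtPrime I.asIdeal) (E f)).trans ?_
  rw [finprod_eq_prod_of_fintype, ← e.prod_comp]
  refine Finset.prod_congr rfl fun φ _ => ?_
  have hE : E f (e φ) = algebraMap A _ f := rfl
  rw [hE]
  set I := e φ with hI
  have hIdeal : I.asIdeal = RingHom.ker φ := rfl
  have hmem : f - algebraMap k A (φ f) ∈ I.asIdeal := by
    rw [hIdeal, RingHom.mem_ker]; simp
  have hm : algebraMap A (Localization.AtPrime I.asIdeal) (f - algebraMap k A (φ f)) ∈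
      IsLocalRing.maximalIdeal (Localization.AtPrime I.asIdeal) :=
    (IsLocalization.AtPrime.to_map_mem_maximal_iff _ I.asIdeal _).mpr hmem
  have hz : IsNilpotent (algebraMap A (Localization.AtPrime I.asIdeal) (f - algebraMap k A (φ f))) := by
    have : IsArtinianRing (Localization.AtPrime I.asIdeal) := IsArtinianRing.of_finite k _
    obtain ⟨n, hn⟩ := IsArtinianRing.isNilpotent_jacobson_bot (R := Localization.AtPrime I.asIdeal)
    rw [IsLocalRing.jacobson_eq_maximalIdeal _ bot_ne_top] at hn
    exact ⟨n, by simpa [hn] using Ideal.pow_mem_pow hm n⟩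
  have := Groth.Agent.S13114.norm_add_nilpotent (φ f) _ hz
  rw [map_sub, ← IsScalarTower.algebraMap_apply, add_sub_cancel] at this
  exact this

end Groth.Agent.S13117
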