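import Groth.Statements.S13120
import Groth.Agent.KumFamH.Parity

set_option autoImplicit false
universe u
open KumFam

namespace Groth.Agent.S13120

open MvPolynomial in
/-- Let R be a commutative ring of characteristic 2 and l0, l2, l4, s0, s2, s4, τ ∈ R with τ a unit.
Inside R[u, v] (u = X 0, v = X 1) let A = R[u², u³, v², v³] be the coordinate ring of the product of
two cuspidal curves, and let D be the R-derivation of R[u, v] with D(u) = v²(l0 u⁴ + τ u³ + l2 u² +
l4) and D(v) = u²(s0 v⁴ + τ v³ + s2 v² + s4); D is u²v² times the rational vector field (l0 u² + τ u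
+ l2 + l4 u⁻²) ∂_u + (s0 v² + τ v + s2 + s4 v⁻²) ∂_v, which maps A into itself, and u²v² is a
non-zero-divisor, so the kernel of that vector field on A is the set of a ∈ A with D(a) = 0. Then
for a ∈ A: D(a) = 0 if and only if a ∈ R[u², v², g], where g = (s0 v⁴ + s2 v² + s4) u³ + (l0 u⁴ + l2
u² + l4) v³ + τ u³ v³. (The published statement identifies this kernel with the ring of invariants
of the corresponding action of the group scheme of square roots of unity; this row states the kernel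
computation that is actually carried out.) -/
theorem result (R : Type u) [CommRing R] [CharP R 2]
    (l0 l2 l4 s0 s2 s4 τ : R) (hτ : IsUnit τ) (a : MvPolynomial (Fin 2) R)
    (ha : a ∈ Algebra.adjoin R
      ({X 0 ^ 2, X 0 ^ 3, X 1 ^ 2, X 1 ^ 3} : Set (MvPolynomial (Fin 2) R))) :
    MvPolynomial.mkDerivation R
        (![X 1 ^ 2 * (C l0 * X 0 ^ 4 + C τ * X 0 ^ 3 + C l2 * X 0 ^ 2 + C l4),
          X 0 ^ 2 * (C s0 * X 1 ^ 4 + C τ * X 1 ^ 3 + C s2 * X 1 ^ 2 + C s4)] :
          Fin 2 → MvPolynomial (Fin 2) R) a = 0 ↔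
      a ∈ Algebra.adjoin R
        ({X 0 ^ 2, X 1 ^ 2,
          (C s0 * X 1 ^ 4 + C s2 * X 1 ^ 2 + C s4) * X 0 ^ 3 +
            (C l0 * X 0 ^ 4 + C l2 * X 0 ^ 2 + C l4) * X 1 ^ 3 +
            C τ * X 0 ^ 3 * X 1 ^ 3} : Set (MvPolynomial (Fin 2) R)) := by
  set P : MvPolynomial (Fin 2) R := MvPolynomial.X 1 ^ 2 * (C l0 * MvPolynomial.X 0 ^ 4 + C τ * MvPolynomial.X 0 ^ 3 + C l2 * MvPolynomial.X 0 ^ 2 + C l4)
  set Q : MvPolynomial (Fin 2) R := MvPolynomial.X 0 ^ 2 * (C s0 * MvPolynomial.X 1 ^ 4 + C τ * MvPolynomial.X 1 ^ 3 + C s2 * MvPolynomial.X 1 ^ 2 + C s4)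
  set D := MvPolynomial.mkDerivation R (![P, Q] : Fin 2 → MvPolynomial (Fin 2) R) with hD
  have h2 : (2 : MvPolynomial (Fin 2) R) = 0 := CharTwo.two_eq_zero
  have hDX : D (MvPolynomial.X 0 ^ 3) = MvPolynomial.X 0 ^ 2 * P := by
    rw [pow_succ, D.leibniz, pow_two, D.leibniz, hD, MvPolynomial.mkDerivation_X]
    simp only [Matrix.cons_val_zero, smul_eq_mul]
    linear_combination (MvPolynomial.X 0 * MvPolynomial.X 0 * P) * h2
  have hDY : D (MvPolynomial.X 1 ^ 3) = MvPolynomial.X 1 ^ 2 * Q := by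
    rw [pow_succ, D.leibniz, pow_two, D.leibniz, hD, MvPolynomial.mkDerivation_X]
    simp only [Matrix.cons_val_one, Matrix.cons_val_zero, smul_eq_mul]
    linear_combination (MvPolynomial.X 1 * MvPolynomial.X 1 * Q) * h2
  constructor
  · intro h
    obtain ⟨A, B, C', E, rfl⟩ := Groth.Agent.KumFamH.dec_of_mem_adjoin ha
    simp only [map_add, D.leibniz, Groth.Agent.KumFamH.derivation_expand D, hDX, hDY, smul_eq_mul] at h
    obtain ⟨ti, hti⟩ : ∃ ti, τ * ti = 1 := ⟨↑hτ.unit⁻¹, by simp⟩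
    have hti' : (C τ : MvPolynomial (Fin 2) R) * C ti = 1 := by rw [← map_mul, hti, map_one]
    set a : MvPolynomial (Fin 2) R := C s0 * MvPolynomial.X 1 ^ 2 + C s2 * MvPolynomial.X 1 + C s4 with ha'
    set b : MvPolynomial (Fin 2) R := C l0 * MvPolynomial.X 0 ^ 2 + C l2 * MvPolynomial.X 0 + C l4 with hb'
    obtain ⟨-, hB, hC, -⟩ := Groth.Agent.KumFamH.decomp_unique (m := 3) (n := 3) (by decide) (by decide)
      (A := MvPolynomial.X 0 * MvPolynomial.X 1 * (B * b + C' * a))
      (B := MvPolynomial.X 0 * MvPolynomial.X 1 * (B * C τ + E * a))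
      (C' := MvPolynomial.X 0 * MvPolynomial.X 1 * (C' * C τ + E * b)) (D := 0) (R := R) (by
        simp only [ha', hb', map_add, map_mul, map_pow, map_zero, expand_X, expand_C, P, Q] at h ⊢
        linear_combination h - (expand 2 E * C τ * MvPolynomial.X 0 ^ 5 * MvPolynomial.X 1 ^ 5) * h2)
    have hreg : IsLeftRegular (MvPolynomial.X 0 * MvPolynomial.X 1 : MvPolynomial (Fin 2) R) :=
      (MvPolynomial.isRegular_X.mul MvPolynomial.isRegular_X).left
    have hB' : B * C τ + E * a = 0 := hreg (by simpa using hB)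
    have hC' : C' * C τ + E * b = 0 := hreg (by simpa using hC)
    have hB'' : B = E * C ti * a := by
      linear_combination (C ti) * hB' - B * hti' - (E * C ti * a) * h2
    have hC'' : C' = E * C ti * b := by
      linear_combination (C ti) * hC' - C' * hti' - (E * C ti * b) * h2
    have hE : E = E * C ti * C τ := by linear_combination (-E) * hti'
    have hmem : ∀ A : MvPolynomial (Fin 2) R, expand 2 A ∈ Algebra.adjoin R ({MvPolynomial.X 0 ^ 2, MvPolynomial.X 1 ^ 2,
          (C s0 * MvPolynomial.X 1 ^ 4 + C s2 * MvPolynomial.X 1 ^ 2 + C s4) * MvPolynomial.X 0 ^ 3 +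
            (C l0 * MvPolynomial.X 0 ^ 4 + C l2 * MvPolynomial.X 0 ^ 2 + C l4) * MvPolynomial.X 1 ^ 3 +
            C τ * MvPolynomial.X 0 ^ 3 * MvPolynomial.X 1 ^ 3} : Set (MvPolynomial (Fin 2) R)) := by
      intro A
      induction A using MvPolynomial.induction_on with
      | C r => rw [expand_C]; exact Subalgebra.algebraMap_mem _ r
      | add p q hp hq => rw [map_add]; exact add_mem hp hq
      | mul_X p i hp =>
        rw [map_mul, expand_X]
        refine mul_mem hp (Algebra.subset_adjoin ?_)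
        fin_cases i <;> simp
    have := add_mem (hmem A) (mul_mem (hmem (E * C ti)) (Algebra.subset_adjoin (R := R)
      (show _ ∈ ({MvPolynomial.X 0 ^ 2, MvPolynomial.X 1 ^ 2,
          (C s0 * MvPolynomial.X 1 ^ 4 + C s2 * MvPolynomial.X 1 ^ 2 + C s4) * MvPolynomial.X 0 ^ 3 +
            (C l0 * MvPolynomial.X 0 ^ 4 + C l2 * MvPolynomial.X 0 ^ 2 + C l4) * MvPolynomial.X 1 ^ 3 +
            C τ * MvPolynomial.X 0 ^ 3 * MvPolynomial.X 1 ^ 3} : Set (MvPolynomial (Fin 2) R)) from
        Or.inr (Or.inr rfl))))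
    convert this using 1
    rw [hB'', hC'']
    conv_lhs => enter [2, 1]; rw [hE]
    simp only [ha', hb', map_add, map_mul, map_pow, expand_X, expand_C]
    ring
  · intro h
    clear ha
    induction h using Algebra.adjoin_induction with
    | mem x hx =>
      simp only [Set.mem_insert_iff, Set.mem_singleton_iff] at hx
      rcases hx with rfl | rfl | rfl
      · simpa using Groth.Agent.KumFamH.derivation_expand D (MvPolynomial.X 0)
      · simpa using Groth.Agent.KumFamH.derivation_expand D (MvPolynomial.X 1)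
      · have e : ((C s0 * MvPolynomial.X 1 ^ 4 + C s2 * MvPolynomial.X 1 ^ 2 + C s4) * MvPolynomial.X 0 ^ 3 +
            (C l0 * MvPolynomial.X 0 ^ 4 + C l2 * MvPolynomial.X 0 ^ 2 + C l4) * MvPolynomial.X 1 ^ 3 +
            C τ * MvPolynomial.X 0 ^ 3 * MvPolynomial.X 1 ^ 3 : MvPolynomial (Fin 2) R)
            = expand 2 (C s0 * MvPolynomial.X 1 ^ 2 + C s2 * MvPolynomial.X 1 + C s4) * MvPolynomial.X 0 ^ 3
              + expand 2 (C l0 * MvPolynomial.X 0 ^ 2 + C l2 * MvPolynomial.X 0 + C l4) * MvPolynomial.X 1 ^ 3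
              + expand 2 (C τ) * (MvPolynomial.X 0 ^ 3 * MvPolynomial.X 1 ^ 3) := by
          simp only [map_add, map_mul, map_pow, expand_X, expand_C]; ring
        rw [e]
        simp only [map_add, D.leibniz, Groth.Agent.KumFamH.derivation_expand D, hDX, hDY, smul_eq_mul]
        simp only [map_add, map_mul, map_pow, expand_X, expand_C, P, Q]
        linear_combination (MvPolynomial.X 0 ^ 2 * MvPolynomial.X 1 ^ 2 *
          ((C s0 * MvPolynomial.X 1 ^ 4 + C s2 * MvPolynomial.X 1 ^ 2 + C s4) * (C l0 * MvPolynomial.X 0 ^ 4 + C l2 * MvPolynomial.X 0 ^ 2 + C l4)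
          + C τ * MvPolynomial.X 0 ^ 3 * (C s0 * MvPolynomial.X 1 ^ 4 + C s2 * MvPolynomial.X 1 ^ 2 + C s4)
          + C τ * MvPolynomial.X 1 ^ 3 * (C l0 * MvPolynomial.X 0 ^ 4 + C l2 * MvPolynomial.X 0 ^ 2 + C l4)
          + C τ * C τ * MvPolynomial.X 0 ^ 3 * MvPolynomial.X 1 ^ 3)) * h2
    | algebraMap r => exact D.map_algebraMap r
    | add x y _ _ hx hy => rw [map_add, hx, hy, add_zero]
    | mul x y _ _ hx hy => rw [D.leibniz, hx, hy, smul_zero, smul_zero, add_zero]

end Groth.Agent.S13120
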