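import Groth.Statements.S13122
import Groth.Agent.KumFamH.Parity

set_option autoImplicit false
universe u
open KumFam

namespace Groth.Agent.S13122

open MvPolynomial in
/-- Let R be a commutative ring of characteristic 2 and l0, l2, l4, s0, s2, s4, τ ∈ R with τ a unit. On
R[x, y] (x = X 0, y = X 1; the coordinates u⁻¹, v⁻¹ of the smooth chart of the product of two
cuspidal curves) let D be the R-derivation with D(x) = l4 x⁴ + l2 x² + τ x + l0 and D(y) = s4 y⁴ +
s2 y² + τ y + s0, and put h = (s4 y⁴ + s2 y² + s0) x + (l4 x⁴ + l2 x² + l0) y + τ x y. Then: (1) for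
p ∈ R[x, y], D(p) = 0 if and only if p lies in the image of the R-algebra homomorphism R[a, b, c] →
R[x, y] (a = X 0, b = X 1, c = X 2) with a ↦ x², b ↦ y², c ↦ h; (2) the kernel of that homomorphism
is the ideal generated by c² + τ² a b + (s4² b⁴ + s2² b² + s0²) a + (l4² a⁴ + l2² a² + l0²) b. (The
published statement asserts that the ring of invariants of the action of the group scheme of square
roots of unity given by this vector field is R[a, b, c] modulo this equation, by the same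
computation as on the other chart; this row pins the generator h and states the kernel computation.) -/
theorem result (R : Type u) [CommRing R]
    [CharP R 2] (l0 l2 l4 s0 s2 s4 τ : R) (hτ : IsUnit τ) :
    (∀ p : MvPolynomial (Fin 2) R,
      MvPolynomial.mkDerivation R
          (![C l4 * X 0 ^ 4 + C l2 * X 0 ^ 2 + C τ * X 0 + C l0,
            C s4 * X 1 ^ 4 + C s2 * X 1 ^ 2 + C τ * X 1 + C s0] :
            Fin 2 → MvPolynomial (Fin 2) R) p = 0 ↔
        p ∈ (MvPolynomial.aeval (R := R) (S₁ := MvPolynomial (Fin 2) R)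
          ![X 0 ^ 2, X 1 ^ 2,
            (C s4 * X 1 ^ 4 + C s2 * X 1 ^ 2 + C s0) * X 0 +
              (C l4 * X 0 ^ 4 + C l2 * X 0 ^ 2 + C l0) * X 1 + C τ * X 0 * X 1]).range) ∧
    RingHom.ker (MvPolynomial.aeval (R := R) (S₁ := MvPolynomial (Fin 2) R)
        ![X 0 ^ 2, X 1 ^ 2,
          (C s4 * X 1 ^ 4 + C s2 * X 1 ^ 2 + C s0) * X 0 +
            (C l4 * X 0 ^ 4 + C l2 * X 0 ^ 2 + C l0) * X 1 + C τ * X 0 * X 1]) =
      Ideal.span {(X 2 ^ 2 + C (τ ^ 2) * X 0 * X 1 +
        (C (s4 ^ 2) * X 1 ^ 4 + C (s2 ^ 2) * X 1 ^ 2 + C (s0 ^ 2)) * X 0 +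
        (C (l4 ^ 2) * X 0 ^ 4 + C (l2 ^ 2) * X 0 ^ 2 + C (l0 ^ 2)) * X 1 : MvPolynomial (Fin 3) R)} := by
  set P : MvPolynomial (Fin 2) R := C l4 * MvPolynomial.X 0 ^ 4 + C l2 * MvPolynomial.X 0 ^ 2 + C τ * MvPolynomial.X 0 + C l0
  set Q : MvPolynomial (Fin 2) R := C s4 * MvPolynomial.X 1 ^ 4 + C s2 * MvPolynomial.X 1 ^ 2 + C τ * MvPolynomial.X 1 + C s0
  set D := MvPolynomial.mkDerivation R (![P, Q] : Fin 2 → MvPolynomial (Fin 2) R) with hD
  set φ := MvPolynomial.aeval (R := R) (S₁ := MvPolynomial (Fin 2) R)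
          ![MvPolynomial.X 0 ^ 2, MvPolynomial.X 1 ^ 2,
            (C s4 * MvPolynomial.X 1 ^ 4 + C s2 * MvPolynomial.X 1 ^ 2 + C s0) * MvPolynomial.X 0 +
              (C l4 * MvPolynomial.X 0 ^ 4 + C l2 * MvPolynomial.X 0 ^ 2 + C l0) * MvPolynomial.X 1 + C τ * MvPolynomial.X 0 * MvPolynomial.X 1] with hφ
  have h2 : (2 : MvPolynomial (Fin 2) R) = 0 := CharTwo.two_eq_zero
  have hDX : D (MvPolynomial.X 0) = P := by rw [hD, MvPolynomial.mkDerivation_X]; rfl
  have hDY : D (MvPolynomial.X 1) = Q := by rw [hD, MvPolynomial.mkDerivation_X]; rfl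
  set a : MvPolynomial (Fin 2) R := C s4 * MvPolynomial.X 1 ^ 2 + C s2 * MvPolynomial.X 1 + C s0 with ha'
  set b : MvPolynomial (Fin 2) R := C l4 * MvPolynomial.X 0 ^ 2 + C l2 * MvPolynomial.X 0 + C l0 with hb'
  have hφ2 : φ (MvPolynomial.X 2) = expand 2 a * MvPolynomial.X 0 ^ 1 + expand 2 b * MvPolynomial.X 1 ^ 1 + expand 2 (C τ) * (MvPolynomial.X 0 ^ 1 * MvPolynomial.X 1 ^ 1) := by
    rw [hφ, MvPolynomial.aeval_X]
    simp only [Matrix.cons_val, ha', hb', map_add, map_mul, map_pow, expand_X, expand_C]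
    ring
  refine ⟨fun p => ⟨fun h => ?_, ?_⟩, ?_⟩
  · obtain ⟨A, B, C', E, rfl⟩ := Groth.Agent.KumFamH.dec_one_one p
    simp only [pow_one] at h ⊢
    simp only [map_add, D.leibniz, Groth.Agent.KumFamH.derivation_expand D, hDX, hDY, smul_eq_mul] at h
    obtain ⟨ti, hti⟩ : ∃ ti, τ * ti = 1 := ⟨↑hτ.unit⁻¹, by simp⟩
    have hti' : (C τ : MvPolynomial (Fin 2) R) * C ti = 1 := by rw [← map_mul, hti, map_one]
    obtain ⟨-, hB, hC, -⟩ := Groth.Agent.KumFamH.decomp_unique (m := 1) (n := 1) (by decide) (by decide)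
      (A := B * b + C' * a) (B := B * C τ + E * a) (C' := C' * C τ + E * b) (D := 0) (R := R) (by
        simp only [ha', hb', map_add, map_mul, map_pow, map_zero, expand_X, expand_C, P, Q] at h ⊢
        linear_combination h - (expand 2 E * C τ * MvPolynomial.X 0 * MvPolynomial.X 1) * h2)
    have hB'' : B = E * C ti * a := by
      linear_combination (C ti) * hB - B * hti' - (E * C ti * a) * h2
    have hC'' : C' = E * C ti * b := by
      linear_combination (C ti) * hC - C' * hti' - (E * C ti * b) * h2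
    have hE : E = E * C ti * C τ := by linear_combination (-E) * hti'
    refine ⟨MvPolynomial.rename Fin.castSucc A + MvPolynomial.rename Fin.castSucc (E * C ti) * MvPolynomial.X 2, ?_⟩
    have hι : ∀ A : MvPolynomial (Fin 2) R, φ (MvPolynomial.rename Fin.castSucc A) = expand 2 A := fun A => by
      rw [hφ, MvPolynomial.aeval_rename, Groth.Agent.KumFamH.expand_eq_aeval]
      congr 2
      funext i
      fin_cases i <;> simp
    show φ _ = _
    rw [map_add, map_mul, hι, hι, hφ2, hB'', hC'']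
    conv_rhs => enter [2, 1]; rw [hE]
    simp only [map_mul]
    ring
  · rintro ⟨x, rfl⟩
    show D (φ x) = 0
    induction x using MvPolynomial.induction_on with
    | C r => simp [hφ]
    | add x y hx hy => rw [map_add, map_add, hx, hy, add_zero]
    | mul_X x i hx =>
      rw [map_mul, D.leibniz, hx, smul_zero, add_zero]
      suffices D (φ (MvPolynomial.X i)) = 0 by rw [this, smul_zero]
      fin_cases i
      · simpa [hφ] using Groth.Agent.KumFamH.derivation_expand D (MvPolynomial.X 0)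
      · simpa [hφ] using Groth.Agent.KumFamH.derivation_expand D (MvPolynomial.X 1)
      · show D (φ (MvPolynomial.X 2)) = 0
        rw [hφ2]
        simp only [pow_one, map_add, D.leibniz, Groth.Agent.KumFamH.derivation_expand D, hDX, hDY, smul_eq_mul]
        simp only [ha', hb', map_add, map_mul, map_pow, expand_X, expand_C, P, Q]
        linear_combination ((C s4 * MvPolynomial.X 1 ^ 4 + C s2 * MvPolynomial.X 1 ^ 2 + C s0) * (C l4 * MvPolynomial.X 0 ^ 4 + C l2 * MvPolynomial.X 0 ^ 2 + C l0)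
          + C τ * MvPolynomial.X 0 * (C s4 * MvPolynomial.X 1 ^ 4 + C s2 * MvPolynomial.X 1 ^ 2 + C s0)
          + C τ * MvPolynomial.X 1 * (C l4 * MvPolynomial.X 0 ^ 4 + C l2 * MvPolynomial.X 0 ^ 2 + C l0)
          + C τ * C τ * MvPolynomial.X 0 * MvPolynomial.X 1) * h2
  · refine Groth.Agent.KumFamH.ker_aeval_eq_span (q := C (τ ^ 2) * MvPolynomial.X 0 * MvPolynomial.X 1 +
        (C (s4 ^ 2) * MvPolynomial.X 1 ^ 4 + C (s2 ^ 2) * MvPolynomial.X 1 ^ 2 + C (s0 ^ 2)) * MvPolynomial.X 0 +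
        (C (l4 ^ 2) * MvPolynomial.X 0 ^ 4 + C (l2 ^ 2) * MvPolynomial.X 0 ^ 2 + C (l0 ^ 2)) * MvPolynomial.X 1) _ ?_ ?_ ?_
    · simp only [map_add, map_mul, map_pow, rename_X, rename_C]
      simp only [show (Fin.castSucc (0 : Fin 2) : Fin 3) = 0 from rfl, show (Fin.castSucc (1 : Fin 2) : Fin 3) = 1 from rfl]
      ring
    · rw [CharTwo.add_eq_zero]
      simp only [map_add, map_mul, map_pow, expand_X, expand_C, CharTwo.add_sq, mul_pow]
      ring
    · intro A B h
      refine Groth.Agent.KumFamH.free_of_odd (m := 1) (n := 1) (by decide) (by decide) hτ (a := a) (b := b) A B ?_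
      simp only [ha', hb', map_add, map_mul, map_pow, expand_X, expand_C] at h ⊢
      linear_combination h

end Groth.Agent.S13122
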