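import Groth.Statements.S13124
import Mathlib.RingTheory.Localization.FractionRing

set_option autoImplicit false
universe u v w
open KumFam

open scoped TensorProduct

namespace Groth.Agent.S13124

/-- Let k be a commutative ring, A a commutative k-bialgebra that is flat over k, and R a commutative
k-algebra which is an integrally closed domain, with a coaction R → R ⊗ A that is an algebra
homomorphism. Then the ring of invariants (the elements f with coaction f ⊗ 1) is an integrally
closed domain. (The published statement is for a finite group scheme acting on a normal scheme whose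
quotient is, locally, the spectrum of the ring of invariants; this row is the affine integral case
and allows any commutative bialgebra flat over k, flatness being automatic over a field.) -/
theorem result (k : Type u) [CommRing k]
    (A : Type v) [CommRing A] [Bialgebra k A] [Module.Flat k A]
    (R : Type w) [CommRing R] [Algebra k R] [IsDomain R] [IsIntegrallyClosed R]
    [HopfRep.Comod k A R] [GLin.IsCoactAlg k A R] :
    IsIntegrallyClosed (GLin.invariants k A R) := by
  rw [isIntegrallyClosed_iff (FractionRing (GLin.invariants k A R))]
  intro x hx
  obtain ⟨b, s, hs, rfl⟩ := IsFractionRing.div_surjective (A := GLin.invariants k A R) x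
  have hi : Function.Injective ((algebraMap R (FractionRing R)).comp (GLin.invariants k A R).val.toRingHom) :=
    (IsFractionRing.injective R (FractionRing R)).comp Subtype.val_injective
  let F := IsFractionRing.lift (K := FractionRing (GLin.invariants k A R)) hi
  have hF : ∀ t : GLin.invariants k A R, F (algebraMap (GLin.invariants k A R) (FractionRing (GLin.invariants k A R)) t)
      = algebraMap R (FractionRing R) (t : R) := fun t =>
    IsFractionRing.lift_algebraMap hi t
  have hFi : IsIntegral R (F (algebraMap _ _ b / algebraMap _ _ s)) := by
    refine IsIntegral.map_of_comp_eq (GLin.invariants k A R).val.toRingHom F ?_ hx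
    ext t
    exact (hF t).symm
  obtain ⟨r, hr⟩ := IsIntegrallyClosed.isIntegral_iff.mp hFi
  have hs0 : (s : R) ≠ 0 := fun h => nonZeroDivisors.ne_zero hs (Subtype.ext h)
  rw [map_div₀, hF, hF, eq_div_iff (fun h => hs0 ((map_eq_zero_iff _ (IsFractionRing.injective R _)).mp h)),
    ← map_mul] at hr
  have hrs : r * (s : R) = (b : R) := IsFractionRing.injective R _ hr
  have hinv : ∀ t : R, t ∈ GLin.invariants k A R ↔
      GLin.coactAlgHom k A R t = t ⊗ₜ[k] (1 : A) := fun t => GLin.mem_invariants_iff k A R t
  have hr' : r ∈ GLin.invariants k A R := by
    rw [hinv]
    have hb := (hinv _).mp b.2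
    rw [← hrs, map_mul, (hinv _).mp s.2] at hb
    refine Module.Flat.rTensor_preserves_injective_linearMap (M := A) (LinearMap.mulRight k (s : R))
      (mul_left_injective₀ hs0) ?_
    have he : ∀ z : R ⊗[k] A, (LinearMap.mulRight k (s : R)).rTensor A z = z * ((s : R) ⊗ₜ[k] (1 : A)) := by
      intro z
      induction z using TensorProduct.induction_on with
      | zero => simp
      | tmul p q => simp
      | add p q hp hq => simp only [map_add, add_mul, hp, hq]
    rw [he, he, hb]
    simp
  refine ⟨⟨r, hr'⟩, ?_⟩
  rw [eq_div_iff (fun h => nonZeroDivisors.ne_zero hs ((map_eq_zero_iff _ (IsFractionRing.injective _ _)).mp h)),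
    ← map_mul]
  exact congrArg _ (Subtype.ext hrs)

end Groth.Agent.S13124
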