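import Groth.Statements.S13125
import Mathlib.RingTheory.GradedAlgebra.Homogeneous.Ideal

set_option autoImplicit false
universe u v
open KumFam

namespace Groth.Agent.S13125

/-- Let A be a commutative ring graded by an additive monoid ι (an abelian group in the published
statement) through additive subgroups 𝒜 i, and I an ideal of A. Then I is a homogeneous ideal if and
only if A/I carries a structure of ι-graded ring ℬ for which the quotient map sends 𝒜 i into ℬ i for
all i. -/
theorem result (ι : Type u) [DecidableEq ι] [AddMonoid ι]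
    (A : Type v) [CommRing A] (𝒜 : ι → AddSubgroup A) [GradedRing 𝒜] (I : Ideal A) :
    I.IsHomogeneous 𝒜 ↔
      ∃ ℬ : ι → AddSubgroup (A ⧸ I), Nonempty (GradedRing ℬ) ∧
        ∀ i : ι, (𝒜 i).map (Ideal.Quotient.mk I : A →+ A ⧸ I) ≤ ℬ i := by
  classical
  set q : A →+ A ⧸ I := (Ideal.Quotient.mk I : A →+ A ⧸ I) with hq
  constructor
  · intro hI
    refine ⟨fun i => (𝒜 i).map q, ?_, fun i => le_rfl⟩
    let ℬ : ι → AddSubgroup (A ⧸ I) := fun i => (𝒜 i).map q
    haveI : SetLike.GradedMonoid ℬ :=
      { one_mem := ⟨1, SetLike.one_mem_graded 𝒜, map_one (Ideal.Quotient.mk I)⟩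
        mul_mem := by
          rintro i j _ _ ⟨a, ha, rfl⟩ ⟨b, hb, rfl⟩
          exact ⟨a * b, SetLike.mul_mem_graded ha hb, map_mul (Ideal.Quotient.mk I) a b⟩ }
    let down : ∀ i, 𝒜 i →+ ℬ i := fun i =>
      (q.comp (𝒜 i).subtype).codRestrict (ℬ i) fun a => ⟨a, a.2, rfl⟩
    let φ : A →+ DirectSum ι (fun i => ℬ i) :=
      (DirectSum.map down).comp (DirectSum.decomposeAddEquiv 𝒜).toAddMonoidHom
    have hker : ∀ a ∈ I, φ a = 0 := fun a ha => by
      ext i
      have : ((DirectSum.decompose 𝒜 a i : 𝒜 i) : A) ∈ I := hI i ha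
      simpa [φ, down, hq] using Ideal.Quotient.eq_zero_iff_mem.mpr this
    let ψ : A ⧸ I →+ DirectSum ι (fun i => ℬ i) := QuotientAddGroup.lift I.toAddSubgroup φ (fun a ha => hker a ha)
    haveI : DirectSum.Decomposition ℬ := DirectSum.Decomposition.ofAddHom ℬ ψ
      (by
        apply AddMonoidHom.ext
        intro x
        obtain ⟨a, rfl⟩ := Ideal.Quotient.mk_surjective x
        have key' : ∀ d : DirectSum ι (fun j => 𝒜 j),
            DirectSum.coeAddMonoidHom ℬ (DirectSum.map down d) = q (DirectSum.coeAddMonoidHom 𝒜 d) := by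
          intro d
          induction d using DirectSum.induction_on with
          | zero => simp
          | of i x => simp [down]
          | add x y hx hy => simp only [map_add, hx, hy]
        exact (key' _).trans (congrArg q (DirectSum.Decomposition.left_inv (ℳ := 𝒜) a)))
      (by
        apply DirectSum.addHom_ext
        rintro i ⟨x, a, ha, rfl⟩
        simp only [AddMonoidHom.comp_apply, DirectSum.coeAddMonoidHom_of, AddMonoidHom.id_apply]
        show φ a = _
        simp only [φ, AddMonoidHom.comp_apply, AddEquiv.coe_toAddMonoidHom, DirectSum.decomposeAddEquiv_apply,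
          DirectSum.decompose_of_mem 𝒜 ha, DirectSum.map_of]
        rfl)
    exact ⟨{}⟩
  · rintro ⟨ℬ, ⟨hG⟩, hle⟩ i x hx
    let _ := hG
    have hmem : ∀ j (a : 𝒜 j), q a ∈ ℬ j := fun j a => hle j ⟨a, a.2, rfl⟩
    let up : ∀ j, 𝒜 j →+ ℬ j := fun j => (q.comp (𝒜 j).subtype).codRestrict (ℬ j) (hmem j)
    have key : ∀ d : DirectSum ι (fun j => 𝒜 j),
        DirectSum.coeAddMonoidHom ℬ (DirectSum.map up d) = q (DirectSum.coeAddMonoidHom 𝒜 d) := by
      intro d
      induction d using DirectSum.induction_on with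
      | zero => simp
      | of i x => simp [up]
      | add x y hx hy => simp only [map_add, hx, hy]
    have h2 : DirectSum.map up (DirectSum.decompose 𝒜 x) = 0 := by
      apply (DirectSum.decompose ℬ).symm.injective
      rw [DirectSum.decompose_symm_zero]
      show DirectSum.coeAddMonoidHom ℬ _ = 0
      rw [key, show DirectSum.coeAddMonoidHom 𝒜 (DirectSum.decompose 𝒜 x) = x from DirectSum.Decomposition.left_inv x]
      exact Ideal.Quotient.eq_zero_iff_mem.mpr hx
    have h3 := congrArg (fun d : DirectSum ι (fun j => ℬ j) => ((d i : ℬ i) : A ⧸ I)) h2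
    simp only [DirectSum.map_apply, DirectSum.zero_apply, ZeroMemClass.coe_zero] at h3
    exact Ideal.Quotient.eq_zero_iff_mem.mp h3

end Groth.Agent.S13125
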