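import Groth.Statements.S13126
import Mathlib.Algebra.Polynomial.BigOperators
import Mathlib.Algebra.Polynomial.RingDivision
import Mathlib.RingTheory.Coprime.Lemmas

set_option autoImplicit false
universe u
open KumFam

namespace Groth.Agent.S13126

open Polynomial in
/-- Let R be a commutative ring, n a natural number which is a unit in R, and ζ ∈ R with ζ^n = 1 and 1 −
ζ^i a unit for 0 < i < n (a primitive n-th root of unity in the fibrewise sense: the powers ζ^0, …,
ζ^(n−1) are roots of X^n − 1 with pairwise unit differences; over an integral domain in which n is a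
unit this is the same as ζ having multiplicative order n). Then the R-algebra homomorphism R[X] →
(Fin n → R) sending a polynomial to its values at ζ^0, …, ζ^(n−1) is surjective and its kernel is
the ideal generated by X^n − 1; hence R[X]/(X^n − 1) ≅ R^n as R-algebras, i.e. the scheme of n-th
roots of unity over Spec R is the disjoint union of n copies of Spec R. (The published statement
asks that R contain a primitive n-th root of unity without defining the term; its Chinese-remainder
argument uses that the ideals (X − ζ^i), i < n, are pairwise comaximal, which is the unit-difference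
condition taken as the hypothesis here, whereas under the reading 'ζ has multiplicative order n'
alone the surjectivity fails over a product of two fields. The published statement also asserts that
the isomorphism respects the group-scheme structures of the n-th roots of unity and of the constant
group ℤ/n; this row does not state that.) -/
theorem result (R : Type u) [CommRing R]
    (n : ℕ) (hn : IsUnit (n : R)) (ζ : R) (hζ : ζ ^ n = 1)
    (hprim : ∀ i : ℕ, 0 < i → i < n → IsUnit (1 - ζ ^ i)) :
    Function.Surjective (AlgHom.pi (fun i : Fin n => Polynomial.aeval (R := R) (ζ ^ (i : ℕ)))) ∧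
      RingHom.ker (AlgHom.pi (fun i : Fin n => Polynomial.aeval (R := R) (ζ ^ (i : ℕ)))) =
        Ideal.span {(X ^ n - 1 : R[X])} := by
  rcases subsingleton_or_nontrivial R with hR | hR
  · exact ⟨fun y => ⟨0, Subsingleton.elim _ _⟩, Subsingleton.elim _ _⟩
  have hn0 : 0 < n := Nat.pos_of_ne_zero fun h => by simp [h] at hn
  have hzu : IsUnit ζ := IsUnit.of_pow_eq_one hζ hn0.ne'
  have hdiff : ∀ i j : Fin n, i ≠ j → IsUnit (ζ ^ (i : ℕ) - ζ ^ (j : ℕ)) := by
    intro i j hij
    rcases lt_or_gt_of_ne (Fin.val_ne_of_ne hij) with h | h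
    · rw [show ζ ^ (i : ℕ) - ζ ^ (j : ℕ) = ζ ^ (i : ℕ) * (1 - ζ ^ ((j : ℕ) - i)) by
        rw [mul_sub, ← pow_add, Nat.add_sub_cancel' h.le, mul_one]]
      exact (hzu.pow _).mul (hprim _ (by omega) (by omega))
    · rw [show ζ ^ (i : ℕ) - ζ ^ (j : ℕ) = -(ζ ^ (j : ℕ) * (1 - ζ ^ ((i : ℕ) - j))) by
        rw [mul_sub, ← pow_add, Nat.add_sub_cancel' h.le, mul_one]; ring]
      exact ((hzu.pow _).mul (hprim _ (by omega) (by omega))).neg
  have hco : Pairwise (Function.onFun IsCoprime fun i : Fin n => (X - C (ζ ^ (i : ℕ)) : R[X])) :=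
    fun i j hij => isCoprime_X_sub_C_of_isUnit_sub (hdiff i j hij)
  set P : R[X] := ∏ i : Fin n, (X - C (ζ ^ (i : ℕ))) with hP
  have hPm : P.Monic := monic_prod_of_monic _ _ fun i _ => monic_X_sub_C _
  have hPeq : P = X ^ n - 1 := by
    have hdvd : P ∣ X ^ n - 1 := Fintype.prod_dvd_of_coprime hco fun i => by
      rw [dvd_iff_isRoot]
      simp [IsRoot.def]
      rw [← pow_mul, mul_comm, pow_mul, hζ, one_pow, sub_self]
    refine (eq_of_monic_of_dvd_of_natDegree_le hPm (monic_X_pow_sub_C (1 : R) hn0.ne' |> (by simpa using ·)) hdvd ?_).symm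
    rw [hP, natDegree_prod_of_monic _ _ fun i _ => monic_X_sub_C _]
    simpa [natDegree_X_sub_C, ← C_pow, -map_pow] using (natDegree_X_pow_sub_C (n := n) (r := (1 : R))).le
  refine ⟨fun y => ?_, ?_⟩
  · choose u hu using fun i : Fin n => (show IsUnit (∏ j ∈ Finset.univ.erase i, (ζ ^ (i : ℕ) - ζ ^ (j : ℕ))) from
      IsUnit.prod_iff.mpr fun j hj => hdiff i j (Ne.symm (Finset.ne_of_mem_erase hj))).exists_left_inv
    refine ⟨∑ i : Fin n, C (y i * u i) * ∏ j ∈ Finset.univ.erase i, (X - C (ζ ^ (j : ℕ))), ?_⟩
    funext k
    simp only [AlgHom.pi_apply, map_sum, map_mul, map_prod, map_sub, aeval_X, aeval_C, Algebra.algebraMap_self,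
      RingHom.id_apply]
    rw [Finset.sum_eq_single k]
    · rw [mul_assoc, hu k, mul_one]
    · intro i _ hik
      rw [Finset.prod_eq_zero (Finset.mem_erase.mpr ⟨Ne.symm hik, Finset.mem_univ k⟩) (sub_self _), mul_zero]
    · simp
  · ext f
    rw [RingHom.mem_ker, Ideal.mem_span_singleton, ← hPeq]
    constructor
    · intro h
      refine Fintype.prod_dvd_of_coprime hco fun i => ?_
      rw [dvd_iff_isRoot, IsRoot.def, ← coe_aeval_eq_eval]
      exact congrFun h i
    · rintro ⟨g, rfl⟩
      funext i
      simp only [AlgHom.pi_apply, map_mul, map_prod, hP, Pi.zero_apply]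
      rw [Finset.prod_eq_zero (Finset.mem_univ i) (by simp), zero_mul]

end Groth.Agent.S13126
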