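import Groth.Statements.S13127
import Groth.Agent.KumFamH.Diag

set_option autoImplicit false
universe u
open KumFam

namespace Groth.Agent.S13127

open MvPowerSeries in
/-- Let R be a commutative ring of characteristic 2 and l0, l2, l4, s0, s2, s4, τ, lam, sig ∈ R with l4,
s4, lam, sig units, and let κ₁, κ₂ ∈ R satisfy s4² κ₁³ = sig² and l4² κ₂³ = lam² (cube roots of
sig²/s4² and lam²/l4²). In the power series ring R[[a, b, c]] (a = X 0, b = X 1, c = X 2) put F = c²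
+ s0² a³ b⁴ + s2² a³ b² + s4² a³ + l0² a⁴ b³ + l2² a² b³ + l4² b³ + τ² a³ b³ and F₀ = c² + sig² a³ +
lam² b³. Then some R-algebra automorphism of R[[a, b, c]] maps F to F₀; consequently R[[a, b,
c]]/(F) ≅ R[[a, b, c]]/(F₀). (In the published statement lam, sig are the representatives in the
ground field of the residues of l4, s4 at a rational point, so that F₀ is the equation of the
special fibre made constant; this row takes them to be arbitrary units.) -/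
theorem result (R : Type u) [CommRing R] [CharP R 2]
    (l0 l2 l4 s0 s2 s4 τ lam sig κ₁ κ₂ : R) (hl4 : IsUnit l4) (hs4 : IsUnit s4) (hlam : IsUnit lam)
    (hsig : IsUnit sig) (h₁ : s4 ^ 2 * κ₁ ^ 3 = sig ^ 2) (h₂ : l4 ^ 2 * κ₂ ^ 3 = lam ^ 2) :
    ∃ φ : MvPowerSeries (Fin 3) R ≃ₐ[R] MvPowerSeries (Fin 3) R,
      φ ((X 2 ^ 2 + C (s0 ^ 2) * X 0 ^ 3 * X 1 ^ 4 + C (s2 ^ 2) * X 0 ^ 3 * X 1 ^ 2 +
          C (s4 ^ 2) * X 0 ^ 3 + C (l0 ^ 2) * X 0 ^ 4 * X 1 ^ 3 + C (l2 ^ 2) * X 0 ^ 2 * X 1 ^ 3 +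
          C (l4 ^ 2) * X 1 ^ 3 + C (τ ^ 2) * X 0 ^ 3 * X 1 ^ 3 : MvPowerSeries (Fin 3) R)) =
        (X 2 ^ 2 + C (sig ^ 2) * X 0 ^ 3 + C (lam ^ 2) * X 1 ^ 3 : MvPowerSeries (Fin 3) R) := by
  classical
  have hk : ∀ {s l κ : R}, IsUnit s → IsUnit l → l ^ 2 * κ ^ 3 = s ^ 2 → ∃ c, IsUnit c ∧ κ * c = 1 := by
    intro s l κ hs hl h
    have : IsUnit κ := by
      have h' : IsUnit (l ^ 2 * κ ^ 3) := h ▸ hs.pow 2
      exact (isUnit_pow_iff (by norm_num)).mp (isUnit_of_mul_isUnit_right h')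
    exact ⟨↑this.unit⁻¹, Units.isUnit _, by simp⟩
  obtain ⟨c1, hc1u, hc1⟩ := hk hsig hs4 h₁
  obtain ⟨c2, hc2u, hc2⟩ := hk hlam hl4 h₂
  obtain ⟨i1, hi1⟩ : ∃ i, s4 * i = 1 := ⟨↑hs4.unit⁻¹, by simp⟩
  obtain ⟨i2, hi2⟩ : ∃ i, l4 * i = 1 := ⟨↑hl4.unit⁻¹, by simp⟩
  obtain ⟨A, hA0, hA⟩ := Groth.Agent.KumFamH.exists_cube_root (R := R) (τ := Fin 3)
    (u := 1 + C (i1 ^ 2) * (C (s2 ^ 2) * X 1 ^ 2 + C (τ ^ 2) * X 1 ^ 3 + C (s0 ^ 2) * X 1 ^ 4)) (by simp)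
  obtain ⟨B, hB0, hB⟩ := Groth.Agent.KumFamH.exists_cube_root (R := R) (τ := Fin 3)
    (u := 1 + C (i2 ^ 2) * (C (l2 ^ 2) * X 0 ^ 2 + C (l0 ^ 2) * X 0 ^ 4)) (by simp)
  let v : Fin 3 → MvPowerSeries (Fin 3) R := ![C c1 * A, C c2 * B, 1]
  have hv : ∀ i, IsUnit (constantCoeff (v i)) := by
    intro i
    fin_cases i <;> simp [v, hA0, hB0, hc1u, hc2u]
  refine ⟨(Groth.Agent.KumFamH.diagEquiv hv).symm, ?_⟩
  rw [AlgEquiv.symm_apply_eq]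
  simp only [map_add, map_mul, map_pow, Groth.Agent.KumFamH.diagEquiv_X, Groth.Agent.KumFamH.diagEquiv_C,
    v, Matrix.cons_val_zero, Matrix.cons_val_one, Matrix.cons_val, mul_one, mul_pow]
  have e1 : C (sig ^ 2) * C c1 ^ 3 = (C (s4 ^ 2) : MvPowerSeries (Fin 3) R) := by
    rw [← map_pow C c1, ← map_mul, ← h₁, mul_assoc, ← mul_pow, hc1, one_pow, mul_one]
  have e2 : C (lam ^ 2) * C c2 ^ 3 = (C (l4 ^ 2) : MvPowerSeries (Fin 3) R) := by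
    rw [← map_pow C c2, ← map_mul, ← h₂, mul_assoc, ← mul_pow, hc2, one_pow, mul_one]
  have f1 : (C s4 : MvPowerSeries (Fin 3) R) ^ 2 * C i1 ^ 2 = 1 := by
    rw [← mul_pow, ← map_mul, hi1, map_one, one_pow]
  have f2 : (C l4 : MvPowerSeries (Fin 3) R) ^ 2 * C i2 ^ 2 = 1 := by
    rw [← mul_pow, ← map_mul, hi2, map_one, one_pow]
  simp only [map_pow] at e1 e2 hA hB
  linear_combination (-(X 0 ^ 3 * A ^ 3)) * e1 + (-(X 1 ^ 3 * B ^ 3)) * e2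
    + (-(X 0 ^ 3 * C s4 ^ 2)) * hA + (-(X 1 ^ 3 * C l4 ^ 2)) * hB
    + (-(X 0 ^ 3 * (C s2 ^ 2 * X 1 ^ 2 + C τ ^ 2 * X 1 ^ 3 + C s0 ^ 2 * X 1 ^ 4))) * f1
    + (-(X 1 ^ 3 * (C l2 ^ 2 * X 0 ^ 2 + C l0 ^ 2 * X 0 ^ 4))) * f2

end Groth.Agent.S13127
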