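import Groth.Statements.S13128
import Groth.Agent.KumFamH.Diag

set_option autoImplicit false
universe u
open KumFam

namespace Groth.Agent.S13128

open MvPowerSeries in
/-- Let R be a commutative ring of characteristic 2, l0, l2, l4, s0, s2, s4, τ ∈ R with τ a unit, and α,
β ∈ R with l4² α⁴ + l2² α² + τ² α + l0² = 0 and s4² β⁴ + s2² β² + τ² β + s0² = 0. In characteristic
2 these relations give τ² α = (l4 α² + l2 α + l0)² and τ² β = (s4 β² + s2 β + s0)², so α = α′² and β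
= β′² with α′ = (l4 α² + l2 α + l0)/τ and β′ = (s4 β² + s2 β + s0)/τ. In R[[a, b, c]] (a = X 0, b =
X 1, c = X 2) put h = c² + τ² a b + (s4² b⁴ + s2² b²) a + (l4² a⁴ + l2² a²) b + l4² β a⁴ + l2² β a²
+ s4² α b⁴ + s2² α b²; this is the chart equation c² + τ² a b + (s4² b⁴ + s2² b² + s0²) a + (l4² a⁴
+ l2² a² + l0²) b after the substitution a ↦ a + α, b ↦ b + β, c ↦ c + τ α′ β′, which moves the
point (α, β, τ α′ β′) of that surface, where all partial derivatives vanish, to the origin. Then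
some R-algebra automorphism of R[[a, b, c]] maps h to c² + a b; consequently R[[a, b, c]]/(h) ≅
R[[a, b, c]]/(c² + a b), the completed local ring of an ordinary double point, constant over R. (The
published statement translates only a and b, so that its h carries the additional constant term τ² α
β; with that term h is a unit of R[[a, b, c]] whenever τ α β is a unit, for instance c² + a b + 1
over the field with two elements with l0 = s0 = τ = α = β = 1 and l2 = l4 = s2 = s4 = 0, and no ring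
automorphism carries a unit to c² + a b. The published proof begins by shifting c by a polynomial in
a, b whose constant term is τ α′ β′, a substitution of the polynomial ring which removes the term τ²
α β, and the rest of its argument takes place in R[[a, b, c]]; this row states the result for the
fully translated equation, which is what that argument proves.) -/
theorem result (R : Type u) [CommRing R] [CharP R 2]
    (l0 l2 l4 s0 s2 s4 τ α β : R) (hτ : IsUnit τ)
    (hα : l4 ^ 2 * α ^ 4 + l2 ^ 2 * α ^ 2 + τ ^ 2 * α + l0 ^ 2 = 0)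
    (hβ : s4 ^ 2 * β ^ 4 + s2 ^ 2 * β ^ 2 + τ ^ 2 * β + s0 ^ 2 = 0) :
    ∃ φ : MvPowerSeries (Fin 3) R ≃ₐ[R] MvPowerSeries (Fin 3) R,
      φ ((X 2 ^ 2 + C (τ ^ 2) * X 0 * X 1 + (C (s4 ^ 2) * X 1 ^ 4 + C (s2 ^ 2) * X 1 ^ 2) * X 0 +
          (C (l4 ^ 2) * X 0 ^ 4 + C (l2 ^ 2) * X 0 ^ 2) * X 1 + C (l4 ^ 2 * β) * X 0 ^ 4 +
          C (l2 ^ 2 * β) * X 0 ^ 2 + C (s4 ^ 2 * α) * X 1 ^ 4 + C (s2 ^ 2 * α) * X 1 ^ 2 :
          MvPowerSeries (Fin 3) R)) =
        (X 2 ^ 2 + X 0 * X 1 : MvPowerSeries (Fin 3) R) := by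
  classical
  obtain ⟨ti, hti⟩ : ∃ ti, τ * ti = 1 := ⟨↑hτ.unit⁻¹, by simp⟩
  have h2 : (2 : R) = 0 := CharTwo.two_eq_zero
  have h2' : (2 : MvPowerSeries (Fin 3) R) = 0 := by
    rw [← map_ofNat (MvPowerSeries.C (σ := Fin 3) (R := R)) 2, h2, map_zero]
  set w : R := ti * (l4 * α ^ 2 + l2 * α + l0) with hw
  set w' : R := ti * (s4 * β ^ 2 + s2 * β + s0) with hw'
  have hα' : α = w ^ 2 := by
    rw [hw]
    linear_combination (ti ^ 2) * hα + (-α * (τ * ti + 1)) * hti
      - (ti ^ 2) * (l4 ^ 2 * α ^ 4 + l2 ^ 2 * α ^ 2 + l0 ^ 2 + l4 * l2 * α ^ 3 + l4 * l0 * α ^ 2 + l2 * l0 * α) * h2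
  have hβ' : β = w' ^ 2 := by
    rw [hw']
    linear_combination (ti ^ 2) * hβ + (-β * (τ * ti + 1)) * hti
      - (ti ^ 2) * (s4 ^ 2 * β ^ 4 + s2 ^ 2 * β ^ 2 + s0 ^ 2 + s4 * s2 * β ^ 3 + s4 * s0 * β ^ 2 + s2 * s0 * β) * h2
  let U : MvPowerSeries (Fin 3) R := C (τ ^ 2) + C (s4 ^ 2) * X 1 ^ 3 + C (s2 ^ 2) * X 1 +
    C (l4 ^ 2) * X 0 ^ 3 + C (l2 ^ 2) * X 0
  let v : Fin 3 → MvPowerSeries (Fin 3) R := ![U, 1, 1]
  have hv : ∀ i, IsUnit (constantCoeff (v i)) := by
    intro i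
    fin_cases i <;> simp [v, U, hτ]
  let g : MvPowerSeries (Fin 3) R := C w' * (C l4 * X 0 ^ 2 + C l2 * X 0) + C w * (C s4 * X 1 ^ 2 + C s2 * X 1)
  have hg : constantCoeff g = 0 := by simp [g]
  have hfix : ∀ g' : MvPowerSeries (Fin 3) R, constantCoeff g' = 0 →
      subst (Groth.Agent.KumFamH.shear (2 : Fin 3) g') g = g := by
    intro g' hg'
    have hC : ∀ r : R, substAlgHom (Groth.Agent.KumFamH.hasSubst_shear (2 : Fin 3) hg') (C r) = C r := fun r => by
      simpa [MvPowerSeries.algebraMap_apply] using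
        (substAlgHom (R := R) (Groth.Agent.KumFamH.hasSubst_shear (2 : Fin 3) hg')).commutes r
    rw [← coe_substAlgHom (Groth.Agent.KumFamH.hasSubst_shear (2 : Fin 3) hg')]
    simp only [g, map_add, map_mul, map_pow, hC, substAlgHom_X]
    simp [Groth.Agent.KumFamH.shear]
  let e1 := Groth.Agent.KumFamH.diagEquiv hv
  let e2 := Groth.Agent.KumFamH.shearEquiv (2 : Fin 3) hg (hfix g hg) (hfix (-g) (by simp [hg]))
  refine ⟨(e1.trans e2).symm, ?_⟩
  rw [AlgEquiv.symm_apply_eq]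
  simp only [AlgEquiv.trans_apply, e1, e2, map_add, map_mul, map_pow, Groth.Agent.KumFamH.diagEquiv_X, v, U,
    Matrix.cons_val_zero, Matrix.cons_val_one, Matrix.cons_val, map_one, mul_one,
    Groth.Agent.KumFamH.shearEquiv_X, Groth.Agent.KumFamH.shearEquiv_C, Fin.reduceEq, if_false, if_true, g]
  rw [hα', hβ']
  simp only [map_pow]
  linear_combination (-(X 2 * (C w' * (C l4 * X 0 ^ 2 + C l2 * X 0) + C w * (C s4 * X 1 ^ 2 + C s2 * X 1)) +
    C w' * (C l4 * X 0 ^ 2 + C l2 * X 0) * (C w * (C s4 * X 1 ^ 2 + C s2 * X 1)) +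
    C w' ^ 2 * C l4 * C l2 * X 0 ^ 3 + C w ^ 2 * C s4 * C s2 * X 1 ^ 3)) * h2'

end Groth.Agent.S13128
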