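import Groth.Statements.S13130
import Mathlib.Algebra.MonoidAlgebra.Basic
import Mathlib.RingTheory.IntegralClosure.IsIntegral.Basic
import Mathlib.RingTheory.IntegralClosure.Algebra.Basic

set_option autoImplicit false
universe u v
open KumFam

namespace Groth.Agent.S13130

/-- Let R be a nontrivial commutative ring and M a commutative group, with group algebra R[M], the
coordinate ring of the diagonalizable group scheme D(M) over Spec R. Then D(M) is integral over Spec
R, i.e. R[M] is an integral R-algebra, if and only if M is a torsion group. (The published statement
is over an arbitrary base scheme; the question is local and this row is the affine form, with R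
nontrivial so that the elements of M are R-linearly independent.) -/
theorem result (R : Type u) [CommRing R] [Nontrivial R]
    (M : Type v) [CommGroup M] :
    Algebra.IsIntegral R (MonoidAlgebra R M) ↔ IsMulTorsion M := by
  classical
  constructor
  · intro h m
    obtain ⟨p, hpm, hp⟩ := h.isIntegral (MonoidAlgebra.single m (1 : R))
    have h0 : Polynomial.aeval (MonoidAlgebra.single m (1 : R)) p = 0 := hp
    rw [Polynomial.aeval_eq_sum_range] at h0
    simp only [MonoidAlgebra.single_pow, one_pow, MonoidAlgebra.smul_single, smul_eq_mul, mul_one] at h0
    have := congrArg (fun x : MonoidAlgebra R M => x.coeff (m ^ p.natDegree)) h0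
    simp only [MonoidAlgebra.coeff_sum, MonoidAlgebra.coeff_single, Finsupp.coe_finset_sum,
      Finset.sum_apply, Finsupp.single_apply, MonoidAlgebra.coeff_zero, Finsupp.coe_zero, Pi.zero_apply] at this
    by_contra hnt
    rw [Finset.sum_eq_single p.natDegree] at this
    · rw [if_pos rfl, hpm.coeff_natDegree] at this
      exact one_ne_zero this
    · intro i hi hne
      rw [if_neg]
      intro e
      apply hnt
      have hlt : i < p.natDegree := by simp at hi; omega
      rw [isOfFinOrder_iff_pow_eq_one]
      refine ⟨p.natDegree - i, by omega, ?_⟩
      rw [pow_sub m hlt.le, e, mul_inv_cancel]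
    · simp
  · intro h
    refine ⟨fun x => ?_⟩
    induction x using MonoidAlgebra.induction_on with
    | of g =>
      obtain ⟨n, hn, hg⟩ := isOfFinOrder_iff_pow_eq_one.mp (h g)
      refine IsIntegral.of_pow hn ?_
      rw [← map_pow, hg, map_one]
      exact isIntegral_one
    | add f g hf hg => exact IsIntegral.add hf hg
    | smul r f hf => exact IsIntegral.smul r hf

end Groth.Agent.S13130
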