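import Groth.Statements.S13131
import Groth.Agent.KumFamH.Sigma

set_option autoImplicit false
universe u
open CategoryTheory CategoryTheory.Limits AlgebraicGeometry
open KumFam

namespace Groth.Agent.S13131
private def cl {T : Scheme.{u}} {M : Type u} (c : LocallyConstant T M) (m : M) : T.Opens :=
  ⟨c ⁻¹' {m}, c.isLocallyConstant.isOpen_fiber m⟩

private lemma cl_cover {T : Scheme.{u}} {M : Type u} (c : LocallyConstant T M) :
    TopologicalSpace.IsOpenCover (cl c) :=
  eq_top_iff.mpr fun t _ => TopologicalSpace.Opens.mem_iSup.mpr ⟨c t, rfl⟩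

private noncomputable def backMor {S T : Scheme.{u}} {M : Type u} (p : T ⟶ S) (c : LocallyConstant T M) :
    T ⟶ ∐ (fun _ : M => S) :=
  (T.openCoverOfIsOpenCover (cl c)
    (cl_cover c)).glueMorphisms
    (fun m => (cl c (m)).ι ≫ p ≫ Sigma.ι (fun _ : M => S) m)
    (fun m m' => by
      rcases eq_or_ne m m' with rfl | hne
      · rw [← Category.assoc, ← Category.assoc (pullback.snd _ _)]
        congr 1
        exact pullback.condition
      · haveI : IsEmpty ↑(pullback (cl c (m)).ι
            (cl c (m')).ι) :=
          ⟨fun z => hne (by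
            have h1 := ((pullback.fst (cl c (m)).ι
              (cl c (m')).ι).base z).2
            have h2 := ((pullback.snd (cl c (m)).ι
              (cl c (m')).ι).base z).2
            simp only [cl, Set.mem_preimage, Set.mem_singleton_iff] at h1 h2
            have h3 : ((pullback.fst _ _ ≫ (cl c (m)).ι).base z) =
              ((pullback.snd _ _ ≫ (cl c (m')).ι).base z) := by
              rw [pullback.condition]
            simp only [Scheme.Hom.comp_apply] at h3
            exact h1.symm.trans ((congrArg c h3).trans h2))⟩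
        haveI : IsEmpty ↑(pullback ((T.openCoverOfIsOpenCover (cl c) (cl_cover c)).f m)
            ((T.openCoverOfIsOpenCover (cl c) (cl_cover c)).f m')) := this
        exact (isInitialOfIsEmpty).hom_ext _ _)

private lemma ι_backMor {S T : Scheme.{u}} {M : Type u} (p : T ⟶ S) (c : LocallyConstant T M) (m : M) :
    (cl c (m)).ι ≫ backMor p c =
      (cl c (m)).ι ≫ p ≫ Sigma.ι (fun _ : M => S) m :=
  Scheme.Cover.ι_glueMorphisms (T.openCoverOfIsOpenCover (cl c) (cl_cover c)) _ _ m



/-- Let S be a scheme, M a set and p : T → S a scheme over S. The S-morphisms T → ∐_{m ∈ M} S (the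
constant S-scheme on M, with its structure map the codiagonal) are in bijection with the locally
constant maps T → M, a morphism f corresponding to the function sending t to the index of the copy
of S containing f(t). (In the published statement M is a group and ∐_M S the constant group scheme;
the group structures play no role in this description of T-points.) -/
theorem result (S : Scheme.{u}) (M : Type u)
    (T : Scheme.{u}) (p : T ⟶ S) :
    ∃ e : {f : T ⟶ ∐ (fun _ : M => S) // f ≫ Sigma.desc (fun _ : M => 𝟙 S) = p} ≃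
        LocallyConstant T M,
      ∀ (f : {f : T ⟶ ∐ (fun _ : M => S) // f ≫ Sigma.desc (fun _ : M => 𝟙 S) = p}) (t : T),
        e f t = ((sigmaMk (fun _ : M => S)).symm (f.1.base t)).1 := by
  let cov : LocallyConstant T M → T.OpenCover := fun c =>
    T.openCoverOfIsOpenCover (cl c)
      (cl_cover c)
  have hb : ∀ c, backMor p c ≫ Sigma.desc (fun _ : M => 𝟙 S) = p := fun c => by
    refine Scheme.Cover.hom_ext (cov c) _ _ fun m => ?_
    show _ ≫ _ ≫ _ = _
    refine ((Category.assoc _ _ _).symm.trans (congrArg (· ≫ _) (ι_backMor p c m))).trans ?_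
    rw [Category.assoc, Category.assoc, Sigma.ι_desc, Category.comp_id]
    rfl
  refine ⟨⟨fun f => ⟨KumFamH.sigmaIdx ∘ f.1.base, KumFamH.sigmaIdx_isLocallyConstant.comp_continuous f.1.continuous⟩,
    fun c => ⟨backMor p c, hb c⟩, fun f => ?_, fun c => ?_⟩, fun f t => rfl⟩
  · apply Subtype.ext
    let c0 : LocallyConstant T M := ⟨KumFamH.sigmaIdx ∘ f.1.base,
      KumFamH.sigmaIdx_isLocallyConstant.comp_continuous f.1.continuous⟩
    refine Scheme.Cover.hom_ext (cov c0) _ _ fun m => ?_
    show (cl c0 m).ι ≫ backMor p c0 = (cl c0 m).ι ≫ f.1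
    refine (ι_backMor p c0 m).trans ?_
    conv_rhs => rw [KumFamH.comp_eq_of_idx ((cl c0 m).ι ≫ f.1) m (fun t => t.2)]
    refine (congrArg (fun q => (cl c0 m).ι ≫ q ≫ Sigma.ι (fun _ : M => S) m) f.2.symm).trans ?_
    simp only [Category.assoc]
  · ext t
    show KumFamH.sigmaIdx (((cl c (c t)).ι ≫ backMor p c).base ⟨t, rfl⟩) = _
    rw [ι_backMor p c, Scheme.Hom.comp_apply, Scheme.Hom.comp_apply, KumFamH.sigmaIdx_ι]

end Groth.Agent.S13131
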