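import Groth.Statements.S13132
import Groth.Agent.CAlgH.ArtFlatSeq

set_option autoImplicit false
universe u v
open CAlg

open scoped Pointwise

namespace Groth.Agent.S13132

/-- Let A' be an Artinian local ring, I a proper ideal of A' and S' a flat A'-algebra. An element f' of
S' is a non-zero-divisor exactly when its image in S'/IS' is one; and when f' is a non-zero-divisor,
the quotient S'/(f') is flat over A'. (The published statement is for local Artinian algebras with a
fixed residue field over a ring of Witt vectors and a surjection between two of them; the argument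
uses only that A' is Artinian local and I is a proper ideal, which is the form taken here.) -/
theorem result
    {A' : Type u} [CommRing A'] [IsArtinianRing A'] [IsLocalRing A'] (I : Ideal A') (hI : I ≠ ⊤)
    {S' : Type v} [CommRing S'] [Algebra A' S'] [Module.Flat A' S'] (f' : S') :
    (f' ∈ nonZeroDivisors S' ↔
      Ideal.Quotient.mk (I.map (algebraMap A' S')) f' ∈ nonZeroDivisors (S' ⧸ I.map (algebraMap A' S'))) ∧
    (f' ∈ nonZeroDivisors S' → Module.Flat A' (S' ⧸ Ideal.span {f'})) := by
  have key : Function.Injective ((LinearMap.lsmul S' S' f').restrictScalars A') ↔ f' ∈ nonZeroDivisors S' := by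
    rw [mem_nonZeroDivisors_iff_left, injective_iff_map_eq_zero]
    simp
  have hmod : CAlgH.ArtFlat.InjMod I ((LinearMap.lsmul S' S' f').restrictScalars A') ↔
      Ideal.Quotient.mk (I.map (algebraMap A' S')) f' ∈ nonZeroDivisors (S' ⧸ I.map (algebraMap A' S')) := by
    have hmem : ∀ x : S', x ∈ (I • ⊤ : Submodule A' S') ↔ x ∈ I.map (algebraMap A' S') := fun x => by
      rw [← CAlgH.ArtFlat.mem_map_smul_top_iff (S := S'), smul_eq_mul, Ideal.mul_top]
    rw [mem_nonZeroDivisors_iff_left]
    constructor
    · intro h y hy
      obtain ⟨x, rfl⟩ := Ideal.Quotient.mk_surjective y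
      rw [← map_mul, Ideal.Quotient.eq_zero_iff_mem, ← hmem] at hy
      rw [Ideal.Quotient.eq_zero_iff_mem, ← hmem]
      exact h x hy
    · intro h x hx
      rw [hmem, ← Ideal.Quotient.eq_zero_iff_mem] at hx ⊢
      exact h _ (by rw [← map_mul]; exact hx)
  refine ⟨⟨fun h => hmod.1 ?_, fun h => key.1 ?_⟩, fun h => ?_⟩
  · exact CAlgH.ArtFlat.injMod_all (CAlgH.ArtFlat.injMod_maximal_of_injective (key.2 h)) I
  · exact CAlgH.ArtFlat.injective_of_injMod (CAlgH.ArtFlat.injMod_maximal hI (hmod.2 h))
  · haveI := CAlgH.ArtFlat.flat_quotSMulTop (A := A') f'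
      (CAlgH.ArtFlat.injMod_maximal_of_injective (key.2 h))
    exact Module.Flat.of_linearEquiv ((Submodule.quotEquivOfEq (f' • (⊤ : Submodule S' S'))
      (Ideal.span {f'}) (by rw [← Submodule.ideal_span_singleton_smul, smul_eq_mul, Ideal.mul_top])).symm.restrictScalars A')

end Groth.Agent.S13132
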