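import Groth.Statements.S13134
import Groth.Agent.CAlgH.ArtFlatSeq

set_option autoImplicit false
universe u v
open CAlg

namespace Groth.Agent.S13134

theorem nak {A : Type*} [CommRing A] (I : Ideal A) (N : ℕ) (hI : I ^ N = ⊥) {X : Type*}
    [AddCommGroup X] [Module A X] (P Q : Submodule A X) (h : Q ≤ P ⊔ I • Q) : Q ≤ P := by
  have : ∀ k, Q ≤ P ⊔ I ^ k • Q := by
    intro k
    induction k with
    | zero => simp
    | succ k ih =>
      refine ih.trans (sup_le le_sup_left ?_)
      refine (Submodule.smul_mono le_rfl h).trans ?_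
      rw [Submodule.smul_sup, ← Submodule.mul_smul, ← pow_succ]
      exact sup_le_sup_right Submodule.smul_le_right _
  have h2 := this N
  rwa [hI, Submodule.bot_smul, sup_bot_eq] at h2

/-- Let A' be an Artinian local ring, I a proper ideal, A = A'/I and f_1, …, f_m ∈ A[x_1, …, x_n]. Every
flat A'-algebra B' equipped with a surjection π onto A[x]/(f_1, …, f_m) with kernel I·B', compatible
with A' → A, is a quotient of A'[x_1, …, x_n] by the ideal generated by some lifts f'_1, …, f'_m of
the f_i, compatibly with π and with reduction of polynomials modulo I. (The published statement is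
for a surjection of local Artinian algebras with a fixed residue field over a ring of Witt vectors;
only the Artinian local base and the proper ideal are used, which is the form taken here.) -/
theorem result
    {A' : Type u} [CommRing A'] [IsArtinianRing A'] [IsLocalRing A'] (I : Ideal A') (hI : I ≠ ⊤)
    {n m : ℕ} (f : Fin m → MvPolynomial (Fin n) (A' ⧸ I))
    {B' : Type v} [CommRing B'] [Algebra A' B'] [Module.Flat A' B']
    (π : B' →+* MvPolynomial (Fin n) (A' ⧸ I) ⧸ Ideal.span (Set.range f))
    (hπ : Function.Surjective π) (hker : RingHom.ker π = I.map (algebraMap A' B'))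
    (hcomp : π.comp (algebraMap A' B') =
      ((Ideal.Quotient.mk (Ideal.span (Set.range f))).comp MvPolynomial.C).comp (Ideal.Quotient.mk I)) :
    ∃ (f' : Fin m → MvPolynomial (Fin n) A') (ψ : MvPolynomial (Fin n) A' →ₐ[A'] B'),
      (∀ i, MvPolynomial.map (Ideal.Quotient.mk I) (f' i) = f i) ∧
      Function.Surjective ψ ∧ RingHom.ker ψ.toRingHom = Ideal.span (Set.range f') ∧
      ∀ q, π (ψ q) = Ideal.Quotient.mk (Ideal.span (Set.range f)) (MvPolynomial.map (Ideal.Quotient.mk I) q) := by
  classical
  choose b hb using fun i : Fin n => hπ (Ideal.Quotient.mk (Ideal.span (Set.range f)) (MvPolynomial.X i))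
  let ψ : MvPolynomial (Fin n) A' →ₐ[A'] B' := MvPolynomial.aeval b
  have hψ : ∀ q, π (ψ q) = Ideal.Quotient.mk (Ideal.span (Set.range f)) (MvPolynomial.map (Ideal.Quotient.mk I) q) := by
    intro q
    induction q using MvPolynomial.induction_on with
    | C a =>
      have := RingHom.congr_fun hcomp a
      simpa [ψ] using this
    | add p q hp hq => simp [map_add, hp, hq]
    | mul_X p i hp => simp [map_mul, hp, ψ, hb]
  obtain ⟨N, hN⟩ := IsArtinianRing.isNilpotent_jacobson_bot (R := A')
  rw [IsLocalRing.jacobson_eq_maximalIdeal ⊥ bot_ne_top] at hN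
  have hIN : I ^ N = ⊥ :=
    le_bot_iff.1 ((Ideal.pow_right_mono (IsLocalRing.le_maximalIdeal hI) N).trans (le_of_eq hN))
  have hmemB : ∀ x : B', π x = 0 ↔ x ∈ (I • ⊤ : Submodule A' B') := fun x => by
    rw [← RingHom.mem_ker, hker, ← CAlgH.ArtFlat.mem_map_smul_top_iff (S := B'), smul_eq_mul, Ideal.mul_top]
  have hsurj : Function.Surjective ψ := by
    rw [show (ψ : MvPolynomial (Fin n) A' → B') = ψ.toLinearMap from rfl, ← LinearMap.range_eq_top,
      ← top_le_iff]
    refine nak I N hIN _ _ fun x _ => ?_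
    obtain ⟨q, hq⟩ := Ideal.Quotient.mk_surjective (π x)
    obtain ⟨p, rfl⟩ := MvPolynomial.map_surjective _ Ideal.Quotient.mk_surjective q
    rw [← sub_add_cancel x (ψ p), add_comm]
    refine Submodule.add_mem_sup ⟨p, rfl⟩ ?_
    rw [← hmemB, map_sub, hψ, hq, sub_self]
  let K : Submodule A' (MvPolynomial (Fin n) A') := LinearMap.ker ψ.toLinearMap
  have hmemP : ∀ x : MvPolynomial (Fin n) A',
      MvPolynomial.map (Ideal.Quotient.mk I) x = 0 ↔ x ∈ (I • ⊤ : Submodule A' _) := fun x => by
    rw [← CAlgH.ArtFlat.mem_map_smul_top_iff (S := MvPolynomial (Fin n) A'), smul_eq_mul, Ideal.mul_top,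
      ← RingHom.mem_ker, MvPolynomial.ker_map, Ideal.mk_ker]
    rfl
  have hKI : ∀ x ∈ K, x ∈ (I • ⊤ : Submodule A' (MvPolynomial (Fin n) A')) → x ∈ I • K := by
    intro x hx hxI
    haveI : Module.Flat A' (MvPolynomial (Fin n) A' ⧸ LinearMap.range K.subtype) :=
      Module.Flat.of_linearEquiv ((Submodule.quotEquivOfEq _ _ K.range_subtype).trans
        (ψ.toLinearMap.quotKerEquivOfSurjective hsurj))
    have h := CAlgH.ArtFlat.injMod_of_flat_quotient K.injective_subtype I ⟨x, hx⟩ hxI
    have h' := Submodule.mem_map_of_mem (f := K.subtype) h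
    rw [Submodule.map_smul'', Submodule.map_top, Submodule.range_subtype] at h'
    exact h'
  have hlift : ∀ i, ∃ p, MvPolynomial.map (Ideal.Quotient.mk I) p = f i ∧ ψ p = 0 := by
    intro i
    obtain ⟨p, hp⟩ := MvPolynomial.map_surjective _ Ideal.Quotient.mk_surjective (f i)
    have h1 : π (ψ p) = 0 := by
      rw [hψ, hp, Ideal.Quotient.eq_zero_iff_mem]; exact Ideal.subset_span ⟨i, rfl⟩
    rw [hmemB] at h1
    have h2 : ψ p ∈ (I • ⊤ : Submodule A' (MvPolynomial (Fin n) A')).map ψ.toLinearMap := by
      rw [Submodule.map_smul'', Submodule.map_top, LinearMap.range_eq_top.2 hsurj]; exact h1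
    obtain ⟨q, hq, hq'⟩ := h2
    refine ⟨p - q, by rw [map_sub, hp, (hmemP q).2 hq, sub_zero], ?_⟩
    rw [map_sub, show ψ q = ψ p from hq', sub_self]
  choose f' hf' hf0 using hlift
  refine ⟨f', ψ, hf', hsurj, le_antisymm ?_ ?_, hψ⟩
  · have : K ≤ (Ideal.span (Set.range f')).restrictScalars A' := by
      refine nak I N hIN _ _ fun x hx => ?_
      have h1 : MvPolynomial.map (Ideal.Quotient.mk I) x ∈ Ideal.span (Set.range f) := by
        rw [← Ideal.Quotient.eq_zero_iff_mem, ← hψ, show ψ x = 0 from hx, map_zero]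
      have hspan : Ideal.span (Set.range f) =
          (Ideal.span (Set.range f')).map (MvPolynomial.map (Ideal.Quotient.mk I)) := by
        rw [Ideal.map_span, ← Set.range_comp]
        congr 2
        exact (funext hf').symm
      rw [hspan] at h1
      obtain ⟨y, hy, hyx⟩ := (Ideal.mem_map_iff_of_surjective _
        (MvPolynomial.map_surjective _ Ideal.Quotient.mk_surjective)).1 h1
      have hy0 : ψ y = 0 := by
        have : Ideal.span (Set.range f') ≤ RingHom.ker ψ.toRingHom :=
          Ideal.span_le.2 (by rintro _ ⟨i, rfl⟩; exact hf0 i)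
        exact this hy
      rw [← add_sub_cancel y x]
      refine Submodule.add_mem_sup hy (hKI _ ?_ ((hmemP _).1 ?_))
      · exact LinearMap.mem_ker.2 (by simp [hy0, show ψ x = 0 from hx])
      · rw [map_sub, hyx, sub_self]
    exact fun x hx => this hx
  · exact Ideal.span_le.2 (by rintro _ ⟨i, rfl⟩; exact hf0 i)

end Groth.Agent.S13134
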