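import Groth.Statements.S13135
import Groth.Agent.CAlgH.ArtFlatSeq

set_option autoImplicit false
universe u
open CAlg

namespace Groth.Agent.S13135

/-- Let A' be an Artinian local ring, I a proper ideal, A = A'/I and f_1, …, f_m a regular sequence in
A[x_1, …, x_n]. For every choice of lifts f'_1, …, f'_m in A'[x_1, …, x_n] the quotient A'[x]/(f'_1,
…, f'_m) is flat over A' (so it is a flat lifting of A[x]/(f_1, …, f_m)). (The published statement
is for a surjection of local Artinian algebras with a fixed residue field over a ring of Witt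
vectors; only the Artinian local base and the proper ideal are used, which is the form taken here.) -/
theorem result
    {A' : Type u} [CommRing A'] [IsArtinianRing A'] [IsLocalRing A'] (I : Ideal A') (hI : I ≠ ⊤)
    {n m : ℕ} (f : Fin m → MvPolynomial (Fin n) (A' ⧸ I))
    (hreg : RingTheory.Sequence.IsRegular (MvPolynomial (Fin n) (A' ⧸ I)) (List.ofFn f))
    (f' : Fin m → MvPolynomial (Fin n) A') (hf' : ∀ i, MvPolynomial.map (Ideal.Quotient.mk I) (f' i) = f i) :
    Module.Flat A' (MvPolynomial (Fin n) A' ⧸ Ideal.span (Set.range f')) := by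
  classical
  have hker : (I.map (algebraMap A' (MvPolynomial (Fin n) A'))) =
      RingHom.ker (MvPolynomial.map (σ := Fin n) (Ideal.Quotient.mk I)) := by
    rw [MvPolynomial.ker_map, Ideal.mk_ker]; rfl
  let e : (MvPolynomial (Fin n) A' ⧸ I.map (algebraMap A' (MvPolynomial (Fin n) A'))) ≃+*
      MvPolynomial (Fin n) (A' ⧸ I) :=
    (Ideal.quotEquivOfEq hker).trans (RingHom.quotientKerEquivOfSurjective
      (MvPolynomial.map_surjective _ Ideal.Quotient.mk_surjective))
  have he : ∀ i, e (Ideal.Quotient.mk _ (f' i)) = f i := fun i => by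
    rw [← hf' i]; rfl
  have h1 : RingTheory.Sequence.IsWeaklyRegular
      (MvPolynomial (Fin n) A' ⧸ I.map (algebraMap A' (MvPolynomial (Fin n) A')))
      ((List.ofFn f').map (Ideal.Quotient.mk (I.map (algebraMap A' (MvPolynomial (Fin n) A'))))) := by
    refine (e.toAddEquiv.isWeaklyRegular_congr (bs := List.ofFn f) ?_).2 hreg.toIsWeaklyRegular
    rw [List.map_ofFn, List.forall₂_iff_get]
    refine ⟨by simp, fun i h1 h2 x => ?_⟩
    simp only [List.get_eq_getElem, List.getElem_ofFn, Function.comp_apply, smul_eq_mul]
    show e (_ * x) = _ * e x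
    rw [map_mul, he]
  haveI := CAlgH.ArtFlat.flat_quotient_span hI (List.ofFn f')
    ((CAlgH.ArtFlat.isWeaklyRegular_quotient_iff hI _).1 h1)
  exact Module.Flat.of_linearEquiv ((Submodule.quotEquivOfEq (Ideal.ofList (List.ofFn f'))
    (Ideal.span (Set.range f')) (by simp [Ideal.ofList, List.mem_ofFn, Set.range])).symm.restrictScalars A')

end Groth.Agent.S13135
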