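import Groth.Statements.S13140
import Mathlib.RepresentationTheory.Maschke

set_option autoImplicit false
universe u v w
open GrpAlg

namespace Groth.Agent.S13140

set_option autoImplicit false in
lemma projective_aux (R : Type*) [CommRing R] (G : Type*) [Group G] [Fintype G]
    (hG : IsUnit ((Nat.card G : ℕ) : R))
    (M : Type*) [AddCommGroup M] [Module R M] [Module (MonoidAlgebra R G) M]
    [IsScalarTower R (MonoidAlgebra R G) M] [Module.Projective R M] :
    Module.Projective (MonoidAlgebra R G) M := by
  classical
  let π : (M →₀ MonoidAlgebra R G) →ₗ[MonoidAlgebra R G] M :=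
    Finsupp.linearCombination (MonoidAlgebra R G) id
  have hπ : Function.Surjective π := fun m => ⟨Finsupp.single m 1, by simp [π]⟩
  obtain ⟨s, hs⟩ := Module.projective_lifting_property (π.restrictScalars R)
    (LinearMap.id : M →ₗ[R] M) hπ
  refine Module.Projective.of_split (LinearMap.equivariantProjection G s) π
    (LinearMap.ext fun m => ?_)
  have h1 : ∀ g : G, π (LinearMap.conjugate s g m) = m := fun g => by
    have h2 : π (s (MonoidAlgebra.single g (1 : R) • m)) = MonoidAlgebra.single g (1 : R) • m :=
      LinearMap.congr_fun hs _
    rw [LinearMap.conjugate_apply, map_smul, h2, smul_smul, MonoidAlgebra.single_mul_single,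
      mul_one, inv_mul_cancel, ← MonoidAlgebra.one_def, one_smul]
  rw [LinearMap.comp_apply, LinearMap.equivariantProjection_apply, LinearMap.map_smul_of_tower,
    map_sum, Finset.sum_congr rfl fun g _ => h1 g, Finset.sum_const, Finset.card_univ,
    ← Nat.cast_smul_eq_nsmul R, smul_smul, Fintype.card_eq_nat_card,
    Ring.inverse_mul_cancel _ hG, one_smul, LinearMap.id_apply]


/-- Let G be a finite group, R a commutative ring in which |G| is a unit, and M a module over the group
algebra R[G] whose underlying R-module is projective. Then M is a projective R[G]-module. -/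
theorem result
    (R : Type u) [CommRing R] (G : Type v) [Group G] [Finite G] (hG : IsUnit ((Nat.card G : ℕ) : R))
    (M : Type w) [AddCommGroup M] [Module R M] [Module (MonoidAlgebra R G) M]
    [IsScalarTower R (MonoidAlgebra R G) M] [Module.Projective R M] :
    Module.Projective (MonoidAlgebra R G) M := by
  haveI : Fintype G := Fintype.ofFinite G
  exact projective_aux R G hG M

end Groth.Agent.S13140
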