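import Groth.Statements.S13141

set_option autoImplicit false
universe u v w w'
open scoped TensorProduct
open GrpAlg

namespace Groth.Agent.S13141

/-- Let G be a finite group, R a commutative ring with |G| invertible in R, M a projective R-module with
an R-linear G-action and S an R-algebra. The natural map M^G ⊗_R S → M ⊗_R S is injective and its
image is the submodule of G-invariants of M ⊗_R S (G acting on the first factor); that is, M^G ⊗_R S
→ (M ⊗_R S)^G is bijective. -/
theorem result
    (R : Type u) [CommRing R] (G : Type v) [Group G] [Finite G] (hG : IsUnit ((Nat.card G : ℕ) : R))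
    (M : Type w) [AddCommGroup M] [Module R M] [Module.Projective R M] (ρ : Representation R G M)
    (S : Type w') [CommRing S] [Algebra R S] :
    Function.Injective (TensorProduct.map ρ.invariants.subtype (LinearMap.id : S →ₗ[R] S)) ∧
    LinearMap.range (TensorProduct.map ρ.invariants.subtype (LinearMap.id : S →ₗ[R] S)) =
      ⨅ g : G, LinearMap.eqLocus (LinearMap.rTensor S (ρ g)) LinearMap.id := by
  classical
  haveI : Fintype G := Fintype.ofFinite G
  haveI : Invertible (Fintype.card G : R) := (by rwa [Fintype.card_eq_nat_card] :
    IsUnit (Fintype.card G : R)).invertible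
  let P : M →ₗ[R] ρ.invariants := LinearMap.codRestrict ρ.invariants ρ.averageMap ρ.averageMap_invariant
  have hP : P.comp ρ.invariants.subtype = LinearMap.id :=
    LinearMap.ext fun v => Subtype.ext (ρ.averageMap_id _ v.2)
  have hι : ∀ x, TensorProduct.map P (LinearMap.id : S →ₗ[R] S)
      (TensorProduct.map ρ.invariants.subtype LinearMap.id x) = x := fun x => by
    rw [← LinearMap.comp_apply, ← TensorProduct.map_comp, hP, LinearMap.comp_id,
      TensorProduct.map_id, LinearMap.id_apply]
  refine ⟨Function.LeftInverse.injective hι, le_antisymm ?_ ?_⟩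
  · rintro _ ⟨x, rfl⟩
    simp only [Submodule.mem_iInf, LinearMap.mem_eqLocus, LinearMap.id_apply]
    intro g
    have hg : (ρ g).comp ρ.invariants.subtype = ρ.invariants.subtype :=
      LinearMap.ext fun v => v.2 g
    rw [LinearMap.rTensor, ← LinearMap.comp_apply, ← TensorProduct.map_comp, hg, LinearMap.comp_id]
  · intro x hx
    simp only [Submodule.mem_iInf, LinearMap.mem_eqLocus, LinearMap.id_apply] at hx
    refine ⟨TensorProduct.map P LinearMap.id x, ?_⟩
    rw [← LinearMap.comp_apply, ← TensorProduct.map_comp, LinearMap.comp_id]
    have havg : ρ.invariants.subtype.comp P = ⅟(Fintype.card G : R) • ∑ g : G, ρ g := by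
      rw [LinearMap.subtype_comp_codRestrict]
      simp [Representation.averageMap, GroupAlgebra.average]
    rw [havg]
    change LinearMap.rTensor S _ x = x
    rw [LinearMap.rTensor_smul, ← LinearMap.coe_rTensorHom, map_sum, LinearMap.smul_apply,
      LinearMap.sum_apply]
    simp [hx, Finset.card_univ, ← Nat.cast_smul_eq_nsmul R, smul_smul]

end Groth.Agent.S13141
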