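import Groth.Statements.S13142
import Mathlib.RepresentationTheory.Invariants

set_option autoImplicit false
universe u v
open GrpAlg

namespace Groth.Agent.S13142

/-- Let G be a finite group and R a commutative ring with |G| invertible in R, acting on R[x_1, …, x_n]
by R-algebra automorphisms. The invariant subring R[x_1, …, x_n]^G is a flat R-module (so the
quotient of affine n-space over R by G is flat over R). -/
theorem result
    (R : Type u) [CommRing R] (G : Type v) [Group G] [Finite G] (hG : IsUnit ((Nat.card G : ℕ) : R))
    (n : ℕ) (ρ : G →* (MvPolynomial (Fin n) R ≃ₐ[R] MvPolynomial (Fin n) R)) :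
    Module.Flat R ↥(⨅ g : G, LinearMap.eqLocus (ρ g).toLinearMap (LinearMap.id : MvPolynomial (Fin n) R →ₗ[R] MvPolynomial (Fin n) R)) := by
  classical
  haveI : Fintype G := Fintype.ofFinite G
  haveI : Invertible (Fintype.card G : R) := (by rwa [Fintype.card_eq_nat_card] :
    IsUnit (Fintype.card G : R)).invertible
  let σ : Representation R G (MvPolynomial (Fin n) R) :=
    { toFun := fun g => (ρ g).toLinearMap
      map_one' := by ext; simp
      map_mul' := fun a b => by ext; simp }
  set N := (⨅ g : G, LinearMap.eqLocus (ρ g).toLinearMap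
    (LinearMap.id : MvPolynomial (Fin n) R →ₗ[R] MvPolynomial (Fin n) R)) with hN
  have hmem : ∀ v, v ∈ N ↔ v ∈ σ.invariants := fun v => by
    simp [hN, σ, Submodule.mem_iInf, LinearMap.mem_eqLocus]
  refine Module.Flat.of_retract N.subtype
    (LinearMap.codRestrict N σ.averageMap fun v => (hmem _).mpr (σ.averageMap_invariant v))
    (LinearMap.ext fun v => Subtype.ext ?_)
  exact σ.averageMap_id _ ((hmem _).mp v.2)

end Groth.Agent.S13142
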