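import Groth.Statements.S13143
import Mathlib
import Groth.Agent.CAlgH.FrobW2

set_option autoImplicit false
universe u
open FrobAlg

namespace Groth.Agent.S13143

open Groth.Agent.CAlgH

/-- Let k be a perfect field of characteristic p and A → B a homomorphism of Noetherian k-algebras with
an A-linear retraction B → A. If B lifts flatly to W₂(k), so does A. (The published statement
phrases the descent for finite surjective morphisms of degree prime to p, via a trace splitting; the
argument uses exactly an A-linear splitting of A → B for an affine morphism, which is the hypothesis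
taken here.) -/
theorem result
    (p : ℕ) [Fact p.Prime] (k : Type u) [Field k] [CharP k p] [PerfectRing k p]
    (A B : Type u) [CommRing A] [CommRing B] [Algebra k A] [Algebra k B]
    [IsNoetherianRing A] [IsNoetherianRing B] [Algebra A B] [IsScalarTower k A B]
    (r : B →ₗ[A] A) (hr : ∀ a : A, r (algebraMap A B a) = a)
    (hB : FrobAlg.IsW2Liftable p k B) : FrobAlg.IsW2Liftable p k A := by
  obtain ⟨B', _, ι, π, hB⟩ := hB
  let S : Subring B' := (algebraMap A B).range.comap π
  let g : A → B := algebraMap A B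
  have hS : ∀ s : S, π (s : B') = g (r (π (s : B'))) := fun s => by
    obtain ⟨a, ha⟩ := s.2
    rw [show π (s : B') = algebraMap A B a from ha.symm]
    simp only [g, hr]
  let π₀ : S →+* A :=
    { toFun := fun s => r (π (s : B'))
      map_one' := by
        show r (π (1 : B')) = 1
        rw [map_one, ← map_one (algebraMap A B), hr]
      map_mul' := fun x y => by
        show r (π ((x : B') * y)) = _
        rw [map_mul, hS x, hS y, ← map_mul]
        simp only [g, hr]
      map_zero' := by
        show r (π (0 : B')) = 0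
        rw [map_zero, map_zero]
      map_add' := fun x y => by
        show r (π ((x : B') + y)) = _
        rw [map_add, map_add] }
  let J : Ideal S :=
    { carrier := {s | ∃ b : B', (s : B') = p * b ∧ r (π b) = 0}
      zero_mem' := ⟨0, by simp, by simp⟩
      add_mem' := by
        rintro x y ⟨b, hb, hb'⟩ ⟨c, hc, hc'⟩
        exact ⟨b + c, by rw [Subring.coe_add, hb, hc, mul_add], by rw [map_add, map_add, hb', hc', add_zero]⟩
      smul_mem' := by
        rintro c x ⟨b, hb, hb'⟩
        refine ⟨(c : B') * b, ?_, ?_⟩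
        · rw [smul_eq_mul, Subring.coe_mul, hb, mul_left_comm]
        · rw [map_mul, hS c]
          simp only [g]
          rw [← Algebra.smul_def, map_smul, hb', smul_zero] }
  have hJ : ∀ a ∈ J, π₀ a = 0 := by
    rintro a ⟨b, hb, -⟩
    show r (π (a : B')) = 0
    rw [hb, map_mul, FrobW2.π_natCast hB, zero_mul, map_zero]
  have hιS : ∀ w, ι w ∈ S := fun w => ⟨algebraMap k A (FrobAlg.res p k w), by
    rw [← IsScalarTower.algebraMap_apply]
    exact (RingHom.congr_fun hB.comm w).symm⟩
  let ιS : FrobAlg.W2 p k →+* S := ι.codRestrict S hιS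
  refine ⟨S ⧸ J, inferInstance, (Ideal.Quotient.mk J).comp ιS, Ideal.Quotient.lift J π₀ hJ, FrobW2.isLift_iff.mpr ⟨?_, ?_, ?_, ?_⟩⟩
  · intro x hx
    obtain ⟨s, rfl⟩ := Ideal.Quotient.mk_surjective x
    rw [← map_natCast (Ideal.Quotient.mk J), ← map_mul, Ideal.Quotient.eq_zero_iff_mem] at hx
    obtain ⟨b, hb, hb'⟩ := hx
    rw [Subring.coe_mul, SubringClass.coe_natCast] at hb
    have h1 : π (s : B') = π b := sub_eq_zero.mp (by
      rw [← map_sub, ← FrobW2.p_mul_eq_zero_iff hB, mul_sub, hb, sub_self])
    obtain ⟨d, hd⟩ := (FrobW2.π_eq_zero_iff hB (s : B')).mp (by rw [hS s, h1, hb']; exact map_zero _)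
    obtain ⟨e, he⟩ := hB.surj (g (r (π d)))
    refine ⟨Ideal.Quotient.mk J ⟨e, ⟨r (π d), he.symm⟩⟩, ?_⟩
    rw [← map_natCast (Ideal.Quotient.mk J), ← map_mul, Ideal.Quotient.eq]
    refine ⟨d - e, ?_, ?_⟩
    · rw [AddSubgroupClass.coe_sub, Subring.coe_mul, SubringClass.coe_natCast, hd, mul_sub]
    · rw [map_sub, map_sub, he]
      simp only [g, hr, sub_self]
  · intro a
    obtain ⟨b, hb⟩ := hB.surj (algebraMap A B a)
    refine ⟨Ideal.Quotient.mk J ⟨b, ⟨a, hb.symm⟩⟩, ?_⟩
    show r (π b) = a
    rw [hb, hr]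
  · refine le_antisymm ?_ (Ideal.span_le.mpr (Set.singleton_subset_iff.mpr ?_))
    · intro x hx
      obtain ⟨s, rfl⟩ := Ideal.Quotient.mk_surjective x
      have hx' : r (π (s : B')) = 0 := hx
      obtain ⟨d, hd⟩ := (FrobW2.π_eq_zero_iff hB (s : B')).mp (by rw [hS s, hx']; exact map_zero _)
      obtain ⟨e, he⟩ := hB.surj (g (r (π d)))
      rw [Ideal.mem_span_singleton']
      refine ⟨Ideal.Quotient.mk J ⟨e, ⟨r (π d), he.symm⟩⟩, ?_⟩
      rw [← map_natCast (Ideal.Quotient.mk J), ← map_mul, Ideal.Quotient.eq]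
      refine ⟨e - d, ?_, ?_⟩
      · rw [AddSubgroupClass.coe_sub, Subring.coe_mul, SubringClass.coe_natCast, hd, mul_sub]
        ring
      · rw [map_sub, map_sub, he]
        simp only [g, hr, sub_self]
    · show Ideal.Quotient.lift J π₀ hJ ((p : ℕ) : S ⧸ J) = 0
      rw [map_natCast]
      have : (p : A) = algebraMap k A (p : k) := (map_natCast _ p).symm
      rw [this, CharP.cast_eq_zero k p, map_zero]
  · refine RingHom.ext fun w => ?_
    show r (π (ι w)) = algebraMap k A (FrobAlg.res p k w)
    rw [show π (ι w) = algebraMap k B (FrobAlg.res p k w) from RingHom.congr_fun hB.comm w,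
      IsScalarTower.algebraMap_apply k A B, hr]

end Groth.Agent.S13143
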