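import Groth.Statements.S13144
import Mathlib
import Groth.Agent.CAlgH.FrobW2

set_option autoImplicit false
universe u
open FrobAlg

namespace Groth.Agent.S13144

open Groth.Agent.CAlgH

/-- Let k be a perfect field of characteristic p, A → B a homomorphism of Noetherian k-algebras with an
A-linear retraction B → A, and A' → B' a homomorphism over W₂(k) between flat liftings of A and B
which reduces to A → B. If the Frobenius of B lifts to B' (a σ₂-semilinear ring endomorphism
reducing to the p-th power map), then the Frobenius of A lifts to A'. (The published statement is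
for an affine morphism whose map on structure sheaves splits linearly; the affine case with an
A-linear splitting is taken here.) -/
theorem result
    (p : ℕ) [Fact p.Prime] (k : Type u) [Field k] [CharP k p] [PerfectRing k p]
    (A B : Type u) [CommRing A] [CommRing B] [Algebra k A] [Algebra k B]
    [IsNoetherianRing A] [IsNoetherianRing B] [Algebra A B] [IsScalarTower k A B]
    (r : B →ₗ[A] A) (hr : ∀ a : A, r (algebraMap A B a) = a)
    (A' B' : Type u) [CommRing A'] [CommRing B']
    (ιA : FrobAlg.W2 p k →+* A') (πA : A' →+* A) (hA : FrobAlg.IsLift p k A A' ιA πA)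
    (ιB : FrobAlg.W2 p k →+* B') (πB : B' →+* B) (hB : FrobAlg.IsLift p k B B' ιB πB)
    (φ' : A' →+* B') (hφι : φ'.comp ιA = ιB) (hφπ : πB.comp φ' = (algebraMap A B).comp πA)
    (ΦB : B' →+* B') (hΦB : FrobAlg.IsFrobLift p k B B' ιB πB ΦB) :
    ∃ ΦA : A' →+* A', FrobAlg.IsFrobLift p k A A' ιA πA ΦA := by
  let S : Subring B' := (algebraMap A B).range.comap πB
  have hS : ∀ s : S, πB (s : B') = algebraMap A B (r (πB (s : B'))) := fun s => by
    obtain ⟨a, ha⟩ := s.2
    rw [show πB (s : B') = algebraMap A B a from ha.symm, hr]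
  let J : Ideal S :=
    { carrier := {s | ∃ b : B', (s : B') = p * b ∧ r (πB b) = 0}
      zero_mem' := ⟨0, by simp, by simp⟩
      add_mem' := by
        rintro x y ⟨b, hb, hb'⟩ ⟨c, hc, hc'⟩
        exact ⟨b + c, by rw [Subring.coe_add, hb, hc, mul_add], by rw [map_add, map_add, hb', hc', add_zero]⟩
      smul_mem' := by
        rintro c x ⟨b, hb, hb'⟩
        refine ⟨(c : B') * b, ?_, ?_⟩
        · rw [smul_eq_mul, Subring.coe_mul, hb, mul_left_comm]
        · rw [map_mul, hS c, ← Algebra.smul_def, map_smul, hb', smul_zero] }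
  have hφS : ∀ a, φ' a ∈ S := fun a => ⟨πA a, (RingHom.congr_fun hφπ a).symm⟩
  let ψ : A' →+* S ⧸ J := (Ideal.Quotient.mk J).comp (φ'.codRestrict S hφS)
  have hπφ : ∀ a, r (πB (φ' a)) = πA a := fun a => by
    rw [show πB (φ' a) = algebraMap A B (πA a) from RingHom.congr_fun hφπ a, hr]
  have hψ : Function.Bijective ψ := by
    constructor
    · rw [injective_iff_map_eq_zero]
      intro a ha
      obtain ⟨b, hb, hb'⟩ := Ideal.Quotient.eq_zero_iff_mem.mp ha
      change φ' a = p * b at hb
      obtain ⟨c, rfl⟩ := (FrobW2.π_eq_zero_iff hA a).mp (by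
        rw [← hπφ, hb, map_mul, FrobW2.π_natCast hB, zero_mul, map_zero])
      rw [map_mul, map_natCast] at hb
      have h1 : πB (φ' c) = πB b := sub_eq_zero.mp (by
        rw [← map_sub, ← FrobW2.p_mul_eq_zero_iff hB, mul_sub, hb, sub_self])
      rw [FrobW2.p_mul_eq_zero_iff hA, ← hπφ, h1, hb']
    · intro x
      obtain ⟨s, rfl⟩ := Ideal.Quotient.mk_surjective x
      obtain ⟨c, hc⟩ := hA.surj (r (πB (s : B')))
      obtain ⟨d, hd⟩ := (FrobW2.π_eq_zero_iff hB ((s : B') - φ' c)).mp (by
        rw [map_sub, hS s, show πB (φ' c) = algebraMap A B (πA c) from RingHom.congr_fun hφπ c, hc, sub_self])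
      obtain ⟨e, he⟩ := hA.surj (r (πB d))
      refine ⟨c + p * e, ?_⟩
      rw [RingHom.comp_apply, Ideal.Quotient.eq]
      refine ⟨φ' e - d, ?_, ?_⟩
      · show φ' (c + p * e) - (s : B') = _
        rw [map_add, map_mul, map_natCast, mul_sub, ← hd]
        ring
      · rw [map_sub, map_sub, hπφ, he, sub_self]
  let Ψ := RingEquiv.ofBijective ψ hψ
  have hΦS : ∀ a, ΦB (φ' a) ∈ S := fun a => ⟨πA a ^ p, by
    rw [map_pow]
    exact ((hΦB.red (φ' a)).trans (congrArg (· ^ p) (RingHom.congr_fun hφπ a))).symm⟩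
  let ΦA : A' →+* A' := Ψ.symm.toRingHom.comp ((Ideal.Quotient.mk J).comp ((ΦB.comp φ').codRestrict S hΦS))
  have hΦA : ∀ a, ψ (ΦA a) = Ideal.Quotient.mk J ⟨ΦB (φ' a), hΦS a⟩ := fun a => Ψ.apply_symm_apply _
  refine ⟨ΦA, { hA with semi := ?_, red := ?_ }⟩
  · refine RingHom.ext fun w => hψ.1 ?_
    show ψ (ΦA (ιA w)) = ψ (ιA (FrobAlg.sigma p k w))
    rw [hΦA]
    refine congrArg (Ideal.Quotient.mk J) (Subtype.ext ?_)
    show ΦB (φ' (ιA w)) = φ' (ιA (FrobAlg.sigma p k w))
    rw [show φ' (ιA w) = ιB w from RingHom.congr_fun hφι w,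
      show φ' (ιA (FrobAlg.sigma p k w)) = ιB (FrobAlg.sigma p k w) from RingHom.congr_fun hφι _]
    exact RingHom.congr_fun hΦB.semi w
  · intro a
    obtain ⟨b, hb, hb'⟩ := Ideal.Quotient.eq.mp (hΦA a)
    change φ' (ΦA a) - ΦB (φ' a) = p * b at hb
    rw [← hπφ (ΦA a), show φ' (ΦA a) = ΦB (φ' a) + p * b by rw [← hb]; ring, map_add, map_mul, FrobW2.π_natCast hB,
      zero_mul, add_zero, hΦB.red, show πB (φ' a) = algebraMap A B (πA a) from RingHom.congr_fun hφπ a, ← map_pow, hr]

end Groth.Agent.S13144
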