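import Groth.Statements.S13146
import Mathlib
import Groth.Agent.CAlgH.FrobW2

set_option autoImplicit false
universe u
open scoped BigOperators
open FrobAlg

namespace Groth.Agent.S13146

open MvPolynomial

/-- The tuple `(u, v, -(u+v), 0, …)`. -/
noncomputable def zeta (R : Type*) [CommRing R] {n : ℕ} (hn : 3 ≤ n) : Fin n → MvPolynomial (Fin 2) R :=
  Pi.single (⟨0, by omega⟩ : Fin n) (X 0) + Pi.single (⟨1, by omega⟩ : Fin n) (X 1) +
    Pi.single (⟨2, by omega⟩ : Fin n) (-(X 0 + X 1))

theorem sum_zeta (R : Type*) [CommRing R] {n : ℕ} (hn : 3 ≤ n) : ∑ i, zeta R hn i = 0 := by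
  simp [zeta, Finset.sum_add_distrib]

theorem sum_zeta_pow (R : Type*) [CommRing R] {n : ℕ} (hn : 3 ≤ n) (p : ℕ) (hp : p ≠ 0) :
    ∑ i, zeta R hn i ^ p = X 0 ^ p + X 1 ^ p + (-(X 0 + X 1)) ^ p := by
  have : ∀ i, zeta R hn i ^ p = Pi.single (M := fun _ => MvPolynomial (Fin 2) R) (⟨0, by omega⟩ : Fin n) (X 0 ^ p) i +
      Pi.single (M := fun _ => MvPolynomial (Fin 2) R) (⟨1, by omega⟩ : Fin n) (X 1 ^ p) i +
      Pi.single (M := fun _ => MvPolynomial (Fin 2) R) (⟨2, by omega⟩ : Fin n) ((-(X 0 + X 1) : MvPolynomial (Fin 2) R) ^ p) i := by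
    intro i
    simp only [zeta, Pi.add_apply, Pi.single_apply, Fin.ext_iff]
    split_ifs <;> first | omega | simp [hp]
  simp only [this, Finset.sum_add_distrib, Finset.sum_pi_single', Finset.mem_univ, if_true]

theorem map_zeta {R S : Type*} [CommRing R] [CommRing S] (f : R →+* S) {n : ℕ} (hn : 3 ≤ n) (i : Fin n) :
    MvPolynomial.map f (zeta R hn i) = zeta S hn i := by
  simp only [zeta, Pi.add_apply, map_add, Pi.single_apply]
  split_ifs <;> simp

theorem zeta_pow_mem (p : ℕ) [Fact p.Prime] (k : Type u) [Field k] [CharP k p] {n : ℕ} (hn : 3 ≤ n) (i : Fin n) :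
    zeta k hn i ^ p ∈ Ideal.span {(X 0 : MvPolynomial (Fin 2) k) ^ p, X 1 ^ p} := by
  have hp := (Fact.out : p.Prime).ne_zero
  have h0 : (X 0 : MvPolynomial (Fin 2) k) ^ p ∈ Ideal.span {(X 0 : MvPolynomial (Fin 2) k) ^ p, X 1 ^ p} :=
    Ideal.subset_span (Set.mem_insert _ _)
  have h1 : (X 1 : MvPolynomial (Fin 2) k) ^ p ∈ Ideal.span {(X 0 : MvPolynomial (Fin 2) k) ^ p, X 1 ^ p} :=
    Ideal.subset_span (Set.mem_insert_of_mem _ rfl)
  simp only [zeta, Pi.add_apply, Pi.single_apply, Fin.ext_iff]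
  split_ifs with a b c
  all_goals first
    | omega
    | (simp [hp, h0, h1]; done)
    | (rw [zero_add, zero_add, neg_pow, add_pow_char]; exact Ideal.mul_mem_left _ _ (add_mem h0 h1))

theorem coeff_eq_zero_of_mem (p : ℕ) (hp : 1 < p) (k : Type u) [Field k] (g : MvPolynomial (Fin 2) k)
    (hg : g ∈ Ideal.span {(X 0 : MvPolynomial (Fin 2) k) ^ p, X 1 ^ p}) :
    g.coeff (Finsupp.single 0 (p - 1) + Finsupp.single 1 1) = 0 := by
  obtain ⟨a, b, rfl⟩ := Ideal.mem_span_pair.mp hg
  rw [coeff_add, X_pow_eq_monomial, X_pow_eq_monomial, coeff_mul_monomial', coeff_mul_monomial']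
  rw [if_neg, if_neg, add_zero]
  · intro h
    have := h 1
    simp at this
    omega
  · intro h
    have := h 0
    simp at this
    omega

theorem coeff_add_pow (p : ℕ) (hp : 1 < p) :
    ((X 0 + X 1 : MvPolynomial (Fin 2) ℤ) ^ p).coeff (Finsupp.single 0 (p - 1) + Finsupp.single 1 1) = p := by
  rw [add_pow, coeff_sum, Finset.sum_eq_single (p - 1)]
  · rw [show p - (p - 1) = 1 by omega, show Nat.choose p (p - 1) = p by
      rw [Nat.choose_symm (by omega)]; exact Nat.choose_one_right p]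
    rw [X_pow_eq_monomial, X_pow_eq_monomial, monomial_mul, ← map_natCast (C : ℤ →+* MvPolynomial (Fin 2) ℤ),
      mul_comm, coeff_C_mul, coeff_monomial, if_pos rfl]
    simp
  · intro m hm hne
    rw [X_pow_eq_monomial, X_pow_eq_monomial, monomial_mul, ← map_natCast (C : ℤ →+* MvPolynomial (Fin 2) ℤ),
      mul_comm, coeff_C_mul, coeff_monomial, if_neg, mul_zero]
    intro h
    have := congrFun (congrArg DFunLike.coe h) 0
    simp at this
    omega
  · intro h
    exact absurd (Finset.mem_range.mpr (by omega)) h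

section functional

variable {n : ℕ} (k : Type u) [Field k] (hn : 3 ≤ n)

/-- Balanced exponents are evaluated at `zeta`, the others killed. -/
noncomputable def val (m : Fin n × Fin 2 →₀ ℕ) : MvPolynomial (Fin 2) k :=
  if (∀ i, m (i, 0) = m (i, 1)) then ∏ i, zeta k hn i ^ m (i, 0) else 0

noncomputable def Lam : MvPolynomial (Fin n × Fin 2) k →ₗ[k] MvPolynomial (Fin 2) k :=
  (MvPolynomial.basisMonomials (Fin n × Fin 2) k).constr k (val k hn)

theorem Lam_monomial (m : Fin n × Fin 2 →₀ ℕ) : Lam k hn (monomial m 1) = val k hn m := by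
  have := (MvPolynomial.basisMonomials (Fin n × Fin 2) k).constr_basis k (val k hn) m
  rwa [coe_basisMonomials] at this

theorem Lam_mem (p : ℕ) [Fact p.Prime] [CharP k p] (g : MvPolynomial (Fin n × Fin 2) k)
    (hg : g ∈ Ideal.span (insert (∑ i : Fin n, X (i, (0 : Fin 2)) * X (i, (1 : Fin 2)))
      (Set.range fun v : Fin n × Fin 2 => (X v : MvPolynomial (Fin n × Fin 2) k) ^ p))) :
    Lam k hn g ∈ Ideal.span {(X 0 : MvPolynomial (Fin 2) k) ^ p, X 1 ^ p} := by
  set I := Ideal.span {(X 0 : MvPolynomial (Fin 2) k) ^ p, X 1 ^ p}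
  suffices h : ∀ q, Lam k hn (q * g) ∈ I by simpa using h 1
  induction hg using Submodule.span_induction with
  | zero => simp
  | add x y _ _ hx hy => intro q; rw [mul_add, map_add]; exact add_mem (hx q) (hy q)
  | smul a x _ hx => intro q; rw [smul_eq_mul, ← mul_assoc]; exact hx _
  | mem x hx =>
    intro q
    induction q using MvPolynomial.induction_on' with
    | add a b ha hb => rw [add_mul, map_add]; exact add_mem ha hb
    | monomial m c =>
      rw [show monomial m c = c • monomial m (1 : k) by rw [smul_monomial, smul_eq_mul, mul_one],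
        smul_mul_assoc, map_smul]
      refine Submodule.smul_of_tower_mem I c ?_
      rcases hx with rfl | ⟨⟨i, j⟩, rfl⟩
      · rw [Finset.mul_sum, map_sum]
        have : ∀ i : Fin n, Lam k hn (monomial m 1 * (X (i, (0 : Fin 2)) * X (i, (1 : Fin 2)))) =
            zeta k hn i * val k hn m := by
          intro i
          rw [X, X, monomial_mul, monomial_mul, one_mul, one_mul, Lam_monomial, val, val]
          have hb : ∀ l, (m + (Finsupp.single (i, (0 : Fin 2)) (1 : ℕ) + Finsupp.single (i, (1 : Fin 2)) (1 : ℕ)) :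
                Fin n × Fin 2 →₀ ℕ) (l, 0) =
              m (l, 0) + (if i = l then 1 else 0) ∧
              (m + (Finsupp.single (i, (0 : Fin 2)) (1 : ℕ) + Finsupp.single (i, (1 : Fin 2)) (1 : ℕ)) :
                Fin n × Fin 2 →₀ ℕ) (l, 1) =
              m (l, 1) + (if i = l then 1 else 0) := fun l => by
            by_cases hl : i = l <;> simp [hl, Finsupp.single_apply]
          by_cases hm : ∀ l, m (l, 0) = m (l, 1)
          · rw [if_pos hm, if_pos fun l => by rw [(hb l).1, (hb l).2, hm l]]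
            simp only [fun l => (hb l).1, pow_add, Finset.prod_mul_distrib, pow_ite, pow_one, pow_zero,
              Finset.prod_ite_eq, Finset.mem_univ, if_true]
            ring
          · rw [if_neg hm, mul_zero, if_neg fun h => hm fun l => by
              have := h l
              rw [(hb l).1, (hb l).2] at this
              omega]
        simp only [this, ← Finset.sum_mul, sum_zeta, zero_mul, Submodule.zero_mem]
      · simp only []
        rw [X_pow_eq_monomial, monomial_mul, one_mul, Lam_monomial, val]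
        split_ifs with h
        · refine Ideal.mem_of_dvd I (Finset.dvd_prod_of_mem _ (Finset.mem_univ i)) ?_
          have hp : p ≤ (m + Finsupp.single (i, j) p) (i, 0) := by
            fin_cases j
            · simp
            · rw [h i]; simp
          exact Ideal.mem_of_dvd I (pow_dvd_pow _ hp) (zeta_pow_mem p k hn i)
        · exact Submodule.zero_mem _

theorem Lam_eval (G : MvPolynomial (Fin n) ℤ) :
    Lam k hn (eval₂Hom (Int.castRingHom _) (fun i => X (i, (0 : Fin 2)) * X (i, (1 : Fin 2))) G) =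
      eval₂Hom (Int.castRingHom _) (zeta k hn) G := by
  induction G using MvPolynomial.induction_on' with
  | add a b ha hb => simp only [map_add, ha, hb]
  | monomial d c =>
    rw [eval₂Hom_monomial, eval₂Hom_monomial, eq_intCast, eq_intCast, ← zsmul_eq_mul, ← zsmul_eq_mul, map_zsmul,
      Finsupp.prod_fintype _ _ (fun i => pow_zero _), Finsupp.prod_fintype _ _ (fun i => pow_zero _)]
    let D : Fin n × Fin 2 →₀ ℕ := Finsupp.equivFunOnFinite.symm fun v => d v.1
    rw [show (∏ i, ((X (i, (0 : Fin 2)) : MvPolynomial (Fin n × Fin 2) k) * X (i, (1 : Fin 2))) ^ d i) =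
      monomial D 1 by
        rw [monomial_eq, C_1, one_mul, Finsupp.prod_fintype _ _ (fun i => pow_zero _), Fintype.prod_prod_type]
        simp [D, Fin.prod_univ_two, mul_pow], Lam_monomial, val, if_pos fun i => by simp [D]]
    simp [D]

end functional

theorem exists_gamma (p : ℕ) [Fact p.Prime] (n : ℕ) :
    ∃ Γ : MvPolynomial (Fin n) ℤ, C (p : ℤ) * Γ = (∑ i, X i) ^ p - ∑ i, X i ^ p := by
  obtain ⟨Γ, h⟩ := (C_dvd_iff_zmod p ((∑ i, X i) ^ p - ∑ i, (X i : MvPolynomial (Fin n) ℤ) ^ p)).mpr (by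
    simp [map_sub, map_sum, sum_pow_char])
  exact ⟨Γ, h.symm⟩

theorem coeff_gamma_ne (p : ℕ) [Fact p.Prime] (k : Type u) [Field k] [CharP k p] {n : ℕ} (hn : 3 ≤ n)
    (Γ : MvPolynomial (Fin n) ℤ) (hΓ : C (p : ℤ) * Γ = (∑ i, X i) ^ p - ∑ i, X i ^ p) :
    (eval₂Hom (Int.castRingHom _) (zeta k hn) Γ).coeff (Finsupp.single 0 (p - 1) + Finsupp.single 1 1) ≠ 0 := by
  intro h1
  have hp := (Fact.out : p.Prime)
  -- over `ℤ`
  let G := MvPolynomial.eval₂Hom (Int.castRingHom _) (zeta ℤ hn) Γ
  have hG : MvPolynomial.map (Int.castRingHom k) G = MvPolynomial.eval₂Hom (Int.castRingHom _) (zeta k hn) Γ := by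
    show (MvPolynomial.map (Int.castRingHom k)).comp (MvPolynomial.eval₂Hom (Int.castRingHom _) (zeta ℤ hn)) Γ = _
    refine RingHom.congr_fun (MvPolynomial.ringHom_ext (fun c => by simp) fun i => ?_) Γ
    simp [map_zeta]
  rw [← hG, MvPolynomial.coeff_map] at h1
  have h2 := congrArg (MvPolynomial.eval₂Hom (Int.castRingHom _) (zeta ℤ hn)) hΓ
  simp only [map_mul, map_sub, map_pow, map_sum, MvPolynomial.eval₂Hom_X', MvPolynomial.eval₂Hom_C,
    sum_zeta, zero_pow hp.ne_zero, zero_sub, sum_zeta_pow ℤ hn p hp.ne_zero] at h2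
  have h3 := congrArg (MvPolynomial.coeff (Finsupp.single 0 (p - 1) + Finsupp.single 1 1)) h2
  rw [eq_intCast, Int.cast_natCast, ← map_natCast (MvPolynomial.C : ℤ →+* MvPolynomial (Fin 2) ℤ),
    MvPolynomial.coeff_C_mul, MvPolynomial.coeff_neg, MvPolynomial.coeff_add, MvPolynomial.coeff_add, neg_pow,
    MvPolynomial.coeff_X_pow, MvPolynomial.coeff_X_pow, ← map_one (MvPolynomial.C : ℤ →+* MvPolynomial (Fin 2) ℤ),
    ← map_neg, ← map_pow, MvPolynomial.coeff_C_mul, coeff_add_pow p hp.one_lt, if_neg, if_neg, zero_add, zero_add] at h3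
  · have h4 : G.coeff (Finsupp.single 0 (p - 1) + Finsupp.single 1 1) = -(-1) ^ p := by
      refine mul_left_cancel₀ (Int.natCast_ne_zero.mpr hp.ne_zero) (h3.trans ?_)
      ring
    rw [h4] at h1
    rcases Nat.even_or_odd p with hpar | hpar
    · simp [hpar.neg_one_pow] at h1
    · simp [hpar.neg_one_pow] at h1
  all_goals
    intro h
    have hd0 := congrArg (fun d : Fin 2 →₀ ℕ => d 0) h
    have hd1 := congrArg (fun d : Fin 2 →₀ ℕ => d 1) h
    have := hp.two_le
    simp at hd0 hd1
    try omega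



/-- In an even number of variables — for a perfect field k of characteristic p and n ≥ 3, the local
Artinian algebra k[x_1, y_1, …, x_n, y_n]/(x_1y_1 + ⋯ + x_ny_n, x_1^p, y_1^p, …, x_n^p, y_n^p)
admits no flat lifting over W₂(k). (The published statement covers every number N ≥ 5 of variables,
using x_1x_2 + ⋯ + x_{N−2}x_{N−1} + x_N² for odd N; the printed argument is written out for even N
and the odd case is said to be analogous, so only even N = 2n ≥ 6 is taken here.) -/
theorem result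
    (p : ℕ) [Fact p.Prime] (k : Type u) [Field k] [CharP k p] [PerfectRing k p]
    (n : ℕ) (hn : 3 ≤ n) :
    ¬ FrobAlg.IsW2Liftable p k
      (MvPolynomial (Fin n × Fin 2) k ⧸ Ideal.span
        (insert (∑ i : Fin n, MvPolynomial.X (i, (0 : Fin 2)) * MvPolynomial.X (i, (1 : Fin 2)))
          (Set.range fun v : Fin n × Fin 2 => (MvPolynomial.X v : MvPolynomial (Fin n × Fin 2) k) ^ p))) := by
  obtain ⟨Γ, hΓ⟩ := exists_gamma p n
  set J := Ideal.span (insert (∑ i : Fin n, MvPolynomial.X (i, (0 : Fin 2)) * MvPolynomial.X (i, (1 : Fin 2)))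
    (Set.range fun v : Fin n × Fin 2 => (MvPolynomial.X v : MvPolynomial (Fin n × Fin 2) k) ^ p))
  rintro ⟨B, _, ι, π, hL⟩
  have hp := (Fact.out : p.Prime)
  let z : Fin n → MvPolynomial (Fin n × Fin 2) k := fun i =>
    MvPolynomial.X (i, (0 : Fin 2)) * MvPolynomial.X (i, (1 : Fin 2))
  choose w hw using fun v : Fin n × Fin 2 => hL.surj (Ideal.Quotient.mk J (MvPolynomial.X v))
  let e := MvPolynomial.eval₂Hom (Int.castRingHom B) fun i : Fin n => w (i, 0) * w (i, 1)
  have hcomp : π.comp e = (Ideal.Quotient.mk J).comp (MvPolynomial.eval₂Hom (Int.castRingHom _) z) :=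
    MvPolynomial.ringHom_ext (fun c => by simp [e]) (fun i => by simp [e, z, hw])
  have hpow : ∀ v, ∃ c, w v ^ p = (p : B) * c := fun v => (Groth.Agent.CAlgH.FrobW2.π_eq_zero_iff hL _).mp (by
    rw [map_pow, hw, ← map_pow, Ideal.Quotient.eq_zero_iff_mem]
    exact Ideal.subset_span (Set.mem_insert_of_mem _ ⟨v, rfl⟩))
  choose cp hcp using hpow
  obtain ⟨cs, hcs⟩ := (Groth.Agent.CAlgH.FrobW2.π_eq_zero_iff hL (∑ i : Fin n, w (i, 0) * w (i, 1))).mp (by
    rw [map_sum, Finset.sum_congr rfl fun i _ => (show π (w (i, 0) * w (i, 1)) =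
      Ideal.Quotient.mk J (MvPolynomial.X (i, (0 : Fin 2)) * MvPolynomial.X (i, (1 : Fin 2))) by
        rw [map_mul, map_mul, hw, hw]), ← map_sum, Ideal.Quotient.eq_zero_iff_mem]
    exact Ideal.subset_span (Set.mem_insert _ _))
  have hpp := Groth.Agent.CAlgH.FrobW2.natCast_mul_natCast hL
  have hmem : MvPolynomial.eval₂Hom (Int.castRingHom _) z Γ ∈ J := by
    rw [← Ideal.Quotient.eq_zero_iff_mem, ← RingHom.comp_apply, ← hcomp, RingHom.comp_apply,
      ← Groth.Agent.CAlgH.FrobW2.p_mul_eq_zero_iff hL]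
    have := congrArg e hΓ
    simp only [e, map_mul, map_sub, map_pow, map_sum, MvPolynomial.eval₂Hom_X', MvPolynomial.eval₂Hom_C,
      eq_intCast, Int.cast_natCast, map_natCast] at this
    simp only [e]
    rw [this, hcs, pow_eq_zero_of_le hp.two_le (by rw [pow_two, mul_mul_mul_comm, hpp, zero_mul]), zero_sub, neg_eq_zero]
    refine Finset.sum_eq_zero fun i _ => ?_
    rw [mul_pow, hcp, hcp, mul_mul_mul_comm, hpp, zero_mul]
  have h1 := coeff_eq_zero_of_mem p hp.one_lt k _ (Lam_mem k hn p _ hmem)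
  rw [Lam_eval] at h1
  exact coeff_gamma_ne p k hn Γ hΓ h1

end Groth.Agent.S13146
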