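import Groth.Statements.S13147
import Mathlib
import Groth.Agent.CAlgH.FrobW2

set_option autoImplicit false
universe u
open FrobAlg

namespace Groth.Agent.S13147

open Groth.Agent.CAlgH

/-- Let k be a perfect field of characteristic p and (A, φ) a k-algebra with a Frobenius splitting (φ
additive, φ(a^p b) = a φ(b), φ(1) = 1). The quotient of W₂(A) by the ideal generated by the Witt
vectors (0, a) with φ(a) = 0 — the ring of twisted Witt vectors of (A, φ) — is a flat lifting of A
over W₂(k): flat over W₂(k), with reduction map onto A induced by (a₀, a₁) ↦ a₀ whose kernel is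
generated by the maximal ideal of W₂(k). (The published statement also asserts that a morphism of
algebras with Frobenius splittings compatible with the splittings induces a ring map between these
quotients; that part is not stated here.) -/
theorem result
    (p : ℕ) [Fact p.Prime] (k : Type u) [Field k] [CharP k p] [PerfectRing k p]
    (A : Type u) [CommRing A] [Algebra k A] (φ : A →+ A)
    (hφ : ∀ a b : A, φ (a ^ p * b) = a * φ b) (hφ1 : φ 1 = 1) :
    FrobAlg.IsLift p k A (FrobAlg.W2 p A ⧸ FrobAlg.splitIdeal p A φ)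
      ((Ideal.Quotient.mk (FrobAlg.splitIdeal p A φ)).comp (WittGrp.truncMap p 2 (algebraMap k A)))
      (FrobAlg.splitRes p A φ) := by
  rcases subsingleton_or_nontrivial A with hA | hA
  · have hW : Subsingleton (FrobAlg.W2 p A) := ⟨fun a b => TruncatedWittVector.ext fun i => Subsingleton.elim _ _⟩
    have : Subsingleton (FrobAlg.W2 p A ⧸ FrobAlg.splitIdeal p A φ) := Ideal.Quotient.mk_surjective.subsingleton
    exact FrobW2.isLift_iff.mpr ⟨fun b _ => ⟨0, Subsingleton.elim _ _⟩, fun a => ⟨0, Subsingleton.elim _ _⟩,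
      Subsingleton.elim _ _, RingHom.ext fun _ => Subsingleton.elim _ _⟩
  have : CharP A p := charP_of_injective_algebraMap (algebraMap k A).injective p
  have hφp : ∀ a, φ (a ^ p) = a := fun a => by simpa [hφ1] using hφ a 1
  have hI : ∀ x : FrobAlg.W2 p A, x ∈ FrobAlg.splitIdeal p A φ ↔ x.coeff 0 = 0 ∧ φ (x.coeff 1) = 0 := by
    intro x
    constructor
    · intro hx
      induction hx using Submodule.span_induction with
      | mem y hy => exact ⟨by rw [← FrobW2.res_eq]; exact hy.1, hy.2⟩
      | zero => simp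
      | add y z _ _ hy hz =>
        rw [FrobW2.eq_Vv hy.1, FrobW2.eq_Vv hz.1, ← FrobW2.Vv_add]
        simp [hy.2, hz.2]
      | smul a y _ hy =>
        rw [smul_eq_mul, FrobW2.eq_Vv hy.1, FrobW2.mul_Vv]
        simp [hφ, hy.2]
    · rintro ⟨h0, h1⟩
      exact Ideal.subset_span ⟨by rw [FrobW2.res_eq]; exact h0, h1⟩
  have key : ∀ y : FrobAlg.W2 p A, y.coeff 0 = 0 → ∃ z : FrobAlg.W2 p A,
      y - (p : FrobAlg.W2 p A) * z ∈ FrobAlg.splitIdeal p A φ := fun y hy => by
    refine ⟨TruncatedWittVector.mk p ![φ (y.coeff 1), 0], ?_⟩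
    rw [FrobW2.p_mul, TruncatedWittVector.coeff_mk, hI, FrobW2.eq_Vv hy, ← FrobW2.Vv_sub]
    simp [hφp]
  refine FrobW2.isLift_iff.mpr ⟨?_, ?_, ?_, ?_⟩
  · intro b hb
    obtain ⟨y, rfl⟩ := Ideal.Quotient.mk_surjective b
    rw [← map_natCast (Ideal.Quotient.mk (FrobAlg.splitIdeal p A φ)), ← map_mul, Ideal.Quotient.eq_zero_iff_mem,
      hI, FrobW2.p_mul] at hb
    have h0 : y.coeff 0 = 0 := by simpa [hφp] using hb.2
    obtain ⟨z, hz⟩ := key y h0
    exact ⟨Ideal.Quotient.mk _ z, by
      rw [← map_natCast (Ideal.Quotient.mk (FrobAlg.splitIdeal p A φ)), ← map_mul, Ideal.Quotient.eq]; exact hz⟩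
  · intro a
    refine ⟨Ideal.Quotient.mk _ (TruncatedWittVector.mk p ![a, 0]), ?_⟩
    show FrobAlg.res p A _ = a
    rw [FrobW2.res_eq, TruncatedWittVector.coeff_mk]
    rfl
  · refine le_antisymm ?_ (Ideal.span_le.mpr (Set.singleton_subset_iff.mpr ?_))
    · intro b hb
      obtain ⟨y, rfl⟩ := Ideal.Quotient.mk_surjective b
      obtain ⟨z, hz⟩ := key y (by rw [← FrobW2.res_eq]; exact hb)
      rw [Ideal.mem_span_singleton']
      refine ⟨Ideal.Quotient.mk _ z, ?_⟩
      rw [mul_comm, ← map_natCast (Ideal.Quotient.mk (FrobAlg.splitIdeal p A φ)), ← map_mul, eq_comm, Ideal.Quotient.eq]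
      exact hz
    · rw [SetLike.mem_coe, RingHom.mem_ker, map_natCast]
      exact CharP.cast_eq_zero A p
  · refine RingHom.ext fun x => ?_
    show FrobAlg.res p A (WittGrp.truncMap p 2 (algebraMap k A) x) = algebraMap k A (FrobAlg.res p k x)
    rw [FrobW2.res_eq, FrobW2.res_eq, WittGrp.coeff_truncMap]

end Groth.Agent.S13147
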