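import Groth.Statements.S13148
import Mathlib
import Groth.Agent.CAlgH.FrobW2
import Groth.Agent.SmoothReduced.Basic

set_option autoImplicit false
universe u
open FrobAlg

namespace Groth.Agent.S13148

open WittVector in
theorem fliftable_of_reduced (p : ℕ) [Fact p.Prime] (k : Type u) [Field k] [CharP k p] [PerfectRing k p]
    (A : Type u) [CommRing A] [Algebra k A] [CharP A p] [IsReduced A] [Algebra.FormallySmooth k A] :
    FrobAlg.IsFLiftable p k A := by
  classical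
  have pow_ne : (p : ℕ) ≠ 0 := (Fact.out : p.Prime).ne_zero
  let I : Ideal (FrobAlg.W2 p A) :=
    { carrier := {x | ∃ c : A, x = Groth.Agent.CAlgH.FrobW2.Vv (c ^ p)}
      zero_mem' := ⟨0, by rw [zero_pow pow_ne, Groth.Agent.CAlgH.FrobW2.Vv_zero]⟩
      add_mem' := by
        rintro _ _ ⟨a, rfl⟩ ⟨b, rfl⟩
        exact ⟨a + b, by rw [add_pow_char, Groth.Agent.CAlgH.FrobW2.Vv_add]⟩
      smul_mem' := by
        rintro w _ ⟨a, rfl⟩
        exact ⟨w.coeff 0 * a, by rw [smul_eq_mul, Groth.Agent.CAlgH.FrobW2.mul_Vv, mul_pow]⟩ }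
  let mk := Ideal.Quotient.mk I
  let mW : FrobAlg.W2 p k →+* FrobAlg.W2 p A := WittGrp.truncMap p 2 (algebraMap k A)
  have hmW : ∀ w, (mW w).coeff 0 = algebraMap k A (w.coeff 0) := fun w => WittGrp.coeff_truncMap _ _ _ _ _
  have hpI : (p : FrobAlg.W2 p A) ∈ I := ⟨1, by rw [one_pow, Groth.Agent.CAlgH.FrobW2.p_eq]⟩
  have hresk : Function.Surjective (FrobAlg.res p k) := fun c =>
    ⟨TruncatedWittVector.mk p ![c, 0], by rw [Groth.Agent.CAlgH.FrobW2.res_eq, TruncatedWittVector.coeff_mk]; rfl⟩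
  have hker : RingHom.ker (FrobAlg.res p k) ≤ RingHom.ker (mk.comp mW) := by
    rw [Groth.Agent.CAlgH.FrobW2.ker_res, Ideal.span_le, Set.singleton_subset_iff, SetLike.mem_coe, RingHom.mem_ker,
      RingHom.comp_apply, map_natCast mW]
    exact Ideal.Quotient.eq_zero_iff_mem.mpr hpI
  let g : k →+* FrobAlg.W2 p A ⧸ I := RingHom.liftOfSurjective (FrobAlg.res p k) hresk ⟨mk.comp mW, hker⟩
  have hg : ∀ w, g (FrobAlg.res p k w) = mk (mW w) := fun w =>
    RingHom.liftOfRightInverse_comp_apply _ _ _ _ w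
  letI : Algebra k (FrobAlg.W2 p A ⧸ I) := g.toAlgebra
  let q₀ : FrobAlg.W2 p A ⧸ I →+* A := Ideal.Quotient.lift I (FrobAlg.res p A) (by
    rintro _ ⟨c, rfl⟩
    rw [Groth.Agent.CAlgH.FrobW2.res_eq, Groth.Agent.CAlgH.FrobW2.Vv_coeff0])
  let q : FrobAlg.W2 p A ⧸ I →ₐ[k] A := ⟨q₀, fun c => by
    obtain ⟨w, rfl⟩ := hresk c
    show q₀ (g _) = _
    rw [hg]
    show FrobAlg.res p A (mW w) = _
    rw [Groth.Agent.CAlgH.FrobW2.res_eq, Groth.Agent.CAlgH.FrobW2.res_eq, hmW]⟩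
  have hq : Function.Surjective q := fun a =>
    ⟨mk (TruncatedWittVector.mk p ![a, 0]), by
      show FrobAlg.res p A _ = a
      rw [Groth.Agent.CAlgH.FrobW2.res_eq, TruncatedWittVector.coeff_mk]; rfl⟩
  have hnil : IsNilpotent (RingHom.ker (q : FrobAlg.W2 p A ⧸ I →+* A)) := by
    refine ⟨2, ?_⟩
    rw [pow_two, Ideal.zero_eq_bot, eq_bot_iff, Ideal.mul_le]
    intro x hx y hy
    obtain ⟨x, rfl⟩ := Ideal.Quotient.mk_surjective x
    obtain ⟨y, rfl⟩ := Ideal.Quotient.mk_surjective y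
    have hx' : x.coeff 0 = 0 := (Groth.Agent.CAlgH.FrobW2.res_eq x).symm.trans hx
    have hy' : y.coeff 0 = 0 := (Groth.Agent.CAlgH.FrobW2.res_eq y).symm.trans hy
    rw [← map_mul, Groth.Agent.CAlgH.FrobW2.eq_Vv hy', Groth.Agent.CAlgH.FrobW2.mul_Vv, hx', zero_pow pow_ne, zero_mul, Groth.Agent.CAlgH.FrobW2.Vv_zero, map_zero]
    exact Ideal.zero_mem _
  let s : A →ₐ[k] FrobAlg.W2 p A ⧸ I := Algebra.FormallySmooth.liftOfSurjective (AlgHom.id k A) q hq hnil
  have hs : ∀ a, q (s a) = a := fun a =>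
    Algebra.FormallySmooth.liftOfSurjective_apply (AlgHom.id k A) q hq hnil a
  let S : Subring (FrobAlg.W2 p A) := Subring.comap mk (s : A →+* FrobAlg.W2 p A ⧸ I).range
  have hmem : ∀ x, x ∈ S ↔ ∃ a, s a = mk x := fun x => Iff.rfl
  have hι : ∀ w, mW w ∈ S := fun w => (hmem _).mpr
    ⟨algebraMap k A (FrobAlg.res p k w), (s.commutes _).trans (hg w)⟩
  have hIS : ∀ x ∈ I, x ∈ S := fun x hx => (hmem _).mpr
    ⟨0, by rw [map_zero]; exact (Ideal.Quotient.eq_zero_iff_mem.mpr hx).symm⟩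
  have hFs : ∀ x ∈ S, WittGrp.frob p 2 (CharP.cast_eq_zero A p) x ∈ S := by
    intro x hx
    let t : FrobAlg.W2 p A := WittVector.truncate 2 (WittVector.teichmuller p (x.coeff 0))
    have ht : ∀ i, (WittGrp.frob p 2 (CharP.cast_eq_zero A p) t).coeff i = (t ^ p).coeff i := by
      intro i
      rw [show t ^ p = WittVector.truncate 2 (WittVector.teichmuller p (x.coeff 0 ^ p)) by simp only [t, map_pow]]
      simp only [t, WittGrp.coeff_frob, WittVector.coeff_truncate]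
      fin_cases i
      · simp [-map_pow, WittVector.teichmuller_coeff_zero]
      · simp [-map_pow, WittVector.teichmuller_coeff_pos, zero_pow pow_ne]
    have h0 : (x - t).coeff 0 = 0 := by
      rw [← Groth.Agent.CAlgH.FrobW2.res_eq, map_sub, Groth.Agent.CAlgH.FrobW2.res_eq, Groth.Agent.CAlgH.FrobW2.res_eq, sub_eq_zero]
      simp only [t, WittVector.coeff_truncate]
      exact (WittVector.teichmuller_coeff_zero _ _).symm
    set v := x - t with hv
    have hxtv : x = t + v := by rw [hv]; ring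
    have hFv : WittGrp.frob p 2 (CharP.cast_eq_zero A p) v = Groth.Agent.CAlgH.FrobW2.Vv (v.coeff 1 ^ p) :=
      Groth.Agent.CAlgH.FrobW2.ext2 (by rw [WittGrp.coeff_frob, Groth.Agent.CAlgH.FrobW2.Vv_coeff0, h0, zero_pow pow_ne])
        (by rw [WittGrp.coeff_frob, Groth.Agent.CAlgH.FrobW2.Vv_coeff1])
    have hxp : x ^ p = WittGrp.frob p 2 (CharP.cast_eq_zero A p) t := by
      obtain ⟨r, hr⟩ := exists_add_pow_prime_eq (R := FrobAlg.W2 p A) (Fact.out : p.Prime) t v
      rw [hxtv, hr, TruncatedWittVector.ext ht]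
      have h2 : v ^ p = 0 := pow_eq_zero_of_le (Fact.out : p.Prime).two_le (by
        rw [pow_two, Groth.Agent.CAlgH.FrobW2.eq_Vv h0, Groth.Agent.CAlgH.FrobW2.mul_Vv, Groth.Agent.CAlgH.FrobW2.Vv_coeff0, zero_pow pow_ne, zero_mul, Groth.Agent.CAlgH.FrobW2.Vv_zero])
      have h3 : (p : FrobAlg.W2 p A) * v = 0 := by
        rw [Groth.Agent.CAlgH.FrobW2.p_mul, h0, zero_pow pow_ne, Groth.Agent.CAlgH.FrobW2.Vv_zero]
      rw [show (p : FrobAlg.W2 p A) * t * v * r = (p * v) * (t * r) by ring, h2, h3, zero_mul, add_zero, add_zero]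
    rw [hxtv, map_add, hFv, ← hxp]
    exact add_mem (pow_mem hx p) (hIS _ ⟨_, rfl⟩)
  have hsurj : ∀ a, ∃ b : S, (b : FrobAlg.W2 p A).coeff 0 = a := fun a => by
    obtain ⟨x, hx⟩ := Ideal.Quotient.mk_surjective (s a)
    refine ⟨⟨x, (hmem _).mpr ⟨a, hx.symm⟩⟩, ?_⟩
    rw [← Groth.Agent.CAlgH.FrobW2.res_eq]
    exact (congrArg q hx).trans (hs a)
  have hpS : ∀ b : S, ((p : S) * b : FrobAlg.W2 p A) = Groth.Agent.CAlgH.FrobW2.Vv ((b : FrobAlg.W2 p A).coeff 0 ^ p) := fun b => by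
    push_cast
    exact Groth.Agent.CAlgH.FrobW2.p_mul _
  have hk : ∀ b : S, (b : FrobAlg.W2 p A).coeff 0 = 0 → ∃ b', b = (p : S) * b' := fun b hb => by
    obtain ⟨a, ha⟩ := (hmem _).mp b.2
    have : a = 0 := by
      rw [← hs a, ha]
      exact (Groth.Agent.CAlgH.FrobW2.res_eq _).trans hb
    rw [this, map_zero, eq_comm] at ha
    obtain ⟨c, hc⟩ := Ideal.Quotient.eq_zero_iff_mem.mp ha
    obtain ⟨b', hb'⟩ := hsurj c
    exact ⟨b', Subtype.ext (by rw [hc, Subring.coe_mul, hpS, hb'])⟩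
  let π : S →+* A := (FrobAlg.res p A).comp S.subtype
  have hπ : ∀ b : S, π b = (b : FrobAlg.W2 p A).coeff 0 := fun b => Groth.Agent.CAlgH.FrobW2.res_eq _
  refine ⟨S, inferInstance, mW.codRestrict S hι, π,
    ((WittGrp.frob p 2 (CharP.cast_eq_zero A p)).comp S.subtype).codRestrict S (fun x => hFs x.1 x.2),
    ⟨Groth.Agent.CAlgH.FrobW2.isLift_iff.mpr ⟨?_, ?_, ?_, ?_⟩, ?_, ?_⟩⟩
  · intro b hb
    refine hk b (eq_zero_of_pow_eq_zero (n := p) ?_)
    have := congrArg (fun z : S => (z : FrobAlg.W2 p A).coeff 1) hb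
    simpa [Subring.coe_mul, Groth.Agent.CAlgH.FrobW2.p_mul, TruncatedWittVector.coeff_zero] using this
  · intro a
    obtain ⟨b, hb⟩ := hsurj a
    exact ⟨b, (hπ b).trans hb⟩
  · refine le_antisymm (fun b hb => ?_) (Ideal.span_le.mpr (Set.singleton_subset_iff.mpr ?_))
    · obtain ⟨b', rfl⟩ := hk b ((hπ b).symm.trans hb)
      exact Ideal.mem_span_singleton.mpr ⟨b', rfl⟩
    · show π (p : S) = 0
      rw [map_natCast, CharP.cast_eq_zero]
  · ext w
    show π ⟨mW w, hι w⟩ = _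
    rw [hπ]
    exact (hmW w).trans (by rw [RingHom.comp_apply, Groth.Agent.CAlgH.FrobW2.res_eq])
  · refine RingHom.ext fun w => Subtype.ext (TruncatedWittVector.ext fun i => ?_)
    show (WittGrp.frob p 2 (CharP.cast_eq_zero A p) (mW w)).coeff i = (mW (WittGrp.frob p 2 (CharP.cast_eq_zero k p) w)).coeff i
    simp only [mW, WittGrp.coeff_frob, WittGrp.coeff_truncMap, map_pow]
  · intro b
    rw [hπ, hπ]
    exact WittGrp.coeff_frob p 2 (CharP.cast_eq_zero A p) _ _


/-- Over a perfect field k of characteristic p, every smooth affine scheme Spec A admits a flat lifting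
over W₂(k) together with a lifting of Frobenius (not necessarily unique). -/
theorem result
    (p : ℕ) [Fact p.Prime] (k : Type u) [Field k] [CharP k p] [PerfectRing k p]
    (A : Type u) [CommRing A] [Algebra k A] [Algebra.Smooth k A] :
    FrobAlg.IsFLiftable p k A := by
  rcases subsingleton_or_nontrivial A with hA | hA
  · exact ⟨A, inferInstance, (algebraMap k A).comp (FrobAlg.res p k), RingHom.id A, RingHom.id A,
      ⟨Groth.Agent.CAlgH.FrobW2.isLift_iff.mpr ⟨fun b _ => ⟨0, Subsingleton.elim _ _⟩, fun a => ⟨a, rfl⟩,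
        Subsingleton.elim _ _, RingHom.id_comp _⟩, RingHom.ext fun _ => Subsingleton.elim _ _,
        fun _ => Subsingleton.elim _ _⟩⟩
  have : CharP A p := charP_of_injective_algebraMap (algebraMap k A).injective p
  have : IsReduced A := Groth.Agent.SmoothReduced.isReduced_of_smooth k A
  exact fliftable_of_reduced p k A

end Groth.Agent.S13148
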