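import Groth.Statements.S13149
import Mathlib

set_option autoImplicit false
universe u
open CAlg

namespace Groth.Agent.S13149

/-- Let A be a local ring and ρ a map from the points of the projective plane over F_p to the points of
the projective plane over A (vectors with a unit coordinate, up to units) taking collinear triples
to collinear triples (three points are collinear when a vector with a unit coordinate is orthogonal
to all three). If ρ sends the standard frame (1:0:0), (0:1:0), (0:0:1), (1:1:1) to four points in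
general position, then p = 0 in A. (The published statement asks only that ρ preserve collinearity;
a constant map does so over any ring, and the published argument begins by moving the images of the
standard frame to the standard frame, which needs them in general position — that condition is made
a hypothesis here.) -/
theorem result
    (p : ℕ) [Fact p.Prime] (A : Type u) [CommRing A] [IsLocalRing A]
    (ρ : (Fin 3 → ZMod p) → (Fin 3 → A))
    (hpt : ∀ v : Fin 3 → ZMod p, v ≠ 0 → ∃ i, IsUnit (ρ v i))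
    (hcol : ∀ u v w : Fin 3 → ZMod p, u ≠ 0 → v ≠ 0 → w ≠ 0 →
      Matrix.det (Matrix.of ![u, v, w]) = 0 →
      ∃ n : Fin 3 → A, (∃ i, IsUnit (n i)) ∧
        dotProduct (ρ u) n = 0 ∧ dotProduct (ρ v) n = 0 ∧ dotProduct (ρ w) n = 0)
    (hgen : IsUnit (Matrix.det (Matrix.of ![ρ (Pi.single 0 1), ρ (Pi.single 1 1), ρ (Pi.single 2 1)])) ∧
      IsUnit (Matrix.det (Matrix.of ![ρ (Pi.single 0 1), ρ (Pi.single 1 1), ρ (fun _ => 1)])) ∧
      IsUnit (Matrix.det (Matrix.of ![ρ (Pi.single 0 1), ρ (Pi.single 2 1), ρ (fun _ => 1)])) ∧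
      IsUnit (Matrix.det (Matrix.of ![ρ (Pi.single 1 1), ρ (Pi.single 2 1), ρ (fun _ => 1)]))) :
    (p : A) = 0 := by
  classical
  obtain ⟨h012, h01u, h02u, h12u⟩ := hgen
  -- the basis matrix (columns) and the coordinates of the unit point
  let E : Matrix (Fin 3) (Fin 3) A := Matrix.of fun i j => ρ (Pi.single j 1) i
  have hE : IsUnit E.det := by
    have : E = (Matrix.of ![ρ (Pi.single 0 1), ρ (Pi.single 1 1), ρ (Pi.single 2 1)]).transpose := by
      ext i j; fin_cases j <;> rfl
    rw [this, Matrix.det_transpose]; exact h012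
  let u : Fin 3 → A := ρ fun _ => 1
  let c : Fin 3 → A := E⁻¹.mulVec u
  have hEc : E.mulVec c = u := by rw [Matrix.mulVec_mulVec, Matrix.mul_nonsing_inv _ hE, Matrix.one_mulVec]
  have huc : ∀ i, u i = ρ (Pi.single 0 1) i * c 0 + ρ (Pi.single 1 1) i * c 1 + ρ (Pi.single 2 1) i * c 2 := fun i => by
    rw [← hEc]; simp [Matrix.mulVec, dotProduct, Fin.sum_univ_three, E]
  have hc : ∀ i, IsUnit (c i) := by
    intro i
    fin_cases i
    · have : (Matrix.of ![ρ (Pi.single 1 1), ρ (Pi.single 2 1), u]).det =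
          c 0 * (Matrix.of ![ρ (Pi.single 0 1), ρ (Pi.single 1 1), ρ (Pi.single 2 1)]).det := by
        simp [Matrix.det_fin_three, huc]; ring
      exact isUnit_of_mul_isUnit_left (this ▸ h12u)
    · have : (Matrix.of ![ρ (Pi.single 0 1), ρ (Pi.single 2 1), u]).det =
          -c 1 * (Matrix.of ![ρ (Pi.single 0 1), ρ (Pi.single 1 1), ρ (Pi.single 2 1)]).det := by
        simp [Matrix.det_fin_three, huc]; ring
      exact (IsUnit.neg_iff _).mp (isUnit_of_mul_isUnit_left (this ▸ h02u))
    · have : (Matrix.of ![ρ (Pi.single 0 1), ρ (Pi.single 1 1), u]).det =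
          c 2 * (Matrix.of ![ρ (Pi.single 0 1), ρ (Pi.single 1 1), ρ (Pi.single 2 1)]).det := by
        simp [Matrix.det_fin_three, huc]; ring
      exact isUnit_of_mul_isUnit_left (this ▸ h01u)
  let M : Matrix (Fin 3) (Fin 3) A := E * Matrix.diagonal c
  have hM : IsUnit M.det := by
    rw [Matrix.det_mul, Matrix.det_diagonal]
    exact hE.mul (IsUnit.prod_univ_iff.mpr hc)
  let σ : (Fin 3 → ZMod p) → (Fin 3 → A) := fun v => M⁻¹.mulVec (ρ v)
  have hMσ : ∀ v, M.mulVec (σ v) = ρ v := fun v => by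
    rw [Matrix.mulVec_mulVec, Matrix.mul_nonsing_inv _ hM, Matrix.one_mulVec]
  have hσ : ∀ v w, M.mulVec w = ρ v → σ v = w := fun v w h => by
    show M⁻¹.mulVec (ρ v) = w
    rw [← h, Matrix.mulVec_mulVec, Matrix.nonsing_inv_mul _ hM, Matrix.one_mulVec]
  -- vectors with all coordinates in the maximal ideal
  have hmax : ∀ (N : Matrix (Fin 3) (Fin 3) A) (w : Fin 3 → A), (∃ i, IsUnit (N.mulVec w i)) → ∃ i, IsUnit (w i) := by
    intro N w ⟨i, hi⟩
    by_contra! h
    refine (IsLocalRing.mem_maximalIdeal _).mp ?_ hi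
    show ∑ j, N i j * w j ∈ IsLocalRing.maximalIdeal A
    exact sum_mem fun j _ => Ideal.mul_mem_left _ _ ((IsLocalRing.mem_maximalIdeal _).mpr (h j))
  have hunit : ∀ v, v ≠ 0 → ∃ i, IsUnit (σ v i) := fun v hv => hmax M _ (by rw [hMσ]; exact hpt v hv)
  have hline : ∀ a b d : Fin 3 → ZMod p, a ≠ 0 → b ≠ 0 → d ≠ 0 → Matrix.det (Matrix.of ![a, b, d]) = 0 →
      ∃ n : Fin 3 → A, (∃ i, IsUnit (n i)) ∧ (σ a 0 * n 0 + σ a 1 * n 1 + σ a 2 * n 2 = 0) ∧
        (σ b 0 * n 0 + σ b 1 * n 1 + σ b 2 * n 2 = 0) ∧ (σ d 0 * n 0 + σ d 1 * n 1 + σ d 2 * n 2 = 0) := by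
    intro a b d ha hb hd hdet
    obtain ⟨n, hn, h1, h2, h3⟩ := hcol a b d ha hb hd hdet
    have hdot : ∀ v, ρ v ⬝ᵥ n = 0 → σ v 0 * M.transpose.mulVec n 0 + σ v 1 * M.transpose.mulVec n 1 + σ v 2 * M.transpose.mulVec n 2 = 0 := by
      intro v hv
      rw [← hMσ v] at hv
      simp only [Matrix.mulVec, dotProduct, Fin.sum_univ_three, Matrix.transpose_apply] at hv ⊢
      linear_combination hv
    refine ⟨M.transpose.mulVec n, hmax (M⁻¹).transpose _ ?_, hdot a h1, hdot b h2, hdot d h3⟩
    rw [Matrix.mulVec_mulVec, ← Matrix.transpose_mul, Matrix.mul_nonsing_inv _ hM, Matrix.transpose_one, Matrix.one_mulVec]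
    exact hn
  -- the frame
  have hse : ∀ j, σ (Pi.single j 1) = fun i => if i = j then ↑(hc j).unit⁻¹ else 0 := fun j => hσ _ _ <| by
    funext i
    simp only [M, Matrix.mulVec, dotProduct, Matrix.mul_diagonal, mul_ite, mul_zero, Finset.sum_ite_eq', Finset.mem_univ, if_true]
    rw [mul_assoc, IsUnit.mul_val_inv, mul_one]
    rfl
  have hsu : σ (fun _ => 1) = fun _ => 1 := hσ _ _ <| by
    funext i
    show _ = u i
    rw [huc]
    simp [M, Matrix.mulVec, dotProduct, Fin.sum_univ_three, Matrix.mul_diagonal, E]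
  have kill : ∀ {j : Fin 3} {x : A}, ↑(hc j).unit⁻¹ * x = 0 → x = 0 := fun {j x} h => by
    simpa [← mul_assoc] using congrArg (c j * ·) h
  -- `(1 : 1 : 0)`
  obtain ⟨hR2, hR01, hR⟩ : σ ![1, 1, 0] 2 = 0 ∧ σ ![1, 1, 0] 0 = σ ![1, 1, 0] 1 ∧ IsUnit (σ ![1, 1, 0] 0) := by
    obtain ⟨n, ⟨i, hi⟩, h1, h2, h3⟩ := hline (Pi.single 0 1) (Pi.single 1 1) ![1, 1, 0] (by simp)
      (by simp) (fun h => by simpa using congrFun h 0) (by simp [Matrix.det_fin_three])
    simp [hse] at h1 h2
    obtain ⟨n', ⟨i', hi'⟩, h1', h2', h3'⟩ := hline (Pi.single 2 1) (fun _ => 1) ![1, 1, 0] (by simp)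
      (fun h => by simpa using congrFun h 0) (fun h => by simpa using congrFun h 0) (by simp [Matrix.det_fin_three])
    simp [hse, hsu] at h1' h2'
    have hn2 : IsUnit (n 2) := by
      have e0 : n 0 = 0 := by simpa using h1
      have e1 : n 1 = 0 := by simpa using h2
      fin_cases i
      · exact absurd (e0 ▸ hi) not_isUnit_zero
      · exact absurd (e1 ▸ hi) not_isUnit_zero
      · exact hi
    have e0 : n 0 = 0 := by simpa using h1
    have e1 : n 1 = 0 := by simpa using h2
    rw [e0, e1, mul_zero, mul_zero, zero_add, zero_add] at h3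
    have f2 : n' 2 = 0 := by simpa using h1'
    have hn1 : IsUnit (n' 1) := by
      fin_cases i'
      · exact (IsUnit.neg_iff _).mp (show IsUnit (-n' 1) by rw [show -n' 1 = n' 0 by linear_combination -(h2') + f2]; exact hi')
      · exact hi'
      · exact absurd (f2 ▸ hi') not_isUnit_zero
    have r2 : σ ![1, 1, 0] 2 = 0 := (hn2.mul_left_eq_zero).mp h3
    have r01 : σ ![1, 1, 0] 0 = σ ![1, 1, 0] 1 := by
      refine (sub_eq_zero.mp (hn1.mul_left_eq_zero.mp ?_)).symm
      linear_combination h3' - σ ![1, 1, 0] 0 * h2' + (σ ![1, 1, 0] 0 - σ ![1, 1, 0] 2) * f2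
    obtain ⟨k, hk⟩ := hunit ![1, 1, 0] (fun h => by simpa using congrFun h 0)
    refine ⟨r2, r01, ?_⟩
    fin_cases k
    · exact hk
    · rw [r01]; exact hk
    · exact absurd (r2 ▸ hk) not_isUnit_zero
  have step : ∀ n : ℕ, σ ![(n : ZMod p), 0, 1] 1 = 0 ∧ σ ![(n : ZMod p), 0, 1] 0 = (n : A) * σ ![(n : ZMod p), 0, 1] 2 ∧
      IsUnit (σ ![(n : ZMod p), 0, 1] 2) := by
    intro n
    induction n with
    | zero =>
      rw [show (![((0 : ℕ) : ZMod p), 0, 1] : Fin 3 → ZMod p) = Pi.single 2 1 by ext k; fin_cases k <;> simp, hse]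
      simp
    | succ n ih =>
      obtain ⟨hP1, hP0, hP⟩ := ih
      -- `T = (n + 1 : 1 : 1)`
      obtain ⟨hT12, hT0, hT⟩ : σ ![(n : ZMod p) + 1, 1, 1] 1 = σ ![(n : ZMod p) + 1, 1, 1] 2 ∧
          σ ![(n : ZMod p) + 1, 1, 1] 0 = ((n : A) + 1) * σ ![(n : ZMod p) + 1, 1, 1] 2 ∧ IsUnit (σ ![(n : ZMod p) + 1, 1, 1] 2) := by
        obtain ⟨l, ⟨i, hi⟩, h1, h2, h3⟩ := hline (Pi.single 0 1) (fun _ => 1) ![(n : ZMod p) + 1, 1, 1] (by simp)
          (fun h => by simpa using congrFun h 0) (fun h => by simpa using congrFun h 1) (by simp [Matrix.det_fin_three])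
        simp [hse, hsu] at h1 h2
        have e0 : l 0 = 0 := by simpa using h1
        have hl : IsUnit (l 1) := by
          fin_cases i
          · exact absurd (e0 ▸ hi) not_isUnit_zero
          · exact hi
          · exact (IsUnit.neg_iff _).mp (show IsUnit (-l 1) by rw [show -l 1 = l 2 by linear_combination -(h2) + e0]; exact hi)
        have t12 : σ ![(n : ZMod p) + 1, 1, 1] 1 = σ ![(n : ZMod p) + 1, 1, 1] 2 := by
          refine sub_eq_zero.mp (hl.mul_left_eq_zero.mp ?_)
          linear_combination h3 - σ ![(n : ZMod p) + 1, 1, 1] 2 * h2 + (σ ![(n : ZMod p) + 1, 1, 1] 2 - σ ![(n : ZMod p) + 1, 1, 1] 0) * e0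
        obtain ⟨m, ⟨i, hi⟩, k1, k2, k3⟩ := hline ![(n : ZMod p), 0, 1] ![1, 1, 0] ![(n : ZMod p) + 1, 1, 1]
          (fun h => by simpa using congrFun h 2) (fun h => by simpa using congrFun h 0) (fun h => by simpa using congrFun h 1)
          (by simp [Matrix.det_fin_three])
        have g2 : (n : A) * m 0 + m 2 = 0 := by
          refine hP.mul_left_eq_zero.mp ?_
          linear_combination k1 - m 1 * hP1 - m 0 * hP0
        have g1 : m 0 + m 1 = 0 := by
          refine hR.mul_left_eq_zero.mp ?_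
          linear_combination k2 + m 1 * hR01 - m 2 * hR2
        have hm : IsUnit (m 0) := by
          by_contra h
          have h' := (IsLocalRing.mem_maximalIdeal _).mpr h
          fin_cases i
          · exact h hi
          · exact (IsLocalRing.mem_maximalIdeal _).mp (show m 1 ∈ IsLocalRing.maximalIdeal A by
              rw [show m 1 = -m 0 by linear_combination g1]; exact neg_mem h') hi
          · exact (IsLocalRing.mem_maximalIdeal _).mp (show m 2 ∈ IsLocalRing.maximalIdeal A by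
              rw [show m 2 = -((n : A) * m 0) by linear_combination g2]; exact neg_mem (Ideal.mul_mem_left _ _ h')) hi
        have t0 : σ ![(n : ZMod p) + 1, 1, 1] 0 = ((n : A) + 1) * σ ![(n : ZMod p) + 1, 1, 1] 2 := by
          refine sub_eq_zero.mp (hm.mul_left_eq_zero.mp ?_)
          linear_combination k3 - σ ![(n : ZMod p) + 1, 1, 1] 1 * g1 - σ ![(n : ZMod p) + 1, 1, 1] 2 * g2 + m 0 * t12
        obtain ⟨k, hk⟩ := hunit ![(n : ZMod p) + 1, 1, 1] (fun h => by simpa using congrFun h 1)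
        refine ⟨t12, t0, ?_⟩
        fin_cases k
        · exact isUnit_of_mul_isUnit_right (t0 ▸ hk)
        · rw [← t12]; exact hk
        · exact hk
      have hcast : ((n + 1 : ℕ) : ZMod p) = (n : ZMod p) + 1 := Nat.cast_succ n
      rw [hcast, Nat.cast_succ]
      obtain ⟨l, ⟨i, hi⟩, h1, h2, h3⟩ := hline (Pi.single 0 1) (Pi.single 2 1) ![(n : ZMod p) + 1, 0, 1] (by simp)
        (by simp) (fun h => by simpa using congrFun h 2) (by simp [Matrix.det_fin_three])
      simp [hse] at h1 h2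
      have e0 : l 0 = 0 := by simpa using h1
      have e2 : l 2 = 0 := by simpa using h2
      have hl : IsUnit (l 1) := by
        fin_cases i
        · exact absurd (e0 ▸ hi) not_isUnit_zero
        · exact hi
        · exact absurd (e2 ▸ hi) not_isUnit_zero
      have p1 : σ ![(n : ZMod p) + 1, 0, 1] 1 = 0 := by
        refine hl.mul_left_eq_zero.mp ?_
        linear_combination h3 - σ ![(n : ZMod p) + 1, 0, 1] 0 * e0 - σ ![(n : ZMod p) + 1, 0, 1] 2 * e2
      obtain ⟨m, ⟨j, hj⟩, k1, k2, k3⟩ := hline ![(n : ZMod p) + 1, 1, 1] (Pi.single 1 1) ![(n : ZMod p) + 1, 0, 1]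
        (fun h => by simpa using congrFun h 1) (by simp) (fun h => by simpa using congrFun h 2)
        (by simp [Matrix.det_fin_three])
      simp [hse] at k2
      have g1 : m 1 = 0 := by simpa using k2
      have g2 : ((n : A) + 1) * m 0 + m 2 = 0 := by
        refine hT.mul_left_eq_zero.mp ?_
        linear_combination k1 - m 0 * hT0 - σ ![(n : ZMod p) + 1, 1, 1] 1 * g1
      have hm : IsUnit (m 0) := by
        by_contra h
        have h' := (IsLocalRing.mem_maximalIdeal _).mpr h
        fin_cases j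
        · exact h hj
        · exact absurd (g1 ▸ hj) not_isUnit_zero
        · exact (IsLocalRing.mem_maximalIdeal _).mp (show m 2 ∈ IsLocalRing.maximalIdeal A by
            rw [show m 2 = -(((n : A) + 1) * m 0) by linear_combination g2]; exact neg_mem (Ideal.mul_mem_left _ _ h')) hj
      have p0 : σ ![(n : ZMod p) + 1, 0, 1] 0 = ((n : A) + 1) * σ ![(n : ZMod p) + 1, 0, 1] 2 := by
        refine sub_eq_zero.mp (hm.mul_left_eq_zero.mp ?_)
        linear_combination k3 - σ ![(n : ZMod p) + 1, 0, 1] 2 * g2 - σ ![(n : ZMod p) + 1, 0, 1] 1 * g1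
      obtain ⟨k, hk⟩ := hunit ![(n : ZMod p) + 1, 0, 1] (fun h => by simpa using congrFun h 2)
      refine ⟨p1, p0, ?_⟩
      fin_cases k
      · exact isUnit_of_mul_isUnit_right (p0 ▸ hk)
      · exact absurd (p1 ▸ hk) not_isUnit_zero
      · exact hk
  obtain ⟨-, h0, hu⟩ := step p
  obtain ⟨-, h0', -⟩ := step 0
  rw [ZMod.natCast_self] at h0 hu
  rw [Nat.cast_zero, Nat.cast_zero, zero_mul] at h0'
  exact (hu.mul_left_eq_zero).mp (h0.symm.trans h0')

end Groth.Agent.S13149
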