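import Groth.Statements.S13150
import Mathlib
import Groth.Agent.CAlgH.FrobW2

set_option autoImplicit false
universe u
open FrobAlg

namespace Groth.Agent.S13150

open Groth.Agent.CAlgH WittVector

theorem ghost_one {p : ℕ} [Fact p.Prime] {B : Type*} [CommRing B] (X : WittVector p B) :
    ghostComponent 1 X = X.coeff 0 ^ p + p * X.coeff 1 := by
  rw [ghostComponent_apply, wittPolynomial_one]
  simp [add_comm]

theorem trunc_ext {p : ℕ} [Fact p.Prime] {A B : Type*} [CommRing A] [CommRing B] (f : B →+* A) (X Y : WittVector p B)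
    (h0 : f (X.coeff 0) = f (Y.coeff 0)) (h1 : f (X.coeff 1) = f (Y.coeff 1)) :
    truncate 2 (WittVector.map f X) = truncate 2 (WittVector.map f Y) :=
  FrobW2.ext2 (by simpa [coeff_truncate] using h0) (by simpa [coeff_truncate] using h1)

theorem mk_eq_add {p : ℕ} [Fact p.Prime] {R : Type u} [CommRing R] (a b : R) :
    truncate 2 (teichmuller p a) + FrobW2.Vv b = TruncatedWittVector.mk p ![a, b] := by
  rw [← teichmuller_coeff_zero p b, ← FrobW2.trunc_verschiebung, ← map_add]
  have hd : ∀ n, (teichmuller p a).coeff n = 0 ∨ (verschiebung (teichmuller p b)).coeff n = 0 := by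
    intro n
    rcases Nat.eq_zero_or_pos n with rfl | hn
    · exact Or.inr (verschiebung_coeff_zero _)
    · exact Or.inl (teichmuller_coeff_pos p _ n hn)
  refine FrobW2.ext2 ?_ ?_
  · rw [coeff_truncate, TruncatedWittVector.coeff_mk, coeff_add_of_disjoint _ _ _ hd]
    simp [verschiebung_coeff_zero, teichmuller_coeff_zero]
  · rw [coeff_truncate, TruncatedWittVector.coeff_mk, coeff_add_of_disjoint _ _ _ hd]
    simp [teichmuller_coeff_pos, verschiebung_coeff_succ, teichmuller_coeff_zero]

theorem frob_eq {p : ℕ} [Fact p.Prime] {k : Type u} [CommRing k] [CharP k p] [PerfectRing k p] (x : FrobAlg.W2 p k) :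
    FrobAlg.sigma p k x = x ^ p + (p : FrobAlg.W2 p k) * truncate 2 (teichmuller p (x.coeff 1)) := by
  have hmk : TruncatedWittVector.mk p ![x.coeff 0, x.coeff 1] = x :=
    FrobW2.ext2 (TruncatedWittVector.coeff_mk _ _) (TruncatedWittVector.coeff_mk _ _)
  have h1 : x ^ p = truncate 2 (teichmuller p (x.coeff 0)) ^ p := by
    obtain ⟨z, hz, -⟩ := FrobW2.exists_p_mul (x := FrobW2.Vv (p := p) (x.coeff 1)) (FrobW2.Vv_coeff0 _)
    obtain ⟨m, hm⟩ : ∃ m, p = m + 1 := ⟨p - 1, by have := (Fact.out : p.Prime).pos; omega⟩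
    conv_lhs => rw [← hmk, ← mk_eq_add, hz]
    rw [add_pow, Finset.sum_eq_single_of_mem p (Finset.self_mem_range_succ p)]
    · simp
    · intro i hi hne
      have hi' : i < p := lt_of_le_of_ne (Nat.le_of_lt_succ (Finset.mem_range.mp hi)) hne
      rcases Nat.lt_or_ge i (p - 1) with h | h
      · rw [mul_pow, pow_eq_zero_of_le (show 2 ≤ p - i by omega) (by rw [pow_two, FrobW2.p_mul_p]), zero_mul,
          mul_zero, zero_mul]
      · rw [show i = p - 1 by omega, show p - (p - 1) = 1 by omega, pow_one,
          ← Nat.choose_symm (by omega), show p - (p - 1) = 1 by omega, Nat.choose_one_right]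
        rw [show ∀ a z : FrobAlg.W2 p k, a * ((p : FrobAlg.W2 p k) * z) * (p : FrobAlg.W2 p k) = p * p * (a * z)
          from fun a z => by ring, FrobW2.p_mul_p, zero_mul]
  rw [h1, ← map_pow, ← map_pow, FrobW2.p_mul, coeff_truncate, mk_eq_add]
  refine FrobW2.ext2 ?_ ?_ <;> simp [WittGrp.coeff_frob, TruncatedWittVector.coeff_mk, teichmuller_coeff_zero]

/-- Let k be a perfect field of characteristic p and (B, ι, π) a flat lifting over W₂(k) of a Noetherian
k-algebra A. The Frobenius of A lifts to B (a σ₂-semilinear ring endomorphism of B reducing to the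
p-th power map) if and only if there is a ring homomorphism θ : B → W₂(A) over A (the zeroth Witt
component of θ(b) is π(b)) with θ ∘ ι equal to the map W₂(k) → W₂(A) induced by k → A. (The
published statement is for a flat W₂(k)-extension of the structure sheaf of a scheme and says: the
push-out of that extension along the Frobenius O_X → F_*O_X is isomorphic, as an extension by F_*O_X
over W₂(k), to W₂(O_X); by the universal property of the push-out this is the existence of a
morphism of extensions to W₂(O_X), which in the affine case taken here is the map θ.) -/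
theorem result
    (p : ℕ) [Fact p.Prime] (k : Type u) [Field k] [CharP k p] [PerfectRing k p]
    (A B : Type u) [CommRing A] [Algebra k A] [IsNoetherianRing A] [CommRing B]
    (ι : FrobAlg.W2 p k →+* B) (π : B →+* A) (hB : FrobAlg.IsLift p k A B ι π) :
    (∃ Φ : B →+* B, FrobAlg.IsFrobLift p k A B ι π Φ) ↔
      ∃ θ : B →+* FrobAlg.W2 p A,
        (FrobAlg.res p A).comp θ = π ∧ θ.comp ι = WittGrp.truncMap p 2 (algebraMap k A) := by
  have hπp : π (p : B) = 0 := FrobW2.π_natCast hB
  let T : WittVector p B →+* FrobAlg.W2 p A := (truncate 2).comp (WittVector.map π)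
  have hπι : ∀ y, π (ι y) = algebraMap k A (y.coeff 0) := fun y => by
    rw [← FrobW2.res_eq]; exact RingHom.congr_fun hB.comm y
  let Y : FrobAlg.W2 p k → WittVector p (FrobAlg.W2 p k) := fun x =>
    WittVector.mk p fun n => if n = 0 then x else truncate 2 (teichmuller p (x.coeff 1))
  have hY : ∀ x, ghostComponent 1 (WittVector.map ι (Y x)) = ι (FrobAlg.sigma p k x) := fun x => by
    rw [ghost_one, WittVector.map_coeff, WittVector.map_coeff, ← map_pow, ← map_natCast ι p, ← map_mul, ← map_add, frob_eq]
    rfl
  have hTY : ∀ x, T (WittVector.map ι (Y x)) = WittGrp.truncMap p 2 (algebraMap k A) x := fun x => by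
    refine FrobW2.ext2 ?_ ?_ <;>
      simp [T, Y, coeff_truncate, hπι, WittGrp.coeff_truncMap, teichmuller_coeff_zero]
  constructor
  · rintro ⟨Φ, hΦ⟩
    have hδ : ∀ b, ∃ d, Φ b - b ^ p = (p : B) * d := fun b =>
      (FrobW2.π_eq_zero_iff hB _).mp (by rw [map_sub, map_pow, hΦ.red, sub_self])
    choose δ hδ using hδ
    let X : B → WittVector p B := fun b => WittVector.mk p fun n => if n = 0 then b else δ b
    have hX0 : ∀ b, (X b).coeff 0 = b := fun b => rfl
    have hX1 : ∀ b, (X b).coeff 1 = δ b := fun b => rfl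
    have hg : ∀ b, ghostComponent 1 (X b) = Φ b := fun b => by rw [ghost_one, hX0, hX1, ← hδ]; ring
    have key : ∀ (Y : WittVector p B) (b : B), Y.coeff 0 = b → ghostComponent 1 Y = Φ b → T (X b) = T Y := by
      intro Y b h0 h1
      refine trunc_ext π _ _ (by rw [hX0, h0]) ?_
      rw [hX1]
      refine (sub_eq_zero.mp ?_)
      rw [← map_sub, ← FrobW2.p_mul_eq_zero_iff hB, mul_sub, ← hδ, ← h1, ghost_one, h0]
      ring
    let θ : B →+* FrobAlg.W2 p A :=
      { toFun := fun b => T (X b)
        map_one' := by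
          rw [key 1 1 (one_coeff_zero _ _) (by rw [map_one, map_one]), map_one]
        map_mul' := fun a b => by
          rw [key (X a * X b) (a * b) (by rw [mul_coeff_zero, hX0, hX0]) (by rw [map_mul, hg, hg, map_mul]), map_mul]
        map_zero' := by
          rw [key 0 0 (zero_coeff p B 0) (by rw [map_zero, map_zero]), map_zero]
        map_add' := fun a b => by
          rw [key (X a + X b) (a + b) (by rw [add_coeff_zero, hX0, hX0]) (by rw [map_add, hg, hg, map_add]), map_add] }
    refine ⟨θ, RingHom.ext fun b => ?_, RingHom.ext fun x => ?_⟩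
    · show FrobAlg.res p A (T (X b)) = π b
      rw [FrobW2.res_eq]
      simp [T, coeff_truncate, hX0]
    · show T (X (ι x)) = _
      rw [key (WittVector.map ι (Y x)) (ι x) rfl (by rw [hY]; exact (RingHom.congr_fun hΦ.semi x).symm), hTY]
  · rintro ⟨θ, hθπ, hθι⟩
    have hT : Function.Surjective T := (truncate_surjective p 2 A).comp (map_surjective π hB.surj)
    let w : FrobAlg.W2 p A →+* B := RingHom.liftOfSurjective T hT ⟨ghostComponent 1, fun X hX => by
      rw [RingHom.mem_ker] at hX ⊢
      have h0 : π (X.coeff 0) = 0 := by simpa [T, coeff_truncate] using congrArg (fun z => z.coeff 0) hX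
      have h1 : π (X.coeff 1) = 0 := by simpa [T, coeff_truncate] using congrArg (fun z => z.coeff 1) hX
      obtain ⟨c, hc⟩ := (FrobW2.π_eq_zero_iff hB _).mp h0
      rw [ghost_one, hc, (FrobW2.p_mul_eq_zero_iff hB _).mpr h1, add_zero, mul_pow,
        show (p : B) ^ p = 0 from pow_eq_zero_of_le (Fact.out : p.Prime).two_le (by rw [pow_two, FrobW2.natCast_mul_natCast hB]),
        zero_mul]⟩
    have hw : ∀ X, w (T X) = ghostComponent 1 X := fun X => RingHom.liftOfRightInverse_comp_apply _ _ _ _ X
    refine ⟨w.comp θ, { hB with semi := ?_, red := ?_ }⟩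
    · refine RingHom.ext fun x => ?_
      show w (θ (ι x)) = ι (FrobAlg.sigma p k x)
      rw [show θ (ι x) = T (WittVector.map ι (Y x)) from (RingHom.congr_fun hθι x).trans (hTY x).symm, hw, hY]
    · intro b
      obtain ⟨X, hX⟩ := hT (θ b)
      have h0 : π (X.coeff 0) = π b := by
        rw [← RingHom.congr_fun hθπ b]
        show _ = FrobAlg.res p A (θ b)
        rw [← hX, FrobW2.res_eq]
        simp [T, coeff_truncate]
      rw [RingHom.comp_apply, ← hX, hw, ghost_one, map_add, map_mul, hπp, zero_mul, add_zero, map_pow, h0]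

end Groth.Agent.S13150
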