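import Groth.Statements.S13151
import Mathlib.RingTheory.IntegralClosure.IntegrallyClosed
import Mathlib.RingTheory.Localization.FractionRing
import Mathlib.RingTheory.Ideal.Quotient.Operations

set_option autoImplicit false
universe u
open CAlg

namespace Groth.Agent.S13151

/-- Let A → B be an injective ring homomorphism of integral domains which is integral, with A integrally
closed, and let π be an element of A. Then the contraction to A of the ideal πB is πA, i.e. an
element of A which is a multiple of π in B is already a multiple of π in A; in particular if B/πB is
an integral domain then A/πA is an integral domain. (The published statement is for an integral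
dominant morphism of integral schemes flat over a discrete valuation ring, with normal target and π
a uniformizer; flatness and the valuation ring play no role, so π is an arbitrary element here.) -/
theorem result {A B : Type u} [CommRing A] [CommRing B]
    [IsDomain A] [IsDomain B] [IsIntegrallyClosed A] [Algebra A B] [Algebra.IsIntegral A B]
    (hinj : Function.Injective (algebraMap A B)) (π : A) :
    (Ideal.span {algebraMap A B π}).comap (algebraMap A B) = Ideal.span {π} ∧
      (IsDomain (B ⧸ Ideal.span {algebraMap A B π}) → IsDomain (A ⧸ Ideal.span {π})) := by
  have heq : (Ideal.span {algebraMap A B π}).comap (algebraMap A B) = Ideal.span {π} := by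
    refine le_antisymm (fun x hx => ?_) (fun x hx => ?_)
    · obtain ⟨y, hy⟩ := Ideal.mem_span_singleton.mp hx
      rcases eq_or_ne π 0 with rfl | hπ
      · rw [map_zero, zero_mul] at hy
        rw [hinj (hy.trans (map_zero _).symm)]
        exact Ideal.zero_mem _
      have hu : ∀ z : nonZeroDivisors A, IsUnit (algebraMap A (FractionRing B) z) := fun z => by
        rw [IsScalarTower.algebraMap_apply A B (FractionRing B)]
        exact isUnit_iff_ne_zero.mpr ((map_ne_zero_iff _ (IsFractionRing.injective B (FractionRing B))).mpr
          ((map_ne_zero_iff _ hinj).mpr (nonZeroDivisors.coe_ne_zero z)))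
      let f : FractionRing A →ₐ[A] FractionRing B :=
        IsLocalization.liftAlgHom (M := nonZeroDivisors A) (f := Algebra.ofId A (FractionRing B)) (fun z => hu z)
      let t : FractionRing A := IsLocalization.mk' _ x (⟨π, mem_nonZeroDivisors_of_ne_zero hπ⟩ : nonZeroDivisors A)
      have ht : t * algebraMap A (FractionRing A) π = algebraMap A (FractionRing A) x :=
        IsLocalization.mk'_spec (FractionRing A) x ⟨π, mem_nonZeroDivisors_of_ne_zero hπ⟩
      have hft : f t = algebraMap B (FractionRing B) y := by
        have h1 := congrArg f ht
        rw [map_mul, AlgHom.commutes, AlgHom.commutes, IsScalarTower.algebraMap_apply A B (FractionRing B) x, hy, map_mul,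
          ← IsScalarTower.algebraMap_apply] at h1
        exact (hu ⟨π, mem_nonZeroDivisors_of_ne_zero hπ⟩).mul_left_inj.mp (h1.trans (mul_comm _ _))
      have hint : IsIntegral A t := by
        rw [← isIntegral_algHom_iff f (f : FractionRing A →+* FractionRing B).injective, hft]
        exact (Algebra.IsIntegral.isIntegral (R := A) y).algebraMap
      obtain ⟨z, hz⟩ := IsIntegrallyClosed.isIntegral_iff.mp hint
      rw [← hz, ← map_mul] at ht
      exact Ideal.mem_span_singleton.mpr ⟨z, by rw [← IsFractionRing.injective A (FractionRing A) ht, mul_comm]⟩
    · obtain ⟨c, rfl⟩ := Ideal.mem_span_singleton.mp hx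
      exact Ideal.mem_span_singleton.mpr ⟨algebraMap A B c, map_mul _ _ _⟩
  refine ⟨heq, fun h => ?_⟩
  have := (Ideal.Quotient.isDomain_iff_prime _).mp h
  rw [Ideal.Quotient.isDomain_iff_prime, ← heq]
  exact Ideal.IsPrime.comap _

end Groth.Agent.S13151
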