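import Groth.Statements.S13152
import Groth.Agent.TorsorDesc.Normal
import Groth.Agent.TorsorDesc.Basic

set_option autoImplicit false
universe u
open CategoryTheory AlgebraicGeometry
open NonAbH1

namespace Groth.Agent.S13152

open AlgebraicGeometry CategoryTheory CategoryTheory.Limits MonoidalCategory CartesianMonoidalCategory

set_option backward.isDefEq.respectTransparency.types false


/-- Let X be a normal integral scheme (integral, with every local ring an integrally closed domain), G
an X-group scheme which is finite and flat over X, and Y an X-scheme with an action of G making it a
G-torsor for the fppf topology. If Y acquires a section over the spectrum of the local ring of X at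
its generic point (the function field of X), then Y has a section over X; in other words the map
from isomorphism classes of fppf G-torsors over X to those over the function field has trivial
kernel. (The published statement assumes moreover that all schemes are Noetherian and that G is
commutative, and is phrased as injectivity of H¹(X, G) → H¹(K(X), G); these extra assumptions are
not needed for the trivial-kernel assertion stated here.) -/
theorem result {X : Scheme.{u}} [IsIntegral X]
    (hX : Pi1.IsNormalScheme X) (G : Over X) [GrpObj G] [IsFinite G.hom] [Flat G.hom]
    (Y : Over X) (a : AlgGrp.Action G Y) (hY : NonAbH1.IsTorsorFor Scheme.fppfPrecoverage a)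
    (hgen : NonAbH1.HasSectionOver Y (X.fromSpecStalk (genericPoint X))) :
    NonAbH1.HasSectionOver Y (𝟙 X) := by
  obtain ⟨t, ht⟩ := hgen
  have hfin : IsFinite Y.hom := TorsorDesc.of_isTorsorFor @IsFinite a
    ⟨hY.1, by obtain ⟨_, R', h1, h2⟩ := hY; exact ⟨R', Scheme.fppfPrecoverage_le_fpqcPrecoverage _ h1, h2⟩⟩ ‹_›
  exact TorsorDesc.exists_section_of_genericPoint hX Y.hom t ht

end Groth.Agent.S13152
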