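import Groth.Statements.S13153
import Mathlib

set_option autoImplicit false
universe u
open CAlg

namespace Groth.Agent.S13153

open scoped IntermediateField.algebraAdjoinAdjoin in
/-- In characteristic zero an element with vanishing differential is algebraic. -/
theorem isAlgebraic_of_D_eq_zero (K L : Type u) [Field K] [Field L] [Algebra K L] [CharZero K] (x : L)
    (hx : KaehlerDifferential.D K L x = 0) : IsAlgebraic K x := by
  classical
  by_contra hnot
  have hli : AlgebraicIndepOn K id ({x} : Set L) := algebraicIndependent_unique_type_iff.mpr hnot
  obtain ⟨t, ht, htb⟩ := exists_isTranscendenceBasis_superset hli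
  let v : t → L := (↑)
  have hb : AlgebraicIndependent K v := htb.1
  let E := Algebra.adjoin K (Set.range v)
  let F := IntermediateField.adjoin K (Set.range v)
  haveI : Algebra.IsAlgebraic F L := htb.isAlgebraic_field
  haveI : Algebra.FormallyEtale F L := Algebra.FormallyEtale.of_isSeparable F L
  haveI : Algebra.FormallyEtale E F := Algebra.FormallyEtale.of_isLocalization (nonZeroDivisors E)
  haveI : IsScalarTower E F L := IsScalarTower.of_algebraMap_eq fun _ => rfl
  haveI : Algebra.FormallyEtale E L := Algebra.FormallyEtale.comp E F L
  let ψ := hb.aevalEquiv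
  let x' : t := ⟨x, ht rfl⟩
  let δ : E →ₗ[K] L := ((MvPolynomial.aeval v).toLinearMap ∘ₗ (MvPolynomial.pderiv x').toLinearMap) ∘ₗ ψ.symm.toLinearMap
  have hψ : ∀ e : E, MvPolynomial.aeval v (ψ.symm e) = (e : L) := fun e => by
    conv_rhs => rw [← ψ.apply_symm_apply e]
    rfl
  let d : Derivation K E L := Derivation.mk' δ fun a b => by
    simp [δ, hψ, Algebra.smul_def]
  let Φ : TensorProduct E L (Ω[E⁄K]) →ₗ[L] L := LinearMap.liftBaseChange L d.liftKaehlerDifferential
  let e' : E := ψ (MvPolynomial.X x')
  have he' : algebraMap E L e' = x := by
    show ((ψ (MvPolynomial.X x') : E) : L) = x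
    rw [← hψ, AlgEquiv.symm_apply_apply, MvPolynomial.aeval_X]
  have h1 := congrArg Φ (KaehlerDifferential.tensorKaehlerEquivOfFormallyEtale_symm_D_algebraMap K E L e')
  rw [he', hx, map_zero, map_zero] at h1
  simp [Φ, d, δ, e'] at h1

/-- Let R be a discrete valuation ring whose fraction field K has characteristic zero, A an integral
domain which is a faithfully flat R-algebra, with fraction field L, such that K is algebraically
closed in L (every element of L algebraic over K is in the image of K). If f ∈ A has vanishing
differential, df = 0 in Ω_{A/R}, then f is the image of an element of R. (The published statement is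
the sheaf form: for a faithfully flat morphism X → Spec R with geometrically integral generic fibre,
the kernel of d : O_X → Ω¹_{X/R} is the inverse image of O_{Spec R}; for integral X, geometric
integrality of the generic fibre in characteristic zero amounts to K being algebraically closed in
the function field, which is the form used here, and this row is the case of global sections over an
affine X = Spec A.) -/
theorem result (R : Type u) [CommRing R] [IsDomain R]
    [IsDiscreteValuationRing R] [CharZero R] (K : Type u) [Field K] [Algebra R K] [IsFractionRing R K]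
    (A : Type u) [CommRing A] [IsDomain A] [Algebra R A] [Module.FaithfullyFlat R A]
    (L : Type u) [Field L] [Algebra A L] [IsFractionRing A L] [Algebra R L] [Algebra K L]
    [IsScalarTower R A L] [IsScalarTower R K L]
    (hac : ∀ x : L, IsAlgebraic K x → x ∈ (algebraMap K L).range)
    (f : A) (hf : KaehlerDifferential.D R A f = 0) : f ∈ (algebraMap R A).range := by
  haveI : CharZero K := charZero_of_injective_algebraMap (IsFractionRing.injective R K)
  have hd : KaehlerDifferential.D K L (algebraMap A L f) = 0 := by
    have := congrArg (KaehlerDifferential.map R K A L) hf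
    rwa [KaehlerDifferential.map_D, map_zero] at this
  obtain ⟨κ, hκ⟩ := hac _ (isAlgebraic_of_D_eq_zero K L _ hd)
  obtain ⟨r, s, hs, rfl⟩ := IsFractionRing.div_surjective (A := R) κ
  have hs0 : s ≠ 0 := nonZeroDivisors.ne_zero hs
  have hsf : f * algebraMap R A s = algebraMap R A r := by
    apply IsFractionRing.injective A L
    rw [map_mul, ← hκ, ← IsScalarTower.algebraMap_apply, ← IsScalarTower.algebraMap_apply,
      IsScalarTower.algebraMap_apply R K L s, IsScalarTower.algebraMap_apply R K L r, ← map_mul,
      div_mul_cancel₀ _ fun h => hs0 (IsFractionRing.injective R K (h.trans (map_zero _).symm))]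
  have hr : r ∈ Ideal.span {s} := by
    rw [← Ideal.comap_map_eq_self_of_faithfullyFlat (B := A) (Ideal.span {s}), Ideal.mem_comap, ← hsf, Ideal.map_span,
      Set.image_singleton]
    exact Ideal.mul_mem_left _ _ (Ideal.mem_span_singleton_self _)
  obtain ⟨c, rfl⟩ := Ideal.mem_span_singleton'.mp hr
  refine ⟨c, mul_right_cancel₀ ?_ ((map_mul (algebraMap R A) c s).symm.trans hsf.symm)⟩
  intro h
  exact hs0 (FaithfulSMul.algebraMap_injective R A (h.trans (map_zero _).symm))

end Groth.Agent.S13153
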