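import Groth.Statements.S13154
import Mathlib

set_option autoImplicit false
universe u
open scoped TensorProduct
open CAlg

namespace Groth.Agent.S13154

/-- Let R be a discrete valuation ring with fraction field K, A a faithfully flat R-algebra (an affine
faithfully flat base change S' → S = Spec R) and B₁, B₂ flat R-algebras (two affine S-schemes X₁ =
Spec B₁, X₂ = Spec B₂, flat over S). Suppose given a K-algebra homomorphism φ_K : K ⊗ B₂ → K ⊗ B₁ (a
morphism of the generic fibres X₁,K → X₂,K) and an A-algebra homomorphism φ_A : A ⊗ B₂ → A ⊗ B₁ (a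
morphism X₁ ×_S S' → X₂ ×_S S' over S') which coincide after base change to K ⊗ A, in the sense that
for every b ∈ B₂ the images of φ_K(1 ⊗ b) and φ_A(1 ⊗ b) in (K ⊗ A) ⊗ B₁ agree. Then there is
exactly one R-algebra homomorphism φ : B₂ → B₁ (a morphism X₁ → X₂) whose base changes to K and to A
are φ_K and φ_A. (The published statement assumes only X₂ flat over S; flatness of X₁ is also
needed: with B₂ = R[t], B₁ = R[e]/(e², πe) for a uniformizer π and A = R[x], the maps t ↦ 0 over K
and t ↦ e x over A agree over K ⊗ A = K[x] but come from no map over R.) -/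
theorem result (R : Type u) [CommRing R] [IsDomain R]
    [IsDiscreteValuationRing R] (K : Type u) [Field K] [Algebra R K] [IsFractionRing R K]
    (A : Type u) [CommRing A] [Algebra R A] [Module.FaithfullyFlat R A]
    (B₁ B₂ : Type u) [CommRing B₁] [CommRing B₂] [Algebra R B₁] [Algebra R B₂]
    [Module.Flat R B₁] [Module.Flat R B₂]
    (φK : K ⊗[R] B₂ →ₐ[K] K ⊗[R] B₁) (φA : A ⊗[R] B₂ →ₐ[A] A ⊗[R] B₁)
    (hcomp : ∀ b : B₂,
      Algebra.TensorProduct.map (Algebra.TensorProduct.includeLeft : K →ₐ[R] K ⊗[R] A) (AlgHom.id R B₁)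
          (φK (1 ⊗ₜ b)) =
        Algebra.TensorProduct.map (Algebra.TensorProduct.includeRight : A →ₐ[R] K ⊗[R] A) (AlgHom.id R B₁)
          (φA (1 ⊗ₜ b))) :
    ∃! φ : B₂ →ₐ[R] B₁, (∀ b : B₂, φK (1 ⊗ₜ b) = 1 ⊗ₜ φ b) ∧ (∀ b : B₂, φA (1 ⊗ₜ b) = 1 ⊗ₜ φ b) := by
  haveI : Module.Flat R A := inferInstance
  let J : (A ⊗[R] B₁) →ₐ[R] (K ⊗[R] A) ⊗[R] B₁ :=
    Algebra.TensorProduct.map (Algebra.TensorProduct.includeRight : A →ₐ[R] K ⊗[R] A) (AlgHom.id R B₁)
  let L : (K ⊗[R] B₁) →ₐ[R] (K ⊗[R] A) ⊗[R] B₁ :=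
    Algebra.TensorProduct.map (Algebra.TensorProduct.includeLeft : K →ₐ[R] K ⊗[R] A) (AlgHom.id R B₁)
  have hJ : Function.Injective J :=
    Module.Flat.rTensor_preserves_injective_linearMap
      (Algebra.TensorProduct.includeRight : A →ₐ[R] K ⊗[R] A).toLinearMap
      (Algebra.TensorProduct.includeRight_injective (IsFractionRing.injective R K))
  have hiota : Function.Injective (Algebra.TensorProduct.includeRight : B₁ →ₐ[R] K ⊗[R] B₁) :=
    Algebra.TensorProduct.includeRight_injective (IsFractionRing.injective R K)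
  have key : ∀ b : B₂, ∃ c : B₁, φK (1 ⊗ₜ b) = 1 ⊗ₜ c ∧ φA (1 ⊗ₜ b) = 1 ⊗ₜ c := by
    intro b
    haveI : IsLocalizedModule (nonZeroDivisors R) (TensorProduct.mk R K B₁ 1) :=
      (isLocalizedModule_iff_isBaseChange (nonZeroDivisors R) K _).mpr (TensorProduct.isBaseChange R B₁ K)
    obtain ⟨⟨c, s⟩, hc⟩ := IsLocalizedModule.surj (nonZeroDivisors R) (TensorProduct.mk R K B₁ 1) (φK (1 ⊗ₜ b))
    simp only [TensorProduct.mk_apply, Submonoid.smul_def] at hc
    have h1 : (1 : A) ⊗ₜ[R] c = (s : R) • φA (1 ⊗ₜ b) := hJ <| by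
      rw [map_smul, show J (φA (1 ⊗ₜ b)) = L (φK (1 ⊗ₜ b)) from (hcomp b).symm, ← map_smul, hc]
      simp only [J, L, Algebra.TensorProduct.map_tmul, Algebra.TensorProduct.includeRight_apply,
        Algebra.TensorProduct.includeLeft_apply, AlgHom.id_apply]
    let Q := Submodule.map (LinearMap.lsmul R B₁ (s : R)) ⊤
    have h2 : (Submodule.Quotient.mk c : B₁ ⧸ Q) = 0 := by
      refine Module.FaithfullyFlat.tensorProduct_mk_injective (A := R) (B := A) (B₁ ⧸ Q) ?_
      rw [map_zero]
      show (1 : A) ⊗ₜ[R] Q.mkQ c = 0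
      rw [← LinearMap.lTensor_tmul A Q.mkQ, h1, map_smul]
      induction φA (1 ⊗ₜ b) using TensorProduct.induction_on with
      | zero => simp
      | add x y hx hy => rw [map_add, smul_add, hx, hy, add_zero]
      | tmul a y =>
        rw [LinearMap.lTensor_tmul, ← TensorProduct.tmul_smul, ← map_smul]
        show a ⊗ₜ[R] (Submodule.Quotient.mk ((s : R) • y) : B₁ ⧸ Q) = 0
        rw [show (Submodule.Quotient.mk ((s : R) • y) : B₁ ⧸ Q) = 0 from (Submodule.Quotient.mk_eq_zero Q).mpr ⟨y, trivial, rfl⟩, TensorProduct.tmul_zero]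
    obtain ⟨c', -, hc'⟩ := (Submodule.Quotient.mk_eq_zero Q).mp h2
    simp only [LinearMap.lsmul_apply] at hc'
    have hs : IsUnit (algebraMap R (Module.End R (K ⊗[R] B₁)) s) :=
      IsLocalizedModule.map_units (TensorProduct.mk R K B₁ 1) s
    have hK : φK (1 ⊗ₜ b) = 1 ⊗ₜ c' := by
      apply ((Module.End.isUnit_iff _).mp hs).1
      simp only [Module.algebraMap_end_apply]
      rw [hc, ← hc', TensorProduct.tmul_smul]
    refine ⟨c', hK, hJ ?_⟩
    rw [show J (φA (1 ⊗ₜ b)) = L (φK (1 ⊗ₜ b)) from (hcomp b).symm, hK]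
    simp only [J, L, Algebra.TensorProduct.map_tmul, Algebra.TensorProduct.includeRight_apply,
      Algebra.TensorProduct.includeLeft_apply, AlgHom.id_apply]
  choose f hfK hfA using key
  have hf : ∀ b, Algebra.TensorProduct.includeRight (R := R) (A := K) (f b) =
      (φK.restrictScalars R).comp Algebra.TensorProduct.includeRight b := fun b => (hfK b).symm
  let φ : B₂ →ₐ[R] B₁ :=
    { toFun := f
      map_one' := hiota (by rw [hf, map_one, map_one])
      map_mul' := fun x y => hiota (by rw [hf, map_mul, map_mul, hf, hf])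
      map_zero' := hiota (by rw [hf, map_zero, map_zero])
      map_add' := fun x y => hiota (by rw [hf, map_add, map_add, hf, hf])
      commutes' := fun r => hiota (by rw [hf, AlgHom.commutes, AlgHom.commutes]) }
  exact ⟨φ, ⟨hfK, hfA⟩, fun ψ hψ => AlgHom.ext fun b => hiota ((hψ.1 b).symm.trans (hfK b))⟩

end Groth.Agent.S13154
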