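import Groth.Statements.S13155
import Mathlib

set_option autoImplicit false
universe u
open CAlg

namespace Groth.Agent.S13155

/-- Let R be a discrete valuation ring of characteristic zero with uniformizer π, and A a Noetherian
integrally closed domain which is an R-algebra with injective structure map and in which πA is a
prime ideal (X = Spec A is normal, flat over R, with integral special fibre). Let m ≥ 1 and let f ∈
A be invertible in A[1/π] (so Z^m = f defines a μ_m-torsor over the generic fibre), such that S =
A[1/π][Z]/(Z^m − f) is an integral domain and, writing B for the integral closure of A in S (the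
normalization of X in that cover), πB is a prime ideal of B (the normalization has integral special
fibre). Then f is, up to a unit of A, an m-th power of a power of π: f = π^{mq}·u with q ≥ 0 and u ∈
A^×, so that the cover extends to the μ_m-torsor Z^m = u over all of X. (The published statement is
the existence and uniqueness of the extending μ_m-torsor over a normal faithfully flat R-scheme with
integral fibres, R containing a primitive m-th root of unity; this row is the affine computation
that carries the proof.) -/
theorem result (R : Type u) [CommRing R]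
    [IsDomain R] [IsDiscreteValuationRing R] [CharZero R] (ϖ : R) (hϖ : Irreducible ϖ)
    (A : Type u) [CommRing A] [IsDomain A] [IsNoetherianRing A] [IsIntegrallyClosed A] [Algebra R A]
    (hinj : Function.Injective (algebraMap R A)) (hprime : (Ideal.span {algebraMap R A ϖ}).IsPrime)
    (m : ℕ) (hm : 0 < m) (f : A) (hf : IsUnit (algebraMap A (Localization.Away (algebraMap R A ϖ)) f))
    [IsDomain (AdjoinRoot (Polynomial.X ^ m - Polynomial.C (algebraMap A (Localization.Away (algebraMap R A ϖ)) f)))]
    (hsp : (Ideal.span {algebraMap A (integralClosure A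
        (AdjoinRoot (Polynomial.X ^ m - Polynomial.C (algebraMap A (Localization.Away (algebraMap R A ϖ)) f))))
          (algebraMap R A ϖ)}).IsPrime) :
    ∃ (q : ℕ) (u : Aˣ), f = algebraMap R A ϖ ^ (m * q) * (u : A) := by
  classical
  set t := algebraMap R A ϖ with ht
  set L := Localization.Away t
  set S := AdjoinRoot (Polynomial.X ^ m - Polynomial.C (algebraMap A L f)) with hS
  have ht0 : t ≠ 0 := (map_ne_zero_iff _ hinj).2 hϖ.ne_zero
  have htp : Prime t := (Ideal.span_singleton_prime ht0).1 hprime
  -- f = t^k * u
  obtain ⟨v, hv⟩ := hf.exists_right_inv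
  obtain ⟨n, a, ha⟩ : ∃ n a, f * a = t ^ n := by
    obtain ⟨⟨a, ⟨_, n, rfl⟩⟩, hva⟩ := IsLocalization.surj (Submonoid.powers t) v
    refine ⟨n, a, ?_⟩
    apply IsLocalization.injective L (powers_le_nonZeroDivisors_of_noZeroDivisors ht0)
    rw [map_mul, ← hva, ← mul_assoc, hv, one_mul]
  obtain ⟨k, _, hk⟩ := (dvd_prime_pow htp n).1 ⟨a, ha.symm⟩
  obtain ⟨u, hu⟩ := hk.symm
  refine ⟨k / m, u, ?_⟩
  suffices m ∣ k by rw [Nat.mul_div_cancel' this]; exact hu.symm
  by_contra hdvd
  set q := k / m with hq
  set r := k % m with hr
  have hr0 : 0 < r := Nat.pos_of_ne_zero fun h => hdvd (Nat.dvd_of_mod_eq_zero h)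
  have hkqr : k = m * q + r := (Nat.div_add_mod k m).symm
  have hrm : r < m := Nat.mod_lt _ hm
  have htu : IsUnit (algebraMap A S t) := by
    rw [IsScalarTower.algebraMap_apply A L S]
    exact (IsLocalization.map_units L (⟨t, Submonoid.mem_powers t⟩ : Submonoid.powers t)).map _
  set Z : S := AdjoinRoot.root _ with hZ
  have hZm : Z ^ m = algebraMap A S f := by
    have h := AdjoinRoot.eval₂_root (Polynomial.X ^ m - Polynomial.C (algebraMap A L f))
    rw [Polynomial.eval₂_sub, Polynomial.eval₂_X_pow, Polynomial.eval₂_C, sub_eq_zero] at h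
    rw [hZ, h, IsScalarTower.algebraMap_apply A L S, AdjoinRoot.algebraMap_eq]
  set w : S := Z * ((htu.unit⁻¹ : Sˣ) : S) ^ q with hw
  have hwm : w ^ m = algebraMap A S (t ^ r * (u : A)) := by
    have hfS : algebraMap A S f = algebraMap A S t ^ (m * q + r) * algebraMap A S (u : A) := by
      rw [← hkqr, ← map_pow, ← map_mul, hu]
    rw [hw, mul_pow, hZm, hfS, map_mul, map_pow]
    calc algebraMap A S t ^ (m * q + r) * algebraMap A S u * (((htu.unit⁻¹ : Sˣ) : S) ^ q) ^ m
        = ((algebraMap A S t * ((htu.unit⁻¹ : Sˣ) : S)) ^ m) ^ q * (algebraMap A S t ^ r * algebraMap A S u) := by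
          rw [mul_pow, mul_pow, pow_add, pow_mul, ← pow_mul, ← pow_mul, ← pow_mul, mul_comm q m]; ring
      _ = _ := by rw [IsUnit.mul_val_inv, one_pow, one_pow, one_mul]
  have hwint : IsIntegral A w := IsIntegral.of_pow hm (hwm ▸ isIntegral_algebraMap)
  set wB : integralClosure A S := ⟨w, hwint⟩ with hwB
  have hwBm : wB ^ m = algebraMap A (integralClosure A S) (t ^ r * (u : A)) := Subtype.ext (by simpa using hwm)
  have hmem : wB ∈ Ideal.span {algebraMap A (integralClosure A S) t} := by
    apply hsp.mem_of_pow_mem m
    rw [hwBm, Ideal.mem_span_singleton, map_mul, map_pow]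
    exact (dvd_pow_self _ hr0.ne').mul_right _
  obtain ⟨b, hb⟩ := Ideal.mem_span_singleton.1 hmem
  rw [hb, mul_pow, map_mul, map_pow] at hwBm
  obtain ⟨d, hd⟩ := Nat.exists_eq_add_of_lt hrm
  have e : ∀ z : integralClosure A S, z ^ m = z ^ r * z ^ (d + 1) := fun z => by
    rw [← pow_add]; congr 1
  rw [e (algebraMap A (integralClosure A S) t), mul_assoc] at hwBm
  have ht0B : algebraMap A (integralClosure A S) t ≠ 0 := fun h => htu.ne_zero (by simpa using congrArg Subtype.val h)
  have h2 := mul_left_cancel₀ (pow_ne_zero r ht0B) hwBm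
  refine hsp.ne_top (Ideal.span_singleton_eq_top.2 (isUnit_of_dvd_unit ?_ (u.isUnit.map (algebraMap A _))))
  exact ⟨_, by rw [← h2, pow_succ' _ d, mul_assoc]⟩

end Groth.Agent.S13155
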