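import Groth.Statements.S13156
import Mathlib

set_option autoImplicit false
universe u
open scoped Polynomial
open CAlg

namespace Groth.Agent.S13156

open Polynomial in
theorem core (A : Type u) [CommRing A] (p : ℕ) (hp : 2 ≤ p)
    (hu : ∀ i : ℕ, i + 1 < p → IsUnit ((i : A) + 1)) (μ : A) (F : A[X]) (hF : F.natDegree < p) :
    (C F * F.map C - C (C (F.coeff 0 ^ 2)) =
        (F.map C).comp (C X + X + C (C μ) * C X * X) - C (C (F.coeff 0))) ↔
      F * C (F.coeff 1) = derivative F * (1 + C μ * X) := by
  set a := F.coeff 0 with ha
  set U : A[X][X] := C X + X + C (C μ) * C X * X with hU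
  set G : A[X][X] := (F.map C).comp U - C F * F.map C + C (C (a ^ 2)) - C (C a) with hG
  have hdU : derivative U = C (1 + C μ * X) := by
    rw [hU]; simp
  have hdG : derivative G = C (1 + C μ * X) * ((derivative F).map C).comp U - C F * (derivative F).map C := by
    rw [hG]; simp only [map_sub, derivative_add, derivative_mul, derivative_comp, derivative_map, derivative_C, hdU]; ring
  constructor
  · intro h
    have hG0 : G = 0 := by rw [hG]; linear_combination -h
    have h1 := congrArg (eval (0 : A[X])) hdG
    rw [hG0, derivative_zero, eval_zero, eval_sub, eval_mul, eval_mul, eval_comp, eval_C, eval_C, eval_map, eval_map,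
      eval₂_at_zero] at h1
    have hU0 : eval (0 : A[X]) U = X := by simp [hU]
    rw [hU0, eval₂_C_X, coeff_derivative] at h1
    simp only [Nat.cast_zero, zero_add, mul_one] at h1
    linear_combination h1
  · intro h
    have hrec : ∀ i, F.coeff (i + 1) * ((i : A) + 1) = (F.coeff 1 - μ * i) * F.coeff i := by
      intro i
      have h2 := congrArg (fun q => coeff q i) h
      simp only [coeff_mul_C, mul_add, mul_one, coeff_add, coeff_derivative] at h2
      rcases i with _ | i
      · have : (derivative F * (C μ * X)).coeff 0 = 0 := by rw [← mul_assoc]; exact coeff_mul_X_zero _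
        rw [this] at h2
        push_cast at h2 ⊢
        linear_combination -h2
      · rw [← mul_assoc, coeff_mul_X, coeff_mul_C, coeff_derivative] at h2
        push_cast at h2 ⊢
        linear_combination -h2
    have hone : ∀ i, (1 - a) * F.coeff (i + 1) = 0 := by
      intro i
      induction i with
      | zero =>
        have := hrec 0
        push_cast at this
        rw [← ha] at this
        linear_combination this
      | succ i ih =>
        rcases Nat.lt_or_ge (i + 2) p with hi | hi
        · apply (hu (i + 1) hi).mul_left_eq_zero.1
          have := hrec (i + 1)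
          linear_combination (1 - a) * this + (F.coeff 1 - μ * ((i + 1 : ℕ) : A)) * ih
        · rw [coeff_eq_zero_of_natDegree_lt (by omega), mul_zero]
    have hfac : F.coeff 1 * a = F.coeff 1 := by linear_combination -(hone 0)
    have hode : derivative G * (1 + C (C μ) * X) = C (C (F.coeff 1)) * G := by
      have e1 := congrArg (fun q : A[X] => (q.map C).comp U) h
      simp only [Polynomial.map_mul, Polynomial.map_add, Polynomial.map_one, map_C, map_X, mul_comp, add_comp, one_comp,
        C_comp, X_comp] at e1
      have e2 := congrArg (fun q : A[X] => q.map C) h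
      simp only [Polynomial.map_mul, Polynomial.map_add, Polynomial.map_one, map_C, map_X] at e2
      have e3 : (1 + C (C μ) * U) = C (1 + C μ * X) * (1 + C (C μ) * X) := by
        rw [hU, map_add, map_mul, map_one]; ring
      have e4 : C (C (F.coeff 1)) * C (C a) = C (C (F.coeff 1)) := by rw [← map_mul, ← map_mul, hfac]
      rw [hdG, hG, map_pow, map_pow]
      linear_combination -e1 - (derivative F |>.map C |>.comp U) * e3 + C F * e2 + (-(C (C a))) * e4
    have hg0 : G.coeff 0 = 0 := by
      have : G.coeff 0 = F - C a * F + C (a ^ 2) - C a := by
        rw [hG, coeff_sub, coeff_add, coeff_sub, coeff_C_zero, coeff_C_zero, mul_coeff_zero, coeff_C_zero, coeff_map,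
          coeff_zero_eq_eval_zero ((F.map C).comp U), eval_comp]
        have hU0 : eval (0 : A[X]) U = X := by simp [hU]
        rw [hU0, eval_map, eval₂_C_X]
        ring
      rw [this]
      ext i
      rcases i with _ | i
      · simp [← ha, pow_two]
      · simp only [coeff_sub, coeff_add, coeff_C_mul, coeff_C, if_neg (Nat.succ_ne_zero i), coeff_zero]
        linear_combination hone i
    have hdeg : G.natDegree < p := by
      have hU1 : U.natDegree ≤ 1 := by rw [hU]; compute_degree
      have h1 : ((F.map C).comp U).natDegree < p := by
        refine lt_of_le_of_lt (natDegree_comp_le.trans ?_) hF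
        exact le_trans (Nat.mul_le_mul natDegree_map_le hU1) (by simp)
      have h2 : (C F * F.map C).natDegree < p :=
        lt_of_le_of_lt ((natDegree_C_mul_le _ _).trans natDegree_map_le) hF
      rw [hG]
      have h3 := natDegree_sub_le ((F.map C).comp U) (C F * F.map C)
      have h4 := natDegree_add_le ((F.map C).comp U - C F * F.map C) (C (C (a ^ 2)))
      have h5 := natDegree_sub_le ((F.map C).comp U - C F * F.map C + C (C (a ^ 2))) (C (C a))
      simp only [natDegree_C] at h4 h5
      omega
    have hG0 : ∀ j, G.coeff j = 0 := by
      intro j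
      induction j with
      | zero => exact hg0
      | succ j ih =>
        rcases Nat.lt_or_ge (j + 1) p with hj | hj
        · have h3 := congrArg (fun q => coeff q j) hode
          simp only [mul_add, mul_one, coeff_add, coeff_derivative, coeff_C_mul, ih, mul_zero] at h3
          rcases j with _ | j
          · have : (derivative G * (C (C μ) * X)).coeff 0 = 0 := by rw [← mul_assoc]; exact coeff_mul_X_zero _
            rw [this, add_zero] at h3
            simpa using h3
          · rw [← mul_assoc, coeff_mul_X, coeff_mul_C, coeff_derivative, ih, zero_mul, zero_mul, add_zero] at h3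
            have hu' : IsUnit (((j + 1 : ℕ) : A[X]) + 1) := by
              simpa using (hu (j + 1) hj).map (C : A →+* A[X])
            refine hu'.mul_left_eq_zero.1 ?_
            rw [mul_add, mul_one]; exact h3
        · exact coeff_eq_zero_of_natDegree_lt (by omega)
    have : G = 0 := Polynomial.ext fun j => by rw [hG0, coeff_zero]
    rw [hG] at this
    linear_combination -this

/-- Let p be a prime number, A a commutative ring in which (p−1)! is invertible, μ an element of A, and
F ∈ A[X] a polynomial of degree at most p − 1 with coefficients a_0, a_1, …. Then the identity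
F(S)·F(T) − a_0² = F(S + T + μST) − a_0 holds in the polynomial ring A[S, T] if and only if a_1·F(S)
= F′(S)·(1 + μS) holds in A[S], F′ the formal derivative. (The published statement is over the
quotient of a discrete valuation ring of residue characteristic p by a nonzero element of its
maximal ideal; only the invertibility of 1, …, p − 1 is used, so an arbitrary such ring A is allowed
here.) -/
theorem result (A : Type u) [CommRing A] (p : ℕ) [Fact p.Prime]
    (hu : IsUnit ((Nat.factorial (p - 1) : ℕ) : A)) (μ : A) (F : A[X]) (hF : F.natDegree < p) :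
    (Polynomial.aeval (MvPolynomial.X 0 : MvPolynomial (Fin 2) A) F *
          Polynomial.aeval (MvPolynomial.X 1 : MvPolynomial (Fin 2) A) F - MvPolynomial.C (F.coeff 0 ^ 2) =
        Polynomial.aeval (MvPolynomial.X 0 + MvPolynomial.X 1 +
            MvPolynomial.C μ * MvPolynomial.X 0 * MvPolynomial.X 1 : MvPolynomial (Fin 2) A) F -
          MvPolynomial.C (F.coeff 0)) ↔
      F * Polynomial.C (F.coeff 1) = Polynomial.derivative F * (1 + Polynomial.C μ * Polynomial.X) := by
  classical
  have hp : p.Prime := Fact.out
  have hu' : ∀ i : ℕ, i + 1 < p → IsUnit ((i : A) + 1) := fun i hi => by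
    have hd : (i + 1) ∣ (p - 1).factorial := Nat.dvd_factorial (by omega) (by omega)
    obtain ⟨k, hk⟩ := hd
    rw [hk, Nat.cast_mul] at hu
    simpa using isUnit_of_mul_isUnit_left hu
  let Ψ : MvPolynomial (Fin 2) A →ₐ[A] Polynomial (Polynomial A) :=
    MvPolynomial.aeval ![Polynomial.C Polynomial.X, Polynomial.X]
  let Θ : Polynomial (Polynomial A) →+* MvPolynomial (Fin 2) A :=
    Polynomial.eval₂RingHom (Polynomial.aeval (MvPolynomial.X 0 : MvPolynomial (Fin 2) A)).toRingHom (MvPolynomial.X 1)
  have hΘΨ : ∀ q, Θ (Ψ q) = q := by
    intro q
    have : Θ.comp Ψ.toRingHom = RingHom.id _ := by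
      refine MvPolynomial.ringHom_ext (fun r => ?_) (fun i => ?_)
      · simp [Θ, Ψ]
      · fin_cases i <;> simp [Θ, Ψ]
    exact RingHom.congr_fun this q
  have hinj : Function.Injective Ψ := Function.LeftInverse.injective hΘΨ
  rw [← hinj.eq_iff, map_sub, map_sub, map_mul, ← Polynomial.aeval_algHom_apply, ← Polynomial.aeval_algHom_apply,
    ← Polynomial.aeval_algHom_apply]
  have e : ∀ U : Polynomial (Polynomial A), Polynomial.aeval U F = (F.map Polynomial.C).comp U := fun U => by
    rw [Polynomial.comp, Polynomial.eval₂_map, Polynomial.aeval_def]; rfl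
  have e0 : (F.map Polynomial.C).comp (Polynomial.C Polynomial.X) = Polynomial.C F := by
    rw [Polynomial.comp_C, Polynomial.eval_map, Polynomial.eval₂_C_X]
  simp only [map_add, map_mul, e, Ψ, MvPolynomial.aeval_X, MvPolynomial.aeval_C, Matrix.cons_val_zero, Matrix.cons_val_one,
    Polynomial.algebraMap_apply, Polynomial.comp_X, e0, Algebra.algebraMap_self, RingHom.id_apply]
  exact core A p hp.two_le hu' μ F hF

end Groth.Agent.S13156
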