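import Groth.Statements.S13157
import Mathlib
-- import your own Groth.Agent.* helpers here

set_option autoImplicit false
universe u
open scoped Polynomial
open CAlg

namespace Groth.Agent.S13157

/-- (i) ⇔ (ii): let p be a prime number, A a commutative ring in which (p−1)! is invertible, μ ∈ A, and
F ∈ A[X] a polynomial of degree at most p − 1 with constant term a_0 = 1 and coefficients a_1, a_2,
…. Then the relations a_{r−1}·a_1 = (r − 1)μ·a_{r−1} + r·a_r for 1 ≤ r ≤ p (with a_p = 0), written
here as the single identity a_1·F = F′·(1 + μX), hold if and only if r!·a_r = ∏_{k=0}^{r−1} (a_1 −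
kμ) for every 1 ≤ r ≤ p − 1 and ∏_{k=0}^{p−1} (a_1 − kμ) = 0. (The published statement lists the
relations only for 1 ≤ r ≤ p − 1, while its proof uses and derives the relation for r = p as well,
which is needed for the vanishing of the last product; it is included here. The published setting is
the quotient of a discrete valuation ring of residue characteristic p by a nonzero non-unit; only
the invertibility of 1, …, p − 1 is used.) -/
theorem result (A : Type u) [CommRing A] (p : ℕ) [Fact p.Prime]
    (hu : IsUnit ((Nat.factorial (p - 1) : ℕ) : A)) (μ : A) (F : A[X]) (hF : F.natDegree < p)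
    (h0 : F.coeff 0 = 1) :
    F * Polynomial.C (F.coeff 1) = Polynomial.derivative F * (1 + Polynomial.C μ * Polynomial.X) ↔
      ((∀ r : ℕ, 1 ≤ r → r < p →
          (r.factorial : A) * F.coeff r = ∏ k ∈ Finset.range r, (F.coeff 1 - (k : A) * μ)) ∧
        ∏ k ∈ Finset.range p, (F.coeff 1 - (k : A) * μ) = 0) := by
  have hco : ∀ r : ℕ, (F * Polynomial.C (F.coeff 1)).coeff r =
      (Polynomial.derivative F * (1 + Polynomial.C μ * Polynomial.X)).coeff r ↔
      ((r : A) + 1) * F.coeff (r + 1) = F.coeff r * (F.coeff 1 - (r : A) * μ) := by
    intro r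
    rw [Polynomial.coeff_mul_C, mul_add, mul_one, Polynomial.coeff_add, Polynomial.coeff_derivative,
      ← mul_assoc, mul_comm (Polynomial.derivative F), mul_assoc, Polynomial.coeff_C_mul]
    rcases r with _ | r
    · simp only [Polynomial.coeff_mul_X_zero, mul_zero, add_zero, Nat.cast_zero, zero_add, zero_mul, sub_zero]
      constructor <;> intro h <;> linear_combination -h
    · rw [Polynomial.coeff_mul_X, Polynomial.coeff_derivative, Nat.cast_add, Nat.cast_one]
      constructor <;> intro h <;> linear_combination -h
  have hz : ∀ r, p ≤ r → F.coeff r = 0 := fun r hr =>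
    Polynomial.coeff_eq_zero_of_natDegree_lt (hF.trans_le hr)
  rw [Polynomial.ext_iff]
  constructor
  · intro h
    have key : ∀ r, (r.factorial : A) * F.coeff r = ∏ k ∈ Finset.range r, (F.coeff 1 - (k : A) * μ) := by
      intro r
      induction r with
      | zero => simp [h0]
      | succ r ih =>
        rw [Finset.prod_range_succ, ← ih, Nat.factorial_succ, Nat.cast_mul, Nat.cast_succ]
        linear_combination (r.factorial : A) * (hco r).1 (h r)
    exact ⟨fun r _ _ => key r, by rw [← key p, hz p le_rfl, mul_zero]⟩
  · rintro ⟨h1, h2⟩ r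
    rw [hco]
    rcases lt_or_ge r p with hr | hr
    swap
    · rw [hz r hr, hz (r + 1) (by omega)]; ring
    obtain ⟨c, hc⟩ := Nat.factorial_dvd_factorial (show r ≤ p - 1 by omega)
    have hur : IsUnit (r.factorial : A) :=
      isUnit_of_mul_isUnit_left (y := (c : A)) (by rw [← Nat.cast_mul, ← hc]; exact hu)
    refine hur.mul_left_cancel ?_
    have hr' : (r.factorial : A) * F.coeff r = ∏ k ∈ Finset.range r, (F.coeff 1 - (k : A) * μ) := by
      rcases Nat.eq_zero_or_pos r with rfl | hpos
      · simp [h0]
      · exact h1 r hpos hr
    rcases lt_or_eq_of_le (show r + 1 ≤ p by omega) with hlt | heq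
    · have := h1 (r + 1) (by omega) hlt
      rw [Finset.prod_range_succ, ← hr', Nat.factorial_succ, Nat.cast_mul, Nat.cast_succ] at this
      linear_combination this
    · rw [← heq, Finset.prod_range_succ, ← hr'] at h2
      rw [hz (r + 1) (by omega)]
      linear_combination -h2

end Groth.Agent.S13157
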