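import Groth.Statements.S13158
import Mathlib.RingTheory.IntegralClosure.IntegrallyClosed
import Mathlib.RingTheory.Localization.FractionRing
import Mathlib.Data.Nat.Choose.Sum
import Mathlib.RingTheory.Flat.FaithfullyFlat.Algebra
import Mathlib.NumberTheory.Padics.PadicVal.Basic
import Mathlib.Tactic.LinearCombination
import Mathlib.Tactic.Ring

set_option autoImplicit false
universe u
open CAlg

namespace Groth.Agent.S13158

theorem pow_le_pow_add (p j : ℕ) (hp : 1 ≤ p) :
    ∀ d, p ^ (j + d) ≤ p ^ j + d * (p ^ (j + d - 1) * (p - 1)) := by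
  intro d
  induction d with
  | zero => simp
  | succ d ih =>
    have h1 : p ^ (j + (d + 1)) = p ^ (j + d) + p ^ (j + d) * (p - 1) := by
      rw [← add_assoc, pow_succ]
      conv_lhs => rw [show p = 1 + (p - 1) by omega]
      rw [show 1 + (p - 1) = p by omega]
      conv_rhs => rw [← Nat.mul_one (p ^ (j + d)), Nat.mul_assoc, Nat.one_mul, ← Nat.mul_add,
        show 1 + (p - 1) = p by omega]
    have h2 : p ^ (j + d - 1) ≤ p ^ (j + d) := Nat.pow_le_pow_right hp (Nat.sub_le _ _)
    rw [show j + (d + 1) - 1 = j + d by omega, h1]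
    calc p ^ (j + d) + p ^ (j + d) * (p - 1)
        ≤ p ^ j + d * (p ^ (j + d - 1) * (p - 1)) + p ^ (j + d) * (p - 1) := by omega
      _ ≤ p ^ j + (d + 1) * (p ^ (j + d) * (p - 1)) := by
          rw [Nat.succ_mul, ← Nat.add_assoc]
          exact Nat.add_le_add_right (Nat.add_le_add_left
            (Nat.mul_le_mul_left _ (Nat.mul_le_mul_right _ h2)) _) _

theorem pow_dvd_choose_mul {R : Type*} [CommRing R] (p n : ℕ) [hp : Fact p.Prime] (lam : R)
    (hstar : lam ^ (p ^ (n - 1) * (p - 1)) ∣ (p : R)) (i : ℕ) (hi : 1 ≤ i) (hi' : i ≤ p ^ n) :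
    lam ^ p ^ n ∣ ((p ^ n).choose i : R) * lam ^ i := by
  obtain ⟨j, m, hm, him⟩ : ∃ j m, ¬ p ∣ m ∧ i = p ^ j * m :=
    Nat.exists_eq_pow_mul_and_not_dvd (by omega) p hp.out.ne_one
  have hm0 : 1 ≤ m := Nat.one_le_iff_ne_zero.2 fun h => hm (h ▸ dvd_zero p)
  have hpj : p ^ j ≤ i := by rw [him]; exact Nat.le_mul_of_pos_right _ hm0
  have hjn : j ≤ n := (Nat.pow_le_pow_iff_right hp.out.one_lt).1 (hpj.trans hi')
  have hdvd : p ^ (n - j) ∣ (p ^ n).choose i := by
    have h : p ^ n * (p ^ n - 1).choose (i - 1) = (p ^ n).choose i * i := by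
      have := Nat.add_one_mul_choose_eq (p ^ n - 1) (i - 1)
      rwa [Nat.sub_add_cancel (Nat.one_le_pow _ _ hp.out.pos), Nat.sub_add_cancel hi] at this
    have h2 : p ^ (n - j) ∣ (p ^ n).choose i * m := by
      refine ⟨(p ^ n - 1).choose (i - 1), Nat.eq_of_mul_eq_mul_left (Nat.pow_pos hp.out.pos (n := j)) ?_⟩
      rw [← Nat.mul_assoc (p ^ j) (p ^ (n - j)), ← pow_add, Nat.add_sub_cancel' hjn, h, him]
      ring
    exact (Nat.Coprime.dvd_of_dvd_mul_right (Nat.Coprime.pow_left _ ((Nat.Prime.coprime_iff_not_dvd hp.out).2 hm)) h2)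
  obtain ⟨t, ht⟩ := hdvd
  obtain ⟨s, hs⟩ := hstar
  rw [ht, Nat.cast_mul, Nat.cast_pow, hs, mul_pow, ← pow_mul]
  have hle : p ^ n ≤ i + p ^ (n - 1) * (p - 1) * (n - j) := by
    have h := pow_le_pow_add p j hp.out.one_lt.le (n - j)
    rw [Nat.add_sub_cancel' hjn, Nat.mul_comm] at h
    omega
  refine dvd_trans (pow_dvd_pow _ hle) ⟨s ^ (n - j) * (t : R), ?_⟩
  rw [pow_add]
  ring

/-- Let R be a discrete valuation ring of characteristic zero whose maximal ideal contains the prime
number p, let n ≥ 1, and let λ be a nonzero element of R such that λ^(p^(n−1)(p−1)) divides p (the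
condition v(p) ≥ p^(n−1)(p−1)·v(λ) under which the polynomial ((1 + λT)^(p^n) − 1)/λ^(p^n) has
coefficients in R). Let A be an integrally closed integral domain which is a faithfully flat
R-algebra. Then for every unit x of A, λ^(p^n) divides x^(p^n) − 1 in A if and only if λ divides x −
1 in A. -/
theorem result (R : Type u) [CommRing R]
    [IsDomain R] [IsDiscreteValuationRing R] [CharZero R] (p n : ℕ) [Fact p.Prime] (hn : 1 ≤ n)
    (hp : (p : R) ∈ IsLocalRing.maximalIdeal R) (lam : R) (hlam : lam ≠ 0)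
    (hstar : lam ^ (p ^ (n - 1) * (p - 1)) ∣ (p : R))
    (A : Type u) [CommRing A] [IsDomain A] [IsIntegrallyClosed A] [Algebra R A] [Module.FaithfullyFlat R A]
    (x : Aˣ) :
    (algebraMap R A lam ^ p ^ n ∣ (x : A) ^ p ^ n - 1) ↔ (algebraMap R A lam ∣ (x : A) - 1) := by
  classical
  have _ := hn; have _ := hp
  set L : A := algebraMap R A lam with hL
  have hinj : Function.Injective (algebraMap R A) := FaithfulSMul.algebraMap_injective R A
  have hL0 : L ≠ 0 := (map_ne_zero_iff _ hinj).2 hlam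
  have hc : ∀ i, 1 ≤ i → i ≤ p ^ n → ∃ c : A, ((p ^ n).choose i : A) * L ^ i = L ^ p ^ n * c := by
    intro i h1 h2
    obtain ⟨c, hc⟩ := pow_dvd_choose_mul p n lam hstar i h1 h2
    exact ⟨algebraMap R A c, by rw [hL, ← map_pow, ← map_pow, ← map_natCast (algebraMap R A), ← map_mul, hc, map_mul]⟩
  choose! c hc using hc
  have hP : 1 ≤ p ^ n := Nat.one_le_pow _ _ (Fact.out : p.Prime).pos
  have hexp : (x : A) ^ p ^ n - 1 = ((x : A) - 1) ^ p ^ n +
      ∑ i ∈ Finset.Ico 1 (p ^ n), ((p ^ n).choose i : A) * ((x : A) - 1) ^ i := by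
    conv_lhs => rw [show (x : A) = ((x : A) - 1) + 1 by ring, add_pow, Finset.range_eq_Ico,
      Finset.sum_eq_sum_Ico_succ_bot (Nat.succ_pos _), Finset.sum_Ico_succ_top hP]
    simp only [one_pow, mul_one, pow_zero, Nat.choose_zero_right, Nat.choose_self, Nat.cast_one,
      zero_add, mul_comm]
    ring
  constructor
  · rintro ⟨w, hw⟩
    let y : FractionRing A := algebraMap A _ ((x : A) - 1) / algebraMap A _ L
    have hLK : algebraMap A (FractionRing A) L ≠ 0 :=
      (map_ne_zero_iff _ (IsFractionRing.injective A _)).2 hL0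
    have hy : algebraMap A (FractionRing A) ((x : A) - 1) = algebraMap A _ L * y := by
      rw [mul_div_cancel₀ _ hLK]
    let q : Polynomial A := Polynomial.X ^ p ^ n +
      (∑ i ∈ Finset.Ico 1 (p ^ n), Polynomial.C (c i) * Polynomial.X ^ i - Polynomial.C w)
    have hq : q.Monic := by
      refine Polynomial.monic_X_pow_add ((Polynomial.degree_sub_le _ _).trans_lt (max_lt ?_ ?_))
      · refine (Polynomial.degree_sum_le _ _).trans_lt ((Finset.sup_lt_iff (WithBot.bot_lt_coe _)).2 fun i hi => ?_)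
        refine (Polynomial.degree_C_mul_X_pow_le _ _).trans_lt ?_
        exact_mod_cast (Finset.mem_Ico.1 hi).2
      · exact Polynomial.degree_C_le.trans_lt (by exact_mod_cast hP)
    have hroot : Polynomial.aeval y q = 0 := by
      refine mul_left_cancel₀ (pow_ne_zero (p ^ n) hLK) ?_
      have h := congrArg (algebraMap A (FractionRing A)) hexp
      rw [hw, map_add, map_pow, map_mul, map_pow, hy, map_sum] at h
      simp only [q, map_add, map_sub, map_sum, map_mul, map_pow, Polynomial.aeval_X,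
        Polynomial.aeval_C, mul_zero, mul_add, mul_sub, Finset.mul_sum]
      rw [h, mul_pow]
      have hsum : ∑ i ∈ Finset.Ico 1 (p ^ n), algebraMap A (FractionRing A) (((p ^ n).choose i : A) * ((x : A) - 1) ^ i) =
          ∑ i ∈ Finset.Ico 1 (p ^ n), algebraMap A (FractionRing A) L ^ p ^ n * (algebraMap A _ (c i) * y ^ i) := by
        refine Finset.sum_congr rfl fun i hi => ?_
        obtain ⟨h1, h2⟩ := Finset.mem_Ico.1 hi
        rw [map_mul, map_pow, hy, mul_pow, ← mul_assoc, ← map_pow, ← map_mul, hc i h1 h2.le, map_mul, map_pow,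
          mul_assoc]
      rw [hsum]
      ring
    obtain ⟨z, hz⟩ := IsIntegrallyClosed.isIntegral_iff.1 (show IsIntegral A y from ⟨q, hq, hroot⟩)
    refine ⟨z, IsFractionRing.injective A (FractionRing A) ?_⟩
    rw [hy, map_mul, hz]
  · rintro ⟨y, hy⟩
    rw [hexp, hy]
    refine dvd_add (Dvd.intro _ (mul_pow _ _ _).symm) (Finset.dvd_sum fun i hi => ?_)
    obtain ⟨h1, h2⟩ := Finset.mem_Ico.1 hi
    exact ⟨c i * y ^ i, by rw [mul_pow, ← mul_assoc, hc i h1 h2.le, mul_assoc]⟩

end Groth.Agent.S13158
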