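import Groth.Statements.S1316
import Groth.Agent.FlatBasics.Deform

set_option autoImplicit false
universe u
open FlatMor

namespace Groth.Agent.S1316

open AlgebraicGeometry CategoryTheory Limits in
/-- Let Y ⟶ Y' be a thickening, let X be the base change to Y of a scheme X' over Y', and assume both X
⟶ Y and X' ⟶ Y' are locally of finite type. Then X ⟶ Y is an immersion if and only if X' ⟶ Y' is. -/
theorem result {X X' Y Y' : Scheme.{u}} (iX : X ⟶ X') (iY : Y ⟶ Y') (f : X ⟶ Y) (f' : X' ⟶ Y')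
    (hY : MoreMor.IsThickening iY) (hc : IsPullback iX f f' iY) [LocallyOfFiniteType f] [LocallyOfFiniteType f'] :
    IsImmersion f ↔ IsImmersion f' := by
  obtain ⟨_, _⟩ := hY
  refine ⟨fun _ ↦ ?_, fun h ↦ MorphismProperty.of_isPullback hc h⟩
  have hx := FlatBasics.surjective_fst_of_isPullback hc
  have hh := FlatBasics.isHomeomorph_of_isUnivHomeo (f := iY) FlatBasics.isUnivHomeo_of
  let W : Y'.Opens := ⟨iY '' (f.coborderRange : Set Y), hh.isOpenMap _ f.coborderRange.2⟩
  have hW : iY ⁻¹ᵁ W = f.coborderRange :=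
    TopologicalSpace.Opens.ext (Set.preimage_image_eq _ hh.injective)
  have hrange : Set.range f' ⊆ Set.range W.ι := by
    rw [Scheme.Opens.range_ι]
    rintro _ ⟨x', rfl⟩
    obtain ⟨x, rfl⟩ := iX.surjective x'
    exact ⟨f x, subset_coborder ⟨x, rfl⟩, by
      rw [← Scheme.Hom.comp_apply, ← hc.w, Scheme.Hom.comp_apply]⟩
  let f'' := IsOpenImmersion.lift W.ι f' hrange
  have hf'' : f'' ≫ W.ι = f' := IsOpenImmersion.lift_fac _ _ _
  let f₀ : X ⟶ (iY ⁻¹ᵁ W).toScheme := f.liftCoborder ≫ (Y.isoOfEq hW.symm).hom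
  have hf₀ : f₀ ≫ (iY ⁻¹ᵁ W).ι = f := by simp [f₀]
  have hsq : IsPullback iX f₀ f'' (iY ∣_ W) := by
    refine IsPullback.of_bot (by rw [hf₀, hf'']; exact hc) ?_ (isPullback_morphismRestrict iY W)
    rw [← cancel_mono W.ι, Category.assoc, Category.assoc, morphismRestrict_ι, hf'',
      reassoc_of% hf₀, hc.w]
  have : LocallyOfFiniteType (f'' ≫ W.ι) := by rw [hf'']; infer_instance
  have : LocallyOfFiniteType f'' := locallyOfFiniteType_of_comp f'' W.ι
  have : IsClosedImmersion (iY ∣_ W) := IsZariskiLocalAtTarget.restrict ‹_› W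
  have : Surjective (iY ∣_ W) := IsZariskiLocalAtTarget.restrict ‹_› W
  have := FlatBasics.isClosedImmersion_of_thickening hsq
  rw [← hf'']
  infer_instance

end Groth.Agent.S1316
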