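import Groth.Statements.S13160
import Mathlib.RingTheory.WittVector.InitTail
import Mathlib.RingTheory.WittVector.Domain
import Mathlib.RingTheory.WittVector.Identities
import Mathlib.RingTheory.WittVector.Teichmuller
import Mathlib.RingTheory.PrincipalIdealDomain
import Mathlib.Algebra.CharP.Frobenius

set_option autoImplicit false
universe u
open CAlg

namespace Groth.Agent.S13160

section
variable {p : ℕ} [Fact p.Prime] {A : Type*} [CommRing A] [CharP A p]

omit [CharP A p] in
theorem decomp (z : WittVector p A) :
    WittVector.teichmuller p (z.coeff 0) + WittVector.verschiebung (z.shift 1) = z := by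
  ext n
  rw [WittVector.coeff_add_of_disjoint]
  · rcases n with _ | n
    · simp
    · rw [WittVector.teichmuller_coeff_pos p _ _ n.succ_pos, WittVector.verschiebung_coeff_succ,
        zero_add, WittVector.shift_coeff, add_comm]
  · intro m
    rcases m with _ | m
    · right; simp
    · left; exact WittVector.teichmuller_coeff_pos p _ _ m.succ_pos

theorem coeff_add_of_frobenius_eq_zero {c : A} (hc : c ^ p = 0)
    (hdvd : ∀ x : A, x ^ p = 0 → ∃ y, x = c * y) (n : ℕ) :
    ∀ a b : WittVector p A, (∀ i, a.coeff i ^ p = 0) → (∀ i, b.coeff i ^ p = 0) →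
      (a + b).coeff n = a.coeff n + b.coeff n := by
  induction n with
  | zero => intro a b _ _; exact WittVector.add_coeff_zero a b
  | succ n ih =>
    intro a b ha hb
    obtain ⟨a0, hA⟩ := hdvd _ (ha 0)
    obtain ⟨b0, hB⟩ := hdvd _ (hb 0)
    let z : WittVector p A := WittVector.teichmuller p a0 + WittVector.teichmuller p b0
    have hfc : WittVector.frobenius (WittVector.teichmuller p c) = (0 : WittVector p A) := by
      ext m
      rw [WittVector.coeff_frobenius_charP, WittVector.zero_coeff]
      rcases m with _ | m
      · rw [WittVector.teichmuller_coeff_zero, hc]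
      · rw [WittVector.teichmuller_coeff_pos p _ _ m.succ_pos, zero_pow (Fact.out : p.Prime).ne_zero]
    have key : WittVector.teichmuller p (a.coeff 0) + WittVector.teichmuller p (b.coeff 0) =
        WittVector.teichmuller p (a.coeff 0 + b.coeff 0) := by
      have hz : z.coeff 0 = a0 + b0 := by
        rw [WittVector.add_coeff_zero, WittVector.teichmuller_coeff_zero,
          WittVector.teichmuller_coeff_zero]
      rw [hA, hB, map_mul, map_mul, ← mul_add, ← mul_add, ← hz]
      conv_lhs => rw [show WittVector.teichmuller p a0 + WittVector.teichmuller p b0 = z from rfl,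
        ← decomp z]
      rw [mul_add, ← map_mul, mul_comm (WittVector.teichmuller p c) (WittVector.verschiebung _),
        ← WittVector.verschiebung_mul_frobenius, hfc, mul_zero, map_zero, add_zero]
    have hab : a + b = WittVector.teichmuller p (a.coeff 0 + b.coeff 0) +
        WittVector.verschiebung (a.shift 1 + b.shift 1) := by
      conv_lhs => rw [← decomp a, ← decomp b]
      rw [add_add_add_comm, key, ← map_add]
    rw [hab, WittVector.coeff_add_of_disjoint]
    · rw [WittVector.teichmuller_coeff_pos p _ _ n.succ_pos, WittVector.verschiebung_coeff_succ,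
        zero_add, ih _ _ (fun i => by rw [WittVector.shift_coeff]; exact ha _)
          (fun i => by rw [WittVector.shift_coeff]; exact hb _),
        WittVector.shift_coeff, WittVector.shift_coeff, add_comm 1 n]
    · intro m
      rcases m with _ | m
      · right; exact WittVector.verschiebung_coeff_zero _
      · left; exact WittVector.teichmuller_coeff_pos p _ _ m.succ_pos

end

/-- Let R be a discrete valuation ring, p a prime number and λ an element of R dividing p (so that R/λR
is an 𝔽_p-algebra), and let a and b be p-typical Witt vectors with coefficients in R/λR which are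
killed by the Frobenius endomorphism. Then the Witt sum a + b has components a_n + b_n for every n.
(The published statement allows an arbitrary λ ∈ R and is stated for Witt vectors with finitely many
nonzero components; this row assumes that λ divides p, so that p = 0 in R/λR, and allows all Witt
vectors.) -/
theorem result (R : Type u) [CommRing R] [IsDomain R]
    [IsDiscreteValuationRing R] (p : ℕ) [Fact p.Prime] (lam : R) (hlam : lam ∣ (p : R))
    (a b : WittVector p (R ⧸ Ideal.span {lam})) (ha : WittVector.frobenius a = 0)
    (hb : WittVector.frobenius b = 0) (n : ℕ) : (a + b).coeff n = a.coeff n + b.coeff n := by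
  rcases subsingleton_or_nontrivial (R ⧸ Ideal.span {lam}) with hs | hn
  · exact Subsingleton.elim _ _
  have hp0 : ((p : ℕ) : R ⧸ Ideal.span {lam}) = 0 := by
    rw [← map_natCast (Ideal.Quotient.mk (Ideal.span {lam})), Ideal.Quotient.eq_zero_iff_mem,
      Ideal.mem_span_singleton]
    exact hlam
  haveI : CharP (R ⧸ Ideal.span {lam}) p := (CharP.charP_iff_prime_eq_zero Fact.out).2 hp0
  haveI : IsPrincipalIdealRing (R ⧸ Ideal.span {lam}) :=
    IsPrincipalIdealRing.of_surjective (Ideal.Quotient.mk _) Ideal.Quotient.mk_surjective
  let J : Ideal (R ⧸ Ideal.span {lam}) := RingHom.ker (frobenius (R ⧸ Ideal.span {lam}) p)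
  obtain ⟨c, hcJ⟩ := (IsPrincipalIdealRing.principal J).principal
  have hmem : ∀ x, x ∈ J ↔ x ^ p = 0 := fun x => Iff.rfl
  have hc : c ^ p = 0 := (hmem c).1 (by rw [hcJ]; exact Submodule.mem_span_singleton_self c)
  have hdvd : ∀ x, x ^ p = 0 → ∃ y, x = c * y := fun x hx => by
    have h := (hmem x).2 hx
    rw [hcJ, Submodule.mem_span_singleton] at h
    obtain ⟨y, hy⟩ := h
    exact ⟨y, by rw [← hy, smul_eq_mul, mul_comm]⟩
  exact coeff_add_of_frobenius_eq_zero hc hdvd n a b
    (fun i => by rw [← WittVector.coeff_frobenius_charP, ha, WittVector.zero_coeff])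
    (fun i => by rw [← WittVector.coeff_frobenius_charP, hb, WittVector.zero_coeff])

end Groth.Agent.S13160
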