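import Groth.Statements.S13161
import Mathlib

set_option autoImplicit false
universe u
open scoped TensorProduct
open CAlg

namespace Groth.Agent.S13161

/-- Let R be a discrete valuation ring with fraction field K, A an R-algebra which is semireflexive as
an R-module (the map to its double dual is injective: every nonzero a ∈ A has an R-linear form f : A
→ R with f(a) ≠ 0), and B an A-algebra which is finitely generated as an A-module and flat over R.
Suppose B ⊗ K is semireflexive as a module over A ⊗ K, which for such B amounts to: every nonzero b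
∈ B has an A-linear map g : B → A ⊗_R K with g(b) ≠ 0. Then B is semireflexive as an R-module: every
nonzero b ∈ B has an R-linear form h : B → R with h(b) ≠ 0. (The published statement phrases the
hypothesis on B_K as an A_K-module; for B flat over R and finite over A this is the elementwise
condition used here.) -/
theorem result (R : Type u) [CommRing R] [IsDomain R]
    [IsDiscreteValuationRing R] (K : Type u) [Field K] [Algebra R K] [IsFractionRing R K]
    (A B : Type u) [CommRing A] [CommRing B] [Algebra R A] [Algebra R B] [Algebra A B] [IsScalarTower R A B]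
    [Module.Finite A B] [Module.Flat R B]
    (hA : ∀ a : A, a ≠ 0 → ∃ f : A →ₗ[R] R, f a ≠ 0)
    (hBK : ∀ b : B, b ≠ 0 → ∃ g : B →ₗ[A] A ⊗[R] K, g b ≠ 0) :
    ∀ b : B, b ≠ 0 → ∃ h : B →ₗ[R] R, h b ≠ 0 := by
  intro b hb
  obtain ⟨g, hg⟩ := hBK b hb
  classical
  haveI : IsLocalizedModule (nonZeroDivisors R) ((TensorProduct.mk R A K).flip 1) := by
    haveI : IsLocalization (nonZeroDivisors R) K := inferInstance
    exact IsLocalizedModule.of_linearEquiv (nonZeroDivisors R) ((TensorProduct.mk R K A) 1) (TensorProduct.comm R K A)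
  let j : A →ₗ[R] A ⊗[R] K := (TensorProduct.mk R A K).flip 1
  have hA0 : ∀ a : A, j a = 0 → a = 0 := by
    intro a ha
    obtain ⟨s, hs⟩ := (IsLocalizedModule.eq_zero_iff (nonZeroDivisors R) ((TensorProduct.mk R A K).flip 1)).1 ha
    by_contra hne
    obtain ⟨f, hf⟩ := hA a hne
    have h0 := congrArg f hs
    rw [Submonoid.smul_def, map_smul, map_zero, smul_eq_mul] at h0
    exact (mul_ne_zero (nonZeroDivisors.ne_zero s.2) hf) h0
  obtain ⟨n, π, hπ⟩ := Module.Finite.exists_fin' A B
  obtain ⟨s, hs⟩ := IsLocalizedModule.exist_integer_multiples (nonZeroDivisors R) j Finset.univ fun i : Fin n => g (π (Pi.single i 1))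
  let P : Submodule A B :=
    { carrier := {y | ∃ a, j a = (s : R) • g y}
      add_mem' := fun {u v} hu hv => by
        obtain ⟨a, ha⟩ := hu
        obtain ⟨a', ha'⟩ := hv
        exact ⟨a + a', by rw [map_add, map_add, smul_add, ha, ha']⟩
      zero_mem' := ⟨0, by rw [map_zero, map_zero, smul_zero]⟩
      smul_mem' := fun c u hu => by
        obtain ⟨a, ha⟩ := hu
        refine ⟨c * a, ?_⟩
        rw [map_smul, smul_comm (s : R) c, ← ha]
        show (c * a) ⊗ₜ[R] (1 : K) = c • (a ⊗ₜ[R] (1 : K))
        rw [TensorProduct.smul_tmul', smul_eq_mul] }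
  have hP : ∀ y, y ∈ P := by
    intro y
    obtain ⟨z, rfl⟩ := hπ y
    rw [pi_eq_sum_univ' z, map_sum]
    refine P.sum_mem fun i _ => ?_
    rw [map_smul]
    exact P.smul_mem _ (hs i (Finset.mem_univ i))
  choose a ha using fun y => hP y
  have hab : a b ≠ 0 := by
    intro h0
    have h1 := ha b
    rw [h0, map_zero] at h1
    refine hg ?_
    exact (IsLocalizedModule.map_units ((TensorProduct.mk R A K).flip 1) s |> fun h => ((Module.End.isUnit_iff _).1 h).1) (by
      simp only [Module.algebraMap_end_apply, smul_zero]
      exact h1.symm)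
  obtain ⟨f, hf⟩ := hA _ hab
  let a' : B →ₗ[R] A :=
    { toFun := a
      map_add' := fun u v => sub_eq_zero.1 (hA0 _ (by rw [map_sub, map_add, ha, ha, ha, map_add, smul_add, sub_self]))
      map_smul' := fun r u => sub_eq_zero.1 (hA0 _ (by
        rw [RingHom.id_apply, map_sub, map_smul, ha, ha, LinearMap.map_smul_of_tower g r u, smul_comm, sub_self])) }
  exact ⟨f ∘ₗ a', hf⟩

end Groth.Agent.S13161
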