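import Groth.Statements.S13162
import Mathlib.GroupTheory.Sylow
import Mathlib.RingTheory.Ideal.Quotient.Operations

set_option autoImplicit false
universe u v
open ZeroCyc

namespace Groth.Agent.S13162

/-- Let a finite group G act on a commutative ring A by ring automorphisms and let p be a prime such
that every integer prime to p is a unit in A. If I is an ideal of A and f ∈ A has G-invariant class
modulo I, then f^(p^k) is congruent modulo I to a G-invariant element of A, where p^k is the exact
power of p dividing the order of G. (The published statement assumes I stable under G, so that G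
acts on A/I and the claim reads: the p^k-th power of an invariant of A/I lies in the image of the
invariants of A; the form here asks only that the class of f be invariant.) -/
theorem result {A : Type u} [CommRing A] {G : Type v} [Group G] [Fintype G]
    [MulSemiringAction G A] (p : ℕ) [Fact p.Prime]
    (hA : ∀ m : ℕ, ¬ p ∣ m → IsUnit (m : A))
    (I : Ideal A) (f : A) (hf : ∀ g : G, g • f - f ∈ I) :
    ∃ a : A, (∀ g : G, g • a = a) ∧ a - f ^ (p ^ (Fintype.card G).factorization p) ∈ I := by
  classical
  obtain ⟨H⟩ : Nonempty (Sylow p G) := inferInstance
  let b : G → A := fun g => ∏ h : (H : Subgroup G), (g * (h : G)) • f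
  have hb : ∀ g (h : (H : Subgroup G)), b (g * (h : G)) = b g := fun g h => by
    refine Fintype.prod_equiv (Equiv.mulLeft h) _ _ fun h' => ?_
    simp [mul_assoc]
  let bq : G ⧸ (H : Subgroup G) → A := Quotient.lift b fun x y hxy => by
    replace hxy := QuotientGroup.leftRel_apply.1 hxy
    have := hb x ⟨_, hxy⟩
    simpa using this.symm
  have hbg : ∀ (g x : G), g • b x = b (g * x) := fun g x => by
    simp only [b, Finset.smul_prod', smul_smul, mul_assoc]
  have hm : IsUnit ((Nat.card (G ⧸ (H : Subgroup G)) : ℕ) : A) := hA _ (H.not_dvd_index)
  obtain ⟨v, hv⟩ := hm.exists_left_inv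
  have hcard : Nat.card (H : Subgroup G) = p ^ (Fintype.card G).factorization p := by
    rw [H.card_eq_multiplicity, Nat.card_eq_fintype_card]
  refine ⟨v * ∑ q, bq q, fun g => ?_, ?_⟩
  · rw [smul_mul', Finset.smul_sum]
    have hv' : g • v = v := by
      have h := congrArg (g • ·) hv
      simp only [smul_mul', smul_one] at h
      have e : g • ((Nat.card (G ⧸ (H : Subgroup G)) : ℕ) : A) = (Nat.card (G ⧸ (H : Subgroup G)) : ℕ) :=
        map_natCast (MulSemiringAction.toRingHom G A g) _
      rw [e] at h
      exact hm.mul_right_cancel (h.trans hv.symm)
    rw [hv']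
    congr 1
    refine Fintype.sum_equiv (MulAction.toPerm g) _ _ fun q => ?_
    induction q using QuotientGroup.induction_on with
    | H x => exact hbg g x
  · have hq : ∀ q, Ideal.Quotient.mk I (bq q) = Ideal.Quotient.mk I (f ^ (p ^ (Fintype.card G).factorization p)) := fun q => by
      induction q using QuotientGroup.induction_on with
      | H x =>
        show Ideal.Quotient.mk I (b x) = _
        simp only [b, map_prod, map_pow]
        have e : ∀ h : (H : Subgroup G), Ideal.Quotient.mk I ((x * (h : G)) • f) = Ideal.Quotient.mk I f :=
          fun h => Ideal.Quotient.eq.2 (hf _)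
        simp only [e, Finset.prod_const, Finset.card_univ, ← Nat.card_eq_fintype_card]
        rw [hcard, Nat.card_eq_fintype_card]
    rw [← Ideal.Quotient.eq, map_mul, map_sum, Finset.sum_congr rfl fun q _ => hq q, Finset.sum_const, Finset.card_univ,
      nsmul_eq_mul, ← Nat.card_eq_fintype_card, ← mul_assoc, ← map_natCast (Ideal.Quotient.mk I), ← map_mul, hv, map_one,
      one_mul]

end Groth.Agent.S13162
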