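import Groth.Statements.S13163
import Mathlib.SetTheory.Cardinal.Finite

set_option autoImplicit false
universe u
open ZeroCyc

namespace Groth.Agent.S13163

open Polynomial in
/-- Let P_d(T) = ∏_{0 ≤ i < j ≤ d} (T^i − T^j) − 1 ∈ ℤ[T]. Every residue field of ℤ[T]/(P_d), i.e. every
field receiving a ring homomorphism from it, has at least d + 1 elements. -/
theorem result (d : ℕ) (k : Type u) [Field k]
    (φ : (ℤ[X] ⧸ Ideal.span {(∏ j ∈ Finset.range (d + 1), ∏ i ∈ Finset.range j,
        ((X : ℤ[X]) ^ i - X ^ j)) - 1}) →+* k) :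
    ((d + 1 : ℕ) : Cardinal) ≤ Cardinal.mk k := by
  let α : k := φ (Ideal.Quotient.mk _ X)
  have h : ∏ j ∈ Finset.range (d + 1), ∏ i ∈ Finset.range j, (α ^ i - α ^ j) = 1 := by
    have := congrArg φ (Ideal.Quotient.eq.2 (Ideal.subset_span (Set.mem_singleton _) :
      (∏ j ∈ Finset.range (d + 1), ∏ i ∈ Finset.range j, ((X : ℤ[X]) ^ i - X ^ j)) - 1 ∈
        Ideal.span {(∏ j ∈ Finset.range (d + 1), ∏ i ∈ Finset.range j, ((X : ℤ[X]) ^ i - X ^ j)) - 1}))
    simpa [map_prod, map_sub, map_pow, α] using this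
  have hne : ∀ j ≤ d, ∀ i < j, α ^ i ≠ α ^ j := fun j hj i hi e => by
    rw [Finset.prod_eq_zero (Finset.mem_range.2 (Nat.lt_succ_of_le hj))
      (Finset.prod_eq_zero (Finset.mem_range.2 hi) (sub_eq_zero.2 e))] at h
    exact zero_ne_one h
  have hinj : Function.Injective fun i : ULift.{u} (Fin (d + 1)) => α ^ (i.down : ℕ) := fun i j e => by
    rcases lt_trichotomy (i.down : ℕ) j.down with h' | h' | h'
    · exact absurd e (hne _ (Nat.le_of_lt_succ j.down.2) _ h')
    · exact ULift.ext _ _ (Fin.ext h')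
    · exact absurd e.symm (hne _ (Nat.le_of_lt_succ i.down.2) _ h')
  simpa using Cardinal.mk_le_of_injective hinj

end Groth.Agent.S13163
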