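import Groth.Statements.S13166
import Groth.Agent.AvoidSub.Basic

set_option autoImplicit false
universe u
open ZeroCyc

namespace Groth.Agent.S13166

/-- Let k be a field, B a k-algebra generated as an algebra by a k-subspace V, k'/k a field extension
and x_1, …, x_d pairwise distinct k'-points of B ⊗_k k' (equivalently, distinct k-algebra
homomorphisms B → k'). If k has at least d(d − 1)/2 elements, then there is b ∈ V whose values at
x_1, …, x_d are pairwise distinct. -/
theorem result {k : Type u} [Field k] {B : Type u} [CommRing B] [Algebra k B] (V : Submodule k B)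
    (hV : Algebra.adjoin k (V : Set B) = ⊤) {k' : Type u} [Field k'] [Algebra k k']
    {d : ℕ} (x : Fin d → (B →ₐ[k] k')) (hx : Function.Injective x)
    (hk : ((d.choose 2 : ℕ) : Cardinal) ≤ Cardinal.mk k) :
    ∃ b ∈ V, Function.Injective fun i => x i b := by
  classical
  let P := (Finset.univ : Finset (Fin d × Fin d)).filter fun q => q.1 < q.2
  let W : Fin d × Fin d → Submodule k V := fun q => LinearMap.ker (((x q.1).toLinearMap - (x q.2).toLinearMap).comp V.subtype)
  have hP : P.card = d.choose 2 := by
    rw [show d.choose 2 = ((Finset.univ : Finset (Fin d)).powersetCard 2).card by rw [Finset.card_powersetCard, Finset.card_fin]]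
    refine Finset.card_bij (fun q _ => {q.1, q.2}) ?_ ?_ ?_
    · intro q hq; simp [P] at hq
      exact Finset.mem_powersetCard.2 ⟨Finset.subset_univ _, Finset.card_pair hq.ne⟩
    · intro q hq q' hq' h; simp [P] at hq hq'
      simp only [Finset.ext_iff, Finset.mem_insert, Finset.mem_singleton] at h
      have h1 := (h q.1).1 (Or.inl rfl)
      have h2 := (h q.2).1 (Or.inr rfl)
      rcases h1 with h1 | h1 <;> rcases h2 with h2 | h2
      · exact absurd (h1.trans h2.symm) hq.ne
      · exact Prod.ext h1 h2
      · exact absurd (h1 ▸ h2 ▸ hq) (not_lt.2 hq'.le)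
      · exact absurd (h1.trans h2.symm) hq.ne
    · intro t ht
      rw [Finset.mem_powersetCard] at ht
      obtain ⟨a, b, hab, rfl⟩ := Finset.card_eq_two.1 ht.2
      rcases lt_or_gt_of_ne hab with h | h
      · exact ⟨(a, b), by simp [P, h], rfl⟩
      · exact ⟨(b, a), by simp [P, h], Finset.pair_comm b a⟩
  obtain ⟨c⟩ : Nonempty (Fin (d.choose 2) ↪ k) := by
    rw [← Cardinal.lift_mk_le', Cardinal.mk_fin, Cardinal.lift_natCast]
    simpa using hk
  obtain ⟨v, hv⟩ := AvoidSub.exists_notMem (⊥ : Ideal k) P W
    (fun q _ a u h hu => by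
      by_contra ha
      refine hu ?_
      have := (W q).smul_mem a⁻¹ h
      rwa [smul_smul, inv_mul_cancel₀ (show a ≠ 0 from fun h0 => ha (by rw [h0]; exact zero_mem _)), one_smul] at this)
    (fun q hq htop => by
      simp [P] at hq
      refine hq.ne (hx (AlgHom.ext_of_adjoin_eq_top hV fun b hb => ?_))
      have h1 : (⟨b, hb⟩ : V) ∈ W q := htop ▸ Submodule.mem_top
      simpa [W, sub_eq_zero] using h1)
    c (fun a b h => c.injective (sub_eq_zero.1 (Ideal.mem_bot.1 h))) hP.le
  refine ⟨v, v.2, fun i j hij => ?_⟩
  by_contra hne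
  rcases lt_or_gt_of_ne hne with h | h
  · exact hv (i, j) (by simp [P, h]) (by simpa [W, sub_eq_zero] using hij)
  · exact hv (j, i) (by simp [P, h]) (by simpa [W, sub_eq_zero] using hij.symm)

end Groth.Agent.S13166
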