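import Groth.Statements.S13167
import Groth.Agent.AvoidSub.Basic

set_option autoImplicit false
universe u
open AlgebraicGeometry
open ZeroCyc

namespace Groth.Agent.S13167

/-- Let B be a graded R-algebra generated by its degree-one part B_1, with B_1 a finitely generated
R-module, and let x_1, …, x_d be points of X = Proj B lying over one and the same prime p of R. If
the residue field of p has at least d elements, then some f ∈ B_1 ⊆ Γ(X, O_X(1)) has all the x_i in
D_+(f). (Without the hypothesis on the residue field such an f exists in some B_n with n ≥ 1; that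
first assertion is a known property of ample sheaves and is not restated here.) -/
theorem result {R A : Type u} [CommRing R] [CommRing A] [Algebra R A] (𝒜 : ℕ → Submodule R A) [GradedAlgebra 𝒜]
    (hgen : Algebra.adjoin R (𝒜 1 : Set A) = ⊤) (hfg : (𝒜 1).FG)
    (p : Ideal R) [p.IsPrime] {d : ℕ} (x : Fin d → Proj 𝒜)
    (hx : ∀ i, ((x i).asHomogeneousIdeal.toIdeal).comap (algebraMap R A) = p)
    (hcard : (d : Cardinal) ≤ Cardinal.mk p.ResidueField) :
    ∃ g ∈ 𝒜 1, ∀ i, x i ∈ Proj.basicOpen 𝒜 g := by
  classical
  obtain ⟨e⟩ : Nonempty (Fin d ↪ R ⧸ p) := by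
    cases finite_or_infinite (R ⧸ p) with
    | inl _ =>
      have : p.IsMaximal := Ideal.Quotient.maximal_of_isField p (Finite.isField_of_domain (R ⧸ p))
      have e := Equiv.ofBijective _ p.bijective_algebraMap_quotient_residueField
      rw [← Cardinal.lift_mk_le', Cardinal.mk_fin, Cardinal.lift_natCast, Cardinal.mk_congr e]
      simpa using hcard
    | inr _ => exact ⟨Fin.valEmbedding.trans (Infinite.natEmbedding _)⟩
  choose c hc using fun a => Ideal.Quotient.mk_surjective (I := p) (e a)
  let W : Fin d → Submodule R (𝒜 1) := fun i =>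
    Submodule.comap (𝒜 1).subtype ((x i).asHomogeneousIdeal.toIdeal.restrictScalars R)
  obtain ⟨g, hg⟩ := AvoidSub.exists_notMem p (Finset.univ : Finset (Fin d)) W
    (fun i _ a u h hu => by
      have h1 : algebraMap R A a * (u : A) ∈ (x i).asHomogeneousIdeal.toIdeal := by
        rw [← Algebra.smul_def]; exact h
      rw [← hx i, Ideal.mem_comap]
      exact ((x i).isPrime.mem_or_mem h1).resolve_right hu)
    (fun i _ htop => by
      obtain ⟨s, hs, hsn⟩ := AvoidSub.exists_notMem_degree 𝒜 _ hgen (fun s hs => ⟨1, one_pos, hs⟩) (x i)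
      exact hsn (show (⟨s, hs⟩ : 𝒜 1) ∈ W i from htop ▸ Submodule.mem_top))
    c (fun a b h => e.injective (by rw [← hc, ← hc]; exact Ideal.Quotient.eq.2 h)) (Finset.card_fin d).le
  exact ⟨g, g.2, fun i => (ProjectiveSpectrum.mem_basicOpen _ _ _).2 (hg i (Finset.mem_univ i))⟩

end Groth.Agent.S13167
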