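import Groth.Statements.S13168
import Groth.Agent.AvoidSub.Basic

set_option autoImplicit false
universe u
open AlgebraicGeometry
open ZeroCyc

namespace Groth.Agent.S13168

/-- Let B be a graded R-algebra generated by homogeneous elements f_1, …, f_s of positive degrees d_1,
…, d_s, let l be the least common multiple of the d_i and X = Proj B. For n = a l with a ≥ 1, X is
the union of the opens D_+(g), g ∈ B_n. -/
theorem result {R A : Type u} [CommRing R] [CommRing A] [Algebra R A] (𝒜 : ℕ → Submodule R A) [GradedAlgebra 𝒜]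
    {s : ℕ} (f : Fin s → A) (deg : Fin s → ℕ) (hdeg : ∀ i, 0 < deg i) (hf : ∀ i, f i ∈ 𝒜 (deg i))
    (hgen : Algebra.adjoin R (Set.range f) = ⊤) (a : ℕ) (ha : 0 < a) :
    (⨆ g : 𝒜 (a * Finset.univ.lcm deg), Proj.basicOpen 𝒜 (g : A)) = ⊤ := by
  rw [eq_top_iff]
  rintro x -
  obtain ⟨_, ⟨i, rfl⟩, hi⟩ := AvoidSub.exists_notMem_degree 𝒜 _ hgen
    (fun s hs => by obtain ⟨i, rfl⟩ := hs; exact ⟨deg i, hdeg i, hf i⟩) x
  obtain ⟨e, he⟩ : deg i ∣ a * Finset.univ.lcm deg :=
    (Finset.dvd_lcm (Finset.mem_univ i)).mul_left a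
  refine TopologicalSpace.Opens.mem_iSup.2 ⟨⟨f i ^ e, ?_⟩, ?_⟩
  · rw [he, mul_comm]
    exact SetLike.pow_mem_graded e (hf i)
  · exact (ProjectiveSpectrum.mem_basicOpen _ _ _).2 fun h => hi (x.isPrime.mem_of_pow_mem e h)

end Groth.Agent.S13168
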