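import Groth.Statements.S13174
import Mathlib.RingTheory.PolynomialLaw.Basic
import Mathlib.RingTheory.TensorProduct.DirectLimitFG

set_option autoImplicit false
universe u v w
open scoped TensorProduct
open ZeroCyc

namespace Groth.Agent.S13174

/-- Let M and N be A-modules. Polynomial laws M → N correspond one-to-one, by restriction, to families
of maps T_n : M[t_1, …, t_n] → N[t_1, …, t_n], n ≥ 0, compatible with all A-algebra homomorphisms
A[t_1, …, t_n] → A[t_1, …, t_m]: in the definition of a polynomial law the category of A-algebras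
may be replaced by the polynomial rings in finitely many variables. (Here a polynomial law is given
on all commutative A-algebra semirings of the universe of A.) -/
theorem result {A : Type u} [CommRing A] {M : Type v} [AddCommGroup M] [Module A M] {N : Type w} [AddCommGroup N] [Module A N] :
    Function.Bijective (fun F : M →ₚₗ[A] N =>
      (⟨fun n => F.toFun' (MvPolynomial (Fin n) A), fun n m φ => F.isCompat' φ⟩ :
        {T : ∀ n : ℕ, MvPolynomial (Fin n) A ⊗[A] M → MvPolynomial (Fin n) A ⊗[A] N //
          ∀ (n m : ℕ) (φ : MvPolynomial (Fin n) A →ₐ[A] MvPolynomial (Fin m) A),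
            φ.toLinearMap.rTensor N ∘ T n = T m ∘ φ.toLinearMap.rTensor M})) := by
  classical
  have hcomp : ∀ (F : M →ₚₗ[A] N) (S : Type u) [CommSemiring S] [Algebra A S] (n : ℕ)
      (φ : MvPolynomial (Fin n) A →ₐ[A] S) (p : MvPolynomial (Fin n) A ⊗[A] M),
      φ.toLinearMap.rTensor N (F.toFun' _ p) = F.toFun' S (φ.toLinearMap.rTensor M p) :=
    fun F S _ _ n φ p => congrFun (F.isCompat' φ) p
  constructor
  · intro F G hFG
    have h : ∀ n, F.toFun' (MvPolynomial (Fin n) A) = G.toFun' (MvPolynomial (Fin n) A) :=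
      congrFun (congrArg Subtype.val hFG)
    refine PolynomialLaw.ext (funext fun S => funext fun _ => funext fun _ => funext fun z => ?_)
    obtain ⟨n, ψ, p, rfl⟩ := PolynomialLaw.exists_lift z
    rw [← hcomp F, ← hcomp G, h]
  · rintro ⟨T, hT⟩
    have hT' : ∀ {n m : ℕ} (φ : MvPolynomial (Fin n) A →ₐ[A] MvPolynomial (Fin m) A) p,
        φ.toLinearMap.rTensor N (T n p) = T m (φ.toLinearMap.rTensor M p) := fun φ p => congrFun (hT _ _ φ) p
    -- two lifts along the same map give the same value
    have same : ∀ (S : Type u) [CommSemiring S] [Algebra A S] {n : ℕ} (φ : MvPolynomial (Fin n) A →ₐ[A] S)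
        (p p' : MvPolynomial (Fin n) A ⊗[A] M), φ.rangeRestrict.toLinearMap.rTensor M p = φ.rangeRestrict.toLinearMap.rTensor M p' →
        φ.toLinearMap.rTensor N (T n p) = φ.toLinearMap.rTensor N (T n p') := by
      intro S iS _ n φ p p' h
      letI : CommRing S := (algebraMap A S).commSemiringToCommRing
      have hsurj : Function.Surjective φ.rangeRestrict.toLinearMap := φ.rangeRestrict_surjective
      have hex := rTensor_exact M (LinearMap.exact_subtype_ker_map φ.rangeRestrict.toLinearMap) hsurj
      obtain ⟨w, hw⟩ := (hex (p' - p)).1 (by rw [map_sub, h, sub_self])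
      obtain ⟨k, j, mm, rfl⟩ : ∃ (k : ℕ) (j : Fin k → LinearMap.ker φ.rangeRestrict.toLinearMap) (mm : Fin k → M),
          w = ∑ i, j i ⊗ₜ[A] mm i := by
        clear hw
        induction w using TensorProduct.induction_on with
        | zero => exact ⟨0, Fin.elim0, Fin.elim0, by simp⟩
        | tmul a b => exact ⟨1, fun _ => a, fun _ => b, by simp⟩
        | add a b ha hb =>
          obtain ⟨k, j, mm, rfl⟩ := ha
          obtain ⟨k', j', mm', rfl⟩ := hb
          exact ⟨k + k', Fin.append j j', Fin.append mm mm', by simp [Fin.sum_univ_add]⟩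
      let i₀ : MvPolynomial (Fin n) A →ₐ[A] MvPolynomial (Fin (n + k)) A := MvPolynomial.rename (Fin.castAdd k)
      let q := i₀.toLinearMap.rTensor M p + ∑ i, MvPolynomial.X (Fin.natAdd n i) ⊗ₜ[A] mm i
      let ψ : (Fin k → MvPolynomial (Fin n) A) → (MvPolynomial (Fin (n + k)) A →ₐ[A] MvPolynomial (Fin n) A) :=
        fun v => MvPolynomial.aeval (Fin.append MvPolynomial.X v)
      have hψ : ∀ v, (ψ v).toLinearMap.rTensor M q = p + ∑ i, v i ⊗ₜ[A] mm i := fun v => by
        have : (ψ v).comp i₀ = AlgHom.id A _ := by ext i; simp [ψ, i₀]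
        rw [map_add, ← LinearMap.rTensor_comp_apply, ← AlgHom.comp_toLinearMap, this]
        simp [ψ]
      have e0 := hψ 0
      have e1 := hψ fun i => (j i).1
      simp only [Pi.zero_apply, TensorProduct.zero_tmul, Finset.sum_const_zero, add_zero] at e0
      have hp' : p + ∑ i, (j i).1 ⊗ₜ[A] mm i = p' := by
        rw [map_sum] at hw
        simp only [LinearMap.rTensor_tmul, Submodule.coe_subtype] at hw
        rw [hw, add_sub_cancel]
      rw [hp'] at e1
      have hφ : φ.comp (ψ 0) = φ.comp (ψ fun i => (j i).1) := by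
        refine MvPolynomial.algHom_ext fun i => ?_
        induction i using Fin.addCases with
        | left i => simp [ψ]
        | right i =>
          have := congrArg Subtype.val (LinearMap.mem_ker.1 (j i).2)
          change φ ((j i).1) = 0 at this
          simp [ψ, this]
      rw [← e0, ← e1, ← hT', ← hT', ← LinearMap.rTensor_comp_apply, ← LinearMap.rTensor_comp_apply,
        ← AlgHom.comp_toLinearMap, ← AlgHom.comp_toLinearMap, hφ]
    have wd : ∀ (S : Type u) [CommSemiring S] [Algebra A S] {n m : ℕ} (φ : MvPolynomial (Fin n) A →ₐ[A] S)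
        (φ' : MvPolynomial (Fin m) A →ₐ[A] S) (p : MvPolynomial (Fin n) A ⊗[A] M) (p' : MvPolynomial (Fin m) A ⊗[A] M),
        φ.toLinearMap.rTensor M p = φ'.toLinearMap.rTensor M p' →
        φ.toLinearMap.rTensor N (T n p) = φ'.toLinearMap.rTensor N (T m p') := by
      intro S _ _ n m φ φ' p p' h
      have hfg : ∀ {l : ℕ} (f : MvPolynomial (Fin l) A →ₐ[A] S), f.range.FG := fun f => by
        rw [← Algebra.map_top]
        exact Subalgebra.FG.map _ Algebra.FiniteType.out
      obtain ⟨B, hB1, hB2, ⟨t, ht⟩, hB⟩ := TensorProduct.Algebra.eq_of_fg_of_subtype_eq' (R := A) (hfg φ) (hfg φ')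
        (t := φ.rangeRestrict.toLinearMap.rTensor M p) (t' := φ'.rangeRestrict.toLinearMap.rTensor M p') (by
          rw [← LinearMap.rTensor_comp_apply, ← LinearMap.rTensor_comp_apply, ← AlgHom.comp_toLinearMap,
            ← AlgHom.comp_toLinearMap, φ.val_comp_rangeRestrict, φ'.val_comp_rangeRestrict]
          exact h)
      let g : Fin (n + (m + t.card)) → S := Fin.append (fun i => φ (MvPolynomial.X i))
        (Fin.append (fun i => φ' (MvPolynomial.X i)) (fun i => (t.equivFin.symm i : S)))
      let χ : MvPolynomial (Fin (n + (m + t.card))) A →ₐ[A] S := MvPolynomial.aeval g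
      let i₁ : MvPolynomial (Fin n) A →ₐ[A] MvPolynomial (Fin (n + (m + t.card))) A := MvPolynomial.rename (Fin.castAdd _)
      let i₂ : MvPolynomial (Fin m) A →ₐ[A] MvPolynomial (Fin (n + (m + t.card))) A :=
        MvPolynomial.rename (Fin.natAdd n ∘ Fin.castAdd _)
      have e₁ : χ.comp i₁ = φ := by ext i; simp [χ, i₁, g]
      have e₂ : χ.comp i₂ = φ' := by ext i; simp [χ, i₂, g]
      have hBχ : B ≤ χ.range := by
        rw [← ht, Algebra.adjoin_le_iff]
        intro s hs
        exact ⟨MvPolynomial.X (Fin.natAdd n (Fin.natAdd m (t.equivFin ⟨s, hs⟩))), by simp [χ, g]⟩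
      have := same S χ (i₁.toLinearMap.rTensor M p) (i₂.toLinearMap.rTensor M p') (by
        have hl := congrArg ((Subalgebra.inclusion hBχ).toLinearMap.rTensor M) hB
        simp only [← LinearMap.rTensor_comp_apply, ← AlgHom.comp_toLinearMap] at hl ⊢
        have c1 : χ.rangeRestrict.comp i₁ = (Subalgebra.inclusion hBχ).comp ((Subalgebra.inclusion hB1).comp φ.rangeRestrict) :=
          AlgHom.ext fun a => Subtype.ext (AlgHom.congr_fun e₁ a)
        have c2 : χ.rangeRestrict.comp i₂ = (Subalgebra.inclusion hBχ).comp ((Subalgebra.inclusion hB2).comp φ'.rangeRestrict) :=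
          AlgHom.ext fun a => Subtype.ext (AlgHom.congr_fun e₂ a)
        rw [c1, c2]
        exact hl)
      rwa [← hT', ← hT', ← LinearMap.rTensor_comp_apply, ← LinearMap.rTensor_comp_apply, ← AlgHom.comp_toLinearMap,
        ← AlgHom.comp_toLinearMap, e₁, e₂] at this
    refine ⟨{ toFun' := fun S _ _ z => (PolynomialLaw.exists_lift z).choose_spec.choose.toLinearMap.rTensor N
                (T _ (PolynomialLaw.exists_lift z).choose_spec.choose_spec.choose)
              isCompat' := fun {S} _ _ {S'} _ _ h => funext fun z => ?_ }, ?_⟩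
    · simp only [Function.comp_apply]
      rw [← LinearMap.rTensor_comp_apply, ← AlgHom.comp_toLinearMap]
      refine wd S' _ _ _ _ ?_
      rw [AlgHom.comp_toLinearMap, LinearMap.rTensor_comp_apply,
        (PolynomialLaw.exists_lift z).choose_spec.choose_spec.choose_spec,
        (PolynomialLaw.exists_lift (h.toLinearMap.rTensor M z)).choose_spec.choose_spec.choose_spec]
    · refine Subtype.ext (funext fun n => funext fun z => ?_)
      refine (wd _ _ (AlgHom.id A _) _ z ?_).trans (by simp)
      rw [(PolynomialLaw.exists_lift z).choose_spec.choose_spec.choose_spec]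
      simp

end Groth.Agent.S13174
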