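import Groth.Statements.S13175
import Mathlib.RingTheory.PolynomialLaw.Basic

set_option autoImplicit false
universe u v w
open scoped TensorProduct
open ZeroCyc

namespace Groth.Agent.S13175

/-- Let B and C be A-algebras and F : B → C a polynomial law. If the maps F over the polynomial rings
A[t_1, …, t_n], n ≥ 0, are multiplicative (send 1 to 1 and products to products), then F is a
multiplicative law: F sends 1 to 1 and products to products over every A-algebra. -/
theorem result {A : Type u} [CommRing A] {B : Type v} [CommRing B] [Algebra A B] {C : Type w} [CommRing C] [Algebra A C]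
    (F : B →ₚₗ[A] C)
    (h1 : ∀ n : ℕ, F.toFun' (MvPolynomial (Fin n) A) 1 = 1)
    (hmul : ∀ (n : ℕ) (x y : MvPolynomial (Fin n) A ⊗[A] B),
      F.toFun' (MvPolynomial (Fin n) A) (x * y) = F.toFun' (MvPolynomial (Fin n) A) x * F.toFun' (MvPolynomial (Fin n) A) y) :
    ∀ (S : Type u) [CommRing S] [Algebra A S], F.toFun' S 1 = 1 ∧
      ∀ x y : S ⊗[A] B, F.toFun' S (x * y) = F.toFun' S x * F.toFun' S y := by
  intro S _ _
  classical
  refine ⟨?_, fun x y => ?_⟩
  · have h := congrFun (F.isCompat' (MvPolynomial.aeval (fun i : Fin 0 => i.elim0) : MvPolynomial (Fin 0) A →ₐ[A] S)) 1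
    simp only [Function.comp_apply, h1] at h
    simpa [Algebra.TensorProduct.one_def] using h.symm
  · obtain ⟨n, ψ, p, rfl⟩ := PolynomialLaw.exists_lift x
    obtain ⟨m, ψ', q, rfl⟩ := PolynomialLaw.exists_lift y
    let φ : MvPolynomial (Fin (n + m)) A →ₐ[A] S :=
      MvPolynomial.aeval (Fin.append (fun i => ψ (MvPolynomial.X i)) (fun i => ψ' (MvPolynomial.X i)))
    let i₁ : MvPolynomial (Fin n) A →ₐ[A] MvPolynomial (Fin (n + m)) A := MvPolynomial.rename (Fin.castAdd m)
    let i₂ : MvPolynomial (Fin m) A →ₐ[A] MvPolynomial (Fin (n + m)) A := MvPolynomial.rename (Fin.natAdd n)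
    have e₁ : φ.comp i₁ = ψ := by ext i; simp [φ, i₁]
    have e₂ : φ.comp i₂ = ψ' := by ext i; simp [φ, i₂]
    have hx : φ.toLinearMap.rTensor B (i₁.toLinearMap.rTensor B p) = ψ.toLinearMap.rTensor B p := by
      rw [← LinearMap.rTensor_comp_apply, ← AlgHom.comp_toLinearMap, e₁]
    have hy : φ.toLinearMap.rTensor B (i₂.toLinearMap.rTensor B q) = ψ'.toLinearMap.rTensor B q := by
      rw [← LinearMap.rTensor_comp_apply, ← AlgHom.comp_toLinearMap, e₂]
    have hm : ∀ (u v : MvPolynomial (Fin (n + m)) A ⊗[A] B),
        φ.toLinearMap.rTensor B (u * v) = φ.toLinearMap.rTensor B u * φ.toLinearMap.rTensor B v := fun u v => by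
      induction u using TensorProduct.induction_on with
      | zero => simp
      | tmul a b =>
        induction v using TensorProduct.induction_on with
        | zero => simp
        | tmul a' b' => simp
        | add v v' hv hv' => simp only [mul_add, map_add, hv, hv']
      | add u u' hu hu' => simp only [add_mul, map_add, hu, hu']
    have hm' : ∀ (u v : MvPolynomial (Fin (n + m)) A ⊗[A] C),
        φ.toLinearMap.rTensor C (u * v) = φ.toLinearMap.rTensor C u * φ.toLinearMap.rTensor C v := fun u v => by
      induction u using TensorProduct.induction_on with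
      | zero => simp
      | tmul a b =>
        induction v using TensorProduct.induction_on with
        | zero => simp
        | tmul a' b' => simp
        | add v v' hv hv' => simp only [mul_add, map_add, hv, hv']
      | add u u' hu hu' => simp only [add_mul, map_add, hu, hu']
    have hc := fun u => congrFun (F.isCompat' φ) u
    simp only [Function.comp_apply] at hc
    rw [← hx, ← hy, ← hm, ← hc, ← hc, ← hc, hmul, hm']

end Groth.Agent.S13175
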