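import Groth.Statements.S13176
import Groth.Agent.UnivHomeoPts.Basic
import Groth.Agent.QuotSch.GeomPoints

set_option autoImplicit false
universe u
open CategoryTheory CategoryTheory.Limits AlgebraicGeometry
open ZeroCyc

namespace Groth.Agent.S13176

/-- Let a finite group G act on a scheme X over S through ρ, let q : X → Y be a quotient of X by G over
S (affine, G-invariant, O_Y = the G-invariant sections of O_X), let S' → S be any morphism and X' =
X ×_S S' with the induced action ρ', and let r : X' → Y' be a quotient of X' by G. Then the morphism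
Y' → Y ×_S S' through which the canonical map X' → Y ×_S S' factors via r is a universal
homeomorphism. (The published statement assumes every G-orbit lies in an affine open, which is what
makes the quotients exist; here the two quotients are hypotheses.) -/
theorem result {X Y S S' Y' : Scheme.{u}} {G : Type u} [Group G] [Finite G]
    (ρ : G →* Aut X) (f : X ⟶ S) (hρ : ∀ σ : G, (ρ σ).hom ≫ f = f)
    (q : X ⟶ Y) (h : Y ⟶ S) (hq : q ≫ h = f) (hquot : SGA1.IsQuot ρ q)
    (g : S' ⟶ S)
    (ρ' : G →* Aut (pullback f g))
    (hρ' : ∀ σ : G, (ρ' σ).hom ≫ pullback.fst f g = pullback.fst f g ≫ (ρ σ).hom ∧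
      (ρ' σ).hom ≫ pullback.snd f g = pullback.snd f g)
    (r : pullback f g ⟶ Y') (hr : SGA1.IsQuot ρ' r)
    (m : Y' ⟶ pullback h g)
    (hm : r ≫ m = pullback.map f g h g q (𝟙 S') (𝟙 S)
      ((Category.comp_id f).trans hq.symm) ((Category.comp_id g).trans (Category.id_comp g).symm)) :
    FlatMor.IsUnivHomeo m := by
  let mp := CategoryTheory.Limits.pullback.map f g h g q (𝟙 S') (𝟙 S)
    ((Category.comp_id f).trans hq.symm) ((Category.comp_id g).trans (Category.id_comp g).symm)
  have hfst : mp ≫ CategoryTheory.Limits.pullback.fst h g = CategoryTheory.Limits.pullback.fst f g ≫ q :=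
    CategoryTheory.Limits.pullback.lift_fst _ _ _
  have hsnd : mp ≫ CategoryTheory.Limits.pullback.snd h g = CategoryTheory.Limits.pullback.snd f g := by
    rw [CategoryTheory.Limits.pullback.lift_snd, Category.comp_id]
  have sq : IsPullback (CategoryTheory.Limits.pullback.fst f g) mp q (CategoryTheory.Limits.pullback.fst h g) := by
    refine IsPullback.of_bot ?_ hfst.symm (IsPullback.of_hasPullback h g)
    rw [hsnd, hq]
    exact IsPullback.of_hasPullback f g
  have := QuotSch.isIntegralHom hquot
  have : Surjective q := ⟨QuotSch.surjective hquot⟩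
  have := QuotSch.isIntegralHom hr
  have : Surjective r := ⟨QuotSch.surjective hr⟩
  have hmpi : IsIntegralHom mp := MorphismProperty.of_isPullback sq ‹IsIntegralHom q›
  have hmps : Surjective mp := MorphismProperty.of_isPullback sq ‹Surjective q›
  have : UniversallyClosed (r ≫ m) := by rw [hm]; show UniversallyClosed mp; infer_instance
  have : UniversallyClosed m := UniversallyClosed.of_comp_surjective r m
  have : Surjective m := by
    refine ⟨fun z => ?_⟩
    obtain ⟨x, hx⟩ := hmps.surj z
    refine ⟨r x, ?_⟩
    rw [← Scheme.Hom.comp_apply, hm]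
    exact hx
  refine UnivHomeoPts.isUnivHomeo_of_points m fun Ω _ _ a b hab => ?_
  obtain ⟨a', rfl⟩ := QuotSch.exists_lift_of_isIntegralHom r a
  obtain ⟨b', rfl⟩ := QuotSch.exists_lift_of_isIntegralHom r b
  rw [Category.assoc, Category.assoc, hm] at hab
  have h1 := congrArg (· ≫ CategoryTheory.Limits.pullback.fst h g) hab
  have h2 := congrArg (· ≫ CategoryTheory.Limits.pullback.snd h g) hab
  simp only [Category.assoc] at h1 h2
  rw [show CategoryTheory.Limits.pullback.map f g h g q (𝟙 S') (𝟙 S) _ _ = mp from rfl, hfst] at h1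
  rw [show CategoryTheory.Limits.pullback.map f g h g q (𝟙 S') (𝟙 S) _ _ = mp from rfl, hsnd] at h2
  obtain ⟨σ, hσ⟩ := QuotSch.exists_comp_eq_of_point hquot (a' ≫ CategoryTheory.Limits.pullback.fst f g)
    (b' ≫ CategoryTheory.Limits.pullback.fst f g) (by rw [Category.assoc, Category.assoc]; exact h1)
  have hb : b' = a' ≫ (ρ' σ).hom := by
    apply CategoryTheory.Limits.pullback.hom_ext
    · rw [hσ, Category.assoc, Category.assoc, (hρ' σ).1]
    · rw [Category.assoc, (hρ' σ).2]; exact h2.symm
  rw [hb, Category.assoc, hr.inv]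

end Groth.Agent.S13176
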