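import Groth.Statements.S13177
import Groth.Agent.UnivHomeoPts.Basic
import Groth.Agent.QuotSch.GeomPoints

set_option autoImplicit false
universe u
open CategoryTheory CategoryTheory.Limits AlgebraicGeometry
open ZeroCyc

namespace Groth.Agent.S13177

/-- Let a finite group G act on a scheme X with quotient q : X → Y (affine, G-invariant, O_Y = the
invariant sections), let i : Z → X be a G-stable closed subscheme with the induced action and r : Z
→ W a quotient of Z by G, and let q(Z) be the scheme-theoretic image of Z in Y. Then the morphism W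
→ q(Z) through which Z → q(Z) factors via r is a schematically dominant universal homeomorphism.
(The published statement assumes the quotient of X exists; here both quotients are hypotheses.) -/
theorem result {X Y Z W : Scheme.{u}} {G : Type u} [Group G] [Finite G]
    (ρ : G →* Aut X) (q : X ⟶ Y) (hquot : SGA1.IsQuot ρ q)
    (i : Z ⟶ X) [IsClosedImmersion i] (ρZ : G →* Aut Z) (hρZ : ∀ σ : G, (ρZ σ).hom ≫ i = i ≫ (ρ σ).hom)
    (r : Z ⟶ W) (hr : SGA1.IsQuot ρZ r)
    (m : W ⟶ (i ≫ q).ker.subscheme) (hm : r ≫ m ≫ (i ≫ q).ker.subschemeι = i ≫ q) :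
    FlatMor.IsUnivHomeo m ∧ IsSchemeTheoreticallyDominant m := by
  have := QuotSch.isIntegralHom hquot
  have := QuotSch.isIntegralHom hr
  have : Surjective r := ⟨QuotSch.surjective hr⟩
  have : UniversallyClosed (r ≫ m ≫ (i ≫ q).ker.subschemeι) := by rw [hm]; infer_instance
  have : UniversallyClosed (m ≫ (i ≫ q).ker.subschemeι) :=
    UniversallyClosed.of_comp_surjective r _
  have hmuc : UniversallyClosed m :=
    MorphismProperty.of_postcomp @UniversallyClosed m (i ≫ q).ker.subschemeι
      (inferInstance : IsSeparated (i ≫ q).ker.subschemeι) ‹_›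
  have hms : Surjective m := by
    refine ⟨fun z => ?_⟩
    have hz : (i ≫ q).ker.subschemeι z ∈ Set.range (i ≫ q) := by
      have h1 : (i ≫ q).ker.subschemeι z ∈ Set.range (i ≫ q).ker.subschemeι := ⟨z, rfl⟩
      rw [Scheme.IdealSheafData.range_subschemeι, Scheme.Hom.support_ker] at h1
      rwa [((i ≫ q).isClosedMap.isClosed_range).closure_eq] at h1
    obtain ⟨x, hx⟩ := hz
    refine ⟨r x, (i ≫ q).ker.subschemeι.isClosedEmbedding.injective ?_⟩
    exact (congr($hm x)).trans hx
  have hq : r ≫ m = (i ≫ q).toImage := by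
    rw [← cancel_mono (i ≫ q).ker.subschemeι, Category.assoc, hm]
    exact (Scheme.Hom.toImage_imageι (i ≫ q)).symm
  refine ⟨UnivHomeoPts.isUnivHomeo_of_points m fun Ω _ _ a b hab => ?_, ⟨?_⟩⟩
  · obtain ⟨a', rfl⟩ := QuotSch.exists_lift_of_isIntegralHom r a
    obtain ⟨b', rfl⟩ := QuotSch.exists_lift_of_isIntegralHom r b
    have h1 := congrArg (· ≫ (i ≫ q).ker.subschemeι) hab
    simp only [Category.assoc] at h1
    rw [hm] at h1
    obtain ⟨σ, hσ⟩ := QuotSch.exists_comp_eq_of_point hquot (a' ≫ i) (b' ≫ i) (by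
      rw [Category.assoc, Category.assoc]; exact h1)
    have hb : b' = a' ≫ (ρZ σ).hom := by
      rw [← cancel_mono i, hσ, Category.assoc, Category.assoc, hρZ σ]
    rw [hb, Category.assoc, hr.inv]
  · refine le_bot_iff.1 (le_trans (Scheme.Hom.le_ker_comp r m) ?_)
    rw [hq]
    have : IsSchemeTheoreticallyDominant (i ≫ q).toImage := ⟨by
      refine Scheme.IdealSheafData.ext_of_iSup_eq_top (ι := Y.affineOpens)
        (fun U => ⟨(i ≫ q).imageι ⁻¹ᵁ U, U.2.preimage (i ≫ q).imageι⟩) ?_ fun U => ?_
      · show (⨆ U : Y.affineOpens, (i ≫ q).imageι ⁻¹ᵁ (U : Y.Opens)) = ⊤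
        rw [← Scheme.Hom.preimage_iSup, iSup_affineOpens_eq_top]; rfl
      · rw [Scheme.Hom.ker_apply, Scheme.IdealSheafData.ideal_bot]
        exact (RingHom.injective_iff_ker_eq_bot _).1 (Scheme.Hom.toImage_app_injective (i ≫ q) U)⟩
    rw [(i ≫ q).toImage.ker_eq_bot]

end Groth.Agent.S13177
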