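import Groth.Statements.S13184
import Mathlib

set_option autoImplicit false
universe u
open ZeroCyc

namespace Groth.Agent.S13184

/-- Let k ⊆ K be a finite extension of fields of characteristic p > 0, viewed inside an algebraically
closed field Ω, and for e ≥ 0 let k^{p^{-e}} ⊆ Ω be the field of elements whose p^e-th power lies in
k. Then the compositum k^{p^{-e}}K is separable over k^{p^{-e}} if and only if x^{p^e} is separable
over k for every x ∈ K; hence the exponent of K/k (the least n ≥ 1 with K^n separable over k, a
power of p) is the least p^e for which k^{p^{-e}} ⊆ k^{p^{-e}}K is separable. -/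
theorem result {k : Type u} [Field k] (p : ℕ) [Fact p.Prime] [CharP k p]
    {K : Type u} [Field K] [Algebra k K] [FiniteDimensional k K]
    {Ω : Type u} [Field Ω] [Algebra k Ω] [Algebra K Ω] [IsScalarTower k K Ω] [IsAlgClosed Ω] (e : ℕ) :
    (∀ x : Ω, x ∈ IntermediateField.adjoin k {y : Ω | y ^ (p ^ e) ∈ Set.range (algebraMap k Ω)} ⊔
        IntermediateField.adjoin k (Set.range (algebraMap K Ω)) →
      IsSeparable (IntermediateField.adjoin k {y : Ω | y ^ (p ^ e) ∈ Set.range (algebraMap k Ω)}) x) ↔
    ∀ x : K, x ^ (p ^ e) ∈ separableClosure k K := by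
  have hcp : CharP Ω p := charP_of_injective_algebraMap (algebraMap k Ω).injective p
  haveI : ExpChar Ω p := .prime Fact.out
  haveI : PerfectRing Ω p := PerfectField.toPerfectRing p
  set L := IntermediateField.adjoin k {y : Ω | y ^ (p ^ e) ∈ Set.range (algebraMap k Ω)} with hLdef
  have hF : ∀ y : Ω, iterateFrobeniusEquiv Ω p e y = y ^ (p ^ e) := fun y => iterateFrobenius_def p e y
  have hL : ∀ y ∈ L, y ^ (p ^ e) ∈ Set.range (algebraMap k Ω) := by
    intro y hy
    let S : IntermediateField k Ω :=
      Subfield.toIntermediateField ((algebraMap k Ω).fieldRange.comap (iterateFrobeniusEquiv Ω p e).toRingHom)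
        fun c => by
          show iterateFrobeniusEquiv Ω p e (algebraMap k Ω c) ∈ (algebraMap k Ω).fieldRange
          rw [hF, ← map_pow]
          exact ⟨_, rfl⟩
    have : L ≤ S := IntermediateField.adjoin_le_iff.2 fun z hz => by
      show iterateFrobeniusEquiv Ω p e z ∈ (algebraMap k Ω).fieldRange
      rw [hF]
      exact hz
    have h2 := this hy
    change iterateFrobeniusEquiv Ω p e y ∈ (algebraMap k Ω).fieldRange at h2
    rw [hF] at h2
    exact h2
  constructor
  · intro h x
    have hx : IsSeparable L (algebraMap K Ω x) :=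
      h _ (le_sup_right (a := L) (IntermediateField.subset_adjoin k _ ⟨x, rfl⟩))
    have hint := hx.isIntegral
    let g := ((minpoly L (algebraMap K Ω x)).map (algebraMap L Ω)).map (iterateFrobeniusEquiv Ω p e).toRingHom
    have hg : g ∈ Polynomial.lifts (algebraMap k Ω) := by
      rw [Polynomial.lifts_iff_coeff_lifts]
      intro n
      obtain ⟨c, hc⟩ := hL _ ((minpoly L (algebraMap K Ω x)).coeff n).2
      refine ⟨c, hc.trans ?_⟩
      simp only [g, Polynomial.coeff_map]
      exact (hF _).symm
    obtain ⟨g0, hg0⟩ := (Polynomial.mem_lifts g).1 hg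
    have hsep : g0.Separable := by
      rw [← Polynomial.separable_map (algebraMap k Ω), hg0]
      exact Polynomial.Separable.map (Polynomial.Separable.map hx)
    have hroot : Polynomial.aeval (algebraMap K Ω (x ^ p ^ e)) g0 = 0 := by
      rw [Polynomial.aeval_def, ← Polynomial.eval_map, hg0, map_pow, ← hF]
      show Polynomial.eval ((iterateFrobeniusEquiv Ω p e).toRingHom _) g = 0
      rw [Polynomial.eval_map_apply, Polynomial.eval_map, ← Polynomial.aeval_def, minpoly.aeval, map_zero]
    rw [Polynomial.aeval_algebraMap_eq_zero_iff_of_injective (algebraMap K Ω).injective] at hroot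
    rw [mem_separableClosure_iff]
    exact hsep.of_dvd (minpoly.dvd k _ hroot)
  · intro h x hx
    have hle : IntermediateField.adjoin k (Set.range (algebraMap K Ω)) ≤
        (separableClosure L Ω).restrictScalars k := by
      refine IntermediateField.adjoin_le_iff.2 ?_
      rintro z ⟨y, rfl⟩
      show algebraMap K Ω y ∈ separableClosure L Ω
      rw [mem_separableClosure_iff]
      have hy : IsSeparable k (y ^ p ^ e) := mem_separableClosure_iff.1 (h y)
      let g := ((minpoly k (y ^ p ^ e)).map (algebraMap k Ω)).map (iterateFrobeniusEquiv Ω p e).symm.toRingHom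
      have hg : g ∈ Polynomial.lifts (algebraMap L Ω) := by
        rw [Polynomial.lifts_iff_coeff_lifts]
        intro n
        simp only [g, Polynomial.coeff_map]
        refine ⟨⟨_, IntermediateField.subset_adjoin k _ ?_⟩, rfl⟩
        show _ ^ p ^ e ∈ Set.range (algebraMap k Ω)
        rw [← hF]
        exact ⟨_, ((iterateFrobeniusEquiv Ω p e).apply_symm_apply _).symm⟩
      obtain ⟨g0, hg0⟩ := (Polynomial.mem_lifts g).1 hg
      have hsep : g0.Separable := by
        rw [← Polynomial.separable_map (algebraMap L Ω), hg0]
        exact Polynomial.Separable.map (Polynomial.Separable.map hy)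
      have hroot : Polynomial.aeval (algebraMap K Ω y) g0 = 0 := by
        have he : algebraMap K Ω y = (iterateFrobeniusEquiv Ω p e).symm (algebraMap K Ω (y ^ p ^ e)) := by
          rw [RingEquiv.eq_symm_apply, hF, map_pow]
        rw [Polynomial.aeval_def, ← Polynomial.eval_map, hg0, he]
        show Polynomial.eval ((iterateFrobeniusEquiv Ω p e).symm.toRingHom _) g = 0
        rw [Polynomial.eval_map_apply, Polynomial.eval_map, ← Polynomial.aeval_def,
          Polynomial.aeval_algebraMap_apply, minpoly.aeval, map_zero, map_zero]
      exact hsep.of_dvd (minpoly.dvd L _ hroot)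
    have hsup : L ⊔ IntermediateField.adjoin k (Set.range (algebraMap K Ω)) ≤
        (separableClosure L Ω).restrictScalars k :=
      sup_le (fun z hz => (separableClosure L Ω).algebraMap_mem ⟨z, hz⟩) hle
    exact mem_separableClosure_iff.1 (hsup hx)

end Groth.Agent.S13184
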