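import Groth.Statements.S13186
import Mathlib

set_option autoImplicit false
universe u
open GalCoh
open Matrix

namespace Groth.Agent.S13186

/-- Let L/K be a finite Galois extension of fields, n a natural number, and B a map from the Galois
group of L over K to the invertible n × n matrices over L such that B(σ) · σ(B(τ)) = B(στ) for all
σ, τ (σ acting on matrices entrywise, στ applying τ first) and det B(σ) = 1 for every σ. Then there
is an invertible matrix A over L of determinant 1 with B(σ) = A⁻¹ · σ(A) for every σ; that is, every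
1-cocycle of the Galois group with values in SL_n(L) is the coboundary of an element of SL_n(L), so
H¹ of the Galois group with values in SL_n(L) is a point. (The published statement says that every
torsor under the special linear group over K is trivial; this row is the finite-Galois-level cocycle
form that its proof establishes.) -/
theorem result (K L : Type u) [Field K] [Field L]
    [Algebra K L] [FiniteDimensional K L] [IsGalois K L] (n : ℕ)
    (B : (L ≃ₐ[K] L) → GL (Fin n) L)
    (hB : ∀ σ τ : L ≃ₐ[K] L,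
      (B σ : Matrix (Fin n) (Fin n) L) * (B τ : Matrix (Fin n) (Fin n) L).map σ =
        (B (σ * τ) : Matrix (Fin n) (Fin n) L))
    (hdet : ∀ σ : L ≃ₐ[K] L, Matrix.det (B σ : Matrix (Fin n) (Fin n) L) = 1) :
    ∃ A : GL (Fin n) L, Matrix.det (A : Matrix (Fin n) (Fin n) L) = 1 ∧ ∀ σ : L ≃ₐ[K] L,
      (B σ : Matrix (Fin n) (Fin n) L) =
        ((A⁻¹ : GL (Fin n) L) : Matrix (Fin n) (Fin n) L) * (A : Matrix (Fin n) (Fin n) L).map σ := by
  classical
  let b : (Fin n → L) → (Fin n → L) := fun v => ∑ σ : L ≃ₐ[K] L, (B σ : Matrix (Fin n) (Fin n) L) *ᵥ (σ ∘ v)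
  have hfix : ∀ (σ : L ≃ₐ[K] L) v, (B σ : Matrix (Fin n) (Fin n) L) *ᵥ (σ ∘ b v) = b v := by
    intro σ v
    have h1 : (σ ∘ b v) = ∑ τ : L ≃ₐ[K] L, ((B τ : Matrix (Fin n) (Fin n) L).map σ) *ᵥ (σ ∘ τ ∘ v) := by
      funext i
      simp [b, Matrix.mulVec, dotProduct, Finset.sum_apply]
    rw [h1, Matrix.mulVec_sum]
    refine Fintype.sum_equiv (Equiv.mulLeft σ) _ _ fun τ => ?_
    rw [Matrix.mulVec_mulVec, hB]
    rfl
  have hspan : Submodule.span L (Set.range b) = ⊤ := by
    by_contra hne
    obtain ⟨φ, hφ0, hφ⟩ := Submodule.exists_le_ker_of_lt_top _ (lt_top_iff_ne_top.2 hne)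
    apply hφ0
    have key : ∀ (σ : L ≃ₐ[K] L) (j : Fin n), φ ((B σ : Matrix (Fin n) (Fin n) L) *ᵥ Pi.single j 1) = 0 := by
      intro σ j
      have hli := Fintype.linearIndependent_iff.1
        ((linearIndependent_monoidHom L L).comp (fun σ : L ≃ₐ[K] L => (σ : L →* L))
          (fun x y h => AlgEquiv.ext fun z => DFunLike.congr_fun h z))
        (fun σ => φ ((B σ : Matrix (Fin n) (Fin n) L) *ᵥ Pi.single j 1)) ?_
      · exact hli σ
      · funext x
        have h0 : φ (b (Pi.single j x)) = 0 := hφ (Submodule.subset_span ⟨_, rfl⟩)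
        simp only [b, map_sum] at h0
        simp only [Finset.sum_apply, Pi.smul_apply, Function.comp_apply, Pi.zero_apply, smul_eq_mul, MonoidHom.coe_coe]
        rw [← h0]
        refine Finset.sum_congr rfl fun τ _ => ?_
        rw [show (τ ∘ Pi.single j x : Fin n → L) = (τ x) • Pi.single j 1 from by
            funext i; by_cases hij : i = j <;> simp [Function.comp, hij],
          Matrix.mulVec_smul, map_smul, smul_eq_mul, mul_comm]
    have h1 := hB 1 1
    have hB1 : (B 1 : Matrix (Fin n) (Fin n) L) = 1 := by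
      rw [mul_one] at h1
      have h2 : (B 1 : Matrix (Fin n) (Fin n) L) * (B 1 : Matrix (Fin n) (Fin n) L) = (B 1 : Matrix (Fin n) (Fin n) L) := by
        conv_rhs => rw [← h1]
        congr 1
      calc (B 1 : Matrix (Fin n) (Fin n) L)
          = ((B 1)⁻¹ * B 1 : GL (Fin n) L) * (B 1 : Matrix (Fin n) (Fin n) L) := by simp
        _ = ((B 1)⁻¹ : GL (Fin n) L) * (B 1 : Matrix (Fin n) (Fin n) L) := by rw [Units.val_mul, mul_assoc, h2]
        _ = 1 := by simp
    refine LinearMap.pi_ext' fun j => LinearMap.ext_ring ?_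
    have h2 := key 1 j
    rw [hB1, Matrix.one_mulVec] at h2
    exact h2
  obtain ⟨f, hf⟩ : ∃ f : Fin n → (Fin n → L), ∃ _ : LinearIndependent L f, ∀ i, f i ∈ Set.range b := by
    obtain ⟨s, hs, hspan', hli⟩ := exists_linearIndependent L (Set.range b)
    rw [hspan] at hspan'
    let bs := Module.Basis.mk hli (by rw [Subtype.range_coe, hspan'])
    let e := bs.indexEquiv (Pi.basisFun L (Fin n))
    exact ⟨fun i => (e.symm i : Fin n → L), hli.comp _ e.symm.injective, fun i => hs (e.symm i).2⟩
  obtain ⟨hli, hf⟩ := hf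
  set C : Matrix (Fin n) (Fin n) L := (Matrix.of f).transpose with hC
  have hCu : IsUnit C := by
    rw [Matrix.isUnit_iff_isUnit_det, hC, Matrix.det_transpose, ← Matrix.isUnit_iff_isUnit_det,
      ← Matrix.linearIndependent_rows_iff_isUnit]
    exact hli
  have hCfix : ∀ σ : L ≃ₐ[K] L, (B σ : Matrix (Fin n) (Fin n) L) * C.map σ = C := by
    intro σ
    ext i j
    obtain ⟨v, hv⟩ := hf j
    have := congrFun (hfix σ v) i
    rw [hv] at this
    simpa [hC, Matrix.mul_apply, Matrix.mulVec, dotProduct] using this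
  set Cu := hCu.unit
  have hdC : ∀ σ : L ≃ₐ[K] L, σ C.det = C.det := by
    intro σ
    have := congrArg Matrix.det (hCfix σ)
    rw [Matrix.det_mul, hdet, one_mul] at this
    rw [AlgEquiv.map_det]; exact this
  have hd0 : C.det ≠ 0 := ((Matrix.isUnit_iff_isUnit_det C).1 hCu).ne_zero
  rcases n with _ | m
  · exact ⟨1, by simp, fun σ => Subsingleton.elim _ _⟩
  let d : Fin (m + 1) → L := fun i => if i = 0 then C.det⁻¹ else 1
  have hdd : ∀ σ : L ≃ₐ[K] L, ∀ i, σ (d i) = d i := fun σ i => by
    simp only [d]; split_ifs <;> simp [hdC]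
  set C' := C * Matrix.diagonal d with hC'
  have hdet' : C'.det = 1 := by
    rw [hC', Matrix.det_mul, Matrix.det_diagonal, Finset.prod_eq_single 0 (by intro b _ hb; simp [d, hb]) (by simp)]
    simp [d, hd0]
  have hfix' : ∀ σ : L ≃ₐ[K] L, (B σ : Matrix (Fin (m + 1)) (Fin (m + 1)) L) * C'.map σ = C' := by
    intro σ
    rw [hC', Matrix.map_mul, ← mul_assoc, hCfix, Matrix.diagonal_map (map_zero σ)]
    congr 2; funext i; exact hdd σ i
  let U := ((Matrix.isUnit_iff_isUnit_det C').2 (hdet' ▸ isUnit_one)).unit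
  refine ⟨U⁻¹, ?_, fun σ => ?_⟩
  · have h := congrArg Matrix.det (U.inv_mul)
    rw [Matrix.det_mul, Matrix.det_one] at h
    simpa [U, hdet'] using h
  · rw [inv_inv]
    have hmap : ((U⁻¹ : GL (Fin (m + 1)) L) : Matrix (Fin (m + 1)) (Fin (m + 1)) L).map σ * C'.map σ = 1 := by
      rw [← Matrix.map_mul, show C' = (U : Matrix (Fin (m + 1)) (Fin (m + 1)) L) from rfl, Units.inv_mul, Matrix.map_one _ (map_zero σ) (map_one σ)]
    calc (B σ : Matrix (Fin (m + 1)) (Fin (m + 1)) L)
        = (B σ : Matrix (Fin (m + 1)) (Fin (m + 1)) L) * (C'.map σ * ((U⁻¹ : GL (Fin (m + 1)) L) : Matrix (Fin (m + 1)) (Fin (m + 1)) L).map σ) := by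
          rw [mul_eq_one_comm.1 hmap, mul_one]
      _ = _ := by rw [← mul_assoc, hfix']; rfl

end Groth.Agent.S13186
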