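import Groth.Statements.S13188
import Mathlib

set_option autoImplicit false
universe u v w
open Brauer

namespace Groth.Agent.S13188

/-- Let K be a field with property C_2 for systems of forms and D a finite-dimensional central division
algebra over K with dim_K D = d². Let N : D → K be multiplicative, a reduced norm of D over K, and
given in the coordinates of a K-basis b of D by a homogeneous polynomial F of degree d, i.e. N(Σ x_i
b_i) = F(x) for every coordinate vector x (the reduced norm of a central simple algebra of dimension
d² is such a polynomial map of degree d; these data record it). Then N : D → K is surjective. -/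
theorem result (K : Type u) [Field K] (hK : Curves.IsCi K 2)
    (D : Type v) [DivisionRing D] [Algebra K D] [Algebra.IsCentral K D] [FiniteDimensional K D]
    (d : ℕ) (hd : Module.finrank K D = d ^ 2)
    (N : D →* K) (hN : CSAGal.IsRedNorm K D N)
    {ι : Type w} [Fintype ι] (b : Module.Basis ι K D)
    (F : MvPolynomial ι K) (hF : F.IsHomogeneous d)
    (hNF : ∀ x : ι → K, N (∑ i, x i • b i) = MvPolynomial.eval x F) :
    Function.Surjective N := by
  classical
  have hd0 : d ≠ 0 := by
    intro h
    rw [h] at hd
    exact absurd hd (Module.finrank_pos.ne')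
  have hscale : ∀ (c : K) (x : ι → K), MvPolynomial.eval (c • x) F = c ^ d * MvPolynomial.eval x F := by
    intro c x
    rw [MvPolynomial.eval_eq', MvPolynomial.eval_eq', Finset.mul_sum]
    refine Finset.sum_congr rfl fun m hm => ?_
    have hdeg : ∑ i, m i = d := by
      have := hF (MvPolynomial.mem_support_iff.1 hm)
      simpa [Finsupp.weight_apply, Finsupp.sum_fintype] using this
    simp only [Pi.smul_apply, smul_eq_mul, mul_pow, Finset.prod_mul_distrib, Finset.prod_pow_eq_pow_sum, hdeg]
    ring
  intro a
  have hN0 : N 0 = 0 := by
    have h := hNF 0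
    have h' := hscale 0 0
    simp only [Pi.zero_apply, zero_smul, Finset.sum_const_zero, zero_pow hd0, zero_mul] at h h'
    rw [h, h']
  by_cases ha : a = 0
  · exact ⟨0, hN0.trans ha.symm⟩
  let e := Fintype.equivFin ι
  let n := Fintype.card ι
  let G : MvPolynomial (Fin (n + 1)) K :=
    MvPolynomial.rename (Fin.castSucc ∘ e) F - MvPolynomial.C a * MvPolynomial.X (Fin.last n) ^ d
  have hG : G.IsHomogeneous d :=
    (MvPolynomial.IsHomogeneous.rename_isHomogeneous hF).sub (MvPolynomial.isHomogeneous_C_mul_X_pow _ _ _)
  have hn : (Fintype.card ι) = d ^ 2 := by rw [← hd, Module.finrank_eq_card_basis b]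
  obtain ⟨w, hw0, hw⟩ := hK 1 (n + 1) (fun _ => G) (fun _ => d) (fun _ => hG) (fun _ => Nat.pos_of_ne_zero hd0)
    (by simp only [Finset.univ_unique, Finset.sum_singleton, n, hn]; exact Nat.lt_succ_self _)
  have h := hw 0
  simp only [G, map_sub, map_mul, map_pow, MvPolynomial.eval_C, MvPolynomial.eval_X, MvPolynomial.eval_rename, sub_eq_zero] at h
  set x : ι → K := w ∘ (Fin.castSucc ∘ e) with hx
  set t := w (Fin.last n) with ht
  have ht0 : t ≠ 0 := by
    intro ht0
    rw [ht0, zero_pow hd0, mul_zero, ← hNF] at h
    have hxne : (∑ i, x i • b i) ≠ 0 := by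
      intro hz
      have hxz : x = 0 := funext (Fintype.linearIndependent_iff.1 b.linearIndependent x hz)
      apply hw0
      funext j
      induction j using Fin.lastCases with
      | last => exact ht0
      | cast j =>
        have := congrFun hxz (e.symm j)
        simpa [hx] using this
    exact ((isUnit_iff_ne_zero.2 hxne).map N).ne_zero h
  refine ⟨∑ i, (t⁻¹ • x) i • b i, ?_⟩
  rw [hNF, hscale, h, inv_pow, mul_comm a, ← mul_assoc, inv_mul_cancel₀ (pow_ne_zero _ ht0), one_mul]

end Groth.Agent.S13188
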