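import Groth.Statements.S13189
import Mathlib.Combinatorics.Nullstellensatz
import Mathlib.FieldTheory.Finite.Basic
import Mathlib.RingTheory.Ideal.Quotient.Operations

set_option autoImplicit false
universe u
open CAlg

namespace Groth.Agent.S13189

/-- For a finite field K of cardinality q and n ≥ 0, a polynomial p in n variables over K vanishes at
every point of K^n if and only if p belongs to the ideal generated by the X_i^q − X_i, i = 1, …, n;
in other words that ideal is the kernel of the evaluation homomorphism from K[X_1, …, X_n] to the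
ring of K-valued functions on K^n. -/
theorem result (K : Type u) [Field K] [Fintype K]
    (n : ℕ) (p : MvPolynomial (Fin n) K) :
    (∀ a : Fin n → K, MvPolynomial.eval a p = 0) ↔
      p ∈ Ideal.span (Set.range fun i : Fin n =>
        (MvPolynomial.X i ^ Fintype.card K - MvPolynomial.X i : MvPolynomial (Fin n) K)) := by
  classical
  open MvPolynomial in
  set q := Fintype.card K with hq
  have hq1 : 1 < q := Fintype.one_lt_card
  set I := Ideal.span (Set.range fun i : Fin n => (X i ^ q - X i : MvPolynomial (Fin n) K)) with hI
  let π := Ideal.Quotient.mk I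
  have hX : ∀ i, π (X i) ^ q = π (X i) := fun i => by
    rw [← map_pow]; exact Ideal.Quotient.eq.mpr (Ideal.subset_span ⟨i, rfl⟩)
  have hred : ∀ m : ℕ, ∃ m' < q, ∀ i, π (X i) ^ m = π (X i) ^ m' := by
    intro m
    induction m using Nat.strong_induction_on with
    | _ m ih =>
      rcases Nat.lt_or_ge m q with h | h
      · exact ⟨m, h, fun _ => rfl⟩
      · obtain ⟨m', h', e⟩ := ih (m - q + 1) (by omega)
        refine ⟨m', h', fun i => ?_⟩
        rw [← e i]
        conv_lhs => rw [show m = m - q + q by omega, pow_add, hX, ← pow_succ]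
  choose f hf1 hf2 using hred
  have hzero : ∀ r ∈ I, ∀ a : Fin n → K, eval a r = 0 := by
    intro r hr a
    induction hr using Submodule.span_induction with
    | mem x hx => obtain ⟨i, rfl⟩ := hx; simp [hq, FiniteField.pow_card]
    | zero => simp
    | add x y _ _ h1 h2 => simp [h1, h2]
    | smul c x _ h => simp [h]
  have key : ∀ r : MvPolynomial (Fin n) K, ∃ r', r - r' ∈ I ∧ ∀ i, r'.degreeOf i < q := by
    intro r
    induction r using MvPolynomial.induction_on' with
    | monomial d c =>
      refine ⟨monomial (Finsupp.equivFunOnFinite.symm fun i => f (d i)) c, ?_, fun i => ?_⟩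
      · rw [← Ideal.Quotient.eq, monomial_eq, monomial_eq, Finsupp.prod_fintype _ _ (fun _ => pow_zero _),
          Finsupp.prod_fintype _ _ (fun _ => pow_zero _)]
        simp only [map_mul, map_prod, map_pow]
        congr 1
        exact Finset.prod_congr rfl fun i _ => hf2 (d i) i
      · by_cases hc : c = 0
        · simp [hc]; omega
        · rw [degreeOf_monomial_eq _ i hc]; exact hf1 (d i)
    | add a b ha hb =>
      obtain ⟨a', ha1, ha2⟩ := ha
      obtain ⟨b', hb1, hb2⟩ := hb
      exact ⟨a' + b', by rw [add_sub_add_comm]; exact Ideal.add_mem _ ha1 hb1,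
        fun i => lt_of_le_of_lt (degreeOf_add_le i a' b') (max_lt (ha2 i) (hb2 i))⟩
  refine ⟨fun h => ?_, fun h a => hzero p h a⟩
  obtain ⟨r, hr1, hr2⟩ := key p
  have : r = 0 := eq_zero_of_eval_zero_at_prod_finset r (fun _ => Finset.univ) hr2 (fun a _ => by
    have := hzero _ hr1 a
    rwa [map_sub, h a, zero_sub, neg_eq_zero] at this)
  rwa [this, sub_zero] at hr1

end Groth.Agent.S13189
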