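import Groth.Statements.S13191
import Mathlib

set_option autoImplicit false
universe u v w x
open GalCoh

namespace Groth.Agent.S13191

/-- Let a group G act by automorphisms on a group A, and let E and E' each be a G-equivariant right
A-torsor (a set with a simply transitive right action of A, written m ↦ m·a, and a left action of G
with g(m·a) = (gm)·(ga)). Let m ∈ E and m' ∈ E' be points with attached maps a, a' : G → A (g·m =
m·a(g) and g·m' = m'·a'(g) for all g). Then there is a bijection E ≃ E' commuting with the actions
of G and of A if and only if a and a' are cohomologous. (The published statement is for a Galois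
group acting on discrete modules; this row takes an arbitrary group acting on a group.) -/
theorem result {G : Type u} {A : Type v} {E : Type w} {E' : Type x}
    [Group G] [Group A] [MulDistribMulAction G A]
    [MulAction G E] [MulAction Aᵐᵒᵖ E]
    (hfree : ∀ m₁ m₂ : E, ∃! a : A, m₂ = MulOpposite.op a • m₁)
    (hcompat : ∀ (g : G) (a : A) (m : E), g • (MulOpposite.op a • m) = MulOpposite.op (g • a) • g • m)
    [MulAction G E'] [MulAction Aᵐᵒᵖ E']
    (hfree' : ∀ m₁ m₂ : E', ∃! a : A, m₂ = MulOpposite.op a • m₁)
    (hcompat' : ∀ (g : G) (a : A) (m : E'), g • (MulOpposite.op a • m) = MulOpposite.op (g • a) • g • m)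
    (m : E) (a : G → A) (ha : ∀ g : G, g • m = MulOpposite.op (a g) • m)
    (m' : E') (a' : G → A) (ha' : ∀ g : G, g • m' = MulOpposite.op (a' g) • m') :
    (∃ f : E ≃ E', (∀ (g : G) (e : E), f (g • e) = g • f e) ∧
        ∀ (b : A) (e : E), f (MulOpposite.op b • e) = MulOpposite.op b • f e) ↔
      GpH1.Cohomologous a a' := by
  constructor
  · rintro ⟨f, hG, hA⟩
    obtain ⟨c, hc, -⟩ := hfree' m' (f m)
    refine ⟨c, fun g => ?_⟩
    have h1 : g • f m = MulOpposite.op (a g) • f m := by rw [← hG, ha, hA]
    rw [hc, hcompat', ha', smul_smul, smul_smul, ← MulOpposite.op_mul, ← MulOpposite.op_mul] at h1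
    have := (hfree' m' (MulOpposite.op (c * a g) • m')).unique h1.symm rfl
    rw [mul_assoc, this, inv_mul_cancel_left]
  · rintro ⟨c, hc⟩
    choose d hd hdu using fun e : E => hfree m e
    choose d' hd' hdu' using fun e : E' => hfree' (MulOpposite.op c • m') e
    let f : E ≃ E' :=
      { toFun := fun e => MulOpposite.op (d e) • MulOpposite.op c • m'
        invFun := fun e => MulOpposite.op (d' e) • m
        left_inv := fun e => by
          show MulOpposite.op (d' (MulOpposite.op (d e) • MulOpposite.op c • m')) • m = e
          rw [← hdu' _ (d e) rfl, ← hd e]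
        right_inv := fun e => by
          show MulOpposite.op (d (MulOpposite.op (d' e) • m)) • MulOpposite.op c • m' = e
          rw [← hdu _ (d' e) rfl, ← hd' e] }
    have hA : ∀ (b : A) (e : E), f (MulOpposite.op b • e) = MulOpposite.op b • f e := fun b e => by
      show MulOpposite.op (d (MulOpposite.op b • e)) • MulOpposite.op c • m' = MulOpposite.op b • MulOpposite.op (d e) • MulOpposite.op c • m'
      rw [← hdu (MulOpposite.op b • e) (d e * b) (by simp only; rw [MulOpposite.op_mul, mul_smul, ← hd e]), MulOpposite.op_mul, mul_smul]
    refine ⟨f, fun g e => ?_, hA⟩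
    have hm : f m = MulOpposite.op c • m' := by
      show MulOpposite.op (d m) • MulOpposite.op c • m' = _
      rw [← hdu m 1 (by simp only; rw [MulOpposite.op_one, one_smul]), MulOpposite.op_one, one_smul]
    have h1 : g • f m = MulOpposite.op (a g) • f m := by
      rw [hm, hcompat', ha', smul_smul, smul_smul, ← MulOpposite.op_mul, ← MulOpposite.op_mul]
      congr 2
      rw [hc g]; group
    rw [hd e, hcompat, hA, hA, hcompat', ha, hA, h1]

end Groth.Agent.S13191
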