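import Groth.Statements.S13194
import Groth.Agent.GalCohLib.Descent

set_option autoImplicit false
universe u
open GalCoh

namespace Groth.Agent.S13194

/-- Let K be a field of characteristic p > 0, L a separable closure of K, and χ a locally constant map
from the automorphism group of L over K (Krull topology) to Z/pZ with χ(στ) = χ(σ) + χ(τ) for all σ,
τ — a continuous 1-cocycle for the trivial action. Then there is an element x of L with x^p − x in K
such that σ(x) − x equals χ(σ), read in the prime field of L, for every σ. Together with the
elementary facts that σ ↦ σ(x) − x is such a cocycle for every x with x^p − x in K and vanishes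
exactly when x lies in K, this identifies the first continuous cohomology group of the absolute
Galois group of K with coefficients Z/pZ with K/℘(K), ℘(y) = y^p − y. -/
theorem result (p : ℕ) [Fact p.Prime]
    (K L : Type u) [Field K] [Field L] [Algebra K L] [CharP K p] [IsSepClosure K L]
    (χ : (L ≃ₐ[K] L) → ZMod p) (hχ : ∀ σ τ : L ≃ₐ[K] L, χ (σ * τ) = χ σ + χ τ)
    (hlc : IsLocallyConstant χ) :
    ∃ x : L, x ^ p - x ∈ Set.range (algebraMap K L) ∧
      ∀ σ : L ≃ₐ[K] L, σ x - x = ((χ σ).val : L) := by
  haveI : IsGalois K L := IsSepClosure.isGalois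
  haveI : CharP L p := charP_of_injective_algebraMap (algebraMap K L).injective p
  obtain ⟨x, hx⟩ := Groth.Agent.GalCohLib.exists_sub_eq (fun σ => ((χ σ).val : L))
    (fun σ τ => by
      simp only [hχ, ZMod.natCast_val, ZMod.cast_add (n := p) (R := L) dvd_rfl, map_natCast]
      congr 1
      rw [← ZMod.natCast_val, map_natCast])
    (hlc.comp (fun z : ZMod p => (z.val : L)))
  refine ⟨x, ?_, fun σ => (hx σ).symm⟩
  rw [InfiniteGalois.mem_range_algebraMap_iff_fixed]
  intro σ
  have h : σ x = x + ((χ σ).val : L) := by rw [hx σ]; ring
  rw [map_sub, map_pow, h, add_pow_char, ← Nat.cast_pow]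
  have : ((((χ σ).val ^ p : ℕ)) : L) = ((χ σ).val : L) := by
    rw [CharP.natCast_eq_natCast L p, ← ZMod.natCast_eq_natCast_iff]
    simp
  rw [this]; ring

end Groth.Agent.S13194
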