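import Groth.Statements.S13198
import Mathlib.FieldTheory.PurelyInseparable.Basic
import Mathlib.RingTheory.TensorProduct.Basic
import Mathlib.RingTheory.Ideal.GoingUp
import Mathlib.RingTheory.TensorProduct.Free
import Mathlib.RingTheory.IsTensorProduct
import Mathlib.RingTheory.Flat.Basic

set_option autoImplicit false
universe u
open scoped TensorProduct
open Hensel

namespace Groth.Agent.S13198

/-- Let R be a local ring which is strictly henselian (henselian, with separably closed residue field),
A a local ring which is an integral R-algebra with local structure map and whose residue field is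
purely inseparable over that of R, and B a local ring with a local homomorphism R → B. Then A ⊗_R B
is a local ring, the map B → A ⊗_R B is local, and the residue field extension of A ⊗_R B over B is
purely inseparable: every element of A ⊗_R B has a p^n-th power, p the characteristic exponent of
the residue field of B, congruent modulo the maximal ideal to an element 1 ⊗ b. -/
theorem result
    (R A B : Type u) [CommRing R] [HenselianLocalRing R] [IsSepClosed (IsLocalRing.ResidueField R)]
    [CommRing A] [IsLocalRing A] [Algebra R A] [IsLocalHom (algebraMap R A)] [Algebra.IsIntegral R A]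
    [IsPurelyInseparable (IsLocalRing.ResidueField R) (IsLocalRing.ResidueField A)]
    [CommRing B] [IsLocalRing B] [Algebra R B] [IsLocalHom (algebraMap R B)] :
    ∃ _ : IsLocalRing (A ⊗[R] B),
      IsLocalHom (Algebra.TensorProduct.includeRight : B →ₐ[R] A ⊗[R] B).toRingHom ∧
      ∀ x : A ⊗[R] B, ∃ (n : ℕ) (b : B),
        x ^ (ringExpChar (IsLocalRing.ResidueField B)) ^ n - (1 : A) ⊗ₜ[R] b ∈ IsLocalRing.maximalIdeal (A ⊗[R] B) := by
  classical
  let C := A ⊗[R] B
  let ρ : B →+* C := (Algebra.TensorProduct.includeRight : B →ₐ[R] C).toRingHom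
  let ι : A →+* C := (Algebra.TensorProduct.includeLeft : A →ₐ[R] C).toRingHom
  let q := ringExpChar (IsLocalRing.ResidueField B)
  haveI : ExpChar (IsLocalRing.ResidueField B) q := inferInstance
  haveI : ExpChar (IsLocalRing.ResidueField R) q :=
    (algebraMap (IsLocalRing.ResidueField R) (IsLocalRing.ResidueField B)).expChar
      (algebraMap (IsLocalRing.ResidueField R) (IsLocalRing.ResidueField B)).injective q
  haveI : Nontrivial C := by
    let f : C →ₐ[R] (IsLocalRing.ResidueField A) ⊗[IsLocalRing.ResidueField R] (IsLocalRing.ResidueField B) :=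
      Algebra.TensorProduct.lift
        (((Algebra.TensorProduct.includeLeft : IsLocalRing.ResidueField A →ₐ[IsLocalRing.ResidueField R] (IsLocalRing.ResidueField A) ⊗[IsLocalRing.ResidueField R] (IsLocalRing.ResidueField B))).restrictScalars R |>.comp (IsScalarTower.toAlgHom R A (IsLocalRing.ResidueField A)))
        (((Algebra.TensorProduct.includeRight : IsLocalRing.ResidueField B →ₐ[IsLocalRing.ResidueField R] (IsLocalRing.ResidueField A) ⊗[IsLocalRing.ResidueField R] (IsLocalRing.ResidueField B))).restrictScalars R |>.comp (IsScalarTower.toAlgHom R B (IsLocalRing.ResidueField B)))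
        (fun _ _ => Commute.all _ _)
    haveI : Nontrivial ((IsLocalRing.ResidueField A) ⊗[IsLocalRing.ResidueField R] (IsLocalRing.ResidueField B)) :=
      (Algebra.TensorProduct.includeRight_injective (A := IsLocalRing.ResidueField A) (B := IsLocalRing.ResidueField B)
        (algebraMap (IsLocalRing.ResidueField R) (IsLocalRing.ResidueField A)).injective).nontrivial
    exact RingHom.domain_nontrivial f.toRingHom
  have hint : ρ.IsIntegral := by
    intro x
    induction x using TensorProduct.induction_on with
    | zero => exact ρ.isIntegralElem_zero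
    | tmul a b =>
      rw [show a ⊗ₜ[R] b = ι a * ρ b from ((Algebra.TensorProduct.tmul_mul_tmul a 1 1 b).trans (by rw [mul_one, one_mul])).symm]
      refine RingHom.IsIntegralElem.mul ρ ?_ ρ.isIntegralElem_map
      obtain ⟨P, hP, hPa⟩ := Algebra.IsIntegral.isIntegral (R := R) a
      refine ⟨P.map (algebraMap R B), hP.map _, ?_⟩
      have h := congrArg ι hPa
      rw [Polynomial.hom_eval₂, map_zero] at h
      rw [Polynomial.eval₂_map]
      refine Eq.trans ?_ h
      congr 1
      ext r
      simp [ι, ρ]
    | add x y hx hy => exact hx.add ρ hy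
  have hQ : ∀ Q : Ideal C, Q.IsMaximal → Q.comap ρ = IsLocalRing.maximalIdeal B ∧ Q.comap ι = IsLocalRing.maximalIdeal A := by
    intro Q hQ
    haveI := hQ
    letI := ρ.toAlgebra
    haveI : Algebra.IsIntegral B C := ⟨hint⟩
    have h1 : Q.comap ρ = IsLocalRing.maximalIdeal B :=
      IsLocalRing.eq_maximalIdeal (Ideal.isMaximal_comap_of_isIntegral_of_isMaximal (R := B) Q)
    refine ⟨h1, IsLocalRing.eq_maximalIdeal (@Ideal.isMaximal_of_isIntegral_of_isMaximal_comap R _ A _ _ _ (Q.comap ι) inferInstance ?_)⟩
    have : (Q.comap ι).comap (algebraMap R A) = (Q.comap ρ).comap (algebraMap R B) := by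
      rw [Ideal.comap_comap, Ideal.comap_comap]
      congr 1
      ext r
      simp [ι, ρ]
    rw [this, h1, show (IsLocalRing.maximalIdeal B).comap (algebraMap R B) = IsLocalRing.maximalIdeal R from
      ((IsLocalRing.local_hom_TFAE (algebraMap R B)).out 0 4).1 ‹IsLocalHom (algebraMap R B)›]
    infer_instance
  have hpow : ∀ x : C, ∃ (n : ℕ) (b : B), ∀ Q : Ideal C, Q.IsMaximal → x ^ q ^ n - ρ b ∈ Q := by
    intro x
    induction x using TensorProduct.induction_on with
    | zero => exact ⟨0, 0, fun Q _ => by simp⟩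
    | tmul a b =>
      obtain ⟨n, r, hr⟩ := IsPurelyInseparable.pow_mem (IsLocalRing.ResidueField R) q (IsLocalRing.residue A a)
      obtain ⟨r, rfl⟩ := IsLocalRing.residue_surjective r
      have hm : a ^ q ^ n - algebraMap R A r ∈ IsLocalRing.maximalIdeal A := by
        rw [← IsLocalRing.residue_eq_zero_iff, map_sub, map_pow, ← hr, sub_eq_zero]
        rfl
      refine ⟨n, algebraMap R B r * b ^ q ^ n, fun Q hQm => ?_⟩
      rw [show a ⊗ₜ[R] b = ι a * ρ b from ((Algebra.TensorProduct.tmul_mul_tmul a 1 1 b).trans (by rw [mul_one, one_mul])).symm, mul_pow, map_mul, map_pow,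
        show ρ (algebraMap R B r) = ι (algebraMap R A r) by simp [ι, ρ], ← sub_mul, ← map_pow ι, ← map_sub]
      exact Ideal.mul_mem_right _ _ ((hQ Q hQm).2.ge hm)
    | add x y hx hy =>
      obtain ⟨n, b, hb⟩ := hx
      obtain ⟨m, c, hc⟩ := hy
      refine ⟨n + m, b ^ q ^ m + c ^ q ^ n, fun Q hQm => ?_⟩
      haveI := hQm
      letI := Ideal.Quotient.field Q
      let φ : IsLocalRing.ResidueField B →+* C ⧸ Q := Ideal.Quotient.lift _ ((Ideal.Quotient.mk Q).comp ρ)
        (fun z hz => Ideal.Quotient.eq_zero_iff_mem.2 ((hQ Q hQm).1.ge hz))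
      haveI : ExpChar (C ⧸ Q) q := expChar_of_injective_ringHom φ.injective q
      have hb' := hb Q hQm
      have hc' := hc Q hQm
      rw [← Ideal.Quotient.eq_zero_iff_mem, map_sub, sub_eq_zero, map_pow] at hb' hc' ⊢
      rw [map_add, add_pow_expChar_pow, map_add, map_add, map_pow, map_pow, map_pow, map_pow,
        ← hb', ← hc', ← pow_mul, ← pow_mul, ← pow_add, ← pow_add, add_comm m n]
  have hloc : IsLocalRing C := by
    obtain ⟨Q, hQm⟩ := Ideal.exists_maximal C
    refine IsLocalRing.of_unique_max_ideal ⟨Q, hQm, fun Q' hQ' => (hQ'.eq_of_le hQm.ne_top fun x hx => ?_)⟩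
    haveI := hQm; haveI := hQ'
    obtain ⟨n, b, hb⟩ := hpow x
    have hq : q ^ n ≠ 0 := (pow_pos (expChar_pos (IsLocalRing.ResidueField B) q) n).ne'
    have h1 : ρ b ∈ Q' := by
      simpa using Q'.sub_mem (Ideal.pow_mem_of_mem _ hx _ (Nat.pos_of_ne_zero hq)) (hb Q' hQ')
    have h2 : ρ b ∈ Q := (hQ Q hQm).1.ge ((hQ Q' hQ').1.le h1)
    exact hQm.isPrime.mem_of_pow_mem _ (by simpa using Q.add_mem (hb Q hQm) h2)
  refine ⟨hloc, ⟨fun b hb => ?_⟩, fun x => ?_⟩
  · by_contra hnb
    exact ((IsLocalRing.mem_maximalIdeal _).1 (show ρ b ∈ IsLocalRing.maximalIdeal C from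
      (hQ _ (IsLocalRing.maximalIdeal.isMaximal C)).1.ge ((IsLocalRing.mem_maximalIdeal _).2 hnb))) hb
  · obtain ⟨n, b, hb⟩ := hpow x
    exact ⟨n, b, hb _ (IsLocalRing.maximalIdeal.isMaximal C)⟩

end Groth.Agent.S13198
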