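import Groth.Statements.S13203
-- import your own Groth.Agent.* helpers here

set_option autoImplicit false
set_option backward.isDefEq.respectTransparency.types false
universe u
open CategoryTheory AlgebraicGeometry
open Neron

open CategoryTheory CategoryTheory.Limits AlgebraicGeometry
namespace Groth.Agent.S13203

theorem bijective_bc {S S' K K' : Scheme.{u}} (f : S' ⟶ S) (j : K ⟶ S) (j' : K' ⟶ S') (h : K' ⟶ K)
    (hsq : IsPullback j' h f j) (N : Over S) (Y : Over S')
    (hN : Function.Bijective fun g : (Over.map f).obj Y ⟶ N => (Over.pullback j).map g) :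
    Function.Bijective fun g : Y ⟶ (Over.pullback f).obj N => (Over.pullback j').map g := by
  let adj := (Over.mapPullbackAdj f).homEquiv Y N
  have hadj : ∀ a, (adj.symm a).left = a.left ≫ pullback.fst N.hom f := fun a => by
    simp [adj, Adjunction.homEquiv_counit]
  have big : IsPullback (pullback.fst Y.hom j') (pullback.snd Y.hom j' ≫ h) (Y.hom ≫ f) j :=
    (IsPullback.of_hasPullback Y.hom j').paste_vert hsq
  let φ := big.isoPullback
  have hφ1 : φ.hom ≫ pullback.fst (Y.hom ≫ f) j = pullback.fst Y.hom j' := big.isoPullback_hom_fst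
  have hmap : ∀ {S₀ K₀ : Scheme.{u}} (j₀ : K₀ ⟶ S₀) {A B : Over S₀} (g : A ⟶ B),
      ((Over.pullback j₀).map g).left ≫ pullback.fst B.hom j₀ = pullback.fst A.hom j₀ ≫ g.left := by
    intro S₀ K₀ j₀ A B g
    exact pullback.lift_fst _ _ _
  have hsnd : ∀ {S₀ K₀ : Scheme.{u}} (j₀ : K₀ ⟶ S₀) {A B : Over S₀} (g g' : A ⟶ B),
      ((Over.pullback j₀).map g).left ≫ pullback.fst B.hom j₀ = ((Over.pullback j₀).map g').left ≫ pullback.fst B.hom j₀ →
      (Over.pullback j₀).map g = (Over.pullback j₀).map g' := by
    intro S₀ K₀ j₀ A B g g' e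
    refine Over.OverMorphism.ext (pullback.hom_ext e ?_)
    exact (Over.w ((Over.pullback j₀).map g)).trans (Over.w ((Over.pullback j₀).map g')).symm
  constructor
  · intro a b hab
    apply adj.symm.injective
    apply hN.1
    refine hsnd j _ _ ?_
    rw [hmap, hmap, hadj, hadj]
    apply (cancel_epi φ.hom).1
    change φ.hom ≫ pullback.fst (Y.hom ≫ f) j ≫ _ = φ.hom ≫ pullback.fst (Y.hom ≫ f) j ≫ _
    rw [reassoc_of% hφ1, reassoc_of% hφ1]
    have e := congrArg (fun m => m.left ≫ pullback.fst _ _) hab
    simp only [hmap] at e
    exact (Category.assoc _ _ _).symm.trans ((congrArg (· ≫ pullback.fst N.hom f) e).trans (Category.assoc _ _ _))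
  · intro c
    let d : pullback Y.hom j' ⟶ N.left := c.left ≫ pullback.fst ((Over.pullback f).obj N).hom j' ≫ pullback.fst N.hom f
    have hd : d ≫ N.hom = pullback.fst Y.hom j' ≫ Y.hom ≫ f := by
      have hc : c.left ≫ pullback.snd ((Over.pullback f).obj N).hom j' = pullback.snd Y.hom j' := Over.w c
      simp only [d, Category.assoc, pullback.condition (f := N.hom)]
      have e2 : pullback.fst ((Over.pullback f).obj N).hom j' ≫ pullback.snd N.hom f = pullback.snd _ j' ≫ j' :=
        pullback.condition
      rw [← Category.assoc (pullback.fst ((Over.pullback f).obj N).hom j'), e2, Category.assoc, ← Category.assoc c.left, hc,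
        ← Category.assoc, ← pullback.condition, Category.assoc]
    let e : (Over.pullback j).obj ((Over.map f).obj Y) ⟶ (Over.pullback j).obj N :=
      Over.homMk (pullback.lift (φ.inv ≫ d) (pullback.snd (Y.hom ≫ f) j) (by
        rw [Category.assoc, hd, ← Category.assoc, ← hφ1, φ.inv_hom_id_assoc]
        exact pullback.condition)) (pullback.lift_snd _ _ _)
    obtain ⟨a₀, ha₀⟩ := hN.2 e
    refine ⟨adj a₀, ?_⟩
    have h1 := congrArg (fun m => m.left ≫ pullback.fst N.hom j) ha₀
    simp only [hmap] at h1
    change pullback.fst (Y.hom ≫ f) j ≫ a₀.left = pullback.lift (φ.inv ≫ d) _ _ ≫ pullback.fst N.hom j at h1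
    rw [pullback.lift_fst, ← cancel_epi φ.hom, ← Category.assoc, hφ1, φ.hom_inv_id_assoc] at h1
    have h2 : (adj a₀).left ≫ pullback.fst N.hom f = a₀.left := by rw [← hadj, Equiv.symm_apply_apply]
    refine Over.OverMorphism.ext (pullback.hom_ext ?_ ?_)
    · show ((Over.pullback j').map (adj a₀)).left ≫ pullback.fst _ j' = c.left ≫ pullback.fst _ j'
      rw [hmap]
      apply pullback.hom_ext
      · rw [Category.assoc]
        exact ((congrArg (pullback.fst Y.hom j' ≫ ·) h2).trans h1).trans (Category.assoc _ _ _).symm
      · have w1 : (adj a₀).left ≫ pullback.snd N.hom f = Y.hom := Over.w (adj a₀)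
        have hc : c.left ≫ pullback.snd ((Over.pullback f).obj N).hom j' = pullback.snd Y.hom j' := Over.w c
        have e2 : pullback.fst ((Over.pullback f).obj N).hom j' ≫ pullback.snd N.hom f = pullback.snd _ j' ≫ j' :=
          pullback.condition
        refine ((Category.assoc _ _ _).trans (congrArg (pullback.fst Y.hom j' ≫ ·) w1)).trans ?_
        rw [pullback.condition, Category.assoc, e2, ← Category.assoc, hc]
    · exact (Over.w ((Over.pullback j').map (adj a₀))).trans (Over.w c).symm


/-- Let S be a scheme, U ⊆ S a schematically dense open subscheme and N → S a smooth S-scheme with the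
Néron mapping property with respect to U: for every smooth S-scheme Y, sending an S-morphism Y → N
to its restriction Y ×_S U → N ×_S U is a bijection onto the U-morphisms. Then for every smooth
morphism g : S' → S the base change N ×_S S' → S' (again smooth) has the Néron mapping property with
respect to g⁻¹(U): for every smooth S'-scheme Y', restriction to g⁻¹(U) is a bijection from
S'-morphisms Y' → N ×_S S' onto g⁻¹(U)-morphisms. (The published statement is for models which are
algebraic spaces, tested against smooth algebraic spaces, and also says that separatedness is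
preserved; this row states the case of a smooth scheme model tested against smooth schemes.) -/
theorem result
    {S S' : Scheme.{u}} (g : S' ⟶ S) [Smooth g]
    (U : S.Opens) (hU : CInt.IsSchematicallyDense U) (N : Over S) [Smooth N.hom]
    (hN : ∀ Y : Over S, Smooth Y.hom →
      Function.Bijective (fun f : Y ⟶ N => (Over.pullback U.ι).map f))
    (Y' : Over S') [Smooth Y'.hom] :
    Function.Bijective (fun f : Y' ⟶ (Over.pullback g).obj N => (Over.pullback (g ⁻¹ᵁ U).ι).map f) := by
  haveI : Smooth (Y'.hom ≫ g) := inferInstance
  exact bijective_bc g U.ι (g ⁻¹ᵁ U).ι _ (isPullback_morphismRestrict g U).flip N Y'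
    (hN ((Over.map g).obj Y') ‹Smooth (Y'.hom ≫ g)›)

end Groth.Agent.S13203
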