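import Groth.Statements.S13206
import Groth.Agent.GrpSch.AgreeLocus

set_option autoImplicit false
universe u
open CategoryTheory AlgebraicGeometry
open AlgGrp

namespace Groth.Agent.S13206

/-- Let X → S be a separated morphism of schemes and let a finite group G act on X through
S-automorphisms. Then the functor of G-fixed points is represented by a closed subscheme of X: there
are a scheme Z and a closed immersion i : Z → X with i ∘ g = i for all g ∈ G such that every
morphism x : T → X with g ∘ x = x for all g ∈ G factors uniquely through i. (The published statement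
is for an algebraic space X over S, also treats the locally separated case and notes compatibility
with base change; this row is the separated case for schemes.) -/
theorem result
    {X S : Scheme.{u}} (p : X ⟶ S) [IsSeparated p]
    (G : Type u) [Group G] [Finite G] (ρ : G →* Aut X) (hρ : ∀ g : G, (ρ g).hom ≫ p = p) :
    ∃ (Z : Scheme.{u}) (i : Z ⟶ X), IsClosedImmersion i ∧ (∀ g : G, i ≫ (ρ g).hom = i) ∧
      ∀ (T : Scheme.{u}) (x : T ⟶ X), (∀ g : G, x ≫ (ρ g).hom = x) → ∃! z : T ⟶ Z, z ≫ i = x := by
  classical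
  choose E e he hE using fun g : G =>
    Groth.Agent.GrpSch.WeilClosed.exists_closed_equalizer p (ρ g).hom (𝟙 X) (by simpa using hρ g)
  obtain ⟨Z, i, hi, hZ⟩ : ∃ (Z : Scheme.{u}) (i : Z ⟶ X), IsClosedImmersion i ∧
      ∀ (T : Scheme.{u}) (x : T ⟶ X), (∃ z, z ≫ i = x) ↔ ∀ g, x ≫ (ρ g).hom = x := by
    refine ⟨_, (⨆ g : G, (e g).ker).subschemeι, inferInstance, fun T x => ⟨?_, fun hx => ?_⟩⟩
    · rintro ⟨z, rfl⟩ g
      have hle : (e g).ker ≤ (z ≫ (⨆ g : G, (e g).ker).subschemeι).ker :=
        ((le_iSup (fun g => (e g).ker) g).trans_eq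
          (Scheme.IdealSheafData.ker_subschemeι _).symm).trans (Scheme.Hom.le_ker_comp _ _)
      have := ((hE g) _ _).mp ⟨_, IsClosedImmersion.lift_fac _ _ hle⟩
      simpa using this
    · refine ⟨IsClosedImmersion.lift _ x ?_, IsClosedImmersion.lift_fac _ _ _⟩
      rw [Scheme.IdealSheafData.ker_subschemeι]
      refine iSup_le fun g => ?_
      obtain ⟨l, hl⟩ := ((hE g) T x).mpr (by simpa using hx g)
      rw [← hl]
      exact Scheme.Hom.le_ker_comp _ _
  refine ⟨Z, i, hi, fun g => (hZ Z i).mp ⟨𝟙 Z, Category.id_comp i⟩ g, fun T x hx => ?_⟩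
  obtain ⟨z, hz⟩ := (hZ T x).mpr hx
  exact ⟨z, hz, fun y hy => by rw [← cancel_mono i, hy, hz]⟩

end Groth.Agent.S13206
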