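import Groth.Statements.S13210
import Groth.Agent.AlgSpc.OpenSubspace

set_option backward.isDefEq.respectTransparency.types false

set_option autoImplicit false
universe u
open CategoryTheory CategoryTheory.Limits AlgebraicGeometry
open AlgGrp

namespace Groth.Agent.S13210

/-- Let S be a scheme, F an algebraic space over S which is separated over S, and G a finite group
acting on F by S-automorphisms. If i : Z → F exhibits the fppf sheaf Z as the sub-sheaf of G-fixed
points of F (i is G-invariant and every G-invariant morphism W → F factors uniquely through i), then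
Z is an algebraic space and i is a closed immersion (representable by closed immersions). (The
published statement also treats a locally separated F, whose fixed points form a subspace, and
compatibility with base change; this row states only the separated case.) -/
theorem result
    {S : Scheme.{u}} (F : AlgSp.Sp S) (hF : AlgSp.IsAlgSpace F) (hsep : AlgSp.IsSeparatedSp F)
    (G : Type u) [Group G] [Finite G] (ρ : G →* Aut F)
    (Z : AlgSp.Sp S) (i : Z ⟶ F) (hi : ∀ g : G, i ≫ (ρ g).hom = i)
    (huniv : ∀ (W : AlgSp.Sp S) (x : W ⟶ F), (∀ g : G, x ≫ (ρ g).hom = x) → ∃! z : W ⟶ Z, z ≫ i = x) :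
    AlgSp.IsAlgSpace Z ∧ AlgSp.RepWith @IsClosedImmersion i := by
  classical
  haveI : Mono i := ⟨fun {W} a b hab => by
    obtain ⟨z, -, hz⟩ := huniv W (a ≫ i) (fun g => by rw [Category.assoc, hi g])
    exact (hz a rfl).trans (hz b hab.symm).symm⟩
  have hrep : AlgSp.RepWith @IsClosedImmersion i := by
    refine Groth.Agent.AlgSpc.repWith_mk fun U x => ?_
    haveI := Fintype.ofFinite G
    have key : ∀ s : Finset G, ∃ (V : Over S) (c : V ⟶ U), IsClosedImmersion c.left ∧
        (∀ g ∈ s, (AlgSp.yon S).map c ≫ x ≫ (ρ g).hom = (AlgSp.yon S).map c ≫ x) ∧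
        ∀ (T : AlgSp.Sp S) (u : T ⟶ (AlgSp.yon S).obj U), (∀ g ∈ s, u ≫ x ≫ (ρ g).hom = u ≫ x) →
          ∃ v, v ≫ (AlgSp.yon S).map c = u := by
      intro s
      induction s using Finset.induction_on with
      | empty =>
        exact ⟨U, 𝟙 U, inferInstanceAs (IsClosedImmersion (𝟙 U.left)), by simp,
          fun T u _ => ⟨u, by simp⟩⟩
      | insert g s _ ih =>
        obtain ⟨V, c, hc, hfix, hV⟩ := ih
        obtain ⟨W, fst, d, sq⟩ := Groth.Agent.AlgSpc.exists_sq hsep.1
          (prod.lift ((AlgSp.yon S).map c ≫ x) ((AlgSp.yon S).map c ≫ x ≫ (ρ g).hom))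
        have hd : IsClosedImmersion d.left := hsep.2 _ _ _ sq
        haveI := hc
        haveI := hd
        refine ⟨W, d ≫ c, inferInstanceAs (IsClosedImmersion (d.left ≫ c.left)), fun g' hg' => ?_,
          fun T u hu => ?_⟩
        · rw [Functor.map_comp, Category.assoc, Category.assoc]
          rcases Finset.mem_insert.1 hg' with rfl | h
          · have h1 := congrArg (· ≫ prod.fst) sq.w
            have h2 := congrArg (· ≫ prod.snd) sq.w
            simp only [Category.assoc, prod.lift_fst, prod.lift_snd, diag] at h1 h2
            exact h2.symm.trans h1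
          · rw [hfix g' h]
        · obtain ⟨v, hv⟩ := hV T u fun g' hg' => hu g' (Finset.mem_insert_of_mem hg')
          refine ⟨sq.lift (u ≫ x) v ?_, ?_⟩
          · apply Limits.prod.hom_ext
            · simp only [Category.assoc, diag, prod.lift_fst, Category.comp_id]
              rw [← hv, Category.assoc]
            · simp only [Category.assoc, diag, prod.lift_snd, Category.comp_id]
              have e := hu g (Finset.mem_insert_self g s)
              rw [← hv] at e ⊢
              simp only [Category.assoc] at e ⊢
              exact e.symm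
          · rw [Functor.map_comp, ← Category.assoc, sq.lift_snd, hv]
    obtain ⟨V, c, hc, hfix, hV⟩ := key Finset.univ
    obtain ⟨z, hz, -⟩ := huniv _ ((AlgSp.yon S).map c ≫ x) fun g => by
      rw [Category.assoc]; exact hfix g (Finset.mem_univ g)
    haveI := hc
    haveI : Mono c := (Over.forget S).mono_of_mono_map (inferInstanceAs (Mono c.left))
    haveI : Mono ((AlgSp.yon S).map c) :=
      Groth.Agent.AlgSpc.mono_of_repWith (P := @IsClosedImmersion) (fun X Y f hf => by haveI := hf; infer_instance)
        ((AlgSp.repWith_yon_map_iff @IsClosedImmersion c).2 hc)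
    have hinv : ∀ (q : PullbackCone i x), ∀ g ∈ (Finset.univ : Finset G), q.snd ≫ x ≫ (ρ g).hom = q.snd ≫ x := by
      intro q g _
      rw [← q.condition_assoc, hi g, ← q.condition]
    refine ⟨V, z, c, IsPullback.mk ⟨hz⟩ ⟨PullbackCone.IsLimit.mk _ (fun q => (hV _ q.snd (hinv q)).choose)
      (fun q => ?_) (fun q => (hV _ q.snd (hinv q)).choose_spec) (fun q m h1 h2 => ?_)⟩, hc⟩
    · rw [← cancel_mono i, Category.assoc, hz, ← Category.assoc, (hV _ q.snd (hinv q)).choose_spec, q.condition]
    · rw [← cancel_mono ((AlgSp.yon S).map c), h2, (hV _ q.snd (hinv q)).choose_spec]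
  exact ⟨Groth.Agent.AlgSpc.isAlgSpace_of_mono_representable hF i hrep.1, hrep⟩

end Groth.Agent.S13210
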