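import Groth.Statements.S1324
import Groth.Agent.GeomConn.Fibre


set_option autoImplicit false
universe u
open FlatMor

namespace Groth.Agent.S1324

open AlgebraicGeometry CategoryTheory Limits in
/-- Let f have a section s and form, for every point of the target, the connected component of the fibre
containing the value of the section; call the union of these the section components of (f, s). For
any base change of f with the induced section, the section components upstairs are exactly the
preimage of the section components downstairs. -/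
theorem result {X Y X' Y' : Scheme.{u}} (f : X ⟶ Y) (s : Y ⟶ X) (hs : s ≫ f = 𝟙 Y)
    (f' : X' ⟶ Y') (g' : X' ⟶ X) (g : Y' ⟶ Y) (hc : IsPullback g' f' f g)
    (s' : Y' ⟶ X') (hs' : s' ≫ f' = 𝟙 Y') (hs'g : s' ≫ g' = g ≫ s) :
    MoreMor.sectionComponents f' s' = g' ⁻¹' MoreMor.sectionComponents f s := by
  let e := hc.isoPullback
  have e1 : e.hom ≫ pullback.fst f g = g' := hc.isoPullback_hom_fst
  have e2 : e.hom ≫ pullback.snd f g = f' := hc.isoPullback_hom_snd
  have key := fun y' : Y' => Agent.GeomConn.connectedComponentIn_fibre_bc f g s hs (s' ≫ e.hom)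
    (by rw [Category.assoc, e2, hs']) (by rw [Category.assoc, e1, hs'g]) y'
  ext x'
  have hh : g (f' x') = f (g' x') := by
    rw [← Scheme.Hom.comp_apply, ← hc.w, Scheme.Hom.comp_apply]
  have hsec : s' (f' x') ∈ f' ⁻¹' {f' x'} := by
    show f' (s' (f' x')) = f' x'
    rw [← Scheme.Hom.comp_apply, hs']; rfl
  have himg : e.hom '' (f' ⁻¹' {f' x'}) = pullback.snd f g ⁻¹' {f' x'} := by
    ext z
    constructor
    · rintro ⟨w, hw, rfl⟩
      show pullback.snd f g (e.hom w) = f' x'
      rw [← Scheme.Hom.comp_apply, e2]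
      exact hw
    · intro hz
      have hez : e.hom (e.inv z) = z := by
        rw [← Scheme.Hom.comp_apply, e.inv_hom_id]; rfl
      refine ⟨e.inv z, ?_, hez⟩
      show f' (e.inv z) = f' x'
      conv_lhs => rw [← e2, Scheme.Hom.comp_apply, hez]
      exact hz
  have himg2 := (Scheme.homeoOfIso e).image_connectedComponentIn hsec
  show x' ∈ connectedComponentIn (f' ⁻¹' {f' x'}) (s' (f' x')) ↔
    g' x' ∈ connectedComponentIn (f ⁻¹' {f (g' x')}) (s (f (g' x')))
  constructor
  · intro hx
    have h1 : e.hom x' ∈ connectedComponentIn (pullback.snd f g ⁻¹' {f' x'})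
        ((s' ≫ e.hom) (f' x')) := by
      rw [← himg, Scheme.Hom.comp_apply]
      exact himg2.le ⟨x', hx, rfl⟩
    rw [key] at h1
    have h2 := h1.2
    rw [Set.mem_preimage, hh, ← Scheme.Hom.comp_apply (e.hom) (pullback.fst f g), e1] at h2
    exact h2
  · intro hx
    have h1 : e.hom x' ∈ connectedComponentIn (pullback.snd f g ⁻¹' {f' x'})
        ((s' ≫ e.hom) (f' x')) := by
      rw [key]
      refine ⟨himg.le ⟨x', rfl, rfl⟩, ?_⟩
      rw [Set.mem_preimage, hh, ← Scheme.Hom.comp_apply (e.hom) (pullback.fst f g), e1]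
      exact hx
    rw [← himg, Scheme.Hom.comp_apply] at h1
    obtain ⟨w, hw, hw'⟩ := himg2.ge h1
    rwa [(Scheme.homeoOfIso e).injective hw'] at hw

end Groth.Agent.S1324
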