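import Groth.Statements.S1325
import Groth.Agent.SectionModel.Constructible
import Mathlib

set_option autoImplicit false
universe u
open FlatMor

set_option backward.isDefEq.respectTransparency.types false
namespace Groth.Agent.S1325

open AlgebraicGeometry CategoryTheory


open AlgebraicGeometry CategoryTheory Limits in
/-- Let f be of finite type with a section s and let y be a point of the target. Then there is a subset
V of the closure of y, open in that closure and containing y (equivalently nonempty), such that the
trace of the section components of (f, s) on the preimage of V is open and closed in that preimage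
(with the subspace topology, which is the topology of the base change to the locally closed
subscheme V). -/
theorem result {X Y : Scheme.{u}} (f : X ⟶ Y) (s : Y ⟶ X) (hs : s ≫ f = 𝟙 Y)
    [LocallyOfFiniteType f] [QuasiCompact f] (y : Y) :
    ∃ V : Set ↑Y, V ⊆ closure {y} ∧ y ∈ V ∧ IsOpen (Subtype.val ⁻¹' V : Set ↑(closure ({y} : Set ↑Y))) ∧
      IsClopen (Subtype.val ⁻¹' MoreMor.sectionComponents f s : Set ↑(f ⁻¹' V)) := by
  obtain ⟨W, O, O', hW, hy, hO, hO', h⟩ := Groth.Agent.SectionModel.exists_clopen_near f s hs y
  refine ⟨W ∩ closure {y}, Set.inter_subset_right, ⟨hy, subset_closure rfl⟩, ?_, ?_, ?_⟩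
  · have e : (Subtype.val ⁻¹' (W ∩ closure {y}) : Set ↑(closure ({y} : Set ↑Y))) = Subtype.val ⁻¹' W := by
      ext z; exact ⟨fun hz => hz.1, fun hz => ⟨hz, z.2⟩⟩
    rw [e]
    exact hW.preimage continuous_subtype_val
  · refine ⟨?_⟩
    have e : (Subtype.val ⁻¹' MoreMor.sectionComponents f s : Set ↑(f ⁻¹' (W ∩ closure {y})))ᶜ = Subtype.val ⁻¹' O' := by
      ext z
      have hz := h z.1 z.2.1 (specializes_iff_mem_closure.2 z.2.2)
      rw [Set.mem_compl_iff, Set.mem_preimage, Set.mem_preimage, hz.1, hz.2]
    rw [e]
    exact hO'.preimage continuous_subtype_val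
  · have e : (Subtype.val ⁻¹' MoreMor.sectionComponents f s : Set ↑(f ⁻¹' (W ∩ closure {y}))) = Subtype.val ⁻¹' O := by
      ext z
      exact (h z.1 z.2.1 (specializes_iff_mem_closure.2 z.2.2)).1
    rw [e]
    exact hO.preimage continuous_subtype_val

end Groth.Agent.S1325
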