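import Groth.Statements.S3420
import Groth.Agent.Chevalley.SectionStable
import Mathlib

set_option autoImplicit false
open CategoryTheory AlgebraicGeometry
universe u
open EGA43

set_option backward.isDefEq.respectTransparency.types false
namespace Groth.Agent.S3420

open Groth.Agent


/-- Let Y be locally Noetherian, f : X ⟶ Y locally of finite type, g a section of f, X⁰_y the connected
component of f⁻¹(y) containing g(y) and X⁰ the union of the X⁰_y. If y is a point such that the
fibre over y is geometrically reduced at every point of X⁰_y and f is universally open at every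
point of X⁰_y, then X⁰ is a neighbourhood of X⁰_y in X. In particular, if f is universally open and
every fibre is geometrically reduced at the points of X⁰, then X⁰ is open in X. -/
theorem result {X Y : Scheme.{u}} [IsLocallyNoetherian Y] (f : X ⟶ Y)
    [LocallyOfFiniteType f] (g : Y ⟶ X) (hg : g ≫ f = 𝟙 Y) :
    (∀ y : Y, (∀ x ∈ connectedComponentIn (f.base ⁻¹' {y}) (g.base y), EGA43.IsUnivOpenAt f x ∧
        FBase.IsGeomReducedAt (f.fiberToSpecResidueField (f.base x)) (f.asFiber x)) →
      connectedComponentIn (f.base ⁻¹' {y}) (g.base y) ⊆ interior (MoreMor.sectionComponents f g)) ∧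
    (UniversallyOpen f → (∀ x ∈ MoreMor.sectionComponents f g,
        FBase.IsGeomReducedAt (f.fiberToSpecResidueField (f.base x)) (f.asFiber x)) →
      IsOpen (MoreMor.sectionComponents f g)) := by
  haveI : IsLocallyNoetherian X := LocallyOfFiniteType.isLocallyNoetherian f
  have key : ∀ y : Y, (∀ x ∈ connectedComponentIn (f.base ⁻¹' {y}) (g.base y), EGA43.IsUnivOpenAt f x ∧
      FBase.IsGeomReducedAt (f.fiberToSpecResidueField (f.base x)) (f.asFiber x)) →
      connectedComponentIn (f.base ⁻¹' {y}) (g.base y) ⊆ interior (MoreMor.sectionComponents f g) := by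
    intro y hy x hx
    refine mem_interior_iff_mem_nhds.2 (Chevalley.mem_nhds_of_stable (fun z hz => ?_) fun a ha =>
      Chevalley.exists_nhd_inter_closure' f g hg a ha)
    exact Chevalley.mem_sectionComponents_of_reduced f g hg hz hx fun w hw => ⟨(hy w hw).1,
      Chevalley.redAlong_of_isGeomReducedAt f g (connectedComponentIn_subset (f.base ⁻¹' {y}) _ hw) (hy w hw).2⟩
  refine ⟨key, fun hu hred => ?_⟩
  refine interior_eq_iff_isOpen.1 (Set.Subset.antisymm interior_subset fun x hx => ?_)
  refine key (f.base x) (fun w hw => ⟨fun Y' h w' _ N hN => ?_, hred w ?_⟩) hx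
  · have ho : IsOpenMap (Limits.pullback.snd f h).base :=
      (MorphismProperty.pullback_snd (P := @UniversallyOpen) f h hu).out _ _ _ IsPullback.of_id_snd
    exact ho.image_mem_nhds hN
  · show w ∈ connectedComponentIn (f.base ⁻¹' {f.base w}) (g.base (f.base w))
    rwa [show f.base w = f.base x from connectedComponentIn_subset (f.base ⁻¹' {f.base x}) _ hw]

end Groth.Agent.S3420
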