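import Groth.Statements.S1330
import Groth.Agent.GeomIrredStrata.GenericRed

set_option autoImplicit false
universe u
open FlatMor

namespace Groth.Agent.S1330

open AlgebraicGeometry CategoryTheory Limits in
/-- Let f be of finite type with irreducible target. If the generic fibre is not reduced, then over some
nonempty open of the target no fibre is reduced. -/
theorem result {X Y : Scheme.{u}} (f : X ⟶ Y) [IrreducibleSpace ↑Y] [LocallyOfFiniteType f] [QuasiCompact f]
    (h : ¬ IsReduced (f.fiber (genericPoint ↑Y))) :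
    ∃ V : Y.Opens, (V : Set ↑Y).Nonempty ∧ ∀ y ∈ V, ¬ IsReduced (f.fiber y) := by
  obtain ⟨R, _, _, g, -, hη, hopen, hfib⟩ := GeomIrredStrata.exists_generic_chart f
  have : LocallyOfFiniteType (pullback.snd f g) := MorphismProperty.pullback_snd _ _ ‹LocallyOfFiniteType f›
  have : QuasiCompact (pullback.snd f g) := MorphismProperty.pullback_snd _ _ ‹QuasiCompact f›
  have hfib' : ∀ q, IsReduced ((pullback.snd f g).fiber q) ↔ IsReduced (f.fiber (g q)) := fun q => by
    obtain ⟨e⟩ := hfib q
    exact ⟨fun _ => isReduced_of_isOpenImmersion e.inv, fun _ => isReduced_of_isOpenImmersion e.hom⟩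
  obtain ⟨c, hc, hq⟩ := GeomIrredStrata.not_isReduced_near (pullback.snd f g)
    (fun hred => h (hη ▸ (hfib' _).1 hred))
  refine ⟨⟨_, hopen _ (PrimeSpectrum.basicOpen c).isOpen⟩, ⟨_, ⟨(⊥ : PrimeSpectrum R), ?_, rfl⟩⟩, ?_⟩
  · show c ∉ (⊥ : Ideal R)
    rwa [Ideal.mem_bot]
  · rintro _ ⟨(q : PrimeSpectrum R), hqc, rfl⟩ hred
    exact hq q hqc ((hfib' q).2 hred)

end Groth.Agent.S1330
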