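import Groth.Statements.S13342
import Groth.Agent.ClPush.FormalSys

set_option autoImplicit false
open CategoryTheory CategoryTheory.Limits
universe u
open FCompl

namespace Groth.Agent.S13342

open AlgebraicGeometry in
/-- The formal prescheme induced on an open subset of a formal prescheme (resp. of a locally Noetherian
formal prescheme, resp. of a Noetherian formal prescheme) is a formal prescheme (resp. a locally
Noetherian formal prescheme, resp. a Noetherian formal prescheme). In the presentation by systems of
thickenings with common underlying space: for an open U, the induced system (the open subschemes of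
the levels over U with the restricted transition maps) is again a system of thickenings; it is adic
with locally Noetherian levels when the given system is; and if moreover the common underlying space
is quasi-compact (a Noetherian formal prescheme), so is that of the induced system. -/
theorem result (𝔛 : FSch.Sys.{u}) (h : 𝔛.IsFormal) (U : (𝔛.X 0).Opens) :
    (𝔛.restrictOpen h U).IsFormal ∧ (𝔛.IsLocNoethFormal → (𝔛.restrictOpen h U).IsLocNoethFormal) ∧
      (𝔛.IsLocNoethFormal → CompactSpace (𝔛.X 0) → CompactSpace ((𝔛.restrictOpen h U).X 0)) := by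
  haveI h0 : ∀ k, @IsOpenImmersion ((𝔛.restrictOpen h U).X k) (𝔛.X k) (𝔛.lvU h k U).ι := fun k =>
    (inferInstance : IsOpenImmersion (𝔛.lvU h k U).ι)
  have hsq : _root_.FSch.IsAdicHom (𝔛.restrictOpenι h U) := fun n => by
    refine IsOpenImmersion.isPullback ((𝔛.restrictOpen h U).ι n) (𝔛.lvU h n U).ι (𝔛.lvU h (n + 1) U).ι (𝔛.ι n)
      (Scheme.Hom.resLE_comp_ι _ _).symm ?_
    show (𝔛.ι n) ⁻¹ᵁ ((𝔛.lvU h (n + 1) U).ι).opensRange = ((𝔛.lvU h n U).ι).opensRange
    erw [Scheme.Opens.opensRange_ι, Scheme.Opens.opensRange_ι]
    exact 𝔛.lvU_succ h n U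
  refine ⟨Groth.Agent.ClPush.isFormal_of_isAdicHom _ h hsq, fun hn => ?_, fun hn hc => ?_⟩
  · haveI := hn.2.2 0
    haveI : IsLocallyNoetherian ((𝔛.restrictOpen h U).X 0) := isLocallyNoetherian_of_isOpenImmersion (𝔛.lvU h 0 U).ι
    exact Groth.Agent.ClPush.isLocNoethFormal_of_isAdicHom _ hn hsq
  · haveI := hn.2.2 0
    haveI : IsNoetherian (𝔛.X 0) := { __ := hn.2.2 0, __ := hc }
    haveI : TopologicalSpace.NoetherianSpace (𝔛.X 0) := inferInstance
    exact isCompact_iff_compactSpace.mp (TopologicalSpace.NoetherianSpace.isCompact _)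

end Groth.Agent.S13342
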