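import Groth.Statements.S13347
import Groth.Agent.ThickAffine.General

set_option autoImplicit false
open CategoryTheory CategoryTheory.Limits
universe u
open Opposite
open FCompl

namespace Groth.Agent.S13347

lemma surjective_π {F : ℕᵒᵖ ⥤ Type u} (hF : ∀ n : ℕ, Function.Surjective (F.map (homOfLE (Nat.le_add_right n 1)).op))
    {c : Cone F} (hc : IsLimit c) (i : ℕ) : Function.Surjective (c.π.app (op i)) := fun x => by
  choose g hg using hF
  let a : ∀ k : ℕ, F.obj (op (i + k)) := fun k => Nat.rec (motive := fun k => F.obj (op (i + k))) x (fun k ak => g (i + k) ak) k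
  have ha : ∀ k l (h : k ≤ l), F.map (homOfLE (Nat.add_le_add_left h i)).op (a l) = a k := by
    intro k l h
    induction l, h using Nat.le_induction with
    | base => rw [show (homOfLE (Nat.add_le_add_left (le_refl k) i)).op = 𝟙 _ from Subsingleton.elim _ _]; simp
    | succ l h ih =>
      have e : (homOfLE (Nat.add_le_add_left (h.trans (Nat.le_succ l)) i)).op =
          (homOfLE (Nat.le_add_right (i + l) 1)).op ≫ (homOfLE (Nat.add_le_add_left h i)).op := Subsingleton.elim _ _
      rw [e, Functor.map_comp_apply]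
      exact (congrArg _ (hg (i + l) (a l))).trans ih
  refine ⟨(Types.isLimitEquivSections hc).symm ⟨fun n => F.map (homOfLE (Nat.le_add_left n.unop i)).op (a n.unop),
    fun {m n} f => ?_⟩, ?_⟩
  · have hnm : n.unop ≤ m.unop := leOfHom f.unop
    show F.map f (F.map _ (a m.unop)) = F.map _ (a n.unop)
    rw [← ha n.unop m.unop hnm, ← Functor.map_comp_apply, ← Functor.map_comp_apply]
    exact congrArg (fun t => F.map t _) (Subsingleton.elim _ _)
  · rw [Types.isLimitEquivSections_symm_apply]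
    show F.map (homOfLE (Nat.le_add_left i i)).op (a i) = x
    exact ha 0 i (Nat.zero_le i)

open AlgebraicGeometry in
lemma isAffineOpen_lvU {𝔛 : FSch.Sys.{u}} (h : 𝔛.IsFormal) (n : ℕ) {U : (𝔛.X 0).Opens} (hU : IsAffineOpen U) :
    IsAffineOpen (𝔛.lvU h n U) := by
  haveI := FSch.Sys.toX_isClosedImmersion 𝔛 h n
  haveI : Surjective (𝔛.toX n) := ⟨FSch.Sys.toX_surjective 𝔛 h n⟩
  have e : (𝔛.toX n) ⁻¹ᵁ 𝔛.lvU h n U = U := by
    change (TopologicalSpace.Opens.map ((𝔛.toX n).base ≫ 𝔛.gInv h n)).obj U = U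
    rw [FSch.Sys.toX_base_gInv]
    rfl
  haveI : IsAffine ((𝔛.toX n) ⁻¹ᵁ 𝔛.lvU h n U).toScheme := by rw [e]; exact hU
  haveI : IsClosedImmersion ((𝔛.toX n) ∣_ 𝔛.lvU h n U) := MorphismProperty.of_isPullback (isPullback_morphismRestrict _ _).flip inferInstance
  haveI : Surjective ((𝔛.toX n) ∣_ 𝔛.lvU h n U) := MorphismProperty.of_isPullback (isPullback_morphismRestrict _ _).flip inferInstance
  exact ThickAffine.isAffine_of_thickening ((𝔛.toX n) ∣_ 𝔛.lvU h n U)

open AlgebraicGeometry in
/-- Let (X_i) be an inductive system of preschemes on one underlying space with surjective transition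
homomorphisms whose kernels O_{X_i} → O_{X_0} are locally nilpotent — here a system of thickenings
(closed immersions surjective on points) with the kernel ideal of X_0 → X_i nilpotent on every
affine open of X_i — and O_𝔛 = lim O_{X_i} the structure sheaf of the formal prescheme it defines.
Then the canonical homomorphisms O_𝔛 → O_{X_i} are surjective: over every affine open U of X_0 the
map on sections Γ(U, O_𝔛) → Γ(U_i, O_{X_i}) is onto. -/
theorem result (𝔛 : FSch.Sys.{u}) (h : 𝔛.IsFormal)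
    (hb : ∀ (i : ℕ) (V : (𝔛.X i).affineOpens), IsNilpotent ((𝔛.toX i).ker.ideal V))
    (i : ℕ) (U : (𝔛.X 0).Opens) (hU : IsAffineOpen U) :
    Function.Surjective ((𝔛.OshProj h i).hom.app (op U)) := by
  let E : Sheaf (Opens.grothendieckTopology (𝔛.X 0)) CommRingCat.{u} ⥤ Type u :=
    sheafToPresheaf _ _ ⋙ (evaluation _ _).obj (op U) ⋙ forget CommRingCat.{u}
  refine surjective_π (F := 𝔛.levelRing h ⋙ E) (fun n => ?_) (isLimitOfPreserves E (limit.isLimit (𝔛.levelRing h))) i
  show Function.Surjective (((𝔛.levelRing h).map (homOfLE (Nat.le_add_right n 1)).op).hom.app (op U))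
  rw [FSch.Sys.levelRing_map_succ, FSch.Sys.levelMap_app]
  haveI := (h n).1
  have hV := isAffineOpen_lvU h (n + 1) hU
  simp only [Scheme.Hom.appLE]
  intro y
  have e : (𝔛.ι n) ⁻¹ᵁ (𝔛.lvU h (n + 1) U) ≤ 𝔛.lvU h n U := (𝔛.lvU_succ h n U).le
  obtain ⟨z, hz⟩ := (𝔛.ι n).app_surjective _ hV ((𝔛.X n).presheaf.map (homOfLE e).op y)
  refine ⟨z, ?_⟩
  show (𝔛.X n).presheaf.map _ ((𝔛.ι n).app _ z) = y
  rw [hz, ← CommRingCat.comp_apply, ← Functor.map_comp,
    show (homOfLE e).op ≫ (homOfLE (𝔛.lvU_le h n U)).op = 𝟙 _ from Subsingleton.elim _ _, CategoryTheory.Functor.map_id]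
  rfl

end Groth.Agent.S13347
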