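import Groth.Statements.S13353
import Groth.Agent.AdicRingLib.Adjoin

set_option autoImplicit false
universe u
open scoped TensorProduct
open AdicRing

namespace Groth.Agent.S13353

/-- Let R be a complete valuation ring of height one with t a nonzero element generating an ideal of
definition and K its field of fractions, A an admissible R-algebra, f_1, ..., f_n elements of A ⊗_R
K integral over A, c a nonzero element of R and g_1, ..., g_n elements of A with g_i = c f_i in A
⊗_R K; put 𝔞 = (c, g_1, ..., g_n) and A' = A[f_1, ..., f_n] ⊂ A ⊗_R K. If D is an admissible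
R-algebra and φ : A → D an R-algebra homomorphism such that the ideal 𝔞D is generated by the image
of c, or by the image of some g_i, then 𝔞D is generated by c and φ extends to exactly one R-algebra
homomorphism A' → D. (This is the universal property through which Spf A' → Spf A is identified with
the formal blowing-up of 𝔞 on Spf A; the published hypothesis on the f_i is a supremum-seminorm
bound, from which their integrality over A is derived.) -/
theorem result
    (R : Type u) [CommRing R] [IsDomain R] [ValuationRing R] [Ring.KrullDimLE 1 R]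
    (t : R) (ht : t ≠ 0) [IsAdicComplete (Ideal.span {t}) R]
    (A : Type u) [CommRing A] [Algebra R A] (hA : AdicRing.Admissible R (Ideal.span {t}) A)
    (n : ℕ) (f : Fin n → A ⊗[R] FractionRing R) (hf : ∀ i, IsIntegral A (f i))
    (c : R) (hc : c ≠ 0) (g : Fin n → A)
    (hg : ∀ i, algebraMap A (A ⊗[R] FractionRing R) (g i) = c • f i)
    (D : Type u) [CommRing D] [Algebra R D] (hD : AdicRing.Admissible R (Ideal.span {t}) D)
    (φ : A →ₐ[R] D)
    (hgen : (Ideal.span (insert (algebraMap R A c) (Set.range g))).map φ =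
          Ideal.span {algebraMap R D c} ∨
      ∃ i, (Ideal.span (insert (algebraMap R A c) (Set.range g))).map φ = Ideal.span {φ (g i)}) :
    (Ideal.span (insert (algebraMap R A c) (Set.range g))).map φ = Ideal.span {algebraMap R D c} ∧
      ∃! ψ : ↥(Algebra.adjoin A (Set.range f)) →ₐ[R] D,
        ψ.comp (IsScalarTower.toAlgHom R A ↥(Algebra.adjoin A (Set.range f))) = φ := by
  classical
  have hinjA := Groth.Agent.AdicRingLib.injective_tensor_fractionRing ht hA.2
  have hinjD := Groth.Agent.AdicRingLib.injective_tensor_fractionRing ht hD.2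
  let K := FractionRing R
  have hcK : IsUnit (algebraMap R K c) := (IsFractionRing.injective R K |> fun h =>
    (map_ne_zero_iff _ h).2 hc).isUnit
  have hcancel : ∀ {B : Type u} [CommRing B] [Algebra R B] (x y : B ⊗[R] K), c • x = c • y → x = y := by
    intro B _ _ x y h
    have hu : IsUnit (algebraMap R (B ⊗[R] K) c) := by
      rw [show algebraMap R (B ⊗[R] K) c = Algebra.TensorProduct.includeRight (algebraMap R K c) from
        ((Algebra.TensorProduct.includeRight : K →ₐ[R] B ⊗[R] K).commutes c).symm]
      exact hcK.map _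
    rw [← algebraMap_smul (B ⊗[R] K) c x, ← algebraMap_smul (B ⊗[R] K) c y, smul_eq_mul, smul_eq_mul] at h
    exact hu.mul_left_cancel h
  have hcD : ∀ x : D, algebraMap R D c * x = 0 → x = 0 := fun x hx => by
    refine hinjD ?_
    rw [map_zero]
    refine hcancel _ _ ?_
    rw [smul_zero]; exact (Algebra.smul_def c _).trans (by rw [IsScalarTower.algebraMap_apply R D (D ⊗[R] K), ← map_mul, hx, map_zero])
  have hsmul : ∀ (r : R) (x : D ⊗[R] K), r • x = algebraMap R (D ⊗[R] K) r * x := fun r x => Algebra.smul_def r x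
  let Φ : A ⊗[R] K →ₐ[R] D ⊗[R] K := Algebra.TensorProduct.map φ (AlgHom.id R K)
  have hΦ : ∀ a, Φ (algebraMap A (A ⊗[R] K) a) = algebraMap D (D ⊗[R] K) (φ a) := fun a => rfl
  -- the ideal is generated by `c`
  have hspan : (Ideal.span (insert (algebraMap R A c) (Set.range g))).map φ = Ideal.span {algebraMap R D c} := by
    rcases hgen with h | ⟨i, h⟩
    · exact h
    · rw [h]
      have hcmem : algebraMap R D c ∈ Ideal.span {φ (g i)} := by
        rw [← h, ← φ.commutes c]
        exact Ideal.mem_map_of_mem φ (Ideal.subset_span (Set.mem_insert _ _))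
      obtain ⟨d, hd⟩ := Ideal.mem_span_singleton'.1 hcmem
      obtain ⟨P, hP, hPe⟩ := hf i
      let N := P.natDegree
      have hrel : ∑ j ∈ Finset.range (N + 1), φ (P.coeff j) * (algebraMap R D c) ^ (N - j) * φ (g i) ^ j = 0 := by
        refine hinjD ?_
        rw [map_zero, map_sum]
        have h1 := congrArg Φ hPe
        rw [Polynomial.eval₂_eq_sum_range, map_zero, map_sum] at h1
        calc ∑ j ∈ Finset.range (N + 1), algebraMap D (D ⊗[R] K) (φ (P.coeff j) * algebraMap R D c ^ (N - j) * φ (g i) ^ j)
            = ∑ j ∈ Finset.range (N + 1), (c ^ N) • Φ (algebraMap A (A ⊗[R] K) (P.coeff j) * f i ^ j) := by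
              refine Finset.sum_congr rfl fun j hj => ?_
              rw [map_mul Φ, map_pow Φ, hΦ, map_mul, map_mul, map_pow, map_pow, ← hΦ (g i), hg i, map_smul Φ,
                ← IsScalarTower.algebraMap_apply R D (D ⊗[R] K), smul_pow, hsmul (c ^ j), hsmul (c ^ N),
                show c ^ N = c ^ (N - j) * c ^ j by rw [← pow_add, Nat.sub_add_cancel (Nat.lt_succ_iff.1 (Finset.mem_range.1 hj))],
                map_mul, map_pow, map_pow]
              ring
          _ = 0 := by rw [← Finset.smul_sum, h1, smul_zero]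
      have hgreg : ∀ x : D, φ (g i) * x = 0 → x = 0 := fun x hx => hcD x (by rw [← hd, mul_assoc, hx, mul_zero])
      have hgN : ∀ (k : ℕ) (x : D), φ (g i) ^ k * x = 0 → x = 0 := fun k => by
        induction k with
        | zero => intro x hx; simpa using hx
        | succ k ih => intro x hx; exact hgreg x (ih _ (by rw [← mul_assoc, ← pow_succ]; exact hx))
      have hunit : IsUnit d := by
        have h2 : φ (g i) ^ N * (∑ j ∈ Finset.range (N + 1), φ (P.coeff j) * d ^ (N - j)) = 0 := by
          rw [Finset.mul_sum, ← hrel]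
          refine Finset.sum_congr rfl fun j hj => ?_
          rw [← hd, mul_pow, show φ (g i) ^ N = φ (g i) ^ (N - j) * φ (g i) ^ j by
            rw [← pow_add, Nat.sub_add_cancel (Nat.lt_succ_iff.1 (Finset.mem_range.1 hj))]]
          ring
        have h3 := hgN N _ h2
        rw [Finset.sum_range_succ, Nat.sub_self, pow_zero, mul_one, show P.coeff N = 1 from hP, map_one] at h3
        refine IsUnit.of_mul_eq_one (-(∑ j ∈ Finset.range N, φ (P.coeff j) * d ^ (N - j - 1))) ?_
        rw [mul_neg, Finset.mul_sum, neg_eq_iff_add_eq_zero, ← h3]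
        congr 1
        refine Finset.sum_congr rfl fun j hj => ?_
        have : N - j = (N - j - 1) + 1 := by have := Finset.mem_range.1 hj; omega
        conv_rhs => rw [this, pow_succ]
        ring
      rw [← hd, Ideal.span_singleton_mul_left_unit hunit]
  refine ⟨hspan, ?_⟩
  have hh : ∀ i, ∃ h : D, φ (g i) = algebraMap R D c * h := fun i => by
    have : φ (g i) ∈ Ideal.span {algebraMap R D c} := hspan ▸ Ideal.mem_map_of_mem φ
      (Ideal.subset_span (Set.mem_insert_of_mem _ ⟨i, rfl⟩))
    obtain ⟨x, hx⟩ := Ideal.mem_span_singleton'.1 this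
    exact ⟨x, by rw [← hx, mul_comm]⟩
  choose h hh using hh
  let ι : D →ₐ[R] D ⊗[R] K := IsScalarTower.toAlgHom R D (D ⊗[R] K)
  have himg : ∀ x ∈ Algebra.adjoin A (Set.range f), Φ x ∈ ι.range := by
    intro x hx
    induction hx using Algebra.adjoin_induction with
    | mem x hx =>
      obtain ⟨i, rfl⟩ := hx
      refine ⟨h i, hcancel _ _ ?_⟩
      rw [← map_smul Φ, ← hg i, hΦ, hh i, map_mul, ← IsScalarTower.algebraMap_apply, ← hsmul]
      rfl
    | algebraMap a => exact ⟨φ a, (hΦ a).symm⟩
    | add x y _ _ hx hy => rw [map_add]; exact add_mem hx hy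
    | mul x y _ _ hx hy => rw [map_mul]; exact mul_mem hx hy
  let e := AlgEquiv.ofInjective ι hinjD
  let ψ : ↥(Algebra.adjoin A (Set.range f)) →ₐ[R] D :=
    e.symm.toAlgHom.comp ((Φ.comp ((Algebra.adjoin A (Set.range f)).val.restrictScalars R)).codRestrict ι.range
      fun x => himg x.1 x.2)
  have hψ : ∀ x, ι (ψ x) = Φ x.1 := fun x => congrArg Subtype.val (e.apply_symm_apply _)
  refine ⟨ψ, AlgHom.ext fun a => hinjD ((hψ _).trans (hΦ a)), fun ψ' hψ' => ?_⟩
  have hψ'a : ∀ a, ψ' (algebraMap A _ a) = φ a := fun a => DFunLike.congr_fun hψ' a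
  refine AlgHom.ext fun x => ?_
  obtain ⟨x, hx⟩ := x
  induction hx using Algebra.adjoin_induction with
  | mem x hx =>
    obtain ⟨i, rfl⟩ := hx
    refine sub_eq_zero.1 (hcD _ ?_)
    rw [mul_sub, ← Algebra.smul_def, ← Algebra.smul_def, ← map_smul, ← map_smul, sub_eq_zero]
    have hgi : c • (⟨f i, Algebra.subset_adjoin ⟨i, rfl⟩⟩ : Algebra.adjoin A (Set.range f)) = algebraMap A _ (g i) :=
      Subtype.ext (hg i).symm
    rw [hgi, hψ'a]
    exact (hinjD ((hψ _).trans (hΦ _))).symm
  | algebraMap a =>
    exact (hψ'a a).trans (hinjD ((hψ _).trans (hΦ a))).symm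
  | add x y hx hy ihx ihy =>
    rw [show (⟨x + y, _⟩ : Algebra.adjoin A (Set.range f)) = ⟨x, hx⟩ + ⟨y, hy⟩ from rfl, map_add, map_add, ihx, ihy]
  | mul x y hx hy ihx ihy =>
    rw [show (⟨x * y, _⟩ : Algebra.adjoin A (Set.range f)) = ⟨x, hx⟩ * ⟨y, hy⟩ from rfl, map_mul, map_mul, ihx, ihy]

end Groth.Agent.S13353
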