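import Groth.Statements.S13354
import Groth.Agent.AdicRingLib.Closure

set_option autoImplicit false
universe u
open AdicRing

namespace Groth.Agent.S13354

/-- Let R be a complete valuation ring of height one with t a nonzero element generating an ideal of
definition, B an admissible R-algebra which is a local integral domain of Krull dimension one (the
algebra of a rig-point), and b_1, ..., b_n elements of B, not all zero. Then there is a B-subalgebra
B' of the field of fractions of B which is finite over B, is again a local ring of Krull dimension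
one, and in which the ideal generated by b_1, ..., b_n is generated by one of the b_i alone (hence
is invertible). (This is the algebraic step by which a rig-point is lifted along the formal
blowing-up of a finitely generated open ideal; the resulting bijection between rig-points of the
blowing-up and of the base is not stated here.) -/
theorem result
    (R : Type u) [CommRing R] [IsDomain R] [ValuationRing R] [Ring.KrullDimLE 1 R]
    (t : R) (ht : t ≠ 0) [IsAdicComplete (Ideal.span {t}) R]
    (B : Type u) [CommRing B] [Algebra R B] [IsDomain B] [IsLocalRing B]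
    (hB : AdicRing.Admissible R (Ideal.span {t}) B) (hdim : ringKrullDim B = 1)
    (n : ℕ) (b : Fin n → B) (hb : ∃ i, b i ≠ 0) :
    ∃ B' : Subalgebra B (FractionRing B), Module.Finite B ↥B' ∧ IsLocalRing ↥B' ∧ ringKrullDim ↥B' = 1 ∧
      ∃ i, Ideal.span (Set.range (fun j => algebraMap B ↥B' (b j))) =
        Ideal.span {algebraMap B ↥B' (b i)} := by
  classical
  have htft : AdicRing.TopFiniteType R (Ideal.span {t}) B := by
    obtain ⟨k, φ, hφ, -⟩ := hB.1
    exact ⟨k, φ, hφ⟩
  have htB := AdicRingLib.map_ne_zero_of_noPowTorsion hB.2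
  have hfin := AdicRingLib.finite_of_ringKrullDim htft htB hdim
  have hinj := AdicRingLib.injective_of_ne_zero (t := t) htB
  let L := FractionRing B
  have hinjL : Function.Injective (algebraMap R L) := by
    rw [IsScalarTower.algebraMap_eq R B L]; exact (IsFractionRing.injective B L).comp hinj
  have : FaithfulSMul R L := (faithfulSMul_iff_algebraMap_injective R L).mpr hinjL
  have halg : ∀ x : L, IsAlgebraic R x := fun x ↦ by
    obtain ⟨p, q, hq, rfl⟩ := IsFractionRing.div_surjective (A := B) x
    rw [div_eq_mul_inv]
    exact ((Algebra.IsIntegral.isIntegral (R := R) p).algebraMap.isAlgebraic).mul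
      ((Algebra.IsIntegral.isIntegral (R := R) q).algebraMap.isAlgebraic.inv)
  let β : Fin n → L := fun j ↦ algebraMap B L (b j)
  have hkey : ∀ s : Finset (Fin n), s.Nonempty → ∃ i ∈ s, ∀ j ∈ s, ∃ c ∈ integralClosure R L, β j = c * β i := by
    intro s hs
    induction hs using Finset.Nonempty.cons_induction with
    | singleton a => exact ⟨a, by simp, fun j hj ↦ ⟨1, one_mem _, by rw [Finset.mem_singleton.mp hj, one_mul]⟩⟩
    | cons a s has hs ih =>
      obtain ⟨i, hi, hij⟩ := ih
      have key : (∃ c ∈ integralClosure R L, β a = c * β i) ∨ (∃ c ∈ integralClosure R L, β i = c * β a) := by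
        by_cases hbi : β i = 0
        · exact Or.inr ⟨0, zero_mem _, by rw [hbi, zero_mul]⟩
        by_cases hba : β a = 0
        · exact Or.inl ⟨0, zero_mem _, by rw [hba, zero_mul]⟩
        rcases AdicRingLib.mem_or_inv_mem_integralClosure ht L (halg (β a / β i)) with h | h
        · exact Or.inl ⟨_, h, by rw [div_mul_cancel₀ _ hbi]⟩
        · exact Or.inr ⟨_, h, by rw [inv_div, div_mul_cancel₀ _ hba]⟩
      rcases key with h | ⟨c, hc, hci⟩
      · refine ⟨i, by simp [hi], fun j hj ↦ ?_⟩
        rcases Finset.mem_cons.mp hj with rfl | hj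
        · exact h
        · exact hij j hj
      · refine ⟨a, by simp, fun j hj ↦ ?_⟩
        rcases Finset.mem_cons.mp hj with rfl | hj
        · exact ⟨1, one_mem _, (one_mul _).symm⟩
        · obtain ⟨d, hd, hdj⟩ := hij j hj
          exact ⟨d * c, mul_mem hd hc, by rw [hdj, hci, mul_assoc]⟩
  obtain ⟨i₁, hi₁⟩ := hb
  obtain ⟨i, -, hi⟩ := hkey Finset.univ ⟨i₁, Finset.mem_univ _⟩
  choose c hc hcb using fun j ↦ hi j (Finset.mem_univ j)
  let B' : Subalgebra B L := Algebra.adjoin B (Set.range c)
  have hBfin : Module.Finite B B' := Module.Finite.iff_fg.mpr (fg_adjoin_of_finite (Set.finite_range c)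
    (by rintro _ ⟨j, rfl⟩; exact IsIntegral.tower_top (hc j)))
  have : Module.Finite R B' := Module.Finite.trans B B'
  have hi' : Function.Injective (algebraMap R B') := fun r r' h ↦ hinjL (congrArg Subtype.val h)
  refine ⟨B', hBfin, AdicRingLib.isLocalRing_of_finite_domain (B := B') ht hi',
    AdicRingLib.ringKrullDim_eq_one (B := B') ht hi', i, ?_⟩
  refine le_antisymm (Ideal.span_le.mpr ?_) (Ideal.span_mono (by simp))
  rintro _ ⟨j, rfl⟩
  exact Ideal.mem_span_singleton'.mpr ⟨⟨c j, Algebra.subset_adjoin ⟨j, rfl⟩⟩, Subtype.ext (hcb j).symm⟩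

end Groth.Agent.S13354
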