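import Groth.Statements.S13355
import Groth.Agent.GaDual.Chars

set_option autoImplicit false
universe u
open GaDual

namespace Groth.Agent.S13355

/-- Over a commutative algebra A over the rationals, the formal characters (power series with constant
term 1 satisfying χ(X+Y) = χ(X)χ(Y) in two variables) are exactly the power series exp(aX) for a in
A. -/
theorem result (A : Type u) [CommRing A] [Algebra ℚ A] (χ : PowerSeries A) :
    (PowerSeries.constantCoeff χ = 1 ∧
      PowerSeries.subst (MvPowerSeries.X 0 + MvPowerSeries.X 1 : MvPowerSeries (Fin 2) A) χ =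
        PowerSeries.subst (MvPowerSeries.X 0 : MvPowerSeries (Fin 2) A) χ *
          PowerSeries.subst (MvPowerSeries.X 1 : MvPowerSeries (Fin 2) A) χ) ↔
      ∃ a : A, χ = PowerSeries.rescale a (PowerSeries.exp A) := by
  rw [Groth.Agent.GaDual.isFormalChar_iff]
  constructor
  · rintro ⟨h0, h⟩
    refine ⟨PowerSeries.coeff 1 χ, PowerSeries.ext fun n => ?_⟩
    rw [← PowerSeries.coeff_zero_eq_constantCoeff] at h0
    have key : ∀ n, (n.factorial : A) * PowerSeries.coeff n χ = PowerSeries.coeff 1 χ ^ n := by
      intro n
      induction n with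
      | zero => simp [h0]
      | succ n ih =>
        rw [pow_succ', ← ih, Nat.factorial_succ, mul_left_comm, h (1 + n) 1 n le_rfl, add_comm 1 n,
          Nat.choose_one_right]
        push_cast; ring
    rw [PowerSeries.coeff_rescale, PowerSeries.coeff_exp, ← key, mul_comm (n.factorial : A),
      mul_assoc, ← map_natCast (algebraMap ℚ A), ← map_mul, mul_one_div_cancel (by exact_mod_cast n.factorial_ne_zero),
      map_one, mul_one]
  · rintro ⟨a, rfl⟩
    refine ⟨by rw [← PowerSeries.coeff_zero_eq_constantCoeff, PowerSeries.coeff_rescale]; simp, fun q i j _ => ?_⟩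
    simp only [PowerSeries.coeff_rescale, PowerSeries.coeff_exp]
    rw [mul_mul_mul_comm, ← pow_add, mul_left_comm ((Nat.choose _ _ : ℕ) : A), ← map_natCast (algebraMap ℚ A), ← map_mul,
      ← map_mul, Nat.cast_add_choose]
    congr 2
    field_simp

end Groth.Agent.S13355
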