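import Groth.Statements.S13356
import Groth.Agent.GaDual.Chars
import Groth.Agent.S13355

set_option autoImplicit false
universe u
open GaDual

namespace Groth.Agent.S13356

/-- Over a commutative algebra A over the rationals, the polynomials f with f(0) = 1 and f(X+Y) =
f(X)f(Y) (the characters of the additive group into the multiplicative group over A) are exactly the
polynomials exp(aX) with a in A nilpotent. -/
theorem result (A : Type u) [CommRing A] [Algebra ℚ A] (f : Polynomial A) :
    (f.eval 0 = 1 ∧
      Polynomial.aeval (MvPolynomial.X 0 + MvPolynomial.X 1 : MvPolynomial (Fin 2) A) f =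
        Polynomial.aeval (MvPolynomial.X 0 : MvPolynomial (Fin 2) A) f *
          Polynomial.aeval (MvPolynomial.X 1 : MvPolynomial (Fin 2) A) f) ↔
      ∃ a : A, IsNilpotent a ∧ (f : PowerSeries A) = PowerSeries.rescale a (PowerSeries.exp A) := by
  have hco : ∀ n, PowerSeries.coeff n (f : PowerSeries A) = f.coeff n := Polynomial.coeff_coe f
  rw [Groth.Agent.GaDual.isChar_iff]
  constructor
  · rintro ⟨h0, h⟩
    obtain ⟨a, ha⟩ := (Groth.Agent.S13355.result A (f : PowerSeries A)).1 ⟨by
      rw [← PowerSeries.coeff_zero_eq_constantCoeff, hco, Polynomial.coeff_zero_eq_eval_zero, h0],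
      (Groth.Agent.GaDual.isFormalChar_iff _).2 (by simpa only [hco] using h)⟩
    refine ⟨a, ⟨f.natDegree + 1, ?_⟩, ha⟩
    have h1 := hco (f.natDegree + 1)
    rw [ha, PowerSeries.coeff_rescale, PowerSeries.coeff_exp, Polynomial.coeff_eq_zero_of_natDegree_lt (by omega)] at h1
    have hu : IsUnit (algebraMap ℚ A (1 / ((f.natDegree + 1).factorial : ℚ))) :=
      (IsUnit.mk0 _ (by positivity)).map _
    exact hu.mul_left_eq_zero.1 h1
  · rintro ⟨a, -, ha⟩
    obtain ⟨h0, h⟩ := (Groth.Agent.S13355.result A (f : PowerSeries A)).2 ⟨a, ha⟩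
    refine ⟨?_, ?_⟩
    · rw [← Polynomial.coeff_zero_eq_eval_zero, ← hco, PowerSeries.coeff_zero_eq_constantCoeff, h0]
    · simpa only [hco] using (Groth.Agent.GaDual.isFormalChar_iff _).1 h

end Groth.Agent.S13356
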