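import Groth.Statements.S13368
import Mathlib.RingTheory.DiscreteValuationRing.Basic
import Mathlib.RingTheory.Kaehler.Basic
import Mathlib.LinearAlgebra.FiniteDimensional.Lemmas
import Mathlib.Algebra.CharP.Algebra
import Mathlib.Algebra.CharP.Lemmas
import Mathlib.RingTheory.Localization.FractionRing
import Mathlib.RingTheory.Localization.Integer

set_option autoImplicit false
universe u
open GaDual

namespace Groth.Agent.S13368

variable {R : Type u} [CommRing R] [IsDomain R] [IsDiscreteValuationRing R]
  {p : ℕ} [Fact p.Prime] {π : R}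

theorem dvd_coeff (hπ : Irreducible π) (c : Fin p → R)
    (h : π ^ p ∣ ∑ i : Fin p, π ^ (i : ℕ) * c i ^ p) (i : Fin p) : π ∣ c i := by
  classical
  induction i using WellFoundedLT.induction with
  | ind i ih =>
    have hrest : π ^ ((i : ℕ) + 1) ∣ ∑ j ∈ Finset.univ.erase i, π ^ (j : ℕ) * c j ^ p := by
      refine Finset.dvd_sum fun j hj => ?_
      rcases lt_or_gt_of_ne (Finset.ne_of_mem_erase hj) with h | h
      · exact (pow_dvd_pow π (Nat.succ_le_of_lt i.2)).trans
          ((pow_dvd_pow_of_dvd (ih j h) p).mul_left _)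
      · exact (pow_dvd_pow π (Nat.succ_le_of_lt h)).mul_right _
    have hall : π ^ ((i : ℕ) + 1) ∣ ∑ j : Fin p, π ^ (j : ℕ) * c j ^ p :=
      (pow_dvd_pow π (Nat.succ_le_of_lt i.2)).trans h
    rw [← Finset.add_sum_erase _ _ (Finset.mem_univ i), dvd_add_left hrest, pow_succ,
      mul_dvd_mul_iff_left (pow_ne_zero _ hπ.ne_zero)] at hall
    exact hπ.prime.dvd_of_dvd_pow hall

theorem eq_zero_of_sum (hπ : Irreducible π) (c : Fin p → R)
    (h : ∑ i : Fin p, π ^ (i : ℕ) * c i ^ p = 0) (i : Fin p) : c i = 0 := by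
  have hp0 : p ≠ 0 := (Fact.out : p.Prime).ne_zero
  have : ∀ (n : ℕ) (c : Fin p → R), ∑ i : Fin p, π ^ (i : ℕ) * c i ^ p = 0 → ∀ i, π ^ n ∣ c i := by
    intro n
    induction n with
    | zero => intro c _ i; simp
    | succ n ih =>
      intro c hc i
      choose d hd using dvd_coeff hπ c (hc ▸ dvd_zero _)
      have h0 : ∑ i : Fin p, π ^ (i : ℕ) * d i ^ p = 0 := by
        refine (mul_right_inj' (pow_ne_zero p hπ.ne_zero)).1 ?_
        rw [mul_zero, Finset.mul_sum, ← hc]
        exact Finset.sum_congr rfl fun i _ => by rw [hd i, mul_pow]; ring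
      rw [hd i, pow_succ']
      exact mul_dvd_mul_left π (ih d h0 i)
  by_contra hne
  obtain ⟨n, u, hu⟩ := IsDiscreteValuationRing.eq_unit_mul_pow_irreducible hne hπ
  have h1 := this (n + 1) c h i
  rw [hu, IsUnit.dvd_mul_left u.isUnit, pow_dvd_pow_iff hπ.ne_zero hπ.not_isUnit] at h1
  omega

theorem exists_coeff_of_mul (hπ : Irreducible π) {d r : R} (hd : d ≠ 0) (c : Fin p → R)
    (h : d ^ p * r = ∑ i : Fin p, π ^ (i : ℕ) * c i ^ p) :
    ∃ c : Fin p → R, r = ∑ i : Fin p, π ^ (i : ℕ) * c i ^ p := by
  obtain ⟨n, u, rfl⟩ := IsDiscreteValuationRing.eq_unit_mul_pow_irreducible hd hπ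
  clear hd
  induction n generalizing c with
  | zero =>
    refine ⟨fun i => (u⁻¹ : Rˣ) * c i, ?_⟩
    have e : ∀ i : Fin p, π ^ (i : ℕ) * ((u⁻¹ : Rˣ) * c i) ^ p =
        ((u⁻¹ : Rˣ) : R) ^ p * (π ^ (i : ℕ) * c i ^ p) := fun i => by rw [mul_pow]; ring
    simp only [e]
    rw [← Finset.mul_sum, ← h, pow_zero, mul_one, ← mul_assoc, ← mul_pow, Units.inv_mul, one_pow, one_mul]
  | succ n ih =>
    choose d hd using dvd_coeff hπ c (h ▸ (pow_dvd_pow_of_dvd
      ((dvd_pow_self π (Nat.succ_ne_zero n)).mul_left (u : R)) p).mul_right r)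
    refine ih d ?_
    refine (mul_right_inj' (pow_ne_zero p hπ.ne_zero)).1 ?_
    rw [Finset.mul_sum, ← mul_assoc, ← mul_pow, show π * ((u : R) * π ^ n) = (u : R) * π ^ (n + 1) by ring, h]
    exact Finset.sum_congr rfl fun i _ => by rw [hd i, mul_pow]; ring



/-- Let R be a discrete valuation ring of prime characteristic p whose fraction field k has degree p
over its subfield k^p of p-th powers, and π a uniformizer. Then every element of R is, in a unique
way, a sum of π^i c_i^p over 0 ≤ i < p with c_i in R, and the Kähler differentials of R (absolute,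
i.e. over the integers, equivalently over the prime field) form a free module of rank one generated
by dπ. -/
theorem result (p : ℕ) [Fact p.Prime] {R : Type u} [CommRing R]
    [IsDomain R] [IsDiscreteValuationRing R] [CharP R p]
    (kp : Subfield (FractionRing R)) (hkp : ∀ x : FractionRing R, x ∈ kp ↔ ∃ y : FractionRing R, y ^ p = x)
    (hdeg : Module.finrank kp (FractionRing R) = p)
    (π : R) (hπ : Irreducible π) :
    (∀ r : R, ∃! c : Fin p → R, r = ∑ i : Fin p, π ^ (i : ℕ) * c i ^ p) ∧
      Function.Bijective (fun r : R => r • KaehlerDifferential.D ℤ R π) := by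
  classical
  let K := FractionRing R
  haveI : CharP K p := charP_of_injective_ringHom (IsFractionRing.injective R K) p
  have hp : p.Prime := Fact.out
  have hfrob : ∀ (a b : R), (a + b) ^ p = a ^ p + b ^ p := fun a b => add_pow_char a b p
  -- existence
  have hex : ∀ r : R, ∃ c : Fin p → R, r = ∑ i : Fin p, π ^ (i : ℕ) * c i ^ p := by
    have hli : LinearIndependent kp (fun i : Fin p => algebraMap R K π ^ (i : ℕ)) := by
      rw [Fintype.linearIndependent_iff]
      intro g hg i
      choose y hy using fun i => (hkp (g i : K)).1 (g i).2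
      obtain ⟨b, hb⟩ := IsLocalization.exist_integer_multiples (nonZeroDivisors R) Finset.univ y
      choose a ha using fun i => hb i (Finset.mem_univ i)
      have hsum : ∑ i : Fin p, π ^ (i : ℕ) * a i ^ p = 0 := by
        apply IsFractionRing.injective R K
        rw [map_sum, map_zero]
        calc ∑ i : Fin p, algebraMap R K (π ^ (i : ℕ) * a i ^ p)
            = algebraMap R K (b : R) ^ p * ∑ i : Fin p, (g i : K) * algebraMap R K π ^ (i : ℕ) := by
              rw [Finset.mul_sum]
              refine Finset.sum_congr rfl fun i _ => ?_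
              rw [map_mul, map_pow, map_pow, ha i, Algebra.smul_def, mul_pow, hy i]
              ring
          _ = 0 := by
              have : ∑ i : Fin p, (g i : K) * algebraMap R K π ^ (i : ℕ) = 0 := hg
              rw [this, mul_zero]
      have h0 := eq_zero_of_sum hπ a hsum i
      have := ha i
      rw [h0, map_zero, Algebra.smul_def, eq_comm, mul_eq_zero] at this
      have hyi : y i = 0 := this.resolve_left
        (map_ne_zero_of_mem_nonZeroDivisors _ (IsFractionRing.injective R K) b.2)
      apply Subtype.ext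
      rw [← hy i, hyi, zero_pow hp.ne_zero]
      rfl
    haveI : Nonempty (Fin p) := ⟨⟨0, hp.pos⟩⟩
    have hspan := hli.span_eq_top_of_card_eq_finrank (by rw [Fintype.card_fin, hdeg])
    intro r
    obtain ⟨g, hg⟩ := (Submodule.mem_span_range_iff_exists_fun kp).1 (hspan.ge (Submodule.mem_top (x := algebraMap R K r)))
    choose y hy using fun i => (hkp (g i : K)).1 (g i).2
    obtain ⟨b, hb⟩ := IsLocalization.exist_integer_multiples (nonZeroDivisors R) Finset.univ y
    choose a ha using fun i => hb i (Finset.mem_univ i)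
    refine exists_coeff_of_mul hπ (nonZeroDivisors.ne_zero b.2) a (IsFractionRing.injective R K ?_)
    rw [map_mul, map_pow, ← hg, Finset.mul_sum, map_sum]
    refine Finset.sum_congr rfl fun i _ => ?_
    rw [map_mul, map_pow, map_pow, ha i, Algebra.smul_def (b : R) (y i), mul_pow, hy i]
    show _ * ((g i : K) * _) = _
    ring
  have huniq : ∀ c c' : Fin p → R, ∑ i : Fin p, π ^ (i : ℕ) * c i ^ p = ∑ i : Fin p, π ^ (i : ℕ) * c' i ^ p →
      c = c' := by
    intro c c' h
    funext i
    refine sub_eq_zero.1 (eq_zero_of_sum hπ (fun i => c i - c' i) ?_ i)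
    simp only [sub_pow_char, mul_sub, Finset.sum_sub_distrib, h, sub_self]
  refine ⟨fun r => ?_, ?_⟩
  · obtain ⟨c, hc⟩ := hex r
    exact ⟨c, hc, fun c' hc' => huniq c' c (hc'.symm.trans hc)⟩
  choose c hc using hex
  let δ : R → R := fun r => ∑ i : Fin p, ((i : ℕ) : R) * π ^ ((i : ℕ) - 1) * c r i ^ p
  have hδadd : ∀ r s, δ (r + s) = δ r + δ s := by
    intro r s
    have : c (r + s) = fun i => c r i + c s i := huniq _ _ (by
      rw [← hc (r + s)]
      simp only [hfrob, mul_add, Finset.sum_add_distrib, ← hc r, ← hc s])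
    simp only [δ, this, hfrob, mul_add, Finset.sum_add_distrib]
  have hδmon : ∀ (m : ℕ) (e : R), δ (π ^ m * e ^ p) = (m : R) * π ^ (m - 1) * e ^ p := by
    intro m e
    let i : Fin p := ⟨m % p, Nat.mod_lt _ hp.pos⟩
    have hm : m = (m / p) * p + i := by rw [mul_comm]; exact (Nat.div_add_mod m p).symm
    have : c (π ^ m * e ^ p) = Pi.single i (π ^ (m / p) * e) := huniq _ _ (by
      rw [← hc, Finset.sum_eq_single i (fun j _ hj => by simp [hj, zero_pow hp.ne_zero]) (by simp),
        Pi.single_eq_same, mul_pow, ← pow_mul]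
      conv_lhs => rw [hm, pow_add]
      ring)
    show ∑ j : Fin p, _ = _
    rw [this, Finset.sum_eq_single i (fun j _ hj => by simp [hj, zero_pow hp.ne_zero]) (by simp),
      Pi.single_eq_same, mul_pow, ← pow_mul]
    have hcast : (m : R) = ((i : ℕ) : R) := by
      conv_lhs => rw [hm]
      simp
    rw [hcast]
    rcases Nat.eq_zero_or_pos (i : ℕ) with h0 | h0
    · simp [h0]
    · rw [show m - 1 = m / p * p + ((i : ℕ) - 1) by omega, pow_add]
      ring
  let δh : R →+ R := AddMonoidHom.mk' δ hδadd
  have hleib : ∀ r s, δ (r * s) = r * δ s + s * δ r := by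
    intro r s
    conv_lhs => rw [hc r, hc s, Finset.sum_mul_sum]
    rw [show δ = δh from rfl, map_sum]
    simp only [map_sum]
    calc (∑ i : Fin p, ∑ j : Fin p, δh (π ^ (i : ℕ) * c r i ^ p * (π ^ (j : ℕ) * c s j ^ p)))
        = ∑ i : Fin p, ∑ j : Fin p, ((π ^ (i : ℕ) * c r i ^ p) * (((j : ℕ) : R) * π ^ ((j : ℕ) - 1) * c s j ^ p) +
            (π ^ (j : ℕ) * c s j ^ p) * (((i : ℕ) : R) * π ^ ((i : ℕ) - 1) * c r i ^ p)) := by
          refine Finset.sum_congr rfl fun i _ => Finset.sum_congr rfl fun j _ => ?_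
          rw [show π ^ (i : ℕ) * c r i ^ p * (π ^ (j : ℕ) * c s j ^ p) =
            π ^ ((i : ℕ) + j) * (c r i * c s j) ^ p by rw [pow_add, mul_pow]; ring]
          rw [show δh _ = δ _ from rfl, hδmon, Nat.cast_add]
          have key : ∀ (a b : ℕ) (x : R), ((a : R) + b) * x ^ (a + b - 1) =
              x ^ a * ((b : R) * x ^ (b - 1)) + x ^ b * ((a : R) * x ^ (a - 1)) := by
            intro a b x
            rcases a with _ | a <;> rcases b with _ | b <;>
              simp [pow_add, ← add_assoc, Nat.add_right_comm _ 1] <;> ring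
          rw [mul_pow, key]
          ring
      _ = r * δh s + s * δh r := by
          simp only [Finset.sum_add_distrib]
          congr 1
          · simp only [← Finset.mul_sum, ← Finset.sum_mul, ← hc]
            rfl
          · rw [Finset.sum_comm]
            simp only [← Finset.mul_sum, ← Finset.sum_mul, ← hc]
            rfl
  let D : Derivation ℤ R R := Derivation.mk' δh.toIntLinearMap fun r s => hleib r s
  have hDπ : D π = 1 := by
    have h := hδmon 1 1
    simp only [one_pow, mul_one, pow_one, Nat.cast_one, Nat.sub_self, pow_zero] at h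
    exact h
  refine ⟨fun r s hrs => ?_, fun ω => ?_⟩
  · have h := congrArg D.liftKaehlerDifferential hrs
    simp only [map_smul, Derivation.liftKaehlerDifferential_comp_D, hDπ, smul_eq_mul, mul_one] at h
    exact h
  · have hpz : ∀ (x : KaehlerDifferential ℤ R), (p : R) • x = 0 := fun x => by
      rw [CharP.cast_eq_zero R p, zero_smul]
    have hω : ω ∈ Submodule.span R (Set.range (KaehlerDifferential.D ℤ R)) := by
      rw [KaehlerDifferential.span_range_derivation]; trivial
    induction hω using Submodule.span_induction with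
    | mem x hx =>
      obtain ⟨r, rfl⟩ := hx
      refine ⟨δ r, ?_⟩
      conv_rhs => rw [hc r, map_sum]
      show δ r • _ = _
      rw [Finset.sum_smul]
      refine Finset.sum_congr rfl fun i _ => ?_
      have hz : (KaehlerDifferential.D ℤ R) (c r i ^ p) = 0 := by
        rw [Derivation.leibniz_pow, ← Nat.cast_smul_eq_nsmul R, hpz]
      rw [Derivation.leibniz, hz, smul_zero, zero_add, Derivation.leibniz_pow,
        ← Nat.cast_smul_eq_nsmul R, smul_smul, smul_smul]
      congr 1
      ring
    | zero => exact ⟨0, zero_smul ..⟩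
    | add x y _ _ hx hy =>
      obtain ⟨a, rfl⟩ := hx
      obtain ⟨b, rfl⟩ := hy
      exact ⟨a + b, add_smul ..⟩
    | smul a x _ hx =>
      obtain ⟨b, rfl⟩ := hx
      exact ⟨a * b, mul_smul ..⟩

end Groth.Agent.S13368
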