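import Groth.Statements.S13369
import Mathlib
import Groth.Agent.PBasis.Field

set_option autoImplicit false
universe u
open GaDual

namespace Groth.Agent.S13369

/-- For a normal Noetherian domain A of prime characteristic p, an element whose differential vanishes
in the absolute Kähler differentials of A is a p-th power; that is, the sequence F : A → A, d : A →
Ω_A (F the Frobenius) is exact at the middle term. (The published statement is for normal locally
Noetherian schemes of characteristic p; this row is the case of the spectrum of a normal Noetherian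
domain.) -/
theorem result (p : ℕ) [Fact p.Prime] {A : Type u} [CommRing A] [IsDomain A]
    [IsNoetherianRing A] [IsIntegrallyClosed A] [CharP A p] (s : A) (hs : KaehlerDifferential.D ℤ A s = 0) :
    ∃ f : A, f ^ p = s := by
  have hp : p.Prime := Fact.out
  let K := FractionRing A
  haveI : CharP K p := charP_of_injective_algebraMap (IsFractionRing.injective A K) p
  let k₀ : Subfield K := (frobenius K p).fieldRange
  have hF : ∀ y : K, y ^ p ∈ (⊥ : IntermediateField k₀ K) := fun y =>
    IntermediateField.mem_bot.mpr ⟨⟨y ^ p, ⟨y, rfl⟩⟩, rfl⟩
  by_cases hs' : algebraMap A K s ∈ (⊥ : IntermediateField k₀ K)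
  · obtain ⟨⟨z, y, hy⟩, hz⟩ := IntermediateField.mem_bot.mp hs'
    have hy' : y ^ p = algebraMap A K s := by exact (hy.trans hz)
    have hint : IsIntegral A y := IsIntegral.of_pow hp.pos (hy' ▸ isIntegral_algebraMap)
    obtain ⟨f, hf⟩ := IsIntegrallyClosed.isIntegral_iff.mp hint
    exact ⟨f, IsFractionRing.injective A K (by rw [map_pow, hf, hy'])⟩
  · obtain ⟨D, -, hD⟩ := Groth.Agent.PBasis.exists_derivation_apply_eq_one (p := p) ⊥ hF hs'
    let D' : Derivation ℤ A K := Derivation.mk'
      ((D.toLinearMap.toAddMonoidHom.comp (algebraMap A K).toAddMonoidHom).toIntLinearMap)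
      (fun a b => by simp [Algebra.smul_def, mul_comm])
    have h := Derivation.liftKaehlerDifferential_comp_D D' s
    rw [hs, map_zero] at h
    exact absurd (h.trans hD) zero_ne_one

end Groth.Agent.S13369
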