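import Groth.Statements.S13371
import Groth.Agent.UnitsAn.Basic
import Groth.Agent.GaPts.Basic
import Groth.Prelude.Def_GmPts
-- import your own Groth.Agent.* helpers here

set_option autoImplicit false
universe u
open GaDual

namespace Groth.Agent.S13371

open CategoryTheory AlgebraicGeometry MonObj CartesianMonoidalCategory in
/-- If S is a reduced scheme, every homomorphism of S-group schemes from the additive group to the
multiplicative group over S is the trivial homomorphism. -/
theorem result (S : Scheme.{u}) [IsReduced S] (φ : Red.Ga S ⟶ Red.Gm S)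
    [IsMonHom φ] : φ = 1 := by
  let A : Over S := Over.mk (𝔸(PUnit.{u + 1}; S) ↘ S)
  obtain ⟨y, hy⟩ := Groth.Agent.GaPts.gaFn_surjective A (AffineSpace.coord S PUnit.unit)
  obtain ⟨v, -, hv⟩ := Groth.Agent.UnitsAn.exists_const PUnit.{u + 1} S (Red.gmFn (y ≫ φ)) (GmPts.isUnit_gmFn _)
  have key : ∀ (X : Over S) (x : X ⟶ Red.Ga S), Red.gmFn (x ≫ φ) = X.hom.appTop v := by
    intro X x
    let z : X ⟶ A := Over.homMk (AffineSpace.homOfVector X.hom (fun _ => Red.gaFn x))
      (AffineSpace.homOfVector_over _ _)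
    have hz : z ≫ y = x := Groth.Agent.GaPts.gaFn_injective X (by
      rw [Groth.Agent.GaPts.gaFn_comp, hy]
      exact AffineSpace.homOfVector_appTop_coord _ _ _)
    conv_lhs => rw [← hz, Category.assoc, GmPts.gmFn_comp, ← hv, ← CommRingCat.comp_apply, ← Scheme.Hom.comp_appTop]
    exact congrArg (fun f : X.left ⟶ S => f.appTop v) (AffineSpace.homOfVector_over _ _)
  have hv1 : v = 1 := by
    have h := key (Over.mk (𝟙 S)) 1
    rw [show (1 : Over.mk (𝟙 S) ⟶ Red.Ga S) ≫ φ = 1 from MonObj.one_comp φ, GmPts.gmFn_one] at h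
    exact h.symm
  have h := key (Red.Ga S) (𝟙 _)
  rw [Category.id_comp, hv1, map_one] at h
  exact GmPts.gmFn_injective (h.trans GmPts.gmFn_one.symm)

end Groth.Agent.S13371
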