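import Groth.Statements.S13373
import Groth.Agent.GaDual.Chars

set_option autoImplicit false
universe u
open GaDual

namespace Groth.Agent.S13373

/-- Over a commutative algebra A of prime characteristic p, the formal characters (power series χ with
constant term 1 and χ(X+Y) = χ(X)χ(Y)) are exactly the infinite products ∏_n exp_p(a_n X^(p^n)) with
a_n^p = 0, where exp_p(Y) = Σ_{j<p} Y^j/j!; the infinite product is expressed through its
truncations: χ mod X^(p^m) equals the finite product over n < m. -/
theorem result (p : ℕ) [Fact p.Prime] (A : Type u) [CommRing A] [CharP A p]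
    (χ : PowerSeries A) :
    (PowerSeries.constantCoeff χ = 1 ∧
      PowerSeries.subst (MvPowerSeries.X 0 + MvPowerSeries.X 1 : MvPowerSeries (Fin 2) A) χ =
        PowerSeries.subst (MvPowerSeries.X 0 : MvPowerSeries (Fin 2) A) χ *
          PowerSeries.subst (MvPowerSeries.X 1 : MvPowerSeries (Fin 2) A) χ) ↔
      ∃ a : ℕ → A, (∀ n, a n ^ p = 0) ∧ ∀ m : ℕ,
        PowerSeries.trunc (p ^ m) χ = ∏ n ∈ Finset.range m, ∑ j ∈ Finset.range p,
          Polynomial.C (Ring.inverse (j.factorial : A) * a n ^ j) * Polynomial.X ^ (j * p ^ n) := by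
  rw [Groth.Agent.GaDual.isFormalChar_iff]
  constructor
  · rintro ⟨h0, h⟩
    rw [← PowerSeries.coeff_zero_eq_constantCoeff] at h0
    refine ⟨fun n => PowerSeries.coeff (p ^ n) χ,
      fun n => Groth.Agent.GaDual.pow_prime_eq_zero p (c := fun n => PowerSeries.coeff n χ) h0 (h _) (Nat.lt_succ_self n),
      fun m => Polynomial.ext fun k => ?_⟩
    rw [PowerSeries.coeff_trunc]
    exact (Groth.Agent.GaDual.coeff_prod_expE p (c := fun n => PowerSeries.coeff n χ) h0 (h (p ^ m)) m le_rfl k).symm
  · rintro ⟨a, ha, h⟩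
    have hc : ∀ m k, k < p ^ m → PowerSeries.coeff k χ = (∏ n ∈ Finset.range m, Groth.Agent.GaDual.expE p (a n) n).coeff k := by
      intro m k hk
      have := congrArg (fun P => Polynomial.coeff P k) (h m)
      rw [PowerSeries.coeff_trunc, if_pos hk] at this
      exact this
    refine ⟨?_, fun q i j hij => ?_⟩
    · rw [← PowerSeries.coeff_zero_eq_constantCoeff, hc 0 0 (by simp)]; simp
    · have hm : i + j < p ^ (i + j + 1) := (Nat.lt_succ_self _).trans (Nat.lt_pow_self (Fact.out : p.Prime).one_lt)
      show PowerSeries.coeff i χ * PowerSeries.coeff j χ = _ * PowerSeries.coeff (i + j) χ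
      rw [hc (i + j + 1) i (by omega), hc (i + j + 1) j (by omega), hc _ (i + j) hm]
      exact (Groth.Agent.GaDual.isChar_prod_expE p _ a ha).2 q i j hij

end Groth.Agent.S13373
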