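import Groth.Statements.S13374
import Groth.Agent.GaDual.Chars

set_option autoImplicit false
universe u
open GaDual

namespace Groth.Agent.S13374

/-- Over a commutative algebra A of prime characteristic p, every character of the kernel α_(p^n) of the
n-th Frobenius of the additive group — i.e. every polynomial f of degree < p^n with f(0) = 1 and
f(X+Y) ≡ f(X)f(Y) modulo (X^(p^n), Y^(p^n)) — is the product ∏_{i<n} exp_p(a_i X^(p^i)) for some a_i
with a_i^p = 0, exp_p(Y) = Σ_{j<p} Y^j/j!. -/
theorem result (p : ℕ) [Fact p.Prime] (A : Type u) [CommRing A] [CharP A p]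
    (n : ℕ) (f : Polynomial A) (hdeg : f.natDegree < p ^ n) (h0 : f.eval 0 = 1)
    (hmul : Ideal.Quotient.mk
        (Ideal.span {(MvPolynomial.X 0 ^ p ^ n : MvPolynomial (Fin 2) A), MvPolynomial.X 1 ^ p ^ n})
        (Polynomial.aeval (MvPolynomial.X 0 + MvPolynomial.X 1 : MvPolynomial (Fin 2) A) f) =
      Ideal.Quotient.mk
        (Ideal.span {(MvPolynomial.X 0 ^ p ^ n : MvPolynomial (Fin 2) A), MvPolynomial.X 1 ^ p ^ n})
        (Polynomial.aeval (MvPolynomial.X 0 : MvPolynomial (Fin 2) A) f *
          Polynomial.aeval (MvPolynomial.X 1 : MvPolynomial (Fin 2) A) f)) :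
    ∃ a : ℕ → A, (∀ i, a i ^ p = 0) ∧
      f = ∏ i ∈ Finset.range n, ∑ j ∈ Finset.range p,
          Polynomial.C (Ring.inverse (j.factorial : A) * a i ^ j) * Polynomial.X ^ (j * p ^ i) := by
  classical
  rw [← Polynomial.coeff_zero_eq_eval_zero] at h0
  have hz : ∀ i j, i < p ^ n → j < p ^ n → f.coeff i * f.coeff j = ((i + j).choose i : A) * f.coeff (i + j) := by
    intro i j hi hj
    rw [Ideal.Quotient.eq, Ideal.mem_span_pair] at hmul
    obtain ⟨a, b, hab⟩ := hmul
    have := congrArg (MvPolynomial.coeff (Groth.Agent.GaDual.sd i j)) hab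
    rw [MvPolynomial.coeff_sub, Groth.Agent.GaDual.coeff_aeval_add, Groth.Agent.GaDual.coeff_aeval_mul,
      MvPolynomial.coeff_add, MvPolynomial.X_pow_eq_monomial, MvPolynomial.X_pow_eq_monomial,
      MvPolynomial.coeff_mul_monomial', MvPolynomial.coeff_mul_monomial', if_neg, if_neg, add_zero] at this
    · exact (sub_eq_zero.1 this.symm).symm
    · intro h; have := h 1; rw [Groth.Agent.GaDual.sd_apply_one] at this; simp at this; omega
    · intro h; have := h 0; rw [Groth.Agent.GaDual.sd_apply_zero] at this; simp at this; omega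
  have hdp := Groth.Agent.GaDual.dp_of_lt h0 hz
  refine ⟨fun i => if i < n then f.coeff (p ^ i) else 0, fun i => ?_, Polynomial.ext fun m => ?_⟩
  · dsimp only; split
    · rename_i hi; exact Groth.Agent.GaDual.pow_prime_eq_zero p h0 hdp hi
    · exact zero_pow (Fact.out : p.Prime).ne_zero
  · refine (Eq.trans ?_ (Groth.Agent.GaDual.coeff_prod_expE p h0 hdp n le_rfl m).symm).trans
      (congrArg (fun P => Polynomial.coeff P m) ?_)
    · split
      · rfl
      · exact Polynomial.coeff_eq_zero_of_natDegree_lt (by omega)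
    · refine Finset.prod_congr rfl fun i hi => ?_
      dsimp only
      rw [if_pos (Finset.mem_range.1 hi)]
      rfl

end Groth.Agent.S13374
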