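import Groth.Statements.S13375
import Groth.Agent.RelComparison.Basic

set_option autoImplicit false
universe u v
open CechDer

namespace Groth.Agent.S13375

open CategoryTheory CategoryTheory.Limits in
/-- In an abelian category, given two degreewise left exact sequences of nonnegatively graded cochain
complexes 0 → C' → C → C'' and 0 → I' → I → I'', each complex exact in positive degrees and the I's
termwise injective, every commutative ladder of maps g', g, g'' between their degree-zero
cohomologies is induced by chain maps f' : C' → I', f : C → I, f'' : C'' → I'' commuting with the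
given maps of complexes. -/
theorem result {V : Type u} [Category.{v} V]
    [Abelian V] (C' C C'' I' I I'' : CochainComplex V ℕ)
    (jC : C' ⟶ C) (πC : C ⟶ C'') (jI : I' ⟶ I) (πI : I ⟶ I'')
    (mC : ∀ n, Mono (jC.f n)) (wC : ∀ n, jC.f n ≫ πC.f n = 0)
    (exC : ∀ n, (ShortComplex.mk (jC.f n) (πC.f n) (wC n)).Exact)
    (mI : ∀ n, Mono (jI.f n)) (wI : ∀ n, jI.f n ≫ πI.f n = 0)
    (exI : ∀ n, (ShortComplex.mk (jI.f n) (πI.f n) (wI n)).Exact)
    (hC' : ∀ n, 0 < n → C'.ExactAt n) (hC : ∀ n, 0 < n → C.ExactAt n) (hC'' : ∀ n, 0 < n → C''.ExactAt n)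
    (hI' : ∀ n, 0 < n → I'.ExactAt n) (hI : ∀ n, 0 < n → I.ExactAt n) (hI'' : ∀ n, 0 < n → I''.ExactAt n)
    (injI' : ∀ n, Injective (I'.X n)) (injI : ∀ n, Injective (I.X n)) (injI'' : ∀ n, Injective (I''.X n))
    (g' : C'.homology 0 ⟶ I'.homology 0) (g : C.homology 0 ⟶ I.homology 0)
    (g'' : C''.homology 0 ⟶ I''.homology 0)
    (hg1 : HomologicalComplex.homologyMap jC 0 ≫ g = g' ≫ HomologicalComplex.homologyMap jI 0)
    (hg2 : HomologicalComplex.homologyMap πC 0 ≫ g'' = g ≫ HomologicalComplex.homologyMap πI 0) :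
    ∃ (f' : C' ⟶ I') (f : C ⟶ I) (f'' : C'' ⟶ I''),
      jC ≫ f = f' ≫ jI ∧ πC ≫ f'' = f ≫ πI ∧
      HomologicalComplex.homologyMap f' 0 = g' ∧ HomologicalComplex.homologyMap f 0 = g ∧
      HomologicalComplex.homologyMap f'' 0 = g'' := by
  open Groth.Agent.RelComparison ZeroObject in
  exact by
    haveI : Mono jC := HomologicalComplex.mono_of_mono_f _ mC
    let S : ShortComplex (CochainComplex V ℕ) := ShortComplex.mk jC (cokernel.π jC) (cokernel.condition jC)
    have hS : S.ShortExact :=
      { exact := ShortComplex.exact_cokernel jC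
        mono_f := inferInstanceAs (Mono jC)
        epi_g := inferInstanceAs (Epi (cokernel.π jC)) }
    have hSn : ∀ n, (S.map (HomologicalComplex.eval V (ComplexShape.up ℕ) n)).ShortExact := fun n => hS.map_of_exact _
    let l : cokernel jC ⟶ C'' := cokernel.desc jC πC (HomologicalComplex.hom_ext _ _ fun n => wC n)
    have hl : ∀ n, (cokernel.π jC).f n ≫ l.f n = πC.f n := fun n =>
      congrArg (fun t => HomologicalComplex.Hom.f t n) (cokernel.π_desc jC πC _)
    have hlm : ∀ n, Mono (l.f n) := fun n => Preadditive.mono_of_cancel_zero _ fun {W} h hh => by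
      haveI : Epi ((cokernel.π jC).f n) := (hSn n).epi_g
      obtain ⟨W', p, hp, x, hx⟩ := surjective_up_to_refinements_of_epi ((cokernel.π jC).f n) h
      obtain ⟨W'', q, hq, y, hy⟩ : ∃ (W'' : V) (q : W'' ⟶ W') (_ : Epi q) (y : W'' ⟶ C'.X n), q ≫ x = y ≫ jC.f n :=
        (exC n).exact_up_to_refinements x (by
          show x ≫ πC.f n = 0
          rw [← hl n, ← Category.assoc, ← hx, Category.assoc, hh, comp_zero])
      have hc : jC.f n ≫ (cokernel.π jC).f n = 0 :=
        congrArg (fun t => HomologicalComplex.Hom.f t n) (cokernel.condition jC)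
      rw [← cancel_epi p, comp_zero, ← cancel_epi q, comp_zero, hx, ← Category.assoc, hy, Category.assoc, hc, comp_zero]
    have hD : ∀ n, 0 < n → (cokernel jC).ExactAt n := fun n hn => by
      rw [HomologicalComplex.exactAt_iff_isZero_homology]
      exact (hS.homology_exact₃ n (n + 1) rfl).isZero_X₂ ((hC n hn).isZero_homology.eq_of_src _ _)
        ((hC' (n + 1) n.succ_pos).isZero_homology.eq_of_tgt _ _)
    haveI hepi : Epi (HomologicalComplex.homologyMap (cokernel.π jC) 0) :=
      (hS.homology_exact₃ 0 1 rfl).epi_f ((hC' 1 Nat.one_pos).isZero_homology.eq_of_tgt _ _)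
    haveI := injI'
    haveI := injI
    haveI := injI''
    obtain ⟨f', -, hf'⟩ := exists_extend (A := (0 : CochainComplex V ℕ)) (0 : (0 : CochainComplex V ℕ) ⟶ C')
      (0 : (0 : CochainComplex V ℕ) ⟶ I')
      (fun n => IsZero.mono ((HomologicalComplex.eval V _ n).map_isZero (isZero_zero _)) _)
      (fun n _ => HomologicalComplex.ExactAt.of_isZero ((HomologicalComplex.eval V _ n).map_isZero (isZero_zero _)))
      hC' g' (by rw [HomologicalComplex.homologyMap_zero, HomologicalComplex.homologyMap_zero, zero_comp])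
    obtain ⟨f, hf1, hf2⟩ := exists_extend jC (f' ≫ jI) mC hC' hC g
      (by rw [hg1, HomologicalComplex.homologyMap_comp, hf'])
    let φ : cokernel jC ⟶ I'' := cokernel.desc jC (f ≫ πI) (by
      rw [← Category.assoc, hf1, Category.assoc, show jI ≫ πI = 0 from HomologicalComplex.hom_ext _ _ fun n => wI n,
        comp_zero])
    obtain ⟨f'', hf''1, hf''2⟩ := exists_extend l φ hlm hD hC'' g'' (by
      rw [← cancel_epi (HomologicalComplex.homologyMap (cokernel.π jC) 0), ← Category.assoc,
        ← HomologicalComplex.homologyMap_comp, ← HomologicalComplex.homologyMap_comp, cokernel.π_desc,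
        cokernel.π_desc, HomologicalComplex.homologyMap_comp, hf2, hg2])
    refine ⟨f', f, f'', hf1, ?_, hf', hf2, hf''2⟩
    rw [← cokernel.π_desc jC πC (HomologicalComplex.hom_ext _ _ fun n => wC n), Category.assoc, hf''1,
      cokernel.π_desc]

end Groth.Agent.S13375
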