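import Groth.Statements.S13386
import Mathlib.RingTheory.DividedPowerAlgebra.Init
import Mathlib.RingTheory.Localization.Basic

set_option autoImplicit false
universe u
open scoped TensorProduct
open ZeroCyc

namespace Groth.Agent.S13386

/-- Let A' = T⁻¹A be a localization of the ring A, M an A-module and M' = A' ⊗_A M. In the divided power
algebra Γ_{A'}(M') the A'-span of the d-th divided powers γ_d(1 ⊗ m), m ∈ M, is the A'-span of
γ_d(M'). (The published statement phrases this as the surjectivity of the natural map from (γ_d(M))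
⊗_A A' onto (γ_d(M')); its further clause through the base-change isomorphism Γ_A(M) ⊗_A A' ≅
Γ_{A'}(M') is not restated here.) -/
theorem result {A A' M : Type u} [CommRing A] [CommRing A']
    [Algebra A A'] (T : Submonoid A) [IsLocalization T A'] [AddCommGroup M] [Module A M] (d : ℕ) :
    Submodule.span A' (Set.range fun m : M => DividedPowerAlgebra.dp A' d ((1 : A') ⊗ₜ[A] m)) =
      Submodule.span A' (Set.range (DividedPowerAlgebra.dp A' d (M := A' ⊗[A] M))) := by
  refine le_antisymm (Submodule.span_mono ?_) (Submodule.span_le.2 ?_)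
  · rintro _ ⟨m, rfl⟩
    exact ⟨_, rfl⟩
  · rintro _ ⟨z, rfl⟩
    obtain ⟨m, t, ht⟩ : ∃ (m : M) (t : A'), z = t • ((1 : A') ⊗ₜ[A] m) := by
      suffices h : ∃ (m : M) (s : T), algebraMap A A' s • z = (1 : A') ⊗ₜ[A] m by
        obtain ⟨m, s, hs⟩ := h
        obtain ⟨v, hv⟩ := (IsLocalization.map_units A' s).exists_left_inv
        exact ⟨m, v, by rw [← hs, smul_smul, hv, one_smul]⟩
      induction z using TensorProduct.induction_on with
      | zero => exact ⟨0, 1, by simp⟩
      | tmul c b =>
        obtain ⟨⟨a, s⟩, h⟩ := IsLocalization.surj T c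
        refine ⟨a • b, s, ?_⟩
        rw [TensorProduct.smul_tmul', smul_eq_mul, mul_comm, h, TensorProduct.tmul_smul, TensorProduct.smul_tmul',
          Algebra.smul_def, mul_one]
      | add x y hx hy =>
        obtain ⟨m, s, hs⟩ := hx
        obtain ⟨m', s', hs'⟩ := hy
        refine ⟨(s' : A) • m + (s : A) • m', s * s', ?_⟩
        rw [Submonoid.coe_mul, map_mul, smul_add, mul_comm (algebraMap A A' s), mul_smul, hs,
          mul_comm (algebraMap A A' s'), mul_smul, hs', TensorProduct.tmul_add, TensorProduct.tmul_smul,
          TensorProduct.tmul_smul, algebraMap_smul, algebraMap_smul]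
    rw [ht, SetLike.mem_coe, DividedPowerAlgebra.dp_smul]
    exact Submodule.smul_mem _ _ (Submodule.subset_span ⟨m, rfl⟩)

end Groth.Agent.S13386
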