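import Groth.Statements.S13387
import Mathlib

set_option autoImplicit false
universe u
open ZeroCyc

namespace Groth.Agent.S13387

/-- Let A be a commutative ring, M an A-module and d ≥ 0. Suppose that at each prime p of A either k(p)
has d or more elements, or the localisation M_p is a cyclic A_p-module. Then the degree-d piece
Γ^d_A(M) of the divided power algebra Γ_A(M) is spanned over A by the d-th divided powers γ_d(m), m
∈ M. -/
theorem result {A M : Type u} [CommRing A] [AddCommGroup M]
    [Module A M] (d : ℕ)
    (h : ∀ p : PrimeSpectrum A, (d : Cardinal) ≤ Cardinal.mk p.asIdeal.ResidueField ∨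
      ∃ x : LocalizedModule p.asIdeal.primeCompl M, Submodule.span (Localization.AtPrime p.asIdeal) {x} = ⊤) :
    Submodule.span A (Set.range (DividedPowerAlgebra.dp A d : M → DividedPowerAlgebra A M)) =
      PolLaw.gammaPiece A M d := by
  classical
  let S : ℕ → Submodule A (DividedPowerAlgebra A M) := fun e =>
    Submodule.span A (Set.range (DividedPowerAlgebra.dp A e : M → DividedPowerAlgebra A M))
  refine le_antisymm (Submodule.span_le.2 ?_) (Submodule.span_le.2 ?_)
  · rintro _ ⟨m, rfl⟩
    exact Submodule.subset_span ⟨1, fun _ => d, fun _ => m, by simp, by simp⟩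
  rintro _ ⟨n₀, k₀, m₀, hk₀, rfl⟩
  suffices htop : (Submodule.comap (LinearMap.toSpanSingleton A (DividedPowerAlgebra A M)
      (∏ i, DividedPowerAlgebra.dp A (k₀ i) (m₀ i))) (S d) : Ideal A) = ⊤ by
    have h1 : (1 : A) ∈ (⊤ : Ideal A) := Submodule.mem_top
    rw [← htop, Submodule.mem_comap, LinearMap.toSpanSingleton_apply, one_smul] at h1
    exact h1
  by_contra hne
  obtain ⟨P, hP, hle⟩ := Ideal.exists_le_maximal _ hne
  let p : PrimeSpectrum A := ⟨P, hP.isPrime⟩
  have two : ∀ (e k : ℕ) (m n : M), e + k ≤ d → ∃ r ∉ P,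
      r • (DividedPowerAlgebra.dp A e m * DividedPowerAlgebra.dp A k n) ∈ S (e + k) := by
    intro e k m n hd
    rcases h p with hc | ⟨x, hx⟩
    · rcases Nat.eq_zero_or_pos k with hk | hk
      · subst hk
        refine ⟨1, (Ideal.ne_top_iff_one P).1 hP.ne_top, ?_⟩
        rw [one_smul, DividedPowerAlgebra.dp_zero, mul_one]
        exact Submodule.subset_span ⟨m, rfl⟩
      obtain ⟨emb⟩ : Nonempty (Fin d ↪ A ⧸ P) := by
        rcases finite_or_infinite (A ⧸ P) with hf | hf
        · letI := Fintype.ofFinite (A ⧸ P)
          haveI : P.IsMaximal := hP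
          have he := Cardinal.mk_congr (Equiv.ofBijective _ (Ideal.bijective_algebraMap_quotient_residueField P))
          have hc' : (d : Cardinal) ≤ Cardinal.mk (A ⧸ P) := he ▸ hc
          rw [Cardinal.mk_fintype, Nat.cast_le] at hc'
          exact Function.Embedding.nonempty_of_card_le (by simpa using hc')
        · exact ⟨Fin.valEmbedding.trans (Infinite.natEmbedding _)⟩
      choose a ha using fun i : Fin d => Ideal.Quotient.mk_surjective (emb i)
      set N := e + k with hN
      let c : Fin N → A := fun j => a (Fin.castLE hd j)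
      let V : Matrix (Fin N) (Fin N) A := Matrix.vandermonde c
      haveI := hP.isPrime
      have hdet : V.det ∉ P := by
        rw [Matrix.det_vandermonde, Ideal.IsPrime.prod_mem_iff]
        rintro ⟨i, -, hi⟩
        rw [Ideal.IsPrime.prod_mem_iff] at hi
        obtain ⟨j, hj, hij⟩ := hi
        rw [← Ideal.Quotient.eq] at hij
        simp only [c, ha] at hij
        exact ne_of_gt (Finset.mem_Ioi.1 hj) (Fin.castLE_injective hd (emb.injective hij))
      let R : Fin N → DividedPowerAlgebra A M := fun l =>
        DividedPowerAlgebra.dp A (l : ℕ) m * DividedPowerAlgebra.dp A (N - l) n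
      let v : Fin N → DividedPowerAlgebra A M := fun j =>
        DividedPowerAlgebra.dp A N (c j • m + n) - c j ^ N • DividedPowerAlgebra.dp A N m
      have hv : ∀ j, v j = ∑ l, V j l • R l := by
        intro j
        simp only [v, R, V, Matrix.vandermonde_apply]
        rw [DividedPowerAlgebra.dp_add,
          Finset.Nat.sum_antidiagonal_eq_sum_range_succ
            (fun p q => DividedPowerAlgebra.dp A p (c j • m) * DividedPowerAlgebra.dp A q n),
          Finset.sum_range_succ, Nat.sub_self, DividedPowerAlgebra.dp_zero, mul_one, DividedPowerAlgebra.dp_smul,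
          add_sub_cancel_right, ← Fin.sum_univ_eq_sum_range]
        refine Finset.sum_congr rfl fun l _ => ?_
        rw [DividedPowerAlgebra.dp_smul, smul_mul_assoc]
      refine ⟨V.det, hdet, ?_⟩
      have hR : V.det • R ⟨e, by omega⟩ = ∑ j, V.adjugate ⟨e, by omega⟩ j • v j := by
        simp only [hv, Finset.smul_sum, smul_smul]
        rw [Finset.sum_comm]
        simp only [← Finset.sum_smul, ← Matrix.mul_apply, Matrix.adjugate_mul, Matrix.smul_apply, Matrix.one_apply,
          smul_eq_mul, mul_ite, mul_one, mul_zero, ite_smul, zero_smul, Finset.sum_ite_eq, Finset.mem_univ, if_true]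
      have hRe : R ⟨e, by omega⟩ = DividedPowerAlgebra.dp A e m * DividedPowerAlgebra.dp A k n := by
        simp only [R]
        rw [show N - e = k by omega]
      rw [← hRe, hR]
      exact Submodule.sum_mem _ fun j _ => Submodule.smul_mem _ _
        (Submodule.sub_mem _ (Submodule.subset_span ⟨_, rfl⟩) (Submodule.smul_mem _ _ (Submodule.subset_span ⟨m, rfl⟩)))
    · induction x using LocalizedModule.induction_on with
      | h y t =>
        have key : ∀ m : M, ∃ s ∉ P, ∃ a : A, s • m = a • y := by
          intro m
          have hm : LocalizedModule.mk m 1 ∈ Submodule.span (Localization.AtPrime P) {LocalizedModule.mk y t} :=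
            hx ▸ Submodule.mem_top
          obtain ⟨cc, hcc⟩ := Submodule.mem_span_singleton.1 hm
          induction cc using Localization.induction_on with
          | H as =>
            obtain ⟨a, s⟩ := as
            rw [LocalizedModule.mk_smul_mk, LocalizedModule.mk_eq] at hcc
            obtain ⟨u, hu⟩ := hcc
            simp only [Submonoid.smul_def, smul_smul, Submonoid.coe_one, mul_one, Submonoid.coe_mul] at hu
            exact ⟨(u : A) * ((s : A) * t), (u * (s * t) : P.primeCompl).2, (u : A) * a, by simpa [mul_comm, mul_left_comm, mul_assoc] using hu.symm⟩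
        obtain ⟨s, hs, a, hsa⟩ := key m
        obtain ⟨s', hs', b, hsb⟩ := key n
        haveI := hP.isPrime
        refine ⟨s ^ e * s' ^ k, (P.primeCompl.mul_mem (pow_mem (show s ∈ P.primeCompl from hs) e)
          (pow_mem (show s' ∈ P.primeCompl from hs') k)), ?_⟩
        rw [← smul_mul_smul_comm, ← DividedPowerAlgebra.dp_smul, ← DividedPowerAlgebra.dp_smul, hsa, hsb,
          DividedPowerAlgebra.dp_smul, DividedPowerAlgebra.dp_smul, smul_mul_smul_comm, DividedPowerAlgebra.dp_mul]
        exact Submodule.smul_mem _ _ (nsmul_mem (show DividedPowerAlgebra.dp A (e + k) y ∈ S (e + k) from Submodule.subset_span ⟨y, rfl⟩) _)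
  have many : ∀ (n : ℕ) (k : Fin n → ℕ) (m : Fin n → M), (∑ i, k i) ≤ d → ∃ r ∉ P,
      r • ∏ i, DividedPowerAlgebra.dp A (k i) (m i) ∈ S (∑ i, k i) := by
    intro n
    induction n with
    | zero =>
      intro k m _
      refine ⟨1, (Ideal.ne_top_iff_one P).1 hP.ne_top, ?_⟩
      simp only [Finset.univ_eq_empty, Finset.prod_empty, Finset.sum_empty, one_smul]
      exact Submodule.subset_span ⟨0, DividedPowerAlgebra.dp_zero (R := A) (m := (0 : M))⟩
    | succ n ih =>
      intro k m hd
      rw [Fin.prod_univ_succ, Fin.sum_univ_succ] at *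
      obtain ⟨r, hr, hrm⟩ := ih (fun i => k i.succ) (fun i => m i.succ) (by omega)
      have hstep : ∀ z ∈ S (∑ i : Fin n, k i.succ), ∃ r' ∉ P,
          r' • (DividedPowerAlgebra.dp A (k 0) (m 0) * z) ∈ S (k 0 + ∑ i : Fin n, k i.succ) := by
        intro z hz
        induction hz using Submodule.span_induction with
        | mem z hz => obtain ⟨x, rfl⟩ := hz; exact two _ _ _ _ hd
        | zero => exact ⟨1, (Ideal.ne_top_iff_one P).1 hP.ne_top, by simp⟩
        | add x y _ _ hx hy =>
          obtain ⟨r1, h1, e1⟩ := hx
          obtain ⟨r2, h2, e2⟩ := hy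
          refine ⟨r1 * r2, fun hm => (hP.isPrime.mem_or_mem hm).elim h1 h2, ?_⟩
          rw [mul_add, smul_add]
          refine Submodule.add_mem _ ?_ ?_
          · rw [mul_comm r1, mul_smul]; exact Submodule.smul_mem _ _ e1
          · rw [mul_smul]; exact Submodule.smul_mem _ _ e2
        | smul a x _ hx =>
          obtain ⟨r1, h1, e1⟩ := hx
          exact ⟨r1, h1, by rw [mul_smul_comm, smul_comm]; exact Submodule.smul_mem _ _ e1⟩
      obtain ⟨r', hr', h'⟩ := hstep _ hrm
      refine ⟨r' * r, fun hm => (hP.isPrime.mem_or_mem hm).elim hr' hr, ?_⟩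
      rw [mul_smul, ← mul_smul_comm r]
      exact h'
  obtain ⟨r, hr, hmem⟩ := many n₀ k₀ m₀ hk₀.le
  rw [hk₀] at hmem
  exact hr (hle (by rw [Submodule.mem_comap, LinearMap.toSpanSingleton_apply]; exact hmem))

end Groth.Agent.S13387
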