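import Groth.Statements.S13388
import Mathlib
import Groth.Agent.GammaSpanCyclic.Basic

set_option autoImplicit false
universe u
open ZeroCyc

namespace Groth.Agent.S13388

/-- Let A be a commutative ring, M a finitely generated A-module and d ≥ 0. If the degree-d piece
Γ^d_A(M) of Γ_A(M) is spanned over A by the divided powers γ_d(m), m ∈ M, then at each prime p of A
either k(p) has d or more elements, or the localisation M_p is a cyclic A_p-module. -/
theorem result {A M : Type u} [CommRing A] [AddCommGroup M]
    [Module A M] [Module.Finite A M] (d : ℕ)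
    (h : Submodule.span A (Set.range (DividedPowerAlgebra.dp A d : M → DividedPowerAlgebra A M)) =
      PolLaw.gammaPiece A M d)
    (p : PrimeSpectrum A) :
    (d : Cardinal) ≤ Cardinal.mk p.asIdeal.ResidueField ∨
      ∃ x : LocalizedModule p.asIdeal.primeCompl M, Submodule.span (Localization.AtPrime p.asIdeal) {x} = ⊤ := by
  classical
  by_cases hcyc : ∃ x : LocalizedModule p.asIdeal.primeCompl M, Submodule.span (Localization.AtPrime p.asIdeal) {x} = ⊤
  · exact Or.inr hcyc
  left
  by_contra hlt
  push Not at hlt
  haveI : Finite p.asIdeal.ResidueField := Cardinal.lt_aleph0_iff_finite.1 (hlt.trans (Cardinal.natCast_lt_aleph0))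
  have hd : Nat.card p.asIdeal.ResidueField < d := by
    rw [← Nat.cast_lt (α := Cardinal), Nat.cast_card]
    exact hlt
  let ι : M → TensorProduct A p.asIdeal.ResidueField M := fun m => TensorProduct.tmul A 1 m
  have hspan : Submodule.span p.asIdeal.ResidueField (Set.range ι) = ⊤ := by
    rw [eq_top_iff]
    intro z _
    induction z using TensorProduct.induction_on with
    | zero => exact Submodule.zero_mem _
    | tmul c m =>
      have : TensorProduct.tmul A c m = c • ι m := by
        simp only [ι, TensorProduct.smul_tmul']
        simp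
      rw [this]
      exact Submodule.smul_mem _ _ (Submodule.subset_span ⟨m, rfl⟩)
    | add x y hx hy => exact Submodule.add_mem _ (hx trivial) (hy trivial)
  haveI : FiniteDimensional p.asIdeal.ResidueField
      (Submodule.span p.asIdeal.ResidueField (Set.range ι)) := by rw [hspan]; infer_instance
  obtain ⟨f, hf, hfspan, hli⟩ := Submodule.exists_fun_fin_finrank_span_eq p.asIdeal.ResidueField (Set.range ι)
  replace hfspan := hfspan.trans hspan
  generalize Module.finrank p.asIdeal.ResidueField (Submodule.span p.asIdeal.ResidueField (Set.range ι)) = N at f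
  choose m hm using hf
  rcases Nat.lt_or_ge N 2 with hN | hN
  · apply hcyc
    obtain ⟨m0, hm0⟩ : ∃ m0 : M, Submodule.span p.asIdeal.ResidueField {ι m0} = ⊤ := by
      interval_cases N
      · refine ⟨0, eq_top_iff.2 ?_⟩
        rw [← hfspan, Submodule.span_le]
        rintro _ ⟨i, rfl⟩
        exact i.elim0
      · refine ⟨m 0, eq_top_iff.2 ?_⟩
        rw [← hfspan]
        refine Submodule.span_mono ?_
        rintro _ ⟨i, rfl⟩
        rw [Subsingleton.elim i 0, ← hm 0]
        rfl
    let g : M →ₗ[A] M ⧸ Submodule.span A {m0} := Submodule.mkQ _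
    have hsub : Subsingleton (TensorProduct A p.asIdeal.ResidueField (M ⧸ Submodule.span A {m0})) := by
      refine subsingleton_of_forall_eq 0 fun z => ?_
      obtain ⟨z', rfl⟩ := LinearMap.lTensor_surjective p.asIdeal.ResidueField (Submodule.mkQ_surjective _) z
      have hz : z' ∈ Submodule.span p.asIdeal.ResidueField {ι m0} := hm0 ▸ Submodule.mem_top
      obtain ⟨c, rfl⟩ := Submodule.mem_span_singleton.1 hz
      have : (g.baseChange p.asIdeal.ResidueField) (c • ι m0) = 0 := by
        rw [map_smul]
        simp [ι, g, (Submodule.Quotient.mk_eq_zero _).2 (Submodule.mem_span_singleton_self m0)]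
      exact this
    have hnot : p ∉ Module.support A (M ⧸ Submodule.span A {m0}) := by
      rw [Module.mem_support_iff_nontrivial_residueField_tensorProduct, not_nontrivial_iff_subsingleton]
      exact hsub
    rw [Module.notMem_support_iff'] at hnot
    refine ⟨LocalizedModule.mkLinearMap p.asIdeal.primeCompl M m0, eq_top_iff.2 fun z _ => ?_⟩
    induction z using LocalizedModule.induction_on with
    | h y t =>
      obtain ⟨r, hr, hry⟩ := hnot (Submodule.Quotient.mk y)
      rw [← Submodule.Quotient.mk_smul, Submodule.Quotient.mk_eq_zero, Submodule.mem_span_singleton] at hry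
      obtain ⟨a, ha⟩ := hry
      refine Submodule.mem_span_singleton.2 ⟨Localization.mk a (⟨r, hr⟩ * t), ?_⟩
      rw [LocalizedModule.mkLinearMap_apply, LocalizedModule.mk_smul_mk, mul_one, ha]
      exact (LocalizedModule.mk_cancel_common_left ⟨r, hr⟩ t y)
  · let B := Module.Basis.mk hli hfspan.ge
    let i0 : Fin N := ⟨0, by omega⟩
    let i1 : Fin N := ⟨1, by omega⟩
    let uv : Fin 2 → M →ₗ[A] p.asIdeal.ResidueField := fun a =>
      ((B.coord (![i0, i1] a)).restrictScalars A).comp ((TensorProduct.mk A p.asIdeal.ResidueField M) 1)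
    have huv : ∀ a i, uv a (m i) = if i = ![i0, i1] a then 1 else 0 := by
      intro a i
      show B.coord (![i0, i1] a) (ι (m i)) = _
      rw [hm i, show f i = B i from (Module.Basis.mk_apply hli hfspan.ge i).symm, Module.Basis.coord_apply,
        Module.Basis.repr_self, Finsupp.single_apply]
    have hne : i0 ≠ i1 := by simp [i0, i1]
    obtain ⟨m₁, m₂, hnot⟩ := Groth.Agent.GammaSpanCyclic.not_mem_span d uv hd
      ⟨m i0, m i1, by simp [huv], by simp [huv, hne], by simp [huv, hne.symm], by simp [huv]⟩
    apply hnot
    rw [h]
    refine Submodule.subset_span ⟨2, ![d - 1, 1], ![m₁, m₂], ?_, ?_⟩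
    · simp only [Fin.sum_univ_two]
      show d - 1 + 1 = d
      omega
    · rw [Fin.prod_univ_two]; rfl

end Groth.Agent.S13388
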