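import Groth.Statements.S13389
import Mathlib


set_option autoImplicit false
universe u
open ZeroCyc

namespace Groth.Agent.S13389

open Polynomial in
/-- Let P_d(T) = ∏_{0 ≤ i < j ≤ d} (T^i − T^j) − 1 ∈ ℤ[T]. If A is an algebra over ℤ[T]/(P_d), i.e.
receives a ring homomorphism from it, then for every A-module M the degree-d piece Γ^d_A(M) of the
divided power algebra Γ_A(M) is spanned over A by the d-th divided powers γ_d(m), m ∈ M. (The
published statement adds that consequently every ring has a finite faithfully flat extension,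
independent of M, over which this holds; that clause is not restated.) -/
theorem result {A M : Type u} [CommRing A] [AddCommGroup M]
    [Module A M] (d : ℕ)
    (φ : (ℤ[X] ⧸ Ideal.span {(∏ j ∈ Finset.range (d + 1), ∏ i ∈ Finset.range j,
        ((X : ℤ[X]) ^ i - X ^ j)) - 1}) →+* A) :
    Submodule.span A (Set.range (DividedPowerAlgebra.dp A d : M → DividedPowerAlgebra A M)) =
      PolLaw.gammaPiece A M d := by
  classical
  set a : A := φ (Ideal.Quotient.mk _ Polynomial.X) with hadef
  have hprod : ∏ j ∈ Finset.range (d + 1), ∏ i ∈ Finset.range j, (a ^ i - a ^ j) = 1 := by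
    have h : φ (Ideal.Quotient.mk (Ideal.span {(∏ j ∈ Finset.range (d + 1), ∏ i ∈ Finset.range j,
        ((Polynomial.X : Polynomial ℤ) ^ i - Polynomial.X ^ j)) - 1})
          (∏ j ∈ Finset.range (d + 1), ∏ i ∈ Finset.range j,
            ((Polynomial.X : Polynomial ℤ) ^ i - Polynomial.X ^ j))) = 1 := by
      refine Eq.trans (congrArg φ ((Ideal.Quotient.eq (y := (1 : Polynomial ℤ))).2 ?_)) (by rw [map_one, map_one])
      exact Ideal.subset_span rfl
    simpa only [map_prod, map_sub, map_pow, hadef] using h
  have hunit : ∀ i j : ℕ, j ≤ d → i < j → IsUnit (a ^ j - a ^ i) := by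
    intro i j hj hij
    have h1 := Finset.dvd_prod_of_mem (fun i => a ^ i - a ^ j) (Finset.mem_range.2 hij)
    have h2 := Finset.dvd_prod_of_mem (fun j => ∏ i ∈ Finset.range j, (a ^ i - a ^ j))
      (Finset.mem_range.2 (Nat.lt_succ_of_le hj))
    have := isUnit_of_dvd_one (hprod ▸ h1.trans h2)
    simpa using this.neg
  let S : ℕ → Submodule A (DividedPowerAlgebra A M) := fun e =>
    Submodule.span A (Set.range (DividedPowerAlgebra.dp A e : M → DividedPowerAlgebra A M))
  have two : ∀ (e k : ℕ) (m n : M), e + k ≤ d →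
      DividedPowerAlgebra.dp A e m * DividedPowerAlgebra.dp A k n ∈ S (e + k) := by
    intro e k m n hd
    set N := e + k with hN
    let V : Matrix (Fin (N + 1)) (Fin (N + 1)) A := Matrix.vandermonde fun j => a ^ (j : ℕ)
    have hV : IsUnit V.det := by
      rw [Matrix.det_vandermonde]
      exact IsUnit.prod_iff.2 fun i _ => IsUnit.prod_iff.2 fun j hj =>
        hunit _ _ ((Nat.le_of_lt_succ j.2).trans hd) (Fin.lt_def.1 (Finset.mem_Ioi.1 hj))
    let v : Fin (N + 1) → DividedPowerAlgebra A M := fun j =>
      DividedPowerAlgebra.dp A N (a ^ (j : ℕ) • m + n)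
    let P : Fin (N + 1) → DividedPowerAlgebra A M := fun l =>
      DividedPowerAlgebra.dp A (l : ℕ) m * DividedPowerAlgebra.dp A (N - l) n
    have hv : ∀ j, v j = ∑ l, V j l • P l := by
      intro j
      simp only [v, P, V, Matrix.vandermonde_apply]
      rw [DividedPowerAlgebra.dp_add,
        Finset.Nat.sum_antidiagonal_eq_sum_range_succ
          (fun p q => DividedPowerAlgebra.dp A p (a ^ (j : ℕ) • m) * DividedPowerAlgebra.dp A q n),
        ← Fin.sum_univ_eq_sum_range]
      refine Finset.sum_congr rfl fun l _ => ?_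
      rw [DividedPowerAlgebra.dp_smul, smul_mul_assoc]
    have hP : P ⟨e, by omega⟩ = ∑ j, V⁻¹ ⟨e, by omega⟩ j • v j := by
      simp only [hv, Finset.smul_sum, smul_smul]
      rw [Finset.sum_comm]
      simp only [← Finset.sum_smul, ← Matrix.mul_apply, Matrix.nonsing_inv_mul V hV, Matrix.one_apply,
        ite_smul, one_smul, zero_smul, Finset.sum_ite_eq, Finset.mem_univ, if_true]
    have hPe : P ⟨e, by omega⟩ = DividedPowerAlgebra.dp A e m * DividedPowerAlgebra.dp A k n := by
      simp only [P]
      rw [show N - e = k by omega]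
    rw [← hPe, hP]
    exact Submodule.sum_mem _ fun j _ => Submodule.smul_mem _ _ (Submodule.subset_span ⟨_, rfl⟩)
  have many : ∀ (n : ℕ) (k : Fin n → ℕ) (m : Fin n → M), (∑ i, k i) ≤ d →
      ∏ i, DividedPowerAlgebra.dp A (k i) (m i) ∈ S (∑ i, k i) := by
    intro n
    induction n with
    | zero =>
      intro k m _
      simp only [Finset.univ_eq_empty, Finset.prod_empty, Finset.sum_empty]
      exact Submodule.subset_span ⟨0, DividedPowerAlgebra.dp_zero (R := A) (m := (0 : M))⟩
    | succ n ih =>
      intro k m hd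
      rw [Fin.prod_univ_succ, Fin.sum_univ_succ] at *
      have h := ih (fun i => k i.succ) (fun i => m i.succ) (by omega)
      generalize ∏ i : Fin n, DividedPowerAlgebra.dp A (k i.succ) (m i.succ) = q at h
      revert h
      refine fun h => Submodule.span_induction ?_ ?_ ?_ ?_ h
      · rintro _ ⟨x, rfl⟩
        exact two _ _ _ _ hd
      · rw [mul_zero]; exact Submodule.zero_mem _
      · intro x y _ _ hx hy
        rw [mul_add]; exact Submodule.add_mem _ hx hy
      · intro r x _ hx
        rw [mul_smul_comm]; exact Submodule.smul_mem _ r hx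
  refine le_antisymm (Submodule.span_le.2 ?_) (Submodule.span_le.2 ?_)
  · rintro _ ⟨m, rfl⟩
    exact Submodule.subset_span ⟨1, fun _ => d, fun _ => m, by simp, by simp⟩
  · rintro _ ⟨n, k, m, hk, rfl⟩
    subst hk
    exact many n k m le_rfl

end Groth.Agent.S13389
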