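import Groth.Statements.S13392
import Mathlib
import Groth.Agent.SymTenRadical.Basic

set_option autoImplicit false
universe u
open scoped TensorProduct
open ZeroCyc

namespace Groth.Agent.S13392

/-- Let A be a commutative ring, B a graded A-algebra generated by its degree-one part B_1 with B_1 a
finitely generated A-module, and d ≥ 0. Inside the d-fold tensor power T^d_A(B) let C_k be the
A-span of the pure tensors b_1 ⊗ ⋯ ⊗ b_d with all b_i ∈ B_k, let C = Σ_k C_k (the A-subalgebra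
generated by these pure tensors; Proj C is the d-fold fibre product of X = Proj B over S = Spec A)
and let D = C ∩ TS^d_A(B) be its subring of symmetric tensors, graded by D_k = C_k ∩ TS^d_A(B), so
that Proj D is the symmetric product Sym^d(X/S). Provided each residue field of A has d or more
elements, Sym^d(X/S) is covered by the affine opens Sym^d(X_f/S) = D_+(f ⊗ ⋯ ⊗ f) with f ∈ B_1:
every t ∈ D_k with k ≥ 1 has some power t^m, m ≥ 1, in the ideal of D generated by the tensors f ⊗ ⋯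
⊗ f, f ∈ B_1. -/
theorem result {A B : Type u} [CommRing A] [CommRing B] [Algebra A B]
    (𝒜 : ℕ → Submodule A B) [GradedAlgebra 𝒜] (hgen : Algebra.adjoin A (𝒜 1 : Set B) = ⊤) (hfg : (𝒜 1).FG) (d : ℕ)
    (hres : ∀ p : PrimeSpectrum A, (d : Cardinal) ≤ Cardinal.mk p.asIdeal.ResidueField)
    (D : Subalgebra A (⨂[A] _ : Fin d, B))
    (hD : D = Algebra.adjoin A {t | ∃ (k : ℕ) (b : Fin d → B), (∀ i, b i ∈ 𝒜 k) ∧ t = PiTensorProduct.tprod A b}
      ⊓ SymTen.TS A B d)
    (k : ℕ) (hk : 0 < k) (t : ⨂[A] _ : Fin d, B) (htD : t ∈ D)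
    (htk : t ∈ Submodule.span A {s | ∃ b : Fin d → B, (∀ i, b i ∈ 𝒜 k) ∧ s = PiTensorProduct.tprod A b}) :
    ∃ m : ℕ, 0 < m ∧ (⟨t, htD⟩ : D) ^ m ∈
      Ideal.span {x : D | ∃ f : B, f ∈ 𝒜 1 ∧
        (x : ⨂[A] _ : Fin d, B) = PiTensorProduct.tprod A (fun _ : Fin d => f)} := by
  refine Groth.Agent.SymTenRadical.exists_pow_mem 𝒜 d hgen D hD hk htD htk _ fun K _ _ _ ψ hψ b hb => ?_
  have hp : (RingHom.ker (algebraMap A K)).IsPrime := RingHom.ker_isPrime _
  let p : PrimeSpectrum A := ⟨RingHom.ker (algebraMap A K), hp⟩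
  obtain ⟨emb⟩ : Nonempty (Fin d ↪ A ⧸ p.asIdeal) := by
    rcases finite_or_infinite (A ⧸ p.asIdeal) with hf | hf
    · letI := Fintype.ofFinite (A ⧸ p.asIdeal)
      haveI : p.asIdeal.IsMaximal := Ideal.Quotient.maximal_of_isField _ (Finite.isField_of_domain _)
      have he := Cardinal.mk_congr (Equiv.ofBijective _ (Ideal.bijective_algebraMap_quotient_residueField p.asIdeal))
      have hc : (d : Cardinal) ≤ Cardinal.mk (A ⧸ p.asIdeal) := he ▸ hres p
      rw [Cardinal.mk_fintype, Nat.cast_le] at hc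
      exact Function.Embedding.nonempty_of_card_le (by simpa using hc)
    · exact ⟨Fin.valEmbedding.trans (Infinite.natEmbedding _)⟩
  choose a ha using fun i : Fin d => Ideal.Quotient.mk_surjective (emb i)
  have hinj : ∀ i j, algebraMap A K (a i) = algebraMap A K (a j) → i = j := by
    intro i j e
    apply emb.injective
    rw [← ha i, ← ha j, Ideal.Quotient.eq]
    show algebraMap A K (a i - a j) = 0
    rw [map_sub, e, sub_self]
  refine Groth.Agent.SymTenRadical.chi_eq_zero_tpow_degOne 𝒜 d ψ hb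
    ⟨a, fun i j e => hinj i j (congrArg _ e)⟩ hinj fun f hf => ?_
  have hm : PiTensorProduct.tprod A (fun _ : Fin d => f) ∈ Groth.Agent.SymTenRadical.G 𝒜 d :=
    Groth.Agent.SymTenRadical.mem_G 𝒜 d fun _ => hf
  rw [Groth.Agent.SymTenRadical.chi_eq 𝒜 d ψ hm]
  exact hψ _ ⟨_, hD ▸ ⟨hm, (SymTen.tpow A (B := B) d f).2⟩⟩ ⟨f, hf, rfl⟩ rfl

end Groth.Agent.S13392
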