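import Groth.Statements.S13402
import Groth.Agent.HopfFF.Main

set_option autoImplicit false
universe u v w
open Hopf

namespace Groth.Agent.S13402

open TensorProduct WithConv Groth.Agent.HopfFF in
theorem tmul_one_eq (k : Type u) [Field k] {A : Type v} {B : Type w}
    [CommRing A] [HopfAlgebra k A] [CommRing B] [HopfAlgebra k B]
    [Algebra B A] [IsScalarTower k B A]
    (f : B →ₐc[k] A) (hf : ∀ b, algebraMap B A b = f b)
    (hker : Ideal.map f (RingHom.ker (Bialgebra.counitAlgHom k B)) = RingHom.ker (Bialgebra.counitAlgHom k A))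
    (a : A) : a ⊗ₜ[B] (1 : A) = (1 : A) ⊗ₜ[B] a := by
  let T := A ⊗[B] A
  let i₁ : WithConv (A →ₐ[k] T) := toConv (Algebra.TensorProduct.includeLeft : A →ₐ[k] T)
  let i₂ : WithConv (A →ₐ[k] T) :=
    toConv ((Algebra.TensorProduct.includeRight : A →ₐ[B] T).restrictScalars k)
  have hi : preComp f i₁ = preComp f i₂ := by
    apply WithConv.ofConv_injective
    ext b
    show (f b) ⊗ₜ[B] (1 : A) = (1 : A) ⊗ₜ[B] (f b)
    rw [← hf, Algebra.algebraMap_eq_smul_one, TensorProduct.smul_tmul]
  have h0 : ∀ x ∈ RingHom.ker (Bialgebra.counitAlgHom k A), (inv' i₁ * i₂).ofConv x = 0 := by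
    intro x hx
    rw [← hker] at hx
    refine (Ideal.map_le_iff_le_comap (K := RingHom.ker (inv' i₁ * i₂).ofConv)).2 (fun b hb => ?_) hx
    rw [Ideal.mem_comap, RingHom.mem_ker, ← preComp_apply, map_mul, ← hi, ← map_mul, inv'_mul, map_one]
    show algebraMap k T (Coalgebra.counit (R := k) b) = 0
    rw [show Coalgebra.counit (R := k) b = 0 from hb, map_zero]
  have h1 : inv' i₁ * i₂ = 1 := by
    apply WithConv.ofConv_injective
    ext x
    have := h0 (x - algebraMap k A (Coalgebra.counit (R := k) x)) (by simp [RingHom.mem_ker])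
    rw [map_sub, AlgHom.commutes, sub_eq_zero] at this
    exact this
  have h2 : i₁ = i₂ := by
    have := congrArg (i₁ * ·) h1
    simp only [← mul_assoc, mul_inv', one_mul, mul_one] at this
    exact this.symm
  exact DFunLike.congr_fun (congrArg WithConv.ofConv h2) a


/-- Let k be a field and let A and B be finite-dimensional commutative and cocommutative Hopf algebras
over k (finite commutative k-group schemes G = Spec A and H = Spec B). Let f : B → A be a bialgebra
map (a homomorphism G → H) which is injective and such that the ideal of A generated by the image of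
the augmentation ideal of B is the augmentation ideal of A (the homomorphism G → H has trivial
kernel). Then f is bijective, so G → H is an isomorphism; this is what makes the category of finite
commutative k-group schemes abelian. -/
theorem result (k : Type u) [Field k] (A : Type v) (B : Type w)
    [CommRing A] [HopfAlgebra k A] [Module.Finite k A] [Coalgebra.IsCocomm k A]
    [CommRing B] [HopfAlgebra k B] [Module.Finite k B] [Coalgebra.IsCocomm k B]
    (f : B →ₐc[k] A) (hinj : Function.Injective f)
    (hker : Ideal.map f (RingHom.ker (Bialgebra.counitAlgHom k B)) = RingHom.ker (Bialgebra.counitAlgHom k A)) :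
    Function.Bijective f := by
  refine ⟨hinj, ?_⟩
  letI : Algebra B A := (f : B →+* A).toAlgebra
  haveI : IsScalarTower k B A := IsScalarTower.of_algebraMap_eq fun c => (AlgHomClass.commutes f c).symm
  haveI : Module.FaithfullyFlat B A := by
    have h := Groth.Agent.HopfFF.faithfullyFlat_of_injective f hinj
    rwa [← RingHom.algebraMap_toAlgebra (f : B →+* A), RingHom.faithfullyFlat_algebraMap_iff] at h
  have hs : Function.Surjective ((Algebra.linearMap B A).lTensor A) := by
    intro x
    induction x with
    | zero => exact ⟨0, map_zero _⟩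
    | tmul a a' =>
      refine ⟨(a * a') ⊗ₜ 1, ?_⟩
      rw [LinearMap.lTensor_tmul, Algebra.linearMap_apply, map_one,
        show (a * a') ⊗ₜ[B] (1 : A) = (a ⊗ₜ[B] (1 : A)) * (a' ⊗ₜ[B] (1 : A)) by simp,
        tmul_one_eq k f (fun _ => rfl) hker a']
      simp
    | add y z hy hz =>
      obtain ⟨y', rfl⟩ := hy; obtain ⟨z', rfl⟩ := hz
      exact ⟨y' + z', map_add _ _ _⟩
  exact (Module.FaithfullyFlat.lTensor_surjective_iff_surjective B A _).1 hs

end Groth.Agent.S13402
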