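import Groth.Statements.S13407
import Mathlib.RingTheory.Flat.TorsionFree
import Mathlib.RingTheory.Flat.Stability
import Mathlib.RingTheory.Flat.Localization
import Mathlib.RingTheory.Localization.BaseChange
import Mathlib.RingTheory.DedekindDomain.Dvr
import Mathlib.RingTheory.TensorProduct.Basic
import Mathlib.LinearAlgebra.TensorProduct.RightExactness

set_option autoImplicit false
universe u
open TensorProduct
open Hopf

namespace Groth.Agent.S13407

open TensorProduct in
section
variable {R : Type u} [CommRing R] {K : Type u} [CommRing K] [Algebra R K]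
variable {A : Type u} [CommRing A] [HopfAlgebra R A]

/-- `A/I ⊗ A/I → (K ⊗ A)/J ⊗ (K ⊗ A)/J` -/
noncomputable def qmap {I : Ideal A} {J : Ideal (K ⊗[R] A)}
    (h : I ≤ J.comap (Algebra.TensorProduct.includeRight : A →ₐ[R] K ⊗[R] A)) :
    (A ⧸ I) →ₗ[R] (K ⊗[R] A) ⧸ J :=
  (Ideal.quotientMapₐ J (Algebra.TensorProduct.includeRight : A →ₐ[R] K ⊗[R] A) h).toLinearMap

theorem qmap_mk {I : Ideal A} {J : Ideal (K ⊗[R] A)}
    (h : I ≤ J.comap (Algebra.TensorProduct.includeRight : A →ₐ[R] K ⊗[R] A)) (a : A) :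
    qmap h (Ideal.Quotient.mk I a) = Ideal.Quotient.mk J ((1 : K) ⊗ₜ a) := rfl

theorem comul_one_tmul {I : Ideal A} {J : Ideal (K ⊗[R] A)}
    (h : I ≤ J.comap (Algebra.TensorProduct.includeRight : A →ₐ[R] K ⊗[R] A)) (a : A) :
    TensorProduct.map (Ideal.Quotient.mkₐ K J).toLinearMap (Ideal.Quotient.mkₐ K J).toLinearMap
        (Coalgebra.comul (R := K) ((1 : K) ⊗ₜ[R] a)) =
      TensorProduct.mapOfCompatibleSMul K R R ((K ⊗[R] A) ⧸ J) ((K ⊗[R] A) ⧸ J)
        (TensorProduct.map (qmap h) (qmap h)
          (TensorProduct.map (Ideal.Quotient.mkₐ R I).toLinearMap (Ideal.Quotient.mkₐ R I).toLinearMap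
            (Coalgebra.comul a))) := by
  rw [TensorProduct.comul_tmul, CommSemiring.comul_apply, ← (Coalgebra.Repr.arbitrary R a).eq]
  simp only [tmul_sum, map_sum, map_tmul, mapOfCompatibleSMul_tmul]
  refine Finset.sum_congr rfl fun i _ => ?_
  rfl

theorem isHopfIdeal_map (I : Ideal A) (hI : I.IsHopfIdeal R) :
    (Ideal.map (Algebra.TensorProduct.includeRight : A →ₐ[R] K ⊗[R] A) I).IsHopfIdeal K := by
  set J := Ideal.map (Algebra.TensorProduct.includeRight : A →ₐ[R] K ⊗[R] A) I with hJ
  refine @Ideal.IsHopfIdeal.mk _ _ _ _ _ _ ⟨fun b hb => ?_, fun b hb => ?_⟩ fun b hb => ?_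
  · have : J ≤ RingHom.ker (Bialgebra.counitAlgHom K (K ⊗[R] A)) := by
      refine Ideal.map_le_iff_le_comap.2 fun x hx => ?_
      show Coalgebra.counit (R := K) ((1 : K) ⊗ₜ[R] x) = 0
      rw [TensorProduct.counit_tmul, hI.toIsCoideal.counit_eq_zero hx, zero_smul]
    exact this hb
  · let φ := (Algebra.TensorProduct.map (Ideal.Quotient.mkₐ K J) (Ideal.Quotient.mkₐ K J)).comp
      (Bialgebra.comulAlgHom K (K ⊗[R] A))
    have : J ≤ RingHom.ker φ := by
      refine Ideal.map_le_iff_le_comap.2 fun x hx => ?_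
      show TensorProduct.map (Ideal.Quotient.mkₐ K J).toLinearMap (Ideal.Quotient.mkₐ K J).toLinearMap
          (Coalgebra.comul (R := K) ((1 : K) ⊗ₜ[R] x)) = 0
      have h0 : TensorProduct.map (Ideal.Quotient.mkₐ R I).toLinearMap (Ideal.Quotient.mkₐ R I).toLinearMap
          (Coalgebra.comul (R := R) x) = 0 := hI.toIsCoideal.map_mkQ_comul_eq_zero hx
      rw [comul_one_tmul (I := I) (J := J) Ideal.le_comap_map, h0, map_zero, map_zero]
    exact this hb
  · have : J ≤ J.comap (HopfAlgebra.antipodeAlgHom K (K ⊗[R] A)) := by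
      refine Ideal.map_le_iff_le_comap.2 fun x hx => ?_
      show HopfAlgebra.antipode K ((1 : K) ⊗ₜ[R] x) ∈ J
      rw [TensorProduct.antipode_def, AlgebraTensorModule.map_tmul, HopfAlgebra.antipode_one]
      exact Ideal.mem_map_of_mem _ (hI.antipode_mem hx)
    exact this hb

end

open TensorProduct in
theorem exists_smul_eq {R : Type u} [CommRing R] [IsDomain R] {K : Type u} [Field K] [Algebra R K]
    [IsFractionRing R K] {A : Type u} [CommRing A] [Algebra R A] (b : K ⊗[R] A) :
    ∃ r : R, r ≠ 0 ∧ ∃ a : A, r • b = (1 : K) ⊗ₜ a := by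
  induction b with
  | zero => exact ⟨1, one_ne_zero, 0, by simp⟩
  | tmul k a =>
    obtain ⟨⟨x, r, hr⟩, hk⟩ := IsLocalization.surj (nonZeroDivisors R) k
    refine ⟨r, nonZeroDivisors.ne_zero hr, x • a, ?_⟩
    have : r • k = x • (1 : K) := by
      rw [Algebra.smul_def, Algebra.smul_def, mul_one, mul_comm]; exact hk
    rw [smul_tmul', this, smul_tmul]
  | add b c hb hc =>
    obtain ⟨r, hr, a, ha⟩ := hb
    obtain ⟨s, hs, a', ha'⟩ := hc
    refine ⟨r * s, mul_ne_zero hr hs, s • a + r • a', ?_⟩
    rw [tmul_add, tmul_smul, tmul_smul, ← ha, ← ha', smul_add, smul_smul, smul_smul, mul_comm s r]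

open TensorProduct in
theorem exists_smul_mem {R : Type u} [CommRing R] [IsDomain R] {K : Type u} [Field K] [Algebra R K]
    [IsFractionRing R K] {A : Type u} [CommRing A] [Algebra R A] (I : Ideal A) {b : K ⊗[R] A}
    (hb : b ∈ Ideal.map (Algebra.TensorProduct.includeRight : A →ₐ[R] K ⊗[R] A) I) :
    ∃ r : R, r ≠ 0 ∧ ∃ j ∈ I, r • b = (1 : K) ⊗ₜ j := by
  induction hb using Submodule.span_induction with
  | mem x hx =>
    obtain ⟨j, hj, rfl⟩ := hx
    exact ⟨1, one_ne_zero, j, hj, one_smul _ _⟩
  | zero => exact ⟨1, one_ne_zero, 0, I.zero_mem, by simp⟩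
  | add x y _ _ hx hy =>
    obtain ⟨r, hr, a, haI, ha⟩ := hx
    obtain ⟨s, hs, a', haI', ha'⟩ := hy
    refine ⟨r * s, mul_ne_zero hr hs, s • a + r • a', ?_, ?_⟩
    · rw [Algebra.smul_def, Algebra.smul_def]
      exact I.add_mem (I.mul_mem_left _ haI) (I.mul_mem_left _ haI')
    · rw [tmul_add, tmul_smul, tmul_smul, ← ha, ← ha', smul_add, smul_smul, smul_smul, mul_comm s r]
  | smul c x _ hx =>
    obtain ⟨r, hr, a, haI, ha⟩ := hx
    obtain ⟨s, hs, a', ha'⟩ := exists_smul_eq c
    refine ⟨s * r, mul_ne_zero hs hr, a' * a, I.mul_mem_left _ haI, ?_⟩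
    calc (s * r) • (c • x) = (s • c) * (r • x) := by rw [smul_eq_mul, smul_mul_smul_comm]
      _ = _ := by rw [ha, ha', Algebra.TensorProduct.tmul_mul_tmul, one_mul]

theorem flat_of_torsionFree {R : Type u} [CommRing R] [IsDedekindDomain R] (M : Type u) [AddCommGroup M]
    [Module R M] (h : Submodule.torsion R M = ⊥) : Module.Flat R M := by
  by_cases hR : IsField R
  · letI := hR.toField
    infer_instance
  · refine (Module.Flat.flat_iff_torsion_eq_bot_of_valuationRing_localization_isMaximal fun P hP => ?_).2 h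
    haveI := IsLocalization.AtPrime.isDiscreteValuationRing_of_dedekind_domain R
      (Ring.ne_bot_of_isMaximal_of_not_isField hP hR) (Localization P.primeCompl)
    infer_instance

open TensorProduct in
theorem eq_zero_of_smul {R : Type u} [CommRing R] [IsDomain R] {K : Type u} [Field K] [Algebra R K]
    [IsFractionRing R K] {M : Type u} [AddCommGroup M] [Module R M] [Module K M] [IsScalarTower R K M]
    {r : R} (hr : r ≠ 0) {m : M} (h : r • m = 0) : m = 0 := by
  rw [← algebraMap_smul K r m] at h
  exact (smul_eq_zero.1 h).resolve_left ((map_ne_zero_iff _ (IsFractionRing.injective R K)).2 hr)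


/-- Let R be a Dedekind domain with fraction field K and let G = Spec A be a finite flat group scheme
over R (A a commutative Hopf algebra over R, finite and flat as an R-module). Closed flat R-subgroup
schemes of G correspond one-to-one to closed K-subgroup schemes of the generic fibre G_K under H ↦
H_K: the map sending a Hopf ideal J' of A with A/J' flat over R to the ideal it generates in K ⊗_R A
is a bijection onto the set of Hopf ideals of the Hopf algebra K ⊗_R A over K (its inverse takes a
Hopf ideal of K ⊗_R A to its preimage in A). -/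
theorem result (R : Type u) [CommRing R] [IsDedekindDomain R]
    (K : Type u) [Field K] [Algebra R K] [IsFractionRing R K]
    (A : Type u) [CommRing A] [HopfAlgebra R A] [Module.Finite R A] [Module.Flat R A] :
    Set.BijOn (fun J' : Ideal A => Ideal.map (Algebra.TensorProduct.includeRight : A →ₐ[R] K ⊗[R] A) J')
      {J' : Ideal A | J'.IsHopfIdeal R ∧ Module.Flat R (A ⧸ J')}
      {J : Ideal (K ⊗[R] A) | J.IsHopfIdeal K} := by
  haveI : Module.Flat R K := IsLocalization.flat K (nonZeroDivisors R)
  let i : A →ₐ[R] TensorProduct R K A := Algebra.TensorProduct.includeRight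
  have hinj : Function.Injective i := Algebra.TensorProduct.includeRight_injective (IsFractionRing.injective R K)
  refine ⟨fun J' hJ' => isHopfIdeal_map J' hJ'.1, ?_, ?_⟩
  · rintro I ⟨-, hI⟩ I' ⟨-, hI'⟩ h
    suffices key : ∀ I : Ideal A, Module.Flat R (A ⧸ I) → (Ideal.map i I).comap i = I by
      rw [← key I hI, ← key I' hI']
      exact congrArg (Ideal.comap i) h
    intro I hI
    refine le_antisymm (fun x hx => ?_) Ideal.le_comap_map
    obtain ⟨r, hr, j, hj, hrj⟩ := exists_smul_mem I hx
    have h1 : r • x = j := hinj (by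
      show (1 : K) ⊗ₜ[R] (r • x) = (1 : K) ⊗ₜ[R] j
      rw [TensorProduct.tmul_smul]; exact hrj)
    have h2 : r • (Ideal.Quotient.mk I x) = 0 := by
      rw [← Ideal.Quotient.mkₐ_eq_mk R, ← map_smul, h1]
      exact Ideal.Quotient.eq_zero_iff_mem.2 hj
    have h3 : Ideal.Quotient.mk I x ∈ Submodule.torsion R (A ⧸ I) :=
      ⟨⟨r, mem_nonZeroDivisors_of_ne_zero hr⟩, h2⟩
    rw [Module.Flat.torsion_eq_bot (R := R) (M := A ⧸ I), Submodule.mem_bot] at h3
    exact Ideal.Quotient.eq_zero_iff_mem.1 h3
  · intro J hJ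
    let I := J.comap i
    have hq : Function.Injective (qmap (I := I) (J := J) le_rfl) := Ideal.quotientMap_injective
    have htor : Submodule.torsion R (A ⧸ I) = ⊥ := by
      rw [eq_bot_iff]
      rintro m ⟨⟨r, hr⟩, h⟩
      apply hq
      rw [map_zero]
      exact eq_zero_of_smul (K := K) (nonZeroDivisors.ne_zero hr)
        ((map_smul (qmap (I := I) (J := J) le_rfl) r m).symm.trans (by rw [show r • m = 0 from h, map_zero]))
    haveI hIflat : Module.Flat R (A ⧸ I) := flat_of_torsionFree _ htor
    haveI : Module.Flat R ((TensorProduct R K A) ⧸ J) := Module.Flat.trans R K _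
    refine ⟨I, ⟨?_, hIflat⟩, ?_⟩
    · refine @Ideal.IsHopfIdeal.mk _ _ _ _ _ _ ⟨fun x hx => ?_, fun x hx => ?_⟩ fun x hx => ?_
      · apply IsFractionRing.injective R K
        rw [map_zero, ← hJ.toIsCoideal.counit_eq_zero (show (1 : K) ⊗ₜ[R] x ∈ J from hx), TensorProduct.counit_tmul,
          Algebra.algebraMap_eq_smul_one, CommSemiring.counit_apply]
      · have h := comul_one_tmul (K := K) (I := I) (J := J) le_rfl x
        have h0 : TensorProduct.map (Ideal.Quotient.mkₐ K J).toLinearMap (Ideal.Quotient.mkₐ K J).toLinearMap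
            (Coalgebra.comul (R := K) ((1 : K) ⊗ₜ[R] x)) = 0 :=
          hJ.toIsCoideal.map_mkQ_comul_eq_zero (show (1 : K) ⊗ₜ[R] x ∈ J from hx)
        rw [h0] at h
        have hcs : TensorProduct.CompatibleSMul R K ((TensorProduct R K A) ⧸ J) ((TensorProduct R K A) ⧸ J) :=
          IsLocalization.tensorProduct_compatibleSMul (nonZeroDivisors R) K _ _
        have hinj2 : Function.Injective
            (TensorProduct.mapOfCompatibleSMul K R R ((TensorProduct R K A) ⧸ J) ((TensorProduct R K A) ⧸ J)) :=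
          (TensorProduct.equivOfCompatibleSMul R K K ((TensorProduct R K A) ⧸ J) ((TensorProduct R K A) ⧸ J)).symm.injective
        have hinj3 : Function.Injective (TensorProduct.map (qmap (I := I) (J := J) le_rfl) (qmap (I := I) (J := J) le_rfl)) := by
          rw [← LinearMap.lTensor_comp_rTensor]
          exact (Module.Flat.lTensor_preserves_injective_linearMap _ hq).comp
            (Module.Flat.rTensor_preserves_injective_linearMap _ hq)
        refine (show TensorProduct.map (Ideal.Quotient.mkₐ R I).toLinearMap (Ideal.Quotient.mkₐ R I).toLinearMap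
          (Coalgebra.comul (R := R) x) = 0 from ?_)
        apply hinj3
        apply hinj2
        rw [map_zero, map_zero]
        exact h.symm
      · show i (HopfAlgebra.antipode R x) ∈ J
        have h := hJ.antipode_mem (show (1 : K) ⊗ₜ[R] x ∈ J from hx)
        rw [TensorProduct.antipode_def, TensorProduct.AlgebraTensorModule.map_tmul, HopfAlgebra.antipode_one] at h
        exact h
    · refine le_antisymm Ideal.map_comap_le fun b hb => ?_
      obtain ⟨r, hr, a, ha⟩ := exists_smul_eq (K := K) b
      have haI : a ∈ I := by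
        show (1 : K) ⊗ₜ[R] a ∈ J
        rw [← ha, Algebra.smul_def]
        exact J.mul_mem_left _ hb
      have : b = (((algebraMap R K r)⁻¹) ⊗ₜ[R] (1 : A)) * i a := by
        show b = _ * ((1 : K) ⊗ₜ[R] a)
        rw [← ha, Algebra.smul_def, ← mul_assoc, Algebra.TensorProduct.algebraMap_apply,
          Algebra.TensorProduct.tmul_mul_tmul, one_mul,
          inv_mul_cancel₀ ((map_ne_zero_iff _ (IsFractionRing.injective R K)).2 hr),
          ← Algebra.TensorProduct.one_def, one_mul]
      rw [this]
      exact Ideal.mul_mem_left _ _ (Ideal.mem_map_of_mem _ haI)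

end Groth.Agent.S13407
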