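import Groth.Statements.S13409
import Mathlib.Combinatorics.SimpleGraph.Connectivity.Connected
import Mathlib.Combinatorics.SimpleGraph.Finite
import Mathlib.Algebra.Group.Subgroup.Basic
import Mathlib.Algebra.BigOperators.Pi
import Mathlib.Algebra.BigOperators.Group.Finset.Basic
import Mathlib.Algebra.Group.Submonoid.BigOperators

set_option autoImplicit false
universe u v
open CombGraph

namespace Groth.Agent.S13409

/-- Let `A` be an abelian group and `G` a finite connected simple graph on `V` that is bipartite for a
two-colouring `c : V → Bool` (adjacent vertices get different colours). If `a : V → A` has the same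
sum over the vertices of each colour, then some labelling `x` of the edges by elements of `A` has,
at every vertex `v`, the sum of `x` over the edges incident to `v` equal to `a v`. (The published
statement concerns finite bipartite graphs in general; this row treats simple graphs.) -/
theorem result {V : Type u} [Fintype V] [DecidableEq V]
    (G : SimpleGraph V) [DecidableRel G.Adj] (hconn : G.Connected) (c : V → Bool)
    (hbip : ∀ v w : V, G.Adj v w → c v ≠ c w) (A : Type v) [AddCommGroup A] (a : V → A)
    (hsum : ∑ v ∈ Finset.univ.filter (fun v => c v = true), a v =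
      ∑ v ∈ Finset.univ.filter (fun v => c v = false), a v) :
    ∃ x : Sym2 V → A, ∀ v : V, ∑ e ∈ G.incidenceFinset v, x e = a v := by
  classical
  let Φ : (Sym2 V → A) →+ (V → A) :=
    { toFun := fun x v => ∑ e ∈ G.incidenceFinset v, x e
      map_zero' := by ext v; simp
      map_add' := fun x y => by ext v; simp [Finset.sum_add_distrib] }
  suffices h : a ∈ Φ.range by
    obtain ⟨x, hx⟩ := h
    exact ⟨x, fun v => congrFun hx v⟩
  let sg : V → A → A := fun v b => if c v = true then b else -b
  let e : V → A → (V → A) := fun v b => Pi.single v (sg v b)
  have hedge : ∀ u w b, G.Adj u w → e u b - e w b ∈ Φ.range := by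
    intro u w b huw
    refine ⟨Pi.single s(u, w) (sg u b), ?_⟩
    have hs : sg w b = -sg u b := by
      have := hbip u w huw
      cases hu : c u <;> cases hw : c w <;> simp_all [sg]
    ext v
    have hne := huw.ne
    simp only [Φ, e, AddMonoidHom.coe_mk, ZeroHom.coe_mk, Pi.sub_apply, hs, Finset.sum_pi_single',
      SimpleGraph.mem_incidenceFinset, SimpleGraph.mk'_mem_incidenceSet_iff]
    by_cases hu : v = u
    · subst hu; simp [huw, hne]
    · by_cases hw : v = w
      · subst hw; simp [huw, hu]
      · simp [hu, hw, Ne.symm hu, Ne.symm hw]
  have hwalk : ∀ u w b, G.Reachable u w → e u b - e w b ∈ Φ.range := by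
    intro u w b h
    obtain ⟨p⟩ := h
    induction p with
    | nil => simp
    | cons h _ ih => simpa using add_mem (hedge _ _ b h) ih
  obtain ⟨r⟩ := hconn.nonempty
  have hsgsg : ∀ v b, sg v (sg v b) = b := fun v b => by by_cases h : c v = true <;> simp [sg, h]
  have hz : ∑ v, sg v (a v) = 0 := by
    simp only [sg]
    rw [Finset.sum_ite, Finset.sum_neg_distrib, hsum]
    simp
  have key : a = ∑ v, (e v (sg v (a v)) - e r (sg v (a v))) := by
    rw [Finset.sum_sub_distrib]
    simp only [e, hsgsg]
    rw [Finset.univ_sum_single]
    have : ∑ v, Pi.single (M := fun _ => A) r (sg r (sg v (a v))) = 0 := by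
      ext w
      rcases eq_or_ne w r with rfl | hw
      · simp only [Finset.sum_apply, Pi.single_eq_same, Pi.zero_apply]
        by_cases h : c w = true
        · simpa [sg, h] using hz
        · have : ∀ v, sg w (sg v (a v)) = -sg v (a v) := fun v => by simp [sg, h]
          rw [Finset.sum_congr rfl fun v _ => this v, Finset.sum_neg_distrib, hz, neg_zero]
      · simp [hw]
    rw [this, sub_zero]
  rw [key]
  exact sum_mem fun v _ => hwalk v r _ (hconn v r)


end Groth.Agent.S13409
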