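import Groth.Statements.S13410
import Mathlib

set_option autoImplicit false
universe u v
open CombGraph

namespace Groth.Agent.S13410

/-- Let `A` be an abelian group and `G` a finite connected simple graph on `V`, bipartite for a
two-colouring `c`. Consider the additive group of labellings `x : Sym2 V → A` vanishing off the edge
set and with `∑_{e ∋ v} x e = 0` at every vertex `v`. If `e₀` is an edge whose deletion leaves `G`
connected, then evaluation at `e₀` restricted to this group is surjective and split: there is an
additive map `φ : A → (Sym2 V → A)` with values in this group and with `φ a e₀ = a` for all `a`.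
(The published statement concerns finite bipartite graphs in general; this row treats simple
graphs.) -/
theorem result {V : Type u} [Fintype V]
    [DecidableEq V] (G : SimpleGraph V) [DecidableRel G.Adj] (hconn : G.Connected) (c : V → Bool)
    (hbip : ∀ v w : V, G.Adj v w → c v ≠ c w) (A : Type v) [AddCommGroup A] (e₀ : Sym2 V)
    (he₀ : e₀ ∈ G.edgeSet) (hdel : (G.deleteEdges {e₀}).Connected) :
    ∃ φ : A →+ (Sym2 V → A),
      (∀ a : A, (∀ e : Sym2 V, e ∉ G.edgeSet → φ a e = 0) ∧
        ∀ v : V, ∑ e ∈ G.incidenceFinset v, φ a e = 0) ∧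
      ∀ a : A, φ a e₀ = a := by
  classical
  let ε : V → ℤ := fun v => if c v then 1 else -1
  have hε : ∀ v w, G.Adj v w → ε w = -ε v := by
    intro v w h
    have := hbip v w h
    rcases hv : c v <;> rcases hw : c w <;> simp_all [ε]
  have key : ∀ {H : SimpleGraph V}, H ≤ G → ∀ {x y : V} (p : H.Walk x y), ∃ m : Sym2 V → ℤ,
      (∀ e, e ∉ H.edgeSet → m e = 0) ∧
      ∀ v, ∑ e ∈ G.incidenceFinset v, m e = (if x = v then ε x else 0) - (if y = v then ε y else 0) := by
    intro H hH x y p
    induction p with
    | nil => exact ⟨0, fun e _ => rfl, fun v => by simp⟩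
    | cons h q ih =>
      obtain ⟨m, hm, hm'⟩ := ih
      rename_i x z y
      refine ⟨fun e => m e + if e = s(x, z) then ε x else 0, fun e he => ?_, fun v => ?_⟩
      · have : e ≠ s(x, z) := fun h' => he (h' ▸ h)
        simp [hm e he, this]
      · have hG : G.Adj x z := hH h
        rw [Finset.sum_add_distrib, hm', Finset.sum_ite_eq', hε x z hG]
        have hne : x ≠ z := hG.ne
        by_cases hx : x = v
        · subst hx
          simp [SimpleGraph.mem_incidenceFinset, SimpleGraph.incidenceSet, hG, hne.symm]
          ring
        · by_cases hz : z = v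
          · subst hz
            simp [SimpleGraph.mem_incidenceFinset, SimpleGraph.incidenceSet, hG, hx]
            ring
          · simp [SimpleGraph.mem_incidenceFinset, SimpleGraph.incidenceSet, hx, hz, Ne.symm hx, Ne.symm hz]
  induction e₀ using Sym2.ind with
  | h x y =>
    have hxy : G.Adj x y := he₀
    obtain ⟨p⟩ := hdel.preconnected y x
    obtain ⟨m, hm, hm'⟩ := key (SimpleGraph.deleteEdges_le _) p
    let m₀ : Sym2 V → ℤ := fun e => m e + if e = s(x, y) then ε x else 0
    have hv : ∀ v, ∑ e ∈ G.incidenceFinset v, m₀ e = 0 := fun v => by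
      show ∑ e ∈ G.incidenceFinset v, (m e + if e = s(x, y) then ε x else 0) = 0
      rw [Finset.sum_add_distrib, hm', Finset.sum_ite_eq', hε x y hxy]
      by_cases hx : x = v
      · subst hx
        simp [SimpleGraph.mem_incidenceFinset, SimpleGraph.incidenceSet, hxy, hxy.ne.symm]
      · by_cases hy : y = v
        · subst hy
          simp [SimpleGraph.mem_incidenceFinset, SimpleGraph.incidenceSet, hxy, hx]
        · simp [SimpleGraph.mem_incidenceFinset, SimpleGraph.incidenceSet, hx, hy, Ne.symm hx, Ne.symm hy]
    refine ⟨AddMonoidHom.mk' (fun a e => (ε x * m₀ e) • a) (fun a b => funext fun e => smul_add _ a b),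
      fun a => ⟨fun e he => ?_, fun v => ?_⟩, fun a => ?_⟩
    · have h1 : e ≠ s(x, y) := fun h => he (h ▸ he₀)
      simp [m₀, h1, hm e (fun h => he (SimpleGraph.edgeSet_subset_edgeSet.mpr (SimpleGraph.deleteEdges_le _) h))]
    · show ∑ e ∈ G.incidenceFinset v, (ε x * m₀ e) • a = 0
      rw [← Finset.sum_smul, ← Finset.mul_sum, hv, mul_zero, zero_smul]
    · show (ε x * m₀ s(x, y)) • a = a
      have h1 : m s(x, y) = 0 := hm _ (by simp)
      rcases hcx : c x <;> simp [m₀, h1, ε, hcx]
end Groth.Agent.S13410
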