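import Groth.Statements.S13411
import Mathlib

set_option autoImplicit false
universe u v
open CombGraph

namespace Groth.Agent.S13411

/-- Let `A` be an abelian group and `G` a finite connected simple graph on `V`, bipartite for a
two-colouring `c`, with cyclomatic number `n` (number of edges minus number of vertices plus one).
Then the additive group of labellings `x : Sym2 V → A` vanishing off the edge set and with `∑_{e ∋
v} x e = 0` at every vertex `v` is isomorphic to `A^n`: it is the range of an injective additive map
`(Fin n → A) → (Sym2 V → A)`. (The published statement concerns finite bipartite graphs in general;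
this row treats simple graphs.) -/
theorem result {V : Type u} [Fintype V]
    [DecidableEq V] (G : SimpleGraph V) [DecidableRel G.Adj] (hconn : G.Connected) (c : V → Bool)
    (hbip : ∀ v w : V, G.Adj v w → c v ≠ c w) (A : Type v) [AddCommGroup A] (n : ℕ)
    (hn : G.edgeFinset.card + 1 = Fintype.card V + n) :
    ∃ f : (Fin n → A) →+ (Sym2 V → A), Function.Injective f ∧
      Set.range f = {x : Sym2 V → A | (∀ e : Sym2 V, e ∉ G.edgeSet → x e = 0) ∧
        ∀ v : V, ∑ e ∈ G.incidenceFinset v, x e = 0} := by
  classical
  haveI : Nonempty V := hconn.nonempty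
  obtain ⟨r⟩ := ‹Nonempty V›
  let E := {e : Sym2 V // e ∈ G.edgeFinset}
  let sg : V → ℤ := fun v => if c v then 1 else -1
  have hsg : ∀ v, sg v * sg v = 1 := fun v => by simp only [sg]; split_ifs <;> norm_num
  have hadj : ∀ u w, G.Adj u w → sg w = -sg u := fun u w h => by
    have := hbip u w h
    simp only [sg]
    cases hu : c u <;> cases hw : c w <;> simp_all
  let D : (E → ℤ) →ₗ[ℤ] (V → ℤ) :=
    { toFun := fun x v => ∑ e : E, if v ∈ e.1 then x e else 0
      map_add' := fun x y => by
        funext v; simp only [Pi.add_apply]; rw [← Finset.sum_add_distrib]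
        exact Finset.sum_congr rfl fun e _ => by split_ifs <;> simp
      map_smul' := fun k x => by
        funext v; simp only [Pi.smul_apply, smul_eq_mul, RingHom.id_apply]; rw [Finset.mul_sum]
        exact Finset.sum_congr rfl fun e _ => by split_ifs <;> simp }
  let W : (V → ℤ) →ₗ[ℤ] ℤ := Fintype.linearCombination ℤ sg
  have hW : ∀ y, W y = ∑ v, y v * sg v := fun y => rfl
  have hend : ∀ e : E, ∑ v, (if v ∈ e.1 then sg v else 0) = 0 := by
    rintro ⟨e, he⟩
    induction e using Sym2.ind with
    | _ u w =>
      have huw : G.Adj u w := by simpa using he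
      rw [← Finset.sum_filter,
        show Finset.univ.filter (fun v => v ∈ s(u, w)) = {u, w} by ext v; simp,
        Finset.sum_pair huw.ne, hadj u w huw, add_neg_cancel]
  have hWD : ∀ x, W (D x) = 0 := by
    intro x
    rw [hW]
    simp only [D, LinearMap.coe_mk, AddHom.coe_mk, Finset.sum_mul]
    rw [Finset.sum_comm]
    refine Finset.sum_eq_zero fun e _ => ?_
    have := congrArg (fun z => x e * z) (hend e)
    simp only [Finset.mul_sum, mul_zero, mul_ite] at this
    simpa only [ite_mul, zero_mul] using this
  have hP : ∀ v, ∃ p : E → ℤ, D p = Pi.single v 1 - Pi.single r (sg v * sg r) := by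
    intro v
    obtain ⟨w⟩ := hconn.preconnected v r
    induction w with
    | nil => exact ⟨0, by simp [hsg]⟩
    | @cons u u' r h w ih =>
      obtain ⟨p, hp⟩ := ih
      refine ⟨Pi.single ⟨s(u, u'), by simpa using h⟩ 1 - p, ?_⟩
      rw [map_sub, hp]
      have hD1 : D (Pi.single ⟨s(u, u'), by simpa using h⟩ 1) = Pi.single u 1 + Pi.single u' 1 := by
        funext z
        simp only [D, LinearMap.coe_mk, AddHom.coe_mk, Pi.single_apply, Pi.add_apply]
        rw [Finset.sum_eq_single ⟨s(u, u'), by simpa using h⟩]
        · have := h.ne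
          by_cases h1 : z = u
          · subst h1; simp [this]
          · by_cases h2 : z = u'
            · subst h2; simp [h1]
            · simp [h1, h2]
        · intro e _ he; simp [he]
        · simp
      rw [hD1]
      funext z
      simp only [Pi.add_apply, Pi.sub_apply, Pi.single_apply]
      rw [hadj u u' h]
      split_ifs <;> ring
  choose P hP using hP
  have hπ : ∀ x, D (x - ∑ v, D x v • P v) = 0 := by
    intro x
    rw [map_sub, map_sum]
    funext z
    simp only [map_smul, hP, Pi.sub_apply, Finset.sum_apply, Pi.smul_apply, smul_eq_mul, mul_sub,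
      Finset.sum_sub_distrib, Pi.single_apply, mul_ite, mul_one, mul_zero, Pi.zero_apply]
    rw [Finset.sum_ite_eq]
    simp only [Finset.mem_univ, if_true, sub_sub_cancel]
    by_cases hz : z = r
    · simp only [hz, if_true, ← mul_assoc, ← Finset.sum_mul]
      rw [← hW, hWD, zero_mul]
    · simp [hz]
  have hrange : LinearMap.range D = LinearMap.ker W := by
    refine le_antisymm ?_ fun y hy => ⟨∑ v, y v • P v, ?_⟩
    · rintro _ ⟨x, rfl⟩; exact hWD x
    · funext z
      rw [map_sum]
      simp only [map_smul, hP, Pi.sub_apply, Finset.sum_apply, Pi.smul_apply, smul_eq_mul, mul_sub,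
        Finset.sum_sub_distrib, Pi.single_apply, mul_ite, mul_one, mul_zero]
      rw [Finset.sum_ite_eq]
      simp only [Finset.mem_univ, if_true]
      by_cases hz : z = r
      · simp only [hz, if_true, ← mul_assoc, ← Finset.sum_mul]
        rw [← hW, LinearMap.mem_ker.mp hy, zero_mul, sub_zero]
      · simp [hz]
  have hWs : LinearMap.range W = ⊤ := LinearMap.range_eq_top.mpr fun k =>
    ⟨Pi.single r (k * sg r), by simp [W, mul_assoc, hsg]⟩
  have h1 := Submodule.finrank_quotient_add_finrank (LinearMap.ker D)
  have h2 := Submodule.finrank_quotient_add_finrank (LinearMap.ker W)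
  rw [D.quotKerEquivRange.finrank_eq] at h1
  rw [W.quotKerEquivRange.finrank_eq] at h2
  rw [hWs, finrank_top, Module.finrank_self, Module.finrank_fintype_fun_eq_card] at h2
  rw [hrange, Module.finrank_fintype_fun_eq_card,
    show Fintype.card E = G.edgeFinset.card from Fintype.card_coe _] at h1
  have hrk : Module.finrank ℤ (LinearMap.ker D) = n := by omega
  let b := Module.finBasisOfFinrankEq ℤ (LinearMap.ker D) hrk
  let π : (E → ℤ) →ₗ[ℤ] LinearMap.ker D :=
    (LinearMap.id - ∑ v, ((LinearMap.proj v).comp D).smulRight (P v)).codRestrict (LinearMap.ker D)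
      fun x => by
        simp only [LinearMap.mem_ker, LinearMap.sub_apply, LinearMap.id_apply, LinearMap.sum_apply,
          LinearMap.smulRight_apply, LinearMap.comp_apply, LinearMap.proj_apply]
        exact hπ x
  have hπv : ∀ x, ((π x : LinearMap.ker D) : E → ℤ) = x - ∑ v, D x v • P v := fun x => by
    simp [π]
  let coo : E → Fin n → ℤ := fun e i => b.repr (π (Pi.single e 1)) i
  let f₀ : (Fin n → A) → Sym2 V → A := fun a e =>
    if he : e ∈ G.edgeFinset then ∑ i, ((b i : E → ℤ) ⟨e, he⟩) • a i else 0
  let f : (Fin n → A) →+ (Sym2 V → A) := AddMonoidHom.mk' f₀ fun a a' => by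
    funext e
    simp only [f₀, Pi.add_apply]
    split_ifs <;> simp [smul_add, Finset.sum_add_distrib]
  have hfe : ∀ a (e : E), f a e.1 = ∑ i, ((b i : E → ℤ) e) • a i := fun a e => dif_pos e.2
  have hsum : ∀ (x : Sym2 V → A) (v : V),
      ∑ e ∈ G.incidenceFinset v, x e = ∑ e : E, if v ∈ e.1 then x e.1 else 0 := by
    intro x v
    rw [show (∑ e : E, if v ∈ e.1 then x e.1 else 0) = ∑ e ∈ G.edgeFinset, if v ∈ e then x e else 0
      from Finset.sum_coe_sort G.edgeFinset (fun e => if v ∈ e then x e else 0), ← Finset.sum_filter]
    refine Finset.sum_congr ?_ fun _ _ => rfl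
    ext e
    simp [SimpleGraph.incidenceSet]
  have hcoo : ∀ (y : E → ℤ) (i : Fin n), ∑ e, y e * coo e i = b.repr (π y) i := by
    intro y i
    have hy : y = ∑ e, y e • Pi.single e 1 := by
      funext z
      rw [Finset.sum_apply, Finset.sum_eq_single z] <;> simp +contextual [eq_comm]
    conv_rhs => rw [hy]
    simp only [map_sum, map_smul, coo, Finsupp.finsetSum_apply, Finsupp.smul_apply, smul_eq_mul]
  refine ⟨f, ?_, ?_⟩
  · intro a a' h
    funext j
    have key : ∀ a : Fin n → A, ∑ e : E, coo e j • f a e.1 = a j := by
      intro a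
      simp only [hfe, Finset.smul_sum, smul_smul]
      rw [Finset.sum_comm]
      have hb : ∀ i, ∑ e : E, coo e j * (b i : E → ℤ) e = if i = j then 1 else 0 := by
        intro i
        have hfix : π (b i : E → ℤ) = b i := by
          apply Subtype.ext
          rw [hπv, LinearMap.mem_ker.mp (b i).2]
          simp
        rw [Finset.sum_congr rfl (fun e _ => mul_comm _ _), hcoo, hfix, b.repr_self, Finsupp.single_apply]
      simp only [← Finset.sum_smul, hb, ite_smul, one_smul, zero_smul, Finset.sum_ite_eq',
        Finset.mem_univ, if_true]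
    rw [← key a, ← key a', h]
  · apply Set.Subset.antisymm
    · rintro _ ⟨a, rfl⟩
      refine ⟨fun e he => dif_neg (by simpa using he), fun v => ?_⟩
      rw [hsum]
      have e1 : ∀ e : E, (if v ∈ e.1 then f a e.1 else 0) =
          ∑ i, (if v ∈ e.1 then (b i : E → ℤ) e else 0) • a i := by
        intro e; rw [hfe]; split_ifs <;> simp
      rw [Finset.sum_congr rfl (fun e _ => e1 e), Finset.sum_comm]
      refine Finset.sum_eq_zero fun i _ => ?_
      rw [← Finset.sum_smul]
      have := congrFun (LinearMap.mem_ker.mp (b i).2) v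
      simp only [D, LinearMap.coe_mk, AddHom.coe_mk, Pi.zero_apply] at this
      rw [this, zero_smul]
    · rintro x ⟨hx0, hx⟩
      refine ⟨fun i => ∑ e : E, coo e i • x e.1, ?_⟩
      funext e
      by_cases he : e ∈ G.edgeFinset
      · show f _ (⟨e, he⟩ : E).1 = x e
        rw [hfe]
        simp only [Finset.smul_sum]
        simp only [← mul_smul]
        rw [Finset.sum_comm]
        have hrepr : ∀ e' : E, ∑ i, (b i : E → ℤ) ⟨e, he⟩ * coo e' i =
            (Pi.single e' 1 - ∑ v, D (Pi.single e' 1) v • P v : E → ℤ) ⟨e, he⟩ := by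
          intro e'
          rw [← hπv]
          conv_rhs => rw [← b.sum_repr (π (Pi.single e' 1))]
          simp only [coo, AddSubmonoidClass.coe_finsetSum, Submodule.coe_smul, Finset.sum_apply,
            Pi.smul_apply, smul_eq_mul, mul_comm]
        simp only [← Finset.sum_smul, hrepr]
        simp only [Pi.sub_apply, Finset.sum_apply, Pi.smul_apply, smul_eq_mul,
          sub_smul, Finset.sum_smul, Finset.sum_sub_distrib, mul_smul]
        rw [Finset.sum_eq_single (⟨e, he⟩ : E) (fun e' _ h => by simp [h]) (by simp),
          Pi.single_eq_same, one_smul, Finset.sum_comm]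
        have hDs : ∀ (e' : E) v, D (Pi.single e' 1) v = if v ∈ e'.1 then 1 else 0 := by
          intro e' v
          simp only [D, LinearMap.coe_mk, AddHom.coe_mk]
          rw [Finset.sum_eq_single e' (fun z _ hz => by simp [hz]) (by simp), Pi.single_eq_same]
        rw [sub_eq_self]
        refine Finset.sum_eq_zero fun v _ => ?_
        simp only [hDs, ite_smul, one_smul, zero_smul]
        have h' := congrArg (fun z => P v ⟨e, he⟩ • z) ((hsum x v).symm.trans (hx v))
        simpa only [Finset.smul_sum, smul_ite, smul_zero] using h'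
      · rw [hx0 e (by simpa using he)]
        exact dif_neg he
end Groth.Agent.S13411
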