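import Groth.Statements.S13418
import Groth.Agent.NeronHD.NMP
-- import your own Groth.Agent.* helpers here

set_option autoImplicit false
universe u
open CategoryTheory AlgebraicGeometry
open NeronHD

namespace Groth.Agent.S13418

/-- Let S be a locally Noetherian scheme over a field of characteristic 0 and S₀ ⊆ S a
scheme-theoretically dense open. If N and M are smooth S-schemes having the Néron mapping property
for S₀ ⊆ S (for every smooth S-scheme Z, restriction to S₀ is a bijection from S-morphisms Z → N
onto S₀-morphisms Z|S₀ → N|S₀), then the fibre product N ×_S M has the Néron mapping property for S₀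
⊆ S (its smoothness over S being automatic). (This row is the case of schemes, with smooth test
schemes, of a statement about algebraic spaces.) -/
theorem result {k : Type u} [Field k] [CharZero k] {S : Scheme.{u}} (σ : S ⟶ Spec (CommRingCat.of k)) [IsLocallyNoetherian S] (S₀ : S.Opens) (hS₀ : CInt.IsSchematicallyDense S₀)
    (N M : Over S) [Smooth N.hom] [Smooth M.hom]
    (hN : ∀ Z : Over S, Smooth Z.hom → Function.Bijective (fun g : Z ⟶ N => (Over.pullback S₀.ι).map g))
    (hM : ∀ Z : Over S, Smooth Z.hom → Function.Bijective (fun g : Z ⟶ M => (Over.pullback S₀.ι).map g)) :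
    ∀ Z : Over S, Smooth Z.hom → Function.Bijective (fun g : Z ⟶ Over.mk (Limits.pullback.fst N.hom M.hom ≫ N.hom) => (Over.pullback S₀.ι).map g) := by
  have hN' := Groth.Agent.NeronHD.nmp_of_bijective S₀ N hN
  have hM' := Groth.Agent.NeronHD.nmp_of_bijective S₀ M hM
  refine Groth.Agent.NeronHD.bijective_of_nmp S₀ (Over.mk (Limits.pullback.fst N.hom M.hom ≫ N.hom)) ?_
  intro Z z hz W j _ hj φ hφ
  simp only [Over.mk_hom] at hφ
  obtain ⟨g₁, ⟨h₁, h₁'⟩, -⟩ := hN' z hz j hj (φ ≫ Limits.pullback.fst N.hom M.hom) (by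
    rw [Category.assoc]; exact hφ)
  obtain ⟨g₂, ⟨h₂, h₂'⟩, -⟩ := hM' z hz j hj (φ ≫ Limits.pullback.snd N.hom M.hom) (by
    rw [Category.assoc, ← Limits.pullback.condition]; exact hφ)
  refine ⟨Limits.pullback.lift g₁ g₂ (h₁.trans h₂.symm), ⟨?_, ?_⟩, fun g ⟨hg, hgj⟩ => ?_⟩
  · show _ ≫ Limits.pullback.fst N.hom M.hom ≫ N.hom = _
    rw [Limits.pullback.lift_fst_assoc]; exact h₁
  · apply Limits.pullback.hom_ext
    · rw [Category.assoc, Limits.pullback.lift_fst]; exact h₁'
    · rw [Category.assoc, Limits.pullback.lift_snd]; exact h₂'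
  · have hg' : g ≫ Limits.pullback.fst N.hom M.hom ≫ N.hom = z ≫ 𝟙 S := hg
    apply Limits.pullback.hom_ext
    · rw [Limits.pullback.lift_fst]
      exact hN'.eq z hz j hj (by rw [Category.assoc]; exact hg') h₁ (by rw [← Category.assoc, hgj, h₁'])
    · rw [Limits.pullback.lift_snd]
      exact hM'.eq z hz j hj (by rw [Category.assoc, ← Limits.pullback.condition]; exact hg') h₂
        (by rw [← Category.assoc, hgj, h₂'])

end Groth.Agent.S13418
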