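import Groth.Statements.S13419
import Groth.Agent.NeronHD.NMP
-- import your own Groth.Agent.* helpers here

set_option autoImplicit false
universe u
open CategoryTheory AlgebraicGeometry
open NeronHD

namespace Groth.Agent.S13419

/-- Let S be a locally Noetherian scheme over a field of characteristic 0, S₀ ⊆ S₁ ⊆ S opens with S₀
scheme-theoretically dense in S, and N a smooth S-scheme. If N has the Néron mapping property for S₁
⊆ S and the restriction N|S₁ has the Néron mapping property for S₀ ⊆ S₁ (in both cases: restriction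
of morphisms from smooth schemes over the base is bijective), then N has the Néron mapping property
for S₀ ⊆ S. (Case of schemes, with smooth test schemes, of a statement about algebraic spaces.) -/
theorem result {k : Type u} [Field k] [CharZero k] {S : Scheme.{u}} (σ : S ⟶ Spec (CommRingCat.of k)) [IsLocallyNoetherian S] (S₀ S₁ : S.Opens) (h01 : S₀ ≤ S₁) (hS₀ : CInt.IsSchematicallyDense S₀)
    (N : Over S) [Smooth N.hom]
    (hN1 : ∀ Z : Over S, Smooth Z.hom → Function.Bijective (fun g : Z ⟶ N => (Over.pullback S₁.ι).map g))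
    (hN10 : ∀ Z : Over (S₁ : Scheme.{u}), Smooth Z.hom → Function.Bijective (fun g : Z ⟶ (Over.pullback S₁.ι).obj N => (Over.pullback (S₁.ι ⁻¹ᵁ S₀).ι).map g)) :
    ∀ Z : Over S, Smooth Z.hom → Function.Bijective (fun g : Z ⟶ N => (Over.pullback S₀.ι).map g) := by
  have hN1' := Groth.Agent.NeronHD.nmp_of_bijective S₁ N hN1
  have hN10' := Groth.Agent.NeronHD.nmp_of_bijective_pullback S₁.ι (S₁.ι ⁻¹ᵁ S₀) N hN10
  refine Groth.Agent.NeronHD.bijective_of_nmp S₀ N ?_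
  intro Z z hz W j _ hj φ hφ
  simp only [Category.comp_id] at hφ ⊢
  haveI := hz
  have hle : Set.range j ⊆ Set.range (z ⁻¹ᵁ S₁).ι := by
    rw [← Scheme.Hom.coe_opensRange, ← Scheme.Hom.coe_opensRange, hj, Scheme.Opens.opensRange_ι]
    exact fun x hx => h01 hx
  let j₁ : W ⟶ (z ⁻¹ᵁ S₁).toScheme := IsOpenImmersion.lift (z ⁻¹ᵁ S₁).ι j hle
  have hj₁ : j₁ ≫ (z ⁻¹ᵁ S₁).ι = j := IsOpenImmersion.lift_fac _ _ hle
  haveI : IsOpenImmersion (j₁ ≫ (z ⁻¹ᵁ S₁).ι) := by rw [hj₁]; infer_instance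
  haveI : IsOpenImmersion j₁ := IsOpenImmersion.of_comp j₁ (z ⁻¹ᵁ S₁).ι
  have hz₁ : (z ∣_ S₁) ≫ S₁.ι = (z ⁻¹ᵁ S₁).ι ≫ z := morphismRestrict_ι z S₁
  have hj₁r : j₁.opensRange = (z ∣_ S₁) ⁻¹ᵁ (S₁.ι ⁻¹ᵁ S₀) := by
    rw [← Scheme.Hom.comp_preimage, hz₁, Scheme.Hom.comp_preimage, ← hj]
    refine le_antisymm ?_ ?_
    · rintro _ ⟨w, rfl⟩
      exact ⟨w, by rw [← Scheme.Hom.comp_apply, hj₁]⟩
    · intro x hx
      obtain ⟨w, hw⟩ := hx
      refine ⟨w, (z ⁻¹ᵁ S₁).ι.isOpenEmbedding.injective ?_⟩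
      rw [← Scheme.Hom.comp_apply, hj₁, hw]
  obtain ⟨g₁, ⟨h₁, h₁'⟩, -⟩ := hN10' (z ∣_ S₁) inferInstance j₁ hj₁r φ (by
    rw [hφ, hz₁, ← Category.assoc, hj₁])
  obtain ⟨g, ⟨hg, hg'⟩, -⟩ := hN1' z hz (z ⁻¹ᵁ S₁).ι (Scheme.Opens.opensRange_ι _) g₁ (by
    rw [h₁, hz₁, Category.comp_id])
  refine ⟨g, ⟨by rw [hg, Category.comp_id], by rw [← hj₁, Category.assoc, hg', h₁']⟩, fun g' ⟨hg₂, hg₂'⟩ => ?_⟩
  refine hN1'.eq z hz (z ⁻¹ᵁ S₁).ι (Scheme.Opens.opensRange_ι _) (by rw [Category.comp_id]; exact hg₂) hg ?_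
  refine hN10'.eq (z ∣_ S₁) inferInstance j₁ hj₁r ?_ ?_ ?_
  · rw [Category.assoc, hg₂, hz₁]
  · rw [Category.assoc, hg, Category.comp_id, hz₁]
  · rw [← Category.assoc, ← Category.assoc, hj₁, hg₂', ← hj₁, Category.assoc, hg', h₁']

end Groth.Agent.S13419
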