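import Groth.Statements.S13420
import Groth.Agent.NeronHD.NMP
-- import your own Groth.Agent.* helpers here

set_option autoImplicit false
universe u
open CategoryTheory AlgebraicGeometry
open NeronHD

namespace Groth.Agent.S13420

/-- Let S be a locally Noetherian scheme over a field of characteristic 0, S₀ ⊆ S₁ ⊆ S opens with S₀
scheme-theoretically dense in S, and N a smooth S-scheme. If N has the Néron mapping property for S₀
⊆ S and N|S₁ has the Néron mapping property for S₀ ⊆ S₁ (restriction of morphisms from smooth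
schemes over the base is bijective), then N has the Néron mapping property for S₁ ⊆ S. (Case of
schemes, with smooth test schemes, of a statement about algebraic spaces.) -/
theorem result {k : Type u} [Field k] [CharZero k] {S : Scheme.{u}} (σ : S ⟶ Spec (CommRingCat.of k)) [IsLocallyNoetherian S] (S₀ S₁ : S.Opens) (h01 : S₀ ≤ S₁) (hS₀ : CInt.IsSchematicallyDense S₀)
    (N : Over S) [Smooth N.hom]
    (hN0 : ∀ Z : Over S, Smooth Z.hom → Function.Bijective (fun g : Z ⟶ N => (Over.pullback S₀.ι).map g))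
    (hN10 : ∀ Z : Over (S₁ : Scheme.{u}), Smooth Z.hom → Function.Bijective (fun g : Z ⟶ (Over.pullback S₁.ι).obj N => (Over.pullback (S₁.ι ⁻¹ᵁ S₀).ι).map g)) :
    ∀ Z : Over S, Smooth Z.hom → Function.Bijective (fun g : Z ⟶ N => (Over.pullback S₁.ι).map g) := by
  have hN0' := Groth.Agent.NeronHD.nmp_of_bijective S₀ N hN0
  have hN10' := Groth.Agent.NeronHD.nmp_of_bijective_pullback S₁.ι (S₁.ι ⁻¹ᵁ S₀) N hN10
  refine Groth.Agent.NeronHD.bijective_of_nmp S₁ N ?_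
  intro Z z hz W j _ hj φ hφ
  simp only [Category.comp_id] at hφ ⊢
  haveI := hz
  have hle : Set.range (z ⁻¹ᵁ S₀).ι ⊆ Set.range j := by
    rw [← Scheme.Hom.coe_opensRange, ← Scheme.Hom.coe_opensRange, hj, Scheme.Opens.opensRange_ι]
    exact fun x hx => h01 hx
  let j₀ : (z ⁻¹ᵁ S₀).toScheme ⟶ W := IsOpenImmersion.lift j (z ⁻¹ᵁ S₀).ι hle
  have hj₀ : j₀ ≫ j = (z ⁻¹ᵁ S₀).ι := IsOpenImmersion.lift_fac _ _ hle
  haveI : IsOpenImmersion (j₀ ≫ j) := by rw [hj₀]; infer_instance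
  haveI : IsOpenImmersion j₀ := IsOpenImmersion.of_comp j₀ j
  have hle1 : Set.range (j ≫ z) ⊆ Set.range S₁.ι := by
    rintro _ ⟨w, rfl⟩
    rw [← Scheme.Hom.coe_opensRange, Scheme.Opens.opensRange_ι]
    exact (hj.le ⟨w, rfl⟩ : j w ∈ z ⁻¹ᵁ S₁)
  let z₁ : W ⟶ S₁.toScheme := IsOpenImmersion.lift S₁.ι (j ≫ z) hle1
  have hz₁ : z₁ ≫ S₁.ι = j ≫ z := IsOpenImmersion.lift_fac _ _ hle1
  have hsm : Smooth z₁ := by
    haveI : Smooth (z₁ ≫ S₁.ι) := by rw [hz₁]; infer_instance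
    have e := Limits.pullback.lift_fst z₁ (𝟙 W) (show z₁ ≫ S₁.ι = 𝟙 W ≫ (z₁ ≫ S₁.ι) by rw [Category.id_comp])
    haveI : IsIso (Limits.pullback.lift z₁ (𝟙 W) (show z₁ ≫ S₁.ι = 𝟙 W ≫ (z₁ ≫ S₁.ι) by rw [Category.id_comp])) := by
      refine ⟨Limits.pullback.snd _ _, Limits.pullback.lift_snd _ _ _, Limits.pullback.hom_ext ?_ ?_⟩
      · rw [← cancel_mono S₁.ι, Category.assoc, Category.assoc, Limits.pullback.lift_fst_assoc, Category.id_comp, Limits.pullback.condition]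
      · rw [Category.assoc, Limits.pullback.lift_snd, Category.comp_id, Category.id_comp]
    rw [← e]
    infer_instance
  have hj₀r : j₀.opensRange = z₁ ⁻¹ᵁ (S₁.ι ⁻¹ᵁ S₀) := by
    rw [← Scheme.Hom.comp_preimage, hz₁, Scheme.Hom.comp_preimage]
    refine le_antisymm ?_ ?_
    · rintro _ ⟨w, rfl⟩
      show j (j₀ w) ∈ z ⁻¹ᵁ S₀
      rw [← Scheme.Hom.comp_apply, hj₀]
      exact (Scheme.Opens.opensRange_ι _).le ⟨w, rfl⟩
    · intro x hx
      obtain ⟨w, hw⟩ := (Scheme.Opens.opensRange_ι (z ⁻¹ᵁ S₀)).ge hx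
      refine ⟨w, j.isOpenEmbedding.injective ?_⟩
      rw [← Scheme.Hom.comp_apply, hj₀, hw]
  obtain ⟨g, ⟨hg, hg'⟩, huniq⟩ := hN0' z hz (z ⁻¹ᵁ S₀).ι (Scheme.Opens.opensRange_ι _) (j₀ ≫ φ) (by
    rw [Category.assoc, hφ, ← Category.assoc, hj₀, Category.comp_id])
  refine ⟨g, ⟨by rw [hg, Category.comp_id], ?_⟩, fun g' ⟨hg₂, hg₂'⟩ => huniq g' ⟨by rw [Category.comp_id]; exact hg₂, ?_⟩⟩
  · exact hN10'.eq z₁ hsm j₀ hj₀r (by rw [Category.assoc, hg, Category.comp_id, hz₁]) (by rw [hφ, hz₁])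
      (by rw [← Category.assoc, hj₀, hg'])
  · rw [← hj₀, Category.assoc, hg₂']

end Groth.Agent.S13420
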