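import Groth.Statements.S13421
import Groth.Agent.NeronHD.NMP
-- import your own Groth.Agent.* helpers here

set_option autoImplicit false
universe u
open CategoryTheory AlgebraicGeometry
open NeronHD

namespace Groth.Agent.S13421

/-- Let T be a locally Noetherian scheme over a field of characteristic 0 and T₀ ⊆ T a
scheme-theoretically dense open. Let f : S → T be étale and such that S, viewed as a T-scheme, has
the Néron mapping property for T₀ ⊆ T, and let g : N → S be smooth and such that N, viewed as an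
S-scheme, has the Néron mapping property for f⁻¹(T₀) ⊆ S (restriction of morphisms from smooth
schemes over the base is bijective). Then N → T, the composite g ≫ f, has the Néron mapping property
for T₀ ⊆ T. (Case of schemes, with smooth test schemes, of a statement about algebraic spaces.) -/
theorem result {k : Type u} [Field k] [CharZero k] {T : Scheme.{u}} (τ : T ⟶ Spec (CommRingCat.of k)) [IsLocallyNoetherian T] (T₀ : T.Opens) (hT₀ : CInt.IsSchematicallyDense T₀)
    {S N : Scheme.{u}} (f : S ⟶ T) [Etale f] (g : N ⟶ S) [Smooth g]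
    (hS : ∀ Z : Over T, Smooth Z.hom → Function.Bijective (fun g : Z ⟶ Over.mk f => (Over.pullback T₀.ι).map g))
    (hN : ∀ Z : Over S, Smooth Z.hom → Function.Bijective (fun g : Z ⟶ Over.mk g => (Over.pullback (f ⁻¹ᵁ T₀).ι).map g)) :
    ∀ Z : Over T, Smooth Z.hom → Function.Bijective (fun g : Z ⟶ Over.mk (g ≫ f) => (Over.pullback T₀.ι).map g) := by
  have hS' := Groth.Agent.NeronHD.nmp_of_bijective T₀ (Over.mk f) hS
  have hN' := Groth.Agent.NeronHD.nmp_of_bijective (f ⁻¹ᵁ T₀) (Over.mk g) hN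
  refine Groth.Agent.NeronHD.bijective_of_nmp T₀ (Over.mk (g ≫ f)) ?_
  intro Z z hz W j _ hj φ hφ
  simp only [Over.mk_hom, Category.comp_id] at hφ ⊢
  haveI := hz
  obtain ⟨ψ, ⟨hψ, hψ'⟩, hψu⟩ := hS' z hz j hj (φ ≫ g) (by
    simp only [Over.mk_hom, Category.comp_id, Category.assoc]; exact hφ)
  simp only [Over.mk_hom, Category.comp_id] at hψ
  have hsm : ∀ (Z' : Scheme.{u}) (a : Z' ⟶ S), Smooth (a ≫ f) → Smooth a := fun Z' a ha => by
    let Γ := Limits.pullback.lift a (𝟙 Z') (show a ≫ f = 𝟙 Z' ≫ (a ≫ f) by rw [Category.id_comp])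
    haveI := ha
    haveI : Etale (Γ ≫ Limits.pullback.snd f (a ≫ f)) := by rw [Limits.pullback.lift_snd]; infer_instance
    haveI : Etale Γ := Etale.of_comp Γ (Limits.pullback.snd f (a ≫ f))
    rw [← Limits.pullback.lift_fst a (𝟙 Z') (show a ≫ f = 𝟙 Z' ≫ (a ≫ f) by rw [Category.id_comp])]
    show Smooth (Γ ≫ _)
    infer_instance
  have hψsm : Smooth ψ := hsm Z ψ (by rw [hψ]; exact hz)
  have hjψ : j.opensRange = ψ ⁻¹ᵁ (f ⁻¹ᵁ T₀) := by rw [hj, ← hψ, Scheme.Hom.comp_preimage]
  obtain ⟨h, ⟨hh, hh'⟩, hhu⟩ := hN' ψ hψsm j hjψ φ (by simp only [Over.mk_hom, Category.comp_id]; exact hψ'.symm)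
  simp only [Over.mk_hom, Category.comp_id] at hh
  refine ⟨h, ⟨by rw [← Category.assoc, hh, hψ], hh'⟩, fun h₂ ⟨hh₂, hh₂'⟩ => ?_⟩
  have hψ₂ : h₂ ≫ g = ψ := hψu _ ⟨by simp only [Over.mk_hom, Category.comp_id, Category.assoc]; exact hh₂,
    by rw [← Category.assoc, hh₂']⟩
  exact hhu h₂ ⟨by simp only [Over.mk_hom, Category.comp_id]; exact hψ₂, hh₂'⟩

end Groth.Agent.S13421
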