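import Groth.Statements.S13424
import Groth.Agent.IrredComp.Basic
import Groth.Agent.SmoothStalk.Basic

set_option backward.isDefEq.respectTransparency.types false

set_option autoImplicit false
universe u
open CategoryTheory AlgebraicGeometry
open GrpSch

namespace Groth.Agent.S13424

/-- Let S be a normal, locally Noetherian scheme over a field of characteristic 0. Let p : G → S and q :
H → S be smooth morphisms with sections e_G and e_H, and f : G → H an étale morphism over S with f ∘
e_G = e_H (the case in view: an étale homomorphism of smooth group schemes and their unit sections).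
Call such a pointed S-scheme aligned when the scheme-theoretic image of its section is étale over S.
If H is aligned then G is aligned. (The published statement has an arbitrary locally Noetherian
base; over the reducible curve xy = 0 the étale group scheme obtained from two copies of the base
glued along the complement of one branch maps to the trivial group by an étale homomorphism and is
not aligned, so the base is taken normal here, where the closure of the section is a union of
connected components of the preimage of the image of e_H. Schemes only.) -/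
theorem result {k : Type u} [Field k] [CharZero k] {S : Scheme.{u}} (σ : S ⟶ Spec (CommRingCat.of k)) [IsLocallyNoetherian S] (hS : Pi1.IsNormalScheme S)
    {G H : Scheme.{u}} (p : G ⟶ S) (q : H ⟶ S) [Smooth p] [Smooth q]
    (eG : S ⟶ G) (eH : S ⟶ H) (heG : eG ≫ p = 𝟙 S) (heH : eH ≫ q = 𝟙 S)
    (f : G ⟶ H) [Etale f] (hf : f ≫ q = p) (hfe : eG ≫ f = eH)
    (hH : Etale (eH.ker.subschemeι ≫ q)) :
    Etale (eG.ker.subschemeι ≫ p) := by
  let ιH := eH.ker.subschemeι
  haveI : Etale (ιH ≫ q) := hH
  let P := Limits.pullback f ιH
  let c : P ⟶ G := Limits.pullback.fst f ιH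
  let d : P ⟶ eH.ker.subscheme := Limits.pullback.snd f ιH
  haveI : IsClosedImmersion c := MorphismProperty.pullback_fst _ _ inferInstance
  haveI : Etale d := MorphismProperty.pullback_snd _ _ inferInstance
  have hcp : c ≫ p = d ≫ ιH ≫ q := by
    rw [← hf]; simp only [c, d, ← Category.assoc, Limits.pullback.condition]
  haveI : Etale (c ≫ p) := by rw [hcp]; infer_instance
  let s : S ⟶ P := Limits.pullback.lift eG eH.toImage (by rw [hfe]; exact (Scheme.Hom.toImage_imageι eH).symm)
  have hsc : s ≫ c = eG := Limits.pullback.lift_fst _ _ _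
  have hsp : s ≫ c ≫ p = 𝟙 S := by rw [← Category.assoc, hsc, heG]
  haveI : Etale (s ≫ c ≫ p) := by rw [hsp]; infer_instance
  haveI : Etale s := Etale.of_comp s (c ≫ p)
  haveI : Mono (s ≫ c ≫ p) := by rw [hsp]; infer_instance
  haveI : Mono s := mono_of_mono s (c ≫ p)
  haveI : IsOpenImmersion s := IsOpenImmersion.of_flat_of_mono s
  haveI : IsLocallyNoetherian P := LocallyOfFiniteType.isLocallyNoetherian (c ≫ p)
  have hstalk : ∀ x : P, IsDomain (P.presheaf.stalk x) := by
    intro x
    have hx : x ∈ (c ≫ p).smoothLocus := by
      rw [Scheme.Hom.smoothLocus_eq_top]; trivial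
    exact ((SmoothStalk.reduced_normal_stalk (c ≫ p) x hx).2.2 (hS _)).1
  haveI : ∀ x : P, _root_.IsReduced (P.presheaf.stalk x) := fun x => by
    haveI := hstalk x; infer_instance
  haveI : AlgebraicGeometry.IsReduced P := isReduced_of_isReduced_stalk P
  let C : Set P := closure (Set.range s)
  have hWo : IsOpen (Set.range s) := s.isOpenEmbedding.isOpen_range
  have hCo : IsOpen C := by
    rw [isOpen_iff_forall_mem_open]
    intro x hx
    haveI := hstalk x
    obtain ⟨U, hxU, hU⟩ := IrredComp.exists_irreducible_nhd P x (IrredComp.isPrime_nilradical_of_isDomain _)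
    obtain ⟨y, hyU, hyW⟩ := mem_closure_iff.1 hx U U.2 hxU
    refine ⟨U, fun z hz => ?_, U.2, hxU⟩
    have := subset_closure_inter_of_isPreirreducible_of_isOpen hU.2 hWo ⟨y, hyU, hyW⟩ hz
    exact closure_mono Set.inter_subset_right this
  let V : P.Opens := ⟨C, hCo⟩
  haveI : IsClosedImmersion V.ι := IsClosedImmersion.of_isPreimmersion _ (by
    rw [Scheme.Opens.range_ι]; exact isClosed_closure)
  let s' : S ⟶ V.toScheme := IsOpenImmersion.lift V.ι s (by rw [Scheme.Opens.range_ι]; exact subset_closure)
  have hs' : s' ≫ V.ι = s := IsOpenImmersion.lift_fac _ _ _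
  haveI : IsDominant s' := by
    rw [isDominant_iff, DenseRange, dense_iff_closure_eq, ← Set.univ_subset_iff]
    intro v _
    rw [V.ι.isOpenEmbedding.isInducing.closure_eq_preimage_closure_image, ← Set.range_comp]
    have hv : V.ι v ∈ closure (Set.range s) := v.2
    rw [← hs'] at hv
    exact hv
  haveI : AlgebraicGeometry.IsReduced V.toScheme := inferInstance
  haveI : IsSchemeTheoreticallyDominant s' := .of_isDominant s'
  let j : V.toScheme ⟶ G := V.ι ≫ c
  haveI : IsClosedImmersion j := inferInstance
  have hj : s' ≫ j = eG := by rw [← Category.assoc, hs', hsc]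
  have hker : eG.ker = j.ker := by
    rw [← hj, Scheme.Hom.ker_comp, s'.ker_eq_bot, Scheme.IdealSheafData.map_bot]
  rw [hker]
  haveI : Etale (j ≫ p) := by
    change Etale ((V.ι ≫ c) ≫ p); rw [Category.assoc]; infer_instance
  have : j.imageι ≫ p = inv j.toImage ≫ (j ≫ p) := by
    rw [IsIso.eq_inv_comp, ← Category.assoc, Scheme.Hom.toImage_imageι]
  change Etale (j.imageι ≫ p)
  rw [this]; infer_instance

end Groth.Agent.S13424
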