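import Groth.Statements.S13426
import Groth.Agent.GrpSch.OverBase
import Groth.Agent.NeronLib.SchDom

set_option backward.isDefEq.respectTransparency.types false

set_option autoImplicit false
universe u
open CategoryTheory MonoidalCategory CartesianMonoidalCategory MonObj GrpObj AlgebraicGeometry
open GrpSch

namespace Groth.Agent.S13426

open CategoryTheory.Limits

lemma isSchDom_toImage {X Y : Scheme.{u}} (f : X ⟶ Y) : IsSchemeTheoreticallyDominant f.toImage := by
  constructor
  let ι' := f.toImage.imageι
  haveI : IsClosedImmersion (ι' ≫ f.imageι) := inferInstance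
  have hle : (ι' ≫ f.imageι).ker ≤ f.imageι.ker := by
    rw [show f.imageι.ker = f.ker from Scheme.IdealSheafData.ker_subschemeι _]
    conv_rhs => rw [← f.toImage_imageι, ← f.toImage.toImage_imageι, Category.assoc]
    exact Scheme.Hom.le_ker_comp _ _
  let s := IsClosedImmersion.lift (ι' ≫ f.imageι) f.imageι hle
  have hs : s ≫ ι' = 𝟙 _ := by
    rw [← cancel_mono f.imageι, Category.assoc, IsClosedImmersion.lift_fac, Category.id_comp]
  haveI : IsSplitEpi ι' := ⟨⟨⟨s, hs⟩⟩⟩
  haveI : Mono ι' := inferInstance
  haveI : IsIso ι' := isIso_of_mono_of_isSplitEpi _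
  exact (Scheme.isIso_subschemeι_iff_eq_bot _).mp ‹IsIso ι'›

/-- Let S be a locally Noetherian scheme over a field of characteristic 0, S₀ ⊆ S a scheme-theoretically
dense open, and G a smooth S-scheme with the weak Néron mapping property for S₀ ⊆ S: for every étale
S-scheme U, restriction to S₀ is a bijection from S-morphisms U → G onto S₀-morphisms. Let H be a
smooth group scheme over S together with a monomorphism H → G of S-schemes (the case in view: G a
group scheme and H a subgroup scheme), and assume that H is aligned, i.e. the scheme-theoretic image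
of its unit section is étale over S, and that H ×_S S₀ → S₀ is separated. Then H → S is separated.
(Case of schemes of a statement about group algebraic spaces; only the injectivity of H → G on
morphisms is used of the subgroup condition.) -/
theorem result {k : Type u} [Field k] [CharZero k] {S : Scheme.{u}} (σ : S ⟶ Spec (CommRingCat.of k)) [IsLocallyNoetherian S] (S₀ : S.Opens) (hS₀ : CInt.IsSchematicallyDense S₀)
    (G : Over S) [Smooth G.hom]
    (hG : ∀ U : Over S, Etale U.hom → Function.Bijective (fun g : U ⟶ G => (Over.pullback S₀.ι).map g))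
    (H : Over S) [GrpObj H] [Smooth H.hom] (j : H ⟶ G) [Mono j.left]
    (hal : Etale (η[H].left.ker.subschemeι ≫ H.hom))
    (h0 : IsSeparated (Limits.pullback.snd H.hom S₀.ι)) :
    IsSeparated H.hom := by
  let p := η[H].left.ker.subschemeι ≫ H.hom
  haveI : Etale p := hal
  have hη : η[H].left ≫ H.hom = 𝟙 S := Over.w η[H]
  haveI : IsImmersion (η[H].left ≫ H.hom) := by
    rw [hη]; change IsImmersion (𝟙 (𝟙_ (Over S)).left); infer_instance
  haveI : IsImmersion η[H].left := IsImmersion.of_comp η[H].left H.hom
  haveI : IsLocallyNoetherian H.left := LocallyOfFiniteType.isLocallyNoetherian H.hom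
  haveI : QuasiCompact (η[H].left ≫ H.hom) := by
    rw [hη]; change QuasiCompact (𝟙 (𝟙_ (Over S)).left); infer_instance
  haveI : QuasiSeparated H.hom := inferInstance
  haveI : QuasiCompact η[H].left := QuasiCompact.of_comp η[H].left H.hom
  have hqp : η[H].left.toImage ≫ p = 𝟙 S := by
    rw [← hη]; exact Scheme.Hom.toImage_imageι_assoc η[H].left H.hom
  let U : Over S := Over.mk p
  let a : U ⟶ H := Over.homMk η[H].left.ker.subschemeι rfl
  let b : U ⟶ H := Over.homMk (p ≫ η[H].left) (by simp [U, hη])
  haveI := isSchDom_toImage η[H].left
  haveI := h0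
  have hab0 : (Over.pullback S₀.ι).map a = (Over.pullback S₀.ι).map b := by
    ext1
    haveI : IsSeparated ((Over.pullback S₀.ι).obj H).hom := h0
    refine NeronLib.ext_of_schemeTheoreticallyDominant ((Over.pullback S₀.ι).obj H).hom (by rw [Over.w, Over.w])
      (pullback.snd η[H].left.toImage (pullback.fst U.hom S₀.ι)) ?_
    apply pullback.hom_ext
    · simp only [Over.pullback_map_left, Category.assoc, pullback.lift_fst]
      rw [← pullback.condition_assoc, ← pullback.condition_assoc]
      simp only [a, b, Over.homMk_left]
      rw [reassoc_of% hqp]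
      congr 1
      exact Scheme.Hom.toImage_imageι η[H].left
    · simp only [Over.pullback_map_left, Category.assoc, pullback.lift_snd]
  have hab : a ≫ j = b ≫ j := (hG U hal).1 (by simp only [Functor.map_comp, hab0])
  have hab' : η[H].left.ker.subschemeι = p ≫ η[H].left := by
    have := congrArg (fun z => CommaMorphism.left z) hab
    exact (cancel_mono j.left).1 this
  have hpq : p ≫ η[H].left.toImage = 𝟙 _ := by
    rw [← cancel_mono η[H].left.imageι, Category.assoc, Scheme.Hom.toImage_imageι, Category.id_comp]
    exact hab'.symm
  haveI : IsIso η[H].left.toImage := ⟨p, hqp, hpq⟩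
  rw [GrpSch.isSeparated_iff_one]
  rw [← η[H].left.toImage_imageι]
  infer_instance

end Groth.Agent.S13426
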