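import Groth.Statements.S13427
import Groth.Agent.NeronHD.NMP
-- import your own Groth.Agent.* helpers here

set_option autoImplicit false
universe u
open CategoryTheory AlgebraicGeometry
open NeronHD

namespace Groth.Agent.S13427

/-- Let S be a locally Noetherian scheme over a field of characteristic 0, S₀ ⊆ S a scheme-theoretically
dense open, and G, H smooth S-schemes with the Néron mapping property for S₀ ⊆ S (restriction to S₀
of S-morphisms from smooth S-schemes is bijective). Let f : G → H be an S-morphism and e : S → H a
section of H → S, and let K = G ×_H S be the fibre of f over e (the case in view: f a homomorphism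
of smooth group schemes, e the unit, K the kernel, so that 1 → K → G → H is left exact). If K → S is
smooth, then K has the Néron mapping property for S₀ ⊆ S. (Case of schemes, with smooth test
schemes, of a statement about group algebraic spaces.) -/
theorem result {k : Type u} [Field k] [CharZero k] {S : Scheme.{u}} (σ : S ⟶ Spec (CommRingCat.of k)) [IsLocallyNoetherian S] (S₀ : S.Opens) (hS₀ : CInt.IsSchematicallyDense S₀)
    (G H : Over S) [Smooth G.hom] [Smooth H.hom]
    (hG : ∀ Z : Over S, Smooth Z.hom → Function.Bijective (fun g : Z ⟶ G => (Over.pullback S₀.ι).map g))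
    (hH : ∀ Z : Over S, Smooth Z.hom → Function.Bijective (fun g : Z ⟶ H => (Over.pullback S₀.ι).map g))
    (f : G ⟶ H) (e : S ⟶ H.left) (he : e ≫ H.hom = 𝟙 S)
    [Smooth (Limits.pullback.snd f.left e)] :
    ∀ Z : Over S, Smooth Z.hom → Function.Bijective (fun g : Z ⟶ Over.mk (Limits.pullback.snd f.left e) => (Over.pullback S₀.ι).map g) := by
  have hG' := Groth.Agent.NeronHD.nmp_of_bijective S₀ G hG
  have hH' := Groth.Agent.NeronHD.nmp_of_bijective S₀ H hH
  refine Groth.Agent.NeronHD.bijective_of_nmp S₀ (Over.mk (Limits.pullback.snd f.left e)) ?_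
  intro Z z hz W j _ hj φ hφ
  simp only [Over.mk_hom, Category.comp_id] at hφ
  have hfG : Limits.pullback.fst f.left e ≫ G.hom = Limits.pullback.snd f.left e := by
    rw [← Over.w f, Limits.pullback.condition_assoc, he, Category.comp_id]
  obtain ⟨g₁, ⟨h₁, h₁'⟩, -⟩ := hG' z hz j hj (φ ≫ Limits.pullback.fst f.left e) (by
    rw [Category.assoc, hfG, Category.comp_id]; exact hφ)
  rw [Category.comp_id] at h₁
  have hc : g₁ ≫ f.left = z ≫ e := hH'.eq z hz j hj (by rw [Category.assoc, Over.w f, Category.comp_id]; exact h₁)
    (by rw [Category.assoc, he]) (by rw [← Category.assoc, h₁', Category.assoc, Limits.pullback.condition, ← Category.assoc, hφ, Category.assoc])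
  refine ⟨Limits.pullback.lift g₁ z hc, ⟨?_, ?_⟩, fun g ⟨hg, hgj⟩ => ?_⟩
  · show _ ≫ Limits.pullback.snd f.left e = _
    rw [Limits.pullback.lift_snd, Category.comp_id]
  · apply Limits.pullback.hom_ext
    · rw [Category.assoc, Limits.pullback.lift_fst]; exact h₁'
    · rw [Category.assoc, Limits.pullback.lift_snd]; exact hφ.symm
  · have hg' : g ≫ Limits.pullback.snd f.left e = z := hg.trans (Category.comp_id z)
    apply Limits.pullback.hom_ext
    · rw [Limits.pullback.lift_fst]
      exact hG'.eq z hz j hj (by rw [Category.assoc, hfG, Category.comp_id]; exact hg') (by rw [Category.comp_id]; exact h₁)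
        (by rw [← Category.assoc, hgj, h₁'])
    · rw [Limits.pullback.lift_snd]; exact hg'

end Groth.Agent.S13427
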