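import Groth.Statements.S1343
import Groth.Agent.FlatLocus.Scheme
import Groth.Agent.S0386
import Groth.Agent.CMRel.Scheme

set_option autoImplicit false
universe u
open FlatMor

namespace Groth.Agent.S1343

open AlgebraicGeometry CategoryTheory Limits in
/-- (1) ⇔ (3): let f be flat and locally of finite presentation and let x be a point whose fibre has
local dimension d at x. Then f is Cohen–Macaulay at x if and only if some open neighbourhood of x
admits a flat, locally quasi-finite morphism to affine d-space over the base, compatible with the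
structure morphisms. -/
theorem result {X S : Scheme.{u}} (f : X ⟶ S) [Flat f] [LocallyOfFinitePresentation f]
    (x : X) (d : ℕ) (hd : FlatMor.fibreDimAt f x = d) :
    MoreMor.IsCMAt f x ↔ ∃ (U : X.Opens) (g : (U : Scheme.{u}) ⟶ 𝔸(ULift.{u} (Fin d); S)), x ∈ U ∧
      g ≫ (𝔸(ULift.{u} (Fin d); S) ↘ S) = U.ι ≫ f ∧ Flat g ∧ LocallyQuasiFinite g := by
  constructor
  · intro h
    obtain ⟨n, U, hxU, g, hg, hqf, hflat, hdim⟩ := Groth.Agent.CMRel.exists_factor_dim f x h
    obtain rfl : n = d := by
      have := hdim.symm.trans hd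
      exact_mod_cast this
    have : LocallyOfFinitePresentation (g ≫ (𝔸(ULift.{u} (Fin n); S) ↘ S)) := hg ▸ inferInstance
    have : LocallyOfFinitePresentation g :=
      Groth.Agent.FlatLocus.locallyOfFinitePresentation_of_comp g (𝔸(ULift.{u} (Fin n); S) ↘ S)
    let W : U.toScheme.Opens := ⟨{z | (g.stalkMap z).hom.Flat}, Groth.Agent.S0386.result g⟩
    let j := W.ι ≫ U.ι
    have : AlgebraicGeometry.Flat (W.ι ≫ g) := by
      refine AlgebraicGeometry.Flat.of_stalkMap _ fun z => ?_
      exact Groth.Agent.CMRel.flat_stalkMap_comp _ _ _ (AlgebraicGeometry.Flat.stalkMap _ _) z.2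
    refine ⟨j.opensRange, j.isoOpensRange.inv ≫ W.ι ≫ g, ⟨⟨⟨x, hxU⟩, hflat⟩, rfl⟩, ?_, inferInstance, inferInstance⟩
    rw [← j.isoOpensRange_inv_comp]
    simp only [j, Category.assoc, hg]
  · rintro ⟨U, g, hxU, hg, hfl, hqf⟩
    exact Groth.Agent.CMRel.isCMAt_of_factor f U g _ hg ⟨x, hxU⟩ (AlgebraicGeometry.Flat.stalkMap g _)
      (Groth.Agent.CMRel.isCMAt_affineSpace _ _ _)

end Groth.Agent.S1343
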