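-- statement W4c1hilbpn.GrothFrozen.S13441 (Groth/Statements/S13441.lean; the theorem W4c1hilbpn.stair_succ_le_of_isStronglyStable);
import Groth.Statements.S13441
import Mathlib

set_option autoImplicit false
universe u
open W4c1hilbpn

namespace Groth.Agent.S13441

open W4c1hilbpn in
/-- Let k be an infinite field, S = k[x,y,z] with variables ordered x > y > z, and I a strongly stable
ideal of finite colength, with staircase numbers b^z_{i,j} = the number of c with x^i y^j z^c
outside I and b^y_{i,j} = the number of b with x^i y^b z^j outside I. Then b^z_{i+1,j} ≤ b^z_{i,j+1}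
and b^y_{i+1,j} ≤ b^y_{i,j+1} for all i and j (equivalently the maximum of the two neighbouring
staircase numbers is the second one). -/
theorem result (k : Type u) [Field k] [Infinite k]
    (I : Ideal (MvPolynomial (Fin 3) k)) (hI : IsStronglyStable I) [Module.Finite k (MvPolynomial (Fin 3) k ⧸ I)] (i j : ℕ) :
    stairZ I (i + 1) j ≤ stairZ I i (j + 1) ∧ stairY I (i + 1) j ≤ stairY I i (j + 1) := by
  classical
  obtain ⟨hmon, hst⟩ := hI
  have hfin : ∀ (g : ℕ → (Fin 3 →₀ ℕ)), Function.Injective g → Finite {c : ℕ // g c ∉ exps I} := by
    intro g hg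
    have hli : LinearIndependent k (fun c : {c : ℕ // g c ∉ exps I} => Ideal.Quotient.mkₐ k I (MvPolynomial.monomial (g c.1) 1)) := by
      rw [linearIndependent_iff']
      intro t w hw c hc
      by_contra hwc
      have hmem : ∑ c ∈ t, w c • MvPolynomial.monomial (g c.1) (1 : k) ∈ I := by
        rw [← Ideal.Quotient.eq_zero_iff_mem, ← hw, ← Ideal.Quotient.mkₐ_eq_mk k, map_sum]
        simp only [map_smul]
      refine c.2 (hmon _ hmem (g c.1) ?_)
      rw [MvPolynomial.mem_support_iff, MvPolynomial.coeff_sum, Finset.sum_eq_single c]
      · simp [MvPolynomial.coeff_smul, hwc]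
      · intro d _ hd
        rw [MvPolynomial.coeff_smul, MvPolynomial.coeff_monomial, if_neg (fun h => hd (Subtype.ext (hg h))), smul_zero]
      · exact fun h => absurd hc h
    exact hli.finite
  constructor
  · haveI := hfin (fun c => e3 i (j + 1) c) (fun a b h => by
      have := DFunLike.congr_fun h (2 : Fin 3)
      simpa [e3] using this)
    refine Nat.card_le_card_of_injective (fun c => ⟨c.1, fun h => c.2 ?_⟩) (fun a b h => Subtype.ext (by simpa using h))
    have h' := hst _ h 0 1 (by decide) (by simp [e3])
    convert h' using 1
    ext l; fin_cases l <;> simp [e3, Matrix.vecHead, Matrix.vecTail, Finsupp.single_apply]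
  · haveI := hfin (fun b => e3 i b (j + 1)) (fun a b h => by
      have := DFunLike.congr_fun h (1 : Fin 3)
      simpa [e3] using this)
    refine Nat.card_le_card_of_injective (fun c => ⟨c.1, fun h => c.2 ?_⟩) (fun a b h => Subtype.ext (by simpa using h))
    have h' := hst _ h 0 2 (by decide) (by simp [e3])
    convert h' using 1
    ext l; fin_cases l <;> simp [e3, Matrix.vecHead, Matrix.vecTail, Finsupp.single_apply]

end Groth.Agent.S13441
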