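import Groth.Statements.S13453
import Mathlib.Algebra.MvPolynomial.Rename
import Mathlib.RingTheory.Ideal.Colon
import Mathlib.Data.Fin.SuccPred

set_option autoImplicit false
universe u
open W4c1hilbpn

namespace Groth.Agent.S13453

section
open MvPolynomial W4c1hilbpn
variable {k : Type u} [Field k] {I : Ideal (MvPolynomial (Fin 3) k)}

theorem mem_sliceX {i : ℕ} {f : MvPolynomial (Fin 2) k} :
    f ∈ sliceX I i ↔ monomial (Finsupp.single 0 i) (1 : k) * rename Fin.succ f ∈ I := by
  rw [sliceX, Ideal.mem_comap, Submodule.mem_colon_singleton, X_pow_eq_monomial, smul_eq_mul, mul_comm]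
  rfl

theorem mem_exps_slice {i : ℕ} {β : Fin 2 →₀ ℕ} :
    β ∈ exps (sliceX I i) ↔ Finsupp.single 0 i + β.mapDomain Fin.succ ∈ exps I := by
  show monomial β (1 : k) ∈ sliceX I i ↔ monomial _ (1 : k) ∈ I
  rw [mem_sliceX, rename_monomial, monomial_mul, one_mul]

theorem exps_of_mem (hI : IsMonomial I) {γ : Fin 3 →₀ ℕ} {f : MvPolynomial (Fin 2) k}
    (hf : monomial γ (1 : k) * rename Fin.succ f ∈ I) {β : Fin 2 →₀ ℕ} (hβ : β ∈ f.support) :
    γ + β.mapDomain Fin.succ ∈ exps I := by
  refine hI _ hf _ ?_
  rw [mem_support_iff, coeff_monomial_mul, one_mul, coeff_rename_mapDomain _ (Fin.succ_injective _)]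
  exact mem_support_iff.1 hβ

theorem mem_of_exps {i : ℕ} {f : MvPolynomial (Fin 2) k}
    (hf : ∀ β ∈ f.support, Finsupp.single 0 i + β.mapDomain Fin.succ ∈ exps I) : f ∈ sliceX I i := by
  rw [f.as_sum]
  refine sum_mem fun β hβ => ?_
  have h1 : monomial β (1 : k) ∈ sliceX I i := mem_exps_slice.2 (hf β hβ)
  rw [show monomial β (coeff β f) = C (coeff β f) * monomial β 1 by rw [C_mul_monomial, mul_one]]
  exact Ideal.mul_mem_left _ _ h1

end

open W4c1hilbpn in
/-- Let k be an infinite field, S = k[x,y,z] with variables ordered x > y > z, and I a strongly stable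
ideal of finite colength; write I_i for the ideal of polynomials f in k[y,z] with x^i f in I (so I
is the direct sum of the x^i I_i). Then each I_i is a strongly stable ideal of k[y,z] (with y > z)
and the ideal quotient (I_i : y) is contained in I_{i+1}. -/
theorem result (k : Type u) [Field k] [Infinite k]
    (I : Ideal (MvPolynomial (Fin 3) k)) (hI : IsStronglyStable I) [Module.Finite k (MvPolynomial (Fin 3) k ⧸ I)] (i : ℕ) :
    IsStronglyStable (sliceX I i) ∧
      (sliceX I i).colon {(MvPolynomial.X 0 : MvPolynomial (Fin 2) k)} ≤ sliceX I (i + 1) := by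
  obtain ⟨hmon, hst⟩ := hI
  refine ⟨⟨fun p hp β hβ => ?_, fun β hβ a b hab hb => ?_⟩, fun f hf => ?_⟩
  · exact mem_exps_slice.2 (exps_of_mem hmon (mem_sliceX.1 hp) hβ)
  · have h := hst _ (mem_exps_slice.1 hβ) a.succ b.succ (Fin.succ_lt_succ_iff.2 hab)
      (by simp [Finsupp.mapDomain_apply (Fin.succ_injective _), hb])
    refine mem_exps_slice.2 ?_
    convert h using 1
    ext x
    refine Fin.cases ?_ ?_ x
    · simp [Finsupp.mapDomain_of_notMem_range, Finsupp.single_apply, Fin.succ_ne_zero]
    · intro y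
      simp [Finsupp.mapDomain_apply (Fin.succ_injective _), Finsupp.single_apply,
        (Fin.succ_ne_zero _).symm]
  · rw [Submodule.mem_colon_singleton, smul_eq_mul] at hf
    have hf' := mem_sliceX.1 hf
    rw [map_mul, MvPolynomial.rename_X, ← mul_assoc, mul_right_comm, MvPolynomial.X,
      MvPolynomial.monomial_mul, one_mul] at hf'
    refine mem_of_exps fun β hβ => ?_
    have h := hst _ (exps_of_mem hmon hf' hβ) 0 1 (by decide)
      (by simp [Finsupp.single_apply])
    convert h using 1
    ext x
    refine Fin.cases ?_ ?_ x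
    · simp [Finsupp.mapDomain_of_notMem_range, Finsupp.single_apply]
    · intro y
      fin_cases y <;> simp [Finsupp.mapDomain_apply (Fin.succ_injective _), Finsupp.single_apply]

end Groth.Agent.S13453
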