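import Groth.Statements.S13455
import Mathlib

set_option autoImplicit false
universe u
open W4c1hilbpn

namespace Groth.Agent.S13455

/-- Let k be an algebraically closed field of characteristic different from 2, k0 ≥ 1 and n ≥ 2k0 - 1
natural numbers, S = k[x_0, ..., x_n], and e1 ≤ e2 ≤ k0 - 1. The ideal generated by all products x_p
x_q with e1 ≤ p, q ≤ e2 together with the products x_p x_{n-k0+1+q} for e1 ≤ p < q ≤ e2 is the
intersection, over j from e1 to e2, of the ideals generated by the variables x_i with e1 ≤ i ≤ e2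
and i ≠ j, the square x_j^2, and the variables x_{n-k0+1+q} for j < q ≤ e2 (a primary decomposition
of this monomial ideal). -/
theorem result (k : Type u) [Field k] [IsAlgClosed k] (hchar : ringChar k ≠ 2)
    (n k0 e1 e2 : ℕ) (hk : 1 ≤ k0) (hn : 2 * k0 ≤ n + 1) (he : e1 ≤ e2) (he2 : e2 + 1 ≤ k0) :
    Ideal.span ({f : MvPolynomial (Fin (n + 1)) k | ∃ p q : Fin (n + 1), e1 ≤ p.val ∧ p.val ≤ e2 ∧ e1 ≤ q.val ∧ q.val ≤ e2 ∧
        f = MvPolynomial.X p * MvPolynomial.X q} ∪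
      {f : MvPolynomial (Fin (n + 1)) k | ∃ p q m : Fin (n + 1), e1 ≤ p.val ∧ p.val < q.val ∧ q.val ≤ e2 ∧
        m.val + k0 = n + 1 + q.val ∧ f = MvPolynomial.X p * MvPolynomial.X m}) =
    ⨅ j : Fin (n + 1), ⨅ (_ : e1 ≤ j.val ∧ j.val ≤ e2),
      Ideal.span ({f : MvPolynomial (Fin (n + 1)) k | ∃ i : Fin (n + 1), e1 ≤ i.val ∧ i.val ≤ e2 ∧ i ≠ j ∧ f = MvPolynomial.X i} ∪
        {MvPolynomial.X j ^ 2} ∪
        {f : MvPolynomial (Fin (n + 1)) k | ∃ q m : Fin (n + 1), j.val < q.val ∧ q.val ≤ e2 ∧ m.val + k0 = n + 1 + q.val ∧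
          f = MvPolynomial.X m}) := by
  classical
  let e : Fin (n + 1) → (Fin (n + 1) →₀ ℕ) := fun i => Finsupp.single i 1
  let T : Set (Fin (n + 1) →₀ ℕ) := {d | ∃ p q : Fin (n + 1), e1 ≤ p.val ∧ p.val ≤ e2 ∧ e1 ≤ q.val ∧ q.val ≤ e2 ∧ d = e p + e q} ∪
    {d | ∃ p q m : Fin (n + 1), e1 ≤ p.val ∧ p.val < q.val ∧ q.val ≤ e2 ∧ m.val + k0 = n + 1 + q.val ∧ d = e p + e m}
  let U : Fin (n + 1) → Set (Fin (n + 1) →₀ ℕ) := fun j => {d | ∃ i : Fin (n + 1), e1 ≤ i.val ∧ i.val ≤ e2 ∧ i ≠ j ∧ d = e i} ∪ {e j + e j} ∪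
    {d | ∃ q m : Fin (n + 1), j.val < q.val ∧ q.val ≤ e2 ∧ m.val + k0 = n + 1 + q.val ∧ d = e m}
  have hX : ∀ i, (MvPolynomial.X i : MvPolynomial (Fin (n + 1)) k) = MvPolynomial.monomial (e i) 1 := fun i => rfl
  have hXX : ∀ i l, (MvPolynomial.X i : MvPolynomial (Fin (n + 1)) k) * MvPolynomial.X l = MvPolynomial.monomial (e i + e l) 1 := fun i l => by
    rw [hX, hX, MvPolynomial.monomial_mul, mul_one]
  have hT : ({f : MvPolynomial (Fin (n + 1)) k | ∃ p q : Fin (n + 1), e1 ≤ p.val ∧ p.val ≤ e2 ∧ e1 ≤ q.val ∧ q.val ≤ e2 ∧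
        f = MvPolynomial.X p * MvPolynomial.X q} ∪
      {f : MvPolynomial (Fin (n + 1)) k | ∃ p q m : Fin (n + 1), e1 ≤ p.val ∧ p.val < q.val ∧ q.val ≤ e2 ∧
        m.val + k0 = n + 1 + q.val ∧ f = MvPolynomial.X p * MvPolynomial.X m}) = (fun d => MvPolynomial.monomial d (1 : k)) '' T := by
    ext f
    constructor
    · rintro (⟨p, q, h1, h2, h3, h4, rfl⟩ | ⟨p, q, m, h1, h2, h3, h4, rfl⟩)
      · exact ⟨_, Or.inl ⟨p, q, h1, h2, h3, h4, rfl⟩, (hXX p q).symm⟩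
      · exact ⟨_, Or.inr ⟨p, q, m, h1, h2, h3, h4, rfl⟩, (hXX p m).symm⟩
    · rintro ⟨_, (⟨p, q, h1, h2, h3, h4, rfl⟩ | ⟨p, q, m, h1, h2, h3, h4, rfl⟩), rfl⟩
      · exact Or.inl ⟨p, q, h1, h2, h3, h4, (hXX p q).symm⟩
      · exact Or.inr ⟨p, q, m, h1, h2, h3, h4, (hXX p m).symm⟩
  have hU : ∀ j : Fin (n + 1), ({f : MvPolynomial (Fin (n + 1)) k | ∃ i : Fin (n + 1), e1 ≤ i.val ∧ i.val ≤ e2 ∧ i ≠ j ∧ f = MvPolynomial.X i} ∪
        {MvPolynomial.X j ^ 2} ∪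
        {f : MvPolynomial (Fin (n + 1)) k | ∃ q m : Fin (n + 1), j.val < q.val ∧ q.val ≤ e2 ∧ m.val + k0 = n + 1 + q.val ∧
          f = MvPolynomial.X m}) = (fun d => MvPolynomial.monomial d (1 : k)) '' U j := by
    intro j
    ext f
    constructor
    · rintro ((⟨i, h1, h2, h3, rfl⟩ | hf) | ⟨q, m, h1, h2, h3, rfl⟩)
      · exact ⟨_, Or.inl (Or.inl ⟨i, h1, h2, h3, rfl⟩), (hX i).symm⟩
      · exact ⟨_, Or.inl (Or.inr rfl), by rw [Set.mem_singleton_iff.1 hf, sq]; exact (hXX j j).symm⟩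
      · exact ⟨_, Or.inr ⟨q, m, h1, h2, h3, rfl⟩, (hX m).symm⟩
    · rintro ⟨_, ((⟨i, h1, h2, h3, rfl⟩ | hd) | ⟨q, m, h1, h2, h3, rfl⟩), rfl⟩
      · exact Or.inl (Or.inl ⟨i, h1, h2, h3, (hX i).symm⟩)
      · refine Or.inl (Or.inr ?_)
        simp only [Set.mem_singleton_iff] at hd ⊢
        rw [hd, sq, hXX]
      · exact Or.inr ⟨q, m, h1, h2, h3, (hX m).symm⟩
  ext f
  simp only [hT, hU, Submodule.mem_iInf, MvPolynomial.mem_ideal_span_monomial_image]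
  have hpos : ∀ (d : Fin (n + 1) →₀ ℕ) (a b : Fin (n + 1)), a ≠ b → e a ≤ d → e b ≤ d → e a + e b ≤ d := by
    intro d a b hab ha hb i
    have h1 := ha i
    have h2 := hb i
    simp only [e, Finsupp.coe_add, Pi.add_apply, Finsupp.single_apply] at h1 h2 ⊢
    by_cases hia : a = i
    · subst hia; rw [if_neg (Ne.symm hab)]; simpa using h1
    · rw [if_neg hia, zero_add]; exact h2
  constructor
  · intro h j hj d hd
    obtain ⟨t, (⟨p, q, h1, h2, h3, h4, rfl⟩ | ⟨p, q, m, h1, h2, h3, h4, rfl⟩), hle⟩ := h d hd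
    · by_cases hp : p = j
      · by_cases hq : q = j
        · subst hp; subst hq
          exact ⟨_, Or.inl (Or.inr rfl), hle⟩
        · exact ⟨_, Or.inl (Or.inl ⟨q, h3, h4, hq, rfl⟩), le_trans le_add_self hle⟩
      · exact ⟨_, Or.inl (Or.inl ⟨p, h1, h2, hp, rfl⟩), le_trans le_self_add hle⟩
    · by_cases hp : p = j
      · subst hp
        exact ⟨_, Or.inr ⟨q, m, h2, h3, h4, rfl⟩, le_trans le_add_self hle⟩
      · exact ⟨_, Or.inl (Or.inl ⟨p, h1, by omega, hp, rfl⟩), le_trans le_self_add hle⟩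
  · intro h d hd
    obtain ⟨p, hp1, hp2, hpd⟩ : ∃ p : Fin (n + 1), e1 ≤ p.val ∧ p.val ≤ e2 ∧ e p ≤ d := by
      obtain ⟨t, ((⟨i, h1, h2, -, rfl⟩ | ht) | ⟨q, m, h1, h2, -, rfl⟩), hle⟩ := h ⟨e2, by omega⟩ ⟨he, le_rfl⟩ d hd
      · exact ⟨i, h1, h2, hle⟩
      · rw [Set.mem_singleton_iff.1 ht] at hle
        exact ⟨⟨e2, by omega⟩, he, le_rfl, le_trans le_self_add hle⟩
      · change e2 < q.val at h1
        omega
    obtain ⟨t, ((⟨i, h1, h2, h3, rfl⟩ | ht) | ⟨q, m, h1, h2, h3, rfl⟩), hle⟩ := h p ⟨hp1, hp2⟩ d hd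
    · exact ⟨_, Or.inl ⟨p, i, hp1, hp2, h1, h2, rfl⟩, hpos d p i (Ne.symm h3) hpd hle⟩
    · rw [Set.mem_singleton_iff.1 ht] at hle
      exact ⟨_, Or.inl ⟨p, p, hp1, hp2, hp1, hp2, rfl⟩, hle⟩
    · refine ⟨_, Or.inr ⟨p, q, m, hp1, h1, h2, h3, rfl⟩, hpos d p m (fun hpm => ?_) hpd hle⟩
      subst hpm
      omega

end Groth.Agent.S13455
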