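import Groth.Statements.S13460
import Groth.Agent.CodimOne.Trivial
import Groth.Agent.ParaFUFD.Criterion
import Groth.Agent.DimTheory.Scheme

set_option autoImplicit false
universe u
open CategoryTheory CategoryTheory.Limits AlgebraicGeometry TopologicalSpace
open WDiv

set_option linter.style.haveILetI false
set_option backward.isDefEq.respectTransparency.types false

namespace Groth.Agent.S13460

/-- Let A be a Noetherian integral domain which is a unique factorization domain, and X = Spec A. Then
the divisor class group of X vanishes: every Weil divisor D on X, an integer-valued function on the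
points of X with finite support inside the points of coheight 1 (codimension one), is the divisor of
a nonzero rational function f on X, i.e. the order of vanishing of f at every point x of coheight 1
is D(x). (The published statement assumes only that A is a unique factorization domain; this row
also assumes A Noetherian.) -/
theorem result (A : Type u) [CommRing A] [IsDomain A] [IsNoetherianRing A]
    [UniqueFactorizationMonoid A]
    (D : ↥(Spec (CommRingCat.of A)) → ℤ) (hD : ∀ x, Order.coheight x ≠ 1 → D x = 0) (hfin : {x | D x ≠ 0}.Finite) :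
    ∃ f : ↑(Spec (CommRingCat.of A)).functionField, f ≠ 0 ∧
      ∀ x : ↥(Spec (CommRingCat.of A)), Order.coheight x = 1 → Scheme.ord f x = D x := by
  classical
  let X := Spec (CommRingCat.of A)
  haveI : RefDiv.Nrm X := by
    refine ⟨CodimOne.isNormalScheme_of_ufd fun x => ?_⟩
    let S := (Spec.structureSheaf A).presheaf.stalk (x : PrimeSpectrum A)
    haveI : IsDomain S := IsLocalization.isDomain_of_le_nonZeroDivisors (R := A) (S := S)
      (M := (x : PrimeSpectrum A).asIdeal.primeCompl) (Ideal.primeCompl_le_nonZeroDivisors _)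
    exact GrassLib.ufd_of_isLocalization (x : PrimeSpectrum A).asIdeal.primeCompl S
  have hT : IsAffineOpen (⊤ : X.Opens) := isAffineOpen_top X
  let e := (Scheme.ΓSpecIso (CommRingCat.of A)).commRingCatIsoToRingEquiv
  haveI : IsDomain Γ(X, ⊤) := e.toMulEquiv.isDomain_iff.2 inferInstance
  haveI : UniqueFactorizationMonoid Γ(X, ⊤) := e.toMulEquiv.symm.uniqueFactorizationMonoid inferInstance
  suffices hp : ∀ x₀ : X, Order.coheight x₀ = 1 → ∃ f : X.functionField, f ≠ 0 ∧
      Scheme.ord f x₀ = 1 ∧ ∀ x : X, x ≠ x₀ → Order.coheight x = 1 → Scheme.ord f x = 0 by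
    obtain ⟨f, hf, h⟩ := CodimOne.exists_ord_of_support (X := X) hp (D := D)
      (fun x => ⟨⊤, trivial, hfin.subset fun w hw => hw.2.2⟩)
    exact ⟨f, hf, fun x hx => (h x hx).symm⟩
  intro z hz
  letI := TopCat.Presheaf.algebra_section_stalk X.presheaf (⟨z, trivial⟩ : (⊤ : X.Opens))
  haveI : IsLocalization.AtPrime (X.presheaf.stalk z) (hT.primeIdealOf ⟨z, trivial⟩).asIdeal :=
    hT.isLocalization_stalk ⟨z, trivial⟩
  have hht : (hT.primeIdealOf ⟨z, trivial⟩).asIdeal.height = 1 := by
    have h := IsLocalization.AtPrime.ringKrullDim_eq_height (hT.primeIdealOf ⟨z, trivial⟩).asIdeal (X.presheaf.stalk z)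
    rw [ringKrullDim_stalk_eq_coheight, hz] at h
    exact (WithBot.coe_eq_coe.1 h).symm
  have hne : (hT.primeIdealOf ⟨z, trivial⟩).asIdeal ≠ ⊥ := fun h0 => by
    rw [h0, Ideal.height_bot] at hht
    exact zero_ne_one hht
  obtain ⟨g, hgP, hg⟩ := Ideal.IsPrime.exists_mem_prime_of_ne_bot (hT.primeIdealOf ⟨z, trivial⟩).2 hne
  have hspan : (hT.primeIdealOf ⟨z, trivial⟩).asIdeal = Ideal.span {g} := by
    refine ((Ideal.span_singleton_le_iff_mem _).2 hgP).antisymm' ?_
    by_contra hnle
    have hlt : Ideal.span {g} < (hT.primeIdealOf ⟨z, trivial⟩).asIdeal :=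
      lt_of_le_not_ge ((Ideal.span_singleton_le_iff_mem _).2 hgP) hnle
    haveI hp : (Ideal.span {g}).IsPrime := (Ideal.span_singleton_prime hg.ne_zero).2 hg
    have h1 := Ideal.height_add_one_le_of_lt_of_isPrime
      (I := (⊥ : Ideal Γ(X, ⊤))) (J := Ideal.span {g})
      (bot_lt_iff_ne_bot.2 fun h0 => hg.ne_zero (Ideal.span_singleton_eq_bot.1 h0))
    have h2 := Ideal.height_add_one_le_of_lt_of_isPrime hlt
    rw [Ideal.height_bot, zero_add] at h1
    rw [hht] at h2
    have h3 : (1 : ℕ∞) + 1 ≤ 1 := le_trans (add_le_add h1 le_rfl) h2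
    norm_num at h3
  refine CodimOne.hypersurface_ord hz g ?_ fun x hx => ?_
  · show (IsLocalRing.maximalIdeal (X.presheaf.stalk z)).comap _ = _
    rw [TopCat.Presheaf.stalkSpecializes_refl, CommRingCat.hom_id, Ideal.comap_id,
      ← IsLocalization.AtPrime.map_eq_maximalIdeal (hT.primeIdealOf ⟨z, trivial⟩).asIdeal (X.presheaf.stalk z),
      hspan, Ideal.map_span, Set.image_singleton]
    rfl
  · by_contra hu
    have hgx : g ∈ (hT.primeIdealOf ⟨x, trivial⟩).asIdeal := by
      rw [← DimTheory.ker_evaluation hT (show x ∈ (⊤ : X.Opens) from trivial)]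
      exact (IsLocalRing.residue_eq_zero_iff _).2 ((IsLocalRing.mem_maximalIdeal _).2 hu)
    refine hx ?_
    have hle : (hT.primeIdealOf ⟨z, trivial⟩).asIdeal ≤ (hT.primeIdealOf ⟨x, trivial⟩).asIdeal := by
      rw [hspan]; exact (Ideal.span_singleton_le_iff_mem _).2 hgx
    have h1 := ((PrimeSpectrum.le_iff_specializes (hT.primeIdealOf ⟨z, trivial⟩) (hT.primeIdealOf ⟨x, trivial⟩)).1 hle).map
      hT.fromSpec.continuous
    rw [hT.fromSpec_primeIdealOf, hT.fromSpec_primeIdealOf] at h1
    exact h1

end Groth.Agent.S13460
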