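import Groth.Statements.S13470
import Groth.Agent.CharExt.Main

set_option autoImplicit false
universe u
open GmDual

namespace Groth.Agent.S13470

open CategoryTheory MonoidalCategory CartesianMonoidalCategory MonObj AlgebraicGeometry


open CategoryTheory AlgebraicGeometry MonObj in
/-- Let k be an algebraically closed field and i : H → G a homomorphism of affine commutative k-group
schemes of finite type which is a closed immersion. Then the restriction map Ĝ(k) → Ĥ(k) on
characters defined over k (morphisms of abelian sheaves on the big fppf site of Spec k from the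
sheaf of points to the multiplicative group, restricted along i) is surjective. -/
theorem result (k : Type u) [Field k] [IsAlgClosed k]
    (H G : Over (Spec (CommRingCat.of k))) [GrpObj H] [IsCommMonObj H] [GrpObj G] [IsCommMonObj G]
    [IsAffine H.left] [LocallyOfFiniteType H.hom] [IsAffine G.left] [LocallyOfFiniteType G.hom]
    (i : H ⟶ G) [IsMonHom i] [IsClosedImmersion i.left] :
    Function.Surjective (Preadditive.leftComp (CGrpSh2.Gm Scheme.fppfPrecoverage (Spec (CommRingCat.of k)))
      (CGrpSh.ptsMap Scheme.fppfPrecoverage i)) := by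
  intro χ
  let h : H ⟶ Red.Gm (Spec (CommRingCat.of k)) := ((χ.hom.app (Opposite.op H)) ⟨Additive.ofMul (𝟙 H)⟩).down.toMul
  have hx : ∀ (T : Over (Spec (CommRingCat.of k))) (x : T ⟶ H),
      ((χ.hom.app (Opposite.op T)) ⟨Additive.ofMul x⟩).down.toMul = x ≫ h := by
    intro T x
    have := CategoryTheory.congr_fun (χ.hom.naturality x.op) ⟨Additive.ofMul (𝟙 H)⟩
    refine Eq.trans ?_ (congrArg (fun z => z.down.toMul) this)
    refine congrArg (fun z => z.down.toMul) (congrArg (χ.hom.app (Opposite.op T)) ?_)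
    exact ULift.ext _ _ (congrArg Additive.ofMul (Category.comp_id x).symm)
  have hmul : ∀ (T : Over (Spec (CommRingCat.of k))) (x y : T ⟶ H), (x * y) ≫ h = (x ≫ h) * (y ≫ h) := by
    intro T x y
    rw [← hx, ← hx, ← hx]
    exact congrArg (fun z => z.down.toMul) (map_add (χ.hom.app (Opposite.op T)).hom ⟨Additive.ofMul x⟩ ⟨Additive.ofMul y⟩)
  haveI : IsMonHom h := by
    refine ⟨?_, ?_⟩
    · have h1 := hmul (𝟙_ (Over (Spec (CommRingCat.of k)))) 1 1
      rw [_root_.one_mul] at h1
      letI grp : Group (𝟙_ (Over (Spec (CommRingCat.of k))) ⟶ Red.Gm (Spec (CommRingCat.of k))) := CategoryTheory.Hom.group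
      have h2 : (1 : 𝟙_ (Over (Spec (CommRingCat.of k))) ⟶ H) ≫ h = 1 := left_eq_mul.1 h1
      rw [Hom.one_def, Hom.one_def] at h2
      simpa using h2
    · have h1 := hmul (H ⊗ H) (fst H H) (snd H H)
      rw [Hom.mul_def, Hom.mul_def, lift_fst_snd, Category.id_comp] at h1
      rw [h1]
      congr 1
  obtain ⟨g, hg, hgh⟩ := Groth.Agent.CharExt.exists_character_extension H G i h
  refine ⟨CGrpSh.ptsMap Scheme.fppfPrecoverage g, ?_⟩
  change CGrpSh.ptsMap Scheme.fppfPrecoverage i ≫ CGrpSh.ptsMap Scheme.fppfPrecoverage g = χ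
  apply Sheaf.hom_ext
  ext ⟨T⟩ ⟨x⟩
  refine ULift.ext _ _ ?_
  change Additive.ofMul ((x.toMul ≫ i) ≫ g) = _
  rw [Category.assoc, hgh, ← hx T x.toMul]
  rfl

end Groth.Agent.S13470
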