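import Groth.Statements.S1348
import Groth.Agent.FlatSlice.Spec


set_option autoImplicit false
universe u
open FlatMor

namespace Groth.Agent.S1348

open AlgebraicGeometry CategoryTheory Limits in
/-- Let f be locally of finite presentation and flat at a point x with image s, and let h be an element
of the maximal ideal of the local ring at x whose image in the local ring of the fibre (the local
ring at x modulo the ideal generated by the maximal ideal at s) is a nonzerodivisor. Then there is
an affine open neighbourhood U of x and a nonzerodivisor of its coordinate ring with germ h at x (so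
its zero locus is an effective Cartier divisor of U through x) whose zero scheme is flat and locally
of finite presentation over the base. -/
theorem result {X S : Scheme.{u}} (f : X ⟶ S) [LocallyOfFinitePresentation f] (x : X)
    (hflat : (f.stalkMap x).hom.Flat) (h : X.presheaf.stalk x) (hm : h ∈ IsLocalRing.maximalIdeal (X.presheaf.stalk x))
    (hreg : Ideal.Quotient.mk (Ideal.map (f.stalkMap x).hom (IsLocalRing.maximalIdeal (S.presheaf.stalk (f x)))) h ∈
      nonZeroDivisors (X.presheaf.stalk x ⧸ Ideal.map (f.stalkMap x).hom (IsLocalRing.maximalIdeal (S.presheaf.stalk (f x))))) :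
    ∃ (U : X.Opens) (hU : IsAffineOpen U) (hx : x ∈ U) (h' : Γ(X, U)), X.presheaf.germ U x hx h' = h ∧ h' ∈ nonZeroDivisors Γ(X, U) ∧
      Flat (Spec.map (CommRingCat.ofHom (Ideal.Quotient.mk (Ideal.span {h'}))) ≫ hU.fromSpec ≫ f) ∧
      LocallyOfFinitePresentation (Spec.map (CommRingCat.ofHom (Ideal.Quotient.mk (Ideal.span {h'}))) ≫ hU.fromSpec ≫ f) := by
  let J := Ideal.map (f.stalkMap x).hom (IsLocalRing.maximalIdeal (S.presheaf.stalk (f x)))
  have hreg' : RingTheory.Sequence.IsWeaklyRegular (X.presheaf.stalk x ⧸ J)
      ([h].map (Ideal.Quotient.mk J)) := by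
    rw [List.map_singleton, RingTheory.Sequence.isWeaklyRegular_singleton_iff]
    intro a b hab
    refine sub_eq_zero.1 ((mem_nonZeroDivisors_iff_left.1 hreg) _ ?_)
    rw [mul_sub, sub_eq_zero]
    exact hab
  obtain ⟨V, hV, U, hU, e, hx, l, hl, hsl⟩ :=
    Groth.Agent.FlatSlice.exists_sliced_open f x hflat [h] hreg'
  match l, hl, hsl with
  | [h'], hl, hsl =>
    obtain ⟨h1, h2⟩ := Groth.Agent.FlatSlice.flat_lfp_quotient f hV hU e [h'] hsl
    rw [Ideal.ofList_singleton] at h1 h2
    refine ⟨U, hU, hx, h', List.singleton_inj.1 hl, ?_, h1, h2⟩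
    letI : Algebra Γ(S, V) Γ(X, U) := (f.appLE V U e).hom.toAlgebra
    have hw := (RingTheory.Sequence.isWeaklyRegular_singleton_iff _ h').1 hsl.isWeaklyRegular
    rw [mem_nonZeroDivisors_iff_left]
    intro a ha
    exact hw (show h' • a = h' • 0 by rw [smul_zero]; exact ha)

end Groth.Agent.S1348
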