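import Groth.Statements.S13499
import Groth.Agent.EtFieldTors.Torsion
import Groth.Prelude.Def_EtCore

set_option autoImplicit false
universe u
open CategoryTheory CategoryTheory.Limits AlgebraicGeometry Opposite
open GalCoh

namespace Groth.Agent.S13499

theorem main {S : Scheme.{u}} [Subsingleton S] (i : ℕ) (hi : 2 ≤ i) :
    Nonempty (EtCoh.H S (EtCoh.const S ℤ) i ≃+
      EtCoh.H S (EtCoh.const S (ℚ ⧸ AddSubgroup.zmultiples (1 : ℚ))) (i - 1)) := by
  let C := constantSheaf S.smallEtaleTopology AddCommGrpCat.{u + 1}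
  have : PreservesColimitsOfSize.{0, 0} C := (EtCore.constAdj S).leftAdjoint_preservesColimits
  have : PreservesFiniteColimits C := PreservesColimitsOfSize.preservesFiniteColimits.{0, 0} _
  have : PreservesFiniteLimits C := comp_preservesFiniteLimits _ _
  have : C.Additive := by
    have := preservesBinaryBiproducts_of_preservesBinaryProducts C
    exact Functor.additive_of_preservesBinaryBiproducts C
  let Q := AddCommGrpCat.of (ULift.{u + 1} ℚ)
  let f : AddCommGrpCat.of (ULift.{u + 1} ℤ) ⟶ Q :=
    AddCommGrpCat.ofHom (AddMonoidHom.mk' (fun a : ULift.{u + 1} ℤ => (ULift.up (a.down : ℚ)))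
      (fun a b => ULift.ext _ _ (Int.cast_add a.down b.down)))
  let g : Q ⟶ AddCommGrpCat.of (ULift.{u + 1} (ℚ ⧸ AddSubgroup.zmultiples (1 : ℚ))) :=
    AddCommGrpCat.ofHom (AddMonoidHom.mk'
      (fun a : ULift.{u + 1} ℚ => (ULift.up (QuotientAddGroup.mk' (AddSubgroup.zmultiples (1 : ℚ)) a.down)))
      (fun a b => ULift.ext _ _ (map_add _ a.down b.down)))
  let R := ShortComplex.mk f g (by
    ext a
    refine ((QuotientAddGroup.eq_zero_iff (a.down : ℚ)).2 (AddSubgroup.mem_zmultiples_iff.2 ⟨a.down, ?_⟩))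
    show a.down • (1 : ℚ) = (a.down : ℚ)
    simp)
  have hR : R.ShortExact :=
    { exact := by
        rw [ShortComplex.ab_exact_iff]
        intro a ha
        obtain ⟨m, hm⟩ := (QuotientAddGroup.eq_zero_iff a.down).1 (congrArg ULift.down ha)
        refine ⟨ULift.up m, ULift.ext _ _ ?_⟩
        show (m : ℚ) = a.down
        rw [← hm]
        simp
      mono_f := (AddCommGrpCat.mono_iff_injective _).2 fun a b hab =>
        ULift.ext _ _ (Int.cast_injective (congrArg ULift.down hab))
      epi_g := (AddCommGrpCat.epi_iff_surjective _).2 fun a => by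
        obtain ⟨b, hb⟩ := QuotientAddGroup.mk'_surjective (AddSubgroup.zmultiples (1 : ℚ)) a.down
        exact ⟨ULift.up b, ULift.ext _ _ hb⟩ }
  have hC := hR.map_of_exact C
  have hdiv : ∀ n : ℕ, 0 < n → IsIso (n • 𝟙 (C.obj Q)) := by
    intro n hn
    have : IsIso (n • 𝟙 Q) := by
      refine (ConcreteCategory.isIso_iff_bijective _).2 ?_
      have h : ∀ a : ULift.{u + 1} ℚ, (n • 𝟙 Q : Q ⟶ Q) a = n • a := fun a => rfl
      refine ⟨fun a b hab => ?_, fun a => ⟨ULift.up (a.down / n), (h _).trans (ULift.ext _ _ ?_)⟩⟩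
      · rw [h, h] at hab
        exact ULift.ext _ _ (nsmul_right_injective hn.ne' (congrArg ULift.down hab))
      · show n • (a.down / n) = a.down
        rw [nsmul_eq_mul]
        field_simp
    rw [← C.map_id, ← C.map_nsmul]
    infer_instance
  have h0 : ∀ j : ℕ, 0 < j → Subsingleton (EtCoh.H S (R.map C).X₂ j) := fun j hj =>
    Groth.Agent.EtFieldTors.subsingleton_of_divisible S (C.obj Q) hdiv hj
  obtain ⟨p, rfl⟩ : ∃ p, i = p + 1 := ⟨i - 1, by omega⟩
  have := h0 p (by omega)
  have := h0 (p + 1) (by omega)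
  let d := hC.extClass.postcomp
    ((constantSheaf S.smallEtaleTopology AddCommGrpCat.{u + 1}).obj (AddCommGrpCat.of (ULift ℤ))) (a := p) rfl
  have hbij : Function.Bijective d := by
    refine ⟨(injective_iff_map_eq_zero d).2 fun x hx => ?_, fun y => ?_⟩
    · obtain ⟨y, hy⟩ := Abelian.Ext.covariant_sequence_exact₃ _ hC x rfl hx
      rw [← hy, Subsingleton.elim (h := h0 p (by omega)) y 0, Abelian.Ext.zero_comp]
    · exact Abelian.Ext.covariant_sequence_exact₁ _ hC y (Subsingleton.elim (h := h0 (p + 1) (by omega)) _ _) rfl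
  exact ⟨(AddEquiv.ofBijective d hbij).symm⟩

/-- For a field k and i ≥ 2 there is an isomorphism between H^i(Spec k, Z) and H^{i-1}(Spec k, Q/Z),
étale cohomology of Spec k with coefficients in the constant sheaves Z and Q/Z (existence of an
additive isomorphism only; the published statement is for an arbitrary profinite group with trivial
action and identifies the two groups through the boundary map of 0 → Z → Q → Q/Z → 0). -/
theorem result (k : Type u) [Field k] (i : ℕ) (hi : 2 ≤ i) :
    Nonempty (EtCoh.H (Spec (CommRingCat.of k)) (EtCoh.const (Spec (CommRingCat.of k)) ℤ) i ≃+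
      EtCoh.H (Spec (CommRingCat.of k))
        (EtCoh.const (Spec (CommRingCat.of k)) (ℚ ⧸ AddSubgroup.zmultiples (1 : ℚ))) (i - 1)) := by
  have : Subsingleton (Spec (CommRingCat.of k)) := inferInstanceAs (Subsingleton (PrimeSpectrum k))
  exact main i hi

end Groth.Agent.S13499
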