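import Groth.Statements.S5008
import Groth.Agent.Unram.Pointwise
import Groth.Agent.Unram.LocalLift


set_option autoImplicit false
universe u
open CategoryTheory CategoryTheory.Limits AlgebraicGeometry TopologicalSpace
open Unram17

namespace Groth.Agent.S5008

/-- Let f : X ⟶ Y be locally of finite presentation and x a point of X. Then f is smooth at x if and
only if for every surjection of local rings B' → B with square-zero kernel, every morphism Spec B ⟶
X sending the closed point to x and every morphism Spec B' ⟶ Y making the square commute, there is a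
lift Spec B' ⟶ X compatible with both. (No Noetherian hypothesis on Y.) -/
theorem result {X Y : Scheme.{u}} (f : X ⟶ Y)
    [LocallyOfFinitePresentation f] (x : ↥X) :
    x ∈ f.smoothLocus ↔ ∀ (B B' : Type u) [CommRing B] [CommRing B'] [IsLocalRing B] [IsLocalRing B'] (φ : B' →+* B),
      Function.Surjective φ → RingHom.ker φ ^ 2 = ⊥ →
      ∀ (α : Spec (CommRingCat.of B) ⟶ X) (β : Spec (CommRingCat.of B') ⟶ Y),
        α.base (IsLocalRing.closedPoint B) = x → Spec.map (CommRingCat.ofHom φ) ≫ β = α ≫ f →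
        ∃ γ : Spec (CommRingCat.of B') ⟶ X, Spec.map (CommRingCat.ofHom φ) ≫ γ = α ∧ γ ≫ f = β := by
  rw [Scheme.Hom.mem_smoothLocus, Groth.Agent.Unram.formallySmooth_iff_lift_local]
  constructor
  · intro H B B' _ _ _ _ φ hφ hker α β hα hcomm
    have hβ := Groth.Agent.Unram.closedPoint_of_comm hφ f α β hcomm
    rw [show α (IsLocalRing.closedPoint B) = x from hα] at hβ
    obtain ⟨a, ha, rfl⟩ := Groth.Agent.Unram.exists_stalk_fac x B α hα
    obtain ⟨b, -, rfl⟩ := Groth.Agent.Unram.exists_stalk_fac (f x) B' β hβ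
    obtain ⟨c, hc₁, hc₂⟩ := H B B' φ hφ hker a.hom b.hom ha
      ((Groth.Agent.Unram.stalk_fac_comm_iff f a b).mp hcomm)
    refine ⟨Spec.map (CommRingCat.ofHom c) ≫ X.fromSpecStalk x, ?_, ?_⟩
    · rw [← Spec.map_comp_assoc, show CommRingCat.ofHom c ≫ CommRingCat.ofHom φ = a from
        CommRingCat.hom_ext hc₁]
    · rw [Category.assoc, ← Scheme.SpecMap_stalkMap_fromSpecStalk, ← Spec.map_comp_assoc]
      exact congrArg (fun ψ => Spec.map ψ ≫ Y.fromSpecStalk (f x)) (CommRingCat.hom_ext hc₂)
  · intro H B B' _ _ _ _ φ hφ hker a b ha hc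
    have : IsLocalHom (CommRingCat.ofHom a).hom := ha
    obtain ⟨γ, hγ₁, hγ₂⟩ := H B B' φ hφ hker
      (Spec.map (CommRingCat.ofHom a) ≫ X.fromSpecStalk x)
      (Spec.map (CommRingCat.ofHom b) ≫ Y.fromSpecStalk (f x))
      (Groth.Agent.Unram.stalk_fac_closedPoint x B _)
      ((Groth.Agent.Unram.stalk_fac_comm_iff f _ _).mpr hc)
    have hγ : γ (IsLocalRing.closedPoint B') = x := by
      have h := Groth.Agent.Unram.closedPoint_of_comm hφ (𝟙 X)
        (Spec.map (CommRingCat.ofHom a) ≫ X.fromSpecStalk x) γ (by rw [hγ₁, Category.comp_id])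
      exact h.trans (Groth.Agent.Unram.stalk_fac_closedPoint x B _)
    obtain ⟨c, -, rfl⟩ := Groth.Agent.Unram.exists_stalk_fac x B' γ hγ
    rw [← Spec.map_comp_assoc] at hγ₁
    rw [Category.assoc, ← Scheme.SpecMap_stalkMap_fromSpecStalk, ← Spec.map_comp_assoc] at hγ₂
    exact ⟨c.hom, congr(CommRingCat.Hom.hom $(Groth.Agent.Unram.stalk_fac_injective _ hγ₁)),
      congr(CommRingCat.Hom.hom $(Groth.Agent.Unram.stalk_fac_injective _ hγ₂))⟩

end Groth.Agent.S5008
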