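import Groth.Statements.S1350
import Groth.Agent.S5008

set_option autoImplicit false
universe u
open FlatMor

namespace Groth.Agent.S1350

open AlgebraicGeometry CategoryTheory Limits in
/-- Retired milestone (weight 0, no credit; kept so that existing proof files which import this module still build). (1) ⇔ (2): let S be locally Noetherian and f locally of finite type (here phrased as locally of
finite presentation, which is equivalent over a locally Noetherian base and needed to speak of the
smooth locus), and let x be a point of the source. Then x lies in the smooth locus of f if and only
if for every surjection of local rings B' → B with square-zero kernel, every morphism Spec B → X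
sending the closed point to x and every morphism Spec B' → S making the square commute, there is a
lift Spec B' → X compatible with both. -/
theorem result {X S : Scheme.{u}} (f : X ⟶ S) [IsLocallyNoetherian S] [LocallyOfFinitePresentation f] (x : X) :
    x ∈ f.smoothLocus ↔ ∀ (B B' : Type u) [CommRing B] [CommRing B'] [IsLocalRing B] [IsLocalRing B'] (φ : B' →+* B),
      Function.Surjective φ → RingHom.ker φ ^ 2 = ⊥ →
      ∀ (α : Spec (CommRingCat.of B) ⟶ X) (β : Spec (CommRingCat.of B') ⟶ S),
        α (IsLocalRing.closedPoint B) = x → Spec.map (CommRingCat.ofHom φ) ≫ β = α ≫ f →
        ∃ γ : Spec (CommRingCat.of B') ⟶ X, Spec.map (CommRingCat.ofHom φ) ≫ γ = α ∧ γ ≫ f = β := by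
  exact Groth.Agent.S5008.result f x

end Groth.Agent.S1350
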