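import Groth.Statements.S13501
import Groth.Agent.EtSh.Compact

set_option autoImplicit false
universe u
open CategoryTheory CategoryTheory.Limits AlgebraicGeometry Opposite
open EtPBC

namespace Groth.Agent.S13501

/-- Let X be a quasi-compact and quasi-separated scheme and F a torsion abelian sheaf on X_et. If Hom(F,
-) commutes with filtered colimits (of shape any small filtered category in the universe of the
sheaf category's morphisms), then F is constructible. This is the converse of the compactness of
constructible sheaves. -/
theorem result (X : Scheme.{u}) [CompactSpace X]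
    [QuasiSeparatedSpace X] (F : EtCoh.Ab X) (hF : EtCoh.IsTorsion F)
    (hc : ∀ (J : Type (u + 1)) [SmallCategory J] [IsFiltered J],
      PreservesColimitsOfShape J (coyoneda.obj (op F))) :
    EtPBC.IsConstructible F := by
  have := hc (EtSh.IndIdx F)
  have hiso := EtSh.isIso_desc F hF
  let d : colimit (EtSh.indDiagram F) ⟶ F := colimit.desc (EtSh.indDiagram F) (EtSh.indCocone F)
  have : IsIso d := hiso
  obtain ⟨j, s, hs⟩ := Types.jointly_surjective_of_isColimit
    (isColimitOfPreserves (coyoneda.obj (op F)) (colimit.isColimit (EtSh.indDiagram F))) (inv d)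
  let S : F ⟶ (EtSh.indDiagram F).obj j := s
  have h1 : S ≫ colimit.ι (EtSh.indDiagram F) j = inv d := hs
  have h2 : colimit.ι (EtSh.indDiagram F) j ≫ d = j.hom := colimit.ι_desc _ _
  let r : (EtSh.indDiagram F).obj j ⟶ F := j.hom
  have hsr : S ≫ r = 𝟙 F := by
    show S ≫ j.hom = 𝟙 F
    rw [← h2, reassoc_of% h1]
    exact IsIso.inv_hom_id d
  have hj : EtPBC.IsConstructible ((EtSh.indDiagram F).obj j) := EtSh.isConstructible_cval j.left
  let φ : (EtSh.indDiagram F).obj j ⟶ (EtSh.indDiagram F).obj j := 𝟙 _ - r ≫ S
  let e : cokernel φ ≅ F :=
    { hom := cokernel.desc φ r (by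
        rw [Preadditive.sub_comp, Category.assoc, hsr, Category.comp_id, Category.id_comp, sub_self])
      inv := S ≫ cokernel.π φ
      hom_inv_id := by
        refine coequalizer.hom_ext ?_
        rw [cokernel.π_desc_assoc, Category.comp_id]
        have h0 := cokernel.condition φ
        rw [Preadditive.sub_comp, Category.id_comp, Category.assoc, sub_eq_zero] at h0
        exact h0.symm
      inv_hom_id := by rw [Category.assoc, cokernel.π_desc, hsr] }
  exact EtSh.isConstructible_of_iso e (EtSh.isConstructible_kernel_cokernel φ hj hj).2

end Groth.Agent.S13501
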