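import Groth.Statements.S13502
import Groth.Agent.ProjCoord.Mult
-- import your own Groth.Agent.* helpers here

set_option autoImplicit false
universe u
open CategoryTheory CategoryTheory.Limits AlgebraicGeometry Opposite
open Constr

namespace Groth.Agent.S13502

set_option linter.style.haveILetI false

lemma exists_power (S : Scheme.{u}) (n : ℕ) :
    ∃ φ : widePullback S (fun _ : Fin n => CohB1.ProjSpaceOver 1 S) (fun _ => CohB1.ProjSpaceOver.toBase 1 S) ⟶
        CohB1.ProjSpaceOver n S,
      IsFinite φ ∧ Surjective φ ∧
        φ ≫ CohB1.ProjSpaceOver.toBase n S = WidePullback.base (fun _ => CohB1.ProjSpaceOver.toBase 1 S) := by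
  induction n with
  | zero =>
    haveI : IsIso (CohB1.ProjSpace.toSpec 0 (ULift.{u} ℤ)) := Groth.Agent.ProjCoord.isIso_baseMap_zero
    haveI : IsIso (CohB1.ProjSpaceOver.toBase 0 S) := by
      delta CohB1.ProjSpaceOver.toBase CohB1.ProjSpaceOver
      infer_instance
    let W := widePullback S (fun _ : Fin 0 => CohB1.ProjSpaceOver 1 S) (fun _ => CohB1.ProjSpaceOver.toBase 1 S)
    let b : W ⟶ S := WidePullback.base _
    let s : S ⟶ W := WidePullback.lift (𝟙 S) (fun j => j.elim0) (fun j => j.elim0)
    have hsb : s ≫ b = 𝟙 S := WidePullback.lift_base _ _ _ _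
    have hbs : b ≫ s = 𝟙 W := WidePullback.hom_ext _ _ _ (fun j => j.elim0) (by
      rw [Category.assoc]
      show b ≫ s ≫ b = 𝟙 W ≫ b
      rw [hsb, Category.comp_id, Category.id_comp])
    haveI : IsIso b := ⟨s, hbs, hsb⟩
    exact ⟨b ≫ inv (CohB1.ProjSpaceOver.toBase 0 S), inferInstance, inferInstance, by simp; rfl⟩
  | succ n ih =>
    obtain ⟨φ, hfin, hsurj, hφ⟩ := ih
    obtain ⟨μ₀, hμ₀, hμ₀t⟩ := Groth.Agent.ProjCoord.exists_mult (R := ULift.{u} ℤ) n
    obtain ⟨μ, hμ, hμt⟩ := Groth.Agent.ProjCoord.exists_baseChange
      (@IsFinite ⊓ @Surjective : MorphismProperty Scheme.{u}) S 1 n (1 + n) μ₀ hμ₀ hμ₀t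
    rw [Nat.add_comm n 1]
    let p := CohB1.ProjSpaceOver.toBase 1 S
    let W' := widePullback S (fun _ : Fin (1 + n) => CohB1.ProjSpaceOver 1 S) (fun _ => p)
    let W := widePullback S (fun _ : Fin n => CohB1.ProjSpaceOver 1 S) (fun _ => p)
    let b' : W' ⟶ S := WidePullback.base _
    let b : W ⟶ S := WidePullback.base _
    let tail : W' ⟶ W := WidePullback.lift b' (fun j => WidePullback.π _ (Fin.natAdd 1 j))
      (fun j => WidePullback.π_arrow _ _)
    let e : W' ⟶ pullback p b := pullback.lift (WidePullback.π _ (Fin.castAdd n (0 : Fin 1))) tail (by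
      rw [WidePullback.π_arrow]; exact (WidePullback.lift_base _ _ _ _).symm)
    let d : pullback p b ⟶ W' := WidePullback.lift (pullback.fst p b ≫ p)
      (fun j => Fin.addCases (fun _ => pullback.fst p b) (fun j => pullback.snd p b ≫ WidePullback.π _ j) j)
      (fun j => by
        induction j using Fin.addCases with
        | left i => simp only [Fin.addCases_left]
        | right i =>
          simp only [Fin.addCases_right, Category.assoc, WidePullback.π_arrow]
          exact pullback.condition.symm)
    have hed : e ≫ d = 𝟙 W' := by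
      refine WidePullback.hom_ext _ _ _ (fun j => ?_) ?_
      · rw [Category.assoc, Category.id_comp]
        refine (congrArg (fun f => e ≫ f) (WidePullback.lift_π _ _ _ _ j)).trans ?_
        induction j using Fin.addCases with
        | left i =>
          simp only [Fin.addCases_left, e, pullback.lift_fst]
          rw [Subsingleton.elim i 0]
        | right i =>
          simp only [Fin.addCases_right, e, pullback.lift_snd_assoc]
          exact WidePullback.lift_π _ _ _ _ _
      · rw [Category.assoc, Category.id_comp]
        refine (congrArg (fun f => e ≫ f) (WidePullback.lift_base _ _ _ _)).trans ?_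
        simp only [e, pullback.lift_fst_assoc]
        exact WidePullback.π_arrow _ _
    have hde : d ≫ e = 𝟙 _ := by
      apply pullback.hom_ext
      · simp only [e, Category.assoc, pullback.lift_fst, Category.id_comp]
        refine (WidePullback.lift_π _ _ _ _ _).trans ?_
        simp only [Fin.addCases_left]
      · simp only [e, Category.assoc, pullback.lift_snd, Category.id_comp]
        refine WidePullback.hom_ext _ _ _ (fun j => ?_) ?_
        · rw [Category.assoc]
          refine (congrArg (fun f => d ≫ f) (WidePullback.lift_π _ _ _ _ j)).trans ?_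
          refine (WidePullback.lift_π _ _ _ _ _).trans ?_
          simp only [Fin.addCases_right]
        · rw [Category.assoc]
          refine (congrArg (fun f => d ≫ f) (WidePullback.lift_base _ _ _ _)).trans ?_
          exact (WidePullback.lift_base _ _ _ _).trans pullback.condition
    haveI : IsIso e := ⟨d, hed, hde⟩
    let mp : pullback p b ⟶ pullback p (CohB1.ProjSpaceOver.toBase n S) :=
      pullback.map _ _ _ _ (𝟙 _) φ (𝟙 _) (by rw [Category.comp_id, Category.id_comp])
        (by rw [Category.comp_id]; exact hφ.symm)
    have hmp : IsFinite mp ∧ Surjective mp :=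
      ⟨MorphismProperty.pullbackMap (P := @IsFinite) inferInstance hfin (by simp) hφ.symm,
        MorphismProperty.pullbackMap (P := @Surjective) inferInstance hsurj (by simp) hφ.symm⟩
    obtain ⟨hμ1, hμ2⟩ := hμ
    haveI := hmp.1
    haveI := hmp.2
    refine ⟨e ≫ mp ≫ μ, inferInstance, inferInstance, ?_⟩
    rw [Category.assoc, Category.assoc, hμt]
    have h1 : mp ≫ pullback.fst (CohB1.ProjSpaceOver.toBase 1 S) (CohB1.ProjSpaceOver.toBase n S) ≫
        CohB1.ProjSpaceOver.toBase 1 S = pullback.fst p b ≫ p := by
      refine (pullback.lift_fst_assoc _ _ _ _).trans ?_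
      rw [Category.comp_id]
    refine (congrArg (fun f => e ≫ f) h1).trans ?_
    refine (pullback.lift_fst_assoc _ _ _ _).trans ?_
    exact WidePullback.π_arrow _ _

/-- For a scheme S and n ≥ 0 there exists a finite surjective S-morphism from the n-fold fibre product
P^1_S ×_S ⋯ ×_S P^1_S to P^n_S (existence of such a morphism only; the published statement names the
morphism sending ((x_1 : y_1), …, (x_n : y_n)) to the coefficients (F_0 : ⋯ : F_n) of the product of
the x_i t + y_i). (The published statement is over an affine base Spec A; this row allows any base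
scheme S: the morphism is defined over the integers and base-changed, and finiteness and
surjectivity are stable under base change.) -/
theorem result (S : Scheme.{u}) (n : ℕ) :
    ∃ φ : widePullback S (fun _ : Fin n => CohB1.ProjSpaceOver 1 S) (fun _ => CohB1.ProjSpaceOver.toBase 1 S) ⟶
        CohB1.ProjSpaceOver n S,
      IsFinite φ ∧ Surjective φ ∧
        φ ≫ CohB1.ProjSpaceOver.toBase n S = WidePullback.base (fun _ => CohB1.ProjSpaceOver.toBase 1 S) := by
  exact exists_power S n

end Groth.Agent.S13502
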