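import Groth.Statements.S13506
import Groth.Agent.HenselCouple.Lift
import Groth.Agent.FEtLib.Monodromy

set_option autoImplicit false
universe u
open CategoryTheory CategoryTheory.Limits AlgebraicGeometry
open Hensel

namespace Groth.Agent.S13506

/-- Let A be a Noetherian ring which is complete for the adic topology of an ideal I, f : X → Spec A
proper and X_0 = X ×_{Spec A} Spec (A/I). Then the projection X_0 → X induces a bijection from the
connected components of X_0 to the connected components of X. -/
theorem result (A : Type u) [CommRing A]
    [IsNoetherianRing A] (I : Ideal A) [IsAdicComplete I A] {X : Scheme.{u}}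
    (f : X ⟶ Spec (CommRingCat.of A)) [IsProper f] :
    Function.Bijective
      (Continuous.connectedComponentsMap
        (pullback.fst f (Spec.map (CommRingCat.ofHom (Ideal.Quotient.mk I)))).continuous) := by
  haveI := Groth.Agent.HenselCouple.henselianRing_map_algMap I f
  haveI := Groth.Agent.HenselCouple.isClosedImmersion_spec_quotient I
  letI := (Groth.Agent.HenselCouple.algMap f).toAlgebra
  haveI : Module.Finite A Γ(X, ⊤) :=
    RingHom.finite_algebraMap.1 (Groth.Agent.HenselCouple.finite_algMap f)
  have hlift := Groth.Agent.HenselCouple.existsUnique_clopen_of_bijOn f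
    (Groth.Agent.HenselCouple.toSpecΓ_connFibres f) I
    (Groth.Agent.Hensel.idempotents_bijOn (Groth.Agent.Hensel.gabberRoot_of_henselianRing (I := I)) Γ(X, ⊤))
    (pullback.fst f (Spec.map (CommRingCat.ofHom (Ideal.Quotient.mk I))))
    (pullback.fst f (Spec.map (CommRingCat.ofHom (Ideal.Quotient.mk I)))).isClosedEmbedding
    (by rw [Scheme.Pullback.range_fst, Groth.Agent.HenselCouple.range_spec_quotient])
  set j := pullback.fst f (Spec.map (CommRingCat.ofHom (Ideal.Quotient.mk I))) with hj
  haveI : IsLocallyNoetherian X := LocallyOfFiniteType.isLocallyNoetherian f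
  haveI : CompactSpace X := QuasiCompact.compactSpace_of_compactSpace f
  haveI : AlgebraicGeometry.IsNoetherian X := { }
  haveI : TopologicalSpace.NoetherianSpace
      ↥(pullback f (Spec.map (CommRingCat.ofHom (Ideal.Quotient.mk I)))) :=
    j.isClosedEmbedding.isInducing.noetherianSpace
  constructor
  · intro c c'
    induction c using Quotient.inductionOn' with | h x => ?_
    induction c' using Quotient.inductionOn' with | h x' => ?_
    intro hcc
    have hcc' : connectedComponent (j x) = connectedComponent (j x') :=
      ConnectedComponents.coe_eq_coe.1 hcc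
    obtain ⟨U, ⟨hU, hUV⟩, -⟩ := hlift _ (Groth.Agent.FEtLib.isClopen_component x)
    have hxU : j x ∈ U := by
      show x ∈ j ⁻¹' U
      rw [hUV]; exact mem_connectedComponent
    have hx' : x' ∈ connectedComponent x := by
      rw [← hUV]
      exact (isPreconnected_connectedComponent.subset_isClopen hU
        ⟨j x, mem_connectedComponent, hxU⟩) (hcc' ▸ mem_connectedComponent)
    exact ConnectedComponents.coe_eq_coe.2 (connectedComponent_eq hx')
  · intro c
    induction c using Quotient.inductionOn' with | h y => ?_
    by_contra hne
    have hem : ∀ x, j x ∉ connectedComponent y := fun x hx => hne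
      ⟨ConnectedComponents.mk x, ConnectedComponents.coe_eq_coe.2 (connectedComponent_eq hx).symm⟩
    have h0 := (hlift ∅ isClopen_empty).unique
      ⟨Groth.Agent.FEtLib.isClopen_component y, Set.eq_empty_of_forall_notMem hem⟩
      ⟨isClopen_empty, Set.preimage_empty⟩
    exact Set.notMem_empty y (h0 ▸ mem_connectedComponent)

end Groth.Agent.S13506
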