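import Groth.Statements.S13507
import Groth.Agent.EtSh.StalkPts
import Groth.Agent.EtSh.ConstStalk
import Groth.Agent.EtSh.Recollement
import Groth.Prelude.Def_EtGm
import Mathlib.RingTheory.Polynomial.Cyclotomic.Roots

set_option autoImplicit false
universe u
open CategoryTheory CategoryTheory.Limits AlgebraicGeometry
open EtCore

namespace Groth.Agent.S13507

open Opposite Groth.Agent.EtSh

set_option backward.isDefEq.respectTransparency.types false

/-- units of global functions as sections of `G_m` -/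
noncomputable def gm {S : Scheme.{u}} (U : S.Etale) (v : Γ(U.left, ⊤)ˣ) : EtCoh.sect (EtCoh.Gm S) U :=
  ULift.up (Additive.ofMul v)

theorem map_gm {S : Scheme.{u}} {U V : S.Etale} (g : V ⟶ U) (v : Γ(U.left, ⊤)ˣ) :
    (EtCoh.Gm S).obj.map g.op (gm U v) = gm V (Units.map g.left.appTop.hom.toMonoidHom v) := rfl

theorem eval_pow_eq {S : Scheme.{u}} (n : ℕ) (hn : 1 ≤ n) (hunit : IsUnit (n : Γ(S, ⊤))) (ζ : Γ(S, ⊤))
    (hζ : Polynomial.aeval ζ (Polynomial.cyclotomic n ℤ) = 0) (K : Type u) [Field K] (e : Γ(S, ⊤) →+* K) :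
    IsPrimitiveRoot (e ζ) n := by
  have : NeZero ((n : ℕ) : K) := ⟨by
    have h := (hunit.map e).ne_zero
    rwa [map_natCast] at h⟩
  rw [← Polynomial.isRoot_cyclotomic_iff, Polynomial.IsRoot, ← Polynomial.map_cyclotomic n (Int.castRingHom K),
    Polynomial.eval_map]
  have h := congrArg e hζ
  rw [map_zero, Polynomial.aeval_def, Polynomial.hom_eval₂] at h
  rwa [show e.comp (algebraMap ℤ Γ(S, ⊤)) = Int.castRingHom K from RingHom.ext_int _ _] at h

theorem exists_open_eq_one {U : Scheme.{u}} (n : ℕ) (hn : IsUnit (n : Γ(U, ⊤))) (z : U) (y : Γ(U, ⊤))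
    (hy : y ^ n = 1) (hz : U.residue z (U.presheaf.germ ⊤ z trivial y) = 1) :
    ∃ O : U.Opens, z ∈ O ∧ O.ι.appTop y = 1 := by
  have hloc : U.presheaf.germ ⊤ z trivial y = 1 := by
    set a := U.presheaf.germ ⊤ z trivial y
    have ha : a ^ n = 1 := by rw [← map_pow, hy, map_one]
    have hu : IsUnit (∑ i ∈ Finset.range n, a ^ i) := by
      refine (IsLocalRing.residue_ne_zero_iff_isUnit _).1 ?_
      show (U.residue z).hom (∑ i ∈ Finset.range n, a ^ i) ≠ 0
      rw [map_sum]
      simp only [map_pow, hz, one_pow, Finset.sum_const, Finset.card_range, nsmul_eq_mul, mul_one]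
      have := ((hn.map (U.presheaf.germ ⊤ z trivial).hom).map (U.residue z).hom).ne_zero
      rwa [map_natCast, map_natCast] at this
    have h := geom_sum_mul a n
    rw [ha, sub_self] at h
    exact sub_eq_zero.1 (hu.mul_right_eq_zero.1 h)
  obtain ⟨(O : U.Opens), hzO, i₁, i₂, he⟩ := U.presheaf.germ_eq z (show z ∈ (⊤ : U.Opens) from trivial)
    (show z ∈ (⊤ : U.Opens) from trivial) y 1 (hloc.trans (map_one _).symm)
  refine ⟨O, hzO, ?_⟩
  have h2 : U.presheaf.map (homOfLE (le_top : O ≤ ⊤)).op y = 1 := by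
    have := he
    rw [map_one] at this
    exact this
  have e : O.ι ''ᵁ ⊤ ≤ O := by rw [Scheme.Hom.image_top_eq_opensRange, Scheme.Opens.opensRange_ι]
  have h3 := congrArg (U.presheaf.map (homOfLE e).op) h2
  rw [map_one, ← ConcreteCategory.comp_apply, ← Functor.map_comp, ← op_comp, homOfLE_comp] at h3
  rw [Scheme.Opens.ι_appTop]
  exact h3

theorem main (S : Scheme.{u}) (n : ℕ) (hn : 1 ≤ n)
    (hunit : IsUnit (n : Γ(S, ⊤))) (ζ : Γ(S, ⊤))
    (hζ : Polynomial.aeval ζ (Polynomial.cyclotomic n ℤ) = 0) :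
    Nonempty (EtCoh.mu S n ≅ EtCoh.const S (ZMod n)) := by
  have hpow : ζ ^ n = 1 := by
    have h := Polynomial.cyclotomic.dvd_X_pow_sub_one n ℤ
    obtain ⟨c, hc⟩ := h
    have h2 := congrArg (Polynomial.aeval ζ) hc
    rw [map_mul, hζ, zero_mul, map_sub, map_pow, Polynomial.aeval_X, map_one] at h2
    exact sub_eq_zero.1 h2
  let T := EtCoh.top S
  let ζu : Γ(S, ⊤)ˣ := Units.ofPowEqOne ζ n hpow (by omega)
  let z : EtCoh.sect (EtCoh.Gm S) T := gm T ζu
  have hz : ((n : ℤ) • z) = 0 := by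
    rw [natCast_zsmul]
    show gm T (ζu ^ n) = gm T 1
    rw [Units.pow_ofPowEqOne]
    rfl
  let h : AddCommGrpCat.of (ULift.{u + 1} (ZMod n)) ⟶ (EtCore.gsec S).obj (EtCoh.Gm S) :=
    AddCommGrpCat.ofHom ((ZMod.lift n ⟨zmultiplesHom _ z, hz⟩).comp AddEquiv.ulift.toAddMonoidHom)
  let ψ : EtCoh.const S (ZMod n) ⟶ EtCoh.Gm S := ((EtCore.constAdj S).homEquiv _ _).symm h
  let C := EtCoh.const S (ZMod n)
  let c : ∀ (U : S.Etale), ZMod n → EtCoh.sect C U := fun U k =>
    C.obj.map (MorphismProperty.Over.homMk U.hom (Category.comp_id _) : U ⟶ T).op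
      ((EtCore.constAdj S).unit.app _ (ULift.up k))
  have hψtop : ∀ k, ψ.hom.app (op T) ((EtCore.constAdj S).unit.app _ (ULift.up k)) = h (ULift.up k) := fun k => by
    have := (EtCore.constAdj S).homEquiv_unit (X := AddCommGrpCat.of (ULift.{u + 1} (ZMod n))) (Y := EtCoh.Gm S) (f := ψ)
    rw [Equiv.apply_symm_apply] at this
    exact (congrArg (fun r : AddCommGrpCat.of (ULift.{u + 1} (ZMod n)) ⟶ _ => r (ULift.up k)) this).symm
  have hψ : ∀ (U : S.Etale) (k : ℕ), ψ.hom.app (op U) (c U (k : ZMod n)) =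
      gm U (Units.map U.hom.appTop.hom.toMonoidHom ζu ^ k) := fun U k => by
    refine (NatTrans.naturality_apply ψ.hom _ _).trans ?_
    refine (congrArg _ (hψtop _)).trans ?_
    have hk : h (ULift.up (k : ZMod n)) = k • z := by
      show (ZMod.lift n ⟨zmultiplesHom _ z, hz⟩) (k : ZMod n) = _
      refine (congrArg (ZMod.lift n ⟨zmultiplesHom _ z, hz⟩) (Int.cast_natCast (R := ZMod n) k).symm).trans ?_
      refine (ZMod.lift_coe n _ (k : ℤ)).trans ?_
      simp only [zmultiplesHom_apply, natCast_zsmul]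
    refine (congrArg _ hk).trans ((map_nsmul _ k z).trans ?_)
    rfl
  have : NeZero n := ⟨by omega⟩
  have hψp : ψ ≫ EtCoh.powMap S n = 0 := by
    refine ((EtCore.constAdj S).homEquiv _ _).injective ?_
    refine AddCommGrpCat.ext fun ⟨k⟩ => ?_
    obtain ⟨k, rfl⟩ := ZMod.natCast_zmod_surjective k
    rw [Adjunction.homEquiv_unit, Adjunction.homEquiv_unit]
    show (ψ ≫ EtCoh.powMap S n).hom.app (op T) ((EtCore.constAdj S).unit.app _ (ULift.up (k : ZMod n))) = 0
    rw [show EtCoh.powMap S n = n • 𝟙 _ from rfl, Preadditive.comp_nsmul, Category.comp_id]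
    show n • ψ.hom.app (op T) ((EtCore.constAdj S).unit.app _ (ULift.up (k : ZMod n))) = 0
    rw [hψtop, ← map_nsmul]
    have : n • (ULift.up (k : ZMod n) : ULift.{u + 1} (ZMod n)) = 0 := by
      ext
      simp
    rw [this, map_zero]
  let φ : C ⟶ EtCoh.mu S n := kernel.lift _ ψ hψp
  have hφ : φ ≫ EtCoh.muι S n = ψ := kernel.lift_ι _ _ _
  suffices IsIso φ from ⟨(asIso φ).symm⟩
  refine isIso_of_stalk_exists _ fun y => ?_
  obtain ⟨Ω, _, _, ξ, hξ⟩ := exists_geometric_point y
  refine ⟨Ω, inferInstance, inferInstance, ξ, Set.eq_of_mem_singleton (hξ.le ⟨default, rfl⟩), ?_⟩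
  have hc : ∀ (U : S.Etale) (t : Fib ξ U) (k : ZMod n), germ ξ C t (c U k) = constGerm ξ _ (ULift.up k) :=
    fun U t k => by
      refine (germ_map C _ t _).trans ?_
      rw [constGerm, ConcreteCategory.comp_apply]
      exact congrArg (fun v => germ ξ C v _) (subsingleton_fib_top ξ _ _)
  let ev : ∀ (U : S.Etale) (w : U.left), Γ(U.left, ⊤) →+* U.left.residueField w := fun U w =>
    ((U.left.presheaf.germ ⊤ w trivial) ≫ U.left.residue w).hom
  have hroot : ∀ (U : S.Etale) (w : U.left), IsPrimitiveRoot (ev U w (U.hom.appTop ζ)) n := fun U w =>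
    eval_pow_eq n hn hunit ζ hζ _ ((ev U w).comp U.hom.appTop.hom)
  refine (ConcreteCategory.isIso_iff_bijective _).2 ⟨?_, ?_⟩
  · refine (injective_iff_map_eq_zero ((EtCoh.stalk ξ).map φ).hom).2 fun p hp => ?_
    obtain ⟨⟨k⟩, rfl⟩ := (bijective_constGerm ξ _).2 p
    obtain ⟨k, rfl⟩ := ZMod.natCast_zmod_surjective k
    have h1 := congrArg ((EtCoh.stalk ξ).map (EtCoh.muι S n)) hp
    rw [map_zero, ← ConcreteCategory.comp_apply, ← Functor.map_comp, hφ, ← hc T (topLift ξ), stalk_map_germ,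
      hψ, germ_eq_zero_iff] at h1
    obtain ⟨W, g, w, -, hW⟩ := h1
    rw [map_gm] at hW
    have h2 := congrArg (fun v => ev W w (Units.val v)) (Additive.ofMul.injective (ULift.up_injective hW))
    simp only [map_pow, Units.coe_map, Units.val_pow_eq_pow_val, Units.val_one, map_one] at h2
    have h3 : g.left.appTop (T.hom.appTop ζ) = W.hom.appTop ζ := by
      rw [← ConcreteCategory.comp_apply, ← Scheme.Hom.comp_appTop, MorphismProperty.Over.w g]
    have h4 : ev W w (W.hom.appTop ζ) ^ k = 1 := by rw [← h3]; exact h2.trans (map_one _)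
    have h5 : (k : ZMod n) = 0 := (ZMod.natCast_eq_zero_iff k n).2 ((hroot W w).dvd_of_pow_eq_one k h4)
    rw [h5]
    exact map_zero _
  · intro p
    obtain ⟨U, t, r, rfl⟩ := germ_surjective (EtCoh.mu S n) p
    obtain ⟨x, hx⟩ : ∃ x : Γ(U.left, ⊤)ˣ, gm U x = (EtCoh.muι S n).hom.app (op U) r :=
      ⟨Additive.toMul ((EtCoh.muι S n).hom.app (op U) r).down, rfl⟩
    have hxn : x ^ n = 1 := by
      have h1 := congrArg (fun k : EtCoh.mu S n ⟶ EtCoh.Gm S => k.hom.app (op U) r)
        (kernel.condition (EtCoh.powMap S n))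
      have h2 : n • gm U x = 0 := by
        rw [hx]
        refine Eq.trans ?_ h1
        show _ = (EtCoh.muι S n ≫ (n • 𝟙 (EtCoh.Gm S))).hom.app (op U) r
        rw [Preadditive.comp_nsmul, Category.comp_id]
        rfl
      exact Additive.ofMul.injective (ULift.up_injective h2)
    obtain ⟨k, -, hk⟩ := (hroot U (fpt t)).eq_pow_of_pow_eq_one (ξ := ev U (fpt t) x) (by
      rw [← map_pow, ← Units.val_pow_eq_pow_val, hxn, Units.val_one, map_one])
    let ζU : Γ(U.left, ⊤)ˣ := Units.map U.hom.appTop.hom.toMonoidHom ζu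
    let y' : Γ(U.left, ⊤)ˣ := x * (ζU ^ k)⁻¹
    have hζU : ζU ^ n = 1 := by
      show Units.map U.hom.appTop.hom.toMonoidHom ζu ^ n = 1
      rw [← map_pow, Units.pow_ofPowEqOne, map_one]
    have hy : (y' : Γ(U.left, ⊤)) ^ n = 1 := by
      have : y' ^ n = 1 := by
        show (x * (ζU ^ k)⁻¹) ^ n = 1
        rw [mul_pow, hxn, inv_pow, ← pow_mul, mul_comm k n, pow_mul, hζU, one_pow, inv_one, mul_one]
      rw [← Units.val_pow_eq_pow_val, this, Units.val_one]
    have hy1 : U.left.residue (fpt t) (U.left.presheaf.germ ⊤ (fpt t) trivial y') = 1 := by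
      have hm : y' * ζU ^ k = x := inv_mul_cancel_right _ _
      have h6 := congrArg (fun v => ev U (fpt t) (Units.val v)) hm
      simp only [Units.val_mul, Units.val_pow_eq_pow_val, map_mul, map_pow] at h6
      rw [← hk] at h6
      refine (mul_eq_right₀ (pow_ne_zero k ((hroot U (fpt t)).ne_zero (by omega)))).1 ?_
      exact h6
    have hnU : IsUnit (n : Γ(U.left, ⊤)) := by simpa using hunit.map U.hom.appTop.hom
    obtain ⟨O, htO, hO⟩ := exists_open_eq_one n hnU (fpt t) y' hy hy1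
    have : Etale U.hom := U.prop
    let W : S.Etale := Scheme.Etale.mk (O.ι ≫ U.hom)
    let g : W ⟶ U := MorphismProperty.Over.homMk O.ι rfl
    obtain ⟨t', ht'⟩ := exists_fib_map g ⟨fpt t, htO⟩ t rfl
    refine ⟨germ ξ C t' (c W k), ?_⟩
    rw [← ht', ← germ_map, stalk_map_germ]
    refine congrArg (germ ξ _ t') ?_
    have hinj : Function.Injective ((EtCoh.muι S n).hom.app (op W)) := by
      have : Mono ((sheafToPresheaf _ _).map (EtCoh.muι S n)) := by
        have : Mono (EtCoh.muι S n) := inferInstanceAs (Mono (kernel.ι _))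
        infer_instance
      exact (AddCommGrpCat.mono_iff_injective _).1 (inferInstanceAs (Mono (((sheafToPresheaf _ _).map (EtCoh.muι S n)).app (op W))))
    refine hinj ?_
    refine (congrArg (fun m : C ⟶ EtCoh.Gm S => m.hom.app (op W) (c W k)) hφ).trans ?_
    rw [hψ, NatTrans.naturality_apply (EtCoh.muι S n).hom g.op r, ← hx, map_gm]
    refine congrArg (gm W) (Units.ext ?_)
    have h7 : g.left.appTop (y' : Γ(U.left, ⊤)) = 1 := hO
    have h8 : (y' : Γ(U.left, ⊤)) * (ζU ^ k : Γ(U.left, ⊤)ˣ) = x := congrArg Units.val (inv_mul_cancel_right x (ζU ^ k))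
    show Units.val (Units.map W.hom.appTop.hom.toMonoidHom ζu ^ k) = g.left.appTop (x : Γ(U.left, ⊤))
    rw [← h8, map_mul, h7, one_mul, Units.val_pow_eq_pow_val, Units.val_pow_eq_pow_val, map_pow]
    exact congrArg (fun m : Γ(S, ⊤) ⟶ Γ(W.left, ⊤) => m ζ ^ k) (Scheme.Hom.comp_appTop O.ι U.hom)

/-- Let S be a scheme and n ≥ 1 with n invertible in the ring of global functions Γ(S, O_S). If Γ(S,
O_S) contains a root ζ of the n-th cyclotomic polynomial, then the sheaf μ_n of n-th roots of unity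
on the small étale site of S is isomorphic to the constant sheaf with value Z/n (existence of an
isomorphism only; the published isomorphism is the one sending 1 to ζ). -/
theorem result (S : Scheme.{u}) (n : ℕ) (hn : 1 ≤ n)
    (hunit : IsUnit (n : Γ(S, ⊤))) (ζ : Γ(S, ⊤))
    (hζ : Polynomial.aeval ζ (Polynomial.cyclotomic n ℤ) = 0) :
    Nonempty (EtCoh.mu S n ≅ EtCoh.const S (ZMod n)) := by
  exact main S n hn hunit ζ hζ

end Groth.Agent.S13507
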