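import Groth.Statements.S1352
import Groth.Agent.GeomIrredStrata.Hypersurface

set_option autoImplicit false
universe u
open FlatMor

namespace Groth.Agent.S1352

/-- For a domain A and a polynomial P in finitely many variables over A which is irreducible over an
algebraic closure of the fraction field of A: Then there is a nonzero f in A such that for every
ring map from A[1/f] to a field (in the same universe) the image of P is irreducible. (The source
leaves the nonvanishing of f implicit; for f = 0 the conclusion would be vacuous.) -/
theorem result {A : Type u} [CommRing A] [IsDomain A] {n : ℕ} (P : MvPolynomial (Fin n) A)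
    (hP : Irreducible (MvPolynomial.map (algebraMap A (AlgebraicClosure (FractionRing A))) P)) :
    ∃ f : A, f ≠ 0 ∧ ∀ (κ : Type u) [Field κ] (φ : Localization.Away f →+* κ),
      Irreducible (MvPolynomial.map (φ.comp (algebraMap A (Localization.Away f))) P) := by
  let Ω := AlgebraicClosure (FractionRing A)
  have : FaithfulSMul A Ω := (faithfulSMul_iff_algebraMap_injective A Ω).2 (by
    rw [IsScalarTower.algebraMap_eq A (FractionRing A) Ω]
    exact (algebraMap (FractionRing A) Ω).injective.comp (IsFractionRing.injective A (FractionRing A)))
  obtain ⟨c, hc, h⟩ := GeomIrredStrata.exists_irreducible A Ω P hP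
  refine ⟨c, hc, fun κ _ φ => ?_⟩
  let k := AlgebraicClosure κ
  let ψ : A →+* κ := φ.comp (algebraMap A (Localization.Away c))
  let : Algebra A k := ((algebraMap κ k).comp ψ).toAlgebra
  have hck : algebraMap A k c ≠ 0 :=
    (((IsLocalization.Away.algebraMap_isUnit c).map φ).map (algebraMap κ k)).ne_zero
  have hirr := h k hck
  rw [show algebraMap A k = (algebraMap κ k).comp ψ from rfl, ← MvPolynomial.map_map] at hirr
  have hloc : ∀ p : MvPolynomial (Fin n) κ, IsUnit (MvPolynomial.map (algebraMap κ k) p) → IsUnit p := by
    intro p hp
    rw [MvPolynomial.isUnit_iff_totalDegree_of_isReduced] at hp ⊢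
    refine ⟨?_, ?_⟩
    · rw [MvPolynomial.coeff_map] at hp
      exact isUnit_iff_ne_zero.2 fun h0 => hp.1.ne_zero (by rw [h0, map_zero])
    · rw [← hp.2]
      unfold MvPolynomial.totalDegree
      rw [MvPolynomial.support_map_of_injective _ (algebraMap κ k).injective]
  have : IsLocalHom (MvPolynomial.map (σ := Fin n) (algebraMap κ k)) := ⟨hloc⟩
  exact hirr.of_map

end Groth.Agent.S1352
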