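import Groth.Statements.S13523
import Groth.Agent.FibDescLib.LocalBase

set_option autoImplicit false
universe u
open CategoryTheory CategoryTheory.Limits Opposite TopologicalSpace
open FibDesc

namespace Groth.Agent.S13523

/-- A surjective local homeomorphism `f : X ⟶ S` of topological spaces is universally of cohomological
1-descent for abelian sheaves. -/
theorem result {X S : TopCat.{u}} (f : X ⟶ S)
    (hf : IsLocalHomeomorph f) (hsurj : Function.Surjective f) : FibDesc.IsUnivCohDescentMap f := by
  refine Groth.Agent.FibDescLib.isUnivCohDescentMap_of_local_sections f fun s => ?_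
  obtain ⟨x, rfl⟩ := hsurj s
  obtain ⟨e, hx, he⟩ := hf x
  refine ⟨⟨e.target, e.open_target⟩, TopCat.ofHom ⟨fun y => e.symm y.1,
    e.continuousOn_symm.comp_continuous continuous_subtype_val fun y => y.2⟩, ?_, ?_⟩
  · show f x ∈ e.target
    rw [he]
    exact e.map_source hx
  · ext y
    show f (e.symm y.1) = y.1
    rw [he]
    exact e.right_inv y.2

end Groth.Agent.S13523
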