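import Groth.Statements.S13532
import Groth.Agent.DimFormula.Scheme
import Groth.Agent.FpqcDescent.Specialization
import Groth.Agent.AffCompl.Basic
import Mathlib.RingTheory.AlgebraicIndependent.Transcendental
-- import your own Groth.Agent.* helpers here

set_option autoImplicit false
universe u
open CategoryTheory CategoryTheory.Limits AlgebraicGeometry
open ResProp

namespace Groth.Agent.S13532Aux

open AlgebraicGeometry CategoryTheory TopologicalSpace

theorem finite_of_discrete {Z : Scheme.{u}} [IsNoetherian Z] (h : ∀ a b : Z, a ⤳ b → a = b) :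
    Finite Z := by
  obtain ⟨T, hT, hTc, hTi, hTU⟩ := NoetherianSpace.exists_finite_set_isClosed_irreducible
    (α := Z) (s := Set.univ) isClosed_univ
  haveI := hT.to_subtype
  refine Finite.of_surjective (fun t : T => (hTi _ t.2).genericPoint) fun z => ?_
  obtain ⟨t, ht, hzt⟩ := hTU.le (Set.mem_univ z)
  refine ⟨⟨t, ht⟩, h _ _ ?_⟩
  have h1 := (hTi _ ht).isGenericPoint_genericPoint_closure
  rw [(hTc _ ht).closure_eq] at h1
  exact h1.specializes hzt

theorem two_le {Z : Scheme.{u}} {a b c : Z} (hcb : c ⤳ b) (hcb' : c ≠ b) (hba : b ⤳ a) (hba' : b ≠ a) :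
    2 ≤ Order.coheight a := by
  have h1 : b < c := lt_of_le_not_ge ((Scheme.le_iff_specializes).2 hcb) fun h =>
    hcb' (inseparable_iff_specializes_and.2 ⟨hcb, (Scheme.le_iff_specializes).1 h⟩).eq
  have h2 : a < b := lt_of_le_not_ge ((Scheme.le_iff_specializes).2 hba) fun h =>
    hba' (inseparable_iff_specializes_and.2 ⟨hba, (Scheme.le_iff_specializes).1 h⟩).eq
  calc (2 : ℕ∞) = 1 + 1 := by norm_num
    _ ≤ Order.coheight b + 1 := add_le_add (le_add_self.trans (Order.coheight_add_one_le h1)) le_rfl
    _ ≤ _ := Order.coheight_add_one_le h2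

theorem exists_gen {Z : Scheme.{u}} [IsLocallyNoetherian Z] {W : Z.Opens} (hW : Dense (W : Set Z)) (z : Z) :
    ∃ g : Z, g ∈ W ∧ g ⤳ z := by
  obtain ⟨g, hg⟩ := FpqcDescent.exists_specializes_of_mem_closure_range W.ι (x := z)
    (by rw [Scheme.Opens.range_ι]; exact hW z)
  exact ⟨W.ι g, g.2, hg⟩

theorem residueFieldMap_surjective {X Y : Scheme.{u}} (f : Y ⟶ X) (U : X.Opens) (hiso : IsIso (f ∣_ U))
    (g : (f ⁻¹ᵁ U).toScheme) : Function.Surjective (f.residueFieldMap g.1).hom := by
  have h1 : IsIso (f.stalkMap g.1) :=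
    ((MorphismProperty.isomorphisms _).arrow_mk_iso_iff (morphismRestrictStalkMap f U g)).1
      (show IsIso ((f ∣_ U).stalkMap g) from inferInstance)
  have h2 : Function.Surjective (f.stalkMap g.1 ≫ Y.residue g.1).hom :=
    (Scheme.residue_surjective Y g.1).comp (ConcreteCategory.bijective_of_isIso (f.stalkMap g.1)).2
  rw [← Scheme.residue_residueFieldMap] at h2
  intro b
  obtain ⟨a, ha⟩ := h2 b
  exact ⟨(X.residue (f g.1)).hom a, ha⟩

end Groth.Agent.S13532Aux

namespace Groth.Agent.S13532

/-- A morphism of finite type between locally Noetherian schemes which is birational (an isomorphism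
over a dense open of the target whose preimage is dense in the source) has finite fibres over all
points of the target of codimension at most 1, i.e. whose local ring has Krull dimension at most 1. -/
theorem result {X Y : Scheme.{u}}
    [IsLocallyNoetherian X] [IsLocallyNoetherian Y] (f : Y ⟶ X) [LocallyOfFiniteType f] [QuasiCompact f]
    (U : X.Opens) (hU : Dense (U : Set X)) (hU' : Dense ((f ⁻¹ᵁ U : Y.Opens) : Set Y)) (hiso : IsIso (f ∣_ U))
    (x : X) (hx : ringKrullDim (X.presheaf.stalk x) ≤ 1) :
    (f.base ⁻¹' {x}).Finite := by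
  have hdimY : ∀ y : Y, f.base y = x → ringKrullDim (Y.presheaf.stalk y) ≤ 1 := by
    intro y hy
    obtain ⟨n, -, hn⟩ := DimFormula.stalk_ineq f y 0 (fun ξ hξ _ => by
      obtain ⟨g, hgU, hg⟩ := S13532Aux.exists_gen hU' ξ
      have heq : closure {ξ} = closure {g} :=
        Set.Subset.antisymm (closure_minimal (Set.singleton_subset_iff.2 (specializes_iff_mem_closure.1 hg))
          isClosed_closure) (hξ.2 (isIrreducible_singleton.closure)
          (closure_minimal (Set.singleton_subset_iff.2 (specializes_iff_mem_closure.1 hg)) isClosed_closure))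
      have he : ξ = g := ((isGenericPoint_closure (x := ξ)).eq
        (show IsGenericPoint g (closure {ξ}) from heq.symm))
      subst he
      letI := (f.residueFieldMap ξ).hom.toAlgebra
      haveI : Algebra.IsAlgebraic (X.residueField (f.base ξ)) (Y.residueField ξ) := ⟨fun a => by
        obtain ⟨b, rfl⟩ := S13532Aux.residueFieldMap_surjective f U hiso ⟨ξ, hgU⟩ a
        exact isAlgebraic_algebraMap b⟩
      exact (trdeg_eq_zero (R := X.residueField (f.base ξ)) (A := Y.residueField ξ)).le.trans (by simp))
    rw [hy] at hn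
    calc ringKrullDim (Y.presheaf.stalk y) ≤ ringKrullDim (Y.presheaf.stalk y) + (n : WithBot ℕ∞) :=
          le_add_of_nonneg_right (by simp)
      _ ≤ ringKrullDim (X.presheaf.stalk x) + (0 : ℕ) := hn
      _ ≤ 1 := by simpa using hx
  rcases em (x ∈ U) with hxU | hxU
  · refine Set.Subsingleton.finite fun a ha b hb => ?_
    have ha' : f.base a = x := ha
    have hb' : f.base b = x := hb
    have h1 := ((f ∣_ U).homeomorph.injective (a₁ := ⟨a, show f.base a ∈ U from ha'.symm ▸ hxU⟩)
      (a₂ := ⟨b, show f.base b ∈ U from hb'.symm ▸ hxU⟩) (Subtype.ext (by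
        show ((f ∣_ U) _).1 = ((f ∣_ U) _).1
        rw [morphismRestrict_base]
        exact ha'.trans hb'.symm)))
    exact congrArg Subtype.val h1
  · have hdisc : ∀ a b : f.fiber x, a ⤳ b → a = b := fun a b hab => by
      by_contra hne
      have hab' : f.fiberι x a ⤳ f.fiberι x b := hab.map (f.fiberι x).continuous
      have hne' : f.fiberι x a ≠ f.fiberι x b := fun e => hne ((f.fiberι x).isEmbedding.injective e)
      have hmem : ∀ c : f.fiber x, f.base (f.fiberι x c) = x := fun c => by
        have : f.fiberι x c ∈ Set.range (f.fiberι x) := ⟨c, rfl⟩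
        rw [Scheme.Hom.range_fiberι] at this
        exact this
      obtain ⟨g, hgU, hg⟩ := S13532Aux.exists_gen hU' (f.fiberι x a)
      have h2 := S13532Aux.two_le hg (fun e => hxU (hmem a ▸ (show f.base (f.fiberι x a) ∈ U from e ▸ hgU))) hab' hne'
      have h3 := hdimY _ (hmem b)
      rw [ringKrullDim_stalk_eq_coheight] at h3
      exact absurd (h2.trans (WithBot.coe_le_coe.1 h3)) (by norm_num)
    haveI : LocallyOfFiniteType (f.fiberToSpecResidueField x) :=
      MorphismProperty.pullback_snd _ _ inferInstance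
    haveI : IsLocallyNoetherian (f.fiber x) :=
      LocallyOfFiniteType.isLocallyNoetherian (f.fiberToSpecResidueField x)
    haveI : AlgebraicGeometry.IsNoetherian (f.fiber x) := {}
    haveI := S13532Aux.finite_of_discrete hdisc
    rw [show f.base ⁻¹' {x} = Set.range (f.fiberι x) from (Scheme.Hom.range_fiberι f x).symm]
    exact Set.finite_range _

end Groth.Agent.S13532
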