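import Groth.Statements.S13568
import Groth.Agent.AlgStB.Algebraic
import Groth.Agent.AlgStB.Points
import Groth.Agent.Fib.FpPaste

set_option autoImplicit false
universe u
open CategoryTheory AlgebraicGeometry
open AlgSt

namespace Groth.Agent.S13568

/-- The composition of two universally injective morphisms of algebraic stacks is universally injective
(universally injective: every base change to an algebraic stack is injective on points). -/
theorem result {S : Scheme.{u}} {𝒳 𝒴 𝒵 : AlgSt.Cat S}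
    (h𝒳 : AlgSt.IsAlgStack Scheme.fppfPrecoverage 𝒳) (h𝒴 : AlgSt.IsAlgStack Scheme.fppfPrecoverage 𝒴)
    (h𝒵 : AlgSt.IsAlgStack Scheme.fppfPrecoverage 𝒵)
    (f : 𝒳 ⥤ᵇ 𝒴) (g : 𝒴 ⥤ᵇ 𝒵) (hf : AlgSt.IsUnivInjective Scheme.fppfPrecoverage f)
    (hg : AlgSt.IsUnivInjective Scheme.fppfPrecoverage g) :
    AlgSt.IsUnivInjective Scheme.fppfPrecoverage (BasedFunctor.comp f g) := by
  intro 𝒲 h𝒲 k a b h
  have hA := Groth.Agent.AlgStB.isAlgStack_fp h𝒵.isStack h𝒵.diag h𝒲 h𝒴 k g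
  have hb := Groth.Agent.AlgStB.bijective_map _ (Groth.Agent.Fib.isEquivOver_fpAssoc k g f)
  obtain ⟨a', rfl⟩ := hb.2 a
  obtain ⟨b', rfl⟩ := hb.2 b
  refine congrArg _ (hf _ hA (FibCat.fpSnd k g) (hg 𝒲 h𝒲 k ?_))
  rw [← Groth.Agent.AlgStB.map_comp_apply, ← Groth.Agent.AlgStB.map_comp_apply,
    Groth.Agent.Fib.fpAssoc_fpFst] at h
  rw [← Groth.Agent.AlgStB.map_comp_apply, ← Groth.Agent.AlgStB.map_comp_apply]
  exact h

end Groth.Agent.S13568
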