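import Groth.Statements.S13575
import Groth.Agent.AlgStB.QuotHom
import Groth.Agent.Fib.Fp

set_option autoImplicit false
universe u
open CategoryTheory AlgebraicGeometry MonoidalCategory
open AlgSt

namespace Groth.Agent.S13575
set_option backward.isDefEq.respectTransparency false
set_option maxHeartbeats 1000000

/-- For a group action: let a group scheme `G` over `S` act on a scheme `X` over `S` and let `π : X ⟶
[X/G]` be the canonical morphism to the quotient stack. Then the square with vertices `G ×_S X`,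
`X`, `X`, `[X/G]`, whose sides are the action and the projection `G ×_S X ⟶ X` followed by `π`, is
2-cartesian for some 2-isomorphism `π ∘ a ≅ π ∘ pr₂`: the induced functor from `G ×_S X` to the
2-fibre product `X ×_{[X/G]} X` is an equivalence over `(Sch/S)`. Existence of the 2-isomorphism
only; the canonical one is right multiplication by the group element. (The published statement is
for a groupoid in algebraic spaces; this row is the action groupoid of a group scheme, with torsors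
given as schemes.) -/
theorem result {S : Scheme.{u}} (G : Over S) [GrpObj G]
    (X : Over S) (aX : AlgGrp.Action G X) :
    ∃ e : BasedFunctor.comp (AlgSt.ofSpMap ((AlgSp.yon S).map aX.act)) (AlgSt.quotMap Scheme.fppfPrecoverage G aX) ≅
        BasedFunctor.comp (AlgSt.ofSpMap ((AlgSp.yon S).map (CartesianMonoidalCategory.snd G X)))
          (AlgSt.quotMap Scheme.fppfPrecoverage G aX),
      FibCat.IsTwoCartOver (AlgSt.ofSpMap ((AlgSp.yon S).map aX.act))
        (AlgSt.ofSpMap ((AlgSp.yon S).map (CartesianMonoidalCategory.snd G X))) e := by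
  open MonoidalCategory CartesianMonoidalCategory MonObj in
  let gg : ∀ a : (AlgSt.ofSch (G ⊗ X)).obj, a.base ⟶ G := fun a => a.sec.down ≫ fst G X
  let A₁ := BasedFunctor.comp (AlgSt.ofSpMap ((AlgSp.yon S).map aX.act)) (AlgSt.quotMap Scheme.fppfPrecoverage G aX)
  let A₂ := BasedFunctor.comp (AlgSt.ofSpMap ((AlgSp.yon S).map (CartesianMonoidalCategory.snd G X)))
          (AlgSt.quotMap Scheme.fppfPrecoverage G aX)
  have hg : ∀ a : (AlgSt.ofSch (G ⊗ X)).obj,
      lift (gg a) (𝟙 a.base ≫ a.sec.down ≫ snd G X) ≫ aX.act = a.sec.down ≫ aX.act := fun a => by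
    rw [Category.id_comp, ← comp_lift_assoc, lift_fst_snd, Category.id_comp]
  have hg' : ∀ a : (AlgSt.ofSch (G ⊗ X)).obj,
      lift (gg a)⁻¹ (𝟙 a.base ≫ a.sec.down ≫ aX.act) ≫ aX.act = a.sec.down ≫ snd G X := fun a => by
    rw [← hg a, Category.id_comp, Category.id_comp, ← AlgGrp.Action.lift_mul_act, inv_mul_cancel,
      AlgGrp.Action.lift_one_act]
  let app : ∀ a, A₁.obj a ≅ A₂.obj a := fun a =>
    { hom := Groth.Agent.AlgStB.QuotHom.homOf (𝟙 a.base) (gg a) (hg a)
      inv := Groth.Agent.AlgStB.QuotHom.homOf (𝟙 a.base) (gg a)⁻¹ (hg' a)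
      hom_inv_id := by
        apply AlgSt.QuotObj.hom_ext
        · exact Category.id_comp _
        · change Groth.Agent.AlgStB.QuotHom.rTop _ _ ≫ Groth.Agent.AlgStB.QuotHom.rTop _ _ = 𝟙 (G ⊗ a.base)
          rw [Groth.Agent.AlgStB.QuotHom.rTop_comp, Category.id_comp, Category.id_comp, mul_inv_cancel,
            Groth.Agent.AlgStB.QuotHom.rTop_one, MonoidalCategory.whiskerLeft_id]
      inv_hom_id := by
        apply AlgSt.QuotObj.hom_ext
        · exact Category.id_comp _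
        · change Groth.Agent.AlgStB.QuotHom.rTop _ _ ≫ Groth.Agent.AlgStB.QuotHom.rTop _ _ = 𝟙 (G ⊗ a.base)
          rw [Groth.Agent.AlgStB.QuotHom.rTop_comp, Category.id_comp, Category.id_comp, inv_mul_cancel,
            Groth.Agent.AlgStB.QuotHom.rTop_one, MonoidalCategory.whiskerLeft_id] }
  have hnat : ∀ {a b} (φ : a ⟶ b), A₁.map φ ≫ (app b).hom = (app a).hom ≫ A₂.map φ := by
    intro a b φ
    have hφ : φ.hom ≫ gg b = gg a := by
      have : φ.hom ≫ b.sec.down = a.sec.down := congrArg ULift.down φ.map_sec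
      rw [← Category.assoc, this]
    apply AlgSt.QuotObj.hom_ext
    · change φ.hom ≫ 𝟙 _ = 𝟙 _ ≫ φ.hom
      rw [Category.comp_id, Category.id_comp]
    · change (G ◁ φ.hom) ≫ Groth.Agent.AlgStB.QuotHom.rTop _ _ = Groth.Agent.AlgStB.QuotHom.rTop _ _ ≫ (G ◁ φ.hom)
      rw [← Groth.Agent.AlgStB.QuotHom.rTop_one φ.hom, Groth.Agent.AlgStB.QuotHom.rTop_comp,
        Groth.Agent.AlgStB.QuotHom.rTop_comp, hφ, _root_.one_mul, MonObj.comp_one, _root_.mul_one, Category.comp_id,
        Category.id_comp]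
  let e : A₁ ≅ A₂ := Groth.Agent.Fib.isoMk app hnat
    (fun a => IsHomLift.of_fac' _ _ _ rfl rfl (by simp; rfl))
  refine ⟨e, ?_⟩
  let Φ : AlgSt.ofSch (G ⊗ X) ⥤ᵇ FibCat.fp (AlgSt.quotMap Scheme.fppfPrecoverage G aX) (AlgSt.quotMap Scheme.fppfPrecoverage G aX) :=
    FibCat.fpLift (AlgSt.ofSpMap ((AlgSp.yon S).map aX.act)) (AlgSt.ofSpMap ((AlgSp.yon S).map (CartesianMonoidalCategory.snd G X))) e
  have : Φ.toFunctor.Faithful := ⟨fun {a b} φ ψ h =>
    Stk.EltObj.hom_ext (congrArg (fun m : Φ.obj a ⟶ Φ.obj b => m.hom.fst.hom) h :)⟩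
  have : Φ.toFunctor.Full := ⟨fun {a b} m => by
    let f : a.base ⟶ b.base := m.hom.fst.hom
    have hw : (AlgSt.quotMap Scheme.fppfPrecoverage G aX).map m.hom.fst ≫ (app b).hom =
        (app a).hom ≫ (AlgSt.quotMap Scheme.fppfPrecoverage G aX).map m.hom.snd := m.hom.w
    have hf : f = m.hom.snd.hom := by
      have : f ≫ 𝟙 b.base = 𝟙 a.base ≫ m.hom.snd.hom := congrArg AlgSt.QuotObj.Hom.base hw
      simpa using this
    have hgf : f ≫ gg b = gg a := by
      have h : (G ◁ f) ≫ Groth.Agent.AlgStB.QuotHom.rTop (𝟙 b.base) (gg b) =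
          Groth.Agent.AlgStB.QuotHom.rTop (𝟙 a.base) (gg a) ≫ (G ◁ m.hom.snd.hom) :=
        congrArg AlgSt.QuotObj.Hom.top hw
      rw [← Groth.Agent.AlgStB.QuotHom.rTop_one f, ← Groth.Agent.AlgStB.QuotHom.rTop_one m.hom.snd.hom,
        Groth.Agent.AlgStB.QuotHom.rTop_comp, Groth.Agent.AlgStB.QuotHom.rTop_comp] at h
      have h' := congrArg (fun q => lift (1 : a.base ⟶ G) (𝟙 a.base) ≫ q ≫ fst G b.base) h
      simp only [← Category.assoc, Groth.Agent.AlgStB.QuotHom.lift_rTop, lift_fst] at h'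
      simp at h'
      exact h'.trans (lift_fst _ _)
    have hX : f ≫ b.sec.down ≫ snd G X = a.sec.down ≫ snd G X := by
      rw [hf]
      exact congrArg ULift.down m.hom.snd.map_sec
    have hsec : f ≫ b.sec.down = a.sec.down := by
      apply CartesianMonoidalCategory.hom_ext
      · rw [Category.assoc]; exact hgf
      · rw [Category.assoc]; exact hX
    refine ⟨⟨f, congrArg ULift.up hsec⟩, Groth.Agent.Fib.fp_hom_ext (Stk.EltObj.hom_ext rfl) (Stk.EltObj.hom_ext ?_)⟩
    exact hf⟩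
  refine Groth.Agent.Fib.isEquivOver_of_exists_iso_over Φ fun w => ?_
  obtain ⟨⟨a, b, α⟩, hα⟩ := w
  let f : a.base ⟶ b.base := α.hom.base
  have : IsIso f := ⟨α.inv.base, congrArg AlgSt.QuotObj.Hom.base α.hom_inv_id,
    congrArg AlgSt.QuotObj.Hom.base α.inv_hom_id⟩
  obtain ⟨g, hgx, htop⟩ := Groth.Agent.AlgStB.QuotHom.exists_homOf (x := a.sec.down) (x' := b.sec.down) α.hom
  let c : (AlgSt.ofSch (G ⊗ X)).obj := ⟨a.base, ⟨lift g (f ≫ b.sec.down)⟩⟩
  let e₁ : (AlgSt.ofSpMap ((AlgSp.yon S).map aX.act)).obj c ≅ a :=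
    { hom := ⟨𝟙 _, congrArg ULift.up ((Category.id_comp _).trans hgx.symm)⟩
      inv := ⟨𝟙 _, congrArg ULift.up ((Category.id_comp _).trans hgx)⟩
      hom_inv_id := Stk.EltObj.hom_ext (Category.id_comp _)
      inv_hom_id := Stk.EltObj.hom_ext (Category.id_comp _) }
  let e₂ : (AlgSt.ofSpMap ((AlgSp.yon S).map (CartesianMonoidalCategory.snd G X))).obj c ≅ b :=
    { hom := ⟨f, congrArg ULift.up (lift_snd g (f ≫ b.sec.down)).symm⟩
      inv := ⟨inv f, congrArg ULift.up (show inv f ≫ (lift g (f ≫ b.sec.down) ≫ snd G X) = b.sec.down by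
        rw [lift_snd, IsIso.inv_hom_id_assoc])⟩
      hom_inv_id := Stk.EltObj.hom_ext (IsIso.hom_inv_id f)
      inv_hom_id := Stk.EltObj.hom_ext (IsIso.inv_hom_id f) }
  have hgg : gg c = g := lift_fst _ _
  let i : Φ.obj c ≅ (⟨⟨a, b, α⟩, hα⟩ : (FibCat.fp (AlgSt.quotMap Scheme.fppfPrecoverage G aX) (AlgSt.quotMap Scheme.fppfPrecoverage G aX)).obj) :=
    Groth.Agent.Fib.fpIsoMk e₁ e₂ (by
      apply AlgSt.QuotObj.hom_ext
      · change 𝟙 _ ≫ f = 𝟙 _ ≫ f
        rfl
      · change (G ◁ 𝟙 _) ≫ α.hom.top = Groth.Agent.AlgStB.QuotHom.rTop (𝟙 a.base) (gg c) ≫ (G ◁ f)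
        rw [MonoidalCategory.whiskerLeft_id, Category.id_comp, hgg, htop, ← Groth.Agent.AlgStB.QuotHom.rTop_one f,
          Groth.Agent.AlgStB.QuotHom.rTop_comp, MonObj.comp_one, _root_.mul_one, Category.id_comp])
  exact ⟨_, i, Groth.Agent.Fib.fp_iso_isHomLift_id i (IsHomLift.of_fac' _ _ _ rfl rfl (by simp [i, e₁]; rfl))⟩

end Groth.Agent.S13575
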