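import Groth.Statements.S9738
import Groth.Agent.FlatCrit.Basic
import Mathlib.AlgebraicGeometry.Morphisms.Flat
import Mathlib.AlgebraicGeometry.IdealSheaf.Subscheme
import Mathlib.AlgebraicGeometry.Noetherian

set_option autoImplicit false
universe u
open FlatMor

namespace Groth.Agent.S9738

open scoped TensorProduct

open AlgebraicGeometry CategoryTheory Limits in
/-- For a morphism f : X ⟶ S between locally Noetherian schemes, an ideal sheaf I on S with closed
subscheme Z, and Z_n the closed subscheme cut out by I^(n+1): if each base change X ×_S Z_n ⟶ Z_n is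
flat, then f is flat at each point of X lying over Z. -/
theorem result {X S : Scheme.{u}} (f : X ⟶ S) [IsLocallyNoetherian X] [IsLocallyNoetherian S]
    (I : S.IdealSheafData) (h : ∀ n : ℕ, Flat (pullback.snd f (I ^ (n + 1)).subschemeι)) (x : X) (hx : f x ∈ I.support) :
    (f.stalkMap x).hom.Flat := by
  obtain ⟨V₀, hV, hxV, -⟩ := TopologicalSpace.Opens.isBasis_iff_nbhd.mp S.isBasis_affineOpens
    (show f x ∈ (⊤ : S.Opens) from trivial)
  obtain ⟨V, rfl⟩ : ∃ V : S.Opens, V = V₀ := ⟨V₀, rfl⟩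
  obtain ⟨U₀, hU, hxU, hUV⟩ := TopologicalSpace.Opens.isBasis_iff_nbhd.mp X.isBasis_affineOpens
    (show x ∈ f ⁻¹ᵁ V from hxV)
  obtain ⟨U, rfl⟩ : ∃ U : X.Opens, U = U₀ := ⟨U₀, rfl⟩
  algebraize [(f.appLE V U hUV).hom]
  let J : Ideal Γ(S, V) := I.ideal ⟨V, hV⟩
  let q := (hU.primeIdealOf ⟨x, hxU⟩).asIdeal
  let p := (hV.primeIdealOf ⟨f x, hxV⟩).asIdeal
  have hqp : q.under Γ(S, V) = p :=
    congr($(IsAffineOpen.comap_primeIdealOf_appLE V hV U hU hUV hxU).1)
  have hflat : ∀ n : ℕ, Module.Flat (Γ(S, V) ⧸ J ^ (n + 1))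
      ((Γ(S, V) ⧸ J ^ (n + 1)) ⊗[Γ(S, V)] Γ(X, U)) := by
    intro n
    let c : Spec (CommRingCat.of (Γ(S, V) ⧸ J ^ (n + 1))) ⟶ (I ^ (n + 1)).subscheme :=
      (I ^ (n + 1)).subschemeCover.f ⟨V, hV⟩
    let m := Spec.map (CommRingCat.ofHom (algebraMap Γ(S, V) (Γ(S, V) ⧸ J ^ (n + 1))))
    let φS := Spec.map (CommRingCat.ofHom (algebraMap Γ(S, V) Γ(X, U)))
    have hc : c ≫ (I ^ (n + 1)).subschemeι = m ≫ hV.fromSpec := by
      exact ((I ^ (n + 1)).subschemeCover_map_subschemeι ⟨V, hV⟩).trans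
        ((I ^ (n + 1)).glueDataObjι_ι ⟨V, hV⟩)
    let k : pullback f (m ≫ hV.fromSpec) ⟶ pullback f (I ^ (n + 1)).subschemeι :=
      pullback.lift (pullback.fst _ _) (pullback.snd _ _ ≫ c)
        (by rw [Category.assoc, hc, pullback.condition])
    have hk : IsPullback k (pullback.snd f (m ≫ hV.fromSpec))
        (pullback.snd f (I ^ (n + 1)).subschemeι) c := by
      refine IsPullback.of_right (h₁₂ := pullback.fst f _) ?_ (pullback.lift_snd ..)
        (IsPullback.of_hasPullback f _)
      rw [pullback.lift_fst, hc]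
      exact IsPullback.of_hasPullback f _
    have h1 : Flat (pullback.snd f (m ≫ hV.fromSpec)) := MorphismProperty.of_isPullback hk (h n)
    have hw : φS ≫ hV.fromSpec = hU.fromSpec ≫ f := hV.SpecMap_appLE_fromSpec f hU hUV
    let l : pullback m φS ⟶ pullback f (m ≫ hV.fromSpec) :=
      pullback.lift (pullback.snd m φS ≫ hU.fromSpec) (pullback.fst m φS)
        (by rw [Category.assoc, ← hw, pullback.condition_assoc])
    have hl : IsPullback l (pullback.snd m φS) (pullback.fst f (m ≫ hV.fromSpec)) hU.fromSpec := by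
      refine IsPullback.of_right (h₁₂ := pullback.snd f (m ≫ hV.fromSpec)) ?_ (pullback.lift_fst ..)
        (IsPullback.of_hasPullback f (m ≫ hV.fromSpec)).flip
      rw [pullback.lift_snd, ← hw]
      exact IsPullback.of_isLimit (pullbackIsPullbackOfCompMono m φS hV.fromSpec)
    have : IsOpenImmersion l := MorphismProperty.of_isPullback hl.flip inferInstance
    have h2 : Flat (pullback.fst m φS) := by
      rw [show pullback.fst m φS = l ≫ pullback.snd f (m ≫ hV.fromSpec) from
        (pullback.lift_snd ..).symm]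
      infer_instance
    rw [← pullbackSpecIso_hom_fst', MorphismProperty.cancel_left_of_respectsIso (P := @Flat),
      Flat.SpecMap_iff] at h2
    exact RingHom.flat_algebraMap_iff.mp h2
  have := IsLocallyNoetherian.component_noetherian (X := S) ⟨V, hV⟩
  have := IsLocallyNoetherian.component_noetherian (X := X) ⟨U, hU⟩
  let Bq := Localization.AtPrime q
  have hJq : J ≤ p := by
    intro a ha
    rw [Scheme.IdealSheafData.mem_support_iff_of_mem (U := ⟨V, hV⟩) hxV] at hx
    by_contra hap
    have h1 : f x ∈ S.basicOpen a := by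
      rw [show f x = hV.fromSpec (hV.primeIdealOf ⟨f x, hxV⟩) from
        (hV.fromSpec_primeIdealOf ⟨f x, hxV⟩).symm]
      show hV.primeIdealOf ⟨f x, hxV⟩ ∈ hV.fromSpec ⁻¹ᵁ S.basicOpen a
      rw [hV.fromSpec_preimage_basicOpen]
      exact hap
    exact (Scheme.mem_zeroLocus_iff _ _ _).mp hx a ha h1
  have hJ : J.map (algebraMap Γ(S, V) Bq) ≤ Ideal.jacobson ⊥ := by
    rw [IsLocalRing.jacobson_eq_maximalIdeal _ bot_ne_top, Ideal.map_le_iff_le_comap]
    intro a ha
    rw [Ideal.mem_comap, IsScalarTower.algebraMap_apply Γ(S, V) Γ(X, U) Bq,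
      IsLocalization.AtPrime.to_map_mem_maximal_iff Bq q]
    have : a ∈ q.under Γ(S, V) := by rw [hqp]; exact hJq ha
    exact this
  have hAq : Module.Flat Γ(S, V) Bq := by
    refine Groth.Agent.FlatCrit.flat_of_lTensor_injective_mod_pow (S := Bq) (I := J) hJ ?_
    intro n N'
    cases n with
    | zero =>
      have : Subsingleton (Γ(S, V) ⧸ J ^ 0) := by
        rw [pow_zero, Ideal.one_eq_top]; exact Submodule.Quotient.subsingleton_iff.mpr rfl
      have : Subsingleton N' := ⟨fun a b ↦ Subtype.ext (Subsingleton.elim _ _)⟩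
      intro a b _
      exact Subsingleton.elim a b
    | succ n =>
      have := hflat n
      have h1 := Groth.Agent.FlatCrit.lTensor_injective_of_flat_quotient_pow
        (M := Γ(X, U)) (n + 1) N'
      have h2 := Groth.Agent.FlatCrit.lTensor_baseChange_injective (S := Γ(X, U))
        (M := Γ(X, U)) N'.subtype Bq h1
      let e : Bq ⊗[Γ(X, U)] Γ(X, U) ≃ₗ[Γ(S, V)] Bq :=
        (TensorProduct.rid Γ(X, U) Bq).restrictScalars Γ(S, V)
      have comm : ∀ z, (e.toLinearMap.rTensor _) (N'.subtype.lTensor _ z) =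
          N'.subtype.lTensor Bq (e.toLinearMap.rTensor N' z) := fun z ↦ by
        rw [← LinearMap.comp_apply, ← LinearMap.comp_apply, LinearMap.rTensor_comp_lTensor,
          LinearMap.lTensor_comp_rTensor]
      intro a b hab
      obtain ⟨a, rfl⟩ := (e.rTensor N').surjective a
      obtain ⟨b, rfl⟩ := (e.rTensor N').surjective b
      congr 1
      exact h2 ((e.rTensor _).injective ((comm a).trans (hab.trans (comm b).symm)))
  letI : (hU.primeIdealOf ⟨x, hxU⟩).asIdeal.LiesOver p := ⟨hqp.symm⟩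
  let := Localization.AtPrime.algebraOfLiesOver p q
  refine (RingHom.Flat.respectsIso.arrow_mk_iso_iff
    (IsAffineOpen.arrowStalkMapIso f V hV U hU hUV hxU)).mpr ?_
  exact RingHom.flat_algebraMap_iff.mpr
    ((Module.flat_iff_of_isLocalization (Localization.AtPrime p) p.primeCompl Bq).mpr hAq)

end Groth.Agent.S9738
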