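import Groth.Statements.S13593
import Groth.Agent.S10138
import Groth.Agent.AlgStB.CoverDescent

set_option autoImplicit false
universe u
open CategoryTheory AlgebraicGeometry MonoidalCategory
open AlgSt

namespace Groth.Agent.S13593

/-- Let `B` be an algebraic space over `S` and `G` a group algebraic space over `B`. The functor from
the category of fppf `G`-torsors (torsors that are algebraic spaces) to the category of
`𝒢/ℬ`-torsors (torsors given as fppf sheaves, `𝒢`, `ℬ` the underlying sheaves), which views an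
algebraic space as a sheaf, is an equivalence of categories over `(Sch/S)_{fppf}`; here it is the
inclusion of the full subcategory on the objects whose torsor is an algebraic space. -/
theorem result (S : Scheme.{u}) (B : AlgSp.Sp S) (hB : AlgSp.IsAlgSpace B)
    (G : Over B) [GrpObj G] (hG : AlgSp.IsAlgSpace G.left) :
    FibCat.IsEquivOver
      (AlgSt.subIncl (AlgSt.SpBG Scheme.fppfPrecoverage G) (fun A => AlgSp.IsAlgSpace A.P.left)) := by
  have hall : ∀ A : (AlgSt.SpBG Scheme.fppfPrecoverage G).obj, AlgSp.IsAlgSpace A.P.left := by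
    intro A
    obtain ⟨R, hR, hs⟩ := A.loc
    let Sv : Sieve A.base := (Sieve.overEquiv A.base).symm (Sieve.generate R)
    have hSv : Sv ∈ (QuotSh.J Scheme.fppfPrecoverage S) A.base := by
      rw [GrothendieckTopology.mem_over_iff]
      exact ((Sieve.overEquiv A.base).apply_symm_apply (Sieve.generate R)).symm ▸ Precoverage.generate_mem_toGrothendieck hR
    obtain ⟨ι, V, k, hcov, hk⟩ := Groth.Agent.AlgStB.exists_cover_of_mem_J hSv
    refine Groth.Agent.S10138.result S ⟨_, AlgSp.IsAlgSpace.yon_obj A.base⟩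
      (fun i => ⟨_, AlgSp.IsAlgSpace.yon_obj (V i)⟩) (fun i => (AlgSp.yon S).map (k i)) hcov A.P.left A.π.left
      fun i P fst snd sq => ?_
    obtain ⟨T', a, f, hf, haf⟩ := (Sieve.overEquiv_symm_iff _ _).1 (hk i)
    obtain ⟨s, hs'⟩ := hs f hf
    let W : Over S := Over.mk (f ≫ A.base.hom)
    let w : W ⟶ A.base := Over.homMk f rfl
    let aW : V i ⟶ W := Over.homMk a (by
      show a ≫ f ≫ A.base.hom = _
      rw [← Category.assoc, haf, Over.w (k i)])
    have haW : aW ≫ w = k i := Over.OverMorphism.ext haf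
    let bi : (AlgSp.yon S).obj (V i) ⟶ B := (AlgSp.yon S).map (k i) ≫ A.b
    let si : Over.mk bi ⟶ A.P := Over.homMk ((AlgSp.yon S).map aW ≫ s) (by
      change _ = (AlgSp.yon S).map (k i) ≫ A.b
      rw [Category.assoc, show A.P.hom = A.π.left ≫ A.b from (Over.w A.π).symm, reassoc_of% hs',
        ← Functor.map_comp_assoc]
      exact congrArg (fun t => (AlgSp.yon S).map t ≫ A.b) haW)
    let ki : Over.mk bi ⟶ Over.mk A.b := AlgSt.bHom (k i) rfl
    have hsi : si ≫ A.π = ki := by
      apply Over.OverMorphism.ext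
      change ((AlgSp.yon S).map aW ≫ s) ≫ A.π.left = (AlgSp.yon S).map (k i)
      rw [Category.assoc, hs', ← Functor.map_comp]
      exact congrArg _ haW
    have sq₂ : IsPullback ((G ◁ si) ≫ A.act.act) (CartesianMonoidalCategory.snd G (Over.mk bi)) A.π ki := by
      rw [← hsi]
      exact ((AlgSt.isPullback_whiskerLeft' (G := G) si).paste_horiz A.cart :)
    have hfor := sq₂.map (Over.forget B)
    have hprod := (AlgSt.isPullback_fst_snd' G (Over.mk bi)).map (Over.forget B)
    have hone := (Over.mkIdTerminal (X := B)).uniqueUpToIso CartesianMonoidalCategory.isTerminalTensorUnit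
    have hspace : AlgSp.IsAlgSpace (G ⊗ Over.mk bi : Over B).left :=
      Groth.Agent.AlgSpc.isAlgSpace_of_isPullback hG
        (hB.of_iso ((Over.forget B).mapIso hone)) (AlgSp.IsAlgSpace.yon_obj (V i)) hprod
    exact hspace.of_iso (hfor.isoIsPullback _ _ sq)
  haveI : (AlgSt.subIncl (AlgSt.SpBG Scheme.fppfPrecoverage G) (fun A => AlgSp.IsAlgSpace A.P.left)).toFunctor.Full :=
    ObjectProperty.full_ι _
  haveI : (AlgSt.subIncl (AlgSt.SpBG Scheme.fppfPrecoverage G) (fun A => AlgSp.IsAlgSpace A.P.left)).toFunctor.Faithful :=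
    ObjectProperty.faithful_ι _
  refine Groth.Agent.Fib.isEquivOver_of_exists_iso_over _ fun η => ⟨⟨η, hall η⟩, Iso.refl _, IsHomLift.id rfl⟩

end Groth.Agent.S13593
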