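import Groth.Statements.S13597
import Groth.Agent.QuotSch.Basic
import Mathlib.RingTheory.Invariant.Galois
import Mathlib.AlgebraicGeometry.ResidueField

set_option autoImplicit false
universe u
open CategoryTheory AlgebraicGeometry
open SGA1

namespace Groth.Agent.S13597

open AlgebraicGeometry CategoryTheory CategoryTheory.Limits

set_option backward.isDefEq.respectTransparency.types false

theorem aux_ker {X : Scheme.{u}} {U : X.Opens} (hU : IsAffineOpen U) {x : X} (hx : x ∈ U) :
    RingHom.ker (X.evaluation U x hx).hom = (hU.primeIdealOf ⟨x, hx⟩).asIdeal := by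
  rw [hU.primeIdealOf_eq_map_closedPoint]
  ext a
  exact (IsLocalRing.residue_eq_zero_iff _)

theorem aux_div {X : Scheme.{u}} {U : X.Opens} (hU : IsAffineOpen U) {x : X} (hx : x ∈ U)
    (z : X.residueField x) : ∃ a b : Γ(X, U), (X.evaluation U x hx).hom b ≠ 0 ∧
      z = (X.evaluation U x hx).hom a / (X.evaluation U x hx).hom b := by
  let _ := X.presheaf.algebra_section_stalk ⟨x, hx⟩
  have := hU.isLocalization_stalk ⟨x, hx⟩
  obtain ⟨w, rfl⟩ := X.residue_surjective x z
  obtain ⟨a, ⟨b, hb⟩, rfl⟩ := IsLocalization.exists_mk'_eq (hU.primeIdealOf ⟨x, hx⟩).asIdeal.primeCompl w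
  have hb' : (X.evaluation U x hx).hom b ≠ 0 := fun h => hb (by
    rw [← aux_ker hU hx]
    exact h)
  refine ⟨a, b, hb', ?_⟩
  rw [eq_div_iff hb']
  exact ((X.residue x).hom.map_mul _ _).symm.trans (congrArg _
    (IsLocalization.mk'_spec (M := (hU.primeIdealOf ⟨x, hx⟩).asIdeal.primeCompl)
      (X.presheaf.stalk x) a ⟨b, hb⟩))

theorem aux_evalCongr {X : Scheme.{u}} {U : X.Opens} {x y : X} (e : y = x) (hy : y ∈ U) (hx : x ∈ U)
    (b : Γ(X, U)) : (X.residueFieldCongr e).inv ((X.evaluation U x hx) b) = (X.evaluation U y hy) b := by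
  subst e
  simp

theorem aux_fromSpec_inj {X : Scheme.{u}} {U : X.Opens} (hU : IsAffineOpen U) {x y : X} (hx : x ∈ U)
    (hy : y ∈ U) (e : (hU.primeIdealOf ⟨x, hx⟩).asIdeal = (hU.primeIdealOf ⟨y, hy⟩).asIdeal) : x = y := by
  have := congrArg hU.fromSpec (PrimeSpectrum.ext e)
  rwa [hU.fromSpec_primeIdealOf, hU.fromSpec_primeIdealOf] at this


/-- Let a finite group G act on a scheme X and let p : X ⟶ Y be a quotient of X by G (affine,
G-invariant, sections of O_Y = G-invariant sections of O_X). For a point x of X with image y, the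
residue field κ(x) is a normal algebraic extension of κ(y) through the map induced by p, and the
stabilizer of x in G maps onto the group of κ(y)-automorphisms of κ(x): every automorphism τ of κ(x)
over κ(y) is the map on residue fields induced by some g ∈ G with g·x = x (composed with the
identification of the residue fields at g·x and x). -/
theorem result {X Y : Scheme.{u}} {G : Type u}
    [Group G] [Finite G] (ρ : G →* Aut X) (p : X ⟶ Y) (hp : SGA1.IsQuot ρ p) (x : X) :
    (letI := (p.residueFieldMap x).hom.toAlgebra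
     Normal (Y.residueField (p.base x)) (X.residueField x)) ∧
    ∀ τ : X.residueField x ≅ X.residueField x,
      p.residueFieldMap x ≫ τ.hom = p.residueFieldMap x →
      ∃ (g : G) (e : (ρ g).hom.base x = x),
        τ.hom = (X.residueFieldCongr e).inv ≫ (ρ g).hom.residueFieldMap x := by
  obtain ⟨U, hU, hyU, -⟩ := exists_isAffineOpen_mem_and_subset (x := p.base x) (U := ⊤) trivial
  have := hp.affine
  have hV : IsAffineOpen (p ⁻¹ᵁ U) := hU.preimage p
  let evY := (Y.evaluation U (p.base x) hyU).hom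
  let evX := (X.evaluation (p ⁻¹ᵁ U) x hyU).hom
  have hnat : ∀ a, (p.residueFieldMap x).hom (evY a) = evX ((p.app U).hom a) :=
    fun a => Scheme.evaluation_naturality_apply p x hyU a
  let := Groth.Agent.QuotSch.sectionsAction hp U
  let := (p.app U).hom.toAlgebra
  have : SMulCommClass G Γ(Y, U) Γ(X, p ⁻¹ᵁ U) := ⟨fun g a s => by
    change (Groth.Agent.QuotSch.act hp U g).hom ((p.app U).hom a * s) = (p.app U).hom a * (Groth.Agent.QuotSch.act hp U g).hom s
    rw [map_mul, Groth.Agent.QuotSch.act_app]⟩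
  have : Algebra.IsInvariant Γ(Y, U) Γ(X, p ⁻¹ᵁ U) G :=
    ⟨fun s h => Groth.Agent.QuotSch.mem_range_of_act hp U s h⟩
  let P : Ideal Γ(Y, U) := RingHom.ker evY
  let Q : Ideal Γ(X, p ⁻¹ᵁ U) := RingHom.ker evX
  have : Q.IsPrime := RingHom.ker_isPrime _
  have : Q.LiesOver P := ⟨Ideal.ext fun a => by
    change evY a = 0 ↔ evX ((p.app U).hom a) = 0
    exact (map_eq_zero (p.residueFieldMap x).hom).symm.trans (by rw [hnat])⟩
  have : P.IsPrime := RingHom.ker_isPrime _
  let eY : Γ(Y, U) ⧸ P →+* Y.residueField (p.base x) := Ideal.Quotient.lift P evY fun a ha => ha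
  let eX : Γ(X, p ⁻¹ᵁ U) ⧸ Q →+* X.residueField x := Ideal.Quotient.lift Q evX fun a ha => ha
  let := eY.toAlgebra
  let := eX.toAlgebra
  have : FaithfulSMul (Γ(Y, U) ⧸ P) (Y.residueField (p.base x)) :=
    (faithfulSMul_iff_algebraMap_injective _ _).2 (RingHom.lift_injective_of_ker_le_ideal _ _ le_rfl)
  have : FaithfulSMul (Γ(X, p ⁻¹ᵁ U) ⧸ Q) (X.residueField x) :=
    (faithfulSMul_iff_algebraMap_injective _ _).2 (RingHom.lift_injective_of_ker_le_ideal _ _ le_rfl)
  have : IsFractionRing (Γ(Y, U) ⧸ P) (Y.residueField (p.base x)) := IsFractionRing.of_field _ _ fun z => by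
    obtain ⟨a, b, -, rfl⟩ := aux_div hU hyU z
    exact ⟨Ideal.Quotient.mk P a, Ideal.Quotient.mk P b, rfl⟩
  have : IsFractionRing (Γ(X, p ⁻¹ᵁ U) ⧸ Q) (X.residueField x) := IsFractionRing.of_field _ _ fun z => by
    obtain ⟨a, b, -, rfl⟩ := aux_div hV hyU z
    exact ⟨Ideal.Quotient.mk Q a, Ideal.Quotient.mk Q b, rfl⟩
  let algKL : Algebra (Y.residueField (p.base x)) (X.residueField x) := (p.residueFieldMap x).hom.toAlgebra
  let : Algebra (Γ(Y, U) ⧸ P) (X.residueField x) := ((p.residueFieldMap x).hom.comp eY).toAlgebra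
  have : IsScalarTower (Γ(Y, U) ⧸ P) (Y.residueField (p.base x)) (X.residueField x) := IsScalarTower.of_algebraMap_eq' rfl
  have : IsScalarTower (Γ(Y, U) ⧸ P) (Γ(X, p ⁻¹ᵁ U) ⧸ Q) (X.residueField x) := IsScalarTower.of_algebraMap_eq fun a => by
    obtain ⟨a, rfl⟩ := Ideal.Quotient.mk_surjective a
    exact hnat a
  refine ⟨Ideal.IsFractionRing.normal G P Q (Y.residueField (p.base x)) (X.residueField x), fun τ hτ => ?_⟩
  let σ : X.residueField x ≃ₐ[Y.residueField (p.base x)] X.residueField x :=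
    AlgEquiv.ofRingEquiv (f := τ.commRingCatIsoToRingEquiv) fun a => congr($hτ a)
  obtain ⟨⟨g, hg⟩, hgσ⟩ := IsFractionRing.stabilizerHom_surjective G P Q (Y.residueField (p.base x)) (X.residueField x) σ
  have hσb : ∀ b, τ.hom.hom (evX b) = evX ((Groth.Agent.QuotSch.act hp U g).hom b) := fun b => by
    have h1 := IsFractionRing.stabilizerHom_apply_apply_mk G P Q (Y.residueField (p.base x)) (X.residueField x) ⟨g, hg⟩ b
    rw [hgσ] at h1
    exact h1
  have hgx : (ρ g⁻¹).hom x ∈ p ⁻¹ᵁ U := SGA1.preimage_le_of_inv ρ p hp.inv g⁻¹ U hyU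
  have hnatg : ∀ b, ((ρ g⁻¹).hom.residueFieldMap x).hom ((X.evaluation (p ⁻¹ᵁ U) _ hgx).hom b) =
      evX ((Groth.Agent.QuotSch.act hp U g).hom b) := fun b => by
    refine (Scheme.evaluation_naturality_apply (ρ g⁻¹).hom x hgx b).trans ?_
    change (X.presheaf.germ _ x _ ≫ X.residue x).hom _ = (X.presheaf.germ _ x _ ≫ X.residue x).hom _
    simp only [Groth.Agent.QuotSch.act, Scheme.Hom.appLE, CommRingCat.hom_comp, RingHom.comp_apply]
    exact congrArg _ (TopCat.Presheaf.germ_res_apply _ _ _ _ _).symm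
  have e : (ρ g⁻¹).hom.base x = x := by
    refine aux_fromSpec_inj hV hgx hyU ?_
    rw [← aux_ker hV hgx, ← aux_ker hV hyU]
    ext b
    rw [RingHom.mem_ker, RingHom.mem_ker]
    refine (map_eq_zero ((ρ g⁻¹).hom.residueFieldMap x).hom).symm.trans ?_
    rw [hnatg b, ← hσb]
    exact map_eq_zero_iff _ τ.commRingCatIsoToRingEquiv.injective
  refine ⟨g⁻¹, e, CommRingCat.hom_ext (RingHom.ext fun z => ?_)⟩
  obtain ⟨a, b, -, rfl⟩ := aux_div hV hyU z
  have hb : ∀ b, τ.hom.hom (evX b) = ((X.residueFieldCongr e).inv ≫ (ρ g⁻¹).hom.residueFieldMap x).hom (evX b) := fun b => by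
    rw [hσb, ← hnatg, CommRingCat.comp_apply]
    exact congrArg _ (aux_evalCongr e hgx hyU b).symm
  rw [map_div₀, map_div₀]
  exact congrArg₂ (· / ·) (hb a) (hb b)

end Groth.Agent.S13597
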