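import Groth.Statements.S1360
import Groth.Agent.InfNbhd.Fibre
import Groth.Agent.SmoothPt.Basic
import Groth.Agent.S9738
import Groth.Agent.UnramFibre.Basic


set_option autoImplicit false
universe u
open FlatMor

namespace Groth.Agent.S1360

open AlgebraicGeometry CategoryTheory Limits in
/-- Let S be locally Noetherian, f : X → S of finite type, and Z the closed subscheme of S cut out by an
ideal sheaf I. If the base change of f to every infinitesimal neighbourhood of Z is étale, then
every point of X over Z has an open neighbourhood on which f is étale. -/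
theorem result {X S : Scheme.{u}} (f : X ⟶ S) [IsLocallyNoetherian S] [LocallyOfFinitePresentation f] [QuasiCompact f]
    (I : S.IdealSheafData) (h : ∀ n : ℕ, Etale (pullback.snd f (I ^ (n + 1)).subschemeι)) (x : X) (hx : f x ∈ I.support) :
    ∃ U : X.Opens, x ∈ U ∧ Etale (U.ι ≫ f) := by
  have : IsLocallyNoetherian X := LocallyOfFiniteType.isLocallyNoetherian f
  have hflat : (f.stalkMap x).hom.Flat :=
    Groth.Agent.S9738.result f I (fun n => by have := h n; infer_instance) x hx
  have h0 := h 0
  rw [zero_add, pow_one] at h0
  have hfib : Etale (f.fiberToSpecResidueField (f x)) :=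
    InfNbhd.fiberToSpecResidueField_of_pullback_subschemeι @Etale f I (f x) hx h0
  have hmem : x ∈ f.smoothLocus :=
    SmoothPt.mem_smoothLocus_of_flat_of_fiber f hflat
      (by rw [(f.fiberToSpecResidueField (f x)).smoothLocus_eq_top]; trivial)
  have := hfib
  have hur : (f.stalkMap x).hom.FormallyUnramified :=
    UnramFibre.formallyUnramified_stalkMap_of_fibre f x
  exact (Unram.etale_nhd_iff f x).mpr ⟨hmem, hur⟩

end Groth.Agent.S1360
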