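import Groth.Statements.S13602
import Groth.Agent.GrpdQ.Norm
import Mathlib

set_option autoImplicit false
universe u
open CategoryTheory AlgebraicGeometry
open SymProd

namespace Groth.Agent.S13602

/-- Let f : X ⟶ S be a morphism of schemes satisfying (AF): every finite set of points of X over a
single point of S lies in an affine open of X. Then for every d ≥ 0 and every point x of the d-fold
fibre power X ×_S ⋯ ×_S X, some affine open of the fibre power contains the whole orbit of x under
the symmetric group on d letters permuting the factors. (With the existence of a quotient by a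
finite group whose orbits lie in affine opens, this is the existence of the symmetric power
Sym^d(X/S) for X/S satisfying (AF).) -/
theorem result {X S : Scheme.{u}} (f : X ⟶ S) (hAF : SymProd.IsAF f)
    (d : ℕ) (x : ↥(SymProd.fibPow f d)) :
    ∃ U : (SymProd.fibPow f d).Opens, IsAffineOpen U ∧
      ∀ σ : Equiv.Perm (Fin d), (SymProd.permHom f d σ).base x ∈ U := by
  classical
  let s : S := (CategoryTheory.Limits.WidePullback.base (fun _ : Fin d => f)).base x
  let π := fun i : Fin d => CategoryTheory.Limits.WidePullback.π (fun _ : Fin d => f) i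
  let T : Finset X := Finset.univ.image fun i => (π i).base x
  have hTs : ∀ y ∈ T, f.base y = s := by
    intro y hy
    obtain ⟨i, -, rfl⟩ := Finset.mem_image.1 hy
    show (π i ≫ f).base x = s
    rw [CategoryTheory.Limits.WidePullback.π_arrow]
  obtain ⟨U, hU, hTU⟩ := hAF s T hTs
  obtain ⟨W, hW, hsW, -⟩ : ∃ W : S.Opens, IsAffineOpen W ∧ s ∈ W ∧ W ≤ ⊤ := TopologicalSpace.Opens.isBasis_iff_nbhd.1 S.isBasis_affineOpens
    (show s ∈ (⊤ : S.Opens) from trivial)
  obtain ⟨g, hTg, hgW⟩ := GrpdQ.exists_basicOpen_finite (O := f ⁻¹ᵁ W) hU T.finite_toSet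
    (fun y hy => hTU y hy) (fun y hy => by show f.base y ∈ W; rw [hTs y hy]; exact hsW)
  have hV : IsAffineOpen (X.basicOpen g) := hU.basicOpen g
  set V := X.basicOpen g
  let O : (SymProd.fibPow f d).Opens :=
    (CategoryTheory.Limits.WidePullback.base (fun _ : Fin d => f)) ⁻¹ᵁ W ⊓ ⨅ i : Fin d, π i ⁻¹ᵁ V
  have hmem : ∀ z, z ∈ O ↔
      (CategoryTheory.Limits.WidePullback.base (fun _ : Fin d => f)).base z ∈ W ∧ ∀ i, (π i).base z ∈ V := by
    intro z
    show z ∈ ((_ : TopologicalSpace.Opens _) ⊓ _) ↔ _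
    rw [← SetLike.mem_coe, TopologicalSpace.Opens.coe_inf, Set.mem_inter_iff, TopologicalSpace.Opens.coe_iInf,
      Set.mem_iInter]
    rfl
  have hle : V ≤ f ⁻¹ᵁ W := hgW
  let g' : (V : Scheme.{u}) ⟶ (W : Scheme.{u}) := f.resLE W V hle
  let Z := CategoryTheory.Limits.widePullback (W : Scheme.{u}) (fun _ : Fin d => (V : Scheme.{u})) (fun _ => g')
  haveI : IsAffine (W : Scheme.{u}) := hW
  haveI : IsAffine (V : Scheme.{u}) := hV
  haveI hZ : IsAffine Z := by
    haveI : ∀ o, IsAffine ((CategoryTheory.Limits.WidePullbackShape.wideCospan (W : Scheme.{u})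
        (fun _ : Fin d => (V : Scheme.{u})) (fun _ => g')).obj o) := fun o => by
      cases o
      · exact hW
      · exact hV
    exact Scheme.isAffine_of_isLimit _ (CategoryTheory.Limits.limit.isLimit _)
  let bZ := CategoryTheory.Limits.WidePullback.base (fun _ : Fin d => g')
  let πZ := fun i => CategoryTheory.Limits.WidePullback.π (fun _ : Fin d => g') i
  let Φ : Z ⟶ SymProd.fibPow f d :=
    CategoryTheory.Limits.WidePullback.lift (bZ ≫ W.ι) (fun i => πZ i ≫ V.ι) (fun i => by
      rw [Category.assoc, ← Scheme.Hom.resLE_comp_ι f hle, ← Category.assoc,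
        CategoryTheory.Limits.WidePullback.π_arrow])
  have hΦr : Set.range Φ ⊆ Set.range O.ι := by
    rw [O.range_ι]
    rintro _ ⟨z, rfl⟩
    refine (hmem _).2 ⟨?_, fun i => ?_⟩
    · rw [← Scheme.Hom.comp_apply, CategoryTheory.Limits.WidePullback.lift_base]
      exact (bZ.base z).2
    · rw [← Scheme.Hom.comp_apply, CategoryTheory.Limits.WidePullback.lift_π]
      exact ((πZ i).base z).2
  let Φ' : Z ⟶ (O : Scheme.{u}) := IsOpenImmersion.lift O.ι Φ hΦr
  have hb : Set.range (O.ι ≫ CategoryTheory.Limits.WidePullback.base (fun _ : Fin d => f)) ⊆ Set.range W.ι := by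
    rw [W.range_ι]; rintro _ ⟨z, rfl⟩; exact ((hmem _).1 z.2).1
  have hp : ∀ i, Set.range (O.ι ≫ π i) ⊆ Set.range V.ι := fun i => by
    rw [V.range_ι]; rintro _ ⟨z, rfl⟩; exact ((hmem _).1 z.2).2 i
  let Ψ : (O : Scheme.{u}) ⟶ Z :=
    CategoryTheory.Limits.WidePullback.lift (IsOpenImmersion.lift W.ι _ hb)
      (fun i => IsOpenImmersion.lift V.ι _ (hp i)) (fun i => by
        rw [← cancel_mono W.ι, Category.assoc, Scheme.Hom.resLE_comp_ι, IsOpenImmersion.lift_fac_assoc,
          IsOpenImmersion.lift_fac, Category.assoc, CategoryTheory.Limits.WidePullback.π_arrow])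
  have h1 : Ψ ≫ Φ = O.ι := by
    apply CategoryTheory.Limits.WidePullback.hom_ext
    · intro i
      rw [Category.assoc, CategoryTheory.Limits.WidePullback.lift_π,
        CategoryTheory.Limits.WidePullback.lift_π_assoc, IsOpenImmersion.lift_fac]
    · rw [Category.assoc, CategoryTheory.Limits.WidePullback.lift_base,
        CategoryTheory.Limits.WidePullback.lift_base_assoc, IsOpenImmersion.lift_fac]
  have h2 : Φ' ≫ Ψ = 𝟙 Z := by
    apply CategoryTheory.Limits.WidePullback.hom_ext
    · intro i
      rw [← cancel_mono V.ι]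
      simp only [Category.assoc, Category.id_comp]
      rw [CategoryTheory.Limits.WidePullback.lift_π_assoc, IsOpenImmersion.lift_fac,
        IsOpenImmersion.lift_fac_assoc, CategoryTheory.Limits.WidePullback.lift_π]
    · rw [← cancel_mono W.ι]
      simp only [Category.assoc, Category.id_comp]
      rw [CategoryTheory.Limits.WidePullback.lift_base_assoc, IsOpenImmersion.lift_fac,
        IsOpenImmersion.lift_fac_assoc, CategoryTheory.Limits.WidePullback.lift_base]
  have h3 : Ψ ≫ Φ' = 𝟙 _ := by
    rw [← cancel_mono O.ι, Category.assoc, IsOpenImmersion.lift_fac, Category.id_comp, h1]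
  haveI : IsIso Ψ := ⟨Φ', h3, h2⟩
  have hO : IsAffineOpen O := IsAffine.of_isIso Ψ
  refine ⟨O, hO, fun σ => (hmem _).2 ⟨?_, fun i => hTg ?_⟩⟩
  · show (SymProd.permHom f d σ ≫ _).base x ∈ W
    rw [SymProd.permHom_base]; exact hsW
  · show (SymProd.permHom f d σ ≫ π i).base x ∈ (T : Set X)
    rw [SymProd.permHom_π]
    exact Finset.mem_coe.2 (Finset.mem_image.2 ⟨σ.symm i, Finset.mem_univ _, rfl⟩)

end Groth.Agent.S13602
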