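import Groth.Statements.S13603
import Mathlib.RingTheory.Localization.Basic
import Mathlib.GroupTheory.GroupAction.Basic
import Mathlib.Tactic.LinearCombination
import Mathlib.Tactic.Ring
import Mathlib.Algebra.BigOperators.Group.Finset.Basic
import Mathlib.Algebra.BigOperators.Associated

set_option autoImplicit false
universe u v
open CAlg

namespace Groth.Agent.S13603

/-- Let a group G act on a commutative ring B by ring automorphisms so that every element of B has a
finite orbit, and let S ⊆ B be a multiplicative set of G-fixed elements (so each g ∈ G induces an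
endomorphism of the localization S⁻¹B; the hypothesis that g maps S into S is implied by the
previous one and is only carried to name that endomorphism). Then an element of S⁻¹B is fixed by all
of G if and only if it is a fraction b/s with b fixed by G and s ∈ S: the canonical map S⁻¹(B^G) →
(S⁻¹B)^G is onto. -/
theorem result {B : Type u} [CommRing B]
    {G : Type v} [Group G] [MulSemiringAction G B] (hfin : ∀ b : B, (MulAction.orbit G b).Finite)
    (S : Submonoid B) (hS : ∀ (g : G) (s : B), s ∈ S → g • s = s)
    (hS' : ∀ g : G, S ≤ S.comap (MulSemiringAction.toRingHom G B g)) (x : Localization S) :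
    (∀ g : G, IsLocalization.map (Localization S) (MulSemiringAction.toRingHom G B g) (hS' g) x = x) ↔
      ∃ (b : B) (s : S), (∀ g : G, g • b = b) ∧ x = IsLocalization.mk' (Localization S) b s := by
  classical
  constructor
  · intro h
    obtain ⟨⟨a, s⟩, hs⟩ := IsLocalization.surj S x
    have hx : x = IsLocalization.mk' (Localization S) a s := IsLocalization.eq_mk'_iff_mul_eq.mpr hs
    have hg : ∀ g : G, ∃ t : S, (t : B) * (g • a) = (t : B) * a := by
      intro g
      have := h g
      rw [hx, IsLocalization.map_mk', IsLocalization.mk'_eq_iff_eq, IsLocalization.eq_iff_exists S] at this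
      obtain ⟨t, ht⟩ := this
      refine ⟨t * s, ?_⟩
      simp only [MulSemiringAction.toRingHom_apply, hS g s s.2] at ht
      push_cast
      linear_combination ht
    choose t ht using hg
    let F := (hfin a).toFinset
    have hgam : ∀ y ∈ F, ∃ g : G, g • a = y := fun y hy => MulAction.mem_orbit_iff.mp ((hfin a).mem_toFinset.mp hy)
    choose γ hγ using hgam
    let T : S := ∏ y ∈ F.attach, t (γ y.1 y.2)
    refine ⟨T * a, T * s, fun g => ?_, ?_⟩
    · rw [smul_mul', hS g T T.2]
      have hy : g • a ∈ F := (hfin a).mem_toFinset.mpr (MulAction.mem_orbit _ _)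
      obtain ⟨c, hc⟩ : t (γ _ hy) ∣ T :=
        Finset.dvd_prod_of_mem (fun y : F => t (γ y.1 y.2)) (Finset.mem_attach F ⟨_, hy⟩)
      have := ht (γ _ hy)
      rw [hγ _ hy] at this
      rw [hc]
      push_cast
      linear_combination (c : B) * this
    · rw [hx, IsLocalization.mk'_eq_iff_eq]
      congr 1
      push_cast
      ring
  · rintro ⟨b, s, hb, rfl⟩ g
    rw [IsLocalization.map_mk', IsLocalization.mk'_eq_iff_eq]
    simp only [MulSemiringAction.toRingHom_apply, hb, hS g s s.2]

end Groth.Agent.S13603
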