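import Groth.Statements.S13604
import Groth.Agent.DivPts.Cartier
import Groth.Agent.FpqcDescent.IdealComap

set_option autoImplicit false
universe u
open CategoryTheory AlgebraicGeometry
open CategoryTheory.Limits
open Cyc

namespace Groth.Agent.S13604

/-- Let k be a field, X a separated k-scheme of finite type, smooth of relative dimension r, and Z ⊆ X a
closed subscheme (a quasi-coherent ideal sheaf) of pure dimension r − 1, i.e. the local ring of X at
every maximal point of Z has dimension 1. If for some field extension K/k the base change Z_K ⊆ X_K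
= X ×_k Spec K (the inverse image ideal sheaf along the first projection) is an effective Cartier
divisor, then the ideal of Z is locally generated by a single non-zero-divisor, i.e. Z too is
effective Cartier. -/
theorem result {k : Type u} [Field k] {K : Type u} [Field K]
    [Algebra k K] {X : Scheme.{u}} (f : X ⟶ Spec (CommRingCat.of k)) (r : ℕ) [SmoothOfRelativeDimension r f]
    [QuasiCompact f] [IsSeparated f] (𝓘 : X.IdealSheafData)
    (hpure : ∀ z : ↥𝓘.subscheme, (∀ z' : ↥𝓘.subscheme, z' ⤳ z → z' = z) →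
      ringKrullDim ↑(X.presheaf.stalk (𝓘.subschemeι.base z)) = 1)
    (hK : BlowUp.IsEffCartierIdeal
      (𝓘.comap (pullback.fst f (Spec.map (CommRingCat.ofHom (algebraMap k K)))))) :
    BlowUp.IsEffCartierIdeal 𝓘 := by
  let s := Spec.map (CommRingCat.ofHom (algebraMap k K))
  haveI : Smooth f := SmoothOfRelativeDimension.smooth r f
  haveI : IsLocallyNoetherian X := LocallyOfFiniteType.isLocallyNoetherian f
  haveI : Surjective s := ⟨fun _ => ⟨IsLocalRing.closedPoint K, Subsingleton.elim _ _⟩⟩
  haveI : Flat s := Flat.SpecMap_iff.2 (RingHom.flat_algebraMap_iff.2 inferInstance)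
  let p := pullback.fst f s
  haveI : Surjective p := MorphismProperty.pullback_fst _ _ ‹_›
  haveI : Flat p := MorphismProperty.pullback_fst _ _ ‹_›
  refine DivPts.isEffCartierIdeal_of_stalk 𝓘 fun x _ U hxU => ?_
  obtain ⟨x', rfl⟩ := p.surjective x
  obtain ⟨W, hxW, b, hb, hW⟩ := hK x'
  obtain ⟨V, hV, hxV, hle⟩ := TopologicalSpace.Opens.isBasis_iff_nbhd.1 (pullback f s).isBasis_affineOpens
    (show x' ∈ W.1 ⊓ p ⁻¹ᵁ U.1 from ⟨hxW, hxU⟩)
  have h1 := (𝓘.comap p).map_ideal (U := ⟨V, hV⟩) (V := W) (hle.trans inf_le_left)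
  rw [FpqcDescent.ideal_comap 𝓘 p U ⟨V, hV⟩ (hle.trans inf_le_right), hW, Ideal.map_span,
    Set.image_singleton] at h1
  let ψ := (p.stalkMap x').hom
  let γ := (X.presheaf.germ U.1 (p x') hxU).hom
  let β := ((pullback f s).presheaf.germ V x' hxV).hom
  letI : Algebra (X.presheaf.stalk (p x')) ((pullback f s).presheaf.stalk x') := ψ.toAlgebra
  haveI : Module.Flat (X.presheaf.stalk (p x')) ((pullback f s).presheaf.stalk x') := Flat.stalkMap p x'
  haveI : IsLocalHom (algebraMap (X.presheaf.stalk (p x')) ((pullback f s).presheaf.stalk x')) :=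
    inferInstanceAs (IsLocalHom ψ)
  haveI : Module.FaithfullyFlat (X.presheaf.stalk (p x')) ((pullback f s).presheaf.stalk x') :=
    Module.FaithfullyFlat.of_flat_of_isLocalHom
  let b' := ((pullback f s).presheaf.germ W.1 x' hxW).hom b
  have hb' : b' ∈ nonZeroDivisors ((pullback f s).presheaf.stalk x') :=
    DivPts.germ_mem_nonZeroDivisors W.2 hxW hb
  have hγ : ((𝓘.ideal U).map γ).map ψ = Ideal.span {b'} := by
    rw [Ideal.map_map, show ψ.comp γ = β.comp (p.appLE U.1 V (hle.trans inf_le_right)).hom from ?_,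
      ← Ideal.map_map, ← h1, Ideal.map_span, Set.image_singleton]
    · congr 2
      exact (pullback f s).presheaf.germ_res_apply _ x' hxV b
    ext a
    show p.stalkMap x' (X.presheaf.germ U.1 (p x') hxU a) = _
    rw [p.germ_stalkMap_apply]
    show _ = (pullback f s).presheaf.germ V x' hxV ((pullback f s).presheaf.map _ (p.app U.1 a))
    rw [TopCat.Presheaf.germ_res_apply]
  let I := (𝓘.ideal U).map γ
  have key : ∃ g ∈ I, Ideal.span {ψ g} = Ideal.span {b'} := by
    by_contra hne
    push Not at hne
    have hsub : I.map ψ ≤ IsLocalRing.maximalIdeal _ * Ideal.span {b'} := by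
      rw [Ideal.map_le_iff_le_comap]
      intro g hg
      obtain ⟨c, hc⟩ := Ideal.mem_span_singleton'.1 (hγ.le (Ideal.mem_map_of_mem ψ hg))
      rw [Ideal.mem_comap, ← hc]
      refine Ideal.mul_mem_mul ?_ (Ideal.mem_span_singleton_self _)
      by_contra hu
      rw [IsLocalRing.notMem_maximalIdeal] at hu
      refine hne g hg ?_
      rw [← hc, Ideal.span_singleton_mul_left_unit hu]
    have hbm : b' ∈ IsLocalRing.maximalIdeal _ * Ideal.span {b'} :=
      hsub (hγ.ge (Ideal.mem_span_singleton_self _))
    obtain ⟨c, hc, hcb⟩ := Ideal.mem_mul_span_singleton.1 hbm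
    have : (1 - c) * b' = 0 := by rw [sub_mul, one_mul, hcb, sub_self]
    have h10 := (mul_right_mem_nonZeroDivisors_eq_zero_iff hb').1 this
    exact (IsLocalRing.maximalIdeal.isMaximal _).ne_top ((Ideal.eq_top_iff_one _).2
      (sub_eq_zero.1 h10 ▸ hc))
  obtain ⟨g, hg, hgb⟩ := key
  have hinj : Function.Injective ψ :=
    FaithfulSMul.algebraMap_injective (X.presheaf.stalk (p x')) ((pullback f s).presheaf.stalk x')
  refine ⟨g, mem_nonZeroDivisors_iff_right.2 fun y hy => hinj ?_, ?_⟩
  · rw [map_zero]
    obtain ⟨c, hc⟩ := Ideal.mem_span_singleton'.1 (hgb.ge (Ideal.mem_span_singleton_self b'))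
    refine (mul_right_mem_nonZeroDivisors_eq_zero_iff hb').1 ?_
    rw [← hc, mul_left_comm, ← map_mul, hy, map_zero, mul_zero]
  · show I = _
    refine le_antisymm ?_ ((Ideal.span_singleton_le_iff_mem _).2 hg)
    have h2 : I.map ψ = (Ideal.span {g}).map ψ := by
      rw [hγ, Ideal.map_span, Set.image_singleton, hgb]
    intro a ha
    rw [← Ideal.comap_map_eq_self_of_faithfullyFlat (B := (pullback f s).presheaf.stalk x') (Ideal.span {g})]
    exact h2.le (Ideal.mem_map_of_mem ψ ha)

end Groth.Agent.S13604
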