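import Groth.Statements.S13605
import Groth.Agent.SymProdAff.Box
import Groth.Agent.GrpdQ.Norm
import Groth.Agent.QuotSch.Affine
import Groth.Agent.QuotSch.Basic

set_option autoImplicit false
universe u
open CategoryTheory AlgebraicGeometry
open CategoryTheory.Limits
open SymProd

namespace Groth.Agent.S13605

/-- Let f : X ⟶ S be a morphism of schemes satisfying (AF) (every finite set of points of X over a
single point of S lies in an affine open of X), let 𝒮 be a cover of S by affine opens, let d ≥ 1 and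
let (Y, q, g) be a d-th symmetric power of X over S: q : X ×_S ⋯ ×_S X ⟶ Y is a quotient by the
symmetric group on d letters permuting the factors (affine, invariant, sections of O_Y = invariant
sections) and q ≫ g is the structure map of the fibre power. Then Y is covered by affine opens of
the form Sym^d(U/V) with V in the given cover: for every point y of Y there are V ∈ 𝒮 and an affine
open U ⊆ f⁻¹V of X such that the open W = ⋂_i pr_i⁻¹ U of the fibre power (the fibre power of U over
V) is affine and stable under every permutation of the factors, and an affine open W' of Y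
containing y with q⁻¹ W' = W. (The published statement also fixes an affine open cover of X
subordinate to the cover of S, in which any d points over a common point of a member V lie in a
common member mapping into V, and concludes that the corresponding opens Sym^d(U/V) cover Y; this
row states the pointwise form, producing U for each y.) -/
theorem result {X S Y : Scheme.{u}} (f : X ⟶ S) (hAF : SymProd.IsAF f)
    (𝒮 : Set S.Opens) (h𝒮 : ∀ V ∈ 𝒮, IsAffineOpen V) (hcov : ∀ s : S, ∃ V ∈ 𝒮, s ∈ V)
    (d : ℕ) (hd : 0 < d) (q : SymProd.fibPow f d ⟶ Y) (g : Y ⟶ S) (hq : SymProd.IsSymProd f d q g) (y : Y) :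
    ∃ V ∈ 𝒮, ∃ U : X.Opens, IsAffineOpen U ∧ U ≤ f ⁻¹ᵁ V ∧
      ∃ W : (SymProd.fibPow f d).Opens,
        (W : Set ↥(SymProd.fibPow f d)) =
          ⋂ i : Fin d, (WidePullback.π (fun _ : Fin d => f) i).base ⁻¹' (U : Set X) ∧
        IsAffineOpen W ∧ (∀ σ : Equiv.Perm (Fin d), (SymProd.permHom f d σ) ⁻¹ᵁ W = W) ∧
        ∃ W' : Y.Opens, y ∈ W' ∧ IsAffineOpen W' ∧ q ⁻¹ᵁ W' = W := by
  classical
  have : Fintype (ULift.{u} (Equiv.Perm (Fin d))) := Fintype.ofFinite _
  obtain ⟨x, rfl⟩ := QuotSch.surjective hq.isQuot y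
  let s : S := (CategoryTheory.Limits.WidePullback.base (fun _ : Fin d => f)).base x
  let π := fun i : Fin d => CategoryTheory.Limits.WidePullback.π (fun _ : Fin d => f) i
  let T : Finset X := Finset.univ.image fun i => (π i).base x
  have hTs : ∀ z ∈ T, f.base z = s := by
    intro z hz
    obtain ⟨i, -, rfl⟩ := Finset.mem_image.1 hz
    show (π i ≫ f).base x = s
    rw [CategoryTheory.Limits.WidePullback.π_arrow]
  obtain ⟨U0, hU0, hTU⟩ := hAF s T hTs
  obtain ⟨V, hV, hsV⟩ := hcov s
  obtain ⟨a, hTa, haV⟩ := GrpdQ.exists_basicOpen_finite (O := f ⁻¹ᵁ V) hU0 T.finite_toSet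
    (fun z hz => hTU z hz) (fun z hz => by show f.base z ∈ V; rw [hTs z hz]; exact hsV)
  have hU : IsAffineOpen (X.basicOpen a) := hU0.basicOpen a
  refine ⟨V, hV, X.basicOpen a, hU, haV, _, ?_, SymProdAff.isAffineOpen_box f d V (h𝒮 V hV) _ hU haV, ?_⟩
  · rw [TopologicalSpace.Opens.coe_inf, TopologicalSpace.Opens.coe_iInf]
    refine Set.inter_eq_right.2 fun z hz => ?_
    let i : Fin d := ⟨0, hd⟩
    have h1 : (π i).base z ∈ X.basicOpen a := Set.mem_iInter.1 hz i
    have h2 : (π i ≫ f).base z ∈ V := haV h1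
    rw [CategoryTheory.Limits.WidePullback.π_arrow] at h2
    exact h2
  set W : (SymProd.fibPow f d).Opens := (CategoryTheory.Limits.WidePullback.base (fun _ : Fin d => f)) ⁻¹ᵁ V ⊓
      ⨅ i : Fin d, CategoryTheory.Limits.WidePullback.π (fun _ : Fin d => f) i ⁻¹ᵁ (X.basicOpen a) with hWdef
  have hmem : ∀ z, z ∈ W ↔
      (CategoryTheory.Limits.WidePullback.base (fun _ : Fin d => f)).base z ∈ V ∧
        ∀ i, (π i).base z ∈ X.basicOpen a := by
    intro z
    rw [hWdef, ← SetLike.mem_coe, TopologicalSpace.Opens.coe_inf, Set.mem_inter_iff,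
      TopologicalSpace.Opens.coe_iInf, Set.mem_iInter]
    rfl
  have hperm : ∀ (σ : Equiv.Perm (Fin d)) z, (SymProd.permHom f d σ).base z ∈ W ↔ z ∈ W := by
    intro σ z
    rw [hmem, hmem]
    refine and_congr ?_ ?_
    · show (SymProd.permHom f d σ ≫ _).base z ∈ V ↔ _
      rw [SymProd.permHom_base]
    · refine ⟨fun h i => ?_, fun h i => ?_⟩
      · have h1 : (SymProd.permHom f d σ ≫ π (σ i)).base z ∈ X.basicOpen a := h (σ i)
        rw [SymProd.permHom_π, Equiv.symm_apply_apply] at h1
        exact h1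
      · show (SymProd.permHom f d σ ≫ π i).base z ∈ X.basicOpen a
        rw [SymProd.permHom_π]
        exact h (σ.symm i)
  refine ⟨fun σ => TopologicalSpace.Opens.ext (Set.ext fun z => hperm σ z), ?_⟩
  have hpre : q.base ⁻¹' (q.base '' (W : Set _)) = (W : Set _) := by
    refine subset_antisymm ?_ (Set.subset_preimage_image _ _)
    rintro z ⟨w, hw, e⟩
    obtain ⟨σ, rfl⟩ := (QuotSch.map_eq_iff hq.isQuot w z).1 e
    rw [SymProd.permActU_hom]
    exact (hperm σ.down w).2 hw
  let W' : Y.Opens := ⟨q.base '' (W : Set _), (QuotSch.isQuotientMap hq.isQuot).isOpen_preimage.1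
    (by rw [hpre]; exact W.2)⟩
  have hW' : q ⁻¹ᵁ W' = W := TopologicalSpace.Opens.ext hpre
  refine ⟨W', ⟨x, ?_, rfl⟩, QuotSch.isAffineOpen_of_preimage hq.isQuot W' ?_, hW'⟩
  · exact (hmem x).2 ⟨hsV, fun i => hTa (Finset.mem_coe.2 (Finset.mem_image.2 ⟨i, Finset.mem_univ _, rfl⟩))⟩
  · rw [hW']; exact SymProdAff.isAffineOpen_box f d V (h𝒮 V hV) _ hU haV

end Groth.Agent.S13605
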