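import Groth.Statements.S13608
import Mathlib
-- (no helpers)

set_option autoImplicit false
universe u v
open CAlg

namespace Groth.Agent.S13608

/-- Let A be a commutative ring, I a finitely generated ideal of A and (M_n) an inverse system of
A-modules with transition maps f_n : M_(n+1) → M_n such that I^(n+1) M_n = 0 for every n. If L is an
inverse limit of the system (projections π_n compatible with the f_n, jointly injective, and such
that every compatible family of elements lifts to L), then L is complete and separated for the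
I-adic topology. No surjectivity of the transition maps is assumed. -/
theorem result
    (A : Type u) [CommRing A] (I : Ideal A) (hI : I.FG)
    (M : ℕ → Type v) [∀ n, AddCommGroup (M n)] [∀ n, Module A (M n)]
    (f : ∀ n, M (n + 1) →ₗ[A] M n)
    (hkill : ∀ n, I ^ (n + 1) • (⊤ : Submodule A (M n)) = ⊥)
    (L : Type v) [AddCommGroup L] [Module A L] (π : ∀ n, L →ₗ[A] M n)
    (hπ : ∀ n, f n ∘ₗ π (n + 1) = π n)
    (hinj : ∀ x : L, (∀ n, π n x = 0) → x = 0)
    (hlift : ∀ y : (∀ n, M n), (∀ n, f n (y (n + 1)) = y n) → ∃ x : L, ∀ n, π n x = y n) :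
    IsAdicComplete I L := by
  have hk : ∀ n k, n + 1 ≤ k → ∀ x ∈ (I ^ k • ⊤ : Submodule A L), π n x = 0 := by
    intro n k hnk x hx
    have h1 : (I ^ k • ⊤ : Submodule A L) ≤ I ^ (n + 1) • ⊤ :=
      Submodule.smul_mono_left (Ideal.pow_le_pow_right hnk)
    have h2 : π n x ∈ (I ^ (n + 1) • (⊤ : Submodule A L)).map (π n) := ⟨x, h1 hx, rfl⟩
    rw [Submodule.map_smul''] at h2
    have h3 : π n x ∈ I ^ (n + 1) • (⊤ : Submodule A (M n)) :=
      Submodule.smul_mono le_rfl le_top h2
    rwa [hkill, Submodule.mem_bot] at h3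
  have lim : ∀ s : ℕ → L, (∀ k, s (k + 1) - s k ∈ (I ^ k • ⊤ : Submodule A L)) →
      ∃ z : L, ∀ n, π n z = π n (s (n + 1)) := by
    intro s hs
    refine hlift (fun n => π n (s (n + 1))) fun n => ?_
    rw [← LinearMap.comp_apply, hπ, ← sub_eq_zero, ← map_sub]
    exact hk n (n + 1) le_rfl _ (hs (n + 1))
  have tail : ∀ s : ℕ → L, (∀ k, s (k + 1) - s k ∈ (I ^ k • ⊤ : Submodule A L)) →
      ∀ n k, n + 1 ≤ k → π n (s k) = π n (s (n + 1)) := by
    intro s hs n k hnk
    induction k, hnk using Nat.le_induction with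
    | base => rfl
    | succ k hk' ih =>
      rw [← ih, ← sub_eq_zero, ← map_sub]
      exact hk n k hk' _ (hs k)
  refine { haus' := fun x hx => hinj x fun n => ?_, prec' := fun s hs => ?_ }
  · exact hk n (n + 1) le_rfl x (by simpa using SModEq.sub_mem.1 (hx (n + 1)))
  have hd : ∀ k, s (k + 1) - s k ∈ (I ^ k • ⊤ : Submodule A L) := fun k => by
    have := SModEq.sub_mem.1 (hs (Nat.le_succ k))
    simpa using (Submodule.neg_mem _ this)
  obtain ⟨x, hx⟩ := lim s hd
  refine ⟨x, fun m => ?_⟩
  rw [SModEq.sub_mem]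
  obtain ⟨r, g, hg⟩ := Submodule.fg_iff_exists_fin_generating_family.1 (Ideal.FG.pow (n := m) hI)
  have dec : ∀ k, ∀ y ∈ (I ^ m • (I ^ k • ⊤ : Submodule A L)),
      ∃ c : Fin r → L, (∀ i, c i ∈ (I ^ k • ⊤ : Submodule A L)) ∧ ∑ i, g i • c i = y := by
    intro k y hy
    refine Submodule.smul_induction_on hy ?_ ?_
    · intro a ha z hz
      have ha' : a ∈ Ideal.span (Set.range g) := by rw [Ideal.span, hg]; exact ha
      obtain ⟨b, hb⟩ := Ideal.mem_span_range_iff_exists_fun.1 ha'
      refine ⟨fun i => b i • z, fun i => Submodule.smul_mem _ _ hz, ?_⟩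
      rw [← hb, Finset.sum_smul]
      simp [smul_smul, mul_comm]
    · intro a b iha ihb
      obtain ⟨c, hc, rfl⟩ := iha
      obtain ⟨c', hc', rfl⟩ := ihb
      exact ⟨c + c', fun i => Submodule.add_mem _ (hc i) (hc' i),
        by simp [smul_add, Finset.sum_add_distrib]⟩
  have hd' : ∀ k, ∃ c : Fin r → L, (∀ i, c i ∈ (I ^ k • ⊤ : Submodule A L)) ∧
      ∑ i, g i • c i = s (m + k + 1) - s (m + k) := fun k => dec k _ (by
    rw [← Submodule.mul_smul, ← pow_add]; exact hd (m + k))
  choose c hc hcs using hd'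
  have hpart : ∀ i, ∃ z : L, ∀ n, π n z = π n (∑ k ∈ Finset.range (n + 1), c k i) := fun i =>
    lim (fun N => ∑ k ∈ Finset.range N, c k i) fun k => by
      simp only [Finset.sum_range_succ, add_sub_cancel_left]
      exact hc k i
  choose z hz using hpart
  have key : s m - x = -∑ i, g i • z i := by
    refine sub_eq_zero.1 (hinj _ fun n => ?_)
    have h1 : π n (∑ i, g i • z i) = π n (s (m + (n + 1)) - s m) := by
      have h2 : s (m + (n + 1)) - s m = ∑ k ∈ Finset.range (n + 1), ∑ i, g i • c k i := by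
        rw [Finset.sum_congr rfl fun k _ => hcs k]
        exact (Finset.sum_range_sub (fun k => s (m + k)) (n + 1)).symm
      rw [h2, Finset.sum_comm]
      simp only [map_sum, map_smul, hz, Finset.smul_sum]
    rw [sub_neg_eq_add, map_add, h1, map_sub, map_sub, tail s hd n (m + (n + 1)) (by omega), hx]
    abel
  rw [key]
  refine Submodule.neg_mem _ (Submodule.sum_mem _ fun i _ => Submodule.smul_mem_smul ?_ trivial)
  rw [← hg]
  exact Submodule.subset_span ⟨i, rfl⟩

end Groth.Agent.S13608
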