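import Groth.Statements.S13609

set_option autoImplicit false
universe u v
open CAlg

namespace Groth.Agent.S13609

/-- A direct summand of a module that is complete and separated for the I-adic topology is again
complete and separated: for a commutative ring A, an ideal I and A-modules M₁, M₂, if M₁ × M₂ is
I-adically complete then so is M₁. -/
theorem result (A : Type u) [CommRing A] (I : Ideal A)
    (M₁ M₂ : Type v) [AddCommGroup M₁] [Module A M₁] [AddCommGroup M₂] [Module A M₂]
    [IsAdicComplete I (M₁ × M₂)] : IsAdicComplete I M₁ := by
  refine { haus' := ?_, prec' := ?_ }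
  · intro x hx
    have h : ((x, 0) : M₁ × M₂) = 0 := by
      refine IsHausdorff.haus (I := I) inferInstance _ fun n => ?_
      have := hx n
      rw [SModEq.sub_mem, sub_zero] at this ⊢
      have h := Submodule.mem_map_of_mem (f := LinearMap.inl A M₁ M₂) this
      rw [Submodule.map_smul''] at h
      exact Submodule.smul_mono le_rfl le_top h
    exact congrArg Prod.fst h
  · intro f hf
    obtain ⟨L, hL⟩ := IsPrecomplete.prec (I := I) (M := M₁ × M₂) inferInstance (f := fun n => (f n, 0)) (fun {m n} hmn => by
      have := hf hmn
      rw [SModEq.sub_mem] at this ⊢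
      have h := Submodule.mem_map_of_mem (f := LinearMap.inl A M₁ M₂) this
      rw [Submodule.map_smul''] at h
      have h2 := Submodule.smul_mono le_rfl le_top h
      simpa using h2)
    refine ⟨L.1, fun n => ?_⟩
    have := hL n
    rw [SModEq.sub_mem] at this ⊢
    have h := Submodule.mem_map_of_mem (f := LinearMap.fst A M₁ M₂) this
    rw [Submodule.map_smul''] at h
    have h2 := Submodule.smul_mono le_rfl le_top h
    simpa using h2

end Groth.Agent.S13609
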