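import Groth.Statements.S13621
import Groth.Agent.ARLib.Basic

set_option autoImplicit false
open CategoryTheory CategoryTheory.Limits Opposite
universe v u
open ARSys

set_option backward.isDefEq.respectTransparency false

namespace Groth.Agent.S13621


/-- The inverse limit is a well-defined functor on projective systems up to translation. Concretely: in
an abelian category with limits of shape ℕᵒᵖ, a morphism u : X ⟶ Y of projective systems indexed by
the natural numbers whose kernel and cokernel are null up to translation induces an isomorphism lim
X ⟶ lim Y. (The published statement is the functoriality of lim on the category of systems up to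
translation; combined with the description of isomorphisms there as the morphisms with null kernel
and cokernel, this is the form stated.) -/
theorem result {C : Type u} [Category.{v} C] [Abelian C] [HasLimitsOfShape ℕᵒᵖ C]
    {X Y : ARSys.PS C} (u : X ⟶ Y) (hu : ARSys.IsARIso u) : IsIso (limMap u) := by
  obtain ⟨r, w, h₁, h₂, h₃⟩ := Groth.Agent.ARLib.exists_inv u hu
  let c : Cone X :=
    { pt := limit Y
      π :=
        { app := fun n => limit.π Y (op (n.unop + r)) ≫ w n.unop
          naturality := fun a b φ => by
            show 𝟙 _ ≫ limit.π Y (op (b.unop + r)) ≫ w b.unop =
              (limit.π Y (op (a.unop + r)) ≫ w a.unop) ≫ ARSys.tr X (leOfHom φ.unop)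
            rw [Category.id_comp, Category.assoc, ← h₃, ← Category.assoc, limit.w] } }
  refine ⟨limit.lift X c, limit.hom_ext fun n => ?_, limit.hom_ext fun n => ?_⟩
  · rw [Category.assoc, limit.lift_π, Category.id_comp]
    show limMap u ≫ limit.π Y (op (n.unop + r)) ≫ w n.unop = _
    rw [limMap_π_assoc, h₂ n.unop]
    exact limit.w X _
  · rw [Category.assoc, limMap_π, limit.lift_π_assoc, Category.id_comp]
    show (limit.π Y (op (n.unop + r)) ≫ w n.unop) ≫ u.app n = _
    rw [Category.assoc, h₁ n.unop]
    exact limit.w Y _

end Groth.Agent.S13621
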