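import Groth.Statements.S13622
import Mathlib

set_option autoImplicit false
universe u v
open CAlg

namespace Groth.Agent.S13622

/-- Let A be a commutative ring, I a finitely generated ideal and (M_n) an inverse system of finitely
generated A-modules whose transition maps f_n : M_(n+1) → M_n are surjective with kernel I^(n+1)
M_(n+1), and with I^(n+1) M_n = 0 for all n. If L is an inverse limit of the system (projections π_n
compatible with the f_n, jointly injective, every compatible family lifting to L), endowed with a
module structure over the I-adic completion A^ of A that is compatible with its A-module structure,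
then L is finitely generated as an A^-module. No completeness of A is assumed. -/
theorem result
    (A : Type u) [CommRing A] (I : Ideal A) (hI : I.FG)
    (M : ℕ → Type v) [∀ n, AddCommGroup (M n)] [∀ n, Module A (M n)] [∀ n, Module.Finite A (M n)]
    (f : ∀ n, M (n + 1) →ₗ[A] M n) (hf : ∀ n, Function.Surjective (f n))
    (hker : ∀ n, LinearMap.ker (f n) = I ^ (n + 1) • (⊤ : Submodule A (M (n + 1))))
    (hkill : ∀ n, I ^ (n + 1) • (⊤ : Submodule A (M n)) = ⊥)
    (L : Type v) [AddCommGroup L] [Module A L] (π : ∀ n, L →ₗ[A] M n)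
    (hπ : ∀ n, f n ∘ₗ π (n + 1) = π n)
    (hinj : ∀ x : L, (∀ n, π n x = 0) → x = 0)
    (hlift : ∀ y : (∀ n, M n), (∀ n, f n (y (n + 1)) = y n) → ∃ x : L, ∀ n, π n x = y n)
    [Module (AdicCompletion I A) L] [IsScalarTower A (AdicCompletion I A) L] :
    Module.Finite (AdicCompletion I A) L := by
  classical
  obtain ⟨k, g, hg⟩ := Module.Finite.exists_fin (R := A) (M := M 0)
  have hlift0 : ∀ j, ∃ x : L, π 0 x = g j := fun j => by
    obtain ⟨x, hx⟩ := hlift (fun n => Nat.rec (motive := fun n => M n) (g j) (fun n y => Function.surjInv (hf n) y) n)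
      (fun n => Function.surjInv_eq (hf n) _)
    exact ⟨x, hx 0⟩
  choose x hx using hlift0
  have hπ' : ∀ n l, f n (π (n + 1) l) = π n l := fun n l => LinearMap.congr_fun (hπ n) l
  have hspan : ∀ n, Submodule.span A (Set.range fun j => π n (x j)) = ⊤ := by
    intro n
    induction n with
    | zero => rw [show (fun j => π 0 (x j)) = g from funext hx]; exact hg
    | succ n ih =>
      set P := Submodule.span A (Set.range fun j => π (n + 1) (x j)) with hP
      set J := I ^ (n + 1)
      have h1 : P ⊔ J • (⊤ : Submodule A (M (n + 1))) = ⊤ := by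
        rw [← hker, ← Submodule.comap_map_eq, hP, Submodule.map_span, ← Set.range_comp]
        rw [show (f n ∘ fun j => π (n + 1) (x j)) = fun j => π n (x j) from funext fun j => hπ' n (x j), ih,
          Submodule.comap_top]
      have h2 : J • (⊤ : Submodule A (M (n + 1))) ≤ P := by
        conv_lhs => rw [← h1, Submodule.smul_sup, ← Submodule.mul_smul]
        refine sup_le Submodule.smul_le_right ?_
        refine le_trans (le_trans (Submodule.smul_mono_left ?_) (hkill (n + 1)).le) bot_le
        rw [← pow_add]; exact Ideal.pow_le_pow_right (by omega)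
      rwa [sup_eq_left.2 h2] at h1
  refine ⟨Finset.univ.image x, ?_⟩
  rw [Finset.coe_image, Finset.coe_univ, Set.image_univ, eq_top_iff]
  intro l _
  have hstep : ∀ n (a : Fin k → A), π n l = ∑ j, a j • π n (x j) →
      ∃ b : Fin k → A, π (n + 1) l = ∑ j, b j • π (n + 1) (x j) ∧ ∀ j, b j - a j ∈ I ^ (n + 1) := by
    intro n a ha
    have hz : π (n + 1) l - ∑ j, a j • π (n + 1) (x j) ∈ I ^ (n + 1) • Submodule.span A (Set.range fun j => π (n + 1) (x j)) := by
      rw [hspan, ← hker, LinearMap.mem_ker, map_sub, map_sum]
      simp only [map_smul, hπ', ha, sub_self]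
    obtain ⟨c, hc, hceq⟩ := (Submodule.mem_ideal_smul_span_iff_exists_sum _ _ _).1 hz
    refine ⟨fun j => a j + c j, ?_, fun j => by simpa using hc j⟩
    rw [Finsupp.sum_fintype _ _ (by simp)] at hceq
    simp only [add_smul, Finset.sum_add_distrib, hceq, add_sub_cancel]
  obtain ⟨a0, ha0⟩ : ∃ a : Fin k → A, π 0 l = ∑ j, a j • π 0 (x j) := by
    have : π 0 l ∈ Submodule.span A (Set.range fun j => π 0 (x j)) := by rw [hspan]; trivial
    obtain ⟨a, ha⟩ := (Submodule.mem_span_range_iff_exists_fun A).1 this
    exact ⟨a, ha.symm⟩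
  let seq : (n : ℕ) → {a : Fin k → A // π n l = ∑ j, a j • π n (x j)} := fun n =>
    Nat.rec (motive := fun n => {a : Fin k → A // π n l = ∑ j, a j • π n (x j)}) ⟨a0, ha0⟩
      (fun n a => ⟨(hstep n a.1 a.2).choose, (hstep n a.1 a.2).choose_spec.1⟩) n
  have hseq : ∀ n j, (seq (n + 1)).1 j - (seq n).1 j ∈ I ^ (n + 1) := fun n =>
    (hstep n (seq n).1 (seq n).2).choose_spec.2
  let c : Fin k → AdicCompletion I A := fun j =>
    AdicCompletion.mk I A (AdicCompletion.AdicCauchySequence.mk I A (fun m => (seq m).1 j) fun m => by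
      rw [SModEq.sub_mem, smul_eq_mul, Ideal.mul_top, ← neg_sub]
      exact neg_mem (Ideal.pow_le_pow_right (Nat.le_succ m) (hseq m j)))
  have hkey : ∀ n j, π n (c j • x j) = (seq n).1 j • π n (x j) := by
    intro n j
    have hmem : c j - algebraMap A (AdicCompletion I A) ((seq n).1 j) ∈
        I ^ (n + 1) • (⊤ : Submodule A (AdicCompletion I A)) := by
      rw [AdicCompletion.pow_smul_top_eq_ker_eval hI, LinearMap.mem_ker, map_sub, sub_eq_zero,
        AdicCompletion.algebraMap_apply, AdicCompletion.eval_of, AdicCompletion.eval_apply]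
      refine (Submodule.Quotient.eq _).2 ?_
      rw [smul_eq_mul, Ideal.mul_top]
      exact hseq n j
    have : ∀ w ∈ I ^ (n + 1) • (⊤ : Submodule A (AdicCompletion I A)), π n (w • x j) = 0 := by
      intro w hw
      refine Submodule.smul_induction_on hw (fun i hi y _ => ?_) (fun y z hy hz => by rw [add_smul, map_add, hy, hz, add_zero])
      rw [smul_assoc, map_smul]
      exact (Submodule.mem_bot A).1 ((hkill n).le (Submodule.smul_mem_smul hi Submodule.mem_top))
    have := this _ hmem
    rw [sub_smul, algebraMap_smul, map_sub, map_smul (π n) ((seq n).1 j), sub_eq_zero] at this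
    exact this
  have hl : l = ∑ j, c j • x j := by
    rw [← sub_eq_zero]
    refine hinj _ fun n => ?_
    rw [map_sub, map_sum, (seq n).2, Finset.sum_congr rfl (fun j _ => hkey n j), sub_self]
  rw [hl]
  exact Submodule.sum_mem _ fun j _ => Submodule.smul_mem _ _ (Submodule.subset_span ⟨j, rfl⟩)

end Groth.Agent.S13622
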