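import Groth.Statements.S13623
import Mathlib

set_option autoImplicit false
universe u
open TensorProduct
open CAlg

namespace Groth.Agent.S13623

open scoped TensorProduct


/-- Let A be a commutative ring and B a commutative A-algebra, graded by A-submodules B_m (m ≥ 0)
forming a graded-algebra structure, such that every B_m is a finitely generated A-module. If for
every algebraically closed field k and every A-algebra structure on k the k-algebra k ⊗_A B is
generated by the image of B_1 under b ↦ 1 ⊗ b, then its degree-one part B_1 generates the A-algebra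
B. (Algebraically closed fields are taken in the universe of A.) -/
theorem result
    (A : Type u) [CommRing A] (B : Type u) [CommRing B] [Algebra A B]
    (𝒜 : ℕ → Submodule A B) [GradedAlgebra 𝒜]
    (hfin : ∀ m : ℕ, Module.Finite A (𝒜 m))
    (hgen : ∀ (k : Type u) [Field k] [IsAlgClosed k] [Algebra A k],
      Algebra.adjoin k ((Algebra.TensorProduct.includeRight : B →ₐ[A] k ⊗[A] B) '' (𝒜 1 : Set B)) = ⊤) :
    Algebra.adjoin A (𝒜 1 : Set B) = ⊤ := by
  classical
  let S := Algebra.adjoin A (𝒜 1 : Set B)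
  rw [eq_top_iff]
  intro b _
  change b ∈ S
  rw [← DirectSum.sum_support_decompose 𝒜 b]
  refine S.sum_mem fun m _ => ?_
  let proj : B →ₗ[A] 𝒜 m := (DirectSum.component A ℕ (fun i => 𝒜 i) m) ∘ₗ (DirectSum.decomposeLinearEquiv 𝒜).toLinearMap
  let L : Submodule A (𝒜 m) := (Subalgebra.toSubmodule S).comap (𝒜 m).subtype
  let φ : B →ₗ[A] (𝒜 m) ⧸ L := L.mkQ ∘ₗ proj
  have hproj : ∀ y, proj y = DirectSum.decompose 𝒜 y m := fun _ => rfl
  have hφs : Function.Surjective φ := fun q => by
    obtain ⟨y, rfl⟩ := Submodule.Quotient.mk_surjective L q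
    exact ⟨y, congrArg L.mkQ (Subtype.ext (DirectSum.decompose_of_mem_same 𝒜 y.2))⟩
  have hφS : ∀ y ∈ S, φ y = 0 := by
    intro y hy
    change y ∈ Subalgebra.toSubmodule S at hy
    rw [Algebra.adjoin_eq_span] at hy
    refine (LinearMap.mem_ker).1 ((Submodule.span_le.2 ?_ : _ ≤ LinearMap.ker φ) hy)
    intro x hx
    have hxS : x ∈ S := by
      refine Submonoid.closure_induction (fun z hz => Algebra.subset_adjoin hz) S.one_mem (fun a b _ _ ha hb => S.mul_mem ha hb) hx
    obtain ⟨j, hj⟩ : ∃ j, x ∈ 𝒜 j :=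
      Submonoid.closure_induction (motive := fun z _ => ∃ j, z ∈ 𝒜 j) (fun z hz => ⟨1, hz⟩)
        ⟨0, SetLike.GradedOne.one_mem⟩ (fun a b _ _ ⟨i, ha⟩ ⟨l, hb⟩ => ⟨i + l, SetLike.mul_mem_graded ha hb⟩) hx
    rw [SetLike.mem_coe, LinearMap.mem_ker]
    show L.mkQ (proj x) = 0
    rw [Submodule.mkQ_apply, Submodule.Quotient.mk_eq_zero]
    show ((proj x : 𝒜 m) : B) ∈ S
    rw [hproj]
    by_cases h : j = m
    · subst h; rw [DirectSum.decompose_of_mem_same 𝒜 hj]; exact hxS
    · rw [DirectSum.decompose_of_mem_ne 𝒜 hj h]; exact S.zero_mem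
  haveI := hfin m
  have hQ : Subsingleton ((𝒜 m) ⧸ L) := by
    rw [← Module.support_eq_empty_iff (R := A), Set.eq_empty_iff_forall_notMem]
    intro p hp
    rw [Module.mem_support_iff_nontrivial_residueField_tensorProduct] at hp
    let k := AlgebraicClosure p.asIdeal.ResidueField
    have hk : Subsingleton (k ⊗[A] ((𝒜 m) ⧸ L)) := by
      refine subsingleton_of_forall_eq 0 fun z => ?_
      obtain ⟨w, rfl⟩ := LinearMap.lTensor_surjective k hφs z
      have hw : w ∈ (Algebra.TensorProduct.map (AlgHom.id k k) S.val).range := by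
        refine (Algebra.adjoin_le ?_ : Algebra.adjoin k _ ≤ _) (hgen k ▸ Algebra.mem_top)
        rintro _ ⟨y, hy, rfl⟩
        exact ⟨(1 : k) ⊗ₜ[A] (⟨y, Algebra.subset_adjoin hy⟩ : S), rfl⟩
      obtain ⟨w, rfl⟩ := hw
      induction w using TensorProduct.induction_on with
      | zero => rw [map_zero, map_zero]
      | tmul c s =>
        show LinearMap.lTensor k φ (c ⊗ₜ[A] (s : B)) = 0
        rw [LinearMap.lTensor_tmul, hφS s s.2, TensorProduct.tmul_zero]
      | add u v hu hv => rw [map_add, map_add, hu, hv, add_zero]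
    have h2 : Subsingleton (k ⊗[p.asIdeal.ResidueField] (p.asIdeal.ResidueField ⊗[A] ((𝒜 m) ⧸ L))) :=
      (TensorProduct.AlgebraTensorModule.cancelBaseChange A p.asIdeal.ResidueField k k ((𝒜 m) ⧸ L)).toEquiv.subsingleton
    exact not_subsingleton_iff_nontrivial.2 hp
      (Module.FaithfullyFlat.lTensor_reflects_triviality p.asIdeal.ResidueField k _)
  exact ((Submodule.Quotient.mk_eq_zero L).1 (Subsingleton.elim _ _) :)

end Groth.Agent.S13623
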