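import Groth.Agent.GeomConnExt.Components
import Groth.Statements.S13628
-- import your own Groth.Agent.* helpers here

set_option autoImplicit false
set_option backward.isDefEq.respectTransparency false
set_option backward.isDefEq.respectTransparency.types false
universe u
open CategoryTheory CategoryTheory.Limits AlgebraicGeometry Opposite
open FBase

namespace Groth.Agent.S13628

/-- Let P be a property of schemes over fields, invariant under isomorphisms of schemes over the base
field and invariant in both directions under every field extension k → K (Z over k has P if and only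
if Z ×_k Spec K over K has P). Let f : X → T be a morphism of schemes, h : T' → T a surjective
morphism of schemes and f' : X' → T' a base change of f along h. If for every algebraically closed
field k and every Spec k → T' the fibre X' ×_{T'} Spec k has P, then for every algebraically closed
field k and every Spec k → T the fibre X ×_T Spec k has P. (Fields are taken in the universe of the
schemes. The published statement is that families of del Pezzo surfaces form a stack for the étale
topology; this row is the step of its proof that descends the condition on geometric fibres along a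
surjective base change, stated for any fibre property with the invariance above.) -/
theorem result
    (P : ∀ (k : Type u) [Field k] (Z : Scheme.{u}), (Z ⟶ Spec (CommRingCat.of k)) → Prop)
    (hiso : ∀ (k : Type u) [Field k] (Z Z' : Scheme.{u}) (e : Z ≅ Z') (g : Z' ⟶ Spec (CommRingCat.of k)),
      P k Z' g → P k Z (e.hom ≫ g))
    (hext : ∀ (k K : Type u) [Field k] [Field K] (i : k →+* K) (Z : Scheme.{u}) (g : Z ⟶ Spec (CommRingCat.of k)),
      P k Z g ↔ P K (pullback g (Spec.map (CommRingCat.ofHom i))) (pullback.snd g (Spec.map (CommRingCat.ofHom i))))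
    {X T X' T' : Scheme.{u}} (f : X ⟶ T) (h : T' ⟶ T) [Surjective h] (f' : X' ⟶ T') (h' : X' ⟶ X)
    (sq : IsPullback h' f' f h)
    (H : ∀ (k : Type u) [Field k] [IsAlgClosed k] (σ' : Spec (CommRingCat.of k) ⟶ T'),
        P k (pullback f' σ') (pullback.snd f' σ'))
    (k : Type u) [Field k] [IsAlgClosed k] (σ : Spec (CommRingCat.of k) ⟶ T) :
    P k (pullback f σ) (pullback.snd f σ) := by
  obtain ⟨⟨t, ψ⟩, rfl⟩ := (Scheme.SpecToEquivOfField k T).symm.surjective σ
  obtain ⟨t', rfl⟩ := h.surjective t
  letI := ψ.hom.toAlgebra
  letI := (h.residueFieldMap t').hom.toAlgebra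
  obtain ⟨L, _, _, iK, iT, _⟩ := GeomConnExt.exists_common_extension (k := ↥(T.residueField (h t'))) k ↥(T'.residueField t')
  let jL : L →+* AlgebraicClosure L := algebraMap L (AlgebraicClosure L)
  let σ' : Spec (CommRingCat.of (AlgebraicClosure L)) ⟶ T' :=
    Spec.map (CommRingCat.ofHom (jL.comp iT.toRingHom)) ≫ T'.fromSpecResidueField t'
  let i := jL.comp iK.toRingHom
  refine (hext k (AlgebraicClosure L) i _ _).2 ?_
  let σ := (Scheme.SpecToEquivOfField k T).symm ⟨h t', ψ⟩
  have hcomm : σ' ≫ h = Spec.map (CommRingCat.ofHom i) ≫ σ := by
    show _ = Spec.map (CommRingCat.ofHom i) ≫ Spec.map ψ ≫ T.fromSpecResidueField (h t')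
    simp only [σ', Category.assoc, ← Scheme.Hom.SpecMap_residueFieldMap_fromSpecResidueField]
    simp only [← Category.assoc, ← Spec.map_comp]
    congr 2
    ext a
    exact congrArg jL ((iT.commutes a).trans (iK.commutes a).symm)
  let e : pullback (pullback.snd f σ) (Spec.map (CommRingCat.ofHom i)) ≅ pullback f' σ' :=
    pullbackLeftPullbackSndIso f σ (Spec.map (CommRingCat.ofHom i)) ≪≫ pullback.congrHom rfl hcomm.symm ≪≫
      ((IsPullback.of_hasPullback f' σ').paste_horiz sq).isoPullback.symm
  have he : e.hom ≫ pullback.snd f' σ' = pullback.snd _ _ := by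
    simp only [e, Iso.trans_hom, Category.assoc, Iso.symm_hom, IsPullback.isoPullback_inv_snd]
    simp
  exact he ▸ hiso _ _ _ e _ (H _ σ')

end Groth.Agent.S13628
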