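import Groth.Statements.S13631
import Mathlib.LinearAlgebra.Matrix.ToLinearEquiv
import Mathlib.LinearAlgebra.FreeModule.Finite.Basic
import Mathlib.RingTheory.Finiteness.Basic
import Mathlib.LinearAlgebra.Matrix.ToLin

set_option autoImplicit false
universe u v w
open CAlg

namespace Groth.Agent.S13631

/-- Let k be a field, R an integral domain which is a k-algebra of infinite dimension over k, M a finite
free R-module, σ a ring automorphism of R mapping the image of k onto itself, and φ : M → M a
σ-semilinear map. If the cokernel of φ is finite-dimensional over k, in the sense that some finitely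
generated k-subspace N of M satisfies M = N + φ(M), then φ is injective. -/
theorem result
    {k : Type u} {R : Type v} {M : Type w} [Field k] [CommRing R] [IsDomain R] [Algebra k R]
    (hR : ¬ Module.Finite k R)
    [AddCommGroup M] [Module R M] [Module k M] [IsScalarTower k R M]
    [Module.Finite R M] [Module.Free R M]
    (σ : R ≃+* R)
    (hσ : ∀ x : k, ∃ y : k, σ (algebraMap k R x) = algebraMap k R y)
    (hσ' : ∀ y : k, ∃ x : k, σ (algebraMap k R x) = algebraMap k R y)
    (φ : M →ₛₗ[(σ : R →+* R)] M)
    (hcoker : ∃ N : Submodule k M, N.FG ∧ ∀ m : M, ∃ n ∈ N, ∃ m' : M, m = n + φ m') :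
    Function.Injective φ := by
  classical
  let ι := Module.Free.ChooseBasisIndex R M
  let b : Module.Basis ι R M := Module.Free.chooseBasis R M
  obtain ⟨N, hN, hdec⟩ := hcoker
  have hf : ∀ c : ι → R, φ (∑ i, c i • b i) = ∑ i, σ (c i) • φ (b i) := by
    intro c; rw [map_sum]; simp [LinearMap.map_smulₛₗ]
  let Φ : Matrix ι ι R := Matrix.of fun j i => b.repr (φ (b i)) j
  have htor : ∀ m : M, ∃ a : R, a ≠ 0 ∧ ∃ c : ι → R, a • m = ∑ i, c i • φ (b i) := by
    intro m
    let W : Submodule R M := Submodule.span R (Set.range fun i => φ (b i))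
    have hW : ∀ x, φ x ∈ W := fun x => by
      rw [← b.sum_repr x, hf]
      exact Submodule.sum_mem _ fun i _ => Submodule.smul_mem _ _ (Submodule.subset_span ⟨i, rfl⟩)
    let Wk : Submodule k M := W.restrictScalars k
    let ψ : R →ₗ[k] M ⧸ Wk := Wk.mkQ ∘ₗ (LinearMap.toSpanSingleton R M m).restrictScalars k
    have : Module.Finite k (M ⧸ Wk) := by
      refine ⟨?_⟩
      have : N.map Wk.mkQ = ⊤ := eq_top_iff.mpr fun x _ => by
        obtain ⟨x, rfl⟩ := Submodule.mkQ_surjective Wk x
        obtain ⟨n, hn, m', rfl⟩ := hdec x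
        refine ⟨n, hn, ?_⟩
        rw [map_add, (Submodule.Quotient.mk_eq_zero Wk).mpr (hW m') |> fun h => (show Wk.mkQ (φ m') = 0 from h), add_zero]
      exact this ▸ hN.map _
    have hker : ¬ Function.Injective ψ := fun h => hR (Module.Finite.of_injective ψ h)
    rw [injective_iff_map_eq_zero] at hker
    push Not at hker
    obtain ⟨a, ha, ha0⟩ := hker
    have hmem : a • m ∈ W := (Submodule.Quotient.mk_eq_zero Wk).mp ha
    obtain ⟨c, hc⟩ := (Submodule.mem_span_range_iff_exists_fun R).mp hmem
    exact ⟨a, ha0, c, hc.symm⟩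
  choose a ha c hc using fun j => htor (b j)
  have hmul : Φ * Matrix.of (fun i j => c j i) = Matrix.diagonal a := by
    ext l j
    have := congrArg (fun x => b.repr x l) (hc j)
    simp [Finsupp.single_apply] at this
    rw [Matrix.mul_apply, Matrix.diagonal_apply]
    simp only [Φ, Matrix.of_apply]
    rw [show (∑ i, b.repr (φ (b i)) l * c j i) = ∑ i, c j i * b.repr (φ (b i)) l from Finset.sum_congr rfl fun i _ => mul_comm _ _, ← this]
    by_cases h : l = j
    · subst h; simp
    · simp [h, Ne.symm h]
  have hdet : Φ.det ≠ 0 := by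
    intro h0
    have := congrArg Matrix.det hmul
    rw [Matrix.det_mul, h0, zero_mul, Matrix.det_diagonal] at this
    exact (Finset.prod_ne_zero_iff.mpr fun i _ => ha i) this.symm
  rw [injective_iff_map_eq_zero]
  intro x hx
  rw [← b.sum_repr x, hf] at hx
  have hv : Matrix.mulVec Φ (fun i => σ (b.repr x i)) = 0 := by
    ext l
    have := congrArg (fun y => b.repr y l) hx
    simp at this
    simpa [Matrix.mulVec, dotProduct, Φ, mul_comm] using this
  by_contra hx0
  apply hdet
  refine Matrix.exists_mulVec_eq_zero_iff.mp ⟨_, ?_, hv⟩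
  intro h
  apply hx0
  apply b.repr.injective
  ext i
  simpa using congrFun h i

end Groth.Agent.S13631
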