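import Groth.Statements.S13632
import Mathlib

set_option autoImplicit false
universe u
open TensorProduct
open CAlg

namespace Groth.Agent.S13632

theorem exists_smul_mem {R : Type u} [CommRing R] (p : Ideal R) [p.IsPrime] {M : Type u} [AddCommGroup M] [Module R M]
    {y : M} (hy : (1 : p.ResidueField) ⊗ₜ[R] y = 0) : ∃ s ∉ p, s • y ∈ p • (⊤ : Submodule R M) := by
  let L := Localization.AtPrime p
  let m : Submodule R L := (IsLocalRing.maximalIdeal L).restrictScalars R
  let q : L →ₗ[R] p.ResidueField := (IsScalarTower.toAlgHom R L p.ResidueField).toLinearMap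
  have hq : Function.Exact m.subtype q := by
    intro x
    have h : q x = 0 ↔ x ∈ IsLocalRing.maximalIdeal L := IsLocalRing.residue_eq_zero_iff x
    simp [h, m]
  have hqs : Function.Surjective q := IsLocalRing.residue_surjective
  have key : ∀ w, ∃ s ∉ p, ∃ x ∈ p • (⊤ : Submodule R M), s • LinearMap.rTensor M m.subtype w = (1 : L) ⊗ₜ[R] x := by
    intro w
    induction w using TensorProduct.induction_on with
    | zero => exact ⟨1, fun h => (Ideal.IsPrime.ne_top ‹_›) ((Ideal.eq_top_iff_one p).2 h), 0, zero_mem _, by simp⟩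
    | tmul l z =>
      obtain ⟨⟨r, s⟩, hrs⟩ := IsLocalization.surj p.primeCompl (l : L)
      have hr : r ∈ p := by
        by_contra h
        have h1 : IsUnit ((l : L) * algebraMap R L s) := by
          rw [hrs]; exact IsLocalization.map_units L (⟨r, h⟩ : p.primeCompl)
        exact (IsLocalRing.mem_maximalIdeal _).1 l.2 (isUnit_of_mul_isUnit_left h1)
      refine ⟨s, s.2, r • z, Submodule.smul_mem_smul hr Submodule.mem_top, ?_⟩
      rw [LinearMap.rTensor_tmul, TensorProduct.smul_tmul', Submodule.coe_subtype, Algebra.smul_def,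
        mul_comm, hrs, ← mul_one (algebraMap R L r), ← Algebra.smul_def, TensorProduct.smul_tmul]
    | add a b ha hb =>
      obtain ⟨s, hs, x, hx, ha⟩ := ha
      obtain ⟨t, ht, x', hx', hb⟩ := hb
      refine ⟨s * t, fun h => (Ideal.IsPrime.mem_or_mem ‹_› h).elim hs ht, t • x + s • x',
        add_mem (Submodule.smul_mem _ t hx) (Submodule.smul_mem _ s hx'), ?_⟩
      rw [map_add, smul_add, mul_comm s t, mul_smul, ha, mul_comm t s, mul_smul, hb,
        ← TensorProduct.tmul_smul, ← TensorProduct.tmul_smul, ← TensorProduct.tmul_add]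
  have h0 : LinearMap.rTensor M q ((1 : L) ⊗ₜ[R] y) = 0 := by
    rw [LinearMap.rTensor_tmul]
    simpa [q] using hy
  obtain ⟨w, hw⟩ := (rTensor_exact M hq hqs _).1 h0
  obtain ⟨s, hs, x, hx, he⟩ := key w
  rw [hw, ← TensorProduct.tmul_smul] at he
  obtain ⟨u, hu⟩ := (IsLocalizedModule.eq_iff_exists p.primeCompl (TensorProduct.mk R L M 1)).1 he
  refine ⟨u * s, fun h => (Ideal.IsPrime.mem_or_mem ‹_› h).elim u.2 hs, ?_⟩
  rw [mul_smul]
  rw [Submonoid.smul_def, Submonoid.smul_def] at hu
  rw [hu]
  exact Submodule.smul_mem _ _ hx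

theorem exists_fg_localized {R : Type u} [CommRing R] (p : Ideal R) [p.IsPrime] {n : ℕ} {A : Type u}
    [AddCommGroup A] [Module R A] [Module.Finite R A] [Module.Flat R A] (π : (Fin n → R) →ₗ[R] A)
    (hπ : Function.Surjective π) : ∃ T : Finset (Fin n → R), (∀ c ∈ T, π c = 0) ∧
      ∀ c, π c = 0 → ∃ s ∉ p, s • c ∈ Submodule.span R (T : Set (Fin n → R)) := by
  classical
  let S := p.primeCompl
  let L := Localization.AtPrime p
  let f := LocalizedModule.mkLinearMap S (Fin n → R)
  let g := LocalizedModule.mkLinearMap S A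
  let π' : LocalizedModule S (Fin n → R) →ₗ[L] LocalizedModule S A := LocalizedModule.map S π
  have hπ' : Function.Surjective π' := LocalizedModule.map_surjective S π hπ
  haveI : Module.Free L (LocalizedModule S A) := Module.free_of_flat_of_isLocalRing
  haveI : Module.Finite L (LocalizedModule S A) := Module.Finite.of_isLocalizedModule S g
  haveI : Module.Finite L (LocalizedModule S (Fin n → R)) := Module.Finite.of_isLocalizedModule S f
  haveI := Module.finitePresentation_of_projective L (LocalizedModule S A)
  obtain ⟨G, hG⟩ := Module.FinitePresentation.fg_ker π' hπ'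
  have hker : ∀ z ∈ G, ∃ c, π c = 0 ∧ ∃ s : S, z = LocalizedModule.mk c s := by
    intro z hz
    have h0 : π' z = 0 := LinearMap.mem_ker.1 (hG ▸ Submodule.subset_span hz)
    induction z using LocalizedModule.induction_on with
    | h m s =>
      rw [show π' (LocalizedModule.mk m s) = LocalizedModule.mk (π m) s from LocalizedModule.map_mk S π m s,
        ← LocalizedModule.zero_mk s, LocalizedModule.mk_eq] at h0
      obtain ⟨u, hu⟩ := h0
      simp only [smul_zero, ← mul_smul] at hu
      refine ⟨(u * s) • m, ?_, u * s * s, ?_⟩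
      · rw [Submonoid.smul_def, map_smul, ← Submonoid.smul_def, hu]
      · rw [LocalizedModule.mk_eq]
        exact ⟨1, by simp only [← mul_smul]; congr 1; simp [mul_comm, mul_left_comm]⟩
  choose cc hcc ss hss using hker
  refine ⟨G.attach.image fun z => cc z.1 z.2, ?_, ?_⟩
  · intro c hc
    obtain ⟨z, -, rfl⟩ := Finset.mem_image.1 hc
    exact hcc _ _
  intro c hc
  have hmem : f c ∈ Submodule.span L (G : Set (LocalizedModule S (Fin n → R))) := by
    rw [hG, LinearMap.mem_ker]
    change π' (LocalizedModule.mk c 1) = 0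
    rw [show π' (LocalizedModule.mk c 1) = LocalizedModule.mk (π c) 1 from LocalizedModule.map_mk S π c 1, hc,
      LocalizedModule.zero_mk]
  have hle : Submodule.span L (G : Set (LocalizedModule S (Fin n → R))) ≤
      Submodule.localized' L S f (Submodule.span R ((G.attach.image fun z => cc z.1 z.2 : Finset _) : Set _)) := by
    rw [Submodule.span_le]
    intro z hz
    refine ⟨cc z hz, Submodule.subset_span (Finset.mem_image.2 ⟨⟨z, hz⟩, Finset.mem_attach _ _, rfl⟩), ss z hz, ?_⟩
    refine Eq.trans ?_ (hss z hz).symm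
    exact IsLocalizedModule.mk'_eq_iff.2 (by simp [f, LocalizedModule.smul'_mk, Submonoid.smul_def, ← LocalizedModule.mk_cancel (ss z hz)])
  obtain ⟨j, hj, s, hs⟩ := hle hmem
  rw [IsLocalizedModule.mk'_eq_iff, ← LinearMap.map_smul_of_tower] at hs
  obtain ⟨u, hu⟩ := (IsLocalizedModule.eq_iff_exists S f).1 hs
  refine ⟨u * s, fun h => (Ideal.IsPrime.mem_or_mem ‹_› h).elim u.2 s.2, ?_⟩
  rw [mul_smul]
  rw [Submonoid.smul_def, Submonoid.smul_def, Submonoid.smul_def] at hu
  rw [← hu]
  exact Submodule.smul_mem _ _ hj


/-- Let S = Spec R, X = Spec A finite and flat over S, Y = Spec B of finite type over S, and φ : X → Y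
an S-morphism given by f : B → A. If for every point s of S the fibres X_s and Y_s have the same
order (the κ(s)-dimension of their rings of global sections κ(s) ⊗ A and κ(s) ⊗ B; equivalently at
every geometric point) and φ is an isomorphism over every closed point of S (κ(m) ⊗ f bijective for
every maximal ideal m), then φ is an isomorphism, i.e. f is bijective. (The published statement
allows an arbitrary base scheme S and Y separated of finite type over S; this row is the case of an
affine base with X and Y affine, the case its proof treats directly. Over a base with no closed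
points the general statement fails: the hypothesis at closed points is then empty.) -/
theorem result
    {R A B : Type u} [CommRing R] [CommRing A] [CommRing B] [Algebra R A] [Algebra R B]
    [Module.Finite R A] [Module.Flat R A] [Algebra.FiniteType R B]
    (f : B →ₐ[R] A)
    (hrank : ∀ p : PrimeSpectrum R,
      Module.rank p.asIdeal.ResidueField (p.asIdeal.ResidueField ⊗[R] B) =
        Module.rank p.asIdeal.ResidueField (p.asIdeal.ResidueField ⊗[R] A))
    (hmax : ∀ (m : Ideal R) [m.IsMaximal],
      Function.Bijective (LinearMap.lTensor m.ResidueField f.toLinearMap)) :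
    Function.Bijective f := by
  classical
  have hsurj : Function.Surjective f := by
    have hC : Subsingleton (A ⧸ LinearMap.range f.toLinearMap) := by
      rw [← Module.support_eq_empty_iff (R := R), Set.eq_empty_iff_forall_notMem]
      intro p hp
      obtain ⟨m, hm, hle⟩ := p.asIdeal.exists_le_maximal p.2.ne_top
      have hsup := Module.mem_support_mono (q := ⟨m, hm.isPrime⟩) hle hp
      rw [Module.mem_support_iff_nontrivial_residueField_tensorProduct, ← not_subsingleton_iff_nontrivial] at hsup
      refine hsup (subsingleton_of_forall_eq 0 fun z => ?_)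
      obtain ⟨w, rfl⟩ := LinearMap.lTensor_surjective m.ResidueField
        (Submodule.mkQ_surjective (LinearMap.range f.toLinearMap)) z
      obtain ⟨b, rfl⟩ := (hmax m).2 w
      rw [← LinearMap.comp_apply, ← LinearMap.lTensor_comp, LinearMap.range_mkQ_comp]
      simp
    rw [Submodule.Quotient.subsingleton_iff] at hC
    exact LinearMap.range_eq_top.1 hC
  refine ⟨?_, hsurj⟩
  let I : Submodule R B := LinearMap.ker f.toLinearMap
  have hI : ∀ (p : Ideal R) [p.IsPrime] (y : I), ∃ s ∉ p, s • y ∈ p • (⊤ : Submodule R I) := by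
    intro p _ y
    refine exists_smul_mem p ?_
    have hexa : Function.Exact I.subtype f.toLinearMap := f.toLinearMap.exact_subtype_ker_map
    have hinjI : Function.Injective (LinearMap.lTensor p.ResidueField I.subtype) :=
      LinearMap.lTensor_injective_of_exact_of_flat f.toLinearMap hsurj I.subtype I.injective_subtype hexa _
    let F := f.toLinearMap.baseChange p.ResidueField
    have hF : Function.Surjective F := LinearMap.lTensor_surjective p.ResidueField hsurj
    have hr : Module.rank p.ResidueField (p.ResidueField ⊗[R] B) = Module.rank p.ResidueField (p.ResidueField ⊗[R] A) :=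
      hrank ⟨p, inferInstance⟩
    haveI : Module.Finite p.ResidueField (p.ResidueField ⊗[R] B) := by
      rw [← Module.rank_lt_aleph0_iff, hr]
      exact Module.rank_lt_aleph0 _ _
    have hFinj : Function.Injective F :=
      (LinearMap.injective_iff_surjective_of_finrank_eq_finrank (congrArg Cardinal.toNat hr)).2 hF
    refine hinjI (hFinj ?_)
    rw [map_zero, map_zero]
    show (f.toLinearMap.baseChange p.ResidueField) ((1 : p.ResidueField) ⊗ₜ[R] (y : B)) = 0
    rw [LinearMap.baseChange_tmul, show f.toLinearMap (y : B) = 0 from y.2, TensorProduct.tmul_zero]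
  rw [injective_iff_map_eq_zero]
  intro y hy
  obtain ⟨n, π, hπ⟩ := Module.Finite.exists_fin' R A
  choose b hb using fun i : Fin n => hsurj (π (Pi.single i 1))
  let β : (Fin n → R) →ₗ[R] B := Fintype.linearCombination R b
  have hβ : ∀ c, f (β c) = π c := by
    have h : f.toLinearMap ∘ₗ β = π := by
      refine LinearMap.pi_ext' fun i => LinearMap.ext_ring ?_
      simp [β, Fintype.linearCombination_apply, hb]
    exact fun c => LinearMap.congr_fun h c
  obtain ⟨G, hG⟩ := Algebra.FiniteType.out (R := R) (A := B)
  choose c1 hc1 using fun x : A => hπ x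
  let E : Finset B := insert (1 - β (c1 1)) ((G ×ˢ Finset.univ).image
    fun xi : B × Fin n => xi.1 * b xi.2 - β (c1 (f (xi.1 * b xi.2))))
  by_contra hy0
  obtain ⟨q, hq, hle⟩ := Ideal.exists_le_maximal (LinearMap.ker (LinearMap.toSpanSingleton B B y))
    (fun h => hy0 (by simpa using (Ideal.eq_top_iff_one _).1 h))
  let p := q.under R
  obtain ⟨T, hT0, hT⟩ := exists_fg_localized p π hπ
  let J : Ideal B := Ideal.span ((E ∪ T.image β : Finset B) : Set B)
  have hJf : ∀ z ∈ J, f z = 0 := by
    intro z hz
    refine RingHom.mem_ker.1 ((Ideal.span_le.2 ?_ : J ≤ RingHom.ker f) hz)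
    intro w hw
    simp only [Finset.coe_union, Finset.coe_image, Set.mem_union, Set.mem_image, Finset.mem_coe] at hw
    rw [SetLike.mem_coe, RingHom.mem_ker]
    rcases hw with hw | ⟨c, hc, rfl⟩
    · simp only [E, Finset.mem_insert, Finset.mem_image] at hw
      rcases hw with rfl | ⟨xi, -, rfl⟩ <;> simp [hβ, hc1]
    · rw [hβ, hT0 c hc]
  have hEJ : ∀ z ∈ E, z ∈ J := fun z hz => Ideal.subset_span (Finset.mem_union_left _ hz)
  have hspan : ∀ z : B, ∃ c, z - β c ∈ J := by
    intro z
    have hz : z ∈ Algebra.adjoin R (G : Set B) := hG ▸ Algebra.mem_top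
    suffices h : ∀ w, (∃ c, w - β c ∈ J) → ∃ c, z * w - β c ∈ J by
      simpa using h 1 ⟨c1 1, hEJ _ (Finset.mem_insert_self _ _)⟩
    induction hz using Algebra.adjoin_induction with
    | mem x hx =>
      rintro w ⟨c, hc⟩
      have h : ∀ c, ∃ c', x * β c - β c' ∈ J := by
        intro c
        refine ⟨∑ i, c i • c1 (f (x * b i)), ?_⟩
        rw [map_sum, show β c = ∑ i, c i • b i from Fintype.linearCombination_apply R b c, Finset.mul_sum,
          ← Finset.sum_sub_distrib]
        refine Ideal.sum_mem _ fun i _ => ?_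
        rw [map_smul, Algebra.mul_smul_comm, ← smul_sub]
        exact Submodule.smul_of_tower_mem J _ (hEJ _ (Finset.mem_insert_of_mem
          (Finset.mem_image.2 ⟨(x, i), Finset.mem_product.2 ⟨hx, Finset.mem_univ _⟩, rfl⟩)))
      obtain ⟨c', hc'⟩ := h c
      refine ⟨c', ?_⟩
      have e : x * w - β c' = x * (w - β c) + (x * β c - β c') := by ring
      rw [e]; exact add_mem (J.mul_mem_left _ hc) hc'
    | algebraMap r =>
      rintro w ⟨c, hc⟩
      refine ⟨r • c, ?_⟩
      rw [map_smul, ← Algebra.smul_def, ← smul_sub]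
      exact Submodule.smul_of_tower_mem J _ hc
    | add u v _ _ hu hv =>
      intro w hw
      obtain ⟨c, hc⟩ := hu w hw
      obtain ⟨c', hc'⟩ := hv w hw
      refine ⟨c + c', ?_⟩
      rw [map_add, add_mul, add_sub_add_comm]
      exact add_mem hc hc'
    | mul u v _ _ hu hv =>
      intro w hw
      rw [mul_assoc]
      exact hu _ (hv w hw)
  have hmul : ∀ z : B, f z = 0 → ∃ s ∉ p, s • z ∈ J := by
    intro z hz
    obtain ⟨c, hc⟩ := hspan z
    have hc0 : π c = 0 := by
      have := hJf _ hc
      rw [map_sub, hz, hβ, zero_sub, neg_eq_zero] at this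
      exact this
    obtain ⟨s, hs, hsc⟩ := hT c hc0
    refine ⟨s, hs, ?_⟩
    have hle : (Submodule.span R (T : Set (Fin n → R))).map β ≤ J.restrictScalars R := by
      rw [Submodule.map_span, Submodule.span_le]
      rintro _ ⟨d, hd, rfl⟩
      exact Ideal.subset_span (Finset.mem_union_right _ (Finset.mem_image_of_mem β hd))
    have h1 : s • β c ∈ J := map_smul β s c ▸ hle ⟨_, hsc, rfl⟩
    have : s • z = s • (z - β c) + s • β c := by rw [smul_sub, sub_add_cancel]
    rw [this]
    exact add_mem (Submodule.smul_of_tower_mem J _ hc) h1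
  have hqJ : J ≤ q * J := by
    intro z hz
    obtain ⟨s, hs, hsz⟩ := hI p ⟨z, hJf z hz⟩
    have key : ∀ w ∈ p • (⊤ : Submodule R I), ∃ t ∉ p, t • (w : B) ∈ q * J := by
      intro w hw
      induction hw using Submodule.smul_induction_on' with
      | smul r hr w _ =>
        obtain ⟨t, ht, htw⟩ := hmul w w.2
        refine ⟨t, ht, ?_⟩
        rw [Submodule.coe_smul, smul_comm, Algebra.smul_def r]
        exact Ideal.mul_mem_mul hr htw
      | add u _ v _ hu hv =>
        obtain ⟨t, ht, htu⟩ := hu
        obtain ⟨t', ht', htv⟩ := hv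
        refine ⟨t * t', fun h => (Ideal.IsPrime.mem_or_mem inferInstance h).elim ht ht', ?_⟩
        rw [Submodule.coe_add, smul_add]
        refine add_mem ?_ ?_
        · rw [mul_comm t t', mul_smul]; exact Submodule.smul_of_tower_mem _ _ htu
        · rw [mul_smul]; exact Submodule.smul_of_tower_mem _ _ htv
    obtain ⟨t, ht, htz⟩ := key _ hsz
    have htz' : algebraMap R B (t * s) * z ∈ q * J := by
      rw [← Algebra.smul_def, mul_smul]; exact htz
    have hu : algebraMap R B (t * s) ∉ q := fun h => (Ideal.IsPrime.mem_or_mem (inferInstance : p.IsPrime) h).elim ht hs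
    obtain ⟨a, e, he, hsum⟩ := hq.exists_inv hu
    rw [show z = a * (algebraMap R B (t * s) * z) + e * z by rw [← mul_assoc, ← add_mul, hsum, one_mul]]
    exact add_mem (Ideal.mul_mem_left _ _ htz') (Ideal.mul_mem_mul he hz)
  obtain ⟨r, hr1, hr⟩ := Submodule.exists_sub_one_mem_and_smul_eq_zero_of_fg_of_le_smul q J
    ⟨_, rfl⟩ hqJ
  obtain ⟨s, hs, hsy⟩ := hmul y hy
  have hmem : r * algebraMap R B s ∈ LinearMap.ker (LinearMap.toSpanSingleton B B y) := by
    rw [LinearMap.mem_ker, LinearMap.toSpanSingleton_apply, smul_eq_mul, mul_assoc, ← Algebra.smul_def]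
    exact hr _ hsy
  rcases hq.isPrime.mem_or_mem (hle hmem) with h | h
  · exact hq.ne_top ((Ideal.eq_top_iff_one q).2 (by simpa using q.sub_mem h hr1))
  · exact hs h

end Groth.Agent.S13632
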