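import Groth.Statements.S13634
import Mathlib.CategoryTheory.Sites.LocallySurjective
import Mathlib.CategoryTheory.Sites.EpiMono
import Mathlib.Algebra.Category.Grp.Kernels
-- import your own Groth.Agent.* helpers here

set_option autoImplicit false
universe u
open CategoryTheory CategoryTheory.Limits MonoidalCategory CartesianMonoidalCategory MonObj AlgebraicGeometry
open MultSch

namespace Groth.Agent.S13634

theorem comp_tuple {C : Type*} [Category C] [CartesianMonoidalCategory C] {M T T' : C} (g : T' ⟶ T) :
    ∀ {r : ℕ} (x : Fin r → (T ⟶ M)), g ≫ MultSch.tuple x = MultSch.tuple (fun l => g ≫ x l)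
  | 0, _ => toUnit_unique _ _
  | _ + 1, x => by
    refine (comp_lift g (x 0) (MultSch.tuple fun l => x l.succ)).trans ?_
    rw [comp_tuple g]
    rfl

theorem sieve_finset_inf {C : Type*} [Category C] (J : GrothendieckTopology C) {T : C} {κ : Type*} (s : Finset κ)
    (R : κ → Sieve T) (h : ∀ i ∈ s, R i ∈ J T) : s.inf R ∈ J T := by
  classical
  induction s using Finset.induction_on with
  | empty => simp
  | insert a s ha ih =>
    rw [Finset.inf_insert]
    exact J.intersection_covering (h a (Finset.mem_insert_self _ _))
      (ih fun i hi => h i (Finset.mem_insert_of_mem hi))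

/-- Let π : M → M'' be a homomorphism of commutative group schemes over a scheme S which is an
epimorphism of fppf sheaves, H a commutative group scheme over S and φ : (M'')^r → H a multilinear
morphism. If the composite of φ with π^r : M^r → (M'')^r is alternating, then φ is alternating. (The
published statement is for module schemes over a ring R and an R-multilinear φ; the ring action
plays no role, so this row states it for commutative group schemes, which contains that case.) -/
theorem result
    {S : Scheme.{u}} {M M'' H : Over S}
    [GrpObj M] [IsCommMonObj M] [GrpObj M''] [IsCommMonObj M''] [GrpObj H] [IsCommMonObj H]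
    (π : M ⟶ M'') [IsMonHom π] (hπ : Epi (CGrpSh.ptsMap Scheme.fppfPrecoverage π))
    {r : ℕ} (φ : MultSch.pow M'' r ⟶ H) (hφ : MultSch.IsMultilinear φ)
    (halt : ∀ (T : Over S) (x : Fin r → (T ⟶ M)) (i j : Fin r), i ≠ j → x i = x j →
      MultSch.tuple (fun l => x l ≫ π) ≫ φ = 1) :
    MultSch.IsAlternating φ := by
  intro T x i j hij hxij
  have hls : Sheaf.IsLocallySurjective (CGrpSh.ptsMap Scheme.fppfPrecoverage π) :=
    (Sheaf.isLocallySurjective_iff_epi' (A := AddCommGrpCat.{u + 1}) _).2 hπ
  let sect : ∀ l, (CGrpSh.pts Scheme.fppfPrecoverage M'').obj.obj (Opposite.op T) := fun l => ULift.up (Additive.ofMul (x l))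
  let R : Fin r → Sieve T := fun l => Presheaf.imageSieve (CGrpSh.ptsMap Scheme.fppfPrecoverage π).hom (sect l)
  have hR := sieve_finset_inf _ Finset.univ R fun l _ => hls.imageSieve_mem (sect l)
  have hsep := ((CategoryTheory.isSheaf_iff_isSheaf_of_type _ _).1
    ((sheafCompose _ (forget AddCommGrpCat.{u + 1})).obj (CGrpSh.pts Scheme.fppfPrecoverage H)).property) _ hR
  have key : (ULift.up (Additive.ofMul (MultSch.tuple x ≫ φ)) : (CGrpSh.pts Scheme.fppfPrecoverage H).obj.obj (Opposite.op T)) =
      ULift.up (Additive.ofMul 1) := by
    refine hsep.isSeparatedFor.ext fun T' g hg => ?_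
    refine ULift.ext _ _ (congrArg Additive.ofMul ?_)
    change g ≫ MultSch.tuple x ≫ φ = g ≫ 1
    have hy : ∀ l, ∃ y : T' ⟶ M, y ≫ π = g ≫ x l := fun l => by
      obtain ⟨y, hy⟩ := (Finset.inf_le (f := R) (Finset.mem_univ l)) g hg
      exact ⟨y.down.toMul, congrArg (fun z => z.down.toMul) hy⟩
    choose y hy using hy
    have hy' : ∀ l, Function.update y j (y i) l ≫ π = g ≫ x l := by
      intro l
      rcases eq_or_ne l j with rfl | hl
      · rw [Function.update_self, hy, hxij]
      · rw [Function.update_of_ne hl, hy]
    have := halt T' (Function.update y j (y i)) i j hij (by rw [Function.update_self, Function.update_of_ne hij])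
    simp only [hy'] at this
    rw [← Category.assoc, comp_tuple, this, MonObj.comp_one]
  exact congrArg (fun z => z.down.toMul) key

end Groth.Agent.S13634
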