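import Groth.Statements.S13664
import Groth.Agent.GrRingLib.Eventual
-- import your own Groth.Agent.* helpers here

set_option autoImplicit false
universe u
open GrRing

namespace Groth.Agent.S13664

/-- Let A be a commutative ring graded by the integers whose ideal I generated by the homogeneous
elements of positive degree has homogeneous generators f_1, …, f_p, of positive degrees d_1, …, d_p,
let d be a positive integer divisible by each d_i, and let x be an element of an A-module M. The
following are equivalent: x is annihilated by some power of I; x is annihilated by (A_d)^n for all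
sufficiently large n; there is an integer s such that A_n x = 0 for all n ≥ s. (The published
statement is for a homogeneous element of a graded module; this row drops both the grading of M and
the homogeneity of x, which play no role.) -/
theorem result {R A : Type u} [CommRing R] [CommRing A] [Algebra R A]
    (𝒜 : ℤ → Submodule R A) [GradedAlgebra 𝒜]
    {p : ℕ} (f : Fin p → A) (deg : Fin p → ℤ) (hdeg : ∀ i, 0 < deg i) (hf : ∀ i, f i ∈ 𝒜 (deg i))
    (hgen : Ideal.span {a : A | ∃ n : ℤ, 0 < n ∧ a ∈ 𝒜 n} = Ideal.span (Set.range f))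
    (d : ℤ) (hd : 0 < d) (hdvd : ∀ i, deg i ∣ d)
    {M : Type u} [AddCommGroup M] [Module A M] (x : M) :
    [x ∈ GrLC.gam (Ideal.span (Set.range f)) M,
     ∃ n₀ : ℕ, ∀ n : ℕ, n₀ ≤ n → ∀ r ∈ (𝒜 d) ^ n, r • x = 0,
     ∃ s : ℤ, ∀ n : ℤ, s ≤ n → ∀ r ∈ 𝒜 n, r • x = 0].TFAE := by
  have hdI : 𝒜 d ≤ Submodule.restrictScalars R (Ideal.span (Set.range f)) := fun a ha =>
    hgen.le (Ideal.subset_span ⟨d, hd, ha⟩)
  tfae_have 1 → 2 := by
    rintro ⟨k, hk⟩
    refine ⟨k, fun n hn r hr => hk r ?_⟩
    have : (𝒜 d) ^ n ≤ Submodule.restrictScalars R ((Ideal.span (Set.range f)) ^ n) := by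
      clear hn hr
      induction n with
      | zero => simp
      | succ n ih =>
        rw [pow_succ, Submodule.mul_le]
        intro a ha b hb
        show a * b ∈ (Ideal.span (Set.range f)) ^ (n + 1)
        rw [pow_succ]
        exact Ideal.mul_mem_mul (ih ha) (hdI hb)
    exact Ideal.pow_le_pow_right hn (this hr)
  tfae_have 2 → 3 := by
    rintro ⟨n₀, h⟩
    refine ⟨d * p - ∑ i, deg i + n₀ * d + 1, fun n hn r hr => ?_⟩
    have := Groth.Agent.GrRingLib.piece_le_pow_mul 𝒜 f deg hdeg hf hgen d hd hdvd n₀ n (by omega) hr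
    refine Submodule.mul_induction_on this (fun a ha b _ => ?_) (fun a b ha hb => ?_)
    · rw [mul_comm, mul_smul, h n₀ le_rfl a ha, smul_zero]
    · rw [add_smul, ha, hb, add_zero]
  tfae_have 3 → 1 := by
    rintro ⟨s, h⟩
    have key : ∀ (k : ℕ) (n : ℤ), s ≤ n + k → ∀ r ∈ (Ideal.span (Set.range f)) ^ k, ∀ a ∈ 𝒜 n,
        (r * a) • x = 0 := by
      intro k
      induction k with
      | zero =>
        intro n hn r _ a ha
        rw [mul_smul, h n (by simpa using hn) a ha, smul_zero]
      | succ k ih =>
        intro n hn r hr a ha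
        rw [pow_succ] at hr
        refine Submodule.mul_induction_on hr (fun u hu v hv => ?_) (fun u v hu hv => ?_)
        · obtain ⟨c, rfl⟩ := Ideal.mem_span_range_iff_exists_fun.1 hv
          rw [Finset.mul_sum, Finset.sum_mul, Finset.sum_smul]
          refine Finset.sum_eq_zero fun j _ => ?_
          rw [show u * (c j * f j) * a = u * c j * (f j * a) by ring]
          exact ih (deg j + n) (by push_cast at hn; linarith [hdeg j]) _
            (Ideal.mul_mem_right _ _ hu) _ (SetLike.mul_mem_graded (hf j) ha)
        · rw [add_mul, add_smul, hu, hv, add_zero]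
    refine ⟨s.toNat, fun r hr => ?_⟩
    have := key s.toNat 0 (by omega) r hr 1 (SetLike.one_mem_graded 𝒜)
    rwa [mul_one] at this
  tfae_finish

end Groth.Agent.S13664
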