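import Groth.Statements.S13665
import Mathlib
-- import your own Groth.Agent.* helpers here

set_option autoImplicit false
universe u
open GrRing

namespace Groth.Agent.S13665

/-- For a commutative ring A graded by the integers, with degree-zero subring A_0, the following are
equivalent: A is Noetherian; each homogeneous ideal of A has a finite generating set; A_0 is
Noetherian and the subalgebras A_{≥0}, A_{≤0} are each of finite type over A_0; A_0 is Noetherian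
and A is an A_0-algebra of finite type. -/
theorem result {R A : Type u} [CommRing R] [CommRing A] [Algebra R A]
    (𝒜 : ℤ → Submodule R A) [GradedAlgebra 𝒜] :
    [IsNoetherianRing A,
     ∀ I : Ideal A, I.IsHomogeneous 𝒜 → I.FG,
     IsNoetherianRing (𝒜 0) ∧ (Algebra.adjoin (𝒜 0) {a : A | ∃ n : ℤ, 0 ≤ n ∧ a ∈ 𝒜 n}).FG ∧
       (Algebra.adjoin (𝒜 0) {a : A | ∃ n : ℤ, n ≤ 0 ∧ a ∈ 𝒜 n}).FG,
     IsNoetherianRing (𝒜 0) ∧ Algebra.FiniteType (𝒜 0) A].TFAE := by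
  classical
  have hcomp : ∀ (n i : ℤ) (b a : A), a ∈ 𝒜 i →
      (DirectSum.decompose 𝒜 (b * a) n : A) = (DirectSum.decompose 𝒜 b (n - i) : A) * a := fun n i b a ha => by
    have h := DirectSum.coe_decompose_mul_add_of_right_mem 𝒜 (a := b) (i := n - i) ha
    rwa [sub_add_cancel] at h
  have hext : ∀ (s : Finset A) (n : ℤ), (∀ g ∈ s, ∃ i, g ∈ 𝒜 i) → ∀ x ∈ Ideal.span (s : Set A), x ∈ 𝒜 n →
      ∃ b : A → A, x = ∑ g ∈ s, b g * g ∧ ∀ g ∈ s, ∀ i, g ∈ 𝒜 i → b g ∈ 𝒜 (n - i) ∨ g = 0 := by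
    intro s n hs x hx hxn
    obtain ⟨f, -, hf⟩ := Submodule.mem_span_finset.mp hx
    choose deg hdeg using hs
    refine ⟨fun g => if hg : g ∈ s then DirectSum.decompose 𝒜 (f g) (n - deg g hg) else 0, ?_, ?_⟩
    · have h1 := congrArg (fun z => (DirectSum.decompose 𝒜 z n : A)) hf
      simp only [DirectSum.decompose_of_mem_same 𝒜 hxn] at h1
      rw [← h1, DirectSum.decompose_sum, DFinsupp.finset_sum_apply, AddSubmonoidClass.coe_finset_sum]
      refine Finset.sum_congr rfl fun g hg => ?_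
      simp only
      rw [dif_pos hg, smul_eq_mul, hcomp n _ _ _ (hdeg g hg)]
    · intro g hg i hgi
      simp only
      rw [dif_pos hg]
      rcases eq_or_ne g 0 with h0 | h0
      · exact Or.inr h0
      · rw [← DirectSum.degree_eq_of_mem_mem 𝒜 (hdeg g hg) hgi h0]
        exact Or.inl (SetLike.coe_mem _)
  have hgen : (∀ I : Ideal A, I.IsHomogeneous 𝒜 → I.FG) → ∀ S : Set A, (∀ g ∈ S, ∃ i, g ∈ 𝒜 i) →
      ∃ s : Finset A, (s : Set A) ⊆ S ∧ Ideal.span (s : Set A) = Ideal.span S := by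
    intro h S hS
    obtain ⟨s, hsS, hs⟩ := (Submodule.fg_span_iff_fg_span_finset_subset S).mp (h _ (Ideal.homogeneous_span 𝒜 S hS))
    exact ⟨s, hsS, hs.symm⟩
  have hside : (∀ I : Ideal A, I.IsHomogeneous 𝒜 → I.FG) → ∀ ε : ℤ, (ε = 1 ∨ ε = -1) →
      (Algebra.adjoin (𝒜 0) {a : A | ∃ n : ℤ, 0 ≤ ε * n ∧ a ∈ 𝒜 n}).FG := by
    intro h ε hε
    have hεε : ε * ε = 1 := by rcases hε with rfl | rfl <;> norm_num
    obtain ⟨sp, hspS, hsp⟩ := hgen h {a : A | ∃ n : ℤ, 0 < ε * n ∧ a ∈ 𝒜 n} (fun g ⟨n, _, hn⟩ => ⟨n, hn⟩)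
    have hpc : ∀ n : ℤ, ∃ s : Finset A, (s : Set A) ⊆ (𝒜 n : Set A) ∧ Ideal.span (s : Set A) = Ideal.span (𝒜 n : Set A) :=
      fun n => hgen h _ (fun g hg => ⟨n, hg⟩)
    choose pc hpcS hpc' using hpc
    have hdeg : ∀ g ∈ sp, ∃ n : ℕ, 0 < n ∧ g ∈ 𝒜 (ε * n) := fun g hg => by
      obtain ⟨n, hn, hgn⟩ := hspS hg
      refine ⟨(ε * n).toNat, by omega, ?_⟩
      rw [Int.toNat_of_nonneg hn.le, ← mul_assoc, hεε, one_mul]; exact hgn
    choose dg hdg hdgm using hdeg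
    let D := sp.attach.sup fun g => dg g.1 g.2
    let T : Finset A := sp ∪ (Finset.range (D + 1)).biUnion fun n => pc (ε * n)
    let S' := Algebra.adjoin (𝒜 0) (T : Set A)
    have hall : ∀ (m : ℕ) (a : A), a ∈ 𝒜 (ε * m) → a ∈ S' := by
      intro m
      induction m using Nat.strong_induction_on with
      | _ m ih =>
        intro a ha
        rcases le_or_gt m D with hm | hm
        · obtain ⟨b, hb, hbd⟩ := hext (pc (ε * m)) _ (fun g hg => ⟨_, hpcS _ hg⟩) a (hpc' _ ▸ Ideal.subset_span ha) ha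
          rw [hb]
          refine sum_mem fun g hg => ?_
          rcases hbd g hg _ (hpcS _ hg) with h1 | h1
          · rw [sub_self] at h1
            exact mul_mem (Subalgebra.algebraMap_mem S' (⟨b g, h1⟩ : 𝒜 0))
              (Algebra.subset_adjoin (Finset.mem_union_right _ (Finset.mem_biUnion.mpr ⟨m, Finset.mem_range.mpr (by omega), hg⟩)))
          · rw [h1, mul_zero]; exact zero_mem _
        · have hm0 : 0 < ε * (ε * (m : ℤ)) := by rw [← mul_assoc, hεε, one_mul]; omega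
          obtain ⟨b, hb, hbd⟩ := hext sp _ (fun g hg => ⟨_, hdgm g hg⟩) a (hsp ▸ Ideal.subset_span ⟨_, hm0, ha⟩) ha
          rw [hb]
          refine sum_mem fun g hg => ?_
          rcases hbd g hg _ (hdgm g hg) with h1 | h1
          · have hle : dg g hg ≤ D := Finset.le_sup (f := fun g : sp => dg g.1 g.2) (Finset.mem_attach sp ⟨g, hg⟩)
            refine mul_mem (ih (m - dg g hg) (by have := hdg g hg; omega) _ ?_) (Algebra.subset_adjoin (Finset.mem_union_left _ hg))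
            rwa [Nat.cast_sub (by omega), mul_sub]
          · rw [h1, mul_zero]; exact zero_mem _
    refine ⟨T, le_antisymm (Algebra.adjoin_mono fun g hg => ?_) (Algebra.adjoin_le ?_)⟩
    · rcases Finset.mem_union.mp hg with hg | hg
      · obtain ⟨n, hn, hgn⟩ := hspS hg
        exact ⟨n, hn.le, hgn⟩
      · obtain ⟨n, -, hgn⟩ := Finset.mem_biUnion.mp hg
        exact ⟨ε * n, by rw [← mul_assoc, hεε, one_mul]; positivity, hpcS _ hgn⟩
    · rintro a ⟨n, hn, ha⟩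
      refine hall (ε * n).toNat a ?_
      rwa [Int.toNat_of_nonneg hn, ← mul_assoc, hεε, one_mul]
  tfae_have 1 → 2 := fun h I _ => IsNoetherian.noetherian I
  tfae_have 2 → 3 := fun h => by
    refine ⟨isNoetherianRing_iff_ideal_fg _ |>.mpr fun J => ?_, ?_, ?_⟩
    · obtain ⟨s, hsS, hs⟩ := hgen h (Subtype.val '' (J : Set (𝒜 0))) (fun g ⟨z, _, hz⟩ => ⟨0, hz ▸ z.2⟩)
      obtain ⟨t, htJ, ht⟩ := Finset.subset_set_image_iff.mp hsS
      refine ⟨t, le_antisymm (Submodule.span_le.mpr htJ) fun z hz => ?_⟩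
      obtain ⟨b, hb, hbd⟩ := hext s 0 (fun g hg => by obtain ⟨w, _, hw⟩ := hsS hg; exact ⟨0, hw ▸ w.2⟩) z (hs ▸ Ideal.subset_span ⟨z, hz, rfl⟩) z.2
      have hmem : ∀ g ∈ s, ∃ (hg : g ∈ 𝒜 0), (⟨g, hg⟩ : 𝒜 0) ∈ Submodule.span (𝒜 0) (t : Set (𝒜 0)) := fun g hg => by
        rw [← ht, Finset.mem_image] at hg
        obtain ⟨w, hw, rfl⟩ := hg
        exact ⟨w.2, Submodule.subset_span hw⟩
      choose hg0 hgspan using hmem
      have key : ∀ g ∈ s, ∃ y ∈ Submodule.span (𝒜 0) (t : Set (𝒜 0)), (y : A) = b g * g := fun g hg => by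
        rcases hbd g hg 0 (hg0 g hg) with h1 | h1
        · rw [sub_zero] at h1
          exact ⟨(⟨b g, h1⟩ : 𝒜 0) • ⟨g, hg0 g hg⟩, Submodule.smul_mem _ _ (hgspan g hg), rfl⟩
        · exact ⟨0, zero_mem _, by rw [h1, mul_zero]; rfl⟩
      choose y hy hyv using key
      have hz' : z = ∑ g ∈ s.attach, y g.1 g.2 := Subtype.ext (by
        rw [hb, AddSubmonoidClass.coe_finset_sum, ← Finset.sum_attach s]
        exact Finset.sum_congr rfl fun g _ => (hyv g.1 g.2).symm)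
      rw [hz']; exact sum_mem fun g _ => hy _ _
    · simpa using hside h 1 (Or.inl rfl)
    · simpa using hside h (-1) (Or.inr rfl)
  tfae_have 3 → 4 := fun ⟨h0, hp, hm⟩ => by
    refine ⟨h0, ⟨?_⟩⟩
    have htop : (⊤ : Subalgebra (𝒜 0) A) = Algebra.adjoin (𝒜 0) {a : A | ∃ n : ℤ, 0 ≤ n ∧ a ∈ 𝒜 n} ⊔
        Algebra.adjoin (𝒜 0) {a : A | ∃ n : ℤ, n ≤ 0 ∧ a ∈ 𝒜 n} := by
      refine (eq_top_iff.mpr fun a _ => ?_).symm
      rw [← DirectSum.sum_support_decompose 𝒜 a]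
      refine sum_mem fun i _ => ?_
      rcases le_total 0 i with hi | hi
      · exact le_sup_left (a := Algebra.adjoin (𝒜 0) {a : A | ∃ n : ℤ, 0 ≤ n ∧ a ∈ 𝒜 n}) (Algebra.subset_adjoin ⟨i, hi, SetLike.coe_mem _⟩)
      · exact le_sup_right (b := Algebra.adjoin (𝒜 0) {a : A | ∃ n : ℤ, n ≤ 0 ∧ a ∈ 𝒜 n}) (Algebra.subset_adjoin ⟨i, hi, SetLike.coe_mem _⟩)
    rw [htop]
    exact Subalgebra.FG.sup hp hm
  tfae_have 4 → 1 := fun ⟨h0, hft⟩ => Algebra.FiniteType.isNoetherianRing (𝒜 0) A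
  tfae_finish

end Groth.Agent.S13665
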