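import Groth.Statements.S13682
import Mathlib

set_option autoImplicit false
universe u v w
open scoped BigOperators
open BTGrp

namespace Groth.Agent.S13682

/-- Let A be a commutative ring, α ∈ A a non-zero-divisor, M_1, …, M_r and N modules over A and φ : M_1
× ⋯ × M_r → N an A-multilinear map. Let n be a natural number and let y_{i,j} (j < n) and w_{i,j} (j
≤ n) be elements of M_i with w_{i,j+1} = w_{i,j} + α y_{i,j} for all i and all j < n. Then Σ_i
Σ_{j<n} φ(w_{1,j+1}, …, w_{i-1,j+1}, y_{i,j}, w_{i+1,j}, …, w_{r,j}) = Σ_i Σ_{j<n} φ(w_{1,n}, …,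
w_{i-1,n}, y_{i,j}, w_{i+1,0}, …, w_{r,0}). (The published statement takes n ≥ 1; for n = 0 both
sides are empty sums. The families y, w are indexed by all natural numbers here and only the indices
named above enter.) -/
theorem result {A : Type u} [CommRing A] (α : A) (hα : α ∈ nonZeroDivisors A)
    {r : ℕ} (M : Fin r → Type v) (N : Type w) [∀ i, AddCommGroup (M i)] [∀ i, Module A (M i)]
    [AddCommGroup N] [Module A N] (φ : MultilinearMap A M N) (n : ℕ)
    (y w : ∀ i, ℕ → M i) (hw : ∀ i, ∀ j < n, w i (j + 1) = w i j + α • y i j) :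
    (∑ i : Fin r, ∑ j ∈ Finset.range n,
        φ (fun k => if k < i then w k (j + 1) else if k = i then y k j else w k j)) =
      ∑ i : Fin r, ∑ j ∈ Finset.range n,
        φ (fun k => if k < i then w k n else if k = i then y k j else w k 0) := by
  classical
  set z : ∀ i, Fin (n + 1) → M i := fun i l => if (l : ℕ) = 0 then w i 0 else y i ((l : ℕ) - 1) with hz
  set Wc : ℕ → Fin (n + 1) → A := fun j l => if (l : ℕ) = 0 then 1 else if (l : ℕ) ≤ j then α else 0 with hWc
  set Yc : ℕ → Fin (n + 1) → A := fun j l => if (l : ℕ) = j + 1 then 1 else 0 with hYc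
  have hy' : ∀ i, ∀ j < n, y i j = ∑ l, Yc j l • z i l := by
    intro i j hj
    rw [Finset.sum_eq_single (⟨j + 1, by omega⟩ : Fin (n + 1))]
    · simp [hYc, hz]
    · intro l _ hl
      have : (l : ℕ) ≠ j + 1 := fun h => hl (Fin.ext h)
      simp [hYc, this]
    · simp
  have hWs : ∀ (j : ℕ) (l : Fin (n + 1)), Wc (j + 1) l = Wc j l + α * Yc j l := by
    intro j l
    simp only [hWc, hYc]
    split_ifs <;> first | omega | simp
  have hw' : ∀ i, ∀ j ≤ n, w i j = ∑ l, Wc j l • z i l := by
    intro i j hj
    induction j with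
    | zero =>
      rw [Finset.sum_eq_single (0 : Fin (n + 1))]
      · simp [hWc, hz]
      · intro l _ hl
        have : (l : ℕ) ≠ 0 := fun h => hl (Fin.ext h)
        simp [hWc, this, hl]
      · simp
    | succ j ih =>
      rw [hw i j (by omega), ih (by omega), hy' i j (by omega), Finset.smul_sum, ← Finset.sum_add_distrib]
      exact Finset.sum_congr rfl fun l _ => by rw [smul_smul, ← add_smul, hWs]
  have scal : ∀ (W Y : Fin r → ℕ → A), (∀ i, ∀ j < n, W i (j + 1) = W i j + α * Y i j) →
      (∑ i : Fin r, ∑ j ∈ Finset.range n, ∏ k, (if k < i then W k (j + 1) else if k = i then Y k j else W k j)) =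
      ∑ i : Fin r, ∑ j ∈ Finset.range n, ∏ k, (if k < i then W k n else if k = i then Y k j else W k 0) := by
    intro W Y hWY
    have step : ∀ (a b c : Fin r → A), (∀ k, a k = b k + α * c k) → α * (∑ i : Fin r, ∏ k, (if k < i then a k else if k = i then c k else b k)) = (∏ k, a k) - ∏ k, b k := by
      intro a b c habc
      set Q : ℕ → A := fun m => ∏ k : Fin r, (if (k : ℕ) < m then a k else b k) with hQ
      have h1 : ∀ i : Fin r, α * (∏ k, (if k < i then a k else if k = i then c k else b k)) = Q ((i : ℕ) + 1) - Q (i : ℕ) := by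
        intro i
        simp only [hQ]
        rw [← Finset.mul_prod_erase _ _ (Finset.mem_univ i), ← Finset.mul_prod_erase Finset.univ (fun k : Fin r => if (k : ℕ) < (i : ℕ) + 1 then a k else b k) (Finset.mem_univ i),
          ← Finset.mul_prod_erase Finset.univ (fun k : Fin r => if (k : ℕ) < (i : ℕ) then a k else b k) (Finset.mem_univ i)]
        have e1 : ∀ k ∈ Finset.univ.erase i, (if k < i then a k else if k = i then c k else b k) = (if (k : ℕ) < (i : ℕ) then a k else b k) := by
          intro k hk
          rw [if_neg (Finset.ne_of_mem_erase hk)]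
          rfl
        have e2 : ∀ k ∈ Finset.univ.erase i, (if (k : ℕ) < (i : ℕ) + 1 then a k else b k) = (if (k : ℕ) < (i : ℕ) then a k else b k) := by
          intro k hk
          have : (k : ℕ) ≠ (i : ℕ) := fun h => Finset.ne_of_mem_erase hk (Fin.ext h)
          by_cases h : (k : ℕ) < (i : ℕ)
          · rw [if_pos h, if_pos (by omega)]
          · rw [if_neg h, if_neg (by omega)]
        rw [Finset.prod_congr rfl e1, Finset.prod_congr rfl e2]
        simp [habc i]
        ring
      rw [Finset.mul_sum, Finset.sum_congr rfl (fun i _ => h1 i), Fin.sum_univ_eq_sum_range (fun m => Q (m + 1) - Q m) r, Finset.sum_range_sub]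
      simp only [hQ, Fin.is_lt, if_true, Nat.not_lt_zero, if_false]
    refine (mul_cancel_left_mem_nonZeroDivisors hα).1 ?_
    rw [Finset.sum_comm, Finset.mul_sum, Finset.sum_congr rfl (fun j hj => step (fun k => W k (j + 1)) (fun k => W k j) (fun k => Y k j) (fun k => hWY k j (Finset.mem_range.1 hj))),
      Finset.sum_range_sub (fun j => ∏ k, W k j)]
    have hsum : ∀ i : Fin r, (∑ j ∈ Finset.range n, ∏ k, (if k < i then W k n else if k = i then Y k j else W k 0)) =
        ∏ k, (if k < i then W k n else if k = i then ∑ j ∈ Finset.range n, Y k j else W k 0) := by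
      intro i
      rw [← Finset.mul_prod_erase _ _ (Finset.mem_univ i), if_neg (lt_irrefl i), if_pos rfl, Finset.sum_mul]
      refine Finset.sum_congr rfl fun j _ => ?_
      rw [← Finset.mul_prod_erase _ _ (Finset.mem_univ i), if_neg (lt_irrefl i), if_pos rfl]
      refine congrArg _ (Finset.prod_congr rfl fun k hk => ?_)
      rw [if_neg (Finset.ne_of_mem_erase hk), if_neg (Finset.ne_of_mem_erase hk)]
    rw [Finset.sum_congr rfl (fun i _ => hsum i), step _ (fun k => W k 0) _ fun k => ?_]
    have := Finset.sum_range_sub (fun j => W k j) n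
    rw [Finset.sum_congr rfl (fun j hj => show W k (j + 1) - W k j = α * Y k j by rw [hWY k j (Finset.mem_range.1 hj)]; ring), ← Finset.mul_sum] at this
    rw [this]; ring
  have expand : ∀ c : Fin r → Fin (n + 1) → A, φ (fun k => ∑ l, c k l • z k l) = ∑ f : Fin r → Fin (n + 1), (∏ k, c k (f k)) • φ (fun k => z k (f k)) := by
    intro c
    rw [φ.map_sum]
    exact Finset.sum_congr rfl fun f _ => φ.map_smul_univ _ _
  have hL : ∀ (i : Fin r), ∀ j ∈ Finset.range n, φ (fun k => if k < i then w k (j + 1) else if k = i then y k j else w k j) =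
      ∑ f : Fin r → Fin (n + 1), (∏ k, (if k < i then Wc (j + 1) (f k) else if k = i then Yc j (f k) else Wc j (f k))) • φ (fun k => z k (f k)) := by
    intro i j hj
    have hj' := Finset.mem_range.1 hj
    have h2 := expand (fun k l => if k < i then Wc (j + 1) l else if k = i then Yc j l else Wc j l)
    refine Eq.trans ?_ h2
    congr 1
    funext k
    split_ifs
    · exact hw' k (j + 1) (by omega)
    · exact hy' k j hj'
    · exact hw' k j (by omega)
  have hR : ∀ (i : Fin r), ∀ j ∈ Finset.range n, φ (fun k => if k < i then w k n else if k = i then y k j else w k 0) =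
      ∑ f : Fin r → Fin (n + 1), (∏ k, (if k < i then Wc n (f k) else if k = i then Yc j (f k) else Wc 0 (f k))) • φ (fun k => z k (f k)) := by
    intro i j hj
    have hj' := Finset.mem_range.1 hj
    have h2 := expand (fun k l => if k < i then Wc n l else if k = i then Yc j l else Wc 0 l)
    refine Eq.trans ?_ h2
    congr 1
    funext k
    split_ifs
    · exact hw' k n le_rfl
    · exact hy' k j hj'
    · exact hw' k 0 (Nat.zero_le _)
  rw [Finset.sum_congr rfl (fun i _ => Finset.sum_congr rfl (hL i)), Finset.sum_congr rfl (fun i _ => Finset.sum_congr rfl (hR i))]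
  rw [Finset.sum_congr rfl (fun i _ => Finset.sum_comm), Finset.sum_comm]
  conv_rhs => rw [Finset.sum_congr rfl (fun i _ => Finset.sum_comm), Finset.sum_comm]
  refine Finset.sum_congr rfl fun f _ => ?_
  simp only [← Finset.sum_smul]
  congr 1
  exact scal (fun k j => Wc j (f k)) (fun k j => Yc j (f k)) fun k j _ => hWs j (f k)

end Groth.Agent.S13682
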