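import Groth.Statements.S13685
import Groth.Agent.DispLib.ExtPow

set_option autoImplicit false
universe u v w
open Disp

namespace Groth.Agent.S13685

/-- Let p be a prime, R a commutative ring, W its ring of p-typical Witt vectors, D = (P, Q, F, V⁻¹) a
3n-display over R with a normal decomposition P = L ⊕ T, Q = L + I_R T in which T is free of rank
one over W, and E the 3n-display structure on ⋀^r P whose distinguished submodule is spanned by the
wedges of elements of Q and whose V⁻¹ sends q_1 ∧ ⋯ ∧ q_r to V⁻¹q_1 ∧ ⋯ ∧ V⁻¹q_r. Then the wedge map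
λ : P^r → ⋀^r P is an alternating multilinear morphism of 3n-displays from D to E, and for every
3n-display D' = (P', Q', F', V'⁻¹) and every alternating multilinear morphism of 3n-displays φ : P^r
→ P' (W-multilinear alternating, φ(Q^r) ⊆ Q', V'⁻¹(φ(q)) = φ(V⁻¹q_1, …, V⁻¹q_r), F'(φ(q_1, …, x_i,
…, q_r)) = φ(V⁻¹q_1, …, F x_i, …, V⁻¹q_r)) there is a unique W-linear ψ : ⋀^r P → P' that is a
morphism of 3n-displays from E to D' (ψ maps E's submodule into Q' and commutes with F and V⁻¹) with
ψ ∘ λ = φ. (The published statement has T projective of rank one; this row takes T free of rank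
one.) -/
theorem result (p : ℕ) [Fact p.Prime] (R : Type u) [CommRing R]
    (P : Type v) [AddCommGroup P] [Module (WittVector p R) P] (D : W4c1extbt610.Display3n p R P)
    (hT : ∃ L T : Submodule (WittVector p R) P, IsCompl L T ∧ D.Q = L ⊔ W4c1extbt610.IV p R • T ∧
      Nonempty (T ≃ₗ[WittVector p R] WittVector p R))
    (r : ℕ) (E : W4c1extbt610.Display3n p R (⋀[WittVector p R]^r P)) (hE : W4c1extbt610.IsExtPow D r E) :
    W4c1extbt610.IsAltMult D E (exteriorPower.ιMulti (WittVector p R) r) ∧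
      ∀ (P' : Type w) [AddCommGroup P'] [Module (WittVector p R) P'] (D' : W4c1extbt610.Display3n p R P')
        (φ : P [⋀^Fin r]→ₗ[WittVector p R] P'), W4c1extbt610.IsAltMult D D' φ →
        ∃! ψ : ⋀[WittVector p R]^r P →ₗ[WittVector p R] P',
          W4c1extbt610.IsHom E D' ψ ∧ ψ.compAlternatingMap (exteriorPower.ιMulti (WittVector p R) r) = φ := by
  have hA := Groth.Agent.DispLib.isAltMult_of_isExtPow D r hE
  refine ⟨hA, fun P' _ _ D' φ hφ => ?_⟩
  set ψ := exteriorPower.alternatingMapLinearEquiv φ with hψdef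
  have hψι : ∀ x, ψ (exteriorPower.ιMulti (WittVector p R) r x) = φ x := fun x =>
    exteriorPower.alternatingMapLinearEquiv_apply_ιMulti φ x
  have hmap : ∀ z ∈ E.Q, ψ z ∈ D'.Q := by
    intro z hz
    rw [hE.1] at hz
    induction hz using Submodule.span_induction with
    | mem x hx => obtain ⟨q, rfl⟩ := hx; rw [hψι]; exact hφ.mapsTo q
    | zero => rw [map_zero]; exact Submodule.zero_mem _
    | add x y _ _ hx hy => rw [map_add]; exact Submodule.add_mem _ hx hy
    | smul c x _ hx => rw [map_smul]; exact Submodule.smul_mem _ _ hx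
  have hV : ∀ (z : ⋀[WittVector p R]^r P) (h : z ∈ E.Q), ψ (E.Vinv ⟨z, h⟩) = D'.Vinv ⟨ψ z, hmap z h⟩ := by
    intro z h
    have hz : z ∈ Submodule.span (WittVector p R) _ := hE.1 ▸ h
    revert h
    induction hz using Submodule.span_induction with
    | mem x hx =>
      obtain ⟨q, rfl⟩ := hx
      intro h
      rw [hE.2 q h, hψι, ← hφ.vCond q]
      exact congrArg D'.Vinv (Subtype.ext (hψι _).symm)
    | zero =>
      intro h
      rw [show (⟨ψ 0, hmap 0 h⟩ : D'.Q) = 0 from Subtype.ext (map_zero ψ), map_zero,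
        show (⟨0, h⟩ : E.Q) = 0 from rfl, map_zero, map_zero]
    | add x y hx hy ihx ihy =>
      intro h
      have mx : x ∈ E.Q := hE.1.symm ▸ hx
      have my : y ∈ E.Q := hE.1.symm ▸ hy
      rw [show (⟨x + y, h⟩ : E.Q) = ⟨x, mx⟩ + ⟨y, my⟩ from rfl, map_add, map_add, ihx mx, ihy my, ← map_add]
      exact congrArg D'.Vinv (Subtype.ext (map_add ψ x y).symm)
    | smul c x hx ih =>
      intro h
      have mx : x ∈ E.Q := hE.1.symm ▸ hx
      rw [show (⟨c • x, h⟩ : E.Q) = c • ⟨x, mx⟩ from rfl, map_smulₛₗ, map_smul, ih mx, ← map_smulₛₗ]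
      exact congrArg D'.Vinv (Subtype.ext (map_smul ψ c x).symm)
  have hcomp : ψ.compAlternatingMap (exteriorPower.ιMulti (WittVector p R) r) = φ := AlternatingMap.ext hψι
  refine ⟨ψ, ⟨⟨hmap, fun z => ?_, fun q => hV q.1 q.2⟩, hcomp⟩, fun ψ' h' => ?_⟩
  · rw [Groth.Agent.DispLib.F_eq_Vinv E, hV, Groth.Agent.DispLib.F_eq_Vinv D']
    exact congrArg D'.Vinv (Subtype.ext (map_smul ψ _ z))
  · exact exteriorPower.linearMap_ext (h'.2.trans hcomp.symm)

end Groth.Agent.S13685
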