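import Groth.Statements.S13686
import Groth.Agent.DispLib.ExtPow

set_option autoImplicit false
universe u v
open Disp

namespace Groth.Agent.S13686

/-- Let p be a prime, R a nontrivial commutative ring, W its ring of p-typical Witt vectors and D = (P,
Q, F, V⁻¹) a 3n-display over R with a normal decomposition P = L ⊕ T, Q = L + I_R T in which L is
free of rank m and T is free of rank one over W (so P is free of rank m + 1, the height). For r ≥ 1
let E be the 3n-display structure on ⋀^r P whose distinguished submodule is spanned by the wedges of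
elements of Q and whose V⁻¹ acts factorwise on them. Then E admits a normal decomposition ⋀^r P = L'
⊕ T', with distinguished submodule L' + I_R T', in which T' is free of rank (m choose r−1) over W:
with h = m + 1 the height, the tangent module of the exterior power has rank (h−1 choose r−1). (The
published statement has T projective of rank one and P of height h; this row takes L and T free, R
nontrivial and r ≥ 1.) -/
theorem result (p : ℕ) [Fact p.Prime] (R : Type u) [CommRing R] [Nontrivial R]
    (P : Type v) [AddCommGroup P] [Module (WittVector p R) P] (D : W4c1extbt610.Display3n p R P) (m : ℕ)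
    (L T : Submodule (WittVector p R) P) (hLT : IsCompl L T) (hQ : D.Q = L ⊔ W4c1extbt610.IV p R • T)
    (hL : Module.Free (WittVector p R) L) (hLr : Module.finrank (WittVector p R) L = m)
    (hT : Nonempty (T ≃ₗ[WittVector p R] WittVector p R))
    (r : ℕ) (hr : 1 ≤ r) (E : W4c1extbt610.Display3n p R (⋀[WittVector p R]^r P)) (hE : W4c1extbt610.IsExtPow D r E) :
    ∃ L' T' : Submodule (WittVector p R) (⋀[WittVector p R]^r P), IsCompl L' T' ∧
      E.Q = L' ⊔ W4c1extbt610.IV p R • T' ∧ Module.Free (WittVector p R) T' ∧
      Module.finrank (WittVector p R) T' = m.choose (r - 1) := by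
  classical
  haveI := D.finite
  haveI := D.projective
  haveI : Module.Finite (WittVector p R) L :=
    Module.Finite.of_surjective (L.projectionOnto T hLT) fun x => ⟨x, Submodule.projectionOnto_apply_left hLT x⟩
  obtain ⟨e⟩ := hT
  let bL : Module.Basis (Fin m) (WittVector p R) L := Module.finBasisOfFinrankEq _ _ hLr
  let bT : Module.Basis (Fin 1) (WittVector p R) T := (Module.Basis.singleton (Fin 1) (WittVector p R)).map e.symm
  let b : Module.Basis (Fin (m + 1)) (WittVector p R) P :=
    ((bL.prod bT).map (Submodule.prodEquivOfIsCompl L T hLT)).reindex finSumFinEquiv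
  let a : Fin (m + 1) := Fin.last m
  have hbL : ∀ i : Fin (m + 1), i ≠ a → b i ∈ L := by
    intro i hi
    obtain ⟨j, rfl⟩ := Fin.eq_castSucc_of_ne_last hi |>.imp fun _ h => h.symm
    have : finSumFinEquiv.symm (Fin.castSucc j) = (Sum.inl j : Fin m ⊕ Fin 1) := by
      rw [Equiv.symm_apply_eq]; rfl
    simp [b, this, Module.Basis.prod_apply]
  have hba : b a ∈ T := by
    have : finSumFinEquiv.symm a = (Sum.inr 0 : Fin m ⊕ Fin 1) := by
      rw [Equiv.symm_apply_eq]; ext; simp [a]
    simp [b, this, Module.Basis.prod_apply]
  have hLQ : L ≤ D.Q := hQ ▸ le_sup_left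
  have hTQ : ∀ t ∈ W4c1extbt610.IV p R, ∀ x ∈ T, t • x ∈ D.Q := fun t ht x hx =>
    hQ ▸ Submodule.mem_sup_right (Submodule.smul_mem_smul ht hx)
  let eb := b.exteriorPower (n := r)
  let S : Set (Set.powersetCard (Fin (m + 1)) r) := {s | a ∈ (s : Finset (Fin (m + 1)))}
  let L' := Submodule.span (WittVector p R) (eb '' Sᶜ)
  let T' := Submodule.span (WittVector p R) (eb '' S)
  have hc : IsCompl L' T' := by
    refine ⟨eb.linearIndependent.disjoint_span_image disjoint_compl_left, codisjoint_iff.2 ?_⟩
    rw [← Submodule.span_union, ← Set.image_union, Set.compl_union_self, Set.image_univ, eb.span_eq]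
  have hind : LinearIndependent (WittVector p R) (fun s : S => eb s) := eb.linearIndependent.comp _ Subtype.val_injective
  have hT'eq : T' = Submodule.span (WittVector p R) (Set.range fun s : S => eb s) := by
    show Submodule.span _ _ = _
    rw [Set.image_eq_range]
  refine ⟨L', T', hc, le_antisymm ?_ ?_, ?_, ?_⟩
  · rw [hE.1, Submodule.span_le]
    rintro _ ⟨q, rfl⟩
    obtain ⟨θ, τ, h1, h2, h3, h4⟩ : ∃ (θ : P →ₗ[WittVector p R] WittVector p R) (τ : P),
        θ τ = 1 ∧ (∀ x, x - θ x • τ ∈ L) ∧ (∀ y ∈ D.Q, (θ y).coeff 0 = 0) ∧ τ ∈ T := by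
      refine ⟨e.toLinearMap.comp (T.projectionOnto L hLT.symm), (e.symm 1 : T), ?_, fun x => ?_, fun y hy => ?_,
        (e.symm 1).2⟩
      · show e (T.projectionOnto L hLT.symm (e.symm 1 : T)) = 1
        rw [Submodule.projectionOnto_apply_left, e.apply_symm_apply]
      · show x - e (T.projectionOnto L hLT.symm x) • ((e.symm 1 : T) : P) ∈ L
        rw [← Submodule.coe_smul, ← map_smul, smul_eq_mul, mul_one, e.symm_apply_apply,
          ← Submodule.projectionOnto_apply_eq_zero_iff hLT.symm, map_sub, Submodule.projectionOnto_apply_left, sub_self]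
      · rw [hQ] at hy
        obtain ⟨l, hl, t, ht, rfl⟩ := Submodule.mem_sup.1 hy
        show (e (T.projectionOnto L hLT.symm (l + t))).coeff 0 = 0
        rw [map_add, (Submodule.projectionOnto_apply_eq_zero_iff hLT.symm).2 hl, zero_add]
        exact Groth.Agent.DispLib.mem_IV.1 (Groth.Agent.DispLib.coord_mem
          (e.toLinearMap.comp (T.projectionOnto L hLT.symm)) (Submodule.smul_mono le_rfl le_top ht))
    show exteriorPower.ιMulti (WittVector p R) r (fun i => (q i : P)) ∈ L' ⊔ _
    rw [Groth.Agent.DispLib.expand_line (exteriorPower.ιMulti (WittVector p R) r)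
      (fun i => (q i : P) - θ (q i : P) • τ) τ (fun i => θ (q i : P)) _ fun i => (sub_add_cancel _ _).symm]
    refine Submodule.add_mem _ (Submodule.mem_sup_left ?_) (Submodule.sum_mem _ fun i _ => ?_)
    · let bv : Fin m → L := bL
      have h5 := exteriorPower.ιMulti_family_span_of_span (n := r) (R := WittVector p R) (v := bv) bL.span_eq
      have h6 : exteriorPower.ιMulti (WittVector p R) r (fun i => (q i : P) - θ (q i : P) • τ) =
          exteriorPower.map r L.subtype (exteriorPower.ιMulti (WittVector p R) r (fun i => (⟨_, h2 (q i : P)⟩ : L))) := by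
        rw [exteriorPower.map_apply_ιMulti]; rfl
      rw [h6]
      refine (Submodule.span_le (p := L'.comap (exteriorPower.map r L.subtype))).2 ?_
        (h5.ge (Submodule.mem_top : exteriorPower.ιMulti (WittVector p R) r (fun i => (⟨_, h2 (q i : P)⟩ : L)) ∈ ⊤))
      rintro _ ⟨s, rfl⟩
      show exteriorPower.map r L.subtype _ ∈ L'
      rw [exteriorPower.map_apply_ιMulti_family]
      let s' : Set.powersetCard (Fin (m + 1)) r := ⟨(s : Finset (Fin m)).map Fin.castSuccEmb, by simp⟩
      refine Submodule.subset_span ⟨s', ?_, ?_⟩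
      · show ¬ a ∈ (s : Finset (Fin m)).map Fin.castSuccEmb
        intro hmem
        obtain ⟨x, -, hx⟩ := Finset.mem_map.1 hmem
        exact Fin.castSucc_ne_last x hx
      · show eb s' = _
        rw [exteriorPower.basis_apply]
        show exteriorPower.ιMulti (WittVector p R) r _ = exteriorPower.ιMulti (WittVector p R) r _
        congr 1
        funext j
        simp only [Function.comp_apply, Set.powersetCard.ofFinEmbEquiv_symm_apply]
        rw [show Finset.orderEmbOfFin s'.val s'.prop j = Fin.castSucc (Finset.orderEmbOfFin s.val s.prop j) from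
          (congrFun (Finset.orderEmbOfFin_unique s'.prop
            (f := fun j => Fin.castSucc (Finset.orderEmbOfFin s.val s.prop j))
            (fun j => Finset.mem_map_of_mem _ (Finset.orderEmbOfFin_mem _ _ j))
            (Fin.strictMono_castSucc.comp (Finset.orderEmbOfFin s.val s.prop).strictMono)) j).symm]
        generalize Finset.orderEmbOfFin s.val s.prop j = i
        have : finSumFinEquiv.symm (Fin.castSucc i) = (Sum.inl i : Fin m ⊕ Fin 1) := by
          rw [Equiv.symm_apply_eq]; rfl
        simp [b, bv, this, Module.Basis.prod_apply]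
    · have h7 : exteriorPower.ιMulti (WittVector p R) r (Function.update (fun i => (q i : P) - θ (q i : P) • τ) i τ) ∈
          L' ⊔ T' := hc.sup_eq_top ▸ Submodule.mem_top
      obtain ⟨l, hl, t, ht, hlt⟩ := Submodule.mem_sup.1 h7
      rw [← hlt, smul_add]
      exact Submodule.add_mem_sup (L'.smul_mem _ hl)
        (Submodule.smul_mem_smul (Groth.Agent.DispLib.mem_IV.2 (h3 _ (q i).2)) ht)
  · rw [hE.1]
    refine sup_le (Submodule.span_le.2 ?_) (Submodule.smul_le.2 fun t ht x hx => ?_)
    · rintro _ ⟨s, hs, rfl⟩
      rw [exteriorPower.basis_apply]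
      refine Submodule.subset_span ⟨fun j => ⟨b (Finset.orderEmbOfFin s.val s.prop j), hLQ (hbL _ fun h => hs ?_)⟩, rfl⟩
      show a ∈ s.val
      exact h ▸ Finset.orderEmbOfFin_mem _ _ j
    · set U := Submodule.span (WittVector p R) (Set.range fun q : Fin r → D.Q =>
        exteriorPower.ιMulti (WittVector p R) r (fun i => (q i : P))) with hU
      refine (Submodule.span_le (p := U.comap (LinearMap.lsmul (WittVector p R) _ t))).2 ?_ hx
      rintro _ ⟨s, hs, rfl⟩
      show t • eb s ∈ U
      rw [exteriorPower.basis_apply]
      obtain ⟨j0, hj0⟩ : a ∈ Set.range (Finset.orderEmbOfFin s.val s.prop) := by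
        rw [Finset.range_orderEmbOfFin]; exact hs
      let v : Fin r → P := fun j => b (Finset.orderEmbOfFin s.val s.prop j)
      have e1 : t • exteriorPower.ιMulti (WittVector p R) r v =
          exteriorPower.ιMulti (WittVector p R) r (Function.update v j0 (t • v j0)) := by
        rw [AlternatingMap.map_update_smul, Function.update_eq_self]
      have hmem : ∀ j, Function.update v j0 (t • v j0) j ∈ D.Q := by
        intro j
        rcases eq_or_ne j j0 with rfl | hj
        · rw [Function.update_self]
          refine hTQ t ht _ ?_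
          show b _ ∈ T
          rw [hj0]; exact hba
        · rw [Function.update_of_ne hj]
          exact hLQ (hbL _ fun h => hj ((Finset.orderEmbOfFin s.val s.prop).injective (h.trans hj0.symm)))
      show t • exteriorPower.ιMulti (WittVector p R) r v ∈ U
      rw [e1]
      exact Submodule.subset_span ⟨fun j => ⟨_, hmem j⟩, rfl⟩
  · rw [hT'eq]
    exact Module.Free.of_basis (Module.Basis.span hind)
  · rw [hT'eq, finrank_span_eq_card hind]
    let P1 := (Finset.univ : Finset (Fin (m + 1))).powersetCard r
    have h1 : Fintype.card S = (P1.filter fun s => a ∈ s).card := by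
      refine Finset.card_bij' (s := Finset.univ) (fun x _ => x.1.val) (fun s hs => ⟨⟨s, ?_⟩, ?_⟩) ?_ ?_ ?_ ?_
      · exact (Finset.mem_powersetCard.1 (Finset.mem_filter.1 hs).1).2
      · exact (Finset.mem_filter.1 hs).2
      · exact fun x _ => Finset.mem_filter.2 ⟨Finset.mem_powersetCard.2 ⟨Finset.subset_univ _, x.1.prop⟩, x.2⟩
      · exact fun _ _ => Finset.mem_univ _
      · exact fun _ _ => rfl
      · exact fun _ _ => rfl
    have h2 : P1.filter (fun s => ¬ a ∈ s) = ((Finset.univ : Finset (Fin (m + 1))).erase a).powersetCard r := by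
      ext s
      simp only [P1, Finset.mem_filter, Finset.mem_powersetCard, Finset.subset_erase]
      tauto
    have h3 := Finset.card_filter_add_card_filter_not (s := P1) (fun s => a ∈ s)
    rw [h2, Finset.card_powersetCard, Finset.card_powersetCard, Finset.card_erase_of_mem (Finset.mem_univ a),
      Finset.card_univ, Fintype.card_fin, Nat.add_sub_cancel] at h3
    obtain ⟨k, rfl⟩ := Nat.exists_eq_add_of_le' hr
    rw [Nat.choose_succ_succ'] at h3
    rw [h1, Nat.add_sub_cancel]
    omega

end Groth.Agent.S13686
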