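import Groth.Statements.S13692
import Groth.Agent.GalDescLib.Units

set_option autoImplicit false
universe u v w
open scoped TensorProduct
attribute [local instance] CSAGal.tensorAction GpH1.unitsAction
open GalCoh

namespace Groth.Agent.S13692

/-- Let K be a finite Galois extension of a field k with Galois group G = Aut_k(K), and A a
finite-dimensional associative unital k-algebra, not assumed simple or central. Then H¹(G, (K ⊗_k
A)ˣ) is trivial, G acting on K ⊗_k A through the first factor. (The published statement allows any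
Galois extension and reduces to the finite case by a direct limit; the finite case is stated.) -/
theorem result (k : Type u) [Field k] (K : Type v)
    [Field K] [Algebra k K] [FiniteDimensional k K] [IsGalois k K]
    (A : Type w) [Ring A] [Algebra k A] [FiniteDimensional k A] :
    GpH1.H1.IsTrivial (K ≃ₐ[k] K) (K ⊗[k] A)ˣ := by
  classical
  intro x
  obtain ⟨a, rfl⟩ := GpH1.OneCocycle.cl_surjective x
  refine (GpH1.OneCocycle.cl_eq_cl_iff _ _).2 ?_
  have h1 : a 1 = 1 := by
    have h := a.2 1 1
    rw [one_mul, one_smul] at h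
    exact left_eq_mul.1 h
  let T : Groth.Agent.GalDescLib.SemiAction k K (K ⊗[k] A) :=
    { T := fun σ => { toFun := fun m => (a σ : K ⊗[k] A) * σ • m
                      map_zero' := by simp
                      map_add' := fun x y => by simp [mul_add] }
      map_smul := fun σ c m => by
        show (a σ : K ⊗[k] A) * σ • c • m = σ c • ((a σ : K ⊗[k] A) * σ • m)
        rw [smul_distrib_smul σ c m, AlgEquiv.smul_def, mul_smul_comm]
      map_one := fun m => by
        show (a 1 : K ⊗[k] A) * (1 : K ≃ₐ[k] K) • m = m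
        rw [h1, one_smul, Units.val_one, one_mul]
      map_mul := fun σ τ m => by
        show (a (σ * τ) : K ⊗[k] A) * (σ * τ) • m = a σ * σ • ((a τ : K ⊗[k] A) * τ • m)
        rw [a.2 σ τ, Units.val_mul, smul_mul', mul_smul, mul_assoc]
        rfl }
  have hsm : ∀ (σ : K ≃ₐ[k] K) (y : A), σ • ((1 : K) ⊗ₜ[k] y) = 1 ⊗ₜ y := fun σ y => by
    rw [TensorProduct.smul_tmul', smul_one]
  let W : Submodule k (K ⊗[k] A) :=
    { carrier := {m | T.Fixed m}
      zero_mem' := fun σ => map_zero _
      add_mem' := fun hx hy σ => by rw [map_add, hx σ, hy σ]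
      smul_mem' := fun r m hm σ => by
        rw [← algebraMap_smul K r m, T.map_smul, AlgEquiv.commutes, hm σ] }
  have hW : ∀ m, m ∈ LinearMap.range W.subtype ↔ T.Fixed m := fun m => by
    rw [Submodule.range_subtype]; rfl
  obtain ⟨w, hw, u, rfl⟩ := Groth.Agent.GalDescLib.exists_isUnit W
    (fun w hw y σ => by
      show (a σ : K ⊗[k] A) * σ • (w * (1 ⊗ₜ y)) = w * (1 ⊗ₜ y)
      rw [smul_mul', hsm, ← mul_assoc]
      exact congrArg (· * _) (hw σ))
    (T.descEquiv W.subtype W.subtype_injective hW).bijective
  refine ⟨u⁻¹, fun σ => ?_⟩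
  have h2 : a σ * σ • u = u := Units.ext (hw σ)
  show a σ = (u⁻¹)⁻¹ * 1 * σ • u⁻¹
  rw [inv_inv, mul_one, smul_inv', eq_mul_inv_iff_mul_eq, h2]

end Groth.Agent.S13692
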