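import Groth.Statements.S13696
import Groth.Agent.GammaLib.CH4

set_option autoImplicit false
universe u
open scoped TensorProduct
open ZeroCyc

namespace Groth.Agent.S13696

/-- Let F : B → A be a multiplicative polynomial law homogeneous of degree d, where B is a commutative
algebra over the commutative ring A. For b ∈ B the characteristic polynomial of b with respect to F
is χ_b = F_{A[X]}(1 ⊗ b − X ⊗ 1) ∈ A[X] ⊗_A A = A[X], and the Cayley–Hamilton ideal of F is the
ideal of B generated by the elements χ_b(b), b ∈ B. Then the Cayley–Hamilton ideal is contained in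
the kernel of F, and the kernel of F is contained in the radical of the Cayley–Hamilton ideal. -/
theorem result {A : Type u} [CommRing A] {B : Type u} [CommRing B] [Algebra A B]
    {d : ℕ} (F : PolLaw.MulLaw A B A d) (χ : B → Polynomial A)
    (hχ : ∀ b : B, χ b = TensorProduct.rid A (Polynomial A)
      (F.law.toFun' (Polynomial A) ((1 : Polynomial A) ⊗ₜ[A] b - Polynomial.X ⊗ₜ[A] (1 : B)))) :
    Ideal.span (Set.range fun b : B => Polynomial.aeval b (χ b)) ≤ PolLaw.ker F.law ∧
      PolLaw.ker F.law ≤ (Ideal.span (Set.range fun b : B => Polynomial.aeval b (χ b))).radical := by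
  have hchi : ∀ b, χ b = Groth.Agent.GammaLib.chiPoly F A ((1 : A) ⊗ₜ[A] b) := fun b => by
    rw [hχ]
    simp [Groth.Agent.GammaLib.chiPoly, Groth.Agent.GammaLib.valF]
  refine ⟨Ideal.span_le.2 ?_, fun b hb => ?_⟩
  · rintro _ ⟨b, rfl⟩
    have h := Groth.Agent.GammaLib.aeval_chiPoly_mem F A ((1 : A) ⊗ₜ[A] b)
    have h' := Ideal.mem_map_of_mem (Algebra.TensorProduct.lid A B).toAlgHom h
    rw [Ideal.map_mapₐ] at h'
    have e : ((Algebra.TensorProduct.lid A B).toAlgHom).comp
        (Algebra.TensorProduct.includeRight : B →ₐ[A] A ⊗[A] B) = AlgHom.id A B := by ext; simp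
    rw [e] at h'
    show Polynomial.aeval b (χ b) ∈ PolLaw.ker F.law
    rw [hchi]
    simpa [← Polynomial.aeval_algHom_apply] using h'
  · have h1 : χ b = (-Polynomial.X) ^ d := by
      rw [hchi]
      exact Groth.Agent.GammaLib.chiPoly_of_mem F (Ideal.mem_map_of_mem _ hb)
    refine ⟨d, ?_⟩
    have h2 : Polynomial.aeval b (χ b) ∈ Ideal.span (Set.range fun b : B => Polynomial.aeval b (χ b)) :=
      Ideal.subset_span ⟨b, rfl⟩
    rw [h1, map_pow, map_neg, Polynomial.aeval_X] at h2
    have := Ideal.mul_mem_left _ ((-1) ^ d) h2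
    rwa [← mul_pow, neg_one_mul, neg_neg] at this

end Groth.Agent.S13696
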