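import Groth.Statements.S13698
import Groth.Agent.GammaLib.KerBC

set_option autoImplicit false
universe u
open scoped TensorProduct
open ZeroCyc

namespace Groth.Agent.S13698

/-- Let F : B → A be a multiplicative polynomial law homogeneous of degree d over the commutative ring
A, on a commutative A-algebra B which is finite as an A-module, and let A' be a localization of A at
a submonoid M. Then the kernel of the base change of F to A' is the ideal of A' ⊗_A B generated by
the kernel of F: the kernel (hence the image of a family of zero-cycles) commutes with localization.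
(The published statement has no finiteness hypothesis on B and is false without one: for a suitable
algebra B that is not finitely generated the conditions cutting out the kernel at an element are
infinitely many elements of A annihilated by elements of M but by no single one, and the kernel of
the localised law is then strictly larger than the localised kernel; the published proof's reduction
to finite B does not go through. This row assumes B finite over A, the case that proof establishes.) -/
theorem result {A : Type u} [CommRing A] {B : Type u} [CommRing B] [Algebra A B]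
    [Module.Finite A B] {d : ℕ} (F : PolLaw.MulLaw A B A d) (M : Submonoid A) (A' : Type u) [CommRing A'] [Algebra A A']
    [IsLocalization M A'] :
    (PolLaw.ker F.law).map (Algebra.TensorProduct.includeRight : B →ₐ[A] A' ⊗[A] B) =
      PolLaw.kerBC F.law A' := by
  classical
  refine le_antisymm (Groth.Agent.GammaLib.map_ker_le_kerBC F) fun z hz => ?_
  obtain ⟨m, b, hmb⟩ : ∃ (m : M) (b : B), algebraMap A A' m • z = (1 : A') ⊗ₜ[A] b := by
    clear hz
    induction z using TensorProduct.induction_on with
    | zero => exact ⟨1, 0, by simp⟩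
    | tmul c b =>
      obtain ⟨⟨a, m⟩, h⟩ := IsLocalization.surj M c
      refine ⟨m, a • b, ?_⟩
      rw [TensorProduct.smul_tmul', smul_eq_mul, mul_comm, h, TensorProduct.tmul_smul, TensorProduct.smul_tmul',
        Algebra.smul_def, mul_one]
    | add p q hp hq =>
      obtain ⟨m, b, hm⟩ := hp
      obtain ⟨m', b', hm'⟩ := hq
      refine ⟨m * m', (m' : A) • b + (m : A) • b', ?_⟩
      rw [Submonoid.coe_mul, map_mul, smul_add, mul_comm (algebraMap A A' m), mul_smul, hm,
        mul_comm (algebraMap A A' m'), mul_smul, hm', TensorProduct.tmul_add, TensorProduct.tmul_smul,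
        TensorProduct.tmul_smul, algebraMap_smul, algebraMap_smul]
  obtain ⟨r, g, hg⟩ := Module.Finite.exists_fin (R := A) (M := B)
  let D := Groth.Agent.GammaLib.Dpoly F g ((1 : A) ⊗ₜ[A] b)
  have h1 : ((1 : A') ⊗ₜ[A] b) ∈ PolLaw.kerBC F.law A' := hmb ▸ Submodule.smul_of_tower_mem _ _ hz
  have h0 : MvPolynomial.map (algebraMap A A') D = 0 := by
    have := (Groth.Agent.GammaLib.mem_kerBC_iff F g hg _).1 h1
    rw [show ((1 : A') ⊗ₜ[A] b) = Algebra.TensorProduct.map (Algebra.ofId A A') (AlgHom.id A B) ((1 : A) ⊗ₜ[A] b) by simp,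
      ← Groth.Agent.GammaLib.map_Dpoly] at this
    exact this
  have hk : ∀ l, ∃ c : M, (c : A) * D.coeff l = 0 := fun l => by
    refine (IsLocalization.map_eq_zero_iff M A' _).1 ?_
    have := congrArg (MvPolynomial.coeff l) h0
    rwa [MvPolynomial.coeff_map, MvPolynomial.coeff_zero] at this
  choose c hc using hk
  let m' : M := ∏ l ∈ D.support, c l
  have hm' : ∀ l, (m' : A) * D.coeff l = 0 := fun l => by
    by_cases hl : l ∈ D.support
    · simp only [m', ← Finset.mul_prod_erase _ c hl, Submonoid.coe_mul]
      rw [mul_comm (c l : A), mul_assoc, hc, mul_zero]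
    · rw [MvPolynomial.notMem_support_iff.1 hl, mul_zero]
  have hker : (m' : A) • b ∈ PolLaw.ker F.law := by
    rw [Groth.Agent.GammaLib.mem_ker_iff_kerBC_self, Groth.Agent.GammaLib.mem_kerBC_iff F g hg]
    let P := MvPolynomial (Fin r ⊕ Fin r) A
    let e : Fin r ⊕ Fin r → P := fun i => Sum.elim (fun a => MvPolynomial.X (Sum.inl a))
      (fun a => MvPolynomial.C (m' : A) * MvPolynomial.X (Sum.inr a)) i
    let σ : P →ₐ[A] P := MvPolynomial.aeval e
    let e0 : Fin r ⊕ Fin r → P := Sum.elim (fun a => MvPolynomial.X (Sum.inl a)) 0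
    let σ0 : P →ₐ[A] P := MvPolynomial.aeval e0
    have hm : ∀ (τ : P →ₐ[A] P) u, τ.toLinearMap.rTensor B u = Algebra.TensorProduct.map τ (AlgHom.id A B) u :=
      fun τ u => Groth.Agent.GammaLib.rTensor_eq_map τ u
    have key : ∀ τ : P →ₐ[A] P, τ D = Groth.Agent.GammaLib.valF F P ((∑ i, τ (MvPolynomial.X (Sum.inl i)) ⊗ₜ[A] g i) +
        (∑ i, τ (MvPolynomial.X (Sum.inr i)) ⊗ₜ[A] g i) * ((1 : P) ⊗ₜ[A] b)) -
        Groth.Agent.GammaLib.valF F P (∑ i, τ (MvPolynomial.X (Sum.inl i)) ⊗ₜ[A] g i) := fun τ => by
      show τ (Groth.Agent.GammaLib.valF F P _ - Groth.Agent.GammaLib.valF F P _) = _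
      rw [map_sub, Groth.Agent.GammaLib.valF_compat, Groth.Agent.GammaLib.valF_compat, hm, hm, map_add, map_mul, map_sum,
        map_sum]
      simp [P]
    have hmono : ∀ (f : Fin r ⊕ Fin r → P) l a, MvPolynomial.aeval f (MvPolynomial.monomial l a) =
        MvPolynomial.C a * ∏ i, f i ^ l i := fun f l a => by
      rw [MvPolynomial.aeval_monomial, Finsupp.prod_fintype _ _ fun i => pow_zero _]
      rfl
    have hmonoX : ∀ (l : Fin r ⊕ Fin r →₀ ℕ) (a : A), (MvPolynomial.monomial l a : P) =
        MvPolynomial.C a * ∏ i, (MvPolynomial.X i : P) ^ l i := fun l a => by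
      rw [MvPolynomial.monomial_eq, Finsupp.prod_fintype _ _ fun i => pow_zero _]
    have he0l : ∀ a, σ0 (MvPolynomial.X (Sum.inl a)) = MvPolynomial.X (Sum.inl a) := fun a => MvPolynomial.aeval_X _ _
    have he0r : ∀ a, σ0 (MvPolynomial.X (Sum.inr a)) = 0 := fun a => MvPolynomial.aeval_X _ _
    have hel : ∀ a, σ (MvPolynomial.X (Sum.inl a)) = MvPolynomial.X (Sum.inl a) := fun a => MvPolynomial.aeval_X _ _
    have her : ∀ a, σ (MvPolynomial.X (Sum.inr a)) = MvPolynomial.C (m' : A) * MvPolynomial.X (Sum.inr a) :=
      fun a => MvPolynomial.aeval_X _ _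
    have hfix : ∀ l : Fin r ⊕ Fin r →₀ ℕ, (∀ a, l (Sum.inr a) = 0) → ∀ a : A,
        σ0 (MvPolynomial.monomial l a) = MvPolynomial.monomial l a := fun l hl a => by
      show MvPolynomial.aeval e0 _ = _
      rw [hmono, hmonoX]
      refine congrArg _ (Finset.prod_congr rfl fun i _ => ?_)
      cases i with
      | inl a => rfl
      | inr a => rw [hl a, pow_zero, pow_zero]
    have hD0 : σ0 D = 0 := by
      rw [key]
      simp [he0l, he0r]
    have hcoef : ∀ l : Fin r ⊕ Fin r →₀ ℕ, (∀ a, l (Sum.inr a) = 0) → D.coeff l = 0 := fun l hl => by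
      have h := congrArg (MvPolynomial.coeff l) hD0
      rw [MvPolynomial.coeff_zero, D.as_sum, map_sum, MvPolynomial.coeff_sum, Finset.sum_eq_single l] at h
      · rw [hfix l hl] at h
        simpa using h
      · intro l' _ hne
        by_cases hl' : ∀ a, l' (Sum.inr a) = 0
        · rw [hfix l' hl', MvPolynomial.coeff_monomial, if_neg hne]
        · push Not at hl'
          obtain ⟨a, ha⟩ := hl'
          show (MvPolynomial.aeval e0 _).coeff l = 0
          rw [hmono, Finset.prod_eq_zero (Finset.mem_univ (Sum.inr a)) (by simp [e0, zero_pow ha]), mul_zero,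
            MvPolynomial.coeff_zero]
      · intro hns; simp [MvPolynomial.notMem_support_iff.1 hns]
    have hσD : σ D = 0 := by
      rw [D.as_sum, map_sum]
      refine Finset.sum_eq_zero fun l _ => ?_
      by_cases hl : ∀ a, l (Sum.inr a) = 0
      · rw [hcoef l hl, MvPolynomial.monomial_zero, map_zero]
      · push Not at hl
        obtain ⟨a, ha⟩ := hl
        show MvPolynomial.aeval e _ = 0
        rw [hmono, ← Finset.mul_prod_erase _ _ (Finset.mem_univ (Sum.inr a))]
        obtain ⟨k, hk⟩ := Nat.exists_eq_succ_of_ne_zero ha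
        simp only [e, Sum.elim_inr, hk, pow_succ', mul_pow, ← mul_assoc, ← map_mul]
        rw [mul_comm (D.coeff l) (m' : A), hm' l]
        simp
    refine Eq.trans ?_ hσD
    rw [key]
    show Groth.Agent.GammaLib.valF F P _ - Groth.Agent.GammaLib.valF F P _ = _
    simp only [hel, her, Algebra.TensorProduct.map_tmul, map_one, AlgHom.id_apply, Finset.sum_mul,
      Algebra.TensorProduct.tmul_mul_tmul, mul_one, mul_smul_comm, TensorProduct.tmul_smul, TensorProduct.smul_tmul',
      MvPolynomial.smul_eq_C_mul]
    congr 3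
    rw [Finset.sum_mul]
    refine Finset.sum_congr rfl fun i _ => ?_
    rw [Algebra.TensorProduct.tmul_mul_tmul, mul_one]
    congr 1
    rw [mul_comm]
    congr 1
    simp [Algebra.smul_def]
  have hu : IsUnit (algebraMap A A' ((m : A) * m')) := IsLocalization.map_units A' (m * m')
  have h2 : algebraMap A A' ((m : A) * m') • z ∈ Groth.Agent.GammaLib.mapKer F A' := by
    rw [map_mul, mul_comm, mul_smul, hmb, algebraMap_smul, ← TensorProduct.tmul_smul]
    exact Ideal.mem_map_of_mem (Algebra.TensorProduct.includeRight : B →ₐ[A] A' ⊗[A] B) hker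
  obtain ⟨v, hv⟩ := hu.exists_left_inv
  have := Submodule.smul_of_tower_mem _ v h2
  rwa [smul_smul, hv, one_smul] at this

end Groth.Agent.S13698
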