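import Groth.Statements.S13699
import Groth.Agent.GammaLib.KerBC

set_option autoImplicit false
universe u
open scoped TensorProduct
open ZeroCyc

namespace Groth.Agent.S13699

/-- Let F : B → A be a multiplicative polynomial law homogeneous of degree d over the commutative ring
A. Then the kernel of the base change of F to the polynomial ring A[X] is the ideal of A[X] ⊗_A B
generated by the kernel of F. -/
theorem result {A : Type u} [CommRing A] {B : Type u} [CommRing B] [Algebra A B]
    {d : ℕ} (F : PolLaw.MulLaw A B A d) :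
    (PolLaw.ker F.law).map (Algebra.TensorProduct.includeRight : B →ₐ[A] Polynomial A ⊗[A] B) =
      PolLaw.kerBC F.law (Polynomial A) := by
  refine le_antisymm (Groth.Agent.GammaLib.map_ker_le_kerBC F) fun z hz => ?_
  classical
  obtain ⟨n, s, x, rfl⟩ := Groth.Agent.GammaLib.exists_sum_tmul z
  let N : ℕ := (Finset.univ.sup fun i => (s i).natDegree) + 1
  let b : Fin N → B := fun l => ∑ i, (s i).coeff l.1 • x i
  have e : (∑ i, s i ⊗ₜ[A] x i) = ∑ l : Fin N, ((Polynomial.X : Polynomial A) ^ l.1) ⊗ₜ[A] b l := by
    simp only [b, TensorProduct.tmul_sum, TensorProduct.tmul_smul, TensorProduct.smul_tmul']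
    rw [Finset.sum_comm]
    refine Finset.sum_congr rfl fun i _ => ?_
    rw [← TensorProduct.sum_tmul]
    congr 1
    rw [Fin.sum_univ_eq_sum_range (fun l => (s i).coeff l • (Polynomial.X : Polynomial A) ^ l) N]
    conv_lhs => rw [(s i).as_sum_range' N
      (Nat.lt_succ_of_le (Finset.le_sup (f := fun i => (s i).natDegree) (Finset.mem_univ i)))]
    simp [Polynomial.smul_eq_C_mul, Polynomial.C_mul_X_pow_eq_monomial]
  rw [e] at hz ⊢
  refine Submodule.sum_mem _ fun l _ => ?_
  have := Ideal.mul_mem_left ((PolLaw.ker F.law).map (Algebra.TensorProduct.includeRight : B →ₐ[A] Polynomial A ⊗[A] B))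
    (((Polynomial.X : Polynomial A) ^ l.1) ⊗ₜ[A] (1 : B))
    (Ideal.mem_map_of_mem _ (Groth.Agent.GammaLib.mem_ker_of_sum_mem_kerBC F b hz l))
  simpa using this

end Groth.Agent.S13699
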