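import Groth.Statements.S13700
import Groth.Agent.GammaLib.KerBC
import Mathlib.RingTheory.AdjoinRoot
import Mathlib.FieldTheory.Separable

set_option autoImplicit false
universe u
open scoped TensorProduct
open ZeroCyc

namespace Groth.Agent.S13700

/-- Let F : B → A be a multiplicative polynomial law homogeneous of degree d over the commutative ring
A, and let g ∈ A[X] be a monic polynomial which is separable (g and its derivative generate the unit
ideal), so that A' = A[X]/(g) is étale over A. Then the kernel of the base change of F to A' is the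
ideal of A' ⊗_A B generated by the kernel of F. -/
theorem result {A : Type u} [CommRing A] {B : Type u} [CommRing B] [Algebra A B]
    {d : ℕ} (F : PolLaw.MulLaw A B A d) (g : Polynomial A) (hg : g.Monic) (hsep : g.Separable) :
    (PolLaw.ker F.law).map (Algebra.TensorProduct.includeRight : B →ₐ[A] AdjoinRoot g ⊗[A] B) =
      PolLaw.kerBC F.law (AdjoinRoot g) := by
  classical
  refine le_antisymm (Groth.Agent.GammaLib.map_ker_le_kerBC F) fun z hz => ?_
  rcases subsingleton_or_nontrivial A with hA | hA
  · haveI : Subsingleton B := (algebraMap A B).codomain_trivial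
    have : Subsingleton (AdjoinRoot g ⊗[A] B) := inferInstance
    rw [Subsingleton.elim z 0]
    exact Submodule.zero_mem _
  let pb := AdjoinRoot.powerBasis' hg
  let c : Fin pb.dim →₀ B := TensorProduct.equivFinsuppOfBasisLeft pb.basis z
  have hzc : z = ∑ j : Fin pb.dim, ((AdjoinRoot.root g) ^ (j : ℕ)) ⊗ₜ[A] c j := by
    conv_lhs => rw [← (TensorProduct.equivFinsuppOfBasisLeft pb.basis).symm_apply_apply z,
      TensorProduct.equivFinsuppOfBasisLeft_symm_apply]
    rw [Finsupp.sum_fintype _ _ (by simp)]
    simp [c, pb]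
  rw [hzc] at hz ⊢
  refine Submodule.sum_mem _ fun l _ => ?_
  suffices hl : c l ∈ PolLaw.ker F.law by
    have := Ideal.mul_mem_left ((PolLaw.ker F.law).map (Algebra.TensorProduct.includeRight : B →ₐ[A] AdjoinRoot g ⊗[A] B))
      (((AdjoinRoot.root g) ^ (l : ℕ)) ⊗ₜ[A] (1 : B)) (Ideal.mem_map_of_mem _ hl)
    simpa using this
  obtain ⟨R, _, _, _, _, _, hR⟩ := hg.exists_splits_map
  obtain ⟨ms, hms⟩ := Polynomial.splits_iff_exists_multiset.1 hR
  rw [(hg.map _).leadingCoeff, map_one, one_mul] at hms
  have hdim : pb.dim = g.natDegree := AdjoinRoot.powerBasis'_dim hg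
  have hcard : ms.toList.length = pb.dim := by
    rw [Multiset.length_toList, hdim, ← hg.natDegree_map (algebraMap A R), hms,
      Polynomial.natDegree_multiset_prod_X_sub_C_eq_card]
  let α : Fin pb.dim → R := fun i => ms.toList.get (i.cast hcard.symm)
  have hprod : g.map (algebraMap A R) = ∏ i, (Polynomial.X - Polynomial.C (α i)) := by
    rw [hms, ← ms.coe_toList, Multiset.map_coe, Multiset.prod_coe]
    rw [show (∏ i, (Polynomial.X - Polynomial.C (α i))) =
      ∏ i : Fin ms.toList.length, (Polynomial.X - Polynomial.C (ms.toList.get i)) from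
      Fintype.prod_equiv (finCongr hcard.symm) _ _ fun i => rfl, ← List.prod_ofFn]
    conv_lhs => rw [← List.ofFn_get ms.toList, List.map_ofFn]
    rfl
  have hroot : ∀ i, Polynomial.aeval (α i) g = 0 := fun i => by
    rw [← Polynomial.eval_map_algebraMap, hprod, Polynomial.eval_prod]
    exact Finset.prod_eq_zero (Finset.mem_univ i) (by simp)
  have hdiff : ∀ i j, i ≠ j → IsUnit (α i - α j) := fun i j hij => by
    obtain ⟨u, v, huv⟩ := hsep.map (f := algebraMap A R)
    have h := congrArg (Polynomial.eval (α i)) huv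
    rw [Polynomial.eval_add, Polynomial.eval_mul, Polynomial.eval_mul, Polynomial.eval_one, hprod, Polynomial.eval_prod,
      Finset.prod_eq_zero (Finset.mem_univ i) (by simp), mul_zero, zero_add, ← Finset.mul_prod_erase _ _ (Finset.mem_univ i),
      Polynomial.derivative_mul, Polynomial.eval_add, Polynomial.eval_mul, Polynomial.eval_mul] at h
    simp only [Polynomial.derivative_X_sub_C, Polynomial.eval_one, one_mul, Polynomial.eval_sub, Polynomial.eval_X,
      Polynomial.eval_C, sub_self, zero_mul, add_zero, Polynomial.eval_prod] at h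
    exact isUnit_of_dvd_one (dvd_trans (Finset.dvd_prod_of_mem (fun k => α i - α k)
      (Finset.mem_erase.2 ⟨hij.symm, Finset.mem_univ j⟩)) (Dvd.intro_left _ h))
  refine Groth.Agent.GammaLib.mem_ker_of_forall F fun n x => ?_
  let S₀ := MvPolynomial (Fin n ⊕ Fin n) A
  let T := MvPolynomial (Fin n ⊕ Fin n) R
  let M : Matrix (Fin pb.dim) (Fin pb.dim) T := Matrix.vandermonde fun i => MvPolynomial.C (α i)
  let v : Fin pb.dim → T ⊗[A] B := fun j => (1 : T) ⊗ₜ[A] c j
  have hrow : ∀ i, ∑ j, M i j • v j ∈ Groth.Agent.GammaLib.invIdeal F T := fun i => by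
    have h0 : Polynomial.eval₂ (algebraMap A T) (MvPolynomial.C (α i) : T) g = 0 := by
      rw [IsScalarTower.algebraMap_eq A R T, ← Polynomial.eval₂_map, MvPolynomial.algebraMap_eq,
        Polynomial.eval₂_at_apply, Polynomial.eval_map_algebraMap, hroot, map_zero]
    letI : Algebra (AdjoinRoot g) T := (AdjoinRoot.lift (algebraMap A T) (MvPolynomial.C (α i)) h0).toAlgebra
    haveI : IsScalarTower A (AdjoinRoot g) T := IsScalarTower.of_algebraMap_eq fun a => (AdjoinRoot.lift_of h0).symm
    refine Eq.mp (congrArg (· ∈ Groth.Agent.GammaLib.invIdeal F T) ?_) (Groth.Agent.GammaLib.invIdeal_of_kerBC F (R := T) hz)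
    rw [map_sum]
    refine Finset.sum_congr rfl fun j _ => ?_
    have e : (IsScalarTower.toAlgHom A (AdjoinRoot g) T) ((AdjoinRoot.root g) ^ (j : ℕ)) = M i j := by
      show AdjoinRoot.lift _ _ h0 ((AdjoinRoot.root g) ^ (j : ℕ)) = _
      rw [map_pow, AdjoinRoot.lift_root]
      simp [M, Matrix.vandermonde_apply]
    rw [Algebra.TensorProduct.map_tmul, e, AlgHom.id_apply]
    simp [v, TensorProduct.smul_tmul']
  have hdet : M.det • v l ∈ Groth.Agent.GammaLib.invIdeal F T := by
    have : M.det • v l = ∑ i, M.adjugate l i • ∑ j, M i j • v j := by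
      simp only [Finset.smul_sum, smul_smul]
      rw [Finset.sum_comm]
      simp only [← Finset.sum_smul, ← Matrix.mul_apply, Matrix.adjugate_mul, Matrix.smul_apply, Matrix.one_apply,
        smul_eq_mul, mul_ite, mul_one, mul_zero, ite_smul, zero_smul, Finset.sum_ite_eq, Finset.mem_univ, if_true]
    rw [this]
    exact Submodule.sum_mem _ fun i _ => Submodule.smul_of_tower_mem _ _ (hrow i)
  have hu : IsUnit M.det := by
    rw [Matrix.det_vandermonde]
    refine IsUnit.prod_iff.2 fun i _ => IsUnit.prod_iff.2 fun j hj => ?_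
    rw [← map_sub]
    exact (hdiff j i (Finset.mem_Ioi.1 hj).ne').map _
  obtain ⟨w, hw⟩ := hu.exists_left_inv
  have hv : v l ∈ Groth.Agent.GammaLib.invIdeal F T := by
    have := Submodule.smul_of_tower_mem _ w hdet
    rwa [smul_smul, hw, one_smul] at this
  let φ : A →ₐ[A] R := Algebra.ofId A R
  have hinj : Function.Injective (algebraMap A R) := FaithfulSMul.algebraMap_injective A R
  refine MvPolynomial.map_injective φ.toRingHom hinj ?_
  rw [map_zero, Groth.Agent.GammaLib.map_Dpoly]
  refine sub_eq_zero.2 (Eq.trans ?_ (hv _ (∑ i, (MvPolynomial.X (Sum.inr i) : T) ⊗ₜ[A] x i)))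
  congr 3
  simp [v, φ, Groth.Agent.GammaLib.upMv]

end Groth.Agent.S13700
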