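import Groth.Statements.S13701
import Groth.Agent.GammaLib.KerDeriv

set_option autoImplicit false
universe u
open scoped TensorProduct
open ZeroCyc

namespace Groth.Agent.S13701

/-- Let A be a commutative ℚ-algebra, F : B → A a multiplicative polynomial law homogeneous of degree d
on a commutative A-algebra B which is finite as an A-module, and A' a commutative A-algebra which is
flat as an A-module. Then the kernel of the base change of F to A' is the ideal of A' ⊗_A B
generated by the kernel of F. (In positive characteristic this fails even for finite free base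
change. The published statement has no finiteness hypothesis on B and is false without one: a
localisation of A is flat, and for a suitable algebra B that is not finitely generated the kernel
does not commute with it; the published proof's reduction to finite B does not go through. This row
assumes B finite over A, the case that proof establishes: there the kernel is the intersection of
finitely many kernels of A-linear maps on B, which commutes with flat base change.) -/
theorem result {A : Type u} [CommRing A] [Algebra ℚ A] {B : Type u} [CommRing B] [Algebra A B]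
    [Module.Finite A B] {d : ℕ} (F : PolLaw.MulLaw A B A d) (A' : Type u) [CommRing A'] [Algebra A A'] [Module.Flat A A'] :
    (PolLaw.ker F.law).map (Algebra.TensorProduct.includeRight : B →ₐ[A] A' ⊗[A] B) =
      PolLaw.kerBC F.law A' := by
  classical
  refine le_antisymm (Groth.Agent.GammaLib.map_ker_le_kerBC F) fun z hz => ?_
  obtain ⟨r, g, hg⟩ := Module.Finite.exists_fin (R := A) (M := B)
  let P := Groth.Agent.GammaLib.PMv r A
  let P' := Groth.Agent.GammaLib.PMv r A'
  have hadd : ∀ (R : Type u) [CommRing R] [Algebra A R] (u v : R ⊗[A] B), Groth.Agent.GammaLib.lin F g R (u + v) =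
      Groth.Agent.GammaLib.lin F g R u + Groth.Agent.GammaLib.lin F g R v := fun R _ _ u v => by
    simp only [Groth.Agent.GammaLib.lin, map_add, mul_add]
    exact Groth.Agent.GammaLib.dval_add F g hg R _ _
  have hsmul : ∀ (R : Type u) [CommRing R] [Algebra A R] (c : R) (u : R ⊗[A] B), Groth.Agent.GammaLib.lin F g R (c • u) =
      MvPolynomial.C c * Groth.Agent.GammaLib.lin F g R u := fun R _ _ c u => by
    have e : Groth.Agent.GammaLib.upMv (Fin r ⊕ Fin r) (c • u) =
        (MvPolynomial.C c : Groth.Agent.GammaLib.PMv r R) • Groth.Agent.GammaLib.upMv (Fin r ⊕ Fin r) u := by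
      induction u using TensorProduct.induction_on with
      | zero => simp
      | tmul a b => simp [Groth.Agent.GammaLib.upMv, TensorProduct.smul_tmul']
      | add p q hp hq => simp only [smul_add, map_add, hp, hq]
    simp only [Groth.Agent.GammaLib.lin, e, mul_smul_comm]
    exact Groth.Agent.GammaLib.dval_smul F g hg R _ _
  let L : B →ₗ[A] P :=
    { toFun := fun b => Groth.Agent.GammaLib.lin F g A ((1 : A) ⊗ₜ[A] b)
      map_add' := fun b b' => by rw [TensorProduct.tmul_add, hadd]
      map_smul' := fun c b => by
        rw [TensorProduct.tmul_smul, hsmul]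
        simp [Algebra.smul_def]
        rfl }
  let Φ : A' ⊗[A] P ≃ₐ[A'] P' := MvPolynomial.algebraTensorAlgEquiv A A'
  have hΦ : ∀ u : A' ⊗[A] B, Φ (L.lTensor A' u) = Groth.Agent.GammaLib.lin F g A' u := fun u => by
    induction u using TensorProduct.induction_on with
    | zero =>
      rw [map_zero, map_zero]
      have h := hsmul A' 0 (0 : A' ⊗[A] B)
      rw [zero_smul, map_zero, zero_mul] at h
      exact h.symm
    | tmul c b =>
      rw [LinearMap.lTensor_tmul, MvPolynomial.algebraTensorAlgEquiv_tmul,
        show c ⊗ₜ[A] b = c • Algebra.TensorProduct.map (Algebra.ofId A A') (AlgHom.id A B) ((1 : A) ⊗ₜ[A] b) by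
          simp [TensorProduct.smul_tmul'],
        hsmul, ← Groth.Agent.GammaLib.map_lin, MvPolynomial.smul_eq_C_mul]
      rfl
    | add p q hp hq => rw [map_add, map_add, hp, hq, hadd]
  have h0 : L.lTensor A' z = 0 := by
    apply Φ.injective
    rw [hΦ, map_zero, Groth.Agent.GammaLib.lin_eq_zero_of_mem F g A' hz]
  obtain ⟨y, rfl⟩ := ((Module.Flat.lTensor_exact A' (LinearMap.exact_subtype_ker_map L)) z).1 h0
  induction y using TensorProduct.induction_on with
  | zero => simp
  | tmul c b =>
    have hb : b.1 ∈ PolLaw.ker F.law := Groth.Agent.GammaLib.mem_ker_of_lin_eq_zero F g hg b.2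
    have := Ideal.mul_mem_left _ (c ⊗ₜ[A] (1 : B))
      (Ideal.mem_map_of_mem (Algebra.TensorProduct.includeRight : B →ₐ[A] A' ⊗[A] B) hb)
    simpa using this
  | add p q hp hq =>
    have hz' : ∀ w, (LinearMap.ker L).subtype.lTensor A' w ∈ (PolLaw.ker F.law).map
        (Algebra.TensorProduct.includeRight : B →ₐ[A] A' ⊗[A] B) := fun w => by
      induction w using TensorProduct.induction_on with
      | zero => simp
      | tmul c b =>
        have hb : b.1 ∈ PolLaw.ker F.law := Groth.Agent.GammaLib.mem_ker_of_lin_eq_zero F g hg b.2
        have := Ideal.mul_mem_left _ (c ⊗ₜ[A] (1 : B))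
          (Ideal.mem_map_of_mem (Algebra.TensorProduct.includeRight : B →ₐ[A] A' ⊗[A] B) hb)
        simpa using this
      | add u v hu hv => rw [map_add]; exact Ideal.add_mem _ hu hv
    exact hz' _

end Groth.Agent.S13701
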