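import Groth.Statements.S13702
import Mathlib

set_option autoImplicit false
universe u
open ZeroCyc

namespace Groth.Agent.S13702

/-- Let A be a local ring with residue field of characteristic p > 0, let g ∈ A[X] be monic and
separable of degree n, so that A' = A[X]/(g) is an étale A-algebra, and let q = p^s with s ≥ 0. Then
the powers 1, t^q, t^{2q}, …, t^{(n-1)q} of the class t of X form a basis of A' as an A-module. -/
theorem result {A : Type u} [CommRing A] [IsLocalRing A] (p : ℕ) [Fact p.Prime]
    [CharP (IsLocalRing.ResidueField A) p] (g : Polynomial A) (hg : g.Monic) (hsep : g.Separable) (s : ℕ) :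
    ∃ b : Module.Basis (Fin g.natDegree) A (AdjoinRoot g),
      ∀ i : Fin g.natDegree, b i = AdjoinRoot.root g ^ (p ^ s * (i : ℕ)) := by
  classical
  set n := g.natDegree with hn
  set q := p ^ s with hq
  let B : Module.Basis (Fin n) A (AdjoinRoot g) := AdjoinRoot.powerBasisAux' hg
  let v : Fin n → AdjoinRoot g := fun i => AdjoinRoot.root g ^ (q * (i : ℕ))
  have hM : ∀ i j, B.toMatrix v i j = ((Polynomial.X ^ (q * (j : ℕ))) %ₘ g).coeff i := by
    intro i j
    have : v j = AdjoinRoot.mk g (Polynomial.X ^ (q * (j : ℕ))) := by rw [map_pow, AdjoinRoot.mk_X]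
    rw [Module.Basis.toMatrix_apply, this]
    show (AdjoinRoot.modByMonicHom hg (AdjoinRoot.mk g (Polynomial.X ^ (q * (j : ℕ))))).coeff (i : ℕ) = _
    rw [AdjoinRoot.modByMonicHom_mk]
  let φ := IsLocalRing.residue A
  set gb : Polynomial (IsLocalRing.ResidueField A) := g.map φ with hgb
  have hgbm : gb.Monic := hg.map φ
  have hgbn : gb.natDegree = n := hg.natDegree_map φ
  have hdet : IsUnit (B.toMatrix v).det := by
    by_contra hnu
    have h0 : ((B.toMatrix v).map φ).det = 0 := by
      rw [← RingHom.mapMatrix_apply, ← RingHom.map_det, IsLocalRing.residue_eq_zero_iff]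
      exact (IsLocalRing.mem_maximalIdeal _).2 hnu
    obtain ⟨c, hc0, hc⟩ := Matrix.exists_mulVec_eq_zero_iff.2 h0
    set P : Polynomial (IsLocalRing.ResidueField A) := ∑ j : Fin n, Polynomial.C (c j) * Polynomial.X ^ (q * (j : ℕ)) with hP
    have hzero : P %ₘ gb = 0 := by
      ext i
      rw [Polynomial.coeff_zero]
      by_cases hi : i < n
      · have := congrFun hc ⟨i, hi⟩
        simp only [Matrix.mulVec, dotProduct, Matrix.map_apply, hM, Pi.zero_apply] at this
        rw [← Polynomial.modByMonicHom_apply, hP, map_sum, Polynomial.finsetSum_coeff, ← this]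
        refine Finset.sum_congr rfl fun j _ => ?_
        rw [← Polynomial.smul_eq_C_mul, map_smul, Polynomial.coeff_smul, Polynomial.modByMonicHom_apply, hgb,
          ← Polynomial.map_X φ, ← Polynomial.map_pow, ← Polynomial.map_modByMonic φ hg, Polynomial.coeff_map,
          smul_eq_mul, mul_comm]
      · refine Polynomial.coeff_eq_zero_of_degree_lt (lt_of_lt_of_le (Polynomial.degree_modByMonic_lt P hgbm) ?_)
        rw [Polynomial.degree_eq_natDegree hgbm.ne_zero, hgbn]
        exact_mod_cast Nat.le_of_not_lt hi
    have hdvd := (Polynomial.modByMonic_eq_zero_iff_dvd hgbm).1 hzero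
    let Ω := AlgebraicClosure (IsLocalRing.ResidueField A)
    haveI : CharP Ω p := charP_of_injective_algebraMap (algebraMap (IsLocalRing.ResidueField A) Ω).injective p
    haveI : ExpChar Ω p := ExpChar.prime (Fact.out)
    set h : Polynomial Ω := ∑ j : Fin n, Polynomial.C (algebraMap _ Ω (c j)) * Polynomial.X ^ (j : ℕ) with hh
    have hroots : ∀ a ∈ gb.rootSet Ω, h.eval (a ^ q) = 0 := by
      intro a ha
      rw [Polynomial.mem_rootSet] at ha
      obtain ⟨r, hr⟩ := hdvd
      have : Polynomial.aeval a P = 0 := by rw [hr, map_mul, ha.2, zero_mul]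
      rw [← this, hh, hP]
      simp [Polynomial.eval_finsetSum, ← pow_mul]
    have hcard : Fintype.card (gb.rootSet Ω) = n := by
      rw [Polynomial.card_rootSet_eq_natDegree (hsep.map) (IsAlgClosed.splits _), hgbn]
    have hz : h = 0 := by
      refine Polynomial.eq_zero_of_natDegree_lt_card_of_eval_eq_zero h
        (f := fun a : gb.rootSet Ω => (a : Ω) ^ q) ?_ (fun a => hroots a a.2) ?_
      · intro a b hab
        exact Subtype.ext (iterateFrobenius_inj Ω p s (by simpa [iterateFrobenius_def, hq] using hab))
      · rw [hcard]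
        rcases Nat.eq_zero_or_pos n with hn0 | hn0
        · exact absurd (funext fun j => (Fin.cast hn0 j).elim0) hc0
        refine lt_of_le_of_lt (Polynomial.natDegree_sum_le_of_forall_le _ _ (n := n - 1) fun j _ => ?_) (by omega)
        exact (Polynomial.natDegree_C_mul_X_pow_le _ _).trans (by omega)
    apply hc0
    funext j
    have := congrArg (fun f => Polynomial.coeff f (j : ℕ)) hz
    simpa [hh, Polynomial.finsetSum_coeff, Polynomial.coeff_X_pow, Fin.val_inj] using this
  obtain ⟨hli, hsp⟩ := (Module.Basis.is_basis_iff_det B).2 (by rwa [Module.Basis.det_apply])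
  exact ⟨Module.Basis.mk (v := v) hli hsp.ge, fun i => by simp [v, hq]⟩

end Groth.Agent.S13702
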