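import Groth.Statements.S13703
import Groth.Agent.GammaLib.CH4

set_option autoImplicit false
universe u
open scoped TensorProduct
open ZeroCyc

namespace Groth.Agent.S13703

/-- Let A be an integral domain, B a commutative A-algebra and F : B → A a multiplicative polynomial law
homogeneous of degree d. For every prime ideal P of B minimal among those containing the kernel of
F, the contraction of P to A is zero and every prime of A is the contraction of a prime of B
containing P. Geometrically: every irreducible component of the support of the family of zero-cycles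
on Spec B defined by F maps onto Spec A. (The published statement is over an arbitrary algebraic
space S, every irreducible component of the support mapping onto an irreducible component of S, and
its proof reduces to an integral affine base; this row is that case.) -/
theorem result {A : Type u} [CommRing A] [IsDomain A] {B : Type u} [CommRing B] [Algebra A B]
    {d : ℕ} (F : PolLaw.MulLaw A B A d) {P : Ideal B} (hP : P ∈ (PolLaw.ker F.law).minimalPrimes) :
    P.comap (algebraMap A B) = ⊥ ∧
      ∀ q : Ideal A, q.IsPrime → ∃ Q : Ideal B, Q.IsPrime ∧ P ≤ Q ∧ Q.comap (algebraMap A B) = q := by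
  have hint := Groth.Agent.GammaLib.isIntegral_image F
  let mkB := Ideal.Quotient.mkₐ A (PolLaw.ker F.law)
  let l : A ⊗[A] PolLaw.image F.law ≃ₐ[A] PolLaw.image F.law := Algebra.TensorProduct.lid A _
  haveI := hP.1.1
  haveI hPb : (P.map mkB).IsPrime := Ideal.map_isPrime_of_surjective (Ideal.Quotient.mkₐ_surjective A _)
    (fun b hb => hP.1.2 (Ideal.Quotient.eq_zero_iff_mem.1 (RingHom.mem_ker.1 hb)))
  have hcm : (P.map mkB).comap mkB = P := by
    rw [Ideal.comap_map_of_surjective _ (Ideal.Quotient.mkₐ_surjective A _), ← RingHom.ker_eq_comap_bot]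
    exact sup_eq_left.2 fun b hb => hP.1.2 (Ideal.Quotient.eq_zero_iff_mem.1 (RingHom.mem_ker.1 hb))
  obtain ⟨P', hP', hle, hbot⟩ := Groth.Agent.GammaLib.exists_generization F A ((P.map mkB).comap l)
  let P'' : Ideal (PolLaw.image F.law) := P'.comap l.symm
  haveI : P''.IsPrime := Ideal.comap_isPrime _ _
  have hle' : P'' ≤ P.map mkB := fun x hx => by
    have := hle (Ideal.mem_comap.1 hx)
    rw [Ideal.mem_comap] at this
    simpa using this
  have heq : P''.comap mkB = P :=
    le_antisymm ((Ideal.comap_mono hle').trans hcm.le)
      (hP.2 ⟨Ideal.comap_isPrime _ _, fun b hb => by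
        rw [Ideal.mem_comap, show mkB b = 0 from Ideal.Quotient.eq_zero_iff_mem.2 hb]
        exact P''.zero_mem⟩ ((Ideal.comap_mono hle').trans hcm.le))
  have hc : P''.comap (algebraMap A _) = ⊥ := by
    rw [← hbot]
    ext a
    simp only [P'', Ideal.mem_comap]
    rw [l.symm.commutes]
  refine ⟨?_, fun q hq => ?_⟩
  · rw [← heq, ← hc]
    ext a
    simp [mkB]
  · obtain ⟨Q, hQ, hQp, hQc⟩ := Ideal.exists_ideal_over_prime_of_isIntegral q P'' (hc.le.trans bot_le)
    refine ⟨Q.comap mkB, Ideal.comap_isPrime _ _, heq.ge.trans (Ideal.comap_mono hQ), ?_⟩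
    rw [← hQc]
    ext a
    simp [mkB]

end Groth.Agent.S13703
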