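import Groth.Statements.S13706
import Groth.Agent.GammaLib.CH4
import Mathlib.RingTheory.IntegralClosure.IsIntegralClosure.Basic

set_option autoImplicit false
universe u
open scoped TensorProduct
open ZeroCyc

namespace Groth.Agent.S13706

/-- Let A be a commutative ring, B an A-algebra of finite type and F : B → A a multiplicative polynomial
law homogeneous of degree d. Then there is a finitely generated ideal J of B, contained in the
kernel of F and with the same radical; thus the support of the family of zero-cycles defined by F is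
carried by a bijective closed immersion into Spec(B/J), a scheme of finite presentation over A. -/
theorem result {A : Type u} [CommRing A] {B : Type u} [CommRing B] [Algebra A B]
    [Algebra.FiniteType A B] {d : ℕ} (F : PolLaw.MulLaw A B A d) :
    ∃ J : Ideal B, J.FG ∧ J ≤ PolLaw.ker F.law ∧ J.radical = (PolLaw.ker F.law).radical := by
  classical
  obtain ⟨s, hs⟩ := (inferInstance : Algebra.FiniteType A B)
  choose p hp hpk using fun b => Groth.Agent.GammaLib.exists_monic_eval F b
  let J0 : Ideal B := Ideal.span (↑(s.image fun b => Polynomial.aeval b (p b)) : Set B)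
  have hJ0 : J0 ≤ PolLaw.ker F.law := Ideal.span_le.2 fun c hc => by
    obtain ⟨b, -, rfl⟩ := Finset.mem_image.1 (Finset.mem_coe.1 hc)
    exact hpk b
  haveI : Algebra.IsIntegral A (B ⧸ J0) := by
    rw [← integralClosure_eq_top_iff, eq_top_iff]
    intro c _
    obtain ⟨b, rfl⟩ := Ideal.Quotient.mk_surjective c
    have hle : Algebra.adjoin A (s : Set B) ≤ (integralClosure A (B ⧸ J0)).comap (Ideal.Quotient.mkₐ A J0) := by
      refine Algebra.adjoin_le fun b hb => ⟨p b, hp b, ?_⟩
      show Polynomial.aeval (Ideal.Quotient.mkₐ A J0 b) (p b) = 0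
      rw [Polynomial.aeval_algHom_apply]
      exact Ideal.Quotient.eq_zero_iff_mem.2 (Ideal.subset_span (Finset.mem_coe.2 (Finset.mem_image_of_mem _ hb)))
    exact hle (hs ▸ Algebra.mem_top)
  haveI : Module.Finite A (B ⧸ J0) := Algebra.IsIntegral.finite
  obtain ⟨n, g, hg⟩ := Module.Finite.exists_fin (R := A) (M := B ⧸ J0)
  choose m hm using fun i => Ideal.Quotient.mk_surjective (g i)
  obtain ⟨G, hG, hGm⟩ := Groth.Agent.GammaLib.exists_finset_aeval_mem F m
  refine ⟨J0 ⊔ Ideal.span (G : Set B), Submodule.FG.sup (Submodule.fg_span (Finset.finite_toSet _))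
    (Submodule.fg_span G.finite_toSet), sup_le hJ0 (Ideal.span_le.2 hG), le_antisymm
      (Ideal.radical_mono (sup_le hJ0 (Ideal.span_le.2 hG))) (Ideal.radical_le_radical_iff.2 fun b hb => ?_)⟩
  obtain ⟨a, ha⟩ := (Submodule.mem_span_range_iff_exists_fun A).1
    (hg ▸ Submodule.mem_top : (Ideal.Quotient.mk J0 b) ∈ Submodule.span A (Set.range g))
  let e : B := ∑ i, a i • m i
  have hbe : b - e ∈ J0 := by
    rw [← Ideal.Quotient.eq_zero_iff_mem, map_sub, sub_eq_zero, ← ha]
    simp only [e, map_sum, ← hm]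
    refine Finset.sum_congr rfl fun i _ => ?_
    exact ((Ideal.Quotient.mkₐ A J0).map_smul_of_tower (a i) (m i)).symm
  have he : e ∈ PolLaw.ker F.law := by
    rw [show e = b - (b - e) by ring]
    exact Ideal.sub_mem _ hb (hJ0 hbe)
  have hz : ∑ i, a i ⊗ₜ[A] m i = (1 : A) ⊗ₜ[A] e := by
    simp only [e, TensorProduct.tmul_sum, TensorProduct.tmul_smul, TensorProduct.smul_tmul', smul_eq_mul, mul_one]
  have h := hGm A a
  have hchi : Groth.Agent.GammaLib.chiPoly F A ((1 : A) ⊗ₜ[A] e) = (-Polynomial.X) ^ d :=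
    Groth.Agent.GammaLib.chiPoly_of_mem F (Ideal.mem_map_of_mem _ he)
  rw [hz, hchi, map_pow, map_neg, Polynomial.aeval_X] at h
  have h' := Ideal.mem_map_of_mem (Algebra.TensorProduct.lid A B).toAlgHom h
  rw [Ideal.map_mapₐ] at h'
  have hcomp : ((Algebra.TensorProduct.lid A B).toAlgHom).comp
      (Algebra.TensorProduct.includeRight : B →ₐ[A] A ⊗[A] B) = AlgHom.id A B := by ext; simp
  rw [hcomp] at h'
  have h2 : (-e) ^ d ∈ J0 ⊔ Ideal.span (G : Set B) := Ideal.mem_sup_right (by simpa using h')
  have h3 : e ^ d ∈ J0 ⊔ Ideal.span (G : Set B) := by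
    have := Ideal.mul_mem_left _ ((-1) ^ d) h2
    rwa [← mul_pow, neg_one_mul, neg_neg] at this
  refine ⟨d, ?_⟩
  have h4 : b ^ d - e ^ d ∈ J0 := Ideal.mem_of_dvd _ (sub_dvd_pow_sub_pow b e d) hbe
  simpa using Ideal.add_mem _ (Ideal.mem_sup_left h4 : b ^ d - e ^ d ∈ J0 ⊔ Ideal.span (G : Set B)) h3

end Groth.Agent.S13706
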