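import Groth.Statements.S13707
import Groth.Agent.GammaLib.CH4
import Mathlib.FieldTheory.IsAlgClosed.AlgebraicClosure

set_option autoImplicit false
universe u
open scoped TensorProduct
open ZeroCyc

namespace Groth.Agent.S13707

/-- Let k be a field, B a commutative k-algebra and F : B → k a multiplicative polynomial law
homogeneous of degree d. Then the spectrum of B/ker F (the image of the family of zero-cycles of
degree d on Spec B defined by F) is a finite set of at most d closed points, and the residue field
at each of them has finite separable degree over k. -/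
theorem result {k : Type u} [Field k] {B : Type u} [CommRing B] [Algebra k B]
    {d : ℕ} (F : PolLaw.MulLaw k B k d) :
    Finite (PrimeSpectrum (PolLaw.image F.law)) ∧ Nat.card (PrimeSpectrum (PolLaw.image F.law)) ≤ d ∧
      ∀ P : PrimeSpectrum (PolLaw.image F.law), P.asIdeal.IsMaximal ∧
        Finite (Field.Emb k P.asIdeal.ResidueField) := by
  have := Groth.Agent.GammaLib.isIntegral_image F
  obtain ⟨h1, h2⟩ := Groth.Agent.GammaLib.finite_primes F k
  let e := PrimeSpectrum.comapEquiv (Algebra.TensorProduct.lid k (PolLaw.image F.law)).toRingEquiv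
  refine ⟨Finite.of_equiv _ e.toEquiv, (Nat.card_congr e.toEquiv).symm.le.trans h2, fun P => ?_⟩
  haveI hP : P.asIdeal.IsMaximal := Ideal.isMaximal_of_isIntegral_of_isMaximal_comap P.asIdeal (by
    haveI : (P.asIdeal.comap (algebraMap k (PolLaw.image F.law))).IsPrime := Ideal.comap_isPrime _ _
    rw [Ideal.eq_bot_of_prime (I := P.asIdeal.comap (algebraMap k (PolLaw.image F.law)))]
    exact Ideal.bot_isMaximal)
  refine ⟨hP, ?_⟩
  let L := AlgebraicClosure P.asIdeal.ResidueField
  obtain ⟨hfin, -⟩ := Groth.Agent.GammaLib.finite_primes F L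
  let r : PolLaw.image F.law →ₐ[k] P.asIdeal.ResidueField := IsScalarTower.toAlgHom k _ _
  let h : (P.asIdeal.ResidueField →ₐ[k] L) → PrimeSpectrum (L ⊗[k] PolLaw.image F.law) := fun σ =>
    ⟨RingHom.ker (Algebra.TensorProduct.lift (AlgHom.id k L) (σ.comp r) (fun _ _ => Commute.all _ _)),
      RingHom.ker_isPrime _⟩
  refine Finite.of_injective h fun σ τ hστ => ?_
  have hs : Function.Surjective r := Ideal.algebraMap_residueField_surjective P.asIdeal
  refine AlgHom.ext fun x => ?_
  obtain ⟨b, rfl⟩ := hs x
  have hmem : (σ (r b)) ⊗ₜ[k] (1 : PolLaw.image F.law) - (1 : L) ⊗ₜ[k] b ∈ (h σ).asIdeal := by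
    show _ ∈ RingHom.ker _
    simp [r]
  rw [hστ] at hmem
  have : σ (r b) - τ (r b) = 0 := by simpa [h] using hmem
  exact sub_eq_zero.1 this

end Groth.Agent.S13707
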