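import Groth.Statements.S13708
import Groth.Agent.GrpdQ.Norm
import Mathlib

set_option autoImplicit false
universe u
open CategoryTheory CategoryTheory.Limits AlgebraicGeometry
open ZeroCyc

namespace Groth.Agent.S13708

/-- Let X be a scheme over S such that every finite set of points of X over a common point of S lies in
some affine open subscheme of X (the condition (AF)). Then X is separated over S. (The published
condition (AF) asks for an open U with U → S quasi-affine rather than U affine; with U affine, as
here, the same argument applies verbatim, and the two conditions agree over a quasi-separated base.) -/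
theorem result {X S : Scheme.{u}} (f : X ⟶ S) (hX : SymProd.IsAF f) :
    IsSeparated f := by
  classical
  constructor
  refine IsClosedImmersion.of_isPreimmersion _ ?_
  rw [← isOpen_compl_iff, isOpen_iff_forall_mem_open]
  intro z hz
  let a := CategoryTheory.Limits.pullback.fst f f
  let b := CategoryTheory.Limits.pullback.snd f f
  have hab : f (b z) = f (a z) := by
    rw [← Scheme.Hom.comp_apply, ← Scheme.Hom.comp_apply, CategoryTheory.Limits.pullback.condition]
  obtain ⟨U, hU, hT⟩ := hX (f (a z)) {a z, b z} (fun w hw => by
    simp only [Finset.mem_insert, Finset.mem_singleton] at hw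
    rcases hw with rfl | rfl
    · rfl
    · exact hab)
  obtain ⟨W, hW, hWm, -⟩ : ∃ W : S.Opens, IsAffineOpen W ∧ f (a z) ∈ W ∧ W ≤ ⊤ :=
    TopologicalSpace.Opens.isBasis_iff_nbhd.1 S.isBasis_affineOpens (show f (a z) ∈ (⊤ : S.Opens) from trivial)
  obtain ⟨g, hg, hgW⟩ := GrpdQ.exists_basicOpen_finite (O := f ⁻¹ᵁ W) hU (Finset.finite_toSet {a z, b z})
    (fun w hw => hT w hw) (fun w hw => by
      simp only [Finset.coe_insert, Finset.coe_singleton, Set.mem_insert_iff, Set.mem_singleton_iff] at hw
      show f w ∈ W
      rcases hw with rfl | rfl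
      · exact hWm
      · rw [hab]; exact hWm)
  have hV : IsAffineOpen (X.basicOpen g) := hU.basicOpen g
  set V := X.basicOpen g
  haveI : IsAffine (V : Scheme.{u}) := hV
  haveI : IsAffine (W : Scheme.{u}) := hW
  let h : (V : Scheme.{u}) ⟶ (W : Scheme.{u}) := f.resLE W V hgW
  have hhV : h ≫ W.ι = V.ι ≫ f := Scheme.Hom.resLE_comp_ι f hgW
  have hsep : IsSeparated h := inferInstance
  let m := CategoryTheory.Limits.pullback.map h h f f V.ι V.ι W.ι hhV hhV
  have hmo : IsOpenImmersion m := inferInstance
  have hcl : IsClosed (Set.range (CategoryTheory.Limits.pullback.diagonal h)) :=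
    (CategoryTheory.Limits.pullback.diagonal h).isClosedEmbedding.isClosed_range
  refine ⟨m '' (Set.range (CategoryTheory.Limits.pullback.diagonal h))ᶜ, ?_, m.isOpenEmbedding.isOpenMap _ hcl.isOpen_compl, ?_⟩
  · rintro _ ⟨w, hw, rfl⟩ ⟨x, hx⟩
    have hxV : x ∈ V := by
      have h1 : a ((CategoryTheory.Limits.pullback.diagonal f) x) = a (m w) := congrArg _ hx
      rw [← Scheme.Hom.comp_apply, CategoryTheory.Limits.pullback.diagonal_fst, ← Scheme.Hom.comp_apply,
        CategoryTheory.Limits.pullback.lift_fst] at h1
      rw [show x = _ from h1, Scheme.Hom.comp_apply]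
      exact (CategoryTheory.Limits.pullback.fst h h w).2
    refine hw ⟨⟨x, hxV⟩, m.isOpenEmbedding.injective ?_⟩
    rw [← hx, ← Scheme.Hom.comp_apply]
    have : CategoryTheory.Limits.pullback.diagonal h ≫ m = V.ι ≫ CategoryTheory.Limits.pullback.diagonal f := by
      apply CategoryTheory.Limits.pullback.hom_ext
      · simp only [Category.assoc, m, CategoryTheory.Limits.pullback.map]
        erw [CategoryTheory.Limits.pullback.lift_fst]
        rw [CategoryTheory.Limits.pullback.diagonal_fst_assoc, CategoryTheory.Limits.pullback.diagonal_fst, Category.comp_id]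
      · simp only [Category.assoc, m, CategoryTheory.Limits.pullback.map]
        erw [CategoryTheory.Limits.pullback.lift_snd]
        rw [CategoryTheory.Limits.pullback.diagonal_snd_assoc, CategoryTheory.Limits.pullback.diagonal_snd, Category.comp_id]
    rw [this, Scheme.Hom.comp_apply]
    rfl
  · have hz' : z ∈ Set.range m := by
      rw [Scheme.Pullback.range_map]
      refine ⟨?_, ?_⟩ <;> rw [Set.mem_preimage, V.range_ι]
      · exact hg (by simp [a])
      · exact hg (by simp [b])
    obtain ⟨w, rfl⟩ := hz'
    refine ⟨w, fun ⟨v, hv⟩ => hz ⟨V.ι v, ?_⟩, rfl⟩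
    rw [← hv, ← Scheme.Hom.comp_apply, ← Scheme.Hom.comp_apply]
    have : CategoryTheory.Limits.pullback.diagonal h ≫ m = V.ι ≫ CategoryTheory.Limits.pullback.diagonal f := by
      apply CategoryTheory.Limits.pullback.hom_ext
      · simp only [Category.assoc, m, CategoryTheory.Limits.pullback.map]
        erw [CategoryTheory.Limits.pullback.lift_fst]
        rw [CategoryTheory.Limits.pullback.diagonal_fst_assoc, CategoryTheory.Limits.pullback.diagonal_fst, Category.comp_id]
      · simp only [Category.assoc, m, CategoryTheory.Limits.pullback.map]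
        erw [CategoryTheory.Limits.pullback.lift_snd]
        rw [CategoryTheory.Limits.pullback.diagonal_snd_assoc, CategoryTheory.Limits.pullback.diagonal_snd, Category.comp_id]
    rw [this]

end Groth.Agent.S13708
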