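import Groth.Statements.S13709
import Mathlib.AlgebraicGeometry.PullbackCarrier
import Mathlib.AlgebraicGeometry.Morphisms.UniversallyOpen

set_option autoImplicit false
universe u
open CategoryTheory CategoryTheory.Limits AlgebraicGeometry
open ZeroCyc

namespace Groth.Agent.S13709

/-- Let f : X → Y be a quasi-compact morphism of schemes and g : Y' → Y a faithfully flat morphism, i.e.
flat and surjective, with no quasi-compactness assumption on g. If the base change X ×_Y Y' → Y' of
f along g is a homeomorphism on underlying spaces, then so is f. -/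
theorem result {X Y Y' : Scheme.{u}} (f : X ⟶ Y) (g : Y' ⟶ Y)
    [Flat g] [Surjective g] [QuasiCompact f] (h : IsHomeomorph (pullback.snd f g).base) :
    IsHomeomorph f.base := by
  have hsurj : ∀ y : Y, ∃ y' : Y', g y' = y := g.surjective
  have hfs : Function.Surjective f := by
    intro y
    obtain ⟨y', rfl⟩ := hsurj y
    obtain ⟨z, hz⟩ := h.surjective y'
    refine ⟨pullback.fst f g z, ?_⟩
    rw [← Scheme.Hom.comp_apply, pullback.condition, Scheme.Hom.comp_apply]
    exact congrArg g hz
  have hfi : Function.Injective f := by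
    intro x₁ x₂ hx
    obtain ⟨y', hy'⟩ := hsurj (f x₁)
    obtain ⟨z₁, h1, h1'⟩ := Scheme.Pullback.exists_preimage_pullback (f := f) (g := g) x₁ y' hy'.symm
    obtain ⟨z₂, h2, h2'⟩ := Scheme.Pullback.exists_preimage_pullback (f := f) (g := g) x₂ y' (hx ▸ hy'.symm)
    rw [← h1, ← h2, h.injective (h1'.trans h2'.symm)]
  have hc : IsClosedMap f := by
    rw [isClosedMap_iff_specializingMap]
    intro x y hy
    obtain ⟨y', rfl⟩ := hsurj y
    obtain ⟨y₁', hy₁', hgy₁'⟩ := Flat.generalizingMap g hy
    obtain ⟨z₁, h1, h1'⟩ := Scheme.Pullback.exists_preimage_pullback (f := f) (g := g) x y₁' hgy₁'.symm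
    obtain ⟨z, hz, hz'⟩ := h.isClosedMap.specializingMap
      (show (pullback.snd f g).base z₁ ⤳ y' from h1' ▸ hy₁')
    refine ⟨pullback.fst f g z, h1 ▸ hz.map (pullback.fst f g).continuous, ?_⟩
    rw [← Scheme.Hom.comp_apply, pullback.condition, Scheme.Hom.comp_apply]
    exact congrArg g hz'
  exact isHomeomorph_iff_continuous_isClosedMap_bijective.2 ⟨f.continuous, hc, hfi, hfs⟩

end Groth.Agent.S13709
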