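import Groth.Statements.S13710
import Mathlib.AlgebraicGeometry.Morphisms.FlatDescent
import Mathlib.AlgebraicGeometry.Morphisms.IsIso
import Mathlib.AlgebraicGeometry.Morphisms.Flat
import Mathlib.RingTheory.Flat.FaithfullyFlat.Algebra

set_option autoImplicit false
universe u
open CategoryTheory CategoryTheory.Limits AlgebraicGeometry
open ZeroCyc

namespace Groth.Agent.S13710

theorem exists_lift_stalk {X : Scheme.{u}} {R : CommRingCat.{u}} [IsLocalRing R] (s : Spec R ⟶ X) (x : X)
    (hx : s (IsLocalRing.closedPoint R) = x) :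
    ∃ v : Spec R ⟶ Spec (X.presheaf.stalk x), v ≫ X.fromSpecStalk x = s := by
  subst hx
  exact ⟨_, Scheme.Spec_stalkClosedPointTo_fromSpecStalk s⟩

theorem isIso_snd_stalk {X Y Y' : Scheme.{u}} (f : X ⟶ Y) (g : Y' ⟶ Y) [Flat g] [Surjective g]
    [IsIso (pullback.snd f g)] (y : Y) : IsIso (pullback.snd f (Y.fromSpecStalk y)) := by
  obtain ⟨y', rfl⟩ := g.surjective y
  let h := Spec.map (g.stalkMap y')
  have e : h ≫ Y.fromSpecStalk (g y') = Y'.fromSpecStalk y' ≫ g := Scheme.SpecMap_stalkMap_fromSpecStalk g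
  have h1 : Flat h := Flat.SpecMap_iff.mpr (Flat.stalkMap g y')
  have h2 : Surjective h := by
    let : Algebra (Y.presheaf.stalk (g y')) (Y'.presheaf.stalk y') := (g.stalkMap y').hom.toAlgebra
    have : Module.Flat (Y.presheaf.stalk (g y')) (Y'.presheaf.stalk y') := Flat.stalkMap g y'
    have : IsLocalHom (algebraMap (Y.presheaf.stalk (g y')) (Y'.presheaf.stalk y')) :=
      inferInstanceAs (IsLocalHom (g.stalkMap y').hom)
    have hff : (g.stalkMap y').hom.FaithfullyFlat :=
      (Module.FaithfullyFlat.of_flat_of_isLocalHom : Module.FaithfullyFlat _ _)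
    exact ((flat_and_surjective_SpecMap_iff _).mpr hff).2
  have h3 : QuasiCompact h := inferInstance
  refine MorphismProperty.of_pullback_snd_of_descendsAlong (P := MorphismProperty.isomorphisms Scheme.{u})
    (Q := @Surjective ⊓ @Flat ⊓ @QuasiCompact) (g := h) ⟨⟨h2, h1⟩, h3⟩ ?_
  show IsIso (pullback.snd (pullback.snd f (Y.fromSpecStalk (g y'))) h)
  have : IsIso (pullback.snd f (h ≫ Y.fromSpecStalk (g y'))) := by
    rw [e, ← pullbackLeftPullbackSndIso_inv_snd_snd f g (Y'.fromSpecStalk y')]
    infer_instance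
  rw [← pullbackLeftPullbackSndIso_hom_snd f (Y.fromSpecStalk (g y')) h]
  infer_instance


/-- Let f : X → Y be a morphism of schemes and g : Y' → Y a faithfully flat morphism (flat and
surjective, not assumed quasi-compact). Then f is an isomorphism exactly when it is quasi-compact
and its base change X ×_Y Y' → Y' along g is an isomorphism. -/
theorem result {X Y Y' : Scheme.{u}} (f : X ⟶ Y) (g : Y' ⟶ Y)
    [Flat g] [Surjective g] :
    IsIso f ↔ QuasiCompact f ∧ IsIso (pullback.snd f g) := by
  refine ⟨fun h => ⟨inferInstance, inferInstance⟩, fun ⟨hqc, hi⟩ => ?_⟩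
  have hsec : ∀ y : Y, ∃ s : Spec (Y.presheaf.stalk y) ⟶ X, s ≫ f = Y.fromSpecStalk y ∧
      ∀ x, ∀ v : Spec (X.presheaf.stalk x) ⟶ Spec (Y.presheaf.stalk y),
        X.fromSpecStalk x ≫ f = v ≫ Y.fromSpecStalk y → v ≫ s = X.fromSpecStalk x := fun y => by
    have := isIso_snd_stalk f g y
    refine ⟨inv (pullback.snd f (Y.fromSpecStalk y)) ≫ pullback.fst f (Y.fromSpecStalk y), ?_, fun x v hv => ?_⟩
    · rw [Category.assoc, pullback.condition, IsIso.inv_hom_id_assoc]
    · have hl := pullback.lift_snd (f := f) (g := Y.fromSpecStalk y) (X.fromSpecStalk x) v hv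
      have : v ≫ inv (pullback.snd f (Y.fromSpecStalk y)) = pullback.lift (X.fromSpecStalk x) v hv := by
        rw [IsIso.comp_inv_eq, hl]
      rw [← Category.assoc, this, pullback.lift_fst]
  choose s hs hu using hsec
  have hpt : ∀ x : X, s (f x) (IsLocalRing.closedPoint (Y.presheaf.stalk (f x))) = x := fun x => by
    have := hu (f x) x (Spec.map (f.stalkMap x)) (Scheme.SpecMap_stalkMap_fromSpecStalk f).symm
    have h := congrArg (fun k => k (IsLocalRing.closedPoint (X.presheaf.stalk x))) this
    simp only [Scheme.Hom.comp_apply, Scheme.fromSpecStalk_closedPoint, Spec_closedPoint] at h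
    exact h
  have hbij : Function.Bijective f := by
    refine ⟨fun a b hab => ?_, fun y => ⟨s y (IsLocalRing.closedPoint (Y.presheaf.stalk y)), ?_⟩⟩
    · rw [← hpt a, ← hpt b]
      exact congr_heq (congr_arg_heq (fun y => (s y : Spec (Y.presheaf.stalk y) → X)) hab)
        (congr_arg_heq (fun y => IsLocalRing.closedPoint (Y.presheaf.stalk y)) hab)
    · rw [← Scheme.Hom.comp_apply, hs, Scheme.fromSpecStalk_closedPoint]
  have hst : ∀ x, IsIso (f.stalkMap x) := fun x => by
    obtain ⟨v, hv⟩ := exists_lift_stalk (s (f x)) x (hpt x)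
    have e := hu (f x) x (Spec.map (f.stalkMap x)) (Scheme.SpecMap_stalkMap_fromSpecStalk f).symm
    rw [← hv, ← Category.assoc] at e
    have e1 : Spec.map (f.stalkMap x) ≫ v = 𝟙 _ := by
      rwa [← cancel_mono (X.fromSpecStalk x), Category.id_comp]
    have e2 : v ≫ Spec.map (f.stalkMap x) = 𝟙 _ := by
      rw [← cancel_mono (Y.fromSpecStalk (f x)), Category.assoc, Scheme.SpecMap_stalkMap_fromSpecStalk,
        reassoc_of% hv, hs, Category.id_comp]
    have : IsIso (Spec.map (f.stalkMap x)) := ⟨v, e1, e2⟩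
    exact (ConcreteCategory.isIso_iff_bijective _).mpr (isIso_SpecMap_iff.mp this)
  have : Flat f := Flat.iff_flat_stalkMap f |>.mpr fun x => by
    have := hst x
    exact RingHom.Flat.of_bijective (ConcreteCategory.bijective_of_isIso (f.stalkMap x))
  have : Surjective f := ⟨hbij.2⟩
  have hq := Flat.isQuotientMap_of_surjective f
  have hemb : Topology.IsOpenEmbedding f :=
    (IsHomeomorph.mk hq.continuous (fun U hU => by
      rw [← hq.isOpen_preimage, Set.preimage_image_eq _ hbij.1]; exact hU) hbij).isOpenEmbedding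
  have : IsOpenImmersion f := IsOpenImmersion.iff_isIso_stalkMap.mpr ⟨hemb, hst⟩
  exact (isIso_iff_isOpenImmersion_and_surjective f).mpr ⟨inferInstance, inferInstance⟩

end Groth.Agent.S13710
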