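import Groth.Statements.S13712
import Groth.Agent.UCAffine.Basic
import Mathlib.AlgebraicGeometry.IdealSheaf.Subscheme

set_option autoImplicit false
universe u
open CategoryTheory CategoryTheory.Limits AlgebraicGeometry
open ZeroCyc

namespace Groth.Agent.S13712

/-- Let f : X → Y and g : Y → S be morphisms of schemes with g separated, such that the composite X → S
is integral with topologically finite fibres (every fibre is a finite set). Then the
scheme-theoretic image Y' of f, with its closed immersion Y' → Y, is integral over S, and Y' → S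
again has topologically finite fibres. (The published statement is for algebraic spaces; this row is
the case of schemes.) -/
theorem result {X Y S : Scheme.{u}} (f : X ⟶ Y) (g : Y ⟶ S)
    [IsSeparated g] [IsIntegralHom (f ≫ g)] (hfin : ∀ s : S, Set.Finite ((f ≫ g).base ⁻¹' {s})) :
    IsIntegralHom (f.imageι ≫ g) ∧ ∀ s : S, Set.Finite ((f.imageι ≫ g).base ⁻¹' {s}) := by
  haveI : IsIntegralHom f := IsIntegralHom.of_comp f g
  haveI : IsIntegralHom (f.toImage ≫ f.imageι) := by rw [f.toImage_imageι]; infer_instance
  haveI : IsIntegralHom f.toImage := IsIntegralHom.of_comp f.toImage f.imageι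
  haveI : Surjective f.toImage := ⟨Set.range_eq_univ.1
    (f.toImage.isClosedMap.isClosed_range.closure_eq.symm.trans f.toImage.denseRange.closure_range)⟩
  have hcomp : f.toImage ≫ f.imageι ≫ g = f ≫ g := by rw [f.toImage_imageι_assoc]
  haveI : IsIntegralHom (f.toImage ≫ f.imageι ≫ g) := by rw [hcomp]; infer_instance
  have hfin' : ∀ s : S, Set.Finite ((f.imageι ≫ g).base ⁻¹' {s}) := fun s => by
    refine ((hfin s).image f.toImage.base).subset fun z hz => ?_
    obtain ⟨x, rfl⟩ := f.toImage.surjective z
    exact ⟨x, (congrArg (fun m : X ⟶ S => m.base x) hcomp).symm.trans hz, rfl⟩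
  haveI : UniversallyClosed (f.imageι ≫ g) := UniversallyClosed.of_comp_surjective f.toImage _
  haveI : IsAffineHom (f.imageι ≫ g) :=
    Groth.Agent.UCAffine.isAffineHom_of_integral_surjective f.toImage _ hfin'
  exact ⟨IsIntegralHom.iff_universallyClosed_and_isAffineHom.2 ⟨inferInstance, inferInstance⟩, hfin'⟩

end Groth.Agent.S13712
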