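import Groth.Statements.S13718
import Groth.Agent.GammaLib.CH4

set_option autoImplicit false
universe u
open scoped TensorProduct
open ZeroCyc

namespace Groth.Agent.S13718

/-- Let φ : B' → B be a map of commutative algebras over the commutative ring A and F : B → A a
multiplicative polynomial law homogeneous of degree d, with push-forward the law F ∘ φ : B' → A.
Then the radical of the kernel of F ∘ φ equals the radical of the inverse image under φ of the
kernel of F: the support of the pushed-forward family of zero-cycles on Spec B' is the image of the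
support of the family on Spec B. (The published statement is for affine morphisms X → Y → S of
algebraic spaces; this row is the case of an affine base.) -/
theorem result {A : Type u} [CommRing A] {B : Type u} [CommRing B] [Algebra A B]
    {B' : Type u} [CommRing B'] [Algebra A B'] {d : ℕ} (F : PolLaw.MulLaw A B A d) (φ : B' →ₐ[A] B) :
    (PolLaw.ker (F.precomp φ).law).radical = ((PolLaw.ker F.law).comap φ).radical := by
  refine le_antisymm (Ideal.radical_le_radical_iff.2 fun b hb => ?_) (Ideal.radical_mono fun b hb S _ _ x w => ?_)
  · refine ⟨d, ?_⟩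
    rw [Ideal.mem_comap, map_pow]
    have h : Groth.Agent.GammaLib.chiPoly F A ((1 : A) ⊗ₜ[A] φ b) = (-Polynomial.X) ^ d := by
      have h1 := hb (Polynomial A) (-((Polynomial.X : Polynomial A) ⊗ₜ[A] (1 : B'))) 1
      rw [one_mul] at h1
      have h1' : F.law.toFun' (Polynomial A) (-((Polynomial.X : Polynomial A) ⊗ₜ[A] (1 : B)) + 1 ⊗ₜ[A] φ b) =
          F.law.toFun' (Polynomial A) (-((Polynomial.X : Polynomial A) ⊗ₜ[A] (1 : B))) := by
        have e : ∀ x, (F.precomp φ).law.toFun' (Polynomial A) x =
            F.law.toFun' (Polynomial A) (φ.toLinearMap.lTensor _ x) := fun _ => rfl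
        rw [e, e] at h1
        simpa using h1
      rw [Groth.Agent.GammaLib.chiPoly, ← Groth.Agent.GammaLib.valF_algebraMap F (Polynomial A) (-Polynomial.X),
        TensorProduct.neg_tmul]
      refine congrArg (TensorProduct.rid A (Polynomial A)) (Eq.trans ?_ h1')
      congr 1
      simp [sub_eq_neg_add]
    obtain ⟨N, hN⟩ : IsNilpotent (Groth.Agent.GammaLib.toImage F A ((1 : A) ⊗ₜ[A] φ b)) :=
      Groth.Agent.GammaLib.isNilpotent_of_chiPoly F h
    have h2 := Ideal.mem_map_of_mem (Algebra.TensorProduct.lid A B).toAlgHom (Groth.Agent.GammaLib.pow_mem_of_chiPoly F h)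
    rw [Ideal.map_mapₐ] at h2
    have e : ((Algebra.TensorProduct.lid A B).toAlgHom).comp
        (Algebra.TensorProduct.includeRight : B →ₐ[A] A ⊗[A] B) = AlgHom.id A B := by ext; simp
    rw [e] at h2
    simpa using h2
  · show F.law.toFun' S (φ.toLinearMap.lTensor S _) = F.law.toFun' S (φ.toLinearMap.lTensor S x)
    rw [PolLaw.lTensor_algHom_apply, PolLaw.lTensor_algHom_apply, map_add, map_mul,
      Algebra.TensorProduct.map_tmul, map_one]
    exact hb S _ _

end Groth.Agent.S13718
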