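import Groth.Statements.S13719
import Groth.Agent.GammaLib.CH2
import Mathlib.RingTheory.Spectrum.Prime.Topology

set_option autoImplicit false
universe u
open scoped TensorProduct
open ZeroCyc

namespace Groth.Agent.S13719

/-- Let A be a commutative ring whose prime spectrum is connected, B₁, B₂ commutative A-algebras and F :
B₁ × B₂ → A a multiplicative polynomial law homogeneous of degree d (a family of zero-cycles of
degree d on the disjoint union Spec B₁ ⊔ Spec B₂ over Spec A). Then there are natural numbers d₁ +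
d₂ = d, the multiplicities of the family on the two pieces, and multiplicative laws F₁ : B₁ → A, F₂
: B₂ → A homogeneous of degrees d₁, d₂ with F(x) = F₁(x₁) F₂(x₂) for every test algebra S and x ∈ S
⊗ (B₁ × B₂) with components x₁, x₂; and the degrees d₁, d₂ of any such factorisation are uniquely
determined. (The published statement is for finitely many algebraic spaces affine over a connected
algebraic space S; this row is the case of two pieces over an affine base.) -/
theorem result {A : Type u} [CommRing A] [ConnectedSpace (PrimeSpectrum A)]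
    {B₁ : Type u} [CommRing B₁] [Algebra A B₁] {B₂ : Type u} [CommRing B₂] [Algebra A B₂]
    {d : ℕ} (F : PolLaw.MulLaw A (B₁ × B₂) A d) :
    ∃ d₁ d₂ : ℕ, d₁ + d₂ = d ∧
      (∃ (F₁ : PolLaw.MulLaw A B₁ A d₁) (F₂ : PolLaw.MulLaw A B₂ A d₂),
        ∀ (S : Type u) [CommSemiring S] [Algebra A S] (x : S ⊗[A] (B₁ × B₂)),
          F.law.toFun' S x = F₁.law.toFun' S (LinearMap.lTensor S (LinearMap.fst A B₁ B₂) x) *
            F₂.law.toFun' S (LinearMap.lTensor S (LinearMap.snd A B₁ B₂) x)) ∧
      ∀ (e₁ e₂ : ℕ) (G₁ : PolLaw.MulLaw A B₁ A e₁) (G₂ : PolLaw.MulLaw A B₂ A e₂),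
        (∀ (S : Type u) [CommSemiring S] [Algebra A S] (x : S ⊗[A] (B₁ × B₂)),
          F.law.toFun' S x = G₁.law.toFun' S (LinearMap.lTensor S (LinearMap.fst A B₁ B₂) x) *
            G₂.law.toFun' S (LinearMap.lTensor S (LinearMap.snd A B₁ B₂) x)) → e₁ = d₁ ∧ e₂ = d₂ := by
  classical
  obtain ⟨q⟩ := (inferInstance : Nonempty (PrimeSpectrum A))
  haveI : Nontrivial A := ⟨⟨0, 1, fun h => q.isPrime.ne_top ((Ideal.eq_top_iff_one _).2 (h ▸ q.asIdeal.zero_mem))⟩⟩
  have hidem : ∀ e : A, e * e = e → e = 0 ∨ e = 1 := fun e he => by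
    have hcl : IsClopen (PrimeSpectrum.basicOpen e : Set (PrimeSpectrum A)) := by
      refine ⟨?_, PrimeSpectrum.isOpen_basicOpen⟩
      have : (PrimeSpectrum.basicOpen e : Set (PrimeSpectrum A)) = PrimeSpectrum.zeroLocus {1 - e} := by
        ext p
        simp only [SetLike.mem_coe, PrimeSpectrum.mem_basicOpen, PrimeSpectrum.mem_zeroLocus, Set.singleton_subset_iff]
        refine ⟨fun h => ?_, fun h he' => p.isPrime.ne_top ((Ideal.eq_top_iff_one _).2 ?_)⟩
        · exact (p.isPrime.mem_or_mem (show e * (1 - e) ∈ p.asIdeal by rw [mul_sub, mul_one, he, sub_self]; exact zero_mem _)).resolve_left h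
        · simpa using p.asIdeal.add_mem h he'
      rw [this]
      exact PrimeSpectrum.isClosed_zeroLocus _
    rcases isClopen_iff.1 hcl with h | h
    · left
      have hn : IsNilpotent e := by
        rw [← mem_nilradical, nilradical_eq_sInf, Submodule.mem_sInf]
        intro p hp
        by_contra hne
        exact (Set.eq_empty_iff_forall_notMem.1 h ⟨p, hp⟩) hne
      exact IsIdempotentElem.eq_zero_of_isNilpotent he hn
    · right
      have hu : IsUnit e := by
        by_contra hne
        obtain ⟨m, hm, hem⟩ := exists_max_ideal_of_mem_nonunits hne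
        exact (h.ge (Set.mem_univ ⟨m, hm.isPrime⟩) : e ∉ m) hem
      exact hu.mul_left_cancel (he.trans (mul_one e).symm)
  let e₁ : B₁ × B₂ := (1, 0)
  let e₂ : B₁ × B₂ := (0, 1)
  let E : ∀ (S : Type u) [CommSemiring S] [Algebra A S], S → S → S ⊗[A] (B₁ × B₂) :=
    fun S _ _ s t => s ⊗ₜ[A] e₁ + t ⊗ₜ[A] e₂
  have hEmul : ∀ (S : Type u) [CommSemiring S] [Algebra A S] (s t s' t' : S),
      E S s t * E S s' t' = E S (s * s') (t * t') := fun S _ _ s t s' t' => by
    simp [E, e₁, e₂, add_mul, mul_add, Algebra.TensorProduct.tmul_mul_tmul, Prod.mk_zero_zero]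
  have hEone : ∀ (S : Type u) [CommSemiring S] [Algebra A S], E S 1 1 = 1 := fun S _ _ => by
    simp only [E]
    rw [← TensorProduct.tmul_add, Algebra.TensorProduct.one_def]
    simp [e₁, e₂, Prod.mk_one_one]
  have hEsmul : ∀ (S : Type u) [CommSemiring S] [Algebra A S] (a s t : S), a • E S s t = E S (a * s) (a * t) :=
    fun S _ _ a s t => by simp [E, TensorProduct.smul_tmul']
  let V : ∀ (S : Type u) [CommSemiring S] [Algebra A S], S → S → S :=
    fun S _ _ s t => Groth.Agent.GammaLib.valF F S (E S s t)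
  have hVc : ∀ (S S' : Type u) [CommSemiring S] [Algebra A S] [CommSemiring S'] [Algebra A S'] (φ : S →ₐ[A] S') (s t : S),
      φ (V S s t) = V S' (φ s) (φ t) := fun S S' _ _ _ _ φ s t => by
    simp only [V, Groth.Agent.GammaLib.valF_compat, E, map_add, LinearMap.rTensor_tmul, AlgHom.toLinearMap_apply]
  let x : Fin 2 → B₁ × B₂ := ![e₁, e₂]
  have hVsum : ∀ (S : Type u) [CommSemiring S] [Algebra A S] (s t : S),
      V S s t = ∑ k ∈ Groth.Agent.GammaLib.cset (Fin 2) d, Groth.Agent.GammaLib.coef F.law x k • (s ^ k 0 * t ^ k 1) := by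
    intro S _ _ s t
    show Groth.Agent.GammaLib.valF F S (s ⊗ₜ[A] e₁ + t ⊗ₜ[A] e₂) = _
    have := Groth.Agent.GammaLib.valF_sum F x (![s, t] : Fin 2 → S)
    simpa [Fin.sum_univ_two, Groth.Agent.GammaLib.mon, Fin.prod_univ_two, x] using this
  -- powers of a single variable
  have hpow : ∀ (σ : Bool), ∃ n ≤ d, ∀ (S : Type u) [CommSemiring S] [Algebra A S] (s : S),
      (if σ then V S s 1 else V S 1 s) = s ^ n := by
    intro σ
    let f : Polynomial A := if σ then V (Polynomial A) Polynomial.X 1 else V (Polynomial A) 1 Polynomial.X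
    have hev : ∀ (S : Type u) [CommSemiring S] [Algebra A S] (s : S),
        (if σ then V S s 1 else V S 1 s) = Polynomial.aeval s f := fun S _ _ s => by
      cases σ <;> simp [f, hVc]
    have hdeg : f.natDegree ≤ d := by
      have h2 : ∀ k ∈ Groth.Agent.GammaLib.cset (Fin 2) d, k 0 ≤ d ∧ k 1 ≤ d := fun k hk => by
        have := Groth.Agent.GammaLib.mem_cset.1 hk
        rw [Fin.sum_univ_two] at this
        omega
      cases σ <;>
      · simp only [f, hVsum, Bool.false_eq_true, if_true, if_false, one_pow, one_mul, mul_one]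
        refine Polynomial.natDegree_sum_le_of_forall_le _ _ fun k hk => (Polynomial.natDegree_smul_le _ _).trans ?_
        exact (Polynomial.natDegree_X_pow_le _).trans (by first | exact (h2 k hk).1 | exact (h2 k hk).2)
    have hone : f.eval 1 = 1 := by
      rw [← Polynomial.coe_aeval_eq_eval, ← hev A 1]
      cases σ <;> simp [V, hEone, Groth.Agent.GammaLib.valF_one]
    have hmul : ∀ (S : Type u) [CommRing S] [Algebra A S] (s t : S),
        Polynomial.aeval (s * t) f = Polynomial.aeval s f * Polynomial.aeval t f := fun S _ _ s t => by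
      rw [← hev S (s * t), ← hev S s, ← hev S t]
      cases σ <;> simp [V, ← Groth.Agent.GammaLib.valF_mul, hEmul]
    have hfun : ∀ i j, f.coeff i * f.coeff j = if i = j then f.coeff i else 0 := fun i j => by
      let R := Polynomial (Polynomial A)
      have h := hmul R (Polynomial.C Polynomial.X) Polynomial.X
      have h1 : Polynomial.aeval (Polynomial.X : R) f = f.map Polynomial.C := by
        rw [Polynomial.aeval_def, Polynomial.eval₂_eq_eval_map, IsScalarTower.algebraMap_eq A (Polynomial A) R,
          ← Polynomial.map_map]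
        show ((f.map (algebraMap A (Polynomial A))).map Polynomial.C).eval Polynomial.X = _
        rw [Polynomial.eval_map, Polynomial.eval₂_C_X]
        rfl
      have h2 : Polynomial.aeval (Polynomial.C Polynomial.X : R) f = Polynomial.C f := by
        rw [← Polynomial.algebraMap_eq, Polynomial.aeval_algebraMap_apply, Polynomial.aeval_X_left_apply]
      rw [h1, h2] at h
      have h3 : (Polynomial.aeval (Polynomial.C Polynomial.X * Polynomial.X : R) f).coeff j =
          Polynomial.C (f.coeff j) * Polynomial.X ^ j := by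
        have hterm : ∀ b, Polynomial.coeff (f.coeff b • ((Polynomial.C Polynomial.X * Polynomial.X : R) ^ b)) j =
            if j = b then Polynomial.C (f.coeff b) * Polynomial.X ^ b else 0 := fun b => by
          rw [mul_pow, ← map_pow, Polynomial.coeff_smul, Polynomial.coeff_C_mul_X_pow]
          split_ifs
          · rw [Polynomial.smul_eq_C_mul]
          · rw [smul_zero]
        rw [Polynomial.aeval_eq_sum_range, ← Polynomial.lcoeff_apply, map_sum]
        simp only [Polynomial.lcoeff_apply, hterm, Finset.sum_ite_eq, Finset.mem_range]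
        split_ifs with hj
        · rfl
        · rw [Polynomial.coeff_eq_zero_of_natDegree_lt (by omega : f.natDegree < j), map_zero, zero_mul]
      have h4 := congrArg (fun P : R => (P.coeff j).coeff i) h
      rw [h3, Polynomial.coeff_C_mul_X_pow, Polynomial.coeff_C_mul, Polynomial.coeff_map, Polynomial.coeff_mul_C] at h4
      rw [← h4]
      split_ifs with hij <;> simp [hij]
    have hsum : ∑ i ∈ Finset.range (f.natDegree + 1), f.coeff i = 1 := by
      conv_rhs => rw [← hone, Polynomial.eval_eq_sum_range]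
      simp
    obtain ⟨n, hn, hne⟩ : ∃ n ∈ Finset.range (f.natDegree + 1), f.coeff n ≠ 0 :=
      Finset.exists_ne_zero_of_sum_ne_zero (hsum.trans_ne one_ne_zero)
    have hn1 : f.coeff n = 1 := (hidem _ (by simpa using hfun n n)).resolve_left hne
    have hf : f = Polynomial.X ^ n := Polynomial.ext fun i => by
      rw [Polynomial.coeff_X_pow]
      split_ifs with hi
      · rw [hi, hn1]
      · have := hfun i n
        rwa [hn1, mul_one, if_neg hi] at this
    refine ⟨n, (by simpa [hf] using hdeg), fun S _ _ s => ?_⟩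
    rw [hev S s, hf, map_pow, Polynomial.aeval_X]
  obtain ⟨d₁, -, h1⟩ := hpow true
  obtain ⟨d₂, -, h2⟩ := hpow false
  simp only [if_true, Bool.false_eq_true, if_false] at h1 h2
  have hV : ∀ (S : Type u) [CommSemiring S] [Algebra A S] (s t : S), V S s t = s ^ d₁ * t ^ d₂ := fun S _ _ s t => by
    rw [← h1 S s, ← h2 S t]
    simp only [V, ← Groth.Agent.GammaLib.valF_mul, hEmul, mul_one, one_mul]
  have hd : d₁ + d₂ = d := by
    have h := hV (Polynomial A) Polynomial.X Polynomial.X
    have h' : V (Polynomial A) Polynomial.X Polynomial.X = (Polynomial.X : Polynomial A) ^ d := by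
      simp only [V]
      rw [show E (Polynomial A) Polynomial.X Polynomial.X = (Polynomial.X : Polynomial A) • E (Polynomial A) 1 1 by
        rw [hEsmul, mul_one], hEone, Groth.Agent.GammaLib.valF_smul, Groth.Agent.GammaLib.valF_one, mul_one]
    rw [h', ← pow_add] at h
    simpa using congrArg Polynomial.natDegree h.symm
  have hFE : ∀ (S : Type u) [CommSemiring S] [Algebra A S] (s t : S) (z : S ⊗[A] A),
      F.law.toFun' S (E S s t) * z = (s ^ d₁ * t ^ d₂) • z := fun S _ _ s t z => by
    have : F.law.toFun' S (E S s t) = (s ^ d₁ * t ^ d₂) ⊗ₜ[A] (1 : A) := by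
      apply (TensorProduct.rid A S).injective
      rw [TensorProduct.rid_tmul, one_smul, ← hV S s t]
      rfl
    rw [this]
    induction z using TensorProduct.induction_on with
    | zero => simp
    | tmul a b => simp [TensorProduct.smul_tmul']
    | add p r hp hr => rw [mul_add, hp, hr, smul_add]
  let i₁ : ∀ (S : Type u) [CommSemiring S] [Algebra A S], S ⊗[A] B₁ →ₗ[A] S ⊗[A] (B₁ × B₂) :=
    fun S _ _ => (LinearMap.inl A B₁ B₂).lTensor S
  let i₂ : ∀ (S : Type u) [CommSemiring S] [Algebra A S], S ⊗[A] B₂ →ₗ[A] S ⊗[A] (B₁ × B₂) :=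
    fun S _ _ => (LinearMap.inr A B₁ B₂).lTensor S
  have i₁mul : ∀ (S : Type u) [CommSemiring S] [Algebra A S] (p r : S ⊗[A] B₁), i₁ S (p * r) = i₁ S p * i₁ S r := by
    intro S _ _ p r
    induction p using TensorProduct.induction_on with
    | zero => simp
    | tmul a b =>
      induction r using TensorProduct.induction_on with
      | zero => simp
      | tmul a' b' => simp [i₁]
      | add r r' hr hr' => simp only [mul_add, map_add, hr, hr']
    | add p p' hp hp' => simp only [add_mul, map_add, hp, hp']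
  have i₂mul : ∀ (S : Type u) [CommSemiring S] [Algebra A S] (p r : S ⊗[A] B₂), i₂ S (p * r) = i₂ S p * i₂ S r := by
    intro S _ _ p r
    induction p using TensorProduct.induction_on with
    | zero => simp
    | tmul a b =>
      induction r using TensorProduct.induction_on with
      | zero => simp
      | tmul a' b' => simp [i₂]
      | add r r' hr hr' => simp only [mul_add, map_add, hr, hr']
    | add p p' hp hp' => simp only [add_mul, map_add, hp, hp']
  have i₁e₂ : ∀ (S : Type u) [CommSemiring S] [Algebra A S] (p : S ⊗[A] B₁) (t : S), i₁ S p * (t ⊗ₜ[A] e₂) = 0 := by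
    intro S _ _ p t
    induction p using TensorProduct.induction_on with
    | zero => simp
    | tmul a b => simp [i₁, e₂, Prod.mk_zero_zero]
    | add p p' hp hp' => simp only [add_mul, map_add, hp, hp', add_zero]
  have i₂e₁ : ∀ (S : Type u) [CommSemiring S] [Algebra A S] (p : S ⊗[A] B₂) (t : S), i₂ S p * (t ⊗ₜ[A] e₁) = 0 := by
    intro S _ _ p t
    induction p using TensorProduct.induction_on with
    | zero => simp
    | tmul a b => simp [i₂, e₁, Prod.mk_zero_zero]
    | add p p' hp hp' => simp only [add_mul, map_add, hp, hp', add_zero]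
  have i₁e₁ : ∀ (S : Type u) [CommSemiring S] [Algebra A S] (p : S ⊗[A] B₁) (t : S), i₁ S p * (t ⊗ₜ[A] e₁) = i₁ S (t • p) := by
    intro S _ _ p t
    induction p using TensorProduct.induction_on with
    | zero => simp
    | tmul a b => simp [i₁, e₁, TensorProduct.smul_tmul', mul_comm]
    | add p p' hp hp' => simp only [smul_add, add_mul, map_add, hp, hp']
  have i₂e₂ : ∀ (S : Type u) [CommSemiring S] [Algebra A S] (p : S ⊗[A] B₂) (t : S), i₂ S p * (t ⊗ₜ[A] e₂) = i₂ S (t • p) := by
    intro S _ _ p t
    induction p using TensorProduct.induction_on with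
    | zero => simp
    | tmul a b => simp [i₂, e₂, TensorProduct.smul_tmul', mul_comm]
    | add p p' hp hp' => simp only [smul_add, add_mul, map_add, hp, hp']
  have i12 : ∀ (S : Type u) [CommSemiring S] [Algebra A S] (p : S ⊗[A] B₁) (r : S ⊗[A] B₂), i₁ S p * i₂ S r = 0 := by
    intro S _ _ p r
    induction p using TensorProduct.induction_on with
    | zero => simp
    | tmul a b =>
      induction r using TensorProduct.induction_on with
      | zero => simp
      | tmul a' b' => simp [i₁, i₂, Prod.mk_zero_zero]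
      | add r r' hr hr' => simp only [mul_add, map_add, hr, hr', add_zero]
    | add p p' hp hp' => simp only [add_mul, map_add, hp, hp', add_zero]
  let F₁ : PolLaw.MulLaw A B₁ A d₁ :=
    { law :=
      { toFun' := fun S _ _ p => F.law.toFun' S (i₁ S p + (1 : S) ⊗ₜ[A] e₂)
        isCompat' := fun {S} _ _ {S'} _ _ φ => funext fun p => by
          show φ.toLinearMap.rTensor A (F.law.toFun' S _) = F.law.toFun' S' _
          rw [Groth.Agent.GammaLib.law_compat, map_add]
          congr 2
          · simp only [i₁]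
            rw [← LinearMap.comp_apply, LinearMap.rTensor_comp_lTensor, ← LinearMap.lTensor_comp_rTensor, LinearMap.comp_apply]
          · simp }
      homog := fun S _ _ s p => by
        show F.law.toFun' S (i₁ S (s • p) + (1 : S) ⊗ₜ[A] e₂) = s ^ d₁ • F.law.toFun' S (i₁ S p + (1 : S) ⊗ₜ[A] e₂)
        have e : i₁ S (s • p) + (1 : S) ⊗ₜ[A] e₂ = E S s 1 * (i₁ S p + (1 : S) ⊗ₜ[A] e₂) := by
          simp only [E, add_mul, mul_add, mul_comm (_ ⊗ₜ[A] e₁) (i₁ S p), mul_comm (_ ⊗ₜ[A] e₂) (i₁ S p), i₁e₁, i₁e₂]
          simp [e₁, e₂, Prod.mk_zero_zero]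
        rw [e, (F.mult S).2, hFE, one_pow, mul_one]
      mult := fun S _ _ => by
        refine ⟨?_, fun p r => ?_⟩
        · show F.law.toFun' S (i₁ S 1 + (1 : S) ⊗ₜ[A] e₂) = 1
          rw [← (F.mult S).1, ← hEone S]
          congr 2
        · show F.law.toFun' S (i₁ S (p * r) + (1 : S) ⊗ₜ[A] e₂) = _ * _
          rw [← (F.mult S).2]
          congr 1
          simp only [add_mul, mul_add, mul_comm ((1 : S) ⊗ₜ[A] e₂) (i₁ S r), i₁e₂, i₁mul]
          simp [e₂, Prod.mk_zero_zero] }
  let F₂ : PolLaw.MulLaw A B₂ A d₂ :=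
    { law :=
      { toFun' := fun S _ _ p => F.law.toFun' S (i₂ S p + (1 : S) ⊗ₜ[A] e₁)
        isCompat' := fun {S} _ _ {S'} _ _ φ => funext fun p => by
          show φ.toLinearMap.rTensor A (F.law.toFun' S _) = F.law.toFun' S' _
          rw [Groth.Agent.GammaLib.law_compat, map_add]
          congr 2
          · simp only [i₂]
            rw [← LinearMap.comp_apply, LinearMap.rTensor_comp_lTensor, ← LinearMap.lTensor_comp_rTensor, LinearMap.comp_apply]
          · simp }
      homog := fun S _ _ s p => by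
        show F.law.toFun' S (i₂ S (s • p) + (1 : S) ⊗ₜ[A] e₁) = s ^ d₂ • F.law.toFun' S (i₂ S p + (1 : S) ⊗ₜ[A] e₁)
        have e : i₂ S (s • p) + (1 : S) ⊗ₜ[A] e₁ = E S 1 s * (i₂ S p + (1 : S) ⊗ₜ[A] e₁) := by
          simp only [E, add_mul, mul_add, mul_comm (_ ⊗ₜ[A] e₁) (i₂ S p), mul_comm (_ ⊗ₜ[A] e₂) (i₂ S p), i₂e₁, i₂e₂]
          simp [e₁, e₂, Prod.mk_zero_zero, add_comm]
        rw [e, (F.mult S).2, hFE, one_pow, one_mul]
      mult := fun S _ _ => by
        refine ⟨?_, fun p r => ?_⟩
        · show F.law.toFun' S (i₂ S 1 + (1 : S) ⊗ₜ[A] e₁) = 1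
          rw [← (F.mult S).1, ← hEone S]
          simp only [E]
          rw [add_comm]
          rfl
        · show F.law.toFun' S (i₂ S (p * r) + (1 : S) ⊗ₜ[A] e₁) = _ * _
          rw [← (F.mult S).2]
          congr 1
          simp only [add_mul, mul_add, mul_comm ((1 : S) ⊗ₜ[A] e₁) (i₂ S r), i₂e₁, i₂mul]
          simp [e₁, Prod.mk_zero_zero] }
  refine ⟨d₁, d₂, hd, ⟨F₁, F₂, fun S _ _ p => ?_⟩, fun f₁ f₂ G₁ G₂ hG => ?_⟩
  · show _ = F.law.toFun' S _ * F.law.toFun' S _
    rw [← (F.mult S).2]
    congr 1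
    simp only [add_mul, mul_add, mul_comm ((1 : S) ⊗ₜ[A] e₂) (i₂ S _), i₁e₁, i₂e₂, i12, one_smul]
    simp only [e₁, e₂, Algebra.TensorProduct.tmul_mul_tmul, Prod.mk_mul_mk, mul_zero, zero_mul, Prod.mk_zero_zero,
      TensorProduct.tmul_zero, add_zero, zero_add]
    rw [← LinearMap.comp_apply, ← LinearMap.comp_apply, ← LinearMap.lTensor_comp, ← LinearMap.lTensor_comp,
      ← LinearMap.add_apply, ← LinearMap.lTensor_add, add_comm (LinearMap.inr A B₁ B₂ ∘ₗ _),
      show LinearMap.inl A B₁ B₂ ∘ₗ LinearMap.fst A B₁ B₂ + LinearMap.inr A B₁ B₂ ∘ₗ LinearMap.snd A B₁ B₂ =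
        LinearMap.id from by ext <;> simp, LinearMap.lTensor_id, LinearMap.id_apply]
  · have key : ∀ (S : Type u) [CommSemiring S] [Algebra A S] (s t : S), s ^ d₁ * t ^ d₂ = s ^ f₁ * t ^ f₂ := fun S _ _ s t => by
      have h := congrArg (TensorProduct.rid A S) (hG S (E S s t))
      have r1 : LinearMap.lTensor S (LinearMap.fst A B₁ B₂) (E S s t) = s • (1 : S ⊗[A] B₁) := by
        simp [E, e₁, e₂, Algebra.TensorProduct.one_def, TensorProduct.smul_tmul']
      have r2 : LinearMap.lTensor S (LinearMap.snd A B₁ B₂) (E S s t) = t • (1 : S ⊗[A] B₂) := by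
        simp [E, e₁, e₂, Algebra.TensorProduct.one_def, TensorProduct.smul_tmul']
      rw [r1, r2, G₁.homog S s 1, G₂.homog S t 1, (G₁.mult S).1, (G₂.mult S).1, smul_mul_smul_comm, one_mul,
        Algebra.TensorProduct.one_def, TensorProduct.smul_tmul', smul_eq_mul, mul_one, TensorProduct.rid_tmul, one_smul] at h
      exact (hV S s t).symm.trans h
    have a := congrArg Polynomial.natDegree (key (Polynomial A) Polynomial.X 1)
    have b := congrArg Polynomial.natDegree (key (Polynomial A) 1 Polynomial.X)
    simp only [one_pow, mul_one, one_mul, Polynomial.natDegree_X_pow] at a b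
    exact ⟨a.symm, b.symm⟩

end Groth.Agent.S13719
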