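import Groth.Statements.S13720
import Groth.Agent.GammaLib.KerBC

set_option autoImplicit false
universe u
open scoped TensorProduct
open ZeroCyc

namespace Groth.Agent.S13720

/-- Let B be the filtered direct limit of a directed system (B_i, t_ij : B_i → B_j) of commutative
algebras over the commutative ring A, with structure maps φ_i : B_i → B (jointly surjective, and an
element of B_i vanishing in B already vanishes in some B_j), and let F : B → C be a multiplicative
polynomial law homogeneous of degree d, with restrictions F_i = F ∘ φ_i. Then an element b of B lies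
in the kernel of F if and only if it is the image of some x ∈ B_i whose images in B_j lie in the
kernel of F_j for every j ≥ i; that is, the kernel of F is the direct limit of the kernels of the
F_i. -/
theorem result {A : Type u} [CommRing A] {B : Type u} [CommRing B] [Algebra A B]
    {C : Type u} [CommRing C] [Algebra A C] {ι : Type u} [Preorder ι] [IsDirected ι (fun i j => i ≤ j)] [Nonempty ι]
    (Bi : ι → Type u) [∀ i, CommRing (Bi i)] [∀ i, Algebra A (Bi i)]
    (t : ∀ i j : ι, i ≤ j → (Bi i →ₐ[A] Bi j)) (φ : ∀ i : ι, Bi i →ₐ[A] B)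
    (hcomp : ∀ (i j : ι) (h : i ≤ j), (φ j).comp (t i j h) = φ i)
    (hsurj : ∀ b : B, ∃ (i : ι) (x : Bi i), φ i x = b)
    (hzero : ∀ (i : ι) (x : Bi i), φ i x = 0 → ∃ (j : ι) (h : i ≤ j), t i j h x = 0)
    {d : ℕ} (F : PolLaw.MulLaw A B C d) (b : B) :
    b ∈ PolLaw.ker F.law ↔ ∃ (i : ι) (x : Bi i), φ i x = b ∧
      ∀ (j : ι) (h : i ≤ j), t i j h x ∈ PolLaw.ker (F.precomp (φ j)).law := by
  refine ⟨fun hb => ?_, ?_⟩
  · obtain ⟨i, x, rfl⟩ := hsurj b
    refine ⟨i, x, rfl, fun j h S _ _ y w => ?_⟩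
    have e : ∀ u, (F.precomp (φ j)).law.toFun' S u = F.law.toFun' S ((φ j).toLinearMap.lTensor S u) := fun _ => rfl
    rw [e, e, PolLaw.lTensor_algHom_apply, PolLaw.lTensor_algHom_apply, map_add, map_mul, Algebra.TensorProduct.map_tmul,
      map_one, show (φ j) (t i j h x) = φ i x from by rw [← hcomp i j h]; rfl]
    exact hb S _ _
  · rintro ⟨i, x, rfl, hx⟩ S _ _ y w
    classical
    have hlift : ∀ {n : ℕ} (f : Fin n → B), ∃ j, i ≤ j ∧ ∃ g : Fin n → Bi j, ∀ a, φ j (g a) = f a := fun {n} f => by
      choose k g hg using fun a => hsurj (f a)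
      obtain ⟨j, hj⟩ := Finite.exists_le (α := ι) (fun o : Option (Fin n) => o.elim i k)
      exact ⟨j, hj none, fun a => t _ j (hj (some a)) (g a), fun a => by
        rw [← AlgHom.comp_apply, hcomp]; exact hg a⟩
    obtain ⟨n, s, y', rfl⟩ := Groth.Agent.GammaLib.exists_sum_tmul y
    obtain ⟨m, r, w', rfl⟩ := Groth.Agent.GammaLib.exists_sum_tmul w
    obtain ⟨j, hij, g, hg⟩ := hlift (Fin.append y' w')
    have h := hx j hij S (∑ a, s a ⊗ₜ[A] g (Fin.castAdd m a)) (∑ a, r a ⊗ₜ[A] g (Fin.natAdd n a))
    have e : ∀ u, (F.precomp (φ j)).law.toFun' S u = F.law.toFun' S ((φ j).toLinearMap.lTensor S u) := fun _ => rfl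
    rw [e, e, PolLaw.lTensor_algHom_apply, PolLaw.lTensor_algHom_apply, map_add, map_mul, Algebra.TensorProduct.map_tmul,
      map_one, show (φ j) (t i j hij x) = φ i x from by rw [← hcomp i j hij]; rfl] at h
    simpa [map_sum, hg] using h

end Groth.Agent.S13720
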