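import Groth.Statements.S13721
import Groth.Agent.GammaLib.KerBC

set_option autoImplicit false
universe u
open scoped TensorProduct
open ZeroCyc

namespace Groth.Agent.S13721

/-- Let F : B → A be a multiplicative polynomial law homogeneous of degree d over the commutative ring
A, on a commutative A-algebra B which is finite as an A-module, and let A' be the filtered direct
limit of a directed system (A'_i, t_ij) of commutative A-algebras (t_ii the identity, t_jk ∘ t_ij =
t_ik) with structure maps φ_i : A'_i → A' (compatible with the t_ij, jointly surjective, and an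
element of A'_i vanishing in A' already vanishes in some A'_j). Then the kernel of the base change
of F to A', an ideal of A' ⊗_A B, is the supremum over i of the extensions along φ_i ⊗ B of the
kernels of the base changes of F to the A'_i: the kernel of the base-changed law is the direct limit
of the kernels. (The published statement has no finiteness hypothesis on B and is false without one:
for a suitable algebra B that is not finitely generated and a suitable directed system of quotients
of A, an element of A' ⊗_A B lies in the kernel over the limit although it comes from the kernel at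
no finite stage, because the conditions cutting out the kernel at an element are infinitely many and
die one at a time along the system; the published proof's reduction to finite B does not go through.
This row assumes B finite over A, the case that proof establishes.) -/
theorem result {A : Type u} [CommRing A] {B : Type u} [CommRing B] [Algebra A B]
    [Module.Finite A B] {A' : Type u} [CommRing A'] [Algebra A A'] {ι : Type u} [Preorder ι] [IsDirected ι (fun i j => i ≤ j)] [Nonempty ι]
    (Ai : ι → Type u) [∀ i, CommRing (Ai i)] [∀ i, Algebra A (Ai i)]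
    (t : ∀ i j : ι, i ≤ j → (Ai i →ₐ[A] Ai j)) (φ : ∀ i : ι, Ai i →ₐ[A] A')
    (hcomp : ∀ (i j : ι) (h : i ≤ j), (φ j).comp (t i j h) = φ i)
    (hsurj : ∀ a : A', ∃ (i : ι) (x : Ai i), φ i x = a)
    (hzero : ∀ (i : ι) (x : Ai i), φ i x = 0 → ∃ (j : ι) (h : i ≤ j), t i j h x = 0)
    (hid : ∀ (i : ι) (h : i ≤ i), t i i h = AlgHom.id A (Ai i))
    (htrans : ∀ (i j k : ι) (hij : i ≤ j) (hjk : j ≤ k), (t j k hjk).comp (t i j hij) = t i k (hij.trans hjk))
    {d : ℕ} (F : PolLaw.MulLaw A B A d) :
    PolLaw.kerBC F.law A' =
      ⨆ i : ι, (PolLaw.kerBC F.law (Ai i)).map (Algebra.TensorProduct.map (φ i) (AlgHom.id A B)) := by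
  classical
  refine le_antisymm (fun z hz => ?_) (iSup_le fun i => Groth.Agent.GammaLib.map_kerBC_le F (φ i))
  obtain ⟨r, g, hg⟩ := Module.Finite.exists_fin (R := A) (M := B)
  obtain ⟨n, s, x, rfl⟩ := Groth.Agent.GammaLib.exists_sum_tmul z
  choose k a ha using fun l => hsurj (s l)
  obtain ⟨i, hi⟩ := Finite.exists_le (α := ι) k
  let zi : Ai i ⊗[A] B := ∑ l, t (k l) i (hi l) (a l) ⊗ₜ[A] x l
  have hzi : Algebra.TensorProduct.map (φ i) (AlgHom.id A B) zi = ∑ l, s l ⊗ₜ[A] x l := by
    simp only [zi, map_sum, Algebra.TensorProduct.map_tmul, AlgHom.id_apply]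
    exact Finset.sum_congr rfl fun l _ => by rw [← AlgHom.comp_apply, hcomp, ha]
  have h0 := (Groth.Agent.GammaLib.mem_kerBC_iff F g hg _).1 hz
  rw [← hzi, ← Groth.Agent.GammaLib.map_Dpoly] at h0
  let D := Groth.Agent.GammaLib.Dpoly F g zi
  have hD : ∀ l ∈ D.support, ∃ (j : ι) (h : i ≤ j), t i j h (D.coeff l) = 0 := fun l _ => hzero i _ (by
    have := congrArg (MvPolynomial.coeff l) h0
    rwa [MvPolynomial.coeff_map, MvPolynomial.coeff_zero] at this)
  choose j hij hj using hD
  obtain ⟨J, hJ⟩ := Finite.exists_le (α := ι) (fun o : Option {l // l ∈ D.support} => o.elim i fun l => j l.1 l.2)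
  have hJ0 : Groth.Agent.GammaLib.Dpoly F g (Algebra.TensorProduct.map (t i J (hJ none)) (AlgHom.id A B) zi) = 0 := by
    rw [← Groth.Agent.GammaLib.map_Dpoly]
    refine MvPolynomial.ext _ _ fun l => ?_
    rw [MvPolynomial.coeff_map, MvPolynomial.coeff_zero]
    by_cases hl : l ∈ D.support
    · show t i J _ (D.coeff l) = 0
      rw [← htrans i (j l hl) J (hij l hl) (hJ (some ⟨l, hl⟩)), AlgHom.comp_apply, hj, map_zero]
    · show t i J _ (D.coeff l) = 0
      rw [MvPolynomial.notMem_support_iff.1 hl, map_zero]
  refine Submodule.mem_iSup_of_mem J ?_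
  have := Ideal.mem_map_of_mem (Algebra.TensorProduct.map (φ J) (AlgHom.id A B))
    ((Groth.Agent.GammaLib.mem_kerBC_iff F g hg _).2 hJ0)
  rwa [← AlgHom.comp_apply, ← Algebra.TensorProduct.map_comp, hcomp, AlgHom.id_comp, hzi] at this

end Groth.Agent.S13721
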