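import Groth.Statements.S13722
import Groth.Agent.GammaLib.CH
import Mathlib.FieldTheory.IsAlgClosed.AlgebraicClosure
import Mathlib.Algebra.MvPolynomial.Funext

set_option autoImplicit false
universe u
open scoped TensorProduct
open ZeroCyc

namespace Groth.Agent.S13722

/-- Let B and C be commutative algebras over the commutative ring A and F : B → C a multiplicative
polynomial law homogeneous of degree d. If C is reduced, then the quotient of B by the kernel of F
is reduced. In particular the image of a family of zero-cycles parametrised by a reduced base is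
reduced. -/
theorem result {A : Type u} [CommRing A] {B : Type u} [CommRing B] [Algebra A B]
    {C : Type u} [CommRing C] [Algebra A C] [IsReduced C] {d : ℕ} (F : PolLaw.MulLaw A B C d) :
    IsReduced (PolLaw.image F.law) := by
  refine (isReduced_iff_pow_one_lt 2 one_lt_two).2 fun q hq => ?_
  obtain ⟨b, rfl⟩ := Ideal.Quotient.mk_surjective q
  rw [← map_pow, Ideal.Quotient.eq_zero_iff_mem, pow_two] at hq
  refine Ideal.Quotient.eq_zero_iff_mem.2 fun S _ _ x w => ?_
  classical
  -- values in an infinite field
  have hfield : ∀ (k : Type u) [Field k] [Algebra A k] [Infinite k] (g : C →ₐ[A] k) (z v : k ⊗[A] B),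
      Algebra.TensorProduct.lift (AlgHom.id A k) g (fun _ _ => Commute.all _ _) (F.law.toFun' k (z + v * (1 ⊗ₜ[A] b))) =
      Algebra.TensorProduct.lift (AlgHom.id A k) g (fun _ _ => Commute.all _ _) (F.law.toFun' k z) := by
    intro k _ _ _ g z v
    let up : k →ₐ[A] Polynomial k := IsScalarTower.toAlgHom A k (Polynomial k)
    let G : k ⊗[A] B → k := fun z =>
      Algebra.TensorProduct.lift (AlgHom.id A k) g (fun _ _ => Commute.all _ _) (F.law.toFun' k z)
    let GP : Polynomial k ⊗[A] B → Polynomial k := fun z =>
      Algebra.TensorProduct.lift (AlgHom.id A (Polynomial k)) (up.comp g) (fun _ _ => Commute.all _ _) (F.law.toFun' _ z)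
    have hev : ∀ (φ : Polynomial k →ₐ[A] k), (∀ c, φ (up c) = c) → ∀ w : Polynomial k ⊗[A] B,
        φ (GP w) = G (φ.toLinearMap.rTensor B w) := fun φ hφ w => by
      simp only [G, ← Groth.Agent.GammaLib.law_compat]
      show φ (Algebra.TensorProduct.lift _ _ _ (F.law.toFun' _ w)) = _
      induction F.law.toFun' (Polynomial k) w using TensorProduct.induction_on with
      | zero => simp
      | tmul a c => simp [hφ]
      | add a a' ha ha' => simp only [map_add, ha, ha']
    let ev : k → (Polynomial k →ₐ[A] k) := fun a => (Polynomial.aeval a).restrictScalars A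
    have hev0 : ∀ a c, ev a (up c) = c := fun a c => by simp [ev, up]
    let U : k ⊗[A] B →ₐ[A] Polynomial k ⊗[A] B := Algebra.TensorProduct.map up (AlgHom.id A B)
    let T : Polynomial k ⊗[A] B := (Polynomial.X : Polynomial k) ⊗ₜ[A] (1 : B)
    let evB : k → (Polynomial k ⊗[A] B →ₐ[A] k ⊗[A] B) := fun a => Algebra.TensorProduct.map (ev a) (AlgHom.id A B)
    have hr : ∀ a w, (ev a).toLinearMap.rTensor B w = evB a w := fun a w => by
      induction w using TensorProduct.induction_on with
      | zero => simp
      | tmul c b => rfl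
      | add p q hp hq => simp only [map_add, hp, hq]
    have hU : ∀ a w, evB a (U w) = w := fun a w => by
      induction w using TensorProduct.induction_on with
      | zero => simp
      | tmul c b => simp [evB, U, hev0]
      | add p q hp hq => simp only [map_add, hp, hq]
    have hT : ∀ a, evB a T = a • (1 : k ⊗[A] B) := fun a => by
      simp [evB, T, ev, Algebra.TensorProduct.one_def, TensorProduct.smul_tmul']
    have hGmul : ∀ p q, G (p * q) = G p * G q := fun p q => by simp only [G, (F.mult k).2, map_mul]
    have hGPmul : ∀ p q, GP (p * q) = GP p * GP q := fun p q => by simp only [GP, (F.mult _).2, map_mul]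
    have hGone : G 1 = 1 := by simp only [G, (F.mult k).1, map_one]
    have hGsmul : ∀ (a : k) p, G (a • p) = a ^ d * G p := fun a p => by
      simp only [G, F.homog k a p]
      induction F.law.toFun' k p using TensorProduct.induction_on with
      | zero => simp
      | tmul c e => simp [TensorProduct.smul_tmul', mul_assoc]
      | add p q hp hq => rw [smul_add, map_add, map_add, hp, hq, mul_add]
    have hb2 : ∀ p q : Polynomial k ⊗[A] B, GP (p + q * (1 ⊗ₜ[A] (b * b))) = GP p := fun p q =>
      congrArg (Algebra.TensorProduct.lift (AlgHom.id A (Polynomial k)) (up.comp g) (fun _ _ => Commute.all _ _))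
        (hq (Polynomial k) p q)
    let y : k ⊗[A] B := v * (1 ⊗ₜ[A] b)
    have step : ∀ z, G z ≠ 0 → G (z + y) = G z := fun z hz => by
      let P := GP (U z + T * U y)
      let P' := GP (U z - T * U y)
      have hPP : P * P' = Polynomial.C (G (z * z)) := by
        have e1 : (U z + T * U y) * (U z - T * U y) = U (z * z) + (-(T * T * U (v * v))) * (1 ⊗ₜ[A] (b * b)) := by
          have : U y * U y = U (v * v) * (1 ⊗ₜ[A] (b * b)) := by
            rw [← map_mul, show y * y = (v * v) * (1 ⊗ₜ[A] (b * b)) by
              simp only [y]; rw [mul_mul_mul_comm, Algebra.TensorProduct.tmul_mul_tmul, one_mul], map_mul]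
            congr 1
          rw [map_mul U z z]
          linear_combination (-(T * T)) * this
        rw [← hGPmul, e1, hb2]
        show Algebra.TensorProduct.lift _ _ _ (F.law.toFun' _ (U (z * z))) = _
        have hU' : U (z * z) = up.toLinearMap.rTensor B (z * z) := by
          induction z * z using TensorProduct.induction_on with
          | zero => simp
          | tmul c b => rfl
          | add p q hp hq => simp only [map_add, hp, hq]
        rw [hU', ← Groth.Agent.GammaLib.law_compat]
        show _ = up (G (z * z))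
        simp only [G]
        induction F.law.toFun' k (z * z) using TensorProduct.induction_on with
        | zero => simp
        | tmul c e => simp
        | add p q hp hq => simp only [map_add, hp, hq]
      have hne : G (z * z) ≠ 0 := by rw [hGmul]; exact mul_ne_zero hz hz
      have hP0 : P.natDegree = 0 := by
        have h := congrArg Polynomial.natDegree hPP
        have hCne : Polynomial.C (G (z * z)) ≠ 0 := Polynomial.C_ne_zero.2 hne
        rw [← hPP] at hCne
        rw [Polynomial.natDegree_C, Polynomial.natDegree_mul (left_ne_zero_of_mul hCne) (right_ne_zero_of_mul hCne)] at h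
        omega
      have hval : ∀ a, ev a P = G (z + a • y) := fun a => by
        rw [hev _ (hev0 a), hr, map_add, map_mul, hU, hU, hT, smul_mul_assoc, one_mul]
      obtain ⟨c, hc⟩ : ∃ c, P = Polynomial.C c := ⟨_, Polynomial.eq_C_of_natDegree_eq_zero hP0⟩
      have h1 := hval 1
      have h0 := hval 0
      rw [one_smul] at h1
      rw [zero_smul, add_zero] at h0
      rw [← h1, ← h0, hc]
      simp [ev]
    let Q1 := GP (U z + T)
    let Q2 := GP (U z + U y + T)
    have hQ1 : ∀ a, ev a Q1 = G (z + a • (1 : k ⊗[A] B)) := fun a => by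
      rw [hev _ (hev0 a), hr, map_add, hU, hT]
    have hQ2 : ∀ a, ev a Q2 = G (z + y + a • (1 : k ⊗[A] B)) := fun a => by
      rw [hev _ (hev0 a), hr, map_add, map_add, hU, hU, hT]
    have hQ1ne : Q1 ≠ 0 := by
      let R := GP (1 + T * U z)
      have hR : ∀ a, ev a R = G (1 + a • z) := fun a => by
        rw [hev _ (hev0 a), hr, map_add, map_one, map_mul, hU, hT, smul_mul_assoc, one_mul]
      have hRne : R ≠ 0 := fun e => one_ne_zero (α := k) (by
        have := hR 0
        rwa [e, map_zero, zero_smul, add_zero, hGone, eq_comm] at this)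
      obtain ⟨a, ha0, ha⟩ : ∃ a, a ≠ 0 ∧ ev a R ≠ 0 := by
        by_contra h
        push Not at h
        have : Polynomial.X * R = 0 := Polynomial.funext fun a => by
          rcases eq_or_ne a 0 with rfl | ha
          · simp
          · rw [Polynomial.eval_mul, show R.eval a = 0 by simpa [ev, Polynomial.coe_aeval_eq_eval] using h a ha, mul_zero,
              Polynomial.eval_zero]
        exact hRne ((mul_eq_zero.1 this).resolve_left Polynomial.X_ne_zero)
      intro e
      have := hQ1 a⁻¹
      rw [e, map_zero] at this
      refine ha ((hR a).trans ?_)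
      rw [show 1 + a • z = a • (z + a⁻¹ • (1 : k ⊗[A] B)) by rw [smul_add, smul_smul, mul_inv_cancel₀ ha0, one_smul, add_comm],
        hGsmul, ← this, mul_zero]
    have hprod : (Q2 - Q1) * Q1 = 0 := Polynomial.funext fun a => by
      have e : ∀ p : Polynomial k, p.eval a = ev a p := fun p => by simp [ev, Polynomial.coe_aeval_eq_eval]
      rw [e, e, map_mul, map_sub, map_zero, hQ1, hQ2]
      rcases eq_or_ne (G (z + a • (1 : k ⊗[A] B))) 0 with h | h
      · rw [h, mul_zero]
      · rw [add_right_comm, step _ h, sub_self, zero_mul]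
    have h := hQ2 0
    rw [sub_eq_zero.1 ((mul_eq_zero.1 hprod).resolve_right hQ1ne), hQ1, zero_smul, add_zero, add_zero] at h
    exact h.symm
  obtain ⟨n, s, x', rfl⟩ := Groth.Agent.GammaLib.exists_sum_tmul x
  obtain ⟨m, t, w', rfl⟩ := Groth.Agent.GammaLib.exists_sum_tmul w
  let S₀ := MvPolynomial (Fin n ⊕ Fin m) A
  let x₀ : S₀ ⊗[A] B := ∑ i, (MvPolynomial.X (Sum.inl i) : S₀) ⊗ₜ[A] x' i
  let w₀ : S₀ ⊗[A] B := ∑ i, (MvPolynomial.X (Sum.inr i) : S₀) ⊗ₜ[A] w' i
  suffices h0 : F.law.toFun' S₀ (x₀ + w₀ * (1 ⊗ₜ[A] b)) = F.law.toFun' S₀ x₀ by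
    let φ : S₀ →ₐ[A] S := MvPolynomial.aeval (Sum.elim s t)
    have := congrArg (φ.toLinearMap.rTensor C) h0
    rw [Groth.Agent.GammaLib.law_compat, Groth.Agent.GammaLib.law_compat] at this
    have hm : ∀ u : S₀ ⊗[A] B, φ.toLinearMap.rTensor B u = Algebra.TensorProduct.map φ (AlgHom.id A B) u := fun u => by
      induction u using TensorProduct.induction_on with
      | zero => simp
      | tmul c b => rfl
      | add p q hp hq => simp only [map_add, hp, hq]
    have e : ∀ i, φ (MvPolynomial.X i) = Sum.elim s t i := fun i => MvPolynomial.aeval_X _ i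
    simpa [hm, x₀, w₀, map_sum, map_add, map_mul, e] using this
  refine Groth.Agent.GammaLib.coords_injective (Finsupp.ext fun l => ?_)
  refine sub_eq_zero.1 ((IsNilpotent.eq_zero ?_))
  rw [← mem_nilradical, nilradical_eq_sInf, Submodule.mem_sInf]
  intro p hp
  haveI : Ideal.IsPrime p := hp
  let k := AlgebraicClosure (FractionRing (C ⧸ p))
  let g : C →ₐ[A] k := IsScalarTower.toAlgHom A C k
  have hker : ∀ c, g c = 0 → c ∈ p := fun c hc => by
    have h : algebraMap (FractionRing (C ⧸ p)) k (algebraMap (C ⧸ p) (FractionRing (C ⧸ p)) (Ideal.Quotient.mk p c)) = 0 := hc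
    rw [map_eq_zero_iff _ (algebraMap (FractionRing (C ⧸ p)) k).injective,
      map_eq_zero_iff _ (IsFractionRing.injective (C ⧸ p) (FractionRing (C ⧸ p)))] at h
    exact Ideal.Quotient.eq_zero_iff_mem.1 h
  refine hker _ ?_
  let poly : S₀ ⊗[A] C → MvPolynomial (Fin n ⊕ Fin m) k := fun z =>
    ∑ l ∈ (Groth.Agent.GammaLib.coords z).support, MvPolynomial.monomial l (g (Groth.Agent.GammaLib.coords z l))
  have hpoly : ∀ z l, (poly z).coeff l = g (Groth.Agent.GammaLib.coords z l) := fun z l => by
    simp only [poly, MvPolynomial.coeff_sum, MvPolynomial.coeff_monomial, Finset.sum_ite_eq']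
    split_ifs with h
    · rfl
    · rw [Finsupp.notMem_support_iff.1 h, map_zero]
  have hevp : ∀ z a, MvPolynomial.eval a (poly z) = Algebra.TensorProduct.lift (AlgHom.id A k) g (fun _ _ => Commute.all _ _)
      ((MvPolynomial.aeval a : S₀ →ₐ[A] k).toLinearMap.rTensor C z) := fun z a => by
    conv_rhs => rw [← Groth.Agent.GammaLib.coords_sum z]
    simp only [poly, map_sum]
    refine Finset.sum_congr rfl fun l _ => ?_
    rw [MvPolynomial.eval_monomial, LinearMap.rTensor_tmul, Algebra.TensorProduct.lift_tmul, AlgHom.toLinearMap_apply,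
      MvPolynomial.aeval_monomial, map_one, one_mul, AlgHom.id_apply, mul_comm]
  rw [map_sub, ← hpoly, ← hpoly, sub_eq_zero]
  congr 1
  refine MvPolynomial.funext fun a => ?_
  rw [hevp, hevp, Groth.Agent.GammaLib.law_compat, Groth.Agent.GammaLib.law_compat]
  let φ : S₀ →ₐ[A] k := MvPolynomial.aeval a
  have hm : ∀ u : S₀ ⊗[A] B, φ.toLinearMap.rTensor B u = Algebra.TensorProduct.map φ (AlgHom.id A B) u := fun u => by
    induction u using TensorProduct.induction_on with
    | zero => simp
    | tmul c b => rfl
    | add p q hp hq => simp only [map_add, hp, hq]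
  rw [hm, hm, map_add, map_mul, Algebra.TensorProduct.map_tmul, map_one, AlgHom.id_apply]
  exact hfield k g _ _

end Groth.Agent.S13722
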