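import Groth.Statements.S13724
import Groth.Agent.GammaLib.CH4

set_option autoImplicit false
universe u
open scoped TensorProduct
open ZeroCyc

namespace Groth.Agent.S13724

/-- Let A be a commutative ring with finitely many maximal ideals, B a commutative A-algebra and F : B →
A a multiplicative polynomial law homogeneous of degree d. Then B/ker F, the coordinate ring of the
image of the family of zero-cycles defined by F, has finitely many maximal ideals. -/
theorem result {A : Type u} [CommRing A] [Finite (MaximalSpectrum A)] {B : Type u} [CommRing B] [Algebra A B]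
    {d : ℕ} (F : PolLaw.MulLaw A B A d) :
    Finite (MaximalSpectrum (PolLaw.image F.law)) := by
  have := Groth.Agent.GammaLib.isIntegral_image F
  let f : MaximalSpectrum (PolLaw.image F.law) → MaximalSpectrum A := fun Q =>
    ⟨Q.asIdeal.comap (algebraMap A _), Ideal.isMaximal_comap_of_isIntegral_of_isMaximal Q.asIdeal⟩
  refine Finite.of_finite_univ ((Set.finite_iUnion fun m : MaximalSpectrum A => (?_ : (f ⁻¹' {m}).Finite)).subset
    fun Q _ => Set.mem_iUnion.2 ⟨f Q, rfl⟩)
  haveI : m.asIdeal.IsMaximal := m.isMaximal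
  letI : Field (A ⧸ m.asIdeal) := Ideal.Quotient.field _
  obtain ⟨hfin, -⟩ := Groth.Agent.GammaLib.finite_primes F (A ⧸ m.asIdeal)
  let g : PolLaw.image F.law →ₐ[A] (A ⧸ m.asIdeal) ⊗[A] PolLaw.image F.law := Algebra.TensorProduct.includeRight
  refine (Set.finite_range fun p : PrimeSpectrum ((A ⧸ m.asIdeal) ⊗[A] PolLaw.image F.law) =>
    p.asIdeal.comap g).preimage (f := MaximalSpectrum.asIdeal) (fun a _ b _ h => MaximalSpectrum.ext h) |>.subset ?_
  intro Q hQ
  have hQm : Q.asIdeal.comap (algebraMap A _) = m.asIdeal := congrArg MaximalSpectrum.asIdeal hQ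
  let k : (A ⧸ m.asIdeal) ⊗[A] PolLaw.image F.law →ₐ[A] PolLaw.image F.law ⧸ Q.asIdeal :=
    Algebra.TensorProduct.lift (Ideal.Quotient.liftₐ m.asIdeal (Algebra.ofId A _) fun a ha => by
      rw [← hQm] at ha
      exact Ideal.Quotient.eq_zero_iff_mem.2 ha) (Ideal.Quotient.mkₐ A Q.asIdeal) (fun _ _ => Commute.all _ _)
  haveI := Q.isMaximal
  refine ⟨⟨RingHom.ker k, RingHom.ker_isPrime k⟩, ?_⟩
  ext b
  simp [k, g, Ideal.Quotient.eq_zero_iff_mem]

end Groth.Agent.S13724
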