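import Groth.Statements.S13725
import Groth.Agent.GammaLib.KerBC
import Mathlib.RingTheory.AdjoinRoot
import Mathlib.Algebra.CharP.Lemmas

set_option autoImplicit false
universe u
open scoped TensorProduct
open ZeroCyc

namespace Groth.Agent.S13725

/-- Let k be a field of characteristic p > 0 and let F : k → k be the law x ↦ x^p, multiplicative and
homogeneous of degree p over k. The kernel of F is the zero ideal, but after the flat base change k
→ A' = k[X]/(X^p) the kernel of the base-changed law on A' ⊗_k k is not zero (the class of X lies in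
it). So in characteristic p, forming the kernel of a multiplicative law is not compatible with flat
base change. -/
theorem result {k : Type u} [Field k] (p : ℕ) [Fact p.Prime] [CharP k p] :
    PolLaw.ker (PolLaw.MulLaw.pow k k p).law = ⊥ ∧
      PolLaw.kerBC (PolLaw.MulLaw.pow k k p).law (AdjoinRoot ((Polynomial.X : Polynomial k) ^ p)) ≠ ⊥ := by
  classical
  have hp : p.Prime := Fact.out
  refine ⟨(Submodule.eq_bot_iff _).2 fun b hb => ?_, fun h => ?_⟩
  · have h := hb k 0 1
    simp only [zero_add, one_mul] at h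
    change ((1 : k) ⊗ₜ[k] b) ^ p = (0 : k ⊗[k] k) ^ p at h
    rw [zero_pow hp.ne_zero, Algebra.TensorProduct.tmul_pow, one_pow] at h
    have := congrArg (TensorProduct.lid k k) h
    rw [TensorProduct.lid_tmul, one_smul, map_zero] at this
    exact pow_eq_zero_iff hp.ne_zero |>.1 this
  · let A' := AdjoinRoot ((Polynomial.X : Polynomial k) ^ p)
    let ρ : A' := AdjoinRoot.root _
    have hρ : ρ ^ p = 0 := by
      show AdjoinRoot.root _ ^ p = 0
      rw [← AdjoinRoot.mk_X, ← map_pow, AdjoinRoot.mk_self]
    have hz : ρ ⊗ₜ[k] (1 : k) ∈ PolLaw.kerBC (PolLaw.MulLaw.pow k k p).law A' := by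
      intro R _ _ _ _ x w
      show (x + w * Algebra.TensorProduct.map (IsScalarTower.toAlgHom k A' R) (AlgHom.id k k) (ρ ⊗ₜ[k] (1 : k))) ^ p = x ^ p
      obtain ⟨r, hr⟩ := (Commute.all x (w * Algebra.TensorProduct.map (IsScalarTower.toAlgHom k A' R) (AlgHom.id k k)
        (ρ ⊗ₜ[k] (1 : k)))).exists_add_pow_prime_eq hp
      have hp0 : (p : R ⊗[k] k) = 0 := by
        rw [← map_natCast (algebraMap k (R ⊗[k] k)), CharP.cast_eq_zero, map_zero]
      rw [hr, hp0, zero_mul, zero_mul, zero_mul, add_zero, mul_pow, Algebra.TensorProduct.map_tmul,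
        Algebra.TensorProduct.tmul_pow, ← map_pow, hρ, map_zero, TensorProduct.zero_tmul, mul_zero, add_zero]
    rw [h, Submodule.mem_bot] at hz
    have hρ0 : ρ = 0 := by simpa using congrArg (TensorProduct.rid k A') hz
    have hρ1 : AdjoinRoot.mk ((Polynomial.X : Polynomial k) ^ p) Polynomial.X = 0 := by
      rw [AdjoinRoot.mk_X]
      exact hρ0
    rw [AdjoinRoot.mk_eq_zero] at hρ1
    have := Polynomial.natDegree_le_of_dvd hρ1 Polynomial.X_ne_zero
    rw [Polynomial.natDegree_X_pow, Polynomial.natDegree_X] at this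
    exact absurd this (not_le.2 hp.one_lt)

end Groth.Agent.S13725
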