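import Groth.Statements.S13726
import Mathlib

set_option autoImplicit false
universe u
open scoped TensorProduct
open ZeroCyc

namespace Groth.Agent.S13726

/-- Let k be a field of characteristic p > 0 and A = k[t_i : i ∈ ℕ]/(t_i^p : i ∈ ℕ). The law x ↦ x^p
from A to A is multiplicative and homogeneous of degree p over A; its kernel is the ideal generated
by the classes of the variables t_i, and this ideal is not finitely generated. Hence the image of a
family of zero-cycles need not be of finite presentation over the base even when X → S is. -/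
theorem result {k : Type u} [Field k] (p : ℕ) [Fact p.Prime] [CharP k p] :
    PolLaw.ker (PolLaw.MulLaw.pow
        (MvPolynomial ℕ k ⧸ Ideal.span (Set.range fun i : ℕ => (MvPolynomial.X i : MvPolynomial ℕ k) ^ p))
        (MvPolynomial ℕ k ⧸ Ideal.span (Set.range fun i : ℕ => (MvPolynomial.X i : MvPolynomial ℕ k) ^ p)) p).law =
      (Ideal.span (Set.range fun i : ℕ => (MvPolynomial.X i : MvPolynomial ℕ k))).map
        (Ideal.Quotient.mk (Ideal.span (Set.range fun i : ℕ => (MvPolynomial.X i : MvPolynomial ℕ k) ^ p))) ∧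
    ¬ (PolLaw.ker (PolLaw.MulLaw.pow
        (MvPolynomial ℕ k ⧸ Ideal.span (Set.range fun i : ℕ => (MvPolynomial.X i : MvPolynomial ℕ k) ^ p))
        (MvPolynomial ℕ k ⧸ Ideal.span (Set.range fun i : ℕ => (MvPolynomial.X i : MvPolynomial ℕ k) ^ p)) p).law).FG := by
  classical
  set I : Ideal (MvPolynomial ℕ k) := Ideal.span (Set.range fun i : ℕ => (MvPolynomial.X i : MvPolynomial ℕ k) ^ p) with hI
  set m : Ideal (MvPolynomial ℕ k) := Ideal.span (Set.range fun i : ℕ => (MvPolynomial.X i : MvPolynomial ℕ k)) with hm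
  have hp : p.Prime := Fact.out
  have hpQ : (p : MvPolynomial ℕ k ⧸ I) = 0 := by
    rw [← map_natCast (algebraMap k (MvPolynomial ℕ k ⧸ I)), CharP.cast_eq_zero, map_zero]
  haveI : Nontrivial (MvPolynomial ℕ k ⧸ I) := by
    refine Ideal.Quotient.nontrivial_iff.2 fun h => ?_
    have h1 : I ≤ RingHom.ker (MvPolynomial.constantCoeff (σ := ℕ) (R := k)) := by
      rw [hI, Ideal.span_le]
      rintro _ ⟨i, rfl⟩
      simp [hp.ne_zero]
    have := h1 (h ▸ Submodule.mem_top (x := (1 : MvPolynomial ℕ k)))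
    simp at this
  have hker : ∀ b : MvPolynomial ℕ k ⧸ I,
      b ∈ PolLaw.ker (PolLaw.MulLaw.pow (MvPolynomial ℕ k ⧸ I) (MvPolynomial ℕ k ⧸ I) p).law ↔ b ^ p = 0 := by
    intro b
    constructor
    · intro hb
      have h := hb (MvPolynomial ℕ k ⧸ I) 0 1
      change ((0 : (MvPolynomial ℕ k ⧸ I) ⊗[MvPolynomial ℕ k ⧸ I] (MvPolynomial ℕ k ⧸ I)) + 1 * (1 ⊗ₜ b)) ^ p = 0 ^ p at h
      rw [zero_add, one_mul, Algebra.TensorProduct.tmul_pow, one_pow, zero_pow hp.ne_zero] at h
      have := congrArg (Algebra.TensorProduct.lid (MvPolynomial ℕ k ⧸ I) (MvPolynomial ℕ k ⧸ I)) h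
      simpa using this
    · intro hb S _ _ x w
      show (x + w * (1 ⊗ₜ b)) ^ p = x ^ p
      obtain ⟨r, hr⟩ := exists_add_pow_prime_eq hp x (w * (1 ⊗ₜ b))
      have hp0 : (p : S ⊗[MvPolynomial ℕ k ⧸ I] (MvPolynomial ℕ k ⧸ I)) = 0 := by
        have h7 := map_natCast ((Algebra.TensorProduct.includeRight : (MvPolynomial ℕ k ⧸ I) →ₐ[MvPolynomial ℕ k ⧸ I] S ⊗[MvPolynomial ℕ k ⧸ I] (MvPolynomial ℕ k ⧸ I)).toRingHom) p
        refine h7.symm.trans ?_
        rw [hpQ]
        exact TensorProduct.tmul_zero _ _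
      rw [hr, hp0, mul_pow, Algebra.TensorProduct.tmul_pow, hb, TensorProduct.tmul_zero]
      simp
  have heq : PolLaw.ker (PolLaw.MulLaw.pow (MvPolynomial ℕ k ⧸ I) (MvPolynomial ℕ k ⧸ I) p).law =
      m.map (Ideal.Quotient.mk I) := by
    apply le_antisymm
    · intro b hb
      obtain ⟨f, rfl⟩ := Ideal.Quotient.mk_surjective b
      have h := (hker _).1 hb
      rw [← map_pow, Ideal.Quotient.eq_zero_iff_mem] at h
      have h1 : I ≤ RingHom.ker (MvPolynomial.constantCoeff (σ := ℕ) (R := k)) := by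
        rw [hI, Ideal.span_le]
        rintro _ ⟨i, rfl⟩
        simp [hp.ne_zero]
      have h2 := h1 h
      rw [RingHom.mem_ker, map_pow] at h2
      refine Ideal.mem_map_of_mem _ ?_
      have h3 : MvPolynomial.constantCoeff f = 0 := eq_zero_of_pow_eq_zero h2
      rw [hm, ← Set.image_univ, MvPolynomial.mem_ideal_span_X_image]
      intro d hd
      by_contra hcon
      push Not at hcon
      have hd0 : d = 0 := Finsupp.ext fun i => hcon i trivial
      subst hd0
      exact MvPolynomial.mem_support_iff.1 hd h3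
    · rw [hm, Ideal.map_span, Ideal.span_le]
      rintro _ ⟨_, ⟨i, rfl⟩, rfl⟩
      refine (hker _).2 ?_
      rw [← map_pow, Ideal.Quotient.eq_zero_iff_mem, hI]
      exact Ideal.subset_span ⟨i, rfl⟩
  refine ⟨heq, ?_⟩
  rw [heq]
  rintro ⟨s, hs⟩
  have hfin : ∀ b : MvPolynomial ℕ k ⧸ I, ∃ N : ℕ, b ∈ m.map (Ideal.Quotient.mk I) →
      b ∈ (Ideal.span ((fun i : ℕ => (MvPolynomial.X i : MvPolynomial ℕ k)) '' {i | i < N})).map (Ideal.Quotient.mk I) := by
    intro b
    by_cases hb : b ∈ m.map (Ideal.Quotient.mk I)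
    · obtain ⟨f, hf, rfl⟩ := (Ideal.mem_map_iff_of_surjective _ Ideal.Quotient.mk_surjective).1 hb
      refine ⟨(f.vars.sup id) + 1, fun _ => Ideal.mem_map_of_mem _ ?_⟩
      rw [hm, ← Set.image_univ, MvPolynomial.mem_ideal_span_X_image] at hf
      rw [MvPolynomial.mem_ideal_span_X_image]
      intro d hd
      obtain ⟨i, -, hi⟩ := hf d hd
      refine ⟨i, ?_, hi⟩
      have : i ∈ f.vars := (MvPolynomial.mem_vars i).2 ⟨d, hd, Finsupp.mem_support_iff.2 hi⟩
      exact Nat.lt_succ_of_le (Finset.le_sup (f := id) this)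
    · exact ⟨0, fun h => absurd h hb⟩
  choose N hN using hfin
  let M := s.sup N
  have hle : m.map (Ideal.Quotient.mk I) ≤ (Ideal.span ((fun i : ℕ => (MvPolynomial.X i : MvPolynomial ℕ k)) '' {i | i < M})).map (Ideal.Quotient.mk I) := by
    conv_lhs => rw [← hs]
    refine Ideal.span_le.2 fun b hb => ?_
    refine Ideal.map_mono (Ideal.span_mono (Set.image_mono fun i (hi : i < N b) => lt_of_lt_of_le hi (Finset.le_sup hb))) (hN b ?_)
    rw [← hs]
    exact Ideal.subset_span hb
  let φ : MvPolynomial ℕ k →+* DualNumber k := (MvPolynomial.aeval fun i : ℕ => if i = M then DualNumber.eps else 0).toRingHom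
  have hφI : I ≤ RingHom.ker φ := by
    rw [hI, Ideal.span_le]
    rintro _ ⟨i, rfl⟩
    show φ (MvPolynomial.X i ^ p) = 0
    simp only [φ, AlgHom.toRingHom_eq_coe, RingHom.coe_coe, map_pow, MvPolynomial.aeval_X]
    obtain ⟨j, rfl⟩ : ∃ j, p = j + 2 := ⟨p - 2, by have := hp.two_le; omega⟩
    split_ifs <;> simp [pow_add, pow_two, DualNumber.eps_mul_eps]
  have hX : Ideal.Quotient.mk I (MvPolynomial.X M) ∈ m.map (Ideal.Quotient.mk I) :=
    Ideal.mem_map_of_mem _ (Ideal.subset_span ⟨M, rfl⟩)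
  obtain ⟨g, hg, hgX⟩ := (Ideal.mem_map_iff_of_surjective _ Ideal.Quotient.mk_surjective).1 (hle hX)
  have h0 : φ (g - MvPolynomial.X M) = 0 := hφI (Ideal.Quotient.eq.1 hgX)
  have hg0 : φ g = 0 := by
    refine (Ideal.span_le (I := RingHom.ker φ)).2 ?_ hg
    rintro _ ⟨i, hi, rfl⟩
    show φ (MvPolynomial.X i) = 0
    simp only [φ, AlgHom.toRingHom_eq_coe, RingHom.coe_coe, MvPolynomial.aeval_X]
    exact if_neg (Nat.ne_of_lt hi)
  rw [map_sub, hg0, zero_sub, neg_eq_zero] at h0
  simp only [φ, AlgHom.toRingHom_eq_coe, RingHom.coe_coe, MvPolynomial.aeval_X, if_pos] at h0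
  exact one_ne_zero (α := k) (by simpa using congrArg TrivSqZeroExt.snd h0)

end Groth.Agent.S13726
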