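import Groth.Statements.S13727
import Groth.Agent.GammaLib.CH4
import Mathlib.RingTheory.LocalRing.ResidueField.Fiber
import Mathlib.RingTheory.Spectrum.Prime.Topology

set_option autoImplicit false
universe u
open scoped TensorProduct
open ZeroCyc

namespace Groth.Agent.S13727

/-- Let A be a commutative ring whose prime spectrum is connected, B a commutative A-algebra and F : B →
A a multiplicative polynomial law homogeneous of degree d. Then Spec(B/ker F), the support of the
family of zero-cycles of degree d defined by F, has at most d connected components (in particular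
finitely many). -/
theorem result {A : Type u} [CommRing A] [ConnectedSpace (PrimeSpectrum A)]
    {B : Type u} [CommRing B] [Algebra A B] {d : ℕ} (F : PolLaw.MulLaw A B A d) :
    Finite (ConnectedComponents (PrimeSpectrum (PolLaw.image F.law))) ∧
      Nat.card (ConnectedComponents (PrimeSpectrum (PolLaw.image F.law))) ≤ d := by
  classical
  have hintg := Groth.Agent.GammaLib.isIntegral_image F
  let R := PolLaw.image F.law
  let π : PrimeSpectrum R → PrimeSpectrum A := PrimeSpectrum.comap (algebraMap A R)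
  obtain ⟨q⟩ := (inferInstance : Nonempty (PrimeSpectrum A))
  obtain ⟨hfin, hcard⟩ := Groth.Agent.GammaLib.finite_primes F q.asIdeal.ResidueField
  let ef : π ⁻¹' {q} ≃ _ := PrimeSpectrum.preimageEquivFiber A R q
  haveI : Finite (π ⁻¹' {q}) := Finite.of_equiv _ ef.symm
  have hopen : IsOpenMap π := by
    let l : A ⊗[A] R ≃ₐ[A] R := Algebra.TensorProduct.lid A R
    let el := PrimeSpectrum.homeomorphOfRingEquiv l.toRingEquiv
    have h1 : π = PrimeSpectrum.comap (algebraMap A (A ⊗[A] R)) ∘ el.symm := by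
      funext P
      refine PrimeSpectrum.ext (Ideal.ext fun a => ?_)
      show algebraMap A R a ∈ P.asIdeal ↔ l (algebraMap A (A ⊗[A] R) a) ∈ P.asIdeal
      rw [l.commutes]
    rw [h1]
    exact (Groth.Agent.GammaLib.isOpenMap_baseChange F A).comp el.symm.isOpenMap
  have hclosed : IsClosedMap π := PrimeSpectrum.isClosedMap_comap_of_isIntegral _ (algebraMap_isIntegral_iff.2 hintg)
  have hmeet : ∀ U : Set (PrimeSpectrum R), IsClopen U → U.Nonempty → ∃ P : π ⁻¹' {q}, P.1 ∈ U := fun U hU hne => by
    have h := (isClopen_iff.1 ⟨hclosed _ hU.1, hopen _ hU.2⟩).resolve_left (hne.image π).ne_empty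
    obtain ⟨P, hP, hPq⟩ := h.ge (Set.mem_univ q)
    exact ⟨⟨P, hPq⟩, hP⟩
  have hclo : {U : Set (PrimeSpectrum R) | IsClopen U}.Finite := by
    refine Set.Finite.of_finite_image (f := fun U => {P : π ⁻¹' {q} | P.1 ∈ U}) (Set.toFinite _) ?_
    intro U hU V hV hUV
    refine Set.Subset.antisymm ?_ ?_ <;>
    · rw [← Set.diff_eq_empty]
      by_contra hne
      obtain ⟨P, hP1, hP2⟩ := hmeet _ (IsClopen.diff ‹_› ‹_›) (Set.nonempty_iff_ne_empty.2 hne)
      have := Set.ext_iff.1 hUV P
      simp only [Set.mem_setOf_eq] at this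
      first
        | exact hP2 (this.1 hP1)
        | exact hP2 (this.2 hP1)
  let c : π ⁻¹' {q} → ConnectedComponents (PrimeSpectrum R) := fun P => ConnectedComponents.mk P.1
  have hsurj : Function.Surjective c := fun C => by
    obtain ⟨x, rfl⟩ := ConnectedComponents.surjective_coe C
    let W : Set (PrimeSpectrum R) := ⋂₀ {U | IsClopen U ∧ x ∈ U}
    have hW : IsClopen W := by
      rw [show W = ⋂ U ∈ {U | IsClopen U ∧ x ∈ U}, U from Set.sInter_eq_biInter]
      exact (hclo.subset fun U hU => hU.1).isClopen_biInter fun U hU => hU.1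
    have hxW : x ∈ W := fun U hU => hU.2
    have hWc : IsPreconnected W := by
      intro u v hu hv hWuv hWu hWv
      by_contra hne
      have h1 : IsClopen (W ∩ u) := by
        refine ⟨?_, hW.2.inter hu⟩
        have : W ∩ u = W \ v := by
          refine Set.Subset.antisymm (fun y hy => ⟨hy.1, fun h => hne ⟨y, hy.1, hy.2, h⟩⟩) fun y hy => ⟨hy.1, ?_⟩
          exact (hWuv hy.1).resolve_right hy.2
        rw [this]
        exact hW.1.sdiff hv
      by_cases hxu : x ∈ u
      · obtain ⟨y, hy, hyv⟩ := hWv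
        exact hne ⟨y, hy, (Set.sInter_subset_of_mem (⟨h1, hxW, hxu⟩ : _ ∧ x ∈ W ∩ u) hy).2, hyv⟩
      · obtain ⟨y, hy, hyu⟩ := hWu
        exact (Set.sInter_subset_of_mem (⟨hW.diff h1, hxW, fun h => hxu h.2⟩ : _ ∧ x ∈ W \ (W ∩ u)) hy).2 ⟨hy, hyu⟩
    obtain ⟨P, hP⟩ := hmeet W hW ⟨x, hxW⟩
    exact ⟨P, (ConnectedComponents.coe_eq_coe'.2 (hWc.subset_connectedComponent hxW hP))⟩
  exact ⟨Finite.of_surjective c hsurj,
    ((Nat.card_le_card_of_surjective c hsurj).trans (Nat.card_congr ef).le).trans hcard⟩

end Groth.Agent.S13727
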