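import Groth.Statements.S13731
import Groth.Agent.DVRDom.Scheme
import Groth.Agent.LimSch.ClosureRange

set_option autoImplicit false
universe u
open HTop

namespace Groth.Agent.S13731

open CategoryTheory CategoryTheory.Limits AlgebraicGeometry in
/-- Let X be a separated Noetherian scheme and {p_i : U_i → X} a finite family of separated morphisms of
finite type whose induced morphism from the disjoint union of the U_i to X is universally submersive
(an h-covering). Then every point x of X is p_i(u) for some i and some point u of U_i admitting a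
generization ξ in U_i whose image p_i(ξ) is a generic point of an irreducible component of X.
Equivalently, the irreducible components of the U_i dominating an irreducible component of X jointly
cover X. -/
theorem result {X : Scheme.{u}} [IsNoetherian X] [X.IsSeparated] (E : PreZeroHypercover.{u} X) [Finite E.I₀] [∀ i, LocallyOfFiniteType (E.f i)] [∀ i, QuasiCompact (E.f i)] [∀ i, IsSeparated (E.f i)] (hE : SGA1.UnivSubmersive (Sigma.desc E.f)) (x : X) : ∃ (i : E.I₀) (ξ u : E.X i), ξ ⤳ u ∧ E.f i u = x ∧ closure {E.f i ξ} ∈ irreducibleComponents ↥X := by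
  let p : (∐ E.X) ⟶ X := Sigma.desc E.f
  haveI : LocallyOfFiniteType p := IsZariskiLocalAtSource.sigmaDesc fun i => inferInstanceAs (LocallyOfFiniteType (E.f i))
  suffices h : ∃ ξ u : ↥(∐ E.X), ξ ⤳ u ∧ p u = x ∧ closure {p ξ} ∈ irreducibleComponents ↥X by
    obtain ⟨ξ, u, hs, hu, hc⟩ := h
    obtain ⟨⟨i, u₀⟩, rfl⟩ := (sigmaMk E.X).surjective u
    rw [sigmaMk_mk] at hs hu
    obtain ⟨ξ₀, rfl⟩ := hs.mem_open (Sigma.ι E.X i).isOpenEmbedding.isOpen_range ⟨u₀, rfl⟩
    have hp : ∀ z : E.X i, p (Sigma.ι E.X i z) = E.f i z := fun z => by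
      rw [← Scheme.Hom.comp_apply, Sigma.ι_desc]
    rw [hp] at hu hc
    exact ⟨i, ξ₀, u₀, (Sigma.ι E.X i).isOpenEmbedding.isEmbedding.isInducing.specializes_iff.mp hs, hu, hc⟩
  have hx : x ∈ irreducibleComponent x := mem_irreducibleComponent
  obtain ⟨η, hη⟩ := QuasiSober.sober isIrreducible_irreducibleComponent
    (isClosed_irreducibleComponent (x := x))
  have hcomp : closure {η} ∈ irreducibleComponents ↥X := by
    rw [hη.def]; exact irreducibleComponent_mem_irreducibleComponents x
  have hsp : η ⤳ x := hη.specializes hx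
  rcases eq_or_ne x η with rfl | hne
  · obtain ⟨u, hu⟩ := (MorphismProperty.universally_le _ _ hE).surjective x
    exact ⟨u, u, specializes_refl _, hu, hu.symm ▸ hcomp⟩
  obtain ⟨A, h, hA, hc, hgen⟩ := Groth.Agent.DVRDom.exists_dvr_through_specialization (𝟙 X) η x hsp hne
  haveI := hA
  have hbot : h (⟨⊥, Ideal.isPrime_bot⟩ : PrimeSpectrum A) = η := by
    have h2 : Spec.map (CommRingCat.ofHom A.subtype) (IsLocalRing.closedPoint (X.residueField η)) =
        (⟨⊥, Ideal.isPrime_bot⟩ : PrimeSpectrum A) := by
      refine PrimeSpectrum.ext ?_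
      show (IsLocalRing.maximalIdeal (X.residueField η)).comap A.subtype = ⊥
      rw [IsLocalRing.maximalIdeal_eq_bot, ← RingHom.ker_eq_comap_bot]
      exact (RingHom.injective_iff_ker_eq_bot _).mp Subtype.val_injective
    refine (congrArg h h2.symm).trans ?_
    rw [← Scheme.Hom.comp_apply, hgen, Category.comp_id, Scheme.fromSpecResidueField_apply]
  let q := pullback.fst h p
  have hq : Topology.IsQuotientMap q :=
    hE (pullback.snd h p) h q (IsPullback.of_hasPullback h p)
  let b : ↥(Spec (CommRingCat.of A)) := (⟨⊥, Ideal.isPrime_bot⟩ : PrimeSpectrum A)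
  have hncl : ¬ IsClosed (q ⁻¹' {b}) := fun hcl => by
    have hb : IsClosed ({b} : Set _) := hq.isClosed_preimage.mp hcl
    have hspb : b ⤳ (IsLocalRing.closedPoint A : PrimeSpectrum A) := IsLocalRing.specializes_closedPoint b
    have hmem : (IsLocalRing.closedPoint A : PrimeSpectrum A) = b := hspb.mem_closed hb rfl
    exact IsDiscreteValuationRing.not_a_field A (congrArg PrimeSpectrum.asIdeal hmem)
  obtain ⟨w, hwcl, hwb⟩ : ∃ w ∈ closure (q ⁻¹' {b}), q w ≠ b := by
    by_contra hall
    push Not at hall
    exact hncl (isClosed_of_closure_subset fun w hw => hall w hw)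
  have hqw : q w = IsLocalRing.closedPoint A := PrimeSpectrum.ext (by
    by_contra hm
    refine hwb (PrimeSpectrum.ext ?_)
    show (q w).asIdeal = ⊥
    by_contra h0
    exact hm (IsPrime.to_maximal_ideal h0 |>.eq_of_le (IsLocalRing.maximalIdeal.isMaximal A).ne_top
      (IsLocalRing.le_maximalIdeal (q w).isPrime.ne_top)))
  have hyx : p (pullback.snd h p w) = x := by
    rw [← Scheme.Hom.comp_apply, ← pullback.condition, Scheme.Hom.comp_apply, hqw, hc]
  have hy : pullback.snd h p w ∈ closure (Set.range (p.fiberι η)) := by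
    rw [p.range_fiberι]
    refine map_mem_closure (pullback.snd h p).continuous hwcl fun z (hz : q z = b) => ?_
    show p (pullback.snd h p z) = η
    rw [← Scheme.Hom.comp_apply, ← pullback.condition, Scheme.Hom.comp_apply]
    exact (congrArg h hz).trans hbot
  haveI : QuasiCompact (X.fromSpecResidueField η) := inferInstance
  haveI : QuasiCompact (p.fiberι η) := MorphismProperty.pullback_fst (P := @QuasiCompact) _ _ ‹_›
  obtain ⟨z, hz⟩ := Groth.Agent.LimSch.exists_specializes_of_mem_closure_range (p.fiberι η) hy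
  have hzη : p (p.fiberι η z) = η :=
    (Set.ext_iff.mp (p.range_fiberι η) (p.fiberι η z)).mp (Set.mem_range_self z)
  exact ⟨p.fiberι η z, _, hz, hyx, by rw [hzη]; exact hcomp⟩

end Groth.Agent.S13731
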