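import Groth.Statements.S1374
import Groth.Agent.FlatMorLib.ClosedGenRed

set_option autoImplicit false
universe u
open FlatMor

namespace Groth.Agent.S1374

open AlgebraicGeometry CategoryTheory CategoryTheory.Limits

lemma subtype_isClosed_specializes {α : Type*} [TopologicalSpace α] {F : Set α} {z : α}
    (hz : IsClosed (Subtype.val ⁻¹' {z} : Set F)) (hzF : z ∈ F) {y : α} (hy : y ∈ F) (h : z ⤳ y) :
    y = z :=
  ((subtype_specializes_iff _ _).mpr h : (⟨z, hzF⟩ : F) ⤳ ⟨y, hy⟩).mem_closed hz rfl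

lemma isClosed_in_fibre_of_forall {X S : Scheme.{u}} (f : X ⟶ S) [LocallyOfFiniteType f]
    (U : X.Opens) (x : X) (hx : x ∈ U) (h : ∀ y ∈ U, x ⤳ y → f y = f x → y = x) :
    IsClosed (Subtype.val ⁻¹' {x} : Set ↑(f ⁻¹' {f x})) := by
  let e := f.fiberHomeo (f x)
  have heq : (Subtype.val ⁻¹' {x} : Set ↑(f ⁻¹' {f x})) = {⟨x, rfl⟩} := by
    ext y
    simp [Subtype.ext_iff]
  have : JacobsonSpace ↑(f ⁻¹' {f x}) :=
    JacobsonSpace.of_isClosedEmbedding e.symm.isClosedEmbedding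
  rw [heq]
  refine isClosed_singleton_of_isLocallyClosed_singleton ?_
  refine ⟨Subtype.val ⁻¹' U, closure {⟨x, rfl⟩}, U.2.preimage continuous_subtype_val,
    isClosed_closure, ?_⟩
  ext y
  refine ⟨?_, fun ⟨hyU, hy⟩ ↦ Subtype.ext (h y hyU ?_ y.2)⟩
  · rintro rfl
    exact ⟨hx, subset_closure rfl⟩
  · exact (subtype_specializes_iff _ _).mp (specializes_iff_mem_closure.mpr hy)

open AlgebraicGeometry CategoryTheory Limits in
/-- Let f : X ⟶ S be locally of finite type and x ⤳ x' a specialization of points of X, with x' a closed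
point of its fibre f⁻¹(f(x')) and f(x) ≠ f(x'). Then the points x₁ with f(x₁) = f(x) which are
closed in the fibre f⁻¹(f(x)) and satisfy x ⤳ x₁ ⤳ x' are dense in the closure of {x} intersected
with the fibre f⁻¹(f(x)) (fibres taken as subspaces of X). (The published statement omits the
condition f(x) ≠ f(x'), but the claim fails without it; it is stated here with that condition.) -/
theorem result {X S : Scheme.{u}} (f : X ⟶ S) [LocallyOfFiniteType f] (x x' : X) (hsp : x ⤳ x') (hne : f x ≠ f x')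
    (hcl : IsClosed (Subtype.val ⁻¹' {x'} : Set ↑(f ⁻¹' {f x'}))) :
    Dense (Subtype.val ⁻¹' {x₁ : ↑X | f x₁ = f x ∧ IsClosed (Subtype.val ⁻¹' {x₁} : Set ↑(f ⁻¹' {f x})) ∧ x ⤳ x₁ ∧ x₁ ⤳ x'} :
      Set ↑(closure {x} ∩ f ⁻¹' {f x})) := by
  classical
  obtain ⟨W₀, hW, hxW, -⟩ := TopologicalSpace.Opens.isBasis_iff_nbhd.mp S.isBasis_affineOpens
    (show f x' ∈ (⊤ : S.Opens) from trivial)
  let W : S.Opens := W₀
  obtain ⟨U₀, hU, hxU, hUW⟩ := TopologicalSpace.Opens.isBasis_iff_nbhd.mp X.isBasis_affineOpens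
    (show x' ∈ f ⁻¹ᵁ W from hxW)
  let U : X.Opens := U₀
  have hU : IsAffineOpen U := hU
  have hW : IsAffineOpen W := hW
  have hUW : U ≤ f ⁻¹ᵁ W := hUW
  let φ := f.appLE W U hUW
  let _ : Algebra Γ(S, W) Γ(X, U) := φ.hom.toAlgebra
  have : Algebra.FiniteType Γ(S, W) Γ(X, U) := f.finiteType_appLE hW hU hUW
  have hemb := hU.fromSpec.isOpenEmbedding
  have hmap : ∀ Q : Spec Γ(X, U), f (hU.fromSpec Q) = hW.fromSpec (Spec.map φ Q) := fun Q ↦ by
    rw [← Scheme.Hom.comp_apply, ← Scheme.Hom.comp_apply,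
      IsAffineOpen.SpecMap_appLE_fromSpec f hW hU hUW]
  have hrange : ∀ y ∈ U, ∃ Q, hU.fromSpec Q = y := fun y hy ↦
    (hU.range_fromSpec.symm ▸ hy : y ∈ Set.range hU.fromSpec)
  have hle : ∀ Q Q' : Spec Γ(X, U), hU.fromSpec Q ⤳ hU.fromSpec Q' ↔ Q.asIdeal ≤ Q'.asIdeal :=
    fun Q Q' ↦ hemb.isInducing.specializes_iff.trans (PrimeSpectrum.le_iff_specializes Q Q').symm
  have hfib : ∀ Q Q' : Spec Γ(X, U), f (hU.fromSpec Q) = f (hU.fromSpec Q') ↔
      Q.asIdeal.comap φ.hom = Q'.asIdeal.comap φ.hom := fun Q Q' ↦ by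
    rw [hmap, hmap, hW.fromSpec.isOpenEmbedding.injective.eq_iff]
    exact PrimeSpectrum.ext_iff
  obtain ⟨M, hM⟩ := hrange x' hxU
  obtain ⟨P, hP⟩ := hrange x (hsp.mem_open U.2 hxU)
  rw [dense_iff_inter_open]
  intro O hO hOne
  obtain ⟨O', hO', rfl⟩ := isOpen_induced_iff.mp hO
  obtain ⟨⟨z, hzc, hzf⟩, hzO⟩ := hOne
  have hxO : x ∈ O' := (specializes_iff_mem_closure.mpr hzc).mem_open hO' hzO
  obtain ⟨-, ⟨g, rfl⟩, hgP, hgsub⟩ := PrimeSpectrum.isTopologicalBasis_basic_opens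
    |>.exists_subset_of_mem_open (show P ∈ hU.fromSpec ⁻¹' O' from by simpa [hP] using hxO)
      (hO'.preimage hU.fromSpec.continuous)
  obtain ⟨Q, hQ, hPQ, hQM, hQP, hgQ, hmax⟩ :=
    Groth.Agent.FlatMorLib.ClosedGen.exists_closed_generization (A := Γ(S, W)) P.asIdeal M.asIdeal
      ((hle P M).mp (by rw [hP, hM]; exact hsp))
      (fun h ↦ hne (by rw [← hP, ← hM]; exact (hfib P M).mpr h))
      (fun M' hM' hMM' h ↦ congr($(hemb.injective ((subtype_isClosed_specializes hcl rfl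
        (y := hU.fromSpec ⟨M', hM'⟩)
        (show f _ = f x' by rw [← hM]; exact (hfib ⟨M', hM'⟩ M).mpr h)
        (hM ▸ (hle M ⟨M', hM'⟩).mpr hMM')).trans hM.symm)).asIdeal))
      (g := g) hgP
  let q : Spec Γ(X, U) := ⟨Q, hQ⟩
  have hqf : f (hU.fromSpec q) = f x := by rw [← hP]; exact (hfib q P).mpr hQP
  have hqx : x ⤳ hU.fromSpec q := hP ▸ (hle P q).mpr hPQ
  refine ⟨⟨hU.fromSpec q, specializes_iff_mem_closure.mp hqx, hqf⟩, ?_, hqf, ?_, hqx,
    hM ▸ (hle q M).mpr hQM⟩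
  · exact hgsub (show q ∈ PrimeSpectrum.basicOpen g from hgQ)
  · have hqU : hU.fromSpec q ∈ U := by
      rw [← SetLike.mem_coe, ← hU.range_fromSpec]; exact Set.mem_range_self q
    have := isClosed_in_fibre_of_forall f U _ hqU fun y hy hqy hfy ↦ by
      obtain ⟨Q', rfl⟩ := hrange y hy
      congr 1
      exact PrimeSpectrum.ext (hmax Q'.asIdeal Q'.2 ((hle q Q').mp hqy)
        (((hfib Q' q).mp hfy).trans hQP))
    rwa [hqf] at this

end Groth.Agent.S1374
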