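import Groth.Statements.S13757
import Groth.Agent.LabGraphLead.Basic

set_option autoImplicit false
universe u
open LabGraph

namespace Groth.Agent.S13757

/-- Let G be a finite connected multigraph (loops and multiple edges allowed) with vertex set V, edge
set E, endpoint map E → V × V and a labelling of the edges by positive integers l. A vertex
labelling φ : V → ℤ is Cartier when l(e) divides the difference of the values of φ at the two
endpoints of every edge e; its multidegree is the vertex labelling whose value at v is the sum, over
the edge-ends at v, of (value of φ at the other endpoint − φ(v)) / l(e). Then the Cartier vertex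
labellings of multidegree zero are exactly the constant ones: the kernel of the multidegree operator
on Cartier labellings is ℤ, embedded as the constants. -/
theorem result
    {V E : Type u} [Fintype V] [Fintype E] [DecidableEq V] [DecidableEq E]
    (ends : E → V × V) (l : E → ℕ) (hl : ∀ e, 0 < l e) (hconn : LabGraph.Connected ends)
    (φ : V → ℤ) (hφ : LabGraph.IsCartier ends l φ) :
    (∀ v : V, LabGraph.mdeg ends l φ v = 0) ↔ ∀ v w : V, φ v = φ w := by
  constructor
  · intro h
    refine LabGraphLead.eq_of_forall_edge hconn φ fun e₀ => ?_
    have key : ∑ v, φ v * LabGraph.mdeg ends l φ v =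
        -∑ e, (l e : ℤ) * ((φ (ends e).1 - φ (ends e).2) / (l e : ℤ)) ^ 2 := by
      simp only [LabGraph.mdeg, Finset.mul_sum, mul_add, mul_ite, mul_zero]
      rw [Finset.sum_comm, ← Finset.sum_neg_distrib]
      refine Finset.sum_congr rfl fun e _ => ?_
      simp only [Finset.sum_add_distrib, Finset.sum_ite_eq, Finset.mem_univ, if_true]
      obtain ⟨q, hq⟩ := hφ e
      have hl' : (l e : ℤ) ≠ 0 := by have := hl e; omega
      rw [show φ (ends e).2 - φ (ends e).1 = (l e : ℤ) * (-q) by linarith, hq,
        Int.mul_ediv_cancel_left _ hl', Int.mul_ediv_cancel_left _ hl']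
      linear_combination (-q) * hq
    simp only [h, mul_zero, Finset.sum_const_zero, eq_comm (a := (0 : ℤ)), neg_eq_zero] at key
    have := (Finset.sum_eq_zero_iff_of_nonneg (fun e _ => mul_nonneg (Int.natCast_nonneg _) (sq_nonneg _))).1 key e₀ (Finset.mem_univ _)
    have hl' : (l e₀ : ℤ) ≠ 0 := by have := hl e₀; omega
    simp only [mul_eq_zero, hl', false_or, sq_eq_zero_iff] at this
    have := Int.ediv_mul_cancel (hφ e₀)
    simp_all
    omega
  · intro h v
    refine Finset.sum_eq_zero fun e _ => ?_
    simp [h (ends e).1 (ends e).2]

end Groth.Agent.S13757
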