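import Groth.Statements.S13759
import Groth.Agent.LabGraphLead.Blow

set_option autoImplicit false
universe u
open LabGraph

namespace Groth.Agent.S13759

/-- Let G be a finite connected multigraph with vertex set V, edge set E, endpoint map E → V × V and
positive integer edge labels l, and let G̃ be its total blow-up graph: every edge e is replaced by a
path of l(e) edges through l(e) − 1 new vertices, all new edges labelled 1 (so every vertex
labelling of G̃ is Cartier and its multidegree is the sum over edge-ends of the differences of
values). Let H, resp. H̃, be the cokernel of the multidegree operator from Cartier vertex labellings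
of G to ℤ^V, resp. of G̃ to ℤ^Ṽ, and ε : H → H̃ the map induced by extending vertex labellings of G
by zero on the new vertices. Then ε is injective: if a vertex labelling α of G, extended by zero, is
the multidegree of some vertex labelling of G̃, then α is the multidegree of some Cartier vertex
labelling of G. -/
theorem result
    {V E : Type u} [Fintype V] [Fintype E] [DecidableEq V] [DecidableEq E]
    (ends : E → V × V) (l : E → ℕ) (hl : ∀ e, 0 < l e) (hconn : LabGraph.Connected ends)
    (α : V → ℤ) (ψ : LabGraph.BlVert V E l → ℤ)
    (hψ : ∀ w : LabGraph.BlVert V E l,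
      LabGraph.mdeg (LabGraph.blEnds ends l) (fun _ => 1) ψ w = Sum.elim α (fun _ => (0 : ℤ)) w) :
    ∃ φ : V → ℤ, LabGraph.IsCartier ends l φ ∧ ∀ v : V, LabGraph.mdeg ends l φ v = α v := by
  have hlin : ∀ e, ∀ n ≤ l e, LabGraphLead.pathVal ends l ψ e n = LabGraphLead.pathVal ends l ψ e 0 +
      n * (LabGraphLead.pathVal ends l ψ e 1 - LabGraphLead.pathVal ends l ψ e 0) := by
    intro e n hn
    have := LabGraphLead.eq_linear_add_dev (fun _ => 0) (LabGraphLead.pathVal ends l ψ e) (l e) (fun j hj => by
      have h := hψ (.inr ⟨e, ⟨j, by omega⟩⟩)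
      rw [LabGraphLead.mdeg_inr ends l hl] at h
      simpa using h) n hn
    have hd : ∀ j, LabGraphLead.dev (fun _ => 0) j = 0 := by
      intro j
      induction j using Nat.strong_induction_on with
      | h j ih =>
        match j with
        | 0 => rfl
        | 1 => rfl
        | k + 2 => simp [LabGraphLead.dev, ih k (by omega), ih (k + 1) (by omega)]
    rw [hd, add_zero] at this
    exact this
  have hend : ∀ e, ψ (.inl (ends e).2) - ψ (.inl (ends e).1) =
      (l e : ℤ) * (LabGraphLead.pathVal ends l ψ e 1 - LabGraphLead.pathVal ends l ψ e 0) := fun e => by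
    rw [← LabGraphLead.pathVal_end ends l ψ (hl e), ← LabGraphLead.pathVal_zero ends l ψ e, hlin e (l e) le_rfl]
    ring
  refine ⟨fun v => ψ (.inl v), fun e => ⟨-(LabGraphLead.pathVal ends l ψ e 1 - LabGraphLead.pathVal ends l ψ e 0), ?_⟩, fun v => ?_⟩
  · simp only; linear_combination -hend e
  · have h := hψ (.inl v)
    rw [LabGraphLead.mdeg_inl ends l hl] at h
    rw [Sum.elim_inl] at h
    rw [← h]
    refine Finset.sum_congr rfl fun e _ => ?_
    have hl' : (l e : ℤ) ≠ 0 := by have := hl e; omega
    have hend' : ψ (.inl (ends e).1) - ψ (.inl (ends e).2) =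
        (l e : ℤ) * (-(LabGraphLead.pathVal ends l ψ e 1 - LabGraphLead.pathVal ends l ψ e 0)) := by
      linear_combination -hend e
    simp only [hend e, hend', Int.mul_ediv_cancel_left _ hl']
    have h1 := hlin e (l e - 1) (Nat.sub_le _ _)
    have h2 := hlin e (l e) le_rfl
    have hp := hl e
    rw [Nat.cast_sub (show 1 ≤ l e from hp)] at h1
    push_cast at h1
    congr 1
    split
    · rw [h1, h2]; ring
    · rfl

end Groth.Agent.S13759
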