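import Groth.Statements.S13760
import Groth.Agent.LabGraphLead.Blow
import Groth.Agent.LabGraphLead.Forest

set_option autoImplicit false
universe u
open LabGraph

namespace Groth.Agent.S13760

/-- Let G be a finite connected multigraph with vertex set V, edge set E, endpoint map E → V × V and
positive integer edge labels l, let G̃ be its total blow-up graph (every edge e replaced by a path
of l(e) edges through l(e) − 1 new vertices, all labelled 1), and let ε : H → H̃ be the map from the
cokernel of the multidegree operator on Cartier vertex labellings of G to the cokernel of the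
multidegree operator on vertex labellings of G̃ induced by extension by zero. Then ε is surjective —
every vertex labelling β of G̃ can be corrected by the multidegree of a vertex labelling of G̃ so as
to vanish at all new vertices — if and only if G is circuit-coprime (the labels along every circuit
have greatest common divisor 1). (The published statement is 'ε is an isomorphism if and only if the
labelled graph is circuit-coprime'; injectivity of ε holds for every labelled graph, so the content
is the equivalence for surjectivity, stated here with the cokernels unpacked.) -/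
theorem result
    {V E : Type u} [Fintype V] [Fintype E] [DecidableEq V] [DecidableEq E]
    (ends : E → V × V) (l : E → ℕ) (hl : ∀ e, 0 < l e) (hconn : LabGraph.Connected ends) :
    (∀ β : LabGraph.BlVert V E l → ℤ, ∃ (ψ : LabGraph.BlVert V E l → ℤ) (α : V → ℤ),
        ∀ w : LabGraph.BlVert V E l,
          LabGraph.mdeg (LabGraph.blEnds ends l) (fun _ => 1) ψ w + β w = Sum.elim α (fun _ => (0 : ℤ)) w) ↔
      LabGraph.IsCircuitCoprime ends l := by
  classical
  rw [LabGraphLead.coprime_iff ends l hl]
  let uOf : (LabGraph.BlVert V E l → ℤ) → E → ℕ → ℤ :=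
    fun β e j => if h : j < l e - 1 then -β (.inr ⟨e, ⟨j, h⟩⟩) else 0
  constructor
  · intro hsur c
    let β : LabGraph.BlVert V E l → ℤ :=
      Sum.elim (fun _ => 0) (fun p => if (p.2 : ℕ) + 2 = l p.1 then -c p.1 else 0)
    obtain ⟨ψ, α, hψ⟩ := hsur β
    refine ⟨fun v => ψ (.inl v), fun e => ?_⟩
    by_cases h1 : l e = 1
    · rw [h1]; exact one_dvd _
    have hp := hl e
    have := LabGraphLead.eq_linear_add_dev (uOf β e) (LabGraphLead.pathVal ends l ψ e) (l e) (fun j hj => by
      have h := hψ (.inr ⟨e, ⟨j, by omega⟩⟩)
      rw [LabGraphLead.mdeg_inr ends l hl, Sum.elim_inr] at h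
      simp only [uOf]
      rw [dif_pos (show j < l e - 1 by omega)]
      linarith) (l e) le_rfl
    have hd : ∀ j, j < l e → LabGraphLead.dev (uOf β e) j = 0 := by
      intro j
      induction j using Nat.strong_induction_on with
      | h j ih =>
        intro hj
        match j with
        | 0 => rfl
        | 1 => rfl
        | k + 2 =>
          simp only [LabGraphLead.dev, ih k (by omega) (by omega), ih (k + 1) (by omega) (by omega), uOf, β]
          rw [dif_pos (show k < l e - 1 by omega), Sum.elim_inr, if_neg (show k + 2 ≠ l e by omega)]
          ring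
    obtain ⟨k, hk⟩ : ∃ k, l e = k + 2 := ⟨l e - 2, by omega⟩
    have hdl : LabGraphLead.dev (uOf β e) (l e) = c e := by
      rw [hk]
      simp only [LabGraphLead.dev, hd k (by omega), hd (k + 1) (by omega), uOf, β]
      rw [dif_pos (show k < l e - 1 by omega), Sum.elim_inr, if_pos hk.symm]
      ring
    rw [LabGraphLead.pathVal_end ends l ψ hp, LabGraphLead.pathVal_zero, hdl] at this
    refine ⟨LabGraphLead.pathVal ends l ψ e 1 - ψ (.inl (ends e).1), ?_⟩
    linear_combination this
  · intro hsol β
    obtain ⟨φ, hφ⟩ := hsol (fun e => LabGraphLead.dev (uOf β e) (l e))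
    choose s hs using hφ
    let ψ : LabGraph.BlVert V E l → ℤ := Sum.elim φ
      (fun p => φ (ends p.1).1 + ((p.2 : ℕ) + 1 : ℕ) * s p.1 + LabGraphLead.dev (uOf β p.1) ((p.2 : ℕ) + 1))
    have hP : ∀ e, ∀ j ≤ l e, LabGraphLead.pathVal ends l ψ e j =
        φ (ends e).1 + (j : ℕ) * s e + LabGraphLead.dev (uOf β e) j := by
      intro e j hj
      simp only [LabGraphLead.pathVal, LabGraph.pathVert]
      split_ifs with h0 h
      · subst h0; simp [ψ, LabGraphLead.dev]
      · simp only [ψ, Sum.elim_inr]
        rw [Nat.sub_add_cancel (Nat.pos_of_ne_zero h0)]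
      · obtain rfl : j = l e := by omega
        simp only [ψ, Sum.elim_inl]
        linear_combination hs e
    refine ⟨ψ, fun v => LabGraph.mdeg (LabGraph.blEnds ends l) (fun _ => 1) ψ (.inl v) + β (.inl v), fun w => ?_⟩
    rcases w with v | ⟨e, t⟩
    · rfl
    · have ht := t.isLt
      rw [LabGraphLead.mdeg_inr ends l hl, hP e _ (by omega), hP e _ (by omega), hP e _ (by omega), Sum.elim_inr]
      simp only [LabGraphLead.dev, uOf]
      rw [dif_pos t.isLt]
      push_cast
      ring

end Groth.Agent.S13760
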