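import Groth.Statements.S1377
import Mathlib.AlgebraicGeometry.Normalization
import Mathlib.AlgebraicGeometry.Morphisms.Integral
import Mathlib.AlgebraicGeometry.Morphisms.AffineAnd
import Mathlib.AlgebraicGeometry.Limits
import Mathlib.AlgebraicGeometry.IdealSheaf.Subscheme

set_option autoImplicit false
universe u
open FlatMor

namespace Groth.Agent.S1377

open AlgebraicGeometry CategoryTheory CategoryTheory.Limits

theorem isIntegral_prod {R S T : Type u} [CommRing R] [CommRing S] [CommRing T] (f : R →+* S)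
    (g : R →+* T) (hf : f.IsIntegral) (hg : g.IsIntegral) : (f.prod g).IsIntegral := by
  rintro ⟨a, b⟩
  obtain ⟨p, hp, hpa⟩ := hf a
  obtain ⟨q, hq, hqb⟩ := hg b
  refine ⟨p * q, hp.mul hq, Prod.ext ?_ ?_⟩
  · change RingHom.fst S T ((p * q).eval₂ (f.prod g) (a, b)) = 0
    rw [Polynomial.hom_eval₂, Polynomial.eval₂_mul]
    rw [show (RingHom.fst S T).comp (f.prod g) = f from rfl]
    change p.eval₂ f a * _ = 0
    rw [hpa, zero_mul]
  · change RingHom.snd S T ((p * q).eval₂ (f.prod g) (a, b)) = 0
    rw [Polynomial.hom_eval₂, Polynomial.eval₂_mul]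
    rw [show (RingHom.snd S T).comp (f.prod g) = g from rfl]
    change _ * q.eval₂ g b = 0
    rw [hqb, mul_zero]

theorem isPullback_of_openImmersion {A B B' C D : Scheme.{u}} {q : A ⟶ B} {v : A ⟶ C} {p : B ⟶ D}
    {ι : C ⟶ D} {o : B ⟶ B'} [IsOpenImmersion o] {π : B' ⟶ D} (ho : o ≫ π = p)
    (H : IsPullback q v p ι) (hr : π ⁻¹' Set.range ι ⊆ Set.range o) :
    IsPullback (q ≫ o) v π ι := by
  have hw : (q ≫ o) ≫ π = v ≫ ι := by rw [Category.assoc, ho, H.w]
  refine IsPullback.of_isLimit (c := PullbackCone.mk (q ≫ o) v hw) ?_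
  have hsub : ∀ s : PullbackCone π ι, Set.range s.fst ⊆ Set.range o := fun s ↦ by
    rintro _ ⟨t, rfl⟩
    exact hr ⟨s.snd t, by rw [← Scheme.Hom.comp_apply, ← Scheme.Hom.comp_apply, s.condition]⟩
  refine PullbackCone.IsLimit.mk _
    (fun s ↦ H.lift (IsOpenImmersion.lift o s.fst (hsub s)) s.snd
      (by rw [← ho, IsOpenImmersion.lift_fac_assoc, s.condition]))
    (fun s ↦ by rw [H.lift_fst_assoc, IsOpenImmersion.lift_fac])
    (fun s ↦ H.lift_snd _ _ _) (fun s m h₁ h₂ ↦ ?_)
  apply H.hom_ext
  · rw [← cancel_mono o, H.lift_fst, IsOpenImmersion.lift_fac, Category.assoc, h₁]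
  · simp [h₂]

theorem isPullback_fromNormalization {S V : Scheme.{u}} (U : S.Opens) [QuasiCompact U.ι]
    (v : V ⟶ (U : Scheme.{u})) [IsIntegralHom v] :
    IsPullback (v ≫ U.ι).toNormalization v (v ≫ U.ι).fromNormalization U.ι := by
  let h := v ≫ U.ι
  have hV : IsPullback (𝟙 V) v h U.ι := by
    refine IsPullback.of_isLimit (c := PullbackCone.mk (𝟙 V) v (Category.id_comp _)) ?_
    refine PullbackCone.IsLimit.mk _ (fun s ↦ s.fst) (fun s ↦ Category.comp_id _)
      (fun s ↦ ?_) (fun s m h₁ h₂ ↦ by simpa using h₁)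
    rw [← cancel_mono U.ι, Category.assoc]
    exact s.condition
  have hs : hV.isoPullback.inv ≫ v = pullback.snd h U.ι := hV.isoPullback_inv_snd
  have : IsIntegralHom (pullback.snd h U.ι) := by rw [← hs]; infer_instance
  let j : V ⟶ pullback h.fromNormalization U.ι :=
    pullback.lift h.toNormalization v (by simp [h])
  have : IsIso j := by
    have e : j = hV.isoPullback.hom ≫ (pullback.snd h U.ι).toNormalization ≫
        h.normalizationPullback U.ι := by
      apply pullback.hom_ext
      · simp only [j, pullback.lift_fst, Category.assoc, Scheme.Hom.toNormalization_normalizationPullback_fst,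
          IsPullback.isoPullback_hom_fst_assoc, Category.id_comp]
      · simp only [j, pullback.lift_snd, Category.assoc, Scheme.Hom.normalizationPullback_snd,
          Scheme.Hom.toNormalization_fromNormalization, IsPullback.isoPullback_hom_snd]
    rw [e]
    infer_instance
  exact IsPullback.of_iso_pullback ⟨(h.toNormalization_fromNormalization).trans rfl⟩ (asIso j)
    (pullback.lift_fst _ _ _) (pullback.lift_snd _ _ _)

open AlgebraicGeometry CategoryTheory Limits in
/-- Let S be a scheme, U ⊆ S an open subscheme whose inclusion U → S is quasi-compact (U retrocompact in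
S), and V → U a surjective integral morphism. Then there are a scheme V' and a surjective integral
morphism V' → S whose base change to U is V → U. (The published statement puts no condition on U,
and in that generality it is false: e.g. S = Spec ∏_i ℤ/4^i with U = D(2) ∪ ⋃_i D(e_i), e_i the
idempotents, and V equal to U except that over D(2) it is cut out by x = (2^i)_i. Stated here with U
→ S quasi-compact, under which hypothesis the published argument applies.) -/
theorem result {S V : Scheme.{u}} (U : S.Opens) [QuasiCompact U.ι]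
    (v : V ⟶ (U : Scheme.{u})) [IsIntegralHom v] [Surjective v] :
    ∃ (V' : Scheme.{u}) (π : V' ⟶ S) (i : V ⟶ V'), Surjective π ∧ IsIntegralHom π ∧ IsPullback i v π U.ι := by
  let h := v ≫ U.ι
  let Zc : TopologicalSpace.Closeds S := ⟨(U : Set S)ᶜ, U.2.isClosed_compl⟩
  let Z := Scheme.IdealSheafData.vanishingIdeal Zc
  let π : h.normalization ⨿ Z.subscheme ⟶ S := Limits.coprod.desc h.fromNormalization Z.subschemeι
  have hZ : Set.range Z.subschemeι = (U : Set S)ᶜ := by
    rw [Z.range_subschemeι, Scheme.IdealSheafData.coe_support_vanishingIdeal]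
    rfl
  have hint : IsIntegralHom π := by
    refine HasAffineProperty.coprodDesc_affineAnd (P := @IsIntegralHom) (Q := fun f ↦ RingHom.IsIntegral f) IsIntegralHom.hasAffineProperty
      RingHom.isIntegral_respectsIso (fun f g hf hg ↦ isIntegral_prod f g hf hg) _ _ inferInstance ?_
    infer_instance
  have hpb := isPullback_fromNormalization U v
  have : Surjective π := by
    refine ⟨fun s ↦ ?_⟩
    by_cases hs : s ∈ U
    · obtain ⟨x, hx⟩ := v.surjective ⟨s, hs⟩
      refine ⟨Limits.coprod.inl (X := h.normalization) (Y := Z.subscheme) (h.toNormalization x), ?_⟩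
      rw [← Scheme.Hom.comp_apply, Limits.coprod.inl_desc, ← Scheme.Hom.comp_apply,
        h.toNormalization_fromNormalization, Scheme.Hom.comp_apply, hx]
      rfl
    · obtain ⟨z, hz⟩ := hZ.ge hs
      refine ⟨Limits.coprod.inr (X := h.normalization) (Y := Z.subscheme) z, ?_⟩
      rw [← Scheme.Hom.comp_apply, Limits.coprod.inr_desc, hz]
  refine ⟨_, π, h.toNormalization ≫ Limits.coprod.inl, this, hint,
    isPullback_of_openImmersion (Limits.coprod.inl_desc _ _) hpb ?_⟩
  rintro t ⟨s, hs⟩
  obtain ⟨w, rfl⟩ | ⟨w, rfl⟩ : (∃ w, Limits.coprod.inl (X := h.normalization) (Y := Z.subscheme) w = t) ∨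
      ∃ w, Limits.coprod.inr (X := h.normalization) (Y := Z.subscheme) w = t := by
    obtain ⟨t', rfl⟩ := (coprodMk h.normalization Z.subscheme).surjective t
    rcases t' with w | w
    · exact Or.inl ⟨w, (coprodMk_inl _ _ w).symm⟩
    · exact Or.inr ⟨w, (coprodMk_inr _ _ w).symm⟩
  · exact ⟨w, rfl⟩
  · rw [← Scheme.Hom.comp_apply, Limits.coprod.inr_desc] at hs
    have h1 : Z.subschemeι w ∈ (U : Set S)ᶜ := hZ ▸ ⟨w, rfl⟩
    exact absurd (hs ▸ s.2) h1

end Groth.Agent.S1377
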