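-- statement PLie.GrothFrozen.S13771 (Groth/Statements/S13771.lean; the theorem PLie.existsUnique_pmap_range_of_ker_pstable);
import Groth.Statements.S13771
import Groth.Agent.PLieLib.Basic

set_option autoImplicit false
universe u v w
open PLie

namespace Groth.Agent.S13771

/-- Let R be a commutative ring of prime characteristic p, L₁ and L₂ Lie algebras over R, φ a p-mapping
on L₁ and f : L₁ → L₂ a morphism of Lie algebras whose kernel is stable under φ (a p-ideal). Then
the image f(L₁), a Lie subalgebra of L₂, carries exactly one p-mapping ψ for which the corestriction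
of f to its image is a morphism of p-Lie algebras, i.e. ψ (f x) = f (φ x) for all x. -/
theorem result (R : Type u) [CommRing R] (p : ℕ) [Fact p.Prime] [CharP R p]
    (L₁ : Type v) [LieRing L₁] [LieAlgebra R L₁] (L₂ : Type w) [LieRing L₂] [LieAlgebra R L₂]
    (φ : PLie.PMap R p L₁) (f : L₁ →ₗ⁅R⁆ L₂) (hker : ∀ x : L₁, f x = 0 → f (φ x) = 0) :
    ∃! ψ : PLie.PMap R p f.range, PLie.IsPHom φ ψ f.rangeRestrict := by
  have hJ : ∀ x y, f x = f y → f (φ x) = f (φ y) := fun x y h => by
    have h0 : f (x - y) = 0 := by rw [map_sub, h, sub_self]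
    have := φ.map_add y (x - y)
    rw [add_sub_cancel] at this
    rw [show φ x = φ.toFun x from rfl, this, map_sub, map_add, hker _ h0, Groth.Agent.PLieLib.jacobson_map f, h0, Groth.Agent.PLieLib.jacobson_zero, sub_zero, add_zero]
  have hmem : ∀ z : f.range, ∃ x, f x = (z : L₂) := fun z => (LieHom.mem_range f _).1 z.2
  choose s hs using hmem
  let F : f.range → f.range := fun z => f.rangeRestrict (φ (s z))
  have hF : ∀ x, F (f.rangeRestrict x) = f.rangeRestrict (φ x) := fun x => Subtype.ext (hJ _ _ (hs (f.rangeRestrict x)))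
  have hsur : ∀ z : f.range, ∃ x, f.rangeRestrict x = z := fun z => ⟨s z, Subtype.ext (hs z)⟩
  refine ⟨⟨F, fun c z => ?_, fun z => ?_, fun a b => ?_⟩, fun x => (hF x).symm, fun ψ hψ => ?_⟩
  · obtain ⟨x, rfl⟩ := hsur z
    rw [← map_smul, hF, hF, φ.map_smul, map_smul]
  · refine LinearMap.ext fun w => ?_
    obtain ⟨x, rfl⟩ := hsur z
    obtain ⟨y, rfl⟩ := hsur w
    rw [hF, LieAlgebra.ad_apply, ← LieHom.map_lie, Groth.Agent.PLieLib.lie_map, Groth.Agent.PLieLib.pow_lie]
  · obtain ⟨x, rfl⟩ := hsur a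
    obtain ⟨y, rfl⟩ := hsur b
    rw [← map_add, hF, hF, hF, φ.map_add, map_sub, map_add, Groth.Agent.PLieLib.jacobson_map]
  · cases ψ with
    | mk g _ _ _ =>
      congr 1
      funext z
      obtain ⟨x, rfl⟩ := hsur z
      exact (hψ x).symm.trans (hF x).symm

end Groth.Agent.S13771
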