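-- statement PLie.GrothFrozen.S13772 (Groth/Statements/S13772.lean; the theorem PLie.exists_pmap_eq_add_iff);
import Groth.Statements.S13772
import Groth.Agent.PLieLib.Basic

set_option autoImplicit false
universe u v
open PLie

namespace Groth.Agent.S13772

/-- Let R be a commutative ring of prime characteristic p and L a Lie algebra over R with a p-mapping γ.
For a map g : L → L, there is a p-mapping γ' on L with γ' x = γ x + g x for every x if and only if g
is additive, g (c • x) = c ^ p • g x for all scalars c, and every value g x lies in the centre of L.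
(Both parts of the published statement at once: the difference of two p-mappings is a
Frobenius-semilinear map into the centre, and adding such a map to a p-mapping gives a p-mapping.) -/
theorem result (R : Type u) [CommRing R] (p : ℕ) [Fact p.Prime] [CharP R p]
    (L : Type v) [LieRing L] [LieAlgebra R L] (γ : PLie.PMap R p L) (g : L → L) :
    (∃ γ' : PLie.PMap R p L, ∀ x : L, γ' x = γ x + g x) ↔
      ((∀ x y : L, g (x + y) = g x + g y) ∧ (∀ (c : R) (x : L), g (c • x) = c ^ p • g x) ∧
        ∀ x : L, g x ∈ LieAlgebra.center R L) := by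
  constructor
  · rintro ⟨γ', hγ⟩
    have hg : ∀ x, g x = γ' x - γ x := fun x => by rw [hγ]; abel
    refine ⟨fun x y => ?_, fun c x => ?_, fun x => ?_⟩
    · rw [hg, hg, hg, γ'.map_add, γ.map_add]; abel
    · rw [hg, hg, γ'.map_smul, γ.map_smul, smul_sub]
    · rw [hg]; exact Groth.Agent.PLieLib.mem_center_of_ad_eq ((γ'.ad_map x).trans (γ.ad_map x).symm)
  · rintro ⟨h1, h2, h3⟩
    refine ⟨⟨fun x => γ x + g x, fun c x => ?_, fun x => ?_, fun a b => ?_⟩, fun x => rfl⟩
    · rw [γ.map_smul, h2, smul_add]
    · rw [map_add, γ.ad_map, Groth.Agent.PLieLib.ad_center (h3 x), add_zero]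
    · rw [γ.map_add, h1]; abel

end Groth.Agent.S13772
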