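-- statement PLie.GrothFrozen.S13776 (Groth/Statements/S13776.lean; the theorem PLie.nonempty_pmap_l3_family_iff);
import Groth.Statements.S13776
import Groth.Agent.PLieLib.Existence

set_option autoImplicit false
universe u v
open PLie

namespace Groth.Agent.S13776

/-- Let R be a commutative ring of prime characteristic p, t ∈ R, and L a Lie algebra over R, free as a
module with basis x = bs 0, y = bs 1, z = bs 2 and brackets [x,y] = y, [x,z] = t • z, [y,z] = 0.
Then L carries a p-mapping if and only if t ^ p = t. (The published statement is the corresponding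
entry of the classification table over an algebraically closed field of characteristic p, where the
condition reads: t lies in the prime field; this row states it over every commutative ring of
characteristic p.) -/
theorem result (R : Type u) [CommRing R] (p : ℕ) [Fact p.Prime] [CharP R p] (t : R)
    (L : Type v) [LieRing L] [LieAlgebra R L] (bs : Module.Basis (Fin 3) R L)
    (hxy : ⁅bs 0, bs 1⁆ = bs 1) (hxz : ⁅bs 0, bs 2⁆ = t • bs 2) (hyz : ⁅bs 1, bs 2⁆ = 0) :
    Nonempty (PLie.PMap R p L) ↔ t ^ p = t := by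
  haveI := CharP.nontrivial_of_char_ne_one (R := R) (Fact.out : p.Prime).ne_one
  have hp2 := (Fact.out : p.Prime).two_le
  have hzy : ⁅bs 2, bs 1⁆ = 0 := by rw [← lie_skew, hyz, neg_zero]
  have hzx : ⁅bs 2, bs 0⁆ = -(t • bs 2) := by rw [← lie_skew, hxz]
  have hyx : ⁅bs 1, bs 0⁆ = -bs 1 := by rw [← lie_skew, hxy]
  have hn : ∀ n : ℕ, (LieAlgebra.ad R L (bs 0) ^ n) (bs 1) = bs 1 ∧ (LieAlgebra.ad R L (bs 0) ^ n) (bs 2) = t ^ n • bs 2 := fun n => by
    induction n with
    | zero => simp
    | succ n ih =>
      rw [pow_succ', Module.End.mul_apply, Module.End.mul_apply, ih.1, ih.2, map_smul]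
      simp only [LieAlgebra.ad_apply, hxy, hxz, smul_smul, pow_succ]
      exact ⟨trivial, trivial⟩
  constructor
  · rintro ⟨φ⟩
    have h1 := Groth.Agent.PLieLib.lie_map φ (bs 0) (bs 1)
    have h2 := Groth.Agent.PLieLib.lie_map φ (bs 0) (bs 2)
    rw [(hn p).1] at h1
    rw [(hn p).2] at h2
    have hw := bs.sum_repr (φ (bs 0))
    rw [Fin.sum_univ_three] at hw
    rw [← hw] at h1 h2
    simp only [add_lie, smul_lie, lie_self, hxy, hxz, hyz, hzy, smul_zero, add_zero] at h1 h2
    have e1 := congrArg (fun v => bs.repr v 1) h1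
    have e2 := congrArg (fun v => bs.repr v 2) h2
    simp [map_add, map_smul] at e1 e2
    rw [← e2, e1, one_mul]
  · intro ht
    obtain ⟨q, hq⟩ : ∃ q, p = q + 2 := ⟨p - 2, by omega⟩
    obtain ⟨φ, -⟩ := Groth.Agent.PLieLib.exists_pmap (p := p) bs ![bs 0, 0, 0] fun i => bs.ext fun j => by
      fin_cases i
      · fin_cases j
        · show (LieAlgebra.ad R L (bs 0) ^ p) (bs 0) = ⁅bs 0, bs 0⁆
          rw [hq, pow_succ, Module.End.mul_apply, LieAlgebra.ad_apply, lie_self, map_zero]
        · exact (hn p).1.trans hxy.symm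
        · show (LieAlgebra.ad R L (bs 0) ^ p) (bs 2) = ⁅bs 0, bs 2⁆
          rw [(hn p).2, ht, hxz]
      · show (LieAlgebra.ad R L (bs 1) ^ p) (bs j) = LieAlgebra.ad R L 0 (bs j)
        rw [map_zero, hq, pow_add, Module.End.mul_apply, pow_two, Module.End.mul_apply]
        fin_cases j <;> simp [hyx, hyz]
      · show (LieAlgebra.ad R L (bs 2) ^ p) (bs j) = LieAlgebra.ad R L 0 (bs j)
        rw [map_zero, hq, pow_add, Module.End.mul_apply, pow_two, Module.End.mul_apply]
        fin_cases j <;> simp [hzx, hzy]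
    exact ⟨φ⟩

end Groth.Agent.S13776
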