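-- statement PLie.GrothFrozen.S13777 (Groth/Statements/S13777.lean; the theorem PLie.isEmpty_pmap_s3_charTwo);
import Groth.Statements.S13777
import Groth.Agent.PLieLib.Basic

set_option autoImplicit false
universe u v
open PLie

namespace Groth.Agent.S13777

/-- Let R be a commutative ring of characteristic 2 and L a Lie algebra over R, free as a module with
basis x = bs 0, y = bs 1, z = bs 2 and brackets [x,y] = z, [x,z] = −x, [y,z] = y. Then L carries no
2-mapping. (The published statement is the corresponding entry of the classification table over an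
algebraically closed field of characteristic 2; this row states it over every commutative ring of
characteristic 2.) -/
theorem result (R : Type u) [CommRing R] [CharP R 2]
    (L : Type v) [LieRing L] [LieAlgebra R L] (bs : Module.Basis (Fin 3) R L)
    (hxy : ⁅bs 0, bs 1⁆ = bs 2) (hxz : ⁅bs 0, bs 2⁆ = -bs 0) (hyz : ⁅bs 1, bs 2⁆ = bs 1) :
    IsEmpty (PLie.PMap R 2 L) := by
  haveI := CharP.nontrivial_of_char_ne_one (R := R) (show (2 : ℕ) ≠ 1 by omega)
  refine ⟨fun φ => ?_⟩
  have h := Groth.Agent.PLieLib.lie_map φ (bs 0) (bs 1)
  rw [pow_two, Module.End.mul_apply, LieAlgebra.ad_apply, LieAlgebra.ad_apply, hxy, hxz] at h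
  have hw := bs.sum_repr (φ (bs 0))
  rw [Fin.sum_univ_three] at hw
  have hzy : ⁅bs 2, bs 1⁆ = -bs 1 := by rw [← lie_skew, hyz]
  rw [← hw] at h
  simp only [add_lie, smul_lie, lie_self, hxy, hzy, smul_zero, add_zero, smul_neg] at h
  have e := congrArg (fun v => bs.repr v 0) h
  simp [map_add, map_smul] at e

end Groth.Agent.S13777
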