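-- statement PLie.GrothFrozen.S13778 (Groth/Statements/S13778.lean; the theorem PLie.nonempty_pmap_l3_deformation_iff);
import Groth.Statements.S13778
import Mathlib
import Groth.Agent.PLieLib.Matrix3

set_option autoImplicit false
set_option maxHeartbeats 2000000
universe u v
open PLie

namespace Groth.Agent.S13778

open DualNumber in
/-- Let K be a field of prime characteristic p, K[ε] the ring of dual numbers (taken with its
characteristic-p structure), t ∈ K with t ^ p = t (an element of the prime field), and a, …, i ∈ K.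
Let L be a Lie algebra over K[ε], free as a module with basis x = bs 0, y = bs 1, z = bs 2 and
brackets [x,y] = aε x + (1 + bε) y + cε z, [x,z] = dε x + eε y + (t + fε) z, [y,z] = gε x + hε y +
iε z. Then L carries a p-mapping over K[ε] if and only if b t = f, c = e = 0 when t = 1, and g = 0
when p = 2. (The published statement determines the singular locus of the restrictable locus in the
centreless stratum of the moduli scheme of based three-dimensional Lie algebras, for t non-zero, and
the rank-one-centre stratum treats t = 0; this row states the restrictability criterion for the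
first-order deformations of l_t that the proofs compute, over any field of characteristic p in place
of the prime field and for every t in the prime field.) -/
theorem result (K : Type u) [Field K] (p : ℕ) [Fact p.Prime] [CharP K p]
    [CharP (DualNumber K) p] (t a b c d e f g h i : K) (ht : t ^ p = t)
    (L : Type v) [LieRing L] [LieAlgebra (DualNumber K) L] (bs : Module.Basis (Fin 3) (DualNumber K) L)
    (hxy : ⁅bs 0, bs 1⁆ = (a • ε : DualNumber K) • bs 0 + (1 + b • ε : DualNumber K) • bs 1 + (c • ε : DualNumber K) • bs 2)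
    (hxz : ⁅bs 0, bs 2⁆ = (d • ε : DualNumber K) • bs 0 + (e • ε : DualNumber K) • bs 1 +
      (algebraMap K (DualNumber K) t + f • ε) • bs 2)
    (hyz : ⁅bs 1, bs 2⁆ = (g • ε : DualNumber K) • bs 0 + (h • ε : DualNumber K) • bs 1 + (i • ε : DualNumber K) • bs 2) :
    Nonempty (PLie.PMap (DualNumber K) p L) ↔ (b * t = f ∧ (t = 1 → c = 0 ∧ e = 0) ∧ (p = 2 → g = 0)) := by
  classical
  let M : Fin 3 → Matrix (Fin 3) (Fin 3) (DualNumber K) :=
    ![!![0, a • ε, d • ε; 0, 1 + b • ε, e • ε; 0, c • ε, algebraMap K (DualNumber K) t + f • ε],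
      !![-(a • ε), 0, g • ε; -(1 + b • ε), 0, h • ε; -(c • ε), 0, i • ε],
      !![-(d • ε), -(g • ε), 0; -(e • ε), -(h • ε), 0; -(algebraMap K (DualNumber K) t + f • ε), -(i • ε), 0]]
  have hyx := (lie_skew (bs 1) (bs 0)).symm
  have hzx := (lie_skew (bs 2) (bs 0)).symm
  have hzy := (lie_skew (bs 2) (bs 1)).symm
  rw [hxy] at hyx
  rw [hxz] at hzx
  rw [hyz] at hzy
  have hM : ∀ j, LinearMap.toMatrixAlgEquiv bs (LieAlgebra.ad (DualNumber K) L (bs j)) = M j := by
    intro j
    ext1 r s
    rw [LinearMap.toMatrixAlgEquiv_apply]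
    fin_cases j <;> fin_cases r <;> fin_cases s <;>
      simp [M, LieAlgebra.ad_apply, hxy, hxz, hyz, hyx, hzx, hzy]
  -- Jacobi
  have hJ := fun r => congrArg (fun v => TrivSqZeroExt.snd (bs.repr v r)) (lie_jacobi (bs 0) (bs 1) (bs 2))
  have j0 := hJ 0
  simp [hxy, hxz, hyz, hyx, hzx, hzy, lie_add, lie_smul, map_add, map_smul, DualNumber.snd_eps, DualNumber.fst_eps,
    TrivSqZeroExt.algebraMap_eq_inl] at j0
  rw [PLieLib.nonempty_pmap_iff_matrix bs M hM]
  have hp2 := (Fact.out : p.Prime).two_le
  -- the powers of `ad x`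
  let lam : Fin 3 → K := ![0, 1, t]
  have hlam : ∀ r, lam r ^ p = lam r := fun r => by
    fin_cases r
    · simp [lam, (Fact.out : p.Prime).ne_zero]
    · simp [lam]
    · simpa [lam] using ht
  let B : Fin 3 → Fin 3 → K := fun r s => TrivSqZeroExt.snd (M 0 r s)
  have hfst0 : ∀ r s, TrivSqZeroExt.fst (M 0 r s) = if r = s then lam r else 0 := by
    intro r s
    fin_cases r <;> fin_cases s <;> simp [M, lam, TrivSqZeroExt.algebraMap_eq_inl, DualNumber.fst_eps]
  have hpow : ∀ n r s, TrivSqZeroExt.fst ((M 0 ^ n) r s) = (if r = s then lam r ^ n else 0) ∧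
      TrivSqZeroExt.snd ((M 0 ^ n) r s) = B r s * ∑ l ∈ Finset.range n, lam r ^ l * lam s ^ (n - 1 - l) := by
    intro n
    induction n with
    | zero => intro r s; by_cases hrs : r = s <;> simp [hrs]
    | succ n ih =>
      intro r s
      rw [pow_succ, Matrix.mul_apply]
      constructor
      · rw [TrivSqZeroExt.fst_sum]
        simp only [TrivSqZeroExt.fst_mul, (ih r _).1, hfst0]
        rw [Finset.sum_eq_single r (fun x _ hx => by rw [if_neg (Ne.symm hx), zero_mul]) (by simp)]
        by_cases hrs : r = s
        · subst hrs; simp [pow_succ]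
        · simp [hrs]
      · rw [TrivSqZeroExt.snd_sum]
        simp only [TrivSqZeroExt.snd_mul, (ih r _).1, (ih r _).2, hfst0, smul_eq_mul, MulOpposite.smul_eq_mul_unop,
          MulOpposite.unop_op, Finset.sum_add_distrib]
        rw [Finset.sum_eq_single r (fun x _ hx => by rw [if_neg (Ne.symm hx), zero_mul]) (by simp),
          Finset.sum_eq_single s (fun x _ hx => by rw [if_neg hx, mul_zero]) (by simp), if_pos rfl, if_pos rfl]
        rw [Finset.sum_range_succ, Nat.add_sub_cancel, Nat.sub_self, pow_zero, mul_one, mul_add, Finset.mul_sum, Finset.mul_sum,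
          Finset.sum_mul, add_comm (Finset.sum _ _)]
        congr 1
        · exact mul_comm _ _
        · refine Finset.sum_congr rfl fun l hl => ?_
          rw [Finset.mem_range] at hl
          rw [show n - l = n - 1 - l + 1 by omega, pow_succ]
          ring
  have hsum : ∀ r s, (∑ l ∈ Finset.range p, lam r ^ l * lam s ^ (p - 1 - l)) = if lam r = lam s then 0 else 1 := by
    intro r s
    have h := geom_sum₂_mul (lam r) (lam s) p
    rw [hlam, hlam] at h
    split_ifs with he
    · rw [he, geom_sum₂_self, CharP.cast_eq_zero K p, zero_mul]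
    · exact mul_right_cancel₀ (sub_ne_zero.2 he) (h.trans (one_mul _).symm)
  have hP : ∀ r s, (M 0 ^ p) r s = TrivSqZeroExt.inl (if r = s then lam r else 0) +
      TrivSqZeroExt.inr (if lam r = lam s then 0 else B r s) := by
    intro r s
    ext
    · rw [(hpow p r s).1, hlam]; simp; split_ifs <;> simp [DualNumber.fst_eps]
    · rw [(hpow p r s).2, hsum]; simp [mul_ite]; split_ifs <;> simp [DualNumber.snd_eps]
  constructor
  · intro hall
    obtain ⟨w, hw⟩ := hall 0
    have e := fun (r s : Fin 3) => congrArg TrivSqZeroExt.fst ((hP r s).symm.trans (congrFun (congrFun hw r) s))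
    have q := fun (r s : Fin 3) => congrArg TrivSqZeroExt.snd ((hP r s).symm.trans (congrFun (congrFun hw r) s))
    have e11 := e 1 1; have e10 := e 1 0; have e20 := e 2 0
    simp [M, lam, apply_ite TrivSqZeroExt.fst, DualNumber.fst_eps, TrivSqZeroExt.algebraMap_eq_inl] at e11 e10 e20
    have q11 := q 1 1; have q22 := q 2 2; have q12 := q 1 2; have q21 := q 2 1
    simp [M, B, lam, apply_ite TrivSqZeroExt.snd, DualNumber.fst_eps, DualNumber.snd_eps, TrivSqZeroExt.algebraMap_eq_inl, ← e11, e10] at q11 q22 q12 q21
    refine ⟨?_, ?_, ?_⟩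
    · rcases e20 with h0 | h0
      · simp only [h0] at q11 q22
        linear_combination q22 - t * q11
      · subst h0
        have hd := hJ 1
        have hi := hJ 2
        simp [hxy, hxz, hyz, hyx, hzx, hzy, lie_add, lie_smul, map_add, map_smul, DualNumber.snd_eps, DualNumber.fst_eps,
          TrivSqZeroExt.algebraMap_eq_inl] at hd hi
        simp at q22
        linear_combination q22
    · intro ht1
      subst ht1
      simp at q12 q21 e20
      exact ⟨by linear_combination -q21 + i * e20, by linear_combination -q12⟩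
    · intro hp
      subst hp
      obtain ⟨w', hw'⟩ := hall 1
      have f10 := congrArg TrivSqZeroExt.fst (congrFun (congrFun hw' 1) 1)
      have f11 := congrArg TrivSqZeroExt.fst (congrFun (congrFun hw' 1) 0)
      simp [M, sq, Matrix.mul_apply, Fin.sum_univ_three, DualNumber.fst_eps, TrivSqZeroExt.algebraMap_eq_inl] at f10 f11
      have g12 := congrArg TrivSqZeroExt.snd (congrFun (congrFun hw' 1) 2)
      simp [M, sq, Matrix.mul_apply, Fin.sum_univ_three, DualNumber.fst_eps, DualNumber.snd_eps,
        TrivSqZeroExt.algebraMap_eq_inl, ← f10, f11] at g12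
      first
        | exact g12
        | linear_combination g12
        | linear_combination -g12
  · rintro ⟨hbf, h1, h2g⟩ j
    fin_cases j
    · have htl : t = 0 → d = 0 := fun h0 => by
        have hd := hJ 1
        simp [hxy, hxz, hyz, hyx, hzx, hzy, lie_add, lie_smul, map_add, map_smul, DualNumber.snd_eps, DualNumber.fst_eps,
          TrivSqZeroExt.algebraMap_eq_inl, h0] at hd
        linear_combination hd
      refine ⟨![1 - b • ε, 0, 0], ?_⟩
      ext1 r s
      show (M 0 ^ p) r s = _
      rw [hP]
      by_cases ht1 : t = 1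
      · obtain ⟨rfl, rfl⟩ := h1 ht1
        subst ht1
        ext <;> fin_cases r <;> fin_cases s <;>
          simp [M, B, lam, DualNumber.fst_eps, DualNumber.snd_eps, TrivSqZeroExt.algebraMap_eq_inl, ← hbf]
      by_cases ht0 : t = 0
      · obtain rfl := htl ht0
        subst ht0
        ext <;> fin_cases r <;> fin_cases s <;>
          simp [M, B, lam, DualNumber.fst_eps, DualNumber.snd_eps, TrivSqZeroExt.algebraMap_eq_inl, ← hbf]
      ext <;> fin_cases r <;> fin_cases s <;>
        simp [M, B, lam, DualNumber.fst_eps, DualNumber.snd_eps, TrivSqZeroExt.algebraMap_eq_inl, ← hbf, ht0, ht1, Ne.symm ht0, Ne.symm ht1] <;> ring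
    · by_cases h2 : p = 2
      · subst h2
        obtain rfl := h2g rfl
        refine ⟨![0, -(a • ε), 0], ?_⟩
        ext r s <;> fin_cases r <;> fin_cases s <;>
          simp [M, sq, Matrix.mul_apply, Fin.sum_univ_three, DualNumber.fst_eps, DualNumber.snd_eps, TrivSqZeroExt.algebraMap_eq_inl] <;> ring
      · refine ⟨0, ?_⟩
        obtain ⟨m, hm⟩ : ∃ m, p = m + 3 := ⟨p - 3, by omega⟩
        have h3 : ∀ N : Matrix (Fin 3) (Fin 3) (DualNumber K), N ^ 3 = 0 → N ^ p = 0 := fun N hN => by
          rw [hm, pow_add, hN, mul_zero]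
        simp only [Pi.zero_apply, zero_smul, add_zero]
        refine h3 _ ?_
        ext r s <;> fin_cases r <;> fin_cases s <;>
          simp [M, pow_succ, Matrix.mul_apply, Fin.sum_univ_three, DualNumber.fst_eps, DualNumber.snd_eps, TrivSqZeroExt.algebraMap_eq_inl] <;> ring
    · by_cases h2 : p = 2
      · subst h2
        obtain rfl := h2g rfl
        refine ⟨![0, 0, -(d • ε)], ?_⟩
        ext r s <;> fin_cases r <;> fin_cases s <;>
          simp [M, sq, Matrix.mul_apply, Fin.sum_univ_three, DualNumber.fst_eps, DualNumber.snd_eps, TrivSqZeroExt.algebraMap_eq_inl] <;> ring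
      · refine ⟨0, ?_⟩
        obtain ⟨m, hm⟩ : ∃ m, p = m + 3 := ⟨p - 3, by omega⟩
        have h3 : ∀ N : Matrix (Fin 3) (Fin 3) (DualNumber K), N ^ 3 = 0 → N ^ p = 0 := fun N hN => by
          rw [hm, pow_add, hN, mul_zero]
        simp only [Pi.zero_apply, zero_smul, add_zero]
        refine h3 _ ?_
        ext r s <;> fin_cases r <;> fin_cases s <;>
          simp [M, pow_succ, Matrix.mul_apply, Fin.sum_univ_three, DualNumber.fst_eps, DualNumber.snd_eps, TrivSqZeroExt.algebraMap_eq_inl] <;> ring

end Groth.Agent.S13778
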