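import Groth.Statements.S13781
import Mathlib
import Groth.Agent.S0564
import Groth.Agent.CAlgReg.Basic
import Groth.Agent.DimTheory.Algebra

set_option autoImplicit false
universe u
open CAlg

namespace Groth.Agent.S13781

/-- Let A be a regular local ring, s a non-zero element of A such that A/(s) is regular, and e a
positive integer invertible in A. Then A[t]/(t^e - s) is regular. (Regularity of a ring is taken
throughout as: Noetherian, with every localization at a prime ideal a regular local ring; the
hypotheses on A and on A/(s) and the conclusion on A[t]/(t^e - s) are all read this way, which for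
the local rings A and A/(s) is the usual notion once localizations of regular local rings are known
to be regular.) -/
theorem result (A : Type u) [CommRing A] [IsLocalRing A]
    [IsRegularRing A] (s : A) (hs : s ≠ 0) (hreg : IsRegularRing (A ⧸ Ideal.span {s}))
    (e : ℕ) (he : 0 < e) (heu : IsUnit (e : A)) :
    IsRegularRing (AdjoinRoot (Polynomial.X ^ e - Polynomial.C s)) := by
  classical
  haveI : IsRegularLocalRing A := IsRegularLocalRing.of_isRegularRing_of_isLocalRing A
  set f : Polynomial A := Polynomial.X ^ e - Polynomial.C s with hf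
  have hmon : f.Monic := Polynomial.monic_X_pow_sub_C s he.ne'
  haveI : Module.Free A (AdjoinRoot f) := hmon.free_adjoinRoot
  haveI : Module.Finite A (AdjoinRoot f) := hmon.finite_adjoinRoot
  haveI : IsNoetherianRing (AdjoinRoot f) := IsNoetherianRing.of_finite A (AdjoinRoot f)
  have hdeg : f.natDegree = e := Polynomial.natDegree_X_pow_sub_C
  haveI : IsDomain A := CAlgReg.isDomain
  haveI : Nontrivial (AdjoinRoot f) := AdjoinRoot.nontrivial f (by
    rw [Polynomial.degree_eq_natDegree hmon.ne_zero, hdeg]; exact_mod_cast he.ne')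
  haveI : FaithfulSMul A (AdjoinRoot f) := inferInstance
  have hroot : (AdjoinRoot.root f) ^ e = algebraMap A (AdjoinRoot f) s := by
    have h := AdjoinRoot.eval₂_root f
    rw [hf, Polynomial.eval₂_sub, Polynomial.eval₂_X_pow, Polynomial.eval₂_C, sub_eq_zero] at h
    exact h
  by_cases hsu : IsUnit s
  · -- the etale case
    have heB : IsUnit (AdjoinRoot.mk f (Polynomial.derivative f)) := by
      rw [hf, Polynomial.derivative_sub, Polynomial.derivative_X_pow, Polynomial.derivative_C, sub_zero,
        map_mul, map_pow, AdjoinRoot.mk_C, AdjoinRoot.mk_X]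
      refine IsUnit.mul ?_ (IsUnit.pow _ ?_)
      · simpa using (heu.map (AdjoinRoot.of f))
      · refine (isUnit_pow_iff he.ne').1 ?_
        rw [hroot]; exact hsu.map _
    let P : StandardEtalePair A := ⟨f, hmon, Polynomial.derivative f, ⟨1, 0, 1, by ring⟩⟩
    haveI : Algebra.Etale A (AdjoinRoot f) :=
      Algebra.Etale.of_equiv (P.equivAwayAdjoinRoot.trans
        ((IsLocalization.atUnit (AdjoinRoot f) (Localization.Away (AdjoinRoot.mk f (Polynomial.derivative f)))
          (AdjoinRoot.mk f (Polynomial.derivative f)) heB).restrictScalars A).symm)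
    rw [isRegularRing_iff]
    intro q _
    let p := q.under A
    letI := Localization.AtPrime.algebraOfLiesOver p q
    haveI : IsLocalHom (algebraMap (Localization.AtPrime p) (Localization.AtPrime q)) := inferInstance
    haveI : IsNoetherianRing (Localization.AtPrime q) := IsLocalization.isNoetherianRing q.primeCompl _ inferInstance
    haveI : IsRegularLocalRing (Localization.AtPrime p) := Groth.Agent.S0564.result A p
    haveI : Algebra.FormallyUnramified (Localization.AtPrime p) (Localization.AtPrime q) :=
      Algebra.FormallyUnramified.of_restrictScalars A _ _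
    haveI : Algebra.EssFiniteType (Localization.AtPrime p) (Localization.AtPrime q) :=
      Algebra.EssFiniteType.of_comp A _ _
    refine IsRegularLocalRing.of_spanFinrank_maximalIdeal_le _ ?_
    rw [← Algebra.FormallyUnramified.map_maximalIdeal (R := Localization.AtPrime p) (S := Localization.AtPrime q)]
    refine (WithBot.coe_le_coe.2 (Nat.cast_le.2 (Ideal.spanFinrank_map_le_of_fg _ (IsNoetherian.noetherian _)))).trans ?_
    refine le_of_eq_of_le (IsRegularLocalRing.spanFinrank_maximalIdeal (R := Localization.AtPrime p)) ?_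
    rw [IsLocalization.AtPrime.ringKrullDim_eq_height p, IsLocalization.AtPrime.ringKrullDim_eq_height q]
    refine WithBot.coe_le_coe.2 ?_
    rw [(⟨p, inferInstance⟩ : PrimeSpectrum A).height_eq_orderHeight, (⟨q, inferInstance⟩ : PrimeSpectrum (AdjoinRoot f)).height_eq_orderHeight]
    refine Order.height_le fun l hl => ?_
    haveI : q.LiesOver l.last.asIdeal := by rw [hl]; exact Ideal.over_under q
    obtain ⟨L, hlen, hlast, -⟩ := Ideal.exists_ltSeries_of_hasGoingDown l q
    rw [← hlen]
    exact Order.length_le_height hlast.le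
  · -- the local case
    have hsm : s ∈ IsLocalRing.maximalIdeal A := (IsLocalRing.mem_maximalIdeal s).2 hsu
    let M : Ideal (AdjoinRoot f) :=
      (IsLocalRing.maximalIdeal A).map (algebraMap A (AdjoinRoot f)) ⊔ Ideal.span {AdjoinRoot.root f}
    have hM : ∀ N : Ideal (AdjoinRoot f), N.IsMaximal → M ≤ N := by
      intro N hN
      have hu := IsLocalRing.eq_maximalIdeal (Ideal.isMaximal_comap_of_isIntegral_of_isMaximal (R := A) N)
      refine sup_le (by rw [Ideal.map_le_iff_le_comap, hu]) ?_
      rw [Ideal.span_singleton_le_iff_mem]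
      refine hN.isPrime.mem_of_pow_mem e ?_
      rw [hroot]
      rwa [← Ideal.mem_comap, hu]
    have hsurj : ∀ x : AdjoinRoot f, ∃ a : A, x - algebraMap A _ a ∈ M := by
      intro x
      obtain ⟨g, rfl⟩ := AdjoinRoot.mk_surjective x
      refine ⟨g.coeff 0, Ideal.mem_sup_right ?_⟩
      rw [Ideal.mem_span_singleton]
      refine ⟨AdjoinRoot.mk f g.divX, ?_⟩
      have h := congrArg (AdjoinRoot.mk f) (Polynomial.X_mul_divX_add g)
      rw [map_add, map_mul, AdjoinRoot.mk_X, AdjoinRoot.mk_C] at h
      rw [AdjoinRoot.algebraMap_eq, ← h, add_sub_cancel_right]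
    have hMm : ∀ N : Ideal (AdjoinRoot f), N.IsMaximal → N = M := by
      intro N hN
      refine le_antisymm (fun x hx => ?_) (hM N hN)
      obtain ⟨a, ha⟩ := hsurj x
      have hu := IsLocalRing.eq_maximalIdeal (Ideal.isMaximal_comap_of_isIntegral_of_isMaximal (R := A) N)
      have : algebraMap A _ a ∈ N := by simpa using sub_mem hx (hM N hN ha)
      rw [← Ideal.mem_comap, hu] at this
      simpa using add_mem ha (Ideal.mem_sup_left (Ideal.mem_map_of_mem (algebraMap A (AdjoinRoot f)) this) : algebraMap A (AdjoinRoot f) a ∈ M)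
    haveI : IsLocalRing (AdjoinRoot f) := by
      obtain ⟨N, hN⟩ := Ideal.exists_maximal (AdjoinRoot f)
      exact IsLocalRing.of_unique_max_ideal ⟨M, hMm N hN ▸ hN, hMm⟩
    obtain ⟨d, hd⟩ := CAlgReg.exists_dim (R := A)
    haveI : IsDomain A := CAlgReg.isDomain
    have hdimq := ringKrullDim_quotient_span_singleton_succ_eq_ringKrullDim_of_mem_jacobson (R := A)
      (x := s) (IsSMulRegular.of_ne_zero hs) (by rwa [IsLocalRing.ringJacobson_eq_maximalIdeal])
    haveI : Nontrivial (A ⧸ Ideal.span {s}) := Ideal.Quotient.nontrivial_iff.2 fun h => hsu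
      (Ideal.span_singleton_eq_top.1 h)
    haveI : IsLocalRing (A ⧸ Ideal.span {s}) :=
      IsLocalRing.of_surjective' (Ideal.Quotient.mk _) Ideal.Quotient.mk_surjective
    haveI : IsRegularLocalRing (A ⧸ Ideal.span {s}) := IsRegularLocalRing.of_isRegularRing_of_isLocalRing _
    obtain ⟨d', hd'⟩ := CAlgReg.exists_dim (R := A ⧸ Ideal.span {s})
    have hdd : d' + 1 = d := by
      rw [hd', hd] at hdimq
      exact_mod_cast hdimq
    have hrank : (IsLocalRing.maximalIdeal (A ⧸ Ideal.span {s})).spanFinrank = d' := by
      have := IsRegularLocalRing.spanFinrank_maximalIdeal (R := A ⧸ Ideal.span {s})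
      rw [hd'] at this
      exact_mod_cast this
    obtain ⟨G, hGc, hGs⟩ := Submodule.FG.exists_span_finset_card_eq_spanFinrank
      (IsNoetherian.noetherian (IsLocalRing.maximalIdeal (A ⧸ Ideal.span {s})))
    choose g hg using fun y : A ⧸ Ideal.span {s} => Ideal.Quotient.mk_surjective y
    let S : Finset (AdjoinRoot f) :=
      insert (AdjoinRoot.root f) ((G.image g).image (algebraMap A (AdjoinRoot f)))
    have hSM : IsLocalRing.maximalIdeal (AdjoinRoot f) ≤ Ideal.span (S : Set (AdjoinRoot f)) := by
      rw [hMm _ (IsLocalRing.maximalIdeal.isMaximal _)]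
      have hroot' : AdjoinRoot.root f ∈ Ideal.span (S : Set (AdjoinRoot f)) :=
        Ideal.subset_span (Finset.mem_coe.2 (Finset.mem_insert_self _ _))
      refine sup_le ?_ ((Ideal.span_singleton_le_iff_mem _).2 hroot')
      rw [Ideal.map_le_iff_le_comap]
      intro a ha
      have h1 : Ideal.Quotient.mk (Ideal.span {s}) a ∈ Ideal.span (G : Set (A ⧸ Ideal.span {s})) := by
        rw [show Ideal.span (G : Set (A ⧸ Ideal.span {s})) = IsLocalRing.maximalIdeal _ from hGs, IsLocalRing.mem_maximalIdeal]
        intro hu
        refine ((IsLocalRing.mem_maximalIdeal a).1 ha) ?_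
        obtain ⟨b, hb⟩ := hu.exists_right_inv
        obtain ⟨b, rfl⟩ := Ideal.Quotient.mk_surjective b
        rw [← map_mul, ← (Ideal.Quotient.mk (Ideal.span {s})).map_one, Ideal.Quotient.eq] at hb
        have h1' : a * b - 1 ∈ IsLocalRing.maximalIdeal A :=
          (Ideal.span_singleton_le_iff_mem _).2 hsm hb
        by_contra hna
        have h2' : (1 : A) ∈ IsLocalRing.maximalIdeal A := by
          simpa using sub_mem (Ideal.mul_mem_right b _ ((IsLocalRing.mem_maximalIdeal a).2 hna)) h1'
        exact (IsLocalRing.maximalIdeal.isMaximal A).ne_top ((Ideal.eq_top_iff_one _).2 h2')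
      have h2 : Ideal.Quotient.mk (Ideal.span {s}) a ∈
          (Ideal.span ((G.image g : Finset A) : Set A)).map (Ideal.Quotient.mk (Ideal.span {s})) := by
        rw [Ideal.map_span, Finset.coe_image, Set.image_image]
        simpa [hg] using h1
      rw [← Ideal.mem_comap, Ideal.comap_map_of_surjective _ Ideal.Quotient.mk_surjective,
        ← RingHom.ker_eq_comap_bot, Ideal.mk_ker] at h2
      rw [Ideal.mem_comap]
      obtain ⟨u, hu, w, hw, rfl⟩ := Submodule.mem_sup.1 h2
      rw [map_add]
      refine add_mem ?_ ?_
      · refine Ideal.span_mono ?_ (Ideal.map_span (algebraMap A (AdjoinRoot f)) _ ▸ Ideal.mem_map_of_mem _ hu)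
        intro x hx
        simp only [S, Finset.coe_insert, Finset.coe_image] at hx ⊢
        exact Set.mem_insert_of_mem _ hx
      · obtain ⟨c, rfl⟩ := Ideal.mem_span_singleton'.1 hw
        rw [map_mul, ← hroot]
        exact Ideal.mul_mem_left _ _ (Ideal.pow_mem_of_mem _ hroot' e he)
    haveI : IsRegularLocalRing (AdjoinRoot f) := by
      refine IsRegularLocalRing.of_spanFinrank_maximalIdeal_le _ ?_
      rw [Groth.Agent.DimTheory.ringKrullDim_eq_of_integral A (AdjoinRoot f), hd]
      have hle : Ideal.span (S : Set (AdjoinRoot f)) ≤ IsLocalRing.maximalIdeal (AdjoinRoot f) := by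
        rw [hMm _ (IsLocalRing.maximalIdeal.isMaximal _), Ideal.span_le]
        intro x hx
        simp only [S, Finset.coe_insert, Finset.coe_image, Set.mem_insert_iff, Set.mem_image] at hx
        rcases hx with rfl | ⟨_, ⟨y, hy, rfl⟩, rfl⟩
        · exact Ideal.mem_sup_right (Ideal.mem_span_singleton_self _)
        · refine Ideal.mem_sup_left (Ideal.mem_map_of_mem _ ?_)
          rw [IsLocalRing.mem_maximalIdeal]
          intro hu
          refine (IsLocalRing.mem_maximalIdeal y).1 ?_ (hg y ▸ hu.map _)
          rw [← hGs]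
          exact Submodule.subset_span hy
      rw [le_antisymm hSM hle]
      refine (WithBot.coe_le_coe.2 (Nat.cast_le.2 ?_))
      refine (Submodule.spanFinrank_span_le_ncard_of_finite S.finite_toSet).trans ?_
      rw [Set.ncard_coe_finset, ← hdd, ← hrank, ← hGc]
      exact (Finset.card_insert_le _ _).trans (Nat.add_le_add_right (Finset.card_image_le.trans Finset.card_image_le) 1)
    rw [isRegularRing_iff]
    intro q _
    exact Groth.Agent.S0564.result (AdjoinRoot f) q

end Groth.Agent.S13781
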