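import Groth.Statements.S13782
import Mathlib
import Groth.Agent.SmoothReduced.Basic

set_option autoImplicit false
universe u
open CAlg

namespace Groth.Agent.S13782

open Polynomial

theorem exists_deriv_one {k P : Type u} [CommRing k] [CommRing P] [Algebra k P] (f : P)
    (hf : ∀ x, f * x = 0 → x = 0) [Algebra.FormallySmooth k (P ⧸ Ideal.span {f})] :
    ∃ δ : Derivation k P (P ⧸ Ideal.span {f}), δ f = 1 := by
  let I2 : Ideal P := Ideal.span {f * f}
  let J : Ideal (P ⧸ I2) := (Ideal.span {f}).map (Ideal.Quotient.mk I2)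
  have hle : I2 ≤ Ideal.span {f} := Ideal.span_le.mpr (by simp [Ideal.mem_span_singleton])
  have hJ : IsNilpotent J := ⟨2, by
    rw [← Ideal.map_pow, pow_two, Ideal.span_singleton_mul_span_singleton, Ideal.zero_eq_bot]
    exact Ideal.map_quotient_self I2⟩
  let g₀ : (P ⧸ Ideal.span {f}) →ₐ[k] (P ⧸ I2) ⧸ J :=
    Ideal.Quotient.liftₐ _ ((Ideal.Quotient.mkₐ k J).comp (Ideal.Quotient.mkₐ k I2)) fun a ha => by
      exact Ideal.Quotient.eq_zero_iff_mem.mpr (Ideal.mem_map_of_mem _ ha)
  obtain ⟨σ, hσ⟩ := Algebra.FormallySmooth.exists_lift J hJ g₀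
  let g : P →ₐ[k] P ⧸ I2 := σ.comp (Ideal.Quotient.mkₐ k _)
  have hd : ∀ x : P, ∃ r : P, Ideal.Quotient.mk I2 x - g x = Ideal.Quotient.mk I2 (f * r) := by
    intro x
    have h1 : Ideal.Quotient.mk J (g x) = Ideal.Quotient.mk J (Ideal.Quotient.mk I2 x) :=
      AlgHom.congr_fun hσ (Ideal.Quotient.mk _ x)
    have h2 := Ideal.Quotient.eq.mp h1.symm
    obtain ⟨y, hy⟩ := Ideal.Quotient.mk_surjective (Ideal.Quotient.mk I2 x - g x)
    rw [← hy] at h2
    have h3 : y ∈ Ideal.span {f} := by
      have := Ideal.mem_comap.mpr h2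
      rwa [Ideal.comap_map_of_surjective _ Ideal.Quotient.mk_surjective, ← RingHom.ker_eq_comap_bot,
        Ideal.mk_ker, sup_eq_left.mpr hle] at this
    obtain ⟨r, rfl⟩ := Ideal.mem_span_singleton.mp h3
    exact ⟨r, hy.symm⟩
  choose r hr using hd
  let q := Ideal.Quotient.mk (Ideal.span {f})
  have uniq : ∀ u v : P, Ideal.Quotient.mk I2 (f * u) = Ideal.Quotient.mk I2 (f * v) → q u = q v := by
    intro u v h
    obtain ⟨c, hc⟩ := Ideal.mem_span_singleton.mp (Ideal.Quotient.eq.mp h)
    refine Ideal.Quotient.eq.mpr (Ideal.mem_span_singleton.mpr ⟨c, ?_⟩)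
    rw [← sub_eq_zero]
    exact hf _ (by linear_combination hc)
  let δl : P →ₗ[k] P ⧸ Ideal.span {f} :=
    { toFun := fun x => q (r x)
      map_add' := fun x y => by
        rw [← map_add]; apply uniq
        rw [mul_add, map_add, ← hr, ← hr, ← hr, map_add, map_add]; ring
      map_smul' := fun c x => by
        change q (r (c • x)) = c • q (r x)
        rw [show c • q (r x) = q (c • r x) from (map_smul (Ideal.Quotient.mkₐ k (Ideal.span {f})) c (r x)).symm]
        apply uniq
        rw [← hr, Algebra.smul_def, Algebra.smul_def, mul_left_comm, map_mul _ (algebraMap k P c),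
          map_mul (Ideal.Quotient.mk I2) (algebraMap k P c) (f * r x), ← hr, map_mul g, AlgHom.commutes, mul_sub]
        rfl }
  refine ⟨Derivation.mk' δl fun x y => ?_, ?_⟩
  · change q (r (x * y)) = x • q (r y) + y • q (r x)
    rw [Algebra.smul_def, Algebra.smul_def, Ideal.Quotient.algebraMap_eq, ← map_mul, ← map_mul, ← map_add]
    apply uniq
    rw [mul_add, map_add, ← hr, mul_left_comm f x, mul_left_comm f y, map_mul _ x (f * r y),
      map_mul _ y (f * r x), ← hr, ← hr, map_mul (Ideal.Quotient.mk I2) x y, map_mul g]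
    have h0 : (Ideal.Quotient.mk I2 x - g x) * (Ideal.Quotient.mk I2 y - g y) = 0 := by
      rw [hr, hr, ← map_mul, Ideal.Quotient.eq_zero_iff_mem]
      exact Ideal.mem_span_singleton.mpr ⟨r x * r y, by ring⟩
    linear_combination (-1 : P ⧸ I2) * h0
  · change q (r f) = 1
    rw [← map_one q]
    apply uniq
    rw [← hr, mul_one]
    change Ideal.Quotient.mk I2 f - σ (Ideal.Quotient.mk (Ideal.span {f}) f) = _
    rw [Ideal.Quotient.eq_zero_iff_mem.mpr (Ideal.mem_span_singleton_self f), map_zero, sub_zero]

/-- a derivation into the quotient lifts to the ring itself as `Ω` is projective -/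
theorem exists_unit_deriv {k A : Type u} [CommRing k] [CommRing A] [Algebra k A]
    [Algebra.FormallySmooth k A] (s : A) (δ : Derivation k A (A ⧸ Ideal.span {s})) (hδ : δ s = 1) :
    ∃ (D : Derivation k A A) (a : A), D s + a * s = 1 := by
  obtain ⟨l, hl⟩ := Module.projective_lifting_property
    ((Ideal.span {s}).mkQ : A →ₗ[A] A ⧸ Ideal.span {s}) δ.liftKaehlerDifferential (Submodule.mkQ_surjective _)
  refine ⟨(KaehlerDifferential.linearMapEquivDerivation k A) l, ?_⟩
  have h : Ideal.Quotient.mk (Ideal.span {s}) (l (KaehlerDifferential.D k A s)) = 1 := by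
    have := LinearMap.congr_fun hl (KaehlerDifferential.D k A s)
    rw [δ.liftKaehlerDifferential_comp_D, hδ] at this
    exact this
  rw [← map_one (Ideal.Quotient.mk (Ideal.span {s})), Ideal.Quotient.eq] at h
  obtain ⟨c, hc⟩ := Ideal.mem_span_singleton.mp h
  exact ⟨-c, by
    change l (KaehlerDifferential.D k A s) + -c * s = 1
    linear_combination hc⟩

/-- perturb an algebra map by a derivation times a square-zero element -/
def perturb {k A B : Type u} [CommRing k] [CommRing A] [CommRing B] [Algebra k A] [Algebra k B]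
    (a : A →ₐ[k] B) (D : Derivation k A A) (ε : B) (hε : ε * ε = 0) : A →ₐ[k] B :=
  AlgHom.mk
    { toFun := fun x => a x + ε * a (D x)
      map_one' := by simp
      map_mul' := fun x y => by
        rw [map_mul, D.leibniz, map_add, smul_eq_mul, smul_eq_mul, map_mul, map_mul]
        linear_combination (-(a (D x) * a (D y))) * hε
      map_zero' := by simp
      map_add' := fun x y => by simp only [map_add]; ring }
    (fun c => by simp)

/-- Let k be a field, A a smooth k-algebra, s an irreducible element of A and e an integer, at least 2,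
that is invertible in k. Then the k-algebra A[t]/(t^e - s) is smooth exactly when the quotient ring
A/(s) is a smooth k-algebra. (Smooth over k means formally smooth and of finite presentation over
k.) -/
theorem result (k A : Type u) [Field k] [CommRing A] [Algebra k A]
    [Algebra.Smooth k A] (s : A) (hs : Irreducible s) (e : ℕ) (he : 2 ≤ e) (hek : (e : k) ≠ 0) :
    Algebra.Smooth k (AdjoinRoot (Polynomial.X ^ e - Polynomial.C s)) ↔
      Algebra.Smooth k (A ⧸ Ideal.span {s}) := by
  classical
  have : IsReduced A := Groth.Agent.SmoothReduced.isReduced_of_smooth k A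
  have : IsJacobsonRing A := isJacobsonRing_of_finiteType (A := k)
  have hnzd : ∀ y, s * y = 0 → y = 0 := by
    intro y hy
    have hmem : y ∈ Ideal.jacobson (⊥ : Ideal A) := by
      rw [Ideal.mem_jacobson_bot]
      intro z
      have hfac : s = s * (y * z + 1) := by linear_combination (-z) * hy
      rcases hs.isUnit_or_isUnit hfac with h | h
      · exact absurd h hs.not_isUnit
      · exact h
    rwa [IsJacobsonRing.out' (R := A) _ ((Ideal.isRadical_bot_iff).mpr inferInstance), Ideal.mem_bot] at hmem
  have hnil : ∀ {B : Type u} [CommRing B] (I : Ideal B), I ^ 2 = ⊥ → ∀ a ∈ I, ∀ b ∈ I, a * b = 0 := by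
    intro B _ I hI a ha b hb
    have : a * b ∈ I ^ 2 := pow_two I ▸ Ideal.mul_mem_mul ha hb
    rwa [hI, Ideal.mem_bot] at this
  let p : A[X] := X ^ e - C s
  have hp : p.Monic := monic_X_pow_sub_C s (by omega)
  constructor
  · intro hC
    have : Algebra.FormallySmooth k (A[X] ⧸ Ideal.span {p}) :=
      (inferInstance : Algebra.FormallySmooth k (AdjoinRoot (X ^ e - C s)))
    obtain ⟨δ, hδ⟩ := exists_deriv_one (k := k) p fun x hx => (hp.mul_right_eq_zero_iff).mp hx
    let ev : A[X] →ₐ[A] A ⧸ Ideal.span {s} := aeval (0 : A ⧸ Ideal.span {s})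
    let π : (A[X] ⧸ Ideal.span {p}) →ₐ[A] A ⧸ Ideal.span {s} := Ideal.Quotient.liftₐ _ ev fun a ha => by
      obtain ⟨c, rfl⟩ := Ideal.mem_span_singleton.mp ha
      rw [map_mul]
      simp [ev, p, zero_pow (show e ≠ 0 by omega)]
    let δ₀ : Derivation k A (A ⧸ Ideal.span {s}) := Derivation.mk'
      { toFun := fun x => -π (δ (C x))
        map_add' := fun x y => by simp only [map_add, neg_add]
        map_smul' := fun c x => by
          rw [RingHom.id_apply, ← Polynomial.smul_C, δ.map_smul]
          rw [show π (c • δ (C x)) = c • π (δ (C x)) from map_smul (π.restrictScalars k) c _, smul_neg] }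
      (fun x y => by
        change -π (δ (C (x * y))) = x • -π (δ (C y)) + y • -π (δ (C x))
        have hC : ∀ (z : A) (w : A[X] ⧸ Ideal.span {p}), π (C z • w) = z • π w := fun z w => by
          rw [← map_smul]; congr 1
          rw [← Polynomial.algebraMap_eq, algebraMap_smul]
        rw [map_mul, δ.leibniz, map_add, hC, hC, smul_neg, smul_neg, neg_add])
    have hδ₀ : δ₀ s = 1 := by
      have h := congrArg π hδ
      rw [map_one, map_sub δ, δ.leibniz_pow, map_sub] at h
      have h0 : π (e • (X : A[X]) ^ (e - 1) • δ X) = 0 := by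
        rw [map_nsmul, Algebra.smul_def (R := A[X]), map_mul, Ideal.Quotient.algebraMap_eq]
        have : π (Ideal.Quotient.mk (Ideal.span {p}) ((X : A[X]) ^ (e - 1))) = ev (X ^ (e - 1)) := rfl
        rw [this]
        simp [ev, zero_pow (show e - 1 ≠ 0 by omega)]
      rw [h0, zero_sub] at h
      exact h
    obtain ⟨D, a₀, hD⟩ := exists_unit_deriv s δ₀ hδ₀
    have : Algebra.FormallySmooth k (A ⧸ Ideal.span {s}) := by
      refine Algebra.FormallySmooth.of_comp_surjective fun B _ _ I hI φ => ?_
      obtain ⟨a, ha⟩ := Algebra.FormallySmooth.exists_lift I ⟨2, hI⟩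
        (φ.comp (Ideal.Quotient.mkₐ k (Ideal.span {s})))
      have hεI : a s ∈ I := by
        rw [← Ideal.Quotient.eq_zero_iff_mem, show Ideal.Quotient.mk I (a s) = φ _ from AlgHom.congr_fun ha s]
        change φ (Ideal.Quotient.mk (Ideal.span {s}) s) = 0
        rw [Ideal.Quotient.eq_zero_iff_mem.mpr (Ideal.mem_span_singleton_self s), map_zero]
      have hεε := hnil I hI _ hεI _ hεI
      let a' := perturb a D (-a s) (by rw [neg_mul_neg, hεε])
      have hs' : a' s = 0 := by
        change a s + -a s * a (D s) = 0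
        have h := congrArg a hD
        rw [map_add, map_mul, map_one] at h
        linear_combination (-a s) * h + a a₀ * hεε
      refine ⟨Ideal.Quotient.liftₐ _ a' fun x hx => ?_, ?_⟩
      · obtain ⟨c, rfl⟩ := Ideal.mem_span_singleton.mp hx
        rw [map_mul, hs', zero_mul]
      · refine AlgHom.ext fun x => ?_
        obtain ⟨x, rfl⟩ := Ideal.Quotient.mk_surjective x
        change Ideal.Quotient.mk I (a x + -a s * a (D x)) = _
        rw [map_add, Ideal.Quotient.eq_zero_iff_mem.mpr (I.mul_mem_right _ (neg_mem hεI)), add_zero]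
        exact AlgHom.congr_fun ha x
    have : Algebra.FinitePresentation k (A ⧸ Ideal.span {s}) :=
      Algebra.FinitePresentation.quotient ⟨{s}, by simp⟩
    exact {}
  · intro hS
    obtain ⟨δ, hδ⟩ := exists_deriv_one (k := k) s hnzd
    obtain ⟨D, a₀, hD⟩ := exists_unit_deriv s δ hδ
    have : Algebra.FormallySmooth k (AdjoinRoot p) := by
      refine Algebra.FormallySmooth.of_comp_surjective fun B _ _ I hI φ => ?_
      obtain ⟨a, ha⟩ := Algebra.FormallySmooth.exists_lift I ⟨2, hI⟩
        (φ.comp ((AdjoinRoot.ofAlgHom A p).restrictScalars k))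
      obtain ⟨T, hT⟩ := Ideal.Quotient.mk_surjective (φ (AdjoinRoot.root p))
      obtain ⟨ε, hε⟩ : ∃ ε, ε = T ^ e - a s := ⟨_, rfl⟩
      have hεI : ε ∈ I := by
        rw [← Ideal.Quotient.eq_zero_iff_mem, hε, map_sub, map_pow, hT,
          show Ideal.Quotient.mk I (a s) = φ (AdjoinRoot.of p s) from AlgHom.congr_fun ha s,
          ← map_pow, ← map_sub]
        have h := AdjoinRoot.eval₂_root p
        simp [p] at h
        rw [h, map_zero]
      have hεε := hnil I hI _ hεI _ hεI
      obtain ⟨u, hu⟩ : ∃ u : B, (e : B) * u = 1 := ⟨algebraMap k B (e : k)⁻¹, by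
        rw [← map_natCast (algebraMap k B), ← map_mul, mul_inv_cancel₀ hek, map_one]⟩
      let a' := perturb a D ε hεε
      let τ := -(ε * a a₀ * u * T)
      have hroot : (T + τ) ^ e = a' s := by
        obtain ⟨m, rfl⟩ : ∃ m, e = m + 1 := ⟨e - 1, by omega⟩
        have hττ : τ ^ 2 = 0 := by
          calc τ ^ 2 = (ε * ε) * (a a₀ * u * T) ^ 2 := by ring
            _ = 0 := by rw [hεε, zero_mul]
        have hpow : (T + τ) ^ (m + 1) = T ^ (m + 1) + ((m + 1 : ℕ) : B) * τ * T ^ m := by
          obtain ⟨c, hc⟩ := Polynomial.binomExpansion (X ^ (m + 1) : B[X]) T τ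
          simp only [eval_pow, eval_X, derivative_X_pow, eval_mul, eval_natCast, eval_C] at hc
          rw [hc, hττ, mul_zero, add_zero]
          simp only [Nat.add_sub_cancel]; ring
        have hhD := congrArg a hD
        rw [map_add, map_mul, map_one] at hhD
        change _ = a s + ε * a (D s)
        rw [hpow]
        linear_combination (-1 : B) * hε - (ε * a a₀ * T ^ (m + 1)) * hu - ε * hhD - ε * a a₀ * (-1 : B) * hε - a a₀ * hεε
      refine ⟨AdjoinRoot.liftAlgHom p a' (T + τ) ?_, ?_⟩
      · simp [p, hroot]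
      · refine AdjoinRoot.algHom_ext' ?_ ?_
        · refine AlgHom.ext fun x => ?_
          rw [AlgHom.comp_apply, AlgHom.comp_apply, AlgHom.comp_apply, show AdjoinRoot.ofAlgHom k p x = AdjoinRoot.of p x from rfl, AdjoinRoot.liftAlgHom_of]
          change Ideal.Quotient.mk I (a x + ε * a (D x)) = _
          rw [map_add, Ideal.Quotient.eq_zero_iff_mem.mpr (I.mul_mem_right _ hεI), add_zero]
          exact AlgHom.congr_fun ha x
        · simp only [AlgHom.comp_apply, AdjoinRoot.liftAlgHom_root, Ideal.Quotient.mkₐ_eq_mk, map_add, hT]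
          rw [Ideal.Quotient.eq_zero_iff_mem.mpr (neg_mem (I.mul_mem_right _ (I.mul_mem_right _ (I.mul_mem_right _ hεI)))), add_zero]
    have : Algebra.FinitePresentation k (AdjoinRoot p) := by
      have : Algebra.FinitePresentation k A[X] := Algebra.FinitePresentation.trans k A A[X]
      exact (Algebra.FinitePresentation.quotient (R := k) (I := Ideal.span {p}) ⟨{p}, by simp⟩ :)
    exact ({} : Algebra.Smooth k (AdjoinRoot p))

end Groth.Agent.S13782
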