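import Groth.Statements.S13784
import Mathlib.RingTheory.IntegralDomain
import Mathlib.RingTheory.LocalRing.ResidueField.Basic
import Mathlib.Algebra.Ring.GeomSum

set_option autoImplicit false
universe u
open CAlg

namespace Groth.Agent.S13784

/-- Let A be a commutative local ring and G a finite subgroup of Aˣ. If the order of G is invertible in
A, then G is cyclic. -/
theorem result {A : Type u} [CommRing A] [IsLocalRing A]
    (G : Subgroup Aˣ) [Finite G] (hG : IsUnit ((Nat.card G : ℕ) : A)) : IsCyclic G := by
  let f : G →* IsLocalRing.ResidueField A :=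
    (IsLocalRing.residue A).toMonoidHom.comp ((Units.coeHom A).comp G.subtype)
  refine isCyclic_of_subgroup_isDomain f ?_
  rw [injective_iff_map_eq_one]
  intro g hg
  have hm : ((g : Aˣ) : A) - 1 ∈ IsLocalRing.maximalIdeal A := by
    rw [← IsLocalRing.residue_eq_zero_iff, map_sub, map_one]
    exact sub_eq_zero.mpr hg
  have hpow : ((g : Aˣ) : A) ^ Nat.card G = 1 := by
    rw [← Units.val_pow_eq_pow_val, ← SubgroupClass.coe_pow, pow_card_eq_one']
    rfl
  have hgs : IsUnit (∑ i ∈ Finset.range (Nat.card G), ((g : Aˣ) : A) ^ i) := by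
    rw [← IsLocalRing.residue_ne_zero_iff_isUnit, map_sum]
    have : ∀ i ∈ Finset.range (Nat.card G), IsLocalRing.residue A (((g : Aˣ) : A) ^ i) = 1 := by
      intro i _
      rw [map_pow, show IsLocalRing.residue A ((g : Aˣ) : A) = 1 from hg, one_pow]
    rw [Finset.sum_congr rfl this, Finset.sum_const, Finset.card_range, nsmul_eq_mul, mul_one,
      ← map_natCast (IsLocalRing.residue A), IsLocalRing.residue_ne_zero_iff_isUnit]
    exact hG
  have := geom_sum_mul ((g : Aˣ) : A) (Nat.card G)
  rw [hpow, sub_self] at this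
  have h1 : ((g : Aˣ) : A) - 1 = 0 := hgs.mul_right_eq_zero.mp this
  exact Subtype.ext (Units.ext (sub_eq_zero.mp h1))

end Groth.Agent.S13784
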