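import Groth.Statements.S13785
import Mathlib.LinearAlgebra.Matrix.Charpoly.Coeff

set_option autoImplicit false
universe u
open CAlg

namespace Groth.Agent.S13785

/-- For any commutative ring A, the determinant of the generic n × n matrix is a nonzerodivisor of the
polynomial ring over A in the n² matrix entries. -/
theorem result (A : Type u) [CommRing A] (n : ℕ) :
    (Matrix.mvPolynomialX (Fin n) (Fin n) A).det ∈ nonZeroDivisors (MvPolynomial (Fin n × Fin n) A) := by
  classical
  set M := Matrix.mvPolynomialX (Fin n) (Fin n) A
  rw [mem_nonZeroDivisors_iff_right]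
  intro q hq
  let R := MvPolynomial (Fin n × Fin n) A
  let φ : R →ₐ[A] Polynomial R :=
    MvPolynomial.aeval fun ij => Polynomial.C (MvPolynomial.X ij) + if ij.1 = ij.2 then Polynomial.X else 0
  have hM : φ M.det = (-M).charpoly := by
    rw [AlgHom.map_det, Matrix.charpoly]
    congr 1
    ext i j : 1
    by_cases h : i = j
    · subst h; simp [M, φ, R, Matrix.charmatrix_apply_eq, add_comm]
    · simp [M, φ, R, Matrix.charmatrix_apply_ne _ _ _ h, h]
  have h2 : φ q = 0 := by
    have h := congrArg φ hq
    rw [map_mul, map_zero, hM] at h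
    exact (Matrix.charpoly_monic (-M)).mul_left_eq_zero_iff.mp h
  have h3 : ((Polynomial.aeval (0 : R)).restrictScalars A).comp φ = AlgHom.id A R := by
    apply MvPolynomial.algHom_ext
    intro ij
    by_cases h : ij.1 = ij.2 <;> simp [φ, h, R] <;> exact (AlgHom.id_apply _).symm
  have := AlgHom.congr_fun h3 q
  simpa [h2] using this.symm

end Groth.Agent.S13785
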