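import Groth.Statements.S13786
import Mathlib

set_option autoImplicit false
universe u
open CAlg

namespace Groth.Agent.S13786

/-- For a commutative ring A and n ≥ 1, with det the determinant of the generic n × n matrix in the
polynomial ring A[X] in n² indeterminates, the A-algebra A[X]/(det) is faithfully flat over A. (For
n = 0 the determinant is 1 and the quotient is the zero ring, so n ≥ 1 is required.) -/
theorem result (A : Type u) [CommRing A] (n : ℕ) (hn : 0 < n) :
    Module.FaithfullyFlat A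
      (MvPolynomial (Fin n × Fin n) A ⧸ Ideal.span {(Matrix.mvPolynomialX (Fin n) (Fin n) A).det}) := by
  classical
  let σ := Fin n × Fin n
  let d : MvPolynomial σ ℤ := (Matrix.mvPolynomialX (Fin n) (Fin n) ℤ).det
  have hmap : ∀ (B : Type) [CommRing B] (f : ℤ →+* B), MvPolynomial.map f d = (Matrix.mvPolynomialX (Fin n) (Fin n) B).det :=
    fun B _ f => by
      rw [RingHom.map_det]
      congr 1
      ext i j
      simp [Matrix.mvPolynomialX]
  -- the universal quotient has no torsion
  have htf : ∀ (p : ℕ), p.Prime → ∀ f : MvPolynomial σ ℤ, (p : MvPolynomial σ ℤ) * f ∈ Ideal.span {d} → f ∈ Ideal.span {d} := by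
    intro p hp f hf
    haveI := Fact.mk hp
    obtain ⟨g, hg⟩ := Ideal.mem_span_singleton'.1 hf
    have h1 := congrArg (MvPolynomial.map (Int.castRingHom (ZMod p))) hg
    rw [map_mul, map_mul, hmap (ZMod p), map_natCast, CharP.cast_eq_zero, zero_mul] at h1
    have hne : (Matrix.mvPolynomialX (Fin n) (Fin n) (ZMod p)).det ≠ 0 := fun h0 => by
      have := congrArg (MvPolynomial.eval fun ij : σ => if ij.1 = ij.2 then (1 : ZMod p) else 0) h0
      rw [RingHom.map_det, map_zero] at this
      refine one_ne_zero (α := ZMod p) (Eq.trans ?_ this)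
      rw [show (MvPolynomial.eval fun ij : σ => if ij.1 = ij.2 then (1 : ZMod p) else 0).mapMatrix
        (Matrix.mvPolynomialX (Fin n) (Fin n) (ZMod p)) = 1 by ext i j; simp [Matrix.mvPolynomialX, Matrix.one_apply], Matrix.det_one]
    have hg0 : MvPolynomial.map (Int.castRingHom (ZMod p)) g = 0 := (mul_eq_zero.1 h1).resolve_right hne
    have hdvd : MvPolynomial.C (p : ℤ) ∣ g := by
      rw [MvPolynomial.C_dvd_iff_dvd_coeff]
      intro m
      have := congrArg (MvPolynomial.coeff m) hg0
      rw [MvPolynomial.coeff_map, MvPolynomial.coeff_zero] at this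
      exact (ZMod.intCast_zmod_eq_zero_iff_dvd _ _).1 this
    obtain ⟨g', rfl⟩ := hdvd
    refine Ideal.mem_span_singleton'.2 ⟨g', ?_⟩
    have hp0 : (p : MvPolynomial σ ℤ) ≠ 0 := Nat.cast_ne_zero.2 hp.ne_zero
    refine mul_left_cancel₀ hp0 ?_
    rw [← mul_assoc, ← hg]
    simp
  have htf' : ∀ (m : ℕ), m ≠ 0 → ∀ f : MvPolynomial σ ℤ, (m : MvPolynomial σ ℤ) * f ∈ Ideal.span {d} → f ∈ Ideal.span {d} := by
    intro m
    induction m using Nat.recOnMul with
    | zero => exact fun h => absurd rfl h
    | one => exact fun _ f hf => by simpa using hf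
    | prime p hp => exact fun _ => htf p hp
    | mul a b ha hb =>
      intro hab f hf
      rw [Nat.cast_mul, mul_assoc] at hf
      exact hb (right_ne_zero_of_mul hab) _ (ha (left_ne_zero_of_mul hab) _ hf)
  haveI : Module.IsTorsionFree ℤ (MvPolynomial σ ℤ ⧸ Ideal.span {d}) := by
    refine ⟨fun m hm x y hxy => ?_⟩
    obtain ⟨x, rfl⟩ := Ideal.Quotient.mk_surjective x
    obtain ⟨y, rfl⟩ := Ideal.Quotient.mk_surjective y
    rw [Ideal.Quotient.mk_eq_mk_iff_sub_mem]
    refine htf' m.natAbs (Int.natAbs_ne_zero.2 hm.ne_zero) _ ?_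
    have h1 : (m : MvPolynomial σ ℤ) * (x - y) ∈ Ideal.span {d} := by
      rw [← Ideal.Quotient.eq_zero_iff_mem, map_mul, map_sub, mul_sub, map_intCast, ← zsmul_eq_mul, ← zsmul_eq_mul]
      exact sub_eq_zero.2 hxy
    rcases Int.natAbs_eq m with h | h
    · rw [h] at h1; simpa using h1
    · rw [h] at h1; simpa using h1
  let e : TensorProduct ℤ A (MvPolynomial σ ℤ ⧸ Ideal.span {d}) ≃ₐ[A]
      MvPolynomial σ A ⧸ Ideal.span {(Matrix.mvPolynomialX (Fin n) (Fin n) A).det} :=
    (Algebra.TensorProduct.tensorQuotientEquiv (R := ℤ) A (MvPolynomial σ ℤ) A (Ideal.span {d})).trans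
      (Ideal.quotientEquivAlg _ _ (MvPolynomial.algebraTensorAlgEquiv ℤ A) (by
        rw [Ideal.map_span, Set.image_singleton, Ideal.map_span, Set.image_singleton]
        congr 2
        rw [show d = (Matrix.mvPolynomialX (Fin n) (Fin n) ℤ).det from rfl, AlgHom.map_det]
        erw [RingHom.map_det]
        congr 1
        ext i j
        simp [Matrix.mvPolynomialX]))
  haveI : Module.Flat A (MvPolynomial σ A ⧸ Ideal.span {(Matrix.mvPolynomialX (Fin n) (Fin n) A).det}) :=
    Module.Flat.of_linearEquiv e.symm.toLinearEquiv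
  refine Module.FaithfullyFlat.of_comap_surjective fun P => ?_
  haveI : Nonempty (Fin n) := ⟨⟨0, hn⟩⟩
  let r : MvPolynomial σ A ⧸ Ideal.span {(Matrix.mvPolynomialX (Fin n) (Fin n) A).det} →+* A :=
    Ideal.Quotient.lift _ (MvPolynomial.eval fun _ => (0 : A)) fun a ha => by
      obtain ⟨c, rfl⟩ := Ideal.mem_span_singleton'.1 ha
      rw [map_mul, RingHom.map_det, show (MvPolynomial.eval fun _ => (0 : A)).mapMatrix
        (Matrix.mvPolynomialX (Fin n) (Fin n) A) = 0 by ext i j; simp [Matrix.mvPolynomialX], Matrix.det_zero, mul_zero]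
  refine ⟨PrimeSpectrum.comap r P, ?_⟩
  have hr : r.comp (algebraMap A _) = RingHom.id A := RingHom.ext fun a => by
    show r (Ideal.Quotient.mk _ (MvPolynomial.C a)) = a
    simp [r]
  rw [← PrimeSpectrum.comap_comp_apply, hr]
  rfl

end Groth.Agent.S13786
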