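import Groth.Statements.S13787
import Mathlib
import Groth.Agent.CAlgH.DetUnitsInj

set_option autoImplicit false
universe u
open CAlg

namespace Groth.Agent.S13787

/-- Let A be a nonzero commutative ring and n ≥ 1, let det be the determinant of the generic n × n
matrix in the polynomial ring A[X] in its n² entries, and let A[X, 1/det] be the localization at det
(the coordinate ring of GL_n over A). The homomorphism Aˣ × ℤ → (A[X, 1/det])ˣ sending (a, e) to a ·
det^e is injective. (The published statement takes the exponent in the group of locally constant
ℤ-valued functions on Spec A, which also covers A = 0; with integer exponents as here, A must be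
nonzero and n ≥ 1.) -/
theorem result (A : Type u) [CommRing A] [Nontrivial A] (n : ℕ) (hn : 0 < n) :
    Function.Injective (fun p : Aˣ × ℤ =>
        Units.map (algebraMap A (Localization.Away (Matrix.mvPolynomialX (Fin n) (Fin n) A).det)).toMonoidHom p.1 *
          (IsLocalization.Away.algebraMap_isUnit (S := Localization.Away (Matrix.mvPolynomialX (Fin n) (Fin n) A).det)
            (Matrix.mvPolynomialX (Fin n) (Fin n) A).det).unit ^ p.2) := by
  have : NeZero n := ⟨by omega⟩
  intro p q hpq
  have h := congrArg (fun u : (Localization.Away (Matrix.mvPolynomialX (Fin n) (Fin n) A).det)ˣ =>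
    Groth.Agent.CAlgH.DetUnits.diagLoc A n
      (u : Localization.Away (Matrix.mvPolynomialX (Fin n) (Fin n) A).det)) hpq
  simp only [Groth.Agent.CAlgH.DetUnits.diagLoc_unit A n _ _ _ (IsUnit.unit_spec _)] at h
  simp only [← LaurentPolynomial.single_eq_C_mul_T] at h
  rcases AddMonoidAlgebra.single_inj.mp h with ⟨h1, h2⟩ | ⟨h1, -⟩
  · exact Prod.ext (Units.ext h2) h1
  · exact absurd h1 p.1.ne_zero

end Groth.Agent.S13787
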