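import Groth.Statements.S13788
import Mathlib
import Groth.Agent.CAlgH.DetUnitsInj
import Groth.Agent.S13787

set_option autoImplicit false
universe u
open CAlg

namespace Groth.Agent.S13788

open Groth.Agent.CAlgH.DetUnits in
theorem divisor_eq (A : Type u) [CommRing A] [Nontrivial A] [IsReduced A]
    (hconn : ∀ e : A, IsIdempotentElem e → e = 0 ∨ e = 1) (n : ℕ) (hn : 0 < n)
    (f g : MvPolynomial (Fin n × Fin n) A) (M : ℕ) (h : f * g = detX A n ^ M) :
    ∃ (c : Aˣ) (j : ℕ), f = MvPolynomial.C (c : A) * detX A n ^ j := by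
  classical
  have hcd : atOne A n f * atOne A n g = 1 := by
    rw [← map_mul, h, map_pow, atOne_detX, one_pow]
  let c : Aˣ := ⟨atOne A n f, atOne A n g, hcd, by rw [mul_comm]; exact hcd⟩
  let δ : MvPolynomial (Fin n × Fin n) A →+* Polynomial A :=
    MvPolynomial.eval₂Hom Polynomial.C (fun q => if q.1 = q.2 then Polynomial.X else 0)
  let E : ℕ → A := fun i => ((c⁻¹ : Aˣ) : A) * (δ f).coeff i
  have hp : ∀ p : Ideal A, p.IsPrime → ∃ j,
      MvPolynomial.map (Ideal.Quotient.mk p) f =
        MvPolynomial.C (Ideal.Quotient.mk p c) * detX (A ⧸ p) n ^ j ∧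
      ∀ i, Ideal.Quotient.mk p (E i) = if i = n * j then 1 else 0 := by
    intro p _
    let π := Ideal.Quotient.mk p
    have hd : MvPolynomial.map π (detX A n) = detX (A ⧸ p) n := by
      rw [detX, RingHom.map_det, RingHom.mapMatrix_apply]
      congr 1; ext1 a b; simp
    obtain ⟨j, hj⟩ := exists_eq_mul_pow (A ⧸ p) hn (MvPolynomial.map π f) (MvPolynomial.map π g) M
      (by rw [← map_mul, h, map_pow, hd])
    have h2 : atOne (A ⧸ p) n (MvPolynomial.map π f) = π (atOne A n f) := by
      have : (atOne (A ⧸ p) n).comp (MvPolynomial.map π) = π.comp (atOne A n) :=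
        MvPolynomial.ringHom_ext (fun a => by simp) (fun q => by by_cases hq : q.1 = q.2 <;> simp [hq])
      exact RingHom.congr_fun this f
    rw [h2] at hj
    refine ⟨j, hj, fun i => ?_⟩
    let δ' : MvPolynomial (Fin n × Fin n) (A ⧸ p) →+* Polynomial (A ⧸ p) :=
      MvPolynomial.eval₂Hom Polynomial.C (fun q => if q.1 = q.2 then Polynomial.X else 0)
    have hδ : δ'.comp (MvPolynomial.map π) = (Polynomial.mapRingHom π).comp δ :=
      MvPolynomial.ringHom_ext (fun a => by simp [δ, δ'])
        (fun q => by by_cases hq : q.1 = q.2 <;> simp [δ, δ', hq])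
    have hδd : δ' (detX (A ⧸ p) n) = Polynomial.X ^ n := by
      rw [detX, RingHom.map_det]
      have : δ'.mapMatrix (Matrix.mvPolynomialX (Fin n) (Fin n) (A ⧸ p)) =
          Matrix.diagonal (fun _ : Fin n => (Polynomial.X : Polynomial (A ⧸ p))) := by
        ext1 a b; simp [δ', Matrix.diagonal_apply]
      rw [this, Matrix.det_diagonal, Finset.prod_const, Finset.card_univ, Fintype.card_fin]
    have h3 : (δ f).map π = Polynomial.C (π c) * Polynomial.X ^ (n * j) := by
      have h' := RingHom.congr_fun hδ f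
      rw [RingHom.comp_apply, hj, map_mul, map_pow, hδd, ← pow_mul] at h'
      simpa [δ'] using h'.symm
    have h4 := congrArg (fun q => Polynomial.coeff q i) h3
    simp only [Polynomial.coeff_map, Polynomial.coeff_C_mul_X_pow] at h4
    change π (_ * _) = _
    rw [map_mul, h4, mul_ite, mul_zero, ← map_mul, Units.inv_mul, map_one]
  have hzero : ∀ a : A, (∀ p : Ideal A, p.IsPrime → Ideal.Quotient.mk p a = 0) → a = 0 := by
    intro a ha
    refine IsReduced.eq_zero a ?_
    rw [nilpotent_iff_mem_prime]
    exact fun p hpp => Ideal.Quotient.eq_zero_iff_mem.mp (ha p hpp)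
  have hE : ∀ i, E i = 0 ∨ E i = 1 := fun i => hconn _ <| sub_eq_zero.mp <| hzero _ fun p hpp => by
    obtain ⟨j, -, hj⟩ := hp p hpp
    rw [map_sub, map_mul, hj]
    split_ifs <;> simp
  obtain ⟨p₀, hp₀⟩ := Ideal.exists_maximal A
  obtain ⟨j₀, -, hj₀⟩ := hp p₀ hp₀.isPrime
  have hE₀ : E (n * j₀) = 1 := (hE _).resolve_left fun h0 => by
    have h1 := hj₀ (n * j₀)
    rw [h0, map_zero, if_pos rfl] at h1
    exact hp₀.ne_top ((Ideal.eq_top_iff_one _).mpr (Ideal.Quotient.eq_zero_iff_mem.mp h1.symm))
  refine ⟨c, j₀, sub_eq_zero.mp ?_⟩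
  ext m
  rw [MvPolynomial.coeff_zero]
  refine hzero _ fun p hpp => ?_
  obtain ⟨j, hj, hjE⟩ := hp p hpp
  have hjj : j = j₀ := by
    have h1 := hjE (n * j₀)
    rw [hE₀, map_one] at h1
    split_ifs at h1 with h2
    · exact (Nat.eq_of_mul_eq_mul_left hn h2).symm
    · exact absurd h1 one_ne_zero
  rw [← MvPolynomial.coeff_map, map_sub, map_mul, map_pow, MvPolynomial.map_C, hj, hjj,
    show MvPolynomial.map (Ideal.Quotient.mk p) (detX A n) = detX (A ⧸ p) n by
      rw [detX, RingHom.map_det, RingHom.mapMatrix_apply]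
      congr 1; ext1 a b; simp,
    sub_self, MvPolynomial.coeff_zero]

/-- Units of GL_n: let A be a nonzero commutative ring whose only idempotents are 0 and 1, let n ≥ 1,
let det be the determinant of the generic n × n matrix in the polynomial ring A[X] in its n²
entries, and let A[X, 1/det] be the coordinate ring of GL_n over A. The homomorphism Aˣ × ℤ → (A[X,
1/det])ˣ, (a, e) ↦ a · det^e, is bijective if and only if A is reduced. (The published statement
allows Spec A disconnected, with exponents locally constant ℤ-valued functions on Spec A; this row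
is the connected case, to which the published proof reduces.) -/
theorem result (A : Type u) [CommRing A] [Nontrivial A]
    (hconn : ∀ e : A, IsIdempotentElem e → e = 0 ∨ e = 1) (n : ℕ) (hn : 0 < n) :
    Function.Bijective (fun p : Aˣ × ℤ =>
        Units.map (algebraMap A (Localization.Away (Matrix.mvPolynomialX (Fin n) (Fin n) A).det)).toMonoidHom p.1 *
          (IsLocalization.Away.algebraMap_isUnit (S := Localization.Away (Matrix.mvPolynomialX (Fin n) (Fin n) A).det)
            (Matrix.mvPolynomialX (Fin n) (Fin n) A).det).unit ^ p.2) ↔ IsReduced A := by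
  open Groth.Agent.CAlgH.DetUnits in
  have : NeZero n := ⟨by omega⟩
  let L := Localization.Away (Matrix.mvPolynomialX (Fin n) (Fin n) A).det
  constructor
  · intro hb
    refine ⟨fun a ha => ?_⟩
    let w : MvPolynomial (Fin n × Fin n) A := 1 + MvPolynomial.C a * MvPolynomial.X (0, 0)
    have hwu : IsUnit (algebraMap _ L w) :=
      (IsNilpotent.isUnit_one_add ((Commute.all _ _).isNilpotent_mul_right (ha.map MvPolynomial.C))).map _
    obtain ⟨⟨c, e⟩, hce⟩ := hb.2 hwu.unit
    have h := congrArg (fun u : Lˣ => diagLoc A n (u : L)) hce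
    simp only [diagLoc_unit A n _ _ _ (IsUnit.unit_spec _), IsUnit.unit_spec] at h
    rw [diagLoc_apply] at h
    have hw : diagHom A n w = LaurentPolynomial.C 1 * LaurentPolynomial.T 0 +
        LaurentPolynomial.C a * LaurentPolynomial.T 1 := by simp [diagHom, w]
    rw [hw, ← LaurentPolynomial.single_eq_C_mul_T, ← LaurentPolynomial.single_eq_C_mul_T,
      ← LaurentPolynomial.single_eq_C_mul_T] at h
    have h0 := congrArg (fun q : LaurentPolynomial A => q.coeff 0) h
    have h1 := congrArg (fun q : LaurentPolynomial A => q.coeff 1) h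
    simp only [AddMonoidAlgebra.coeff_add, Finsupp.add_apply, AddMonoidAlgebra.coeff_single_apply] at h0 h1
    by_cases he : e = 0
    · simp [he] at h1; exact h1.symm
    · simp [he] at h0
  · intro hred
    refine ⟨Groth.Agent.S13787.result A n hn, fun u => ?_⟩
    obtain ⟨m, f, hf⟩ := IsLocalization.Away.surj (detX A n) (u : L)
    obtain ⟨m', g, hg⟩ := IsLocalization.Away.surj (detX A n) ((u⁻¹ : Lˣ) : L)
    have h1 : algebraMap _ L (f * g) = algebraMap _ L (detX A n ^ (m + m')) := by
      rw [map_mul, ← hf, ← hg, map_pow, mul_mul_mul_comm, Units.mul_inv, one_mul, ← pow_add]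
    obtain ⟨k, hk⟩ := IsLocalization.Away.exists_of_eq (detX A n) h1
    obtain ⟨c, j, hj⟩ := divisor_eq A hconn n hn f (detX A n ^ k * g) (k + (m + m')) (by
      rw [pow_add, ← hk]; ring)
    refine ⟨(c, (j : ℤ) - m), ?_⟩
    ext1
    simp only [Units.val_mul]
    have hd : IsUnit (algebraMap (MvPolynomial (Fin n × Fin n) A) L (detX A n)) :=
      IsLocalization.Away.algebraMap_isUnit _
    apply (hd.pow m).mul_left_injective
    simp only
    rw [hf, hj, map_mul, map_pow, ← MvPolynomial.algebraMap_eq, ← IsScalarTower.algebraMap_apply, mul_assoc]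
    congr 1
    change ((hd.unit ^ ((j : ℤ) - m) : Lˣ) : L) * _ = _
    have : hd.unit ^ ((j : ℤ) - m) * hd.unit ^ m = hd.unit ^ j := by
      rw [← zpow_natCast hd.unit j, ← zpow_natCast hd.unit m, ← zpow_add, sub_add_cancel]
    simpa using congrArg Units.val this

end Groth.Agent.S13788
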