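import Groth.Statements.S13789
import Mathlib.RingTheory.Localization.FractionRing

set_option autoImplicit false
universe u
open CAlg

namespace Groth.Agent.S13789

/-- Let A be a commutative ring with total ring of fractions Q and let B be a ring with A ⊆ B ⊆ Q. Then
the inclusion A ⊆ B carries nonzerodivisors of A to nonzerodivisors of B, and every nonzerodivisor
of B has the form r/u with r and u nonzerodivisors of A. -/
theorem result {A Q : Type u} [CommRing A] [CommRing Q] [Algebra A Q] [IsFractionRing A Q] (B : Subalgebra A Q) :
    (∀ a : A, a ∈ nonZeroDivisors A → algebraMap A B a ∈ nonZeroDivisors B) ∧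
    (∀ b : B, b ∈ nonZeroDivisors B → ∃ r u : A, r ∈ nonZeroDivisors A ∧ u ∈ nonZeroDivisors A ∧
      (b : Q) * algebraMap A Q u = algebraMap A Q r) := by
  constructor
  · intro a ha
    rw [mem_nonZeroDivisors_iff_right]
    intro c hc
    exact Subtype.ext ((IsLocalization.map_units Q ⟨a, ha⟩).mul_left_eq_zero.mp (congrArg Subtype.val hc))
  · intro b hb
    obtain ⟨⟨a, s⟩, hs⟩ := IsLocalization.surj (nonZeroDivisors A) (b : Q)
    refine ⟨a, s, ?_, s.2, hs⟩
    rw [mem_nonZeroDivisors_iff_right]
    intro c hc
    have h1 : (algebraMap A B c) * b = 0 := by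
      apply Subtype.ext
      have : algebraMap A Q c * (b : Q) * algebraMap A Q s = 0 := by
        rw [mul_assoc, hs, ← map_mul, hc, map_zero]
      exact (IsLocalization.map_units Q s).mul_left_eq_zero.mp this
    apply IsFractionRing.injective A Q
    simpa using congrArg Subtype.val ((mem_nonZeroDivisors_iff_right.mp hb) _ h1)

end Groth.Agent.S13789
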