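import Groth.Statements.S13790
import Mathlib.RingTheory.Localization.FractionRing

set_option autoImplicit false
universe u
open CAlg

namespace Groth.Agent.S13790

/-- Let A be a commutative ring with total ring of fractions Q and let B be a ring with A ⊆ B ⊆ Q. Then
Q, with the inclusion B ⊆ Q, is the total ring of fractions of B. -/
theorem result {A Q : Type u} [CommRing A] [CommRing Q] [Algebra A Q] [IsFractionRing A Q] (B : Subalgebra A Q) :
    IsFractionRing B Q := by
  classical
  have hinj := IsFractionRing.injective A Q
  constructor
  constructor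
  · rintro ⟨b, hb⟩
    obtain ⟨⟨a, s⟩, hs⟩ := IsLocalization.surj (nonZeroDivisors A) (b : Q)
    have ha : a ∈ nonZeroDivisors A := by
      rw [mem_nonZeroDivisors_iff_right]
      intro c hc
      have h1 : (algebraMap A B c) * b = 0 := by
        apply Subtype.ext
        have : algebraMap A Q c * (b : Q) * algebraMap A Q s = 0 := by
          rw [mul_assoc, hs, ← map_mul, hc, map_zero]
        exact (IsLocalization.map_units Q s).mul_left_eq_zero.mp this
      have h2 := (mem_nonZeroDivisors_iff_right.mp hb) _ h1
      apply hinj
      simpa using congrArg Subtype.val h2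
    have hu : IsUnit ((b : Q) * algebraMap A Q s) := by
      rw [hs]; exact IsLocalization.map_units Q ⟨a, ha⟩
    exact (IsUnit.mul_iff.mp hu).1
  · intro q
    obtain ⟨⟨a, s⟩, hs⟩ := IsLocalization.surj (nonZeroDivisors A) q
    have hsB : algebraMap A B (s : A) ∈ nonZeroDivisors B := by
      rw [mem_nonZeroDivisors_iff_right]
      intro c hc
      apply Subtype.ext
      exact (IsLocalization.map_units Q s).mul_left_eq_zero.mp (congrArg Subtype.val hc)
    exact ⟨⟨algebraMap A B a, ⟨_, hsB⟩⟩, hs⟩
  · intro x y h
    exact ⟨1, by simpa using h⟩

end Groth.Agent.S13790
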