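import Groth.Statements.S13792
import Mathlib
import Groth.Agent.VarLib.Noetherian
import Groth.Agent.DimTheory.ZeroDim

set_option autoImplicit false
universe u
open CategoryTheory AlgebraicGeometry
open Curves

namespace Groth.Agent.S13792

/-- Let k be a field and E an integral k-scheme of finite type whose underlying space has dimension 1,
and let ι : G → E be a closed immersion. Then either ι is an isomorphism or G is finite over k. (The
published statement is about a closed subgroup scheme of an elliptic curve and its proof states this
fact for E geometrically integral; this row assumes only that E is integral.) -/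
theorem result {k : Type u} [Field k]
    {E G : Scheme.{u}} (f : E ⟶ Spec (CommRingCat.of k)) [LocallyOfFiniteType f] [QuasiCompact f]
    [IsIntegral E] (hdim : topologicalKrullDim ↥E = 1) (ι : G ⟶ E) [IsClosedImmersion ι] :
    IsIso ι ∨ IsFinite (ι ≫ f) := by
  by_cases hs : Surjective ι
  · exact Or.inl (isIso_of_isClosedImmersion_of_surjective ι)
  refine Or.inr ?_
  have : CompactSpace E := QuasiCompact.compactSpace_of_compactSpace f
  have : IsLocallyNoetherian E := LocallyOfFiniteType.isLocallyNoetherian f
  have : IsNoetherian E := {}
  have hC : IsClosed (Set.range ι) := ι.isClosedEmbedding.isClosed_range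
  have hη : genericPoint E ∉ Set.range ι := fun h => hs ⟨fun x => by
    have := (genericPoint_specializes x).mem_closed hC h
    exact this⟩
  have hcl : ∀ x ∈ Set.range ι, IsClosed ({x} : Set E) := fun x hx =>
    Groth.Agent.VarLib.isClosed_singleton_of_dim_le_one hdim.le fun e => hη (e ▸ hx)
  have hfin : (Set.range ι).Finite := (Groth.Agent.VarLib.finite_maximal_points hC).subset fun x hx =>
    ⟨hx, fun y hy h => ((hcl y hy).closure_eq ▸ h.mem_closure : x ∈ ({y} : Set E)).symm⟩
  have : Finite G := by
    have := hfin.to_subtype
    exact Finite.of_injective (fun g => (⟨ι g, g, rfl⟩ : Set.range ι))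
      fun a b h => ι.isClosedEmbedding.injective (congrArg Subtype.val h)
  exact Groth.Agent.DimTheory.ZeroDim.isFinite_of_finite (ι ≫ f)

end Groth.Agent.S13792
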