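import Groth.Statements.S13793
import Mathlib

set_option autoImplicit false
universe u
open CAlg

namespace Groth.Agent.S13793

open scoped Pointwise
noncomputable section
variable {A : Type u} [CommRing A]

abbrev G (n : ℕ) := Fin n → ℤ

def f1 : G 2 →+ G 3 := (Matrix.mulVecLin (!![0, 0; 1, 0; 0, 1] : Matrix (Fin 3) (Fin 2) ℤ)).toAddMonoidHom
def f2 : G 2 →+ G 3 := (Matrix.mulVecLin (!![1, 0; 1, 0; 0, 1] : Matrix (Fin 3) (Fin 2) ℤ)).toAddMonoidHom
def f3 : G 2 →+ G 3 := (Matrix.mulVecLin (!![1, 0; 0, 1; 0, 1] : Matrix (Fin 3) (Fin 2) ℤ)).toAddMonoidHom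
def f4 : G 2 →+ G 3 := (Matrix.mulVecLin (!![1, 0; 0, 1; 0, 0] : Matrix (Fin 3) (Fin 2) ℤ)).toAddMonoidHom
def g1 : G 1 →+ G 2 := (Matrix.mulVecLin (!![0; 1] : Matrix (Fin 2) (Fin 1) ℤ)).toAddMonoidHom
def g2 : G 1 →+ G 2 := (Matrix.mulVecLin (!![1; 1] : Matrix (Fin 2) (Fin 1) ℤ)).toAddMonoidHom
def g3 : G 1 →+ G 2 := (Matrix.mulVecLin (!![1; 0] : Matrix (Fin 2) (Fin 1) ℤ)).toAddMonoidHom

theorem f1_apply (v : G 2) : f1 v = ![0, v 0, v 1] := by
  funext i; fin_cases i <;> simp [f1, Matrix.mulVec, dotProduct, Fin.sum_univ_two]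
theorem f2_apply (v : G 2) : f2 v = ![v 0, v 0, v 1] := by
  funext i; fin_cases i <;> simp [f2, Matrix.mulVec, dotProduct, Fin.sum_univ_two]
theorem f3_apply (v : G 2) : f3 v = ![v 0, v 1, v 1] := by
  funext i; fin_cases i <;> simp [f3, Matrix.mulVec, dotProduct, Fin.sum_univ_two]
theorem f4_apply (v : G 2) : f4 v = ![v 0, v 1, 0] := by
  funext i; fin_cases i <;> simp [f4, Matrix.mulVec, dotProduct, Fin.sum_univ_two]
theorem g1_apply (v : G 1) : g1 v = ![0, v 0] := by
  funext i; fin_cases i <;> simp [g1, Matrix.mulVec, dotProduct]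
theorem g2_apply (v : G 1) : g2 v = ![v 0, v 0] := by
  funext i; fin_cases i <;> simp [g2, Matrix.mulVec, dotProduct]
theorem g3_apply (v : G 1) : g3 v = ![v 0, 0] := by
  funext i; fin_cases i <;> simp [g3, Matrix.mulVec, dotProduct]

def D {n m : ℕ} (f : G n →+ G m) : AddMonoidAlgebra A (G n) →+* AddMonoidAlgebra A (G m) :=
  AddMonoidAlgebra.mapDomainRingHom A f
def U {n m : ℕ} (f : G n →+ G m) : (AddMonoidAlgebra A (G n))ˣ →* (AddMonoidAlgebra A (G m))ˣ :=
  Units.map (D f).toMonoidHom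

theorem D_single {n m : ℕ} (f : G n →+ G m) (v : G n) (a : A) :
    D f (AddMonoidAlgebra.single v a) = AddMonoidAlgebra.single (f v) a := by
  simp [D]

theorem U_comp {n m l : ℕ} (f : G m →+ G l) (g : G n →+ G m) (x : (AddMonoidAlgebra A (G n))ˣ) :
    U f (U g x) = U (f.comp g) x := by
  refine Units.ext ?_
  show D f (D g (x : AddMonoidAlgebra A (G n))) = D (f.comp g) (x : AddMonoidAlgebra A (G n))
  induction (x : AddMonoidAlgebra A (G n)) using AddMonoidAlgebra.induction_linear with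
  | zero => simp
  | add a b ha hb => simp only [map_add, ha, hb]
  | single v a => simp only [D_single]; rfl

def cocycle : (AddMonoidAlgebra A (G 2))ˣ →* (AddMonoidAlgebra A (G 3))ˣ :=
  U f1 * (U f2)⁻¹ * U f3 * (U f4)⁻¹
def cobdry : (AddMonoidAlgebra A (G 1))ˣ →* (AddMonoidAlgebra A (G 2))ˣ :=
  U g1 * (U g2)⁻¹ * U g3

theorem cocycle_cobdry (η : (AddMonoidAlgebra A (G 1))ˣ) : cocycle (cobdry η) = 1 := by
  simp only [cocycle, cobdry, MonoidHom.mul_apply, MonoidHom.inv_apply, map_mul, map_inv, U_comp]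
  have e1 : f1.comp g1 = f2.comp g1 := AddMonoidHom.ext fun v => by simp [f1_apply, f2_apply, g1_apply]
  have e2 : f1.comp g2 = f3.comp g1 := AddMonoidHom.ext fun v => by simp [f1_apply, f3_apply, g1_apply, g2_apply]
  have e3 : f1.comp g3 = f4.comp g1 := AddMonoidHom.ext fun v => by simp [f1_apply, f4_apply, g1_apply, g3_apply]
  have e4 : f2.comp g2 = f3.comp g2 := AddMonoidHom.ext fun v => by simp [f2_apply, f3_apply, g2_apply]
  have e5 : f2.comp g3 = f4.comp g2 := AddMonoidHom.ext fun v => by simp [f2_apply, f4_apply, g2_apply, g3_apply]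
  have e6 : f3.comp g3 = f4.comp g3 := AddMonoidHom.ext fun v => by simp [f3_apply, f4_apply, g3_apply]
  rw [e1, e2, e3, e4, e5, e6]
  apply Additive.ofMul.injective
  simp only [ofMul_mul, ofMul_inv, ofMul_one]
  abel

theorem coeff_D {n m : ℕ} (f : G n →+ G m) (hf : Function.Injective f) (x : AddMonoidAlgebra A (G n))
    (P : G m) (v : G n) (hv : ∀ w, f w = P → w = v) :
    (D f x).coeff P = if f v = P then x.coeff v else 0 := by
  classical
  induction x using AddMonoidAlgebra.induction_linear with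
  | zero => simp
  | add a b ha hb => rw [map_add, AddMonoidAlgebra.coeff_add, Finsupp.add_apply, ha, hb, AddMonoidAlgebra.coeff_add, Finsupp.add_apply]; split_ifs <;> simp
  | single w a =>
    rw [D_single, AddMonoidAlgebra.coeff_single, AddMonoidAlgebra.coeff_single, Finsupp.single_apply, Finsupp.single_apply]
    by_cases h : f w = P
    · rw [if_pos h, ← hv w h, if_pos h, if_pos rfl]
    · rw [if_neg h]
      split_ifs with h1 h2
      · exact absurd (h2 ▸ h1) h
      · rfl
      · rfl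

def cc (n : ℕ) : A →+* AddMonoidAlgebra A (G n) := AddMonoidAlgebra.singleZeroRingHom

theorem mem_map_iff {n : ℕ} (K : Ideal A) (x : AddMonoidAlgebra A (G n)) :
    x ∈ K.map (cc n) ↔ ∀ v, x.coeff v ∈ K := by
  constructor
  · intro hx
    have : K.map (cc n) ≤ RingHom.ker (AddMonoidAlgebra.mapRingHom (G n) (Ideal.Quotient.mk K)) := by
      refine Ideal.map_le_iff_le_comap.mpr fun a ha => ?_
      simp [RingHom.mem_ker, cc, Ideal.Quotient.eq_zero_iff_mem.mpr ha]
    intro v
    have h := congrArg (fun y => y.coeff v) (this hx)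
    rw [← Ideal.Quotient.eq_zero_iff_mem]
    simpa using h
  · intro h
    rw [← AddMonoidAlgebra.sum_coeff_single x]
    refine sum_mem fun v _ => ?_
    rw [show AddMonoidAlgebra.single v (x.coeff v) = cc n (x.coeff v) * AddMonoidAlgebra.single v (1 : A) by
      simp [cc]]
    exact Ideal.mul_mem_right _ _ (Ideal.mem_map_of_mem _ (h v))

theorem D_mem {n m : ℕ} (f : G n →+ G m) (K : Ideal A) {x : AddMonoidAlgebra A (G n)} (hx : x ∈ K.map (cc n)) :
    D f x ∈ K.map (cc m) := by
  have : (K.map (cc n)).map (D f) = K.map (cc m) := by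
    rw [Ideal.map_map]; congr 1; refine RingHom.ext fun a => ?_
    simp [cc, D_single]
  exact this ▸ Ideal.mem_map_of_mem _ hx

theorem U_val {n m : ℕ} (f : G n →+ G m) (u : (AddMonoidAlgebra A (G n))ˣ) :
    (U f u : AddMonoidAlgebra A (G m)) = D f u := rfl

theorem cocycle_eq {ξ : (AddMonoidAlgebra A (G 2))ˣ} (h : cocycle ξ = 1) :
    D f1 (ξ : AddMonoidAlgebra A (G 2)) * D f3 ξ = D f2 (ξ : AddMonoidAlgebra A (G 2)) * D f4 ξ := by
  have h2 : U f1 ξ * U f3 ξ = U f2 ξ * U f4 ξ := by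
    simp only [cocycle, MonoidHom.mul_apply, MonoidHom.inv_apply, mul_inv_eq_one] at h
    rw [← h, mul_comm (U f2 ξ), mul_assoc, mul_comm _ (U f2 ξ), ← mul_assoc, mul_assoc (U f1 ξ) _ (U f2 ξ)]
    simp [mul_comm]
  exact congrArg Units.val h2

theorem step (J : Ideal A) (hJn : IsNilpotent J) (k : ℕ) (hk : 1 ≤ k) (ξ : (AddMonoidAlgebra A (G 2))ˣ)
    (hξ : cocycle ξ = 1) (hmem : (ξ : AddMonoidAlgebra A (G 2)) - 1 ∈ (J ^ k).map (cc 2)) :
    ∃ η, ((ξ * (cobdry η)⁻¹ : (AddMonoidAlgebra A (G 2))ˣ) : AddMonoidAlgebra A (G 2)) - 1 ∈ (J ^ (k + 1)).map (cc 2) := by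
  set ε := (ξ : AddMonoidAlgebra A (G 2)) - 1 with hε
  have hξe : (ξ : AddMonoidAlgebra A (G 2)) = 1 + ε := by rw [hε]; ring
  have h2k : ∀ n, ((J ^ k).map (cc (A := A) n)) * (J ^ k).map (cc n) ≤ (J ^ (k + 1)).map (cc n) := fun n => by
    rw [← Ideal.map_mul, ← pow_add]; exact Ideal.map_mono (Ideal.pow_le_pow_right (by omega))
  have hg3 : Function.Injective g3 := fun a b h => funext fun i => by
    have := congrFun h 0; rw [g3_apply, g3_apply] at this; fin_cases i; simpa using this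
  let e : AddMonoidAlgebra A (G 1) := AddMonoidAlgebra.comapDomain g3 hg3 ε
  have he : ∀ v, e.coeff v = ε.coeff (g3 v) := fun v => by simp [e]
  have hemem : e ∈ (J ^ k).map (cc 1) := (mem_map_iff _ _).mpr fun v => by
    rw [he]; exact (mem_map_iff _ _).mp hmem _
  have hu : IsUnit (1 + e) := by
    refine IsNilpotent.isUnit_one_add ?_
    obtain ⟨N, hN⟩ := hJn
    have h1 : e ^ N ∈ ((J ^ k).map (cc 1)) ^ N := Ideal.pow_mem_pow hemem N
    rw [← Ideal.map_pow, ← pow_mul, mul_comm, pow_mul, hN, zero_pow (by omega), Ideal.zero_eq_bot, Ideal.map_bot] at h1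
    exact ⟨N, Ideal.mem_bot.mp h1⟩
  refine ⟨hu.unit, ?_⟩
  have hlin : D f1 ε + D f3 ε - D f2 ε - D f4 ε ∈ (J ^ (k + 1)).map (cc 3) := by
    have h := cocycle_eq hξ
    simp only [hξe, map_add, map_one] at h
    have : D f1 ε + D f3 ε - D f2 ε - D f4 ε = D f2 ε * D f4 ε - D f1 ε * D f3 ε := by linear_combination h
    rw [this]
    exact sub_mem (h2k 3 (Ideal.mul_mem_mul (D_mem _ _ hmem) (D_mem _ _ hmem)))
      (h2k 3 (Ideal.mul_mem_mul (D_mem _ _ hmem) (D_mem _ _ hmem)))
  have hlin' : ε + D g2 e - D g1 e - D g3 e ∈ (J ^ (k + 1)).map (cc 2) := (mem_map_iff _ _).mpr fun v => by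
    have h := (mem_map_iff _ _).mp hlin ![v 0, v 1, 0]
    have inj : ∀ {n m : ℕ} (f : G n →+ G m) (l : G m → G n), (∀ w, l (f w) = w) → Function.Injective f :=
      fun f l hl => Function.LeftInverse.injective hl
    have i1 := inj (f1) (fun P => ![P 1, P 2]) (fun w => funext fun i => by fin_cases i <;> simp [f1_apply])
    have i2 := inj (f2) (fun P => ![P 0, P 2]) (fun w => funext fun i => by fin_cases i <;> simp [f2_apply])
    have i3 := inj (f3) (fun P => ![P 0, P 1]) (fun w => funext fun i => by fin_cases i <;> simp [f3_apply])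
    have i4 := inj (f4) (fun P => ![P 0, P 1]) (fun w => funext fun i => by fin_cases i <;> simp [f4_apply])
    have j1 := inj (g1) (fun P => ![P 1]) (fun w => funext fun i => by fin_cases i; simp [g1_apply])
    have j2 := inj (g2) (fun P => ![P 0]) (fun w => funext fun i => by fin_cases i; simp [g2_apply])
    simp only [AddMonoidAlgebra.coeff_add, AddMonoidAlgebra.coeff_sub, Finsupp.add_apply, Finsupp.sub_apply] at h ⊢
    rw [coeff_D f1 i1 ε _ ![v 1, 0] (fun w hw => by
        rw [f1_apply] at hw; exact funext fun i => by fin_cases i <;> [simpa using congrFun hw 1; simpa using congrFun hw 2]),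
      coeff_D f3 i3 ε _ ![v 0, 0] (fun w hw => by
        rw [f3_apply] at hw; exact funext fun i => by fin_cases i <;> [simpa using congrFun hw 0; simpa using congrFun hw 2]),
      coeff_D f2 i2 ε _ ![v 0, 0] (fun w hw => by
        rw [f2_apply] at hw; exact funext fun i => by fin_cases i <;> [simpa using congrFun hw 0; simpa using congrFun hw 2]),
      coeff_D f4 i4 ε _ v (fun w hw => by
        rw [f4_apply] at hw; exact funext fun i => by fin_cases i <;> [simpa using congrFun hw 0; simpa using congrFun hw 1])] at h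
    rw [coeff_D g1 j1 e _ ![v 1] (fun w hw => by
        rw [g1_apply] at hw; exact funext fun i => by fin_cases i; simpa using congrFun hw 1),
      coeff_D g2 j2 e _ ![v 0] (fun w hw => by
        rw [g2_apply] at hw; exact funext fun i => by fin_cases i; simpa using congrFun hw 0),
      coeff_D g3 hg3 e _ ![v 0] (fun w hw => by
        rw [g3_apply] at hw; exact funext fun i => by fin_cases i; simpa using congrFun hw 0)]
    simp only [he, g3_apply, Matrix.cons_val_zero] at *
    have hv : v = ![v 0, v 1] := funext fun i => by fin_cases i <;> rfl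
    simp only [f1_apply, f2_apply, f3_apply, f4_apply, g1_apply, g2_apply, Matrix.cons_val_zero, Matrix.cons_val_one,
      if_true] at h ⊢
    have e1 : (![0, v 1, 0] = (![v 0, v 1, 0] : G 3)) ↔ (![0, v 1] = v) :=
      ⟨fun h => funext fun i => by fin_cases i <;> [simpa using congrFun h 0; rfl],
        fun h => by have := congrFun h 0; simp at this; rw [← this]⟩
    have e2 : (![v 0, v 0, 0] = (![v 0, v 1, 0] : G 3)) ↔ (![v 0, v 0] = v) :=
      ⟨fun h => funext fun i => by fin_cases i <;> [rfl; simpa using congrFun h 1],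
        fun h => by have := congrFun h 1; simp at this; rw [← this]⟩
    have e3 : (![v 0, 0, 0] = (![v 0, v 1, 0] : G 3)) ↔ (![v 0, 0] = v) :=
      ⟨fun h => funext fun i => by fin_cases i <;> [rfl; simpa using congrFun h 1],
        fun h => by have := congrFun h 1; simp at this; rw [← this]⟩
    simp only [e1, e2, e3] at h
    convert (J ^ (k + 1)).neg_mem h using 1
    ring
  have hmain : (ξ : AddMonoidAlgebra A (G 2)) * D g2 (1 + e) - D g1 (1 + e) * D g3 (1 + e) ∈
      (J ^ (k + 1)).map (cc 2) := by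
    rw [hξe]; simp only [map_add, map_one]
    have : (1 + ε) * (1 + D g2 e) - (1 + D g1 e) * (1 + D g3 e) =
        (ε + D g2 e - D g1 e - D g3 e) + (ε * D g2 e - D g1 e * D g3 e) := by ring
    rw [this]
    exact add_mem hlin' (sub_mem (h2k 2 (Ideal.mul_mem_mul hmem (D_mem _ _ hemem)))
      (h2k 2 (Ideal.mul_mem_mul (D_mem _ _ hemem) (D_mem _ _ hemem))))
  set W := U g1 hu.unit * U g3 hu.unit
  have hW : (W : AddMonoidAlgebra A (G 2)) = D g1 (1 + e) * D g3 (1 + e) := by
    simp [W, U_val]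
  have heq : ((ξ * (cobdry hu.unit)⁻¹ : (AddMonoidAlgebra A (G 2))ˣ) : AddMonoidAlgebra A (G 2)) - 1 =
      ((ξ : AddMonoidAlgebra A (G 2)) * D g2 (1 + e) - D g1 (1 + e) * D g3 (1 + e)) * ((W⁻¹ : (AddMonoidAlgebra A (G 2))ˣ) : AddMonoidAlgebra A (G 2)) := by
    have h1 : ξ * (cobdry hu.unit)⁻¹ = ξ * U g2 hu.unit * W⁻¹ := by
      apply Additive.ofMul.injective
      simp only [cobdry, W, MonoidHom.mul_apply, MonoidHom.inv_apply, ofMul_mul, ofMul_inv]
      abel
    rw [h1, sub_mul, ← hW, Units.mul_inv]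
    simp [U_val]
  rw [heq]
  exact Ideal.mul_mem_right _ _ hmain

theorem base (ξ : (AddMonoidAlgebra A (G 2))ˣ) (hξ : cocycle ξ = 1) (v : G 2) (𝔭 : Ideal A) [𝔭.IsPrime] :
    ((ξ : AddMonoidAlgebra A (G 2)).coeff v ∈ 𝔭 ↔ v ≠ 0) := by
  let π := Ideal.Quotient.mk 𝔭
  set u := AddMonoidAlgebra.mapRingHom (G 2) π ξ
  set w := AddMonoidAlgebra.mapRingHom (G 2) π (ξ⁻¹ : (AddMonoidAlgebra A (G 2))ˣ)
  have huw : u * w = 1 := by rw [← map_mul, Units.mul_inv, map_one]
  have hu0 : u.coeff.support.Nonempty := by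
    rw [Finsupp.support_nonempty_iff]; intro h
    have : u = 0 := AddMonoidAlgebra.ext (Finsupp.ext fun z => by simp [h])
    rw [this, zero_mul] at huw; exact zero_ne_one huw
  have hw0 : w.coeff.support.Nonempty := by
    rw [Finsupp.support_nonempty_iff]; intro h
    have : w = 0 := AddMonoidAlgebra.ext (Finsupp.ext fun z => by simp [h])
    rw [this, mul_zero] at huw; exact zero_ne_one huw
  have hcard : u.coeff.support.card = 1 := by
    by_contra h
    have h1 : 1 < u.coeff.support.card * w.coeff.support.card := by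
      have := hu0.card_pos; have := hw0.card_pos; nlinarith [(show 1 < u.coeff.support.card by omega)]
    obtain ⟨⟨a, b⟩, hp, ⟨a', b'⟩, hp', hne, h1, h2⟩ := TwoUniqueSums.uniqueAdd_of_one_lt_card h1
    rw [Finset.mem_product, Finsupp.mem_support_iff, Finsupp.mem_support_iff] at hp hp'
    have key : ∀ a b, u.coeff a ≠ 0 → w.coeff b ≠ 0 → UniqueAdd u.coeff.support w.coeff.support a b → a + b = 0 := by
      intro a b ha hb hU
      by_contra h0
      have := AddMonoidAlgebra.coeff_mul_add_of_uniqueAdd hU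
      rw [huw, AddMonoidAlgebra.one_def, AddMonoidAlgebra.coeff_single, Finsupp.single_apply, if_neg (Ne.symm h0)] at this
      exact mul_ne_zero ha hb this.symm
    have hs := (key a b hp.1 hp.2 h1).trans (key a' b' hp'.1 hp'.2 h2).symm
    obtain ⟨rfl, rfl⟩ := h2 (Finsupp.mem_support_iff.mpr hp.1) (Finsupp.mem_support_iff.mpr hp.2) hs
    exact hne rfl
  obtain ⟨z, hz⟩ := Finset.card_eq_one.mp hcard
  have hus : u = AddMonoidAlgebra.single z (u.coeff z) := AddMonoidAlgebra.ext <| Finsupp.ext fun t => by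
    rw [AddMonoidAlgebra.coeff_single, Finsupp.single_apply]
    split_ifs with h
    · rw [h]
    · exact Finsupp.notMem_support_iff.mp (by rw [hz, Finset.mem_singleton]; exact Ne.symm h)
  have hcne : u.coeff z ≠ 0 := Finsupp.mem_support_iff.mp (by rw [hz]; exact Finset.mem_singleton_self z)
  have hnat : ∀ f : G 2 →+ G 3, AddMonoidAlgebra.mapRingHom (G 3) π (D f (ξ : AddMonoidAlgebra A (G 2))) = D f u := by
    intro f
    simp only [u]
    induction (ξ : AddMonoidAlgebra A (G 2)) using AddMonoidAlgebra.induction_linear with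
    | zero => simp
    | add a b ha hb => simp only [map_add, ha, hb]
    | single t a => simp [D_single]
  have h := congrArg (AddMonoidAlgebra.mapRingHom (G 3) π) (cocycle_eq hξ)
  rw [map_mul, map_mul, hnat, hnat, hnat, hnat, hus, D_single, D_single, D_single, D_single,
    AddMonoidAlgebra.single_mul_single, AddMonoidAlgebra.single_mul_single] at h
  have hz0 : z = 0 := by
    have h' := congrArg (fun y => y.coeff (f1 z + f3 z)) h
    simp only [AddMonoidAlgebra.coeff_single, Finsupp.single_eq_same, Finsupp.single_apply] at h'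
    split_ifs at h' with h''
    · rw [f1_apply, f2_apply, f3_apply, f4_apply] at h''
      have e0 := congrFun h'' 0
      have e2 := congrFun h'' 2
      simp at e0 e2
      funext i; fin_cases i <;> simp <;> omega
    · exact absurd h' (mul_ne_zero hcne hcne)
  rw [← Ideal.Quotient.eq_zero_iff_mem, show π ((ξ : AddMonoidAlgebra A (G 2)).coeff v) = u.coeff v from by simp [u]]
  constructor
  · rintro h rfl; exact hcne (hz0 ▸ h)
  · intro hv; exact Finsupp.notMem_support_iff.mp (by rw [hz, Finset.mem_singleton, hz0]; exact hv)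

theorem main (ξ : (AddMonoidAlgebra A (G 2))ˣ) (hξ : cocycle ξ = 1) : ∃ η, ξ = cobdry η := by
  classical
  have hu : IsUnit ((ξ : AddMonoidAlgebra A (G 2)).coeff 0) := by
    by_contra h
    obtain ⟨M, hM, hmem⟩ := exists_max_ideal_of_mem_nonunits h
    exact (base ξ hξ 0 M).mp hmem rfl
  set a := hu.unit with ha
  let c1 : (AddMonoidAlgebra A (G 1))ˣ := Units.map (cc 1).toMonoidHom a
  let c2 : (AddMonoidAlgebra A (G 2))ˣ := Units.map (cc 2).toMonoidHom a
  have hc : cobdry c1 = c2 := by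
    have : ∀ f : G 1 →+ G 2, U f c1 = c2 := fun f => Units.ext (by simp [U_val, c1, c2, cc, D_single])
    simp [cobdry, this]
  set ξ' := ξ * c2⁻¹
  have hξ' : cocycle ξ' = 1 := by rw [map_mul, hξ, map_inv, ← hc, cocycle_cobdry, inv_one, mul_one]
  set ε := (ξ' : AddMonoidAlgebra A (G 2)) - 1 with hε
  have hεc : ∀ v, IsNilpotent (ε.coeff v) := by
    intro v
    rw [nilpotent_iff_mem_prime]
    intro P hP
    have hv : ε.coeff v = ((a⁻¹ : Aˣ) : A) * (ξ : AddMonoidAlgebra A (G 2)).coeff v - (1 : AddMonoidAlgebra A (G 2)).coeff v := by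
      simp [hε, ξ', c2, cc, mul_comm]
    rw [hv]
    rcases eq_or_ne v 0 with rfl | h
    · simp [AddMonoidAlgebra.one_def, ha]
    · refine sub_mem (P.mul_mem_left _ ((base ξ hξ v P).mpr h)) ?_
      simp [AddMonoidAlgebra.one_def, Finsupp.single_eq_of_ne h]
  let J : Ideal A := Ideal.span (ε.coeff '' ε.coeff.support)
  have hJn : IsNilpotent J := (Ideal.FG.isNilpotent_iff_le_nilradical
      (Submodule.fg_span (Set.Finite.image _ ε.coeff.support.finite_toSet))).mpr
    (Ideal.span_le.mpr (by rintro _ ⟨v, -, rfl⟩; exact hεc v))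
  obtain ⟨N, hN⟩ := id hJn
  have hk : ∀ k, 1 ≤ k → ∃ η, ((ξ' * (cobdry η)⁻¹ : (AddMonoidAlgebra A (G 2))ˣ) : AddMonoidAlgebra A (G 2)) - 1 ∈ (J ^ k).map (cc 2) := by
    intro k hk
    induction k, hk using Nat.le_induction with
    | base =>
      refine ⟨1, ?_⟩
      rw [map_one, inv_one, mul_one, pow_one, mem_map_iff]
      intro v
      by_cases h : ε.coeff v = 0
      · rw [← hε, h]; exact zero_mem _
      · exact Ideal.subset_span ⟨v, Finsupp.mem_support_iff.mpr h, rfl⟩
    | succ k hk ih =>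
      obtain ⟨η, hη⟩ := ih
      obtain ⟨η', hη'⟩ := step J hJn k hk (ξ' * (cobdry η)⁻¹)
        (by rw [map_mul, map_inv, hξ', cocycle_cobdry, inv_one, mul_one]) hη
      exact ⟨η * η', by rwa [map_mul, mul_inv, ← mul_assoc]⟩
  obtain ⟨η, hη⟩ := hk (N + 1) (by omega)
  rw [pow_succ, hN, zero_mul, Ideal.zero_eq_bot, Ideal.map_bot, Ideal.mem_bot, sub_eq_zero, Units.val_eq_one,
    mul_inv_eq_one] at hη
  refine ⟨c1 * η, ?_⟩
  rw [map_mul, hc, ← hη]
  simp [ξ', mul_comm, mul_left_comm]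

end

/-- For any commutative ring A, the second cohomology of the complex of unit groups A[t₁^±]ˣ → A[t₁^±,
t₂^±]ˣ → A[t₁^±, t₂^±, t₃^±]ˣ → ⋯ attached to the cosimplicial ring of Laurent polynomial rings
(coface maps (t₁, t₂) ↦ (t₂, t₃), (t₁t₂, t₃), (t₁, t₂t₃), (t₁, t₂) and t₁ ↦ t₂, t₁t₂, t₁) vanishes:
every unit ξ of A[t₁^±, t₂^±] with ξ(t₂,t₃) ξ(t₁t₂,t₃)⁻¹ ξ(t₁,t₂t₃) ξ(t₁,t₂)⁻¹ = 1 is of the form
η(t₂) η(t₁t₂)⁻¹ η(t₁) for a unit η of A[t^±]. Laurent polynomial rings are written as group algebras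
of ℤ^p and the coface maps as the maps induced by the corresponding additive maps ℤ^p → ℤ^(p+1). -/
theorem result (A : Type u) [CommRing A] (ξ : (AddMonoidAlgebra A (Fin 2 → ℤ))ˣ)
    (hξ : Units.map (AddMonoidAlgebra.mapDomainRingHom A
          (Matrix.mulVecLin (!![0, 0; 1, 0; 0, 1] : Matrix (Fin 3) (Fin 2) ℤ)).toAddMonoidHom).toMonoidHom ξ *
        (Units.map (AddMonoidAlgebra.mapDomainRingHom A
          (Matrix.mulVecLin (!![1, 0; 1, 0; 0, 1] : Matrix (Fin 3) (Fin 2) ℤ)).toAddMonoidHom).toMonoidHom ξ)⁻¹ *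
        Units.map (AddMonoidAlgebra.mapDomainRingHom A
          (Matrix.mulVecLin (!![1, 0; 0, 1; 0, 1] : Matrix (Fin 3) (Fin 2) ℤ)).toAddMonoidHom).toMonoidHom ξ *
        (Units.map (AddMonoidAlgebra.mapDomainRingHom A
          (Matrix.mulVecLin (!![1, 0; 0, 1; 0, 0] : Matrix (Fin 3) (Fin 2) ℤ)).toAddMonoidHom).toMonoidHom ξ)⁻¹ = 1) :
    ∃ η : (AddMonoidAlgebra A (Fin 1 → ℤ))ˣ,
      ξ = Units.map (AddMonoidAlgebra.mapDomainRingHom A
          (Matrix.mulVecLin (!![0; 1] : Matrix (Fin 2) (Fin 1) ℤ)).toAddMonoidHom).toMonoidHom η *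
        (Units.map (AddMonoidAlgebra.mapDomainRingHom A
          (Matrix.mulVecLin (!![1; 1] : Matrix (Fin 2) (Fin 1) ℤ)).toAddMonoidHom).toMonoidHom η)⁻¹ *
        Units.map (AddMonoidAlgebra.mapDomainRingHom A
          (Matrix.mulVecLin (!![1; 0] : Matrix (Fin 2) (Fin 1) ℤ)).toAddMonoidHom).toMonoidHom η := by
  obtain ⟨η, hη⟩ := main ξ hξ
  exact ⟨η, hη⟩

end Groth.Agent.S13793
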