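import Groth.Statements.S13794
import Mathlib

set_option autoImplicit false
universe u
open Polynomial
open Curves

namespace Groth.Agent.S13794

/-- Let k be a field of characteristic not 3 and β ∈ k. If a line ax + by + c = 0 with a³ ≠ b³ is the
tangent line at a flex point of the affine cubic x³ + y³ + β = 3xy, then β is a cube in k. Here the
line is normalised to b ≠ 0 (the roles of x and y are symmetric) and the flex-tangency is expressed
by the restriction of the cubic to the line being λ (x − x₀)³. -/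
theorem result {k : Type u} [Field k] (h3 : (3 : k) ≠ 0)
    (β a b c : k) (hb : b ≠ 0) (hab : a ^ 3 ≠ b ^ 3) (lam x₀ : k)
    (hflex : (X : k[X]) ^ 3 + (C (-a / b) * X + C (-c / b)) ^ 3 + C β - 3 * X * (C (-a / b) * X + C (-c / b)) =
      C lam * (X - C x₀) ^ 3) :
    ∃ γ : k, β = γ ^ 3 := by
  set p := -a / b with hp
  set q := -c / b with hq
  have e : ∀ n : ℕ, _ := fun n => congrArg (fun P : k[X] => P.coeff n) hflex
  have e0 := e 0
  have e1 := e 1
  have e2 := e 2
  have e3 := e 3
  simp [pow_succ, mul_add, add_mul, mul_sub, sub_mul, mul_assoc, Polynomial.coeff_X, Polynomial.coeff_C,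
    Polynomial.coeff_ofNat_mul] at e0 e1 e2 e3
  have hl : 1 + p ^ 3 ≠ 0 := by
    intro h0
    have : (-a) ^ 3 + b ^ 3 = 0 := by
      have h1 : (1 + (-a / b) ^ 3) * b ^ 3 = 0 := by rw [← hp, h0, zero_mul]
      rw [div_pow, add_mul, div_mul_cancel₀ _ (pow_ne_zero 3 hb)] at h1
      linear_combination h1
    exact hab (by linear_combination -this)
  have E2 : lam * x₀ = p - p ^ 2 * q := by
    apply mul_left_cancel₀ h3; linear_combination e2
  have E1 : lam * x₀ ^ 2 = p * q ^ 2 - q := by
    apply mul_left_cancel₀ h3; linear_combination -e1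
  have E3 : lam = 1 + p ^ 3 := by linear_combination -e3
  have key : (p * q - 1) * (q + p ^ 2) = 0 := by
    linear_combination (p ^ 2 * q ^ 2 * 0) + (-lam) * E1 + (lam * x₀ + (p - p ^ 2 * q)) * E2 + (p * q ^ 2 - q) * (-E3)
  rcases mul_eq_zero.1 key with h | h
  · have hx : x₀ = 0 := by
      have : lam * x₀ = 0 := by linear_combination E2 - p * h
      exact (mul_eq_zero.1 this).resolve_left (E3 ▸ hl)
    subst hx
    exact ⟨-q, by linear_combination e0⟩
  · have hx : x₀ = p := by
      refine mul_left_cancel₀ (E3 ▸ hl : lam ≠ 0) ?_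
      linear_combination E2 - p * E3 - p ^ 2 * h
    exact ⟨-p, by linear_combination e0 - (q ^ 2 - q * p ^ 2 + p ^ 4) * h - lam * (x₀ ^ 2 + x₀ * p + p ^ 2) * hx - p ^ 3 * E3⟩

end Groth.Agent.S13794
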