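import Groth.Statements.S13796
import Groth.Agent.CSA.TensorPowerRing

set_option autoImplicit false
universe u
open scoped TensorProduct
open Brauer

namespace Groth.Agent.S13796

/-- In the case of an affine scheme — let R be a commutative ring and A an Azumaya R-algebra of constant
rank n². Then there exist a finitely generated projective R-module E of constant rank n^n and an
R-algebra isomorphism from the n-fold tensor power A ⊗ ⋯ ⊗ A to End_R(E) (existence of an
isomorphism only), so the Brauer class of A is n-torsion. For n = 0 the hypotheses force R = 0,
where the statement holds trivially. (The published statement is for Azumaya algebras of constant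
rank n² on any locally ringed site; this row is the case of the étale site of Spec R, written in
terms of modules: an Azumaya algebra here is one in the usual, étale-local sense.) -/
theorem result (R : Type u) [CommRing R] (A : Type u) [Ring A] [Algebra R A]
    [IsAzumaya R A] (n : ℕ) (hrk : ∀ p : PrimeSpectrum R, Module.rankAtStalk (R := R) A p = n ^ 2) :
    ∃ (E : Type u) (_ : AddCommGroup E) (_ : Module R E), Module.Finite R E ∧ Module.Projective R E ∧
      (∀ p : PrimeSpectrum R, Module.rankAtStalk (R := R) E p = n ^ n) ∧
      Nonempty ((⨂[R] _ : Fin n, A) ≃ₐ[R] Module.End R E) := by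
  rcases eq_or_ne n 0 with rfl | hn
  · have hR : Subsingleton R := by
      by_contra hR
      rw [not_subsingleton_iff_nontrivial] at hR
      obtain ⟨p⟩ : Nonempty (PrimeSpectrum R) := inferInstance
      let K := p.asIdeal.ResidueField
      haveI := CSA.isSimpleRing_tensor' R A K
      have h := hrk p
      rw [Module.rankAtStalk_eq] at h
      exact (Module.finrank_pos (R := K) (M := K ⊗[R] A)).ne' (by simpa using h)
    haveI : Subsingleton (⨂[R] _ : Fin 0, A) := Module.subsingleton R _
    haveI : Subsingleton (Module.End R PUnit.{u + 1}) := Module.subsingleton R _
    refine ⟨PUnit.{u + 1}, inferInstance, inferInstance, inferInstance, inferInstance,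
      fun p => absurd p.nontrivial (not_nontrivial_iff_subsingleton.2 hR), ⟨AlgEquiv.ofBijective
      { toFun := fun _ => 0, map_one' := Subsingleton.elim _ _, map_mul' := fun _ _ => Subsingleton.elim _ _,
        map_zero' := rfl, map_add' := fun _ _ => Subsingleton.elim _ _,
        commutes' := fun _ => Subsingleton.elim _ _ }
      ⟨fun _ _ _ => Subsingleton.elim _ _, fun y => ⟨0, Subsingleton.elim _ _⟩⟩⟩⟩
  · exact CSA.exists_tensorPower_end hn hrk

end Groth.Agent.S13796
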