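import Groth.Statements.S13797
import Groth.Agent.AzMorita.EndIso

set_option autoImplicit false
universe u
open scoped TensorProduct
open Brauer

namespace Groth.Agent.S13797

/-- In the case of an affine scheme — let A be a commutative ring, n ≥ 1 and α an A-algebra automorphism
of the n × n matrix algebra over A. The A-module L of matrices M with M N = α(N) M for every matrix
N (the module of sections of the line bundle attached to the torsor of liftings of α to GL_n) is
invertible, and its class in the Picard group of A is n-torsion: the n-fold tensor power of L is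
isomorphic to A (existence of an isomorphism only). (The published statement is for an automorphism
of End(O^n) on any locally ringed site, in the form: the sheaf of liftings is a 𝔾_m-torsor whose
class in Pic is n-torsion; this row is the affine case.) -/
theorem result (A : Type u) [CommRing A] (n : ℕ) (hn : 0 < n)
    (α : Matrix (Fin n) (Fin n) A ≃ₐ[A] Matrix (Fin n) (Fin n) A) :
    Module.Invertible A
        (LinearMap.ker (LinearMap.mul A (Matrix (Fin n) (Fin n) A) -
          (LinearMap.lcomp A (Matrix (Fin n) (Fin n) A) α.toLinearMap).comp (LinearMap.mul A (Matrix (Fin n) (Fin n) A)).flip)) ∧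
      Nonempty ((⨂[A] _ : Fin n,
          LinearMap.ker (LinearMap.mul A (Matrix (Fin n) (Fin n) A) -
            (LinearMap.lcomp A (Matrix (Fin n) (Fin n) A) α.toLinearMap).comp (LinearMap.mul A (Matrix (Fin n) (Fin n) A)).flip)) ≃ₗ[A] A) := by
  classical
  let e : Module.End A (Fin n → A) ≃ₐ[A] Module.End A (Fin n → A) :=
    (Matrix.toLinAlgEquiv'.symm.trans α).trans Matrix.toLinAlgEquiv'
  let K : Submodule A (Matrix (Fin n) (Fin n) A) :=
    LinearMap.ker (LinearMap.mul A (Matrix (Fin n) (Fin n) A) -
      (LinearMap.lcomp A (Matrix (Fin n) (Fin n) A) α.toLinearMap).comp (LinearMap.mul A (Matrix (Fin n) (Fin n) A)).flip)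
  have hK : ∀ P : Matrix (Fin n) (Fin n) A, P ∈ K ↔ ∀ X, P * X = α X * P := fun P => by
    refine ⟨fun h X => sub_eq_zero.mp (by simpa [K, LinearMap.lcomp_apply, LinearMap.sub_apply] using LinearMap.congr_fun (LinearMap.mem_ker.mp h) X),
      fun h => LinearMap.mem_ker.mpr (LinearMap.ext fun X => ?_)⟩
    simp [LinearMap.lcomp_apply, h X]
  have hL : K.map (Matrix.toLinAlgEquiv' : Matrix (Fin n) (Fin n) A ≃ₐ[A] _).toLinearMap = Groth.Agent.AzMorita.L e.toAlgHom := by
    refine Submodule.ext fun l => ⟨?_, fun hl => ⟨Matrix.toLinAlgEquiv'.symm l, (hK _).mpr fun X => ?_, AlgEquiv.apply_symm_apply _ l⟩⟩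
    · rintro ⟨P, hP, rfl⟩ f
      show Matrix.toLinAlgEquiv' P * f = Matrix.toLinAlgEquiv' (α (Matrix.toLinAlgEquiv'.symm f)) * Matrix.toLinAlgEquiv' P
      obtain ⟨X, rfl⟩ := Matrix.toLinAlgEquiv'.surjective f
      rw [AlgEquiv.symm_apply_apply, ← map_mul, ← map_mul, (hK P).mp hP X]
    · apply Matrix.toLinAlgEquiv'.injective
      rw [map_mul, map_mul, AlgEquiv.apply_symm_apply]
      have := hl (Matrix.toLinAlgEquiv' X)
      rw [show e.toAlgHom (Matrix.toLinAlgEquiv' X) = Matrix.toLinAlgEquiv' (α X) by simp [e]] at this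
      exact this
  let eKL : K ≃ₗ[A] Groth.Agent.AzMorita.L e.toAlgHom :=
    (Submodule.equivMapOfInjective _ Matrix.toLinAlgEquiv'.injective K).trans (LinearEquiv.ofEq _ _ hL)
  haveI : Nonempty (Fin n) := ⟨⟨0, hn⟩⟩
  haveI : Module.FaithfullyFlat A (Fin n → A) :=
    { (inferInstance : Module.Flat A (Fin n → A)) with
      submodule_ne_top := fun m hm h => by
        have hmem : (Pi.single ⟨0, hn⟩ 1 : Fin n → A) ∈ m • (⊤ : Submodule A (Fin n → A))  := by rw [h]; trivial
        have h1 := Submodule.mem_map_of_mem (f := (LinearMap.proj ⟨0, hn⟩ : (Fin n → A) →ₗ[A] A)) hmem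
        rw [Submodule.map_smul''] at h1
        exact hm.ne_top ((Ideal.eq_top_iff_one m).mpr (by
          simpa using (Submodule.smul_le.mpr (fun r hr x _ => m.mul_mem_right x hr) : m • Submodule.map (LinearMap.proj ⟨0, hn⟩ : (Fin n → A) →ₗ[A] A) ⊤ ≤ m) h1)) }
  have hinv : Module.Invertible A K :=
    haveI := Groth.Agent.AzMorita.invertible_L e
    Module.Invertible.congr eKL.symm
  refine ⟨hinv, ?_⟩
  -- tensor powers are invertible
  have hpow : ∀ m : ℕ, Module.Invertible A (⨂[A] _ : Fin m, K) := by
    intro m
    induction m with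
    | zero => exact Module.Invertible.congr (PiTensorProduct.isEmptyEquiv (Fin 0)).symm
    | succ m ih =>
      haveI := ih
      haveI := hinv
      haveI : Module.Invertible A (⨂[A] _ : Fin 1, K) :=
        Module.Invertible.congr (PiTensorProduct.subsingletonEquiv (s := fun _ : Fin 1 => K) 0).symm
      exact Module.Invertible.congr ((PiTensorProduct.tmulEquiv A K).trans (PiTensorProduct.reindex A (fun _ => K) finSumFinEquiv))
  let col : Fin n → K →ₗ[A] (Fin n → A) := fun i =>
    { toFun := fun P => fun r => (P : Matrix (Fin n) (Fin n) A) r i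
      map_add' := fun _ _ => rfl
      map_smul' := fun _ _ => rfl }
  let μ := PiTensorProduct.lift ((Matrix.detRowAlternating (n := Fin n) (R := A)).toMultilinearMap.compLinearMap col)
  have hμ : ∀ P : K, μ (PiTensorProduct.tprod A fun _ => P) = (P : Matrix (Fin n) (Fin n) A).det := by
    intro P
    simp only [μ, PiTensorProduct.lift.tprod]
    exact ((P : Matrix (Fin n) (Fin n) A).det_transpose).symm ▸ rfl
  haveI := hpow n
  have hsurj : Function.Surjective μ := by
    rw [← LinearMap.range_eq_top]
    by_contra hne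
    obtain ⟨m, hm, hle⟩ := Ideal.exists_le_maximal (LinearMap.range μ) hne
    letI := Ideal.Quotient.field m
    let q := Ideal.Quotient.mk m
    -- every element of K vanishes modulo m
    have hvan : ∀ P : K, (P : Matrix (Fin n) (Fin n) A).map q = 0 := by
      intro P
      have hdet : ((P : Matrix (Fin n) (Fin n) A).map q).det = 0 := by
        rw [← RingHom.mapMatrix_apply, ← RingHom.map_det, ← hμ P]
        exact Ideal.Quotient.eq_zero_iff_mem.mpr (hle ⟨_, rfl⟩)
      obtain ⟨v, hv0, hv⟩ := Matrix.exists_mulVec_eq_zero_iff.mpr hdet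
      obtain ⟨i, hi⟩ := Function.ne_iff.mp hv0
      refine Matrix.ext_iff_mulVec.mpr fun w => ?_
      rw [Matrix.zero_mulVec]
      obtain ⟨X, hX⟩ : ∃ X : Matrix (Fin n) (Fin n) A, (X.map q).mulVec v = w := by
        choose x hx using fun r => Ideal.Quotient.mk_surjective (w r * (v i)⁻¹)
        refine ⟨Matrix.of fun r c => if c = i then x r else 0, funext fun r => ?_⟩
        simp only [Matrix.mulVec, dotProduct, Matrix.map_apply, Matrix.of_apply, apply_ite q, map_zero, ite_mul, zero_mul,
          Finset.sum_ite_eq', Finset.mem_univ, if_true]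
        rw [show q (x r) = _ from hx r, mul_assoc, inv_mul_cancel₀ hi, mul_one]
      rw [← hX, Matrix.mulVec_mulVec, ← Matrix.map_mul, (hK _).mp P.2 X, Matrix.map_mul, ← Matrix.mulVec_mulVec, hv,
        Matrix.mulVec_zero]
    obtain ⟨t, ht⟩ := (Groth.Agent.AzMorita.ev_bijective e.toAlgHom).2 (Pi.single ⟨0, hn⟩ 1)
    have hev : ∀ t r, q (Groth.Agent.AzMorita.ev e.toAlgHom t r) = 0 := by
      intro t
      induction t using TensorProduct.induction_on with
      | zero => simp
      | add a b ha hb => intro r; simp only [map_add, Pi.add_apply, ha r, hb r, add_zero]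
      | tmul x l =>
        intro r
        obtain ⟨P, rfl⟩ := eKL.surjective l
        show q (((P : Matrix (Fin n) (Fin n) A).mulVec x) r) = 0
        rw [RingHom.map_mulVec, hvan P, Matrix.zero_mulVec, Pi.zero_apply]
    have := hev t ⟨0, hn⟩
    rw [ht, Pi.single_eq_same, map_one] at this
    exact one_ne_zero this
  exact ⟨LinearEquiv.ofBijective μ (Module.Invertible.bijective_of_surjective hsurj)⟩

end Groth.Agent.S13797
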