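import Groth.Statements.S13801
import Mathlib

set_option autoImplicit false
open ChowMon

namespace Groth.Agent.S13801

/-- For a prime p and positive natural numbers a_1, ..., a_k with sum n one has v_p(a_1!) + ... +
v_p(a_k!) ≤ v_p(n!), and the inequality is strict whenever some a_i is not divisible by p^(v_p(n)). -/
theorem result {k : ℕ} (p : ℕ) [Fact p.Prime]
    (a : Fin k → ℕ) (ha : ∀ i, 0 < a i) :
    (∑ i, padicValNat p (a i).factorial ≤ padicValNat p (∑ i, a i).factorial) ∧
      ((∃ i, ¬ p ^ padicValNat p (∑ j, a j) ∣ a i) →
        ∑ i, padicValNat p (a i).factorial < padicValNat p (∑ i, a i).factorial) := by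
  classical
  have hdvd := Nat.prod_factorial_dvd_factorial_sum (Finset.univ : Finset (Fin k)) a
  have hne : (∏ i, (a i).factorial) ≠ 0 := Finset.prod_ne_zero_iff.2 fun i _ => (Nat.factorial_pos _).ne'
  have hsum : padicValNat p (∏ i, (a i).factorial) = ∑ i, padicValNat p (a i).factorial :=
    Finset.induction_on (motive := fun t => padicValNat p (∏ i ∈ t, (a i).factorial) = ∑ i ∈ t, padicValNat p (a i).factorial) Finset.univ (by simp)
      (fun i t hi ih => by
        rw [Finset.prod_insert hi, Finset.sum_insert hi, padicValNat.mul (Nat.factorial_pos _).ne'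
          (Finset.prod_ne_zero_iff.2 fun j _ => (Nat.factorial_pos _).ne'), ih])
  have hval : padicValNat p (∑ i, a i).factorial = padicValNat p (Nat.multinomial Finset.univ a) + ∑ i, padicValNat p (a i).factorial := by
    rw [← hsum, ← Nat.multinomial_spec Finset.univ a, padicValNat.mul hne (Nat.multinomial_pos _ _).ne', add_comm]
  refine ⟨by omega, ?_⟩
  rintro ⟨i, hi⟩
  suffices 0 < padicValNat p (Nat.multinomial Finset.univ a) by omega
  -- compare with lowering the `i`-th exponent
  let b : Fin k → ℕ := Function.update a i (a i - 1)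
  have hn : ∑ j, a j = (∑ j, b j) + 1 := by
    rw [Finset.sum_update_of_mem (Finset.mem_univ i), ← Finset.sum_sdiff (Finset.subset_univ {i}) (f := a), Finset.sum_singleton]
    have := ha i; omega
  have h1 := Nat.multinomial_spec Finset.univ a
  have h2 := Nat.multinomial_spec Finset.univ b
  have hprod : (∏ j, (a j).factorial) = a i * ∏ j, (b j).factorial := by
    rw [← Finset.mul_prod_erase Finset.univ _ (Finset.mem_univ i), ← Finset.mul_prod_erase Finset.univ (fun j => (b j).factorial) (Finset.mem_univ i), ← mul_assoc]
    simp only [b, Function.update_self]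
    rw [Nat.mul_factorial_pred (ha i).ne']
    congr 1
    exact Finset.prod_congr rfl fun j hj => by rw [Function.update_of_ne (Finset.ne_of_mem_erase hj)]
  have key : a i * Nat.multinomial Finset.univ a = (∑ j, a j) * Nat.multinomial Finset.univ b := by
    have hb : 0 < ∏ j, (b j).factorial := Finset.prod_pos fun j _ => Nat.factorial_pos _
    apply Nat.eq_of_mul_eq_mul_left hb
    calc (∏ j, (b j).factorial) * (a i * Nat.multinomial Finset.univ a) = (∏ j, (a j).factorial) * Nat.multinomial Finset.univ a := by
          rw [hprod]; ring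
      _ = (∑ j, a j).factorial := h1
      _ = _ := by rw [hn, Nat.factorial_succ, ← h2]; ring
  have hv := congrArg (padicValNat p) key
  rw [padicValNat.mul (ha i).ne' (Nat.multinomial_pos _ _).ne', padicValNat.mul (by omega) (Nat.multinomial_pos _ _).ne'] at hv
  by_contra h0
  apply hi
  have hle : padicValNat p (∑ j, a j) ≤ padicValNat p (a i) := by omega
  exact (pow_dvd_pow p hle).trans pow_padicValNat_dvd

end Groth.Agent.S13801
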