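import Groth.Statements.S13807
import Groth.Agent.EtaLib.Basic

set_option autoImplicit false
universe u
open EtaPt

namespace Groth.Agent.S13807

/-- For a field K the pointwise ring M_η(K) is all of N_η(K) = F(k((0))). Here η is a natural
transformation from the identity of the category of fields to an endofunctor F with F(η_K) bijective
and η_K purely inseparable for every field K, N_η(A) is the product of the F(k(p)) over the primes p
of A with diagonal map t_A, and M_η(A) ⊆ N_η(A) is the subring of elements sent into the range of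
t_R by every ring map from A to a valuation ring R at whose fraction field η is bijective; q_A : A →
M_η(A) is the corestriction of t_A. -/
theorem result (η : EtaPt.FieldEndo.{u}) (K : Type u) [Field K] : η.M K = ⊤ := by
  refine eq_top_iff.mpr fun x _ => (EtaLib.mem_M_iff η x).mpr ?_
  intro R _ _ _ hR g
  let L := FractionRing R
  let h := algebraMap R L
  have hL : Function.Bijective (η.eta L) := hR
  obtain ⟨y, hy⟩ := hL.2 (EtaLib.ev η (h.comp g) x)
  let p0 : PrimeSpectrum K := ⟨⊥, Ideal.isPrime_bot⟩
  obtain ⟨n, c, hc⟩ := η.exists_pow_mem_range_eta p0.asIdeal.ResidueField (x p0)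
  haveI : p0.asIdeal.IsMaximal := Ideal.bot_isMaximal
  obtain ⟨c, rfl⟩ := Ideal.algebraMap_residueField_surjective p0.asIdeal c
  set e := ringExpChar p0.asIdeal.ResidueField with he
  have hpow : ∀ {E : Type u} [Field E] (φ : K →+* E), EtaLib.ev η φ x ^ e ^ n = η.eta E (φ c) := by
    intro E _ φ
    rw [← EtaLib.ev_t η φ c, ← map_pow]
    refine congrArg _ (funext fun p => ?_)
    obtain rfl : p = p0 := PrimeSpectrum.ext (Ideal.eq_bot_of_prime p.asIdeal)
    exact hc.symm
  have hy' : y ^ e ^ n = h (g c) := (η.eta L).injective (by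
    rw [map_pow, hy]
    exact hpow (h.comp g))
  obtain ⟨r, rfl⟩ : ∃ r, h r = y := IsIntegrallyClosed.algebraMap_eq_of_integral (R := R) (by
    haveI := ringExpChar.expChar p0.asIdeal.ResidueField
    exact IsIntegral.of_pow (pow_pos (expChar_pos p0.asIdeal.ResidueField e) n) (hy' ▸ isIntegral_algebraMap))
  have hr : r ^ e ^ n = g c := IsFractionRing.injective R L (by rw [map_pow]; exact hy')
  let ι : p0.asIdeal.ResidueField →+* K := (p0.asIdeal.algEquivResidueFieldOfField).symm.toRingHom
  refine ⟨r, fun q => EtaLib.pow_cancel
    ((η.eta q.asIdeal.ResidueField).comp ((algebraMap R q.asIdeal.ResidueField).comp (g.comp ι))) n ?_⟩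
  rw [hpow, ← map_pow, ← map_pow, hr]
  rfl

end Groth.Agent.S13807
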