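import Groth.Statements.S13809
import Groth.Agent.EtaLib.Rel

set_option autoImplicit false
universe u
open EtaPt

namespace Groth.Agent.S13809

/-- For an integrally closed domain A such that η is bijective at the fraction field of A, the map q_A :
A → M_η(A) is bijective. Here η is a natural transformation from the identity of the category of
fields to an endofunctor F with F(η_K) bijective and η_K purely inseparable for every field K,
N_η(A) is the product of the F(k(p)) over the primes p of A with diagonal map t_A, and M_η(A) ⊆
N_η(A) is the subring of elements sent into the range of t_R by every ring map from A to a valuation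
ring R at whose fraction field η is bijective; q_A : A → M_η(A) is the corestriction of t_A. -/
theorem result (η : EtaPt.FieldEndo.{u}) (A : Type u) [CommRing A] [IsDomain A] [IsIntegrallyClosed A]
    (hA : η.InV A) : Function.Bijective (η.q A) := by
  refine ⟨fun a b h => ?_, fun x => ?_⟩
  · exact EtaLib.t_injective η (congrArg Subtype.val h)
  · obtain ⟨y, hy, hint⟩ := EtaLib.isIntegralElem_of_mem η x.2 hA (algebraMap A (FractionRing A))
    obtain ⟨a, rfl⟩ := IsIntegrallyClosed.algebraMap_eq_of_integral (R := A) hint
    refine ⟨a, Subtype.ext (EtaLib.M_ext η (η.q A a).2 x.2 fun p hp => ?_)⟩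
    rw [IsDomain.minimalPrimes_eq_singleton_bot, Set.mem_singleton_iff] at hp
    obtain rfl : EtaLib.pt (algebraMap A (FractionRing A)) = p := PrimeSpectrum.ext
      (((RingHom.injective_iff_ker_eq_bot _).mp (IsFractionRing.injective A (FractionRing A))).trans hp.symm)
    refine (η.map (EtaLib.liftK (algebraMap A (FractionRing A)))).injective ?_
    exact (EtaLib.ev_t η (algebraMap A (FractionRing A)) a).trans hy

end Groth.Agent.S13809
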