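import Groth.Statements.S13810
import Groth.Agent.EtaLib.Rel
import Mathlib.RingTheory.Ideal.Prod

set_option autoImplicit false
universe u
open EtaPt

namespace Groth.Agent.S13810

/-- For commutative rings A and B, the pair of maps N_η of the two projections restricts to a bijection
from M_η(A × B) onto M_η(A) × M_η(B). Here η is a natural transformation from the identity of the
category of fields to an endofunctor F with F(η_K) bijective and η_K purely inseparable for every
field K, N_η(A) is the product of the F(k(p)) over the primes p of A with diagonal map t_A, and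
M_η(A) ⊆ N_η(A) is the subring of elements sent into the range of t_R by every ring map from A to a
valuation ring R at whose fraction field η is bijective; q_A : A → M_η(A) is the corestriction of
t_A. -/
theorem result (η : EtaPt.FieldEndo.{u}) (A B : Type u) [CommRing A] [CommRing B] :
    Set.BijOn (fun x : η.N (A × B) => (η.Nmap (RingHom.fst A B) x, η.Nmap (RingHom.snd A B) x))
      (η.M (A × B)) ((η.M A : Set (η.N A)) ×ˢ (η.M B : Set (η.N B))) := by
  refine ⟨fun x hx => ⟨EtaLib.Nmap_mem_M η _ hx, EtaLib.Nmap_mem_M η _ hx⟩, fun x _ y _ h => funext fun P => ?_,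
    fun ⟨y₁, y₂⟩ ⟨h₁, h₂⟩ => ?_⟩
  · obtain ⟨p, hp, e⟩ | ⟨p, hp, e⟩ := (Ideal.ideal_prod_prime P.asIdeal).mp P.isPrime
    · obtain rfl : PrimeSpectrum.comap (RingHom.fst A B) ⟨p, hp⟩ = P :=
        PrimeSpectrum.ext (by rw [e]; ext z; simp [Ideal.mem_prod])
      exact (η.map _).injective (congrFun (congrArg Prod.fst h) ⟨p, hp⟩)
    · obtain rfl : PrimeSpectrum.comap (RingHom.snd A B) ⟨p, hp⟩ = P :=
        PrimeSpectrum.ext (by rw [e]; ext z; simp [Ideal.mem_prod])
      exact (η.map _).injective (congrFun (congrArg Prod.snd h) ⟨p, hp⟩)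
  · obtain ⟨x₁, hx₁⟩ := EtaLib.Nmap_surjective_of_surjective η (RingHom.fst A B) Prod.fst_surjective y₁
    obtain ⟨x₂, hx₂⟩ := EtaLib.Nmap_surjective_of_surjective η (RingHom.snd A B) Prod.snd_surjective y₂
    obtain ⟨x, e₁, e₂⟩ : ∃ x, η.Nmap (RingHom.fst A B) x = y₁ ∧ η.Nmap (RingHom.snd A B) x = y₂ :=
      ⟨x₁ * η.t _ (1, 0) + x₂ * η.t _ (0, 1), by
        simp only [map_add, map_mul, η.Nmap_t_apply, RingHom.coe_fst, RingHom.coe_snd, map_one, map_zero, hx₁,
          hx₂, mul_one, mul_zero, add_zero, zero_add, and_self]⟩
    refine ⟨x, ?_, Prod.ext e₁ e₂⟩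
    intro R _ _ _ hR g
    have h01 : g (1, 0) + g (0, 1) = 1 := by rw [← map_add]; simp [Prod.mk_one_one]
    rcases IsIdempotentElem.iff_eq_zero_or_one.mp
        (show IsIdempotentElem (g (1, 0)) by rw [IsIdempotentElem, ← map_mul]; simp) with h0 | h0
    · rw [h0, zero_add] at h01
      let g' : B →+* R :=
        { toFun := fun b => g (0, b)
          map_one' := h01
          map_mul' := fun a b => by rw [← map_mul]; simp
          map_zero' := g.map_zero
          map_add' := fun a b => by rw [← map_add]; simp }
      have hg : g = g'.comp (RingHom.snd A B) := RingHom.ext fun z => by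
        have hz : z = (z.1, 0) * (1, 0) + (0, z.2) := by simp
        rw [RingHom.comp_apply, RingHom.coe_snd]
        show g z = g (0, z.2)
        conv_lhs => rw [hz, map_add, map_mul, h0, mul_zero, zero_add]
      rw [hg, ← EtaLib.Nmap_comp, e₂]
      exact h₂ R hR g'
    · rw [h0, add_eq_left] at h01
      let g' : A →+* R :=
        { toFun := fun a => g (a, 0)
          map_one' := h0
          map_mul' := fun a b => by rw [← map_mul]; simp
          map_zero' := g.map_zero
          map_add' := fun a b => by rw [← map_add]; simp }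
      have hg : g = g'.comp (RingHom.fst A B) := RingHom.ext fun z => by
        have hz : z = (z.1, 0) + (0, z.2) * (0, 1) := by simp
        rw [RingHom.comp_apply, RingHom.coe_fst]
        show g z = g (z.1, 0)
        conv_lhs => rw [hz, map_add, map_mul, h01, mul_zero, add_zero]
      rw [hg, ← EtaLib.Nmap_comp, e₁]
      exact h₁ R hR g'

end Groth.Agent.S13810
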