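import Groth.Statements.S13813
import Groth.Agent.EtaLib.Basic
import Mathlib.RingTheory.IntegralClosure.IsIntegralClosure.Basic

set_option autoImplicit false
universe u
open EtaPt

namespace Groth.Agent.S13813

open Groth.Agent

lemma isFractionRing_bot (R : Type u) [CommRing R] [IsDomain R] :
    IsFractionRing R (⊥ : Ideal R).ResidueField := by
  have hinj : Function.Injective (algebraMap R (⊥ : Ideal R).ResidueField) :=
    (injective_iff_map_eq_zero _).mpr fun a ha => Ideal.mem_bot.mp (Ideal.algebraMap_residueField_eq_zero.mp ha)
  haveI : FaithfulSMul R (⊥ : Ideal R).ResidueField := (faithfulSMul_iff_algebraMap_injective _ _).mpr hinj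
  refine IsFractionRing.of_field R _ fun z => ?_
  obtain ⟨u, w, -, rfl⟩ := IsFractionRing.div_surjective (A := R ⧸ (⊥ : Ideal R)) z
  obtain ⟨a, rfl⟩ := Ideal.Quotient.mk_surjective u
  obtain ⟨b, rfl⟩ := Ideal.Quotient.mk_surjective w
  exact ⟨a, b, rfl⟩

lemma exists_range_of_integral (η : FieldEndo.{u}) (R : Type u) [CommRing R] [IsDomain R] [ValuationRing R]
    {c : (⊥ : Ideal R).ResidueField}
    (hc : ((η.eta (⊥ : Ideal R).ResidueField).comp (algebraMap R _)).IsIntegralElem (η.eta _ c)) :
    ∃ r, algebraMap R (⊥ : Ideal R).ResidueField r = c := by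
  haveI := isFractionRing_bot R
  obtain ⟨P, hP, hP0⟩ := hc
  refine IsIntegrallyClosed.algebraMap_eq_of_integral ⟨P, hP, ?_⟩
  rw [← Polynomial.hom_eval₂] at hP0
  exact (η.eta _).injective (hP0.trans (map_zero _).symm)


/-- Let R be a valuation ring with fraction field K such that η is bijective at K, or such that every
field of the same characteristic as R at which η is bijective is perfect. Then evaluation at the
generic point maps M_η(R) injectively into F(K), with image exactly the elements of F(K) integral
over R (through η_K composed with R → K); here K is realised as the residue field of R at (0). (The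
published statement assumes nothing about η beyond the standing conditions, and then fails: for the
endofunctor equal to the perfect closure on the fields of characteristic 2 and transcendence degree
at least 2 over the prime field and to the identity on every other field, and R = F_2(s)[t]
localised at (t), the element s^(1/2) of F(K) is integral over R but is the generic component of no
element of M_η(R). This row assumes that η is bijective at Frac R, or that every field of the same
characteristic as R at which η is bijective is perfect; both the identity and the perfect closure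
satisfy this.) Here η is a natural transformation from the identity of the category of fields to an
endofunctor F with F(η_K) bijective and η_K purely inseparable for every field K, N_η(A) is the
product of the F(k(p)) over the primes p of A with diagonal map t_A, and M_η(A) ⊆ N_η(A) is the
subring of elements sent into the range of t_R by every ring map from A to a valuation ring R at
whose fraction field η is bijective; q_A : A → M_η(A) is the corestriction of t_A. -/
theorem result (η : EtaPt.FieldEndo.{u}) (R : Type u) [CommRing R] [IsDomain R] [ValuationRing R]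
    (hη : η.InV R ∨ ∀ (k : Type u) [Field k], ringChar k = ringChar R →
      Function.Bijective (η.eta k) → PerfectField k) :
    Set.InjOn (fun x : η.N R => x ⟨⊥, Ideal.isPrime_bot⟩) (η.M R) ∧
      (fun x : η.N R => x ⟨⊥, Ideal.isPrime_bot⟩) '' (η.M R : Set (η.N R)) =
        {y | ((η.eta (⊥ : Ideal R).ResidueField).comp (algebraMap R (⊥ : Ideal R).ResidueField)).IsIntegralElem y} := by
  haveI := isFractionRing_bot R
  refine ⟨fun x hx y hy h => EtaLib.M_ext η hx hy fun q hq => ?_, Set.ext fun y => ⟨?_, fun hy => ?_⟩⟩
  · rw [IsDomain.minimalPrimes_eq_singleton_bot, Set.mem_singleton_iff] at hq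
    obtain rfl : q = ⟨⊥, Ideal.isPrime_bot⟩ := PrimeSpectrum.ext hq
    exact h
  · rintro ⟨x, hx, rfl⟩
    obtain ⟨y, hy, hint⟩ := EtaLib.isIntegralElem_of_mem η hx (EtaLib.bijective_eta_obj η _)
      ((η.eta (⊥ : Ideal R).ResidueField).comp (algebraMap R (⊥ : Ideal R).ResidueField))
    rw [EtaLib.ev_field, EtaLib.map_eta_eq, EtaLib.ev_can η (⟨⊥, Ideal.isPrime_bot⟩ : PrimeSpectrum R)] at hy
    rwa [(η.eta (η.obj (⊥ : Ideal R).ResidueField)).injective hy] at hint
  · obtain ⟨n, c, hc⟩ := η.exists_pow_mem_range_eta (⊥ : Ideal R).ResidueField y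
    obtain ⟨e, he⟩ : ∃ e, e = ringExpChar (⊥ : Ideal R).ResidueField := ⟨_, rfl⟩
    obtain ⟨r, rfl⟩ := exists_range_of_integral η R (c := c) (by
      letI := ((η.eta (⊥ : Ideal R).ResidueField).comp (algebraMap R _)).toAlgebra
      rw [hc]
      exact IsIntegral.pow (R := R) hy _)
    rw [← he] at hc
    by_cases hInV : η.InV R
    · obtain ⟨c', rfl⟩ := (EtaLib.bijective_eta_of_inV η R (⊥ : Ideal R).ResidueField hInV).2 y
      obtain ⟨r', rfl⟩ := exists_range_of_integral η R hy
      exact ⟨η.t R r', η.t_mem_M R r', rfl⟩
    have hp' := hη.resolve_left hInV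
    haveI hfrac := isFractionRing_bot R
    haveI : CharP (⊥ : Ideal R).ResidueField (ringChar R) :=
      charP_of_injective_algebraMap (IsFractionRing.injective R _) (ringChar R)
    have hp : (ringChar R).Prime := by
      refine (CharP.char_is_prime_or_zero R (ringChar R)).resolve_right fun h0 => hInV ?_
      haveI : CharP (⊥ : Ideal R).ResidueField 0 := h0 ▸ inferInstance
      haveI : CharZero (⊥ : Ideal R).ResidueField := CharP.charP_to_charZero _
      exact EtaLib.inV_of_bijective η R _ (EtaLib.bijective_eta_of_perfect η (⊥ : Ideal R).ResidueField)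
    obtain ⟨p, hpR⟩ : ∃ p, p = ringChar R := ⟨_, rfl⟩
    haveI : CharP (⊥ : Ideal R).ResidueField p := hpR ▸ inferInstance
    haveI : Fact p.Prime := ⟨hpR ▸ hp⟩
    rw [ringExpChar.eq (⊥ : Ideal R).ResidueField p] at he
    subst he
    have hchar : ∀ {k : Type u} [Field k] (f : R →+* k), CharP k e := fun {k} _ f => by
      obtain ⟨q, hq⟩ := CharP.exists k
      have h0 : (e : k) = 0 := by
        rw [← map_natCast f, hpR, CharP.cast_eq_zero, map_zero]
      rwa [(Nat.prime_dvd_prime_iff_eq ((CharP.char_is_prime_or_zero k q).resolve_right fun h0' => by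
        subst h0'
        haveI := CharP.charP_to_charZero k
        exact (Fact.out : e.Prime).ne_zero (Nat.cast_eq_zero.mp h0)) Fact.out).mp ((CharP.cast_eq_zero_iff k q e).mp h0)] at hq
    have hperf : ∀ {k : Type u} [Field k] (f : R →+* k), Function.Bijective (η.eta k) →
        Function.Bijective fun z : k => z ^ e ^ n := fun {k} _ f hk => by
      haveI := hchar f
      haveI := hp' k (by rw [ringChar.eq k e, hpR]) hk
      haveI : PerfectRing k e := PerfectField.toPerfectRing e
      exact bijective_iterateFrobenius k e n
    choose x hx using fun q : PrimeSpectrum R =>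
      (hperf ((η.eta _).comp (algebraMap R q.asIdeal.ResidueField)) (EtaLib.bijective_eta_obj η _)).2 (η.t R r q)
    refine ⟨x, fun R' _ _ _ hR' g => ?_, ?_⟩
    · obtain ⟨z, hz⟩ := (hperf ((algebraMap R' (FractionRing R')).comp g) hR').2 (algebraMap R' _ (g r))
      obtain ⟨r', rfl⟩ := IsIntegrallyClosed.algebraMap_eq_of_integral (R := R') (x := z)
        (IsIntegral.of_pow (pow_pos (Fact.out : e.Prime).pos n) (by have hz2 : z ^ e ^ n = _ := hz; rw [hz2]; exact isIntegral_algebraMap))
      have hr' : r' ^ e ^ n = g r := IsFractionRing.injective R' (FractionRing R') (by rw [map_pow]; exact hz)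
      refine ⟨r', funext fun q => ?_⟩
      refine (hperf ((η.eta _).comp ((algebraMap R' q.asIdeal.ResidueField).comp g)) (EtaLib.bijective_eta_obj η _)).1 ?_
      show (η.t R' r' q) ^ e ^ n = (η.Nmap g x q) ^ e ^ n
      rw [← Pi.pow_apply, ← map_pow, hr', ← η.Nmap_t_apply, ← Pi.pow_apply, ← map_pow]
      exact congrFun (congrArg _ (funext fun q' => (hx q').symm)) q
    · refine (hperf ((η.eta _).comp (algebraMap R (⊥ : Ideal R).ResidueField)) (EtaLib.bijective_eta_obj η _)).1 ?_
      exact (hx ⟨⊥, Ideal.isPrime_bot⟩).trans hc

end Groth.Agent.S13813
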