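import Groth.Statements.S13814
import Groth.Agent.S13813

set_option autoImplicit false
universe u
open EtaPt

namespace Groth.Agent.S13814

open Groth.Agent


/-- Let R be a valuation ring with fraction field K = k((0)) such that η is bijective at K, or such that
every field of the same characteristic as R at which η is bijective is perfect. Then the ring M_η(R)
is again a valuation ring, every element of F(K) is a quotient of generic components of elements of
M_η(R), and an element of F(K) that is both the generic component of an element of M_η(R) and in the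
image of K comes from R. (The published statement assumes nothing about η beyond the standing
conditions, and then fails: for the endofunctor equal to the perfect closure on the fields of
characteristic 2 and transcendence degree at least 2 over the prime field and to the identity on
every other field, and R = F_2(s)[t] localised at (t), neither of the elements (s^(1/2) t, 0) and
(t, 0) of M_η(R) ⊆ F(K) × F_2(s) divides the other, so M_η(R) is not a valuation ring. This row
assumes that η is bijective at Frac R, or that every field of the same characteristic as R at which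
η is bijective is perfect; both the identity and the perfect closure satisfy this.) Here η is a
natural transformation from the identity of the category of fields to an endofunctor F with F(η_K)
bijective and η_K purely inseparable for every field K, N_η(A) is the product of the F(k(p)) over
the primes p of A with diagonal map t_A, and M_η(A) ⊆ N_η(A) is the subring of elements sent into
the range of t_R by every ring map from A to a valuation ring R at whose fraction field η is
bijective; q_A : A → M_η(A) is the corestriction of t_A. -/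
theorem result (η : EtaPt.FieldEndo.{u}) (R : Type u) [CommRing R] [IsDomain R] [ValuationRing R]
    (hη : η.InV R ∨ ∀ (k : Type u) [Field k], ringChar k = ringChar R →
      Function.Bijective (η.eta k) → PerfectField k) :
    IsDomain (η.M R) ∧ PreValuationRing (η.M R) ∧
      (∀ y : η.obj (⊥ : Ideal R).ResidueField, ∃ a b : η.M R,
        (b : η.N R) ⟨⊥, Ideal.isPrime_bot⟩ ≠ 0 ∧
          y * (b : η.N R) ⟨⊥, Ideal.isPrime_bot⟩ = (a : η.N R) ⟨⊥, Ideal.isPrime_bot⟩) ∧
      (fun x : η.N R => x ⟨⊥, Ideal.isPrime_bot⟩) '' (η.M R : Set (η.N R)) ∩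
          Set.range (η.eta (⊥ : Ideal R).ResidueField) =
        Set.range ((η.eta (⊥ : Ideal R).ResidueField).comp (algebraMap R (⊥ : Ideal R).ResidueField)) := by
  obtain ⟨hinj, himg⟩ := S13813.result η R hη
  haveI := S13813.isFractionRing_bot R
  let K := (⊥ : Ideal R).ResidueField
  let ev0 : η.M R →+* η.obj K :=
    (Pi.evalRingHom (fun p : PrimeSpectrum R => η.obj p.asIdeal.ResidueField) ⟨⊥, Ideal.isPrime_bot⟩).comp (η.M R).subtype
  have hev : Function.Injective ev0 := fun a b h => Subtype.ext (hinj a.2 b.2 h)
  letI : Algebra R (η.obj K) := ((η.eta K).comp (algebraMap R K)).toAlgebra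
  have hmem : ∀ y : η.obj K, (∃ a, ev0 a = y) ↔ IsIntegral R y := fun y => by
    refine Iff.trans ?_ (Set.ext_iff.mp himg y)
    exact ⟨fun ⟨a, ha⟩ => ⟨a.1, a.2, ha⟩, fun ⟨a, ha, ha'⟩ => ⟨⟨a, ha⟩, ha'⟩⟩
  have hval : ∀ z : η.obj K, IsIntegral R z ∨ IsIntegral R z⁻¹ := fun z => by
    obtain ⟨n, c, hc⟩ := η.exists_pow_mem_range_eta K z
    have hpos : 0 < ringExpChar K ^ n := pow_pos (expChar_pos K (ringExpChar K)) n
    rcases ValuationRing.isInteger_or_isInteger R c with ⟨r, hr⟩ | ⟨r, hr⟩
    · exact Or.inl (IsIntegral.of_pow hpos (by rw [← hc, ← hr]; exact isIntegral_algebraMap (x := r)))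
    · exact Or.inr (IsIntegral.of_pow hpos (by
        rw [inv_pow, ← hc, ← map_inv₀, ← hr]; exact isIntegral_algebraMap (x := r)))
  haveI hdom : IsDomain (η.M R) := Function.Injective.isDomain ev0 hev
  refine ⟨hdom, ⟨fun a b => ?_⟩, fun y => ?_, Set.ext fun y => ⟨?_, ?_⟩⟩
  · by_cases ha : ev0 a = 0
    · exact ⟨0, Or.inr (hev (by rw [map_mul, map_zero, mul_zero, ha]))⟩
    by_cases hb : ev0 b = 0
    · exact ⟨0, Or.inl (hev (by rw [map_mul, map_zero, mul_zero, hb]))⟩
    rcases hval (ev0 b / ev0 a) with h | h
    · obtain ⟨c, hc⟩ := (hmem _).mpr h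
      exact ⟨c, Or.inl (hev (by rw [map_mul, hc, mul_div_cancel₀ _ ha]))⟩
    · obtain ⟨c, hc⟩ := (hmem _).mpr h
      exact ⟨c, Or.inr (hev (by rw [map_mul, hc, inv_div, mul_div_cancel₀ _ hb]))⟩
  · rcases hval y with h | h
    · obtain ⟨a, ha⟩ := (hmem _).mpr h
      refine ⟨a, 1, one_ne_zero, ?_⟩
      exact (mul_one y).trans ha.symm
    · by_cases hy : y = 0
      · refine ⟨0, 1, one_ne_zero, ?_⟩
        exact (mul_one y).trans hy
      obtain ⟨b, hb⟩ := (hmem _).mpr h
      refine ⟨1, b, ?_, ?_⟩
      · show ev0 b ≠ 0
        rw [hb]; exact inv_ne_zero hy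
      · show y * ev0 b = 1
        rw [hb, mul_inv_cancel₀ hy]
  · rintro ⟨⟨x, hx, rfl⟩, c, hc⟩
    have h := (hmem _).mp ⟨⟨x, hx⟩, rfl⟩
    obtain ⟨r, rfl⟩ := S13813.exists_range_of_integral η R (c := c) (by rw [hc]; exact h)
    exact ⟨r, hc⟩
  · rintro ⟨r, rfl⟩
    exact ⟨⟨η.t R r, η.t_mem_M R r, rfl⟩, _, rfl⟩

end Groth.Agent.S13814
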