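import Groth.Statements.S13816
import Groth.Agent.EtaLib.Rel
import Mathlib.FieldTheory.IsAlgClosed.AlgebraicClosure

set_option autoImplicit false
universe u
open EtaPt

namespace Groth.Agent.S13816

/-- If f : A → B is an integral ring map with Spec(f) surjective, then an element of N_η(A) lies in
M_η(A) if and only if its image under N_η(f) lies in M_η(B). Here η is a natural transformation from
the identity of the category of fields to an endofunctor F with F(η_K) bijective and η_K purely
inseparable for every field K, N_η(A) is the product of the F(k(p)) over the primes p of A with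
diagonal map t_A, and M_η(A) ⊆ N_η(A) is the subring of elements sent into the range of t_R by every
ring map from A to a valuation ring R at whose fraction field η is bijective; q_A : A → M_η(A) is
the corestriction of t_A. -/
theorem result (η : EtaPt.FieldEndo.{u}) {A B : Type u} [CommRing A] [CommRing B] (f : A →+* B)
    (hf : f.IsIntegral) (hs : Function.Surjective (PrimeSpectrum.comap f)) (x : η.N A) :
    x ∈ η.M A ↔ η.Nmap f x ∈ η.M B := by
  refine ⟨EtaLib.Nmap_mem_M η f, fun hx R _ _ _ hR g => ?_⟩
  let L := FractionRing R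
  let L' := AlgebraicClosure L
  let gL : A →+* L' := (algebraMap L L').comp ((algebraMap R L).comp g)
  obtain ⟨Q, hQ⟩ := hs (EtaLib.pt gL)
  obtain ⟨V, j, hj, hjm⟩ := EtaLib.exists_centre ((algebraMap L L').comp (algebraMap R L))
    (IsLocalRing.closedPoint R) (fun a ha => by
      have : a = 0 := IsFractionRing.injective R L ((map_eq_zero (algebraMap L L')).mp ha |>.trans (map_zero _).symm)
      rw [this]; exact zero_mem _)
  obtain ⟨h, hh⟩ : ∃ h : B →+* L', h.comp f = gL := by
    have e : (PrimeSpectrum.comap f Q).asIdeal = (EtaLib.pt gL).asIdeal := congrArg PrimeSpectrum.asIdeal hQ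
    let gk : (PrimeSpectrum.comap f Q).asIdeal.ResidueField →+* L' := Ideal.ResidueField.lift _ gL
      (fun a ha => by rw [e] at ha; exact ha)
      (fun a ha => by
        refine isUnit_iff_ne_zero.mpr fun h0 => ha ?_
        show a ∈ (PrimeSpectrum.comap f Q).asIdeal
        rw [e]; exact h0)
    letI := gk.toAlgebra
    let r := Ideal.ResidueField.map (PrimeSpectrum.comap f Q).asIdeal Q.asIdeal f rfl
    letI := r.toAlgebra
    haveI : Algebra.IsAlgebraic (PrimeSpectrum.comap f Q).asIdeal.ResidueField Q.asIdeal.ResidueField := by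
      refine ⟨fun y => ?_⟩
      have hb : ∀ b : B, IsAlgebraic (PrimeSpectrum.comap f Q).asIdeal.ResidueField
          (algebraMap B Q.asIdeal.ResidueField b) := fun b => by
        obtain ⟨P, hP, hPb⟩ := hf b
        refine IsIntegral.isAlgebraic ⟨P.map (algebraMap A _), hP.map _, ?_⟩
        rw [Polynomial.eval₂_map]
        rw [show (algebraMap (PrimeSpectrum.comap f Q).asIdeal.ResidueField Q.asIdeal.ResidueField).comp
          (algebraMap A _) = (algebraMap B Q.asIdeal.ResidueField).comp f from
          RingHom.ext fun a => Ideal.ResidueField.map_algebraMap _ _ f rfl a]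
        rw [← Polynomial.hom_eval₂, hPb, map_zero]
      obtain ⟨u, w, -, rfl⟩ := IsFractionRing.div_surjective (A := B ⧸ Q.asIdeal) y
      obtain ⟨b, rfl⟩ := Ideal.Quotient.mk_surjective u
      obtain ⟨d, rfl⟩ := Ideal.Quotient.mk_surjective w
      rw [div_eq_mul_inv]
      exact ((hb b).isIntegral.mul ((hb d).inv.isIntegral)).isAlgebraic
    let h' : Q.asIdeal.ResidueField →ₐ[(PrimeSpectrum.comap f Q).asIdeal.ResidueField] L' := IsAlgClosed.lift
    refine ⟨h'.toRingHom.comp (algebraMap B _), RingHom.ext fun a => ?_⟩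
    have := h'.commutes (algebraMap A _ a)
    rw [RingHom.comp_apply, RingHom.comp_apply]
    rw [show algebraMap B Q.asIdeal.ResidueField (f a) =
      algebraMap (PrimeSpectrum.comap f Q).asIdeal.ResidueField Q.asIdeal.ResidueField (algebraMap A _ a) from
      (Ideal.ResidueField.map_algebraMap (PrimeSpectrum.comap f Q).asIdeal Q.asIdeal f rfl a).symm]
    exact this.trans (Ideal.ResidueField.lift_algebraMap _ _ _ _ a)
  have hV : ∀ b : B, h b ∈ V := fun b => by
    obtain ⟨P, hP, hPb⟩ := hf b
    have : IsIntegral V (h b) := by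
      refine ⟨P.map (j.comp g), hP.map _, ?_⟩
      rw [Polynomial.eval₂_map, ← RingHom.comp_assoc]
      rw [show (algebraMap V L').comp j = V.subtype.comp j from rfl, hj, RingHom.comp_assoc,
        show (algebraMap L L').comp ((algebraMap R L).comp g) = h.comp f from hh.symm,
        ← Polynomial.hom_eval₂, hPb, map_zero]
    obtain ⟨v, hv⟩ := IsIntegrallyClosed.algebraMap_eq_of_integral this
    rw [← hv]; exact v.2
  let hBV : B →+* V := h.codRestrict V.toSubring hV
  obtain ⟨r', hr'⟩ := EtaLib.M_spec η hx V (EtaLib.inV_of_bijective η V L' (EtaLib.bijective_eta_algClosed η L')) hBV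
  obtain ⟨y, hy⟩ := hR.2 (EtaLib.ev η ((algebraMap R L).comp g) x)
  have h1 := hr' L' V.subtype
  rw [show V.subtype.comp hBV = h from rfl, EtaLib.ev_Nmap, hh, EtaLib.ev_field, ← hy, EtaLib.map_eta_apply] at h1
  have hy' : algebraMap L L' y = r' := (η.eta L').injective h1
  obtain ⟨r, rfl⟩ : ∃ r, algebraMap R L r = y := by
    by_cases hy0 : y = 0
    · exact ⟨0, by rw [hy0, map_zero]⟩
    rcases ValuationRing.isInteger_or_isInteger R y with ⟨r, hr⟩ | ⟨r, hr⟩
    · exact ⟨r, hr⟩
    · by_cases hu : IsUnit r
      · obtain ⟨u, rfl⟩ := hu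
        exact ⟨(u⁻¹ : Rˣ), by rw [map_units_inv, hr, inv_inv]⟩
      · exfalso
        have hm : j r ∈ IsLocalRing.maximalIdeal V := by
          rw [← Ideal.mem_comap, hjm]; exact hu
        have : r' * j r = 1 := Subtype.ext (by
          show (r' : L') * V.subtype (j r) = 1
          rw [← RingHom.comp_apply, hj, RingHom.comp_apply, ← hy', hr, ← map_mul, mul_inv_cancel₀ hy0, map_one])
        exact (IsLocalRing.maximalIdeal.isMaximal V).ne_top
          ((Ideal.eq_top_iff_one _).mpr (this ▸ Ideal.mul_mem_left _ r' hm))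
  refine ⟨r, EtaLib.Nmap_injective η j ?_ ?_⟩
  · intro q
    refine (PrimeSpectrum.mem_range_comap_iff j).mpr (le_antisymm (fun a ha => ?_) Ideal.le_comap_map)
    have key : ∀ v ∈ q.asIdeal.map j, ∃ c ∈ q.asIdeal, ∃ w, v = j c * w := fun v hv => by
      induction hv using Submodule.span_induction with
      | mem v hv => obtain ⟨c, hc, rfl⟩ := hv; exact ⟨c, hc, 1, (mul_one _).symm⟩
      | zero => exact ⟨0, zero_mem _, 0, by simp⟩
      | add v w _ _ hv hw =>
        obtain ⟨c, hc, v', rfl⟩ := hv
        obtain ⟨d, hd, w', rfl⟩ := hw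
        rcases ValuationRing.cond c d with ⟨e, he | he⟩
        · exact ⟨c, hc, v' + j e * w', by rw [← he, map_mul]; ring⟩
        · exact ⟨d, hd, w' + j e * v', by rw [← he, map_mul]; ring⟩
      | smul s v _ hv =>
        obtain ⟨c, hc, v', rfl⟩ := hv
        exact ⟨c, hc, s * v', by rw [smul_eq_mul]; ring⟩
    obtain ⟨c, hc, w, hw⟩ := key _ ha
    rcases ValuationRing.cond c a with ⟨e, he | he⟩
    · rw [← he]; exact Ideal.mul_mem_right _ _ hc
    · by_cases hu : IsUnit e
      · exact (Ideal.mul_unit_mem_iff_mem _ hu).mp (he.symm ▸ hc)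
      · by_cases ha0 : a = 0
        · rw [ha0]; exact zero_mem _
        exfalso
        have hm : j e ∈ IsLocalRing.maximalIdeal V := by
          rw [← Ideal.mem_comap, hjm]; exact hu
        have : (1 - j e * w) * j a = 0 := by rw [← he, map_mul] at hw; linear_combination hw
        rcases mul_eq_zero.mp this with h0 | h0
        · exact (IsLocalRing.maximalIdeal.isMaximal V).ne_top
            ((Ideal.eq_top_iff_one _).mpr (sub_eq_zero.mp h0 ▸ Ideal.mul_mem_right _ _ hm))
        · refine ha0 ?_
          have := RingHom.congr_fun hj a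
          rw [RingHom.comp_apply, h0, map_zero] at this
          exact IsFractionRing.injective R L (((map_eq_zero (algebraMap L L')).mp this.symm).trans (map_zero _).symm)
  · rw [η.Nmap_t_apply, EtaLib.Nmap_comp]
    refine EtaLib.N_ext η fun P => ?_
    rw [EtaLib.ev_t]
    have hjg : j.comp g = hBV.comp f := RingHom.ext fun a => Subtype.ext
      ((RingHom.congr_fun hj (g a)).trans (RingHom.congr_fun hh a).symm)
    rw [hjg, EtaLib.ev_Nmap, ← RingHom.comp_assoc, ← EtaLib.ev_Nmap, hr' _ _]
    congr 2
    exact Subtype.ext ((RingHom.congr_fun hj r).trans (hy'))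

end Groth.Agent.S13816
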