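import Groth.Statements.S13820
import Groth.Agent.EtaLib.Rel
import Mathlib.RingTheory.Ideal.MinimalPrime.Localization

set_option autoImplicit false
universe u
open EtaPt

namespace Groth.Agent.S13820

/-- Let A have finitely many minimal prime ideals and let B be an A-algebra with Spec B → Spec A
surjective, C the integral closure of A in B; then the inclusion C ⊆ B carries (C/A)_η onto (B/A)_η.
Here η is a natural transformation from the identity of the category of fields to an endofunctor F
with F(η_K) bijective and η_K purely inseparable for every field K, N_η(A) is the product of the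
F(k(p)) over the primes p of A with diagonal map t_A, and M_η(A) ⊆ N_η(A) is the subring of elements
sent into the range of t_R by every ring map from A to a valuation ring R at whose fraction field η
is bijective; q_A : A → M_η(A) is the corestriction of t_A. For a ring map f : A → B, (B/A)_η ⊆ B
denotes the subring of elements b with t_B(b) in N_η(f)(M_η(A)) (the image in B of the fibre product
of M_η(A) and B over M_η(B)), and q_{B/A} : A → (B/A)_η the corestriction of f. -/
theorem result (η : EtaPt.FieldEndo.{u}) (A B : Type u) [CommRing A] [CommRing B] [Algebra A B]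
    (hA : (minimalPrimes A).Finite) (hs : Function.Surjective (PrimeSpectrum.comap (algebraMap A B))) :
    (η.rel (algebraMap A (integralClosure A B))).map (integralClosure A B).val.toRingHom =
      η.rel (algebraMap A B) := by
  refine le_antisymm ?_ ?_
  · rintro _ ⟨c, hc, rfl⟩
    exact EtaLib.mem_rel_of_square η (algebraMap A (integralClosure A B)) (RingHom.id A)
      (integralClosure A B).val.toRingHom (algebraMap A B) rfl hc
  · intro b hb
    obtain ⟨P, hP, hPb⟩ := EtaLib.isIntegral_qRel η hA _ hs ⟨b, hb⟩
    have hint : IsIntegral A b := ⟨P, hP, by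
      have := congrArg (η.rel (algebraMap A B)).subtype hPb
      rwa [Polynomial.hom_eval₂, map_zero] at this⟩
    obtain ⟨x, hx, hxb⟩ := (EtaLib.mem_rel_iff η _ _).mp hb
    refine ⟨⟨b, hint⟩, (EtaLib.mem_rel_iff η _ _).mpr ⟨x, hx, EtaLib.M_ext η (EtaLib.Nmap_mem_M η _ hx)
      (η.t_mem_M _ _) fun P hP => ?_⟩, rfl⟩
    obtain ⟨Q, hQ, hQP⟩ := Ideal.exists_comap_eq_of_mem_minimalPrimes_of_injective
      (f := (integralClosure A B).val.toRingHom) Subtype.val_injective P.asIdeal hP
    obtain rfl : PrimeSpectrum.comap (integralClosure A B).val.toRingHom ⟨Q, hQ⟩ = P := PrimeSpectrum.ext hQP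
    have key : η.Nmap (integralClosure A B).val.toRingHom (η.Nmap (algebraMap A (integralClosure A B)) x) =
        η.Nmap (integralClosure A B).val.toRingHom (η.t _ (⟨b, hint⟩ : integralClosure A B)) := by
      rw [EtaLib.Nmap_comp, η.Nmap_t_apply]
      exact hxb
    exact (η.map _).injective (congrFun key ⟨Q, hQ⟩)

end Groth.Agent.S13820
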