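import Groth.Statements.S13822
import Groth.Agent.EtaLib.Rel
import Mathlib.RingTheory.Flat.FaithfullyFlat.Algebra

set_option autoImplicit false
universe u
open scoped TensorProduct
open EtaPt

namespace Groth.Agent.S13822

/-- Let A → A' be faithfully flat with A and A' having finitely many minimal prime ideals, and B an
A-algebra with Spec B → Spec A surjective; if q_{(A' ⊗ B)/A'} is bijective then q_{B/A} is
bijective. Here η is a natural transformation from the identity of the category of fields to an
endofunctor F with F(η_K) bijective and η_K purely inseparable for every field K, N_η(A) is the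
product of the F(k(p)) over the primes p of A with diagonal map t_A, and M_η(A) ⊆ N_η(A) is the
subring of elements sent into the range of t_R by every ring map from A to a valuation ring R at
whose fraction field η is bijective; q_A : A → M_η(A) is the corestriction of t_A. For a ring map f
: A → B, (B/A)_η ⊆ B denotes the subring of elements b with t_B(b) in N_η(f)(M_η(A)) (the image in B
of the fibre product of M_η(A) and B over M_η(B)), and q_{B/A} : A → (B/A)_η the corestriction of f. -/
theorem result (η : EtaPt.FieldEndo.{u}) (A A' B : Type u) [CommRing A] [CommRing A'] [CommRing B]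
    [Algebra A A'] [Algebra A B] [Module.FaithfullyFlat A A']
    (hA : (minimalPrimes A).Finite) (hA' : (minimalPrimes A').Finite)
    (hs : Function.Surjective (PrimeSpectrum.comap (algebraMap A B)))
    (h : Function.Bijective (η.qRel (Algebra.TensorProduct.includeLeftRingHom : A' →+* A' ⊗[A] B))) :
    Function.Bijective (η.qRel (algebraMap A B)) := by
  obtain ⟨i, s⟩ := (EtaLib.qRel_bijective_iff η _).mp h
  have hcomm : (Algebra.TensorProduct.includeLeftRingHom : A' →+* A' ⊗[A] B).comp (algebraMap A A') =
      (Algebra.TensorProduct.includeRight : B →ₐ[A] A' ⊗[A] B).toRingHom.comp (algebraMap A B) :=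
    RingHom.ext fun a => ((Algebra.TensorProduct.includeRight : B →ₐ[A] A' ⊗[A] B).commutes a).symm
  refine (EtaLib.qRel_bijective_iff η _).mpr ⟨?_, fun b hb => ?_⟩
  · intro a a' h'
    refine (FaithfulSMul.algebraMap_injective A A') (i ?_)
    have e1 := RingHom.congr_fun hcomm a
    have e2 := RingHom.congr_fun hcomm a'
    simp only [RingHom.comp_apply] at e1 e2
    rw [e1, e2, h']
  · obtain ⟨a', ha'⟩ := s _ (EtaLib.mem_rel_of_square η (algebraMap A B) (algebraMap A A')
      (Algebra.TensorProduct.includeRight : B →ₐ[A] A' ⊗[A] B).toRingHom _ hcomm hb)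
    let W : Submodule A B := LinearMap.range (Algebra.linearMap A B)
    have hq : W.mkQ b = 0 := by
      refine Module.FaithfullyFlat.tensorProduct_mk_injective (A := A) (B := A') (B ⧸ W) ?_
      have := congrArg (TensorProduct.map (LinearMap.id : A' →ₗ[A] A') W.mkQ) ha'
      simp only [Algebra.TensorProduct.includeLeftRingHom_apply, AlgHom.toRingHom_eq_coe, RingHom.coe_coe,
        Algebra.TensorProduct.includeRight_apply, TensorProduct.map_tmul, LinearMap.id_coe, id_eq] at this
      have h1 : W.mkQ (1 : B) = 0 :=
        (Submodule.Quotient.mk_eq_zero W).mpr ⟨1, (algebraMap A B).map_one⟩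
      rw [h1, TensorProduct.tmul_zero] at this
      simp only [TensorProduct.mk_apply, TensorProduct.tmul_zero]
      exact this.symm
    obtain ⟨a, ha⟩ := (Submodule.Quotient.mk_eq_zero W).mp hq
    exact ⟨a, ha⟩

end Groth.Agent.S13822
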