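import Groth.Statements.S13823
import Groth.Agent.EtaLib.Rel
import Mathlib.RingTheory.Flat.FaithfullyFlat.Algebra
import Mathlib.RingTheory.Flat.TorsionFree

set_option autoImplicit false
universe u
open EtaPt

namespace Groth.Agent.S13823

theorem gen (η : EtaPt.FieldEndo.{u}) (A A' : Type u) [CommRing A] [CommRing A'] [Algebra A A']
    [Module.FaithfullyFlat A A'] (K K' : Type u) [CommRing K] [Algebra A K] [IsFractionRing A K]
    [CommRing K'] [Algebra A' K'] [IsFractionRing A' K']
    (h : Function.Bijective (η.qRel (algebraMap A' (integralClosure A' K')))) :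
    Function.Bijective (η.qRel (algebraMap A (integralClosure A K))) := by
  obtain ⟨i, s'⟩ := (EtaLib.qRel_bijective_iff η _).mp h
  have hinjK : Function.Injective (algebraMap A' (K')) := IsLocalization.injective _ le_rfl
  have hnzd : nonZeroDivisors A ≤ (nonZeroDivisors A').comap (algebraMap A A') := by
    intro r hr
    rw [Submonoid.mem_comap, mem_nonZeroDivisors_iff_right]
    intro x hx
    have hreg := Module.Flat.isSMulRegular_of_isRegular (M := A') (isRegular_iff_mem_nonZeroDivisors.mpr hr)
    refine hreg (a₁ := x) (a₂ := 0) ?_
    simp only [Algebra.smul_def, mul_zero]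
    rw [mul_comm]; exact hx
  let φ : K →+* K' :=
    IsLocalization.map (K') (algebraMap A A') hnzd
  have hint : ∀ y : integralClosure A K, IsIntegral A' (φ y) := fun y => by
    obtain ⟨P, hP, hPy⟩ := y.2
    refine ⟨P.map (algebraMap A A'), hP.map _, ?_⟩
    rw [Polynomial.eval₂_map]
    rw [show (algebraMap A' (K')).comp (algebraMap A A') = φ.comp (algebraMap A K) from
      (IsLocalization.map_comp hnzd).symm]
    rw [← Polynomial.hom_eval₂, hPy, map_zero]
  let ψ : integralClosure A K →+* integralClosure A' (K') :=
    (φ.comp (integralClosure A K).val.toRingHom).codRestrict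
      (integralClosure A' (K')).toSubring hint
  have hcomm : (algebraMap A' (integralClosure A' (K'))).comp (algebraMap A A') =
      ψ.comp (algebraMap A (integralClosure A K)) :=
    RingHom.ext fun a => Subtype.ext (IsLocalization.map_eq hnzd a).symm
  refine (EtaLib.qRel_bijective_iff η _).mpr ⟨fun a a' h' => ?_, fun y hy => ?_⟩
  · exact IsLocalization.injective K (le_refl (nonZeroDivisors A)) (congrArg Subtype.val h')
  · obtain ⟨a', ha'⟩ := s' _ (EtaLib.mem_rel_of_square η (algebraMap A (integralClosure A K))
      (algebraMap A A') ψ _ hcomm hy)
    obtain ⟨⟨a, d⟩, hd⟩ := IsLocalization.surj (nonZeroDivisors A) (y : K)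
    have h1 : algebraMap A' (K') (algebraMap A A' a) =
        algebraMap A' (K') (algebraMap A A' d * a') := by
      have e1 : φ (algebraMap A K a) = algebraMap A' K' (algebraMap A A' a) := IsLocalization.map_eq hnzd a
      have e2 : φ (algebraMap A K d) = algebraMap A' K' (algebraMap A A' d) := IsLocalization.map_eq hnzd _
      rw [← e1, ← hd, map_mul, e2, map_mul, mul_comm]
      congr 1
      exact (congrArg Subtype.val ha').symm
    have h2 : a ∈ ((Ideal.span {(d : A)}).map (algebraMap A A')).comap (algebraMap A A') := by
      rw [Ideal.mem_comap, hinjK h1, Ideal.map_span, Set.image_singleton]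
      exact Ideal.mul_mem_right _ _ (Ideal.subset_span rfl)
    rw [Ideal.comap_map_eq_self_of_faithfullyFlat, Ideal.mem_span_singleton'] at h2
    obtain ⟨c, hc⟩ := h2
    refine ⟨c, Subtype.ext ?_⟩
    refine (IsLocalization.map_units K d).mul_left_inj.mp ?_
    rw [hd, ← hc, map_mul]
    rfl



/-- Let A → A' be faithfully flat with A and A' having finitely many minimal prime ideals, and let Ā, Ā'
be the integral closures of A, A' in their total rings of fractions; if q_{Ā'/A'} is bijective then
q_{Ā/A} is bijective. Here η is a natural transformation from the identity of the category of fields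
to an endofunctor F with F(η_K) bijective and η_K purely inseparable for every field K, N_η(A) is
the product of the F(k(p)) over the primes p of A with diagonal map t_A, and M_η(A) ⊆ N_η(A) is the
subring of elements sent into the range of t_R by every ring map from A to a valuation ring R at
whose fraction field η is bijective; q_A : A → M_η(A) is the corestriction of t_A. For a ring map f
: A → B, (B/A)_η ⊆ B denotes the subring of elements b with t_B(b) in N_η(f)(M_η(A)) (the image in B
of the fibre product of M_η(A) and B over M_η(B)), and q_{B/A} : A → (B/A)_η the corestriction of f. -/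
theorem result (η : EtaPt.FieldEndo.{u}) (A A' : Type u) [CommRing A] [CommRing A'] [Algebra A A'] [Module.FaithfullyFlat A A']
    (hA : (minimalPrimes A).Finite) (hA' : (minimalPrimes A').Finite)
    (h : Function.Bijective (η.qRel (algebraMap A' (integralClosure A' (FractionRing A'))))) :
    Function.Bijective (η.qRel (algebraMap A (integralClosure A (FractionRing A)))) := by
  exact gen η A A' (FractionRing A) (FractionRing A') h

end Groth.Agent.S13823
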