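import Groth.Statements.S13826
import Groth.Agent.EtaLib.Rel
import Groth.Agent.EtaLib.SpecUH

set_option autoImplicit false
universe u
open EtaPt

namespace Groth.Agent.S13826

open Groth.Agent CategoryTheory AlgebraicGeometry

lemma facts {A C : Type u} [CommRing A] [CommRing C] (ψ : A →+* C)
    (h1 : FlatMor.IsUnivHomeo (Spec.map (CommRingCat.ofHom ψ)))
    (h2 : HTop.ResidueFieldsIso (Spec.map (CommRingCat.ofHom ψ))) :
    ψ.IsIntegral ∧ Function.Bijective (EtaPt.FieldEndo.ident.{u}.Nmap ψ) := by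
  obtain ⟨hint, hs, -⟩ := (EtaLib.isUnivHomeo_Spec_iff ψ).mp h1
  exact ⟨hint, EtaLib.Nmap_bijective_of _ ψ
    (FlatBasics.isHomeomorph_of_isUnivHomeo h1).bijective
    ((EtaLib.residueFieldsIso_Spec_iff ψ).mp h2)⟩

lemma props {A C : Type u} [CommRing A] [CommRing C] (ψ : A →+* C) (hint : ψ.IsIntegral)
    (hb : Function.Bijective (PrimeSpectrum.comap ψ))
    (hf : ∀ Q : PrimeSpectrum C, ∃ φ : Q.asIdeal.ResidueField →+* (PrimeSpectrum.comap ψ Q).asIdeal.ResidueField,
      φ.comp (Ideal.ResidueField.map (PrimeSpectrum.comap ψ Q).asIdeal Q.asIdeal ψ rfl) = RingHom.id _) :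
    FlatMor.IsUnivHomeo (Spec.map (CommRingCat.ofHom ψ)) ∧
      HTop.ResidueFieldsIso (Spec.map (CommRingCat.ofHom ψ)) := by
  have hN := EtaLib.Nmap_bijective_of EtaPt.FieldEndo.ident.{u} ψ hb fun Q =>
    let ⟨φ, hφ⟩ := hf Q; EtaLib.bijective_map_of_factor EtaPt.FieldEndo.ident.{u} _ φ hφ
  refine ⟨(EtaLib.isUnivHomeo_Spec_iff ψ).mpr ⟨hint, hb.2, fun K _ g g' e =>
    EtaLib.ev_ext_of_Nmap_surjective EtaPt.FieldEndo.ident.{u} ψ hN.2 e⟩,
    (EtaLib.residueFieldsIso_Spec_iff ψ).mpr fun Q => ?_⟩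
  obtain ⟨φ, hφ⟩ := hf Q
  exact EtaLib.bijective_map_of_factor EtaPt.FieldEndo.ident.{u} _ φ hφ


/-- For the identity endofunctor and a commutative ring A with finitely many minimal prime ideals, q_A :
A → M(A) is a seminormalization of A: Spec(q_A) is a universal homeomorphism with trivial residue
field extensions, final among ring maps out of A with these properties. Here M(A) ⊆ ∏_p k(p) is the
subring of families whose image in ∏_q k(q), for every ring map from A to a valuation ring R, is the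
diagonal image of an element of R. -/
theorem result (A : Type u) [CommRing A] (hA : (minimalPrimes A).Finite) :
    HTop.IsRingSN (EtaPt.FieldEndo.ident.{u}.q A) := by
  refine ⟨props _ (EtaLib.isIntegral_q EtaPt.FieldEndo.ident.{u} hA) (EtaLib.bijective_comap_q EtaPt.FieldEndo.ident.{u} hA) (EtaLib.exists_factor_q EtaPt.FieldEndo.ident.{u} hA),
    fun C _ ψ h1 h2 => ?_⟩
  exact EtaLib.existsUnique_lift _ ψ (facts ψ h1 h2).1 (facts ψ h1 h2).2

end Groth.Agent.S13826
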