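import Groth.Statements.S13827
import Groth.Agent.EtaLib.Away
import Mathlib.RingTheory.Localization.AtPrime.Basic
import Mathlib.RingTheory.LocalProperties.Reduced

set_option autoImplicit false
universe u
open EtaPt

namespace Groth.Agent.S13827

/-- For a normal ring A (every localization at a prime is an integrally closed domain) with finitely
many minimal prime ideals such that η is bijective at the residue field of every minimal prime, q_A
: A → M_η(A) is bijective. Here η is a natural transformation from the identity of the category of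
fields to an endofunctor F with F(η_K) bijective and η_K purely inseparable for every field K,
N_η(A) is the product of the F(k(p)) over the primes p of A with diagonal map t_A, and M_η(A) ⊆
N_η(A) is the subring of elements sent into the range of t_R by every ring map from A to a valuation
ring R at whose fraction field η is bijective; q_A : A → M_η(A) is the corestriction of t_A. -/
theorem result (η : EtaPt.FieldEndo.{u}) (A : Type u) [CommRing A] (hn : EGA4.IsNormalRing A)
    (hA : (minimalPrimes A).Finite)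
    (hη : ∀ p : PrimeSpectrum A, p.asIdeal ∈ minimalPrimes A → Function.Bijective (η.eta p.asIdeal.ResidueField)) :
    Function.Bijective (η.q A) := by
  have hred : IsReduced A := by
    refine ⟨fun a ha => ?_⟩
    refine eq_zero_of_localization a fun J hJ => ?_
    haveI := (hn J).1
    exact (ha.map (algebraMap A (Localization.AtPrime J))).eq_zero
  refine ⟨fun a b h => EtaLib.t_injective η (congrArg Subtype.val h), fun x => ?_⟩
  obtain ⟨I, hI⟩ : ∃ I : Ideal A, ∀ r, r ∈ I ↔ ∃ c, η.q A c = η.q A r * x :=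
    ⟨{ carrier := {r | ∃ c, η.q A c = η.q A r * x}
       add_mem' := fun ⟨c, hc⟩ ⟨d, hd⟩ => ⟨c + d, by rw [map_add, map_add, hc, hd, add_mul]⟩
       zero_mem' := ⟨0, by simp⟩
       smul_mem' := fun r y ⟨c, hc⟩ => ⟨r * c, by rw [map_mul, hc, smul_eq_mul, map_mul, mul_assoc]⟩ },
      fun r => Iff.rfl⟩
  suffices h1 : (1 : A) ∈ I by
    obtain ⟨c, hc⟩ := (hI 1).mp h1
    exact ⟨c, by rw [hc, map_one, one_mul]⟩
  refine (Ideal.eq_top_iff_one _).mp (by_contra fun hne => ?_)
  obtain ⟨P, hP, hle⟩ := Ideal.exists_le_maximal I hne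
  haveI := (hn P).1
  haveI := (hn P).2
  let S := Localization.AtPrime P
  obtain ⟨p, hp⟩ : ∃ p : PrimeSpectrum A, p.asIdeal = RingHom.ker (algebraMap A S) :=
    ⟨⟨_, RingHom.ker_isPrime _⟩, rfl⟩
  have huniq : ∀ p' : PrimeSpectrum A, p'.asIdeal ≤ P → p.asIdeal ≤ p'.asIdeal := fun p' hp' a ha => by
    rw [hp, RingHom.mem_ker] at ha
    obtain ⟨s, hs⟩ := (IsLocalization.map_eq_zero_iff P.primeCompl S a).mp ha
    exact (p'.isPrime.mem_or_mem (hs ▸ zero_mem p'.asIdeal)).resolve_left fun h => s.2 (hp' h)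
  have hpP : p.asIdeal ≤ P := fun a ha => by
    rw [hp, RingHom.mem_ker] at ha
    obtain ⟨s, hs⟩ := (IsLocalization.map_eq_zero_iff P.primeCompl S a).mp ha
    exact ((inferInstance : P.IsPrime).mem_or_mem (hs ▸ zero_mem P)).resolve_left fun h => s.2 h
  have hmin : p.asIdeal ∈ minimalPrimes A :=
    ⟨⟨p.isPrime, bot_le⟩, fun r hr hrp => huniq ⟨r, hr.1⟩ (le_trans hrp hpP)⟩
  obtain ⟨y, hy, Q, hQ, hQy⟩ := EtaLib.isIntegralElem_of_mem η x.2 (hη p hmin) (algebraMap A p.asIdeal.ResidueField)
  rw [EtaLib.ev_can] at hy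
  have hu : ∀ s : P.primeCompl, IsUnit (algebraMap A p.asIdeal.ResidueField s) := fun s =>
    isUnit_iff_ne_zero.mpr fun e => s.2 (hpP (Ideal.algebraMap_residueField_eq_zero.mp e))
  let φ : S →+* p.asIdeal.ResidueField := IsLocalization.lift hu
  have hφ : φ.comp (algebraMap A S) = algebraMap A p.asIdeal.ResidueField := IsLocalization.lift_comp hu
  letI := φ.toAlgebra
  haveI : IsScalarTower A S p.asIdeal.ResidueField := IsScalarTower.of_algebraMap_eq fun a => (RingHom.congr_fun hφ a).symm
  haveI : IsFractionRing S p.asIdeal.ResidueField := by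
    have hinj : Function.Injective φ := by
      rw [injective_iff_map_eq_zero]
      intro z hz
      obtain ⟨⟨a, s⟩, hs⟩ := IsLocalization.surj P.primeCompl z
      have h0 : algebraMap A p.asIdeal.ResidueField a = 0 := by
        rw [← hφ, RingHom.comp_apply, ← hs, map_mul, hz, zero_mul]
      rw [Ideal.algebraMap_residueField_eq_zero, hp, RingHom.mem_ker] at h0
      rw [h0] at hs
      exact (IsLocalization.map_units S s).mul_left_eq_zero.mp hs
    haveI : FaithfulSMul S p.asIdeal.ResidueField := (faithfulSMul_iff_algebraMap_injective _ _).mpr hinj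
    refine IsFractionRing.of_field S p.asIdeal.ResidueField fun z => ?_
    obtain ⟨u, w, -, rfl⟩ := IsFractionRing.div_surjective (A := A ⧸ p.asIdeal) z
    obtain ⟨a, rfl⟩ := Ideal.Quotient.mk_surjective u
    obtain ⟨b, rfl⟩ := Ideal.Quotient.mk_surjective w
    exact ⟨algebraMap A S a, algebraMap A S b, by
      rw [← IsScalarTower.algebraMap_apply, ← IsScalarTower.algebraMap_apply]; rfl⟩
  obtain ⟨z, hz⟩ := IsIntegrallyClosed.algebraMap_eq_of_integral (R := S) (x := y)
    ⟨Q.map (algebraMap A S), hQ.map _, by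
      rw [Polynomial.eval₂_map, ← IsScalarTower.algebraMap_eq]; exact hQy⟩
  obtain ⟨⟨a, s⟩, hs⟩ := IsLocalization.surj P.primeCompl z
  have hs' : algebraMap A p.asIdeal.ResidueField a = algebraMap A p.asIdeal.ResidueField s * y := by
    rw [← hφ, RingHom.comp_apply, RingHom.comp_apply, ← hs, map_mul, ← hz, mul_comm]
    rfl
  classical
  obtain ⟨Mf, hMf⟩ : ∃ Mf : Finset (PrimeSpectrum A), ∀ q, q ∈ Mf ↔ q.asIdeal ∈ minimalPrimes A ∧ q ≠ p := by
    have hfin : {q : PrimeSpectrum A | q.asIdeal ∈ minimalPrimes A ∧ q ≠ p}.Finite :=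
      (hA.preimage (Function.Injective.injOn fun u v h => PrimeSpectrum.ext h)).subset fun q hq => hq.1
    exact ⟨hfin.toFinset, fun q => hfin.mem_toFinset⟩
  obtain ⟨s', hs'P, hs'm⟩ : ∃ s', s' ∉ P ∧ ∀ q ∈ Mf, s' ∈ q.asIdeal := by
    have hnot : ∀ q : Mf, ∃ a, a ∈ q.1.asIdeal ∧ a ∉ P := fun q => by
      obtain ⟨hq, hne⟩ := (hMf q.1).mp q.2
      refine SetLike.not_le_iff_exists.mp fun hle' => hne ?_
      exact PrimeSpectrum.ext (le_antisymm (hq.2 ⟨p.isPrime, bot_le⟩ (huniq q.1 hle')) (huniq q.1 hle'))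
    choose aq haq haqP using hnot
    refine ⟨∏ q : Mf, aq q, fun h => ?_, fun q hq => ?_⟩
    · obtain ⟨q, -, hq⟩ := (Ideal.IsPrime.prod_mem_iff (hp := inferInstance)).mp h
      exact haqP q hq
    · exact Ideal.prod_mem _ (Finset.mem_univ (⟨q, hq⟩ : Mf)) (haq ⟨q, hq⟩)
  refine ((inferInstance : P.IsPrime).mem_or_mem (hle ((hI ((s : A) * s')).mpr ⟨a * s', ?_⟩))).elim s.2 hs'P
  refine Subtype.ext (EtaLib.M_ext η (η.q A _).2 (Subtype.prop _) fun q hq => ?_)
  show η.eta _ (algebraMap A _ (a * s')) = η.eta _ (algebraMap A _ ((s : A) * s')) * (x : η.N A) q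
  by_cases hqp : q = p
  · subst hqp
    rw [← hy, map_mul, hs', ← map_mul (η.eta _), map_mul (algebraMap A _) (s : A)]
    congr 1
    ring
  · have : algebraMap A q.asIdeal.ResidueField s' = 0 :=
      Ideal.algebraMap_residueField_eq_zero.mpr (hs'm q ((hMf q).mpr ⟨hq, hqp⟩))
    simp [this]

end Groth.Agent.S13827
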