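import Groth.Statements.S13831
import Mathlib

set_option linter.style.haveILetI false
set_option autoImplicit false
universe u
open AlgebraicGeometry
open ChowMon

namespace Groth.Agent.S13831

/-- For a finite universal homeomorphism p : T' → T of Noetherian schemes there is an integer d ≥ 1 such
that for every point t' of T' over t the residue field degree [k(t') : k(t)] is a power of the
exponential characteristic of k(t) dividing d. -/
theorem result {T' T : Scheme.{u}} (p : T' ⟶ T) [IsFinite p] (hp : FlatMor.IsUnivHomeo p)
    [IsNoetherian T] [IsNoetherian T'] [T.IsSeparated] [T'.IsSeparated] :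
    ∃ d : ℕ, 0 < d ∧ ∀ t' : T', ∃ e : ℕ,
      @Module.finrank (T.residueField (p t')) (T'.residueField t') _ _
          (p.residueFieldMap t').hom.toAlgebra.toModule =
        ringExpChar (T.residueField (p t')) ^ e ∧
      ringExpChar (T.residueField (p t')) ^ e ∣ d := by
  classical
  have hinj : UniversallyInjective p := by
    refine ⟨?_⟩
    intro X' Y' i₁ i₂ f' h
    exact (hp i₁ i₂ f' h).injective
  have hpi : ∀ t', (p.residueFieldMap t').hom.IsPurelyInseparable :=
    (((tfae_universallyInjective p).out 0 2 rfl rfl).1 hinj).2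
  -- a bound on the affine pieces
  have key : ∀ U : T.Opens, IsAffineOpen U → ∃ n : ℕ, ∀ t' : T', p t' ∈ U →
      @Module.Finite (T.residueField (p t')) (T'.residueField t') _ _
          (p.residueFieldMap t').hom.toAlgebra.toModule ∧
      @Module.finrank (T.residueField (p t')) (T'.residueField t') _ _
          (p.residueFieldMap t').hom.toAlgebra.toModule ≤ n := by
    intro U hU
    obtain ⟨s, hs⟩ := (IsFinite.finite_app p U hU : (p.app U).hom.Finite)
    refine ⟨s.card, fun t' ht => ?_⟩
    let K := T.residueField (p t')
    let L := T'.residueField t'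
    let algKL : Algebra K L := (p.residueFieldMap t').hom.toAlgebra
    let ev : Γ(T', p ⁻¹ᵁ U) →+* L := (T'.evaluation (p ⁻¹ᵁ U) t' ht).hom
    let W : Submodule K L := Submodule.span K ((s.image ev : Finset L) : Set L)
    have hW : ∀ b, ev b ∈ W := by
      intro b
      letI := (p.app U).hom.toAlgebra
      have hb : b ∈ Submodule.span Γ(T, U) (s : Set Γ(T', p ⁻¹ᵁ U)) := hs ▸ Submodule.mem_top
      induction hb using Submodule.span_induction with
      | mem x hx => exact Submodule.subset_span (by simp only [Finset.coe_image]; exact ⟨x, hx, rfl⟩)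
      | zero => rw [map_zero]; exact zero_mem _
      | add x y _ _ hx hy => rw [map_add]; exact add_mem hx hy
      | smul a x _ hx =>
        have : ev (a • x) = ((T.evaluation U (p t') ht).hom a : K) • ev x := by
          rw [Algebra.smul_def, map_mul, Algebra.smul_def]
          congr 1
          exact (Scheme.evaluation_naturality_apply p t' ht a).symm
        rw [this]
        exact W.smul_mem _ hx
    let S : Subalgebra K L := Algebra.adjoin K (Set.range ev)
    have hSW : Subalgebra.toSubmodule S ≤ W := by
      rw [Algebra.adjoin_eq_span]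
      refine Submodule.span_le.2 fun x hx => ?_
      have : x ∈ Set.range ev := by
        induction hx using Submonoid.closure_induction with
        | mem x hx => exact hx
        | one => exact ⟨1, map_one ev⟩
        | mul x y _ _ hx hy =>
          obtain ⟨a, rfl⟩ := hx; obtain ⟨b, rfl⟩ := hy
          exact ⟨a * b, map_mul ev a b⟩
      obtain ⟨b, rfl⟩ := this
      exact hW b
    have hfinW : FiniteDimensional K W := Module.Finite.span_of_finite K (Finset.finite_toSet _)
    have hfinS : FiniteDimensional K (Subalgebra.toSubmodule S) := Submodule.finiteDimensional_of_le hSW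
    have htop : W = ⊤ := by
      rw [eq_top_iff]
      rintro x -
      refine hSW ?_
      obtain ⟨z, rfl⟩ := T'.residue_surjective t' x
      have hV : IsAffineOpen (p ⁻¹ᵁ U) := hU.preimage p
      let P : PrimeSpectrum Γ(T', p ⁻¹ᵁ U) := hV.primeIdealOf ⟨t', (show t' ∈ p ⁻¹ᵁ U from ht)⟩
      letI := TopCat.Presheaf.algebra_section_stalk T'.presheaf ⟨t', (show t' ∈ p ⁻¹ᵁ U from ht)⟩
      haveI := hV.isLocalization_stalk ⟨t', (show t' ∈ p ⁻¹ᵁ U from ht)⟩
      obtain ⟨⟨a, b⟩, hab⟩ := IsLocalization.surj P.asIdeal.primeCompl z
      have h1 : T'.residue t' z * ev b = ev a := by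
        have := congrArg (T'.residue t') hab
        rw [map_mul] at this
        exact this
      have hb : ev b ≠ 0 := by
        have hu : IsUnit (algebraMap Γ(T', p ⁻¹ᵁ U) (T'.presheaf.stalk t') b) :=
          IsLocalization.map_units _ b
        exact (hu.map (T'.residue t').hom).ne_zero
      show T'.residue t' z ∈ S
      rw [show T'.residue t' z = ev a * (ev b)⁻¹ from (eq_mul_inv_iff_mul_eq₀ hb).2 h1]
      refine mul_mem (Algebra.subset_adjoin ⟨a, rfl⟩) ?_
      have hmem : ev b ∈ S := Algebra.subset_adjoin ⟨b, rfl⟩
      have halg : IsAlgebraic K (⟨ev b, hmem⟩ : S) := by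
        haveI : Module.Finite K S := hfinS
        exact Algebra.IsAlgebraic.isAlgebraic _
      exact S.inv_mem_of_algebraic (x := ⟨ev b, hmem⟩) (halg.algHom S.val)
    constructor
    · exact Module.Finite.iff_fg.2 (htop ▸ Submodule.fg_span (Finset.finite_toSet _))  |>.equiv (LinearEquiv.ofTop ⊤ rfl)
    · calc Module.finrank K L = Module.finrank K (⊤ : Submodule K L) := (finrank_top K L).symm
        _ = Module.finrank K W := by rw [htop]
        _ ≤ (s.image ev).card := finrank_span_finset_le_card _
        _ ≤ s.card := Finset.card_image_le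
  choose n hn using fun U : T.affineOpens => key U U.2
  obtain ⟨t, ht⟩ := (isCompact_univ (X := T)).elim_finite_subcover (fun U : T.affineOpens => ((U : T.Opens) : Set T))
    (fun U => (U : T.Opens).2) (fun x _ => by
      obtain ⟨W, hW, hxW, -⟩ := TopologicalSpace.Opens.isBasis_iff_nbhd.1 T.isBasis_affineOpens
        (show x ∈ (⊤ : T.Opens) from trivial)
      exact Set.mem_iUnion.2 ⟨⟨W, hW⟩, hxW⟩)
  refine ⟨(∑ U ∈ t, n U).factorial, Nat.factorial_pos _, fun t' => ?_⟩
  obtain ⟨U, hU, htU⟩ := Set.mem_iUnion₂.1 (ht (Set.mem_univ (p t')))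
  obtain ⟨hfin, hle⟩ := hn U t' htU
  letI := (p.residueFieldMap t').hom.toAlgebra
  haveI : IsPurelyInseparable (T.residueField (p t')) (T'.residueField t') := hpi t'
  haveI : Module.Finite (T.residueField (p t')) (T'.residueField t') := hfin
  obtain ⟨e, he⟩ := IsPurelyInseparable.finrank_eq_pow (T.residueField (p t')) (T'.residueField t')
    (ringExpChar (T.residueField (p t')))
  refine ⟨e, he, Nat.dvd_factorial (he ▸ Module.finrank_pos) (he ▸ hle.trans ?_)⟩
  exact Finset.single_le_sum (fun _ _ => Nat.zero_le _) hU

end Groth.Agent.S13831
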