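import Groth.Statements.S13834
import Mathlib
-- import your own Groth.Agent.* helpers here

set_option autoImplicit false
universe u
open AlgebraicGeometry
open EtaPt

namespace Groth.Agent.S13834

open AlgebraicGeometry CategoryTheory in
theorem mem_genericPoints_iff {α : Type u} [TopologicalSpace α] [T0Space α] [QuasiSober α] (x : α) :
    x ∈ genericPoints α ↔ ∀ y, y ⤳ x → y = x := by
  refine ⟨fun hx y hy => ?_, fun h => ?_⟩
  · have hsub : closure {x} ⊆ closure {y} := closure_minimal (Set.singleton_subset_iff.mpr hy.mem_closure) isClosed_closure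
    exact ((specializes_iff_mem_closure.mpr (hx.2 isIrreducible_singleton.closure hsub (subset_closure rfl))).antisymm hy).eq.symm
  · let γ := genericPoints.ofComponent (⟨irreducibleComponent x, irreducibleComponent_mem_irreducibleComponents x⟩ : irreducibleComponents α)
    have : (γ.1 : α) ⤳ x := specializes_iff_mem_closure.mpr (by
      rw [show closure {γ.1} = irreducibleComponent x from
        (genericPoints.isGenericPoint γ).def.trans (congrArg Subtype.val (genericPoints.component_ofComponent _))]
      exact mem_irreducibleComponent)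
    exact h _ this ▸ γ.2

open AlgebraicGeometry CategoryTheory in
theorem finite_genericPoints_affine {V U : Scheme.{u}} [IsAffine V] [IsAffine U] (g : V ⟶ U) [Flat g]
    [LocallyOfFiniteType g] (hU : (genericPoints U).Finite) : (genericPoints V).Finite := by
  have hsub : genericPoints V ⊆ ⋃ η ∈ genericPoints U, g.fiberι η '' genericPoints (g.fiber η) := by
    intro y hy
    rw [mem_genericPoints_iff] at hy
    have hη : g y ∈ genericPoints U := by
      rw [mem_genericPoints_iff]
      intro η hη
      obtain ⟨y', hy', rfl⟩ := Flat.generalizingMap g hη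
      rw [hy y' hy']
    refine Set.mem_biUnion hη ?_
    obtain ⟨p, hp⟩ : y ∈ Set.range (g.fiberι (g y)) := by rw [g.range_fiberι]; rfl
    refine ⟨p, (mem_genericPoints_iff p).mpr fun q hq => ?_, hp⟩
    have h3 := hq.map (g.fiberι (g y)).continuous
    rw [hp] at h3
    exact (g.fiberι (g y)).isEmbedding.injective ((hy _ h3).trans hp.symm)
  refine (hU.biUnion fun η _ => ?_).subset hsub
  haveI : LocallyOfFiniteType (g.fiberToSpecResidueField η) := inferInstanceAs (LocallyOfFiniteType (Limits.pullback.snd g (U.fromSpecResidueField η)))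
  haveI : IsLocallyNoetherian (g.fiber η) := LocallyOfFiniteType.isLocallyNoetherian (g.fiberToSpecResidueField η)
  haveI : CompactSpace (g.fiber η) := QuasiCompact.compactSpace_of_compactSpace (g.fiberToSpecResidueField η)
  haveI : IsNoetherian (g.fiber η) := {}
  exact (genericPoints.finite TopologicalSpace.NoetherianSpace.finite_irreducibleComponents).image _

/-- If f : Y → X is faithfully flat and locally of finite presentation and each quasi-compact open
subset of X has only finitely many irreducible components, the same is true of each quasi-compact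
open subset of Y. -/
theorem result {Y X : Scheme.{u}} (f : Y ⟶ X) [Flat f] [LocallyOfFinitePresentation f] [Surjective f]
    (hX : ∀ U : X.Opens, IsCompact (U : Set X) → (irreducibleComponents (U : Type u)).Finite)
    (V : Y.Opens) (hV : IsCompact (V : Set Y)) : (irreducibleComponents (V : Type u)).Finite := by
  classical
  haveI : QuasiSober (V : Set Y) := V.2.isOpenEmbedding_subtypeVal.quasiSober
  haveI : QuasiSober (V : Type u) := V.2.isOpenEmbedding_subtypeVal.quasiSober
  have key : ∀ y : (V : Set Y), ∃ W : Y.Opens, y.1 ∈ W ∧ W ≤ V ∧ IsAffineOpen W ∧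
      (genericPoints (W : Scheme.{u})).Finite := by
    intro y
    obtain ⟨_, ⟨U, hU, rfl⟩, hyU, -⟩ := X.isBasis_affineOpens.exists_subset_of_mem_open (Set.mem_univ (f y.1)) isOpen_univ
    obtain ⟨_, ⟨W, hW, rfl⟩, hyW, hWV⟩ := Y.isBasis_affineOpens.exists_subset_of_mem_open
      (a := y.1) (u := (V : Set Y) ∩ f ⁻¹' (U : Set X)) ⟨y.2, hyU⟩ (V.2.inter (U.2.preimage f.continuous))
    have hle : W ≤ f ⁻¹ᵁ U := fun a ha => (hWV ha).2
    haveI : IsAffine (W : Scheme.{u}) := hW
    haveI : IsAffine (U : Scheme.{u}) := hU
    haveI : Flat (f.resLE U W hle) := inferInstance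
    haveI : LocallyOfFiniteType (f.resLE U W hle) := inferInstance
    haveI : QuasiSober (U : Type u) := U.2.isOpenEmbedding_subtypeVal.quasiSober
    refine ⟨W, hyW, fun a ha => (hWV ha).1, hW, finite_genericPoints_affine (f.resLE U W hle) ?_⟩
    exact genericPoints.finite (hX U hU.isCompact)
  choose W hyW hWV hW hfin using key
  obtain ⟨s, hs⟩ := hV.elim_finite_subcover (fun y => (W y : Set Y)) (fun y => (W y).2)
    fun y hy => Set.mem_iUnion.mpr ⟨⟨y, hy⟩, hyW _⟩
  have hVfin : (genericPoints (V : Type u)).Finite := by
    let incl : ∀ y, ↥(W y).toScheme → (V : Type u) := fun y w => ⟨w.1, hWV y w.2⟩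
    refine Set.Finite.subset (Set.Finite.biUnion s.finite_toSet fun y _ => (hfin y).image (incl y)) fun v hv => ?_
    obtain ⟨y, hy, hvy⟩ := Set.mem_iUnion₂.mp (hs v.2)
    refine Set.mem_biUnion hy ⟨⟨v.1, hvy⟩, ?_, rfl⟩
    rw [mem_genericPoints_iff] at hv
    refine (mem_genericPoints_iff (α := ↥(W y).toScheme) _).mpr fun w hw => ?_
    have h1 := hv (incl y w) (Topology.IsInducing.subtypeVal.specializes_iff.mp (hw.map continuous_subtype_val))
    exact Subtype.ext (show w.1 = v.1 from congrArg Subtype.val h1)
  haveI := hVfin.to_subtype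
  exact Set.finite_coe_iff.mp (Finite.of_equiv _ (genericPoints.equiv (α := (V : Type u))))

end Groth.Agent.S13834
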