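import Groth.Statements.S13835
import Mathlib

set_option autoImplicit false
universe u
open AlgebraicGeometry CategoryTheory
open ChowMon

namespace Groth.Agent.S13835

/-- Let p : T' → T be a universal homeomorphism of separated schemes with T reduced and f' : T' → Y a
morphism (Y separated); if T has an open cover by affine opens U_i such that each restriction of f'
to p⁻¹(U_i) factors through p⁻¹(U_i) → U_i, then f' factors through p. -/
theorem result {T' T Y : Scheme.{u}} (p : T' ⟶ T) (hp : FlatMor.IsUnivHomeo p) [IsReduced T]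
    [T.IsSeparated] [T'.IsSeparated] [Y.IsSeparated] (f' : T' ⟶ Y)
    {ι : Type u} (U : ι → T.affineOpens) (hU : ⨆ i, (U i : T.Opens) = ⊤)
    (hloc : ∀ i, ∃ fi : ((U i : T.Opens) : Scheme.{u}) ⟶ Y, (p ⁻¹ᵁ (U i : T.Opens)).ι ≫ f' = (p ∣_ (U i : T.Opens)) ≫ fi) :
    ∃ f : T ⟶ Y, p ≫ f = f' := by
  classical
  have hsurj : Surjective p := by
    refine ⟨?_⟩
    exact (hp (𝟙 T') (𝟙 T) p (IsPullback.of_vert_isIso ⟨by simp⟩)).surjective
  choose fi hfi using hloc
  let 𝒰 := T.openCoverOfIsOpenCover (fun i => (U i : T.Opens)) hU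
  have hc : ∀ i j : ι, CategoryTheory.Limits.pullback.fst (U i : T.Opens).ι (U j : T.Opens).ι ≫ fi i =
      CategoryTheory.Limits.pullback.snd (U i : T.Opens).ι (U j : T.Opens).ι ≫ fi j := by
    intro i j
    have : AlgebraicGeometry.IsReduced (CategoryTheory.Limits.pullback (U i : T.Opens).ι (U j : T.Opens).ι) :=
      AlgebraicGeometry.isReduced_of_isOpenImmersion (CategoryTheory.Limits.pullback.fst (U i : T.Opens).ι (U j : T.Opens).ι ≫ (U i : T.Opens).ι)
    let a := CategoryTheory.Limits.pullback.fst (U i : T.Opens).ι (U j : T.Opens).ι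
    let b := CategoryTheory.Limits.pullback.snd (U i : T.Opens).ι (U j : T.Opens).ι
    have hab : a ≫ (U i : T.Opens).ι = b ≫ (U j : T.Opens).ι := CategoryTheory.Limits.pullback.condition
    let π := CategoryTheory.Limits.pullback.fst (a ≫ (U i : T.Opens).ι) p
    let q := CategoryTheory.Limits.pullback.snd (a ≫ (U i : T.Opens).ι) p
    have hq : π ≫ a ≫ (U i : T.Opens).ι = q ≫ p := CategoryTheory.Limits.pullback.condition
    have : IsDominant π := inferInstance
    refine ext_of_isDominant π ?_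
    let qi := (isPullback_morphismRestrict p (U i : T.Opens)).lift (π ≫ a) q (by rw [Category.assoc]; exact hq)
    let qj := (isPullback_morphismRestrict p (U j : T.Opens)).lift (π ≫ b) q
      (by rw [Category.assoc, ← hab]; exact hq)
    calc π ≫ a ≫ fi i = qi ≫ (p ∣_ (U i : T.Opens)) ≫ fi i := by
          rw [← Category.assoc π a, ← Category.assoc qi, IsPullback.lift_fst]
      _ = q ≫ f' := by rw [← hfi i, ← Category.assoc qi, IsPullback.lift_snd]
      _ = qj ≫ (p ∣_ (U j : T.Opens)) ≫ fi j := by rw [← hfi j, ← Category.assoc qj, IsPullback.lift_snd]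
      _ = π ≫ b ≫ fi j := by rw [← Category.assoc π b, ← Category.assoc qj, IsPullback.lift_fst]
  refine ⟨𝒰.glueMorphisms fi hc, ?_⟩
  refine (T'.openCoverOfIsOpenCover (fun i => p ⁻¹ᵁ (U i : T.Opens)) ?_).hom_ext _ _ fun i => ?_
  · show (⨆ i, p ⁻¹ᵁ (U i : T.Opens)) = ⊤
    rw [← Scheme.Hom.preimage_iSup, hU]; rfl
  show (p ⁻¹ᵁ (U i : T.Opens)).ι ≫ p ≫ _ = (p ⁻¹ᵁ (U i : T.Opens)).ι ≫ f'
  rw [hfi i, ← morphismRestrict_ι_assoc]
  congr 1
  exact Scheme.Cover.ι_glueMorphisms 𝒰 fi hc i

end Groth.Agent.S13835
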