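import Groth.Statements.S13838
import Groth.Agent.EtaLib.SpecUH

set_option autoImplicit false
universe u
open AlgebraicGeometry
open HTop

namespace Groth.Agent.S13838

/-- Let A ⊆ B be an integral ring extension where A and B have finitely many minimal prime ideals, such
that every prime p of A has a prime q of B above it for which k(p) is closed under extracting
p-power roots inside k(q) (the purely inseparable closure of k(p) in k(q) is k(p)); then the semi-
and weak normalizations of A in B coincide: every A-subalgebra C of B with Spec C → Spec A a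
universal homeomorphism already induces isomorphisms on residue fields. -/
theorem result (A B : Type u) [CommRing A] [CommRing B] [Algebra A B] (hinj : Function.Injective (algebraMap A B))
    [Algebra.IsIntegral A B] (hA : (minimalPrimes A).Finite) (hB : (minimalPrimes B).Finite)
    (hpi : ∀ p : PrimeSpectrum A, ∃ q : PrimeSpectrum B, ∃ hq : p.asIdeal = Ideal.comap (algebraMap A B) q.asIdeal,
      ∀ x : q.asIdeal.ResidueField,
        (∃ n : ℕ, x ^ ringExpChar p.asIdeal.ResidueField ^ n ∈
            Set.range (Ideal.ResidueField.map p.asIdeal q.asIdeal (algebraMap A B) hq)) →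
        x ∈ Set.range (Ideal.ResidueField.map p.asIdeal q.asIdeal (algebraMap A B) hq)) :
    ∀ C : Subalgebra A B, FlatMor.IsUnivHomeo (Spec.map (CommRingCat.ofHom (algebraMap A C))) →
      HTop.ResidueFieldsIso (Spec.map (CommRingCat.ofHom (algebraMap A C))) := by
  intro C hC
  refine (Groth.Agent.EtaLib.residueFieldsIso_Spec_iff _).mpr fun Q => ⟨RingHom.injective _, fun x => ?_⟩
  obtain ⟨q, hq, hx⟩ := hpi (PrimeSpectrum.comap (algebraMap A C) Q)
  have hb : Function.Bijective (PrimeSpectrum.comap (algebraMap A C)) :=
    (Groth.Agent.FlatBasics.isHomeomorph_of_isUnivHomeo hC).bijective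
  have hqQ : PrimeSpectrum.comap C.val.toRingHom q = Q := hb.1 (PrimeSpectrum.ext (by
    rw [hq]
    show ((q.asIdeal.comap C.val.toRingHom).comap (algebraMap A C)) = _
    rw [Ideal.comap_comap]; rfl))
  let r := Ideal.ResidueField.map (PrimeSpectrum.comap (algebraMap A C) Q).asIdeal Q.asIdeal (algebraMap A C) rfl
  let s := Ideal.ResidueField.map Q.asIdeal q.asIdeal C.val.toRingHom (congrArg PrimeSpectrum.asIdeal hqQ).symm
  have hsr : s.comp r =
      Ideal.ResidueField.map (PrimeSpectrum.comap (algebraMap A C) Q).asIdeal q.asIdeal (algebraMap A B) hq :=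
    Ideal.ResidueField.ringHom_ext (RingHom.ext fun a => by
      simp only [RingHom.comp_apply, r, s, Ideal.ResidueField.map_algebraMap]
      rfl)
  obtain ⟨n, z, hz⟩ := Groth.Agent.EtaLib.pow_mem_of_isUnivHomeo (algebraMap A C) hC Q x
  obtain ⟨w, hw⟩ := hx (s x) ⟨n, z, by rw [← hsr, RingHom.comp_apply, hz, map_pow]⟩
  exact ⟨w, s.injective (by rw [← hw, ← hsr]; rfl)⟩

end Groth.Agent.S13838
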