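import Groth.Statements.S13843
import Groth.Agent.EtFieldTors.FieldDegRel
import Mathlib.FieldTheory.Galois.Basic
import Mathlib.GroupTheory.Sylow

set_option autoImplicit false
universe u
open CategoryTheory CategoryTheory.Limits AlgebraicGeometry
open GalCoh

namespace Groth.Agent.S13843

theorem exists_galois (K L : Type u) [Field K] [Field L] [Algebra K L] [FiniteDimensional K L] [Algebra.IsSeparable K L] :
    ∃ (N : Type u) (_ : Field N) (_ : Algebra K N) (_ : Algebra L N) (_ : IsScalarTower K L N)
      (_ : FiniteDimensional K N), IsGalois K N := by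
  let φ : L →ₐ[K] SeparableClosure K := IsSepClosed.lift
  letI : Algebra L (SeparableClosure K) := φ.toRingHom.toAlgebra
  haveI : IsScalarTower K L (SeparableClosure K) := IsScalarTower.of_algebraMap_eq fun x => (φ.commutes x).symm
  exact ⟨↥(IntermediateField.normalClosure K L (SeparableClosure K)), inferInstance, inferInstance,
    normalClosure.algebra K L (SeparableClosure K), inferInstance,
    normalClosure.is_finiteDimensional K L (SeparableClosure K), IsGalois.normalClosure K L (SeparableClosure K)⟩

set_option maxHeartbeats 1000000 in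
/-- Let K be a field, F an abelian sheaf on the small étale site of Spec K, i > 0 and α a class in
H^i(Spec K, F) which pulls back to zero over some finite separable field extension L of K. If p is a
prime not dividing the order of α, then there is a finite separable field extension L' of K whose
degree is not divisible by p and over which α pulls back to zero. Hence the period and the index of
α have the same prime factors. (Exactness of pullback of abelian sheaves, which always holds, is
carried as an instance hypothesis, in the conclusion for every such instance.) -/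
theorem result (K : Type u) [Field K] (F : EtCoh.Ab (Spec (CommRingCat.of K))) (i : ℕ)
    (hi : 0 < i) (α : EtCoh.H (Spec (CommRingCat.of K)) F i) (L : Type u) [Field L] [Algebra K L] [FiniteDimensional K L]
    [Algebra.IsSeparable K L] [PreservesFiniteLimits (EtCoh.pull (Spec.map (CommRingCat.ofHom (algebraMap K L))))]
    (hα : EtCore.Hpull (Spec.map (CommRingCat.ofHom (algebraMap K L))) F i α = 0) (p : ℕ) (hp : p.Prime) (hpα : ¬ p ∣ addOrderOf α) :
    ∃ (L' : Type u) (_ : Field L') (_ : Algebra K L') (_ : FiniteDimensional K L') (_ : Algebra.IsSeparable K L'),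
      ¬ p ∣ Module.finrank K L' ∧
        ∀ [PreservesFiniteLimits (EtCoh.pull (Spec.map (CommRingCat.ofHom (algebraMap K L'))))],
          EtCore.Hpull (Spec.map (CommRingCat.ofHom (algebraMap K L'))) F i α = 0 := by
  haveI := Fact.mk hp
  obtain ⟨m, rfl⟩ : ∃ m, i = m + 1 := ⟨i - 1, by omega⟩
  obtain ⟨N, hNf, hKN, hLN, hT, hfd, hGal⟩ := exists_galois K L
  obtain ⟨P⟩ := (inferInstance : Nonempty (Sylow p Gal(N/K)))
  let L' := IntermediateField.fixedField P.toSubgroup
  haveI : Algebra.IsSeparable K L' := Algebra.isSeparable_tower_bot_of_isSeparable K L' N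
  have hPN : Module.finrank L' N = Nat.card P := IntermediateField.finrank_fixedField_eq_card _
  have hdeg : Module.finrank K L' = P.toSubgroup.index := by
    have h1 := Module.finrank_mul_finrank K L' N
    rw [hPN, ← IsGalois.card_aut_eq_finrank K N, ← P.toSubgroup.index_mul_card] at h1
    exact Nat.eq_of_mul_eq_mul_right Nat.card_pos h1
  refine ⟨L', inferInstance, inferInstance, inferInstance, inferInstance, hdeg ▸ P.not_dvd_index, fun {inst} => ?_⟩
  haveI := EtFieldTors.etale_spec_finSep K N
  haveI : EtShriek.JCont (Spec.map (CommRingCat.ofHom (algebraMap K N))) :=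
    EtSh.jCont_hom (Scheme.Etale.mk (Spec.map (CommRingCat.ofHom (algebraMap K N))))
  haveI := EtFieldTors.preservesFiniteLimits_pull_etale (Spec.map (CommRingCat.ofHom (algebraMap K N)))
  have hN : EtCore.Hpull (Spec.map (CommRingCat.ofHom (algebraMap K N))) F (m + 1) α = 0 := by
    exact EtFieldTors.Hpull_eq_zero_of_tower K L N F m α hα
  have h1 := EtFieldTors.finrank_nsmul_Hpull_eq_zero K L' N F m α hN
  have h2 : addOrderOf α • EtCore.Hpull (Spec.map (CommRingCat.ofHom (algebraMap K L'))) F (m + 1) α = 0 := by
    rw [← map_nsmul, addOrderOf_nsmul_eq_zero, map_zero]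
  obtain ⟨a, ha⟩ := IsPGroup.iff_card.1 P.isPGroup'
  rw [hPN, ha] at h1
  have hco : Nat.Coprime (p ^ a) (addOrderOf α) := Nat.Coprime.pow_left a ((Nat.Prime.coprime_iff_not_dvd hp).2 hpα)
  have h3 := Nat.dvd_gcd (addOrderOf_dvd_iff_nsmul_eq_zero.2 h1) (addOrderOf_dvd_iff_nsmul_eq_zero.2 h2)
  rw [hco, Nat.dvd_one] at h3
  exact AddMonoid.addOrderOf_eq_one_iff.1 h3

end Groth.Agent.S13843
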