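import Mathlib.RingTheory.SimpleRing.Basic
import Mathlib.RingTheory.Jacobson.Radical
import Mathlib.RingTheory.TwoSidedIdeal.Operations
import Mathlib.RingTheory.Ideal.Quotient.Operations
import Groth.Statements.S13848

set_option autoImplicit false
universe u v
open TwSh

namespace Groth.Agent.S13848

/-- Let A be a ring with A/J a simple left-Artinian ring, J the Jacobson radical, and let P be a
non-zero finitely generated projective left A-module. An A-linear automorphism u of P which commutes
with every A-linear endomorphism of P (equivalently, induces the identity on End_A(P) by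
conjugation) is scalar multiplication by a unique central element a of A: u(x) = a·x for all x ∈ P,
and a is determined by u. (So the automorphisms of P acting trivially on End_A(P) are exactly the
central units of A acting by scalars; the published assertion does not exclude P = 0, where
uniqueness fails.) -/
theorem result (A : Type u) [Ring A] [IsSimpleRing (A ⧸ Ring.jacobson A)] [IsArtinianRing (A ⧸ Ring.jacobson A)] (P : Type v) [AddCommGroup P] [Module A P] [Module.Finite A P] [Module.Projective A P] [Nontrivial P] (u : P ≃ₗ[A] P) (hu : ∀ f : Module.End A P, (u : P →ₗ[A] P) ∘ₗ f = f ∘ₗ (u : P →ₗ[A] P)) : ∃! a : A, (∀ b : A, a * b = b * a) ∧ ∀ x : P, u x = a • x := by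
  classical
  let I : Submodule A A := ⨆ φ : P →ₗ[A] A, LinearMap.range φ
  have hmem : ∀ (φ : P →ₗ[A] A) (p : P), φ p ∈ I := fun φ p =>
    Submodule.mem_iSup_of_mem φ ⟨p, rfl⟩
  have hright : ∀ r, ∀ x ∈ I, x * r ∈ I := fun r x hx => by
    induction hx using Submodule.iSup_induction' with
    | mem φ x hx =>
      obtain ⟨p, rfl⟩ := hx
      exact hmem ((LinearMap.toSpanSingleton A A r).comp φ) p
    | zero => rw [zero_mul]; exact I.zero_mem
    | add x y _ _ hx hy => rw [add_mul]; exact I.add_mem hx hy
  have hnot : ¬ I ≤ Ring.jacobson A := by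
    intro hle
    obtain ⟨s, hs⟩ := Module.projective_def.mp (inferInstance : Module.Projective A P)
    have htop : (⊤ : Submodule A P) ≤ Ring.jacobson A • ⊤ := by
      intro x _
      rw [← hs x, Finsupp.linearCombination_apply]
      refine Submodule.sum_mem _ fun p _ => Submodule.smul_mem_smul ?_ Submodule.mem_top
      exact hle (hmem ((Finsupp.lapply p).comp s) x)
    have := Submodule.FG.eq_bot_of_le_jacobson_smul Module.Finite.fg_top htop
    exact absurd this top_ne_bot
  have hone : (1 : A) ∈ I := by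
    let π := Ideal.Quotient.mk (Ring.jacobson A)
    have hπ : Function.Surjective π := Ideal.Quotient.mk_surjective
    let K : TwoSidedIdeal (A ⧸ Ring.jacobson A) := TwoSidedIdeal.mk' (π '' (I : Set A))
      ⟨0, I.zero_mem, map_zero _⟩
      (by rintro _ _ ⟨a, ha, rfl⟩ ⟨b, hb, rfl⟩; exact ⟨a + b, I.add_mem ha hb, map_add _ _ _⟩)
      (by rintro _ ⟨a, ha, rfl⟩; exact ⟨-a, I.neg_mem ha, map_neg _ _⟩)
      (by
        rintro x _ ⟨a, ha, rfl⟩
        obtain ⟨c, rfl⟩ := hπ x
        exact ⟨c * a, I.smul_mem c ha, map_mul _ _ _⟩)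
      (by
        rintro _ y ⟨a, ha, rfl⟩
        obtain ⟨c, rfl⟩ := hπ y
        exact ⟨a * c, hright c a ha, map_mul _ _ _⟩)
    obtain ⟨x, hx, hxJ⟩ := SetLike.not_le_iff_exists.mp hnot
    have hK : (1 : A ⧸ Ring.jacobson A) ∈ K :=
      IsSimpleRing.one_mem_of_ne_zero_mem K (fun h => hxJ (Ideal.Quotient.eq_zero_iff_mem.mp h))
        ((TwoSidedIdeal.mem_mk' _ _ _ _ _ _ _).mpr ⟨x, hx, rfl⟩)
    obtain ⟨a, ha, ha'⟩ := (TwoSidedIdeal.mem_mk' _ _ _ _ _ _ _).mp hK
    by_contra h1
    obtain ⟨m, hm, hIm⟩ := Ideal.exists_le_maximal I fun h => h1 (h ▸ Submodule.mem_top)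
    haveI := hm
    apply hm.ne_top
    rw [Ideal.eq_top_iff_one]
    have hj : a - 1 ∈ Ring.jacobson A := Ideal.Quotient.eq.mp (ha'.trans (map_one π).symm)
    have := m.sub_mem (hIm ha) (Ring.jacobson_le_of_isMaximal m hj)
    simpa using this
  have hfaith : ∀ a : A, (∀ y : P, a • y = 0) → a = 0 := by
    intro a ha
    have h : ∀ x ∈ I, a * x = 0 := fun x hx => by
      induction hx using Submodule.iSup_induction' with
      | mem φ x hx =>
        obtain ⟨p, rfl⟩ := hx
        rw [← smul_eq_mul, ← map_smul, ha, map_zero]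
      | zero => rw [mul_zero]
      | add x y _ _ hx hy => rw [mul_add, hx, hy, add_zero]
    simpa using h 1 hone
  have hrep : ∀ r ∈ I, ∃ a : A, ∀ y : P, r • u y = a • y := fun r hr => by
    induction hr using Submodule.iSup_induction' with
    | mem φ x hx =>
      obtain ⟨p, rfl⟩ := hx
      refine ⟨φ (u p), fun y => ?_⟩
      have h := LinearMap.congr_fun (hu ((LinearMap.toSpanSingleton A P y).comp φ)) p
      simpa using h
    | zero => exact ⟨0, fun y => by simp⟩
    | add x y _ _ hx hy =>
      obtain ⟨a, ha⟩ := hx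
      obtain ⟨b, hb⟩ := hy
      exact ⟨a + b, fun z => by rw [add_smul, add_smul, ha, hb]⟩
  obtain ⟨a, ha⟩ := hrep 1 hone
  simp only [one_smul] at ha
  refine ⟨a, ⟨fun b => sub_eq_zero.mp (hfaith _ fun y => ?_), ha⟩, fun a' ⟨_, ha'⟩ =>
    sub_eq_zero.mp (hfaith _ fun y => ?_)⟩
  · rw [sub_smul, mul_smul, mul_smul, ← ha, ← ha, map_smul, sub_self]
  · rw [sub_smul, ← ha, ← ha', sub_self]

end Groth.Agent.S13848
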