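import Groth.Statements.S13860
import Mathlib.GroupTheory.Sylow
import Mathlib.RepresentationTheory.Basic
import Mathlib.GroupTheory.Index

set_option autoImplicit false
universe u v w
open ModRep

namespace Groth.Agent.S13860

/-- For k a field of characteristic p > 0, G a finite group and P a Sylow p-subgroup of G, a short exact
sequence of k[G]-modules has a k[G]-linear splitting exactly when it has a k[P]-linear one. Stated
here for the surjection of the sequence: a G-equivariant k-linear map g : B → C between k-linear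
representations of G admits a G-equivariant k-linear section if and only if it admits a
P-equivariant k-linear section. -/
theorem result {k : Type u} [Field k] (p : ℕ) [Fact p.Prime]
    [CharP k p] {G : Type v} [Group G] [Finite G] (P : Sylow p G)
    {B C : Type w} [AddCommGroup B] [Module k B] [AddCommGroup C] [Module k C]
    (ρB : Representation k G B) (ρC : Representation k G C)
    (g : B →ₗ[k] C) (hg : ∀ x : G, g ∘ₗ ρB x = ρC x ∘ₗ g) :
    (∃ s : C →ₗ[k] B, g ∘ₗ s = LinearMap.id ∧ ∀ x : G, s ∘ₗ ρC x = ρB x ∘ₗ s) ↔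
      (∃ s : C →ₗ[k] B, g ∘ₗ s = LinearMap.id ∧ ∀ x : G, x ∈ P → s ∘ₗ ρC x = ρB x ∘ₗ s) := by
  classical
  constructor
  · rintro ⟨s, h1, h2⟩
    exact ⟨s, h1, fun x _ => h2 x⟩
  rintro ⟨s, h1, h2⟩
  haveI : Fintype (G ⧸ (P : Subgroup G)) := Fintype.ofFinite _
  have hne : ((P : Subgroup G).index : k) ≠ 0 := by
    rw [Ne, CharP.cast_eq_zero_iff k p]
    exact P.not_dvd_index
  let F : G → (C →ₗ[k] B) := fun x => ρB x ∘ₗ s ∘ₗ ρC x⁻¹
  have hF : ∀ x y : G, (x⁻¹ * y) ∈ (P : Subgroup G) → F x = F y := by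
    intro x y h
    obtain ⟨z, hz, rfl⟩ : ∃ z, z ∈ (P : Subgroup G) ∧ y = x * z := ⟨_, h, by group⟩
    refine LinearMap.ext fun c => ?_
    have h3 : ρB z (s (ρC (z⁻¹ * x⁻¹) c)) = s (ρC z (ρC (z⁻¹ * x⁻¹) c)) :=
      (LinearMap.congr_fun (h2 z hz) _).symm
    simp only [F, LinearMap.comp_apply, mul_inv_rev, map_mul ρB, Module.End.mul_apply]
    rw [h3, ← Module.End.mul_apply (ρC z), ← map_mul, mul_inv_cancel_left]
  let Φ : G ⧸ (P : Subgroup G) → (C →ₗ[k] B) := Quotient.lift F fun x y h => hF x y (QuotientGroup.leftRel_apply.1 h)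
  refine ⟨((P : Subgroup G).index : k)⁻¹ • ∑ q, Φ q, ?_, fun x => ?_⟩
  · have hg1 : ∀ q, g ∘ₗ Φ q = LinearMap.id := by
      intro q
      induction q using Quotient.inductionOn with
      | h y =>
        refine LinearMap.ext fun c => ?_
        have e1 : g (ρB y (s (ρC y⁻¹ c))) = ρC y (g (s (ρC y⁻¹ c))) := LinearMap.congr_fun (hg y) _
        have e2 : g (s (ρC y⁻¹ c)) = ρC y⁻¹ c := LinearMap.congr_fun h1 _
        change g (ρB y (s (ρC y⁻¹ c))) = c
        rw [e1, e2, ← Module.End.mul_apply, ← map_mul, mul_inv_cancel, map_one, Module.End.one_apply]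
    refine LinearMap.ext fun c => ?_
    simp only [LinearMap.comp_apply, LinearMap.smul_apply, LinearMap.sum_apply, map_smul, map_sum, LinearMap.id_apply]
    rw [Finset.sum_congr rfl (fun q _ => show g (Φ q c) = c from LinearMap.congr_fun (hg1 q) c)]
    simp only [Finset.sum_const, Finset.card_univ]
    rw [← Nat.cast_smul_eq_nsmul k, smul_smul, ← Nat.card_eq_fintype_card,
      show Nat.card (G ⧸ (P : Subgroup G)) = (P : Subgroup G).index from rfl, inv_mul_cancel₀ hne, one_smul]
  · have hx : ∀ q, Φ (x • q) ∘ₗ ρC x = ρB x ∘ₗ Φ q := by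
      intro q
      induction q using Quotient.inductionOn with
      | h y =>
        refine LinearMap.ext fun c => ?_
        change ρB (x * y) (s (ρC (x * y)⁻¹ (ρC x c))) = ρB x (ρB y (s (ρC y⁻¹ c)))
        rw [map_mul ρB, Module.End.mul_apply, ← Module.End.mul_apply (ρC _) (ρC x), ← map_mul, mul_inv_rev,
          inv_mul_cancel_right]
    rw [LinearMap.smul_comp, LinearMap.comp_smul]
    congr 1
    conv_lhs => rw [← Equiv.sum_comp (MulAction.toPerm x) Φ]
    refine LinearMap.ext fun c => ?_
    simp only [LinearMap.comp_apply, LinearMap.sum_apply, map_sum]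
    exact Finset.sum_congr rfl fun q _ => LinearMap.congr_fun (hx q) c

end Groth.Agent.S13860
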