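import Groth.Statements.S13862
import Mathlib
import Groth.Agent.ASH1.Low

set_option autoImplicit false
universe u
open ASCover

namespace Groth.Agent.S13862

open Groth.Agent.ASH1 groupCohomology

set_option maxHeartbeats 1000000

/-- For k an algebraically closed field of characteristic p > 0, n ≥ 1 an integer prime to p, u ∈ k[[t]]
the power series with constant term 1 and u^n · (1 + t^n) = 1, and G a group of order p generated by
g, consider two k-linear actions of G on B = k[[t]]: ρ₀(g) h = h(t·u), i.e. B with its order-p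
automorphism σ(t) = t·u, and ρ₁(g) h = u^(n+1) · h(t·u), which is the σ-module B·dt identified with
B through h·dt ↦ h (because d(σ t) = u^(n+1) dt). The derivative d/dt : (B, ρ₀) → (B, ρ₁) is
G-equivariant, and the image of the map it induces on first group cohomology, H^1(G, (B, ρ₀)) →
H^1(G, (B, ρ₁)), is finite-dimensional over k of dimension ⌊(n+1)(p−1)/p⌋ − 1 − ⌊(n−1)/p⌋. This is
the dimension of the image of H^1(G, O) → H^1(G, Ω) at a ramified point with break n of a ℤ/p-cover
of smooth curves, computed in the completed local ring; the published statement is phrased for the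
stalks, at a point of the quotient curve, of the direct images of the structure sheaf and of the
sheaf of differentials, and its proof passes to this completed form. -/
theorem result {k : Type u} [Field k] [IsAlgClosed k] (p : ℕ)
    [Fact p.Prime] [CharP k p] (n : ℕ) (hn : 0 < n) (hpn : ¬ p ∣ n)
    (u : PowerSeries k) (hu1 : PowerSeries.constantCoeff u = 1)
    (hun : u ^ n * (1 + PowerSeries.X ^ n) = 1)
    {G : Type u} [Group G] [Finite G] (g : G) (hG : Nat.card G = p)
    (hg : ∀ x : G, x ∈ Subgroup.zpowers g)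
    (ρ₀ ρ₁ : Representation k G (PowerSeries k))
    (hρ₀ : ∀ h : PowerSeries k, ρ₀ g h = PowerSeries.subst (PowerSeries.X * u) h)
    (hρ₁ : ∀ h : PowerSeries k, ρ₁ g h = u ^ (n + 1) * PowerSeries.subst (PowerSeries.X * u) h)
    (φ : Rep.of ρ₀ ⟶ Rep.of ρ₁) (hφ : ∀ h : PowerSeries k, φ.hom h = PowerSeries.derivative k h) :
    Module.Finite k (LinearMap.range ((groupCohomology.functor k G 1).map φ).hom) ∧
      (Module.finrank k (LinearMap.range ((groupCohomology.functor k G 1).map φ).hom) : ℤ) =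
        ((n + 1) * (p - 1) : ℤ) / p - 1 - (n - 1 : ℤ) / p := by
  classical
  let D : Groth.Agent.ASH1.Dat k p n := Groth.Agent.ASH1.Dat.ofSeries hn hpn u hu1 hun
  have h0 : ∀ h, ρ₀ g h = D.act 0 h := fun h => by
    rw [hρ₀, D.act_apply, D.τ_apply, zpow_zero, Units.val_one, one_mul]; rfl
  have h1 : ∀ h, ρ₁ g h = D.act ((n : ℤ) + 1) h := fun h => by
    rw [hρ₁, D.act_apply, D.τ_apply,
      show ((n : ℤ) + 1) = ((n + 1 : ℕ) : ℤ) by push_cast; ring, zpow_natCast,
      Units.val_pow_eq_pow_val]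
    rfl
  obtain ⟨e1, he1⟩ := D.exists_equiv ((n : ℤ) + 1) g hG hg ρ₁ h1
  obtain ⟨mc, hmc⟩ : ∃ mc : cocycles₁ (Rep.of ρ₀) →ₗ[k] cocycles₁ (Rep.of ρ₁),
      mc = (mapCocycles₁ (A := Rep.of ρ₀) (B := Rep.of ρ₁) (MonoidHom.id G) φ).hom := ⟨_, rfl⟩
  let Lc : cocycles₁ (Rep.of ρ₀) →ₗ[k] (↥(D.S ((n : ℤ) + 1)) → k) :=
    (D.Ψ ((n : ℤ) + 1) g ρ₁) ∘ₗ mc
  have hmap : ∀ c, e1 (((groupCohomology.functor k G 1).map φ).hom ((H1π (Rep.of ρ₀)).hom c)) = Lc c := by
    intro c
    refine Eq.trans (congrArg e1 ?_) (he1 (mc c))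
    subst hmc
    simp only [groupCohomology.functor_map]
    exact congrArg (fun f : ModuleCat.of k (cocycles₁ (Rep.of ρ₀)) ⟶ H1 (Rep.of ρ₁) => f.hom c)
      (H1π_comp_map (A := Rep.of ρ₀) (B := Rep.of ρ₁) (f := MonoidHom.id G) (φ := φ))
  have hrange : (LinearMap.range ((groupCohomology.functor k G 1).map φ).hom).map e1.toLinearMap
      = LinearMap.range Lc := by
    ext v
    constructor
    · rintro ⟨_, ⟨x, rfl⟩, rfl⟩
      obtain ⟨c, rfl⟩ := Dat.H1π_surjective ρ₀ x
      exact ⟨c, (hmap c).symm⟩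
    · rintro ⟨c, rfl⟩
      exact ⟨_, ⟨(H1π (Rep.of ρ₀)).hom c, rfl⟩, hmap c⟩
  let U := (Finset.range n).filter fun d : ℕ =>
    d + 1 < n ∧ ¬ (p : ℤ) ∣ ((0 : ℤ) + (d + 1 : ℕ)) ∧ ¬ (p : ℤ) ∣ ((0 : ℤ) - n + (d + 1 : ℕ))
  have hUS : ∀ d ∈ U, d ∈ D.S ((n : ℤ) + 1) := by
    intro d hd
    obtain ⟨hdn, h2, h3, -⟩ := Finset.mem_filter.mp hd
    refine Finset.mem_filter.mpr ⟨hdn, fun hj => h3 ?_⟩
    rw [D.jj_eq_top_iff] at hj
    push_cast
    rwa [show (n : ℤ) + 1 - n + d = 0 + (d + 1) by ring] at hj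
  have hL : ∀ (c : cocycles₁ (Rep.of ρ₀)) (d : ↥(D.S ((n : ℤ) + 1))),
      Lc c d = ((d : ℕ) + 1 : k) * PowerSeries.coeff ((d : ℕ) + 1) (c g) := by
    intro c d
    show (D.Φe ((n : ℤ) + 1)).symm (mc c g) (d : ℕ) = _
    rw [D.coord_low _ _ (Finset.mem_range.mp (Finset.mem_filter.mp d.2).1)]
    have hval : mc c g = φ.hom (c g) := by
      subst hmc
      exact congrFun (coe_mapCocycles₁ (A := Rep.of ρ₀) (B := Rep.of ρ₁) (MonoidHom.id G) φ c) g
    rw [hval]
    erw [hφ]
    rw [PowerSeries.coeff_derivative, mul_comm]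
  have htop : ∀ (c : cocycles₁ (Rep.of ρ₀)) (i : ℕ), D.jj 0 i = p - 1 →
      (D.Φe 0).symm (c g) i = 0 := by
    intro c i hi
    apply D.top_eq_zero 0 ?_ hi
    apply (D.Φ_bijective 0).1
    rw [← D.rho_sub_pow 0 g ρ₀ h0, map_zero, show D.Φ 0 ((D.Φe 0).symm (c g)) = c g from
      (D.Φe 0).apply_symm_apply (c g), ← Dat.geom_eq, LinearMap.sum_apply]
    exact Dat.cocycle_norm g hG hg ρ₀ c
  let ι : (↥U → k) →ₗ[k] (↥(D.S ((n : ℤ) + 1)) → k) :=
    { toFun := fun v d => if h : (d : ℕ) ∈ U then v ⟨d, h⟩ else 0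
      map_add' := fun v w => by funext d; simp only [Pi.add_apply]; split_ifs <;> simp
      map_smul' := fun r v => by funext d; simp only [Pi.smul_apply]; split_ifs <;> simp }
  have hι : Function.Injective ι := by
    intro v w h
    funext d
    have := congrFun h ⟨d.1, hUS d.1 d.2⟩
    simpa [ι, d.2] using this
  have hLr : LinearMap.range Lc = LinearMap.range ι := by
    apply le_antisymm
    · rintro _ ⟨c, rfl⟩
      refine ⟨fun d => Lc c ⟨d.1, hUS d.1 d.2⟩, funext fun d => ?_⟩
      show (if h : (d : ℕ) ∈ U then Lc c ⟨d, hUS d h⟩ else 0) = Lc c d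
      split_ifs with h
      · rfl
      · rw [hL]
        have hdn := Finset.mem_range.mp (Finset.mem_filter.mp d.2).1
        rw [eq_comm, mul_eq_zero]
        by_cases hp1 : (p : ℤ) ∣ ((0 : ℤ) + ((d : ℕ) + 1 : ℕ))
        · left
          have h9 : (((d : ℕ) + 1 : ℕ) : k) = 0 := by
            rw [CharP.cast_eq_zero_iff k p]
            rw [zero_add] at hp1
            exact_mod_cast hp1
          simpa using h9
        right
        by_cases hlast : (d : ℕ) + 1 < n
        · have h3 : (p : ℤ) ∣ ((0 : ℤ) - n + ((d : ℕ) + 1 : ℕ)) := by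
            by_contra h3
            exact h (Finset.mem_filter.mpr ⟨Finset.mem_range.mpr hdn, hlast, hp1, h3⟩)
          rw [← D.coord_low 0 _ hlast]
          exact htop c _ ((D.jj_eq_top_iff 0 _).mpr h3)
        · have hn1 : (d : ℕ) + 1 = n := by omega
          rw [hn1]
          have hjn : D.jj 0 n = p - 1 := (D.jj_eq_top_iff 0 n).mpr (by simp)
          conv_lhs => rw [← (D.Φe 0).apply_symm_apply (c g)]
          show PowerSeries.coeff n (D.Φ 0 _) = 0
          rw [D.coeff_Φ, htop c n hjn, add_zero]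
          refine Finset.sum_eq_zero fun i hi => ?_
          simp only [Finset.mem_range] at hi
          rcases Nat.eq_zero_or_pos i with rfl | hi0
          · have := D.jj_unique 0 (d := 0) (j := 0) (m := 0) (Fact.out : p.Prime).pos (by simp)
            rw [Dat.e, this.2, zpow_zero]
            simp [PowerSeries.coeff_one, hn.ne']
          · rw [Dat.e, PowerSeries.coeff_X_pow_mul', if_pos hi.le, D.coeff_W_zpow (by omega),
              if_neg (by omega), mul_zero]
    · rintro _ ⟨v, rfl⟩
      obtain ⟨c, hc⟩ := D.Ψ_surjective 0 g hG hg ρ₀ h0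
        (fun d => if h : ((d : ℕ) - 1) ∈ U then v ⟨_, h⟩ / ((d : ℕ) : k) else 0)
      refine ⟨c, funext fun d => ?_⟩
      rw [hL]
      show _ = if h : (d : ℕ) ∈ U then v ⟨d, h⟩ else 0
      split_ifs with h
      · obtain ⟨-, hlast, hp1, hp2⟩ := Finset.mem_filter.mp h
        have hS0 : (d : ℕ) + 1 ∈ D.S 0 := Finset.mem_filter.mpr ⟨Finset.mem_range.mpr hlast,
          fun hj => hp2 ((D.jj_eq_top_iff 0 _).mp hj)⟩
        have := congrFun hc ⟨(d : ℕ) + 1, hS0⟩
        simp only [Nat.add_sub_cancel] at this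
        rw [dif_pos h] at this
        change (D.Φe 0).symm (c g) ((d : ℕ) + 1) = _ at this
        rw [D.coord_low 0 _ hlast] at this
        rw [this]
        have hne : (((d : ℕ) + 1 : ℕ) : k) ≠ 0 := by
          rw [Ne, CharP.cast_eq_zero_iff k p]
          intro hd
          exact hp1 (by rw [zero_add]; exact_mod_cast hd)
        push_cast at hne ⊢
        field_simp
      · have hdn := Finset.mem_range.mp (Finset.mem_filter.mp d.2).1
        by_cases hp1 : (p : ℤ) ∣ ((0 : ℤ) + ((d : ℕ) + 1 : ℕ))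
        · have : ((d : ℕ) + 1 : k) = 0 := by
            have h9 : (((d : ℕ) + 1 : ℕ) : k) = 0 := by
              rw [CharP.cast_eq_zero_iff k p]
              rw [zero_add] at hp1
              exact_mod_cast hp1
            simpa using h9
          rw [this, zero_mul]
        by_cases hlast : (d : ℕ) + 1 < n
        · have h3 : (p : ℤ) ∣ ((0 : ℤ) - n + ((d : ℕ) + 1 : ℕ)) := by
            by_contra h3
            exact h (Finset.mem_filter.mpr ⟨Finset.mem_range.mpr hdn, hlast, hp1, h3⟩)
          rw [← D.coord_low 0 _ hlast, htop c _ ((D.jj_eq_top_iff 0 _).mpr h3), mul_zero]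
        · have hn1 : (d : ℕ) + 1 = n := by omega
          rw [hn1]
          have hjn : D.jj 0 n = p - 1 := (D.jj_eq_top_iff 0 n).mpr (by simp)
          refine mul_eq_zero_of_right _ ?_
          conv_lhs => rw [← (D.Φe 0).apply_symm_apply (c g)]
          show PowerSeries.coeff n (D.Φ 0 _) = 0
          rw [D.coeff_Φ, htop c n hjn, add_zero]
          refine Finset.sum_eq_zero fun i hi => ?_
          simp only [Finset.mem_range] at hi
          rcases Nat.eq_zero_or_pos i with rfl | hi0
          · have := D.jj_unique 0 (d := 0) (j := 0) (m := 0) (Fact.out : p.Prime).pos (by simp)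
            rw [Dat.e, this.2, zpow_zero]
            simp [PowerSeries.coeff_one, hn.ne']
          · rw [Dat.e, PowerSeries.coeff_X_pow_mul', if_pos hi.le, D.coeff_W_zpow (by omega),
              if_neg (by omega), mul_zero]
  let M := ((groupCohomology.functor k G 1).map φ).hom
  let R0 : Submodule k (H1 (Rep.of ρ₁)) := LinearMap.range M
  have hequiv : R0 ≃ₗ[k] (↥U → k) :=
    ((e1.submoduleMap R0).trans (LinearEquiv.ofEq _ _ (hrange.trans hLr))).trans
      (LinearEquiv.ofInjective ι hι).symm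
  show Module.Finite k R0 ∧ (Module.finrank k R0 : ℤ) = _
  refine ⟨Module.Finite.equiv hequiv.symm, ?_⟩
  rw [hequiv.finrank_eq, Module.finrank_fintype_fun_eq_card, Fintype.card_coe]
  let V := (Finset.range n).filter fun e : ℕ => ¬ (p : ℤ) ∣ (0 : ℤ) + e ∧ ¬ (p : ℤ) ∣ (0 : ℤ) - n + e
  have hUV : U.card = V.card := by
    refine Finset.card_bij (fun d _ => d + 1) ?_ (fun _ _ _ _ h => by omega) ?_
    · intro d hd
      obtain ⟨-, h2, h3, h4⟩ := Finset.mem_filter.mp hd
      exact Finset.mem_filter.mpr ⟨Finset.mem_range.mpr h2, h3, h4⟩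
    · intro e he
      obtain ⟨he1, h3, h4⟩ := Finset.mem_filter.mp he
      rw [Finset.mem_range] at he1
      have : e ≠ 0 := fun h => h3 (by simp [h])
      exact ⟨e - 1, Finset.mem_filter.mpr ⟨Finset.mem_range.mpr (by omega), by omega,
        by rwa [Nat.sub_add_cancel (by omega)], by rwa [Nat.sub_add_cancel (by omega)]⟩,
        by omega⟩
  let A := (Finset.range n).filter fun e : ℕ => (p : ℤ) ∣ (0 : ℤ) + e
  let B := (Finset.range n).filter fun e : ℕ => (p : ℤ) ∣ (0 : ℤ) - n + e
  have hdisj : Disjoint A B := Finset.disjoint_filter.mpr fun e _ ha hb => hpn (by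
    have := dvd_sub ha hb
    rw [show (0 : ℤ) + e - (0 - n + e) = n by ring] at this
    exact_mod_cast this)
  have hcard : (V.card : ℤ) = n - A.card - B.card := by
    have hVAB : V = (Finset.range n) \ (A ∪ B) := by
      ext e; simp [V, A, B]; tauto
    rw [hVAB, Finset.card_sdiff_of_subset (Finset.union_subset (Finset.filter_subset _ _)
      (Finset.filter_subset _ _)), Finset.card_union_of_disjoint hdisj, Finset.card_range]
    have : (A ∪ B).card ≤ n := by
      simpa using Finset.card_le_card (Finset.union_subset (Finset.filter_subset _ _)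
        (Finset.filter_subset _ _) : A ∪ B ⊆ Finset.range n)
    rw [Finset.card_union_of_disjoint hdisj] at this
    omega
  rw [hUV, hcard, Dat.count_dvd (p := p) 0 n, Dat.count_dvd (p := p) ((0 : ℤ) - n) n]
  have hp0 : (p : ℤ) ≠ 0 := by exact_mod_cast (Fact.out : p.Prime).ne_zero
  rw [show ((n : ℤ) + 1) * ((p : ℤ) - 1) = (-(n : ℤ) - 1) + p * (n + 1) by ring,
    Int.add_mul_ediv_left _ _ hp0, show (0 : ℤ) - 1 + n = n - 1 by ring,
    show (0 : ℤ) - n - 1 + n = 0 - 1 by ring, show (0 : ℤ) - n - 1 = -(n : ℤ) - 1 by ring]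
  ring

end Groth.Agent.S13862
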