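import Groth.Statements.S13864
import Mathlib
import Groth.Agent.ASH1.Low

set_option autoImplicit false
universe u
open ASCover

namespace Groth.Agent.S13864

/-- Let k be an algebraically closed field of characteristic p > 0, n ≥ 1 an integer prime to p, u ∈
k[[t]] the power series with constant term 1 and u^n · (1 + t^n) = 1 (so σ(t) = t·u is a
k-automorphism of k((t)) of order p), and a an integer; σ acts on I = t^a·k[[t]], and transported to
B = k[[t]] along h ↦ t^a·h the action is h ↦ u^a · h(t·u). For 1 ≤ m ≤ n let c_m ∈ B be determined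
by t^m · c_m = u^(a−m) − 1; this is the cocycle value σ(t^i) − t^i ∈ I of the element t^i, i = a −
m, divided by t^a. The published lemma says that the classes of the t^i with a − n ≤ i ≤ a − 1 and p
∤ i form a basis of H^1(⟨σ⟩, I); this row states their linear independence: if Σ λ_m c_m, summed
over 1 ≤ m ≤ n with p ∤ a − m, equals u^a · h(t·u) − h for some h ∈ B, then every such λ_m is 0.
(Together with the dimension of this H^1, namely n − ⌊(a−1)/p⌋ + ⌊(a−1−n)/p⌋, this gives the basis
statement.) -/
theorem result {k : Type u} [Field k] [IsAlgClosed k] (p : ℕ)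
    [Fact p.Prime] [CharP k p] (n : ℕ) (hn : 0 < n) (hpn : ¬ p ∣ n)
    (u : PowerSeries k) (hu1 : PowerSeries.constantCoeff u = 1)
    (hun : u ^ n * (1 + PowerSeries.X ^ n) = 1) (hu : IsUnit u) (a : ℤ)
    (c : ℕ → PowerSeries k)
    (hc : ∀ m : ℕ, 1 ≤ m → m ≤ n →
      PowerSeries.X ^ m * c m = ((hu.unit ^ (a - m) : (PowerSeries k)ˣ) : PowerSeries k) - 1)
    (coef : ℕ → k) (h : PowerSeries k)
    (hh : ((hu.unit ^ a : (PowerSeries k)ˣ) : PowerSeries k) * PowerSeries.subst (PowerSeries.X * u) h - h =
      ∑ m ∈ (Finset.Icc 1 n).filter (fun m : ℕ => ¬ (p : ℤ) ∣ a - (m : ℤ)), coef m • c m) :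
    ∀ m ∈ (Finset.Icc 1 n).filter (fun m : ℕ => ¬ (p : ℤ) ∣ a - (m : ℤ)), coef m = 0 := by
  let D : Groth.Agent.ASH1.Dat k p n := Groth.Agent.ASH1.Dat.ofSeries hn hpn u hu1 hun
  have hU : hu.unit = D.U := Units.ext rfl
  set T := (Finset.Icc 1 n).filter (fun m : ℕ => ¬ (p : ℤ) ∣ a - (m : ℤ)) with hT
  set b : ℤ := a - n
  let f : PowerSeries k := ∑ m ∈ T, coef m • PowerSeries.X ^ (n - m) - PowerSeries.X ^ n * h
  have hterm : ∀ m ∈ T, D.act b (PowerSeries.X ^ (n - m))
      = PowerSeries.X ^ (n - m) + PowerSeries.X ^ n * c m := by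
    intro m hm
    obtain ⟨h1, h2⟩ := Finset.mem_Icc.mp (Finset.mem_filter.mp hm).1
    have h3 : D.act b (PowerSeries.X ^ (n - m))
        = PowerSeries.X ^ (n - m) * ((hu.unit ^ (a - m) : (PowerSeries k)ˣ) : PowerSeries k) := by
      rw [D.act_apply, map_pow, D.τ_X, mul_pow, hU,
        show a - (m : ℤ) = b + ((n - m : ℕ) : ℤ) by push_cast [Nat.cast_sub h2]; simp [b],
        zpow_add, zpow_natCast, Units.val_mul, Units.val_pow_eq_pow_val]
      ring
    rw [h3]
    have h4 : PowerSeries.X ^ n * c m
        = PowerSeries.X ^ (n - m) * (PowerSeries.X ^ m * c m) := by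
      rw [← mul_assoc, ← pow_add, Nat.sub_add_cancel h2]
    rw [h4, hc m h1 h2]
    ring
  have hf : D.act b f = f := by
    simp only [f, map_sub, map_sum, map_smul]
    rw [D.act_X_pow_mul, show b + (n : ℤ) = a by simp [b], Finset.sum_congr rfl fun m hm => by
      rw [hterm m hm, smul_add]]
    rw [Finset.sum_add_distrib, D.act_apply, ← hU, D.τ_apply, show (D.U : PowerSeries k) = u from rfl]
    have h5 : ∑ m ∈ T, coef m • (PowerSeries.X ^ n * c m)
        = PowerSeries.X ^ n * ∑ m ∈ T, coef m • c m := by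
      rw [Finset.mul_sum]; exact Finset.sum_congr rfl fun m _ => (mul_smul_comm _ _ _).symm
    rw [h5, ← hh]
    ring
  have hcoef : ∀ d < n, PowerSeries.coeff d f = if n - d ∈ T then coef (n - d) else 0 := by
    intro d hd
    simp only [f, map_sub, map_sum, map_smul, PowerSeries.coeff_X_pow, smul_eq_mul, mul_ite,
      mul_one, mul_zero, PowerSeries.coeff_X_pow_mul', if_neg (show ¬ n ≤ d by omega), sub_zero]
    rw [← Finset.sum_ite_eq T (n - d) coef]
    refine Finset.sum_congr rfl fun m hm => ?_
    obtain ⟨h1, h2⟩ := Finset.mem_Icc.mp (Finset.mem_filter.mp hm).1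
    have hiff : d = n - m ↔ n - d = m := by omega
    simp only [hiff]
  set w := (D.Φe b).symm f
  have hΔ : D.Δ b w = 0 := by
    apply (D.Φ_bijective b).1
    rw [map_zero, ← D.act_sub]
    have : D.Φ b w = f := (D.Φe b).apply_symm_apply f
    rw [this, hf, sub_self]
  have hz : ∀ d, d < n → w d = 0 := by
    intro d
    induction d using Nat.strong_induction_on with
    | _ d ih =>
      intro hd
      by_cases hj : D.jj b d = 0
      · have hlow : w d = PowerSeries.coeff d f := D.coord_low b f hd
        rw [hlow, hcoef d hd, if_neg]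
        intro hmem
        apply (Finset.mem_filter.mp hmem).2
        have := (D.jj_eq_zero_iff b d).mp hj
        rwa [show a - ((n - d : ℕ) : ℤ) = b + d by push_cast [Nat.cast_sub hd.le]; simp [b]; ring]
      · have h6 := D.Δ_shift b (c := w) (d := d) (fun x hx => ih x hx (by omega)) (Nat.pos_of_ne_zero hj)
        rw [hΔ, Pi.zero_apply, eq_comm] at h6
        refine (mul_eq_zero.mp h6).resolve_right ?_
        rw [CharP.cast_eq_zero_iff k p]
        intro hdvd
        have := Nat.le_of_dvd (Nat.pos_of_ne_zero hj) hdvd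
        have := D.jj_lt b d
        omega
  intro m hm
  obtain ⟨h1, h2⟩ := Finset.mem_Icc.mp (Finset.mem_filter.mp hm).1
  have h7 := hz (n - m) (by omega)
  have hlow : w (n - m) = PowerSeries.coeff (n - m) f := D.coord_low b f (by omega)
  rw [hlow, hcoef (n - m) (by omega), show n - (n - m) = m by omega, if_pos hm] at h7
  exact h7

end Groth.Agent.S13864
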