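import Groth.Statements.S13877
import Mathlib

set_option autoImplicit false
universe u v
open Crimp

namespace Groth.Agent.S13877

open Matrix Module in
theorem main {k : Type u} [Field k]
    {St : Type v} [CommRing St] [Algebra (PowerSeries k) St] (d a b : ℕ)
    (bt : Module.Basis (Fin d) (PowerSeries k) St)
    (ha : Ideal.span {Algebra.discr (PowerSeries k) ⇑bt} = Ideal.span {(PowerSeries.X : PowerSeries k) ^ a})
    (S : Subalgebra (PowerSeries k) St) (bS : Module.Basis (Fin d) (PowerSeries k) S)
    (hb : Ideal.span {Algebra.discr (PowerSeries k) ⇑bS} = Ideal.span {(PowerSeries.X : PowerSeries k) ^ b}) :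
    (∀ q : St ⧸ Subalgebra.toSubmodule S, ((PowerSeries.X : PowerSeries k) ^ b) • q = 0) ∧
    2 * Module.length (PowerSeries k) (St ⧸ Subalgebra.toSubmodule S) + (a : ℕ∞) = (b : ℕ∞) := by
  classical
  set R := PowerSeries k with hR
  set N := Subalgebra.toSubmodule S with hN
  haveI : Module.Finite R St := Module.Finite.of_basis bt
  haveI : Module.Free R St := Module.Free.of_basis bt
  let bN₀ : Module.Basis (Fin d) R N := bS.map (Subalgebra.toSubmoduleEquiv S).symm
  have hrank : Module.finrank R N = Module.finrank R St := by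
    rw [Module.finrank_eq_card_basis bN₀, Module.finrank_eq_card_basis bt]
  obtain ⟨b', c, ab', hab⟩ := Submodule.exists_smith_normal_form_of_rank_eq bt hrank
  have hc0 : ∀ i, c i ≠ 0 := fun i hi => ab'.ne_zero i (Subtype.ext (by rw [hab, hi, zero_smul]; rfl))
  -- traces
  let b'' : Module.Basis (Fin d) R S := ab'.map (Subalgebra.toSubmoduleEquiv S)
  have hcoe : ∀ i, ((b'' i : S) : St) = c i • b' i := fun i => hab i
  have htr : ∀ x : S, Algebra.trace R S x = Algebra.trace R St (x : St) := by
    intro x
    rw [Algebra.trace_eq_matrix_trace b'', Algebra.trace_eq_matrix_trace b']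
    simp only [Matrix.trace, Matrix.diag_apply, Algebra.leftMulMatrix_eq_repr_mul]
    refine Finset.sum_congr rfl fun i _ => ?_
    have h1 : ((x * b'' i : S) : St) = ∑ j, (b''.repr (x * b'' i) j * c j) • b' j := by
      conv_lhs => rw [← b''.sum_repr (x * b'' i)]
      rw [AddSubmonoidClass.coe_finsetSum]
      refine Finset.sum_congr rfl fun j _ => ?_
      rw [Subalgebra.coe_smul, hcoe, smul_smul]
    have h2 : ((x * b'' i : S) : St) = c i • ((x : St) * b' i) := by
      rw [Subalgebra.coe_mul, hcoe, mul_smul_comm]
    have h3 := congrArg (fun z => b'.repr z i) (h1.symm.trans h2)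
    simp only [map_sum, map_smul, Module.Basis.repr_self, Finsupp.coe_finset_sum, Finset.sum_apply,
      Finsupp.smul_apply, Finsupp.single_apply, smul_eq_mul, mul_ite, mul_one, mul_zero,
      Finset.sum_ite_eq', Finset.mem_univ, if_true] at h3
    exact mul_right_cancel₀ (hc0 i) (h3.trans (mul_comm _ _))
  have hdisc : Algebra.discr R ⇑b'' = (∏ i, c i) ^ 2 * Algebra.discr R ⇑b' := by
    have e1 : Algebra.discr R ⇑b'' = Algebra.discr R (fun i => ((b'' i : S) : St)) := by
      rw [Algebra.discr_def, Algebra.discr_def]
      congr 1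
      ext i j
      simp only [Algebra.traceMatrix_apply, Algebra.traceForm_apply, htr, Subalgebra.coe_mul]
    have e2 : (fun i => ((b'' i : S) : St)) = (Matrix.diagonal c).map (algebraMap R St) *ᵥ ⇑b' := by
      funext i
      rw [Matrix.diagonal_map (map_zero _), Matrix.mulVec_diagonal, hcoe, Algebra.smul_def]
    rw [e1, e2, Algebra.discr_of_matrix_mulVec, Matrix.det_diagonal]
  have hchange : ∀ {A : Type v} [CommRing A] [Algebra R A] (p q : Module.Basis (Fin d) R A),
      Associated (Algebra.discr R ⇑p) (Algebra.discr R ⇑q) := by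
    intro A _ _ p q
    have hu : IsUnit (p.toMatrix ⇑q).det := IsUnit.of_mul_eq_one _ (by
      rw [← Matrix.det_mul, p.toMatrix_mul_toMatrix_flip q, Matrix.det_one])
    have h : Algebra.discr R ⇑q = (p.toMatrix ⇑q).det ^ 2 * Algebra.discr R ⇑p := by
      rw [← Algebra.discr_of_matrix_vecMul, p.toMatrix_map_vecMul ⇑q]
    rw [h]
    exact (associated_unit_mul_left _ _ (hu.pow 2)).symm
  have hX : Irreducible (PowerSeries.X : R) := PowerSeries.X_irreducible
  choose e u he using fun i => IsDiscreteValuationRing.eq_unit_mul_pow_irreducible (hc0 i) hX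
  have hassoc : Associated ((PowerSeries.X : R) ^ b) ((PowerSeries.X : R) ^ (2 * (∑ i, e i) + a)) := by
    have hp : Associated (∏ i, c i) ((PowerSeries.X : R) ^ ∑ i, e i) := by
      rw [← Finset.prod_pow_eq_pow_sum]
      exact Associated.prod _ _ _ fun i _ => by
        rw [he i]; exact associated_unit_mul_left _ _ (u i).isUnit
    have h1 : Associated (Algebra.discr R ⇑bS) ((∏ i, c i) ^ 2 * Algebra.discr R ⇑b') := by
      rw [← hdisc]; exact hchange bS b''
    have h2 : Associated (Algebra.discr R ⇑b') ((PowerSeries.X : R) ^ a) :=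
      (hchange b' bt).trans (Ideal.span_singleton_eq_span_singleton.1 ha)
    have h3 := (Ideal.span_singleton_eq_span_singleton.1 hb).symm.trans (h1.trans ((hp.pow_pow).mul_mul h2))
    rwa [← pow_mul, ← pow_add, mul_comm (∑ i, e i) 2] at h3
  have hab' : b = 2 * (∑ i, e i) + a := by
    have h1 := (pow_dvd_pow_iff hX.ne_zero hX.not_isUnit).1 hassoc.dvd
    have h2 := (pow_dvd_pow_iff hX.ne_zero hX.not_isUnit).1 hassoc.symm.dvd
    omega
  let eN : (St ⧸ N) ≃ₗ[R] ∀ i, R ⧸ Ideal.span ({c i} : Set R) :=
    (Submodule.Quotient.equiv N (Submodule.pi Set.univ fun i => (Ideal.span ({c i} : Set R) : Submodule R R))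
      b'.equivFun (by
        ext x
        simp only [Submodule.mem_map, Submodule.mem_pi, Set.mem_univ, true_implies]
        constructor
        · rintro ⟨y, hy, rfl⟩ i
          have hy' : y = ∑ j, (ab'.repr ⟨y, hy⟩ j * c j) • b' j := by
            conv_lhs => rw [show y = ((⟨y, hy⟩ : N) : St) from rfl, ← ab'.sum_repr ⟨y, hy⟩]
            rw [AddSubmonoidClass.coe_finsetSum]
            refine Finset.sum_congr rfl fun j _ => ?_
            rw [Submodule.coe_smul, hab, smul_smul]
          rw [Ideal.mem_span_singleton']
          show ∃ t, t * c i = b'.repr y i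
          rw [hy', map_sum]
          refine ⟨ab'.repr ⟨y, hy⟩ i, ?_⟩
          simp [Finsupp.single_apply]
        · intro hx
          choose t ht using fun i => Ideal.mem_span_singleton'.1 (hx i)
          refine ⟨∑ i, t i • (ab' i : St), N.sum_mem fun i _ => N.smul_mem _ (ab' i).2, ?_⟩
          funext i
          simp [hab, smul_smul, Module.Basis.equivFun_apply, Finsupp.single_apply, ht])).trans
      (Submodule.quotientPi _)
  have hlen : Module.length R (St ⧸ N) = ((∑ i, e i : ℕ) : ℕ∞) := by
    rw [eN.length_eq, Module.length_pi_of_fintype, Nat.cast_sum]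
    refine Finset.sum_congr rfl fun i _ => ?_
    have hi : Ideal.span ({c i} : Set R) = IsLocalRing.maximalIdeal R ^ e i := by
      rw [PowerSeries.maximalIdeal_eq_span_X, Ideal.span_singleton_pow, he i]
      exact Ideal.span_singleton_mul_left_unit (u i).isUnit _
    rw [hi]
    exact IsDiscreteValuationRing.length_quotient_pow_maximalIdeal R _
  refine ⟨fun q => ?_, ?_⟩
  · apply eN.injective
    rw [map_smul, map_zero]
    funext i
    obtain ⟨z, hz⟩ := Submodule.Quotient.mk_surjective _ (eN q i)
    rw [Pi.smul_apply, Pi.zero_apply]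
    rw [← hz, ← Submodule.Quotient.mk_smul, Submodule.Quotient.mk_eq_zero, smul_eq_mul]
    refine Ideal.mul_mem_right _ _ (Ideal.mem_span_singleton.2 ?_)
    rw [he i, Units.mul_left_dvd]
    exact pow_dvd_pow _ (by have := Finset.single_le_sum (fun j _ => Nat.zero_le (e j)) (Finset.mem_univ i); omega)
  · rw [hlen, hab']
    push_cast
    rfl


/-- Over R = k⟦t⟧ with k an algebraically closed field of characteristic zero, let S' be a commutative
R-algebra with an R-basis of size d whose discriminant generates the ideal (t ^ a) (a finite cover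
of the formal disk of degree d, unramified over the punctured disk, with branch divisor (t ^ a)),
and let S be an R-subalgebra of S' with an R-basis of size d whose discriminant generates (t ^ b) (a
crimp with branch divisor (t ^ b)). Then t ^ b annihilates S' / S and twice the R-length of S' / S
plus a equals b. (The published statement is for a family of such subalgebras over a k-scheme T and
also asserts T-flatness of the quotient; this row is its restriction to T a point.) -/
theorem result {k : Type u} [Field k] [IsAlgClosed k] [CharZero k]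
    {St : Type v} [CommRing St] [Algebra (PowerSeries k) St] (d a b : ℕ)
    (bt : Module.Basis (Fin d) (PowerSeries k) St)
    (ha : Ideal.span {Algebra.discr (PowerSeries k) ⇑bt} = Ideal.span {(PowerSeries.X : PowerSeries k) ^ a})
    (S : Subalgebra (PowerSeries k) St) (bS : Module.Basis (Fin d) (PowerSeries k) S)
    (hb : Ideal.span {Algebra.discr (PowerSeries k) ⇑bS} = Ideal.span {(PowerSeries.X : PowerSeries k) ^ b}) :
    (∀ q : St ⧸ Subalgebra.toSubmodule S, ((PowerSeries.X : PowerSeries k) ^ b) • q = 0) ∧
    2 * Module.length (PowerSeries k) (St ⧸ Subalgebra.toSubmodule S) + (a : ℕ∞) = (b : ℕ∞) := by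
  exact main d a b bt ha S bS hb

end Groth.Agent.S13877
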