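import Groth.Statements.S13878
import Groth.Agent.CrimpTri.Basic

set_option autoImplicit false
universe u
open Crimp

namespace Groth.Agent.S13878

/-- Over R = k⟦t⟧ with k an algebraically closed field of characteristic zero, let S' = R × R × R (the
unramified triple cover of the formal disk) and let S be an R-submodule of S' containing 1 such that
S' / S is isomorphic to R / (t ^ m) ⊕ R / (t ^ n) with m ≤ n. Then t ^ n S' is contained in S, and
there is f in S', not lying in R·1 + t S', such that S = R·1 + R·(t ^ m f) + t ^ n S'. -/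
theorem result {k : Type u} [Field k] [IsAlgClosed k] [CharZero k] (m n : ℕ) (hmn : m ≤ n)
    (S : Submodule (PowerSeries k) (Fin 3 → PowerSeries k))
    (h1 : (1 : (Fin 3 → PowerSeries k)) ∈ S)
    (e : ((Fin 3 → PowerSeries k) ⧸ S) ≃ₗ[PowerSeries k]
      ((PowerSeries k ⧸ Ideal.span {(PowerSeries.X : PowerSeries k) ^ m}) × (PowerSeries k ⧸ Ideal.span {(PowerSeries.X : PowerSeries k) ^ n}))) :
    Ideal.span {(PowerSeries.X : PowerSeries k) ^ n} • (⊤ : Submodule (PowerSeries k) (Fin 3 → PowerSeries k)) ≤ S ∧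
    ∃ f : (Fin 3 → PowerSeries k),
      f ∉ Submodule.span (PowerSeries k) {(1 : (Fin 3 → PowerSeries k))} ⊔ Ideal.span {(PowerSeries.X : PowerSeries k)} • (⊤ : Submodule (PowerSeries k) (Fin 3 → PowerSeries k)) ∧
      S = Submodule.span (PowerSeries k) {(1 : (Fin 3 → PowerSeries k)), ((PowerSeries.X : PowerSeries k) ^ m) • f} ⊔
        Ideal.span {(PowerSeries.X : PowerSeries k) ^ n} • (⊤ : Submodule (PowerSeries k) (Fin 3 → PowerSeries k)) := by
  open CrimpTri in
  classical
  set π : (Fin 3 → PowerSeries k) →ₗ[PowerSeries k] _ := e.toLinearMap.comp S.mkQ with hπ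
  have hker : ∀ z, z ∈ S ↔ π z = 0 := fun z => by simp [hπ, Submodule.Quotient.mk_eq_zero]
  have hsurj : Function.Surjective π := e.surjective.comp (Submodule.mkQ_surjective _)
  have hann : ∀ (x : PowerSeries k) (q : (PowerSeries k ⧸ Ideal.span {(PowerSeries.X : PowerSeries k) ^ m}) × (PowerSeries k ⧸ Ideal.span {(PowerSeries.X : PowerSeries k) ^ n})),
      (PowerSeries.X : PowerSeries k) ^ n ∣ x → x • q = 0 := by
    rintro x ⟨p, q⟩ hx
    obtain ⟨p, rfl⟩ := Submodule.Quotient.mk_surjective _ p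
    obtain ⟨q, rfl⟩ := Submodule.Quotient.mk_surjective _ q
    have hxm := (pow_dvd_pow (PowerSeries.X : PowerSeries k) hmn).trans hx
    apply Prod.ext
    · show x • Submodule.Quotient.mk p = 0
      rw [← Submodule.Quotient.mk_smul, Submodule.Quotient.mk_eq_zero, smul_eq_mul, Ideal.mem_span_singleton]
      exact hxm.mul_right _
    · show x • Submodule.Quotient.mk q = 0
      rw [← Submodule.Quotient.mk_smul, Submodule.Quotient.mk_eq_zero, smul_eq_mul, Ideal.mem_span_singleton]
      exact hx.mul_right _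
  have hle : Ideal.span {(PowerSeries.X : PowerSeries k) ^ n} • (⊤ : Submodule (PowerSeries k) (Fin 3 → PowerSeries k)) ≤ S := by
    rw [Submodule.ideal_span_singleton_smul]
    rintro _ ⟨w, -, rfl⟩
    rw [hker]
    exact (map_smul π _ _).trans (hann _ _ dvd_rfl)
  refine ⟨hle, ?_⟩
  suffices H : ∃ f, Good f ∧ (PowerSeries.X : PowerSeries k) ^ m • f ∈ S ∧
      ∀ s ∈ S, ∃ (a c : PowerSeries k) (w : Fin 3 → PowerSeries k),
        a • 1 + c • ((PowerSeries.X : PowerSeries k) ^ m • f) + (PowerSeries.X : PowerSeries k) ^ n • w = s by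
    obtain ⟨f, hg, hfS, hgen⟩ := H
    refine ⟨f, fun h => (mem_sup_X_iff f).1 h hg, le_antisymm (fun s hs => (mem_span_pair_sup_iff _ _ _).2 (hgen s hs)) (sup_le ?_ hle)⟩
    rw [Submodule.span_le]
    rintro _ (rfl | rfl)
    exacts [h1, hfS]
  have notgood : ∀ z, ¬ Good z → ∃ (r : PowerSeries k) (w : Fin 3 → PowerSeries k), z = r • 1 + (PowerSeries.X : PowerSeries k) • w := by
    intro z hz
    have := (mem_sup_X_iff z).2 hz
    rw [Submodule.mem_sup, Submodule.ideal_span_singleton_smul] at this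
    obtain ⟨_, hr, _, ⟨w, -, rfl⟩, rfl⟩ := this
    obtain ⟨r, rfl⟩ := Submodule.mem_span_singleton.1 hr
    exact ⟨r, w, rfl⟩
  rcases Nat.eq_zero_or_pos n with rfl | hn
  · obtain rfl : m = 0 := by omega
    refine ⟨Pi.single 0 1, ⟨0, 1, by simp⟩, ?_, fun s _ => ⟨0, 0, s, by simp⟩⟩
    rw [pow_zero, one_smul]
    exact hle (by rw [pow_zero, Ideal.span_singleton_one, Submodule.top_smul]; trivial)
  rcases Nat.eq_zero_or_pos m with rfl | hm
  · obtain ⟨g, hg⟩ := hsurj (0, Submodule.Quotient.mk 1)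
    have hgood : Good g := by
      by_contra hng
      obtain ⟨r, w, rfl⟩ := notgood g hng
      rw [map_add, map_smul, map_smul, (hker 1).1 h1, smul_zero, zero_add] at hg
      obtain ⟨q, hq⟩ := Submodule.Quotient.mk_surjective _ (π w).2
      have h2 := congrArg Prod.snd hg
      rw [Prod.smul_snd, ← hq, ← Submodule.Quotient.mk_smul, Submodule.Quotient.eq, Ideal.mem_span_singleton] at h2
      have := (dvd_pow_self (PowerSeries.X : PowerSeries k) hn.ne').trans h2
      simp [PowerSeries.X_dvd_iff] at this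
    obtain ⟨v, β, γ, h1c, hgc, hvc, hv, hd⟩ := exists_coords hgood
    obtain ⟨c, hc⟩ := Submodule.Quotient.mk_surjective _ (π v).2
    haveI : Subsingleton (PowerSeries k ⧸ Ideal.span {(PowerSeries.X : PowerSeries k) ^ 0}) :=
      Submodule.Quotient.subsingleton_iff.2 (by simp)
    refine ⟨v - c • g, ?_, ?_, ?_⟩
    · by_contra hng
      obtain ⟨r, w, hrw⟩ := notgood _ hng
      have hγ := congrArg γ hrw
      simp [h1c, hgc, hvc] at hγ
      have := congrArg PowerSeries.constantCoeff hγ
      simp at this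
    · rw [pow_zero, one_smul, hker]
      refine Prod.ext (Subsingleton.elim _ _) ?_
      rw [map_sub, map_smul, hg, Prod.snd_sub, Prod.smul_snd, ← hc, ← Submodule.Quotient.mk_smul, smul_eq_mul, mul_one, sub_self]
      rfl
    · intro s hs
      obtain ⟨a, ha⟩ := hd s
      have h0 : π s = 0 := (hker s).1 hs
      rw [ha, map_add, map_add, map_smul, map_smul, map_smul, (hker 1).1 h1, smul_zero, zero_add, hg] at h0
      have h0' := congrArg Prod.snd h0
      rw [Prod.snd_add, Prod.smul_snd, Prod.smul_snd, ← hc, ← Submodule.Quotient.mk_smul, ← Submodule.Quotient.mk_smul,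
        ← Submodule.Quotient.mk_add, Prod.snd_zero, Submodule.Quotient.mk_eq_zero, Ideal.mem_span_singleton] at h0'
      obtain ⟨t, ht⟩ := h0'
      refine ⟨a, γ s, t • g, ?_⟩
      conv_rhs => rw [ha]
      simp only [smul_eq_mul, mul_one] at ht
      funext j
      simp only [pow_zero, one_smul, Pi.add_apply, Pi.smul_apply, Pi.sub_apply, Pi.one_apply, smul_eq_mul]
      linear_combination -(g j) * ht
  obtain ⟨f, hf⟩ := hsurj (Submodule.Quotient.mk 1, 0)
  have hgood : Good f := by
    by_contra hng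
    obtain ⟨r, w, rfl⟩ := notgood f hng
    rw [map_add, map_smul, map_smul, (hker 1).1 h1, smul_zero, zero_add] at hf
    obtain ⟨q, hq⟩ := Submodule.Quotient.mk_surjective _ (π w).1
    have h2 := congrArg Prod.fst hf
    rw [Prod.smul_fst, ← hq, ← Submodule.Quotient.mk_smul, Submodule.Quotient.eq, Ideal.mem_span_singleton] at h2
    have := (dvd_pow_self (PowerSeries.X : PowerSeries k) hm.ne').trans h2
    simp [PowerSeries.X_dvd_iff] at this
  obtain ⟨v, β, γ, h1c, hfc, hvc, hv, hd⟩ := exists_coords hgood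
  obtain ⟨p, hp⟩ := Submodule.Quotient.mk_surjective _ (π v).1
  obtain ⟨q, hq⟩ := Submodule.Quotient.mk_surjective _ (π v).2
  have hv' : π v = (Submodule.Quotient.mk p, Submodule.Quotient.mk q) := Prod.ext hp.symm hq.symm
  have hπs : ∀ (b c : PowerSeries k) (a : PowerSeries k), π (a • 1 + b • f + c • v) =
      (Submodule.Quotient.mk (b + c * p), Submodule.Quotient.mk (c * q)) := fun b c a => by
    rw [map_add, map_add, map_smul, map_smul, map_smul, (hker 1).1 h1, smul_zero, zero_add, hf, hv']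
    rw [Prod.smul_mk, Prod.smul_mk, Prod.mk_add_mk, smul_zero, zero_add, ← Submodule.Quotient.mk_smul, ← Submodule.Quotient.mk_smul, ← Submodule.Quotient.mk_smul, ← Submodule.Quotient.mk_add, smul_eq_mul, smul_eq_mul, smul_eq_mul, mul_one]
  refine ⟨f, hgood, ?_, ?_⟩
  · rw [hker, map_smul, hf]
    refine Prod.ext ?_ (smul_zero _)
    show (PowerSeries.X : PowerSeries k) ^ m • Submodule.Quotient.mk (1 : PowerSeries k) = 0
    rw [← Submodule.Quotient.mk_smul, Submodule.Quotient.mk_eq_zero, smul_eq_mul, mul_one]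
    exact Ideal.mem_span_singleton_self _
  · intro s hs
    obtain ⟨a, ha⟩ := hd s
    obtain ⟨s', hs'⟩ := hsurj (0, Submodule.Quotient.mk 1)
    obtain ⟨a', ha'⟩ := hd s'
    rw [ha', hπs, Prod.ext_iff, Submodule.Quotient.eq, Ideal.mem_span_singleton] at hs'
    obtain ⟨t, ht⟩ := hs'.2
    have h0 : π s = 0 := (hker s).1 hs
    rw [ha, hπs, Prod.ext_iff] at h0
    simp only [Prod.fst_zero, Prod.snd_zero, Submodule.Quotient.mk_eq_zero, Ideal.mem_span_singleton] at h0
    obtain ⟨u, hu⟩ := h0.2
    have hc : (PowerSeries.X : PowerSeries k) ^ n ∣ γ s :=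
      ⟨γ s' * u - t * γ s, by linear_combination γ s' * hu - γ s * ht⟩
    have hb : (PowerSeries.X : PowerSeries k) ^ m ∣ β s := by
      have := dvd_sub h0.1 (((pow_dvd_pow _ hmn).trans hc).mul_right p)
      simpa using this
    obtain ⟨b, hb⟩ := hb
    obtain ⟨c, hc⟩ := hc
    refine ⟨a, b, c • v, ?_⟩
    conv_rhs => rw [ha, hb, hc]
    simp [smul_smul, mul_comm]

end Groth.Agent.S13878
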