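import Groth.Statements.S13879
import Mathlib

set_option autoImplicit false
universe u
open Crimp

namespace Groth.Agent.S13879

/-- Over R = k⟦t⟧ with k an algebraically closed field of characteristic zero, let S' = R × R × R and
let S be the R-submodule R·1 + R·(t ^ m f) + t ^ n S' of S' for some f in S' and natural numbers m,
n. Then S is closed under multiplication (equivalently, is an R-subalgebra of S') if and only if t ^
(2m) f ^ 2 lies in S. (The published statement has m ≤ n and S' / S isomorphic to R / (t ^ m) ⊕ R /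
(t ^ n), under which S has this shape; this row states the criterion for every submodule of this
shape.) -/
theorem result {k : Type u} [Field k] [IsAlgClosed k] [CharZero k] (m n : ℕ) (f : (Fin 3 → PowerSeries k))
    (S : Submodule (PowerSeries k) (Fin 3 → PowerSeries k))
    (hS : S = Submodule.span (PowerSeries k) {(1 : (Fin 3 → PowerSeries k)), ((PowerSeries.X : PowerSeries k) ^ m) • f} ⊔
        Ideal.span {(PowerSeries.X : PowerSeries k) ^ n} • (⊤ : Submodule (PowerSeries k) (Fin 3 → PowerSeries k))) :
    (∀ x ∈ S, ∀ y ∈ S, x * y ∈ S) ↔ ((PowerSeries.X : PowerSeries k) ^ (2 * m)) • (f * f) ∈ S := by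
  constructor
  · intro h
    have hg : ((PowerSeries.X : PowerSeries k) ^ m) • f ∈ S := by
      rw [hS]; exact Submodule.mem_sup_left (Submodule.subset_span (Or.inr rfl))
    have := h _ hg _ hg
    rwa [smul_mul_smul_comm, ← pow_add, ← two_mul] at this
  · intro hff x hx y hy
    set g := ((PowerSeries.X : PowerSeries k) ^ m) • f
    have mem : ∀ z, z ∈ S ↔ ∃ (a c : PowerSeries k) (w : Fin 3 → PowerSeries k),
        a • 1 + c • g + (PowerSeries.X : PowerSeries k) ^ n • w = z := fun z => by
      rw [hS, Submodule.mem_sup, Submodule.ideal_span_singleton_smul]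
      simp only [Submodule.mem_span_pair]
      constructor
      · rintro ⟨_, ⟨a, c, rfl⟩, _, ⟨w, -, rfl⟩, rfl⟩; exact ⟨a, c, w, rfl⟩
      · rintro ⟨a, c, w, rfl⟩; exact ⟨_, ⟨a, c, rfl⟩, _, ⟨w, trivial, rfl⟩, rfl⟩
    obtain ⟨a, c, w, rfl⟩ := (mem x).1 hx
    obtain ⟨a', c', w', rfl⟩ := (mem y).1 hy
    have hgg : g * g ∈ S := by
      rwa [smul_mul_smul_comm, ← pow_add, ← two_mul]
    obtain ⟨a'', c'', w'', hgg'⟩ := (mem _).1 hgg
    refine (mem _).2 ⟨a * a' + c * c' * a'', a * c' + c * a' + c * c' * c'',
      a • w' + a' • w + c • (g * w') + c' • (g * w) + (PowerSeries.X : PowerSeries k) ^ n • (w * w') + (c * c') • w'', ?_⟩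
    funext j
    have hj := congrFun hgg' j
    simp only [Pi.add_apply, Pi.smul_apply, Pi.mul_apply, Pi.one_apply, smul_eq_mul] at hj ⊢
    linear_combination (c * c') * hj

end Groth.Agent.S13879
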