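import Groth.Statements.S13880
import Groth.Agent.CrimpDbl.Basic

set_option autoImplicit false
universe u
open Crimp

namespace Groth.Agent.S13880

/-- Over R = k⟦t⟧ with k an algebraically closed field of characteristic zero, let S' = R × R, the
trivial double cover of the formal disk (branch divisor (t ^ 0)). An R-subalgebra S of S' admits an
R-basis of size 2 whose discriminant generates (t ^ b), that is, S is a crimp with branch divisor (t
^ b), if and only if b = 2n for some n and S = R·1 + t ^ n S'. So there is exactly one such crimp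
when b is even and none when b is odd; moreover the subalgebra R·1 + t ^ n S' is isomorphic as an
R-algebra to R[y] / (y ^ 2 - t ^ (2n)) (existence of an isomorphism; y ↦ (t ^ n, -t ^ n)). (The
published statement also gives the space of crimps its reduced one-point scheme structure; this row
classifies its k-points.) -/
theorem result {k : Type u} [Field k] [IsAlgClosed k] [CharZero k] (b : ℕ) (S : Subalgebra (PowerSeries k) (Fin 2 → PowerSeries k)) :
    ((∃ bS : Module.Basis (Fin 2) (PowerSeries k) S,
      Ideal.span {Algebra.discr (PowerSeries k) ⇑bS} = Ideal.span {(PowerSeries.X : PowerSeries k) ^ b}) ↔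
    ∃ n : ℕ, b = 2 * n ∧
      Subalgebra.toSubmodule S = Submodule.span (PowerSeries k) {(1 : (Fin 2 → PowerSeries k))} ⊔
        Ideal.span {(PowerSeries.X : PowerSeries k) ^ n} • (⊤ : Submodule (PowerSeries k) (Fin 2 → PowerSeries k))) ∧
    (∀ n : ℕ, Subalgebra.toSubmodule S = Submodule.span (PowerSeries k) {(1 : (Fin 2 → PowerSeries k))} ⊔
        Ideal.span {(PowerSeries.X : PowerSeries k) ^ n} • (⊤ : Submodule (PowerSeries k) (Fin 2 → PowerSeries k)) →
      Nonempty (S ≃ₐ[PowerSeries k] AdjoinRoot (Polynomial.X ^ 2 - Polynomial.C ((PowerSeries.X : PowerSeries k) ^ (2 * n))))) := by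
  have h2 : (2 : k) ≠ 0 := two_ne_zero
  obtain ⟨i2, hi2⟩ : ∃ i : PowerSeries k, 2 * i = 1 :=
    isUnit_iff_exists_inv.1 (PowerSeries.isUnit_iff_constantCoeff.2 (by rw [map_ofNat]; exact isUnit_iff_ne_zero.2 h2))
  let x : Fin 2 → PowerSeries k := ![1, -1]
  have li : LinearIndependent (PowerSeries k) ![(1 : Fin 2 → PowerSeries k), x] := by
    rw [LinearIndependent.pair_iff]
    intro r c h
    have e0 := congrFun h 0
    have e1 := congrFun h 1
    simp [x] at e0 e1
    constructor
    · linear_combination i2 * e0 + i2 * e1 - r * hi2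
    · linear_combination i2 * e0 - i2 * e1 - c * hi2
  have sp : ⊤ ≤ Submodule.span (PowerSeries k) (Set.range ![(1 : Fin 2 → PowerSeries k), x]) := by
    rintro s -
    have : s = (i2 * (s 0 + s 1)) • (1 : Fin 2 → PowerSeries k) + (i2 * (s 0 - s 1)) • x := by
      funext j
      fin_cases j
      · simp [x]; linear_combination -(s 0) * hi2
      · simp [x]; linear_combination -(s 1) * hi2
    rw [this]
    exact add_mem (Submodule.smul_mem _ _ (Submodule.subset_span ⟨0, rfl⟩))
      (Submodule.smul_mem _ _ (Submodule.subset_span ⟨1, rfl⟩))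
  simpa using CrimpDbl.classification (Module.Basis.mk li sp) x (by simp) (by simp) 0
    (by funext j; fin_cases j <;> simp [x]) h2 b S

end Groth.Agent.S13880
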