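import Groth.Statements.S13882
-- import your own Groth.Agent.* helpers here

set_option autoImplicit false
universe u
open FinCov

namespace Groth.Agent.S13882

/-- Over a field K of characteristic zero, the functor that sends a K-scheme S to the set of isomorphism
classes of pairs (A, τ) of an O_S-algebra A and an O_S-module isomorphism τ from A to the free
module of rank d, equivalently to the set of commutative unital algebra structures on the rank-d
free module with its standard basis, is represented by an affine K-scheme of finite type. Stated on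
affine K-schemes in one universe: there is a finitely generated commutative K-algebra B with
bijections between K-algebra maps B → A and based algebra structures of rank d over A, natural in
the commutative K-algebra A. -/
theorem result (K : Type u) [Field K] [CharZero K] (d : ℕ) :
    ∃ (B : Type u) (_ : CommRing B) (_ : Algebra K B) (_ : Algebra.FiniteType K B)
      (η : ∀ (A : Type u) [CommRing A] [Algebra K A], (B →ₐ[K] A) ≃ W4c1hurwitzcpt.BasedAlg d A),
      ∀ (A A' : Type u) [CommRing A] [Algebra K A] [CommRing A'] [Algebra K A']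
        (f : A →ₐ[K] A') (g : B →ₐ[K] A),
        η A' (f.comp g) = (η A g).map f.toRingHom := by
  classical
  let P := MvPolynomial ((Fin d × Fin d × Fin d) ⊕ Fin d) K
  let c : Fin d → Fin d → Fin d → P := fun i j k => MvPolynomial.X (Sum.inl (i, j, k))
  let u : Fin d → P := fun i => MvPolynomial.X (Sum.inr i)
  let I : Ideal P := Ideal.span
    (Set.range (fun x : Fin d × Fin d × Fin d => c x.1 x.2.1 x.2.2 - c x.2.1 x.1 x.2.2) ∪
     Set.range (fun x : Fin d × Fin d × Fin d × Fin d =>
        (∑ k, c x.1 x.2.1 k * c k x.2.2.1 x.2.2.2) - ∑ k, c x.2.1 x.2.2.1 k * c x.1 k x.2.2.2) ∪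
     Set.range (fun x : Fin d × Fin d => (∑ i, u i * c i x.1 x.2) - if x.1 = x.2 then 1 else 0))
  let B := P ⧸ I
  let π : P →ₐ[K] B := Ideal.Quotient.mkₐ K I
  have hI : ∀ z ∈ I, π z = 0 := fun z hz => Ideal.Quotient.eq_zero_iff_mem.mpr hz
  let s₀ : W4c1hurwitzcpt.BasedAlg d B :=
    { c := fun i j k => π (c i j k)
      u := fun i => π (u i)
      comm := fun i j k => by
        rw [← sub_eq_zero, ← map_sub]
        exact hI _ (Ideal.subset_span (Or.inl (Or.inl ⟨(i, j, k), rfl⟩)))
      assoc := fun i j l m => by
        simp only [← map_mul, ← map_sum]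
        rw [← sub_eq_zero, ← map_sub]
        exact hI _ (Ideal.subset_span (Or.inl (Or.inr ⟨(i, j, l, m), rfl⟩)))
      unit := fun j m => by
        simp only [← map_mul, ← map_sum]
        rw [← sub_eq_zero, show (if j = m then (1 : B) else 0) = π (if j = m then 1 else 0) by
          split <;> simp, ← map_sub]
        exact hI _ (Ideal.subset_span (Or.inr ⟨(j, m), rfl⟩)) }
  let ev : ∀ (A : Type u) [CommRing A] [Algebra K A] (s : W4c1hurwitzcpt.BasedAlg d A), P →ₐ[K] A :=
    fun A _ _ s => MvPolynomial.aeval (Sum.elim (fun x => s.c x.1 x.2.1 x.2.2) s.u)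
  have hc : ∀ (A : Type u) [CommRing A] [Algebra K A] (s : W4c1hurwitzcpt.BasedAlg d A) i j k,
      ev A s (c i j k) = s.c i j k := fun A _ _ s i j k => MvPolynomial.aeval_X _ _
  have hu : ∀ (A : Type u) [CommRing A] [Algebra K A] (s : W4c1hurwitzcpt.BasedAlg d A) i,
      ev A s (u i) = s.u i := fun A _ _ s i => MvPolynomial.aeval_X _ _
  have hev : ∀ (A : Type u) [CommRing A] [Algebra K A] (s : W4c1hurwitzcpt.BasedAlg d A),
      I ≤ RingHom.ker (ev A s) := by
    intro A _ _ s
    refine Ideal.span_le.mpr ?_
    rintro _ ((⟨⟨i, j, k⟩, rfl⟩ | ⟨⟨i, j, l, m⟩, rfl⟩) | ⟨⟨j, m⟩, rfl⟩)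
    · rw [SetLike.mem_coe, RingHom.mem_ker, map_sub, hc, hc, s.comm i j k, sub_self]
    · rw [SetLike.mem_coe, RingHom.mem_ker, map_sub, map_sum, map_sum, sub_eq_zero]
      simp only [map_mul, hc]
      exact s.assoc i j l m
    · rw [SetLike.mem_coe, RingHom.mem_ker, map_sub, map_sum, sub_eq_zero]
      simp only [map_mul, hc, hu, apply_ite (ev A s), map_one, map_zero]
      exact s.unit j m
  refine ⟨B, inferInstance, inferInstance, inferInstance,
    fun A _ _ =>
      { toFun := fun g => s₀.map g.toRingHom
        invFun := fun s => Ideal.Quotient.liftₐ I (ev A s) (fun z hz => hev A s hz)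
        left_inv := fun g => ?_
        right_inv := fun s => ?_ },
    fun A A' _ _ _ _ f g => rfl⟩
  · refine Ideal.Quotient.algHom_ext K (MvPolynomial.algHom_ext ?_)
    rintro (⟨i, j, k⟩ | i)
    · exact hc A (s₀.map g.toRingHom) i j k
    · exact hu A (s₀.map g.toRingHom) i
  · ext
    · exact hc A s _ _ _
    · exact hu A s _

end Groth.Agent.S13882
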