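import Groth.Statements.S13886
import Groth.Agent.CrimpTri.Basic

set_option autoImplicit false
universe u
open Crimp

namespace Groth.Agent.S13886

/-- Over R = k⟦t⟧ with k an algebraically closed field of characteristic zero, let S' = R × R × R be the
unramified triple cover of the formal disk and let m ≤ n ≤ 2m be natural numbers. For every f in S'
not lying in R·1 + t S', the R-submodule S = R·1 + R·(t ^ m f) + t ^ n S' is closed under
multiplication, hence an R-subalgebra (a crimp), and S' / S is isomorphic to R / (t ^ m) ⊕ R / (t ^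
n) (so the crimp has μ-invariant n - m and branch divisor (t ^ (2(m+n)))). Together with the
structure result for submodules with this quotient, this identifies the k-points of the space of
crimps of splitting type (m, n), 2m ≥ n, with the submodules of this shape. (The published statement
moreover asserts that this stratum is an irreducible variety of dimension n - m; that part is not
restated.) -/
theorem result {k : Type u} [Field k] [IsAlgClosed k] [CharZero k]
    (m n : ℕ) (hmn : m ≤ n) (hn : n ≤ 2 * m)
    (f : (Fin 3 → PowerSeries k)) (hf : f ∉ Submodule.span (PowerSeries k) {(1 : (Fin 3 → PowerSeries k))} ⊔ Ideal.span {(PowerSeries.X : PowerSeries k)} • (⊤ : Submodule (PowerSeries k) (Fin 3 → PowerSeries k)))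
    (S : Submodule (PowerSeries k) (Fin 3 → PowerSeries k))
    (hS : S = Submodule.span (PowerSeries k) {(1 : (Fin 3 → PowerSeries k)), ((PowerSeries.X : PowerSeries k) ^ m) • f} ⊔
        Ideal.span {(PowerSeries.X : PowerSeries k) ^ n} • (⊤ : Submodule (PowerSeries k) (Fin 3 → PowerSeries k))) :
    (∀ x ∈ S, ∀ y ∈ S, x * y ∈ S) ∧
    Nonempty (((Fin 3 → PowerSeries k) ⧸ S) ≃ₗ[PowerSeries k]
      ((PowerSeries k ⧸ Ideal.span {(PowerSeries.X : PowerSeries k) ^ m}) × (PowerSeries k ⧸ Ideal.span {(PowerSeries.X : PowerSeries k) ^ n}))) := by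
  obtain ⟨e, β, γ, h1, hfc, he, -, hd⟩ := CrimpTri.exists_coords (not_not.1 fun h => hf ((CrimpTri.mem_sup_X_iff f).2 h))
  have hS' : ∀ z, z ∈ S ↔ (PowerSeries.X : PowerSeries k) ^ m ∣ β z ∧ (PowerSeries.X : PowerSeries k) ^ n ∣ γ z := fun z => by
    rw [hS]; exact CrimpTri.mem_span_iff_coords h1 hfc hd hmn z
  constructor
  · intro x hx y hy
    rw [hS] at hx hy ⊢
    rw [CrimpTri.mem_span_pair_sup_iff] at hx hy ⊢
    obtain ⟨a, c, w, rfl⟩ := hx
    obtain ⟨a', c', w', rfl⟩ := hy
    obtain ⟨d, hd⟩ := Nat.exists_eq_add_of_le hn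
    refine ⟨a * a', a * c' + c * a', a • w' + a' • w + (c * PowerSeries.X ^ m) • (f * w') + (c' * PowerSeries.X ^ m) • (f * w) +
      (PowerSeries.X : PowerSeries k) ^ n • (w * w') + (c * c' * PowerSeries.X ^ d) • (f * f), ?_⟩
    funext j
    simp only [Pi.add_apply, Pi.smul_apply, Pi.mul_apply, Pi.one_apply, smul_eq_mul]
    have : (PowerSeries.X : PowerSeries k) ^ m * PowerSeries.X ^ m = PowerSeries.X ^ n * PowerSeries.X ^ d := by
      rw [← pow_add, ← pow_add]; congr 1; omega
    linear_combination -(c * c' * (f j * f j)) * this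
  · set I := Ideal.span {(PowerSeries.X : PowerSeries k) ^ m}
    set J := Ideal.span {(PowerSeries.X : PowerSeries k) ^ n}
    let Φ : (Fin 3 → PowerSeries k) →ₗ[PowerSeries k] (PowerSeries k ⧸ I) × (PowerSeries k ⧸ J) :=
      ((Submodule.mkQ I).comp β).prod ((Submodule.mkQ J).comp γ)
    have hker : LinearMap.ker Φ = S := by
      ext z
      rw [hS' z, LinearMap.mem_ker]
      simp [Φ, Prod.ext_iff, I, J, Ideal.mem_span_singleton, Ideal.Quotient.eq_zero_iff_mem]
    have hsurj : Function.Surjective Φ := by
      rintro ⟨p, q⟩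
      obtain ⟨p, rfl⟩ := Submodule.Quotient.mk_surjective _ p
      obtain ⟨q, rfl⟩ := Submodule.Quotient.mk_surjective _ q
      exact ⟨p • f + q • e, by simp [Φ, hfc, he]⟩
    exact ⟨(Submodule.quotEquivOfEq _ _ hker.symm).trans (Φ.quotKerEquivOfSurjective hsurj)⟩

end Groth.Agent.S13886
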