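import Groth.Statements.S13892
import Groth.Agent.DTenLib.EvalLeft

set_option autoImplicit false
universe u
open CategoryTheory CategoryTheory.Limits MonoidalCategory
attribute [local instance] HasDerivedCategory.standard
open DTen

namespace Groth.Agent.S13892

/-- For a commutative ring `A` (assuming the derived tensor product on `D(A)` with its triple version
exists, that its symmetry, unit and associativity maps are isomorphisms, and that every `- ⊗^L L`
has a right adjoint `RHom(L, -)`) and objects `K`, `L`, `M` of `D(A)` with `K` perfect, the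
canonical morphism `K ⊗^L RHom(M, L) ⟶ RHom(M, K ⊗^L L)` is an isomorphism. -/
theorem result (A : Type u) [CommRing A] [DTen.HasLTen A] [DTen.HasLTen₃ A]
    [DTen.IsSymMonoidal A] [DTen.HasRHom A] (K L M : Dual.D A)
    (hK : DRing.IsPerfect A K) :
    IsIso (DTen.evalTen K L M) := by
  obtain ⟨E, N, ⟨D⟩, ⟨e⟩⟩ := DTenLib.exists_dualizable hK
  haveI : IsIso (evalTen (DRing.toD E) L M) :=
    DTenLib.isIso_adjunct (DTenLib.isUniv_auxTen_left D (DTenLib.isUniv_ev M L))
  exact DTenLib.isIso_evalTen_of_iso_left e L M

end Groth.Agent.S13892
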