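import Groth.Statements.S13903
import Mathlib

set_option autoImplicit false
universe u
open EtAlg

namespace Groth.Agent.S13903

/-- Let K be a field and L a finite-dimensional reduced commutative K-algebra of dimension d all of
whose elements are separable over K, generated as a K-algebra by z and t. In any finite set of at
least d^(4d) elements of K there is an element c such that c • z + t generates L as a K-algebra.
(The published statement does not require separability; for K of characteristic p and L obtained by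
adjoining p-th roots of two independent indeterminates, L is a reduced finite K-algebra generated by
two elements with no single generator, so separability over K is assumed here, as the counting in
the published proof requires.) -/
theorem result (K L : Type u) [Field K] [CommRing L]
    [Algebra K L] [Module.Finite K L] [IsReduced L] [Algebra.IsSeparable K L] (z t : L)
    (hgen : Algebra.adjoin K ({z, t} : Set L) = ⊤) (S : Finset K)
    (hS : Module.finrank K L ^ (4 * Module.finrank K L) ≤ S.card) :
    ∃ c ∈ S, Algebra.adjoin K ({c • z + t} : Set L) = ⊤ := by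
  classical
  let Ω := AlgebraicClosure K
  haveI : Fintype (L →ₐ[K] Ω) := Fintype.ofFinite _
  set d := Module.finrank K L with hd
  have hN : Fintype.card (L →ₐ[K] Ω) = d := by
    refine le_antisymm ?_ ?_
    · have h := (linearIndependent_toLinearMap K L Ω).fintype_card_le_finrank
      rwa [Module.finrank_linearMap_self] at h
    · haveI : IsArtinianRing L := IsArtinianRing.of_finite K L
      haveI : Fintype (MaximalSpectrum L) := Fintype.ofFinite _
      haveI : ∀ p : MaximalSpectrum L, Algebra.IsSeparable K (L ⧸ p.asIdeal) := fun p =>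
        ⟨fun x => by
          obtain ⟨y, rfl⟩ := Ideal.Quotient.mk_surjective x
          exact (Algebra.IsSeparable.isSeparable K y).of_dvd (minpoly.dvd _ _ (by
            rw [show Ideal.Quotient.mk p.asIdeal y = Ideal.Quotient.mkₐ K p.asIdeal y from rfl,
              Polynomial.aeval_algHom_apply, minpoly.aeval, map_zero]))⟩
      let e : L ≃ₐ[K] (∀ p : MaximalSpectrum L, L ⧸ p.asIdeal) :=
        (IsArtinianRing.equivPi L).restrictScalars K
      letI : ∀ p : MaximalSpectrum L, Field (L ⧸ p.asIdeal) := fun p => Ideal.Quotient.field _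
      let Φ : (Σ p : MaximalSpectrum L, ((L ⧸ p.asIdeal) →ₐ[K] Ω)) → (L →ₐ[K] Ω) :=
        fun s => s.2.comp (Ideal.Quotient.mkₐ K s.1.asIdeal)
      have hΦ : Function.Injective Φ := by
        rintro ⟨p, σ⟩ ⟨q, τ⟩ h
        have hk : ∀ (p : MaximalSpectrum L) (σ : (L ⧸ p.asIdeal) →ₐ[K] Ω),
            RingHom.ker (Φ ⟨p, σ⟩) = p.asIdeal := fun p σ => by
          ext x
          rw [RingHom.mem_ker, ← Ideal.Quotient.eq_zero_iff_mem]
          exact map_eq_zero_iff σ σ.toRingHom.injective
        obtain rfl : p = q := MaximalSpectrum.ext ((hk p σ).symm.trans ((by rw [h]) : _ = _) |>.trans (hk q τ))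
        obtain rfl : σ = τ := AlgHom.ext fun x => by
          obtain ⟨y, rfl⟩ := Ideal.Quotient.mk_surjective x
          exact AlgHom.congr_fun h y
        rfl
      refine le_trans (le_of_eq ?_) (Fintype.card_le_of_injective Φ hΦ)
      rw [Fintype.card_sigma, hd, e.toLinearEquiv.finrank_eq, Module.finrank_pi_fintype]
      exact Finset.sum_congr rfl fun p _ => (AlgHom.card K (L ⧸ p.asIdeal) Ω).symm
  have hgen' : ∀ σ τ : L →ₐ[K] Ω, σ z = τ z → σ t = τ t → σ = τ := fun σ τ h1 h2 =>
    AlgHom.ext_of_adjoin_eq_top hgen (by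
      intro x hx
      rcases hx with rfl | hx
      · exact h1
      · rw [Set.mem_singleton_iff.1 hx]; exact h2)
  let bad : Finset K := S.filter fun c => ∃ σ τ : L →ₐ[K] Ω, σ ≠ τ ∧ σ (c • z + t) = τ (c • z + t)
  have hbad : bad.card ≤ ((Finset.univ : Finset ((L →ₐ[K] Ω) × (L →ₐ[K] Ω))).filter fun s => s.1 ≠ s.2).card := by
    have hex : ∀ c : bad, ∃ s : (L →ₐ[K] Ω) × (L →ₐ[K] Ω), s.1 ≠ s.2 ∧ s.1 (c.1 • z + t) = s.2 (c.1 • z + t) := by
      rintro ⟨c, hc⟩
      obtain ⟨σ, τ, h⟩ := (Finset.mem_filter.1 hc).2
      exact ⟨(σ, τ), h⟩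
    choose g hg1 hg2 using hex
    refine Finset.card_le_card_of_injective (f := fun c : bad => (⟨g c, Finset.mem_filter.2 ⟨Finset.mem_univ _, hg1 c⟩⟩ : ((Finset.univ : Finset ((L →ₐ[K] Ω) × (L →ₐ[K] Ω))).filter fun s => s.1 ≠ s.2 : Finset _))) ?_
    intro c c' hcc
    have hgg : g c = g c' := congr_arg Subtype.val hcc
    apply Subtype.ext
    by_contra hne
    have h1 := hg2 c
    have h2 := hg2 c'
    rw [← hgg] at h2
    simp only [map_add, map_smul, Algebra.smul_def, map_mul, AlgHom.commutes] at h1 h2
    have hz : (g c).1 z = (g c).2 z := by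
      have h3 : (algebraMap K Ω c.1 - algebraMap K Ω c'.1) * ((g c).1 z - (g c).2 z) = 0 := by
        linear_combination h1 - h2
      rcases mul_eq_zero.1 h3 with h | h
      · exact absurd ((algebraMap K Ω).injective (sub_eq_zero.1 h)) hne
      · exact sub_eq_zero.1 h
    refine hg1 c (hgen' _ _ hz ?_)
    rw [hz] at h1
    exact add_left_cancel h1
  have hlt : bad.card < S.card := by
    refine hbad.trans_lt (lt_of_lt_of_le ?_ hS)
    rcases Nat.eq_zero_or_pos d with h0 | hpos
    · rw [Finset.card_eq_zero.2 (Finset.filter_eq_empty_iff.2 fun s _ => ?_)]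
      · rw [h0]; simp
      · exact absurd (Fintype.card_pos_iff.2 ⟨s.1⟩) (by omega)
    · haveI : Nonempty (L →ₐ[K] Ω) := Fintype.card_pos_iff.1 (by omega)
      obtain ⟨σ⟩ := ‹Nonempty (L →ₐ[K] Ω)›
      refine lt_of_lt_of_le (Finset.card_lt_card (Finset.filter_ssubset.2 ⟨(σ, σ), Finset.mem_univ _, by simp⟩)) ?_
      rw [Finset.card_univ, Fintype.card_prod, hN, ← pow_two]
      exact Nat.pow_le_pow_right hpos (by omega)
  obtain ⟨c, hcS, hc⟩ := Finset.exists_mem_notMem_of_card_lt_card hlt
  refine ⟨c, hcS, ?_⟩
  have hsep : ∀ σ τ : L →ₐ[K] Ω, σ (c • z + t) = τ (c • z + t) → σ = τ := fun σ τ h => by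
    by_contra hne
    exact hc (Finset.mem_filter.2 ⟨hcS, σ, τ, hne, h⟩)
  set M := Algebra.adjoin K ({c • z + t} : Set L) with hM
  have hinj : Function.Injective fun σ : L →ₐ[K] Ω => σ.comp M.val := fun σ τ h =>
    hsep σ τ (AlgHom.congr_fun h ⟨_, Algebra.subset_adjoin rfl⟩)
  have hle : d ≤ Module.finrank K M := by
    have h := ((linearIndependent_toLinearMap K M Ω).comp _ hinj).fintype_card_le_finrank
    rwa [Module.finrank_linearMap_self, hN] at h
  exact Algebra.toSubmodule_eq_top.1 (Submodule.eq_top_of_finrank_eq (le_antisymm (Submodule.finrank_le _) hle))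

end Groth.Agent.S13903
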