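import Groth.Statements.S13904
import Groth.Agent.DimTheory.Algebra
-- import your own Groth.Agent.* helpers here

set_option autoImplicit false
universe u
open CAlg

namespace Groth.Agent.S13904

/-- Let k be a field, A a commutative k-algebra and φ : k[x_1, …, x_r] → A a finite k-algebra map such
that A/p has Krull dimension r for every minimal prime p of A (an equidimensional affine scheme of
dimension r, finite over affine r-space). Then for every minimal prime p of A and every prime q of
k[x_1, …, x_r] there is a prime P ⊇ p of A with φ⁻¹(P) = q: the finite map restricted to each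
irreducible component of Spec A is surjective onto affine r-space. (The published statement is over
an algebraically closed field with φ a Noether normalisation; this row allows any field and any
finite k-algebra map φ.) -/
theorem result (k : Type u) [Field k] (r : ℕ)
    (A : Type u) [CommRing A] [Algebra k A] (φ : MvPolynomial (Fin r) k →ₐ[k] A)
    (hφ : φ.toRingHom.Finite)
    (hdim : ∀ p ∈ minimalPrimes A, ringKrullDim (A ⧸ p) = r)
    (p : Ideal A) (hp : p ∈ minimalPrimes A)
    (q : Ideal (MvPolynomial (Fin r) k)) [q.IsPrime] :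
    ∃ P : Ideal A, P.IsPrime ∧ p ≤ P ∧ P.comap φ.toRingHom = q := by
  haveI : p.IsPrime := Ideal.minimalPrimes_isPrime hp
  let P := MvPolynomial (Fin r) k
  let ψ : P →+* A ⧸ p := (Ideal.Quotient.mk p).comp φ.toRingHom
  letI : Algebra P (A ⧸ p) := ψ.toAlgebra
  have hfin : ψ.Finite := (RingHom.Finite.of_surjective _ Ideal.Quotient.mk_surjective).comp hφ
  haveI : Module.Finite P (A ⧸ p) := hfin
  haveI : Algebra.IsIntegral P (A ⧸ p) := Algebra.IsIntegral.of_finite _ _
  have hinj : Function.Injective (algebraMap P (A ⧸ p)) := by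
    rw [RingHom.injective_iff_ker_eq_bot]
    by_contra hne
    obtain ⟨g, hg, hg0⟩ := Submodule.exists_mem_ne_zero_of_ne_bot hne
    let K := RingHom.ker (algebraMap P (A ⧸ p))
    haveI : K.IsPrime := RingHom.ker_isPrime _
    let η : P ⧸ K →+* A ⧸ p := RingHom.kerLift _
    letI : Algebra (P ⧸ K) (A ⧸ p) := η.toAlgebra
    haveI : IsScalarTower P (P ⧸ K) (A ⧸ p) := IsScalarTower.of_algebraMap_eq (R := P) (S := P ⧸ K) (A := A ⧸ p) fun _ => rfl
    haveI : Algebra.IsIntegral (P ⧸ K) (A ⧸ p) := Algebra.IsIntegral.tower_top P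
    haveI : FaithfulSMul (P ⧸ K) (A ⧸ p) :=
      (faithfulSMul_iff_algebraMap_injective _ _).2 (RingHom.kerLift_injective _)
    have h1 : ringKrullDim (A ⧸ p) = ringKrullDim (P ⧸ K) :=
      Groth.Agent.DimTheory.ringKrullDim_eq_of_integral _ _
    have hle : Ideal.span {g} ≤ K := (Ideal.span_singleton_le_iff_mem _).2 hg
    have h0 : ringKrullDim (P ⧸ K) ≤ ringKrullDim (P ⧸ Ideal.span {g}) :=
      ringKrullDim_le_of_surjective (Ideal.Quotient.factor hle) (Ideal.Quotient.factor_surjective hle)
    have h2 := (add_le_add h0 le_rfl).trans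
      (ringKrullDim_quotient_succ_le_of_nonZeroDivisor (mem_nonZeroDivisors_of_ne_zero hg0))
    rw [← h1, hdim p hp, Groth.Agent.DimTheory.ringKrullDim_mvPolynomial_fin] at h2
    have h3 : ((r + 1 : ℕ) : WithBot ℕ∞) ≤ (r : ℕ) := by exact_mod_cast h2
    norm_cast at h3
    omega
  obtain ⟨Q, -, hQ, hQq⟩ := Ideal.exists_ideal_over_prime_of_isIntegral q (⊥ : Ideal (A ⧸ p))
    (by rw [← RingHom.ker_eq_comap_bot, (RingHom.injective_iff_ker_eq_bot _).1 hinj]; exact bot_le)
  haveI := hQ
  refine ⟨Q.comap (Ideal.Quotient.mk p), inferInstance, fun x hx => ?_, ?_⟩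
  · rw [Ideal.mem_comap, Ideal.Quotient.eq_zero_iff_mem.2 hx]; exact Q.zero_mem
  · rw [Ideal.comap_comap]; exact hQq

end Groth.Agent.S13904
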