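-- statement ProjGeom.GrothFrozen.S13905 (Groth/Statements/S13905.lean; the theorem ProjGeom.w4c1etcurveeff3b_inGeneralPosition_insert_of_forall_inf_not_le);
import Groth.Statements.S13905
import Mathlib

set_option autoImplicit false
universe u
open ProjGeom

namespace Groth.Agent.S13905

open W4c1etcurveeff3b in
/-- Hyperplanes of projective n-space in general position, in linear-algebra form (V of dimension n + 1
over a field k, hyperplanes as n-dimensional subspaces, points as nonzero vectors): if S is a finite
set of hyperplanes in general position with at least n members and H is a hyperplane containing none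
of the lines cut out by n members of S, then S with H added is again in general position. (The
published statement is for hyperplanes of P^n_k and closed points; a closed point lying on n + 1
members is automatically one of the rational points cut out by n of them, so the condition on
nonzero vectors of V is the same condition.) -/
theorem result (k V : Type u) [Field k]
    [AddCommGroup V] [Module k V] [DecidableEq (Submodule k V)] (n : ℕ) (S : Finset (Submodule k V))
    (hS : InGeneralPosition k V n S) (hn : n ≤ S.card) (H : Submodule k V)
    (hH : Module.finrank k H = n)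
    (havoid : ∀ T ⊆ S, T.card = n → ¬ (T.inf id ≤ H)) :
    InGeneralPosition k V n (insert H S) := by
  classical
  obtain ⟨hV, hdim, hT, hv⟩ := hS
  haveI : FiniteDimensional k V := Module.finite_of_finrank_pos (by omega)
  have hb : ∀ T ⊆ insert H S, ∀ v : V, v ≠ 0 → (∀ G ∈ T, v ∈ G) → T.card ≤ n := fun T hTs v hv0 hvT => by
    by_contra hlt
    by_cases hHT : H ∈ T
    · have hsub : T.erase H ⊆ S := fun G hG => by
        have := hTs (Finset.mem_of_mem_erase hG)
        exact (Finset.mem_insert.1 this).resolve_left (Finset.ne_of_mem_erase hG)
      obtain ⟨U, hU, hUc⟩ := Finset.exists_subset_card_eq (show n ≤ (T.erase H).card by rw [Finset.card_erase_of_mem hHT]; omega)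
      have h1 : Module.finrank k ↥(U.inf id) = 1 := by rw [hT U (hU.trans hsub) hUc.le, hUc]; omega
      have hvU : v ∈ U.inf id := by
        rw [Submodule.mem_finsetInf]; exact fun G hG => hvT G (Finset.mem_of_mem_erase (hU hG))
      have h2 : (k ∙ v) = U.inf id := Submodule.eq_of_le_of_finrank_le (by rwa [Submodule.span_singleton_le_iff_mem])
        (by rw [h1, finrank_span_singleton hv0])
      refine havoid U (hU.trans hsub) hUc ?_
      rw [← h2, Submodule.span_singleton_le_iff_mem]
      exact hvT H hHT
    · have := hv v hv0 T (fun G hG => (Finset.mem_insert.1 (hTs hG)).resolve_left fun e => hHT (e ▸ hG)) hvT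
      omega
  refine ⟨hV, fun G hG => (Finset.mem_insert.1 hG).elim (fun e => e ▸ hH) (hdim G), fun T hTs hTc => ?_, fun v hv0 T hTs hvT => hb T hTs v hv0 hvT⟩
  by_cases hHT : H ∈ T
  · have hsub : T.erase H ⊆ S := fun G hG =>
      (Finset.mem_insert.1 (hTs (Finset.mem_of_mem_erase hG))).resolve_left (Finset.ne_of_mem_erase hG)
    have hc : (T.erase H).card + 1 = T.card := Finset.card_erase_add_one hHT
    obtain ⟨U, hU1, hU2, hUc⟩ := Finset.exists_subsuperset_card_eq hsub (show (T.erase H).card ≤ n by omega) hn
    have hnle : ¬ (T.erase H).inf id ≤ H := fun h => havoid U hU2 hUc ((Finset.inf_mono hU1).trans h)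
    have hins : T.inf id = H ⊓ (T.erase H).inf id := by
      conv_lhs => rw [← Finset.insert_erase hHT]
      rw [Finset.inf_insert]; rfl
    have hsup : Module.finrank k ↥(H ⊔ (T.erase H).inf id) = n + 1 := by
      have h1 : Module.finrank k H < Module.finrank k ↥(H ⊔ (T.erase H).inf id) :=
        Submodule.finrank_lt_finrank_of_lt ((le_sup_left : H ≤ H ⊔ (T.erase H).inf id).lt_of_ne (fun e => hnle (le_of_le_of_eq (le_sup_right : (T.erase H).inf id ≤ H ⊔ (T.erase H).inf id) e.symm)))
      have := Submodule.finrank_le (H ⊔ (T.erase H).inf id)
      omega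
    have := Submodule.finrank_sup_add_finrank_inf_eq H ((T.erase H).inf id)
    rw [hins]
    have := hT _ hsub (by omega)
    omega
  · exact hT T (fun G hG => (Finset.mem_insert.1 (hTs hG)).resolve_left fun e => hHT (e ▸ hG)) hTc

end Groth.Agent.S13905
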