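import Groth.Statements.S13906
import Groth.Agent.GrpSch.ProjShear
-- import your own Groth.Agent.* helpers here

set_option autoImplicit false
universe u
open P1Fin

namespace Groth.Agent.S13906Aux

open AlgebraicGeometry CategoryTheory CategoryTheory.Limits MvPolynomial

theorem irreducible_p1 (K : Type u) [Field K] :
    IrreducibleSpace (CohB1.ProjSpaceOver 1 (Spec (CommRingCat.of K))) := by
  obtain ⟨m, hm, hm'⟩ := ProjBC.exists_iso 1 K
  have hI : IsIntegral (Proj (CohB1.polyGrading 1 K)) :=
    (EGA2G.proj_isIntegral_iff _ fun f _ h => h.eq_zero).2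
      ⟨⟨X 0, HomogeneousIdeal.mem_irrelevant_of_mem _ one_pos (isHomogeneous_X K 0), X_ne_zero 0⟩,
        fun f _ g _ h => mul_eq_zero.1 h⟩
  haveI := hm
  haveI : IsIntegral (CohB1.ProjSpace 1 K) := hI
  haveI : IrreducibleSpace (CohB1.ProjSpace 1 K) := inferInstance
  exact (Scheme.homeoOfIso (asIso m)).irreducibleSpace_iff.1 inferInstance

theorem fibre_preconnected (S : Scheme.{u}) (s : S) :
    _root_.IsPreconnected ((CohB1.ProjSpaceOver.toBase 1 S).base ⁻¹' {s}) := by
  let f := CohB1.ProjSpaceOver.toBase 1 S
  let y := S.fromSpecResidueField s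
  have h : IsPullback (f.fiberι s) (f.fiberToSpecResidueField s) f y := IsPullback.of_hasPullback _ _
  have h0 : IsPullback (pullback.fst (CohB1.ProjSpace.toSpec 1 (ULift.{u} ℤ)) (specULiftZIsTerminal.from S)) f
      (CohB1.ProjSpace.toSpec 1 (ULift.{u} ℤ)) (specULiftZIsTerminal.from S) := IsPullback.of_hasPullback _ _
  have h2 := h.paste_horiz h0
  rw [show y ≫ specULiftZIsTerminal.from S = specULiftZIsTerminal.from _ from specULiftZIsTerminal.hom_ext _ _] at h2
  haveI := irreducible_p1 (S.residueField s)
  haveI : PreconnectedSpace ↥(pullback (CohB1.ProjSpace.toSpec 1 (ULift.{u} ℤ))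
      (specULiftZIsTerminal.from (Spec (CommRingCat.of (S.residueField s))))) :=
    inferInstanceAs (PreconnectedSpace ↥(CohB1.ProjSpaceOver 1 (Spec (CommRingCat.of (S.residueField s)))))
  haveI : PreconnectedSpace (f.fiber s) :=
    (Scheme.homeoOfIso ((IsPullback.of_hasPullback (CohB1.ProjSpace.toSpec 1 (ULift.{u} ℤ))
      (specULiftZIsTerminal.from (Spec (CommRingCat.of (S.residueField s))))).isoIsPullback _ _ h2)).surjective.denseRange.preconnectedSpace
        (Scheme.homeoOfIso _).continuous
  rw [← Scheme.Hom.range_fiberι]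
  exact isPreconnected_range (f.fiberι s).continuous

end Groth.Agent.S13906Aux

namespace Groth.Agent.S13906

open AlgebraicGeometry CategoryTheory in
/-- Let S be a scheme and g : X → P^1_S a finite, flat, locally finitely presented morphism. An open and
closed subset W of X that contains every point of X lying over the zero section of P^1_S → S is all
of X. (In the published corollary W is the locus over which a given equivariant etale morphism T → X
of constant rank is a torsor under a finite group, an open and closed subset of X; that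
open-and-closed locus is taken as the hypothesis here, and the conclusion W = X is the corollary's
content.) -/
theorem result (S X : Scheme.{u})
    (g : X ⟶ CohB1.ProjSpaceOver 1 S) [IsFinite g] [Flat g] [LocallyOfFinitePresentation g]
    (W : Set X) (hW : IsClopen W)
    (h0 : ∀ x : X, g x ∈ Set.range (P1.sect S 0) → x ∈ W) : W = Set.univ := by
  by_contra hne
  obtain ⟨x, hx⟩ := (Set.ne_univ_iff_exists_notMem W).1 hne
  have hC : IsClopen (g '' Wᶜ) :=
    ⟨g.isClosedMap _ hW.compl.1, g.isOpenMap _ hW.compl.2⟩
  let s := CohB1.ProjSpaceOver.toBase 1 S (g x)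
  have hsec : CohB1.ProjSpaceOver.toBase 1 S (P1.sect S 0 s) = s := by
    rw [← Scheme.Hom.comp_apply, show CategoryTheory.CategoryStruct.comp (P1.sect S 0) (CohB1.ProjSpaceOver.toBase 1 S) = CategoryTheory.CategoryStruct.id S from
      CategoryTheory.Limits.pullback.lift_snd _ _ _]
    rfl
  have hsub := (S13906Aux.fibre_preconnected S s).subset_isClopen hC ⟨g x, rfl, x, hx, rfl⟩
  obtain ⟨x', hx', he⟩ := hsub (show P1.sect S 0 s ∈ _ from hsec)
  exact hx' (h0 x' (he ▸ ⟨s, rfl⟩))

end Groth.Agent.S13906
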