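import Groth.Statements.S13913
import Mathlib.RingTheory.MvPolynomial.EulerIdentity
-- import your own Groth.Agent.* helpers here

set_option autoImplicit false
universe u
open PlaneCubic

namespace Groth.Agent.S13913

/-- Over an algebraically closed field of characteristic zero, for linearly independent linear forms z₁,
z₂ and quadratic forms q₁, q₂ in three variables and a nonzero common zero p of z₁ and z₂, the point
p is a singular point of the plane cubic z₁q₂ − z₂q₁ = 0 (all three partial derivatives vanish at p)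
if and only if q₁ and q₂ both vanish at p. -/
theorem result (k : Type u) [Field k] [IsAlgClosed k] [CharZero k]
    (z₁ z₂ q₁ q₂ : MvPolynomial (Fin 3) k) (hz₁ : z₁.IsHomogeneous 1) (hz₂ : z₂.IsHomogeneous 1)
    (hq₁ : q₁.IsHomogeneous 2) (hq₂ : q₂.IsHomogeneous 2) (hind : LinearIndependent k ![z₁, z₂])
    (p : Fin 3 → k) (hp : p ≠ 0) (hp₁ : MvPolynomial.eval p z₁ = 0) (hp₂ : MvPolynomial.eval p z₂ = 0) :
    (∀ i : Fin 3, MvPolynomial.eval p (MvPolynomial.pderiv i (z₁ * q₂ - z₂ * q₁)) = 0) ↔
      (MvPolynomial.eval p q₁ = 0 ∧ MvPolynomial.eval p q₂ = 0) := by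
  have hlin : ∀ z : MvPolynomial (Fin 3) k, z.IsHomogeneous 1 →
      z = ∑ i, MvPolynomial.C (MvPolynomial.eval p (MvPolynomial.pderiv i z)) * MvPolynomial.X i := by
    intro z hz
    conv_lhs => rw [← one_nsmul z, ← hz.sum_X_mul_pderiv]
    refine Finset.sum_congr rfl fun i _ => ?_
    have h0 : (MvPolynomial.pderiv i z).IsHomogeneous 0 := hz.pderiv
    rw [← MvPolynomial.totalDegree_zero_iff_isHomogeneous, MvPolynomial.totalDegree_eq_zero_iff_eq_C]
      at h0
    rw [mul_comm, h0, MvPolynomial.eval_C]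
  have hder : ∀ i, MvPolynomial.eval p (MvPolynomial.pderiv i (z₁ * q₂ - z₂ * q₁)) =
      MvPolynomial.eval p (MvPolynomial.pderiv i z₁) * MvPolynomial.eval p q₂
        - MvPolynomial.eval p (MvPolynomial.pderiv i z₂) * MvPolynomial.eval p q₁ := by
    intro i
    rw [map_sub, MvPolynomial.pderiv_mul, MvPolynomial.pderiv_mul]
    simp only [map_sub, map_add, map_mul, hp₁, hp₂]
    ring
  constructor
  · intro h
    have hcomb : MvPolynomial.eval p q₂ • z₁ + (-MvPolynomial.eval p q₁) • z₂ = 0 := by
      conv_lhs => rw [hlin z₁ hz₁, hlin z₂ hz₂]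
      rw [Finset.smul_sum, Finset.smul_sum, ← Finset.sum_add_distrib]
      refine Finset.sum_eq_zero fun i _ => ?_
      have := h i
      rw [hder i] at this
      rw [MvPolynomial.smul_eq_C_mul, MvPolynomial.smul_eq_C_mul, ← mul_assoc, ← mul_assoc,
        ← MvPolynomial.C_mul, ← MvPolynomial.C_mul, ← add_mul, ← MvPolynomial.C_add]
      rw [show MvPolynomial.eval p q₂ * MvPolynomial.eval p (MvPolynomial.pderiv i z₁) +
        -MvPolynomial.eval p q₁ * MvPolynomial.eval p (MvPolynomial.pderiv i z₂) = 0 by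
          linear_combination this, map_zero, zero_mul]
    have := LinearIndependent.pair_iff.mp hind _ _ hcomb
    exact ⟨neg_eq_zero.mp this.2, this.1⟩
  · intro ⟨h1, h2⟩ i
    rw [hder i, h1, h2]
    ring

end Groth.Agent.S13913
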