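import Groth.Statements.S13916
import Mathlib
-- import your own Groth.Agent.* helpers here

set_option autoImplicit false
universe u
open PlaneConic

namespace Groth.Agent.S13916

/-- Over an algebraically closed field k of characteristic zero, with u_0, u_1, u_2 the coordinate
linear forms of k[X_0, X_1, X_2] and 2 × 2 matrices of linear forms compared up to M ↦ g M h with g,
h invertible scalar matrices: (1) the matrices with rows (u_1, 0), (u_0, u_2) and (u_2, 0), (u_0,
u_1) are not equivalent; (2) for α ≠ 0 the matrix with rows (u_1, 0), (αu_0 + βu_1 + γu_2, u_2) is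
equivalent to the one with rows (u_1, 0), (u_0, u_2). -/
theorem result (k : Type u) [Field k] [IsAlgClosed k] [CharZero k] :
    (¬ ∃ g h : GL (Fin 2) k,
      (MvPolynomial.C : k →+* MvPolynomial (Fin 3) k).mapMatrix g.val *
          !![MvPolynomial.X 1, 0; MvPolynomial.X 0, MvPolynomial.X 2] *
        (MvPolynomial.C : k →+* MvPolynomial (Fin 3) k).mapMatrix h.val =
      !![MvPolynomial.X 2, 0; MvPolynomial.X 0, MvPolynomial.X 1]) ∧
    (∀ α β γ : k, α ≠ 0 → ∃ g h : GL (Fin 2) k,
      (MvPolynomial.C : k →+* MvPolynomial (Fin 3) k).mapMatrix g.val *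
          !![MvPolynomial.X 1, 0;
             MvPolynomial.C α * MvPolynomial.X 0 + MvPolynomial.C β * MvPolynomial.X 1 + MvPolynomial.C γ * MvPolynomial.X 2,
             MvPolynomial.X 2] *
        (MvPolynomial.C : k →+* MvPolynomial (Fin 3) k).mapMatrix h.val =
      !![MvPolynomial.X 1, 0; MvPolynomial.X 0, MvPolynomial.X 2]) := by
  refine ⟨?_, fun α β γ hα => ?_⟩
  · rintro ⟨g, h, e⟩
    have e10 := congrArg (fun M : Matrix (Fin 2) (Fin 2) (MvPolynomial (Fin 3) k) => MvPolynomial.eval ![1, 0, 0] (M 1 0)) e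
    have e11 := congrArg (fun M : Matrix (Fin 2) (Fin 2) (MvPolynomial (Fin 3) k) => MvPolynomial.eval ![1, 0, 0] (M 1 1)) e
    have f11 := congrArg (fun M : Matrix (Fin 2) (Fin 2) (MvPolynomial (Fin 3) k) => MvPolynomial.eval ![0, 1, 0] (M 1 1)) e
    simp [Matrix.mul_apply, Fin.sum_univ_two] at e10 e11 f11
    rcases e11 with e11 | e11
    · simp [e11] at e10
    · simp [e11] at f11
  · refine ⟨Matrix.GeneralLinearGroup.mkOfDetNeZero !![1, 0; -(β / α), 1 / α] (by simp [Matrix.det_fin_two, hα]),
      Matrix.GeneralLinearGroup.mkOfDetNeZero !![1, 0; -γ, α] (by simp [Matrix.det_fin_two, hα]), ?_⟩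
    ext i j : 1
    have hCC : MvPolynomial.C (1 / α) * MvPolynomial.C α = (1 : MvPolynomial (Fin 3) k) := by
      rw [← map_mul, one_div_mul_cancel hα, map_one]
    have hb : (MvPolynomial.C (β / α) : MvPolynomial (Fin 3) k) = MvPolynomial.C β * MvPolynomial.C (1 / α) := by
      rw [← map_mul]; congr 1; ring
    fin_cases i <;> fin_cases j <;> simp [Matrix.mul_apply, Fin.sum_univ_two, Matrix.GeneralLinearGroup.mkOfDetNeZero] <;>
      (try simp only [one_div] at hCC hb) <;> (try simp only [hb])
    · linear_combination (MvPolynomial.X 0 : MvPolynomial (Fin 3) k) * hCC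
    · linear_combination (MvPolynomial.X 2 : MvPolynomial (Fin 3) k) * hCC

end Groth.Agent.S13916
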