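import Groth.Statements.S13925
import Mathlib.Tactic

set_option autoImplicit false
universe u v w x
open W4c1limliniiii

namespace Groth.Agent.S13925

/-- Let k be a field and U, E, W vector spaces over k with linear maps f : U → E, g' : E → U, f₂ : E → W
and g : W → E such that g' ∘ f = 0, the kernel of f₂ is contained in the image of g, and the image
of g meets the kernel of g' only in 0 — the conditions holding at a point of a linked Grassmannian
at which the linking scalar vanishes. Let V₁ ≤ U and V₂ ≤ E be subspaces and let C' ≤ V₂ be a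
subspace contained in the kernel of g' and meeting f(V₁) only in 0. Then the subspaces f(V₁), ker f₂
∩ V₂ and C' of E are independent: their sum is direct. (The published statement is for two
consecutive members V_{i-1}, V_i of a point of a linked Grassmannian at which the linking scalar
vanishes and adds the decomposition V_i = f(V_{i-1}) ⊕ (ker f_i ∩ V_i) ⊕ C with C ⊇ C'; this row
states the independence, with only the three conditions the argument uses.) -/
theorem result (k : Type u) [Field k]
    (U : Type v) (E : Type w) (W : Type x) [AddCommGroup U] [Module k U] [AddCommGroup E]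
    [Module k E] [AddCommGroup W] [Module k W]
    (f : U →ₗ[k] E) (g' : E →ₗ[k] U) (f₂ : E →ₗ[k] W) (g : W →ₗ[k] E)
    (hgf : g'.comp f = 0) (hII : LinearMap.ker f₂ ≤ LinearMap.range g)
    (hIII : LinearMap.range g ⊓ LinearMap.ker g' = ⊥)
    (V₁ : Submodule k U) (V₂ : Submodule k E) (C' : Submodule k E) (hC : C' ≤ V₂)
    (hCg : C' ≤ LinearMap.ker g') (hCf : Submodule.map f V₁ ⊓ C' = ⊥) :
    iSupIndep ![Submodule.map f V₁, LinearMap.ker f₂ ⊓ V₂, C'] := by
  set A := Submodule.map f V₁
  set B := LinearMap.ker f₂ ⊓ V₂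
  have hA : A ≤ LinearMap.ker g' := by
    rintro _ ⟨x, -, rfl⟩
    exact LinearMap.mem_ker.2 (LinearMap.congr_fun hgf x)
  have hAC : A ⊔ C' ≤ LinearMap.ker g' := sup_le hA hCg
  have hB : B ⊓ (A ⊔ C') = ⊥ := by
    rw [eq_bot_iff, ← hIII]
    exact inf_le_inf (inf_le_left.trans hII) hAC
  have key : ∀ a ∈ A, ∀ b ∈ B, ∀ c ∈ C', a + b + c = 0 → a = 0 ∧ b = 0 ∧ c = 0 := by
    intro a ha b hb c hc h
    have hb' : b = -a + -c := by
      rw [← sub_eq_zero, ← h]; abel
    have hb0 : b = 0 := by
      have : b ∈ B ⊓ (A ⊔ C') := ⟨hb, hb' ▸ Submodule.add_mem_sup (neg_mem ha) (neg_mem hc)⟩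
      simpa [hB] using this
    have ha' : a = -c := eq_neg_of_add_eq_zero_left (by simpa [hb0] using h)
    have ha0 : a = 0 := by
      have : a ∈ A ⊓ C' := ⟨ha, ha' ▸ neg_mem hc⟩
      simpa [hCf] using this
    refine ⟨ha0, hb0, ?_⟩
    simpa [ha0, hb0] using h
  rw [iSupIndep_def]
  intro i
  rw [Submodule.disjoint_def]
  intro x hx hx'
  fin_cases i
  · have : x ∈ B ⊔ C' := by
      refine SetLike.le_def.1 (iSup₂_le fun j hj => ?_) hx'
      fin_cases j <;> simp at hj ⊢
    obtain ⟨b, hb, c, hc, rfl⟩ := Submodule.mem_sup.1 this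
    have := key _ (neg_mem hx) b hb c hc (by abel)
    exact neg_eq_zero.1 this.1
  · have : x ∈ A ⊔ C' := by
      refine SetLike.le_def.1 (iSup₂_le fun j hj => ?_) hx'
      fin_cases j <;> simp at hj ⊢
    obtain ⟨b, hb, c, hc, rfl⟩ := Submodule.mem_sup.1 this
    have := key b hb _ (neg_mem hx) c hc (by abel)
    exact neg_eq_zero.1 this.2.1
  · have : x ∈ A ⊔ B := by
      refine SetLike.le_def.1 (iSup₂_le fun j hj => ?_) hx'
      fin_cases j <;> simp at hj ⊢
    obtain ⟨b, hb, c, hc, rfl⟩ := Submodule.mem_sup.1 this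
    have := key b hb c hc _ (neg_mem hx) (by abel)
    exact neg_eq_zero.1 this.2.2

end Groth.Agent.S13925
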