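import Groth.Statements.S13926
import Mathlib.LinearAlgebra.FiniteDimensional.Lemmas
import Mathlib.LinearAlgebra.Dimension.RankNullity

set_option autoImplicit false
universe u v w
open W4c1limliniiii

namespace Groth.Agent.S13926


open Module in
theorem between {k : Type*} [Field k] {E : Type*} [AddCommGroup E] [Module k E] [FiniteDimensional k E]
    (W' : Submodule k E) : ∀ (m : ℕ) (W : Submodule k E), W ≤ W' →
    finrank k W + m ≤ finrank k W' → ∃ V : Submodule k E, W ≤ V ∧ V ≤ W' ∧ finrank k V = finrank k W + m := by
  intro m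
  induction m with
  | zero => intro W hW _; exact ⟨W, le_rfl, hW, by simp⟩
  | succ m ih =>
    intro W hW hd
    obtain ⟨V, hWV, hVW', hV⟩ := ih W hW (by omega)
    have hlt : V < W' := lt_of_le_of_ne hVW' (fun h => by rw [h] at hV; omega)
    obtain ⟨x, hxW', hxV⟩ := SetLike.exists_of_lt hlt
    refine ⟨V ⊔ Submodule.span k {x}, le_sup_of_le_left hWV, sup_le hVW' ((Submodule.span_singleton_le_iff_mem _ _).2 hxW'), ?_⟩
    have hx0 : x ≠ 0 := fun h => hxV (h ▸ V.zero_mem)
    have h1 := Submodule.finrank_sup_add_finrank_inf_eq V (Submodule.span k {x})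
    have h2 : V ⊓ Submodule.span k {x} = ⊥ := by
      rw [← disjoint_iff]; exact Submodule.disjoint_span_singleton_of_notMem hxV
    rw [h2, finrank_bot, finrank_span_singleton hx0] at h1
    omega


/-- Let k be a field, E₁ and E₂ finite-dimensional vector spaces over k of the same dimension, f : E₁ →
E₂ and g : E₂ → E₁ linear maps whose composite g ∘ f is multiplication by a scalar s, and V₁ a
subspace of E₁. Then there is a subspace V₂ of E₂ of the same dimension as V₁ with f(V₁) ≤ V₂ and
g(V₂) ≤ V₁. (The published statement is the surjectivity of the truncation morphisms of a linked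
Grassmannian, with a further assertion on lifting families; this row is the lifting step over a
field — over a point the chain of linked subspaces V_1, …, V_{n'} extends one index at a time — and
assumes only g ∘ f = s.) -/
theorem result (k : Type u) [Field k]
    (E₁ : Type v) (E₂ : Type w) [AddCommGroup E₁] [Module k E₁] [FiniteDimensional k E₁]
    [AddCommGroup E₂] [Module k E₂] [FiniteDimensional k E₂]
    (hdim : Module.finrank k E₁ = Module.finrank k E₂)
    (f : E₁ →ₗ[k] E₂) (g : E₂ →ₗ[k] E₁) (s : k) (hgf : g.comp f = s • LinearMap.id)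
    (V₁ : Submodule k E₁) :
    ∃ V₂ : Submodule k E₂, Module.finrank k V₂ = Module.finrank k V₁ ∧
      Submodule.map f V₁ ≤ V₂ ∧ Submodule.map g V₂ ≤ V₁ := by
  have h1 : Submodule.map f V₁ ≤ Submodule.comap g V₁ := by
    rintro _ ⟨x, hx, rfl⟩
    rw [Submodule.mem_comap, ← LinearMap.comp_apply, hgf]
    exact V₁.smul_mem s hx
  have h2 := Submodule.finrank_map_le f V₁
  have h3 : Module.finrank k V₁ ≤ Module.finrank k (Submodule.comap g V₁) := by
    have e := LinearMap.finrank_range_add_finrank_ker (V₁.mkQ ∘ₗ g)
    rw [LinearMap.ker_comp, Submodule.ker_mkQ] at e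
    have := (LinearMap.range (V₁.mkQ ∘ₗ g)).finrank_le
    have := V₁.finrank_quotient_add_finrank
    omega
  obtain ⟨V, hWV, hVW', hV⟩ := between (Submodule.comap g V₁) (Module.finrank k V₁ - Module.finrank k (Submodule.map f V₁)) _ h1 (by omega)
  exact ⟨V, by omega, hWV, Submodule.map_le_iff_le_comap.2 hVW'⟩

end Groth.Agent.S13926
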