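import Groth.Statements.S1393
import Groth.Agent.FlatOverBC.Free

set_option autoImplicit false
universe u
open FlatMor

namespace Groth.Agent.S1393

open AlgebraicGeometry CategoryTheory Limits in
/-- Let f : X → S be of finite presentation, F a finitely presented quasi-coherent O_X-module and x a
point with image s. If F is flat over S at x and the stalk at x of the restriction of F to the
fibre, namely F_x / m_s F_x, is flat over the local ring of the fibre at x, namely O_{X,x} / m_s
O_{X,x}, then F is free of finite rank on some open neighbourhood of x. -/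
theorem result {X S : Scheme.{u}} (f : X ⟶ S) [LocallyOfFinitePresentation f] [QuasiCompact f] [QuasiSeparated f]
    (F : X.Modules) (hFq : Coh.IsQCoh F) (hFp : CohB1.IsFP F) (x : X) (h1 : FlatMod.IsFlatOverAt f F x)
    (h2 : Module.Flat (↑(X.presheaf.stalk x) ⧸ Ideal.map (f.stalkMap x).hom (IsLocalRing.maximalIdeal ↑(S.presheaf.stalk (f x))))
      (↑(F.presheaf.stalk x) ⧸ (Ideal.map (f.stalkMap x).hom (IsLocalRing.maximalIdeal ↑(S.presheaf.stalk (f x))) • (⊤ : Submodule ↑(X.presheaf.stalk x) ↑(F.presheaf.stalk x))))) :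
    ∃ (U : X.Opens) (n : ℕ), x ∈ U ∧ Nonempty (F.restrict U.ι ≅ FlatMod.freeMod (↑U) n) := by
  haveI : F.IsQuasicoherent := hFq
  haveI : LocallyOfFinitePresentation (𝟙 X ≫ f) := by rwa [Category.id_comp]
  have hm : @FlatMod.moduleStalkOver X X (𝟙 X) F x =
      (inferInstance : Module (X.presheaf.stalk x) (F.presheaf.stalk x)) := by
    refine Module.ext (funext fun r => funext fun m => ?_)
    refine congrArg (fun c : X.presheaf.stalk x => c • m) ?_
    show ((𝟙 X : X ⟶ X).stalkMap x).hom r = r
    rw [Scheme.Hom.stalkMap_id]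
    rfl
  have h1' : FlatMod.IsFlatOverAt (𝟙 X ≫ f) F x := by rwa [Category.id_comp]
  have := FlatOverBC.isFlatOverAt_of_fibre (𝟙 X) f F hFp x h1' (by
    rw [hm]; exact h2)
  unfold FlatMod.IsFlatOverAt at this
  rw [hm] at this
  exact FlatOverBC.exists_iso_freeMod F hFp x this

end Groth.Agent.S1393
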