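import Groth.Statements.S13936
import Groth.Agent.PParts.Funct

set_option autoImplicit false
universe u
open W4c1limliniiii

namespace Groth.Agent.S13936


namespace Aux
open Groth.Agent PP16 TensorProduct

variable {R SY SX : Type u} [CommRing R] [CommRing SY] [CommRing SX] [Algebra R SY] [Algebra R SX] [Algebra SY SX]
  [IsScalarTower R SY SX] (σ : SX →ₐ[R] R) (n : ℕ)

theorem mk_algebraMap (x : SX) :
    Ideal.Quotient.mk ((RingHom.ker σ).map (algebraMap SX (PP16.P n R SX))) (algebraMap SX _ x) =
      Ideal.Quotient.mk _ (algebraMap R (PP16.P n R SX) (σ x)) := by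
  refine Ideal.Quotient.eq.2 ?_
  rw [IsScalarTower.algebraMap_apply R SX (PP16.P n R SX), ← map_sub]
  exact Ideal.mem_map_of_mem _ (by simp [RingHom.mem_ker])

theorem zeta_class (x : SX) :
    Ideal.Quotient.mk ((RingHom.ker σ).map (algebraMap SX (PP16.P n R SX)))
        (PP16.dn n R SX x - algebraMap SX _ x) =
      (Ideal.Quotient.mk ((RingHom.ker σ).map (algebraMap SX (PP16.P n R SX)))).comp
        (PP16.dn n R SX).toRingHom (x - algebraMap R SX (σ x)) := by
  rw [map_sub, map_sub, mk_algebraMap]
  simp

theorem mem_iff (b : SY) :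
    PP16.map n R SY R SX (PP16.dn n R SY b - algebraMap SY _ b) ∈
        (RingHom.ker σ).map (algebraMap SX (PP16.P n R SX)) ↔
      algebraMap SY SX b - algebraMap R SX (σ (algebraMap SY SX b)) ∈ RingHom.ker σ ^ (n + 1) := by
  rw [map_sub, PP16.map_dn, PP16.map_algebraMap, ← Ideal.Quotient.eq_zero_iff_mem, zeta_class,
    ← (PParts.section_surjective_ker n R SX σ).2]
  exact Iff.rfl

theorem smul_aug {x : PP16.P n R SX} (hx : x ∈ PP16.augIdeal n R SX)
    (hm : x ∈ (RingHom.ker σ).map (algebraMap SX (PP16.P n R SX))) :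
    x ∈ RingHom.ker σ • (PP16.augIdeal n R SX).restrictScalars SX := by
  let ε : PP16.P n R SX →ₗ[SX] SX :=
    { toFun := fun y => (Ideal.Quotient.lift _ (Algebra.TensorProduct.lmul' R).toRingHom
        (fun z hz => (Ideal.pow_le_self (Nat.succ_ne_zero n) hz : _))) y
      map_add' := fun y z => map_add _ y z
      map_smul' := fun c y => by
        obtain ⟨z, rfl⟩ := Ideal.Quotient.mk_surjective y
        rw [Algebra.smul_def, map_mul]
        change Algebra.TensorProduct.lmul' R (c ⊗ₜ[R] (1 : SX)) * Algebra.TensorProduct.lmul' R z = c * _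
        rw [Algebra.TensorProduct.lmul'_apply_tmul, mul_one]
        rfl }
  let π : PP16.P n R SX →ₗ[SX] PP16.P n R SX := LinearMap.id - (Algebra.linearMap SX _) ∘ₗ ε
  have hπ : ∀ y, π y ∈ PP16.augIdeal n R SX := fun y => by
    obtain ⟨z, rfl⟩ := Ideal.Quotient.mk_surjective y
    change Ideal.Quotient.mk _ z - Ideal.Quotient.mk _ (Algebra.TensorProduct.lmul' R z ⊗ₜ[R] (1 : SX)) ∈ _
    rw [← map_sub]
    refine Ideal.mem_map_of_mem _ ?_
    change Algebra.TensorProduct.lmul' R _ = (0 : SX)
    rw [map_sub, Algebra.TensorProduct.lmul'_apply_tmul, mul_one, sub_self]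
  have hε : ε x = 0 := by
    obtain ⟨z, hz, rfl⟩ := (Ideal.mem_map_iff_of_surjective _ Ideal.Quotient.mk_surjective).1 hx
    exact hz
  have hπx : π x = x := by
    simp [π, hε]
  rw [← hπx]
  rw [← Submodule.restrictScalars_mem (S := SX), ← Ideal.smul_top_eq_map] at hm
  refine Submodule.smul_induction_on hm (fun a ha y _ => ?_) (fun y z hy hz => ?_)
  · rw [map_smul]; exact Submodule.smul_mem_smul ha (hπ y)
  · rw [map_add]; exact add_mem hy hz

end Aux


/-- Let R be a commutative ring, S_Y → S_X a homomorphism of R-algebras (an affine piece of a morphism f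
: X → Y of schemes over Spec R) and σ : S_X → R an R-algebra retraction (a section of X over the
base) with kernel I. For e ≥ 1 write T^{e−1} for the augmentation ideal of the ring of principal
parts of order e − 1 (the kernel of P^{e−1} → the algebra; for e = 2 this is the module of
differentials). Then the natural map T^{e−1}(S_Y/R) → T^{e−1}(S_X/R) takes values in I ·
T^{e−1}(S_X/R) — that is, the induced map f^*T^{e−1}_Y → T^{e−1}_X vanishes at the section σ — if
and only if every element of S_Y whose image in S_X lies in I has image in I^e, which says that the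
fibre of f through σ contains the e-th order thickening of σ. (The published statement is for a
morphism of separated schemes over a base and sections over an arbitrary base change; this row is
the affine computation it reduces to.) -/
theorem result (R SY SX : Type u)
    [CommRing R] [CommRing SY] [CommRing SX] [Algebra R SY] [Algebra R SX] [Algebra SY SX]
    [IsScalarTower R SY SX] (σ : SX →ₐ[R] R) (e : ℕ) (he : 1 ≤ e) :
    (∀ y ∈ PP16.augIdeal (e - 1) R SY,
        PP16.map (e - 1) R SY R SX y ∈
          RingHom.ker σ.toRingHom • (PP16.augIdeal (e - 1) R SX).restrictScalars SX) ↔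
      (∀ b : SY, algebraMap SY SX b ∈ RingHom.ker σ.toRingHom →
        algebraMap SY SX b ∈ RingHom.ker σ.toRingHom ^ e) := by
  obtain ⟨n, rfl⟩ : ∃ n, e = n + 1 := ⟨e - 1, by omega⟩
  rw [Nat.add_sub_cancel]
  have hz : ∀ b : SY, PP16.dn n R SY b - algebraMap SY _ b ∈ PP16.augIdeal n R SY := fun b => by
    change Ideal.Quotient.mk _ ((1 : SY) ⊗ₜ[R] b) - Ideal.Quotient.mk _ (b ⊗ₜ[R] (1 : SY)) ∈ _
    rw [← map_sub]
    exact Ideal.mem_map_of_mem _ (Groth.Agent.DiffOp.zeta_mem b)
  have hle : RingHom.ker σ.toRingHom • (PP16.augIdeal n R SX).restrictScalars SX ≤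
      ((RingHom.ker σ).map (algebraMap SX (PP16.P n R SX))).restrictScalars SX := by
    rw [← Ideal.smul_top_eq_map]
    exact Submodule.smul_mono le_rfl le_top
  constructor
  · intro h b hb
    have h1 := (Aux.mem_iff σ n b).1 (hle (h _ (hz b)))
    have h2 : σ (algebraMap SY SX b) = 0 := hb
    rw [h2, map_zero, sub_zero] at h1
    exact h1
  · intro h
    have hgen : ∀ b : SY, PP16.map n R SY R SX (PP16.dn n R SY b - algebraMap SY _ b) ∈
        (RingHom.ker σ).map (algebraMap SX (PP16.P n R SX)) := fun b => by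
      refine (Aux.mem_iff σ n b).2 ?_
      have := h (b - algebraMap R SY (σ (algebraMap SY SX b))) (by
        rw [map_sub, ← IsScalarTower.algebraMap_apply]
        simp [RingHom.mem_ker])
      rwa [map_sub, ← IsScalarTower.algebraMap_apply] at this
    intro y hy
    refine Aux.smul_aug σ n ?_ ?_
    · obtain ⟨z, hz', rfl⟩ := (Ideal.mem_map_iff_of_surjective _ Ideal.Quotient.mk_surjective).1 hy
      rw [PP16.map_mk]
      exact Ideal.mem_map_of_mem _ (PP16.ideal_map_tensorMap_le R SY R SX (Ideal.mem_map_of_mem _ hz'))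
    · have hJ : PP16.augIdeal n R SY ≤
          ((RingHom.ker σ).map (algebraMap SX (PP16.P n R SX))).comap (PP16.map n R SY R SX) := by
        rw [PP16.augIdeal, Ideal.map_le_iff_le_comap]
        refine (Groth.Agent.DiffOp.ideal_eq_span (A := R) (B := SY)).le.trans (Ideal.span_le.2 ?_)
        rintro _ ⟨b, rfl⟩
        have := hgen b
        change PP16.map n R SY R SX (Ideal.Quotient.mk _ ((1 : SY) ⊗ₜ[R] b) - Ideal.Quotient.mk _ (b ⊗ₜ[R] (1 : SY))) ∈ _ at this
        rw [← map_sub (Ideal.Quotient.mk _)] at this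
        exact this
      exact hJ hy

end Groth.Agent.S13936
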