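import Groth.Statements.S13953
import Mathlib

set_option autoImplicit false
universe u
open TateLoc

namespace Groth.Agent.S13953

/-- Let (R_i) be a family of local commutative rings and R = ∏ R_i. Any open cover of Spec R can be
refined by one coming from a finite partition of the index set: there is a map c from the index set
to a finite set such that, for each value m, the basic open subset of Spec R defined by the
idempotent which is 1 at the indices with c i = m and 0 elsewhere (this open is the spectrum of the
product of the R_i over that class) is contained in some member of the cover. -/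
theorem result {ι : Type u} (R : ι → Type u)
    [∀ i, CommRing (R i)] [∀ i, IsLocalRing (R i)] {J : Type u}
    (U : J → TopologicalSpace.Opens (PrimeSpectrum (∀ i, R i))) (hU : ⨆ j, U j = ⊤) :
    ∃ (n : ℕ) (c : ι → Fin n), ∀ m : Fin n, ∃ j : J,
      PrimeSpectrum.basicOpen (fun i => if c i = m then (1 : R i) else 0) ≤ U j := by
  classical
  let T : Set (∀ i, R i) := {f | ∃ j, PrimeSpectrum.basicOpen f ≤ U j}
  have hT : Ideal.span T = ⊤ := by
    by_contra h
    obtain ⟨m, hm, hle⟩ := Ideal.exists_le_maximal _ h
    let x : PrimeSpectrum (∀ i, R i) := ⟨m, hm.isPrime⟩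
    have hx : x ∈ (⨆ j, U j : TopologicalSpace.Opens _) := by rw [hU]; trivial
    obtain ⟨j, hj⟩ := TopologicalSpace.Opens.mem_iSup.mp hx
    obtain ⟨V, ⟨f, rfl⟩, hfx, hfU⟩ := PrimeSpectrum.isTopologicalBasis_basic_opens.exists_subset_of_mem_open hj (U j).2
    exact hfx (hle (Ideal.subset_span ⟨j, hfU⟩))
  obtain ⟨s, hsT, hs⟩ := Submodule.mem_span_finite_of_mem_span ((Ideal.eq_top_iff_one _).mp hT)
  let fam : Fin s.card → (∀ i, R i) := fun l => (s.equivFin.symm l : ∀ i, R i)
  have hu : ∀ i, ∃ l, IsUnit (fam l i) := by
    intro i
    by_contra h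
    push Not at h
    have hle : Ideal.span (s : Set (∀ i, R i)) ≤ Ideal.comap (Pi.evalRingHom R i) (IsLocalRing.maximalIdeal (R i)) := by
      rw [Ideal.span_le]
      intro f hf
      have := h (s.equivFin ⟨f, hf⟩)
      simp only [fam, Equiv.symm_apply_apply] at this
      exact this
    have h1 := hle hs
    simp [Ideal.mem_comap] at h1
  choose c hc using hu
  refine ⟨s.card, c, fun m => ?_⟩
  obtain ⟨j, hj⟩ := hsT (s.equivFin.symm m).2
  refine ⟨j, le_trans ?_ hj⟩
  have he : (fun i => if c i = m then (1 : R i) else 0) =
      (fun i => if h : c i = m then (↑(hc i).unit⁻¹ : R i) else 0) * fam m := by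
    funext i
    by_cases h : c i = m
    · subst h; simp
    · simp [h]
  rw [he]
  exact PrimeSpectrum.basicOpen_mul_le_right _ _

end Groth.Agent.S13953
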