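import Groth.Statements.S13958
import Mathlib

set_option autoImplicit false
universe u
open TateLoc

namespace Groth.Agent.S13958

open scoped DirectSum in
lemma exists_finite_hom_ne_zero {Q : Type*} [AddCommGroup Q] [AddGroup.FG Q] {q : Q} (hq : q ≠ 0) :
    ∃ N : AddSubgroup Q, N.FiniteIndex ∧ q ∉ N := by
  obtain ⟨n, ι, hι, p, hp, e, ⟨f⟩⟩ := AddCommGroup.equiv_free_prod_directSum_zmod Q
  classical
  by_cases h2 : (f q).2 = 0
  · have h1 : (f q).1 ≠ 0 := fun h => hq (f.injective (by rw [map_zero]; exact Prod.ext h h2))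
    obtain ⟨i, hi⟩ := Finsupp.ne_iff.mp h1
    simp only [Finsupp.coe_zero, Pi.zero_apply] at hi
    let m := ((f q).1 i).natAbs + 1
    let ψ : Q →+ ZMod m :=
      ((Int.castAddHom (ZMod m)).comp ((Finsupp.applyAddHom i).comp (AddMonoidHom.fst _ _))).comp f.toAddMonoidHom
    haveI : NeZero m := ⟨Nat.succ_ne_zero _⟩
    refine ⟨ψ.ker, inferInstance, fun hmem => ?_⟩
    have : ((f q).1 i : ZMod m) = 0 := hmem
    rw [ZMod.intCast_zmod_eq_zero_iff_dvd] at this
    have h3 := Int.natAbs_dvd_natAbs.mpr this
    rw [Int.natAbs_natCast] at h3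
    have := Nat.le_of_dvd (Int.natAbs_pos.mpr hi) h3
    omega
  · haveI : ∀ i, NeZero (p i ^ e i) := fun i => ⟨pow_ne_zero _ (hp i).ne_zero⟩
    haveI : Finite (⨁ i : ι, ZMod (p i ^ e i)) := Finite.of_equiv _ DFinsupp.equivFunOnFintype.symm
    let ψ : Q →+ ⨁ i : ι, ZMod (p i ^ e i) := (AddMonoidHom.snd _ _).comp f.toAddMonoidHom
    exact ⟨ψ.ker, inferInstance, fun hmem => h2 hmem⟩


open CategoryTheory in
/-- Let A' be a finitely generated abelian group (written multiplicatively, discrete) and A a subgroup.
If the image of x ∈ A' in the profinite completion of A' lies in the image of the profinite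
completion of A under the map induced by the inclusion, then x ∈ A. (The published statement says
that the square formed by the two completion maps and the two inclusions is Cartesian; given the
injectivity of the induced map on completions, which holds here, that amounts to this membership
criterion.) -/
theorem result (A' : Type u) [CommGroup A'] [Group.FG A']
    (A : Subgroup A') (x : A')
    (hx : ProfiniteGrp.ProfiniteCompletion.etaFn (GrpCat.of A') x ∈
      Set.range ⇑(ProfiniteGrp.profiniteCompletion.map (GrpCat.ofHom A.subtype)).hom) :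
    x ∈ A := by
  by_contra hxA
  haveI : Group.FG (A' ⧸ A) := QuotientGroup.fg A
  have hne : Additive.ofMul (QuotientGroup.mk' A x) ≠ 0 := fun h =>
    hxA ((QuotientGroup.eq_one_iff x).mp (Additive.ofMul.injective h))
  obtain ⟨N, hN, hxN⟩ := exists_finite_hom_ne_zero hne
  let M : Subgroup (A' ⧸ A) := AddSubgroup.toSubgroup' N
  haveI : M.FiniteIndex := ⟨hN.1⟩
  haveI : (M.comap (QuotientGroup.mk' A)).FiniteIndex := ⟨by
    rw [Subgroup.index_comap_of_surjective M (QuotientGroup.mk'_surjective A)]
    exact Subgroup.FiniteIndex.index_ne_zero⟩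
  let H : FiniteIndexNormalSubgroup (GrpCat.of A') :=
    FiniteIndexNormalSubgroup.ofSubgroup (M.comap (QuotientGroup.mk' A))
  obtain ⟨z, hz⟩ := hx
  let F := ProfiniteGrp.profiniteCompletion.map (GrpCat.ofHom A.subtype)
  have hcont : Continuous fun w : ProfiniteGrp.ProfiniteCompletion.completion (GrpCat.of A) => (F.hom w).1 H := by
    exact (continuous_apply H).comp (continuous_subtype_val.comp F.hom.continuous_toFun)
  have hconst : (fun w : ProfiniteGrp.ProfiniteCompletion.completion (GrpCat.of A) => (F.hom w).1 H) = fun _ => 1 := by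
    refine (ProfiniteGrp.ProfiniteCompletion.denseRange (GrpCat.of A)).equalizer hcont continuous_const ?_
    funext a
    have h1 := ConcreteCategory.congr_hom (ProfiniteGrp.ProfiniteCompletion.lift_eta
      (GrpCat.ofHom A.subtype ≫ ProfiniteGrp.ProfiniteCompletion.eta (GrpCat.of A'))) a
    show (F.hom (ProfiniteGrp.ProfiniteCompletion.etaFn (GrpCat.of A) a)).1 H = 1
    refine (congrArg (fun w => w.1 H) h1).trans ?_
    show QuotientGroup.mk (A.subtype a) = 1
    refine (QuotientGroup.eq_one_iff _).mpr ?_
    show QuotientGroup.mk' A (A.subtype a) ∈ M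
    have : QuotientGroup.mk' A (A.subtype a) = 1 := (QuotientGroup.eq_one_iff _).mpr a.2
    rw [this]; exact M.one_mem
  have h2 : (F.hom z).1 H = 1 := congrFun hconst z
  have h3 : (F.hom z).1 H = QuotientGroup.mk x := congrArg (fun w => w.1 H) hz
  exact hxN ((QuotientGroup.eq_one_iff x).mp (h3.symm.trans h2))

end Groth.Agent.S13958
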