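import Groth.Statements.S13963
import Mathlib

set_option autoImplicit false
universe u
open TateLoc

namespace Groth.Agent.S13963

/-- Let A' → A → A'' be continuous homomorphisms of locally compact, second-countable, Hausdorff abelian
topological groups which form a short exact sequence of abstract groups (the first injective, the
second surjective, image equal to kernel). If A' and A'' are compact, then A is compact. -/
theorem result (A' A A'' : Type u)
    [AddCommGroup A'] [TopologicalSpace A'] [IsTopologicalAddGroup A'] [SecondCountableTopology A'] [T2Space A']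
    [CompactSpace A']
    [AddCommGroup A] [TopologicalSpace A] [IsTopologicalAddGroup A] [LocallyCompactSpace A]
    [SecondCountableTopology A] [T2Space A]
    [AddCommGroup A''] [TopologicalSpace A''] [IsTopologicalAddGroup A''] [SecondCountableTopology A''] [T2Space A'']
    [CompactSpace A'']
    (f : A' →+ A) (g : A →+ A'') (hf : Continuous f) (hg : Continuous g)
    (hinj : Function.Injective f) (hsurj : Function.Surjective g) (hex : g.ker = f.range) :
    CompactSpace A := by
  have hK : IsCompact (g.ker : Set A) := by rw [hex, AddMonoidHom.coe_range]; exact isCompact_range hf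
  have hopen : IsOpenMap g := AddMonoidHom.isOpenMap_of_sigmaCompact g hsurj hg
  obtain ⟨V, hV, hV0⟩ := exists_compact_mem_nhds (0 : A)
  let W : A → Set A'' := fun a => g '' ((fun x => a + x) '' interior V)
  have hW : ∀ a, IsOpen (W a) := fun a => hopen _ ((isOpenMap_add_left a) _ isOpen_interior)
  obtain ⟨T, hT⟩ := isCompact_univ.elim_finite_subcover W hW (fun y _ => by
    obtain ⟨a, rfl⟩ := hsurj y
    exact Set.mem_iUnion.2 ⟨a, a, ⟨0, mem_interior_iff_mem_nhds.2 hV0, add_zero a⟩, rfl⟩)
  have hC : IsCompact (⋃ a ∈ T, (fun x => a + x) '' V) :=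
    T.finite_toSet.isCompact_biUnion fun a _ => hV.image (continuous_const_add a)
  refine ⟨?_⟩
  convert hC.add hK
  refine (Set.eq_univ_of_forall fun x => ?_).symm
  obtain ⟨a, ha, z, ⟨v, hv, rfl⟩, hz⟩ : ∃ a ∈ T, ∃ z, z ∈ (fun x => a + x) '' interior V ∧ g z = g x := by
    simpa [W] using hT (Set.mem_univ (g x))
  exact ⟨a + v, Set.mem_biUnion ha ⟨v, interior_subset hv, rfl⟩, x - (a + v), by simp [hz], by abel⟩

end Groth.Agent.S13963
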