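import Groth.Statements.S13978
import Groth.Agent.ArtHull.Tangent
-- import your own Groth.Agent.* helpers here

set_option autoImplicit false
universe u v
open CategoryTheory
open scoped TensorProduct
open ArtFun ArtFun.ObsTheory

namespace Groth.Agent.S13978

/-- For obstruction theories of functors in the vector-space form, let k be a field, F a functor on
Artinian local k-algebras with residue field k and (V, ω) an obstruction theory for F — for each
surjection p : C' → C whose kernel J is killed by the maximal ideal and each u ∈ F(C) an obstruction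
ω(p, u) ∈ V ⊗_k J, zero exactly when u lifts, and compatible with replacing C' → C by C'/K → C for
ideals K ≤ J. Let Ω ⊆ V be the subspace spanned by the obstructions along tiny extensions (those p
whose kernel is one-dimensional), transported into V by the isomorphisms V ⊗ J ≅ V coming from
linear isomorphisms J ≅ k. Then for every p and u the obstruction ω(p, u) lies in the image of Ω ⊗_k
J → V ⊗_k J. (The published statement is for deformation categories and obstruction theories
functorial along all morphisms of extensions; this row assumes functoriality along quotients C'/K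
only, which is all its proof uses, and no condition on F.) -/
theorem result {k : Type u} [Field k]
    {F : ArtFun.Art k k ⥤ Type v} {V : Type u} [AddCommGroup V] [Module k V]
    (T : ArtFun.ObsTheory F V) {C' C : ArtFun.Art k k} (p : C' ⟶ C) (hp : ArtFun.Art.IsSemismallExt p)
    (u : F.obj C) :
    T.obs p hp u ∈ LinearMap.range (LinearMap.rTensor (↥(RingHom.ker p.toAlgHom))
      (Submodule.span k {v : V | ∃ (B' B : ArtFun.Art k k) (t : B' ⟶ B) (ht : ArtFun.Art.IsSmallExt t)
          (w : F.obj B) (φ : ↥(RingHom.ker t.toAlgHom) ≃ₗ[k] k),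
          v = TensorProduct.rid k V (LinearMap.lTensor V φ.toLinearMap (T.obs t ht.isSemismallExt w))}).subtype) := by
  classical
  let J : Submodule k C' := (RingHom.ker p.toAlgHom).restrictScalars k
  let Ω : Submodule k V := Submodule.span k {v : V | ∃ (B' B : ArtFun.Art k k) (t : B' ⟶ B)
      (ht : ArtFun.Art.IsSmallExt t) (w : F.obj B) (φ : ↥(RingHom.ker t.toAlgHom) ≃ₗ[k] k),
      v = TensorProduct.rid k V (LinearMap.lTensor V φ.toLinearMap (T.obs t ht.isSemismallExt w))}
  have : Module.Finite k C' := Groth.Agent.ArtHull.finite_carrier_of_finite C'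
  have : Module.Finite k ↥(RingHom.ker p.toAlgHom) := inferInstanceAs (Module.Finite k J)
  let b := Module.finBasis k ↥(RingHom.ker p.toAlgHom)
  have hscalar : ∀ (a : C') (j : C'), j ∈ RingHom.ker p.toAlgHom → a * j = C'.res a • j := fun a j hj => by
    rw [Algebra.smul_def, ← sub_eq_zero, ← sub_mul]
    have := Ideal.mul_mem_mul ((ArtFun.Art.mem_maximalIdeal_iff C' (a - algebraMap k C' (C'.res a))).2 (by
      rw [map_sub, C'.res.commutes, Algebra.algebraMap_self, RingHom.id_apply, sub_self])) hj
    rwa [hp.2, Ideal.mem_bot] at this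
  have hcomp : ∀ i, TensorProduct.rid k V (LinearMap.lTensor V (b.coord i) (T.obs p hp u)) ∈ Ω := by
    intro i
    let P : Submodule k ↥(RingHom.ker p.toAlgHom) := LinearMap.ker (b.coord i)
    let K : Ideal C' :=
      { carrier := (fun j : ↥(RingHom.ker p.toAlgHom) => (j : C')) '' (P : Set _)
        add_mem' := by
          rintro _ _ ⟨x, hx, rfl⟩ ⟨y, hy, rfl⟩
          exact ⟨x + y, P.add_mem hx hy, rfl⟩
        zero_mem' := ⟨0, P.zero_mem, rfl⟩
        smul_mem' := by
          rintro a _ ⟨x, hx, rfl⟩
          exact ⟨C'.res a • x, P.smul_mem _ hx, (hscalar a x x.2).symm⟩ }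
    have hKJ : K ≤ RingHom.ker p.toAlgHom := by rintro _ ⟨x, -, rfl⟩; exact x.2
    have hK := hKJ.trans (Groth.Agent.ArtHull.ker_le_maximalIdeal p)
    have hmemK : ∀ x : ↥(RingHom.ker p.toAlgHom), (x : C') ∈ K → b.coord i x = 0 := by
      rintro x ⟨y, hy, hxy⟩
      rw [← Subtype.ext hxy]
      exact hy
    let q := ArtFun.Art.quotFactor hK p hKJ
    let L := (ArtFun.Art.kerToQuot hK p hKJ).restrictScalars k
    have hLs : Function.Surjective L := fun z => by
      obtain ⟨a, ha⟩ := Ideal.Quotient.mk_surjective z.1
      have haJ : a ∈ RingHom.ker p.toAlgHom := by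
        have h2 := RingHom.mem_ker.1 z.2
        rw [← ha] at h2
        exact h2
      exact ⟨⟨a, haJ⟩, Subtype.ext ha⟩
    have hLker : LinearMap.ker L = P := by
      ext x
      refine ⟨fun hx => hmemK x (Ideal.Quotient.eq_zero_iff_mem.1 (congrArg Subtype.val hx)),
        fun hx => Subtype.ext (Ideal.Quotient.eq_zero_iff_mem.2 ⟨x, hx, rfl⟩)⟩
    have hci : Function.Surjective (b.coord i) := fun c => ⟨c • b i, by simp⟩
    let φ₀ := (LinearMap.quotKerEquivOfSurjective L hLs).symm.trans
      ((Submodule.quotEquivOfEq _ _ hLker).trans (LinearMap.quotKerEquivOfSurjective (b.coord i) hci))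
    have hφL : φ₀.toLinearMap.comp L = b.coord i := by
      ext x
      have e1 : (LinearMap.quotKerEquivOfSurjective L hLs).symm (L x) = Submodule.Quotient.mk x := by
        rw [LinearEquiv.symm_apply_eq]
        rfl
      simp [φ₀, e1]
      rfl
    have hqsm : ArtFun.Art.IsSmallExt q := by
      refine ⟨fun c => ?_, fun h0 => ?_, ⟨⟨(L (b i) : _), ?_⟩⟩, ?_⟩
      · obtain ⟨a, rfl⟩ := hp.1 c
        exact ⟨Ideal.Quotient.mk _ a, rfl⟩
      · have h2 := (SetLike.ext_iff.1 h0 _).1 (L (b i)).2
        have : L (b i) = 0 := Subtype.ext h2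
        have h1 : b.coord i (b i) = 1 := by simp
        rw [← hφL, LinearMap.comp_apply, this, map_zero] at h1
        exact zero_ne_one h1
      · refine le_antisymm (fun z hz => ?_) ((Ideal.span_singleton_le_iff_mem _).2 (L (b i)).2)
        have hz' : (⟨z, hz⟩ : ↥(RingHom.ker q.toAlgHom)) = φ₀ ⟨z, hz⟩ • L (b i) := φ₀.injective (by
          rw [map_smul, show φ₀ (L (b i)) = b.coord i (b i) from LinearMap.congr_fun hφL (b i)]
          simp)
        have := congrArg Subtype.val hz'
        change z = _ at this
        rw [this]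
        exact Submodule.smul_of_tower_mem _ _ (Ideal.mem_span_singleton_self _)
      · rw [← le_bot_iff, Ideal.mul_le]
        intro a ha z hz
        obtain ⟨a, rfl⟩ := Ideal.Quotient.mk_surjective a
        obtain ⟨w, hw⟩ := hLs ⟨z, hz⟩
        have hm : a * (w : C') = 0 := by
          have := Ideal.mul_mem_mul ((ArtFun.Art.mem_maximalIdeal_iff C' a).2
            ((ArtFun.Art.mem_maximalIdeal_iff (ArtFun.Art.quot C' K hK) (Ideal.Quotient.mk K a)).1 ha)) w.2
          rwa [hp.2, Ideal.mem_bot] at this
        rw [Ideal.mem_bot, ← show Ideal.Quotient.mk K (w : C') = z from congrArg Subtype.val hw]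
        exact (map_mul _ _ _).symm.trans ((congrArg _ hm).trans (map_zero _))
    refine Submodule.subset_span ⟨_, _, q, hqsm, u, φ₀, ?_⟩
    rw [T.obs_quot p hp K hK hKJ hqsm.isSemismallExt u, ← LinearMap.comp_apply, ← LinearMap.lTensor_comp, hφL]
  have hsum : T.obs p hp u = ∑ i, TensorProduct.rid k V (LinearMap.lTensor V (b.coord i) (T.obs p hp u)) ⊗ₜ[k] b i := by
    induction T.obs p hp u using TensorProduct.induction_on with
    | zero => simp
    | add x y hx hy => simp only [map_add, TensorProduct.add_tmul, Finset.sum_add_distrib, ← hx, ← hy]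
    | tmul v j =>
      simp only [LinearMap.lTensor_tmul, TensorProduct.rid_tmul, Module.Basis.coord_apply, TensorProduct.smul_tmul,
        ← TensorProduct.tmul_sum]
      rw [b.sum_repr]
  rw [hsum]
  refine Submodule.sum_mem _ fun i _ => ⟨(⟨_, hcomp i⟩ : Ω) ⊗ₜ[k] b i, ?_⟩
  rfl

end Groth.Agent.S13978
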