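import Groth.Statements.S13981
import Groth.Agent.ArtHull.Versal
import Groth.Agent.ArtHull.General
-- import your own Groth.Agent.* helpers here

set_option autoImplicit false
universe u v
open CategoryTheory
open ArtFun

namespace Groth.Agent.S13981

/-- Let F be a functor on Artinian local Λ-algebras with residue field k (Λ Noetherian, Λ → k finite and
surjective) satisfying (RS) — the comparison map for A₁ ×_A A₂ is bijective whenever A₂ → A is
surjective — and let ξ be a versal family of F over a complete local Noetherian Λ-algebra R with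
residue field k. Then the lifting property defining versality also holds along surjections of
complete local Noetherian algebras: if g : A' → A is such a surjection, η' is a formal element of F
over A' (a compatible system over the truncations A'/m^(n+1)) and φ : R → A is a map under which the
formal element of ξ becomes the pushforward of η' along g, then φ lifts to ψ : R → A' with g ∘ ψ = φ
and with ξ inducing η' along ψ. (The published statement takes Λ complete local Noetherian with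
residue field k; its proof does not use completeness of Λ, and this row assumes only Λ Noetherian
with Λ → k surjective.) -/
theorem result {Λ : Type u} {k : Type u} [CommRing Λ] [Field k]
    [Algebra Λ k] [IsNoetherianRing Λ] [Module.Finite Λ k] (hΛ : Function.Surjective (algebraMap Λ k))
    {F : ArtFun.Art Λ k ⥤ Type v}
    (hRS : ∀ ⦃B A A₁ A₂ : ArtFun.Art Λ k⦄ (p₁ : B ⟶ A₁) (p₂ : B ⟶ A₂) (f₁ : A₁ ⟶ A) (f₂ : A₂ ⟶ A)
        (h : ArtFun.Art.IsFibreProd p₁ p₂ f₁ f₂), Function.Surjective f₂ → Function.Bijective (ArtFun.cmp F h))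
    (R : ArtFun.CRing Λ k) (ξ : ArtFun.Family R.carrier R.res F) (hξ : ArtFun.IsVersal ξ)
    (A' A : ArtFun.CRing Λ k) (g : A'.carrier →ₐ[Λ] A.carrier) (hg : A.res.comp g = A'.res)
    (hgs : Function.Surjective g) (η' : ArtFun.FormalElt F A')
    (φ : R.carrier →ₐ[Λ] A.carrier) (hφ : A.res.comp φ = R.res)
    (hsq : (ξ.along φ hφ).toFormalElt = η'.push g hg) :
    ∃ (ψ : R.carrier →ₐ[Λ] A'.carrier) (hψ : A'.res.comp ψ = R.res),
      g.comp ψ = φ ∧ (ξ.along ψ hψ).toFormalElt = η' := by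
  have hmap : (IsLocalRing.maximalIdeal A'.carrier).map g = IsLocalRing.maximalIdeal A.carrier := by
    refine le_antisymm (Ideal.map_le_iff_le_comap.mpr (ArtFun.CRing.maximalIdeal_le_comap g hg)) fun a ha => ?_
    obtain ⟨b, rfl⟩ := hgs a
    exact Ideal.mem_map_of_mem _ ((ArtFun.CRing.mem_maximalIdeal_iff A' b).2
      ((ArtFun.CRing.res_comp_apply g hg b).symm.trans ((ArtFun.CRing.mem_maximalIdeal_iff A _).1 ha)))
  let G := fun n => ArtFun.CRing.truncMapOfHom g hg n
  let φn : ∀ n, ArtFun.HomSet R.carrier R.res (A.trunc n) := fun n => ⟨(A.truncHom n).1.comp φ, by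
    rw [← AlgHom.comp_assoc, (A.truncHom n).2, hφ]⟩
  have hφn : ∀ n, F.map (G n) (η'.elt n) = ξ.app _ (φn n) := fun n =>
    ((congrArg (fun u => u.elt n) hsq).symm).trans
      (Groth.Agent.ArtHull.app_along_trunc ξ φ hφ n (φn n) rfl)
  have hGs : ∀ n, Function.Surjective (G n) := fun n x => by
    obtain ⟨a, rfl⟩ := Ideal.Quotient.mk_surjective x
    obtain ⟨b, rfl⟩ := hgs a
    exact ⟨Ideal.Quotient.mk _ b, rfl⟩
  have hstep : ∀ n (ψ : ArtFun.HomSet R.carrier R.res (A'.trunc n)),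
      ArtFun.HomSet.map (G n) ψ = φn n ∧ ξ.app _ ψ = η'.elt n →
      ∃ ψ' : ArtFun.HomSet R.carrier R.res (A'.trunc (n + 1)),
        ArtFun.HomSet.map (A'.truncMap n) ψ' = ψ ∧
        (ArtFun.HomSet.map (G (n + 1)) ψ' = φn (n + 1) ∧ ξ.app _ ψ' = η'.elt (n + 1)) := by
    rintro n ψ ⟨hψ₁, hψ₂⟩
    obtain ⟨P, p', p'', hP⟩ := Groth.Agent.ArtHull.exists_fibreProd_of_surjective (G n) (A.truncMap n)
      (Groth.Agent.ArtHull.truncMap_surjective A n)
    obtain ⟨c, hc₁, hc₂⟩ := Groth.Agent.ArtHull.fibreProd_liftHom hP (A'.truncMap n) (G (n + 1))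
      (ArtFun.CRing.truncMapOfHom_truncMap g hg n).symm
    have hcs : Function.Surjective c := fun x => by
      obtain ⟨a, ha⟩ := Ideal.Quotient.mk_surjective (p' x)
      obtain ⟨b, hb⟩ := Ideal.Quotient.mk_surjective (p'' x)
      have hab : g a - b ∈ A.mpow n := by
        have := hP.w_apply x
        rw [← ha, ← hb] at this
        exact Ideal.Quotient.eq.mp this
      rw [ArtFun.CRing.mpow, ← hmap, ← Ideal.map_pow, Ideal.mem_map_iff_of_surjective _ hgs] at hab
      obtain ⟨z, hz, hgz⟩ := hab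
      refine ⟨Ideal.Quotient.mk _ (a - z), hP.inj _ _ ?_ ?_⟩
      · change (c ≫ p') (Ideal.Quotient.mk _ (a - z)) = p' x
        rw [hc₁, ← ha]
        exact Ideal.Quotient.eq.mpr (by rw [sub_sub_cancel_left]; exact neg_mem hz)
      · change (c ≫ p'') (Ideal.Quotient.mk _ (a - z)) = p'' x
        rw [hc₂, ← hb]
        exact congrArg (Ideal.Quotient.mk _) (show g (a - z) = b by rw [map_sub, hgz, sub_sub_cancel])
    obtain ⟨w, hw₁, hw₂⟩ := Groth.Agent.ArtHull.fibreProd_lift hP ψ (φn (n + 1))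
      (hψ₁.trans (Subtype.ext (AlgHom.ext fun _ => rfl)))
    have hw : F.map c (η'.elt (n + 1)) = ξ.app P w := by
      refine (hRS p' p'' (G n) (A.truncMap n) hP (Groth.Agent.ArtHull.truncMap_surjective A n)).1
        ((Groth.Agent.ArtHull.cmp_eq_iff hP).mpr ⟨?_, ?_⟩)
      · rw [Groth.Agent.ArtHull.map_map_apply, hc₁, η'.compat, ← ξ.natural, hw₁, hψ₂]
      · rw [Groth.Agent.ArtHull.map_map_apply, hc₂, hφn, ← ξ.natural, hw₂]
    obtain ⟨ψ', h₁, h₂⟩ := hξ c hcs w _ hw
    refine ⟨ψ', ?_, ?_, h₂⟩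
    · rw [← hw₁, ← h₁, ← hc₁]
      exact Subtype.ext (AlgHom.ext fun _ => rfl)
    · rw [← hw₂, ← h₁, ← hc₂]
      exact Subtype.ext (AlgHom.ext fun _ => rfl)
  obtain ⟨ψ₀, h₀⟩ := hξ (G 0) (hGs 0) (φn 0) (η'.elt 0) (hφn 0)
  choose next hn₁ hn₂ using hstep
  let s : ∀ n, {a : ArtFun.HomSet R.carrier R.res (A'.trunc n) //
      ArtFun.HomSet.map (G n) a = φn n ∧ ξ.app _ a = η'.elt n} := fun n =>
    Nat.rec (motive := fun n => {a : ArtFun.HomSet R.carrier R.res (A'.trunc n) //
      ArtFun.HomSet.map (G n) a = φn n ∧ ξ.app _ a = η'.elt n}) ⟨ψ₀, h₀⟩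
      (fun m p => ⟨next m p.1 p.2, hn₂ m p.1 p.2⟩) n
  obtain ⟨ψ, hψ, hψn⟩ := Groth.Agent.ArtHull.exists_limit_hom A' (fun n => (s n).1)
    fun n => hn₁ n (s n).1 (s n).2
  refine ⟨ψ, hψ, Groth.Agent.ArtHull.hom_ext_trunc _ _ fun n => AlgHom.ext fun r => ?_,
    ArtFun.FormalElt.ext' fun n => ?_⟩
  · refine Eq.trans ?_ (AlgHom.congr_fun (congrArg Subtype.val (s n).2.1) r)
    exact congrArg (G n).toAlgHom (AlgHom.congr_fun (hψn n) r)
  · exact (Groth.Agent.ArtHull.app_along_trunc ξ ψ hψ n (s n).1 (hψn n)).trans (s n).2.2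

end Groth.Agent.S13981
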