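import Groth.Statements.S13991
import Groth.Agent.Devissage.SerreClass

set_option backward.isDefEq.respectTransparency.types false

set_option autoImplicit false
universe u
open CategoryTheory AlgebraicGeometry
open CohGab

namespace Groth.Agent.S13991

/-- Let X be a Noetherian scheme and Z ⊆ X a closed subset. Then Z is irreducible (or empty) if and only
if Coh_Z(X), the coherent O_X-modules supported in Z, is an irreducible Serre subcategory of Coh(X),
i.e. it is not generated as a Serre subcategory by two Serre subcategories properly contained in it: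
whenever J₁, J₂ are Serre classes on coherent modules (middle term of a short exact sequence of
coherent modules belongs iff both outer terms do), both contained in Coh_Z, such that every Serre
class on coherent modules containing J₁ and J₂ contains Coh_Z, then J₁ or J₂ contains Coh_Z.
Consequently the points of X correspond to the irreducible Serre subcategories of finite type other
than the zero subcategory. (The published statement says 'Z is irreducible iff Coh_Z is irreducible'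
and deduces a bijection between the points of X and all irreducible Serre subcategories of finite
type; the zero subcategory Coh_∅ is irreducible in this sense while ∅ is not an irreducible space,
so irreducibility of Z is read here as 'irreducible or empty'. The published statement is also about
coherent sheaves twisted by a class in the second etale cohomology group of the units of the
structure sheaf; this row is its case of the trivial class.) -/
theorem result (X : Scheme.{u}) [IsNoetherian X]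
    (Z : TopologicalSpace.Closeds X) :
    IsPreirreducible (↑Z : Set X) ↔
    ∀ J₁ J₂ : ObjectProperty X.Modules, (∀ S : ShortComplex X.Modules, S.ShortExact → Coh.IsCoh S.X₁ → Coh.IsCoh S.X₂ →
        Coh.IsCoh S.X₃ → (J₁ S.X₂ ↔ J₁ S.X₁ ∧ J₁ S.X₃)) → (∀ S : ShortComplex X.Modules, S.ShortExact → Coh.IsCoh S.X₁ → Coh.IsCoh S.X₂ →
        Coh.IsCoh S.X₃ → (J₂ S.X₂ ↔ J₂ S.X₁ ∧ J₂ S.X₃)) →
      (∀ M : X.Modules, Coh.IsCoh M → J₁ M → CohB1.support M ⊆ (↑Z : Set X)) →
      (∀ M : X.Modules, Coh.IsCoh M → J₂ M → CohB1.support M ⊆ (↑Z : Set X)) →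
      (∀ Q : ObjectProperty X.Modules, (∀ S : ShortComplex X.Modules, S.ShortExact → Coh.IsCoh S.X₁ → Coh.IsCoh S.X₂ →
        Coh.IsCoh S.X₃ → (Q S.X₂ ↔ Q S.X₁ ∧ Q S.X₃)) →
        (∀ M : X.Modules, Coh.IsCoh M → J₁ M → Q M) → (∀ M : X.Modules, Coh.IsCoh M → J₂ M → Q M) →
        ∀ M : X.Modules, Coh.IsCoh M → CohB1.support M ⊆ (↑Z : Set X) → Q M) →
      (∀ M : X.Modules, Coh.IsCoh M → CohB1.support M ⊆ (↑Z : Set X) → J₁ M) ∨
        (∀ M : X.Modules, Coh.IsCoh M → CohB1.support M ⊆ (↑Z : Set X) → J₂ M) := by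
  open Groth.Agent.Devissage Limits in
  refine ⟨fun hZ J₁ J₂ h₁ h₂ s₁ s₂ hgen => ?_, fun h => ?_⟩
  · let T : Set X := {x | ∃ N : X.Modules, Coh.IsCoh N ∧ (J₁ N ∨ J₂ N) ∧ x ∈ CohB1.support N}
    let Q : ObjectProperty X.Modules := fun M =>
      CohB1.support M ⊆ T ∧ ∃ N : X.Modules, Coh.IsCoh N ∧ (J₁ N ∨ J₂ N)
    have hQ : ∀ S : ShortComplex X.Modules, S.ShortExact → Coh.IsCoh S.X₁ → Coh.IsCoh S.X₂ →
        Coh.IsCoh S.X₃ → (Q S.X₂ ↔ Q S.X₁ ∧ Q S.X₃) := fun S hS c₁ c₂ c₃ => by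
      have h := (serre_support T).iff S hS c₁ c₂ c₃
      exact ⟨fun a => ⟨⟨(h.1 a.1).1, a.2⟩, ⟨(h.1 a.1).2, a.2⟩⟩, fun a => ⟨h.2 ⟨a.1.1, a.2.1⟩, a.1.2⟩⟩
    obtain ⟨F, hF, hFZ⟩ := exists_coh_support Z
    obtain ⟨hFT, N, hN, hJN⟩ := hgen Q hQ
      (fun M hM hJ => ⟨fun x hx => ⟨M, hM, Or.inl hJ, hx⟩, M, hM, Or.inl hJ⟩)
      (fun M hM hJ => ⟨fun x hx => ⟨M, hM, Or.inr hJ, hx⟩, M, hM, Or.inr hJ⟩) F hF hFZ.le
    have fin : ∀ M₀ : X.Modules, Coh.IsCoh M₀ → (J₁ M₀ ∨ J₂ M₀) → (↑Z : Set X) ⊆ CohB1.support M₀ →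
        (∀ M : X.Modules, Coh.IsCoh M → CohB1.support M ⊆ (↑Z : Set X) → J₁ M) ∨
          (∀ M : X.Modules, Coh.IsCoh M → CohB1.support M ⊆ (↑Z : Set X) → J₂ M) := by
      rintro M₀ hM₀ (hJ | hJ) hsub
      · exact Or.inl fun M hM hs => (Serre.mk h₁).mem_of_support hM₀ hJ hM (hs.trans hsub)
      · exact Or.inr fun M hM hs => (Serre.mk h₂).mem_of_support hM₀ hJ hM (hs.trans hsub)
    rcases (↑Z : Set X).eq_empty_or_nonempty with he | hne
    · exact fin N hN hJN (he.le.trans (Set.empty_subset _))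
    · obtain ⟨η, hη⟩ := QuasiSober.sober ⟨hne, hZ⟩ Z.2
      obtain ⟨M₀, hM₀, hJ, hx⟩ := hFT (hFZ.ge hη.mem)
      exact fin M₀ hM₀ hJ (hη.def.ge.trans
        (closure_minimal (Set.singleton_subset_iff.2 hx) (Groth.Agent.QCohBase.isClosed_support M₀ hM₀.2)))
  · rw [isPreirreducible_iff_isClosed_union_isClosed]
    intro A B hA hB hAB
    obtain ⟨F, hF, hFZ⟩ := exists_coh_support Z
    obtain ⟨F₁, hF₁, hF₁Z⟩ := exists_coh_support ⟨(↑Z : Set X) ∩ A, Z.2.inter hA⟩
    obtain ⟨F₂, hF₂, hF₂Z⟩ := exists_coh_support ⟨(↑Z : Set X) ∩ B, Z.2.inter hB⟩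
    let T : ShortComplex X.Modules := ShortComplex.mk (biprod.inl : F₁ ⟶ F₁ ⊞ F₂) biprod.snd (by simp)
    have hT : T.ShortExact :=
      ShortComplex.Splitting.shortExact
        { r := biprod.fst, s := biprod.inr, f_r := by simp [T], s_g := by simp [T],
          id := by simp [T, biprod.total] }
    have hT₂ : Coh.IsCoh T.X₂ := Groth.Agent.CompDerived.isCoh_extension hT hF₁ hF₂
    rcases h (fun M => CohB1.support M ⊆ (↑Z : Set X) ∩ A) (fun M => CohB1.support M ⊆ (↑Z : Set X) ∩ B)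
      (serre_support _).iff (serre_support _).iff (fun M _ hs => hs.trans Set.inter_subset_left)
      (fun M _ hs => hs.trans Set.inter_subset_left) (fun Q hQ hQ₁ hQ₂ M hM hs => by
        refine (Serre.mk hQ).mem_of_support hT₂
          ((hQ T hT hF₁ hT₂ hF₂).2 ⟨hQ₁ F₁ hF₁ hF₁Z.le, hQ₂ F₂ hF₂ hF₂Z.le⟩) hM ?_
        rw [Groth.Agent.QCohBase.support_of_shortExact hT hF₁.1 hT₂.1 hF₂.1, hF₁Z, hF₂Z]
        intro x hx
        rcases hAB (hs hx) with hx' | hx'
        · exact Or.inl ⟨hs hx, hx'⟩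
        · exact Or.inr ⟨hs hx, hx'⟩) with h' | h'
    · exact Or.inl fun x hx => (h' F hF hFZ.le (hFZ.ge hx)).2
    · exact Or.inr fun x hx => (h' F hF hFZ.le (hFZ.ge hx)).2

end Groth.Agent.S13991
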