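import Groth.Statements.S13995
import Mathlib

set_option autoImplicit false
universe u
open CAlg

namespace Groth.Agent.S13995

/-- Let R be a reduced Noetherian ring, M a finitely generated R-module all of whose associated primes
are minimal primes of R and whose localization at each minimal prime p is one-dimensional over the
field R_p, and let g : M → Q be a surjection onto a finitely generated R-module Q all of whose
associated primes are minimal primes of R. Then the kernel of g is the intersection, over the
minimal primes p of R lying in the support of Q, of the kernels of the localization maps M → M_p.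
(The published statement is for a torsion-free coherent sheaf F of uniform rank one on a reduced
connected projective curve over a characteristic-zero algebraically closed field: its non-zero
torsion-free quotients are exactly the maximal torsion-free quotients F_D of the restrictions of F
to subcurves D; this row is the corresponding statement for modules over a reduced Noetherian ring,
a subcurve being a set of minimal primes, and identifies each torsion-free quotient with F_D for D
the set of generic points of its support.) -/
theorem result (R : Type u) [CommRing R] [IsNoetherianRing R] [IsReduced R] (M : Type u) [AddCommGroup M] [Module R M] [Module.Finite R M] (hM : associatedPrimes R M ⊆ minimalPrimes R) (hrk : ∀ p : PrimeSpectrum R, p.asIdeal ∈ minimalPrimes R → Module.finrank (Localization.AtPrime p.asIdeal) (LocalizedModule p.asIdeal.primeCompl M) = 1) (Q : Type u) [AddCommGroup Q] [Module R Q] [Module.Finite R Q] (hQ : associatedPrimes R Q ⊆ minimalPrimes R) (g : M →ₗ[R] Q) (hg : Function.Surjective g) : LinearMap.ker g = ⨅ p ∈ {p : PrimeSpectrum R | p.asIdeal ∈ minimalPrimes R ∧ p ∈ Module.support R Q}, LinearMap.ker (LocalizedModule.mkLinearMap p.asIdeal.primeCompl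 M) := by
  classical
  refine le_antisymm ?_ ?_
  · refine le_iInf₂ fun p hp x hx => ?_
    obtain ⟨hpm, hps⟩ := hp
    let S := p.asIdeal.primeCompl
    let L := Localization.AtPrime p.asIdeal
    haveI := Fact.mk hpm
    haveI : IsReduced L := inferInstance
    have hfld : IsField L := by
      rw [IsLocalRing.isField_iff_maximalIdeal_eq, eq_bot_iff]
      intro y hy
      have h : y ∈ nilradical L := by
        rw [nilradical_eq_sInf, Ideal.mem_sInf]
        intro Q hQ
        haveI : Q.IsPrime := hQ
        haveI : (Q.comap (algebraMap R L)).IsPrime := Ideal.IsPrime.comap _
        have hle : Q.comap (algebraMap R L) ≤ p.asIdeal :=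
          fun r hr => by
            by_contra hrp
            exact hQ.ne_top (Ideal.eq_top_of_isUnit_mem _ hr (IsLocalization.map_units L (⟨r, hrp⟩ : S)))
        have he : Q.comap (algebraMap R L) = p.asIdeal :=
          le_antisymm hle (hpm.2 ⟨inferInstance, bot_le⟩ hle)
        rw [← IsLocalization.map_under S L Q]
        change y ∈ Ideal.map _ (Q.comap (algebraMap R L))
        rw [he, IsLocalization.AtPrime.map_eq_maximalIdeal]
        exact hy
      rwa [nilradical_eq_zero] at h
    letI : Field L := hfld.toField
    let g' : LocalizedModule S M →ₗ[L] LocalizedModule S Q := LocalizedModule.map S g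
    have hg' : Function.Surjective g' := LocalizedModule.map_surjective S g hg
    haveI : Nontrivial (LocalizedModule S Q) := Module.mem_support_iff.1 hps
    haveI : Module.Finite L (LocalizedModule S M) :=
      Module.Finite.of_isLocalizedModule S (LocalizedModule.mkLinearMap S M)
    haveI : Module.Finite L (LocalizedModule S Q) :=
      Module.Finite.of_isLocalizedModule S (LocalizedModule.mkLinearMap S Q)
    have h1 : Module.finrank L (LocalizedModule S M) = 1 := hrk p hpm
    have h2 := LinearMap.finrank_range_add_finrank_ker g'
    rw [LinearMap.range_eq_top.2 hg', finrank_top, h1] at h2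
    have h3 : 0 < Module.finrank L (LocalizedModule S Q) := Module.finrank_pos
    have hk : LinearMap.ker g' = ⊥ := Submodule.finrank_eq_zero.1 (by omega)
    rw [LinearMap.mem_ker]
    refine (Submodule.mem_bot L).1 (hk ▸ LinearMap.mem_ker.2 ?_)
    rw [LocalizedModule.mkLinearMap_apply]
    show LocalizedModule.map S g (LocalizedModule.mk x 1) = 0
    rw [LocalizedModule.map_mk, show g x = 0 from hx, LocalizedModule.zero_mk]
  · intro x hx
    rw [LinearMap.mem_ker]
    by_contra hne
    obtain ⟨P, hP, hle⟩ := exists_le_isAssociatedPrime_of_isNoetherianRing R (g x) hne
    have hPm := hQ hP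
    haveI := hP.isPrime
    let p : PrimeSpectrum R := ⟨P, hP.isPrime⟩
    have hps : p ∈ Module.support R Q := by
      rw [Module.mem_support_iff_of_finite]
      intro r hr
      refine hle (Submodule.mem_colon_singleton.2 ?_)
      rw [Submodule.mem_bot]
      exact Module.mem_annihilator.1 hr (g x)
    rw [Submodule.mem_iInf] at hx
    have := hx p
    rw [Submodule.mem_iInf] at this
    have h := this ⟨hPm, hps⟩
    rw [LinearMap.mem_ker, IsLocalizedModule.eq_zero_iff p.asIdeal.primeCompl] at h
    obtain ⟨s, hs⟩ := h
    refine s.2 (hle (Submodule.mem_colon_singleton.2 ?_))
    rw [Submodule.mem_bot, ← map_smul, ← Submonoid.smul_def, hs, map_zero]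

end Groth.Agent.S13995
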