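import Groth.Statements.S13996
import Groth.Agent.CAlgT1.Misc5
-- import your own Groth.Agent.* helpers here

set_option autoImplicit false
universe u
open CAlg

namespace Groth.Agent.S13996

/-- Let R be a reduced Noetherian local ring of Krull dimension one with maximal ideal m, and M a
non-zero finitely generated R-module. Then M is torsion-free in the sense that no element of m which
is a non-zero-divisor on R is a zero-divisor on M, if and only if M has depth one, i.e. some element
of m is a non-zero-divisor on M. (The published statement is for a non-zero coherent sheaf F on a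
connected reduced projective curve over a characteristic-zero algebraically closed field and asserts
the equivalence of: F torsion-free in the above sense at every closed point; F pure of dimension
one; depth of F_p equal to one at every closed point p. This row is the equivalence of the first and
third conditions at a single closed point p with F_p ≠ 0; at points outside the support the third
condition as published cannot hold, so the row assumes the stalk non-zero.) -/
theorem result (R : Type u) [CommRing R] [IsLocalRing R] [IsNoetherianRing R] [IsReduced R] (hdim : ringKrullDim R = 1) (M : Type u) [AddCommGroup M] [Module R M] [Module.Finite R M] [Nontrivial M] : (∀ r : R, r ∈ IsLocalRing.maximalIdeal R → IsSMulRegular R r → IsSMulRegular M r) ↔ (∃ x : R, x ∈ IsLocalRing.maximalIdeal R ∧ IsSMulRegular M x) := by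
  classical
  have hh : (IsLocalRing.maximalIdeal R).height = 1 := by
    have := IsLocalRing.maximalIdeal_height_eq_ringKrullDim (R := R)
    rw [hdim] at this
    exact WithBot.coe_inj.1 (this.trans WithBot.coe_one.symm)
  have hmax : ∀ (r : R), IsSMulRegular R r → ∀ (P : Ideal R) [P.IsPrime], r ∈ P →
      P = IsLocalRing.maximalIdeal R := by
    intro r hr P _ hrP
    by_contra hne
    have hlt : P < IsLocalRing.maximalIdeal R :=
      lt_of_le_of_ne (IsLocalRing.le_maximalIdeal Ideal.IsPrime.ne_top') hne
    have h1 : 1 ≤ P.height := by
      refine le_trans (Ideal.one_le_height_span_singleton_of_mem_nonZeroDivisors ?_)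
        (Ideal.height_mono ((Ideal.span_singleton_le_iff_mem _).2 hrP))
      exact mem_nonZeroDivisors_iff_right.2 fun z hz =>
        hr (show r • z = r • 0 by simpa [mul_comm] using hz)
    have h2 := Ideal.height_add_one_le_of_lt_of_isPrime hlt
    rw [hh] at h2
    have h3 : P.height ≠ ⊤ := fun h => by simp [h] at h2
    obtain ⟨k, hk⟩ := ENat.ne_top_iff_exists.1 h3
    rw [← hk] at h1 h2
    norm_cast at h1 h2
    omega
  constructor
  · intro h
    obtain ⟨r, hr, hrP⟩ : ∃ r ∈ IsLocalRing.maximalIdeal R, ∀ P ∈ minimalPrimes R, r ∉ P := by
      by_contra! hc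
      have hsub : ((IsLocalRing.maximalIdeal R : Ideal R) : Set R) ⊆
          ⋃ P ∈ ((minimalPrimes.finite_of_isNoetherianRing R).toFinset : Set (Ideal R)), (P : Set R) := fun r hr => by
        obtain ⟨P, hP, hrP⟩ := hc r hr
        exact Set.mem_biUnion (by simpa using hP) hrP
      obtain ⟨P, hP, hle⟩ := (Ideal.subset_union_prime (f := id) ⊥ ⊥
        (fun i hi _ _ => Ideal.minimalPrimes_isPrime ((Set.Finite.mem_toFinset _).1 hi))).1 hsub
      have hP' : P ∈ minimalPrimes R := (Set.Finite.mem_toFinset _).1 hP
      haveI := Ideal.minimalPrimes_isPrime hP'
      have h0 : P.height = 0 := Ideal.height_eq_zero_iff.2 hP'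
      have := (Ideal.height_mono hle).trans h0.le
      rw [hh] at this
      simp at this
    have hnzd := Groth.Agent.CAlgT1.mem_nonZeroDivisors_of_forall_notMem hrP
    have hreg : IsSMulRegular R r := fun a b hab => by
      have : (a - b) * r = 0 := by
        simp only [smul_eq_mul] at hab
        linear_combination hab
      exact sub_eq_zero.1 (mem_nonZeroDivisors_iff_right.1 hnzd _ this)
    exact ⟨r, hr, h r hr hreg⟩
  · rintro ⟨x, hx, hxM⟩ r hr hrR
    have hrad : x ∈ (Ideal.span {r}).radical := by
      rw [Ideal.radical_eq_sInf, Submodule.mem_sInf]
      rintro P ⟨hrP, hP⟩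
      haveI : Ideal.IsPrime P := hP
      rw [hmax r hrR P (hrP (Ideal.subset_span rfl))]
      exact hx
    obtain ⟨n, hn⟩ := hrad
    obtain ⟨c, hc⟩ := Ideal.mem_span_singleton'.1 hn
    intro a b hab
    refine hxM.pow n ?_
    show x ^ n • a = x ^ n • b
    rw [← hc, mul_smul, mul_smul]
    exact congrArg (c • ·) hab

end Groth.Agent.S13996
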