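import Groth.Statements.S13998
import Groth.Agent.NilLift.FiniteTypeSource
import Groth.Agent.FlatBasics.DeformFlat
import Groth.Agent.FpqcDescent.IdealComap

set_option autoImplicit false
set_option linter.style.haveILetI false
universe u
open FlatMor

namespace Groth.Agent.S13998

open AlgebraicGeometry CategoryTheory in
/-- Consider a cartesian square of schemes F₀ ≫ j = i ≫ F (so Y₀ = Y ×_X X₀) in which i : Y₀ ⟶ Y and j :
X₀ ⟶ X are closed immersions surjective on points whose ideals are locally nilpotent (nilpotent on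
every affine open), and suppose moreover that the ideal of j is of finite type (finitely generated
on every affine open of X). Then F : Y ⟶ X is finite if and only if F₀ : Y₀ ⟶ X₀ is finite. -/
theorem result {X X₀ Y Y₀ : Scheme.{u}}
    (F : Y ⟶ X) (F₀ : Y₀ ⟶ X₀) (i : Y₀ ⟶ Y) (j : X₀ ⟶ X)
    (hi : MoreMor.IsThickening i) (hj : MoreMor.IsThickening j)
    (hinil : ∀ U : Y.affineOpens, IsNilpotent (i.ker.ideal U))
    (hjnil : ∀ U : X.affineOpens, IsNilpotent (j.ker.ideal U))
    (hfg : ∀ U : X.affineOpens, (j.ker.ideal U).FG)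
    (hc : IsPullback F₀ i j F) :
    IsFinite F ↔ IsFinite F₀ := by
  haveI := hi.1
  haveI := hj.1
  haveI := hi.2
  haveI := hj.2
  refine ⟨fun h ↦ MorphismProperty.of_isPullback hc.flip h, fun h ↦ ?_⟩
  have hker : i.ker = j.ker.comap F := by
    rw [← hc.flip.isoPullback_hom_fst, Scheme.Hom.ker_comp_of_isIso,
      Scheme.IdealSheafData.ker_fst_of_isClosedImmersion]
  haveI : LocallyOfFiniteType F :=
    Groth.Agent.NilLift.locallyOfFiniteType_of_thickening F F₀ i j hc.w hinil fun U V e ↦ by
      rw [hker, Groth.Agent.FpqcDescent.ideal_comap j.ker F V U e]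
      exact (hfg V).map _
  exact Groth.Agent.FlatBasics.isFinite_of_thickening hc.flip.flip.flip

end Groth.Agent.S13998
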