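import Groth.Statements.S14000
import Mathlib
import Groth.Agent.FlatComplex.Elementwise

set_option autoImplicit false
universe u
open Perf


namespace Groth.Agent.S14000

set_option backward.isDefEq.respectTransparency false
set_option backward.defeqAttrib.useBackward true

open CategoryTheory CategoryTheory.Limits Groth.Agent.FlatComplex

section
variable {S : Type u} [CommRing S] [IsLocalRing S] (M : ℤ → Type u) [∀ i, AddCommGroup (M i)] [∀ i, Module S (M i)]
  [∀ i, Module.Finite S (M i)] [∀ i, Module.Projective S (M i)] (d : ∀ i, M i →ₗ[S] M (i + 1))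

lemma step (i : ℤ) (he : Function.Exact (d i) (d (i + 1))) (hR : Module.Free S (LinearMap.range (d (i + 1)))) :
    Module.Free S (LinearMap.range (d i)) ∧
      Module.finrank S (M (i + 1)) = Module.finrank S (LinearMap.range (d i)) + Module.finrank S (LinearMap.range (d (i + 1))) := by
  have hk : LinearMap.range (d i) = LinearMap.ker (d (i + 1)) := (LinearMap.exact_iff.mp he).symm
  obtain ⟨g, hg⟩ := Module.projective_lifting_property (d (i + 1)).rangeRestrict LinearMap.id (d (i + 1)).surjective_rangeRestrict
  have hex : Function.Exact (LinearMap.range (d i)).subtype (d (i + 1)).rangeRestrict := by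
    rw [LinearMap.exact_iff, LinearMap.ker_rangeRestrict, Submodule.range_subtype, hk]
  let e := (hex.splitSurjectiveEquiv Subtype.val_injective ⟨g, hg⟩).1
  have : Module.Projective S (↥(LinearMap.range (d i)) × ↥(LinearMap.range (d (i + 1)))) := Module.Projective.of_equiv e
  have : Module.Projective S (LinearMap.range (d i)) :=
    Module.Projective.of_split (LinearMap.inl S _ (LinearMap.range (d (i + 1)))) (LinearMap.fst S _ _) (by ext; rfl)
  have hf : Module.Free S (LinearMap.range (d i)) := Module.free_of_flat_of_isLocalRing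
  exact ⟨hf, e.finrank_eq.trans (Module.finrank_prod)⟩

lemma euler (N : ℕ) (hv : ∀ i : ℤ, N < i.natAbs → Subsingleton (M i)) (he : ∀ i, Function.Exact (d i) (d (i + 1))) :
    ∑ i ∈ Finset.Icc (-(N : ℤ)) N, ((i.negOnePow : ℤˣ) : ℤ) * (Module.finrank S (M i) : ℤ) = 0 := by
  have htop : ∀ i : ℤ, (N : ℤ) ≤ i → Subsingleton (LinearMap.range (d i)) := fun i hi => by
    have := hv (i + 1) (by omega); infer_instance
  have hfree : ∀ (k : ℕ) (i : ℤ), (N : ℤ) ≤ i + k → Module.Free S (LinearMap.range (d i)) := by
    intro k
    induction k with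
    | zero => intro i hi; have := htop i (by omega); exact Module.Free.of_subsingleton S _
    | succ k ih => intro i hi; exact (step M d i (he i) (ih (i + 1) (by omega))).1
  let r : ℤ → ℤ := fun i => Module.finrank S (LinearMap.range (d i))
  have hr : ∀ i, (Module.finrank S (M (i + 1)) : ℤ) = r i + r (i + 1) := fun i => by
    have h := (step M d i (he i) (hfree ((N : ℤ) - (i + 1)).toNat (i + 1) (by omega))).2
    simp only [r, h, Nat.cast_add]
  have hz : ∀ i : ℤ, i < -(N : ℤ) ∨ (N : ℤ) ≤ i → r i = 0 := fun i hi => by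
    rcases hi with hi | hi
    · have := hv i (by omega)
      have : Subsingleton (LinearMap.range (d i)) := ⟨fun a b => by
        obtain ⟨x, hx⟩ := a.2; obtain ⟨y, hy⟩ := b.2
        exact Subtype.ext (by rw [← hx, ← hy, Subsingleton.elim x y])⟩
      simp [r, Module.finrank_zero_of_subsingleton]
    · have := htop i hi
      simp [r, Module.finrank_zero_of_subsingleton]
  let F : ℤ → ℤ := fun i => ((i.negOnePow : ℤˣ) : ℤ) * r i
  have key : ∀ (n : ℕ) (a : ℤ), ∑ i ∈ Finset.Ico a (a + n), ((i.negOnePow : ℤˣ) : ℤ) * (Module.finrank S (M i) : ℤ) = F (a + n - 1) - F (a - 1) := by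
    intro n a
    induction n with
    | zero => simp
    | succ n ih =>
      have h1 : Finset.Ico a (a + ((n + 1 : ℕ) : ℤ)) = insert (a + n) (Finset.Ico a (a + n)) := by
        ext i; simp only [Finset.mem_Ico, Finset.mem_insert]; omega
      obtain ⟨j, hj⟩ : ∃ j, a + n = j + 1 := ⟨a + n - 1, by ring⟩
      have hsj : (((j + 1).negOnePow : ℤˣ) : ℤ) = -((j.negOnePow : ℤˣ) : ℤ) := by rw [Int.negOnePow_succ]; simp
      rw [h1, Finset.sum_insert (by simp), ih, hj, hr, show a + ((n + 1 : ℕ) : ℤ) - 1 = j + 1 by push_cast; omega,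
        show j + 1 - 1 = j by ring]
      simp only [F, hsj]
      ring
  have h2 : Finset.Icc (-(N : ℤ)) N = Finset.Ico (-(N : ℤ)) (-(N : ℤ) + ((2 * N + 1 : ℕ) : ℤ)) := by
    ext i; simp only [Finset.mem_Icc, Finset.mem_Ico]; omega
  rw [h2, key]
  simp only [F, hz _ (Or.inr (show (N : ℤ) ≤ -(N : ℤ) + ((2 * N + 1 : ℕ) : ℤ) - 1 by omega)), hz _ (Or.inl (show -(N : ℤ) - 1 < -(N : ℤ) by omega))]
  ring

end

section
variable {A : Type u} [CommRing A]

lemma cls_smul (T : ShortComplex (ModuleCat.{u} A)) (s : A) (x : T.X₂) (hx : T.g x = 0) (hx' : T.g (s • x) = 0) :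
    cls T (s • x) hx' = s • cls T x hx := by
  unfold cls
  rw [show (⟨s • x, hx'⟩ : LinearMap.ker T.g.hom) = s • ⟨x, hx⟩ from rfl, map_smul, map_smul]

lemma exists_smul_eq (T : ShortComplex (ModuleCat.{u} A)) (q : Ideal A) [q.IsPrime]
    (h : Subsingleton (LocalizedModule q.primeCompl T.homology)) (x : T.X₂) (hx : T.g x = 0) :
    ∃ s : q.primeCompl, ∃ w, s.1 • x = T.f w := by
  have h0 : LocalizedModule.mkLinearMap q.primeCompl T.homology (cls T x hx) = LocalizedModule.mkLinearMap q.primeCompl T.homology 0 :=
    Subsingleton.elim _ _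
  obtain ⟨s, hs⟩ := (IsLocalizedModule.eq_iff_exists q.primeCompl (LocalizedModule.mkLinearMap q.primeCompl T.homology)).mp h0
  have hsx : T.g (s.1 • x) = 0 := by rw [map_smul, hx, smul_zero]
  have hc : cls T (s.1 • x) hsx = cls T ((0 : A) • x) (by rw [zero_smul, map_zero]) := by
    rw [cls_smul T s.1 x hx, cls_smul T (0 : A) x hx, zero_smul]
    exact hs.trans (smul_zero _)
  obtain ⟨w, hw⟩ := (cls_eq_cls_iff _ _ _ _).mp hc
  exact ⟨s, w, by simpa using hw⟩

end

open CategoryTheory CategoryTheory.Limits in
/-- Let A be a commutative ring and P a strictly perfect complex over A, that is a cochain complex of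
finitely generated projective A-modules which is zero outside a finite set s of degrees. Suppose the
cohomological support of P has positive codimension: for every minimal prime q of A and every degree
i the localization at q of the cohomology module H^i(P) is zero. Then the Euler characteristic of P
vanishes identically: at every prime of A the alternating sum over i ∈ s of the ranks of the P^i is
zero. -/
theorem result {A : Type u} [CommRing A]
    (P : CochainComplex (ModuleCat.{u} A) ℤ) (s : Finset ℤ)
    (hP : ∀ i : ℤ, Module.Finite A (P.X i) ∧ Module.Projective A (P.X i))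
    (hs : ∀ i : ℤ, i ∉ s → IsZero (P.X i))
    (hsupp : ∀ q : PrimeSpectrum A, q.asIdeal ∈ minimalPrimes A →
      ∀ i : ℤ, Subsingleton (LocalizedModule q.asIdeal.primeCompl (P.homology i))) :
    ∀ x : PrimeSpectrum A,
      (s.sum fun i => ((i.negOnePow : ℤˣ) : ℤ) * (Module.rankAtStalk (R := A) (P.X i) x : ℤ)) = 0 := by
  classical
  intro x
  obtain ⟨q0, hq0, hqx⟩ := Ideal.exists_minimalPrimes_le (show (⊥ : Ideal A) ≤ x.asIdeal from bot_le)
  let q : PrimeSpectrum A := ⟨q0, hq0.1.1⟩
  have hq : q.asIdeal ∈ minimalPrimes A := hq0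
  have : q.asIdeal.IsPrime := q.isPrime
  have : q0.IsPrime := q.isPrime
  obtain ⟨N, hN⟩ : ∃ N : ℕ, ∀ i ∈ s, i.natAbs ≤ N := ⟨s.sup Int.natAbs, fun i hi => Finset.le_sup hi⟩
  have hout : ∀ i, i ∉ s → Subsingleton (P.X i) := fun i hi => ModuleCat.subsingleton_of_isZero (hs i hi)
  have := fun i => (hP i).1
  have := fun i => (hP i).2
  rw [Finset.sum_congr rfl fun i _ => by rw [← Module.rankAtStalk_eq_of_le_of_finite_of_flat (R := A) (P.X i) (show q ≤ x from hqx)],
    Finset.sum_subset (s₂ := Finset.Icc (-(N : ℤ)) N) (fun i hi => Finset.mem_Icc.mpr (by have := hN i hi; omega)) fun i _ hi => by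
      have := hout i hi
      rw [Module.rankAtStalk_eq_zero_of_subsingleton]; simp]
  let S := Localization.AtPrime q.asIdeal
  let d : ∀ i, LocalizedModule q.asIdeal.primeCompl (P.X i) →ₗ[S] LocalizedModule q.asIdeal.primeCompl (P.X (i + 1)) :=
    fun i => LocalizedModule.map q.asIdeal.primeCompl (P.d i (i + 1)).hom
  refine euler (fun i => LocalizedModule q.asIdeal.primeCompl (P.X i)) d N (fun i hi => ?_) fun i => ?_
  · have := hout i (fun h => by have := hN i h; omega)
    exact ⟨fun a b => by
      induction a, b using LocalizedModule.induction_on₂ with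
      | h m n u v => exact LocalizedModule.mk_eq.mpr ⟨1, Subsingleton.elim _ _⟩⟩
  · intro y
    induction y using LocalizedModule.induction_on with
    | h m t =>
      constructor
      · intro h
        replace h : LocalizedModule.mk ((P.d (i + 1) (i + 1 + 1)).hom m) t = 0 := (LocalizedModule.map_mk _ _ _ _).symm.trans h
        rw [← LocalizedModule.zero_mk t, LocalizedModule.mk_eq] at h
        obtain ⟨u, hu⟩ := h
        have hg : (P.sc' i (i + 1) (i + 1 + 1)).g ((u.1 * t.1) • m) = 0 := by
          change (P.d (i + 1) (i + 1 + 1)).hom ((u.1 * t.1) • m) = 0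
          rw [map_smul, mul_smul]
          simpa [Submonoid.smul_def] using hu
        have hH : Subsingleton (LocalizedModule q.asIdeal.primeCompl (P.sc' i (i + 1) (i + 1 + 1)).homology) := by
          have e : P.homology (i + 1) ≅ (P.sc' i (i + 1) (i + 1 + 1)).homology :=
            ShortComplex.homologyMapIso (P.isoSc' i (i + 1) (i + 1 + 1) (by simp) (by simp))
          have := hsupp q hq (i + 1)
          exact Function.Surjective.subsingleton (LocalizedModule.map_surjective q.asIdeal.primeCompl e.toLinearEquiv.toLinearMap e.toLinearEquiv.surjective)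
        obtain ⟨v, w, hw⟩ := exists_smul_eq _ q.asIdeal hH _ hg
        refine ⟨LocalizedModule.mk w (v * (u * t) * t), ?_⟩
        refine (LocalizedModule.map_mk _ _ _ _).trans ?_
        rw [LocalizedModule.mk_eq]
        refine ⟨1, ?_⟩
        simp only [Submonoid.smul_def, Submonoid.coe_one, one_smul, Submonoid.coe_mul]
        rw [show (P.d i (i + 1)).hom w = v.1 • (u.1 * t.1) • m from hw.symm, ← mul_smul, ← mul_smul]
        congr 1; ring
      · rintro ⟨z, hz⟩
        rw [← hz]
        clear hz
        induction z using LocalizedModule.induction_on with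
        | h n v =>
          refine ((congrArg _ (LocalizedModule.map_mk _ _ _ _)).trans (LocalizedModule.map_mk _ _ _ _)).trans ?_
          rw [show (P.d (i + 1) (i + 1 + 1)).hom ((P.d i (i + 1)).hom n) = 0 from ConcreteCategory.congr_hom (P.d_comp_d i (i + 1) (i + 1 + 1)) n, LocalizedModule.zero_mk]

end Groth.Agent.S14000
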