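import Groth.Statements.S14002
import Groth.Agent.FlatCrit.Basic

set_option autoImplicit false
universe u
open CAlg

namespace Groth.Agent.S14002

open TensorProduct in
/-- Flatness of an adic morphism of locally Noetherian formal schemes is detected on the truncations.
Let B → A be a homomorphism of Noetherian rings and J an ideal of B such that A is adically
separated and complete with respect to the extended ideal JA. Then A is a flat B-module if and only
if for every n ≥ 1 the base change (B/Jⁿ) ⊗_B A = A/JⁿA is a flat (B/Jⁿ)-module. The ring B is not
assumed separated or complete for the J-adic topology. (The published statement is about an adic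
morphism of locally Noetherian formal schemes, so that both rings are adic there; the criterion
holds without that assumption on B.) -/
theorem result (B A : Type u) [CommRing B] [CommRing A]
    [IsNoetherianRing B] [IsNoetherianRing A] [Algebra B A] (J : Ideal B)
    [IsAdicComplete (J.map (algebraMap B A)) A] :
    Module.Flat B A ↔ ∀ n : ℕ, 0 < n → Module.Flat (B ⧸ J ^ n) ((B ⧸ J ^ n) ⊗[B] A) := by
  refine ⟨fun h n _ => inferInstance, fun h => ?_⟩
  refine Groth.Agent.FlatCrit.flat_of_lTensor_injective_mod_pow (S := A) (I := J)
    (IsAdicComplete.le_jacobson_bot _) fun n N' => ?_
  rcases Nat.eq_zero_or_pos n with rfl | hn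
  · haveI : Subsingleton (B ⧸ J ^ 0) := Ideal.Quotient.subsingleton_iff.2 (by simp)
    exact Groth.Agent.FlatCrit.lTensor_injective_of_flat_quotient_pow 0 N'
  · haveI := h n hn
    exact Groth.Agent.FlatCrit.lTensor_injective_of_flat_quotient_pow n N'

end Groth.Agent.S14002
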