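import Groth.Statements.S14003
import Groth.Agent.KZeroDb.Coherent
import Groth.Agent.Devissage.TwoThree

set_option autoImplicit false
set_option linter.style.haveILetI false
universe u
open CategoryTheory AlgebraicGeometry
open KZero

namespace Groth.Agent.S14003

/-- Let X be a Noetherian scheme and Y' a closed subset; write K_0 for the Grothendieck group of the
abelian category of coherent O_X-modules with support in Y' (free abelian group on its objects
modulo the relations of short exact sequences). Let (F_a) be a family of such modules such that for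
every irreducible closed subset Z ⊆ Y' with generic point ζ there is an index a with the support of
F_a contained in Z and the stalk of F_a at ζ of length one over the local ring (a one-dimensional
vector space over the residue field). Then the classes of the F_a generate K_0. (The published
statement omits the condition that the support of F_a lie in Z; without it the claim fails already
for the spectrum of a product of two fields, where the modules k_1 ⊕ k_2 ⊕ k_2 and k_1 ⊕ k_1 ⊕ k_2
have one-dimensional stalks at the two points but their classes generate a subgroup of index 3 in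
K_0 = ℤ².) -/
theorem result (X : Scheme.{u}) [IsNoetherian X]
    (Y' : Set X) (hY' : IsClosed Y') {ι : Type u} (F : ι → X.Modules)
    (hF : ∀ a : ι, Coh.IsCoh (F a) ∧ CohB1.support (F a) ⊆ Y')
    (hgen : ∀ (Z : Set X), IsClosed Z → IsIrreducible Z → Z ⊆ Y' → ∀ y : X, closure ({y} : Set X) = Z →
      ∃ a : ι, CohB1.support (F a) ⊆ Z ∧ Module.length (X.presheaf.stalk y) ((F a).presheaf.stalk y) = 1) :
    AddSubgroup.closure (Set.range fun a : ι =>
        KZero.clSub (fun G : X.Modules => Coh.IsCoh G ∧ CohB1.support G ⊆ Y') (F a)) = ⊤ := by
  haveI : IsLocallyNoetherian X := IsNoetherian.toIsLocallyNoetherian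
  let Q : ObjectProperty X.Modules := fun G => Coh.IsCoh G ∧ CohB1.support G ⊆ Y'
  let H := AddSubgroup.closure (Set.range fun a : ι => KZero.clSub Q (F a))
  let R : X.Modules → Prop := fun M => Q M → KZero.clSub Q M ∈ H
  have hQ := Groth.Agent.KZeroDb.good_coh_supp (X := X) Y'
  haveI : Q.IsClosedUnderIsomorphisms :=
    inferInstanceAs (ObjectProperty.IsClosedUnderIsomorphisms (fun M : X.Modules => Coh.IsCoh M ∧ CohB1.support M ⊆ Y'))
  have h2 : Groth.Agent.Devissage.Two R Y' := by
    refine ⟨fun M N ⟨e⟩ hM hN => ?_, fun M hM _ => ?_, fun S hS h₁ h₂ h₃ hs => ?_⟩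
    · have hMQ : Q M := Q.prop_of_iso e.symm hN
      have hz := hQ.zero (Limits.isZero_cokernel_of_epi e.hom)
      have := Groth.Agent.KZeroDb.cl_ses (P := Q) _ (Groth.Agent.Devissage.ses e.hom) hMQ hN hz
      dsimp only at this
      rw [this, hQ.cl_zero (Limits.isZero_cokernel_of_epi e.hom), add_zero]
      exact hM hMQ
    · rw [hQ.cl_zero hM]
      exact H.zero_mem
    · have hsu := Groth.Agent.QCohBase.support_of_shortExact hS h₁.1 h₂.1 h₃.1
      have q1 : Q S.X₁ := ⟨h₁, (Set.subset_union_left.trans_eq hsu.symm).trans hs⟩
      have q3 : Q S.X₃ := ⟨h₃, (Set.subset_union_right.trans_eq hsu.symm).trans hs⟩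
      have q2 : Q S.X₂ := ⟨h₂, hs⟩
      have e := Groth.Agent.KZeroDb.cl_ses S hS q1 q2 q3
      refine ⟨fun a b _ => ?_, fun a b _ => ?_, fun b c _ => ?_⟩
      · have := b q2
        rw [e] at this
        exact (AddSubgroup.add_mem_cancel_left _ (a q1)).1 this
      · rw [e]
        exact H.add_mem (a q1) (b q3)
      · have := b q2
        rw [e] at this
        exact (AddSubgroup.add_mem_cancel_right _ (c q3)).1 this
  have hall : ∀ M : X.Modules, Q M → KZero.clSub Q M ∈ H := fun M hM =>
    Groth.Agent.Devissage.two_induction (P := R) hY' h2 (fun ξ hξ small N hN hNs => by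
      have hT : closure ({ξ} : Set X) ⊆ Y' := closure_minimal (Set.singleton_subset_iff.2 hξ) hY'
      have hT2 : Groth.Agent.Devissage.Two R (closure {ξ}) :=
        ⟨h2.iso, h2.zero, fun S hS a b c hs => h2.two S hS a b c (hs.trans hT)⟩
      obtain ⟨a, ha, hlen⟩ := hgen (closure {ξ}) isClosed_closure isIrreducible_singleton.closure hT ξ rfl
      exact hT2.of_simple isClosed_closure rfl small (F a) (hF a).1 ha (Module.length_eq_one_iff.1 hlen)
        (fun _ => AddSubgroup.subset_closure ⟨a, rfl⟩) N hN hNs) M hM.1 hM.2 hM
  show H = ⊤
  rw [eq_top_iff]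
  rintro x -
  induction x using QuotientAddGroup.induction_on with
  | H z =>
    induction z using FreeAbelianGroup.induction_on with
    | zero => exact H.zero_mem
    | of M =>
      have := hall M.1 M.2
      rwa [KZero.clSub, dif_pos M.2] at this
    | neg M ih => exact H.neg_mem ih
    | add a b iha ihb => exact H.add_mem iha ihb

end Groth.Agent.S14003
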