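import Groth.Statements.S14005
import Mathlib.Topology.Sheaves.Stalks
import Mathlib.Topology.NoetherianSpace
import Mathlib.Topology.Sober
import Mathlib.AlgebraicGeometry.Properties

set_option autoImplicit false
universe u
open CategoryTheory AlgebraicGeometry
open CohTop

namespace Groth.Agent.S14005

/-- Take a scheme X with a locally Noetherian underlying topological space, F a sheaf of abelian groups
on X, x a point of X and s an element of the stalk F_x. Then the following are equivalent: (i) s is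
the germ of a section t over some open neighbourhood U of x whose support in U is contained in the
closure of {x} (that is, s belongs to the subgroup Γ_x(F) of F_x); (ii) for every generization y ≠ x
of x the image of s under the cospecialisation map F_x → F_y is zero (that is, viewed as a global
section of the inverse image of F on Spec O_{X,x}, s is supported at the closed point). -/
theorem result {X : Scheme.{u}}
    (hX : ∀ x : X, ∃ U : X.Opens, x ∈ U ∧ TopologicalSpace.NoetherianSpace U)
    (F : TopCat.Sheaf AddCommGrpCat.{u} X.carrier) (x : X) (s : F.presheaf.stalk x) :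
    (∃ (U : X.Opens) (hx : x ∈ U) (t : F.presheaf.obj (Opposite.op U)),
        F.presheaf.germ U x hx t = s ∧
          ∀ (u : X) (hu : u ∈ U), F.presheaf.germ U u hu t ≠ 0 → u ∈ closure ({x} : Set X)) ↔
      ∀ (y : X) (h : y ⤳ x), y ≠ x → F.presheaf.stalkSpecializes h s = 0 := by
  constructor
  · rintro ⟨U, hx, t, rfl, hsupp⟩ y h hne
    rw [TopCat.Presheaf.germ_stalkSpecializes_apply]
    by_contra h0
    exact hne ((Specializes.antisymm h (specializes_iff_mem_closure.2 (hsupp y _ h0))).eq)
  · intro hs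
    obtain ⟨U₁, hx₁, t₁, ht₁⟩ := F.presheaf.germ_exist s
    obtain ⟨U₂, hx₂, hnoeth⟩ := hX x
    let U₀ : X.Opens := U₁ ⊓ U₂
    have hx₀ : x ∈ U₀ := ⟨hx₁, hx₂⟩
    haveI : TopologicalSpace.NoetherianSpace (U₀ : Set X) :=
      @Topology.IsInducing.noetherianSpace _ _ _ _ hnoeth _ (Topology.IsEmbedding.inclusion (inf_le_right : (U₀ : Set X) ≤ U₂)).isInducing
    let t₀ := F.presheaf.map (CategoryTheory.homOfLE (inf_le_left : U₀ ≤ U₁)).op t₁
    have ht₀ : F.presheaf.germ U₀ x hx₀ t₀ = s := (TopCat.Presheaf.germ_res_apply _ _ _ _ _).trans ht₁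
    let Z : Set (U₀ : Set X) := {u | F.presheaf.germ U₀ u.1 u.2 t₀ ≠ 0}
    have hZ : IsClosed Z := by
      rw [← isOpen_compl_iff, isOpen_iff_forall_mem_open]
      intro u hu
      have hu' : F.presheaf.germ U₀ u.1 u.2 t₀ = 0 := not_not.1 hu
      obtain ⟨W, hW, iU, iV, e⟩ := F.presheaf.germ_eq u.1 u.2 u.2 t₀ 0 (hu'.trans (map_zero _).symm)
      rw [map_zero] at e
      refine ⟨Subtype.val ⁻¹' (W : Set X), fun v hv => not_not.2 ?_, W.2.preimage continuous_subtype_val, hW⟩
      rw [← TopCat.Presheaf.germ_res_apply F.presheaf iU v.1 hv t₀, e, map_zero]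
    obtain ⟨S, hSf, hSc, hSi, hSU⟩ := TopologicalSpace.NoetherianSpace.exists_finite_set_isClosed_irreducible hZ
    let T : Set (Set X) := (fun t : Set (U₀ : Set X) => closure (Subtype.val '' t)) '' S
    let Bad : Set X := ⋃ c ∈ {c ∈ T | x ∉ c}, c
    have hBad : IsClosed Bad :=
      ((hSf.image _).subset fun _ hc => hc.1).isClosed_biUnion fun c hc => by
        obtain ⟨⟨t, -, rfl⟩, -⟩ := hc; exact isClosed_closure
    let U : X.Opens := U₀ ⊓ ⟨Badᶜ, hBad.isOpen_compl⟩
    have hxU : x ∈ U := ⟨hx₀, fun hb => by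
      obtain ⟨c, hc, hxc⟩ := Set.mem_iUnion₂.1 hb
      exact hc.2 hxc⟩
    refine ⟨U, hxU, F.presheaf.map (CategoryTheory.homOfLE (inf_le_left : U ≤ U₀)).op t₀,
      (TopCat.Presheaf.germ_res_apply _ _ _ _ _).trans ht₀, fun u hu hne => ?_⟩
    rw [TopCat.Presheaf.germ_res_apply] at hne
    have huZ : (⟨u, hu.1⟩ : (U₀ : Set X)) ∈ Z := hne
    rw [hSU] at huZ
    obtain ⟨t, htS, hut⟩ := huZ
    have hxt : x ∈ closure (Subtype.val '' t) := by
      by_contra hxt
      exact hu.2 (Set.mem_iUnion₂.2 ⟨_, ⟨⟨t, htS, rfl⟩, hxt⟩, subset_closure ⟨_, hut, rfl⟩⟩)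
    obtain ⟨η, hη⟩ := QuasiSober.sober ((hSi t htS).image _ continuous_subtype_val.continuousOn).closure isClosed_closure
    have hηx : η ⤳ x := hη.specializes hxt
    have hη₀ : η ∈ U₀ := hηx.mem_open U₀.2 hx₀
    have hηt : (⟨η, hη₀⟩ : (U₀ : Set X)) ∈ t := by
      rw [← (hSc t htS).closure_eq, closure_subtype]
      exact hη.mem
    have hηx' : η = x := by
      by_contra hne'
      have h1 := hs η hηx hne'
      rw [← ht₀, TopCat.Presheaf.germ_stalkSpecializes_apply] at h1
      exact (hSU ▸ Set.subset_sUnion_of_mem htS : t ⊆ Z) hηt h1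
    have hηu := hη.specializes (subset_closure ⟨_, hut, rfl⟩)
    rw [hηx'] at hηu
    exact specializes_iff_mem_closure.1 hηu


end Groth.Agent.S14005
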