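import Groth.Statements.S14007
import Groth.Agent.KZeroDb.Coherent
import Groth.Agent.S1006
import Groth.Agent.DCohBridge.PerfectLocal

set_option autoImplicit false
set_option linter.style.haveILetI false
universe u
open CategoryTheory AlgebraicGeometry
attribute [local instance] HasDerivedCategory.standard
open KZero

namespace Groth.Agent.S14007

/-- Let X be a Noetherian scheme and Y' ⊆ X a closed subset, and suppose that every coherent O_X-module
with support in Y', viewed in degree 0, is a perfect object of D(O_X). Write K_0(C) for the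
Grothendieck group of the abelian category C of coherent O_X-modules supported in Y' (objects modulo
short exact sequences) and K_0(D) for that of the full triangulated subcategory D of D(O_X) on the
perfect complexes all of whose cohomology sheaves are supported in Y' (objects modulo distinguished
triangles with vertices in D). Then the homomorphism K_0(C) → K_0(D) induced by G ↦ G[0] is an
isomorphism: there is an isomorphism of groups carrying the class of every G in C to the class of
G[0]. -/
theorem result (X : Scheme.{u}) [IsNoetherian X]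
    (Y' : Set X) (hY' : IsClosed Y')
    (hperf : ∀ G : X.Modules, Coh.IsCoh G → CohB1.support G ⊆ Y' → DCoh.IsPerfect (DCoh.inD X G)) :
    ∃ φ : KZero.K0sub (fun G : X.Modules => Coh.IsCoh G ∧ CohB1.support G ⊆ Y') ≃+
        KZero.K0tr (fun K : DCoh.D X => DCoh.IsPerfect K ∧ ∀ i : ℤ, CohB1.support (DCoh.HD K i) ⊆ Y'),
      ∀ G : X.Modules, Coh.IsCoh G → CohB1.support G ⊆ Y' →
        φ (KZero.clSub (fun G : X.Modules => Coh.IsCoh G ∧ CohB1.support G ⊆ Y') G) =
          KZero.clTr (fun K : DCoh.D X => DCoh.IsPerfect K ∧ ∀ i : ℤ, CohB1.support (DCoh.HD K i) ⊆ Y')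
            (DCoh.inD X G) := by
  haveI : IsLocallyNoetherian X := IsNoetherian.toIsLocallyNoetherian
  haveI : ObjectProperty.IsClosedUnderIsomorphisms (fun K : DCoh.D X => DCoh.IsPerfect K) :=
    ⟨fun e h => Groth.Agent.DCohBridge.isPerfect_of_iso e h⟩
  let P : ObjectProperty X.Modules := fun G => Coh.IsCoh G ∧ CohB1.support G ⊆ Y'
  have hP := Groth.Agent.KZeroDb.good_coh_supp (X := X) Y'
  have hz : ∀ Z : DCoh.D X, Limits.IsZero Z → DCoh.IsPerfect Z := fun Z hZ =>
    Groth.Agent.DCohBridge.isPerfect_of_iso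
      ((Functor.map_isZero (DerivedCategory.singleFunctor X.Modules 0) (Limits.isZero_zero X.Modules)).iso hZ)
      (hperf _ (Groth.Agent.KZeroDb.isCoh_of_isZero (Limits.isZero_zero X.Modules))
        ((Groth.Agent.KZeroDb.support_of_isZero (Limits.isZero_zero X.Modules)).trans_subset (Set.empty_subset _)))
  refine (fun ⟨φ, hφ⟩ => ⟨φ, fun G h1 h2 => hφ G ⟨h1, h2⟩⟩) (Groth.Agent.KZeroDb.exists_equiv (P := P)
    (fun K : DCoh.D X => DCoh.IsPerfect K ∧ ∀ i : ℤ, CohB1.support (DCoh.HD K i) ⊆ Y') (fun K => ⟨fun h => ?_, fun h => ⟨?_, fun i => (h.prop i).2⟩⟩) hP)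
  · obtain ⟨hc, hb⟩ := Groth.Agent.S1006.result X K h.1
    exact ⟨hb, fun i => ⟨hc i, h.2 i⟩⟩
  · obtain ⟨a, b, ha, hb⟩ := h.bdd
    refine Groth.Agent.KZeroDb.prop_of_window (P := P) (Groth.Agent.KZeroDb.Obj P) (fun _ => Iff.rfl) hP
      (fun K : DCoh.D X => DCoh.IsPerfect K) hz
      (fun T hT h1 h3 => Groth.Agent.DCohBridge.isPerfect_obj₂ T hT h1 h3)
      (fun Y n hY => Groth.Agent.DCohBridge.isPerfect_of_iso
        (((DerivedCategory.singleFunctors X.Modules).shiftIso (-n) n 0 (by omega)).app Y)
        (Groth.Agent.DCohBridge.isPerfect_shift (hperf Y hY.1 hY.2) (-n)))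
      (b + 1 - a).toNat a K h ha ((K.isLE_iff _).2 fun i hi => (K.isLE_iff b).1 hb i (by omega))

end Groth.Agent.S14007
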