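import Groth.Statements.S1401
import Groth.Agent.IndQA.Basic


set_option autoImplicit false
universe u
open FlatMor

namespace Groth.Agent.S1401

open AlgebraicGeometry CategoryTheory Limits in
/-- Let S' → S be flat, surjective and quasi-compact and let f' be the base change of f : X → S to S'.
If f' is ind-quasi-affine then so is f. -/
theorem result {X S X' S' : Scheme.{u}} (f : X ⟶ S) (f' : X' ⟶ S') (g' : X' ⟶ X) (g : S' ⟶ S)
    [Flat g] [Surjective g] [QuasiCompact g] (hc : IsPullback g' f' f g) (hf' : MoreMor.IsIndQuasiAffineHom f') : MoreMor.IsIndQuasiAffineHom f := by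
  rw [Agent.IndQA.isIndQuasiAffineHom_iff]
  intro V hV U hUV hU
  haveI : IsAffine V.toScheme := hV
  haveI : CompactSpace (g ⁻¹ᵁ V).toScheme :=
    isCompact_iff_compactSpace.mp (g.isCompact_preimage hV.isCompact)
  obtain ⟨T, p, hps, hpl, hT⟩ :=
    (g ⁻¹ᵁ V).toScheme.exists_hom_isAffine_of_isZariskiLocalAtSource @IsLocalIso
  haveI : Flat p := IsLocalIso.le_of_isZariskiLocalAtSource (@Flat) _ _ _ hpl
  haveI : Flat (g ∣_ V) := IsZariskiLocalAtTarget.restrict ‹_› V
  haveI : Surjective (g ∣_ V) := IsZariskiLocalAtTarget.restrict ‹_› V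
  haveI := hT
  let h : T ⟶ V.toScheme := p ≫ g ∣_ V
  let j : T ⟶ S' := p ≫ (g ⁻¹ᵁ V).ι
  have hj : j ≫ g = h ≫ V.ι := by simp [j, h]
  obtain ⟨ψ, hψ⟩ := Spec.map_surjective (T.isoSpec.inv ≫ h ≫ V.toScheme.isoSpec.hom)
  haveI : Flat (Spec.map ψ) := by rw [hψ]; infer_instance
  haveI : Surjective (Spec.map ψ) := by rw [hψ]; infer_instance
  haveI : CompactSpace U.toScheme := isCompact_iff_compactSpace.mp hU
  let k : U.toScheme ⟶ Spec Γ(V.toScheme, ⊤) := f.resLE V U hUV ≫ V.toScheme.isoSpec.hom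
  haveI : QuasiCompact k := quasiCompact_of_compactSpace k
  suffices (pullback (Spec.map ψ) k).IsQuasiAffine from
    Agent.FpqcDescent.isQuasiAffine_of_pullback ψ k
  have hT' : MoreMor.IsIndQuasiAffineHom (pullback.snd f' j) :=
    Agent.IndQA.baseChange (IsPullback.of_hasPullback f' j) hf'
  let i : pullback f' j ⟶ X := pullback.fst f' j ≫ g'
  have hsq : IsPullback i (pullback.snd f' j) f (j ≫ g) :=
    (IsPullback.of_hasPullback f' j).paste_horiz hc
  let P' := pullback U.ι i
  let w : P' ⟶ T := pullback.snd U.ι i ≫ pullback.snd f' j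
  have h1 : IsPullback (pullback.fst U.ι i) w (U.ι ≫ f) (j ≫ g) :=
    (IsPullback.of_hasPullback U.ι i).paste_vert hsq
  have hw : pullback.fst U.ι i ≫ f.resLE V U hUV = w ≫ h := by
    rw [← cancel_mono V.ι, Category.assoc, Category.assoc, Scheme.Hom.resLE_comp_ι, ← hj]
    exact h1.w
  have h2 : IsPullback (pullback.fst U.ι i) w (f.resLE V U hUV) h := by
    refine ⟨⟨hw⟩, ⟨PullbackCone.IsLimit.mk _ (fun s => h1.lift s.fst s.snd ?_)
      (fun s => h1.lift_fst _ _ _) (fun s => h1.lift_snd _ _ _) fun s m e1 e2 =>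
        h1.hom_ext (e1.trans (h1.lift_fst _ _ _).symm) (e2.trans (h1.lift_snd _ _ _).symm)⟩⟩
    rw [← Scheme.Hom.resLE_comp_ι f hUV, s.condition_assoc, hj]
  have h3 : IsPullback (w ≫ T.isoSpec.hom) (pullback.fst U.ι i) (Spec.map ψ) k := by
    refine h2.flip.of_iso (Iso.refl _) T.isoSpec (Iso.refl _) V.toScheme.isoSpec ?_ ?_ ?_ ?_
    · simp
    · simp
    · rw [hψ, Iso.hom_inv_id_assoc]
    · simp [k]
  haveI : CompactSpace P' := by
    haveI : QuasiCompact (Spec.map ψ) := inferInstance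
    haveI : QuasiCompact (pullback.fst U.ι i) := MorphismProperty.of_isPullback h3 inferInstance
    exact QuasiCompact.compactSpace_of_compactSpace (pullback.fst U.ι i)
  let q : P' ⟶ pullback f' j := pullback.snd U.ι i
  haveI : q.opensRange.toScheme.IsQuasiAffine :=
    (Agent.IndQA.isIndQuasiAffineHom_iff _).1 hT' ⊤ (isAffineOpen_top T) q.opensRange
      (fun _ _ => trivial) (isCompact_range q.continuous)
  haveI : P'.IsQuasiAffine := Agent.FpqcDescent.isQuasiAffine_of_iso q.isoOpensRange.hom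
  exact Agent.FpqcDescent.isQuasiAffine_of_iso h3.isoPullback.inv

end Groth.Agent.S1401
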