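import Groth.Statements.S14018
import Mathlib.CategoryTheory.Sites.EpiMono
import Mathlib.CategoryTheory.Sites.Limits
import Mathlib.CategoryTheory.Sites.LocallySurjective
import Mathlib.CategoryTheory.Limits.Types.Limits
import Mathlib.CategoryTheory.Limits.FunctorCategory.Basic

set_option autoImplicit false
open CategoryTheory CategoryTheory.Limits Opposite
universe w v u
open CohSite

namespace Groth.Agent.S14018

theorem exists_section (G : ℕᵒᵖ ⥤ Type w)
    (hG : ∀ k : ℕ, Function.Surjective (G.map (homOfLE (Nat.le_succ k)).op)) (n : ℕ) (x : G.obj (op n)) :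
    ∃ s ∈ G.sections, s (op n) = x := by
  let g : ∀ k, G.obj (op (n + k)) := fun k => Nat.rec (motive := fun k => G.obj (op (n + k))) x
    (fun k y => Classical.choose (hG (n + k) y)) k
  have hg : ∀ k, G.map (homOfLE (Nat.le_succ (n + k))).op (g (k + 1)) = g k := fun k =>
    Classical.choose_spec (hG (n + k) (g k))
  have hg' : ∀ k d, G.map (homOfLE (show n + k ≤ n + (k + d) by omega)).op (g (k + d)) = g k := by
    intro k d
    induction d with
    | zero => exact Functor.map_id_apply G _ _
    | succ d ih =>
      conv_rhs => rw [← ih, ← hg (k + d), ← Functor.map_comp_apply]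
      rfl
  refine ⟨fun m => G.map (homOfLE (Nat.le_add_left m.unop n)).op (g m.unop), ?_, ?_⟩
  · intro m' m f
    obtain ⟨d, hd⟩ := Nat.exists_eq_add_of_le (leOfHom f.unop)
    rcases m' with ⟨a⟩
    rcases m with ⟨b⟩
    change a = b + d at hd
    subst hd
    show G.map f (G.map _ (g (b + d))) = G.map _ (g b)
    rw [← hg' b d, ← Functor.map_comp_apply, ← Functor.map_comp_apply]
    rfl
  · show G.map _ (g n) = x
    have key : ∀ k, ∀ hk : n ≤ n + k, G.map (homOfLE hk).op (g k) = x := by
      intro k
      induction k with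
      | zero => exact fun hk => Functor.map_id_apply G _ _
      | succ k ih =>
        intro hk
        conv_rhs => rw [← ih (Nat.le_add_right n k), ← hg k, ← Functor.map_comp_apply]
        rfl
    exact key n _

/-- Let (C, J) be a site with enough weakly contractible objects — every object V has a covering sieve
all of whose arrows factor through some weakly contractible object, an object U being weakly
contractible when every epimorphism of sheaves of sets (valued in a fixed universe) is surjective on
sections over U. Then the topos of sheaves of sets is replete: if (F_n) is an inverse system of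
sheaves of sets indexed by ℕ with every transition map F_(n+1) ⟶ F_n an epimorphism, then each
projection lim_n F_n ⟶ F_n is an epimorphism; the limit is taken as any limit cone. (The small
pro-étale site of a scheme is such a site.) -/
theorem result
    {C : Type u} [Category.{v} C] (J : GrothendieckTopology C)
    (hwc : ∀ V : C, ∃ S : Sieve V, S ∈ J V ∧ ∀ ⦃W : C⦄ (f : W ⟶ V), S.arrows f →
      ∃ (U : C) (g : W ⟶ U) (h : U ⟶ V), (∀ (A B : Sheaf J (Type w)) (ψ : A ⟶ B), Epi ψ → Function.Surjective (ψ.hom.app (op U))) ∧ g ≫ h = f)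
    (F : ℕᵒᵖ ⥤ Sheaf J (Type w))
    (hF : ∀ n : ℕ, Epi (F.map (homOfLE (Nat.le_succ n)).op))
    (c : Cone F) (hc : IsLimit c) (n : ℕ) :
    Epi (c.π.app (op n)) := by
  haveI : Sheaf.IsLocallySurjective (c.π.app (op n)) := by
    refine ⟨fun {V} s => ?_⟩
    obtain ⟨S, hS, hU⟩ := hwc V
    refine J.superset_covering ?_ hS
    intro W f hf
    obtain ⟨U, g, h, hsurj, rfl⟩ := hU f hf
    let G : ℕᵒᵖ ⥤ Type w := (F ⋙ sheafToPresheaf J (Type w)) ⋙ (evaluation Cᵒᵖ (Type w)).obj (op U)
    have hG : ∀ k : ℕ, Function.Surjective (G.map (homOfLE (Nat.le_succ k)).op) := fun k =>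
      hsurj _ _ (F.map (homOfLE (Nat.le_succ k)).op) (hF k)
    obtain ⟨σ, hσ, hσn⟩ := exists_section G hG n ((F.obj (op n)).obj.map h.op s)
    have hlim : IsLimit (((evaluation Cᵒᵖ (Type w)).obj (op U)).mapCone ((sheafToPresheaf J (Type w)).mapCone c)) :=
      isLimitOfPreserves _ (isLimitOfPreserves _ hc)
    obtain ⟨t, ht, -⟩ := (Types.isLimit_iff _).1 ⟨hlim⟩ σ hσ
    refine ⟨c.pt.obj.map g.op t, ?_⟩
    refine (NatTrans.naturality_apply (c.π.app (op n)).hom g.op t).trans ?_
    rw [op_comp, Functor.map_comp_apply]
    exact congrArg ((F.obj (op n)).obj.map g.op) ((ht (op n)).trans hσn)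
  exact Sheaf.epi_of_isLocallySurjective _

end Groth.Agent.S14018
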