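import Groth.Statements.S14020
import Mathlib.RingTheory.HopkinsLevitzki
import Mathlib.RingTheory.Noetherian.OfPrime

set_option autoImplicit false
universe u
open CAlg

namespace Groth.Agent.S14020

/-- Let R be a commutative ring and I a finitely generated ideal such that the quotient ring R/I is
artinian. Then R/I^n is artinian for every n. -/
theorem result
    (R : Type u) [CommRing R] (I : Ideal R) (hI : I.FG) [IsArtinianRing (R ⧸ I)] (n : ℕ) :
    IsArtinianRing (R ⧸ I ^ n) := by
  have : IsNoetherianRing (R ⧸ I ^ n) := by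
    refine IsNoetherianRing.of_prime fun P hP => ?_
    let g := Ideal.Quotient.mk (I ^ n)
    have h1 : I ≤ P.comap g :=
      (Ideal.IsPrime.comap _).le_of_pow_le (n := n) (fun x hx => by
        rw [Ideal.mem_comap, Ideal.Quotient.eq_zero_iff_mem.mpr hx]; exact P.zero_mem)
    have h2 : (P.comap g).FG := by
      refine Ideal.fg_of_fg_map_of_fg_inf_ker_of_surjective (f := Ideal.Quotient.mk I) ?_ ?_ ?_
      · exact IsNoetherian.noetherian _
      · rw [Ideal.mk_ker, inf_eq_right.mpr h1]; exact hI
      · exact Ideal.Quotient.mk_surjective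
    rw [← Ideal.map_comap_of_surjective g Ideal.Quotient.mk_surjective P]
    exact h2.map g
  refine (isArtinianRing_iff_krullDimLE_zero).mpr ?_
  rw [Ring.krullDimLE_zero_iff]
  intro P hP
  have h1 : I ≤ P.comap (Ideal.Quotient.mk (I ^ n)) :=
    (Ideal.IsPrime.comap _).le_of_pow_le (n := n) (fun x hx => by
      rw [Ideal.mem_comap, Ideal.Quotient.eq_zero_iff_mem.mpr hx]; exact P.zero_mem)
  have hp := Ideal.map_isPrime_of_surjective (f := Ideal.Quotient.mk I) (I := P.comap (Ideal.Quotient.mk (I^n)))
    Ideal.Quotient.mk_surjective (by rw [Ideal.mk_ker]; exact h1)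
  have hmax := Ideal.IsPrime.isMaximal' hp
  have := Ideal.comap_isMaximal_of_surjective (Ideal.Quotient.mk I) Ideal.Quotient.mk_surjective (K := _) (H := hmax)
  rw [Ideal.comap_map_of_surjective _ Ideal.Quotient.mk_surjective, ← RingHom.ker_eq_comap_bot, Ideal.mk_ker, sup_eq_left.mpr h1] at this
  have := Ideal.map_eq_top_or_isMaximal_of_surjective (Ideal.Quotient.mk (I^n)) Ideal.Quotient.mk_surjective this
  rw [Ideal.map_comap_of_surjective _ Ideal.Quotient.mk_surjective] at this
  exact this.resolve_left hP.ne_top

end Groth.Agent.S14020
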