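import Groth.Statements.S14023
import Mathlib

set_option autoImplicit false
open CategoryTheory CategoryTheory.Limits Opposite
universe v u
open ARSys

namespace Groth.Agent.S14023

/-- For an abelian category A, the category of inverse systems (A_n)_n indexed by ℕ, i.e. of functors
ℕᵒᵖ ⥤ A, has enough injectives if and only if A has enough injectives. (The second assertion of the
published proposition, describing the injective systems, is not part of this row.) -/
theorem result
    (A : Type u) [Category.{v} A] [Abelian A] :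
    EnoughInjectives (ℕᵒᵖ ⥤ A) ↔ EnoughInjectives A := by
  classical
  haveI hsub : ∀ a b : ℕᵒᵖ, Finite (a ⟶ b) := fun a b => inferInstance
  haveI : ∀ a b : ℕᵒᵖ, HasCoproductsOfShape (a ⟶ b) A := fun a b => inferInstance
  constructor
  · intro h
    haveI := h
    refine ⟨fun M => ?_⟩
    let c : ℕᵒᵖ := op 0
    let L := evaluationLeftAdjoint A c
    haveI : L.PreservesMonomorphisms := ⟨fun {K N} g hg => by
      haveI : ∀ t, Mono ((L.map g).app t) := fun t => by
        rcases isEmpty_or_nonempty (c ⟶ t) with he | ⟨⟨x⟩⟩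
        · exact IsZero.mono ⟨fun Y => ⟨⟨⟨0⟩, fun a => Sigma.hom_ext _ _ fun i => he.elim i⟩⟩,
            fun Y => ⟨⟨⟨0⟩, fun a => by
              have : 𝟙 (∐ fun _ : c ⟶ t => K) = 0 := Sigma.hom_ext _ _ fun i => he.elim i
              rw [← Category.comp_id a]
              show a ≫ 𝟙 (∐ fun _ : c ⟶ t => K) = _
              rw [this, comp_zero]
              rfl⟩⟩⟩ _
        · show Mono (Sigma.desc fun h : c ⟶ t => g ≫ Sigma.ι (fun _ => N) h)
          have e : Sigma.desc (fun h : c ⟶ t => g ≫ Sigma.ι (fun _ => N) h) ≫ Sigma.desc (fun _ => 𝟙 N) =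
              Sigma.desc (fun _ : c ⟶ t => 𝟙 K) ≫ g :=
            Sigma.hom_ext _ _ fun i => by simp
          haveI : IsIso (Sigma.desc (fun _ : c ⟶ t => 𝟙 K)) :=
            ⟨Sigma.ι (fun _ => K) x, Sigma.hom_ext _ _ fun i => by
              rw [Sigma.ι_desc_assoc, Category.id_comp, Category.comp_id, Subsingleton.elim i x],
              by rw [Sigma.ι_desc]⟩
          haveI : Mono (Sigma.desc (fun h : c ⟶ t => g ≫ Sigma.ι (fun _ => N) h) ≫ Sigma.desc (fun _ => 𝟙 N)) := by
            rw [e]; infer_instance
          exact mono_of_mono _ (Sigma.desc fun _ => 𝟙 N)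
      exact NatTrans.mono_of_mono_app _⟩
    let F := (Functor.const ℕᵒᵖ).obj M
    exact ⟨{
      J := (Injective.under F).obj c
      injective := (evaluationAdjunctionRight A c).map_injective (Injective.under F) inferInstance
      f := (Injective.ι F).app c
      mono := ((evaluation ℕᵒᵖ A).obj c).map_mono (Injective.ι F) }⟩
  · intro h
    haveI := h
    refine ⟨fun X => ?_⟩
    let E : ℕᵒᵖ ⥤ A :=
      { obj := fun n => ∏ᶜ fun i : Fin (n.unop + 1) => Injective.under (X.obj (op i.1))
        map := fun {n m} φ => Pi.lift fun i : Fin (m.unop + 1) =>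
          Pi.π (fun i : Fin (n.unop + 1) => Injective.under (X.obj (op i.1)))
            ⟨i.1, lt_of_lt_of_le i.2 (Nat.add_le_add_right (leOfHom φ.unop) 1)⟩
        map_id := fun n => Pi.hom_ext _ _ fun i => by simp
        map_comp := fun φ ψ => Pi.hom_ext _ _ fun i => by simp }
    let ι : X ⟶ E :=
      { app := fun n => Pi.lift fun i : Fin (n.unop + 1) =>
          X.map (homOfLE (Nat.lt_succ_iff.1 i.2)).op ≫ Injective.ι (X.obj (op i.1))
        naturality := fun n m φ => Pi.hom_ext _ _ fun i => by
          simp only [E, Category.assoc, Pi.lift_π]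
          rw [← X.map_comp_assoc]
          congr 2 }
    have hι : ∀ n, Mono (ι.app n) := fun n => ⟨fun {Z} a b hab => by
      have := congrArg (fun t => t ≫ Pi.π _ (⟨n.unop, Nat.lt_succ_self _⟩ : Fin (n.unop + 1))) hab
      simp only [ι, Category.assoc, Pi.lift_π] at this
      rw [show (homOfLE (le_refl n.unop)).op = 𝟙 n from Subsingleton.elim _ _, X.map_id] at this
      erw [Category.id_comp] at this
      exact (cancel_mono (Injective.ι (X.obj n))).1 this⟩
    haveI := hι
    refine ⟨{ J := E, injective := ⟨fun {K L} f g hg => ?_⟩, f := ι, mono := NatTrans.mono_of_mono_app ι }⟩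
    haveI : ∀ n, Mono (g.app n) := fun n => ((evaluation ℕᵒᵖ A).obj n).map_mono g
    let l : ∀ i : ℕ, L.obj (op i) ⟶ Injective.under (X.obj (op i)) := fun i =>
      Injective.factorThru (f.app (op i) ≫ Pi.π (fun j : Fin (i + 1) => Injective.under (X.obj (op j.1))) ⟨i, Nat.lt_succ_self i⟩)
        (g.app (op i))
    refine ⟨{ app := fun n => Pi.lift fun i : Fin (n.unop + 1) => L.map (homOfLE (Nat.lt_succ_iff.1 i.2)).op ≫ l i.1
              naturality := fun n m φ => Pi.hom_ext _ _ fun i => by
                simp only [E, Category.assoc, Pi.lift_π]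
                rw [← L.map_comp_assoc]
                congr 2 }, NatTrans.ext (funext fun n => Pi.hom_ext _ _ fun i => ?_)⟩
    simp only [NatTrans.comp_app, Category.assoc, Pi.lift_π]
    rw [← reassoc_of% (g.naturality (homOfLE (Nat.lt_succ_iff.1 i.2)).op), Injective.comp_factorThru,
      reassoc_of% (f.naturality (homOfLE (Nat.lt_succ_iff.1 i.2)).op)]
    simp [E]

end Groth.Agent.S14023
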