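import Groth.Statements.S14032
import Groth.Agent.W4c1Basic.NR
import Mathlib.LinearAlgebra.TensorProduct.Quotient
import Mathlib.RingTheory.Ideal.Quotient.Operations
import Mathlib.LinearAlgebra.Basis.Basic

set_option autoImplicit false
universe u v
open W4c1frobunstiva

namespace Groth.Agent.S14032

open TensorProduct in
/-- Let R be a commutative Noetherian ring with nilradical n, M an R-module and r a natural number. Then
M is NR-free of rank r — generated by r elements such that every linear relation among them has
nilpotent coefficients — if and only if (R/n) ⊗_R M is free of rank r over R/n, in the sense of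
admitting a basis indexed by r elements. (The published statement assumes M finitely generated and
also gives the converse when R is local; over a Noetherian ring the nilradical is nilpotent, the
case used here, and finite generation is not needed.) -/
theorem result (R : Type u) [CommRing R]
    [IsNoetherianRing R] (M : Type v) [AddCommGroup M] [Module R M] (r : ℕ) :
    W4c1frobunstiva.IsNRFree R M r ↔
      Nonempty (Module.Basis (Fin r) (R ⧸ nilradical R) ((R ⧸ nilradical R) ⊗[R] M)) := by
  classical
  have key : ∀ x : M, ((1 : R ⧸ nilradical R) ⊗ₜ[R] x = 0 ↔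
      x ∈ nilradical R • (⊤ : Submodule R M)) := fun x => by
    rw [← Submodule.Quotient.mk_eq_zero, ← TensorProduct.quotTensorEquivQuotSMul_symm_mk,
      LinearEquiv.map_eq_zero_iff]
  have hcomb : ∀ (m : Fin r → M) (a : Fin r → R),
      ∑ i, Ideal.Quotient.mk (nilradical R) (a i) • ((1 : R ⧸ nilradical R) ⊗ₜ[R] m i) =
        (1 : R ⧸ nilradical R) ⊗ₜ[R] (∑ i, a i • m i) := fun m a => by
    rw [TensorProduct.tmul_sum]
    refine Finset.sum_congr rfl fun i _ => ?_
    rw [TensorProduct.tmul_smul, ← Ideal.Quotient.algebraMap_eq, algebraMap_smul]
  constructor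
  · rintro ⟨m, hm, hrel⟩
    let v : Fin r → (R ⧸ nilradical R) ⊗[R] M := fun i => 1 ⊗ₜ m i
    refine ⟨Module.Basis.mk (v := v) ?_ ?_⟩
    · rw [Fintype.linearIndependent_iff]
      intro g hg
      choose a ha using fun i => Ideal.Quotient.mk_surjective (g i)
      simp only [← ha, v, hcomb, key] at hg
      rw [← hm, Submodule.mem_ideal_smul_span_iff_exists_sum] at hg
      obtain ⟨c, hc, hsum⟩ := hg
      intro i
      rw [← ha i, Ideal.Quotient.eq_zero_iff_mem]
      rw [Finsupp.sum_fintype _ _ (by simp)] at hsum
      have := hrel (fun i => a i - c i) (by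
        simp only [sub_smul, Finset.sum_sub_distrib, hsum, sub_self]) i
      simpa using add_mem (mem_nilradical.mpr this) (hc i)
    · rintro z -
      induction z using TensorProduct.induction_on with
      | zero => exact zero_mem _
      | add x y hx hy => exact add_mem hx hy
      | tmul q x =>
        obtain ⟨a, rfl⟩ := (Submodule.mem_span_range_iff_exists_fun R).mp
          (hm ▸ Submodule.mem_top : x ∈ Submodule.span R (Set.range m))
        rw [← mul_one q, ← smul_eq_mul, ← TensorProduct.smul_tmul', ← hcomb]
        exact Submodule.smul_mem _ _ (sum_mem fun i _ =>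
          Submodule.smul_mem _ _ (Submodule.subset_span ⟨i, rfl⟩))
  · rintro ⟨b⟩
    have hsurj : Function.Surjective fun x : M => (1 : R ⧸ nilradical R) ⊗ₜ[R] x :=
      TensorProduct.mk_surjective R M (R ⧸ nilradical R) Ideal.Quotient.mk_surjective
    choose m hm using fun i => hsurj (b i)
    have hind : ∀ a : Fin r → R, ∑ i, a i • m i ∈ nilradical R • (⊤ : Submodule R M) →
        ∀ i, IsNilpotent (a i) := by
      intro a ha i
      rw [← key, ← hcomb] at ha
      simp only [hm] at ha
      exact Ideal.Quotient.eq_zero_iff_mem.mp
        (Fintype.linearIndependent_iff.mp b.linearIndependent _ ha i)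
    refine ⟨m, ?_, fun a ha => hind a (by rw [ha]; exact zero_mem _)⟩
    obtain ⟨k, hk⟩ := IsNoetherianRing.isNilpotent_nilradical R
    have h1 : ⊤ ≤ Submodule.span R (Set.range m) ⊔ nilradical R • (⊤ : Submodule R M) := by
      intro x _
      choose a ha using fun i => Ideal.Quotient.mk_surjective (b.repr (1 ⊗ₜ x) i)
      have h2 : x - ∑ i, a i • m i ∈ nilradical R • (⊤ : Submodule R M) := by
        rw [← key, TensorProduct.tmul_sub, ← hcomb, sub_eq_zero]
        simp only [ha, hm, b.sum_repr]
      have := Submodule.add_mem_sup
        (sum_mem (t := Finset.univ) (f := fun i => a i • m i) fun i _ =>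
          Submodule.smul_mem (Submodule.span R (Set.range m)) _ (Submodule.subset_span ⟨i, rfl⟩)) h2
      simpa using this
    have h3 : ∀ n : ℕ, ⊤ ≤ Submodule.span R (Set.range m) ⊔
        nilradical R ^ n • (⊤ : Submodule R M) := by
      intro n
      induction n with
      | zero => simp
      | succ n ih =>
        refine ih.trans (sup_le le_sup_left ?_)
        refine (Submodule.smul_mono le_rfl h1).trans ?_
        rw [Submodule.smul_sup, ← smul_assoc, smul_eq_mul, ← pow_succ]
        exact sup_le (Submodule.smul_le_right.trans le_sup_left) le_sup_right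
    have := h3 k
    rw [hk, Ideal.zero_eq_bot, Submodule.bot_smul, sup_bot_eq] at this
    exact top_le_iff.mp this

end Groth.Agent.S14032
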