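import Groth.Statements.S14034
import Mathlib

set_option autoImplicit false
set_option linter.style.haveILetI false
universe u
open W4c1frobunstiva

namespace Groth.Agent.S14034

theorem exists_kerBasis {R : Type u} [CommRing R] [IsLocalRing R] {r s : ℕ} (ψ : (Fin r → R) →ₗ[R] (Fin s → R))
    (hψ : Function.Surjective ψ) : s ≤ r ∧ Nonempty (Module.Basis (Fin (r - s)) R (LinearMap.ker ψ)) := by
  obtain ⟨σ, hσ⟩ := ψ.exists_rightInverse_of_surjective (LinearMap.range_eq_top.2 hψ)
  let e : (Fin r → R) ≃ₗ[R] ↥(LinearMap.ker ψ) × (Fin s → R) :=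
    ((LinearMap.exact_subtype_ker_map ψ).splitSurjectiveEquiv Subtype.val_injective ⟨σ, hσ⟩).1
  haveI : Module.Projective R ↥(LinearMap.ker ψ) :=
    Module.Projective.of_split (e.symm.toLinearMap.comp (LinearMap.inl R _ (Fin s → R)))
      ((LinearMap.fst R ↥(LinearMap.ker ψ) (Fin s → R)).comp e.toLinearMap) (LinearMap.ext fun x => by simp)
  haveI : Module.Finite R ↥(LinearMap.ker ψ) :=
    Module.Finite.of_surjective ((LinearMap.fst R ↥(LinearMap.ker ψ) (Fin s → R)).comp e.toLinearMap)
      (fun x => ⟨e.symm (x, 0), by simp⟩)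
  haveI : Module.Free R ↥(LinearMap.ker ψ) := Module.free_of_flat_of_isLocalRing
  have h := e.finrank_eq
  rw [Module.finrank_prod, Module.finrank_fin_fun, Module.finrank_fin_fun] at h
  exact ⟨by omega, ⟨Module.finBasisOfFinrankEq R _ (by omega)⟩⟩

theorem isNR_append {R : Type u} [CommRing R] [IsLocalRing R] {f : R}
    (hann : ∀ a : R, a * f = 0 → IsNilpotent a) {r s l : ℕ} (hls : l ≤ s) (ψ : (Fin r → R) →ₗ[R] (Fin s → R))
    (hψ : Function.Surjective ψ) :
    W4c1frobunstiva.IsNRFree R
      ↥((Submodule.span R (Set.range fun i : Fin l => (Pi.single (Fin.castLE hls i) f : Fin s → R))).comap ψ)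
      (r + l - s) := by
  classical
  obtain ⟨hsr, ⟨b⟩⟩ := exists_kerBasis ψ hψ
  set F := Submodule.span R (Set.range fun i : Fin l => (Pi.single (Fin.castLE hls i) f : Fin s → R))
  obtain ⟨σ, hσ⟩ := ψ.exists_rightInverse_of_surjective (LinearMap.range_eq_top.2 hψ)
  let g : Fin l → (Fin r → R) := fun i => σ (Pi.single (Fin.castLE hls i) f)
  have hg : ∀ i, ψ (g i) = Pi.single (Fin.castLE hls i) f := fun i => LinearMap.congr_fun hσ _
  let m₁ : Fin (r - s) → ↥(F.comap ψ) := fun i =>
    ⟨(b i : Fin r → R), by rw [Submodule.mem_comap, LinearMap.mem_ker.1 (b i).2]; exact zero_mem _⟩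
  let m₂ : Fin l → ↥(F.comap ψ) := fun i =>
    ⟨g i, by rw [Submodule.mem_comap, hg]; exact Submodule.subset_span ⟨i, rfl⟩⟩
  suffices h : W4c1frobunstiva.IsNRBasis R ↥(F.comap ψ) (Fin.append m₁ m₂) by
    have heq : r + l - s = r - s + l := by omega
    rw [heq]
    exact ⟨_, h⟩
  refine ⟨eq_top_iff.2 fun x _ => ?_, fun a ha => ?_⟩
  · obtain ⟨c, hc⟩ := (Submodule.mem_span_range_iff_exists_fun R).1 (Submodule.mem_comap.1 x.2)
    have hk : (x : Fin r → R) - ∑ i, c i • g i ∈ LinearMap.ker ψ := by
      simp only [LinearMap.mem_ker, map_sub, map_sum, map_smul, hg, hc, sub_self]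
    have hx : x = (∑ i, b.repr ⟨_, hk⟩ i • m₁ i) + ∑ i, c i • m₂ i := Subtype.ext <| by
      have := congrArg Subtype.val (b.sum_repr ⟨_, hk⟩)
      simp only [Submodule.coe_sum, Submodule.coe_smul] at this
      simp only [Submodule.coe_add, Submodule.coe_sum, Submodule.coe_smul, m₁, m₂, this, sub_add_cancel]
    rw [hx]
    refine add_mem (sum_mem fun i _ => Submodule.smul_mem _ _ (Submodule.subset_span ⟨Fin.castAdd l i, ?_⟩))
      (sum_mem fun i _ => Submodule.smul_mem _ _ (Submodule.subset_span ⟨Fin.natAdd (r - s) i, ?_⟩))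
    · simp
    · simp
  · rw [Fin.sum_univ_add] at ha
    simp only [Fin.append_left, Fin.append_right] at ha
    have ha' := congrArg Subtype.val ha
    simp only [Submodule.coe_add, Submodule.coe_sum, Submodule.coe_smul, m₁, m₂, Submodule.coe_zero] at ha'
    have h1 := congrArg ψ ha'
    simp only [map_add, map_sum, map_smul, hg, map_zero] at h1
    rw [Finset.sum_eq_zero (fun i _ => by rw [LinearMap.mem_ker.1 (b i).2, smul_zero]), zero_add] at h1
    have h2 : ∀ i, a (Fin.natAdd (r - s) i) * f = 0 := fun i => by
      have := congrFun h1 (Fin.castLE hls i)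
      simpa [Finset.sum_apply, Pi.single_apply, Fin.castLE_inj] using this
    have h3 : ∑ i, a (Fin.natAdd (r - s) i) • g i = 0 := by
      simp only [g, ← map_smul, ← map_sum, h1, map_zero]
    rw [h3, add_zero] at ha'
    have h4 : ∑ i, a (Fin.castAdd l i) • b i = 0 := Subtype.ext (by
      simpa only [Submodule.coe_sum, Submodule.coe_smul, Submodule.coe_zero] using ha')
    exact Fin.addCases (fun i => (Fintype.linearIndependent_iff.1 b.linearIndependent _ h4 i).symm ▸ IsNilpotent.zero)
      (fun i => hann _ (h2 i))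


/-- Let R be a Noetherian local ring and f an element of R whose annihilator consists of nilpotent
elements (a f = 0 forces a nilpotent), r, s and l ≤ s natural numbers, N the quotient of the free
module R^s by the submodule spanned by f e_1, …, f e_l (e_i the standard basis vectors), and φ : R^r
→ N a surjective linear map. Then the kernel of φ is NR-free of rank r + l − s: it is generated by r
+ l − s elements every linear relation among which has nilpotent coefficients; and when l = 0 the
kernel is free of rank r − s. (The published statement takes R Noetherian with irreducible spectrum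
and R_red a domain, not necessarily local, and f arbitrary. Over the coordinate ring of the real
2-sphere the kernel of (x, y, z) : R³ → R is not free, and over k[x, y]/(y², xy) localised at (x, y)
with f = y the kernel of R → R/(y) is spanned by y with the non-nilpotent relation x·y = 0. The
published argument uses that the kernel of a surjection of free modules is free, true over a local
ring, and that a f = 0 forces a nilpotent, which is the hypothesis taken here; it holds when R_red
is a domain and f is not nilpotent, and also for f = ε in A[ε] with A a domain, so primality of the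
nilradical is not assumed.) -/
theorem result (R : Type u)
    [CommRing R] [IsNoetherianRing R] [IsLocalRing R] (f : R)
    (hann : ∀ a : R, a * f = 0 → IsNilpotent a) (r s l : ℕ) (hls : l ≤ s)
    (φ : (Fin r → R) →ₗ[R]
      ((Fin s → R) ⧸ Submodule.span R (Set.range fun i : Fin l => (Pi.single (Fin.castLE hls i) f : Fin s → R))))
    (hφ : Function.Surjective φ) :
    W4c1frobunstiva.IsNRFree R (LinearMap.ker φ) (r + l - s) ∧
      (l = 0 → Nonempty (Module.Basis (Fin (r - s)) R (LinearMap.ker φ))) := by
  classical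
  let F := Submodule.span R (Set.range fun i : Fin l => (Pi.single (Fin.castLE hls i) f : Fin s → R))
  obtain ⟨ψ, hψ⟩ := Module.projective_lifting_property F.mkQ φ (Submodule.mkQ_surjective F)
  have hker : LinearMap.ker φ = F.comap ψ := by rw [← hψ, LinearMap.ker_comp, Submodule.ker_mkQ]
  have hsum : ∀ y : Fin s → R, ∃ x, y - ψ x ∈ F := fun y => by
    obtain ⟨x, hx⟩ := hφ (F.mkQ y)
    exact ⟨x, (Submodule.Quotient.eq F).1 (by rw [← hψ] at hx; exact hx.symm)⟩
  have hnr : ∀ (hψs : Function.Surjective ψ), W4c1frobunstiva.IsNRFree R (LinearMap.ker φ) (r + l - s) := fun hψs => by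
    rw [hker]
    exact isNR_append hann hls ψ hψs
  by_cases hf : f ∈ IsLocalRing.maximalIdeal R ∨ l = 0
  · have hψs : Function.Surjective ψ := by
      rw [← LinearMap.range_eq_top, eq_top_iff]
      refine Submodule.le_of_le_smul_of_le_jacobson_bot Module.Finite.fg_top
        (IsLocalRing.maximalIdeal_le_jacobson _) fun y _ => ?_
      obtain ⟨x, hx⟩ := hsum y
      refine Submodule.mem_sup.2 ⟨ψ x, ⟨x, rfl⟩, y - ψ x, ?_, add_sub_cancel _ _⟩
      refine (Submodule.span_le.2 ?_) hx
      rintro _ ⟨i, rfl⟩
      show (Pi.single (Fin.castLE hls i) f : Fin s → R) ∈ (IsLocalRing.maximalIdeal R • ⊤ : Submodule R (Fin s → R))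
      rcases hf with hf | hl
      · rw [show (Pi.single (Fin.castLE hls i) f : Fin s → R) = f • Pi.single (Fin.castLE hls i) 1 by
          rw [← Pi.single_smul, smul_eq_mul, mul_one]]
        exact Submodule.smul_mem_smul hf trivial
      · exact absurd i.isLt (by omega)
    refine ⟨hnr hψs, fun hl => ?_⟩
    subst hl
    obtain ⟨-, ⟨b⟩⟩ := exists_kerBasis ψ hψs
    have hF : F = ⊥ := Submodule.span_eq_bot.2 fun x ⟨i, _⟩ => i.elim0
    exact ⟨b.map (LinearEquiv.ofEq _ _ (by rw [hker, hF, Submodule.comap_bot]))⟩
  · rw [not_or, IsLocalRing.notMem_maximalIdeal] at hf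
    obtain ⟨hfu, hl⟩ := hf
    let emb : Fin (s - l) → Fin s := fun j => ⟨l + j, by omega⟩
    let π := LinearMap.funLeft R R emb
    have hπ : Function.Surjective π := LinearMap.funLeft_surjective_of_injective R R emb fun i j h => by
      simpa [emb, Fin.ext_iff] using h
    have hπF : LinearMap.ker π = F := by
      refine le_antisymm (fun x hx => ?_) (Submodule.span_le.2 ?_)
      · obtain ⟨f, rfl⟩ := hfu
        rw [← Finset.univ_sum_single x]
        refine sum_mem fun i _ => ?_
        by_cases hi : (i : ℕ) < l
        · rw [show (Pi.single i (x i) : Fin s → R) = (x i * (↑f⁻¹ : R)) • Pi.single (Fin.castLE hls ⟨i, hi⟩) (f : R) by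
            rw [← Pi.single_smul, smul_eq_mul, Units.inv_mul_cancel_right, Fin.castLE_mk]]
          exact Submodule.smul_mem _ _ (Submodule.subset_span ⟨_, rfl⟩)
        · have h0 := congrFun (LinearMap.mem_ker.1 hx) ⟨i - l, by omega⟩
          rw [LinearMap.funLeft_apply, show emb ⟨i - l, by omega⟩ = i from Fin.ext (show l + ((i : ℕ) - l) = i by omega)] at h0
          rw [show x i = 0 from h0, Pi.single_zero]
          exact zero_mem _
      · rintro _ ⟨i, rfl⟩
        refine LinearMap.mem_ker.2 (funext fun j => ?_)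
        exact Pi.single_eq_of_ne (M := fun _ => R) (fun h => by have := congrArg Fin.val h; simp [emb] at this; omega) f
    have hψs : Function.Surjective (π ∘ₗ ψ) := fun z => by
      obtain ⟨y, rfl⟩ := hπ z
      obtain ⟨x, hx⟩ := hsum y
      rw [← hπF, LinearMap.mem_ker, map_sub, sub_eq_zero] at hx
      exact ⟨x, hx.symm⟩
    obtain ⟨hle, ⟨b⟩⟩ := exists_kerBasis (π ∘ₗ ψ) hψs
    have hk : LinearMap.ker (π ∘ₗ ψ) = LinearMap.ker φ := by rw [hker, LinearMap.ker_comp, hπF]
    let b' := (b.map (LinearEquiv.ofEq _ _ hk)).reindex (finCongr (show r - (s - l) = r + l - s by omega))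
    exact ⟨⟨b', b'.span_eq, fun a ha i =>
      (Fintype.linearIndependent_iff.1 b'.linearIndependent a ha i).symm ▸ IsNilpotent.zero⟩, fun h => absurd h hl⟩

end Groth.Agent.S14034
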