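import Groth.Statements.S14046
import Mathlib.RingTheory.Flat.Equalizer
import Mathlib.LinearAlgebra.TensorProduct.Prod
import Mathlib.RingTheory.Ideal.Quotient.Operations
import Mathlib.Tactic.LinearCombination

set_option autoImplicit false
universe u v w
open W4c1frobunstiva

namespace Groth.Agent.S14046

open TensorProduct in
/-- Let R → A be a homomorphism of commutative rings and I, J ideals of A with I ∩ J = 0 — so that A is
the fibre product of A/I and A/J over A/(I + J), i.e. Spec A is the union of the two closed
subschemes in the strong sense — and suppose A/(I + J) is flat over R. Then this persists under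
every base change: for every commutative R-algebra R', the ideals generated by I and J in R' ⊗_R A
again meet in 0. (This is the ideal-theoretic, affine form of the base-change step; the exact
sequence of unit sheaves deduced from it in the published statement — restriction of units to a
closed subscheme being surjective locally — is not restated. Without flatness of A/(I + J) the
conclusion fails: for A = k[x, y]/(xy) over R = k[u] with u ↦ x + y, I = (x) and J = (y), the base
change to R/(u) gives k[x]/(x²), in which both ideals become (x).) -/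
theorem result (R : Type u) (A : Type v)
    [CommRing R] [CommRing A] [Algebra R A] (I J : Ideal A) (hIJ : I ⊓ J = ⊥)
    [Module.Flat R (A ⧸ (I ⊔ J))] (R' : Type w) [CommRing R'] [Algebra R R'] :
    I.map (Algebra.TensorProduct.includeRight : A →ₐ[R] R' ⊗[R] A) ⊓
      J.map (Algebra.TensorProduct.includeRight : A →ₐ[R] R' ⊗[R] A) = ⊥ := by
  let f : A →ₗ[R] (A ⧸ I) × (A ⧸ J) :=
    (Ideal.Quotient.mkₐ R I).toLinearMap.prod (Ideal.Quotient.mkₐ R J).toLinearMap
  let g : (A ⧸ I) × (A ⧸ J) →ₗ[R] A ⧸ (I ⊔ J) :=
    (Ideal.Quotient.factorₐ R (le_sup_left : I ≤ I ⊔ J)).toLinearMap.coprod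
      (-(Ideal.Quotient.factorₐ R (le_sup_right : J ≤ I ⊔ J)).toLinearMap)
  have hf : Function.Injective f := by
    rw [injective_iff_map_eq_zero]
    intro a ha
    have h : a ∈ I ⊓ J := ⟨Ideal.Quotient.eq_zero_iff_mem.mp (congrArg Prod.fst ha),
      Ideal.Quotient.eq_zero_iff_mem.mp (congrArg Prod.snd ha)⟩
    simpa [hIJ] using h
  have hg : Function.Surjective g := by
    intro z
    obtain ⟨a, rfl⟩ := Ideal.Quotient.mk_surjective z
    exact ⟨(Ideal.Quotient.mk I a, 0), by simp [g]⟩
  have hfg : Function.Exact f g := by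
    rintro ⟨x, y⟩
    obtain ⟨a, rfl⟩ := Ideal.Quotient.mk_surjective x
    obtain ⟨b, rfl⟩ := Ideal.Quotient.mk_surjective y
    constructor
    · intro h
      have hab : Ideal.Quotient.mk (I ⊔ J) a - Ideal.Quotient.mk (I ⊔ J) b = 0 := by
        simpa [g, sub_eq_add_neg] using h
      rw [← map_sub, Ideal.Quotient.eq_zero_iff_mem, Submodule.mem_sup] at hab
      obtain ⟨i, hi, j, hj, e⟩ := hab
      refine ⟨a - i, ?_⟩
      refine Prod.ext ?_ ?_
      · show Ideal.Quotient.mk I (a - i) = Ideal.Quotient.mk I a
        rw [Ideal.Quotient.eq]; simpa using hi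
      · show Ideal.Quotient.mk J (a - i) = Ideal.Quotient.mk J b
        rw [Ideal.Quotient.eq]
        convert hj using 1
        linear_combination -e
    · rintro ⟨c, hc⟩
      rw [← hc]
      show g (Ideal.Quotient.mk I c, Ideal.Quotient.mk J c) = 0
      simp [g]
  have hinj := LinearMap.lTensor_injective_of_exact_of_flat g hg f hf hfg R'
  rw [eq_bot_iff]
  intro x hx
  obtain ⟨hI, hJ⟩ := hx
  have zI : Algebra.TensorProduct.map (AlgHom.id R R') (Ideal.Quotient.mkₐ R I) x = 0 := by
    refine (Ideal.map_le_iff_le_comap.mpr ?_ : _ ≤ RingHom.ker _) hI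
    intro a ha
    simp [RingHom.mem_ker, Ideal.Quotient.eq_zero_iff_mem.mpr ha]
  have zJ : Algebra.TensorProduct.map (AlgHom.id R R') (Ideal.Quotient.mkₐ R J) x = 0 := by
    refine (Ideal.map_le_iff_le_comap.mpr ?_ : _ ≤ RingHom.ker _) hJ
    intro a ha
    simp [RingHom.mem_ker, Ideal.Quotient.eq_zero_iff_mem.mpr ha]
  have e : ∀ y, TensorProduct.prodRight R R R' (A ⧸ I) (A ⧸ J) (f.lTensor R' y) =
      (Algebra.TensorProduct.map (AlgHom.id R R') (Ideal.Quotient.mkₐ R I) y,
        Algebra.TensorProduct.map (AlgHom.id R R') (Ideal.Quotient.mkₐ R J) y) := by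
    intro y
    induction y using TensorProduct.induction_on with
    | zero => simp only [map_zero]; rfl
    | add u v hu hv => simp [map_add, hu, hv]
    | tmul u v => simp [f]
  refine hinj ?_
  rw [map_zero]
  apply (TensorProduct.prodRight R R R' (A ⧸ I) (A ⧸ J)).injective
  rw [e, zI, zJ, map_zero]
  rfl

end Groth.Agent.S14046
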