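import Groth.Statements.S14048
import Mathlib

set_option autoImplicit false
universe u
open TensorProduct
open CAlg

namespace Groth.Agent.S14048

open scoped TensorProduct
open Polynomial in
theorem exists_phi {A : Type u} [CommRing A] (t : A)
    (h1 : Function.Bijective (Polynomial.aeval (R := ℚ) ((1 : ℚ) ⊗ₜ[ℤ] t : ℚ ⊗[ℤ] A))) :
    ∃ φ : A →+* (Polynomial ℚ), φ t = Polynomial.X ∧ ∀ g : A →+* ℚ, (Polynomial.evalRingHom (g t)).comp φ = g := by
  let e := AlgEquiv.ofBijective _ h1
  refine ⟨e.symm.toRingEquiv.toRingHom.comp (Algebra.TensorProduct.includeRight (R := ℤ) (A := ℚ) (B := A)).toRingHom, ?_, fun g => ?_⟩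
  · show e.symm ((1 : ℚ) ⊗ₜ[ℤ] t) = Polynomial.X
    rw [AlgEquiv.symm_apply_eq]
    exact (Polynomial.aeval_X _).symm
  · let G : ℚ ⊗[ℤ] A →ₐ[ℚ] ℚ := Algebra.TensorProduct.lift (AlgHom.id ℚ ℚ) g.toIntAlgHom fun _ _ => Commute.all _ _
    have hG : G.comp e.toAlgHom = Polynomial.aeval (g t) := by
      refine Polynomial.algHom_ext ?_
      show G (Polynomial.aeval _ X) = _
      rw [Polynomial.aeval_X, Polynomial.aeval_X, Algebra.TensorProduct.lift_tmul, map_one, one_mul]; rfl
    ext a
    show Polynomial.eval (g t) (e.symm ((1 : ℚ) ⊗ₜ[ℤ] a)) = g a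
    rw [← Polynomial.coe_aeval_eq_eval, ← hG]
    show G (e (e.symm _)) = g a
    rw [AlgEquiv.apply_symm_apply, Algebra.TensorProduct.lift_tmul, map_one, one_mul]; rfl

/-- Let A be an integral domain in which 2 is invertible and let t be an element of A, so that Spec A is
a scheme over the affine line Spec ℤ[1/2][t]. Assume that (1) the ℚ-algebra map (Polynomial ℚ) → ℚ ⊗_ℤ A
sending X to 1 ⊗ t is bijective (the map Spec A → Spec ℤ[1/2][t] becomes an isomorphism after base
change to ℚ); (2) every prime number is invertible in A/(t) (the fibre over t = 0 is of pure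
characteristic zero); and (3) there is a ring homomorphism s : A → ℤ[1/2] with s(t) = 1 (the fibre
over t = 1 admits a section). Then A is not Noetherian. -/
theorem result (A : Type u) [CommRing A]
    [IsDomain A] (h2 : IsUnit (2 : A)) (t : A)
    (h1 : Function.Bijective (Polynomial.aeval (R := ℚ) ((1 : ℚ) ⊗ₜ[ℤ] t : ℚ ⊗[ℤ] A)))
    (h0 : ∀ p : ℕ, p.Prime → IsUnit ((p : ℕ) : A ⧸ Ideal.span ({t} : Set A)))
    (s : A →+* Localization.Away (2 : ℤ)) (hs : s t = 1) :
    ¬ IsNoetherianRing A := by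
  intro hN
  obtain ⟨φ, hφt, hφ⟩ := exists_phi t h1
  let ι : Localization.Away (2 : ℤ) →+* A := IsLocalization.Away.lift (2 : ℤ) (g := Int.castRingHom A) (by simpa using h2)
  have hsι : ∀ z, s (ι z) = z := fun z =>
    RingHom.congr_fun (IsLocalization.ringHom_ext (Submonoid.powers (2 : ℤ)) (RingHom.ext_int _ _) : s.comp ι = RingHom.id _) z
  obtain ⟨gs, hgs⟩ := (isNoetherianRing_iff_ideal_fg A).mp hN (RingHom.ker s)
  obtain ⟨m, hm⟩ := IsLocalization.exist_integer_multiples_of_finite (nonZeroDivisors ℤ)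
    (fun ik : (Σ g : gs, Fin ((φ (g : A)).natDegree + 1)) => (φ (ik.1 : A)).coeff ik.2)
  let D : ℤ := 2 * (m : ℤ)
  have hD0 : D ≠ 0 := mul_ne_zero two_ne_zero (nonZeroDivisors.coe_ne_zero m)
  have hu : IsUnit ((Int.castRingHom ℚ) D) := isUnit_iff_ne_zero.mpr (by simpa using hD0)
  let κ : Localization.Away D →+* ℚ := IsLocalization.Away.lift D hu
  have hgL : ∀ g : gs, φ (g : A) ∈ Polynomial.lifts κ := by
    intro g
    rw [Polynomial.lifts_iff_coeff_lifts]
    intro k
    rcases Nat.lt_or_ge k ((φ (g : A)).natDegree + 1) with hk | hk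
    · obtain ⟨z, hz⟩ := hm ⟨g, ⟨k, hk⟩⟩
      refine ⟨algebraMap ℤ _ (2 * z) * IsLocalization.Away.invSelf (S := Localization.Away D) D, ?_⟩
      have h := congrArg κ (IsLocalization.Away.mul_invSelf (S := Localization.Away D) D)
      rw [map_mul, map_one, IsLocalization.Away.lift_eq] at h
      have hDq : ((D : ℤ) : ℚ) ≠ 0 := by exact_mod_cast hD0
      rw [map_mul, IsLocalization.Away.lift_eq, ← mul_right_inj' hDq, mul_left_comm]
      simp only [eq_intCast] at h hz ⊢
      rw [h, mul_one, zsmul_eq_mul] at *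
      simp only [D, Int.cast_mul, hz]; ring
    · exact ⟨0, by rw [map_zero, Polynomial.coeff_eq_zero_of_natDegree_lt (by omega)]⟩
  have hC : ∀ z, φ (ι z) ∈ Polynomial.lifts κ := by
    have h2D : IsUnit ((Int.castRingHom (Localization.Away D)) 2) := by
      refine isUnit_of_dvd_unit ?_ (IsLocalization.Away.algebraMap_isUnit (S := Localization.Away D) D)
      exact ⟨(Int.castRingHom _) (m : ℤ), by simp [D]⟩
    let j : Localization.Away (2 : ℤ) →+* Localization.Away D := IsLocalization.Away.lift (2 : ℤ) h2D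
    intro z
    refine ⟨Polynomial.C (j z), ?_⟩
    exact RingHom.congr_fun (IsLocalization.ringHom_ext (Submonoid.powers (2 : ℤ)) (RingHom.ext_int _ _) :
      ((Polynomial.mapRingHom κ).comp Polynomial.C).comp j = φ.comp ι) z
  have hdvd : ∀ g : gs, (Polynomial.X - 1 : (Polynomial ℚ)) ∣ φ (g : A) := by
    intro g
    have hg : s g = 0 := RingHom.mem_ker.mp (hgs ▸ Ideal.subset_span g.2)
    let j : Localization.Away (2 : ℤ) →+* ℚ := IsLocalization.Away.lift (2 : ℤ) (g := Int.castRingHom ℚ) (by simp)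
    have := RingHom.congr_fun (hφ (j.comp s)) g
    rw [RingHom.comp_apply, RingHom.comp_apply, RingHom.comp_apply, hg, map_zero, hs, map_one] at this
    rw [← Polynomial.C_1, Polynomial.dvd_iff_isRoot]
    exact this
  have key : ∀ (j : ℕ) (a : A), ∃ l ∈ Polynomial.lifts κ, (Polynomial.X - 1 : (Polynomial ℚ)) ^ j ∣ φ a - l := by
    intro j
    induction j with
    | zero => exact fun a => ⟨0, Subsemiring.zero_mem _, by rw [pow_zero]; exact one_dvd _⟩
    | succ j ih =>
      intro a
      have ha : a - ι (s a) ∈ Submodule.span A (gs : Set A) := by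
        show a - ι (s a) ∈ Ideal.span _
        rw [hgs, RingHom.mem_ker, map_sub, hsι, sub_self]
      obtain ⟨e, -, he⟩ := Submodule.mem_span_finset.mp ha
      choose l hl hl' using fun g : gs => ih (e g)
      refine ⟨φ (ι (s a)) + ∑ g : gs, l g * φ (g : A),
        Subsemiring.add_mem _ (hC _) (sum_mem fun g _ => Subsemiring.mul_mem _ (hl g) (hgL g)), ?_⟩
      have : φ a = φ (ι (s a)) + ∑ g : gs, φ (e g) * φ (g : A) := by
        conv_lhs => rw [← add_sub_cancel (ι (s a)) a, ← he, ← Finset.sum_coe_sort gs]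
        simp [map_sum]
      rw [this, add_sub_add_left_eq_sub, ← Finset.sum_sub_distrib]
      refine Finset.dvd_sum fun g _ => ?_
      rw [← sub_mul, pow_succ]
      exact mul_dvd_mul (hl' g) (hdvd g)
  have key2 : ∀ a : A, φ a ∈ Polynomial.lifts κ := by
    intro a
    obtain ⟨_, ⟨l, rfl⟩, hd⟩ := key ((φ a).natDegree + 1) a
    let M : Polynomial (Localization.Away D) := (Polynomial.X - 1) ^ ((φ a).natDegree + 1)
    have hM : M.Monic := Polynomial.Monic.pow (by simpa using Polynomial.monic_X_sub_C (1 : Localization.Away D)) _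
    have hMm : M.map κ = (Polynomial.X - 1) ^ ((φ a).natDegree + 1) := by simp [M]
    refine ⟨l %ₘ M, ?_⟩
    simp only [Polynomial.coe_mapRingHom] at hd ⊢
    rw [Polynomial.map_modByMonic κ hM, hMm]
    obtain ⟨q, hq⟩ := hd
    refine ((Polynomial.div_modByMonic_unique (-q) (φ a) (hMm ▸ hM.map κ) ⟨?_, ?_⟩).2)
    · rw [mul_neg, ← hq]; ring
    · refine lt_of_le_of_lt Polynomial.degree_le_natDegree ?_
      rw [← Polynomial.C_1, Polynomial.degree_pow, Polynomial.degree_X_sub_C]
      simp only [nsmul_one, Nat.cast_lt]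
      exact_mod_cast Nat.lt_succ_self _
  obtain ⟨p, hp1, hp⟩ := Nat.exists_infinite_primes (D.natAbs + 1)
  obtain ⟨a', ha'⟩ := isUnit_iff_exists_inv.mp (h0 p hp)
  obtain ⟨a, rfl⟩ := Ideal.Quotient.mk_surjective a'
  rw [← map_natCast (Ideal.Quotient.mk (Ideal.span ({t} : Set A))), ← map_mul, ← map_one (Ideal.Quotient.mk (Ideal.span ({t} : Set A))),
    Ideal.Quotient.eq, Ideal.mem_span_singleton'] at ha'
  obtain ⟨b, hb⟩ := ha'
  have h := congrArg (fun x => Polynomial.eval 0 (φ x)) hb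
  simp only [map_mul, map_sub, map_one, map_natCast, hφt, Polynomial.eval_mul, Polynomial.eval_sub, Polynomial.eval_natCast,
    Polynomial.eval_one, Polynomial.eval_X, mul_zero] at h
  have h' : (p : ℚ) * (φ a).coeff 0 = 1 := by rw [Polynomial.coeff_zero_eq_eval_zero]; linarith
  obtain ⟨r, hr⟩ := (Polynomial.lifts_iff_coeff_lifts _).mp (key2 a) 0
  obtain ⟨k, z, hz⟩ := IsLocalization.Away.surj D r
  have h'' := congrArg κ hz
  rw [map_mul, map_pow, IsLocalization.Away.lift_eq, IsLocalization.Away.lift_eq, hr, eq_intCast, eq_intCast] at h''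
  have hcast : ((D ^ k : ℤ) : ℚ) = (((p : ℤ) * z : ℤ) : ℚ) := by
    rw [Int.cast_mul, ← h'', Int.cast_natCast, ← mul_assoc, h', one_mul, Int.cast_pow]
  have hdiv : (p : ℤ) ∣ D ^ k := ⟨z, by exact_mod_cast hcast⟩
  have := Int.natAbs_dvd_natAbs.mpr ((Int.Prime.dvd_pow' hp hdiv : (p : ℤ) ∣ D))
  rw [Int.natAbs_natCast] at this
  have := Nat.le_of_dvd (Int.natAbs_pos.mpr hD0) this
  omega

end Groth.Agent.S14048
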