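import Groth.Statements.S14049
import Groth.Agent.FlatBasics.SqSurj
import Mathlib.AlgebraicGeometry.Morphisms.ClosedImmersion
import Mathlib.AlgebraicGeometry.Morphisms.Affine
import Mathlib.Topology.Homeomorph.Lemmas

set_option autoImplicit false
universe u
open CategoryTheory AlgebraicGeometry
open LocStr

namespace Groth.Agent.S14049

/-- For schemes. Let f : X → Y be a morphism of schemes and let I be a quasi-coherent sheaf of ideals on
X which is nilpotent (some power of I is zero). Let X₁ ⊆ X be the closed subscheme defined by I².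
Then f is a closed immersion as soon as the composite X₁ → X → Y is one. (The published statement is
the same assertion for a morphism of algebraic stacks; it is stated here for schemes.) -/
theorem result (X Y : Scheme.{u}) (f : X ⟶ Y)
    (I : X.IdealSheafData) (hI : IsNilpotent I)
    (h : IsClosedImmersion ((I ^ 2).subschemeι ≫ f)) :
    IsClosedImmersion f := by
  have hI2 : IsNilpotent (I ^ 2) := hI.pow_of_pos two_ne_zero
  have : Surjective (I ^ 2).subschemeι := ⟨by
    rw [← Set.range_eq_univ, Scheme.IdealSheafData.range_subschemeι]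
    obtain ⟨n, hn⟩ := hI2
    rw [← Scheme.IdealSheafData.support_pow (I ^ 2) (n + 1) (by simp), pow_succ, hn]
    simp⟩
  have hce := ((I ^ 2).subschemeι ≫ f).isClosedEmbedding
  have hi := (I ^ 2).subschemeι.surjective
  have hrange : Set.range f = Set.range ((I ^ 2).subschemeι ≫ f) :=
    (hi.range_comp f).symm
  have hclosed : IsClosed (Set.range f) := hrange ▸ hce.isClosed_range
  have hind : Topology.IsInducing f := by
    have hh : IsHomeomorph (I ^ 2).subschemeι :=
      isHomeomorph_iff_continuous_isClosedMap_bijective.mpr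
        ⟨(I ^ 2).subschemeι.continuous, (I ^ 2).subschemeι.isClosedEmbedding.isClosedMap,
          (I ^ 2).subschemeι.isClosedEmbedding.injective, hi⟩
    obtain ⟨e, he⟩ := isHomeomorph_iff_exists_homeomorph.mp hh
    have := hce.isInducing.comp e.symm.isInducing
    convert this using 1
    ext y
    have h2 : (I ^ 2).subschemeι (e.symm y) = y := by rw [← he]; exact e.apply_symm_apply y
    rw [Function.comp_apply, Scheme.Hom.comp_apply, h2]
  have := isAffineHom_of_isInducing f hind hclosed
  refine (isClosedImmersion_iff_isAffineHom (f := f)).mpr ⟨this, fun U hU ↦ ?_⟩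
  refine FlatBasics.surjective_of_sup_sq (f.app U).hom (I.ideal ⟨f ⁻¹ᵁ U, hU.preimage f⟩) ?_ fun b ↦ ?_
  · obtain ⟨n, hn⟩ := hI
    exact ⟨n, by simpa using congrArg (fun K : X.IdealSheafData ↦ K.ideal ⟨f ⁻¹ᵁ U, hU.preimage f⟩) hn⟩
  · obtain ⟨a, ha⟩ := ((I ^ 2).subschemeι ≫ f).app_surjective U hU ((I ^ 2).subschemeι.app _ b)
    refine ⟨a, ?_⟩
    have hk := (I ^ 2).subschemeι.ker_apply ⟨f ⁻¹ᵁ U, hU.preimage f⟩
    rw [Scheme.IdealSheafData.ker_subschemeι] at hk
    have hp : (I ^ 2).ideal ⟨f ⁻¹ᵁ U, hU.preimage f⟩ = I.ideal ⟨f ⁻¹ᵁ U, hU.preimage f⟩ ^ 2 := by simp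
    rw [← hp, hk, RingHom.mem_ker, map_sub, sub_eq_zero]
    exact ha.symm

end Groth.Agent.S14049
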