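import Groth.Statements.S1405
import Groth.Agent.FlatOverBC.NoethFibre


set_option autoImplicit false
universe u
open FlatMor

namespace Groth.Agent.S1405

open AlgebraicGeometry CategoryTheory Limits in
/-- Let Y' → Y be flat, locally of finite presentation and surjective and f' the base change of f : X →
Y. Then all fibres of f are locally Noetherian if and only if all fibres of f' are. -/
theorem result {X Y X' Y' : Scheme.{u}} (f : X ⟶ Y) (f' : X' ⟶ Y') (g' : X' ⟶ X) (g : Y' ⟶ Y) [Flat g] [LocallyOfFinitePresentation g] [Surjective g]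
    (hc : IsPullback g' f' f g) :
    (∀ y : Y, IsLocallyNoetherian (f.fiber y)) ↔ ∀ y' : Y', IsLocallyNoetherian (f'.fiber y') := by
  refine ⟨fun h y' => ?_, fun h y => ?_⟩
  · haveI := h (g y')
    exact Agent.FlatOverBC.isLocallyNoetherian_fiber_baseChange hc y'
  · obtain ⟨y', rfl⟩ := g.surjective y
    haveI := h y'
    exact Agent.FlatOverBC.isLocallyNoetherian_fiber_of_baseChange hc y'

end Groth.Agent.S1405
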