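import Groth.Statements.S14051
import Mathlib

set_option autoImplicit false
universe u
open CAlg

namespace Groth.Agent.S14051

/-- Let A be a commutative ℕ-graded algebra over a base ring R which is generated by A_1 as an
A_0-algebra, written as A_{n+1} = A_1 · A_n for every n, and let M be a graded A-module: an A-module
with R-submodules M_n giving a direct-sum decomposition and A_i · M_j ⊆ M_{i+j}. If M is spanned
over A by a set of homogeneous elements all of degree at most n₀, then for every n ≥ n₀ and every k
≥ 0 the degree-(n+k) part of M is A_k · M_n. -/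
theorem result
    (R : Type u) [CommRing R] (A : Type u) [CommRing A] [Algebra R A]
    (𝒜 : ℕ → Submodule R A) [GradedAlgebra 𝒜]
    (hA : ∀ n : ℕ, 𝒜 (n + 1) = 𝒜 1 * 𝒜 n)
    (M : Type u) [AddCommGroup M] [Module R M] [Module A M] [IsScalarTower R A M]
    (ℳ : ℕ → Submodule R M) [DirectSum.Decomposition ℳ] [SetLike.GradedSMul 𝒜 ℳ]
    (s : Set M) (n₀ : ℕ) (hs : ∀ y ∈ s, ∃ d : ℕ, d ≤ n₀ ∧ y ∈ ℳ d)
    (hspan : Submodule.span A s = ⊤)
    (n k : ℕ) (hn : n₀ ≤ n) :
    ℳ (n + k) = 𝒜 k • ℳ n := by
  classical
  have hsplit : ∀ k m : ℕ, 𝒜 (k + m) = 𝒜 k * 𝒜 m := by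
    intro k
    induction k with
    | zero =>
      intro m
      rw [zero_add]
      refine le_antisymm (fun x hx => ?_) ?_
      · rw [← one_mul x]
        exact Submodule.mul_mem_mul SetLike.GradedOne.one_mem hx
      · rw [Submodule.mul_le]
        intro a ha b hb
        simpa using SetLike.mul_mem_graded ha hb
    | succ k ih =>
      intro m
      rw [show k + 1 + m = (k + m) + 1 by omega, hA, ih, hA k, mul_assoc]
  refine le_antisymm ?_ ?_
  · intro x hx
    let π : M →ₗ[R] M := (ℳ (n + k)).subtype ∘ₗ (DirectSum.component R ℕ (fun i => ℳ i) (n + k)) ∘ₗ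
      (DirectSum.decomposeLinearEquiv ℳ).toLinearMap
    have hπ_mem : ∀ {d : ℕ} {y : M}, y ∈ ℳ d → π y = if d = n + k then y else 0 := by
      intro d y hy
      change ((DirectSum.decompose ℳ y) (n + k) : M) = _
      split_ifs with h
      · subst h; rw [DirectSum.decompose_of_mem_same ℳ hy]
      · rw [DirectSum.decompose_of_mem_ne ℳ hy h]
    have key : ∀ y ∈ Submodule.span A s, π y ∈ 𝒜 k • ℳ n := by
      intro y hy
      have hgen : ∀ (a : A), ∀ y ∈ s, π (a • y) ∈ 𝒜 k • ℳ n := by
        intro a y hy
        obtain ⟨d, hd, hyd⟩ := hs y hy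
        induction a using DirectSum.Decomposition.inductionOn 𝒜 with
        | zero => rw [zero_smul, map_zero]; exact zero_mem _
        | add a b ha hb => rw [add_smul, map_add]; exact add_mem ha hb
        | homogeneous b =>
          rename_i i
          obtain ⟨b, hb⟩ := b
          rw [hπ_mem (d := i + d) (SetLike.GradedSMul.smul_mem hb hyd)]
          split_ifs with h
          · have hi : i = k + (n - d) := by omega
            rw [hi, hsplit] at hb
            refine Submodule.mul_induction_on hb (C := fun b => b • y ∈ 𝒜 k • ℳ n) (fun u hu v hv => ?_) fun u v hu hv => ?_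
            · rw [mul_smul]
              refine Submodule.smul_mem_smul hu ?_
              have := SetLike.GradedSMul.smul_mem hv hyd
              rwa [vadd_eq_add, Nat.sub_add_cancel (hd.trans hn)] at this
            · rw [add_smul]; exact add_mem hu hv
          · exact zero_mem _
      induction hy using Submodule.closure_induction with
      | zero => rw [map_zero]; exact zero_mem _
      | add u v _ _ hu hv => rw [map_add]; exact add_mem hu hv
      | smul_mem a u hu => exact hgen a u hu
    have := key x (hspan ▸ Submodule.mem_top)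
    rwa [hπ_mem hx, if_pos rfl] at this
  · rw [Submodule.smul_le]
    intro a ha b hb
    have := SetLike.GradedSMul.smul_mem ha hb
    rwa [vadd_eq_add, Nat.add_comm] at this

end Groth.Agent.S14051
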