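import Groth.Statements.S14053
import Mathlib

set_option autoImplicit false
universe u
open CAlg

namespace Groth.Agent.S14053

variable {k R : Type u} [Field k] [CommRing R] [Algebra k R] (ℛ : ℕ → Submodule k R) [GradedAlgebra ℛ]

theorem pow_le (i a : ℕ) : ℛ i ^ a ≤ ℛ (i * a) := by
  induction a with
  | zero =>
    rw [pow_zero, mul_zero, Submodule.one_le]
    exact SetLike.one_mem_graded ℛ
  | succ a ih =>
    rw [pow_succ, Nat.mul_succ]
    exact Submodule.mul_le.mpr fun x hx y hy => SetLike.mul_mem_graded (ih hx) hy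

theorem monomial_le (a b c : ℕ) : ℛ 1 ^ a * ℛ 2 ^ b * ℛ 3 ^ c ≤ ℛ (a + 2 * b + 3 * c) := by
  refine Submodule.mul_le.mpr fun x hx y hy => SetLike.mul_mem_graded ?_ (pow_le ℛ 3 c hy)
  refine (Submodule.mul_le.mpr fun x hx y hy => SetLike.mul_mem_graded ?_ (pow_le ℛ 2 b hy)) hx
  simpa using pow_le ℛ 1 a hx

theorem component_le (hgen : Algebra.adjoin k ((ℛ 1 : Set R) ∪ (ℛ 2 : Set R) ∪ (ℛ 3 : Set R)) = ⊤) (n : ℕ) :
    ℛ n ≤ ⨆ (v : ℕ × ℕ × ℕ) (_ : v.1 + 2 * v.2.1 + 3 * v.2.2 = n), ℛ 1 ^ v.1 * ℛ 2 ^ v.2.1 * ℛ 3 ^ v.2.2 := by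
  classical
  let M : ℕ × ℕ × ℕ → Submodule k R := fun v => ℛ 1 ^ v.1 * ℛ 2 ^ v.2.1 * ℛ 3 ^ v.2.2
  have hM : ∀ v w, M v * M w = M (v + w) := fun v w => by
    simp only [M, Prod.fst_add, Prod.snd_add, pow_add]; ring
  have hall : ∀ x : R, x ∈ ⨆ v, M v := by
    intro x
    have hx : x ∈ Algebra.adjoin k ((ℛ 1 : Set R) ∪ (ℛ 2 : Set R) ∪ (ℛ 3 : Set R)) := hgen ▸ Algebra.mem_top
    induction hx using Algebra.adjoin_induction with
    | mem y hy =>
      rcases hy with (h | h) | h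
      · exact Submodule.mem_iSup_of_mem (1, 0, 0) (by simpa [M] using h)
      · exact Submodule.mem_iSup_of_mem (0, 1, 0) (by simpa [M] using h)
      · exact Submodule.mem_iSup_of_mem (0, 0, 1) (by simpa [M] using h)
    | algebraMap r =>
      exact Submodule.mem_iSup_of_mem (0, 0, 0) (by simpa [M] using Submodule.mem_one.mpr ⟨r, rfl⟩)
    | add y z _ _ hy hz => exact add_mem hy hz
    | mul y z _ _ hy hz =>
      have h := Submodule.mul_mem_mul hy hz
      rw [Submodule.iSup_mul] at h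
      refine SetLike.le_def.mp (iSup_le fun v => ?_) h
      rw [Submodule.mul_iSup]
      exact iSup_le fun w => (hM v w).le.trans (le_iSup M (v + w))
  intro f hf
  have key : ∀ x ∈ ⨆ v, M v, GradedRing.proj ℛ n x ∈
      ⨆ (v : ℕ × ℕ × ℕ) (_ : v.1 + 2 * v.2.1 + 3 * v.2.2 = n), M v := by
    intro x hx
    induction hx using Submodule.iSup_induction' with
    | mem v y hy =>
      by_cases hv : v.1 + 2 * v.2.1 + 3 * v.2.2 = n
      · rw [GradedRing.proj_apply, DirectSum.decompose_of_mem_same ℛ (hv ▸ monomial_le ℛ _ _ _ hy)]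
        exact Submodule.mem_iSup_of_mem v (Submodule.mem_iSup_of_mem hv hy)
      · rw [GradedRing.proj_apply, DirectSum.decompose_of_mem_ne ℛ (monomial_le ℛ _ _ _ hy) hv]
        exact zero_mem _
    | zero => rw [map_zero]; exact zero_mem _
    | add y z _ _ hy hz => rw [map_add]; exact add_mem hy hz
  have := key f (hall f)
  rwa [GradedRing.proj_apply, DirectSum.decompose_of_mem_same ℛ hf] at this

theorem veronese (hgen : Algebra.adjoin k ((ℛ 1 : Set R) ∪ (ℛ 2 : Set R) ∪ (ℛ 3 : Set R)) = ⊤) (e : ℕ)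
    (he : 2 ≤ e) : ∀ m : ℕ, ℛ ((m + 1) * (6 * e)) ≤ ℛ (6 * e) ^ (m + 1) := by
  intro m
  induction m with
  | zero => simp
  | succ m ih =>
    refine (component_le ℛ hgen _).trans (iSup₂_le fun v hv => ?_)
    obtain ⟨a, b, c⟩ := v
    simp only at hv ⊢
    have hlb : (m + 2) * e ≤ a / 6 + b / 3 + c / 2 + 2 := by
      have h6 : (m + 1 + 1) * (6 * e) = 6 * ((m + 2) * e) := by ring
      omega
    have hm2 : 2 * e ≤ (m + 2) * e := Nat.mul_le_mul_right e (by omega)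
    have hA := Nat.div_mul_le_self a 6
    have hB := Nat.div_mul_le_self b 3
    have hC := Nat.div_mul_le_self c 2
    obtain ⟨i, j, l, hi, hj, hl, hsum⟩ : ∃ i j l, i ≤ a / 6 ∧ j ≤ b / 3 ∧ l ≤ c / 2 ∧ i + j + l = e :=
      ⟨min (a / 6) e, min (b / 3) (e - min (a / 6) e), e - min (a / 6) e - min (b / 3) (e - min (a / 6) e),
        min_le_left _ _, min_le_left _ _, by omega, by omega⟩
    obtain ⟨a', rfl⟩ : ∃ a', a = 6 * i + a' := ⟨a - 6 * i, by omega⟩
    obtain ⟨b', rfl⟩ : ∃ b', b = 3 * j + b' := ⟨b - 3 * j, by omega⟩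
    obtain ⟨c', rfl⟩ : ∃ c', c = 2 * l + c' := ⟨c - 2 * l, by omega⟩
    calc ℛ 1 ^ (6 * i + a') * ℛ 2 ^ (3 * j + b') * ℛ 3 ^ (2 * l + c')
        = (ℛ 1 ^ (6 * i) * ℛ 2 ^ (3 * j) * ℛ 3 ^ (2 * l)) * (ℛ 1 ^ a' * ℛ 2 ^ b' * ℛ 3 ^ c') := by
          simp only [pow_add]; ring
      _ ≤ ℛ (6 * e) * ℛ ((m + 1) * (6 * e)) := by
          refine mul_le_mul' ((monomial_le ℛ _ _ _).trans_eq (congrArg ℛ (by omega))) ((monomial_le ℛ _ _ _).trans_eq (congrArg ℛ ?_))
          have h7 : (m + 1 + 1) * (6 * e) = 6 * e + (m + 1) * (6 * e) := by ring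
          omega
      _ ≤ ℛ (6 * e) * ℛ (6 * e) ^ (m + 1) := mul_le_mul_right ih _
      _ = ℛ (6 * e) ^ (m + 1 + 1) := by rw [← pow_succ']

/-- Let k be a field and R a commutative ℕ-graded k-algebra with R_0 = k · 1 which is generated as a
k-algebra by R_1, R_2 and R_3, each a finite-dimensional k-vector space, of dimensions d_1, d_2,
d_3. Then for every natural number e ≥ 5 d_1 + 4 d_2 + 3 d_3 the (6e)-th Veronese subring of R is
generated in degree one over k: R_{6em} = (R_{6e})^m for every m > 0. -/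
theorem result
    (k : Type u) [Field k] (R : Type u) [CommRing R] [Algebra k R]
    (ℛ : ℕ → Submodule k R) [GradedAlgebra ℛ]
    (h0 : ℛ 0 = 1)
    (hgen : Algebra.adjoin k ((ℛ 1 : Set R) ∪ (ℛ 2 : Set R) ∪ (ℛ 3 : Set R)) = ⊤)
    [Module.Finite k (ℛ 1)] [Module.Finite k (ℛ 2)] [Module.Finite k (ℛ 3)]
    (e : ℕ) (he : 5 * Module.finrank k (ℛ 1) + 4 * Module.finrank k (ℛ 2) + 3 * Module.finrank k (ℛ 3) ≤ e)
    (m : ℕ) (hm : 0 < m) :
    ℛ (m * (6 * e)) = ℛ (6 * e) ^ m := by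
  refine le_antisymm ?_ (((pow_le ℛ (6 * e) m)).trans_eq (by rw [mul_comm]))
  obtain ⟨m, rfl⟩ : ∃ m', m = m' + 1 := ⟨m - 1, by omega⟩
  rcases lt_or_ge e 2 with h | h
  · rcases Nat.eq_zero_or_pos e with rfl | hpos
    · simp [h0]
    · -- `e = 1` forces the positive degree generators to vanish
      have z : ∀ i, Module.finrank k (ℛ i) = 0 → ∀ [Module.Finite k (ℛ i)], ℛ i = ⊥ := fun i hi _ =>
        Submodule.finrank_eq_zero.mp hi
      have e1 := z 1 (by omega)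
      have e2 := z 2 (by omega)
      have e3 := z 3 (by omega)
      refine (component_le ℛ hgen _).trans (iSup₂_le fun v hv => ?_)
      obtain ⟨a, b, c⟩ := v
      have : a ≠ 0 ∨ b ≠ 0 ∨ c ≠ 0 := by
        by_contra! hz
        obtain ⟨rfl, rfl, rfl⟩ := hz
        simp at hv
        omega
      rcases this with h | h | h <;> simp [e1, e2, e3, ← Submodule.zero_eq_bot, zero_pow h]
  · exact veronese ℛ hgen e h m

end Groth.Agent.S14053
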