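import Groth.Statements.S14059
import Groth.Agent.GrpSch.Points
import Groth.Prelude.Def_CurvBase

set_option backward.isDefEq.respectTransparency.types false


set_option autoImplicit false
universe u
open CategoryTheory MonoidalCategory CartesianMonoidalCategory MonObj GrpObj AlgebraicGeometry
open GrpSch

namespace Groth.Agent.S14059

/-- Let k be an algebraically closed field and G a group scheme of finite type over k, with unit point e
(the image of the unit section). Then the tangent space of G at e is zero, that is the cotangent
space m_e/m_e² of the local ring O_{G,e} vanishes, if and only if G is isomorphic over k to a finite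
disjoint union of copies of Spec k, stated as: the underlying space of G is finite and discrete and
the structure map k → O_{G,g} is bijective for every point g. (The published statement is over an
arbitrary field; the group scheme of cube roots of unity over the rationals has zero tangent space
at the unit but a point with residue field larger than the base field, and the printed argument
translates by rational points, so the base field is taken algebraically closed here.) -/
theorem result (k : Type u) [Field k] [IsAlgClosed k]
    (G : Over (Spec (CommRingCat.of k))) [GrpObj G] [LocallyOfFiniteType G.hom] [QuasiCompact G.hom]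
    (e : G.left) (he : e ∈ Set.range (η[G]).left.base) :
    letI : G.left.Over (Spec (CommRingCat.of k)) := ⟨G.hom⟩
    Subsingleton (IsLocalRing.CotangentSpace (G.left.presheaf.stalk e)) ↔
      (Finite G.left ∧ DiscreteTopology G.left ∧
        ∀ g : G.left, Function.Bijective (Curv2.stalkMap k G.left g)) := by
  letI : G.left.Over (Spec (CommRingCat.of k)) := ⟨G.hom⟩
  haveI : IsLocallyNoetherian G.left := LocallyOfFiniteType.isLocallyNoetherian G.hom
  haveI : CompactSpace G.left := QuasiCompact.compactSpace_of_compactSpace G.hom
  haveI : IsNoetherian G.left := {}
  have hstalk : ∀ x : G.left, IsNoetherianRing (G.left.presheaf.stalk x) := fun x => inferInstance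
  change Subsingleton (IsLocalRing.CotangentSpace (G.left.presheaf.stalk e)) ↔ _
  obtain ⟨w, rfl⟩ := he
  obtain rfl : w = IsLocalRing.closedPoint k := Subsingleton.elim (α := PrimeSpectrum k) _ _
  constructor
  · intro hsub
    have he' := IsLocalRing.subsingleton_cotangentSpace_iff.1 hsub
    have hfield : ∀ g : G.left, IsClosed ({g} : Set G.left) → IsField (G.left.presheaf.stalk g) := by
      intro g hg
      obtain ⟨pg, hpg⟩ := GrpSch.exists_ratPoint G hg
      haveI : IsIso (GrpSch.translate pg).hom.left :=
        inferInstanceAs (IsIso ((Over.forget _).map (GrpSch.translate pg).hom))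
      have ht := GrpSch.translate_one_apply (G := G) pg
      rw [hpg] at ht
      rw [← ht]
      exact MulEquiv.isField he'
        (asIso ((GrpSch.translate pg).hom.left.stalkMap (η[G].left (IsLocalRing.closedPoint k)))).commRingCatIsoToRingEquiv.toMulEquiv
    have hgen : ∀ g y : G.left, IsClosed ({g} : Set G.left) → y ⤳ g → y = g := by
      intro g y hg hy
      have hy' : y ∈ Set.range (G.left.fromSpecStalk g) := by rw [Scheme.range_fromSpecStalk]; exact hy
      obtain ⟨z, rfl⟩ := hy'
      letI := (hfield g hg).toField
      rw [show z = IsLocalRing.closedPoint _ from Subsingleton.elim (α := PrimeSpectrum (G.left.presheaf.stalk g)) _ _]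
      exact Scheme.fromSpecStalk_closedPoint
    have hclosed : ∀ y : G.left, IsClosed ({y} : Set G.left) := by
      intro y
      obtain ⟨g, hg, hgc⟩ := IsClosed.exists_closed_singleton (isClosed_closure (s := ({y} : Set G.left)))
        ⟨y, subset_closure rfl⟩
      have := hgen g y hgc (specializes_iff_mem_closure.2 hg)
      rwa [this]
    haveI : T1Space G.left := ⟨hclosed⟩
    have hfin : Finite G.left := by
      have hs : (Set.univ : Set G.left) ⊆ ⋃ Z ∈ irreducibleComponents G.left, Z := fun x _ =>
        Set.mem_iUnion₂.2 ⟨_, irreducibleComponent_mem_irreducibleComponents x, mem_irreducibleComponent⟩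
      have : (Set.univ : Set G.left).Finite := by
        refine Set.Finite.subset ?_ hs
        refine Set.Finite.biUnion TopologicalSpace.NoetherianSpace.finite_irreducibleComponents fun Z hZ => ?_
        obtain ⟨η₀, hη⟩ := QuasiSober.sober hZ.1 (isClosed_of_mem_irreducibleComponents Z hZ)
        have : Z = {η₀} := by rw [← hη.def, (hclosed η₀).closure_eq]
        rw [this]
        exact Set.finite_singleton _
      exact Set.finite_univ_iff.1 this
    refine ⟨hfin, inferInstance, fun g => ?_⟩
    have hres : Function.Bijective (Curv2.resMap k G.left g) := by
      have h1 : Spec.map (CommRingCat.ofHom (Curv2.resMap k G.left g)) =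
          G.left.fromSpecResidueField g ≫ G.hom := by
        have h : G.hom = G.left.toSpecΓ ≫ Spec.map ((Scheme.ΓSpecIso (CommRingCat.of k)).inv ≫ G.hom.appTop) := by
          rw [Spec.map_comp, ← Scheme.toSpecΓ_naturality_assoc, ← SpecMap_ΓSpecIso_hom, ← Spec.map_comp,
            Iso.inv_hom_id, Spec.map_id, Category.comp_id]
        conv_rhs => rw [Scheme.fromSpecResidueField, Category.assoc, h, Scheme.fromSpecStalk_toSpecΓ_assoc,
          ← Spec.map_comp, ← Spec.map_comp]
        rfl
      have h2 : CommRingCat.ofHom (Curv2.resMap k G.left g) = (residueFieldIsoBase G.hom g (hclosed g)).inv :=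
        Spec.map_injective (h1.trans (SpecMap_residueFieldIsoBase_inv G.hom g (hclosed g)).symm)
      have h3 : Function.Bijective ((residueFieldIsoBase G.hom g (hclosed g)).inv) :=
        ConcreteCategory.bijective_of_isIso _
      rwa [← h2] at h3
    have hinj : Function.Injective (G.left.residue g) := by
      letI := (hfield g (hclosed g)).toField
      exact (G.left.residue g).hom.injective
    exact (Function.Bijective.of_comp_iff' (f := ⇑(G.left.residue g).hom) ⟨hinj, Scheme.residue_surjective _ _⟩ _).1 hres
  · rintro ⟨-, -, hb⟩
    exact IsLocalRing.subsingleton_cotangentSpace_iff.2 (MulEquiv.isField (Field.toIsField k)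
      (RingEquiv.ofBijective _ (hb _)).symm.toMulEquiv)

end Groth.Agent.S14059
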