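import Groth.Statements.S1406
import Groth.Agent.FlatOverBC.NoethFibre


set_option autoImplicit false
universe u
open FlatMor

namespace Groth.Agent.S1406

open AlgebraicGeometry CategoryTheory Limits in
/-- Let a : X' → X be flat, locally of finite presentation and surjective. Then all fibres of f : X → Y
are locally Noetherian if and only if all fibres of a ≫ f are. -/
theorem result {X X' Y : Scheme.{u}} (f : X ⟶ Y) (a : X' ⟶ X) [Flat a] [LocallyOfFinitePresentation a] [Surjective a] :
    (∀ y : Y, IsLocallyNoetherian (f.fiber y)) ↔ ∀ y : Y, IsLocallyNoetherian ((a ≫ f).fiber y) := by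
  have key : ∀ y : Y, ∃ b : (a ≫ f).fiber y ⟶ f.fiber y,
      IsPullback ((a ≫ f).fiberι y) b a (f.fiberι y) := fun y => by
    let b : (a ≫ f).fiber y ⟶ f.fiber y :=
      pullback.lift ((a ≫ f).fiberι y ≫ a) ((a ≫ f).fiberToSpecResidueField y)
        (by rw [Category.assoc]; exact pullback.condition)
    have hb1 : b ≫ f.fiberι y = (a ≫ f).fiberι y ≫ a := pullback.lift_fst _ _ _
    have hb2 : b ≫ f.fiberToSpecResidueField y = (a ≫ f).fiberToSpecResidueField y :=
      pullback.lift_snd _ _ _
    refine ⟨b, IsPullback.of_bot ?_ hb1.symm (IsPullback.of_hasPullback f (Y.fromSpecResidueField y)).flip.flip⟩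
    rw [show b ≫ pullback.snd f (Y.fromSpecResidueField y) = pullback.snd (a ≫ f) (Y.fromSpecResidueField y) from pullback.lift_snd _ _ _]
    exact IsPullback.of_hasPullback (a ≫ f) (Y.fromSpecResidueField y)
  refine forall_congr' fun y => ?_
  obtain ⟨b, hb⟩ := key y
  haveI : Flat b := MorphismProperty.of_isPullback hb inferInstance
  haveI : Surjective b := MorphismProperty.of_isPullback hb inferInstance
  haveI : LocallyOfFinitePresentation b := MorphismProperty.of_isPullback hb inferInstance
  refine ⟨fun h => LocallyOfFiniteType.isLocallyNoetherian b, fun h => ?_⟩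
  haveI : UniversallyOpen b := UniversallyOpen.of_flat b
  exact Agent.FpqcDescent.isLocallyNoetherian_of_flat_surjective_universallyOpen b

end Groth.Agent.S1406
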