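import Groth.Statements.S14060
import Mathlib.Algebra.Homology.DerivedCategory.Ext.ExactSequences

set_option autoImplicit false
universe u
open CategoryTheory CategoryTheory.Limits TopologicalSpace
open CohTop

namespace Groth.Agent.S14060

/-- Let X be a topological space, r ≥ 1 an integer and 0 → F_r → ⋯ → F_2 → F_1 → F_0 → 0 an exact
sequence of sheaves of abelian groups on X, presented as a chain complex F of abelian sheaves
indexed by the natural numbers whose differential F_r → F_{r−1} is a monomorphism, whose
differential F_1 → F_0 is an epimorphism of sheaves, and which is exact at F_j for 1 ≤ j ≤ r − 1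
(for r = 1 the single map F_1 → F_0 is mono and epi). Assume the sheaf cohomology groups H^{j−1}(X,
F_j) vanish for 2 ≤ j ≤ r. Then the map on global sections F_1(X) → F_0(X) is surjective. (The
instance hypothesis that the category of abelian sheaves on X has Ext groups in the universe of X
holds for every X, abelian sheaves on a space forming a Grothendieck abelian category; it is the
setting in which sheaf cohomology is defined.) -/
theorem result (X : TopCat.{u})
    [HasExt.{u} (Sheaf (Opens.grothendieckTopology X) AddCommGrpCat.{u})]
    (r : ℕ) (hr : 1 ≤ r)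
    (F : ChainComplex (Sheaf (Opens.grothendieckTopology X) AddCommGrpCat.{u}) ℕ)
    (hmono : Mono (F.d r (r - 1))) (hepi : Epi (F.d 1 0))
    (hex : ∀ j : ℕ, 1 ≤ j → j < r → F.ExactAt j)
    (hvan : ∀ j : ℕ, 2 ≤ j → j ≤ r → Subsingleton (Sheaf.H (F.X j) (j - 1))) :
    Function.Surjective ((F.d 1 0).hom.app (Opposite.op ⊤)) := by
  open CategoryTheory.Limits Abelian in
  exact by
    let A := Sheaf (Opens.grothendieckTopology X) AddCommGrpCat.{u}
    let Z := (constantSheaf (Opens.grothendieckTopology X) AddCommGrpCat.{u}).obj (AddCommGrpCat.of (ULift ℤ))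
    have key : ∀ (m j : ℕ), j + m = r → 1 ≤ j → Subsingleton (Sheaf.H (F.cycles j) j) := by
      intro m
      induction m with
      | zero =>
        intro j hj _
        obtain rfl : j = r := by omega
        have hz : IsZero (F.cycles j) := by
          rw [IsZero.iff_id_eq_zero, ← cancel_mono (F.iCycles j), ← cancel_mono (F.d j (j - 1))]
          simp
        refine subsingleton_of_forall_eq 0 fun x => ?_
        have : x = x.comp (Ext.mk₀ (𝟙 (F.cycles j))) (add_zero j) := (Ext.comp_mk₀_id x).symm
        rw [this, hz.eq_of_src (𝟙 (F.cycles j)) 0, Ext.mk₀_zero, Ext.comp_zero]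
      | succ m ih =>
        intro j hj hj1
        have hH := ih (j + 1) (by omega) (by omega)
        let S : ShortComplex A := ShortComplex.mk (F.iCycles (j + 1)) (F.toCycles (j + 1) j)
          (by rw [← cancel_mono (F.iCycles j), Category.assoc, F.toCycles_i, F.iCycles_d, zero_comp])
        have hS : S.ShortExact :=
          { exact := by
              refine ShortComplex.exact_of_f_is_kernel _ (KernelFork.IsLimit.ofι' (F.iCycles (j + 1)) S.zero fun k hk =>
                ⟨F.liftCycles k j (ChainComplex.next_nat_succ j)
                  (by rw [← F.toCycles_i (i := j + 1), ← Category.assoc, hk, zero_comp]), F.liftCycles_i _ _ _ _⟩)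
            mono_f := inferInstanceAs (Mono (F.iCycles (j + 1)))
            epi_g := Preadditive.epi_of_cancel_zero _ fun {W} h hh => by
              have hz : IsZero (F.homology j) := (hex j hj1 (by omega)).isZero_homology
              obtain ⟨l, hl⟩ : ∃ l, F.homologyπ j ≫ l = h :=
                ⟨_, (CokernelCofork.IsColimit.desc' (F.homologyIsCokernel (j + 1) j (ChainComplex.prev ℕ j)) h hh).2⟩
              rw [← hl, hz.eq_of_src l 0, comp_zero] }
        have hF : Subsingleton (Sheaf.H (F.X (j + 1)) j) := hvan (j + 1) (by omega) (by omega)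
        refine subsingleton_of_forall_eq 0 fun x => ?_
        obtain ⟨y, hy⟩ := Ext.covariant_sequence_exact₃ Z hS x rfl (@Subsingleton.elim _ hH _ _)
        rw [← hy, @Subsingleton.elim _ hF y 0, Ext.zero_comp]
    let S : ShortComplex A := ShortComplex.mk (F.iCycles 1) (F.d 1 0) (F.iCycles_d 1 0)
    have hS : S.ShortExact :=
      { exact := ShortComplex.exact_of_f_is_kernel _ (F.cyclesIsKernel 1 0 (ChainComplex.next_nat_succ 0))
        mono_f := inferInstanceAs (Mono (F.iCycles 1))
        epi_g := hepi }
    intro t
    obtain ⟨y, hy⟩ := Ext.covariant_sequence_exact₃ Z hS ((Sheaf.H.equiv₀ _ isTerminalTop).symm t) rfl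
      (@Subsingleton.elim _ (key (r - 1) 1 (by omega) le_rfl) _ _)
    refine ⟨Sheaf.H.equiv₀ _ isTerminalTop y, (Sheaf.H.equiv₀_naturality (T := (⊤ : TopologicalSpace.Opens X)) (hT := isTerminalTop) (f := F.d 1 0) y).trans ?_⟩
    exact (congrArg (Sheaf.H.equiv₀ _ isTerminalTop) hy).trans (AddEquiv.apply_symm_apply _ _)

end Groth.Agent.S14060
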