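import Groth.Statements.S14070
import Groth.Agent.Chevalley.Equiv
import Mathlib

set_option autoImplicit false
open CategoryTheory AlgebraicGeometry
universe u
open FamCyc

set_option backward.isDefEq.respectTransparency.types false
namespace Groth.Agent.S14070

open AlgebraicGeometry CategoryTheory Groth.Agent Groth.Agent.EquidimChart Groth.Agent.DimTheory



/-- Let S be a scheme all of whose local rings are geometrically unibranch and which has only finitely
many irreducible components, and let f : X ⟶ S be a morphism locally of finite type such that every
point x of X lies on an irreducible component W of X (given its reduced subscheme structure) with W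
⟶ S equidimensional at x. Then f is universally open. (No Noetherian hypothesis on S: finiteness of
its set of irreducible components is what is used, and the statement fails without it.) -/
theorem result {X S : Scheme.{u}}
    (hS : ∀ s : S, CAlg2.IsGeomUnibranch (S.presheaf.stalk s))
    (hfin : (irreducibleComponents (S : Type u)).Finite)
    (f : X ⟶ S) [LocallyOfFiniteType f]
    (hT : ∀ x : X, ∃ W : TopologicalSpace.Closeds X, (W : Set X) ∈ irreducibleComponents (X : Type u) ∧
      ∃ w : ↥((Scheme.IdealSheafData.vanishingIdeal W).subscheme),
        (Scheme.IdealSheafData.vanishingIdeal W).subschemeι.base w = x ∧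
        EGA43.IsEquidimAt ((Scheme.IdealSheafData.vanishingIdeal W).subschemeι ≫ f) w) :
    UniversallyOpen f := by
  refine Chevalley.universallyOpen_of_forall f fun x => ?_
  obtain ⟨W, hW, w, hw, hequi⟩ := hT x
  obtain ⟨e, U, hwU, hcomp, h1, h2⟩ := data_of_isEquidimAt _ hequi
  have hZ := irreducibleComponent_mem_irreducibleComponents w
  have hξ := mem_component_isMax hZ
  have hξw : hZ.1.genericPoint ⤳ w :=
    specializes_iff_mem_closure.2 ((component_eq_closure hZ).symm ▸ mem_irreducibleComponent)
  obtain ⟨hη, hηw⟩ := hcomp _ (hξw.mem_open U.2 hwU) hξ
  refine hw ▸ Chevalley.isUnivOpenAt_of_closed _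
    (Scheme.IdealSheafData.vanishingIdeal W).subschemeι.isEmbedding.injective f w ?_
  exact Chevalley.isUnivOpenAt_of_generic _ w _ hξw hη
    (Chevalley.closure_mem_nhds_of_finite hfin _ (hS _).1.1 hηw hη) e
    (h1 _ (hξw.mem_open U.2 hwU) fun z hz _ => hξ z hz) (h2 w hwU).le (hS _)

end Groth.Agent.S14070
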