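import Groth.Statements.S14075
import Groth.Agent.EquidimChart.UnivOpen
import Mathlib

set_option autoImplicit false
open CategoryTheory AlgebraicGeometry
universe u
open FamCyc

namespace Groth.Agent.S14075

open Groth.Agent.EquidimChart Groth.Agent.DimTheory
set_option backward.isDefEq.respectTransparency.types false


/-- Let f : X ⟶ S be locally of finite type and universally open. Then every point x of X lies on an
irreducible component W of X, given its reduced subscheme structure, such that W ⟶ S is
equidimensional at x. -/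
theorem result {X S : Scheme.{u}} (f : X ⟶ S) [LocallyOfFiniteType f]
    [UniversallyOpen f] (x : X) :
    ∃ W : TopologicalSpace.Closeds X, (W : Set X) ∈ irreducibleComponents (X : Type u) ∧
      ∃ w : ↥((Scheme.IdealSheafData.vanishingIdeal W).subscheme),
        (Scheme.IdealSheafData.vanishingIdeal W).subschemeι.base w = x ∧
        EGA43.IsEquidimAt ((Scheme.IdealSheafData.vanishingIdeal W).subschemeι ≫ f) w := by
  obtain ⟨y, n, hyx, hy, hn, hd⟩ := exists_fibreMax f x
  obtain ⟨η, hη, hηmax⟩ := Groth.Agent.FlatMorLib.exists_maximal_generization (f y)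
  obtain ⟨y1, n', m, hy1, hfy1, hn', hm, hnm⟩ := exists_generization f hy hη
  obtain rfl : n = n' := Nat.cast_injective (R := Cardinal.{u}) (hn.symm.trans hn')
  obtain ⟨ξ, hξy, hξ⟩ := Groth.Agent.FlatMorLib.exists_maximal_generization y1
  have hfξ : f ξ = η := hηmax _ (hfy1 ▸ hξy.map f.continuous)
  obtain ⟨e, he, -⟩ := height_asFiber f ξ
  have h1 : m ≤ e := trdeg_mono f hξy (hfξ.trans hfy1.symm) hm he
  have hξx : ξ ⤳ x := hξy.trans (hy1.trans hyx)
  have h2 : e ≤ n := le_of_specializes f hξx (fun z hz _ => hξ z hz) he hd.le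
  have hne : e = n := le_antisymm h2 (hnm.trans h1)
  let W : TopologicalSpace.Closeds X := ⟨closure {ξ}, isClosed_closure⟩
  obtain ⟨w, hw, hequi⟩ := isEquidimAt_vanishingIdeal f x ξ W rfl e hξx (by rw [hfξ]; exact hηmax) he (by rw [hd, hne])
  exact ⟨W, Groth.Agent.FlatDim.closure_mem_irreducibleComponents hξ, w, hw, hequi⟩

end Groth.Agent.S14075
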