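import Groth.Statements.S14076
import Groth.Agent.EquidimChart.Crit
import Mathlib

set_option autoImplicit false
open CategoryTheory AlgebraicGeometry
universe u
open FamCyc

namespace Groth.Agent.S14076

open Groth.Agent.EquidimChart


/-- Let f : X ⟶ S be locally of finite type and equidimensional at every point of X. Then every point x
of X lies on an irreducible component W of X, given its reduced subscheme structure, such that W ⟶ S
is equidimensional at x. -/
theorem result {X S : Scheme.{u}} (f : X ⟶ S) [LocallyOfFiniteType f]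
    (h : ∀ x : X, EGA43.IsEquidimAt f x) (x : X) :
    ∃ W : TopologicalSpace.Closeds X, (W : Set X) ∈ irreducibleComponents (X : Type u) ∧
      ∃ w : ↥((Scheme.IdealSheafData.vanishingIdeal W).subscheme),
        (Scheme.IdealSheafData.vanishingIdeal W).subschemeι.base w = x ∧
        EGA43.IsEquidimAt ((Scheme.IdealSheafData.vanishingIdeal W).subschemeι ≫ f) w := by
  obtain ⟨e, U, hxU, hcomp, h1, h2⟩ := data_of_isEquidimAt f (h x)
  have hZ := irreducibleComponent_mem_irreducibleComponents x
  let ξ := hZ.1.genericPoint
  have hξ : ∀ z : X, z ⤳ ξ → z = ξ := Groth.Agent.DimTheory.mem_component_isMax hZ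
  have hξx : ξ ⤳ x := specializes_iff_mem_closure.2 ((Groth.Agent.DimTheory.component_eq_closure hZ).symm ▸ mem_irreducibleComponent)
  have hξU : ξ ∈ U := hξx.mem_open U.isOpen hxU
  let W : TopologicalSpace.Closeds X := ⟨_, isClosed_irreducibleComponent (x := x)⟩
  obtain ⟨w, hw, hequi⟩ := isEquidimAt_vanishingIdeal f x ξ W (Groth.Agent.DimTheory.component_eq_closure hZ).symm e hξx
    (hcomp ξ hξU hξ).1 (h1 ξ hξU fun z hz _ => hξ z hz) (h2 x hxU).le
  exact ⟨W, hZ, w, hw, hequi⟩

end Groth.Agent.S14076
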