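import Groth.Statements.S14079
import Groth.Agent.EquidimChart.Crit
import Mathlib

set_option autoImplicit false
open CategoryTheory AlgebraicGeometry
universe u
open FamCyc

namespace Groth.Agent.S14079

open Groth.Agent.EquidimChart


/-- (iv) ⇒ (iii): let f : X ⟶ S be locally of finite type. Suppose that every point x of X which is a
maximal point of its fibre (no other point of the fibre over f x specializes to x) lies on an
irreducible component W of X, given its reduced subscheme structure, with W ⟶ S equidimensional at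
x. Then every point of X lies on such an irreducible component. -/
theorem result {X S : Scheme.{u}} (f : X ⟶ S) [LocallyOfFiniteType f]
    (h : ∀ x : X, (∀ x' : X, f.base x' = f.base x → x ∈ closure ({x'} : Set X) → x' = x) →
      ∃ W : TopologicalSpace.Closeds X, (W : Set X) ∈ irreducibleComponents (X : Type u) ∧
      ∃ w : ↥((Scheme.IdealSheafData.vanishingIdeal W).subscheme),
        (Scheme.IdealSheafData.vanishingIdeal W).subschemeι.base w = x ∧
        EGA43.IsEquidimAt ((Scheme.IdealSheafData.vanishingIdeal W).subschemeι ≫ f) w)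
    (x : X) :
    ∃ W : TopologicalSpace.Closeds X, (W : Set X) ∈ irreducibleComponents (X : Type u) ∧
      ∃ w : ↥((Scheme.IdealSheafData.vanishingIdeal W).subscheme),
        (Scheme.IdealSheafData.vanishingIdeal W).subschemeι.base w = x ∧
        EGA43.IsEquidimAt ((Scheme.IdealSheafData.vanishingIdeal W).subschemeι ≫ f) w := by
  obtain ⟨y, n, hyx, hy, hn, hd⟩ := exists_fibreMax f x
  obtain ⟨W, hW, w, hw, hequi⟩ := h y fun z hz hzy => hy z (specializes_iff_mem_closure.2 hzy) hz
  let ι := (Scheme.IdealSheafData.vanishingIdeal W).subschemeι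
  obtain ⟨e, U, hwU, hcomp, h1, h2⟩ := data_of_isEquidimAt (ι ≫ f) hequi
  have hr : Set.range ι = (W : Set X) := by
    rw [Scheme.IdealSheafData.range_subschemeι, Scheme.IdealSheafData.coe_support_vanishingIdeal]
  let ξ := hW.1.genericPoint
  have hξ : ∀ z : X, z ⤳ ξ → z = ξ := Groth.Agent.DimTheory.mem_component_isMax hW
  have hWξ : (W : Set X) = closure {ξ} := (Groth.Agent.DimTheory.component_eq_closure hW).symm
  have hξy : ξ ⤳ y := specializes_iff_mem_closure.2 (hWξ ▸ hr ▸ ⟨w, hw⟩)
  obtain ⟨ξ', hξ'⟩ : ξ ∈ Set.range ι := by rw [hr, hWξ]; exact subset_closure rfl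
  have hξ'max : ∀ z, z ⤳ ξ' → z = ξ' := fun z hz =>
    ι.isEmbedding.injective ((hξ _ (hξ' ▸ hz.map ι.continuous)).trans hξ'.symm)
  have hξ'w : ξ' ⤳ w := ι.isEmbedding.isInducing.specializes_iff.1 (by rw [hξ', hw]; exact hξy)
  have hξ'U : ξ' ∈ U := hξ'w.mem_open U.isOpen hwU
  have hwmax : Groth.Agent.FlatEquidim.IsFibreMax (ι ≫ f) w := fun z hz hfz =>
    ι.isEmbedding.injective ((hy _ (hw ▸ hz.map ι.continuous) (by rw [← hw]; exact hfz)).trans hw.symm)
  have hew := h1 w hwU hwmax
  rw [Groth.Agent.FlatEquidim.mapTrdeg_comp, Groth.Agent.DimTheory.mapTrdeg_eq_zero ι, add_zero, hw, hn] at hew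
  have hne : n = e := Nat.cast_injective (R := Cardinal.{u}) hew
  have hξe : Groth.Agent.DimTheory.mapTrdeg f ξ = e := by
    have := h1 ξ' hξ'U fun z hz _ => hξ'max z hz
    rwa [Groth.Agent.FlatEquidim.mapTrdeg_comp, Groth.Agent.DimTheory.mapTrdeg_eq_zero ι, add_zero, hξ'] at this
  have hη : ∀ z : S, z ⤳ f ξ → z = f ξ := hξ' ▸ (hcomp ξ' hξ'U hξ'max).1
  obtain ⟨w', hw', hequi'⟩ := isEquidimAt_vanishingIdeal f x ξ W hWξ e (hξy.trans hyx) hη hξe
    (by rw [hd, hne])
  exact ⟨W, hW, w', hw', hequi'⟩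

end Groth.Agent.S14079
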