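import Groth.Statements.S14080
import Mathlib

set_option autoImplicit false
universe u
open ArSing

namespace Groth.Agent.S14080

open PowerSeries in
lemma const_map_X {k : Type u} [Field k] (h : PowerSeries k →ₐ[k] PowerSeries k) : constantCoeff (h X) = 0 := by
  by_contra hc
  have hu : IsUnit (X - C (constantCoeff (h X))) := by
    rw [isUnit_iff_constantCoeff]; simpa using hc
  have h2 : h (X - C (constantCoeff (h X))) = h X - C (constantCoeff (h X)) := by
    rw [map_sub]; exact congrArg _ (h.commutes _)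
  have := isUnit_constantCoeff _ (hu.map h)
  rw [h2, map_sub, constantCoeff_C, sub_self] at this
  exact not_isUnit_zero this

open PowerSeries in
lemma algHom_ext_X {k : Type u} [Field k] (f g : PowerSeries k →ₐ[k] PowerSeries k) (hX : f X = g X) : f = g := by
  refine AlgHom.ext fun p => PowerSeries.ext fun n => ?_
  have hd : X ^ (n + 1) ∣ p - (trunc (n + 1) p : PowerSeries k) := X_pow_dvd_iff.mpr fun m hm => by
    rw [map_sub, Polynomial.coeff_coe, coeff_trunc, if_pos hm, sub_self]
  obtain ⟨r, hr⟩ := hd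
  have key : ∀ h : PowerSeries k →ₐ[k] PowerSeries k, coeff n (h p) = coeff n (h (trunc (n + 1) p : PowerSeries k)) := fun h => by
    have e : h p = h (trunc (n + 1) p : PowerSeries k) + h X ^ (n + 1) * h r := by
      rw [← map_pow, ← map_mul, ← map_add, ← hr, add_sub_cancel]
    have hd : X ^ (n + 1) ∣ h X ^ (n + 1) * h r :=
      dvd_mul_of_dvd_left (pow_dvd_pow_of_dvd (X_dvd_iff.mpr (const_map_X h)) _) _
    rw [e, map_add, X_pow_dvd_iff.mp hd n n.lt_succ_self, add_zero]
  have hpoly : f.comp (Polynomial.coeToPowerSeries.algHom k) = g.comp (Polynomial.coeToPowerSeries.algHom k) :=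
    Polynomial.algHom_ext (by simpa using hX)
  have e := DFunLike.congr_fun hpoly (trunc (n + 1) p)
  simp only [AlgHom.comp_apply, Polynomial.coeToPowerSeries.algHom_apply] at e
  rw [key f, key g]
  simpa using congrArg (coeff n) e


/-- Let k be a field in which 2 is invertible and σ an involutive k-algebra automorphism of the power
series ring k[[t]], with ξ the coefficient of t in σ(t). Then ξ^2 = 1, the k-algebra endomorphism φ
with φ(t) = (t + ξ σ(t))/2 is an automorphism, and φ⁻¹ σ φ is the automorphism t ↦ ξ t. (The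
published statement is over an algebraically closed field of characteristic prime to 2; only the
invertibility of 2 is used, so any field with 2 ≠ 0 is allowed here.) -/
theorem result (k : Type u) [Field k] (h2 : (2 : k) ≠ 0)
    (σ : PowerSeries k ≃ₐ[k] PowerSeries k) (hσ : ∀ f, σ (σ f) = f) :
    (PowerSeries.coeff 1 (σ PowerSeries.X)) ^ 2 = 1 ∧
    ∃ φ : PowerSeries k ≃ₐ[k] PowerSeries k,
      φ PowerSeries.X = PowerSeries.C (2⁻¹ : k) *
        (PowerSeries.X + PowerSeries.C (PowerSeries.coeff 1 (σ PowerSeries.X)) * σ PowerSeries.X) ∧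
      ∀ f, φ.symm (σ (φ f)) = PowerSeries.rescale (PowerSeries.coeff 1 (σ PowerSeries.X)) f := by
  have hs0 := const_map_X (σ : PowerSeries k →ₐ[k] PowerSeries k)
  set ξ := PowerSeries.coeff 1 (σ PowerSeries.X) with hξ
  set s := σ PowerSeries.X with hs
  replace hs0 : PowerSeries.constantCoeff s = 0 := hs0
  have hξ2 : ξ ^ 2 = 1 := by
    obtain ⟨r, hr⟩ : PowerSeries.X ^ 2 ∣ s - PowerSeries.C ξ * PowerSeries.X := PowerSeries.X_pow_dvd_iff.mpr fun m hm => by
      interval_cases m
      · simp [hs0]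
      · simp [hξ]
    have e : σ s = PowerSeries.C ξ * s + s ^ 2 * σ r := by
      have h1 := congrArg σ hr
      rw [map_sub, map_mul, map_mul, map_pow, ← hs, sub_eq_iff_eq_add] at h1
      rw [h1, add_comm]
      congr 2
      exact σ.commutes ξ
    rw [hs, hσ] at e
    have hd : PowerSeries.X ^ 2 ∣ s ^ 2 * σ r := dvd_mul_of_dvd_left (pow_dvd_pow_of_dvd (PowerSeries.X_dvd_iff.mpr hs0) _) _
    have h1 := congrArg (PowerSeries.coeff 1) e
    rw [map_add, PowerSeries.coeff_one_X, ← hs, PowerSeries.coeff_C_mul, ← hξ, PowerSeries.X_pow_dvd_iff.mp hd 1 one_lt_two, add_zero] at h1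
    rw [sq]; exact h1.symm
  refine ⟨hξ2, ?_⟩
  set g := PowerSeries.C (2⁻¹ : k) * (PowerSeries.X + PowerSeries.C ξ * s) with hg
  have hg0 : PowerSeries.constantCoeff g = 0 := by simp [hg, hs0]
  have hg1 : IsUnit (PowerSeries.coeff 1 g) := by
    refine IsUnit.of_mul_eq_one 1 ?_
    rw [mul_one, hg, PowerSeries.coeff_C_mul, map_add, PowerSeries.coeff_one_X, PowerSeries.coeff_C_mul, ← hξ, ← sq, hξ2,
      one_add_one_eq_two, inv_mul_cancel₀ h2]
  let Q := g.substInvOfIsUnit hg1
  have hgs : PowerSeries.HasSubst g := PowerSeries.HasSubst.of_constantCoeff_zero' hg0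
  have hQs : PowerSeries.HasSubst Q := PowerSeries.HasSubst.of_constantCoeff_zero' (g.constantCoeff_substInvOfIsUnit hg1)
  let φ : PowerSeries k ≃ₐ[k] PowerSeries k := AlgEquiv.ofAlgHom (PowerSeries.substAlgHom hgs) (PowerSeries.substAlgHom hQs)
    (algHom_ext_X _ _ (by
      rw [AlgHom.comp_apply, PowerSeries.substAlgHom_X, PowerSeries.coe_substAlgHom, AlgHom.id_apply]
      exact g.subst_substInvOfIsUnit_left hg0 hg1))
    (algHom_ext_X _ _ (by
      rw [AlgHom.comp_apply, PowerSeries.substAlgHom_X, PowerSeries.coe_substAlgHom, AlgHom.id_apply]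
      exact g.subst_substInvOfIsUnit_right hg0 hg1))
  have hφX : φ PowerSeries.X = g := by
    show PowerSeries.substAlgHom hgs PowerSeries.X = g
    exact PowerSeries.substAlgHom_X hgs
  refine ⟨φ, hφX, fun f => ?_⟩
  rw [AlgEquiv.symm_apply_eq, ← PowerSeries.coe_rescaleAlgHom]
  refine DFunLike.congr_fun (algHom_ext_X ((σ : PowerSeries k →ₐ[k] PowerSeries k).comp (φ : PowerSeries k →ₐ[k] PowerSeries k))
    ((φ : PowerSeries k →ₐ[k] PowerSeries k).comp (PowerSeries.rescaleAlgHom ξ)) ?_) f
  simp only [AlgHom.comp_apply, AlgEquiv.coe_toAlgHom, PowerSeries.coe_rescaleAlgHom]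
  have hC : ∀ (τ : PowerSeries k ≃ₐ[k] PowerSeries k) (c : k), τ (PowerSeries.C c) = PowerSeries.C c := fun τ c => τ.commutes c
  have hC2 : PowerSeries.C ξ * PowerSeries.C ξ = (1 : PowerSeries k) := by rw [← map_mul, ← sq, hξ2, map_one]
  rw [show PowerSeries.rescaleAlgHom ξ PowerSeries.X = PowerSeries.rescale ξ PowerSeries.X from DFunLike.congr_fun (PowerSeries.coe_rescaleAlgHom ξ) _, PowerSeries.rescale_X, map_mul φ, hC, hφX, hg, map_mul, map_add, map_mul, hC, hC, hs, hσ, ← hs]
  linear_combination (-(PowerSeries.C (2⁻¹ : k)) * s) * hC2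

end Groth.Agent.S14080
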