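import Groth.Statements.S14081
import Mathlib
import Groth.Agent.ArSingInv.Cusp
import Groth.Agent.S14080

set_option autoImplicit false
universe u
open ArSing

namespace Groth.Agent.S14081

open Groth.Agent Groth.Agent.ArSingInv

/-- Over an algebraically closed field k of characteristic prime to 2 and to r+1, with r even, every
non-trivial k-algebra involution σ of A_r = k[[x,y]]/(y^2 - x^(r+1)) is conjugate, by a k-algebra
automorphism φ of A_r, to the involution x ↦ x, y ↦ -y (that is, φ⁻¹σφ fixes the class of x and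
negates the class of y). -/
theorem result (k : Type u) [Field k] [IsAlgClosed k] (r : ℕ)
    (h2 : (2 : k) ≠ 0) (hr : ((r + 1 : ℕ) : k) ≠ 0) (hev : Even r)
    (σ : ArSing.ring k r ≃ₐ[k] ArSing.ring k r) (hσ : ∀ a, σ (σ a) = a) (hne : σ ≠ AlgEquiv.refl) :
    ∃ φ : ArSing.ring k r ≃ₐ[k] ArSing.ring k r,
      φ.symm (σ (φ (ArSing.x k r))) = ArSing.x k r ∧
      φ.symm (σ (φ (ArSing.y k r))) = -ArSing.y k r := by
  obtain ⟨n, hn⟩ := hev
  let e := evC k r
  have hinj := evC_injective (k := k) hn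
  have hneg1 : (2 : PowerSeries k) ≠ 0 := fun h0 => h2 (by simpa [map_ofNat] using congrArg PowerSeries.constantCoeff h0)
  -- extend the involution to `k[[t]]`
  let A2 := e (σ (ArSing.x k r))
  let B := e (σ (ArSing.y k r))
  have hrel : B ^ 2 = A2 ^ (r + 1) := by
    show e (σ (ArSing.y k r)) ^ 2 = e (σ (ArSing.x k r)) ^ (r + 1)
    exact ((map_pow e _ 2).symm.trans (congrArg e ((map_pow σ _ 2).symm.trans ((congrArg σ y_sq).trans (map_pow σ _ _))))).trans
      (map_pow e _ _)
  have hA0 : A2 ≠ 0 := fun h => pow_ne_zero 2 PowerSeries.X_ne_zero (show (PowerSeries.X : PowerSeries k) ^ 2 = 0 by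
    have : σ (ArSing.x k r) = 0 := hinj (h.trans (map_zero _).symm)
    rw [← evC_x (k := k) (r := r), (map_eq_zero_iff σ σ.injective).mp this, map_zero])
  obtain ⟨T, hT, hT2⟩ : ∃ T, B = A2 ^ n * T ∧ T ^ 2 = A2 := by
    obtain ⟨T, hT⟩ : A2 ^ n ∣ B := (IsIntegrallyClosed.pow_dvd_pow_iff (two_ne_zero (α := ℕ))).mp
      ⟨A2, by rw [hrel, ← pow_mul, ← pow_succ, hn]; ring_nf⟩
    refine ⟨T, hT, mul_left_cancel₀ (pow_ne_zero 2 (pow_ne_zero n hA0)) ?_⟩
    rw [← mul_pow, ← hT, hrel, hn]; ring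
  have hA00 : PowerSeries.constantCoeff A2 = 0 := by
    have := const_map_X ((e.comp (σ : ArSing.ring k r →ₐ[k] ArSing.ring k r)).comp (ArSing.xMap k r))
    simpa using this
  have hT0 : PowerSeries.constantCoeff T = 0 := by
    have := congrArg PowerSeries.constantCoeff hT2
    rw [map_pow, hA00] at this
    exact (pow_eq_zero_iff two_ne_zero).mp this
  let l := PowerSeries.substAlgHom (R := k) (PowerSeries.HasSubst.of_constantCoeff_zero' hT0)
  have hlX : l PowerSeries.X = T := PowerSeries.substAlgHom_X _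
  have hl : ∀ a, e (σ a) = l (e a) := fun a =>
    DFunLike.congr_fun (ev_ext (u := e.comp (σ : ArSing.ring k r →ₐ[k] ArSing.ring k r)) (v := l.comp e)
      (by rw [AlgHom.comp_apply, AlgHom.comp_apply, show e (ArSing.x k r) = _ from evC_x, map_pow, hlX, hT2]; rfl)
      (by
        rw [AlgHom.comp_apply, AlgHom.comp_apply, show e (ArSing.y k r) = _ from evC_y, map_pow, hlX]
        show B = T ^ (r + 1)
        rw [hT, ← hT2, hn]; ring)) a
  have hll : l.comp l = AlgHom.id k _ := ArSingInv.algHom_ext_X _ _ (by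
    show l (l PowerSeries.X) = PowerSeries.X
    have hx2 : l (l PowerSeries.X) ^ 2 = PowerSeries.X ^ 2 := by
      rw [← map_pow, ← map_pow, ← evC_x (k := k) (r := r)]
      show l (l (e _)) = e _
      rw [← hl, ← hl, hσ]
    have hy1 : l (l PowerSeries.X) ^ (r + 1) = PowerSeries.X ^ (r + 1) := by
      rw [← map_pow, ← map_pow, ← evC_y (k := k) (r := r)]
      show l (l (e _)) = e _
      rw [← hl, ← hl, hσ]
    rcases sq_eq_sq_iff_eq_or_eq_neg.mp hx2 with h | h
    · exact h
    · rw [h, Odd.neg_pow ⟨n, by omega⟩, neg_eq_iff_add_eq_zero, ← two_mul] at hy1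
      exact absurd hy1 (mul_ne_zero hneg1 (pow_ne_zero _ PowerSeries.X_ne_zero)))
  let L := AlgEquiv.ofAlgHom l l hll hll
  have hLX : L PowerSeries.X = T := hlX
  obtain ⟨hξ, φ₀, hφX, hφ₀⟩ := Groth.Agent.S14080.result k h2 L (fun f => DFunLike.congr_fun hll f)
  rw [hLX] at hξ hφX hφ₀
  rcases sq_eq_one_iff.mp hξ with hξ | hξ <;> rw [hξ] at hφX hφ₀
  · exfalso
    refine hne (AlgEquiv.ext fun a => hinj ?_)
    show e (σ a) = e a
    rw [hl]
    have := hφ₀ (φ₀.symm (e a))
    rw [PowerSeries.rescale_one, φ₀.apply_symm_apply] at this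
    exact φ₀.symm.injective this
  -- the linearising substitution preserves the subring
  have hT1 : PowerSeries.X ^ r ∣ neg k T + T := by
    obtain ⟨u, hu⟩ : PowerSeries.X ^ 2 ∣ (neg k T - T) - PowerSeries.C (2 : k) * PowerSeries.X := PowerSeries.X_pow_dvd_iff.mpr fun i hi => by
      obtain ⟨d, hd⟩ := PowerSeries.X_dvd_iff.mpr hT0
      have hd0 : PowerSeries.constantCoeff d = -1 := by
        rw [← hξ, hd, PowerSeries.coeff_succ_X_mul, PowerSeries.coeff_zero_eq_constantCoeff_apply]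
      obtain ⟨e', o', rfl⟩ := exists_parity d
      rw [hd, map_mul, neg_X, neg_parity]
      rw [map_add, map_mul, PowerSeries.constantCoeff_X, zero_mul, add_zero, constantCoeff_sq] at hd0
      interval_cases i
      · simp
      · rw [map_sub, map_sub, neg_mul, map_neg, PowerSeries.coeff_succ_X_mul, PowerSeries.coeff_succ_X_mul, PowerSeries.coeff_C_mul,
          PowerSeries.coeff_one_X, mul_one]
        simp only [map_add, map_mul, PowerSeries.coeff_zero_eq_constantCoeff_apply, PowerSeries.constantCoeff_X, zero_mul, add_zero,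
          constantCoeff_sq, hd0]
        ring
    have hD : neg k T - T = PowerSeries.X * (PowerSeries.C (2 : k) + PowerSeries.X * u) := by linear_combination hu
    have hw : IsUnit (PowerSeries.C (2 : k) + PowerSeries.X * u) := by
      rw [PowerSeries.isUnit_iff_constantCoeff]; simpa using h2
    have h := neg_evC hn (σ (ArSing.x k r))
    rw [show evC k r (σ (ArSing.x k r)) = T ^ 2 from hT2.symm, map_pow,
      show neg k T ^ 2 - T ^ 2 = (neg k T - T) * (neg k T + T) by ring, hD, pow_succ', mul_assoc] at h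
    exact hw.dvd_mul_left.mp ((mul_dvd_mul_iff_left PowerSeries.X_ne_zero).mp h)
  have hC : ∀ c : k, neg k (PowerSeries.C c) = PowerSeries.C c := fun c => (neg k).commutes c
  have hW : PowerSeries.X ^ r ∣ neg k (φ₀ PowerSeries.X) + φ₀ PowerSeries.X := by
    rw [hφX, map_mul, map_add, map_mul, hC, hC, neg_X, ← mul_add,
      show -PowerSeries.X + PowerSeries.C (-1 : k) * neg k T + (PowerSeries.X + PowerSeries.C (-1 : k) * T) =
        PowerSeries.C (-1 : k) * (neg k T + T) by ring]
    exact dvd_mul_of_dvd_right (dvd_mul_of_dvd_right hT1 _) _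
  have hV : PowerSeries.X ^ r ∣ neg k (φ₀.symm PowerSeries.X) + φ₀.symm PowerSeries.X := by
    have h := congr_of_X (m := r) ((neg k).comp (φ₀ : PowerSeries k →ₐ[k] PowerSeries k))
      ((φ₀ : PowerSeries k →ₐ[k] PowerSeries k).comp (neg k))
      (by simp only [AlgHom.comp_apply, AlgEquiv.coe_toAlgHom, neg_X, map_neg, sub_neg_eq_add]; exact hW) (φ₀.symm PowerSeries.X)
    simp only [AlgHom.comp_apply, AlgEquiv.coe_toAlgHom, φ₀.apply_symm_apply, neg_X] at h
    have h2 : φ₀.symm PowerSeries.X ^ r ∣ neg k (φ₀.symm PowerSeries.X) + φ₀.symm PowerSeries.X := by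
      have := map_dvd φ₀.symm h
      rw [map_pow, map_sub, map_neg, φ₀.symm_apply_apply] at this
      refine dvd_neg.mp ?_
      rwa [show -(neg k (φ₀.symm PowerSeries.X) + φ₀.symm PowerSeries.X) = -φ₀.symm PowerSeries.X - neg k (φ₀.symm PowerSeries.X) by ring]
    exact (pow_dvd_pow_of_dvd (PowerSeries.X_dvd_iff.mpr (const_map_X (φ₀.symm : PowerSeries k →ₐ[k] PowerSeries k))) r).trans h2
  obtain ⟨ψ, hψ⟩ := exists_end h2 hn _ (const_map_X (φ₀ : PowerSeries k →ₐ[k] PowerSeries k)) hW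
  obtain ⟨ψ', hψ'⟩ := exists_end h2 hn _ (const_map_X (φ₀.symm : PowerSeries k →ₐ[k] PowerSeries k)) hV
  have hs : ∀ (τ : PowerSeries k ≃ₐ[k] PowerSeries k) f,
      PowerSeries.substAlgHom (PowerSeries.HasSubst.of_constantCoeff_zero' (const_map_X (τ : PowerSeries k →ₐ[k] PowerSeries k))) f = τ f :=
    fun τ f => DFunLike.congr_fun (ArSingInv.algHom_ext_X _ (τ : PowerSeries k →ₐ[k] PowerSeries k) (PowerSeries.substAlgHom_X _)) f
  have hψe : ∀ a, e (ψ a) = φ₀ (e a) := fun a => (hψ a).trans (hs φ₀ _)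
  have hψe' : ∀ a, e (ψ' a) = φ₀.symm (e a) := fun a => (hψ' a).trans (hs φ₀.symm _)
  let Φ : ArSing.ring k r ≃ₐ[k] ArSing.ring k r := AlgEquiv.ofAlgHom ψ ψ'
    (AlgHom.ext fun a => hinj (by show e (ψ (ψ' a)) = e a; rw [hψe, hψe', φ₀.apply_symm_apply]))
    (AlgHom.ext fun a => hinj (by show e (ψ' (ψ a)) = e a; rw [hψe', hψe, φ₀.symm_apply_apply]))
  have key : ∀ a, e (Φ.symm (σ (Φ a))) = PowerSeries.rescale (-1 : k) (e a) := fun a => by
    show e (ψ' (σ (ψ a))) = _
    rw [hψe', hl, hψe]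
    exact hφ₀ _
  refine ⟨Φ, hinj ?_, hinj ?_⟩
  · show e _ = e _
    rw [key, show e (ArSing.x k r) = _ from evC_x, map_pow, PowerSeries.rescale_X, map_neg, map_one, neg_one_mul, Even.neg_pow even_two]
  · show e _ = e _
    rw [key, map_neg, show e (ArSing.y k r) = _ from evC_y, map_pow, PowerSeries.rescale_X, map_neg, map_one, neg_one_mul,
      Odd.neg_pow ⟨n, by omega⟩]

end Groth.Agent.S14081
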