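import Groth.Statements.S14082
import Mathlib
import Groth.Agent.ArSingInv.Tacnode
import Groth.Agent.S14080

set_option autoImplicit false
universe u
open ArSing

namespace Groth.Agent.S14082

open Groth.Agent Groth.Agent.ArSingInv

/-- Over an algebraically closed field k of characteristic prime to 2 and to r+1, with r odd and r ≥ 3,
every non-trivial k-algebra involution σ of A_r = k[[x,y]]/(y^2 - x^(r+1)) is conjugate, by a
k-algebra automorphism φ of A_r, to one of the three involutions (x, y) ↦ (x, -y), (x, y) ↦ (-x, y),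
(x, y) ↦ (-x, -y). -/
theorem result (k : Type u) [Field k] [IsAlgClosed k] (r : ℕ)
    (h2 : (2 : k) ≠ 0) (hr : ((r + 1 : ℕ) : k) ≠ 0) (hodd : Odd r) (h3 : 3 ≤ r)
    (σ : ArSing.ring k r ≃ₐ[k] ArSing.ring k r) (hσ : ∀ a, σ (σ a) = a) (hne : σ ≠ AlgEquiv.refl) :
    ∃ φ : ArSing.ring k r ≃ₐ[k] ArSing.ring k r,
      (φ.symm (σ (φ (ArSing.x k r))) = ArSing.x k r ∧ φ.symm (σ (φ (ArSing.y k r))) = -ArSing.y k r) ∨
      (φ.symm (σ (φ (ArSing.x k r))) = -ArSing.x k r ∧ φ.symm (σ (φ (ArSing.y k r))) = ArSing.y k r) ∨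
      (φ.symm (σ (φ (ArSing.x k r))) = -ArSing.x k r ∧ φ.symm (σ (φ (ArSing.y k r))) = -ArSing.y k r) := by
  obtain ⟨m, hm⟩ : ∃ m, r + 1 = m + m := by obtain ⟨j, hj⟩ := hodd; exact ⟨j + 1, by omega⟩
  have hm1 : 1 < m := by omega
  obtain ⟨s, hs⟩ := factor_brm hm ((brp hm).comp (σ : ArSing.ring k r →ₐ[k] ArSing.ring k r))
  obtain ⟨t, ht⟩ := factor_brm hm ((brn hm).comp (σ : ArSing.ring k r →ₐ[k] ArSing.ring k r))
  simp only [AlgHom.comp_apply, AlgEquiv.coe_toAlgHom] at hs ht
  have h2' : (2 : PowerSeries k) ≠ 0 := fun h0 => h2 (by simpa [map_ofNat] using congrArg PowerSeries.constantCoeff h0)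
  have hpx := brm_x hm (1 : k) (one_pow 2)
  have hnx := brm_x hm (-1 : k) (by ring)
  have hcong := brm_congr hm (σ (ArSing.x k r))
  have hcase : ∀ z : ℕ, (-1 : PowerSeries k) ^ z = 1 ∨ (-1 : PowerSeries k) ^ z = -1 := fun z => neg_one_pow_eq_or _ z
  rcases hs with hs | hs <;> rcases ht with ht | ht
  · exfalso
    have h : σ (ArSing.y k r - ArSing.x k r ^ m) = σ 0 := brm_joint hm h2
      (by rw [hs, hs, map_sub, map_pow, hpx, brp_y, sub_self, map_zero, map_zero, map_zero])
      (by rw [ht, ht, map_sub, map_pow, hpx, brp_y, sub_self, map_zero, map_zero, map_zero])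
    have := congrArg (brn hm) (σ.injective h)
    rw [map_sub, map_pow, hnx, brn_y, map_zero, ← neg_add', neg_eq_zero, ← two_mul] at this
    exact mul_ne_zero h2' (pow_ne_zero _ PowerSeries.X_ne_zero) this
  · -- the branches are preserved
    rw [hs, ht, hpx, hnx] at hcong
    have hss : s.comp s = AlgHom.id k _ := ArSingInv.algHom_ext_X _ _ (by
      show s (s PowerSeries.X) = PowerSeries.X
      rw [← hpx, ← hs, ← hs, hσ])
    have htt : t.comp t = AlgHom.id k _ := ArSingInv.algHom_ext_X _ _ (by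
      show t (t PowerSeries.X) = PowerSeries.X
      rw [← hnx, ← ht, ← ht, hσ])
    let S := AlgEquiv.ofAlgHom s s hss hss
    let T := AlgEquiv.ofAlgHom t t htt htt
    obtain ⟨hξ, φs, hsX, hφs⟩ := Groth.Agent.S14080.result k h2 S (fun f => DFunLike.congr_fun hss f)
    obtain ⟨-, φt, htX, hφt⟩ := Groth.Agent.S14080.result k h2 T (fun f => DFunLike.congr_fun htt f)
    have hη : PowerSeries.coeff 1 (T PowerSeries.X) = PowerSeries.coeff 1 (S PowerSeries.X) := by
      have := PowerSeries.X_pow_dvd_iff.mp hcong 1 hm1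
      rw [map_sub, sub_eq_zero] at this
      exact this.symm
    rw [hη] at htX hφt
    obtain ⟨φ, hφp, hφn⟩ := exists_branchwise_equiv_m hm h2 φs φt (by
      rw [hsX, htX, ← mul_sub]
      refine dvd_mul_of_dvd_right ?_ _
      rw [show PowerSeries.X + PowerSeries.C (PowerSeries.coeff 1 (S PowerSeries.X)) * S PowerSeries.X -
        (PowerSeries.X + PowerSeries.C (PowerSeries.coeff 1 (S PowerSeries.X)) * T PowerSeries.X) =
          PowerSeries.C (PowerSeries.coeff 1 (S PowerSeries.X)) * (S PowerSeries.X - T PowerSeries.X) by ring]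
      exact dvd_mul_of_dvd_right hcong _)
    have hp : ∀ a, brp hm (φ.symm (σ (φ a))) = PowerSeries.rescale (PowerSeries.coeff 1 (S PowerSeries.X)) (brp hm a) := fun a => by
      refine Eq.trans (φs.injective ?_) (hφs _)
      rw [← hφp, φ.apply_symm_apply, hs, hφp, φs.apply_symm_apply]; rfl
    have hn : ∀ a, brn hm (φ.symm (σ (φ a))) = PowerSeries.rescale (PowerSeries.coeff 1 (S PowerSeries.X)) (brn hm a) := fun a => by
      refine Eq.trans (φt.injective ?_) (hφt _)
      rw [← hφn, φ.apply_symm_apply, ht, hφn, φt.apply_symm_apply]; rfl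
    rcases sq_eq_one_iff.mp hξ with hξ | hξ <;> rw [hξ] at hp hn
    · exfalso
      refine hne (AlgEquiv.ext fun a => ?_)
      have e : φ.symm (σ (φ (φ.symm a))) = φ.symm a := brm_joint hm h2 (by rw [hp, PowerSeries.rescale_one]; rfl)
        (by rw [hn, PowerSeries.rescale_one]; rfl)
      rw [φ.apply_symm_apply] at e
      exact φ.symm.injective e
    · have hX : φ.symm (σ (φ (ArSing.x k r))) = -ArSing.x k r := brm_joint hm h2
        (by rw [hp, hpx, map_neg (brp hm), hpx, PowerSeries.rescale_X]; simp)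
        (by rw [hn, hnx, map_neg (brn hm), hnx, PowerSeries.rescale_X]; simp)
      rcases hcase m with hz | hz
      · refine ⟨φ, Or.inr (Or.inl ⟨hX, brm_joint hm h2 ?_ ?_⟩)⟩
        · rw [hp, brp_y, map_pow, PowerSeries.rescale_X, map_neg, map_one, neg_one_mul, neg_pow, hz, one_mul]
        · rw [hn, brn_y, map_neg (PowerSeries.rescale (-1 : k)), map_pow, PowerSeries.rescale_X, map_neg, map_one, neg_one_mul, neg_pow, hz, one_mul]
      · refine ⟨φ, Or.inr (Or.inr ⟨hX, brm_joint hm h2 ?_ ?_⟩)⟩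
        · rw [hp, map_neg (brp hm), brp_y, map_pow, PowerSeries.rescale_X, map_neg, map_one, neg_one_mul, neg_pow, hz, neg_one_mul]
        · rw [hn, map_neg (brn hm), brn_y, map_neg (PowerSeries.rescale (-1 : k)), map_pow, PowerSeries.rescale_X, map_neg, map_one, neg_one_mul, neg_pow, hz, neg_one_mul]
  · -- the branches are exchanged
    rw [hs, ht, hpx, hnx] at hcong
    have hst : s.comp t = AlgHom.id k _ := ArSingInv.algHom_ext_X _ _ (by
      show s (t PowerSeries.X) = PowerSeries.X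
      rw [← hpx, ← ht, ← hs, hσ])
    have hts : t.comp s = AlgHom.id k _ := ArSingInv.algHom_ext_X _ _ (by
      show t (s PowerSeries.X) = PowerSeries.X
      rw [← hnx, ← hs, ← ht, hσ])
    let T := AlgEquiv.ofAlgHom t s hts hst
    have htt : PowerSeries.X ^ m ∣ t (t PowerSeries.X) - PowerSeries.X := by
      have h := congr_of_X t s (dvd_sub_comm.mp hcong) (t PowerSeries.X)
      rwa [show s (t PowerSeries.X) = PowerSeries.X from DFunLike.congr_fun hst _] at h
    obtain ⟨d, hd⟩ := PowerSeries.X_dvd_iff.mpr (const_map_X t)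
    let ξ := PowerSeries.constantCoeff d
    have hξ : ξ ^ 2 = 1 := by
      have h := PowerSeries.X_pow_dvd_iff.mp htt 1 hm1
      rw [map_sub, sub_eq_zero, PowerSeries.coeff_one_X, hd, map_mul, hd, mul_assoc, PowerSeries.coeff_succ_X_mul,
        PowerSeries.coeff_zero_eq_constantCoeff_apply, map_mul] at h
      have hc : PowerSeries.constantCoeff (t d) = ξ := by
        obtain ⟨d', hd'⟩ : PowerSeries.X ∣ d - PowerSeries.C ξ := PowerSeries.X_dvd_iff.mpr (by simp [ξ])
        have h' := congrArg (fun z => PowerSeries.constantCoeff (t z)) hd'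
        simp only [map_sub, map_mul] at h'
        rw [show t (PowerSeries.C ξ) = PowerSeries.C ξ from t.commutes ξ, PowerSeries.constantCoeff_C, const_map_X, zero_mul, sub_eq_zero] at h'
        exact h'
      rw [hc] at h
      rw [_root_.sq]; exact h
    have hξ1 : PowerSeries.coeff 1 (t PowerSeries.X) = ξ := by
      rw [hd, PowerSeries.coeff_succ_X_mul, PowerSeries.coeff_zero_eq_constantCoeff_apply]
    have hC2 : PowerSeries.C ξ * PowerSeries.C ξ = (1 : PowerSeries k) := by rw [← map_mul, ← _root_.sq, hξ, map_one]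
    obtain ⟨φ₀, hφ₀⟩ := exists_subst_equiv (PowerSeries.C (2⁻¹ : k) * (PowerSeries.X + PowerSeries.C ξ * t PowerSeries.X))
      (by simp [const_map_X t])
      (IsUnit.of_mul_eq_one 1 (by
        rw [mul_one, PowerSeries.coeff_C_mul, map_add, PowerSeries.coeff_one_X, PowerSeries.coeff_C_mul, hξ1, ← _root_.sq, hξ,
          one_add_one_eq_two, inv_mul_cancel₀ h2]))
    obtain ⟨ρ, hρ⟩ := exists_subst_equiv (PowerSeries.C ξ * PowerSeries.X) (by simp)
      (by rw [PowerSeries.coeff_C_mul, PowerSeries.coeff_one_X, mul_one]; exact isUnit_iff_ne_zero.mpr (fun h => by simp [h] at hξ))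
    have hρρ : ∀ f, ρ (ρ f) = f := fun f =>
      DFunLike.congr_fun (ArSingInv.algHom_ext_X ((ρ : PowerSeries k →ₐ[k] PowerSeries k).comp (ρ : PowerSeries k →ₐ[k] PowerSeries k))
        (AlgHom.id k _) (by
          simp only [AlgHom.comp_apply, AlgEquiv.coe_toAlgHom, hρ, map_mul, show ρ (PowerSeries.C ξ) = PowerSeries.C ξ from ρ.commutes ξ,
            AlgHom.id_apply, ← mul_assoc, hC2, one_mul])) f
    have hC : ∀ (τ : PowerSeries k →ₐ[k] PowerSeries k) (c : k), τ (PowerSeries.C c) = PowerSeries.C c := fun τ c => τ.commutes c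
    obtain ⟨φ, hφp, hφn⟩ := exists_branchwise_equiv_m hm h2 φ₀ (ρ.trans (φ₀.trans T)) (by
      show _ ∣ φ₀ PowerSeries.X - t (φ₀ (ρ PowerSeries.X))
      rw [hρ, map_mul φ₀, show φ₀ (PowerSeries.C ξ) = PowerSeries.C ξ from φ₀.commutes ξ, hφ₀, map_mul, map_mul, map_add, map_mul, hC, hC]
      rw [show PowerSeries.C (2⁻¹ : k) * (PowerSeries.X + PowerSeries.C ξ * t PowerSeries.X) -
          PowerSeries.C ξ * (PowerSeries.C (2⁻¹ : k) * (t PowerSeries.X + PowerSeries.C ξ * t (t PowerSeries.X))) =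
          PowerSeries.C (2⁻¹ : k) * (PowerSeries.X - (PowerSeries.C ξ * PowerSeries.C ξ) * t (t PowerSeries.X)) by ring, hC2, one_mul]
      exact dvd_mul_of_dvd_right (dvd_sub_comm.mp htt) _)
    have hp : ∀ a, brp hm (φ.symm (σ (φ a))) = ρ (brn hm a) := fun a => by
      refine φ₀.injective ?_
      rw [← hφp, φ.apply_symm_apply, hs, hφn]
      exact DFunLike.congr_fun hst _
    have hn : ∀ a, brn hm (φ.symm (σ (φ a))) = ρ (brp hm a) := fun a => by
      refine (ρ.trans (φ₀.trans T)).injective ?_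
      rw [← hφn, φ.apply_symm_apply, ht, hφp]
      show t (φ₀ (brp hm a)) = t (φ₀ (ρ (ρ _)))
      rw [hρρ]
    rcases sq_eq_one_iff.mp hξ with h1 | h1 <;> rw [h1] at hρ
    · rw [map_one, one_mul] at hρ
      refine ⟨φ, Or.inl ⟨brm_joint hm h2 (by rw [hp, hnx, hρ, hpx]) (by rw [hn, hpx, hρ, hnx]), brm_joint hm h2 ?_ ?_⟩⟩
      · rw [hp, map_neg (brp hm), brp_y, brn_y, map_neg, map_pow, hρ]
      · rw [hn, map_neg (brn hm), brn_y, brp_y, map_pow, hρ, neg_neg]
    · rw [map_neg, map_one, neg_one_mul] at hρ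
      have hX : φ.symm (σ (φ (ArSing.x k r))) = -ArSing.x k r := brm_joint hm h2
        (by rw [hp, hnx, hρ, map_neg (brp hm), hpx]) (by rw [hn, hpx, hρ, map_neg (brn hm), hnx])
      rcases hcase m with hz | hz
      · refine ⟨φ, Or.inr (Or.inr ⟨hX, brm_joint hm h2 ?_ ?_⟩)⟩
        · rw [hp, map_neg (brp hm), brp_y, brn_y, map_neg, map_pow, hρ, neg_pow, hz, one_mul]
        · rw [hn, map_neg (brn hm), brn_y, brp_y, map_pow, hρ, neg_pow, hz, one_mul, neg_neg]
      · refine ⟨φ, Or.inr (Or.inl ⟨hX, brm_joint hm h2 ?_ ?_⟩)⟩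
        · rw [hp, brp_y, brn_y, map_neg, map_pow, hρ, neg_pow, hz, neg_one_mul, neg_neg]
        · rw [hn, brn_y, brp_y, map_pow, hρ, neg_pow, hz, neg_one_mul]
  · exfalso
    have h : σ (ArSing.y k r + ArSing.x k r ^ m) = σ 0 := brm_joint hm h2
      (by rw [hs, hs, map_add, map_pow, hnx, brn_y, neg_add_cancel, map_zero, map_zero, map_zero])
      (by rw [ht, ht, map_add, map_pow, hnx, brn_y, neg_add_cancel, map_zero, map_zero, map_zero])
    have := congrArg (brp hm) (σ.injective h)
    rw [map_add, map_pow, hpx, brp_y, map_zero, ← two_mul] at this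
    exact mul_ne_zero h2' (pow_ne_zero _ PowerSeries.X_ne_zero) this

end Groth.Agent.S14082
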