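import Groth.Statements.S14083
import Mathlib
import Groth.Agent.ArSingInv.Node
import Groth.Agent.S14080

set_option autoImplicit false
universe u
open ArSing

namespace Groth.Agent.S14083

open Groth.Agent Groth.Agent.ArSingInv

/-- Over an algebraically closed field k of characteristic different from 2, every non-trivial k-algebra
involution σ of the node algebra A_1 = k[[x,y]]/(y^2 - x^2) is conjugate, by a k-algebra
automorphism φ of A_1, to one of the three involutions (x, y) ↦ (x, -y), (x, y) ↦ (-x, -y), (x, y) ↦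
(y, x). -/
theorem result (k : Type u) [Field k] [IsAlgClosed k]
    (h2 : (2 : k) ≠ 0)
    (σ : ArSing.ring k 1 ≃ₐ[k] ArSing.ring k 1) (hσ : ∀ a, σ (σ a) = a) (hne : σ ≠ AlgEquiv.refl) :
    ∃ φ : ArSing.ring k 1 ≃ₐ[k] ArSing.ring k 1,
      (φ.symm (σ (φ (ArSing.x k 1))) = ArSing.x k 1 ∧ φ.symm (σ (φ (ArSing.y k 1))) = -ArSing.y k 1) ∨
      (φ.symm (σ (φ (ArSing.x k 1))) = -ArSing.x k 1 ∧ φ.symm (σ (φ (ArSing.y k 1))) = -ArSing.y k 1) ∨
      (φ.symm (σ (φ (ArSing.x k 1))) = ArSing.y k 1 ∧ φ.symm (σ (φ (ArSing.y k 1))) = ArSing.x k 1) := by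
  obtain ⟨s, hs⟩ := factor_branch ((bp k).comp (σ : ArSing.ring k 1 →ₐ[k] ArSing.ring k 1))
  obtain ⟨t, ht⟩ := factor_branch ((bm k).comp (σ : ArSing.ring k 1 →ₐ[k] ArSing.ring k 1))
  simp only [AlgHom.comp_apply, AlgEquiv.coe_toAlgHom] at hs ht
  have hX2 : (PowerSeries.X : PowerSeries k) + PowerSeries.X ≠ 0 := fun h => h2 (by
    have := congrArg (PowerSeries.coeff 1) h
    rwa [map_add, PowerSeries.coeff_one_X, map_zero, one_add_one_eq_two] at this)
  rcases hs with hs | hs <;> rcases ht with ht | ht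
  · exfalso
    have h : σ (ArSing.y k 1 - ArSing.x k 1) = σ 0 := branch_joint h2
      (by rw [hs, hs, map_sub, bp_x, bp_y, sub_self, map_zero, map_zero, map_zero]) (by rw [ht, ht, map_sub, bp_x, bp_y, sub_self, map_zero, map_zero, map_zero])
    have := congrArg (bm k) (σ.injective h)
    rw [map_sub, bm_x, bm_y, map_zero, ← neg_add', neg_eq_zero] at this
    exact hX2 this
  · -- the branches are preserved
    have hss : s.comp s = AlgHom.id k _ := ArSingInv.algHom_ext_X _ _ (by
      show s (s PowerSeries.X) = PowerSeries.X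
      rw [← bp_x (k := k), ← hs, ← hs, hσ])
    have htt : t.comp t = AlgHom.id k _ := ArSingInv.algHom_ext_X _ _ (by
      show t (t PowerSeries.X) = PowerSeries.X
      rw [← bm_x (k := k), ← ht, ← ht, hσ])
    let S := AlgEquiv.ofAlgHom s s hss hss
    let T := AlgEquiv.ofAlgHom t t htt htt
    obtain ⟨hξ, φs, -, hφs⟩ := Groth.Agent.S14080.result k h2 S (fun f => DFunLike.congr_fun hss f)
    obtain ⟨hη, φt, -, hφt⟩ := Groth.Agent.S14080.result k h2 T (fun f => DFunLike.congr_fun htt f)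
    obtain ⟨φ, hφp, hφm⟩ := exists_branchwise_equiv h2 φs φt
    have hsp : ∀ c, bp k (φ.symm c) = φs.symm (bp k c) := fun c =>
      φs.injective (by rw [← hφp, φ.apply_symm_apply, φs.apply_symm_apply])
    have hsm : ∀ c, bm k (φ.symm c) = φt.symm (bm k c) := fun c =>
      φt.injective (by rw [← hφm, φ.apply_symm_apply, φt.apply_symm_apply])
    have hp : ∀ a, bp k (φ.symm (σ (φ a))) = PowerSeries.rescale (PowerSeries.coeff 1 (S PowerSeries.X)) (bp k a) := fun a => by
      rw [hsp, hs, hφp]; exact hφs _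
    have hm : ∀ a, bm k (φ.symm (σ (φ a))) = PowerSeries.rescale (PowerSeries.coeff 1 (T PowerSeries.X)) (bm k a) := fun a => by
      rw [hsm, ht, hφm]; exact hφt _
    rcases sq_eq_one_iff.mp hξ with hξ | hξ <;> rcases sq_eq_one_iff.mp hη with hη | hη <;> rw [hξ] at hp <;> rw [hη] at hm
    · exfalso
      refine hne (AlgEquiv.ext fun a => ?_)
      have e : φ.symm (σ (φ (φ.symm a))) = φ.symm a := branch_joint h2 (by rw [hp, PowerSeries.rescale_one]; rfl)
        (by rw [hm, PowerSeries.rescale_one]; rfl)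
      rw [φ.apply_symm_apply] at e
      exact φ.symm.injective e
    · refine ⟨φ, Or.inr (Or.inr ⟨branch_joint h2 ?_ ?_, branch_joint h2 ?_ ?_⟩)⟩ <;>
        simp [hp, hm, bp_x, bp_y, bm_x, bm_y, PowerSeries.rescale_one, PowerSeries.rescale_X]
    · obtain ⟨ν, hνp, hνm⟩ := exists_swap (k := k) h2
      have hνp' : ∀ c, bp k (ν.symm c) = bm k c := fun c => by
        conv_rhs => rw [← ν.apply_symm_apply c]
        exact (hνm _).symm
      have hνm' : ∀ c, bm k (ν.symm c) = bp k c := fun c => by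
        conv_rhs => rw [← ν.apply_symm_apply c]
        exact (hνp _).symm
      refine ⟨ν.trans φ, Or.inr (Or.inr ⟨branch_joint h2 ?_ ?_, branch_joint h2 ?_ ?_⟩)⟩ <;>
        simp [hνp', hνm', hp, hm, hνp, hνm, bp_x, bp_y, bm_x, bm_y, PowerSeries.rescale_one, PowerSeries.rescale_X]
    · refine ⟨φ, Or.inr (Or.inl ⟨branch_joint h2 ?_ ?_, branch_joint h2 ?_ ?_⟩)⟩ <;>
        simp [hp, hm, bp_x, bp_y, bm_x, bm_y, PowerSeries.rescale_X]
  · -- the branches are exchanged
    have hst : s.comp t = AlgHom.id k _ := ArSingInv.algHom_ext_X _ _ (by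
      show s (t PowerSeries.X) = PowerSeries.X
      rw [← bp_x (k := k), ← ht, ← hs, hσ])
    have hts : t.comp s = AlgHom.id k _ := ArSingInv.algHom_ext_X _ _ (by
      show t (s PowerSeries.X) = PowerSeries.X
      rw [← bm_x (k := k), ← hs, ← ht, hσ])
    obtain ⟨φ, hφp, hφm⟩ := exists_branchwise_equiv h2 AlgEquiv.refl (AlgEquiv.ofAlgHom t s hts hst)
    have hsp : ∀ c, bp k (φ.symm c) = bp k c := fun c => by
      have := hφp (φ.symm c); rw [φ.apply_symm_apply] at this; exact this.symm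
    have hsm : ∀ c, bm k (φ.symm c) = s (bm k c) := fun c => by
      have := hφm (φ.symm c)
      rw [φ.apply_symm_apply] at this
      rw [this]
      exact (DFunLike.congr_fun hst _).symm
    have hp : ∀ a, bp k (φ.symm (σ (φ a))) = bm k a := fun a => by
      rw [hsp, hs, hφm]; exact DFunLike.congr_fun hst _
    have hm : ∀ a, bm k (φ.symm (σ (φ a))) = bp k a := fun a => by
      rw [hsm, ht, hφp]; exact DFunLike.congr_fun hst _
    refine ⟨φ, Or.inl ⟨branch_joint h2 ?_ ?_, branch_joint h2 ?_ ?_⟩⟩ <;>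
      simp [hp, hm, bp_x, bp_y, bm_x, bm_y]
  · exfalso
    have h : σ (ArSing.y k 1 + ArSing.x k 1) = σ 0 := branch_joint h2
      (by rw [hs, hs, map_add, bm_x, bm_y, neg_add_cancel, map_zero, map_zero, map_zero]) (by rw [ht, ht, map_add, bm_x, bm_y, neg_add_cancel, map_zero, map_zero, map_zero])
    have := congrArg (bp k) (σ.injective h)
    rw [map_add, bp_x, bp_y, map_zero] at this
    exact hX2 this

end Groth.Agent.S14083
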