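import Groth.Statements.S14084
import Mathlib
import Groth.Agent.ArSingInv.Node
import Groth.Agent.S14080
import Groth.Agent.NodeLift.Flat

set_option autoImplicit false
universe u
open ArSing

namespace Groth.Agent.S14084

open IsLocalRing

theorem branch_normal_form {k : Type u} [Field k] (h2 : (2 : k) ≠ 0) (σ₀ : ArSing.ring k 1 ≃ₐ[k] ArSing.ring k 1)
    (hσ : ∀ a, σ₀ (σ₀ a) = a) (π : ArSing.ring k 1 →ₐ[k] PowerSeries k) (hπs : Function.Surjective π)
    (s : PowerSeries k →ₐ[k] PowerSeries k) (hs : ∀ a, π (σ₀ a) = s (π a)) :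
    ∃ (ξ : k) (T : PowerSeries k), ξ ^ 2 = 1 ∧ PowerSeries.constantCoeff T = 0 ∧ s T = PowerSeries.C ξ * T ∧
      ∀ p, PowerSeries.constantCoeff p = 0 → T ∣ p := by
  have hss : ∀ p, s (s p) = p := fun p => by obtain ⟨a, rfl⟩ := hπs p; rw [← hs, ← hs, hσ]
  obtain ⟨hξ, φ, -, hφ⟩ := S14080.result k h2 (AlgEquiv.ofAlgHom s s (AlgHom.ext hss) (AlgHom.ext hss)) hss
  refine ⟨_, φ PowerSeries.X, hξ, ArSingInv.const_map_X φ.toAlgHom, ?_, fun p hp => ?_⟩
  · have h := congrArg φ (hφ PowerSeries.X)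
    rw [AlgEquiv.apply_symm_apply, PowerSeries.rescale_X, map_mul, show φ (PowerSeries.C _) = _ from φ.commutes _] at h
    exact h
  · obtain ⟨q, rfl⟩ := φ.surjective p
    rw [← PowerSeries.coeff_zero_eq_constantCoeff_apply] at hp
    have hq : PowerSeries.constantCoeff q = 0 := by
      have e : q = PowerSeries.C (PowerSeries.constantCoeff q) + (q - PowerSeries.C (PowerSeries.constantCoeff q)) := by ring
      obtain ⟨w, hw⟩ := PowerSeries.X_dvd_iff.mpr (show PowerSeries.constantCoeff (q - PowerSeries.C (PowerSeries.constantCoeff q)) = 0 by simp)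
      rw [e, map_add, hw, map_mul, show φ (PowerSeries.C _) = _ from φ.commutes _, PowerSeries.coeff_zero_eq_constantCoeff_apply,
        map_add, map_mul, show PowerSeries.constantCoeff (φ PowerSeries.X) = 0 from ArSingInv.const_map_X φ.toAlgHom] at hp
      simpa [PowerSeries.algebraMap_apply] using hp
    obtain ⟨w, rfl⟩ := PowerSeries.X_dvd_iff.mpr hq
    exact ⟨φ w, map_mul _ _ _⟩

/-- Eigen-coordinates of a branch preserving involution of the node. -/
theorem node_coords {k : Type u} [Field k] (h2 : (2 : k) ≠ 0) (σ₀ : ArSing.ring k 1 ≃ₐ[k] ArSing.ring k 1)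
    (hσ : ∀ a, σ₀ (σ₀ a) = a)
    (hp : (RingHom.ker (ArSingInv.bp k)).map (σ₀ : ArSing.ring k 1 →+* ArSing.ring k 1) = RingHom.ker (ArSingInv.bp k))
    (hm : (RingHom.ker (ArSingInv.bm k)).map (σ₀ : ArSing.ring k 1 →+* ArSing.ring k 1) = RingHom.ker (ArSingInv.bm k)) :
    ∃ (ξ₁ ξ₂ : k) (u v : ArSing.ring k 1), ξ₁ ^ 2 = 1 ∧ ξ₂ ^ 2 = 1 ∧
      σ₀ u = algebraMap k _ ξ₂ * u ∧ σ₀ v = algebraMap k _ ξ₁ * v ∧ u * v = 0 ∧ Ideal.span {u, v} ≠ ⊤ ∧
      ∀ a, ∃ c : k, a - algebraMap k _ c ∈ Ideal.span {u, v} := by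
  have hps : Function.Surjective (ArSingInv.bp k) := fun f => ⟨_, ArSingInv.bp_xMap f⟩
  have hms : Function.Surjective (ArSingInv.bm k) := fun f => ⟨_, ArSingInv.bm_xMap f⟩
  have hy : ∀ a, (a : ArSing.ring k 1) = ArSing.x k 1 + ArSing.y k 1 → ArSingInv.bp k a ≠ 0 := fun a ha h => by
    rw [ha, map_add, ArSingInv.bp_x, ArSingInv.bp_y] at h
    have := congrArg (PowerSeries.coeff 1) h
    simp at this
    exact h2 (by rw [← one_add_one_eq_two]; exact this)
  have hy' : ∀ a, (a : ArSing.ring k 1) = ArSing.x k 1 - ArSing.y k 1 → ArSingInv.bm k a ≠ 0 := fun a ha h => by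
    rw [ha, map_sub, ArSingInv.bm_x, ArSingInv.bm_y] at h
    have := congrArg (PowerSeries.coeff 1) h
    simp at this
    exact h2 (by rw [← one_add_one_eq_two]; exact this)
  have keep : ∀ (π : ArSing.ring k 1 →ₐ[k] PowerSeries k), (RingHom.ker π).map (σ₀ : ArSing.ring k 1 →+* ArSing.ring k 1) = RingHom.ker π →
      ∀ a, π a = 0 → π (σ₀ a) = 0 := fun π h a ha => by
    have : σ₀ a ∈ RingHom.ker π := h ▸ Ideal.mem_map_of_mem (σ₀ : ArSing.ring k 1 →+* ArSing.ring k 1) (RingHom.mem_ker.mpr ha)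
    exact this
  obtain ⟨s, hs | hs⟩ := ArSingInv.factor_branch ((ArSingInv.bp k).comp σ₀.toAlgHom)
  swap
  · exfalso
    refine hy _ rfl ?_
    have h0 : ArSingInv.bp k (σ₀ (ArSing.x k 1 + ArSing.y k 1)) = 0 := (hs _).trans (by simp [ArSingInv.bm_x, ArSingInv.bm_y])
    have := keep _ hp _ h0
    rwa [hσ] at this
  obtain ⟨t, ht | ht⟩ := ArSingInv.factor_branch ((ArSingInv.bm k).comp σ₀.toAlgHom)
  · exfalso
    refine hy' _ rfl ?_
    have h0 : ArSingInv.bm k (σ₀ (ArSing.x k 1 - ArSing.y k 1)) = 0 := (ht _).trans (by simp [ArSingInv.bp_x, ArSingInv.bp_y])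
    have := keep _ hm _ h0
    rwa [hσ] at this
  obtain ⟨ξ₂, T, hξ₂, hT0, hT, hTd⟩ := branch_normal_form h2 σ₀ hσ _ hps s hs
  obtain ⟨ξ₁, T', hξ₁, hT0', hT', hTd'⟩ := branch_normal_form h2 σ₀ hσ _ hms t ht
  obtain ⟨u, hup, hum⟩ := ArSingInv.exists_pair' h2 T 0 (by simpa using hT0)
  obtain ⟨v, hvp, hvm⟩ := ArSingInv.exists_pair' h2 0 T' (by simpa using hT0'.symm)
  refine ⟨ξ₁, ξ₂, u, v, hξ₁, hξ₂, ?_, ?_, ?_, ?_, fun a => ?_⟩
  · refine ArSingInv.branch_joint h2 ?_ ?_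
    · rw [show ArSingInv.bp k (σ₀ u) = _ from hs u, hup, hT, map_mul, AlgHom.commutes, hup]; rfl
    · rw [show ArSingInv.bm k (σ₀ u) = _ from ht u, hum, map_zero, map_mul, hum, mul_zero]
  · refine ArSingInv.branch_joint h2 ?_ ?_
    · rw [show ArSingInv.bp k (σ₀ v) = _ from hs v, hvp, map_zero, map_mul, hvp, mul_zero]
    · rw [show ArSingInv.bm k (σ₀ v) = _ from ht v, hvm, hT', map_mul, AlgHom.commutes, hvm]; rfl
  · exact ArSingInv.branch_joint h2 (by rw [map_mul, hvp, mul_zero, map_zero]) (by rw [map_mul, hum, zero_mul, map_zero])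
  · intro htop
    have : (1 : ArSing.ring k 1) ∈ (RingHom.ker PowerSeries.constantCoeff).comap (ArSingInv.bp k) :=
      (Ideal.span_le.mpr (by rintro x (rfl | rfl) <;> simp [hup, hvp, hT0])) (htop ▸ Submodule.mem_top)
    simp at this
  · obtain ⟨f, g, rfl⟩ := ArSingInv.exists_eq a
    refine ⟨PowerSeries.constantCoeff f, ?_⟩
    set a := ArSingInv.bp k (ArSing.xMap k 1 f + ArSing.xMap k 1 g * ArSing.y k 1 - algebraMap k _ (PowerSeries.constantCoeff f)) with ha
    set b := ArSingInv.bm k (ArSing.xMap k 1 f + ArSing.xMap k 1 g * ArSing.y k 1 - algebraMap k _ (PowerSeries.constantCoeff f)) with hb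
    have ha0 : PowerSeries.constantCoeff a = 0 := by rw [ha, map_sub, ArSingInv.bp_apply, AlgHom.commutes]; simp
    have hb0 : PowerSeries.constantCoeff b = 0 := by rw [hb, map_sub, ArSingInv.bm_apply, AlgHom.commutes]; simp
    obtain ⟨p, hp⟩ := hTd a ha0
    obtain ⟨q, hq⟩ := hTd' b hb0
    obtain ⟨p', rfl⟩ := hps p
    obtain ⟨q', rfl⟩ := hms q
    refine Ideal.mem_span_pair.mpr ⟨p', q', ArSingInv.branch_joint h2 ?_ ?_⟩
    · rw [map_add, map_mul, map_mul, hup, hvp, mul_zero, add_zero, ← ha, hp, mul_comm]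
    · rw [map_add, map_mul, map_mul, hum, hvm, mul_zero, zero_add, ← hb, hq, mul_comm]


/-- Let k be an algebraically closed field with 2 invertible, R → S a flat local homomorphism of
complete Noetherian local k-algebras whose closed fibre S/m_R S is isomorphic over k to the node
algebra k[[x,y]]/(y^2 - x^2), and σ an R-algebra involution of S whose reduction to the closed fibre
does not exchange the two branches (it maps each minimal prime ideal over m_R S to itself). Then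
there are t in R, signs ξ₁, ξ₂ in k and an R-algebra isomorphism of S with R[[x,y]]/(xy - t)
transporting σ to x ↦ ξ₂ x, y ↦ ξ₁ y; moreover t = 0 when ξ₁ = -ξ₂. -/
theorem result (k R S : Type u) [Field k] [IsAlgClosed k]
    (h2 : (2 : k) ≠ 0)
    [CommRing R] [IsLocalRing R] [IsNoetherianRing R] [IsAdicComplete (IsLocalRing.maximalIdeal R) R]
    [CommRing S] [IsLocalRing S] [IsNoetherianRing S] [IsAdicComplete (IsLocalRing.maximalIdeal S) S]
    [Algebra k R] [Algebra R S] [Algebra k S] [IsScalarTower k R S]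
    [IsLocalHom (algebraMap R S)] [Module.Flat R S]
    (e : (S ⧸ Ideal.map (algebraMap R S) (IsLocalRing.maximalIdeal R)) ≃ₐ[k]
      (MvPowerSeries (Fin 2) k ⧸
        Ideal.span {(MvPowerSeries.X 1 ^ 2 - MvPowerSeries.X 0 ^ 2 : MvPowerSeries (Fin 2) k)}))
    (σ : S ≃ₐ[R] S) (hσ : ∀ s, σ (σ s) = s)
    (hbr : ∀ P ∈ (Ideal.map (algebraMap R S) (IsLocalRing.maximalIdeal R)).minimalPrimes,
      Ideal.map (σ : S →+* S) P = P) :
    ∃ (t : R) (ξ₁ ξ₂ : k), ξ₁ ^ 2 = 1 ∧ ξ₂ ^ 2 = 1 ∧ (ξ₁ = -ξ₂ → t = 0) ∧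
      ∃ f : S ≃ₐ[R] (MvPowerSeries (Fin 2) R ⧸
          Ideal.span {(MvPowerSeries.X 0 * MvPowerSeries.X 1 - MvPowerSeries.C t : MvPowerSeries (Fin 2) R)}),
        f (σ (f.symm (Ideal.Quotient.mk _ (MvPowerSeries.X 0)))) =
          algebraMap k R ξ₂ • Ideal.Quotient.mk _ (MvPowerSeries.X 0) ∧
        f (σ (f.symm (Ideal.Quotient.mk _ (MvPowerSeries.X 1)))) =
          algebraMap k R ξ₁ • Ideal.Quotient.mk _ (MvPowerSeries.X 1) := by
  classical
  let n : Ideal S := Ideal.map (algebraMap R S) (maximalIdeal R)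
  let e' : (S ⧸ n) ≃ₐ[k] ArSing.ring k 1 := e.trans (Ideal.quotientEquivAlgOfEq k (by simp [ArSing.eqn]))
  replace e : (S ⧸ n) ≃ₐ[k] ArSing.ring k 1 := e'
  let c : S := algebraMap k S 2⁻¹
  have hc : c * 2 = 1 := by
    rw [show (2 : S) = algebraMap k S 2 from (map_ofNat _ 2).symm, ← map_mul, inv_mul_cancel₀ h2, map_one]
  have hσk : ∀ a : k, σ (algebraMap k S a) = algebraMap k S a := fun a => by
    rw [IsScalarTower.algebraMap_apply k R S, σ.commutes]
  have hσn : ∀ (j : ℕ) x, x ∈ n ^ j → σ x ∈ n ^ j := by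
    intro j x hx
    have h := Ideal.mem_map_of_mem (σ : S →+* S) hx
    rwa [Ideal.map_pow, show n.map (σ : S →+* S) = n by
      rw [Ideal.map_map]; exact congrArg (Ideal.map · _) (RingHom.ext σ.commutes)] at h
  have hσn1 : ∀ x, x ∈ n → σ x ∈ n := fun x hx => by simpa using hσn 1 x (by simpa using hx)
  let σS : (S ⧸ n) ≃ₐ[k] (S ⧸ n) := Ideal.quotientEquivAlg n n (σ.restrictScalars k) (by
    refine le_antisymm (fun x hx => ?_) (Ideal.map_le_iff_le_comap.mpr fun x hx => hσn1 x hx)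
    have := Ideal.mem_map_of_mem ((σ.restrictScalars k : S ≃ₐ[k] S) : S →+* S) (hσn1 x hx)
    simpa [hσ] using this)
  have hσS : ∀ s, σS (Ideal.Quotient.mk n s) = Ideal.Quotient.mk n (σ s) := fun s => rfl
  let σ₀ : ArSing.ring k 1 ≃ₐ[k] ArSing.ring k 1 := e.symm.trans (σS.trans e)
  let θ : S →+* ArSing.ring k 1 := (e : (S ⧸ n) →+* ArSing.ring k 1).comp (Ideal.Quotient.mk n)
  have hθs : Function.Surjective θ := e.surjective.comp Ideal.Quotient.mk_surjective
  have hθσ : ∀ s, θ (σ s) = σ₀ (θ s) := fun s => by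
    show e _ = e (σS (e.symm (e _)))
    rw [AlgEquiv.symm_apply_apply, hσS]
  have hθk : ∀ a : k, θ (algebraMap k S a) = algebraMap k _ a := fun a => e.commutes a
  have hθker : RingHom.ker θ = n := by
    ext s
    rw [RingHom.mem_ker, show θ s = e (Ideal.Quotient.mk n s) from rfl, map_eq_zero_iff e e.injective, Ideal.Quotient.eq_zero_iff_mem]
  have hσ₀ : ∀ a, σ₀ (σ₀ a) = a := fun a => by obtain ⟨s, rfl⟩ := hθs a; rw [← hθσ, ← hθσ, hσ]
  have hstab : ∀ (π : ArSing.ring k 1 →ₐ[k] PowerSeries k) (π' : ArSing.ring k 1 →ₐ[k] PowerSeries k),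
      (∀ {a b}, π a = π b → π' a = π' b → a = b) → (∃ a, π' a = 0 ∧ π a ≠ 0) →
      (RingHom.ker π).map (σ₀ : ArSing.ring k 1 →+* ArSing.ring k 1) = RingHom.ker π := by
    intro π π' hj ⟨a, ha', ha⟩
    haveI : (RingHom.ker π).IsPrime := RingHom.ker_isPrime π
    have hmin : RingHom.ker π ∈ minimalPrimes (ArSing.ring k 1) := by
      refine ⟨⟨inferInstance, bot_le⟩, fun Q hQ hle x hx => ?_⟩
      have h0 : x * a = 0 := hj (by rw [map_mul, RingHom.mem_ker.mp hx, zero_mul, map_zero]) (by rw [map_mul, ha', mul_zero, map_zero])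
      exact (hQ.1.mem_or_mem (h0 ▸ Q.zero_mem : x * a ∈ Q)).resolve_right fun h => ha (hle h)
    have hP : (RingHom.ker π).comap θ ∈ n.minimalPrimes := by
      refine ⟨⟨Ideal.comap_isPrime θ _, fun s hs => Ideal.mem_comap.mpr (by
        rw [← hθker, RingHom.mem_ker] at hs; rw [hs]; exact zero_mem _)⟩, fun Q hQ hle => ?_⟩
      have hQc : (Q.map θ).comap θ = Q := by
        rw [Ideal.comap_map_of_surjective θ hθs, ← RingHom.ker_eq_comap_bot, hθker]
        exact sup_eq_left.mpr hQ.2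
      haveI := hQ.1
      have hle' : Q.map θ ≤ RingHom.ker π := Ideal.map_le_iff_le_comap.mpr hle
      have := hmin.2 ⟨Ideal.map_isPrime_of_surjective hθs (hθker.trans_le hQ.2), bot_le⟩ hle'
      rw [← hQc]
      exact Ideal.comap_mono this
    have h := congrArg (Ideal.map θ) (hbr _ hP)
    rw [Ideal.map_map, Ideal.map_comap_of_surjective θ hθs,
      show θ.comp (σ : S →+* S) = (σ₀ : ArSing.ring k 1 →+* ArSing.ring k 1).comp θ from RingHom.ext hθσ,
      ← Ideal.map_map, Ideal.map_comap_of_surjective θ hθs] at h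
    exact h
  obtain ⟨ξ₁, ξ₂, u₀, v₀, hξ₁, hξ₂, hu₀, hv₀, huv₀, htop, hres₀⟩ := node_coords h2 σ₀ hσ₀
    (hstab (ArSingInv.bp k) (ArSingInv.bm k) (fun h h' => ArSingInv.branch_joint h2 h h')
      ⟨ArSing.x k 1 + ArSing.y k 1, by simp [ArSingInv.bm_x, ArSingInv.bm_y], fun h => h2 (by
        rw [map_add, ArSingInv.bp_x, ArSingInv.bp_y] at h
        simpa [one_add_one_eq_two] using congrArg (PowerSeries.coeff 1) h)⟩)
    (hstab (ArSingInv.bm k) (ArSingInv.bp k) (fun h h' => ArSingInv.branch_joint h2 h' h)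
      ⟨ArSing.x k 1 - ArSing.y k 1, by simp [ArSingInv.bp_x, ArSingInv.bp_y], fun h => h2 (by
        rw [map_sub, ArSingInv.bm_x, ArSingInv.bm_y] at h
        simpa [one_add_one_eq_two] using congrArg (PowerSeries.coeff 1) h)⟩)
  let ι := algebraMap k S
  have hsq : ∀ {ξ : k}, ξ ^ 2 = 1 → ι ξ * ι ξ = 1 := fun {ξ} h => by rw [← map_mul, ← sq, h, map_one]
  -- eigen lifts
  have lift : ∀ (ξ : k) (a : ArSing.ring k 1), ξ ^ 2 = 1 → σ₀ a = algebraMap k _ ξ * a →
      ∃ s : S, θ s = a ∧ σ s = ι ξ * s := by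
    intro ξ a hξ ha
    obtain ⟨s, rfl⟩ := hθs a
    refine ⟨c * (s + ι ξ * σ s), ?_, ?_⟩
    · simp only [map_mul, map_add, hθσ, ha, c, ι, hθk]
      have e1 : algebraMap k (ArSing.ring k 1) ξ * algebraMap k _ ξ = 1 := by rw [← map_mul, ← sq, hξ, map_one]
      have e2 : algebraMap k (ArSing.ring k 1) 2⁻¹ * 2 = 1 := by
        rw [show (2 : ArSing.ring k 1) = algebraMap k _ 2 from (map_ofNat _ 2).symm, ← map_mul, inv_mul_cancel₀ h2, map_one]
      linear_combination algebraMap k (ArSing.ring k 1) 2⁻¹ * θ s * e1 + θ s * e2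
    · simp only [map_mul, map_add, c, ι, hσk, hσ]
      linear_combination (-(algebraMap k S 2⁻¹ * σ s)) * hsq hξ
  obtain ⟨u, hu, huσ⟩ := lift ξ₂ u₀ hξ₂ hu₀
  obtain ⟨v, hv, hvσ⟩ := lift ξ₁ v₀ hξ₁ hv₀
  let M : Ideal S := maximalIdeal S
  have hJ : ∀ b : S, ∃ a : k, b - ι a ∈ Ideal.span {u, v} ⊔ n := fun b => by
    obtain ⟨a, ha⟩ := hres₀ (θ b)
    refine ⟨a, ?_⟩
    rw [← hθk, ← map_sub, ← hu, ← hv, ← Set.image_pair, ← Ideal.map_span, ← Ideal.mem_comap,
      Ideal.comap_map_of_surjective θ hθs, ← RingHom.ker_eq_comap_bot, hθker] at ha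
    exact ha
  have hθu : ∀ s, θ s ∈ Ideal.span {u₀, v₀} → s ∈ M := fun s hs hu' =>
    htop (Ideal.eq_top_of_isUnit_mem _ hs (hu'.map θ))
  have hnle : n ≤ M := CAlgAndre.map_maximalIdeal_le R S
  have hum : u ∈ M := hθu u (hu ▸ Ideal.subset_span (by simp))
  have hvm : v ∈ M := hθu v (hv ▸ Ideal.subset_span (by simp))
  have hgen : M = Ideal.span {u, v} ⊔ n := by
    refine le_antisymm (fun b hb => ?_) (sup_le (Ideal.span_le.mpr (by rintro x (rfl | rfl); exacts [hum, hvm])) hnle)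
    obtain ⟨a, ha⟩ := hJ b
    rcases eq_or_ne a 0 with rfl | h0
    · simpa [ι] using ha
    · exfalso
      have h1 : b - ι a ∈ M := (sup_le (Ideal.span_le.mpr (by rintro x (rfl | rfl); exacts [hum, hvm])) hnle) ha
      have h2' : ι a ∈ M := by simpa using sub_mem hb h1
      exact h2' ((isUnit_iff_ne_zero.mpr h0).map ι)
  have hσM : ∀ (j : ℕ) x, x ∈ M ^ j → σ x ∈ M ^ j := by
    intro j x hx
    have h := Ideal.mem_map_of_mem (σ : S →+* S) hx
    rw [Ideal.map_pow] at h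
    refine Ideal.pow_right_mono (Ideal.map_le_iff_le_comap.mpr fun y hy => ?_) j h
    simp only [M, Ideal.mem_comap, mem_maximalIdeal, mem_nonunits_iff] at hy ⊢
    intro hu'
    exact hy (by simpa [hσ] using hu'.map (σ : S →+* S))
  -- one step
  have hdec : ∀ X Y, X - u ∈ n → Y - v ∈ n → ∀ b : S, ∃ (a : R) (p q : S),
      b - (algebraMap R S a + p * X + q * Y) ∈ n := by
    intro X Y hX hY b
    obtain ⟨a, ha⟩ := hJ b
    obtain ⟨x, hx, y, hy, hxy⟩ := Submodule.mem_sup.1 ha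
    obtain ⟨p, q, rfl⟩ := Ideal.mem_span_pair.1 hx
    refine ⟨algebraMap k R a, p, q, ?_⟩
    rw [show b - (algebraMap R S (algebraMap k R a) + p * X + q * Y) = y - p * (X - u) - q * (Y - v) by
      rw [← IsScalarTower.algebraMap_apply k R S]; simp only [ι] at hxy; linear_combination -hxy]
    exact sub_mem (sub_mem hy (n.mul_mem_left _ hX)) (n.mul_mem_left _ hY)
  have hstep : ∀ (j : ℕ) (X Y : S), X - u ∈ n → Y - v ∈ n → ∀ w ∈ n ^ j,
      ∃ a ∈ maximalIdeal R ^ j, ∃ P ∈ n ^ j, ∃ Q ∈ n ^ j,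
        w - (algebraMap R S a + P * X + Q * Y) ∈ n ^ (j + 1) := by
    intro j X Y hX hY w hw
    have hmem : ∀ a ∈ maximalIdeal R ^ j, algebraMap R S a ∈ n ^ j := fun a ha => by
      rw [show n ^ j = (maximalIdeal R ^ j).map (algebraMap R S) from (Ideal.map_pow _ _ _).symm]
      exact Ideal.mem_map_of_mem _ ha
    rw [show n ^ j = (maximalIdeal R ^ j).map (algebraMap R S) from (Ideal.map_pow _ _ _).symm] at hw
    unfold Ideal.map at hw
    induction hw using Submodule.span_induction with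
    | mem x hx =>
      obtain ⟨a, ha, rfl⟩ := hx
      exact ⟨a, ha, 0, zero_mem _, 0, zero_mem _, by simp⟩
    | zero => exact ⟨0, zero_mem _, 0, zero_mem _, 0, zero_mem _, by simp⟩
    | add x y _ _ hx hy =>
      obtain ⟨a, ha, P, hP, Q, hQ, hx⟩ := hx
      obtain ⟨a', ha', P', hP', Q', hQ', hy⟩ := hy
      refine ⟨a + a', add_mem ha ha', P + P', add_mem hP hP', Q + Q', add_mem hQ hQ', ?_⟩
      convert add_mem hx hy using 1
      rw [map_add]; ring
    | smul r x _ hx =>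
      obtain ⟨a, ha, P, hP, Q, hQ, hx⟩ := hx
      obtain ⟨a', p, q, hr⟩ := hdec X Y hX hY r
      refine ⟨a' * a, Ideal.mul_mem_left _ _ ha, r * P + p * algebraMap R S a,
        add_mem (Ideal.mul_mem_left _ _ hP) (Ideal.mul_mem_left _ _ (hmem a ha)),
        r * Q + q * algebraMap R S a,
        add_mem (Ideal.mul_mem_left _ _ hQ) (Ideal.mul_mem_left _ _ (hmem a ha)), ?_⟩
      have h1 := add_mem ((n ^ (j + 1)).mul_mem_left r hx)
        (show (r - (algebraMap R S a' + p * X + q * Y)) * algebraMap R S a ∈ n ^ (j + 1) by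
          rw [pow_succ']; exact Ideal.mul_mem_mul hr (hmem a ha))
      convert h1 using 1
      rw [smul_eq_mul, map_mul]; ring
  let ε : k := ξ₁ * ξ₂
  have hε : ε ^ 2 = 1 := by simp [ε, mul_pow, hξ₁, hξ₂]
  let Inv : ℕ → R × S × S → Prop := fun j t => t.1 ∈ maximalIdeal R ∧ algebraMap k R ε * t.1 = t.1 ∧
    t.2.1 - u ∈ n ∧ t.2.2 - v ∈ n ∧ σ t.2.1 = ι ξ₂ * t.2.1 ∧ σ t.2.2 = ι ξ₁ * t.2.2 ∧
    t.2.1 * t.2.2 - algebraMap R S t.1 ∈ n ^ (j + 1)
  have hnext : ∀ j t, Inv j t → ∃ t', Inv (j + 1) t' ∧ t'.1 - t.1 ∈ maximalIdeal R ^ j ∧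
      t'.2.1 - t.2.1 ∈ M ^ j ∧ t'.2.2 - t.2.2 ∈ M ^ j := by
    rintro j ⟨t, X, Y⟩ ⟨h1, h1', hXu, hYv, hX, hY, h4⟩
    dsimp only at h1 h1' hXu hYv hX hY h4
    obtain ⟨a, ha, P, hP, Q, hQ, hw⟩ := hstep (j + 1) X Y hXu hYv _ h4
    let a' : R := algebraMap k R (2⁻¹ * (1 + ε)) * a
    let P' : S := c * (P + ι ξ₁ * σ P)
    let Q' : S := c * (Q + ι ξ₂ * σ Q)
    have ha' : a' ∈ maximalIdeal R ^ (j + 1) := Ideal.mul_mem_left _ _ ha
    have hP' : P' ∈ n ^ (j + 1) := Ideal.mul_mem_left _ _ (add_mem hP (Ideal.mul_mem_left _ _ (hσn _ _ hP)))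
    have hQ' : Q' ∈ n ^ (j + 1) := Ideal.mul_mem_left _ _ (add_mem hQ (Ideal.mul_mem_left _ _ (hσn _ _ hQ)))
    have hle : n ^ (j + 1) ≤ M ^ j := (Ideal.pow_right_mono hnle _).trans (Ideal.pow_le_pow_right j.le_succ)
    have hle1 : n ^ (j + 1) ≤ n := Ideal.pow_le_self j.succ_ne_zero
    refine ⟨(t + a', X - Q', Y - P'), ⟨add_mem h1 (Ideal.pow_le_self j.succ_ne_zero ha'), ?_, ?_, ?_, ?_, ?_, ?_⟩, ?_, ?_, ?_⟩
    · show algebraMap k R ε * (t + algebraMap k R (2⁻¹ * (1 + ε)) * a) = t + algebraMap k R (2⁻¹ * (1 + ε)) * a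
      rw [mul_add, h1', ← mul_assoc, ← map_mul, show ε * (2⁻¹ * (1 + ε)) = 2⁻¹ * (1 + ε) by linear_combination 2⁻¹ * hε]
    · rw [show X - Q' - u = (X - u) - Q' by ring]; exact sub_mem hXu (hle1 hQ')
    · rw [show Y - P' - v = (Y - v) - P' by ring]; exact sub_mem hYv (hle1 hP')
    · simp only [Q', c, map_sub, map_mul, map_add, ι, hσk, hσ, hX]
      linear_combination (algebraMap k S 2⁻¹ * σ Q) * hsq hξ₂
    · simp only [P', c, map_sub, map_mul, map_add, ι, hσk, hσ, hY]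
      linear_combination (algebraMap k S 2⁻¹ * σ P) * hsq hξ₁
    · set w := X * Y - algebraMap R S t with hwdef
      have hσw : σ w = ι ε * w := by
        have e1 : ι ε * algebraMap R S t = algebraMap R S t := by
          simp only [ι]; rw [IsScalarTower.algebraMap_apply k R S, ← map_mul, h1']
        rw [hwdef, map_sub, map_mul, σ.commutes, hX, hY]
        simp only [ε, map_mul] at e1 ⊢
        linear_combination e1
      have hea : algebraMap R S a' = c * (1 + ι ε) * algebraMap R S a := by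
        simp only [a', c, ι, map_mul, ← IsScalarTower.algebraMap_apply k R S, map_add, map_one]
      have key : w - (algebraMap R S a' + P' * X + Q' * Y) =
          c * ((w - (algebraMap R S a + P * X + Q * Y)) + ι ε * σ (w - (algebraMap R S a + P * X + Q * Y))) := by
        rw [hea]
        simp only [P', Q', map_sub, map_add, map_mul, σ.commutes, hX, hY, hσw]
        simp only [ε, map_mul]
        linear_combination (-w) * hc - c * w * (ι ξ₂ * ι ξ₂) * hsq hξ₁ - c * w * hsq hξ₂ +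
          c * ι ξ₁ * σ P * X * hsq hξ₂ + c * ι ξ₂ * σ Q * Y * hsq hξ₁
      rw [show (X - Q') * (Y - P') - algebraMap R S (t + a') = (w - (algebraMap R S a' + P' * X + Q' * Y)) + Q' * P' by
        rw [hwdef, map_add]; ring, key]
      refine add_mem (Ideal.mul_mem_left _ _ (add_mem hw (Ideal.mul_mem_left _ _ (hσn _ _ hw)))) ?_
      refine Ideal.pow_le_pow_right ?_ ((pow_add n (j + 1) (j + 1)).symm ▸ Ideal.mul_mem_mul hQ' hP')
      omega
    · simpa using Ideal.pow_le_pow_right j.le_succ ha'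
    · simpa using neg_mem (hle hQ')
    · simpa using neg_mem (hle hP')
  have h0 : Inv 0 (0, u, v) := by
    refine ⟨zero_mem _, mul_zero _, by simp, by simp, huσ, hvσ, ?_⟩
    rw [zero_add, pow_one, map_zero, sub_zero, ← hθker, RingHom.mem_ker, map_mul, hu, hv, huv₀]
  choose next hnextP hnextd using hnext
  let f : (j : ℕ) → {t // Inv j t} := fun j => Nat.rec ⟨_, h0⟩ (fun j t => ⟨next j t.1 t.2, hnextP j t.1 t.2⟩) j
  obtain ⟨t, ht⟩ := NodeLift.exists_limit (maximalIdeal R) (fun j => (f j).1.1) fun j => (hnextd j _ (f j).2).1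
  obtain ⟨X, hX⟩ := NodeLift.exists_limit M (fun j => (f j).1.2.1) fun j => (hnextd j _ (f j).2).2.1
  obtain ⟨Y, hY⟩ := NodeLift.exists_limit M (fun j => (f j).1.2.2) fun j => (hnextd j _ (f j).2).2.2
  have htm : t ∈ maximalIdeal R := by
    have h := add_mem (pow_one (maximalIdeal R) ▸ ht 1) (f 1).2.1
    rwa [sub_add_cancel] at h
  have hXu : X - u ∈ n := NodeLift.mem_of_forall_sup_pow n hnle _ fun j => by
    rw [show X - u = ((f j).1.2.1 - u) + (X - (f j).1.2.1) by ring]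
    exact Submodule.add_mem_sup (f j).2.2.2.1 (hX j)
  have hYv : Y - v ∈ n := NodeLift.mem_of_forall_sup_pow n hnle _ fun j => by
    rw [show Y - v = ((f j).1.2.2 - v) + (Y - (f j).1.2.2) by ring]
    exact Submodule.add_mem_sup (f j).2.2.2.2.1 (hY j)
  have zeroS : ∀ x : S, (∀ j, x ∈ M ^ j) → x = 0 := fun x hx => by
    rw [← Ideal.mem_bot, ← Ideal.iInf_pow_eq_bot_of_isLocalRing (I := M) (maximalIdeal.isMaximal _).ne_top, Ideal.mem_iInf]
    exact hx
  have hXY : X * Y = algebraMap R S t := sub_eq_zero.mp (zeroS _ fun j => by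
    rw [show X * Y - algebraMap R S t = ((f j).1.2.1 * (f j).1.2.2 - algebraMap R S (f j).1.1)
      + (X - (f j).1.2.1) * Y + (f j).1.2.1 * (Y - (f j).1.2.2) - algebraMap R S (t - (f j).1.1) by rw [map_sub]; ring]
    refine sub_mem (add_mem (add_mem ?_ (Ideal.mul_mem_right _ _ (hX j))) (Ideal.mul_mem_left _ _ (hY j))) ?_
    · exact Ideal.pow_le_pow_right j.le_succ (Ideal.pow_right_mono hnle _ (f j).2.2.2.2.2.2.2)
    · refine Ideal.pow_right_mono hnle j ?_
      rw [show n ^ j = (maximalIdeal R ^ j).map (algebraMap R S) from (Ideal.map_pow _ _ _).symm]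
      exact Ideal.mem_map_of_mem _ (ht j))
  have hXσ : σ X = ι ξ₂ * X := sub_eq_zero.mp (zeroS _ fun j => by
    rw [show σ X - ι ξ₂ * X = σ (X - (f j).1.2.1) - ι ξ₂ * (X - (f j).1.2.1) by
      rw [map_sub, (f j).2.2.2.2.2.1]; ring]
    exact sub_mem (hσM _ _ (hX j)) (Ideal.mul_mem_left _ _ (hX j)))
  have hYσ : σ Y = ι ξ₁ * Y := sub_eq_zero.mp (zeroS _ fun j => by
    rw [show σ Y - ι ξ₁ * Y = σ (Y - (f j).1.2.2) - ι ξ₁ * (Y - (f j).1.2.2) by
      rw [map_sub, (f j).2.2.2.2.2.2.1]; ring]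
    exact sub_mem (hσM _ _ (hY j)) (Ideal.mul_mem_left _ _ (hY j)))
  have hεt : algebraMap k R ε * t = t := sub_eq_zero.mp (by
    rw [← Ideal.mem_bot, ← Ideal.iInf_pow_eq_bot_of_isLocalRing (I := maximalIdeal R) (maximalIdeal.isMaximal _).ne_top, Ideal.mem_iInf]
    intro j
    rw [show algebraMap k R ε * t - t = algebraMap k R ε * (t - (f j).1.1) - (t - (f j).1.1) by
      linear_combination (f j).2.2.1]
    exact sub_mem (Ideal.mul_mem_left _ _ (ht j)) (ht j))
  have hXm : X ∈ M := by simpa using add_mem (hnle hXu) hum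
  have hYm : Y ∈ M := by simpa using add_mem (hnle hYv) hvm
  obtain ⟨φ, hφ⟩ := MvPSLib.exists_algHom (A := R) M ![X, Y] fun i => by fin_cases i <;> simp [hXm, hYm]
  have hφ0 : φ (MvPowerSeries.X 0) = X := by rw [hφ]; rfl
  have hφ1 : φ (MvPowerSeries.X 1) = Y := by rw [hφ]; rfl
  have hφC : ∀ a, φ (MvPowerSeries.C a) = algebraMap R S a := fun a => φ.commutes a
  have hφs : Function.Surjective φ := by
    haveI := CAlgCohen.isAdicComplete_mvPowerSeries R 2
    have hXP : ∀ i : Fin 2, φ (MvPowerSeries.X i) ∈ (maximalIdeal (MvPowerSeries (Fin 2) R)).map φ.toRingHom :=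
      fun i => Ideal.mem_map_of_mem φ.toRingHom (by
        rw [mem_maximalIdeal, mem_nonunits_iff, MvPowerSeries.isUnit_iff_constantCoeff, MvPowerSeries.constantCoeff_X]
        exact not_isUnit_zero)
    have hmap : (maximalIdeal (MvPowerSeries (Fin 2) R)).map φ.toRingHom = M := by
      apply le_antisymm
      · rw [CAlgCohen.maximalIdeal_mvPowerSeries, Ideal.map_sup, Ideal.map_map, FSAdic.augIdeal_eq_span, Ideal.map_span]
        refine sup_le (Ideal.map_le_iff_le_comap.mpr fun a ha => ?_) (Ideal.span_le.mpr ?_)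
        · show φ (MvPowerSeries.C a) ∈ M
          rw [hφC]; exact hnle (Ideal.mem_map_of_mem _ ha)
        · rintro _ ⟨_, ⟨i, rfl⟩, rfl⟩
          show φ (MvPowerSeries.X i) ∈ M
          rw [hφ]; fin_cases i <;> simp [hXm, hYm]
      · rw [hgen]
        have hnφ : n ≤ (maximalIdeal (MvPowerSeries (Fin 2) R)).map φ.toRingHom := by
          refine Ideal.map_le_iff_le_comap.mpr fun a ha => ?_
          rw [Ideal.mem_comap, ← hφC]
          refine Ideal.mem_map_of_mem φ.toRingHom ?_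
          rw [mem_maximalIdeal, mem_nonunits_iff] at ha ⊢
          rwa [MvPowerSeries.isUnit_iff_constantCoeff, MvPowerSeries.constantCoeff_C]
        refine sup_le (Ideal.span_le.2 ?_) hnφ
        rintro x (rfl | rfl)
        · simpa [hφ0] using sub_mem (hXP 0) (hnφ hXu)
        · simpa [hφ1] using sub_mem (hXP 1) (hnφ hYv)
    have hh : IsHausdorff ((maximalIdeal (MvPowerSeries (Fin 2) R)).map φ.toRingHom) S :=
      hmap.symm ▸ (inferInstance : IsHausdorff M S)
    refine surjective_of_mk_map_comp_surjective (I := maximalIdeal (MvPowerSeries (Fin 2) R)) φ.toRingHom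
      (haus := hh) fun x => ?_
    obtain ⟨b, rfl⟩ := Ideal.Quotient.mk_surjective x
    obtain ⟨a, ha⟩ := hJ b
    rw [← hgen] at ha
    refine ⟨MvPowerSeries.C (algebraMap k R a), ?_⟩
    show Ideal.Quotient.mk _ (φ (MvPowerSeries.C (algebraMap k R a))) = _
    rw [hφC, ← IsScalarTower.algebraMap_apply k R S, Ideal.Quotient.eq, hmap, ← neg_sub]
    exact neg_mem ha
  let I : Ideal (MvPowerSeries (Fin 2) R) := Ideal.span {MvPowerSeries.X 0 * MvPowerSeries.X 1 - MvPowerSeries.C t}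
  have hI : ∀ x ∈ I, φ x = 0 := by
    intro x hx
    obtain ⟨d, rfl⟩ := Ideal.mem_span_singleton'.1 hx
    rw [map_mul, map_sub, map_mul, hφ0, hφ1, hφC, hXY, sub_self, mul_zero]
  let ψ : (MvPowerSeries (Fin 2) R ⧸ I) →ₐ[R] S := Ideal.Quotient.liftₐ I φ hI
  have hψs : Function.Surjective ψ := fun b => by obtain ⟨x, rfl⟩ := hφs b; exact ⟨Ideal.Quotient.mk I x, rfl⟩
  -- residue field of `R`
  let ρ₀ : k →+* ResidueField R := (residue R).comp (algebraMap k R)
  have hρ₀ : Function.Bijective ρ₀ := by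
    refine ⟨ρ₀.injective, fun y => ?_⟩
    obtain ⟨r, rfl⟩ := residue_surjective y
    obtain ⟨a, ha⟩ := hJ (algebraMap R S r)
    rw [← hgen] at ha
    refine ⟨a, (sub_eq_zero.mp ?_).symm⟩
    show residue R r - residue R (algebraMap k R a) = 0
    rw [← map_sub, residue_eq_zero_iff]
    intro hu'
    exact ha (by simpa [ι, IsScalarTower.algebraMap_apply k R S] using hu'.map (algebraMap R S))
  let ρ : R →+* k := (RingEquiv.ofBijective ρ₀ hρ₀).symm.toRingHom.comp (residue R)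
  have hρk : ∀ a, ρ a = 0 ↔ a ∈ maximalIdeal R := fun a => by
    simp [ρ, residue_eq_zero_iff]
  have hρC : ∀ a, ρ (algebraMap k R a) = a := fun a => (RingEquiv.ofBijective ρ₀ hρ₀).symm_apply_apply a
  let P2 := MvPowerSeries (Fin 2) k
  let J0 : Ideal P2 := Ideal.span {MvPowerSeries.X 0 * MvPowerSeries.X 1}
  have hmaps : Function.Surjective (MvPowerSeries.map (σ := Fin 2) ρ) := fun p =>
    ⟨fun d => algebraMap k R (MvPowerSeries.coeff d p), MvPowerSeries.ext fun d => by rw [MvPowerSeries.coeff_map]; exact hρC _⟩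
  let π : MvPowerSeries (Fin 2) R →+* P2 ⧸ J0 := (Ideal.Quotient.mk J0).comp (MvPowerSeries.map ρ)
  have hπI : ∀ x ∈ I, π x = 0 := by
    intro x hx
    obtain ⟨d, rfl⟩ := Ideal.mem_span_singleton'.1 hx
    show Ideal.Quotient.mk J0 (MvPowerSeries.map ρ _) = 0
    rw [Ideal.Quotient.eq_zero_iff_mem, map_mul, map_sub, map_mul, MvPowerSeries.map_X, MvPowerSeries.map_X,
      MvPowerSeries.map_C, (hρk t).mpr htm, map_zero, sub_zero]
    exact J0.mul_mem_left _ (Ideal.subset_span rfl)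
  let π' : (MvPowerSeries (Fin 2) R ⧸ I) →+* P2 ⧸ J0 := Ideal.Quotient.lift I π hπI
  have hπ's : Function.Surjective π' := fun y => by
    obtain ⟨q, rfl⟩ := Ideal.Quotient.mk_surjective y
    obtain ⟨p, rfl⟩ := hmaps q
    exact ⟨Ideal.Quotient.mk I p, rfl⟩
  let mR : Ideal (MvPowerSeries (Fin 2) R ⧸ I) := (maximalIdeal R).map (algebraMap R _)
  have hker : ∀ x, π' x = 0 → x ∈ mR := by
    intro x hx
    obtain ⟨p, rfl⟩ := Ideal.Quotient.mk_surjective x
    change Ideal.Quotient.mk J0 (MvPowerSeries.map ρ p) = 0 at hx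
    obtain ⟨d, hd⟩ := Ideal.mem_span_singleton'.1 (Ideal.Quotient.eq_zero_iff_mem.1 hx)
    obtain ⟨d', rfl⟩ := hmaps d
    have h1 : MvPowerSeries.map ρ (p - d' * (MvPowerSeries.X 0 * MvPowerSeries.X 1 - MvPowerSeries.C t)) = 0 := by
      rw [map_sub, map_mul, map_sub, map_mul, MvPowerSeries.map_X, MvPowerSeries.map_X, MvPowerSeries.map_C, (hρk t).mpr htm,
        map_zero, sub_zero, hd, sub_self]
    have h3 := Ideal.mem_map_of_mem (Ideal.Quotient.mk I) (NodeLift.mem_map_C_of_coeff_mem (IsNoetherian.noetherian (maximalIdeal R)) _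
      fun m => (hρk _).mp (by rw [← MvPowerSeries.coeff_map, h1, map_zero]))
    have hz : Ideal.Quotient.mk I (d' * (MvPowerSeries.X 0 * MvPowerSeries.X 1 - MvPowerSeries.C t)) = 0 :=
      Ideal.Quotient.eq_zero_iff_mem.2 (I.mul_mem_left _ (Ideal.subset_span rfl))
    rw [Ideal.map_map, map_sub, hz, sub_zero] at h3
    exact h3
  let g : (MvPowerSeries (Fin 2) R ⧸ I) →+* ArSing.ring k 1 := θ.comp ψ.toRingHom
  have hg : RingHom.ker π' ≤ RingHom.ker g := le_trans (fun x hx => hker x hx) (Ideal.map_le_iff_le_comap.2 fun a ha => by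
    show θ (ψ (algebraMap R _ a)) = 0
    rw [ψ.commutes, ← RingHom.mem_ker, hθker]
    exact Ideal.mem_map_of_mem _ ha)
  let gbar := RingHom.liftOfSurjective π' hπ's ⟨g, hg⟩
  have hgbar : ∀ x, gbar (π' x) = g x := fun x =>
    RingHom.liftOfRightInverse_comp_apply π' _ (Function.rightInverse_surjInv hπ's) ⟨g, hg⟩ x
  have hgs : Function.Surjective gbar := fun y => by
    obtain ⟨b, rfl⟩ := hθs y
    obtain ⟨x, rfl⟩ := hψs b
    exact ⟨π' x, hgbar x⟩
  -- the linear change of coordinates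
  haveI : IsAdicComplete (maximalIdeal P2) P2 := CAlgCohen.isAdicComplete_mvPowerSeries k 2
  obtain ⟨L, hL⟩ := MvPSLib.exists_algHom (A := k) (maximalIdeal P2)
    ![MvPowerSeries.X 0 + MvPowerSeries.X 1, MvPowerSeries.X 0 - MvPowerSeries.X 1] (fun i => by
      fin_cases i <;>
        (refine fun hu => not_isUnit_zero (M₀ := k) ?_
         simpa [P2] using (MvPowerSeries.isUnit_iff_constantCoeff (φ := _)).mp hu))
  have hL0 : L (MvPowerSeries.X 0) = MvPowerSeries.X 0 + MvPowerSeries.X 1 := by rw [hL]; rfl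
  have hL1 : L (MvPowerSeries.X 1) = MvPowerSeries.X 0 - MvPowerSeries.X 1 := by rw [hL]; rfl
  have hLs : Function.Surjective L := by
    refine MvPSLib.surjective_of_span (fun y => ?_) L ?_
    · obtain ⟨p, rfl⟩ := residue_surjective y
      refine ⟨MvPowerSeries.constantCoeff p, (sub_eq_zero.mp ?_).symm⟩
      show residue P2 p - residue P2 (MvPowerSeries.C _) = 0
      rw [← map_sub, residue_eq_zero_iff, mem_maximalIdeal, mem_nonunits_iff, MvPowerSeries.isUnit_iff_constantCoeff]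
      simp
    · rw [CAlgCohen.maximalIdeal_mvPowerSeries, IsLocalRing.maximalIdeal_eq_bot, Ideal.map_bot, bot_sup_eq, FSAdic.augIdeal_eq_span]
      have h2P : MvPowerSeries.C (2⁻¹ : k) * (2 : P2) = 1 := by
        rw [show (2 : P2) = MvPowerSeries.C (2 : k) from (map_ofNat _ 2).symm, ← map_mul, inv_mul_cancel₀ h2, map_one]
      refine le_antisymm (Ideal.span_le.mpr ?_) (Ideal.span_le.mpr ?_)
      · rintro _ ⟨i, rfl⟩
        fin_cases i
        · show L (MvPowerSeries.X 0) ∈ _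
          rw [hL0]; exact add_mem (Ideal.subset_span ⟨0, rfl⟩) (Ideal.subset_span ⟨1, rfl⟩)
        · show L (MvPowerSeries.X 1) ∈ _
          rw [hL1]; exact sub_mem (Ideal.subset_span ⟨0, rfl⟩) (Ideal.subset_span ⟨1, rfl⟩)
      · rintro _ ⟨i, rfl⟩
        fin_cases i
        · show MvPowerSeries.X 0 ∈ _
          rw [show (MvPowerSeries.X 0 : P2) = MvPowerSeries.C (2⁻¹ : k) * (L (MvPowerSeries.X 0) + L (MvPowerSeries.X 1)) by
            rw [hL0, hL1]; linear_combination (-(MvPowerSeries.X 0 : P2)) * h2P]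
          exact Ideal.mul_mem_left _ _ (add_mem (Ideal.subset_span ⟨0, rfl⟩) (Ideal.subset_span ⟨1, rfl⟩))
        · show MvPowerSeries.X 1 ∈ _
          rw [show (MvPowerSeries.X 1 : P2) = MvPowerSeries.C (2⁻¹ : k) * (L (MvPowerSeries.X 0) - L (MvPowerSeries.X 1)) by
            rw [hL0, hL1]; linear_combination (-(MvPowerSeries.X 1 : P2)) * h2P]
          exact Ideal.mul_mem_left _ _ (sub_mem (Ideal.subset_span ⟨0, rfl⟩) (Ideal.subset_span ⟨1, rfl⟩))
  let τ : ArSing.ring k 1 →+* P2 ⧸ J0 := Ideal.Quotient.lift _ ((Ideal.Quotient.mk J0).comp L.toRingHom) fun a ha => by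
    obtain ⟨d, rfl⟩ := Ideal.mem_span_singleton.mp ha
    show Ideal.Quotient.mk J0 (L _) = 0
    rw [Ideal.Quotient.eq_zero_iff_mem, map_mul, ArSing.eqn, map_sub, map_pow, map_pow, hL0, hL1]
    refine Ideal.mul_mem_right _ _ ?_
    rw [show (MvPowerSeries.X 0 - MvPowerSeries.X 1 : P2) ^ 2 - (MvPowerSeries.X 0 + MvPowerSeries.X 1) ^ (1 + 1) = (-4) * (MvPowerSeries.X 0 * MvPowerSeries.X 1) by ring]
    exact J0.mul_mem_left _ (Ideal.subset_span rfl)
  have hτs : Function.Surjective τ := fun y => by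
    obtain ⟨q, rfl⟩ := Ideal.Quotient.mk_surjective y
    obtain ⟨p, rfl⟩ := hLs q
    exact ⟨Ideal.Quotient.mk _ p, rfl⟩
  have hinj := NodeLift.injective_of_surjective_ringHom (τ.comp gbar) (hτs.comp hgs)
  have hK : RingHom.ker ψ ≤ mR := by
    intro x hx
    refine hker x (hinj ?_)
    show τ (gbar (π' x)) = τ (gbar 0)
    rw [hgbar, map_zero]
    exact congrArg τ (show θ (ψ x) = 0 by rw [show ψ x = 0 from hx, map_zero])
  have hIle : I ≤ maximalIdeal (MvPowerSeries (Fin 2) R) := by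
    refine (Ideal.span_singleton_le_iff_mem _).2 ?_
    rw [mem_maximalIdeal, mem_nonunits_iff, MvPowerSeries.isUnit_iff_constantCoeff, map_sub, map_mul,
      MvPowerSeries.constantCoeff_X, MvPowerSeries.constantCoeff_X, MvPowerSeries.constantCoeff_C, mul_zero, zero_sub, IsUnit.neg_iff]
    exact htm
  haveI : Nontrivial (MvPowerSeries (Fin 2) R ⧸ I) :=
    Ideal.Quotient.nontrivial_iff.2 (ne_top_of_le_ne_top (maximalIdeal.isMaximal _).ne_top hIle)
  haveI : IsLocalRing (MvPowerSeries (Fin 2) R ⧸ I) := IsLocalRing.of_surjective' (Ideal.Quotient.mk I) Ideal.Quotient.mk_surjective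
  have hjac : mR ≤ (⊥ : Ideal (MvPowerSeries (Fin 2) R ⧸ I)).jacobson := by
    rw [IsLocalRing.jacobson_eq_maximalIdeal ⊥ bot_ne_top]
    refine Ideal.map_le_iff_le_comap.2 fun a ha hu' => ?_
    exact hnle (Ideal.mem_map_of_mem _ ha) (by simpa using hu'.map ψ)
  have hbot : RingHom.ker ψ = ⊥ := by
    refine Submodule.eq_bot_of_le_smul_of_le_jacobson_bot mR _ (IsNoetherian.noetherian _) ?_ hjac
    exact (le_inf le_rfl hK).trans (NodeLift.inf_map_le_mul ψ hψs (maximalIdeal R))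
  let F := AlgEquiv.ofBijective ψ ⟨(RingHom.injective_iff_ker_eq_bot ψ.toRingHom).2 hbot, hψs⟩
  refine ⟨t, ξ₁, ξ₂, hξ₁, hξ₂, fun h => ?_, F.symm, ?_, ?_⟩
  · have he : ε = -1 := by rw [show ε = -(ξ₂ ^ 2) by simp only [ε, h]; ring, hξ₂]
    have h2t : t + t = 0 := by rw [he, map_neg, map_one] at hεt; linear_combination -hεt
    have hu2 : IsUnit (2 : R) := by
      rw [show (2 : R) = algebraMap k R 2 from (map_ofNat _ 2).symm]; exact (isUnit_iff_ne_zero.mpr h2).map _
    exact hu2.mul_right_eq_zero.mp (by linear_combination h2t)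
  · apply F.injective
    rw [AlgEquiv.apply_symm_apply, AlgEquiv.symm_symm, map_smul, Algebra.smul_def, ← IsScalarTower.algebraMap_apply k R S]
    show σ (φ (MvPowerSeries.X 0)) = ι ξ₂ * φ (MvPowerSeries.X 0)
    rw [hφ0]; exact hXσ
  · apply F.injective
    rw [AlgEquiv.apply_symm_apply, AlgEquiv.symm_symm, map_smul, Algebra.smul_def, ← IsScalarTower.algebraMap_apply k R S]
    show σ (φ (MvPowerSeries.X 1)) = ι ξ₁ * φ (MvPowerSeries.X 1)
    rw [hφ1]; exact hYσ

end Groth.Agent.S14084
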