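import Groth.Statements.S14085
import Groth.Agent.FlatComplex.Homology
-- import your own Groth.Agent.* helpers here

set_option autoImplicit false
universe u
open FlatMor

namespace Groth.Agent.S14085

/-- Let R be a ring, A and B flat R-algebras, I an ideal of A and B → A/I an injective finite flat map
of R-algebras. Then the fibre product ring B ×_{A/I} A, realised as the subalgebra of B × A of pairs
with equal image in A/I, is flat over R. (This is the affine statement behind flatness over the base
of the pushout of a closed immersion along a finite flat morphism.) -/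
theorem result (R A B : Type u) [CommRing R] [CommRing A] [CommRing B]
    [Algebra R A] [Algebra R B] [Module.Flat R A] [Module.Flat R B] (I : Ideal A)
    [Algebra B (A ⧸ I)] [IsScalarTower R B (A ⧸ I)] [Module.Finite B (A ⧸ I)] [Module.Flat B (A ⧸ I)]
    (hinj : Function.Injective (algebraMap B (A ⧸ I))) :
    Module.Flat R ↥(AlgHom.equalizer ((IsScalarTower.toAlgHom R B (A ⧸ I)).comp (AlgHom.fst R B A))
          ((Ideal.Quotient.mkₐ R I).comp (AlgHom.snd R B A))) := by
  haveI : Module.Flat R (A ⧸ I) := Module.Flat.trans R B (A ⧸ I)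
  let φ : (B × A) →ₗ[R] A ⧸ I :=
    (((IsScalarTower.toAlgHom R B (A ⧸ I)).comp (AlgHom.fst R B A)).toLinearMap) -
      ((Ideal.Quotient.mkₐ R I).comp (AlgHom.snd R B A)).toLinearMap
  have hφ : Function.Surjective φ := fun y => by
    obtain ⟨a, rfl⟩ := Ideal.Quotient.mk_surjective y
    exact ⟨(0, -a), by simp [φ]⟩
  haveI : Module.Flat R (LinearMap.ker (LinearMap.snd R B A)) :=
    Module.Flat.of_linearEquiv (M := B)
      ({ toFun := fun (z : LinearMap.ker (LinearMap.snd R B A)) => z.1.1
         invFun := fun b => ⟨(b, 0), rfl⟩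
         map_add' := fun _ _ => rfl
         map_smul' := fun _ _ => rfl
         left_inv := fun z => Subtype.ext (Prod.ext rfl (z.2 : z.1.2 = 0).symm)
         right_inv := fun _ => rfl } : _ ≃ₗ[R] B)
  haveI : Module.Flat R (B × A) := (FlatComplex.flat_ker_iff (LinearMap.snd R B A) (fun a => ⟨(0, a), rfl⟩)).1 inferInstance
  haveI : Module.Flat R (LinearMap.ker φ) := (FlatComplex.flat_ker_iff φ hφ).2 inferInstance
  refine Module.Flat.of_linearEquiv (M := LinearMap.ker φ)
    ({ toFun := fun z => ⟨z.1, show φ z.1 = 0 from sub_eq_zero.2 ((AlgHom.mem_equalizer _ _ _).1 z.2)⟩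
       invFun := fun z => ⟨z.1, (AlgHom.mem_equalizer _ _ _).2 (sub_eq_zero.1 (z.2 : φ z.1 = 0))⟩
       map_add' := fun _ _ => rfl
       map_smul' := fun _ _ => rfl
       left_inv := fun _ => rfl
       right_inv := fun _ => rfl } : _ ≃ₗ[R] _)

end Groth.Agent.S14085
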