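import Groth.Statements.S14086
import Mathlib
-- import your own Groth.Agent.* helpers here

set_option autoImplicit false
universe u
open FlatMor

namespace Groth.Agent.S14086

/-- Let R be a ring, A and B flat R-algebras, I an ideal of A, B → A/I an injective finite flat map of
R-algebras and P = B ×_{A/I} A the fibre product ring (pairs in B × A with equal image in A/I). For
any R-algebra R' the base change R' ⊗_R P maps injectively to R' ⊗_R A, and any b' in R' ⊗_R B and
a' in R' ⊗_R A with the same image in R' ⊗_R (A/I) are the two components of some element of R' ⊗_R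
P; that is, R' ⊗_R P is the fibre product of R' ⊗_R B and R' ⊗_R A over R' ⊗_R (A/I). -/
theorem result (R A B R' : Type u) [CommRing R] [CommRing A]
    [CommRing B] [CommRing R'] [Algebra R A] [Algebra R B] [Algebra R R'] [Module.Flat R A] [Module.Flat R B]
    (I : Ideal A) [Algebra B (A ⧸ I)] [IsScalarTower R B (A ⧸ I)] [Module.Finite B (A ⧸ I)] [Module.Flat B (A ⧸ I)]
    (hinj : Function.Injective (algebraMap B (A ⧸ I))) :
    Function.Injective (Algebra.TensorProduct.map (AlgHom.id R' R')
        ((AlgHom.snd R B A).comp (AlgHom.equalizer ((IsScalarTower.toAlgHom R B (A ⧸ I)).comp (AlgHom.fst R B A))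
          ((Ideal.Quotient.mkₐ R I).comp (AlgHom.snd R B A))).val)) ∧
    ∀ (b : TensorProduct R R' B) (a : TensorProduct R R' A),
      Algebra.TensorProduct.map (AlgHom.id R' R') (IsScalarTower.toAlgHom R B (A ⧸ I)) b =
        Algebra.TensorProduct.map (AlgHom.id R' R') (Ideal.Quotient.mkₐ R I) a →
      ∃ x : TensorProduct R R' ↥(AlgHom.equalizer ((IsScalarTower.toAlgHom R B (A ⧸ I)).comp (AlgHom.fst R B A))
          ((Ideal.Quotient.mkₐ R I).comp (AlgHom.snd R B A))),
        Algebra.TensorProduct.map (AlgHom.id R' R') ((AlgHom.fst R B A).comp (AlgHom.equalizer ((IsScalarTower.toAlgHom R B (A ⧸ I)).comp (AlgHom.fst R B A))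
          ((Ideal.Quotient.mkₐ R I).comp (AlgHom.snd R B A))).val) x = b ∧
        Algebra.TensorProduct.map (AlgHom.id R' R') ((AlgHom.snd R B A).comp (AlgHom.equalizer ((IsScalarTower.toAlgHom R B (A ⧸ I)).comp (AlgHom.fst R B A))
          ((Ideal.Quotient.mkₐ R I).comp (AlgHom.snd R B A))).val) x = a := by
  haveI : Module.Flat R (A ⧸ I) := Module.Flat.trans R B (A ⧸ I)
  let g : B →ₐ[R] A ⧸ I := IsScalarTower.toAlgHom R B (A ⧸ I)
  let q : A →ₐ[R] A ⧸ I := Ideal.Quotient.mkₐ R I
  let P := AlgHom.equalizer (g.comp (AlgHom.fst R B A)) (q.comp (AlgHom.snd R B A))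
  let j : ↥P →ₗ[R] B × A := P.val.toLinearMap
  let d : B × A →ₗ[R] A ⧸ I := (g.comp (AlgHom.fst R B A)).toLinearMap - (q.comp (AlgHom.snd R B A)).toLinearMap
  have hd : Function.Surjective d := fun c => by
    obtain ⟨a, rfl⟩ := Ideal.Quotient.mk_surjective c
    exact ⟨(0, -a), by simp [d, g, q]⟩
  have hex : Function.Exact j d := fun z => by
    constructor
    · intro hz
      exact ⟨⟨z, sub_eq_zero.1 hz⟩, rfl⟩
    · rintro ⟨z, rfl⟩
      exact sub_eq_zero.2 z.2
  have hj : Function.Injective (j.lTensor R') :=
    LinearMap.lTensor_injective_of_exact_of_flat d hd j Subtype.val_injective hex R'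
  haveI : FaithfulSMul B (A ⧸ I) := (faithfulSMul_iff_algebraMap_injective B (A ⧸ I)).mpr hinj
  haveI : Algebra.IsIntegral B (A ⧸ I) := Algebra.IsIntegral.of_finite B (A ⧸ I)
  haveI : Module.FaithfullyFlat B (A ⧸ I) :=
    Module.FaithfullyFlat.of_comap_surjective (Algebra.IsIntegral.comap_surjective B (A ⧸ I))
  have hg : Function.Injective (g.toLinearMap.lTensor R') := by
    have h1 := Module.FaithfullyFlat.tensorProduct_mk_injective (A := B) (B := A ⧸ I) (TensorProduct R B R')
    let e := TensorProduct.AlgebraTensorModule.cancelBaseChange R B (A ⧸ I) (A ⧸ I) R'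
    have h2 : ∀ z, TensorProduct.comm R _ _ (g.toLinearMap.lTensor R' z) =
        e (TensorProduct.mk B (A ⧸ I) (TensorProduct R B R') 1 (TensorProduct.comm R R' B z)) := fun z => by
      induction z with
      | zero => simp
      | add x y hx hy => simp only [map_add, hx, hy]
      | tmul r b => simp [e, g, Algebra.smul_def]
    intro x y hxy
    apply (TensorProduct.comm R R' B).injective
    apply h1
    apply e.injective
    rw [← h2, ← h2, hxy]
  let π₁ := ((AlgHom.fst R B A).toLinearMap).lTensor R'
  let π₂ := ((AlgHom.snd R B A).toLinearMap).lTensor R'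
  let E := TensorProduct.prodRight R R R' B A
  have hE₁ : ∀ w, (E w).1 = π₁ w := fun w => by
    induction w with
    | zero => simp
    | add x y hx hy => simp only [map_add, Prod.fst_add, hx, hy]
    | tmul r m => rfl
  have hE₂ : ∀ w, (E w).2 = π₂ w := fun w => by
    induction w with
    | zero => simp
    | add x y hx hy => simp only [map_add, Prod.snd_add, hx, hy]
    | tmul r m => rfl
  have hdl : ∀ w, d.lTensor R' w = g.toLinearMap.lTensor R' (π₁ w) - q.toLinearMap.lTensor R' (π₂ w) := fun w => by
    induction w with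
    | zero => simp
    | add x y hx hy => simp only [map_add, hx, hy]; abel
    | tmul r m => simp [π₁, π₂, d, TensorProduct.tmul_sub]
  have hex' := lTensor_exact R' hex hd
  have m₁ : ∀ z, Algebra.TensorProduct.map (AlgHom.id R' R') ((AlgHom.fst R B A).comp P.val) z = π₁ (j.lTensor R' z) := fun z => by
    induction z with
    | zero => simp
    | add x y hx hy => simp only [map_add, hx, hy]
    | tmul r m => rfl
  have m₂ : ∀ z, Algebra.TensorProduct.map (AlgHom.id R' R') ((AlgHom.snd R B A).comp P.val) z = π₂ (j.lTensor R' z) := fun z => by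
    induction z with
    | zero => simp
    | add x y hx hy => simp only [map_add, hx, hy]
    | tmul r m => rfl
  have mg : ∀ b, Algebra.TensorProduct.map (AlgHom.id R' R') g b = g.toLinearMap.lTensor R' b := fun z => by
    induction z with
    | zero => simp
    | add x y hx hy => simp only [map_add, hx, hy]
    | tmul r m => rfl
  have mq : ∀ a, Algebra.TensorProduct.map (AlgHom.id R' R') q a = q.toLinearMap.lTensor R' a := fun z => by
    induction z with
    | zero => simp
    | add x y hx hy => simp only [map_add, hx, hy]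
    | tmul r m => rfl
  refine ⟨?_, fun b a hba => ?_⟩
  · intro x y hxy
    have h2 : π₂ (j.lTensor R' x) = π₂ (j.lTensor R' y) := (m₂ x).symm.trans (hxy.trans (m₂ y))
    have key : ∀ z, d.lTensor R' (j.lTensor R' z) = 0 := fun z => (hex' _).2 ⟨z, rfl⟩
    have h1 : π₁ (j.lTensor R' x) = π₁ (j.lTensor R' y) := hg (by
      have hx := key x
      have hy := key y
      rw [hdl, sub_eq_zero] at hx hy
      rw [hx, hy, h2])
    apply hj
    apply E.injective
    exact Prod.ext (by rw [hE₁, hE₁, h1]) (by rw [hE₂, hE₂, h2])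
  · have hz : d.lTensor R' (E.symm (b, a)) = 0 := by
      rw [hdl, ← hE₁, ← hE₂, LinearEquiv.apply_symm_apply, sub_eq_zero, ← mg, ← mq]
      exact hba
    obtain ⟨x, hx⟩ := (hex' _).1 hz
    refine ⟨x, (m₁ x).trans ?_, (m₂ x).trans ?_⟩
    · rw [hx, ← hE₁, LinearEquiv.apply_symm_apply]
    · rw [hx, ← hE₂, LinearEquiv.apply_symm_apply]

end Groth.Agent.S14086
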