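import Groth.Statements.S14091
import Mathlib

set_option autoImplicit false
universe u
open ArSing

namespace Groth.Agent.S14091

open Polynomial in
theorem of_principal (k B : Type u) [Field k] [IsAlgClosed k] [CommRing B] [IsLocalRing B] [Algebra k B]
    [Module.Finite k B] (t : B) (ht : IsLocalRing.maximalIdeal B = Ideal.span {t}) :
    Nonempty (B ≃ₐ[k] (Polynomial k ⧸ Ideal.span {(X : Polynomial k) ^ Module.finrank k B})) := by
  haveI : IsArtinianRing B := IsArtinianRing.of_finite k B
  have hres : Function.Surjective (algebraMap k (IsLocalRing.ResidueField B)) :=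
    (IsAlgClosed.algebraMap_bijective_of_isIntegral).2
  obtain ⟨N, hN⟩ : IsNilpotent t := by
    obtain ⟨N, hN⟩ := IsArtinianRing.isNilpotent_jacobson_bot (R := B)
    refine ⟨N, ?_⟩
    rw [IsLocalRing.jacobson_eq_maximalIdeal ⊥ bot_ne_top, ht, Ideal.span_singleton_pow] at hN
    exact Ideal.span_singleton_eq_bot.1 hN
  let φ : Polynomial k →ₐ[k] B := aeval t
  have key : ∀ (i : ℕ) (b : B), ∃ q, b - φ q ∈ Ideal.span {t ^ i} := by
    intro i
    induction i with
    | zero => exact fun b => ⟨0, by simp⟩
    | succ i ih =>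
      intro b
      obtain ⟨q, hq⟩ := ih b
      obtain ⟨c, hc⟩ := Ideal.mem_span_singleton'.1 hq
      obtain ⟨a, ha⟩ := hres (IsLocalRing.residue B c)
      have hm : c - algebraMap k B a ∈ IsLocalRing.maximalIdeal B := by
        rw [← IsLocalRing.residue_eq_zero_iff, map_sub, ← ha,
          IsScalarTower.algebraMap_apply k B (IsLocalRing.ResidueField B)]
        exact sub_self _
      rw [ht, Ideal.mem_span_singleton'] at hm
      obtain ⟨d, hd⟩ := hm
      refine ⟨q + C a * X ^ i, Ideal.mem_span_singleton'.2 ⟨d, ?_⟩⟩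
      simp only [φ, map_add, map_mul, map_pow, aeval_C, aeval_X] at hc ⊢
      linear_combination t ^ i * hd + hc
  have hsurj : Function.Surjective φ := fun b => by
    obtain ⟨q, hq⟩ := key N b
    rw [hN, Ideal.span_singleton_zero, Ideal.mem_bot, sub_eq_zero] at hq
    exact ⟨q, hq.symm⟩
  obtain ⟨g, hg⟩ : ∃ g, RingHom.ker φ = Ideal.span {g} := ⟨_, (Ideal.span_singleton_generator _).symm⟩
  have hX : (X : Polynomial k) ^ N ∈ RingHom.ker φ := by rw [RingHom.mem_ker]; simp [φ, hN]
  rw [hg, Ideal.mem_span_singleton] at hX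
  obtain ⟨e, -, he⟩ := (dvd_prime_pow Polynomial.prime_X N).1 hX
  have hker : RingHom.ker φ = Ideal.span {(X : Polynomial k) ^ e} := by
    rw [hg, Ideal.span_singleton_eq_span_singleton]; exact he
  let E : (Polynomial k ⧸ Ideal.span {(X : Polynomial k) ^ e}) ≃ₐ[k] B :=
    (Ideal.quotientEquivAlgOfEq k hker.symm).trans (Ideal.quotientKerAlgEquivOfSurjective hsurj)
  have he' : Module.finrank k B = e := by
    rw [← E.toLinearEquiv.finrank_eq, finrank_quotient_span_eq_natDegree, natDegree_pow, natDegree_X, mul_one]
  rw [he']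
  exact ⟨E.symm⟩

open Polynomial in
/-- Over an algebraically closed field k, a finite local k-algebra B whose cotangent space m/m^2 has
dimension at most one over the residue field is isomorphic, as a k-algebra, to k[t]/(t^n) with n =
dim_k B (curvilinear pointed algebras of degree n have a single isomorphism class). -/
theorem result (k B : Type u) [Field k] [IsAlgClosed k]
    [CommRing B] [IsLocalRing B] [Algebra k B] [Module.Finite k B]
    (hcurv : Module.finrank (IsLocalRing.ResidueField B) (IsLocalRing.CotangentSpace B) ≤ 1) :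
    Nonempty (B ≃ₐ[k] (Polynomial k ⧸ Ideal.span {(X : Polynomial k) ^ Module.finrank k B})) := by
  haveI : IsArtinianRing B := IsArtinianRing.of_finite k B
  obtain ⟨t, ht⟩ := (IsLocalRing.finrank_cotangentSpace_le_one_iff (R := B)).1 hcurv
  exact of_principal k B t ht

end Groth.Agent.S14091
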