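import Groth.Statements.S14087
import Mathlib
import Groth.Agent.S14091

set_option autoImplicit false
universe u
open ArSing

namespace Groth.Agent.S14087

open Polynomial in
/-- Over an algebraically closed field k, if B = k[t]/(t^n) with n ≥ 1 is flat over a k-subalgebra A ⊆ B
(a finite flat extension of pointed finite algebras with curvilinear top), then A is curvilinear
too: A is isomorphic as a k-algebra to k[t]/(t^m) for some m. -/
theorem result (k : Type u) [Field k] [IsAlgClosed k]
    (n : ℕ) (hn : 0 < n)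
    (A : Subalgebra k (Polynomial k ⧸ Ideal.span {(X : Polynomial k) ^ n}))
    [Module.Flat A (Polynomial k ⧸ Ideal.span {(X : Polynomial k) ^ n})] :
    ∃ m : ℕ, Nonempty (A ≃ₐ[k] (Polynomial k ⧸ Ideal.span {(X : Polynomial k) ^ m})) := by
  classical
  let T : Polynomial k ⧸ Ideal.span {(X : Polynomial k) ^ n} := Ideal.Quotient.mk (Ideal.span {(X : Polynomial k) ^ n}) X
  have hT : T ^ n = 0 := by
    rw [← map_pow, Ideal.Quotient.eq_zero_iff_mem]; exact Ideal.mem_span_singleton_self _
  haveI : Module.Finite k (Polynomial k ⧸ Ideal.span {(X : Polynomial k) ^ n}) :=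
    Module.Finite.of_basis (AdjoinRoot.powerBasis' (monic_X_pow n)).basis
  haveI : Nontrivial (Polynomial k ⧸ Ideal.span {(X : Polynomial k) ^ n}) := Ideal.Quotient.nontrivial_iff.2 (by
    rw [Ne, Ideal.span_singleton_eq_top, isUnit_pow_iff hn.ne']
    exact Polynomial.not_isUnit_X)
  have hdec : ∀ b : Polynomial k ⧸ Ideal.span {(X : Polynomial k) ^ n}, ∃ (c : k) (q : Polynomial k ⧸ Ideal.span {(X : Polynomial k) ^ n}), b = algebraMap k _ c + T * q := by
    intro b
    obtain ⟨q, rfl⟩ := Ideal.Quotient.mk_surjective b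
    refine ⟨q.coeff 0, Ideal.Quotient.mk (Ideal.span {(X : Polynomial k) ^ n}) q.divX, ?_⟩
    conv_lhs => rw [← Polynomial.X_mul_divX_add q]
    rw [map_add, map_mul, add_comm]
    rfl
  have hunit : ∀ b : Polynomial k ⧸ Ideal.span {(X : Polynomial k) ^ n}, IsUnit b ∨ b ∈ Ideal.span {T} := by
    intro b
    obtain ⟨c, q, rfl⟩ := hdec b
    by_cases hc : c = 0
    · exact Or.inr (by rw [hc, map_zero, zero_add]; exact Ideal.mem_span_singleton'.2 ⟨q, mul_comm _ _⟩)
    · refine Or.inl ?_
      rw [add_comm]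
      refine IsNilpotent.isUnit_add_right_of_commute ?_ ((Ne.isUnit hc).map _) (Commute.all _ _)
      exact (Commute.all T q).isNilpotent_mul_right ⟨n, hT⟩
  haveI : IsLocalRing (Polynomial k ⧸ Ideal.span {(X : Polynomial k) ^ n}) := IsLocalRing.of_nonunits_add (by
    intro a b ha hb
    have hnu : ∀ x ∈ Ideal.span {T}, ¬ IsUnit x := fun x hx hu => by
      obtain ⟨q, rfl⟩ := Ideal.mem_span_singleton'.1 hx
      exact ((Commute.all q T).isNilpotent_mul_left ⟨n, hT⟩).not_isUnit hu
    exact hnu _ (add_mem ((hunit a).resolve_left ha) ((hunit b).resolve_left hb)))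
  haveI : IsArtinianRing A := IsArtinianRing.of_finite k A
  haveI : IsLocalRing A := IsLocalRing.of_isUnit_or_isUnit_one_sub_self fun a => by
    have hsub : ∀ x : A, IsUnit (x : Polynomial k ⧸ Ideal.span {(X : Polynomial k) ^ n}) → IsUnit x := fun x hx => by
      by_contra hu
      obtain ⟨y, hy, hxy⟩ : ∃ y : A, y ≠ 0 ∧ x * y = 0 := by
        by_contra hne
        push Not at hne
        exact hu (IsArtinianRing.isUnit_iff_mem_nonZeroDivisors.2 (mem_nonZeroDivisors_iff_right.2 fun z hz => by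
          by_contra hz0
          exact hne z hz0 (by rw [mul_comm]; exact hz)))
      exact hy (Subtype.ext ((hx.mul_right_eq_zero).1 (congrArg Subtype.val hxy)))
    rcases IsLocalRing.isUnit_or_isUnit_one_sub_self (a : Polynomial k ⧸ Ideal.span {(X : Polynomial k) ^ n}) with h | h
    · exact Or.inl (hsub a h)
    · exact Or.inr (hsub (1 - a) h)
  haveI : IsLocalHom (algebraMap A (Polynomial k ⧸ Ideal.span {(X : Polynomial k) ^ n})) := ⟨fun x hx => by
    by_contra hu
    obtain ⟨y, hy, hxy⟩ : ∃ y : A, y ≠ 0 ∧ x * y = 0 := by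
      by_contra hne
      push Not at hne
      exact hu (IsArtinianRing.isUnit_iff_mem_nonZeroDivisors.2 (mem_nonZeroDivisors_iff_right.2 fun z hz => by
        by_contra hz0
        exact hne z hz0 (by rw [mul_comm]; exact hz)))
    have hx' : IsUnit (x : Polynomial k ⧸ Ideal.span {(X : Polynomial k) ^ n}) := hx
    exact hy (Subtype.ext ((hx'.mul_right_eq_zero).1 (congrArg Subtype.val hxy)))⟩
  haveI : Module.FaithfullyFlat A (Polynomial k ⧸ Ideal.span {(X : Polynomial k) ^ n}) :=
    @Module.FaithfullyFlat.of_flat_of_isLocalHom A (Polynomial k ⧸ Ideal.span {(X : Polynomial k) ^ n}) _ _ _ _ _ ‹Module.Flat A (Polynomial k ⧸ Ideal.span {(X : Polynomial k) ^ n})› _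
  obtain ⟨a, ha⟩ : ∃ a : A, IsLocalRing.maximalIdeal A = Ideal.span {a} := by
    set J := (IsLocalRing.maximalIdeal A).map (algebraMap A (Polynomial k ⧸ Ideal.span {(X : Polynomial k) ^ n})) with hJ
    have h1 : ∀ i : ℕ, (∀ x ∈ IsLocalRing.maximalIdeal A, (x : Polynomial k ⧸ Ideal.span {(X : Polynomial k) ^ n}) ∈ Ideal.span {T ^ i}) ∧
        ¬ (∀ x ∈ IsLocalRing.maximalIdeal A, (x : Polynomial k ⧸ Ideal.span {(X : Polynomial k) ^ n}) ∈ Ideal.span {T ^ (i + 1)}) →
        ∃ a ∈ IsLocalRing.maximalIdeal A, J = Ideal.span {(a : Polynomial k ⧸ Ideal.span {(X : Polynomial k) ^ n})} := by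
      rintro i ⟨hi, hi'⟩
      push Not at hi'
      obtain ⟨a, ha, ha'⟩ := hi'
      obtain ⟨q, hq⟩ := Ideal.mem_span_singleton'.1 (hi a ha)
      have hu : IsUnit q := (hunit q).resolve_right fun h => ha' (by
        obtain ⟨r, rfl⟩ := Ideal.mem_span_singleton'.1 h
        exact Ideal.mem_span_singleton'.2 ⟨r, by rw [← hq]; ring⟩)
      refine ⟨a, ha, le_antisymm (Ideal.map_le_iff_le_comap.2 fun x hx => ?_)
        ((Ideal.span_singleton_le_iff_mem _).2 (Ideal.mem_map_of_mem _ ha))⟩
      show (x : Polynomial k ⧸ Ideal.span {(X : Polynomial k) ^ n}) ∈ Ideal.span {(a : Polynomial k ⧸ Ideal.span {(X : Polynomial k) ^ n})}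
      rw [← hq, Ideal.span_singleton_mul_left_unit hu]
      exact hi x hx
    have h2 : ∃ a ∈ IsLocalRing.maximalIdeal A, J = Ideal.span {(a : Polynomial k ⧸ Ideal.span {(X : Polynomial k) ^ n})} := by
      by_contra hne
      have hall : ∀ i : ℕ, ∀ x ∈ IsLocalRing.maximalIdeal A, (x : Polynomial k ⧸ Ideal.span {(X : Polynomial k) ^ n}) ∈ Ideal.span {T ^ i} := by
        intro i
        induction i with
        | zero => intro x _; simp
        | succ i ih =>
          by_contra h
          exact hne (h1 i ⟨ih, h⟩)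
      refine hne ⟨0, zero_mem _, le_antisymm (Ideal.map_le_iff_le_comap.2 fun x hx => ?_) (by simp)⟩
      show (x : Polynomial k ⧸ Ideal.span {(X : Polynomial k) ^ n}) ∈ Ideal.span {((0 : A) : Polynomial k ⧸ Ideal.span {(X : Polynomial k) ^ n})}
      have h3 := hall n x hx
      rw [hT] at h3
      simpa using h3
    obtain ⟨a, -, hJa⟩ := h2
    refine ⟨a, ?_⟩
    rw [← Ideal.comap_map_eq_self_of_faithfullyFlat (B := Polynomial k ⧸ Ideal.span {(X : Polynomial k) ^ n}) (IsLocalRing.maximalIdeal A), ← hJ, hJa,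
      ← Ideal.comap_map_eq_self_of_faithfullyFlat (B := Polynomial k ⧸ Ideal.span {(X : Polynomial k) ^ n}) (Ideal.span {a}), Ideal.map_span,
      Set.image_singleton]
    rfl
  exact ⟨_, Groth.Agent.S14091.of_principal k A a ha⟩

end Groth.Agent.S14087
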