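import Groth.Statements.S14088
import Mathlib

set_option autoImplicit false
universe u
open ArSing

namespace Groth.Agent.S14088

/-- The identity behind the torus-equivariant classes h_i = h_0 + i τ of the coordinate hyperplanes of a
projective space of binary forms, stated in an arbitrary commutative ring: for n ≤ m, (h_0 ⋯
h_(n-1))^2 · h_n ⋯ h_(m-1) equals the sum over s = 0, …, n of (-1)^s s! (n choose s) (m choose s)
τ^s h_0 ⋯ h_(m+n-s-1), where h_i = h + i τ. (The published statement is in the equivariant Chow ring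
of that projective space; only the relations h_i = h_j + (j - i) τ are used, so it holds in any
commutative ring.) -/
theorem result (A : Type u) [CommRing A] (h τ : A) (n m : ℕ) (hnm : n ≤ m) :
    (∏ i ∈ Finset.range n, (h + (i : A) * τ) ^ 2) * ∏ i ∈ Finset.Ico n m, (h + (i : A) * τ) =
      ∑ s ∈ Finset.range (n + 1), (-1 : A) ^ s * (Nat.factorial s : A) * (Nat.choose n s : A) *
        (Nat.choose m s : A) * τ ^ s * ∏ i ∈ Finset.range (m + n - s), (h + (i : A) * τ) := by
  let P : ℕ → A := fun r => ∏ i ∈ Finset.range r, (h + (i : A) * τ)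
  have hLHS : (∏ i ∈ Finset.range n, (h + (i : A) * τ) ^ 2) * ∏ i ∈ Finset.Ico n m, (h + (i : A) * τ) = P n * P m := by
    simp only [P]
    rw [Finset.prod_pow, sq, mul_assoc, Finset.prod_range_mul_prod_Ico _ hnm]
  rw [hLHS]
  clear hLHS hnm
  have hch : ∀ s : ℕ, ((m : A) - (s : A)) * (Nat.choose m s : A) = ((s : A) + 1) * (Nat.choose m (s + 1) : A) := by
    intro s
    rcases le_or_gt s m with hs | hs
    · rw [← Nat.cast_sub hs, ← Nat.cast_mul, mul_comm, ← Nat.choose_succ_right_eq, Nat.cast_mul]
      push_cast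
      ring
    · rw [Nat.choose_eq_zero_of_lt hs, Nat.choose_eq_zero_of_lt (by omega)]
      simp
  show P n * P m = ∑ s ∈ Finset.range (n + 1), (-1 : A) ^ s * (Nat.factorial s : A) * (Nat.choose n s : A) *
        (Nat.choose m s : A) * τ ^ s * P (m + n - s)
  induction n with
  | zero => simp [P]
  | succ n ih =>
    let c : ℕ → ℕ → A := fun N s => (-1 : A) ^ s * (Nat.factorial s : A) * (Nat.choose N s : A) * (Nat.choose m s : A)
    change P (n + 1) * P m = ∑ s ∈ Finset.range (n + 1 + 1), c (n + 1) s * τ ^ s * P (m + (n + 1) - s)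
    change P n * P m = ∑ s ∈ Finset.range (n + 1), c n s * τ ^ s * P (m + n - s) at ih
    have hP : P (n + 1) = P n * (h + (n : A) * τ) := Finset.prod_range_succ _ _
    have step : ∀ s ∈ Finset.range (n + 1), (h + (n : A) * τ) * (c n s * τ ^ s * P (m + n - s)) =
        c n s * τ ^ s * P (m + (n + 1) - s) + (c (n + 1) (s + 1) - c n (s + 1)) * τ ^ (s + 1) * P (m + (n + 1) - (s + 1)) := by
      intro s hs
      rw [Finset.mem_range] at hs
      have h1 : m + (n + 1) - s = (m + n - s) + 1 := by omega
      have h2 : m + (n + 1) - (s + 1) = m + n - s := by omega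
      have hP' : P (m + n - s + 1) = P (m + n - s) * (h + ((m + n - s : ℕ) : A) * τ) := Finset.prod_range_succ _ _
      rw [h1, h2, hP', Nat.cast_sub (by omega : s ≤ m + n), Nat.cast_add]
      simp only [c, Nat.choose_succ_succ, Nat.factorial_succ]
      push_cast
      linear_combination -((-1 : A) ^ s * (Nat.factorial s : A) * (Nat.choose n s : A) * τ ^ (s + 1) * P (m + n - s)) * (hch s)
    rw [hP, mul_comm (P n) (h + (n : A) * τ), mul_assoc, ih, Finset.mul_sum, Finset.sum_congr rfl step,
      Finset.sum_add_distrib]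
    have key : ∑ s ∈ Finset.range (n + 1), c n s * τ ^ s * P (m + (n + 1) - s) =
        ∑ s ∈ Finset.range (n + 1 + 1), c n s * τ ^ s * P (m + (n + 1) - s) := by
      rw [Finset.sum_range_succ (n := n + 1)]
      simp [c]
    have h0 : c (n + 1) 0 = c n 0 := by simp [c]
    rw [key, Finset.sum_range_succ' _ (n + 1), Finset.sum_range_succ' _ (n + 1), h0, add_right_comm, ← Finset.sum_add_distrib]
    congr 1
    exact Finset.sum_congr rfl fun s _ => by ring

end Groth.Agent.S14088
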