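import Groth.Statements.S1409
import Mathlib.RingTheory.Ideal.GoingDown
import Mathlib.RingTheory.Flat.FaithfullyFlat.Algebra

set_option autoImplicit false
universe u
open FlatMor

namespace Groth.Agent.S1409

/-- Let (R_i) be a directed system of commutative rings whose transition maps are faithfully flat, with
colimit R. Then, counting in the extended natural numbers, the minimal primes of R are exactly as
numerous as the supremum over i of the count of minimal primes of R_i. -/
theorem result {ι : Type u} [Preorder ι] [IsDirected ι (· ≤ ·)] [Nonempty ι] (G : ι → Type u) [∀ i, CommRing (G i)]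
    (f : ∀ i j, i ≤ j → G i →+* G j) [DirectedSystem G fun i j h => f i j h]
    (hf : ∀ i j (h : i ≤ j), letI := (f i j h).toAlgebra
      Module.FaithfullyFlat (G i) (G j)) :
    (minimalPrimes (Ring.DirectLimit G fun i j h => ⇑(f i j h))).encard = ⨆ i, (minimalPrimes (G i)).encard := by
  classical
  let f' : ∀ i j, i ≤ j → G i → G j := fun i j h => f i j h
  let ρ : ∀ i, G i →+* Ring.DirectLimit G f' := fun i => Ring.DirectLimit.of G f' i
  have hρf : ∀ i j (h : i ≤ j) (x : G i), ρ j (f i j h x) = ρ i x := fun i j h x =>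
    Ring.DirectLimit.of_f (f := f') h x
  have hinj : ∀ i j (h : i ≤ j), Function.Injective (f i j h) := fun i j h => by
    algebraize [f i j h]
    have := hf i j h
    exact FaithfulSMul.algebraMap_injective (G i) (G j)
  have hρinj : ∀ i, Function.Injective (ρ i) := fun i => Ring.DirectLimit.of_injective _ hinj i
  -- contraction of a minimal prime is minimal
  have hmin : ∀ Q ∈ minimalPrimes (Ring.DirectLimit G f'), ∀ i,
      Ideal.comap (ρ i) Q ∈ minimalPrimes (G i) := by
    intro Q hQ i
    haveI := hQ.1.1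
    refine ⟨⟨inferInstance, bot_le⟩, ?_⟩
    intro p hp hpQ a ha
    haveI := hp.1
    by_contra hap
    -- locally nilpotent at a minimal prime
    obtain ⟨s, hs, n, hn⟩ : ∃ s, s ∉ Q ∧ ∃ n : ℕ, s * (ρ i a) ^ n = 0 := by
      by_contra hne
      push Not at hne
      have hd : Disjoint ((⊥ : Ideal (Ring.DirectLimit G f')) : Set (Ring.DirectLimit G f'))
          (Q.primeCompl ⊔ Submonoid.powers (ρ i a) : Submonoid (Ring.DirectLimit G f')) := by
        rw [Set.disjoint_left]
        intro x hx hx'
        rw [SetLike.mem_coe, Submonoid.mem_sup] at hx'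
        obtain ⟨s, hs, _, ⟨n, rfl⟩, hsn⟩ := hx'
        exact hne s hs n (hsn.trans hx)
      obtain ⟨P, hP, -, hPd⟩ := Ideal.exists_le_prime_disjoint _ _ hd
      have hPQ : P ≤ Q := by
        intro x hx
        by_contra hxQ
        exact Set.disjoint_left.mp hPd hx (Submonoid.mem_sup_left (show x ∈ Q.primeCompl from hxQ))
      exact Set.disjoint_left.mp hPd (hQ.2 ⟨hP, bot_le⟩ hPQ ha)
        (Submonoid.mem_sup_right (Submonoid.mem_powers _))
    obtain ⟨j₀, t, ht⟩ := Ring.DirectLimit.exists_of s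
    obtain ⟨j, hij, hj₀⟩ := directed_of (· ≤ ·) i j₀
    have ht' : ρ j (f j₀ j hj₀ t) = s := (hρf _ _ _ _).trans ht
    have e : f j₀ j hj₀ t * (f i j hij a) ^ n = 0 := by
      apply hρinj j
      rw [map_mul, map_pow, ht', hρf, map_zero, hn]
    algebraize [f i j hij]
    have := hf i j hij
    have := Algebra.HasGoingDown.of_flat (R := G i) (S := G j)
    haveI : (Ideal.comap (ρ j) Q).LiesOver (Ideal.comap (ρ i) Q) := ⟨by
      ext x
      simp [Ideal.under_def, RingHom.algebraMap_toAlgebra, hρf]⟩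
    obtain ⟨P, hPle, hP, hPover⟩ := (Ideal.comap (ρ j) Q).exists_ideal_le_liesOver_of_le
      (p := p) (q := Ideal.comap (ρ i) Q) hpQ
    have h0 : f j₀ j hj₀ t * (f i j hij a) ^ n ∈ P := by rw [e]; exact P.zero_mem
    rcases hP.mem_or_mem h0 with h | h
    · exact hs (ht' ▸ hPle h)
    · refine hap ?_
      rw [hPover.over]
      exact hP.mem_of_pow_mem n h
  -- every minimal prime below is hit
  have hsurj : ∀ i, ∀ p ∈ minimalPrimes (G i), ∃ Q ∈ minimalPrimes (Ring.DirectLimit G f'),
      Ideal.comap (ρ i) Q = p := by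
    intro i p hp
    haveI := hp.1.1
    have hd : Disjoint ((⊥ : Ideal (Ring.DirectLimit G f')) : Set (Ring.DirectLimit G f'))
        (p.primeCompl.map (ρ i) : Set (Ring.DirectLimit G f')) := by
      rw [Set.disjoint_left]
      rintro x hx ⟨y, hy, rfl⟩
      have h0 : ρ i y = 0 := hx
      exact hy (by rw [hρinj i (h0.trans (map_zero _).symm)]; exact p.zero_mem)
    obtain ⟨Q₁, hQ₁, -, hQ₁d⟩ := Ideal.exists_le_prime_disjoint _ _ hd
    obtain ⟨Q, hQ, hQle⟩ := Ideal.exists_minimalPrimes_le (I := ⊥) (J := Q₁) bot_le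
    refine ⟨Q, hQ, ?_⟩
    haveI := hQ.1.1
    have hle : Ideal.comap (ρ i) Q ≤ p := by
      intro x hx
      by_contra hxp
      exact Set.disjoint_left.mp hQ₁d (hQle hx) ⟨x, hxp, rfl⟩
    exact le_antisymm hle (hp.2 ⟨inferInstance, bot_le⟩ hle)
  change (minimalPrimes (Ring.DirectLimit G f')).encard = _
  apply le_antisymm
  · by_contra hlt
    rw [not_le] at hlt
    obtain ⟨N, hN⟩ := ENat.ne_top_iff_exists.mp hlt.ne_top
    obtain ⟨T, hTs, hTc⟩ := Set.exists_subset_encard_eq
      (show ((N + 1 : ℕ) : ℕ∞) ≤ (minimalPrimes (Ring.DirectLimit G f')).encard by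
        rw [Nat.cast_add, Nat.cast_one, hN]; exact Order.add_one_le_of_lt hlt)
    have hTfin : T.Finite := Set.finite_of_encard_eq_coe hTc
    -- separate the finitely many primes at one stage
    have hsep : ∀ q : Ideal (Ring.DirectLimit G f') × Ideal (Ring.DirectLimit G f'), ∃ k : ι,
        ∀ k', k ≤ k' → Ideal.comap (ρ k') q.1 = Ideal.comap (ρ k') q.2 → q.1 ≤ q.2 := by
      rintro ⟨Q, Q'⟩
      by_cases hle : Q ≤ Q'
      · exact ⟨Classical.arbitrary ι, fun _ _ _ => hle⟩
      · obtain ⟨x, hxQ, hxQ'⟩ := Set.not_subset.mp hle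
        obtain ⟨k, y, hy⟩ := Ring.DirectLimit.exists_of x
        refine ⟨k, fun k' hk he => ?_⟩
        exfalso
        apply hxQ'
        have h1 : f k k' hk y ∈ Ideal.comap (ρ k') Q := by
          show ρ k' _ ∈ Q
          rw [hρf]; exact hy ▸ hxQ
        rw [he] at h1
        have h2 : ρ k' (f k k' hk y) ∈ Q' := h1
        rw [hρf] at h2
        exact hy ▸ h2
    choose k hk using hsep
    obtain ⟨i, hi⟩ := Finset.exists_le ((hTfin.toFinset ×ˢ hTfin.toFinset).image k)
    have hinjOn : Set.InjOn (fun Q => Ideal.comap (ρ i) Q) T := by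
      intro Q hQ Q' hQ' he
      have h₁ := hk (Q, Q') i (hi _ (Finset.mem_image_of_mem _ (by simp [hQ, hQ']))) he
      have h₂ := hk (Q', Q) i (hi _ (Finset.mem_image_of_mem _ (by simp [hQ, hQ']))) he.symm
      exact le_antisymm h₁ h₂
    have h3 : ((N + 1 : ℕ) : ℕ∞) ≤ (N : ℕ∞) := by
      rw [← hTc, ← hinjOn.encard_image, hN]
      refine le_trans (Set.encard_le_encard ?_) (le_iSup (fun i => (minimalPrimes (G i)).encard) i)
      rintro _ ⟨Q, hQ, rfl⟩
      exact hmin Q (hTs hQ) i
    exact absurd (by exact_mod_cast h3 : N + 1 ≤ N) (by omega)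
  · refine iSup_le fun i => ?_
    calc (minimalPrimes (G i)).encard
        ≤ ((fun Q => Ideal.comap (ρ i) Q) '' minimalPrimes (Ring.DirectLimit G f')).encard := by
          refine Set.encard_le_encard fun p hp => ?_
          obtain ⟨Q, hQ, e⟩ := hsurj i p hp
          exact ⟨Q, hQ, e⟩
      _ ≤ _ := Set.encard_image_le _ _

end Groth.Agent.S1409
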