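import Groth.Statements.S14090
import Groth.Agent.BlowExist.Main
-- import your own Groth.Agent.* helpers here

set_option autoImplicit false
universe u
open CategoryTheory AlgebraicGeometry
open BlowUp

namespace Groth.Agent.S14090

/-- Let A → B be an injective ring homomorphism and I an ideal of A such that the ideal I·B of B is
contained in the image of I (so I is an ideal of B as well) and I·B is generated by one
nonzerodivisor of B (I is free of rank one over B). Then Spec B → Spec A is a blowing up of Spec A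
in I. (This is the affine statement behind recovering a pair (X̃, D̃), D̃ an effective Cartier
divisor finite flat over D, as the blow-up of the pushout X̃ ⨿_D̃ D along D.) -/
theorem result (A B : Type u) [CommRing A] [CommRing B] [Algebra A B]
    (hinj : Function.Injective (algebraMap A B)) (I : Ideal A)
    (hIB : (Ideal.map (algebraMap A B) I : Set B) ⊆ algebraMap A B '' (I : Set A))
    (f : B) (hf : f ∈ nonZeroDivisors B) (hgen : Ideal.map (algebraMap A B) I = Ideal.span {f}) :
    BlowUp.IsBlowUp (Spec.map (CommRingCat.ofHom (algebraMap A B))) (Curv2.idealSheaf A I) := by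
  obtain ⟨a₀, ha₀, hfa⟩ : ∃ a ∈ I, algebraMap A B a = f :=
    hIB (hgen ▸ Ideal.mem_span_singleton_self f)
  have hdvd : ∀ x ∈ I, algebraMap A B a₀ ∣ algebraMap A B x := fun x hx =>
    hfa.symm ▸ Ideal.mem_span_singleton.1 (hgen ▸ Ideal.mem_map_of_mem _ hx)
  have hA : BlowExist.Admits I {a₀} (algebraMap A B) := by
    intro s hs; obtain rfl := Finset.mem_singleton.1 hs
    exact ⟨hfa.symm ▸ hf, hdvd⟩
  have hsq : ∀ s ∈ I, ∃ j ∈ I, s * s = a₀ * j := by
    intro s hs
    obtain ⟨c, hc⟩ := hdvd s hs
    obtain ⟨j, hj, hjc⟩ : algebraMap A B s * c ∈ algebraMap A B '' (I : Set A) :=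
      hIB (Ideal.mul_mem_right c _ (Ideal.mem_map_of_mem _ hs))
    refine ⟨j, hj, hinj ?_⟩
    rw [map_mul, map_mul, hjc]
    linear_combination (algebraMap A B s) * hc
  let S₀ : BlowExist.Idx I := BlowExist.Idx.single I ha₀
  have hsurj : Surjective (BlowExist.ι I S₀) := by
    refine ⟨fun y => ?_⟩
    obtain ⟨S, x, rfl⟩ := BlowExist.jointly_surjective I y
    obtain ⟨s, hs⟩ := S.nonempty
    have hsI := S.subset hs
    obtain ⟨hs0, hsd⟩ := BlowExist.admits_chart I S.carrier s hs
    obtain ⟨j, hj, hjs⟩ := hsq s hsI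
    obtain ⟨c, hc⟩ := hsd j hj
    have e : algebraMap A (BlowExist.chart I S.carrier) s = algebraMap A _ a₀ * c := by
      have e2 := congrArg (algebraMap A (BlowExist.chart I S.carrier)) hjs
      rw [map_mul, map_mul, hc] at e2
      exact (isRegular_iff_mem_nonZeroDivisors.2 hs0).left (by dsimp only; linear_combination e2)
    have hAS : BlowExist.Admits I {a₀} (algebraMap A (BlowExist.chart I S.carrier)) := by
      intro t ht; obtain rfl := Finset.mem_singleton.1 ht
      exact ⟨(mul_mem_nonZeroDivisors.1 (e ▸ hs0)).1, fun x hx => (Dvd.intro c e.symm).trans (hsd x hx)⟩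
    exact BlowExist.range_le_of_admits ha₀ hAS (BlowExist.ι I S) (BlowExist.ι_toBase I S) ⟨x, rfl⟩
  haveI : IsIso (BlowExist.ι I S₀) := by
    rw [isIso_iff_isOpenImmersion_and_epi_base]
    exact ⟨inferInstance, (TopCat.epi_iff_surjective _).2 hsurj.surj⟩
  obtain ⟨ψ, hψ⟩ := BlowExist.exists_hom hA
  have hψ' := fun r => RingHom.congr_fun hψ r
  simp only [RingHom.comp_apply] at hψ'
  have hbij : Function.Bijective ψ := by
    refine ⟨(injective_iff_map_eq_zero ψ).2 fun z hz => ?_, fun b => ?_⟩
    · obtain ⟨⟨r, m⟩, hr⟩ := IsLocalization.surj (Submonoid.powers (∏ s ∈ ({a₀} : Finset A), s))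
        (z : Localization.Away (∏ s ∈ ({a₀} : Finset A), s))
      have e : z * algebraMap A (BlowExist.chart I {a₀}) m.1 = algebraMap A _ r := Subtype.ext hr
      have e2 : r = 0 := hinj (by rw [map_zero, ← hψ' r, ← e, map_mul, hz, zero_mul])
      refine Subtype.ext ((IsLocalization.map_units _ m).mul_left_eq_zero.1 ?_)
      rw [hr, e2, map_zero]
    · obtain ⟨j, hj, hjb⟩ : algebraMap A B a₀ * b ∈ algebraMap A B '' (I : Set A) :=
        hIB (Ideal.mul_mem_right b _ (Ideal.mem_map_of_mem _ ha₀))
      refine ⟨BlowExist.q I {a₀} (Finset.mem_singleton_self a₀) hj, ?_⟩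
      refine (isRegular_iff_mem_nonZeroDivisors.2 (hA a₀ (Finset.mem_singleton_self a₀)).1).left ?_
      dsimp only
      rw [← hjb, ← hψ' a₀, ← map_mul, BlowExist.mul_q, hψ']
  let ψ' : CommRingCat.of (BlowExist.chart I S₀.carrier) ⟶ CommRingCat.of B := CommRingCat.ofHom ψ
  haveI hψiso : IsIso ψ' := (ConcreteCategory.isIso_iff_bijective _).2 hbij
  haveI : IsIso (Spec.map ψ') := inferInstance
  let k : Spec (CommRingCat.of B) ⟶ BlowExist.blow I := Spec.map ψ' ≫ BlowExist.ι I S₀
  haveI : IsIso k := IsIso.comp_isIso' inferInstance inferInstance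
  have key : (asIso k).hom ≫ BlowExist.toBase I =
      Spec.map (CommRingCat.ofHom (algebraMap A B)) := by
    refine (Category.assoc _ _ _).trans ((congrArg (Spec.map ψ' ≫ ·) (BlowExist.ι_toBase I S₀)).trans ?_)
    exact (Spec.map_comp _ _).symm.trans (congrArg (fun φ => Spec.map (CommRingCat.ofHom φ)) hψ)
  exact key ▸ BlowExist.isBlowUp_of_iso (C := Curv2.idealSheaf A I) (BlowExist.isBlowUp_toBase I) (asIso k)

end Groth.Agent.S14090
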