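import Groth.Statements.S14093
import Mathlib
import Groth.Agent.ArSingInv.Basic

set_option autoImplicit false
universe u
open ArSing

namespace Groth.Agent.S14093

open Groth.Agent.ArSingInv

/-- For an algebraically closed field k of characteristic prime to 2 and to r+1 and the involution σ of
A_r = k[[x,y]]/(y^2 - x^(r+1)) with σ(x) = x, σ(y) = -y: the invariant subalgebra is k[[x]] (the
image of t ↦ x from k[[t]]), the inclusion k[[x]] → A_r is faithfully flat (flat, and the maximal
ideal of k[[t]] does not generate the unit ideal of A_r), and the fixed locus (the closed subscheme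
cut out by all σ(a) - a) is a Cartier divisor of length r + 1, i.e. its ideal is generated by one
nonzerodivisor and the quotient has length r + 1. -/
theorem result (k : Type u) [Field k] [IsAlgClosed k] (r : ℕ)
    (h2 : (2 : k) ≠ 0) (hr : ((r + 1 : ℕ) : k) ≠ 0)
    (σ : ArSing.ring k r ≃ₐ[k] ArSing.ring k r) (hx : σ (ArSing.x k r) = ArSing.x k r)
    (hy : σ (ArSing.y k r) = -ArSing.y k r) :
    (∀ a : ArSing.ring k r, σ a = a ↔ a ∈ (ArSing.xMap k r).range) ∧
    ((ArSing.xMap k r).toRingHom.Flat ∧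
      Ideal.map (ArSing.xMap k r) (IsLocalRing.maximalIdeal (PowerSeries k)) ≠ ⊤) ∧
    (∃ g : ArSing.ring k r, g ∈ nonZeroDivisors (ArSing.ring k r) ∧
      Ideal.span (Set.range fun a : ArSing.ring k r => σ a - a) = Ideal.span {g}) ∧
    Module.length (ArSing.ring k r)
      (ArSing.ring k r ⧸ Ideal.span (Set.range fun a : ArSing.ring k r => σ a - a)) = r + 1 := by
  have hσ : ∀ f, σ (ArSing.xMap k r f) = ArSing.xMap k r f := fun f =>
    map_xMap h2 (σ : ArSing.ring k r →ₐ[k] ArSing.ring k r) (AlgHom.id k _) (by rw [AlgHom.id_apply, xMap_X]; exact hx) f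
  have hσa : ∀ f g, σ (ArSing.xMap k r f + ArSing.xMap k r g * ArSing.y k r) =
      ArSing.xMap k r f + ArSing.xMap k r (-g) * ArSing.y k r := fun f g => by
    rw [map_add, map_mul, hσ, hσ, hy, map_neg]; ring
  have h2' : (2 : PowerSeries k) ≠ 0 := fun h0 => h2 (by simpa [map_ofNat] using congrArg PowerSeries.constantCoeff h0)
  have hspan : Ideal.span (Set.range fun a : ArSing.ring k r => σ a - a) = Ideal.span {ArSing.y k r} := by
    refine le_antisymm (Ideal.span_le.mpr ?_) (Ideal.span_le.mpr ?_)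
    · rintro _ ⟨a, rfl⟩
      obtain ⟨f, g, rfl⟩ := exists_eq a
      refine Ideal.mem_span_singleton.mpr ⟨-(2 * ArSing.xMap k r g), ?_⟩
      show σ _ - _ = _
      rw [hσa, map_neg]; ring
    · rw [Set.singleton_subset_iff]
      have hu : IsUnit (-2 : ArSing.ring k r) := by
        have := ((isUnit_iff_ne_zero.mpr h2).map (algebraMap k (ArSing.ring k r))).neg
        rwa [map_ofNat] at this
      have := Ideal.mul_mem_left (Ideal.span (Set.range fun a : ArSing.ring k r => σ a - a)) (↑hu.unit⁻¹)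
        (Ideal.subset_span ⟨ArSing.y k r, rfl⟩)
      simp only [hy] at this
      rwa [show -ArSing.y k r - ArSing.y k r = (-2 : ArSing.ring k r) * ArSing.y k r by ring, ← mul_assoc,
        IsUnit.val_inv_mul, one_mul] at this
  refine ⟨fun a => ⟨fun ha => ?_, ?_⟩, ⟨?_, ?_⟩, ⟨ArSing.y k r, ?_, hspan⟩, ?_⟩
  · obtain ⟨f, g, rfl⟩ := exists_eq a
    rw [hσa, ext_iff' h2] at ha
    have hg : g = 0 := by
      have : (2 : PowerSeries k) * g = 0 := by linear_combination (-1 : PowerSeries k) * ha.2
      exact (mul_eq_zero.mp this).resolve_left h2'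
    exact ⟨f, by rw [hg, map_zero, zero_mul, add_zero]; rfl⟩
  · rintro ⟨f, rfl⟩
    exact hσ f
  · letI : Algebra (PowerSeries k) (ArSing.ring k r) := (ArSing.xMap k r).toRingHom.toAlgebra
    let e : (PowerSeries k × PowerSeries k) →ₗ[PowerSeries k] ArSing.ring k r :=
      (Algebra.linearMap (PowerSeries k) (ArSing.ring k r)).coprod (LinearMap.toSpanSingleton _ _ (ArSing.y k r))
    have he : ∀ p, e p = ArSing.xMap k r p.1 + ArSing.xMap k r p.2 * ArSing.y k r := fun p => rfl
    have hb : Function.Bijective e := ⟨fun p q h => by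
      rw [he, he, ext_iff' h2] at h; exact Prod.ext h.1 h.2, fun a => by
      obtain ⟨f, g, rfl⟩ := exists_eq a; exact ⟨(f, g), he _⟩⟩
    exact Module.Flat.of_linearEquiv (LinearEquiv.ofBijective e hb).symm
  · intro htop
    haveI := isLocalRing (k := k) r
    have hle : Ideal.map (ArSing.xMap k r) (IsLocalRing.maximalIdeal (PowerSeries k)) ≤
        IsLocalRing.maximalIdeal (ArSing.ring k r) := Ideal.map_le_iff_le_comap.mpr fun f hf => by
      rw [Ideal.mem_comap, IsLocalRing.mem_maximalIdeal, mem_nonunits_iff]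
      intro hu
      have : IsUnit (ArSing.xMap k r f + ArSing.xMap k r 0 * ArSing.y k r) := by rwa [map_zero, zero_mul, add_zero]
      exact (IsLocalRing.mem_maximalIdeal f).mp hf (PowerSeries.isUnit_iff_constantCoeff.mpr (isUnit_iff_ne_zero.mpr (isUnit_iff.mp this)))
    rw [htop] at hle
    exact (IsLocalRing.maximalIdeal.isMaximal _).ne_top (top_le_iff.mp hle)
  · rw [mem_nonZeroDivisors_iff_right]
    intro a ha
    obtain ⟨f, g, rfl⟩ := exists_eq a
    have e : ArSing.xMap k r (g * PowerSeries.X ^ (r + 1)) + ArSing.xMap k r f * ArSing.y k r = 0 := by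
      rw [← ha, map_mul, map_pow, xMap_X, ← y_sq]; ring
    obtain ⟨hg, hf⟩ := eq_zero_of h2 e
    rw [hf, (mul_eq_zero.mp hg).resolve_right (pow_ne_zero _ PowerSeries.X_ne_zero), map_zero, zero_mul, add_zero]
  · let I : Ideal (PowerSeries k) := Ideal.span {PowerSeries.X ^ (r + 1)}
    have hX0 : PowerSeries.constantCoeff (PowerSeries.X : PowerSeries k) = 0 := PowerSeries.constantCoeff_X
    have h00 : PowerSeries.constantCoeff (0 : PowerSeries k) = 0 := map_zero _
    let θ₀ : MvPowerSeries (Fin 2) k →+* PowerSeries k ⧸ I := (Ideal.Quotient.mk I).comp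
      (MvPowerSeries.substAlgHom (a := ![PowerSeries.X, 0])
        (MvPowerSeries.hasSubst_of_constantCoeff_zero (Fin.forall_fin_two.mpr ⟨hX0, h00⟩))).toRingHom
    have hX : ∀ i, θ₀ (MvPowerSeries.X i) = Ideal.Quotient.mk I (![PowerSeries.X, 0] i) := fun i =>
      congrArg (Ideal.Quotient.mk I) (MvPowerSeries.substAlgHom_X _ _)
    let θ : ArSing.ring k r →+* PowerSeries k ⧸ I := Ideal.Quotient.lift _ θ₀ fun F hF => by
      obtain ⟨G, rfl⟩ := Ideal.mem_span_singleton.mp hF
      rw [map_mul]
      show θ₀ (MvPowerSeries.X 1 ^ 2 - MvPowerSeries.X 0 ^ (r + 1)) * _ = 0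
      rw [map_sub, map_pow, map_pow, hX, hX, ← map_pow (Ideal.Quotient.mk I) _ (r + 1)]
      simp only [Matrix.cons_val_zero, Matrix.cons_val_one]
      rw [Ideal.Quotient.eq_zero_iff_mem.mpr (Ideal.mem_span_singleton_self _ : (PowerSeries.X : PowerSeries k) ^ (r + 1) ∈ I)]
      simp
    have hθy : θ (ArSing.y k r) = 0 := (hX 1).trans (map_zero _)
    have hθf : ∀ f, θ (ArSing.xMap k r f) = Ideal.Quotient.mk I f := fun f => by
      have h := DFunLike.congr_fun (algHom_ext_X ((MvPowerSeries.substAlgHom (a := ![PowerSeries.X, 0])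
        (MvPowerSeries.hasSubst_of_constantCoeff_zero (Fin.forall_fin_two.mpr ⟨hX0, h00⟩))).comp (sub0 k))
          (AlgHom.id k _) (by rw [AlgHom.comp_apply, sub0_X]; exact MvPowerSeries.substAlgHom_X _ _)) f
      exact congrArg (Ideal.Quotient.mk I) h
    have hθ : Function.Surjective θ := fun z => by
      obtain ⟨f, rfl⟩ := Ideal.Quotient.mk_surjective z
      exact ⟨_, hθf f⟩
    rw [length_quotient (r + 1) θ hθ _ ?_, Nat.cast_add, Nat.cast_one]
    rw [hspan]
    refine le_antisymm (fun a ha => ?_) (Ideal.span_le.mpr (Set.singleton_subset_iff.mpr hθy))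
    obtain ⟨f, g, rfl⟩ := exists_eq a
    rw [RingHom.mem_ker, map_add, map_mul, hθy, mul_zero, add_zero, hθf, Ideal.Quotient.eq_zero_iff_mem, Ideal.mem_span_singleton] at ha
    obtain ⟨c, rfl⟩ := ha
    rw [map_mul, map_pow, xMap_X, ← y_sq, Ideal.mem_span_singleton]
    exact ⟨ArSing.y k r * ArSing.xMap k r c + ArSing.xMap k r g, by ring⟩

end Groth.Agent.S14093
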