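import Groth.Statements.S14094
import Mathlib
import Groth.Agent.ArSingInv.Parity

set_option autoImplicit false
universe u
open ArSing

namespace Groth.Agent.S14094

open Groth.Agent Groth.Agent.ArSingInv

/-- K algebraically closed of characteristic prime to 2 and to r+1, r = 2m - 1 with m ≥ 2, σ the
involution x ↦ -x, y ↦ y of A_r = k[[x,y]]/(y^2 - x^(r+1)), and φ : A_(m-1) → A_r the k-algebra map
x ↦ x^2, y ↦ y. Then the invariant subalgebra of σ is the image of φ (so A_r^σ ≅ A_(m-1)), φ is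
faithfully flat (flat, and the maximal ideal of A_(m-1) does not generate the unit ideal), and the
fixed locus of σ is a Cartier divisor of length 2: its ideal, generated by the elements σ(a) - a, is
generated by one nonzerodivisor and has quotient of length 2. -/
theorem result (k : Type u) [Field k] [IsAlgClosed k] (m r : ℕ)
    (hm : 2 ≤ m) (hr : r = 2 * m - 1) (h2 : (2 : k) ≠ 0) (hr1 : ((r + 1 : ℕ) : k) ≠ 0)
    (σ : ArSing.ring k r ≃ₐ[k] ArSing.ring k r) (hx : σ (ArSing.x k r) = -ArSing.x k r)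
    (hy : σ (ArSing.y k r) = ArSing.y k r)
    (φ : ArSing.ring k (m - 1) →ₐ[k] ArSing.ring k r) (hφx : φ (ArSing.x k (m - 1)) = ArSing.x k r ^ 2)
    (hφy : φ (ArSing.y k (m - 1)) = ArSing.y k r) :
    (∀ a : ArSing.ring k r, σ a = a ↔ a ∈ φ.range) ∧
    (φ.toRingHom.Flat ∧ ∀ I : Ideal (ArSing.ring k (m - 1)), I.IsMaximal → Ideal.map φ I ≠ ⊤) ∧
    (∃ g : ArSing.ring k r, g ∈ nonZeroDivisors (ArSing.ring k r) ∧ Ideal.span (Set.range fun a : ArSing.ring k r => σ a - a) = Ideal.span {g}) ∧
    Module.length (ArSing.ring k r) (ArSing.ring k r ⧸ Ideal.span (Set.range fun a : ArSing.ring k r => σ a - a)) = 2 := by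
  have hσ : ∀ f, σ (ArSing.xMap k r f) = ArSing.xMap k r (neg k f) :=
    map_xMap h2 (σ : ArSing.ring k r →ₐ[k] ArSing.ring k r) (neg k) (by rw [neg_X, map_neg, xMap_X]; exact hx)
  have hφ : ∀ f, φ (ArSing.xMap k (m - 1) f) = ArSing.xMap k r (sq k f) :=
    map_xMap h2 φ (sq k) (by rw [sq_X, map_pow, xMap_X]; exact hφx)
  have hφa : ∀ f g, φ (ArSing.xMap k (m - 1) f + ArSing.xMap k (m - 1) g * ArSing.y k (m - 1)) =
      ArSing.xMap k r (sq k f) + ArSing.xMap k r (sq k g) * ArSing.y k r := fun f g => by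
    rw [map_add, map_mul, hφ, hφ, hφy]
  have hsplit : ∀ a : ArSing.ring k r, ∃ e o e' o' : PowerSeries k,
      a = ArSing.xMap k r (sq k e + PowerSeries.X * sq k o) + ArSing.xMap k r (sq k e' + PowerSeries.X * sq k o') * ArSing.y k r := fun a => by
    obtain ⟨f, g, rfl⟩ := exists_eq a
    obtain ⟨e, o, rfl⟩ := exists_parity f
    obtain ⟨e', o', rfl⟩ := exists_parity g
    exact ⟨e, o, e', o', rfl⟩
  have hσa : ∀ e o e' o' : PowerSeries k,
      σ (ArSing.xMap k r (sq k e + PowerSeries.X * sq k o) + ArSing.xMap k r (sq k e' + PowerSeries.X * sq k o') * ArSing.y k r) =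
        ArSing.xMap k r (sq k e + PowerSeries.X * sq k (-o)) + ArSing.xMap k r (sq k e' + PowerSeries.X * sq k (-o')) * ArSing.y k r :=
    fun e o e' o' => by rw [map_add, map_mul, hσ, hσ, hy, neg_parity, neg_parity]
  have hspan : Ideal.span (Set.range fun a : ArSing.ring k r => σ a - a) = Ideal.span {ArSing.x k r} := by
    refine le_antisymm (Ideal.span_le.mpr ?_) (Ideal.span_le.mpr ?_)
    · rintro _ ⟨a, rfl⟩
      obtain ⟨e, o, e', o', rfl⟩ := hsplit a
      refine Ideal.mem_span_singleton.mpr ⟨-(2 * (ArSing.xMap k r (sq k o) + ArSing.xMap k r (sq k o') * ArSing.y k r)), ?_⟩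
      show σ _ - _ = _
      rw [hσa]
      simp only [map_add, map_mul, map_neg, xMap_X]
      ring
    · rw [Set.singleton_subset_iff]
      have hu : IsUnit (-2 : ArSing.ring k r) := by
        have := ((isUnit_iff_ne_zero.mpr h2).map (algebraMap k (ArSing.ring k r))).neg
        rwa [map_ofNat] at this
      have := Ideal.mul_mem_left (Ideal.span (Set.range fun a : ArSing.ring k r => σ a - a)) (↑hu.unit⁻¹)
        (Ideal.subset_span ⟨ArSing.x k r, rfl⟩)
      simp only [hx] at this
      rwa [show -ArSing.x k r - ArSing.x k r = (-2 : ArSing.ring k r) * ArSing.x k r by ring, ← mul_assoc,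
        IsUnit.val_inv_mul, one_mul] at this
  have h2' : (2 : PowerSeries k) ≠ 0 := fun h0 => h2 (by simpa [map_ofNat] using congrArg PowerSeries.constantCoeff h0)
  refine ⟨fun a => ⟨fun ha => ?_, ?_⟩, ⟨?_, ?_⟩, ⟨ArSing.x k r, x_mem_nonZeroDivisors h2, hspan⟩, ?_⟩
  · obtain ⟨e, o, e', o', rfl⟩ := hsplit a
    rw [hσa, ext_iff' h2] at ha
    have hz : ∀ o : PowerSeries k, -o = o → o = 0 := fun o h => by
      have : (2 : PowerSeries k) * o = 0 := by linear_combination (-1 : PowerSeries k) * h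
      exact (mul_eq_zero.mp this).resolve_left h2'
    have ho := hz o (parity_ext ha.1).2
    have ho' := hz o' (parity_ext ha.2).2
    refine ⟨ArSing.xMap k (m - 1) e + ArSing.xMap k (m - 1) e' * ArSing.y k (m - 1), ?_⟩
    show φ _ = _
    rw [hφa, ho, ho', map_zero, mul_zero, add_zero, add_zero]
  · rintro ⟨b, rfl⟩
    obtain ⟨f, g, rfl⟩ := exists_eq b
    show σ (φ _) = φ _
    rw [hφa, map_add, map_mul, hσ, hσ, hy, ArSingInv.neg_sq, ArSingInv.neg_sq]
  · letI : Algebra (ArSing.ring k (m - 1)) (ArSing.ring k r) := φ.toRingHom.toAlgebra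
    let L : (ArSing.ring k (m - 1) × ArSing.ring k (m - 1)) →ₗ[ArSing.ring k (m - 1)] ArSing.ring k r :=
      (Algebra.linearMap (ArSing.ring k (m - 1)) (ArSing.ring k r)).coprod (LinearMap.toSpanSingleton _ _ (ArSing.x k r))
    have hL : ∀ f g f' g', L (ArSing.xMap k (m - 1) f + ArSing.xMap k (m - 1) g * ArSing.y k (m - 1),
        ArSing.xMap k (m - 1) f' + ArSing.xMap k (m - 1) g' * ArSing.y k (m - 1)) =
        ArSing.xMap k r (sq k f + PowerSeries.X * sq k f') + ArSing.xMap k r (sq k g + PowerSeries.X * sq k g') * ArSing.y k r := fun f g f' g' => by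
      show φ (ArSing.xMap k (m - 1) f + ArSing.xMap k (m - 1) g * ArSing.y k (m - 1)) +
        φ (ArSing.xMap k (m - 1) f' + ArSing.xMap k (m - 1) g' * ArSing.y k (m - 1)) * ArSing.x k r = _
      rw [hφa, hφa]
      simp only [map_add, map_mul, xMap_X]
      ring
    have hb : Function.Bijective L := by
      refine ⟨(injective_iff_map_eq_zero L).mpr ?_, fun a => ?_⟩
      · rintro ⟨b, c⟩ h
        obtain ⟨f, g, rfl⟩ := exists_eq b
        obtain ⟨f', g', rfl⟩ := exists_eq c
        rw [hL] at h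
        obtain ⟨h1, h1'⟩ := eq_zero_of h2 h
        obtain ⟨rfl, rfl⟩ := parity_eq_zero h1
        obtain ⟨rfl, rfl⟩ := parity_eq_zero h1'
        simp
      · obtain ⟨e, o, e', o', rfl⟩ := hsplit a
        exact ⟨_, hL e e' o o'⟩
    exact Module.Flat.of_linearEquiv (LinearEquiv.ofBijective L hb).symm
  · intro I hI htop
    haveI := isLocalRing (k := k) r
    haveI := isLocalRing (k := k) (m - 1)
    have hle : Ideal.map φ I ≤ IsLocalRing.maximalIdeal (ArSing.ring k r) := Ideal.map_le_iff_le_comap.mpr fun b hb => by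
      rw [Ideal.mem_comap, IsLocalRing.mem_maximalIdeal, mem_nonunits_iff]
      intro hu
      obtain ⟨f, g, rfl⟩ := exists_eq b
      rw [hφa, ArSingInv.isUnit_iff, constantCoeff_sq, ← ArSingInv.isUnit_iff (g := g) (r := m - 1)] at hu
      exact hI.ne_top (Ideal.eq_top_of_isUnit_mem _ hb hu)
    rw [htop] at hle
    exact (IsLocalRing.maximalIdeal.isMaximal _).ne_top (top_le_iff.mp hle)
  · have hr0 : r + 1 = 2 * m := by omega
    have hX0 : PowerSeries.constantCoeff (PowerSeries.X : PowerSeries k) = 0 := PowerSeries.constantCoeff_X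
    have h00 : PowerSeries.constantCoeff (0 : PowerSeries k) = 0 := map_zero _
    have hrel : (PowerSeries.X : PowerSeries k) ^ 2 - 0 ^ (r + 1) ∈ Ideal.span {(PowerSeries.X : PowerSeries k) ^ 2} := by
      rw [zero_pow r.succ_ne_zero, sub_zero]; exact Ideal.mem_span_singleton_self _
    have hθy := evMod_y (r := r) 2 0 PowerSeries.X h00 hX0 hrel
    have hθf : ∀ f, evMod (r := r) 2 0 PowerSeries.X h00 hX0 hrel (ArSing.xMap k r f) =
        Ideal.Quotient.mk _ (PowerSeries.C (PowerSeries.constantCoeff f)) := fun f => by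
      rw [evMod_xMap, PowerSeries.coe_substAlgHom, PowerSeries.subst_zero_eq_C_constantCoeff]; rfl
    have hθ : Function.Surjective (evMod (r := r) 2 0 PowerSeries.X h00 hX0 hrel) := fun z => by
      obtain ⟨f, rfl⟩ := Ideal.Quotient.mk_surjective z
      refine ⟨ArSing.xMap k r (PowerSeries.C (PowerSeries.coeff 0 f)) + ArSing.xMap k r (PowerSeries.C (PowerSeries.coeff 1 f)) * ArSing.y k r, ?_⟩
      rw [map_add, map_mul, hθf, hθf, hθy, ← map_mul, ← map_add, Ideal.Quotient.eq, Ideal.mem_span_singleton,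
        PowerSeries.X_pow_dvd_iff]
      intro j hj
      interval_cases j <;> simp
    rw [length_quotient 2 _ hθ _ ?_, Nat.cast_ofNat]
    rw [hspan]
    refine le_antisymm (fun a ha => ?_) (Ideal.span_le.mpr (Set.singleton_subset_iff.mpr ?_))
    · obtain ⟨f, g, rfl⟩ := exists_eq a
      rw [RingHom.mem_ker, map_add, map_mul, hθf, hθf, hθy, ← map_mul, ← map_add, Ideal.Quotient.eq_zero_iff_mem,
        Ideal.mem_span_singleton, PowerSeries.X_pow_dvd_iff] at ha
      have a0 := ha 0 two_pos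
      have a1 := ha 1 one_lt_two
      simp at a0 a1
      obtain ⟨f', rfl⟩ := PowerSeries.X_dvd_iff.mpr a0
      obtain ⟨g', rfl⟩ := PowerSeries.X_dvd_iff.mpr a1
      refine Ideal.mem_span_singleton.mpr ⟨ArSing.xMap k r f' + ArSing.xMap k r g' * ArSing.y k r, ?_⟩
      rw [map_mul, map_mul, xMap_X]; ring
    · show evMod (r := r) 2 0 PowerSeries.X h00 hX0 hrel (ArSing.x k r) = 0
      rw [← xMap_X, hθf, PowerSeries.constantCoeff_X, map_zero, map_zero]

end Groth.Agent.S14094
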