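import Groth.Statements.S14095
import Mathlib
import Groth.Agent.ArSingInv.Parity

set_option autoImplicit false
universe u
open ArSing

namespace Groth.Agent.S14095

open Groth.Agent Groth.Agent.ArSingInv

/-- K algebraically closed of characteristic prime to 2 and to r+1, r = 2m - 1 with m ≥ 1, σ the
involution x ↦ -x, y ↦ -y of A_r = k[[x,y]]/(y^2 - x^(r+1)), and φ : A_m → A_r the k-algebra map x ↦
x^2, y ↦ xy. Then the invariant subalgebra of σ is the image of φ and φ is injective (so A_r^σ ≅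
A_m), φ is not flat, and the fixed locus of σ is the reduced closed point and is not a Cartier
divisor: the ideal generated by the elements σ(a) - a has quotient of length 1 and is not generated
by one nonzerodivisor. -/
theorem result (k : Type u) [Field k] [IsAlgClosed k] (m r : ℕ)
    (hm : 1 ≤ m) (hr : r = 2 * m - 1) (h2 : (2 : k) ≠ 0) (hr1 : ((r + 1 : ℕ) : k) ≠ 0)
    (σ : ArSing.ring k r ≃ₐ[k] ArSing.ring k r) (hx : σ (ArSing.x k r) = -ArSing.x k r)
    (hy : σ (ArSing.y k r) = -ArSing.y k r)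
    (φ : ArSing.ring k m →ₐ[k] ArSing.ring k r) (hφx : φ (ArSing.x k m) = ArSing.x k r ^ 2)
    (hφy : φ (ArSing.y k m) = ArSing.x k r * ArSing.y k r) :
    (∀ a : ArSing.ring k r, σ a = a ↔ a ∈ φ.range) ∧ Function.Injective φ ∧
    ¬ φ.toRingHom.Flat ∧
    Module.length (ArSing.ring k r) (ArSing.ring k r ⧸ Ideal.span (Set.range fun a : ArSing.ring k r => σ a - a)) = 1 ∧
    ¬ (∃ g : ArSing.ring k r, g ∈ nonZeroDivisors (ArSing.ring k r) ∧ Ideal.span (Set.range fun a : ArSing.ring k r => σ a - a) = Ideal.span {g}) := by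
  have hσ : ∀ f, σ (ArSing.xMap k r f) = ArSing.xMap k r (neg k f) :=
    map_xMap h2 (σ : ArSing.ring k r →ₐ[k] ArSing.ring k r) (neg k) (by rw [neg_X, map_neg, xMap_X]; exact hx)
  have hφ : ∀ f, φ (ArSing.xMap k m f) = ArSing.xMap k r (sq k f) :=
    map_xMap h2 φ (sq k) (by rw [sq_X, map_pow, xMap_X]; exact hφx)
  have hφa : ∀ f g, φ (ArSing.xMap k m f + ArSing.xMap k m g * ArSing.y k m) =
      ArSing.xMap k r (sq k f) + ArSing.xMap k r (PowerSeries.X * sq k g) * ArSing.y k r := fun f g => by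
    rw [map_add, map_mul, hφ, hφ, hφy, map_mul, xMap_X]; ring
  have hsplit : ∀ a : ArSing.ring k r, ∃ e o e' o' : PowerSeries k,
      a = ArSing.xMap k r (sq k e + PowerSeries.X * sq k o) + ArSing.xMap k r (sq k e' + PowerSeries.X * sq k o') * ArSing.y k r := fun a => by
    obtain ⟨f, g, rfl⟩ := exists_eq a
    obtain ⟨e, o, rfl⟩ := exists_parity f
    obtain ⟨e', o', rfl⟩ := exists_parity g
    exact ⟨e, o, e', o', rfl⟩
  have hσa : ∀ e o e' o' : PowerSeries k,
      σ (ArSing.xMap k r (sq k e + PowerSeries.X * sq k o) + ArSing.xMap k r (sq k e' + PowerSeries.X * sq k o') * ArSing.y k r) =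
        ArSing.xMap k r (sq k e + PowerSeries.X * sq k (-o)) + ArSing.xMap k r (sq k (-e') + PowerSeries.X * sq k o') * ArSing.y k r :=
    fun e o e' o' => by
      rw [map_add, map_mul, hσ, hσ, hy, neg_parity, neg_parity]
      simp only [map_add, map_mul, map_neg, xMap_X]
      ring
  have h2' : (2 : PowerSeries k) ≠ 0 := fun h0 => h2 (by simpa [map_ofNat] using congrArg PowerSeries.constantCoeff h0)
  have hz : ∀ o : PowerSeries k, -o = o → o = 0 := fun o h => by
    have : (2 : PowerSeries k) * o = 0 := by linear_combination (-1 : PowerSeries k) * h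
    exact (mul_eq_zero.mp this).resolve_left h2'
  have hspan : Ideal.span (Set.range fun a : ArSing.ring k r => σ a - a) = Ideal.span {ArSing.x k r, ArSing.y k r} := by
    refine le_antisymm (Ideal.span_le.mpr ?_) (Ideal.span_le.mpr ?_)
    · rintro _ ⟨a, rfl⟩
      obtain ⟨e, o, e', o', rfl⟩ := hsplit a
      refine Ideal.mem_span_pair.mpr ⟨-(2 * ArSing.xMap k r (sq k o)), -(2 * ArSing.xMap k r (sq k e')), ?_⟩
      show _ = σ _ - _
      rw [hσa]
      simp only [map_add, map_mul, map_neg, xMap_X]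
      ring
    · have hu : IsUnit (-2 : ArSing.ring k r) := by
        have := ((isUnit_iff_ne_zero.mpr h2).map (algebraMap k (ArSing.ring k r))).neg
        rwa [map_ofNat] at this
      have key : ∀ z, σ z = -z → z ∈ Ideal.span (Set.range fun a : ArSing.ring k r => σ a - a) := fun z hz => by
        have := Ideal.mul_mem_left (Ideal.span (Set.range fun a : ArSing.ring k r => σ a - a)) (↑hu.unit⁻¹)
          (Ideal.subset_span ⟨z, rfl⟩)
        simp only [hz] at this
        rwa [show -z - z = (-2 : ArSing.ring k r) * z by ring, ← mul_assoc, IsUnit.val_inv_mul, one_mul] at this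
      rintro z (rfl | rfl)
      · exact key _ hx
      · exact key _ hy
  haveI := isLocalRing (k := k) r
  haveI := isLocalRing (k := k) m
  have hne : ∀ {f g f' g' : PowerSeries k}, ArSing.xMap k r f + ArSing.xMap k r g * ArSing.y k r =
      ArSing.xMap k r f' + ArSing.xMap k r g' * ArSing.y k r → PowerSeries.constantCoeff g = PowerSeries.constantCoeff g' ∧
      PowerSeries.coeff 1 f = PowerSeries.coeff 1 f' := fun h => by
    obtain ⟨hf, hg⟩ := (ext_iff' h2).mp h
    exact ⟨by rw [hg], by rw [hf]⟩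
  have hynotx : ∀ c, ArSing.x k r * c ≠ ArSing.y k r := fun c hc => by
    obtain ⟨f, g, rfl⟩ := exists_eq c
    have := (hne (f := PowerSeries.X * f) (g := PowerSeries.X * g) (f' := 0) (g' := 1) (by
      rw [map_zero, map_one, one_mul, zero_add, map_mul, map_mul, xMap_X]; linear_combination hc)).1
    simp at this
  have hxnoty : ∀ c, ArSing.y k r * c ≠ ArSing.x k r := fun c hc => by
    obtain ⟨f, g, rfl⟩ := exists_eq c
    have := (hne (f := PowerSeries.X ^ (r + 1) * g) (g := f) (f' := PowerSeries.X) (g' := 0) (by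
      rw [map_zero, zero_mul, add_zero, map_mul, map_pow, xMap_X, ← y_sq]; linear_combination hc)).2
    rw [PowerSeries.coeff_X_pow_mul', if_neg (by omega), PowerSeries.coeff_one_X] at this
    exact zero_ne_one this
  have hinj : Function.Injective φ := (injective_iff_map_eq_zero φ).mpr fun b hb => by
    obtain ⟨f, g, rfl⟩ := exists_eq b
    rw [hφa] at hb
    obtain ⟨hf, hg⟩ := eq_zero_of h2 hb
    rw [sq_injective (hf.trans (map_zero _).symm),
      sq_injective (((mul_eq_zero.mp hg).resolve_left PowerSeries.X_ne_zero).trans (map_zero _).symm), map_zero, zero_mul, add_zero]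
  refine ⟨fun a => ⟨fun ha => ?_, ?_⟩, hinj, ?_, ?_, ?_⟩
  · obtain ⟨e, o, e', o', rfl⟩ := hsplit a
    rw [hσa, ext_iff' h2] at ha
    have ho := hz o (parity_ext ha.1).2
    have he' := hz e' (parity_ext ha.2).1
    refine ⟨ArSing.xMap k m e + ArSing.xMap k m o' * ArSing.y k m, ?_⟩
    show φ _ = _
    rw [hφa, ho, he', map_zero, mul_zero, add_zero, zero_add]
  · rintro ⟨b, rfl⟩
    obtain ⟨f, g, rfl⟩ := exists_eq b
    show σ (φ _) = φ _
    rw [hφa, map_add, map_mul, hσ, hσ, hy, map_mul (neg k), ArSingInv.neg_sq, ArSingInv.neg_sq, neg_X, neg_mul, map_neg]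
    ring
  · intro hflat
    letI : Algebra (ArSing.ring k m) (ArSing.ring k r) := φ.toRingHom.toAlgebra
    haveI : Module.Flat (ArSing.ring k m) (ArSing.ring k r) := hflat
    obtain ⟨n, a, z, hz', ha⟩ := Module.Flat.isTrivialRelation_of_sum_smul_eq_zero (R := ArSing.ring k m) (M := ArSing.ring k r)
      (f := ![ArSing.y k m, ArSing.x k m]) (x := ![ArSing.x k r, -ArSing.y k r]) (by
        simp only [Fin.sum_univ_two, Algebra.smul_def, Matrix.cons_val_zero, Matrix.cons_val_one, Matrix.cons_val_fin_one]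
        show φ (ArSing.y k m) * ArSing.x k r + φ (ArSing.x k m) * -ArSing.y k r = 0
        rw [hφy, hφx]; ring)
    -- all coefficients are non-units
    have hnu : ∀ j, ¬ IsUnit (a 0 j) := fun j hu => by
      have h := congrArg φ (ha j)
      rw [Fin.sum_univ_two, map_zero] at h
      simp only [Matrix.cons_val_zero, Matrix.cons_val_one, Matrix.cons_val_fin_one, map_add, map_mul, hφx, hφy] at h
      have hu' := hu.map φ
      have hcancel : ArSing.y k r * φ (a 0 j) = ArSing.x k r * -φ (a 1 j) :=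
        (mul_cancel_left_mem_nonZeroDivisors (x_mem_nonZeroDivisors h2)).mp (by linear_combination h)
      refine hynotx (-φ (a 1 j) * ↑hu'.unit⁻¹) ?_
      rw [← mul_assoc, ← hcancel, mul_assoc, IsUnit.mul_val_inv, mul_one]
    have hmem : ∀ j, ∃ w, φ (a 0 j) = ArSing.x k r * w ∧ ¬ IsUnit w := fun j => by
      obtain ⟨f, g, hfg⟩ := exists_eq (a 0 j)
      have hf : PowerSeries.constantCoeff f = 0 := by
        by_contra h
        exact hnu j (hfg ▸ ArSingInv.isUnit_iff.mpr h)
      obtain ⟨f', rfl⟩ := PowerSeries.X_dvd_iff.mpr hf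
      refine ⟨ArSing.xMap k r (PowerSeries.X * sq k f') + ArSing.xMap k r (sq k g) * ArSing.y k r, ?_, fun hu => ?_⟩
      · rw [hfg, hφa, map_mul (sq k), sq_X]
        simp only [map_mul, map_pow, xMap_X]
        ring
      · exact ArSingInv.isUnit_iff.mp hu (by simp)
    choose w hw hwu using hmem
    have hx' : ArSing.x k r = ∑ j, φ (a 0 j) * z j := hz' 0
    have hW : ¬ IsUnit (∑ j, w j * z j) := (IsLocalRing.mem_maximalIdeal _).mp
      (Ideal.sum_mem _ fun j _ => Ideal.mul_mem_right _ _ ((IsLocalRing.mem_maximalIdeal _).mpr (hwu j)))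
    have h1 : ArSing.x k r * (1 - ∑ j, w j * z j) = 0 := by
      rw [mul_sub, mul_one, Finset.mul_sum, sub_eq_zero]
      exact hx'.trans (Finset.sum_congr rfl fun j _ => by rw [hw, mul_assoc])
    have hu := IsLocalRing.isUnit_one_sub_self_of_mem_nonunits _ hW
    exact hynotx 0 (by
      have hx0 : ArSing.x k r = 0 := hu.mul_left_eq_zero.mp h1
      exact absurd (nonZeroDivisors.ne_zero (x_mem_nonZeroDivisors h2)) (fun h => h hx0))
  · have h00 : PowerSeries.constantCoeff (0 : PowerSeries k) = 0 := map_zero _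
    have hrel : (0 : PowerSeries k) ^ 2 - 0 ^ (r + 1) ∈ Ideal.span {(PowerSeries.X : PowerSeries k) ^ 1} := by simp
    have hθy := evMod_y (r := r) 1 0 0 h00 h00 hrel
    have hθf : ∀ f, evMod (r := r) 1 0 0 h00 h00 hrel (ArSing.xMap k r f) =
        Ideal.Quotient.mk _ (PowerSeries.C (PowerSeries.constantCoeff f)) := fun f => by
      rw [evMod_xMap, PowerSeries.coe_substAlgHom, PowerSeries.subst_zero_eq_C_constantCoeff]; rfl
    have hθ : Function.Surjective (evMod (r := r) 1 0 0 h00 h00 hrel) := fun z => by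
      obtain ⟨f, rfl⟩ := Ideal.Quotient.mk_surjective z
      refine ⟨ArSing.xMap k r f, ?_⟩
      rw [hθf, Ideal.Quotient.eq, Ideal.mem_span_singleton, pow_one, PowerSeries.X_dvd_iff]
      simp
    rw [length_quotient 1 _ hθ _ ?_, Nat.cast_one]
    rw [hspan]
    refine le_antisymm (fun a ha => ?_) (Ideal.span_le.mpr ?_)
    · obtain ⟨f, g, rfl⟩ := exists_eq a
      rw [RingHom.mem_ker, map_add, map_mul, hθy, map_zero, mul_zero, add_zero, hθf, Ideal.Quotient.eq_zero_iff_mem,
        Ideal.mem_span_singleton, pow_one, PowerSeries.X_dvd_iff, PowerSeries.constantCoeff_C] at ha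
      obtain ⟨f', rfl⟩ := PowerSeries.X_dvd_iff.mpr ha
      exact Ideal.mem_span_pair.mpr ⟨ArSing.xMap k r f', ArSing.xMap k r g, by rw [map_mul, xMap_X, mul_comm (ArSing.xMap k r f')]⟩
    · rintro z (rfl | rfl)
      · show evMod (r := r) 1 0 0 h00 h00 hrel (ArSing.x k r) = 0
        rw [← xMap_X, hθf, PowerSeries.constantCoeff_X, map_zero, map_zero]
      · exact hθy.trans (map_zero _)
  · rintro ⟨g, -, hg⟩
    rw [hspan] at hg
    obtain ⟨a, ha⟩ := Ideal.mem_span_singleton'.mp (hg ▸ Ideal.subset_span (Set.mem_insert _ _) : ArSing.x k r ∈ Ideal.span {g})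
    obtain ⟨b, hb⟩ := Ideal.mem_span_singleton'.mp (hg ▸ Ideal.subset_span (Set.mem_insert_of_mem _ rfl) : ArSing.y k r ∈ Ideal.span {g})
    have hau : ¬ IsUnit a := fun hu => hynotx (↑hu.unit⁻¹ * b) (by
      rw [← ha, ← hb, show a * g * (↑hu.unit⁻¹ * b) = a * ↑hu.unit⁻¹ * (b * g) by ring, IsUnit.mul_val_inv, one_mul])
    have hbu : ¬ IsUnit b := fun hu => hxnoty (↑hu.unit⁻¹ * a) (by
      rw [← ha, ← hb, show b * g * (↑hu.unit⁻¹ * a) = b * ↑hu.unit⁻¹ * (a * g) by ring, IsUnit.mul_val_inv, one_mul])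
    obtain ⟨s, t, hst⟩ := Ideal.mem_span_pair.mp (hg ▸ Ideal.mem_span_singleton_self g : g ∈ Ideal.span {ArSing.x k r, ArSing.y k r})
    have hw : ¬ IsUnit (s * a + t * b) := (IsLocalRing.mem_maximalIdeal _).mp (Ideal.add_mem _
      (Ideal.mul_mem_left _ _ ((IsLocalRing.mem_maximalIdeal _).mpr hau)) (Ideal.mul_mem_left _ _ ((IsLocalRing.mem_maximalIdeal _).mpr hbu)))
    have h1 : g * (1 - (s * a + t * b)) = 0 := by
      rw [← ha, ← hb] at hst
      linear_combination (-1 : ArSing.ring k r) * hst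
    have hg0 : g = 0 := (IsLocalRing.isUnit_one_sub_self_of_mem_nonunits _ hw).mul_left_eq_zero.mp h1
    exact nonZeroDivisors.ne_zero (x_mem_nonZeroDivisors h2) (by rw [← ha, hg0, mul_zero])

end Groth.Agent.S14095
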