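import Groth.Statements.S14096
import Mathlib
import Groth.Agent.ArSingInv.Node

set_option autoImplicit false
universe u
open ArSing

namespace Groth.Agent.S14096

open Groth.Agent Groth.Agent.ArSingInv

/-- K algebraically closed of characteristic ≠ 2, σ the involution of the node algebra A_1 =
k[[x,y]]/(y^2 - x^2) exchanging x and y, and φ : A_1 → A_1 the k-algebra map with φ(x + y) = x + y
and φ(y - x) = (y - x)^2 (in the branch coordinates u = x + y, v = y - x with uv = 0: u ↦ u, v ↦
v^2). Then the invariant subalgebra of σ is the image of φ and φ is injective (so A_1^σ ≅ A_1), and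
the fixed locus of σ is the branch v = 0: the ideal generated by the elements σ(a) - a is the ideal
(y - x), a minimal prime ideal generated by a zero-divisor (so not a Cartier divisor). Moreover φ is
not flat. (The published statement asserts that this extension is faithfully flat; it is not: as a
module over the invariant subalgebra B = k[[u,w]]/(uw), w = v^2, A_1 is B ⊕ (B/uB)·v, and B/uB is
not flat over B — equivalently the fibre length jumps from 1 on the branch w = 0 to 2 at the closed
point.) -/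
theorem result (k : Type u) [Field k] [IsAlgClosed k]
    (h2 : (2 : k) ≠ 0)
    (σ : ArSing.ring k 1 ≃ₐ[k] ArSing.ring k 1) (hx : σ (ArSing.x k 1) = ArSing.y k 1)
    (hy : σ (ArSing.y k 1) = ArSing.x k 1)
    (φ : ArSing.ring k 1 →ₐ[k] ArSing.ring k 1) (hφu : φ (ArSing.x k 1 + ArSing.y k 1) = ArSing.x k 1 + ArSing.y k 1)
    (hφv : φ (ArSing.y k 1 - ArSing.x k 1) = (ArSing.y k 1 - ArSing.x k 1) ^ 2) :
    (∀ a : ArSing.ring k 1, σ a = a ↔ a ∈ φ.range) ∧ Function.Injective φ ∧
    Ideal.span (Set.range fun a : ArSing.ring k 1 => σ a - a) = Ideal.span {ArSing.y k 1 - ArSing.x k 1} ∧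
    (ArSing.y k 1 - ArSing.x k 1) ∉ nonZeroDivisors (ArSing.ring k 1) ∧
    Ideal.span {ArSing.y k 1 - ArSing.x k 1} ∈ minimalPrimes (ArSing.ring k 1) ∧
    ¬ φ.toRingHom.Flat := by
  have h2' : (2 : PowerSeries k) ≠ 0 := fun h0 => h2 (by simpa [map_ofNat] using congrArg PowerSeries.constantCoeff h0)
  have hσp : ∀ a, bp k (σ a) = bp k a := fun a =>
    DFunLike.congr_fun (ev_ext (u := (bp k).comp (σ : ArSing.ring k 1 →ₐ[k] ArSing.ring k 1)) (v := bp k)
      (by simp [hx, bp_x, bp_y]) (by simp [hy, bp_x, bp_y])) a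
  have hσm : ∀ a, bm k (σ a) = neg k (bm k a) := fun a =>
    DFunLike.congr_fun (ev_ext (u := (bm k).comp (σ : ArSing.ring k 1 →ₐ[k] ArSing.ring k 1)) (v := (neg k).comp (bm k))
      (by simp [hx, bm_x, bm_y, neg_X]) (by simp [hy, bm_x, bm_y, neg_X])) a
  -- scaling by `-2` and `-1/2`
  have hc : ∀ c : k, PowerSeries.constantCoeff (PowerSeries.C c * PowerSeries.X : PowerSeries k) = 0 := fun c => by simp
  let sc : k → (PowerSeries k →ₐ[k] PowerSeries k) := fun c => PowerSeries.substAlgHom (PowerSeries.HasSubst.of_constantCoeff_zero' (hc c))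
  have hscX : ∀ c, sc c PowerSeries.X = PowerSeries.C c * PowerSeries.X := fun c => PowerSeries.substAlgHom_X _
  have hscC : ∀ c d, sc c (PowerSeries.C d) = PowerSeries.C d := fun c d => (sc c).commutes d
  have hscc : ∀ c d e, sc c (sc d e) = sc (c * d) e := fun c d e =>
    DFunLike.congr_fun (ArSingInv.algHom_ext_X ((sc c).comp (sc d)) (sc (c * d)) (by
      rw [AlgHom.comp_apply, hscX, map_mul, hscX, hscC, hscX, map_mul]; ring)) e
  have hsc1 : ∀ e, sc 1 e = e := fun e =>
    DFunLike.congr_fun (ArSingInv.algHom_ext_X (sc 1) (AlgHom.id k _) (by rw [hscX, map_one, one_mul]; rfl)) e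
  have hinv : (-2 : k) * -(2⁻¹) = 1 := by rw [neg_mul_neg, mul_inv_cancel₀ h2]
  let τ : PowerSeries k →ₐ[k] PowerSeries k := (sq k).comp (sc (-2))
  have hτX : τ PowerSeries.X = -(PowerSeries.C (2 : k) * PowerSeries.X ^ 2) := by
    show sq k (sc (-2) PowerSeries.X) = _
    rw [hscX, map_mul, sq_X, show sq k (PowerSeries.C (-2 : k)) = PowerSeries.C (-2 : k) from (sq k).commutes _, map_neg, neg_mul]
  have hτinj : Function.Injective τ := fun e e' h => by
    have := congrArg (sc (-(2⁻¹))) (sq_injective h)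
    change sc _ (sc _ e) = sc _ (sc _ e') at this
    rwa [hscc, hscc, mul_comm, hinv, hsc1, hsc1] at this
  have C2 : (PowerSeries.C (2 : k)) = (2 : PowerSeries k) := map_ofNat _ 2
  have hu := congrArg (bp k) hφu
  have hv := congrArg (bp k) hφv
  have hum := congrArg (bm k) hφu
  have hvm := congrArg (bm k) hφv
  simp only [map_add, map_sub, map_pow, bp_x, bp_y, bm_x, bm_y] at hu hv hum hvm
  have hpp : ∀ a, bp k (φ a) = bp k a := fun a => by
    refine DFunLike.congr_fun (ev_ext (u := (bp k).comp φ) (v := bp k) ?_ ?_) a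
    · rw [AlgHom.comp_apply, bp_x]; refine mul_left_cancel₀ h2' ?_; linear_combination hu - hv
    · rw [AlgHom.comp_apply, bp_y]; refine mul_left_cancel₀ h2' ?_; linear_combination hu + hv
  have hmm : ∀ a, bm k (φ a) = τ (bm k a) := fun a => by
    refine DFunLike.congr_fun (ev_ext (u := (bm k).comp φ) (v := τ.comp (bm k)) ?_ ?_) a
    · rw [AlgHom.comp_apply, AlgHom.comp_apply, bm_x, hτX, C2]; refine mul_left_cancel₀ h2' ?_; linear_combination hum - hvm
    · rw [AlgHom.comp_apply, AlgHom.comp_apply, bm_y, map_neg, hτX, C2]; refine mul_left_cancel₀ h2' ?_; linear_combination hum + hvm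
  have hinj : Function.Injective φ := fun a b h => branch_joint h2 (by rw [← hpp, ← hpp b, h]) (hτinj (by rw [← hmm, ← hmm, h]))
  have hker : ∀ a, bp k a = 0 → a ∈ Ideal.span {ArSing.y k 1 - ArSing.x k 1} := fun a ha => by
    obtain ⟨f, g, rfl⟩ := exists_eq a
    rw [bp_apply] at ha
    refine Ideal.mem_span_singleton.mpr ⟨ArSing.xMap k 1 g, ?_⟩
    rw [eq_neg_of_add_eq_zero_left ha, map_neg, map_mul, xMap_X]; ring
  have hvp : bp k (ArSing.y k 1 - ArSing.x k 1) = 0 := by rw [map_sub, bp_x, bp_y, sub_self]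
  have hvm0 : bm k (ArSing.y k 1 - ArSing.x k 1) = -(PowerSeries.X + PowerSeries.X) := by rw [map_sub, bm_x, bm_y]; ring
  have hX0 : PowerSeries.constantCoeff (PowerSeries.X : PowerSeries k) = 0 := PowerSeries.constantCoeff_X
  have hup : bp k (ArSing.x k 1 + ArSing.y k 1) ≠ 0 := fun h => by
    rw [map_add, bp_x, bp_y, ← two_mul] at h
    exact (mul_ne_zero h2' PowerSeries.X_ne_zero) h
  have huv : (ArSing.x k 1 + ArSing.y k 1) * (ArSing.y k 1 - ArSing.x k 1) = 0 := branch_joint h2
    (by rw [map_mul, hvp, mul_zero, map_zero]) (by rw [map_mul, map_add, bm_x, bm_y, add_neg_cancel, zero_mul, map_zero])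
  refine ⟨fun a => ⟨fun ha => ?_, ?_⟩, hinj, ?_, ?_, ?_, ?_⟩
  · have hev : neg k (bm k a) = bm k a := by rw [← hσm, ha]
    obtain ⟨e, o, he⟩ := exists_parity (bm k a)
    rw [he, neg_parity] at hev
    have ho : o = 0 := by
      have h := (parity_ext hev).2
      have : (2 : PowerSeries k) * o = 0 := by linear_combination (-1 : PowerSeries k) * h
      exact (mul_eq_zero.mp this).resolve_left h2'
    rw [ho, map_zero, mul_zero, add_zero] at he
    have hconst : PowerSeries.constantCoeff (bp k a) = PowerSeries.constantCoeff (sc (-(2⁻¹)) e) := by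
      obtain ⟨f, g, rfl⟩ := exists_eq a
      have h := congrArg PowerSeries.constantCoeff he
      rw [bm_apply, map_sub, map_mul, hX0, mul_zero, sub_zero, constantCoeff_sq] at h
      rw [bp_apply, map_add, map_mul, hX0, mul_zero, add_zero, h]
      simp only [sc, PowerSeries.coe_substAlgHom]
      obtain ⟨e', he'⟩ : PowerSeries.X ∣ e - PowerSeries.C (PowerSeries.constantCoeff e) := PowerSeries.X_dvd_iff.mpr (by simp)
      have := congrArg (fun z => PowerSeries.constantCoeff (sc (-(2⁻¹)) z)) he'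
      simp only [map_sub, map_mul, hscX, hscC, PowerSeries.constantCoeff_C] at this
      rw [hX0, mul_zero, zero_mul, sub_eq_zero] at this
      simpa [sc, PowerSeries.coe_substAlgHom] using this.symm
    obtain ⟨b, hb, hb'⟩ := exists_pair' h2 _ _ hconst
    refine ⟨b, branch_joint h2 ?_ ?_⟩
    · show bp k (φ b) = _
      rw [hpp, hb]
    · show bm k (φ b) = _
      rw [hmm, hb', he]
      show sq k (sc (-2) (sc (-(2⁻¹)) e)) = _
      rw [hscc, hinv, hsc1]
  · rintro ⟨b, rfl⟩
    show σ (φ b) = φ b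
    refine branch_joint h2 (hσp _) ?_
    rw [hσm, hmm]
    exact ArSingInv.neg_sq _
  · refine le_antisymm (Ideal.span_le.mpr ?_) (Ideal.span_le.mpr ?_)
    · rintro _ ⟨a, rfl⟩
      exact hker _ (by rw [map_sub, hσp, sub_self])
    · rw [Set.singleton_subset_iff]
      exact Ideal.subset_span ⟨ArSing.x k 1, by show σ _ - _ = _; rw [hx]⟩
  · intro h
    have := (mem_nonZeroDivisors_iff_right.mp h) _ huv
    exact hup (by rw [this, map_zero])
  · have hkb : Ideal.span {ArSing.y k 1 - ArSing.x k 1} = RingHom.ker (bp k).toRingHom :=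
      le_antisymm (Ideal.span_le.mpr (Set.singleton_subset_iff.mpr hvp)) hker
    refine ⟨⟨hkb ▸ RingHom.ker_isPrime _, bot_le⟩, fun q ⟨hq, _⟩ hle => ?_⟩
    rcases hq.mem_or_mem (huv ▸ q.zero_mem) with h | h
    · exact absurd (hkb.le (hle h)) hup
    · exact Ideal.span_le.mpr (Set.singleton_subset_iff.mpr h)
  · intro hflat
    let v := ArSing.y k 1 - ArSing.x k 1
    obtain ⟨n, a, z, hz', ha⟩ := @Module.Flat.isTrivialRelation_of_sum_smul_eq_zero (ArSing.ring k 1) (ArSing.ring k 1) _ _
      φ.toRingHom.toAlgebra.toModule hflat (Fin 1) _ ![ArSing.x k 1 + ArSing.y k 1] ![v] (by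
        rw [Fin.sum_univ_one]
        show φ (ArSing.x k 1 + ArSing.y k 1) * v = 0
        rw [hφu]; exact huv)
    have hdiv : ∀ j, ∃ w, φ (a 0 j) = v ^ 2 * w := fun j => by
      have h := congrArg (bp k) (ha j)
      rw [Fin.sum_univ_one, map_mul, map_zero] at h
      obtain ⟨c, hc⟩ := Ideal.mem_span_singleton.mp (hker _ ((mul_eq_zero.mp h).resolve_left hup))
      exact ⟨φ c, by rw [hc, map_mul, hφv]⟩
    choose w hw using hdiv
    have hv1 : v = v ^ 2 * ∑ j, w j * z j := by
      rw [Finset.mul_sum]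
      refine (hz' 0).trans (Finset.sum_congr rfl fun j _ => ?_)
      show φ (a 0 j) * z j = _
      rw [hw, mul_assoc]
    have h := congrArg (bm k) hv1
    rw [map_mul, map_pow, hvm0] at h
    have h1 := congrArg (PowerSeries.coeff 1) h
    rw [show (-(PowerSeries.X + PowerSeries.X) : PowerSeries k) ^ 2 * bm k (∑ j, w j * z j) =
      PowerSeries.X ^ 2 * (4 * bm k (∑ j, w j * z j)) by ring, PowerSeries.coeff_X_pow_mul', if_neg (by omega), map_neg, map_add,
      PowerSeries.coeff_one_X, one_add_one_eq_two, neg_eq_zero] at h1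
    exact h2 h1

end Groth.Agent.S14096
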