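import Groth.Statements.S14097
import Mathlib

set_option autoImplicit false
universe u
open ArSing

namespace Groth.Agent.S14097

/-- In any commutative ring, if h_0, …, h_(k-1) (k ≥ 2) and τ satisfy h_i^2 + τ h_i = 0, then ∏_(i ≤
k-2) (h_i + h_(i+1) + τ) = Σ_(j ≤ k-1) τ^(k-1-j) e_j(h), e_j the elementary symmetric functions.
(The published statement is the resulting formula for the class of the small diagonal in the Chow
ring of (P^1)^k, where the h_i are the hyperplane classes of the factors and satisfy these
relations; only the ring identity is asserted here.) -/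
theorem result (A : Type u) [CommRing A] (k : ℕ) (hk : 2 ≤ k) (τ : A)
    (h : ℕ → A) (hrel : ∀ i, i < k → h i ^ 2 + τ * h i = 0) :
    ∏ i ∈ Finset.range (k - 1), (h i + h (i + 1) + τ) =
      ∑ j ∈ Finset.range k, τ ^ (k - 1 - j) * (((Finset.range k).val.map h).esymm j) := by
  let e : ℕ → ℕ → A := fun N j => ((Finset.range N).val.map h).esymm j
  let S : ℕ → A := fun N => ∑ j ∈ Finset.range N, τ ^ (N - 1 - j) * e N j
  have he0 : ∀ N, e N 0 = 1 := fun N => by simp [e, Multiset.esymm]
  have hesucc : ∀ N j, e (N + 1) (j + 1) = e N (j + 1) + h N * e N j := by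
    intro N j
    simp only [e, Multiset.esymm, Finset.range_val, Multiset.range_succ, Multiset.map_cons, Multiset.powersetCard_cons,
      Multiset.map_add, Multiset.sum_add, Multiset.map_map, Function.comp_def, Multiset.prod_cons, Multiset.sum_map_mul_left]
  have hetop : ∀ N j, N < j → e N j = 0 := fun N j hj => by
    simp only [e, Multiset.esymm]
    rw [Multiset.powersetCard_eq_empty _ (by simpa using hj)]
    rfl
  have hS : ∀ N, S (N + 2) = τ * S (N + 1) + e (N + 1) (N + 1) + h (N + 1) * S (N + 1) := by
    intro N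
    simp only [S]
    rw [Finset.sum_range_succ' _ (N + 1)]
    have h1 : ∀ j ∈ Finset.range (N + 1), τ ^ (N + 2 - 1 - (j + 1)) * e (N + 2) (j + 1) =
        τ ^ (N - j) * e (N + 1) (j + 1) + h (N + 1) * (τ ^ (N + 1 - 1 - j) * e (N + 1) j) := by
      intro j _
      rw [hesucc, show N + 2 - 1 - (j + 1) = N - j by omega, show N + 1 - 1 - j = N - j by omega]
      ring
    rw [Finset.sum_congr rfl h1, Finset.sum_add_distrib, ← Finset.mul_sum]
    have h2 : τ * ∑ j ∈ Finset.range (N + 1), τ ^ (N + 1 - 1 - j) * e (N + 1) j + e (N + 1) (N + 1) =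
        ∑ j ∈ Finset.range (N + 1 + 1), τ ^ (N + 1 - j) * e (N + 1) j := by
      rw [Finset.sum_range_succ (n := N + 1), Finset.mul_sum, Nat.sub_self, pow_zero, one_mul]
      congr 1
      refine Finset.sum_congr rfl fun j hj => ?_
      rw [Finset.mem_range] at hj
      rw [show N + 1 - j = (N + 1 - 1 - j) + 1 by omega, pow_succ]
      ring
    rw [Finset.sum_range_succ' _ (N + 1)] at h2
    simp only [Nat.add_sub_add_right, he0, Nat.sub_zero] at h2 ⊢
    rw [show N + 2 - 1 = N + 1 by omega]
    linear_combination -h2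
  have hE : ∀ N, N + 1 ≤ k → h N * S (N + 1) = e (N + 1) (N + 1) := by
    intro N hN
    cases N with
    | zero =>
      rw [hesucc, hetop 0 1 (by omega)]
      simp [S, he0]
    | succ N =>
      rw [hS, hesucc (N + 1) (N + 1), hetop (N + 1) (N + 2) (by omega), zero_add]
      linear_combination S (N + 1) * hrel (N + 1) (by omega)
  have main : ∀ N, N + 1 ≤ k → ∏ i ∈ Finset.range N, (h i + h (i + 1) + τ) = S (N + 1) := by
    intro N
    induction N with
    | zero => intro _; simp [S, he0]
    | succ N ih =>
      intro hN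
      rw [Finset.prod_range_succ, ih (by omega), hS, ← hE N (by omega)]
      ring
  obtain ⟨N, rfl⟩ : ∃ N, k = N + 1 := ⟨k - 1, by omega⟩
  exact main N le_rfl

end Groth.Agent.S14097
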