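import Groth.Statements.S14101
import Mathlib
import Groth.Agent.SmoothReduced.Basic

set_option autoImplicit false
universe u
open CAlg

namespace Groth.Agent.S14101

open scoped TensorProduct

theorem mem_span_of_sq_mem (p : ℕ) (hp : p.Prime) (S : Type u) [CommRing S] [Algebra.Smooth ℤ S]
    (x : S) (h : x ^ 2 ∈ Ideal.span {(p : S)}) : x ∈ Ideal.span {(p : S)} := by
  haveI : Fact p.Prime := ⟨hp⟩
  let F := ULift.{u} (ZMod p)
  haveI : IsReduced F := isReduced_of_injective (ULift.ringEquiv (R := ZMod p)) (RingEquiv.injective _)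
  haveI : IsReduced (F ⊗[ℤ] S) := Groth.Agent.SmoothReduced.isReduced_of_smooth F _
  let inR : S →ₐ[ℤ] F ⊗[ℤ] S := Algebra.TensorProduct.includeRight
  have hp0 : (p : F) = 0 := (ULift.ringEquiv (R := ZMod p)).injective (by simp)
  have hx : inR x = 0 := by
    refine IsReduced.eq_zero _ ⟨2, ?_⟩
    obtain ⟨y, hy⟩ := Ideal.mem_span_singleton'.mp h
    rw [← map_pow, ← hy, map_mul, map_natCast, ← map_natCast (algebraMap F (F ⊗[ℤ] S)), hp0, map_zero, mul_zero]
  let g : F →+* S ⧸ Ideal.span {(p : S)} := (Ideal.Quotient.lift (Ideal.span {(p : ℤ)}) (Int.castRingHom _) (by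
      intro a ha
      obtain ⟨b, rfl⟩ := Ideal.mem_span_singleton'.mp ha
      simp only [map_mul, map_natCast]
      rw [← map_natCast (Ideal.Quotient.mk (Ideal.span {(p : S)})), Ideal.Quotient.eq_zero_iff_mem.mpr (Ideal.mem_span_singleton_self _), mul_zero])).comp
    ((Int.quotientSpanNatEquivZMod p).symm.toRingHom.comp (ULift.ringEquiv (R := ZMod p)).toRingHom)
  let L : F ⊗[ℤ] S →ₐ[ℤ] S ⧸ Ideal.span {(p : S)} :=
    Algebra.TensorProduct.lift g.toIntAlgHom (Ideal.Quotient.mk _).toIntAlgHom fun a b => Commute.all _ _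
  have := congrArg L hx
  rw [map_zero] at this
  refine Ideal.Quotient.eq_zero_iff_mem.mp (Eq.trans ?_ this)
  simp [L, inR]

theorem formallySmooth_int (K : Type u) [Field K] [CharZero K] [Algebra.EssFiniteType ℤ K] :
    Algebra.FormallySmooth ℤ K := by
  haveI : Algebra.EssFiniteType ℚ K := .of_comp ℤ ℚ K
  haveI : Algebra.FormallySmooth ℤ ℚ := .of_isLocalization (nonZeroDivisors ℤ)
  exact Algebra.FormallySmooth.comp ℤ ℚ K

theorem finite_primes_mem (A : Type u) [CommRing A] (T : Set (Ideal A)) (hT : T.Finite)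
    (hprime : ∀ P ∈ T, P.IsPrime) : {p : ℕ | p.Prime ∧ ∃ P ∈ T, (p : A) ∈ P}.Finite := by
  refine (hT.biUnion (t := fun P => {p : ℕ | p.Prime ∧ (p : A) ∈ P}) fun P hP => Set.Subsingleton.finite ?_).subset ?_
  · rintro p ⟨hp, hpP⟩ q ⟨hq, hqP⟩
    by_contra hne
    obtain ⟨a, b, hab⟩ := (((Nat.coprime_primes hp hq).mpr hne).cast (R := A))
    exact (hprime P hP).ne_top (Ideal.eq_top_iff_one _ |>.mpr (hab ▸ add_mem (Ideal.mul_mem_left _ a hpP) (Ideal.mul_mem_left _ b hqP)))
  · rintro p ⟨hp, P, hP, hpP⟩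
    exact Set.mem_biUnion hP ⟨hp, hpP⟩

/-- Affine form — let A be a reduced commutative ring of finite type over ℤ. Then for all but finitely
many prime numbers p the reduction A/pA is reduced. (The published statement is for a reduced scheme
of finite type over ℤ; such a scheme has a finite affine open cover, so the affine form carries the
same content.) -/
theorem result
    (A : Type u) [CommRing A] [Algebra.FiniteType ℤ A] [IsReduced A] :
    {p : ℕ | p.Prime ∧ ¬ IsReduced (A ⧸ Ideal.span {(p : A)})}.Finite := by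
  classical
  haveI : IsNoetherianRing A := Algebra.FiniteType.isNoetherianRing ℤ A
  haveI : Algebra.FinitePresentation ℤ A := Algebra.FinitePresentation.of_finiteType.mp inferInstance
  have hfin : (minimalPrimes A).Finite := minimalPrimes.finite_of_isNoetherianRing A
  -- minimal primes of characteristic zero
  let C : Set (Ideal A) := {P ∈ minimalPrimes A | ∀ q : ℕ, q.Prime → (q : A) ∉ P}
  have hCfin : C.Finite := hfin.subset fun P h => h.1
  have hsm : ∀ P, ∀ _ : P ∈ C, ∀ hP : P.IsPrime, (⟨P, hP⟩ : PrimeSpectrum A) ∈ Algebra.smoothLocus ℤ A := by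
    intro P hPC hP
    show Algebra.FormallySmooth ℤ (Localization.AtPrime P)
    let K := Localization.AtPrime P
    haveI : Ring.KrullDimLE 0 K := .of_isLocalization _ hPC.1 _
    haveI : IsReduced K := isReduced_localizationPreserves P.primeCompl K inferInstance
    letI : Field K := (Ring.KrullDimLE.isField_of_isReduced (R := K)).toField
    have hn : ∀ n : ℕ, n ≠ 0 → (n : A) ∉ P := by
      intro n
      induction n using Nat.recOnMul with
      | zero => simp
      | one => exact fun _ => by rw [Nat.cast_one]; exact (Ideal.ne_top_iff_one P).mp hP.ne_top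
      | prime q hq => exact fun _ => hPC.2 q hq
      | mul a b ha hb =>
        intro h hmem
        rw [Nat.cast_mul] at hmem
        exact (hP.mem_or_mem hmem).elim (ha (left_ne_zero_of_mul h)) (hb (right_ne_zero_of_mul h))
    haveI : CharZero K := charZero_of_inj_zero fun n h => by
      by_contra h0
      have hu : IsUnit (algebraMap A K (n : A)) := IsLocalization.map_units K (⟨_, hn n h0⟩ : P.primeCompl)
      rw [map_natCast, h] at hu
      exact not_isUnit_zero hu
    haveI : Algebra.EssFiniteType A K := .of_isLocalization _ P.primeCompl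
    haveI : Algebra.EssFiniteType ℤ K := .comp ℤ A K
    haveI h2 : @Algebra.EssFiniteType ℤ K _ _ (Ring.toIntAlgebra K) := by
      convert! ‹Algebra.EssFiniteType ℤ K›
      exact Subsingleton.elim _ _
    convert! formallySmooth_int K
    exact Subsingleton.elim _ _
  obtain ⟨I, hI⟩ := (PrimeSpectrum.isClosed_iff_zeroLocus_ideal _).mp
    (Algebra.isOpen_smoothLocus (R := ℤ) (A := A)).isClosed_compl
  obtain ⟨g, hgI, hgC⟩ : ∃ g ∈ I, ∀ P ∈ C, g ∉ P := by
    by_contra! h
    obtain ⟨P, hP, hle⟩ := (Ideal.subset_union_prime (s := hCfin.toFinset) (f := id) ⊥ ⊥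
      (fun P hP _ _ => (hCfin.mem_toFinset.mp hP).1.1.1)).mp (show (I : Set A) ⊆ ⋃ i ∈ (↑hCfin.toFinset : Set (Ideal A)), ((id i : Ideal A) : Set A) from
        fun x hx => by
          obtain ⟨P, hP, hxP⟩ := h x hx
          exact Set.mem_iUnion₂.mpr ⟨P, Finset.mem_coe.mpr (hCfin.mem_toFinset.mpr hP), hxP⟩)
    have hPC := hCfin.mem_toFinset.mp hP
    have hmem : (⟨P, hPC.1.1.1⟩ : PrimeSpectrum A) ∈ (Algebra.smoothLocus ℤ A)ᶜ := by
      rw [hI]; exact hle
    exact hmem (hsm P hPC hPC.1.1.1)
  have hDg : ↑(PrimeSpectrum.basicOpen g) ⊆ Algebra.smoothLocus ℤ A := by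
    intro x hx
    by_contra hxs
    have : x ∈ PrimeSpectrum.zeroLocus (I : Set A) := hI ▸ hxs
    exact hx (this hgI)
  haveI : Algebra.Smooth ℤ (Localization.Away g) := Algebra.basicOpen_subset_smoothLocus_iff_smooth.mp hDg
  have hass : (associatedPrimes A (A ⧸ Ideal.span {g})).Finite := associatedPrimes.finite A _
  refine ((finite_primes_mem A _ hfin fun P hP => hP.1.1).union
    (finite_primes_mem A _ hass fun P hP => hP.isPrime)).subset ?_
  rintro p ⟨hp, hred⟩
  by_contra hbad
  simp only [Set.mem_union, Set.mem_setOf_eq, not_or, not_and, not_exists] at hbad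
  refine hred ?_
  -- `g` is a nonzerodivisor modulo `p`
  have hgp : ∀ x : A, g * x ∈ Ideal.span {(p : A)} → x ∈ Ideal.span {(p : A)} := by
    intro x hx
    obtain ⟨y, hy⟩ := Ideal.mem_span_singleton'.mp hx
    have hy0 : (Ideal.Quotient.mk (Ideal.span {g}) y) = 0 := by
      by_contra hne
      have hpz : (p : A) • (Ideal.Quotient.mk (Ideal.span {g}) y) = 0 := by
        rw [Algebra.smul_def, Ideal.Quotient.algebraMap_eq, ← map_mul, Ideal.Quotient.eq_zero_iff_mem, mul_comm, hy]
        exact Ideal.mul_mem_right _ _ (Ideal.mem_span_singleton_self g)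
      have : (p : A) ∈ ⋃ P ∈ associatedPrimes A (A ⧸ Ideal.span {g}), (P : Set A) := by
        rw [biUnion_associatedPrimes_eq_zero_divisors]
        exact ⟨_, hne, hpz⟩
      obtain ⟨P, hP, hpP⟩ := Set.mem_iUnion₂.mp this
      exact hbad.2 hp P hP hpP
    obtain ⟨z, hz⟩ := Ideal.mem_span_singleton'.mp (Ideal.Quotient.eq_zero_iff_mem.mp hy0)
    have hw : g * (x - z * (p : A)) = 0 := by rw [mul_sub, ← hy, ← hz]; ring
    -- an integer prime to `p` kills `x - z * p`
    let Q : Finset (Ideal A) := hfin.toFinset.filter (fun P => P ∉ C)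
    have hq : ∀ P ∈ Q, ∃ q : ℕ, q.Prime ∧ (q : A) ∈ P ∧ q ≠ p := by
      intro P hP
      simp only [Q, Finset.mem_filter, Set.Finite.mem_toFinset, C, Set.mem_setOf_eq, not_and, not_forall, not_not] at hP
      obtain ⟨q, hq, hqP⟩ := hP.2 hP.1
      exact ⟨q, hq, hqP, fun e => hbad.1 hp P hP.1 (e ▸ hqP)⟩
    choose! q hq1 hq2 hq3 using hq
    have hN : ((∏ P ∈ Q, q P : ℕ) : A) * (x - z * (p : A)) = 0 := by
      refine IsReduced.eq_zero _ ((mem_nilradical).mp ?_)
      rw [nilradical_eq_sInf]
      refine Submodule.mem_sInf.mpr fun P hP => ?_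
      haveI : Ideal.IsPrime P := hP
      obtain ⟨P', hP', hle⟩ := Ideal.exists_minimalPrimes_le (I := (⊥ : Ideal A)) (J := P) bot_le
      refine hle ?_
      haveI := hP'.1.1
      by_cases hC : P' ∈ C
      · refine Ideal.mul_mem_left _ _ ((hP'.1.1.mem_or_mem (hw ▸ P'.zero_mem)).resolve_left (hgC P' hC))
      · have hQ : P' ∈ Q := Finset.mem_filter.mpr ⟨hfin.mem_toFinset.mpr hP', hC⟩
        refine Ideal.mul_mem_right _ _ ?_
        rw [Nat.cast_prod]
        exact Ideal.prod_mem (f := fun P => ((q P : ℕ) : A)) P' hQ (hq2 P' hQ)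
    have hcop : Nat.Coprime (∏ P ∈ Q, q P) p :=
      Nat.Coprime.prod_left fun P hP => (Nat.coprime_primes (hq1 P hP) hp).mpr (hq3 P hP)
    obtain ⟨a, b, hab⟩ := hcop.cast (R := A)
    refine Ideal.mem_span_singleton'.mpr ⟨z + b * (x - z * (p : A)), ?_⟩
    linear_combination hab * (x - z * (p : A)) - a * hN
  refine (isReduced_iff_pow_one_lt 2 one_lt_two).mpr fun x hx => ?_
  obtain ⟨x, rfl⟩ := Ideal.Quotient.mk_surjective x
  rw [← map_pow, Ideal.Quotient.eq_zero_iff_mem] at hx
  rw [Ideal.Quotient.eq_zero_iff_mem]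
  have hmap : (Ideal.span {(p : A)}).map (algebraMap A (Localization.Away g)) = Ideal.span {(p : Localization.Away g)} := by
    rw [Ideal.map_span, Set.image_singleton, map_natCast]
  have hx' : algebraMap A (Localization.Away g) x ∈ Ideal.span {(p : Localization.Away g)} := by
    haveI : @Algebra.Smooth ℤ _ _ _ (Ring.toIntAlgebra (Localization.Away g)) := by
      convert! ‹Algebra.Smooth ℤ (Localization.Away g)›
      exact Subsingleton.elim _ _
    refine mem_span_of_sq_mem p hp _ _ ?_
    rw [← map_pow, ← hmap]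
    exact Ideal.mem_map_of_mem _ hx
  rw [← hmap] at hx'
  obtain ⟨m, hm, hmx⟩ := (IsLocalization.algebraMap_mem_map_algebraMap_iff (Submonoid.powers g) _ _ _).mp hx'
  obtain ⟨k, rfl⟩ := hm
  clear hx' hx
  induction k with
  | zero => simpa using hmx
  | succ k ih => exact ih (hgp _ (by rwa [← mul_assoc, ← pow_succ']))

end Groth.Agent.S14101
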