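import Groth.Statements.S14102
import Mathlib
import Groth.Agent.DerCat.Ghost
import Groth.Agent.FlatComplex.Elementwise

set_option autoImplicit false
universe w u
open DCoh


namespace Groth.Agent.S14102

set_option backward.isDefEq.respectTransparency false
set_option backward.defeqAttrib.useBackward true

open CategoryTheory CategoryTheory.Limits MonoidalCategory Groth.Agent.FlatComplex

lemma homology_Q_eq_zero {C : Type*} [Category C] [Abelian C] [HasDerivedCategory C] {X Y : CochainComplex C ℤ} (f : X ⟶ Y) (q : ℤ)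
    (h : HomologicalComplex.homologyMap f q = 0) : (DerivedCategory.homologyFunctor C q).map (DerivedCategory.Q.map f) = 0 := by
  have hnat := NatIso.naturality_1 (DerivedCategory.homologyFunctorFactors C q) f
  rw [← cancel_epi ((DerivedCategory.homologyFunctorFactors C q).inv.app _),
    ← cancel_mono ((DerivedCategory.homologyFunctorFactors C q).hom.app _), comp_zero, zero_comp, Category.assoc]
  exact hnat.trans h

section
variable {A : Type u} [CommRing A] (K : CochainComplex (ModuleCat.{u} A) ℤ) (J : Ideal A)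

noncomputable abbrev T (e : ℕ) : CochainComplex (ModuleCat.{u} A) ℤ :=
  (((curriedTensor (ModuleCat.{u} A)).obj (ModuleCat.of A ↥(J ^ e))).mapHomologicalComplex (ComplexShape.up ℤ)).obj K

noncomputable abbrev ι {e e' : ℕ} (h : e ≤ e') : T K J e' ⟶ T K J e :=
  (NatTrans.mapHomologicalComplex ((curriedTensor (ModuleCat.{u} A)).map
    (ModuleCat.ofHom (Submodule.inclusion (p := J ^ e') (p' := J ^ e) (Ideal.pow_le_pow_right h)))) (ComplexShape.up ℤ)).app K

noncomputable def ev (e : ℕ) (q : ℤ) : (T K J e).X q →ₗ[A] K.X q :=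
  TensorProduct.lift ((LinearMap.lsmul A (K.X q)).comp (J ^ e).subtype)

lemma ev_d (e : ℕ) (q q' : ℤ) (z : (T K J e).X q) : ev K J e q' ((T K J e).d q q' z) = K.d q q' (ev K J e q z) := by
  have h : (ev K J e q').comp ((T K J e).d q q').hom = (K.d q q').hom.comp (ev K J e q) :=
    TensorProduct.ext' fun r x => (map_smul (K.d q q').hom (r : A) x).symm
  exact LinearMap.congr_fun h z

lemma ev_ι {e e' : ℕ} (h : e ≤ e') (q : ℤ) (z : (T K J e').X q) : ev K J e q ((ι K J h).f q z) = ev K J e' q z := by
  have h' : (ev K J e q).comp ((ι K J h).f q).hom = ev K J e' q := TensorProduct.ext' fun r x => rfl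
  exact LinearMap.congr_fun h' z

lemma range_ev (e : ℕ) (q : ℤ) : LinearMap.range (ev K J e q) = J ^ e • (⊤ : Submodule A (K.X q)) := by
  apply le_antisymm
  · rintro _ ⟨z, rfl⟩
    refine TensorProduct.induction_on (motive := fun z => ev K J e q z ∈ J ^ e • (⊤ : Submodule A (K.X q))) z ?_ (fun r x => ?_) (fun x y hx hy => ?_)
    · exact (map_zero (ev K J e q)).symm ▸ zero_mem _
    · exact Submodule.smul_mem_smul r.2 Submodule.mem_top
    · exact (map_add (ev K J e q) x y).symm ▸ add_mem hx hy
  · rw [Submodule.smul_le]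
    intro r hr x _
    exact ⟨(⟨r, hr⟩ : ↥(J ^ e)) ⊗ₜ x, rfl⟩

lemma ev_injective (e : ℕ) (q : ℤ) [Module.Flat A (K.X q)] : Function.Injective (ev K J e q) := by
  have h : ev K J e q = (TensorProduct.lid A (K.X q)).toLinearMap.comp ((J ^ e).subtype.rTensor (K.X q)) :=
    TensorProduct.ext' fun r x => rfl
  rw [h]
  exact (TensorProduct.lid A (K.X q)).injective.comp (Module.Flat.rTensor_preserves_injective_linearMap _ Subtype.val_injective)

lemma exists_bound [IsNoetherianRing A] (hfin : ∀ q, Module.Finite A (K.X q)) (hproj : ∀ q, Module.Projective A (K.X q))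
    (hJ : ∀ q : ℤ, ∀ x ∈ J, ∀ c : ↑(K.homology q), x • c = 0) (q : ℤ) :
    ∃ k : ℕ, ∀ e e' : ℕ, ∀ h : e ≤ e', e + k ≤ e' → HomologicalComplex.homologyMap (ι K J h) q = 0 := by
  have := hfin q
  let Z : Submodule A (K.X q) := LinearMap.ker (K.sc q).g.hom
  obtain ⟨c, hc⟩ := J.exists_pow_inf_eq_pow_smul Z
  refine ⟨c + 1, fun e e' h he => ?_⟩
  apply ModuleCat.hom_ext; apply LinearMap.ext
  intro y
  obtain ⟨z, hz, rfl⟩ := cls_surjective (S := (T K J e').sc q) y
  obtain ⟨hz', e1⟩ := homologyMap_cls ((HomologicalComplex.shortComplexFunctor (ModuleCat.{u} A) (ComplexShape.up ℤ) q).map (ι K J h)) z hz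
  refine e1.trans ?_
  have h0 : cls ((T K J e).sc q) 0 (map_zero _) = 0 := by
    unfold cls
    rw [show (⟨0, map_zero _⟩ : LinearMap.ker ((T K J e).sc q).g.hom) = 0 from rfl, map_zero, map_zero]
  refine Eq.trans ?_ h0
  refine (cls_eq_cls_iff _ _ _ _).mpr ?_
  have hB : J • Z ≤ LinearMap.range (K.sc q).f.hom := Submodule.smul_le.mpr fun r hr x hx => by
    have hx' : (K.sc q).g x = 0 := hx
    have hrx : (K.sc q).g (r • x) = 0 := by rw [map_smul, hx', smul_zero]
    have hz0 : (K.sc q).g ((0 : A) • x) = 0 := by rw [zero_smul, map_zero]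
    have e2 : cls (K.sc q) (r • x) hrx = cls (K.sc q) ((0 : A) • x) hz0 := by
      unfold cls
      rw [show (⟨r • x, hrx⟩ : LinearMap.ker (K.sc q).g.hom) = r • ⟨x, hx'⟩ from rfl,
        show (⟨(0 : A) • x, hz0⟩ : LinearMap.ker (K.sc q).g.hom) = (0 : A) • ⟨x, hx'⟩ from rfl, map_smul, map_smul, map_smul, map_smul]
      exact (hJ q r hr _).trans (zero_smul A _).symm
    obtain ⟨w, hw⟩ := (cls_eq_cls_iff _ _ _ _).mp e2
    exact ⟨w, by simpa using hw.symm⟩
  have hx : ev K J e' q z ∈ J ^ e • LinearMap.range (K.sc q).f.hom := by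
    have h1 : ev K J e' q z ∈ J ^ e' • ⊤ ⊓ Z := ⟨range_ev K J e' q ▸ LinearMap.mem_range_self _ z, by
      show (K.d q ((ComplexShape.up ℤ).next q)) (ev K J e' q z) = 0
      rw [← ev_d]
      exact (congrArg (ev K J e' ((ComplexShape.up ℤ).next q)) hz).trans (map_zero _)⟩
    rw [hc e' (by omega)] at h1
    refine Submodule.smul_mono le_rfl hB ?_
    rw [← Submodule.mul_smul, ← pow_succ]
    exact Submodule.smul_mono (Ideal.pow_le_pow_right (show e + 1 ≤ e' - c by omega)) inf_le_right h1
  have : (J ^ e • LinearMap.range (K.sc q).f.hom : Submodule A (K.X q)) = (LinearMap.range (ev K J e ((ComplexShape.up ℤ).prev q))).map (K.sc q).f.hom := by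
    rw [range_ev, Submodule.map_smul'', Submodule.map_top]
  rw [this] at hx
  obtain ⟨_, ⟨w, rfl⟩, hw⟩ := hx
  refine ⟨w, ?_⟩
  have := hproj q
  apply ev_injective K J e q
  show ev K J e q ((ι K J h).f q z - 0) = ev K J e q ((T K J e).d _ q w)
  rw [sub_zero, ev_d, ev_ι]
  exact hw.symm

end

open CategoryTheory MonoidalCategory in
/-- Affine form — let A be a Noetherian commutative ring, K a bounded cochain complex of finitely
generated projective A-modules and J an ideal of A that annihilates every cohomology module of K.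
Then for some natural number n and every positive integer m, the map J^(n+m) ⊗_A K → J^m ⊗_A K
induced by the inclusion of ideals is zero in the derived category of A-modules. (The published
statement is for a perfect complex on a noetherian scheme or formal scheme with the derived tensor
product; over an affine scheme a perfect complex is represented by a bounded complex of finitely
generated projective modules, for which the derived tensor product with J^m is the termwise tensor
product used here.) -/
theorem result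
    (A : Type u) [CommRing A] [IsNoetherianRing A] [HasDerivedCategory.{w} (ModuleCat.{u} A)]
    (K : CochainComplex (ModuleCat.{u} A) ℤ) (a b : ℤ)
    (hK : ∀ q : ℤ, q < a ∨ b < q → Limits.IsZero (K.X q))
    (hfin : ∀ q : ℤ, Module.Finite A (K.X q)) (hproj : ∀ q : ℤ, Module.Projective A (K.X q))
    (J : Ideal A) (hJ : ∀ q : ℤ, ∀ x ∈ J, ∀ c : ↑(K.homology q), x • c = 0) :
    ∃ n : ℕ, ∀ m : ℕ, 0 < m →
      DerivedCategory.Q.map
        ((NatTrans.mapHomologicalComplex
          ((curriedTensor (ModuleCat.{u} A)).map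
            (ModuleCat.ofHom (Submodule.inclusion (p := J ^ (n + m)) (p' := J ^ m)
              (Ideal.pow_le_pow_right (Nat.le_add_left m n)))))
          (ComplexShape.up ℤ)).app K) = 0 := by
  classical
  choose k hk using exists_bound K J hfin hproj hJ
  let N : ℕ := (Finset.Icc a b).sup k
  let L : ℕ := (b - a + 1).toNat
  refine ⟨L * N, fun m _ => ?_⟩
  let e : ℕ → ℕ := fun i => (L - i) * N + m
  have he : ∀ i, e (i + 1) ≤ e i := fun i => Nat.add_le_add_right (Nat.mul_le_mul_right N (by omega)) m
  have he0 : ∀ i, e i ≤ e 0 := fun i => Nat.add_le_add_right (Nat.mul_le_mul_right N (by omega)) m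
  have hcomp : ∀ {p q r : ℕ} (h1 : p ≤ q) (h2 : q ≤ r), ι K J h2 ≫ ι K J h1 = ι K J (h1.trans h2) := fun {p q r} h1 h2 => by
    apply HomologicalComplex.hom_ext; intro i
    apply ModuleCat.hom_ext
    exact TensorProduct.ext' fun _ _ => rfl
  have hzero : ∀ (p : ℕ) (q : ℤ), q < a ∨ b < q → IsZero ((T K J p).X q) := fun p q hq => by
    have : Subsingleton (K.X q) := ModuleCat.subsingleton_of_isZero (hK q hq)
    exact @ModuleCat.isZero_of_subsingleton A _ _ (show Subsingleton (TensorProduct A ↥(J ^ p) (K.X q)) from inferInstance)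
  have hLE : ∀ p : ℕ, (T K J p).IsStrictlyLE b := fun p => (CochainComplex.isStrictlyLE_iff _ _).2 fun i hi => hzero p i (Or.inr hi)
  have hGE : ∀ p : ℕ, (T K J p).IsStrictlyGE a := fun p => (CochainComplex.isStrictlyGE_iff _ _).2 fun i hi => hzero p i (Or.inl hi)
  obtain ⟨g, hg⟩ := Groth.Agent.DerCat.exists_factor_of_chain (fun i => DerivedCategory.Q.obj (T K J (e i)))
    (fun i => DerivedCategory.Q.map (ι K J (he i))) (fun i => DerivedCategory.Q.map (ι K J (he0 i)))
    (by
      rw [← CategoryTheory.Functor.map_id]; congr 1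
      apply HomologicalComplex.hom_ext; intro i
      apply ModuleCat.hom_ext
      exact TensorProduct.ext' fun _ _ => rfl)
    b L (fun i _ => by rw [← Functor.map_comp, hcomp]) (by have := hLE (e 0); infer_instance)
    (fun i hi => by
      have hq : b - (i : ℤ) ∈ Finset.Icc a b := Finset.mem_Icc.mpr ⟨by omega, by omega⟩
      have hN : k (b - i) ≤ N := Finset.le_sup hq
      have h0 := hk (b - i) (e (i + 1)) (e i) (he i) (by
        have : (L - i) * N = (L - (i + 1)) * N + N := by rw [← Nat.succ_mul]; congr 1; omega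
        simp only [e]; omega)
      exact homology_Q_eq_zero _ _ h0)
  have hGEm : ∀ p : ℕ, (DerivedCategory.Q.obj (T K J p)).IsGE a := fun p => by have := hGE p; infer_instance
  have hz : ((DerivedCategory.TStructure.t (C := ModuleCat.{u} A)).truncLEι (b - L)).app (DerivedCategory.Q.obj (T K J (e L))) = 0 := by
    have : DerivedCategory.TStructure.t.IsGE ((𝟭 (DerivedCategory (ModuleCat.{u} A))).obj (DerivedCategory.Q.obj (T K J (e L)))) a := hGEm (e L)
    exact DerivedCategory.TStructure.t.zero _ (b - L) a (by omega)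
  rw [hz, comp_zero] at hg
  have eL : e L = m := by simp [e]
  have e0 : e 0 = L * N + m := by simp [e]
  clear_value e
  have : ∀ (p p' : ℕ) (h : p ≤ p'), p = e L → p' = e 0 → DerivedCategory.Q.map (ι K J h) = 0 := by
    rintro p p' h rfl rfl; exact hg.symm
  exact this m (L * N + m) (Nat.le_add_left m _) eL.symm e0.symm

end Groth.Agent.S14102
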