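import Groth.Statements.S9779
import Groth.Agent.NoethPts.Basic
import Groth.Agent.FpqcDescent.Specialization
import Mathlib.AlgebraicGeometry.Morphisms.QuasiFinite
-- import your own Groth.Agent.* helpers here

set_option autoImplicit false
universe u
open FlatMor

namespace Groth.Agent.S9779

open AlgebraicGeometry CategoryTheory Limits in
/-- Suppose S is locally Noetherian and the morphism f : X ⟶ S is locally of finite type; take x a point
of X closed in its fibre, and U ⊆ X an open subscheme not meeting the fibre through x but with x in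
the closure of U. Then there is a closed subscheme Z of X passing through x such that Z ⟶ S is
quasi-finite at x and Z contains a point z of U specializing to x with f z ≠ f x. -/
theorem result {X S : Scheme.{u}} (f : X ⟶ S) [LocallyOfFiniteType f] [IsLocallyNoetherian S] (x : X)
    (hcl : IsClosed (Subtype.val ⁻¹' {x} : Set ↑(f ⁻¹' {f x}))) (U : X.Opens)
    (hU : ∀ x' ∈ U, f x' ≠ f x) (hxU : x ∈ closure (U : Set ↑X)) :
    ∃ (I : X.IdealSheafData) (z₀ x₀ : ↑I.subscheme), I.subschemeι x₀ = x ∧ (I.subschemeι ≫ f).QuasiFiniteAt x₀ ∧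
      I.subschemeι z₀ ∈ U ∧ I.subschemeι z₀ ⤳ x ∧ f (I.subschemeι z₀) ≠ f x := by
  classical
  have hNX : IsLocallyNoetherian X := LocallyOfFiniteType.isLocallyNoetherian f
  have key : ∀ {T : Scheme.{u}} [IsLocallyNoetherian T] (V : T.Opens) {a : T},
      a ∈ closure (V : Set T) → ∃ b ∈ V, b ⤳ a := by
    intro T _ V a ha
    obtain ⟨b, hb⟩ := Groth.Agent.FpqcDescent.exists_specializes_of_mem_closure_range V.ι (x := a)
      (by rw [Scheme.Opens.range_ι]; exact ha)
    exact ⟨V.ι b, b.2, hb⟩
  obtain ⟨y, hyU, hyx⟩ := key U hxU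
  let j := X.fromSpecStalk x
  have hje : Topology.IsEmbedding j := j.isEmbedding
  have hjx : j (IsLocalRing.closedPoint (X.presheaf.stalk x)) = x := Scheme.fromSpecStalk_closedPoint
  have hne : (j ⁻¹' (U : Set X)).Nonempty := by
    obtain ⟨y', hy'⟩ : y ∈ Set.range j := by rw [Scheme.range_fromSpecStalk]; exact hyx
    exact ⟨y', show j y' ∈ U by rw [hy']; exact hyU⟩
  obtain ⟨p, hpU, hp⟩ := Groth.Agent.NoethPts.exists_isLocallyClosed_singleton
    ((U.isOpen.preimage j.continuous).isLocallyClosed) hne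
  have hjp : j p ⤳ x := by
    have : j p ∈ Set.range j := ⟨p, rfl⟩
    rw [Scheme.range_fromSpecStalk] at this
    exact this
  have hfz : f (j p) ≠ f x := hU _ hpU
  have hpts : ∀ w : X, j p ⤳ w → w ⤳ x → w = j p ∨ w = x := by
    intro w hzw hwx
    obtain ⟨q, rfl⟩ : w ∈ Set.range j := by rw [Scheme.range_fromSpecStalk]; exact hwx
    rw [hje.isInducing.specializes_iff] at hzw
    by_cases hq : q = p
    · exact Or.inl (by rw [hq])
    · refine Or.inr ?_
      rw [Groth.Agent.NoethPts.eq_of_le_of_le hp ((PrimeSpectrum.le_iff_specializes p q).2 hzw)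
        (r := IsLocalRing.closedPoint (X.presheaf.stalk x))
        (IsLocalRing.le_maximalIdeal q.isPrime.ne_top) hq]
      exact hjx
  let Zc : TopologicalSpace.Closeds X := ⟨closure {j p}, isClosed_closure⟩
  let I := Scheme.IdealSheafData.vanishingIdeal Zc
  have hrange : Set.range I.subschemeι = closure {j p} := by
    rw [Scheme.IdealSheafData.range_subschemeι]
    show ((Scheme.IdealSheafData.vanishingIdeal Zc).support : Set X) = _
    rw [Scheme.IdealSheafData.coe_support_vanishingIdeal]; simp [Zc]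
  obtain ⟨z₀, hz₀⟩ : j p ∈ Set.range I.subschemeι := hrange ▸ subset_closure rfl
  obtain ⟨x₀, hx₀⟩ : x ∈ Set.range I.subschemeι := hrange ▸ hjp.mem_closure
  refine ⟨I, z₀, x₀, hx₀, ?_, hz₀ ▸ hpU, hz₀ ▸ hjp, hz₀ ▸ hfz⟩
  rw [Scheme.Hom.quasiFiniteAt_iff_isOpen_singleton_asFiber]
  let g := I.subschemeι ≫ f
  have hg : LocallyOfFiniteType g := inferInstanceAs (LocallyOfFiniteType (I.subschemeι ≫ f))
  let T := g.fiber (g x₀)
  have : LocallyOfFiniteType (g.fiberToSpecResidueField (g x₀)) := MorphismProperty.pullback_snd _ _ hg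
  have : IsLocallyNoetherian T :=
    LocallyOfFiniteType.isLocallyNoetherian (g.fiberToSpecResidueField (g x₀))
  let v : T → X := fun b => I.subschemeι (g.fiberι _ b)
  have hv : Continuous v := I.subschemeι.continuous.comp (g.fiberι (g x₀)).continuous
  have hvi : Function.Injective v :=
    I.subschemeι.isEmbedding.injective.comp (g.fiberι (g x₀)).isEmbedding.injective
  have hva : v (g.asFiber x₀) = x := by simp only [v, Scheme.Hom.fiberι_asFiber, hx₀]
  have hvf : ∀ b, f (v b) = f x := by
    intro b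
    have h1 : g.fiberι (g x₀) b ∈ Set.range (g.fiberι (g x₀)) := ⟨b, rfl⟩
    rw [Scheme.Hom.range_fiberι] at h1
    rw [← hx₀]
    exact h1
  obtain ⟨C, hC, hCx⟩ := isClosed_induced_iff.1 hcl
  have hclosed : IsClosed ({g.asFiber x₀} : Set T) := by
    convert hC.preimage hv using 1
    refine Set.ext fun b => ⟨fun hb => ?_, fun hb => ?_⟩
    · rw [Set.mem_singleton_iff] at hb
      have := (Set.ext_iff.1 hCx ⟨x, rfl⟩).2 rfl
      show v b ∈ C
      rw [hb, hva]; exact this
    · have := (Set.ext_iff.1 hCx ⟨v b, hvf b⟩).1 hb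
      exact hvi (this.trans hva.symm)
  show IsOpen ({g.asFiber x₀} : Set T)
  have hna : g.asFiber x₀ ∉ closure ({g.asFiber x₀}ᶜ : Set T) := by
    intro ha
    obtain ⟨b, hb, hba⟩ := key ⟨_, hclosed.isOpen_compl⟩ ha
    refine hb (hvi ?_)
    rw [hva]
    rcases hpts (v b) (specializes_iff_mem_closure.2 (hrange ▸ ⟨_, rfl⟩))
      (hva ▸ hba.map hv) with h | h
    · exact absurd (h ▸ hvf b) hfz
    · exact h
  have : ({g.asFiber x₀} : Set T) = (closure ({g.asFiber x₀}ᶜ : Set T))ᶜ := by
    refine Set.Subset.antisymm (Set.singleton_subset_iff.2 hna) ?_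
    intro b hb
    by_contra h
    exact hb (subset_closure h)
  rw [this]
  exact isClosed_closure.isOpen_compl
end Groth.Agent.S9779
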