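import Groth.Statements.S1411
import Groth.Agent.S9779

set_option autoImplicit false
universe u
open FlatMor

namespace Groth.Agent.S1411

open AlgebraicGeometry CategoryTheory Limits in
/-- Let f : X → S be locally of finite type with S locally Noetherian, x a point closed in its fibre,
and U an open of X containing a point x' specializing to x with f x' ≠ f x. Then there is a closed
subscheme Z of X passing through x such that Z → S is quasi-finite at x and Z contains a point z ∈ U
with z ⤳ x and f z ≠ f x. -/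
theorem result {X S : Scheme.{u}} (f : X ⟶ S) [LocallyOfFiniteType f] [IsLocallyNoetherian S] (x : X)
    (hcl : IsClosed (Subtype.val ⁻¹' {x} : Set ↑(f ⁻¹' {f x}))) (U : X.Opens) (hx' : ∃ x' : X, x' ∈ U ∧ x' ⤳ x ∧ f x' ≠ f x) :
    ∃ (I : X.IdealSheafData) (z₀ x₀ : ↑I.subscheme), I.subschemeι x₀ = x ∧ (I.subschemeι ≫ f).QuasiFiniteAt x₀ ∧
      I.subschemeι z₀ ∈ U ∧ I.subschemeι z₀ ⤳ x ∧ f (I.subschemeι z₀) ≠ f x := by
  obtain ⟨x', hxU, hsp, hne⟩ := hx'
  let C : Set S := closure {f x}
  let V : X.Opens := U ⊓ ⟨f ⁻¹' Cᶜ, isClosed_closure.isOpen_compl.preimage f.continuous⟩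
  have hV : x' ∈ V := ⟨hxU, fun hc => hne ((hsp.map f.continuous).antisymm (specializes_iff_mem_closure.2 hc)).eq⟩
  obtain ⟨I, z₀, x₀, h1, h2, h3, h4, h5⟩ := Groth.Agent.S9779.result f x hcl V
    (fun y hy e => hy.2 (show f y ∈ C by rw [e]; exact subset_closure rfl))
    (closure_mono (Set.singleton_subset_iff.2 hV) hsp.mem_closure)
  exact ⟨I, z₀, x₀, h1, h2, h3.1, h4, h5⟩

end Groth.Agent.S1411
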