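import Groth.Statements.S1412
import Groth.Agent.FlatMorLib.SpecStalk
import Mathlib.AlgebraicGeometry.Morphisms.WeaklyEtale

set_option autoImplicit false
universe u
open FlatMor

namespace Groth.Agent.S1412

open AlgebraicGeometry CategoryTheory Limits in
/-- A morphism of schemes f : X → Y is weakly étale (flat with flat diagonal) if and only if for every
point x of X the local ring map O_{Y, f(x)} → O_{X, x} is weakly étale, that is, flat and with flat
multiplication map O_{X,x} ⊗_{O_{Y, f(x)}} O_{X,x} → O_{X,x}. -/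
theorem result {X Y : Scheme.{u}} (f : X ⟶ Y) :
    WeaklyEtale f ↔ ∀ x : X, (f.stalkMap x).hom.Flat ∧
      (letI := (f.stalkMap x).hom.toAlgebra
       (Algebra.TensorProduct.lmul' (S := ↑(X.presheaf.stalk x)) (↑(Y.presheaf.stalk (f x)))).toRingHom.Flat) := by
  have hj : ∀ {Z : Scheme.{u}} (z : Z), WeaklyEtale (Z.fromSpecStalk z) := by
    intro Z z
    exact ⟨Groth.Agent.FlatMorLib.flat_fromSpecStalk z, inferInstance⟩
  have hkey : ∀ x : X, WeaklyEtale (Spec.map (f.stalkMap x)) ↔ ((f.stalkMap x).hom.Flat ∧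
      (letI := (f.stalkMap x).hom.toAlgebra
       (Algebra.TensorProduct.lmul' (S := ↑(X.presheaf.stalk x)) (↑(Y.presheaf.stalk (f x)))).toRingHom.Flat)) := by
    intro x
    letI := (f.stalkMap x).hom.toAlgebra
    have e : Spec.map (f.stalkMap x) =
        Spec.map (CommRingCat.ofHom (algebraMap (Y.presheaf.stalk (f x)) (X.presheaf.stalk x))) := rfl
    have d : Flat (Limits.pullback.diagonal (Spec.map (f.stalkMap x))) ↔
        (Algebra.TensorProduct.lmul' (S := ↑(X.presheaf.stalk x)) (↑(Y.presheaf.stalk (f x)))).toRingHom.Flat := by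
      rw [e, AlgebraicGeometry.diagonal_SpecMap, MorphismProperty.cancel_right_of_respectsIso (P := @Flat),
        Flat.SpecMap_iff, CommRingCat.hom_ofHom]
    exact ⟨fun h => ⟨Flat.SpecMap_iff.1 h.flat, d.1 h.flat_diagonal⟩,
      fun h => ⟨Flat.SpecMap_iff.2 h.1, d.2 h.2⟩⟩
  constructor
  · intro h x
    have := hj x
    have := hj (f x)
    have : WeaklyEtale (Spec.map (f.stalkMap x) ≫ Y.fromSpecStalk (f x)) := by
      rw [Scheme.SpecMap_stalkMap_fromSpecStalk]; infer_instance
    exact (hkey x).1 (WeaklyEtale.of_comp _ (Y.fromSpecStalk (f x)))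
  intro h
  refine ⟨Flat.of_stalkMap f fun x => (h x).1, Flat.of_stalkMap _ fun x => ?_⟩
  have := hj x
  have := hj (f x)
  have := (hkey x).2 (h x)
  have hcomp : WeaklyEtale (X.fromSpecStalk x ≫ f) := by
    rw [← Scheme.SpecMap_stalkMap_fromSpecStalk]; infer_instance
  let j := X.fromSpecStalk x
  let m : Limits.pullback (j ≫ f) (j ≫ f) ⟶ Limits.pullback f f :=
    Limits.pullback.map _ _ _ _ j j (𝟙 Y) (Category.comp_id _) (Category.comp_id _)
  have hm : Flat m := MorphismProperty.pullbackMap (P := @Flat) (f := j ≫ f) (g := j ≫ f) (f' := f) (g' := f) (inferInstance : Flat j) (inferInstance : Flat j)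
    rfl rfl
  have e : j ≫ Limits.pullback.diagonal f = Limits.pullback.diagonal (j ≫ f) ≫ m := by
    apply Limits.pullback.hom_ext <;>
      simp only [m, Category.assoc, Limits.pullback.lift_fst, Limits.pullback.lift_snd, Limits.pullback.diagonal_fst,
        Limits.pullback.diagonal_snd, Limits.pullback.diagonal_fst_assoc, Limits.pullback.diagonal_snd_assoc, Category.comp_id]
  have hf : Flat (j ≫ Limits.pullback.diagonal f) := by rw [e]; infer_instance
  have hd := (Groth.Agent.FpqcDescent.flat_stalkMap_comp_iff j (Limits.pullback.diagonal f)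
    (IsLocalRing.closedPoint (X.presheaf.stalk x)) (Flat.stalkMap _ _)).1 (Flat.stalkMap _ _)
  have hx : j (IsLocalRing.closedPoint (X.presheaf.stalk x)) = x := Scheme.fromSpecStalk_closedPoint
  rwa [hx] at hd

end Groth.Agent.S1412
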