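import Groth.Statements.S14123
import Groth.Agent.GmRescale.Root
import Mathlib
-- import your own Groth.Agent.* helpers here

set_option autoImplicit false
universe u v
open GmQuot

namespace Groth.Agent.S14123

/-- Let `A = ⊕_{d ∈ ℤ} A_d` be a graded commutative ring whose ideal `I₊` generated by the homogeneous
elements of positive degree is finitely generated, `R` a discrete valuation ring with fraction field
`K`, and `φ : A → R` a ring map with `φ(I₊) ≠ 0` and `φ(I₊)` inside the maximal ideal. Then after a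
finite extension `K'/K` and a discrete valuation ring `R'` of `K'` dominating `R` there are a
nonzero non-unit `ϖ ∈ R'` and a ring map `g : A → R'` with `g(a) ϖ^d = φ(a)` for every homogeneous
`a` of degree `d` (so `g` is `φ` rescaled through the grading by `ϖ`), such that `g(I₊) R' = R'`.
(The published statement is phrased for the quotient stack of `Spec A` by the multiplicative group
and its closed substack cut out by `I₊`, in a setting where `A` is Noetherian, being of finite type
over a Noetherian base: an `R`-point whose closed point lies in that substack and whose generic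
point does not admits, after a finite extension, an elementary modification avoiding the substack;
this row is the graded-ring statement the printed argument proves, assuming only that `I₊` is
finitely generated, which is all that argument uses, and with `ϖ` not required to be a uniformizer.) -/
theorem result
    {A : Type u} [CommRing A] (𝒜 : ℤ → AddSubgroup A) [GradedRing 𝒜]
    (hfg : (Ideal.span {a : A | ∃ d : ℤ, 0 < d ∧ a ∈ 𝒜 d}).FG)
    (R : Type v) [CommRing R] [IsDomain R] [IsDiscreteValuationRing R]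
    (K : Type v) [Field K] [Algebra R K] [IsFractionRing R K]
    (φ : A →+* R)
    (hle : Ideal.map φ (Ideal.span {a : A | ∃ d : ℤ, 0 < d ∧ a ∈ 𝒜 d}) ≤ IsLocalRing.maximalIdeal R)
    (hne : Ideal.map φ (Ideal.span {a : A | ∃ d : ℤ, 0 < d ∧ a ∈ 𝒜 d}) ≠ ⊥) :
    ∃ (R' : Type v) (_ : CommRing R') (_ : IsDomain R') (_ : IsDiscreteValuationRing R')
      (K' : Type v) (_ : Field K') (_ : Algebra R' K') (_ : IsFractionRing R' K')
      (_ : Algebra R R') (_ : Algebra K K') (_ : Algebra R K')
      (_ : IsScalarTower R R' K') (_ : IsScalarTower R K K')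
      (_ : Module.Finite K K') (_ : IsLocalHom (algebraMap R R'))
      (ϖ : R') (g : A →+* R'),
      ϖ ≠ 0 ∧ ϖ ∈ IsLocalRing.maximalIdeal R' ∧
      (∀ (d : ℤ) (a : A), a ∈ 𝒜 d →
        algebraMap R' K' (g a) * algebraMap R' K' ϖ ^ d = algebraMap R K' (φ a)) ∧
      Ideal.map g (Ideal.span {a : A | ∃ d : ℤ, 0 < d ∧ a ∈ 𝒜 d}) = ⊤ := by
  classical
  obtain ⟨s, hsub, hspan⟩ := (Submodule.fg_span_iff_fg_span_finset_subset _).1 hfg
  replace hspan : Ideal.span {a : A | ∃ d : ℤ, 0 < d ∧ a ∈ 𝒜 d} = Ideal.span (s : Set A) := hspan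
  choose deg hpos hmem using fun a : (s : Set A) => hsub a.2
  obtain ⟨π, hπ⟩ := IsDiscreteValuationRing.exists_irreducible R
  have hval : ∀ a : (s : Set A), φ a.1 ≠ 0 → ∃ m : ℕ, 1 ≤ m ∧ ∃ u : Rˣ, φ a.1 = u * π ^ m := fun a ha => by
    obtain ⟨m, u, hu⟩ := IsDiscreteValuationRing.eq_unit_mul_pow_irreducible ha hπ
    refine ⟨m, Nat.one_le_iff_ne_zero.2 fun h0 => ?_, u, hu⟩
    have h1 := hle (Ideal.mem_map_of_mem φ (Ideal.subset_span ⟨deg a, hpos a, hmem a⟩))
    rw [hu, h0, pow_zero, mul_one] at h1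
    exact h1 u.isUnit
  choose m hm u hu using hval
  let S0 := s.attach.filter (fun a => φ a.1 ≠ 0)
  have hS0 : S0.Nonempty := by
    by_contra hem
    refine hne ?_
    rw [hspan, Ideal.map_span, Ideal.span_eq_bot]
    rintro _ ⟨a, ha, rfl⟩
    by_contra h0
    exact hem ⟨⟨a, ha⟩, Finset.mem_filter.2 ⟨Finset.mem_attach _ _, h0⟩⟩
  let ratio : {x // x ∈ s} → ℚ := fun a => if h : φ a.1 ≠ 0 then (m a h : ℚ) / (deg a : ℚ) else 0
  obtain ⟨a₀, ha₀, hmin⟩ := S0.exists_min_image ratio hS0
  have hn0 : φ a₀.1 ≠ 0 := (Finset.mem_filter.1 ha₀).2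
  let N : ℕ := (deg a₀).toNat
  have hN : (N : ℤ) = deg a₀ := Int.toNat_of_nonneg (hpos a₀).le
  have hN1 : 1 ≤ N := by have := hpos a₀; omega
  obtain ⟨R', _, _, _, K', _, _, _, _, _, _, _, _, _, _, τ, hτm, hτ0, hτN⟩ :=
    GmRescale.exists_root_dvr R K hπ N hN1
  let ϖ : R' := τ ^ m a₀ hn0
  let ψ : A →+* R' := (algebraMap R R').comp φ
  have hkey : ∀ a : (s : Set A), ∀ e : ℕ, (e : ℤ) = deg a → ϖ ^ e ∣ ψ a.1 := fun a e he => by
    by_cases h0 : φ a.1 = 0
    · simp [ψ, h0]
    · have h1 := hmin a (Finset.mem_filter.2 ⟨Finset.mem_attach _ _, h0⟩)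
      simp only [ratio, dif_pos h0, dif_pos hn0, ← he, ← hN] at h1
      rw [div_le_div_iff₀ (by exact_mod_cast (show 0 < N by omega))
        (by have := hpos a; exact_mod_cast (show 0 < e by omega))] at h1
      have h2 : m a₀ hn0 * e ≤ m a h0 * N := by exact_mod_cast h1
      show (τ ^ m a₀ hn0) ^ e ∣ algebraMap R R' (φ a.1)
      rw [hu a h0, map_mul, map_pow, ← hτN, ← pow_mul, ← pow_mul]
      exact Dvd.dvd.mul_left (pow_dvd_pow τ (by rw [Nat.mul_comm N]; exact h2)) _
  have hdvd : ∀ n : ℕ, ∀ a ∈ 𝒜 (n : ℤ), ϖ ^ n ∣ ψ a := by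
    intro n
    induction n using Nat.strong_induction_on with
    | h n ih =>
      intro a ha
      rcases Nat.eq_zero_or_pos n with rfl | hn
      · simp
      have hI : a ∈ Ideal.span (s : Set A) := hspan ▸ Ideal.subset_span ⟨n, by exact_mod_cast hn, ha⟩
      obtain ⟨c, hc⟩ := Submodule.mem_span_finset'.1 hI
      have hproj : a = ∑ x : {x // x ∈ s}, GradedRing.proj 𝒜 (n - deg x) (c x) * x.1 := by
        have h1 := congrArg (GradedRing.proj 𝒜 (n : ℤ)) hc
        rw [map_sum, GradedRing.proj_apply _ _ a, DirectSum.decompose_of_mem_same _ ha] at h1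
        rw [← h1]
        refine Finset.sum_congr rfl fun x _ => ?_
        rw [GradedRing.proj_apply, GradedRing.proj_apply, smul_eq_mul]
        have h2 := DirectSum.coe_decompose_mul_add_of_right_mem 𝒜 (i := (n : ℤ) - deg x) (a := c x) (hmem x)
        rwa [sub_add_cancel] at h2
      rw [hproj, map_sum]
      refine Finset.dvd_sum fun x _ => ?_
      rw [map_mul]
      obtain ⟨e, he⟩ := Int.eq_ofNat_of_zero_le (hpos x).le
      rcases le_or_gt n e with hle' | hlt
      · exact Dvd.dvd.mul_left ((pow_dvd_pow ϖ hle').trans (hkey x e he.symm)) _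
      · have hp : GradedRing.proj 𝒜 ((n : ℤ) - deg x) (c x) ∈ 𝒜 ((n - e : ℕ) : ℤ) := by
          rw [GradedRing.proj_apply, he, Nat.cast_sub hlt.le]
          exact SetLike.coe_mem _
        have := mul_dvd_mul (ih (n - e) (by have := hpos x; omega) _ hp) (hkey x e he.symm)
        rwa [← pow_add, Nat.sub_add_cancel hlt.le] at this
  have hϖ0 : algebraMap R' K' ϖ ≠ 0 := fun h => pow_ne_zero _ hτ0
    (IsFractionRing.injective R' K' (by rw [h, map_zero]))
  let fH : ∀ d : ℤ, 𝒜 d →+ K' := fun d =>
    (AddMonoidHom.mulRight ((algebraMap R' K' ϖ) ^ (-d))).comp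
      ((((algebraMap R' K').comp ψ).toAddMonoidHom).comp (𝒜 d).subtype)
  let G : A →+* K' := (DirectSum.toSemiring fH (by simp [fH])
    (fun {i j} a b => by
      simp only [fH, AddMonoidHom.comp_apply, AddMonoidHom.mulRight_apply]
      show algebraMap R' K' (ψ (a.1 * b.1)) * _ = algebraMap R' K' (ψ a.1) * _ * (algebraMap R' K' (ψ b.1) * _)
      rw [map_mul, map_mul, neg_add, zpow_add₀ hϖ0]
      ring)).comp (DirectSum.decomposeRingEquiv 𝒜).toRingHom
  have hG : ∀ (d : ℤ) (a : A) (_ : a ∈ 𝒜 d), G a = algebraMap R' K' (ψ a) * (algebraMap R' K' ϖ) ^ (-d) :=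
    fun d a ha => by
      simp only [G, RingHom.comp_apply, RingEquiv.toRingHom_eq_coe, RingEquiv.coe_toRingHom]
      erw [DirectSum.decompose_of_mem 𝒜 ha, DirectSum.toSemiring_of]
      rfl
  have hrange : ∀ a : A, ∃ r : R', algebraMap R' K' r = G a := fun a => by
    show a ∈ ((algebraMap R' K').range.comap G)
    rw [← DirectSum.sum_support_decompose 𝒜 a]
    refine Subring.sum_mem _ fun d _ => ?_
    have ha := (DirectSum.decompose 𝒜 a d).2
    generalize (DirectSum.decompose 𝒜 a d : A) = b at ha ⊢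
    show G b ∈ (algebraMap R' K').range
    rw [hG d b ha]
    rcases le_or_gt d 0 with hd | hd
    · obtain ⟨e, he⟩ := Int.eq_ofNat_of_zero_le (show 0 ≤ -d by omega)
      exact ⟨ψ b * ϖ ^ e, by rw [he, zpow_natCast, map_mul, map_pow]⟩
    · obtain ⟨e, he⟩ := Int.eq_ofNat_of_zero_le hd.le
      subst he
      obtain ⟨q, hq⟩ := hdvd e b ha
      refine ⟨q, ?_⟩
      rw [hq, map_mul, map_pow, zpow_neg, zpow_natCast]
      field_simp
  choose g hg using hrange
  let gh : A →+* R' :=
    { toFun := g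
      map_one' := IsFractionRing.injective R' K' (by rw [hg, map_one, map_one])
      map_mul' := fun a b => IsFractionRing.injective R' K' (by rw [hg, map_mul, map_mul, hg, hg])
      map_zero' := IsFractionRing.injective R' K' (by rw [hg, map_zero, map_zero])
      map_add' := fun a b => IsFractionRing.injective R' K' (by rw [hg, map_add, map_add, hg, hg]) }
  have hgh : ∀ (d : ℤ) (a : A), a ∈ 𝒜 d →
      algebraMap R' K' (gh a) * algebraMap R' K' ϖ ^ d = algebraMap R K' (φ a) := fun d a ha => by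
    show algebraMap R' K' (g a) * _ = _
    rw [hg, hG d a ha, mul_assoc, ← zpow_add₀ hϖ0, neg_add_cancel, zpow_zero, mul_one,
      IsScalarTower.algebraMap_apply R R' K']
    rfl
  refine ⟨R', inferInstance, inferInstance, inferInstance, K', inferInstance, inferInstance, inferInstance,
    inferInstance, inferInstance, inferInstance, inferInstance, inferInstance, inferInstance, inferInstance,
    ϖ, gh, pow_ne_zero _ hτ0, Ideal.pow_mem_of_mem _ hτm _ (hm a₀ hn0), hgh, ?_⟩
  refine Ideal.eq_top_of_isUnit_mem _ (Ideal.mem_map_of_mem gh (Ideal.subset_span ⟨deg a₀, hpos a₀, hmem a₀⟩)) ?_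
  have h1 : gh a₀.1 = algebraMap R R' ↑(u a₀ hn0) := IsFractionRing.injective R' K' (by
    refine mul_right_cancel₀ (zpow_ne_zero (deg a₀) hϖ0) ?_
    rw [hgh _ _ (hmem a₀), IsScalarTower.algebraMap_apply R R' K', hu a₀ hn0, map_mul, map_pow, ← hτN, map_mul,
      ← hN, zpow_natCast, ← map_pow, ← pow_mul, ← pow_mul, Nat.mul_comm])
  rw [h1]
  exact (u a₀ hn0).isUnit.map _

end Groth.Agent.S14123
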