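import Groth.Statements.S14128
import Groth.Agent.IntThm.Cochain
import Groth.Agent.LocCohBasic.Depth
import Groth.Agent.CAlgReg.AusBuch
-- import your own Groth.Agent.* helpers here

set_option autoImplicit false
universe u
open CategoryTheory CategoryTheory.Limits
open LocAlg

namespace Groth.Agent.S14128

/-- Let R be a regular local ring of Krull dimension g and M = (M^0 → M^1 → ⋯ → M^g) a perfect complex
over R, here a cochain complex of finitely generated free R-modules indexed by ℕ with M^i = 0 for i
> g, such that every cohomology module H^i(M) has finite length. Then H^i(M) = 0 for all i < g, so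
that M has cohomology at most in degree g. -/
theorem result (R : Type u) [CommRing R]
    [IsRegularLocalRing R] (g : ℕ) (hg : ringKrullDim R = g) (M : CochainComplex (ModuleCat.{u} R) ℕ)
    (hbd : ∀ i, g < i → IsZero (M.X i)) (hfree : ∀ i, Module.Free R (M.X i) ∧ Module.Finite R (M.X i))
    (hfl : ∀ i, IsFiniteLength R (M.homology i)) (i : ℕ) (hi : i < g) :
    IsZero (M.homology i) := by
  have : ∀ i, Module.Free R (M.X i) := fun i => (hfree i).1
  have : ∀ i, Module.Finite R (M.X i) := fun i => (hfree i).2
  have hd : ∀ j < g, Subsingleton (LocCoh.H (IsLocalRing.maximalIdeal R) j R) := by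
    have : LocCoh.IsCohenMacaulayLocalRing R := { supportDim_eq_depth := by rw [Module.supportDim_self_eq_ringKrullDim, hg, Groth.Agent.CAlgReg.depth_self_eq_dim hg]; rfl }
    refine (Groth.Agent.LocCohBasic.le_idealDepth_iff_subsingleton (IsLocalRing.maximalIdeal R) (ModuleCat.of R R)).mp ?_
    have h := LocCoh.IsCohenMacaulayLocalRing.supportDim_eq_depth (R := R)
    rw [Module.supportDim_self_eq_ringKrullDim, hg] at h
    exact (WithBot.coe_injective h).le
  refine Groth.Agent.IntThm.isZero_homology (IsLocalRing.maximalIdeal R) M hd (fun j x hx => ?_) hi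
  obtain ⟨π, -, hπ⟩ := Groth.Agent.IntThm.exists_cohomology_proj M j
  obtain ⟨N, hN⟩ := Groth.Agent.LocDuality.exists_pow_le_annihilator (hfl j)
  refine ⟨N, fun r hr => ?_⟩
  have h := hπ (r • ⟨x, hx⟩)
  rw [map_smul] at h
  exact h.mp (Module.mem_annihilator.mp (hN hr) _)

end Groth.Agent.S14128
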