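import Groth.Statements.S14137
import Groth.Agent.CurveSub.Stability
import Groth.Agent.CurveSub.Integral
-- import your own Groth.Agent.* helpers here

set_option autoImplicit false
universe u
open CategoryTheory CategoryTheory.Limits AlgebraicGeometry
open VBCurve

namespace Groth.Agent.S14137

/-- Let C be a smooth proper geometrically connected curve over a field k (proper, smooth and
geometrically connected over k, of dimension one), and E a finite locally free O_C-module of rank r
≥ 1 which is stable: for every finite locally free submodule G of E of rank r' ≥ 1 whose inclusion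
is not an isomorphism one has deg G · r < deg E · r', the degree of a rank-n locally free module
being χ(G) − n·χ(O_C) (stability tested on proper submodules, equivalent to the definition through
quotient bundles). Then every nonzero endomorphism of E is an isomorphism, i.e. End(E) is a division
ring. (Over an algebraically closed field it follows that End(E) = k; that consequence is not
restated.) -/
theorem result (k : Type u) [Field k] (X : Scheme.{u}) [X.Over (Spec (CommRingCat.of k))]
    [IsProper (X ↘ Spec (CommRingCat.of k))] [Smooth (X ↘ Spec (CommRingCat.of k))]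
    [GeometricallyConnected (X ↘ Spec (CommRingCat.of k))] (hdim : topologicalKrullDim ↥X = 1)
    (r : ℕ) (hr : 0 < r) (E : X.Modules) (hE : FlatMod.IsFinLocFreeOfRank r E)
    (hEst : (∀ (G : X.Modules) (r' : ℕ) (i : G ⟶ E), Mono i → 0 < r' → FlatMod.IsFinLocFreeOfRank r' G → (¬ IsIso i) →
      Curv2.deg k X G r' * (r : ℤ) < Curv2.deg k X E r * (r' : ℤ)))
    (f : E ⟶ E) (hf : f ≠ 0) : IsIso f := by
  haveI := Groth.Agent.CurveSub.isIntegral_of_smooth_geometricallyConnected (X ↘ Spec (CommRingCat.of k))
  obtain ⟨a, b, hK, hI, hab, hb, hdeg, hb0, ha0⟩ :=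
    Groth.Agent.CurveSub.exists_image_data (k := k) hdim hE hE f
  rcases Nat.eq_zero_or_pos a with ha | ha
  · haveI := ha0 ha
    exact (Groth.Agent.CurveSub.isIso_of_mono (k := k) hdim hE hE f).2 rfl
  · have hbpos : 0 < b := Nat.pos_of_ne_zero fun h => hf (hb0 h)
    have hni : ∀ (G : X.Modules) (n : ℕ) (i : G ⟶ E), FlatMod.IsFinLocFreeOfRank n G → n < r → ¬ IsIso i :=
      fun G n i hG hn hi => by
        haveI := hi
        have h := Groth.Agent.CurveDeg.gRank_of_iso (asIso i)
        rw [Groth.Agent.CurveDeg.gRank, Groth.Agent.CurveDeg.gRank, Groth.Agent.CurveDeg.finrank_stalk hG,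
          Groth.Agent.CurveDeg.finrank_stalk hE] at h
        omega
    have h1 := hEst _ a (kernel.ι f) inferInstance ha hK (hni _ _ _ hK (by omega))
    have h2 := hEst _ b (Abelian.image.ι f) inferInstance hbpos hI (hni _ _ _ hI (by omega))
    have hr' : (r : ℤ) = a + b := by exact_mod_cast hab.symm
    rw [hr', hdeg] at h1 h2
    nlinarith

end Groth.Agent.S14137
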