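import Groth.Statements.S14139
import Groth.Agent.CurveSub.Stability
import Groth.Agent.CurveSub.Integral
-- import your own Groth.Agent.* helpers here

set_option autoImplicit false
universe u
open CategoryTheory CategoryTheory.Limits AlgebraicGeometry
open VBCurve

namespace Groth.Agent.S14139

/-- Let C be a smooth proper geometrically connected curve over a field k (proper, smooth and
geometrically connected over k, of dimension one), and 0 → E₁ → E → E₂ → 0 a short exact sequence of
finite locally free O_C-modules of ranks r₁, r, r₂ ≥ 1 whose slopes are all equal: deg E₁ · r = deg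
E · r₁ and deg E₂ · r = deg E · r₂, the degree of a rank-n locally free module being χ − n·χ(O_C).
Then E is semistable (deg G · r ≤ deg E · r' for every finite locally free submodule G of E of rank
r' ≥ 1) if and only if both E₁ and E₂ are semistable in the same sense. -/
theorem result (k : Type u) [Field k] (X : Scheme.{u}) [X.Over (Spec (CommRingCat.of k))]
    [IsProper (X ↘ Spec (CommRingCat.of k))] [Smooth (X ↘ Spec (CommRingCat.of k))]
    [GeometricallyConnected (X ↘ Spec (CommRingCat.of k))] (hdim : topologicalKrullDim ↥X = 1)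
    (T : ShortComplex X.Modules) (hT : T.ShortExact)
    (r₁ r r₂ : ℕ) (hr₁ : 0 < r₁) (hr : 0 < r) (hr₂ : 0 < r₂)
    (hE₁ : FlatMod.IsFinLocFreeOfRank r₁ T.X₁) (hE : FlatMod.IsFinLocFreeOfRank r T.X₂) (hE₂ : FlatMod.IsFinLocFreeOfRank r₂ T.X₃)
    (hμ₁ : Curv2.deg k X T.X₁ r₁ * (r : ℤ) = Curv2.deg k X T.X₂ r * (r₁ : ℤ))
    (hμ₂ : Curv2.deg k X T.X₃ r₂ * (r : ℤ) = Curv2.deg k X T.X₂ r * (r₂ : ℤ)) :
    (∀ (G : X.Modules) (r' : ℕ) (i : G ⟶ T.X₂), Mono i → 0 < r' → FlatMod.IsFinLocFreeOfRank r' G →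
      Curv2.deg k X G r' * (r : ℤ) ≤ Curv2.deg k X T.X₂ r * (r' : ℤ)) ↔
      ((∀ (G : X.Modules) (r' : ℕ) (i : G ⟶ T.X₁), Mono i → 0 < r' → FlatMod.IsFinLocFreeOfRank r' G →
      Curv2.deg k X G r' * (r₁ : ℤ) ≤ Curv2.deg k X T.X₁ r₁ * (r' : ℤ)) ∧
       (∀ (G : X.Modules) (r' : ℕ) (i : G ⟶ T.X₃), Mono i → 0 < r' → FlatMod.IsFinLocFreeOfRank r' G →
      Curv2.deg k X G r' * (r₂ : ℤ) ≤ Curv2.deg k X T.X₃ r₂ * (r' : ℤ))) := by
  haveI := Groth.Agent.CurveSub.isIntegral_of_smooth_geometricallyConnected (X ↘ Spec (CommRingCat.of k))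
  haveI := hT.mono_f
  haveI := hT.epi_g
  have hr1 : (0 : ℤ) < r := by exact_mod_cast hr
  constructor
  · intro h
    refine ⟨fun G n i hi hn hG => ?_, fun G n i hi hn hG => ?_⟩
    · haveI := hi
      have h1 := mul_le_mul_of_nonneg_right (h G n (i ≫ T.f) inferInstance hn hG) (Int.natCast_nonneg r₁)
      refine le_of_mul_le_mul_right ?_ hr1
      linear_combination h1 - (n : ℤ) * hμ₁
    · haveI := hi
      let e : T.X₃ ≅ cokernel T.f :=
        hT.gIsCokernel.coconePointUniqueUpToIso (colimit.isColimit _)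
      obtain ⟨P, p, hp, hP, hd⟩ :=
        Groth.Agent.CurveSub.exists_preimage (k := k) hdim hE₁ hE hG T.f (i ≫ e.hom)
      have h1 := h P _ p hp (by omega) hP
      rw [hd] at h1
      push_cast at h1
      have h2 := mul_le_mul_of_nonneg_right
        (show Curv2.deg k X G n * (r : ℤ) ≤ Curv2.deg k X T.X₂ r * n by linarith) (Int.natCast_nonneg r₂)
      refine le_of_mul_le_mul_right ?_ hr1
      linear_combination h2 - (n : ℤ) * hμ₂
  · rintro ⟨h₁, h₂⟩ G n i hi hn hG
    haveI := hi
    obtain ⟨a, b, hK, hI, hab, -, hdeg, -, -⟩ :=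
      Groth.Agent.CurveSub.exists_image_data (k := k) hdim hG hE₂ (i ≫ T.g)
    have hK' : Curv2.deg k X (kernel (i ≫ T.g)) a * (r : ℤ) ≤ Curv2.deg k X T.X₂ r * (a : ℤ) := by
      rcases Nat.eq_zero_or_pos a with ha | ha
      · subst ha
        simp [Groth.Agent.CurveSub.deg_rank_zero (k := k) hdim hK]
      · let l : kernel (i ≫ T.g) ⟶ T.X₁ := hT.fIsKernel.lift (KernelFork.ofι (kernel.ι (i ≫ T.g) ≫ i)
          (by rw [Category.assoc, kernel.condition]))
        have hl : l ≫ T.f = kernel.ι (i ≫ T.g) ≫ i :=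
          hT.fIsKernel.fac _ WalkingParallelPair.zero
        haveI : Mono l := mono_of_mono_fac hl
        refine le_of_mul_le_mul_right ?_ (show (0 : ℤ) < r₁ by exact_mod_cast hr₁)
        have h3 := mul_le_mul_of_nonneg_right (h₁ _ a l inferInstance ha hK) hr1.le
        linear_combination h3 + (a : ℤ) * hμ₁
    have hI' : Curv2.deg k X (Abelian.image (i ≫ T.g)) b * (r : ℤ) ≤ Curv2.deg k X T.X₂ r * (b : ℤ) := by
      rcases Nat.eq_zero_or_pos b with hb | hb
      · subst hb
        simp [Groth.Agent.CurveSub.deg_rank_zero (k := k) hdim hI]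
      · refine le_of_mul_le_mul_right ?_ (show (0 : ℤ) < r₂ by exact_mod_cast hr₂)
        have h3 := mul_le_mul_of_nonneg_right (h₂ _ b (Abelian.image.ι _) inferInstance hb hI) hr1.le
        linear_combination h3 + (b : ℤ) * hμ₂
    rw [hdeg, ← hab]
    push_cast
    linarith

end Groth.Agent.S14139
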