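import Groth.Statements.S1414
-- no helpers

set_option autoImplicit false
universe u
open FlatMor

namespace Groth.Agent.S1414

open AlgebraicGeometry CategoryTheory Limits in
/-- Let f : X → Y and g : Y → Z with f ≫ g smooth and g étale. Then f is smooth. -/
theorem result {X Y Z : Scheme.{u}} (f : X ⟶ Y) (g : Y ⟶ Z) [Smooth (f ≫ g)] [Etale g] : Smooth f := by
  rw [← pullback.lift_snd (f := f ≫ g) (g := g) (𝟙 X) f (Category.id_comp _)]
  haveI : Etale (pullback.lift (f := f ≫ g) (g := g) (𝟙 X) f (Category.id_comp _) ≫ pullback.fst (f ≫ g) g) := by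
    rw [pullback.lift_fst]; infer_instance
  haveI := Etale.of_comp (pullback.lift (f := f ≫ g) (g := g) (𝟙 X) f (Category.id_comp _)) (pullback.fst (f ≫ g) g)
  infer_instance

end Groth.Agent.S1414
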