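import Groth.Statements.S14141
import Groth.Agent.GrpSch.ConstFib

set_option autoImplicit false
universe u
open CategoryTheory CategoryTheory.Limits AlgebraicGeometry
open AbSch

namespace Groth.Agent.S14141

/-- Let S be a connected Noetherian scheme, f : X → S a proper flat morphism such that for every point s
of S the natural map κ(s) → H^0(X_s, O_{X_s}) on global sections of the fibre is bijective, g : Y →
S a separated morphism and π : X → Y a morphism over S. If for some point s of S the restriction of
π to the fibre X_s is constant, i.e. factors through the projection X_s → Spec κ(s), then π is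
constant over all of S: it factors as f followed by a section S → Y of g. (The published statement
is for arbitrary Noetherian S with the conclusion over the connected component of s; this row
assumes S connected, the reduction made in the first line of the printed proof.) -/
theorem result {X Y S : Scheme.{u}} [IsNoetherian S] [ConnectedSpace ↥S]
    (f : X ⟶ S) [IsProper f] [Flat f]
    (hfib : ∀ s : ↥S, Function.Bijective (algebraMap (S.residueField s) Γ(f.fiber s, ⊤)))
    (g : Y ⟶ S) [IsSeparated g] (π : X ⟶ Y) (hπ : π ≫ g = f) (s : ↥S)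
    (hs : ∃ y : Spec (S.residueField s) ⟶ Y, f.fiberι s ≫ π = f.fiberToSpecResidueField s ≫ y) :
    ∃ σ : S ⟶ Y, σ ≫ g = 𝟙 S ∧ π = f ≫ σ := by
  obtain ⟨hcf, hsurj⟩ := Groth.Agent.GrpSch.RigidityBase.constFibres_of_bijective_fiber f hfib
  obtain ⟨W, hW, hiff, k, hk⟩ := Groth.Agent.GrpSch.AbRigid.exists_clopen_factor_iff (𝟙 S) g f π
    (by rw [Category.comp_id, hπ])
  have hs2 : s ∈ W := by
    obtain ⟨y, hy⟩ := hs
    rw [hiff s]
    have key : ∀ x, f x = s → π x = y (IsLocalRing.closedPoint _) := by
      intro x hx
      obtain ⟨w, rfl⟩ : x ∈ Set.range (f.fiberι s) := by rw [f.range_fiberι]; exact hx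
      rw [← Scheme.Hom.comp_apply, hy, Scheme.Hom.comp_apply]
      exact congrArg y (Subsingleton.elim _ _)
    rintro _ ⟨a, ha, rfl⟩ _ ⟨b, hb, rfl⟩
    rw [key a ha, key b hb]
  have htop : W = ⊤ := by
    have := (IsClopen.eq_univ ⟨hW, W.2⟩ ⟨s, hs2⟩)
    exact TopologicalSpace.Opens.ext this
  subst htop
  have hσ : π = f ≫ ((Scheme.topIso S).inv ≫ k) := by
    have h2 := congrArg ((Scheme.topIso X).inv ≫ ·) hk
    simp at h2
    rw [← Category.assoc] at h2
    rw [← Category.assoc f]
    convert h2 using 2
    rw [← cancel_mono (⊤ : S.Opens).ι, Category.assoc, Category.assoc]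
    simp
    erw [morphismRestrict_ι]
    exact (congrArg (· ≫ f) (Scheme.topIso X).inv_hom_id).symm.trans (Category.assoc _ _ _) |>.trans (by rfl) |> (fun h => (Category.id_comp f).symm.trans h)
  refine ⟨(Scheme.topIso S).inv ≫ k, ?_, hσ⟩
  rw [← cancel_epi f, ← Category.assoc, ← hσ, hπ, Category.comp_id]

end Groth.Agent.S14141
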