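import Groth.Statements.S1415
import Groth.Agent.Weighting.Count

set_option autoImplicit false
universe u
open FlatMor

namespace Groth.Agent.S1415

open AlgebraicGeometry CategoryTheory CategoryTheory.Limits

open AlgebraicGeometry CategoryTheory Limits in
/-- Let f : X → Y be locally quasi-finite. Then (1) for every y the number of irreducible components and
the number of connected components of the geometric fibre over y agree, and (2) if X is
quasi-compact these numbers are bounded by some natural number. -/
theorem result {X Y : Scheme.{u}} (f : X ⟶ Y) [LocallyQuasiFinite f] [LocallyOfFiniteType f] :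
    (∀ y : Y, MoreMor.nGeomIrredComp f y = MoreMor.nGeomConnComp f y) ∧
      (CompactSpace ↑X → ∃ d : ℕ, ∀ y : Y, MoreMor.nGeomConnComp f y ≤ d) := by
  refine ⟨fun y ↦ ?_, fun hX ↦ ?_⟩
  · rw [Groth.Agent.Weighting.nGeomIrredComp_eq_card, Groth.Agent.Weighting.nGeomConnComp_eq_card]
  · obtain ⟨d, hd⟩ := Groth.Agent.Weighting.exists_bound_gpts f
    refine ⟨d, fun y ↦ ?_⟩
    obtain ⟨K, _, _, yb, -, h⟩ := Groth.Agent.Weighting.card_geomFiber_eq f y
    rw [Groth.Agent.Weighting.nGeomConnComp_eq_card, h]
    have := (hd K yb).1
    let := Fintype.ofFinite (Groth.Agent.Weighting.GPts f yb)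
    rw [ENat.card_eq_coe_fintype_card]
    have := (hd K yb).2
    rw [Nat.card_eq_fintype_card] at this
    exact_mod_cast this

end Groth.Agent.S1415
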