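import Groth.Statements.S14151
import Groth.Agent.CurveSub.Stability
import Groth.Agent.CurveSub.Integral
-- import your own Groth.Agent.* helpers here

set_option autoImplicit false
universe u
open CategoryTheory CategoryTheory.Limits AlgebraicGeometry
open VBCurve

namespace Groth.Agent.S14151

/-- Let C be a smooth proper geometrically connected curve over a field k (proper, smooth and
geometrically connected over k, of dimension one) and E a finite locally free O_C-module of rank r ≥
1; degrees of rank-n locally free modules are χ − n·χ(O_C) and slopes are compared by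
cross-multiplication. Then: E is semistable in the sense of quotients (μ(E) ≤ μ(F) for every locally
free quotient E ↠ F of rank s ≥ 1) if and only if μ(G) ≤ μ(E) for every finite locally free
submodule G of E of rank r' ≥ 1; and E is stable in the sense of quotients (μ(E) < μ(F) for every
such quotient map which is not an isomorphism) if and only if μ(G) < μ(E) for every such submodule
whose inclusion is not an isomorphism. (The printed lemma says every nonzero subsheaf; for the
strict inequalities the subsheaf and the quotient must be proper, as its proof uses.) -/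
theorem result (k : Type u) [Field k] (X : Scheme.{u}) [X.Over (Spec (CommRingCat.of k))]
    [IsProper (X ↘ Spec (CommRingCat.of k))] [Smooth (X ↘ Spec (CommRingCat.of k))]
    [GeometricallyConnected (X ↘ Spec (CommRingCat.of k))] (hdim : topologicalKrullDim ↥X = 1)
    (r : ℕ) (hr : 0 < r) (E : X.Modules) (hE : FlatMod.IsFinLocFreeOfRank r E) :
    ((∀ (F : X.Modules) (s : ℕ) (p : E ⟶ F), Epi p → 0 < s → FlatMod.IsFinLocFreeOfRank s F →
      Curv2.deg k X E r * (s : ℤ) ≤ Curv2.deg k X F s * (r : ℤ)) ↔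
      (∀ (G : X.Modules) (r' : ℕ) (i : G ⟶ E), Mono i → 0 < r' → FlatMod.IsFinLocFreeOfRank r' G →
      Curv2.deg k X G r' * (r : ℤ) ≤ Curv2.deg k X E r * (r' : ℤ))) ∧
    ((∀ (F : X.Modules) (s : ℕ) (p : E ⟶ F), Epi p → 0 < s → FlatMod.IsFinLocFreeOfRank s F → (¬ IsIso p) →
      Curv2.deg k X E r * (s : ℤ) < Curv2.deg k X F s * (r : ℤ)) ↔
      (∀ (G : X.Modules) (r' : ℕ) (i : G ⟶ E), Mono i → 0 < r' → FlatMod.IsFinLocFreeOfRank r' G → (¬ IsIso i) →
      Curv2.deg k X G r' * (r : ℤ) < Curv2.deg k X E r * (r' : ℤ))) := by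
  haveI := Groth.Agent.CurveSub.isIntegral_of_smooth_geometricallyConnected (X ↘ Spec (CommRingCat.of k))
  have hker : ∀ (F : X.Modules) (s : ℕ) (p : E ⟶ F), Epi p → FlatMod.IsFinLocFreeOfRank s F →
      ∃ a : ℕ, FlatMod.IsFinLocFreeOfRank a (kernel p) ∧ r = a + s ∧
        Curv2.deg k X E r = Curv2.deg k X (kernel p) a + Curv2.deg k X F s ∧ (a = 0 → Mono p) := by
    intro F s p hp hF
    haveI := hp
    obtain ⟨a, b, hK, hI, hab, -, hdeg, -, ha0⟩ :=
      Groth.Agent.CurveSub.exists_image_data (k := k) hdim hE hF p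
    have hT := Groth.Agent.CurveSub.shortExact_kernel_of_epi p
    exact ⟨a, hK, Groth.Agent.CurveDeg.rank_add_of_shortExact hT hK hE hF,
      Groth.Agent.CurveDeg.deg_shortExact (k := k) _ hT hK hE hF, ha0⟩
  have hmax : ∀ (G : X.Modules) (n : ℕ) (i : G ⟶ E), Mono i → 0 < n → FlatMod.IsFinLocFreeOfRank n G →
      (n = r ∧ Curv2.deg k X G n ≤ Curv2.deg k X E r ∧ (¬ IsIso i → Curv2.deg k X G n < Curv2.deg k X E r)) ∨
      (n < r ∧ ∃ (F : X.Modules) (p : E ⟶ F), Epi p ∧ ¬ IsIso p ∧ FlatMod.IsFinLocFreeOfRank (r - n) F ∧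
        Curv2.deg k X F (r - n) ≤ Curv2.deg k X E r - Curv2.deg k X G n) := by
    intro G n i hi hn hG
    haveI := hi
    obtain ⟨M, j, hj, hM, hle, hnr, hQ, hd⟩ := Groth.Agent.CurveSub.exists_maxDeg (k := k) hdim hE hG i
    rcases hnr.lt_or_eq with hlt | heq
    · refine .inr ⟨hlt, _, cokernel.π j, inferInstance, fun hiso => ?_, hQ, by linarith⟩
      haveI := hj
      haveI := hiso
      have hj0 : j = 0 := by rw [← cancel_mono (cokernel.π j), cokernel.condition, zero_comp]
      exact hn.ne' (Groth.Agent.CurveSub.rank_eq_zero_of_isZero (IsZero.of_mono_eq_zero j hj0) hM)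
    · subst heq
      obtain ⟨h1, h2⟩ := Groth.Agent.CurveSub.isIso_of_mono (k := k) hdim hG hE i
      exact .inl ⟨rfl, h1, fun hni => lt_of_le_of_ne h1 fun h => hni (h2 h)⟩
  refine ⟨⟨fun h G n i hi hn hG => ?_, fun h F s p hp hs hF => ?_⟩,
    ⟨fun h G n i hi hn hG hni => ?_, fun h F s p hp hs hF hnp => ?_⟩⟩
  · rcases hmax G n i hi hn hG with ⟨rfl, h1, -⟩ | ⟨hlt, F, p, hp, -, hF, hd⟩
    · exact mul_le_mul_of_nonneg_right h1 (Int.natCast_nonneg n)
    · have h1 := h F _ p hp (by omega) hF
      have h2 := mul_le_mul_of_nonneg_right hd (Int.natCast_nonneg r)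
      push_cast [hlt.le] at h1 h2
      linarith
  · obtain ⟨a, hK, hr', hd, -⟩ := hker F s p hp hF
    have h1 : Curv2.deg k X (kernel p) a * (r : ℤ) ≤ Curv2.deg k X E r * (a : ℤ) := by
      rcases Nat.eq_zero_or_pos a with ha | ha
      · subst ha
        simp [Groth.Agent.CurveSub.deg_rank_zero (k := k) hdim hK]
      · exact h _ a (kernel.ι p) inferInstance ha hK
    have h2 : (r : ℤ) = a + s := by exact_mod_cast hr'
    linear_combination h1 + (r : ℤ) * hd - Curv2.deg k X E r * h2
  · rcases hmax G n i hi hn hG with ⟨rfl, -, h1⟩ | ⟨hlt, F, p, hp, hnp, hF, hd⟩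
    · exact mul_lt_mul_of_pos_right (h1 hni) (by exact_mod_cast hn)
    · have h1 := h F _ p hp (by omega) hF hnp
      have h2 := mul_le_mul_of_nonneg_right hd (Int.natCast_nonneg r)
      push_cast [hlt.le] at h1 h2
      linarith
  · haveI := hp
    obtain ⟨a, hK, hr', hd, ha0⟩ := hker F s p hp hF
    have ha : 0 < a := Nat.pos_of_ne_zero fun h => hnp (by haveI := ha0 h; exact isIso_of_mono_of_epi p)
    have hnk : ¬ IsIso (kernel.ι p) := fun hiso => by
      haveI := hiso
      have hp0 : p = 0 := by rw [← cancel_epi (kernel.ι p), kernel.condition, comp_zero]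
      exact hs.ne' (Groth.Agent.CurveSub.rank_eq_zero_of_isZero (IsZero.of_epi_eq_zero p hp0) hF)
    have h1 := h _ a (kernel.ι p) inferInstance ha hK hnk
    have h2 : (r : ℤ) = a + s := by exact_mod_cast hr'
    linear_combination h1 + (r : ℤ) * hd - Curv2.deg k X E r * h2

end Groth.Agent.S14151
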