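import Groth.Statements.S14173
import Groth.Agent.GrModLib.TwistN
import Groth.Agent.ProjCoord.Basic
import Groth.Agent.CurveDeg.Tensor
import Groth.Agent.Devissage.Vanishing
-- import your own Groth.Agent.* helpers here

set_option autoImplicit false
universe u
open CategoryTheory CategoryTheory.Limits AlgebraicGeometry
open Variety

namespace Groth.Agent.S14173

/-- Let k be an algebraically closed field of characteristic zero (the published statement is over the
complex numbers; this row allows any algebraically closed field of characteristic zero) and 0 → F₁ →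
F₂ → F₃ → 0 a short exact sequence of coherent modules on P^n_k. If F₁ and F₃ are m-regular then so
is F₂; equivalently reg F₂ ≤ max(reg F₁, reg F₃). -/
theorem result (k : Type u) [Field k] [IsAlgClosed k] [CharZero k]
    (n : ℕ) (S : ShortComplex (CohB1.ProjSpace n k).Modules) (hS : S.ShortExact)
    (h₁ : Coh.IsCoh S.X₁) (h₂ : Coh.IsCoh S.X₂) (h₃ : Coh.IsCoh S.X₃) (m : ℤ)
    (hreg₁ : Curv2.IsMRegular k n S.X₁ m) (hreg₃ : Curv2.IsMRegular k n S.X₃ m) :
    Curv2.IsMRegular k n S.X₂ m := by
  have hcov : (⨆ f : CohB1.polyGrading n k 1,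
      Proj.basicOpen (CohB1.polyGrading n k) (f : MvPolynomial (Fin (n + 1)) k)) = ⊤ :=
    Proj.iSup_basicOpen_eq_top _ (fun f : CohB1.polyGrading n k 1 => (f : MvPolynomial (Fin (n + 1)) k))
      (Groth.Agent.ProjCoord.irrelevant_le_span_X.trans (Ideal.span_mono (by
        rintro _ ⟨j, rfl⟩
        exact ⟨⟨_, MvPolynomial.isHomogeneous_X k j⟩, rfl⟩)))
  intro i h1 hn
  have hL : PicF.IsInvertible (Twist.twistProjSpace n k (m - i)) :=
    Groth.Agent.GrModLib.isInvertible_twist (CohB1.polyGrading n k) _ hcov
  obtain ⟨w, hw⟩ := Groth.Agent.CurveDeg.shortExact_twist hS hL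
  exact Groth.Agent.Devissage.subsingleton_HH_middle hw i (hreg₁ i h1 hn) (hreg₃ i h1 hn)

end Groth.Agent.S14173
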