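import Groth.Statements.S14175
import Mathlib

set_option autoImplicit false
universe u v w
open GalCoh

namespace Groth.Agent.S14175

/-- Let G be a finite cyclic group generated by t, let m be a natural number dividing the order of G,
and let ρ be a linear representation of G on a module V over a commutative ring k such that m·V = 0
and every element of G whose m-th power is the identity acts trivially on V. Then evaluating a
crossed homomorphism at t induces a bijection from the first cohomology of G with values in V
(crossed homomorphisms f, i.e. f(gh) = ρ(g)f(h) + f(g), modulo the principal ones g ↦ ρ(g)x − x)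
onto the coinvariants V_G (the quotient of V by the span of all ρ(g)v − v): the class of f(t) in V_G
vanishes exactly when f is principal, and every class of V_G is the class of f(t) for some crossed
homomorphism f. The bijection depends on the choice of the generator t. -/
theorem result
    {k : Type u} {G : Type v} {V : Type w} [CommRing k] [Group G] [Finite G]
    [AddCommGroup V] [Module k V] (ρ : Representation k G V)
    (t : G) (ht : ∀ g : G, g ∈ Subgroup.zpowers t)
    (m : ℕ) (hm : m ∣ Nat.card G) (htors : ∀ v : V, m • v = 0)
    (htriv : ∀ g : G, g ^ m = 1 → ∀ v : V, ρ g v = v) :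
    (∀ f : G → V, (∀ g h : G, f (g * h) = ρ g (f h) + f g) →
        (Representation.Coinvariants.mk ρ (f t) = 0 ↔ ∃ x : V, ∀ g : G, f g = ρ g x - x)) ∧
    (∀ v : V, ∃ f : G → V, (∀ g h : G, f (g * h) = ρ g (f h) + f g) ∧
        Representation.Coinvariants.mk ρ (f t) = Representation.Coinvariants.mk ρ v) := by
  classical
  set N := Nat.card G with hN
  have hpow : ∀ g : G, ∃ j : ℕ, t ^ j = g := fun g => by
    obtain ⟨i, rfl⟩ := (mem_powers_iff_mem_zpowers (x := t)).2 (ht g)
    exact ⟨i, rfl⟩
  let S : ℕ → V → V := fun j v => ∑ i ∈ Finset.range j, ρ (t ^ i) v
  have hSadd : ∀ a b v, S (a + b) v = S a v + ρ (t ^ a) (S b v) := by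
    intro a b v
    simp [S, Finset.sum_range_add, map_sum, pow_add, Module.End.mul_apply]
  constructor
  · intro f hf
    constructor
    · intro h
      rw [Representation.Coinvariants.mk_eq_zero] at h
      have hrange : Representation.Coinvariants.ker ρ ≤ LinearMap.range (ρ t - 1) := by
        refine Submodule.span_le.2 ?_
        rintro _ ⟨⟨g, v⟩, rfl⟩
        obtain ⟨j, rfl⟩ := hpow g
        refine ⟨S j v, ?_⟩
        simp only [LinearMap.sub_apply, Module.End.one_apply, S, map_sum]
        have : ∀ i, ρ t (ρ (t ^ i) v) = ρ (t ^ (i + 1)) v := fun i => by
          rw [← Module.End.mul_apply, ← map_mul, pow_succ']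
        simp only [this, Finset.sum_range_sub (fun i => ρ (t ^ i) v)]
        simp
      obtain ⟨x, hx⟩ := hrange h
      refine ⟨x, fun g => ?_⟩
      obtain ⟨j, rfl⟩ := hpow g
      induction j with
      | zero =>
        have := hf 1 1
        simp only [mul_one, map_one, Module.End.one_apply] at this
        simp only [pow_zero, map_one, Module.End.one_apply, sub_self]
        simpa using this
      | succ j ih =>
        rw [pow_succ, hf, ih, map_mul, Module.End.mul_apply, ← hx]
        simp only [LinearMap.sub_apply, Module.End.one_apply, map_sub]
        abel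
    · rintro ⟨x, hx⟩
      rw [Representation.Coinvariants.mk_eq_zero, hx]
      exact Representation.Coinvariants.mem_ker_of_eq t x _ rfl
  · intro v
    have hSN : S N v = 0 := by
      obtain ⟨d, hd⟩ := hm
      have hd1 : ρ (t ^ d) = 1 := LinearMap.ext fun w => htriv _ (by rw [← pow_mul, mul_comm, ← hd]; exact pow_card_eq_one') w
      have : ∀ c, S (c * d) v = c • S d v := by
        intro c
        induction c with
        | zero => simp [S]
        | succ c ih =>
          rw [add_mul, one_mul, hSadd, ih, mul_comm, pow_mul, map_pow, hd1, one_pow, Module.End.one_apply, succ_nsmul]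
      rw [hd, this, htors]
    have hper : ∀ a b, S (a + b * N) v = S a v := by
      intro a b
      induction b with
      | zero => simp
      | succ b ih => rw [add_mul, one_mul, ← add_assoc, hSadd, hSN, map_zero, add_zero, ih]
    choose j hj using hpow
    have hwd : ∀ a g, t ^ a = g → S a v = S (j g) v := by
      intro a g hag
      have hord : orderOf t = N := by
        rw [hN, ← Nat.card_zpowers]
        exact Nat.card_congr (Equiv.subtypeUnivEquiv ht)
      have hc : a ≡ j g [MOD N] := by rw [← hord, ← pow_eq_pow_iff_modEq, hag, hj]
      rw [← Nat.mod_add_div a N, ← Nat.mod_add_div (j g) N, mul_comm N, mul_comm N, hper, hper, hc]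
    refine ⟨fun g => S (j g) v, fun g h => ?_, ?_⟩
    · change S (j (g * h)) v = _
      rw [← hwd (j g + j h) (g * h) (by rw [pow_add, hj, hj]), hSadd, hj]
      exact add_comm _ _
    · change Representation.Coinvariants.mk ρ (S (j t) v) = _
      rw [← hwd 1 t (pow_one t)]
      simp [S]

end Groth.Agent.S14175
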