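import Groth.Statements.S14176
import Mathlib

set_option autoImplicit false
universe u
open Pi1

namespace Groth.Agent.S14176

open W4c1etcurveeff2

variable {G : Type u} [Group G] [TopologicalSpace G] [IsTopologicalGroup G] (n : ℕ) [NeZero n]

local notation "Sn" => powCommClosure G n
local notation "Zn" => Multiplicative (ZMod n)

theorem normal_S : (Sn).Normal := by
  haveI : (Subgroup.closure (Set.range fun g : G => g ^ n) ⊔ commutator G).Normal :=
    Subgroup.Normal.of_commutator_le G le_sup_right
  exact Subgroup.is_normal_topologicalClosure _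

theorem pow_mem_S (g : G) : g ^ n ∈ Sn :=
  Subgroup.le_topologicalClosure _ (Subgroup.mem_sup_left (Subgroup.subset_closure ⟨g, rfl⟩))

theorem commutator_le_S : commutator G ≤ Sn :=
  le_sup_right.trans (Subgroup.le_topologicalClosure _)

theorem S_le (H : Subgroup G) (hH : IsClosed (H : Set G)) (hp : ∀ g : G, g ^ n ∈ H)
    (hc : commutator G ≤ H) : Sn ≤ H :=
  Subgroup.topologicalClosure_minimal _
    (sup_le ((Subgroup.closure_le H).2 (by rintro _ ⟨g, rfl⟩; exact hp g)) hc) hH

theorem pow_zn (z : Zn) : z ^ n = 1 := by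
  apply Multiplicative.toAdd.injective
  simp

theorem S_le_ker (χ : G →* Zn) (hχ : IsOpen (χ.ker : Set G)) : Sn ≤ χ.ker := by
  refine S_le n _ (Subgroup.isClosed_of_isOpen _ hχ) (fun g => ?_) ?_
  · rw [MonoidHom.mem_ker, map_pow, pow_zn]
  · exact Abelianization.commutator_subset_ker χ

variable (s : Finset G) (hs : Dense ((Subgroup.closure (s : Set G) : Subgroup G) : Set G))

include hs in
theorem finite_quot : Finite (G ⧸ Sn) ∧ IsOpen ((Sn) : Set G) := by
  haveI := normal_S (G := G) n
  letI : CommGroup (G ⧸ Sn) :=
    { (inferInstance : Group (G ⧸ Sn)) with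
      mul_comm := fun a b => by
        induction a using QuotientGroup.induction_on with | _ a =>
        induction b using QuotientGroup.induction_on with | _ b =>
        show ((a * b : G) : G ⧸ Sn) = ((b * a : G) : G ⧸ Sn)
        rw [QuotientGroup.eq]
        refine commutator_le_S n ?_
        have h := Subgroup.commutator_mem_commutator (Subgroup.mem_top b⁻¹) (Subgroup.mem_top a⁻¹)
        simpa [commutatorElement_def, commutator_def, mul_assoc] using h }
  haveI : IsClosed ((Sn) : Set G) := Subgroup.isClosed_topologicalClosure _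
  let K : Subgroup (G ⧸ Sn) := (Subgroup.closure (s : Set G)).map (QuotientGroup.mk' Sn)
  haveI : Finite K := by
    haveI : Group.FG K := by
      rw [Group.fg_iff_subgroup_fg]
      classical
      refine ⟨s.image (QuotientGroup.mk' Sn), ?_⟩
      rw [Finset.coe_image, ← MonoidHom.map_closure]
    refine CommGroup.finite_of_fg_torsion K fun x => isOfFinOrder_iff_pow_eq_one.2 ⟨n, NeZero.pos n, ?_⟩
    obtain ⟨⟨g⟩, hg⟩ := x
    refine Subtype.ext ?_
    show ((g : G ⧸ Sn)) ^ n = 1
    rw [← QuotientGroup.mk_pow, QuotientGroup.eq_one_iff]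
    exact pow_mem_S n g
  have hKc : IsClosed (K : Set (G ⧸ Sn)) := (Set.toFinite _).isClosed
  have hKd : Dense (K : Set (G ⧸ Sn)) :=
    (QuotientGroup.mk_surjective.denseRange.dense_image QuotientGroup.continuous_mk hs).mono
      (by rintro _ ⟨g, hg, rfl⟩; exact ⟨g, hg, rfl⟩)
  have hK : (K : Set (G ⧸ Sn)) = Set.univ := hKc.closure_eq.symm.trans hKd.closure_eq
  haveI hfin : Finite (G ⧸ Sn) := Finite.of_surjective (fun k : K => (k : G ⧸ Sn)) fun q =>
    ⟨⟨q, hK.symm.subset (Set.mem_univ q)⟩, rfl⟩
  haveI : (Sn).FiniteIndex := Subgroup.finiteIndex_of_finite_quotient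
  exact ⟨hfin, Subgroup.isOpen_of_isClosed_of_finiteIndex _ (Subgroup.isClosed_topologicalClosure _)⟩

theorem hasEnough : HasEnoughRootsOfUnity Zn n where
  prim := by
    refine ⟨Multiplicative.ofAdd 1, ?_⟩
    have h := IsPrimitiveRoot.orderOf (Multiplicative.ofAdd (1 : ZMod n))
    rwa [orderOf_ofAdd_eq_addOrderOf, ZMod.addOrderOf_one] at h
  cyc := by
    haveI : IsCyclic (Zn)ˣ := isCyclic_of_surjective (toUnits (G := Zn)).toMonoidHom
      (toUnits (G := Zn)).surjective
    exact Subgroup.isCyclic _

include hs in
theorem main :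
    (∀ φ : G ≃* G, Continuous φ → Continuous φ.symm → (Sn).map φ.toMonoidHom = Sn) ∧
    (∀ g : G, g ∈ Sn ↔
        ∀ χ : G →* Zn, IsOpen ((χ.ker : Subgroup G) : Set G) → χ g = 1) ∧
    (∀ F : ContChar G n →* Zn, ∃ g : G,
        ∀ χ : ContChar G n, F χ = (χ.1 : G →* Zn) g) ∧
    (∀ (H : Subgroup G) [H.Normal], IsClosed (H : Set G) →
        Nonempty (G ⧸ H ≃* (ContChar G n →* Zn)) → H = Sn) := by
  classical
  haveI := normal_S (G := G) n
  obtain ⟨hfin, hopen⟩ := finite_quot n s hs
  haveI := hfin
  letI : CommGroup (G ⧸ Sn) :=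
    { (inferInstance : Group (G ⧸ Sn)) with
      mul_comm := fun a b => by
        induction a using QuotientGroup.induction_on with | _ a =>
        induction b using QuotientGroup.induction_on with | _ b =>
        show ((a * b : G) : G ⧸ Sn) = ((b * a : G) : G ⧸ Sn)
        rw [QuotientGroup.eq]
        refine commutator_le_S n ?_
        have h := Subgroup.commutator_mem_commutator (Subgroup.mem_top b⁻¹) (Subgroup.mem_top a⁻¹)
        simpa [commutatorElement_def, commutator_def, mul_assoc] using h }
  haveI := hasEnough n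
  haveI : HasEnoughRootsOfUnity Zn (Monoid.exponent (G ⧸ Sn)) :=
    HasEnoughRootsOfUnity.of_dvd Zn (n := n) (Monoid.exponent_dvd_of_forall_pow_eq_one fun q => by
      induction q using QuotientGroup.induction_on with | _ g =>
      rw [← QuotientGroup.mk_pow, QuotientGroup.eq_one_iff]
      exact pow_mem_S n g)
  let ι : (G ⧸ Sn →* (Zn)ˣ) →* ContChar G n :=
    { toFun := fun ψ => ⟨(toUnits (G := Zn)).symm.toMonoidHom.comp (ψ.comp (QuotientGroup.mk' Sn)),
        Subgroup.isOpen_mono (H₁ := Sn) (fun g hg => by
          rw [MonoidHom.mem_ker]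
          show (toUnits (G := Zn)).symm (ψ (g : G ⧸ Sn)) = 1
          rw [(QuotientGroup.eq_one_iff g).2 hg, map_one, map_one]) hopen⟩
      map_one' := Subtype.ext (MonoidHom.ext fun g => rfl)
      map_mul' := fun a b => Subtype.ext (MonoidHom.ext fun g => rfl) }
  have hι : Function.Bijective ι := by
    refine ⟨fun a b hab => MonoidHom.ext fun q => ?_, fun χ => ?_⟩
    · induction q using QuotientGroup.induction_on with | _ g =>
      have h := DFunLike.congr_fun (congrArg Subtype.val hab) g
      exact (toUnits (G := Zn)).symm.injective h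
    · refine ⟨(toUnits (G := Zn)).toMonoidHom.comp (QuotientGroup.lift Sn χ.1 (S_le_ker n χ.1 χ.2)), ?_⟩
      exact Subtype.ext (MonoidHom.ext fun g => rfl)
  have hsep : ∀ g : G, g ∈ Sn ↔ ∀ χ : G →* Zn, IsOpen ((χ.ker : Subgroup G) : Set G) → χ g = 1 := by
    intro g
    refine ⟨fun hg χ hχ => S_le_ker n χ hχ hg, fun h => ?_⟩
    by_contra hg
    obtain ⟨ψ, hψ⟩ := CommGroup.exists_apply_ne_one_of_hasEnoughRootsOfUnity (G ⧸ Sn) Zn
      (a := (g : G ⧸ Sn)) (by rwa [Ne, QuotientGroup.eq_one_iff])
    exact hψ ((toUnits (G := Zn)).symm.injective ((h (ι ψ).1 (ι ψ).2).trans (map_one _).symm))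
  have hev : ∀ F : ContChar G n →* Zn, ∃ g : G, ∀ χ : ContChar G n, F χ = (χ.1 : G →* Zn) g := by
    intro F
    obtain ⟨g, hg⟩ := QuotientGroup.mk_surjective
      (CommGroup.monoidHomMonoidHomEquiv (G ⧸ Sn) Zn ((toUnits (G := Zn)).toMonoidHom.comp (F.comp ι)))
    refine ⟨g, fun χ => ?_⟩
    obtain ⟨ψ, rfl⟩ := hι.2 χ
    apply (toUnits (G := Zn)).injective
    show toUnits (F (ι ψ)) = toUnits ((toUnits (G := Zn)).symm (ψ (g : G ⧸ Sn)))
    rw [MulEquiv.apply_symm_apply, hg, CommGroup.apply_monoidHomMonoidHomEquiv]
    rfl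
  refine ⟨fun φ hφ hφs => ?_, hsep, hev, fun H _ hH ⟨e⟩ => ?_⟩
  · refine le_antisymm ?_ fun g hg => ?_
    · rintro _ ⟨g, hg, rfl⟩
      refine (hsep _).2 fun χ hχ => ?_
      exact (hsep g).1 hg (χ.comp φ.toMonoidHom) (hχ.preimage hφ)
    · refine ⟨φ.symm g, (hsep _).2 fun χ hχ => ?_, φ.apply_symm_apply g⟩
      exact (hsep g).1 hg (χ.comp φ.symm.toMonoidHom) (hχ.preimage hφs)
  · let ev : G →* (ContChar G n →* Zn) :=
      { toFun := fun g => { toFun := fun χ => χ.1 g, map_one' := rfl, map_mul' := fun _ _ => rfl }
        map_one' := MonoidHom.ext fun χ => map_one χ.1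
        map_mul' := fun a b => MonoidHom.ext fun χ => map_mul χ.1 a b }
    have hker : ev.ker = Sn := by
      ext g
      rw [MonoidHom.mem_ker, hsep]
      exact ⟨fun h χ hχ => DFunLike.congr_fun h ⟨χ, hχ⟩, fun h => MonoidHom.ext fun χ => h χ.1 χ.2⟩
    have hev' : Function.Surjective ev := fun F => by
      obtain ⟨g, hg⟩ := hev F
      exact ⟨g, MonoidHom.ext fun χ => (hg χ).symm⟩
    let e₀ : G ⧸ Sn ≃* (ContChar G n →* Zn) :=
      (QuotientGroup.quotientMulEquivOfEq hker.symm).trans (QuotientGroup.quotientKerEquivOfSurjective ev hev')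
    have hle : Sn ≤ H := by
      refine S_le n H hH (fun g => ?_) ?_
      · rw [← QuotientGroup.eq_one_iff, QuotientGroup.mk_pow]
        apply e.injective
        rw [map_pow, map_one]
        exact MonoidHom.ext fun χ => pow_zn n _
      · rw [commutator_def, Subgroup.commutator_le]
        intro a _ b _
        rw [← QuotientGroup.eq_one_iff]
        apply e.injective
        rw [map_one, commutatorElement_def]
        simp only [QuotientGroup.mk_mul, QuotientGroup.mk_inv, map_mul, map_inv]
        simp [mul_comm, mul_assoc]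
    have hidx : H.index = (Sn).index := by
      rw [Subgroup.index_eq_card, Subgroup.index_eq_card, Nat.card_congr e.toEquiv, Nat.card_congr e₀.toEquiv]
    refine le_antisymm ?_ hle
    have h1 := Subgroup.relIndex_mul_index hle
    rw [hidx] at h1
    haveI : (Sn).FiniteIndex := Subgroup.finiteIndex_of_finite_quotient
    rw [← Subgroup.relIndex_eq_one]
    exact Nat.eq_of_mul_eq_mul_right (Nat.pos_of_ne_zero Subgroup.FiniteIndex.index_ne_zero)
      (h1.trans (one_mul _).symm)


open W4c1etcurveeff2 in
/-- Let G be a topological group in which some finite subset generates a dense subgroup, let n ≥ 1, and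
let S be the closure of the subgroup generated by all n-th powers and all commutators. Write D for
the group of continuous homomorphisms from G to the discrete cyclic group ℤ/n, that is,
homomorphisms with open kernel (the first cohomology of G with coefficients in the trivial module
ℤ/n), and D^∨ for its ℤ/n-dual, the group of homomorphisms D → ℤ/n. Then: S is carried onto itself
by every group automorphism of G that is a homeomorphism; an element g of G lies in S exactly when
every element of D kills g, and every element of D^∨ is evaluation at some element of G, so that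
evaluation identifies G/S with D^∨; and S is the only closed normal subgroup H of G with G/H
isomorphic to D^∨. (The published statement is for a topologically finitely generated group, calls S
characteristic and does not restrict the competing subgroups H; this row asks the automorphisms to
be homeomorphisms and H to be closed, which is what the argument uses: for the integers with the
p-adic topology times a cyclic group of prime order q ≠ p, the subgroup qℤ × ℤ/q is normal, not
closed, and has quotient isomorphic to D^∨ ≅ ℤ/q, while S = ℤ × 0.) -/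
theorem result
    {G : Type u} [Group G] [TopologicalSpace G] [IsTopologicalGroup G]
    (s : Finset G) (hs : Dense ((Subgroup.closure (s : Set G) : Subgroup G) : Set G))
    (n : ℕ) [NeZero n] (S : Subgroup G) (hS : S = powCommClosure G n) :
    (∀ φ : G ≃* G, Continuous φ → Continuous φ.symm → S.map φ.toMonoidHom = S) ∧
    (∀ g : G, g ∈ S ↔
        ∀ χ : G →* Multiplicative (ZMod n), IsOpen ((χ.ker : Subgroup G) : Set G) → χ g = 1) ∧
    (∀ F : ContChar G n →* Multiplicative (ZMod n), ∃ g : G,
        ∀ χ : ContChar G n, F χ = (χ.1 : G →* Multiplicative (ZMod n)) g) ∧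
    (∀ (H : Subgroup G) [H.Normal], IsClosed (H : Set G) →
        Nonempty (G ⧸ H ≃* (ContChar G n →* Multiplicative (ZMod n))) → H = S) := by
  subst hS
  exact main n s hs

end Groth.Agent.S14176
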