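import Groth.Statements.S14177
import Mathlib

set_option autoImplicit false
universe u v w
open scoped nonZeroDivisors
open EtAlg

namespace Groth.Agent.S14177

attribute [local instance] FractionRing.liftAlgebra FractionRing.isScalarTower_liftAlgebra

theorem exists_local_root {A K L : Type*} [CommRing A] [IsDedekindDomain A] [Field K] [Algebra A K]
    [IsFractionRing A K] [Field L] [Algebra K L] [Algebra A L] [IsScalarTower A K L]
    {n : ℕ} (hn : n ≠ 0) {f : K} (hf : f ≠ 0) {I : FractionalIdeal A⁰ K}
    (hI : FractionalIdeal.spanSingleton A⁰ f = I ^ n) {α : L} (hα : α ^ n = algebraMap K L f)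
    {p : Ideal A} (hp : p.IsPrime) (hp0 : p ≠ ⊥) :
    ∃ (c : K) (t : A), c ≠ 0 ∧ t ∉ p ∧ (algebraMap K L c * α) ^ n = algebraMap A L t := by
  obtain ⟨a, J, ha, rfl⟩ := FractionalIdeal.exists_eq_spanSingleton_mul I
  have ha' : algebraMap A K a ≠ 0 := IsFractionRing.to_map_ne_zero_of_mem_nonZeroDivisors (mem_nonZeroDivisors_iff_ne_zero.2 ha)
  have hw : FractionalIdeal.spanSingleton A⁰ (algebraMap A K a ^ n * f) = ((J ^ n : Ideal A) : FractionalIdeal A⁰ K) := by
    rw [← FractionalIdeal.spanSingleton_mul_spanSingleton, hI, ← FractionalIdeal.spanSingleton_pow, ← mul_pow,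
      ← mul_assoc, FractionalIdeal.spanSingleton_mul_spanSingleton, mul_inv_cancel₀ ha',
      FractionalIdeal.spanSingleton_one, one_mul, FractionalIdeal.coeIdeal_pow]
  obtain ⟨w, hwJ, hwe⟩ : ∃ w ∈ J ^ n, algebraMap A K w = algebraMap A K a ^ n * f :=
    (FractionalIdeal.mem_coeIdeal A⁰).1 (hw ▸ FractionalIdeal.mem_spanSingleton_self A⁰ _)
  have hJ0 : J ≠ ⊥ := by
    rintro rfl
    rw [← Ideal.zero_eq_bot, zero_pow hn, Ideal.zero_eq_bot, Ideal.mem_bot] at hwJ
    rw [hwJ, map_zero] at hwe
    exact mul_ne_zero (pow_ne_zero _ ha') hf hwe.symm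
  have hspan : J ^ n = Ideal.span {w} := by
    apply FractionalIdeal.coeIdeal_injective (K := K)
    show ((J ^ n : Ideal A) : FractionalIdeal A⁰ K) = ((Ideal.span {w} : Ideal A) : FractionalIdeal A⁰ K)
    rw [← hw, FractionalIdeal.coeIdeal_span_singleton, hwe]
  obtain ⟨j, hj, hjp⟩ : ∃ j ∈ J, j ∉ p * J := by
    by_contra h
    have hle : J ≤ p * J := fun x hx => by
      by_contra hx'
      exact h ⟨x, hx, hx'⟩
    have h1 : p * J = 1 * J := by rw [one_mul]; exact le_antisymm Ideal.mul_le_right hle
    exact hp.ne_top ((mul_right_cancel₀ hJ0 h1).trans Ideal.one_eq_top)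
  obtain ⟨Q, hQ⟩ : J ∣ Ideal.span {j} := Ideal.dvd_span_singleton.2 hj
  have hQp : ¬ Q ≤ p := fun hle => hjp (by
    have hm : j ∈ J * Q := hQ ▸ Ideal.mem_span_singleton_self j
    rw [mul_comm p J]
    exact Ideal.mul_mono_right hle hm)
  obtain ⟨s, hs, hsp⟩ := SetLike.not_le_iff_exists.1 hQp
  have hj0 : j ≠ 0 := fun h => hjp (h ▸ zero_mem _)
  have hw0 : w ≠ 0 := fun h => hJ0 (pow_eq_zero_iff hn |>.1 (by rw [hspan, h, Ideal.span_singleton_eq_bot.2 rfl]; rfl))
  obtain ⟨t, ht⟩ : ∃ t, t * j ^ n = s ^ n * w := by
    have hm : s ^ n * w ∈ (Q * J) ^ n := by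
      rw [mul_pow]
      exact Ideal.mul_mem_mul (Ideal.pow_mem_pow hs n) hwJ
    rw [mul_comm, ← hQ, Ideal.span_singleton_pow, Ideal.mem_span_singleton'] at hm
    exact hm
  obtain ⟨r, hr⟩ : ∃ r, r * w = j ^ n := by
    have hm : j ^ n ∈ Ideal.span {w} := hspan ▸ Ideal.pow_mem_pow hj n
    exact Ideal.mem_span_singleton'.1 hm
  have hrt : t * r = s ^ n := mul_right_cancel₀ hw0 (by rw [mul_assoc, hr, ht])
  have htp : t ∉ p := fun h => hsp (hp.mem_of_pow_mem n (hrt ▸ Ideal.mul_mem_right _ _ h))
  have hj' : algebraMap A K j ≠ 0 := IsFractionRing.to_map_ne_zero_of_mem_nonZeroDivisors (mem_nonZeroDivisors_iff_ne_zero.2 hj0)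
  have hs' : algebraMap A K s ≠ 0 := IsFractionRing.to_map_ne_zero_of_mem_nonZeroDivisors
    (mem_nonZeroDivisors_iff_ne_zero.2 fun h => hsp (h ▸ zero_mem _))
  refine ⟨algebraMap A K s * algebraMap A K a / algebraMap A K j, t, div_ne_zero (mul_ne_zero hs' ha') hj', htp, ?_⟩
  rw [mul_pow, hα, ← map_pow, ← map_mul, IsScalarTower.algebraMap_apply A K L t]
  congr 1
  have ht' := congrArg (algebraMap A K) ht
  rw [map_mul, map_mul, map_pow, map_pow, hwe] at ht'
  rw [div_pow, mul_pow, div_mul_eq_mul_div, div_eq_iff (pow_ne_zero _ hj'), ht']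
  ring

theorem unramifiedAt_of_root {A : Type u} {K : Type v} {L : Type w} [CommRing A] [IsDedekindDomain A]
    [Field K] [Algebra A K] [IsFractionRing A K] [Field L] [Algebra K L] [Algebra A L] [IsScalarTower A K L]
    [FiniteDimensional K L] [Algebra.IsSeparable K L] {n : ℕ} (hn : IsUnit (n : A)) (hn0 : n ≠ 0)
    (β : integralClosure A L) (hβ : Algebra.adjoin K {(β : L)} = ⊤) (t : A) (hβt : (β : L) ^ n = algebraMap A L t)
    (P : Ideal (integralClosure A L)) [P.IsPrime] (htP : algebraMap A (integralClosure A L) t ∉ P) :
    Polynomial.aeval β (minpoly A β).derivative ∉ P := by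
  intro hmem
  have hβt' : β ^ n = algebraMap A (integralClosure A L) t := Subtype.ext (by simpa using hβt)
  haveI : IsIntegrallyClosed A := inferInstance
  haveI : Module.IsTorsionFree A (integralClosure A L) := by
    rw [Module.isTorsionFree_iff_algebraMap_injective]
    intro x y h
    apply IsFractionRing.injective A K
    apply (algebraMap K L).injective
    rw [← IsScalarTower.algebraMap_apply, ← IsScalarTower.algebraMap_apply]
    exact congrArg Subtype.val h
  obtain ⟨q, hq⟩ := minpoly.isIntegrallyClosed_dvd (R := A) (Algebra.IsIntegral.isIntegral β)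
    (p := Polynomial.X ^ n - Polynomial.C t) (by simp [hβt'])
  have hd := congrArg (fun p => Polynomial.aeval β (Polynomial.derivative p)) hq
  simp only [Polynomial.derivative_sub, Polynomial.derivative_X_pow, Polynomial.derivative_C, sub_zero,
    Polynomial.derivative_mul, map_mul, map_add, map_pow, Polynomial.aeval_C, Polynomial.aeval_X, minpoly.aeval,
    zero_mul, add_zero] at hd
  have hmem' : algebraMap A (integralClosure A L) (n : A) * β ^ (n - 1) ∈ P := by
    rw [hd]; exact Ideal.mul_mem_right _ _ hmem
  have hunit : IsUnit (algebraMap A (integralClosure A L) (n : A)) := hn.map _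
  have h3 : β ^ (n - 1) ∈ P := (P.unit_mul_mem_iff_mem hunit).1 hmem'
  apply htP
  rw [← hβt', ← Nat.succ_pred_eq_of_pos (Nat.pos_of_ne_zero hn0), pow_succ]
  exact Ideal.mul_mem_right _ _ h3

/-- Let A be a Dedekind domain with fraction field K, let n be a natural number invertible in A, let f
be a nonzero element of K whose principal fractional ideal is the n-th power of a fractional ideal I
(the divisor of f is n times a divisor), and let L = K(α) be a field extension of K generated by a
single element α with α^n = f. Then the integral closure of A in L is finite and étale over A. (The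
published statement is for the normalisation of an integral smooth curve over a perfect field in
such an extension of its function field; this row states the same for any Dedekind domain, the case
the local argument covers.) -/
theorem result
    {A : Type u} {K : Type v} {L : Type w} [CommRing A] [IsDedekindDomain A]
    [Field K] [Algebra A K] [IsFractionRing A K]
    [Field L] [Algebra K L] [Algebra A L] [IsScalarTower A K L]
    (n : ℕ) (hn : IsUnit (n : A)) (f : K) (hf : f ≠ 0)
    (I : FractionalIdeal A⁰ K) (hI : FractionalIdeal.spanSingleton A⁰ f = I ^ n)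
    (α : L) (hα : α ^ n = algebraMap K L f) (hgen : IntermediateField.adjoin K {α} = ⊤) :
    Algebra.Etale A (integralClosure A L) ∧ Module.Finite A (integralClosure A L) := by
  classical
  have hn0 : n ≠ 0 := by
    rintro rfl
    simp at hn
  have hnK : (n : K) ≠ 0 := by
    have h := (hn.map (algebraMap A K)).ne_zero
    rwa [map_natCast] at h
  have haK : Polynomial.aeval α (Polynomial.X ^ n - Polynomial.C f) = 0 := by simp [hα]
  have hint : IsIntegral K α := ⟨Polynomial.X ^ n - Polynomial.C f, Polynomial.monic_X_pow_sub_C f hn0, by simpa using haK⟩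
  haveI : FiniteDimensional K L := by
    have hfd := IntermediateField.adjoin.finiteDimensional hint
    rw [hgen] at hfd
    exact IntermediateField.topEquiv.toLinearEquiv.finiteDimensional
  haveI : Algebra.IsSeparable K L := by
    have hs : IsSeparable K α :=
      (Polynomial.separable_X_pow_sub_C f hnK hf).of_dvd (minpoly.dvd K α haK)
    have h := (IntermediateField.isSeparable_adjoin_simple_iff_isSeparable K L).2 hs
    rw [hgen] at h
    exact AlgEquiv.Algebra.isSeparable IntermediateField.topEquiv
  haveI : Module.Finite A (integralClosure A L) := IsIntegralClosure.finite A K L (integralClosure A L)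
  haveI : IsDedekindDomain (integralClosure A L) := IsIntegralClosure.isDedekindDomain A K L (integralClosure A L)
  haveI : IsFractionRing (integralClosure A L) L := integralClosure.isFractionRing_of_finite_extension K L
  haveI : Module.IsTorsionFree A (integralClosure A L) := by
    rw [Module.isTorsionFree_iff_algebraMap_injective]
    intro x y h
    apply IsFractionRing.injective A K
    apply (algebraMap K L).injective
    rw [← IsScalarTower.algebraMap_apply, ← IsScalarTower.algebraMap_apply]
    exact congrArg Subtype.val h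
  haveI : Algebra.IsSeparable (FractionRing A) (FractionRing (integralClosure A L)) := by
    refine Algebra.IsSeparable.of_equiv_equiv (FractionRing.algEquiv A K).symm.toRingEquiv
      (FractionRing.algEquiv (integralClosure A L) L).symm.toRingEquiv ?_
    apply IsLocalization.ringHom_ext A⁰
    ext x
    simp only [RingHom.coe_comp, RingEquiv.coe_toRingHom, Function.comp_apply, AlgEquiv.toRingEquiv_eq_coe,
      AlgEquiv.coe_ringEquiv, AlgEquiv.commutes]
    rw [← IsScalarTower.algebraMap_apply A (FractionRing A) (FractionRing (integralClosure A L)),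
      IsScalarTower.algebraMap_apply A (integralClosure A L) (FractionRing (integralClosure A L)),
      ← IsScalarTower.algebraMap_apply A K L, IsScalarTower.algebraMap_apply A (integralClosure A L) L,
      AlgEquiv.commutes]
  haveI : Module.Flat A (integralClosure A L) := inferInstance
  haveI : Algebra.FiniteType A (integralClosure A L) := Module.Finite.finiteType _
  haveI : Algebra.FinitePresentation A (integralClosure A L) := Algebra.FinitePresentation.of_finiteType.1 inferInstance
  haveI : Algebra.FormallyUnramified A (integralClosure A L) := by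
    rw [Algebra.formallyUnramified_iff_forall]
    intro P
    show Algebra.IsUnramifiedAt A P.asIdeal
    rw [← not_dvd_differentIdeal_iff (A := A)]
    intro hdvd
    rcases eq_or_ne P.asIdeal ⊥ with h0 | h0
    · rw [h0] at hdvd
      exact differentIdeal_ne_bot (Ideal.zero_eq_bot (R := integralClosure A L) ▸ zero_dvd_iff.1 (Ideal.zero_eq_bot (R := integralClosure A L) ▸ hdvd))
    have hp0 : P.asIdeal.comap (algebraMap A (integralClosure A L)) ≠ ⊥ := fun hc => h0 (Ideal.eq_bot_of_comap_eq_bot hc)
    obtain ⟨c, t, hc, htp, hpow⟩ := exists_local_root (L := L) hn0 hf hI hα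
      (p := P.asIdeal.comap (algebraMap A (integralClosure A L))) (Ideal.comap_isPrime _ _) hp0
    have hβ : IsIntegral A (algebraMap K L c * α) :=
      IsIntegral.of_pow (Nat.pos_of_ne_zero hn0) (hpow ▸ isIntegral_algebraMap)
    let β : integralClosure A L := ⟨_, hβ⟩
    have hadj : Algebra.adjoin K {(β : L)} = ⊤ := by
      rw [eq_top_iff, ← IntermediateField.top_toSubalgebra, ← hgen,
        IntermediateField.adjoin_simple_toSubalgebra_of_isAlgebraic hint.isAlgebraic, Algebra.adjoin_le_iff,
        Set.singleton_subset_iff]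
      have h := (Algebra.adjoin K {(β : L)}).smul_mem (Algebra.subset_adjoin (Set.mem_singleton (β : L))) c⁻¹
      rwa [Algebra.smul_def, ← mul_assoc, ← map_mul, inv_mul_cancel₀ hc, map_one, one_mul] at h
    refine unramifiedAt_of_root (K := K) hn hn0 β hadj t hpow P.asIdeal htp ?_
    exact Ideal.dvd_iff_le.1 hdvd (aeval_derivative_mem_differentIdeal A K L β hadj)
  exact ⟨Algebra.Etale.of_formallyUnramified_of_flat, inferInstance⟩

end Groth.Agent.S14177
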