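import Groth.Statements.S14178
import Mathlib

set_option autoImplicit false
universe u v w
open scoped nonZeroDivisors
open EtAlg

namespace Groth.Agent.S14178

theorem ideal_pow_left_injective {A : Type*} [CommRing A] [IsDedekindDomain A] {n : ℕ} (hn : n ≠ 0)
    {a b : Ideal A} (ha : a ≠ ⊥) (hb : b ≠ ⊥) (h : a ^ n = b ^ n) : a = b := by
  classical
  have h1 := congrArg UniqueFactorizationMonoid.normalizedFactors h
  rw [UniqueFactorizationMonoid.normalizedFactors_pow, UniqueFactorizationMonoid.normalizedFactors_pow] at h1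
  have h2 : UniqueFactorizationMonoid.normalizedFactors a = UniqueFactorizationMonoid.normalizedFactors b :=
    Multiset.ext.2 fun x => by
      have h3 := congrArg (Multiset.count x) h1
      rw [Multiset.count_nsmul, Multiset.count_nsmul] at h3
      exact Nat.eq_of_mul_eq_mul_left (Nat.pos_of_ne_zero hn) h3
  exact associated_iff_eq.mp
    ((UniqueFactorizationMonoid.associated_iff_normalizedFactors_eq_normalizedFactors ha hb).2 h2)

theorem fractional_pow_left_injective {A K : Type*} [CommRing A] [IsDedekindDomain A] [Field K] [Algebra A K]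
    [IsFractionRing A K] {n : ℕ} (hn : n ≠ 0) {I J : FractionalIdeal A⁰ K} (hI : I ≠ 0) (hJ : J ≠ 0)
    (h : I ^ n = J ^ n) : I = J := by
  obtain ⟨a, P, ha, rfl⟩ := FractionalIdeal.exists_eq_spanSingleton_mul I
  obtain ⟨b, Q, hb, rfl⟩ := FractionalIdeal.exists_eq_spanSingleton_mul J
  have ha' : algebraMap A K a ≠ 0 := IsFractionRing.to_map_ne_zero_of_mem_nonZeroDivisors (mem_nonZeroDivisors_iff_ne_zero.2 ha)
  have hb' : algebraMap A K b ≠ 0 := IsFractionRing.to_map_ne_zero_of_mem_nonZeroDivisors (mem_nonZeroDivisors_iff_ne_zero.2 hb)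
  set c := FractionalIdeal.spanSingleton A⁰ (algebraMap A K a * algebraMap A K b) with hc
  have e1 : c * (FractionalIdeal.spanSingleton A⁰ (algebraMap A K a)⁻¹ * (P : FractionalIdeal A⁰ K)) =
      ((Ideal.span {b} * P : Ideal A) : FractionalIdeal A⁰ K) := by
    rw [FractionalIdeal.coeIdeal_mul, FractionalIdeal.coeIdeal_span_singleton, hc, ← mul_assoc,
      FractionalIdeal.spanSingleton_mul_spanSingleton]
    congr 2
    field_simp
  have e2 : c * (FractionalIdeal.spanSingleton A⁰ (algebraMap A K b)⁻¹ * (Q : FractionalIdeal A⁰ K)) =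
      ((Ideal.span {a} * Q : Ideal A) : FractionalIdeal A⁰ K) := by
    rw [FractionalIdeal.coeIdeal_mul, FractionalIdeal.coeIdeal_span_singleton, hc, ← mul_assoc,
      FractionalIdeal.spanSingleton_mul_spanSingleton]
    congr 2
    field_simp
  have hP : Ideal.span {b} * P ≠ ⊥ := mul_ne_zero (by simpa using hb) fun hP => hI (by rw [hP]; simp)
  have hQ : Ideal.span {a} * Q ≠ ⊥ := mul_ne_zero (by simpa using ha) fun hQ => hJ (by rw [hQ]; simp)
  have h2 : (Ideal.span {b} * P) ^ n = (Ideal.span {a} * Q) ^ n := by
    refine FractionalIdeal.coeIdeal_injective (K := K) ?_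
    show (((Ideal.span {b} * P) ^ n : Ideal A) : FractionalIdeal A⁰ K) = (((Ideal.span {a} * Q) ^ n : Ideal A) : FractionalIdeal A⁰ K)
    rw [FractionalIdeal.coeIdeal_pow, FractionalIdeal.coeIdeal_pow, ← e1, ← e2, mul_pow c, mul_pow c, h]
  have h3 := ideal_pow_left_injective hn hP hQ h2
  have hc0 : c ≠ 0 := by
    rw [hc, Ne, FractionalIdeal.spanSingleton_eq_zero_iff]
    exact mul_ne_zero ha' hb'
  apply mul_left_cancel₀ hc0
  rw [e1, e2, h3]

/-- Let A be a Dedekind domain with fraction field K, let n be a natural number invertible in A such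
that K contains a primitive n-th root of unity, let f be a nonzero element of K and I an invertible
fractional ideal of A with (f) = I^n whose class in the ideal class group of A has order exactly n
(the divisor of f is n times a divisor whose class has order n), and let L = K(α) be a field
extension of K generated by a single element α with α^n = f. Then L is Galois over K of degree n
with cyclic Galois group. (The published statement is for an integral smooth curve over a perfect
field containing a primitive n-th root of unity, with the Picard group of the curve in place of the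
class group; this row states it for any Dedekind domain.) -/
theorem result
    {A : Type u} {K : Type v} {L : Type w} [CommRing A] [IsDedekindDomain A]
    [Field K] [Algebra A K] [IsFractionRing A K]
    [Field L] [Algebra K L]
    (n : ℕ) (hn : IsUnit (n : A)) (ζ : K) (hζ : IsPrimitiveRoot ζ n) (f : K) (hf : f ≠ 0)
    (I : (FractionalIdeal A⁰ K)ˣ) (hI : FractionalIdeal.spanSingleton A⁰ f = (I : FractionalIdeal A⁰ K) ^ n)
    (hord : orderOf (ClassGroup.mk K I) = n)
    (α : L) (hα : α ^ n = algebraMap K L f) (hgen : IntermediateField.adjoin K {α} = ⊤) :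
    IsGalois K L ∧ IsCyclic (L ≃ₐ[K] L) ∧ Module.finrank K L = n := by
  classical
  have hn0 : n ≠ 0 := by
    rintro rfl
    simp at hn
  have hint : IsIntegral K α := ⟨Polynomial.X ^ n - Polynomial.C f, Polynomial.monic_X_pow_sub_C f hn0, by simp [hα]⟩
  haveI : FiniteDimensional K L := by
    have hfd := IntermediateField.adjoin.finiteDimensional hint
    rw [hgen] at hfd
    exact IntermediateField.topEquiv.toLinearEquiv.finiteDimensional
  set d := Module.finrank K L with hd
  have hd0 : 0 < d := Module.finrank_pos
  have hdn : d ≤ n := by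
    have h1 : d = (minpoly K α).natDegree := by
      rw [hd, ← IntermediateField.adjoin.finrank hint, hgen, IntermediateField.finrank_top']
    rw [h1]
    have h2 := Polynomial.natDegree_le_of_dvd (minpoly.dvd K α (p := Polynomial.X ^ n - Polynomial.C f) (by simp [hα]))
      (Polynomial.X_pow_sub_C_ne_zero (Nat.pos_of_ne_zero hn0) f)
    rwa [Polynomial.natDegree_X_pow_sub_C] at h2
  set N := Algebra.norm K α
  have hN : N ^ n = f ^ d := by rw [← map_pow, hα, Algebra.norm_algebraMap]
  have hN0 : N ≠ 0 := fun h => by
    rw [h, zero_pow hn0] at hN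
    exact pow_ne_zero d hf hN.symm
  have hpow : FractionalIdeal.spanSingleton A⁰ N = (I : FractionalIdeal A⁰ K) ^ d := by
    refine fractional_pow_left_injective hn0 (by simpa [FractionalIdeal.spanSingleton_eq_zero_iff] using hN0)
      (pow_ne_zero _ (Units.ne_zero I)) ?_
    rw [FractionalIdeal.spanSingleton_pow, hN, ← FractionalIdeal.spanSingleton_pow, hI, ← pow_mul, ← pow_mul, mul_comm]
  have hdiv : n ∣ d := by
    rw [← hord, orderOf_dvd_iff_pow_eq_one, ← map_pow, ClassGroup.mk_eq_one_iff]
    have hval : ((I ^ d : (FractionalIdeal A⁰ K)ˣ) : FractionalIdeal A⁰ K) = FractionalIdeal.spanSingleton A⁰ N := by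
      rw [Units.val_pow_eq_pow_val, hpow]
    rw [hval, FractionalIdeal.coe_spanSingleton]
    exact ⟨⟨N, rfl⟩⟩
  have hdeq : d = n := le_antisymm hdn (Nat.le_of_dvd hd0 hdiv)
  have hK : (primitiveRoots (Module.finrank K L) K).Nonempty :=
    ⟨ζ, (mem_primitiveRoots hd0).2 (by rw [hdeq]; exact hζ)⟩
  have ha : α ^ (Module.finrank K L) = algebraMap K L f := by rw [show Module.finrank K L = n from hdeq]; exact hα
  have H := irreducible_X_pow_sub_C_of_root_adjoin_eq_top ha hgen
  haveI := isSplittingField_X_pow_sub_C_of_root_adjoin_eq_top hK ha hgen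
  haveI : NeZero (Module.finrank K L) := ⟨hd0.ne'⟩
  exact ⟨isGalois_of_isSplittingField_X_pow_sub_C hK H L, isCyclic_of_isSplittingField_X_pow_sub_C hK H L, hdeq⟩

end Groth.Agent.S14178
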