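import Groth.Statements.S14181
import Mathlib

set_option autoImplicit false
universe u
open CategoryTheory
open GalCoh

namespace Groth.Agent.S14181

set_option backward.isDefEq.respectTransparency.types false
open groupCohomology

/-- Let G be a group with a finite normal subgroup P, k a commutative ring and A a k-linear
representation of G such that multiplication by the order of P is a bijection of A. Then the
inflation map on 1-cocycles (crossed homomorphisms) Z¹(G/P, A^P) → Z¹(G, A) has a k-linear left
inverse. (The published statement is for the inertia group of a Galois cover of smooth curves at a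
point, its normal Sylow p-subgroup P and a module of n-torsion with n prime to p; the argument uses
only that the order of P acts invertibly, which is the hypothesis taken here.) -/
theorem result
    {k G : Type u} [CommRing k] [Group G] (A : Rep.{u} k G) (P : Subgroup G) [P.Normal] [Finite P]
    (hP : Function.Bijective fun a : A => (Nat.card P : k) • a) :
    ∃ r : ModuleCat.of k (groupCohomology.cocycles₁ A) ⟶
        ModuleCat.of k (groupCohomology.cocycles₁ (A.quotientToInvariants P)),
      (groupCohomology.mapCocycles₁ (QuotientGroup.mk' P) (Rep.ofHom (A.ρ.quotientToInvariants_lift P)) :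
          ModuleCat.of k (groupCohomology.cocycles₁ (A.quotientToInvariants P)) ⟶
            ModuleCat.of k (groupCohomology.cocycles₁ A)) ≫ r = 𝟙 _ := by
  classical
  haveI := Fintype.ofFinite P
  let N : A →ₗ[k] A := (Nat.card P : k) • LinearMap.id
  let M := (LinearEquiv.ofBijective N hP).symm.toLinearMap
  have hM : ∀ a : A, M ((Nat.card P : k) • a) = a := fun a => (LinearEquiv.ofBijective N hP).symm_apply_apply a
  let S : A →ₗ[k] A := ∑ p : P, A.ρ p
  let e : A →ₗ[k] A := M.comp S
  have hMc : ∀ (g : G) (a : A), A.ρ g (M a) = M (A.ρ g a) := fun g a => by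
    obtain ⟨b, rfl⟩ := hP.2 a
    dsimp only
    rw [hM, map_smul, hM]
  have hSc : ∀ (g : G) (a : A), A.ρ g (S a) = S (A.ρ g a) := fun g a => by
    simp only [S, LinearMap.sum_apply, map_sum]
    let eq : P ≃ P := ⟨fun p => ⟨g * p * g⁻¹, ‹P.Normal›.conj_mem p p.2 g⟩,
      fun p => ⟨g⁻¹ * p * g, by simpa using ‹P.Normal›.conj_mem p p.2 g⁻¹⟩,
      fun p => Subtype.ext (by show g⁻¹ * (g * p * g⁻¹) * g = p; group),
      fun p => Subtype.ext (by show g * (g⁻¹ * p * g) * g⁻¹ = p; group)⟩
    refine Fintype.sum_equiv eq _ _ fun p => ?_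
    rw [← Module.End.mul_apply, ← Module.End.mul_apply, ← map_mul, ← map_mul]
    show A.ρ (g * p) a = A.ρ (g * p * g⁻¹ * g) a
    rw [inv_mul_cancel_right]
  have hec : ∀ (g : G) (a : A), A.ρ g (e a) = e (A.ρ g a) := fun g a => by
    show A.ρ g (M (S a)) = M (S (A.ρ g a))
    rw [hMc, hSc]
  have heinv : ∀ (q : P) (a : A), A.ρ q (e a) = e a := fun q a => by
    show A.ρ q (M (S a)) = M (S a)
    rw [hMc]
    congr 1
    simp only [S, LinearMap.sum_apply, map_sum]
    refine Fintype.sum_equiv (Equiv.mulLeft q) _ _ fun p => ?_
    rw [← Module.End.mul_apply, ← map_mul]; rfl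
  have hefix : ∀ a : A, (∀ q : P, A.ρ q a = a) → e a = a := fun a ha => by
    show M (S a) = a
    simp only [S, LinearMap.sum_apply, ha, Finset.sum_const, Finset.card_univ, ← Nat.card_eq_fintype_card]
    rw [← Nat.cast_smul_eq_nsmul k, hM]
  have heP : ∀ (f : cocycles₁ A) (p : P), e (f p) = 0 := by
    intro f p
    have hn : ∀ n : ℕ, e (f ((p : G) ^ n)) = n • e (f p) := by
      intro n
      induction n with
      | zero => simp
      | succ n ih =>
        rw [pow_succ', (mem_cocycles₁_iff f).1 f.2, map_add, ← hec, heinv, ih, succ_nsmul]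
    have h1 := hn (Nat.card P)
    rw [show ((p : G) ^ Nat.card P) = 1 by rw [← SubgroupClass.coe_pow, pow_card_eq_one', OneMemClass.coe_one],
      cocycles₁_map_one, map_zero, ← Nat.cast_smul_eq_nsmul k] at h1
    exact hP.1 (h1.symm.trans (smul_zero _).symm)
  let r0 : cocycles₁ A → cocycles₁ (A.quotientToInvariants P) := fun f =>
    ⟨fun q => Quotient.liftOn' q (fun g => (⟨e (f g), fun s => heinv s _⟩ : Representation.invariants (A.ρ.comp P.subtype)))
      (fun g h hgh => Subtype.ext (by
        rw [QuotientGroup.leftRel_apply] at hgh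
        obtain ⟨p, hp⟩ : ∃ p : P, h = g * p := ⟨⟨_, hgh⟩, by simp⟩
        show e (f g) = e (f h)
        rw [hp, (mem_cocycles₁_iff f).1 f.2, map_add, ← hec, heP, map_zero, zero_add])),
      (mem_cocycles₁_iff _).2 fun x y => QuotientGroup.induction_on x fun g => QuotientGroup.induction_on y fun h => Subtype.ext (by
        show e (f (g * h)) = A.ρ g (e (f h)) + e (f g)
        rw [(mem_cocycles₁_iff f).1 f.2, map_add, hec])⟩
  refine ⟨ModuleCat.ofHom
    { toFun := r0
      map_add' := fun f f' => Subtype.ext (funext fun q => QuotientGroup.induction_on q fun g => Subtype.ext (by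
        exact map_add e (f.1 g) (f'.1 g)))
      map_smul' := fun c f => Subtype.ext (funext fun q => QuotientGroup.induction_on q fun g => Subtype.ext (by
        exact map_smul e c (f.1 g))) }, ?_⟩
  refine ModuleCat.hom_ext (LinearMap.ext fun x => ?_)
  refine Subtype.ext (funext fun q => QuotientGroup.induction_on q fun g => Subtype.ext ?_)
  show e ((x (g : G ⧸ P)).1) = (x (g : G ⧸ P)).1
  exact hefix _ fun s => (x (g : G ⧸ P)).2 s

end Groth.Agent.S14181
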