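import Groth.Statements.S14188
import Mathlib

set_option autoImplicit false
universe u
open CategoryTheory CategoryTheory.Limits AlgebraicGeometry
open FlatMor

namespace Groth.Agent.S14188

/-- Let T be an integral scheme with generic point η, let Y and Z be schemes flat over T with Z
separated over T, and let ψ : Y_η → Z be a T-morphism from the generic fibre Y_η = Y ×_T Spec
O_{T,η} (equivalently, an η-morphism Y_η → Z_η). Let gr : Y_η → Y ×_T Z be the graph of ψ, the
morphism whose components are the projection Y_η → Y and ψ, and let Γ ⊆ Y ×_T Z be the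
scheme-theoretic image of gr (the schematic closure of the graph). Then ψ extends to a T-morphism φ
: Y → Z, meaning that the composite Y_η → Y → Z is ψ, if and only if the composite of the inclusion
Γ → Y ×_T Z with the first projection is an isomorphism Γ ≅ Y. -/
theorem result (T Y Z : Scheme.{u}) [IsIntegral T]
    (pY : Y ⟶ T) (pZ : Z ⟶ T) [Flat pY] [Flat pZ] [IsSeparated pZ]
    (ψ : pullback pY (T.fromSpecStalk (genericPoint T)) ⟶ Z)
    (hψ : ψ ≫ pZ = pullback.fst pY (T.fromSpecStalk (genericPoint T)) ≫ pY)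
    (gr : pullback pY (T.fromSpecStalk (genericPoint T)) ⟶ pullback pY pZ)
    (hgr₁ : gr ≫ pullback.fst pY pZ = pullback.fst pY (T.fromSpecStalk (genericPoint T)))
    (hgr₂ : gr ≫ pullback.snd pY pZ = ψ) :
    (∃ φ : Y ⟶ Z, φ ≫ pZ = pY ∧ pullback.fst pY (T.fromSpecStalk (genericPoint T)) ≫ φ = ψ) ↔
      IsIso (gr.imageι ≫ pullback.fst pY pZ) := by
  let j := T.fromSpecStalk (genericPoint T)
  let a := pullback.fst pY j
  haveI : Subsingleton ↥(Spec (T.presheaf.stalk (genericPoint T))) :=
    inferInstanceAs (Subsingleton (PrimeSpectrum T.functionField))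
  haveI : QuasiCompact j := ⟨fun s _ _ => (Set.subsingleton_of_subsingleton.finite).isCompact⟩
  haveI : IsDominant j := ⟨by
    rw [DenseRange, dense_iff_closure_eq]
    refine Set.eq_univ_of_univ_subset ?_
    rw [← genericPoint_closure (α := T)]
    exact closure_mono (Set.singleton_subset_iff.2 ⟨IsLocalRing.closedPoint _, Scheme.fromSpecStalk_closedPoint⟩)⟩
  haveI : IsSchemeTheoreticallyDominant j := IsSchemeTheoreticallyDominant.of_isDominant j
  haveI : IsSchemeTheoreticallyDominant a := inferInstanceAs (IsSchemeTheoreticallyDominant (pullback.fst pY j))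
  constructor
  · rintro ⟨φ, hφ, hφψ⟩
    let Γφ := pullback.lift (𝟙 Y) φ (by rw [Category.id_comp, hφ]) (f := pY) (g := pZ)
    have h1 : Γφ ≫ pullback.fst pY pZ = 𝟙 Y := pullback.lift_fst _ _ _
    haveI : IsSeparated (pullback.fst pY pZ) := inferInstance
    haveI : IsClosedImmersion (Γφ ≫ pullback.fst pY pZ) := by rw [h1]; infer_instance
    haveI : IsClosedImmersion Γφ := IsClosedImmersion.of_comp Γφ (pullback.fst pY pZ)
    have hg : gr = a ≫ Γφ := pullback.hom_ext
      (by rw [hgr₁, Category.assoc, h1, Category.comp_id])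
      (by rw [hgr₂, Category.assoc, pullback.lift_snd]; exact hφψ.symm)
    have hle : Γφ.ker ≤ gr.imageι.ker := by
      rw [Scheme.Hom.imageι, Scheme.IdealSheafData.ker_subschemeι, hg]
      exact Scheme.Hom.le_ker_comp a Γφ
    let l := IsClosedImmersion.lift Γφ gr.imageι hle
    have hl : l ≫ Γφ = gr.imageι := IsClosedImmersion.lift_fac _ _ _
    have hcomp : gr.imageι ≫ pullback.fst pY pZ = l := by
      rw [← hl, Category.assoc, h1, Category.comp_id]
    rw [hcomp]
    haveI : IsClosedImmersion (l ≫ Γφ) := hl ▸ inferInstance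
    haveI : IsClosedImmersion l := IsClosedImmersion.of_comp l Γφ
    rw [IsClosedImmersion.isIso_iff_ker_eq_bot]
    refine le_bot_iff.1 ?_
    have ha : gr.toImage ≫ l = a := by
      rw [← hcomp, ← Category.assoc, Scheme.Hom.toImage_imageι, hgr₁]
    have hker : a.ker = ⊥ := a.ker_eq_bot
    rw [← hker, ← ha]
    exact Scheme.Hom.le_ker_comp _ l
  · intro hiso
    haveI := hiso
    refine ⟨inv (gr.imageι ≫ pullback.fst pY pZ) ≫ gr.imageι ≫ pullback.snd pY pZ, ?_, ?_⟩
    · rw [Category.assoc, Category.assoc, ← pullback.condition, ← Category.assoc gr.imageι,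
        IsIso.inv_hom_id_assoc]
    · have h2 : a = gr.toImage ≫ gr.imageι ≫ pullback.fst pY pZ := by
        rw [← Category.assoc, Scheme.Hom.toImage_imageι, hgr₁]
      change a ≫ _ = ψ
      rw [h2, Category.assoc, IsIso.hom_inv_id_assoc, ← Category.assoc, Scheme.Hom.toImage_imageι,
        hgr₂]

end Groth.Agent.S14188
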