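import Groth.Statements.S14189
import Groth.Agent.SchDescent.Cover
import Groth.Agent.SchDescent.SepExt
-- import your own Groth.Agent.* helpers here

set_option autoImplicit false
universe u
open CategoryTheory CategoryTheory.Limits AlgebraicGeometry
open FlatMor

namespace Groth.Agent.S14189

/-- Let T be an integral scheme with generic point η, let Y and Z be schemes flat over T with Z
separated over T, and let ψ : Y_η → Z be a T-morphism from the generic fibre Y_η = Y ×_T Spec
O_{T,η}. Let g : T' → T be flat, surjective and quasi-compact, and let φ' : Y_{T'} → Z_{T'} be a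
T'-morphism which agrees with ψ over T' ×_T η, in the sense that on Y_{T'} ×_Y Y_η = Y ×_T T' ×_T
Spec O_{T,η} the composite of the first projection with φ' and with Z_{T'} → Z equals the composite
of the second projection with ψ. Then ψ extends to a T-morphism φ : Y → Z, one whose composite with
Y_η → Y is ψ. (The published statement is an equivalence and also records that an extension, when it
exists, is unique; the converse direction, that an extension over T base-changes to such a φ' over
any such T', is immediate, and this row states the existence direction only.) -/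
theorem result (T Y Z T' : Scheme.{u}) [IsIntegral T]
    (pY : Y ⟶ T) (pZ : Z ⟶ T) [Flat pY] [Flat pZ] [IsSeparated pZ]
    (ψ : pullback pY (T.fromSpecStalk (genericPoint T)) ⟶ Z)
    (hψ : ψ ≫ pZ = pullback.fst pY (T.fromSpecStalk (genericPoint T)) ≫ pY)
    (g : T' ⟶ T) [Flat g] [Surjective g] [QuasiCompact g]
    (φ' : pullback pY g ⟶ pullback pZ g) (hφ' : φ' ≫ pullback.snd pZ g = pullback.snd pY g)
    (hagree : pullback.fst (pullback.fst pY g) (pullback.fst pY (T.fromSpecStalk (genericPoint T))) ≫ φ' ≫ pullback.fst pZ g =
      pullback.snd (pullback.fst pY g) (pullback.fst pY (T.fromSpecStalk (genericPoint T))) ≫ ψ) :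
    ∃ φ : Y ⟶ Z, φ ≫ pZ = pY ∧ pullback.fst pY (T.fromSpecStalk (genericPoint T)) ≫ φ = ψ := by
  let j := T.fromSpecStalk (genericPoint T)
  haveI : Subsingleton ↥(Spec (T.presheaf.stalk (genericPoint T))) :=
    inferInstanceAs (Subsingleton (PrimeSpectrum T.functionField))
  haveI : QuasiCompact j := ⟨fun s _ _ => (Set.subsingleton_of_subsingleton.finite).isCompact⟩
  haveI : IsDominant j := ⟨by
    rw [DenseRange, dense_iff_closure_eq]
    refine Set.eq_univ_of_univ_subset ?_
    rw [← genericPoint_closure (α := T)]
    exact closure_mono (Set.singleton_subset_iff.2 ⟨IsLocalRing.closedPoint _, Scheme.fromSpecStalk_closedPoint⟩)⟩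
  haveI : IsSchemeTheoreticallyDominant j := IsSchemeTheoreticallyDominant.of_isDominant j
  let π := pullback.fst pY g
  let Φ := φ' ≫ pullback.fst pZ g
  have hΦ : Φ ≫ pZ = π ≫ pY := by
    simp only [Φ, π, Category.assoc, pullback.condition]
    rw [← Category.assoc, hφ']
  have hπ : Groth.Agent.SchDescent.IsCover (fun _ : PUnit.{1} => π) :=
    Groth.Agent.SchDescent.isCover_singleton π
  obtain ⟨φ, hφ, -⟩ := Groth.Agent.SchDescent.existsUnique_glue hπ (fun _ => Φ) (fun _ _ W a b e => by
    let r := pullback.lift a b e
    suffices h : pullback.fst π π ≫ Φ = pullback.snd π π ≫ Φ by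
      have := congr(r ≫ $h)
      simpa only [r, pullback.lift_fst_assoc, pullback.lift_snd_assoc] using this
    let q := pullback.fst π π ≫ π ≫ pY
    haveI : Flat q := inferInstance
    refine Groth.Agent.SchDescent.hom_ext_of_isSchemeTheoreticallyDominant (pullback.fst q j) pZ
      (by rw [Category.assoc (pullback.fst π π) Φ, Category.assoc (pullback.snd π π) Φ, hΦ, ← Category.assoc, pullback.condition, Category.assoc]) ?_
    let c : pullback q j ⟶ pullback pY j :=
      pullback.lift (pullback.fst q j ≫ pullback.fst π π ≫ π) (pullback.snd q j) (by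
        simp only [Category.assoc]; exact pullback.condition)
    have h1 := congr(pullback.lift (pullback.fst q j ≫ pullback.fst π π) c
      ((Category.assoc _ _ _).trans (pullback.lift_fst _ _ _).symm) ≫ $hagree)
    have h2 := congr(pullback.lift (pullback.fst q j ≫ pullback.snd π π) c
      ((Category.assoc _ _ _).trans ((congrArg (pullback.fst q j ≫ ·) (pullback.condition (f := π) (g := π)).symm).trans (pullback.lift_fst _ _ _).symm)) ≫ $hagree)
    erw [pullback.lift_fst_assoc, pullback.lift_snd_assoc] at h1 h2
    simp only [Category.assoc] at h1 h2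
    simp only [Φ]
    exact h1.trans h2.symm)
  have hφπ : π ≫ φ = Φ := hφ PUnit.unit
  refine ⟨φ, ?_, ?_⟩
  · refine Groth.Agent.SchDescent.hom_ext hπ fun _ => ?_
    rw [reassoc_of% hφπ, hΦ]
  · let p := pullback.snd π (pullback.fst pY j)
    have hp : Groth.Agent.SchDescent.IsCover (fun _ : PUnit.{1} => p) :=
      Groth.Agent.SchDescent.isCover_singleton p
    refine Groth.Agent.SchDescent.hom_ext hp fun _ => ?_
    rw [← hagree]
    simp only [p, ← Category.assoc]
    rw [← pullback.condition, Category.assoc, hφπ]
    simp [Φ]
    rfl
end Groth.Agent.S14189
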