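import Groth.Statements.S14192
import Mathlib.RingTheory.PowerSeries.Exp
import Mathlib.RingTheory.PowerSeries.Derivative
import Mathlib.RingTheory.PowerSeries.Substitution
import Mathlib.RingTheory.PowerSeries.Inverse
import Mathlib.Algebra.BigOperators.Ring.Finset
import Mathlib.Tactic.Ring
import Mathlib.Tactic.FieldSimp
import Mathlib.Tactic.LinearCombination

set_option autoImplicit false
open PowerSeries
open StackCount

namespace Groth.Agent.S14192

/-- Let R = Σ_n r_n X^n be a Laurent polynomial with integer coefficients and q > 1 an integer. In the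
ring of formal power series in t over ℚ, the exponential of Σ_{v ≥ 1} R(q^v) t^v / v equals the
finite product Π_n (1 - q^n t)^(-r_n). Stated here with denominators cleared: the exponential series
multiplied by Π_{n : r_n > 0} (1 - q^n t)^(r_n) equals Π_{n : r_n < 0} (1 - q^n t)^(-r_n) (each
factor 1 - q^n t is a unit, so this is equivalent). -/
theorem result (R : LaurentPolynomial ℤ) (q : ℤ) (hq : 1 < q) :
    (PowerSeries.exp ℚ).subst
        (PowerSeries.mk fun v : ℕ => if v = 0 then (0 : ℚ)
          else (R.coeff.sum fun (n : ℤ) (r : ℤ) => (r : ℚ) * (q : ℚ) ^ (n * (v : ℤ))) / (v : ℚ))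
      * ∏ n ∈ R.coeff.support, (1 - PowerSeries.C ((q : ℚ) ^ n) * PowerSeries.X) ^ (R.coeff n).toNat
    = ∏ n ∈ R.coeff.support, (1 - PowerSeries.C ((q : ℚ) ^ n) * PowerSeries.X) ^ (-(R.coeff n)).toNat := by
  classical
  let a : ℤ → ℚ := fun n => (q : ℚ) ^ n
  let G : ℤ → PowerSeries ℚ := fun n => PowerSeries.mk fun k => a n ^ (k + 1)
  have hG : ∀ n, G n * (1 - PowerSeries.C (a n) * PowerSeries.X) = PowerSeries.C (a n) := by
    intro n
    ext k
    rw [mul_sub, mul_one, map_sub, ← mul_assoc, PowerSeries.coeff_C]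
    cases k with
    | zero => simp [G]
    | succ k =>
      rw [PowerSeries.coeff_succ_mul_X, PowerSeries.coeff_mul_C]
      simp [G, pow_succ]
  have hprod : ∀ (e : ℤ → ℕ) (t : Finset ℤ),
      d⁄dX ℚ (∏ n ∈ t, (1 - PowerSeries.C (a n) * PowerSeries.X) ^ e n) =
        -(∑ n ∈ t, (e n : PowerSeries ℚ) * G n) *
          ∏ n ∈ t, (1 - PowerSeries.C (a n) * PowerSeries.X) ^ e n := by
    intro e t
    induction t using Finset.induction with
    | empty => simp
    | insert x t hx ih =>
      rw [Finset.prod_insert hx, Finset.sum_insert hx, Derivation.leibniz, ih,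
        PowerSeries.derivative_pow, map_sub, Derivation.map_one_eq_zero, Derivation.leibniz,
        PowerSeries.derivative_C, PowerSeries.derivative_X]
      simp only [smul_eq_mul, mul_zero, add_zero, mul_one, zero_sub]
      rcases Nat.eq_zero_or_pos (e x) with h0 | h0
      · simp [h0]
      · have hp : (1 - PowerSeries.C (a x) * PowerSeries.X) ^ e x =
            (1 - PowerSeries.C (a x) * PowerSeries.X) ^ (e x - 1) *
              (1 - PowerSeries.C (a x) * PowerSeries.X) := by
          rw [← pow_succ, Nat.sub_add_cancel h0]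
        generalize ∏ n ∈ t, (1 - PowerSeries.C (a n) * PowerSeries.X) ^ e n = P
        linear_combination (-(e x : PowerSeries ℚ) * G x) * 0 + ((e x : PowerSeries ℚ) * G x * P) * hp +
          ((e x : PowerSeries ℚ) * (1 - PowerSeries.C (a x) * PowerSeries.X) ^ (e x - 1) * P) * hG x
  set S := PowerSeries.mk fun v : ℕ => if v = 0 then (0 : ℚ)
          else (R.coeff.sum fun (n : ℤ) (r : ℤ) => (r : ℚ) * (q : ℚ) ^ (n * (v : ℤ))) / (v : ℚ) with hSdef
  have hS0 : PowerSeries.constantCoeff S = 0 := by simp [hSdef, ← PowerSeries.coeff_zero_eq_constantCoeff_apply]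
  have hsub : PowerSeries.HasSubst S := PowerSeries.HasSubst.of_constantCoeff_zero' hS0
  have hS' : d⁄dX ℚ S = ∑ n ∈ R.coeff.support, ((R.coeff n : ℤ) : PowerSeries ℚ) * G n := by
    ext k
    rw [PowerSeries.coeff_derivative, map_sum, hSdef, PowerSeries.coeff_mk, if_neg (Nat.succ_ne_zero k)]
    have hk : ((k + 1 : ℕ) : ℚ) = (k : ℚ) + 1 := by push_cast; ring
    rw [hk, div_mul_cancel₀ _ (by positivity), Finsupp.sum]
    refine Finset.sum_congr rfl fun n _ => ?_
    rw [← map_intCast (PowerSeries.C (R := ℚ)), PowerSeries.coeff_C_mul]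
    simp only [G, a, PowerSeries.coeff_mk]
    rw [← zpow_natCast, ← zpow_mul]
  let A : PowerSeries ℚ := ∏ n ∈ R.coeff.support, (1 - PowerSeries.C (a n) * PowerSeries.X) ^ (R.coeff n).toNat
  let B : PowerSeries ℚ := ∏ n ∈ R.coeff.support, (1 - PowerSeries.C (a n) * PowerSeries.X) ^ (-(R.coeff n)).toNat
  change (PowerSeries.exp ℚ).subst S * A = B
  set E : PowerSeries ℚ := (PowerSeries.exp ℚ).subst S with hE
  have hE' : d⁄dX ℚ E = E * d⁄dX ℚ S := by
    rw [hE, PowerSeries.derivative_subst hsub, PowerSeries.derivative_exp]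
  have h1 : ∀ e : ℤ → ℕ, PowerSeries.constantCoeff
      (∏ n ∈ R.coeff.support, (1 - PowerSeries.C (a n) * PowerSeries.X) ^ e n) = 1 := by
    intro e
    simp [map_prod]
  have hE0 : PowerSeries.constantCoeff E = 1 := by
    rw [hE, ← PowerSeries.coeff_zero_eq_constantCoeff_apply, PowerSeries.coeff_subst' hsub,
      finsum_eq_single _ 0 fun d hd => by simp [PowerSeries.coeff_zero_eq_constantCoeff_apply, map_pow, hS0, zero_pow hd]]
    simp
  have hB0 : PowerSeries.constantCoeff B = 1 := h1 _
  have hsplit : d⁄dX ℚ S =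
      (∑ n ∈ R.coeff.support, ((R.coeff n).toNat : PowerSeries ℚ) * G n) -
      ∑ n ∈ R.coeff.support, ((-(R.coeff n)).toNat : PowerSeries ℚ) * G n := by
    rw [hS', ← Finset.sum_sub_distrib]
    refine Finset.sum_congr rfl fun n _ => ?_
    rw [← sub_mul]
    congr 1
    conv_lhs => rw [← Int.toNat_sub_toNat_neg (R.coeff n)]
    push_cast
    ring
  have hcan : E * A * B⁻¹ = 1 := by
    apply PowerSeries.derivative.ext
    · rw [Derivation.map_one_eq_zero, Derivation.leibniz, Derivation.leibniz, hE',
        PowerSeries.derivative_inv', show d⁄dX ℚ A = _ from hprod _ _, show d⁄dX ℚ B = _ from hprod _ _,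
        hsplit]
      simp only [smul_eq_mul]
      have hB : B * B⁻¹ = 1 := PowerSeries.mul_inv_cancel _ (by rw [hB0]; exact one_ne_zero)
      linear_combination (E * A * B⁻¹ *
        ∑ n ∈ R.coeff.support, ((-(R.coeff n)).toNat : PowerSeries ℚ) * G n) * hB
    · simp [map_mul, hE0, hB0, PowerSeries.constantCoeff_inv, A, h1]
  calc E * A = E * A * (B⁻¹ * B) := by rw [PowerSeries.inv_mul_cancel _ (by rw [hB0]; exact one_ne_zero), mul_one]
    _ = B := by rw [← mul_assoc, hcan, one_mul]

end Groth.Agent.S14192
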