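import Groth.Statements.S14211
import Groth.Agent.CSA.Period

set_option autoImplicit false
universe u v
open scoped TensorProduct
open Brauer

namespace Groth.Agent.S14211
theorem exists_quaternion {k : Type u} [Field k] (h2 : (2 : k) ≠ 0) (D : Type v) [DivisionRing D]
    [Algebra k D] [Algebra.IsCentral k D] [FiniteDimensional k D] (hd : Module.finrank k D = 4) :
    ∃ a b : k, Nonempty (QuaternionAlgebra k a 0 b ≃ₐ[k] D) := by
  obtain ⟨z, hz⟩ : ∃ z : D, z ∉ Set.range (algebraMap k D) := by
    by_contra hcon
    push Not at hcon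
    have := LinearMap.finrank_range_le (Algebra.linearMap k D)
    rw [LinearMap.range_eq_top.2 (fun y => let ⟨a, ha⟩ := hcon y; ⟨a, ha⟩), finrank_top, hd,
      Module.finrank_self] at this
    omega
  let E := Algebra.adjoin k ({z} : Set D)
  have hEcomm : ∀ x ∈ E, x * z = z * x := fun x hx => by
    induction hx using Algebra.adjoin_induction with
    | mem x hx => rw [Set.mem_singleton_iff.1 hx]
    | algebraMap r => rw [Algebra.commutes]
    | add x y _ _ hx hy => rw [add_mul, mul_add, hx, hy]
    | mul x y _ _ hx hy => rw [mul_assoc, hy, ← mul_assoc, hx, mul_assoc]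
  have hdim : ∀ w : D, w ∉ Set.range (algebraMap k D) →
      Module.finrank k (Algebra.adjoin k ({w} : Set D)) = 2 ∧
      Subalgebra.centralizer k ((Algebra.adjoin k ({w} : Set D)) : Set D) = Algebra.adjoin k {w} := by
    intro w hw
    let B := Algebra.adjoin k ({w} : Set D)
    haveI := CSACentralizer.isSimpleRing_subalgebra k D B
    have h1 := CSACentralizer.finrank_mul_finrank_centralizer k D B
    have hwc : ∀ x ∈ B, x * w = w * x := fun x hx => by
      induction hx using Algebra.adjoin_induction with
      | mem x hx => rw [Set.mem_singleton_iff.1 hx]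
      | algebraMap r => rw [Algebra.commutes]
      | add x y _ _ hx hy => rw [add_mul, mul_add, hx, hy]
      | mul x y _ _ hx hy => rw [mul_assoc, hy, ← mul_assoc, hx, mul_assoc]
    have hle : B ≤ Subalgebra.centralizer k (B : Set D) := by
      refine Algebra.adjoin_le ?_
      intro x hx y hy
      rw [Set.mem_singleton_iff.1 hx]
      exact hwc y hy
    have h2le : Module.finrank k B ≤ Module.finrank k (Subalgebra.centralizer k (B : Set D)) :=
      Submodule.finrank_mono (s := Subalgebra.toSubmodule B)
        (t := Subalgebra.toSubmodule (Subalgebra.centralizer k (B : Set D))) hle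
    have hne1 : Module.finrank k B ≠ 1 := fun h => hw (by
      have hB : B = ⊥ := Subalgebra.eq_bot_of_finrank_one h
      exact Algebra.mem_bot.1 (hB ▸ Algebra.self_mem_adjoin_singleton k w))
    have hpos : 0 < Module.finrank k B := Module.finrank_pos
    rw [hd] at h1
    have hr : Module.finrank k B = 2 := by
      have : Module.finrank k B ∣ 4 := ⟨_, h1.symm⟩
      have := Nat.le_of_dvd (by norm_num) this
      interval_cases hB : Module.finrank k B <;> omega
    refine ⟨hr, (Subalgebra.eq_of_le_of_finrank_eq hle ?_).symm⟩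
    rw [hr] at h1
    show Module.finrank k B = _
    omega
  obtain ⟨hE2, hEC⟩ := hdim z hz
  obtain ⟨p, q, hzz⟩ : ∃ p q : k, z * z = p • z + algebraMap k D q := by
    let f : (Fin 3 → k) →ₗ[k] E := LinearMap.codRestrict (Subalgebra.toSubmodule E)
      (Fintype.linearCombination k ![1, z, z * z]) (fun c => by
        rw [Fintype.linearCombination_apply]
        refine Submodule.sum_mem _ fun i _ => Submodule.smul_mem _ _ ?_
        show (![1, z, z * z] : Fin 3 → D) i ∈ E
        fin_cases i
        · exact one_mem E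
        · exact Algebra.self_mem_adjoin_singleton k z
        · exact mul_mem (Algebra.self_mem_adjoin_singleton k z) (Algebra.self_mem_adjoin_singleton k z))
    have hker : LinearMap.ker f ≠ ⊥ := fun h => by
      have := LinearMap.finrank_le_finrank_of_injective (LinearMap.ker_eq_bot.1 h)
      rw [Module.finrank_fin_fun, hE2] at this
      omega
    obtain ⟨c, hc, hc0⟩ := Submodule.exists_mem_ne_zero_of_ne_bot hker
    have hsum : c 0 • (1 : D) + c 1 • z + c 2 • (z * z) = 0 := by
      have h0 : Fintype.linearCombination k ![1, z, z * z] c = 0 :=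
        congrArg Subtype.val (LinearMap.mem_ker.1 hc)
      simpa [Fintype.linearCombination_apply, Fin.sum_univ_three] using h0
    by_cases h2c : c 2 = 0
    · exfalso
      rw [h2c, zero_smul, add_zero] at hsum
      by_cases h1c : c 1 = 0
      · rw [h1c, zero_smul, add_zero] at hsum
        apply hc0
        funext i
        fin_cases i
        · simpa using hsum
        · exact h1c
        · exact h2c
      · refine hz ⟨-(c 0 / c 1), ?_⟩
        have : z = (c 1)⁻¹ • (c 1 • z) := by rw [smul_smul, inv_mul_cancel₀ h1c, one_smul]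
        rw [this, eq_neg_of_add_eq_zero_right hsum, smul_neg, smul_smul, Algebra.algebraMap_eq_smul_one,
          neg_smul, div_eq_inv_mul]
    · refine ⟨-(c 1 / c 2), -(c 0 / c 2), ?_⟩
      have : z * z = (c 2)⁻¹ • (c 2 • (z * z)) := by rw [smul_smul, inv_mul_cancel₀ h2c, one_smul]
      rw [this, eq_neg_of_add_eq_zero_right hsum, smul_neg, smul_add, smul_smul, smul_smul,
        Algebra.algebraMap_eq_smul_one, div_eq_inv_mul, div_eq_inv_mul]
      module
  let x : D := z - algebraMap k D (p / 2)
  have hxx : x * x = algebraMap k D (q + p / 2 * (p / 2)) := by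
    simp only [x, sub_mul, mul_sub, hzz, Algebra.algebraMap_eq_smul_one, smul_mul_assoc, mul_smul_comm,
      one_mul, mul_one, smul_smul]
    match_scalars <;> field_simp <;> ring
  have hx : x ∉ Set.range (algebraMap k D) := fun ⟨c, hc⟩ => hz ⟨c + p / 2, by simp [map_add, hc, x]⟩
  set a := q + p / 2 * (p / 2)
  obtain ⟨-, hxC⟩ := hdim x hx
  obtain ⟨w, hw⟩ : ∃ w, x * w - w * x ≠ 0 := by
    by_contra hcon
    push Not at hcon
    obtain ⟨c, hc⟩ := Algebra.IsCentral.out (K := k) (D := D)
      (Subalgebra.mem_center_iff.2 fun w => (sub_eq_zero.1 (hcon w)).symm)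
    exact hx ⟨c, hc⟩
  set y := x * w - w * x
  have hxy : x * y = -(y * x) := by
    have h1 : x * y + y * x = x * x * w - w * (x * x) := by simp only [y]; noncomm_ring
    rw [hxx, Algebra.commutes, sub_self] at h1
    exact eq_neg_of_add_eq_zero_left h1
  have hycx : y * y ∈ Algebra.adjoin k ({x} : Set D) := by
    rw [← hxC]
    intro v hv
    induction hv using Algebra.adjoin_induction with
    | mem v hv =>
      rw [Set.mem_singleton_iff.1 hv, ← mul_assoc, hxy, neg_mul, mul_assoc, hxy, mul_neg, neg_neg,
        ← mul_assoc]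
    | algebraMap r => rw [Algebra.commutes]
    | add u v _ _ hu hv => rw [add_mul, mul_add, hu, hv]
    | mul u v _ _ hu hv => rw [mul_assoc, hv, ← mul_assoc, hu, mul_assoc]
  have hlin : ∀ v ∈ Algebra.adjoin k ({x} : Set D), ∃ r s : k, v = algebraMap k D r + s • x := by
    intro v hv
    induction hv using Algebra.adjoin_induction with
    | mem v hv => exact ⟨0, 1, by simp [Set.mem_singleton_iff.1 hv]⟩
    | algebraMap r => exact ⟨r, 0, by simp⟩
    | add u v _ _ hu hv =>
      obtain ⟨r, s, rfl⟩ := hu
      obtain ⟨r', s', rfl⟩ := hv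
      exact ⟨r + r', s + s', by rw [map_add, add_smul]; abel⟩
    | mul u v _ _ hu hv =>
      obtain ⟨r, s, rfl⟩ := hu
      obtain ⟨r', s', rfl⟩ := hv
      refine ⟨r * r' + s * s' * a, r * s' + s * r', ?_⟩
      simp only [add_mul, mul_add, smul_mul_assoc, mul_smul_comm, hxx, Algebra.algebraMap_eq_smul_one,
        one_mul, mul_one, smul_smul]
      module
  obtain ⟨b, s, hb⟩ := hlin _ hycx
  have hs : s = 0 := by
    by_contra hs
    have h1 : y * (algebraMap k D b + s • x) = (algebraMap k D b + s • x) * y := by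
      rw [← hb, mul_assoc]
    rw [mul_add, add_mul, ← Algebra.commutes, mul_smul_comm, smul_mul_assoc, hxy] at h1
    have h3 : s • (y * x) = s • -(y * x) := add_left_cancel h1
    have h4 : (2 * s) • (y * x) = 0 := by
      rw [two_mul, add_smul]
      nth_rw 2 [h3]
      simp
    rcases smul_eq_zero.1 h4 with h5 | h5
    · exact mul_ne_zero h2 hs h5
    · rcases mul_eq_zero.1 h5 with h6 | h6
      · exact hw h6
      · exact hx ⟨0, by simp [h6]⟩
  rw [hs, zero_smul, add_zero] at hb
  let qb : QuaternionAlgebra.Basis D a 0 b :=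
    { i := x, j := y, k := x * y
      i_mul_i := by rw [hxx, zero_smul, add_zero, Algebra.algebraMap_eq_smul_one]
      j_mul_j := by rw [hb, Algebra.algebraMap_eq_smul_one]
      i_mul_j := rfl
      j_mul_i := by rw [zero_smul, zero_sub, hxy, neg_neg] }
  have hinj : Function.Injective qb.liftHom := by
    refine (injective_iff_map_eq_zero _).2 fun v hv => ?_
    change algebraMap k D v.re + v.imI • x + v.imJ • y + v.imK • (x * y) = 0 at hv
    have hu : ∀ r s : k, (algebraMap k D r + s • x = 0) → r = 0 ∧ s = 0 := by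
      intro r s h
      by_cases hs0 : s = 0
      · subst hs0
        simpa using h
      · exfalso
        refine hx ⟨-(r / s), ?_⟩
        have : x = s⁻¹ • (s • x) := by rw [smul_smul, inv_mul_cancel₀ hs0, one_smul]
        rw [this, eq_neg_of_add_eq_zero_right h, smul_neg, Algebra.algebraMap_eq_smul_one,
          Algebra.algebraMap_eq_smul_one, smul_smul, neg_smul, div_eq_inv_mul]
    have hsplit : (algebraMap k D v.re + v.imI • x) + (algebraMap k D v.imJ + v.imK • x) * y = 0 := by
      rw [add_mul, ← Algebra.smul_def, smul_mul_assoc, ← add_assoc]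
      exact hv
    by_cases hc : algebraMap k D v.imJ + v.imK • x = 0
    · obtain ⟨h3, h4⟩ := hu _ _ hc
      rw [hc, zero_mul, add_zero] at hsplit
      obtain ⟨h5, h6⟩ := hu _ _ hsplit
      exact QuaternionAlgebra.ext h5 h6 h3 h4
    · exfalso
      have hy : y = (algebraMap k D v.imJ + v.imK • x)⁻¹ * -(algebraMap k D v.re + v.imI • x) := by
        rw [← eq_neg_of_add_eq_zero_right hsplit, ← mul_assoc, inv_mul_cancel₀ hc, one_mul]
      have hc' : ∀ r s : k, Commute x (algebraMap k D r + s • x) := fun r s =>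
        (Algebra.commute_algebraMap_right r x).add_right ((Commute.refl x).smul_right s)
      have : Commute x y := by
        rw [hy]
        exact ((hc' _ _).inv_right₀).mul_right ((hc' _ _).neg_right)
      have h7 : y * x + y * x = 0 := by nth_rw 2 [← this.eq]; rw [hxy]; simp
      rw [← two_smul k (y * x), smul_eq_zero] at h7
      rcases h7 with h7 | h7
      · exact h2 h7
      · rcases mul_eq_zero.1 h7 with h6 | h6
        · exact hw h6
        · exact hx ⟨0, by simp [h6]⟩
  have hfr : Module.finrank k (QuaternionAlgebra k a 0 b) = Module.finrank k D := by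
    rw [QuaternionAlgebra.finrank_eq_four, hd]
  haveI : Module.Finite k (QuaternionAlgebra k a 0 b) :=
    Module.finite_of_finrank_pos (by rw [hfr, hd]; norm_num)
  exact ⟨a, b, ⟨AlgEquiv.ofBijective qb.liftHom ⟨hinj,
    (LinearMap.injective_iff_surjective_of_finrank_eq_finrank hfr (f := qb.liftHom.toLinearMap)).1 hinj⟩⟩⟩


/-- Let k be a field in which 2 ≠ 0 and A a finite-dimensional central simple k-algebra. Then A has
period 2 and index 2 (its Severi–Brauer variety has type (2, 2, 2m)) if and only if A is isomorphic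
over k to a matrix algebra M_m(Q), m ≥ 1, over a quaternion algebra Q = (a, b)_k (the k-algebra with
basis 1, i, j, ij, i² = a, j² = b, ij = −ji) which is a division ring; moreover such a quaternion
algebra is unique up to k-isomorphism. -/
theorem result (k : Type u) [Field k] (h2 : (2 : k) ≠ 0)
    (A : Type v) [Ring A] [Algebra k A] [Algebra.IsCentral k A] [IsSimpleRing A]
    [FiniteDimensional k A] :
    ((CSAGal.IsPeriod k A 2 ∧ CSAGal.IsIndex k A 2) ↔
      ∃ (a b : k) (m : ℕ), 0 < m ∧ (∀ x : QuaternionAlgebra k a 0 b, x ≠ 0 → IsUnit x) ∧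
        Nonempty (A ≃ₐ[k] Matrix (Fin m) (Fin m) (QuaternionAlgebra k a 0 b))) ∧
    (∀ (a b a' b' : k) (m m' : ℕ),
      (∀ x : QuaternionAlgebra k a 0 b, x ≠ 0 → IsUnit x) →
      (∀ x : QuaternionAlgebra k a' 0 b', x ≠ 0 → IsUnit x) →
      Nonempty (A ≃ₐ[k] Matrix (Fin m) (Fin m) (QuaternionAlgebra k a 0 b)) →
      Nonempty (A ≃ₐ[k] Matrix (Fin m') (Fin m') (QuaternionAlgebra k a' 0 b')) →
      Nonempty (QuaternionAlgebra k a 0 b ≃ₐ[k] QuaternionAlgebra k a' 0 b')) := by
  have main : ∀ (a b : k) (m : ℕ), (∀ x : QuaternionAlgebra k a 0 b, x ≠ 0 → IsUnit x) →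
      Nonempty (A ≃ₐ[k] Matrix (Fin m) (Fin m) (QuaternionAlgebra k a 0 b)) →
      ∃ (_ : DivisionRing (QuaternionAlgebra k a 0 b)) , True := by
    intro a b m hu _
    exact ⟨DivisionRing.ofIsUnitOrEqZero fun x => (em (x = 0)).symm.imp_left (hu x), trivial⟩
  refine ⟨⟨fun ⟨hp, hi⟩ => ?_, ?_⟩, ?_⟩
  · obtain ⟨m, D, _, _, _, _, hm, -, hD, -, ⟨e⟩⟩ := CSA.exists_matrix_division k A
    rw [← (CSA.isIndex_iff k).1 hi] at hD
    obtain ⟨a, b, ⟨f⟩⟩ := exists_quaternion h2 D (by rw [hD]; norm_num)
    refine ⟨a, b, m, Nat.pos_of_ne_zero hm, fun x hx => ?_, ⟨e.trans f.symm.mapMatrix⟩⟩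
    have hu : IsUnit (f x) := isUnit_iff_ne_zero.2 ((map_ne_zero_iff _ f.injective).2 hx)
    simpa using hu.map f.symm
  · rintro ⟨a, b, m, hm, hu, ⟨e⟩⟩
    have hidx : CSAGal.IsIndex k A 2 := by
      letI : DivisionRing (QuaternionAlgebra k a 0 b) :=
        DivisionRing.ofIsUnitOrEqZero fun x => (em (x = 0)).symm.imp_left (hu x)
      haveI : Module.Finite k (QuaternionAlgebra k a 0 b) :=
        Module.finite_of_finrank_pos (by rw [QuaternionAlgebra.finrank_eq_four]; norm_num)
      haveI : Algebra.IsCentral k (QuaternionAlgebra k a 0 b) := by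
        haveI := CSA.isCentral_congr k e
        haveI : NeZero m := ⟨hm.ne'⟩
        exact CSA.isCentral_of_matrix k _ m
      rw [CSA.isIndex_iff, CSA.cl_of_matrix_equiv k A _ hm.ne' e, CSA.ind_eq_of_finrank k (d := 2)]
      rw [QuaternionAlgebra.finrank_eq_four]
      norm_num
    refine ⟨?_, hidx⟩
    have h2i := (CSA.isIndex_iff k).1 hidx
    rw [CSA.isPeriod_iff]
    rcases (Nat.dvd_prime Nat.prime_two).1 (h2i ▸ CSA.orderOf_dvd_ind (CSA.cl k A)) with h | h
    · exfalso
      rw [orderOf_eq_one_iff] at h
      rw [h, CSA.ind_one] at h2i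
      norm_num at h2i
    · exact h.symm
  · intro a b a' b' m m' hu hu' ⟨e⟩ ⟨e'⟩
    letI : DivisionRing (QuaternionAlgebra k a 0 b) :=
      DivisionRing.ofIsUnitOrEqZero fun x => (em (x = 0)).symm.imp_left (hu x)
    letI : DivisionRing (QuaternionAlgebra k a' 0 b') :=
      DivisionRing.ofIsUnitOrEqZero fun x => (em (x = 0)).symm.imp_left (hu' x)
    have hm : m ≠ 0 := fun h => by subst h; exact not_subsingleton A e.toEquiv.subsingleton
    have hm' : m' ≠ 0 := fun h => by subst h; exact not_subsingleton A e'.toEquiv.subsingleton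
    haveI : Module.Finite k (QuaternionAlgebra k a 0 b) :=
      Module.finite_of_finrank_pos (by rw [QuaternionAlgebra.finrank_eq_four]; norm_num)
    haveI : Module.Finite k (QuaternionAlgebra k a' 0 b') :=
      Module.finite_of_finrank_pos (by rw [QuaternionAlgebra.finrank_eq_four]; norm_num)
    exact (((CSA.BrEq.matrix m hm).symm.trans (CSA.BrEq.of_algEquiv (e.symm.trans e'))).trans
      (CSA.BrEq.matrix m' hm')).division_iso

end Groth.Agent.S14211
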