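import Groth.Statements.S14240
import Groth.Agent.RootChLib.Solid

set_option autoImplicit false
universe u v w x
open RootCh

namespace Groth.Agent.S14240

/-- (ii) ⇔ (iv): for a finite reduced crystallographic root system over a linearly ordered field with a
complementary convex solid d (a vector d(b) of N for every Weyl chamber b, subject to (B1): a common
corner of two chambers pairs equally with their d-values, and (B2): across a wall, the root that
changes sign from positive to negative does not pair more with d on the positive side): every
one-dimensional facet F (the span of F has rank one) has degree at most zero, computed at any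
chamber adjacent to F as the sum of ⟨α, d(b)⟩ over the roots α whose sign on F is not negative, if
and only if (Φ, d) is semi-stable, i.e. 0 lies in the convex hull of the d(b). -/
theorem result {ι : Type u} {R : Type v} {M : Type w} {N : Type x}
    [Field R] [LinearOrder R] [IsStrictOrderedRing R]
    [AddCommGroup M] [Module R M] [AddCommGroup N] [Module R N] [Finite ι]
    (P : RootPairing ι R M N) [P.IsRootSystem] [P.IsCrystallographic] [P.IsReduced] (d : P.Base → N) (hd : RootCh.IsCCS d) :
    (∀ (F : RootCh.Facet P) (b : P.Base), F.dim = 1 → b ∈ F.cham → F.deg d b ≤ 0) ↔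
      RootCh.IsSemistable d := by
  refine ⟨fun h => ?_, fun h F b _ hb => ?_⟩
  · rw [RootCh.IsSemistable, Groth.Agent.RootChLib.mem_solid_iff hd]
    intro b m hm
    rw [Groth.Agent.RootChLib.baseCorners_eq] at hm
    obtain ⟨j, rfl⟩ := hm
    obtain ⟨F, hbF, hsupp⟩ := Groth.Agent.RootChLib.exists_facet b {j}
    have hne : RootCh.fundWeight b j ≠ 0 := fun e => by
      have h1 := RootCh.coroot'_fundWeight_self b j
      rw [e, map_zero] at h1
      exact zero_ne_one h1
    have hdim : F.dim = 1 := by
      rw [RootCh.Facet.dim, Groth.Agent.RootChLib.span_carrier_eq,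
        Groth.Agent.RootChLib.corners_eq hbF, hsupp, Finset.coe_singleton, Set.image_singleton,
        finrank_span_singleton hne]
    have hmem := Groth.Agent.RootChLib.rootSum_parab_mem_carrier F
    have hpos := ((Groth.Agent.RootChLib.mem_carrier_iff hbF).mp hmem j).1 (by simp [hsupp])
    have h1 := h F b hdim hbF
    rw [Groth.Agent.RootChLib.deg_eq, ← Groth.Agent.RootChLib.sum_fundWeight b
      (Groth.Agent.RootChLib.rootSum P F.parab), Finset.sum_eq_single j (fun l _ hl => by
        rw [((Groth.Agent.RootChLib.mem_carrier_iff hbF).mp hmem l).2 (by simp [hsupp, hl]),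
          zero_smul]) (by simp), map_smul, LinearMap.smul_apply, smul_eq_mul] at h1
    rw [map_zero]
    exact nonpos_of_mul_nonpos_right h1 hpos
  · rw [Groth.Agent.RootChLib.deg_eq]
    have h1 := Groth.Agent.RootChLib.pairing_d_le_of_mem_solid hd
      (ξ := Groth.Agent.RootChLib.rootSum P F.parab) (b := b)
      (hb (Groth.Agent.RootChLib.rootSum_parab_mem_carrier F)) h
    rwa [map_zero] at h1

end Groth.Agent.S14240
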