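import Groth.Statements.S14245
import Groth.Agent.RootChLib.Special

set_option autoImplicit false
universe u v w x
open RootCh

namespace Groth.Agent.S14245

/-- For a finite reduced crystallographic root system over a linearly ordered field with a complementary
convex solid d (a vector d(b) of N for every Weyl chamber b, subject to (B1): a common corner of two
chambers pairs equally with their d-values, and (B2): across a wall, the root that changes sign from
positive to negative does not pair more with d on the positive side). Let B be a scalar product on N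
compatible with the Weyl group: a symmetric bilinear form with B(y, y) > 0 for y ≠ 0 that is
invariant under every coreflection. If y₀ is a point of the solid (the convex hull of all the d(b))
with B(y₀, y₀) ≤ B(y, y) for every point y of the solid, and F is the facet whose dual facet
contains y₀, then F is special and the intersection of the hyperplanes H_m over the corners m of F
with the span of the dual facet of F is exactly {y₀}. Here a facet is special when its dual facet
(the corresponding facet of the dual root system, in N) meets its dual solid, the convex hull of the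
values of d at the chambers adjacent to it. (The published definition of a special facet asks
instead that all its numerical invariants be positive and that the reduced root system with convex
solid attached to the facet be semi-stable; it is proved there to be equivalent to the condition
used in this row.) -/
theorem result {ι : Type u} {R : Type v} {M : Type w} {N : Type x}
    [Field R] [LinearOrder R] [IsStrictOrderedRing R]
    [AddCommGroup M] [Module R M] [AddCommGroup N] [Module R N] [Finite ι]
    (P : RootPairing ι R M N) [P.IsRootSystem] [P.IsCrystallographic] [P.IsReduced] (d : P.Base → N) (hd : RootCh.IsCCS d)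
    (B : LinearMap.BilinForm R N) (hBs : ∀ y z : N, B y z = B z y) (hBp : ∀ y : N, y ≠ 0 → 0 < B y y)
    (hBi : ∀ (i : ι) (y z : N), B (P.coreflection i y) (P.coreflection i z) = B y z)
    (y₀ : N) (hy₀ : y₀ ∈ RootCh.solid d) (hmin : ∀ y ∈ RootCh.solid d, B y₀ y₀ ≤ B y y)
    (F : RootCh.Facet P) (hF : y₀ ∈ F.dualCarrier) :
    RootCh.IsSpecial d F ∧ RootCh.yLocus d F = {y₀} := by
  obtain ⟨ξ, hξ, hξz⟩ := Groth.Agent.RootChLib.exists_repr_B hBs hBp hBi y₀ F hF
  -- first order condition at the minimum
  have hfirst : ∀ y ∈ RootCh.solid d, B y₀ y₀ ≤ B y₀ y := by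
    intro y hy
    by_contra! hlt
    set v := y - y₀ with hv
    have hα : B y₀ v < 0 := by rw [hv, map_sub]; linarith
    have hvne : v ≠ 0 := fun e => by rw [e, map_zero] at hα; exact lt_irrefl _ hα
    have hq := hBp v hvne
    set t := min 1 (-(B y₀ v) / B v v) with ht
    have ht0 : 0 < t := lt_min one_pos (div_pos (neg_pos.mpr hα) hq)
    have ht1 : t * B v v ≤ -(B y₀ v) := by
      calc t * B v v ≤ (-(B y₀ v) / B v v) * B v v :=
            mul_le_mul_of_nonneg_right (min_le_right _ _) hq.le
        _ = _ := div_mul_cancel₀ _ hq.ne'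
    have hmem : y₀ + t • v ∈ RootCh.solid d :=
      (convex_convexHull R _).add_smul_sub_mem hy₀ hy ⟨ht0.le, min_le_left _ _⟩
    have h := hmin _ hmem
    simp only [map_add, map_smul, LinearMap.add_apply, LinearMap.smul_apply, smul_eq_mul,
      hBs v y₀] at h
    have h2 : t * (t * B v v) ≤ t * -(B y₀ v) := mul_le_mul_of_nonneg_left ht1 ht0.le
    have h3 : t * B y₀ v < 0 := mul_neg_of_pos_of_neg ht0 hα
    linarith
  have hhalf : ∀ (b : P.Base), ∀ m ∈ RootCh.baseCorners b,
      P.toLinearMap m (d b) ≤ P.toLinearMap m y₀ :=
    (Groth.Agent.RootChLib.mem_solid_iff hd).mp hy₀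
  have hhyp : ∀ m ∈ F.corners, y₀ ∈ RootCh.hyper d m := by
    intro m hm b' hb'
    obtain ⟨b, hb⟩ := Groth.Agent.RootChLib.cham_nonempty F
    rw [← hd.corner_eq b b' m (Groth.Agent.RootChLib.mem_baseCorners_of_mem_cham hb hm) hb']
    rw [Groth.Agent.RootChLib.corners_eq hb] at hm
    obtain ⟨j, hj, rfl⟩ := hm
    have hle := hfirst (d b) (subset_convexHull R _ ⟨b, rfl⟩)
    rw [← hξz, ← hξz, ← Groth.Agent.RootChLib.sum_fundWeight b ξ] at hle
    simp only [map_sum, map_smul, LinearMap.sum_apply, LinearMap.smul_apply, smul_eq_mul] at hle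
    have hterm : ∀ l : b.support,
        P.coroot' l ξ * P.toLinearMap (RootCh.fundWeight b l) (d b) ≤
          P.coroot' l ξ * P.toLinearMap (RootCh.fundWeight b l) y₀ := fun l =>
      mul_le_mul_of_nonneg_left (hhalf b _ (by rw [Groth.Agent.RootChLib.baseCorners_eq]; exact ⟨l, rfl⟩))
        (hb hξ l l.2)
    have heq := (Finset.sum_eq_sum_iff_of_le fun l _ => hterm l).mp
      (le_antisymm (Finset.sum_le_sum fun l _ => hterm l) hle) j (Finset.mem_univ j)
    exact (mul_left_cancel₀ ((Groth.Agent.RootChLib.mem_carrier_iff hb).mp hξ j |>.1 hj).ne' heq).symm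
  have hD : y₀ ∈ RootCh.dualSolid d F := by
    rw [Groth.Agent.RootChLib.dualSolid_eq hd]
    exact ⟨Set.mem_iInter₂.mpr hhyp, Set.mem_iInter₂.mpr fun m _ b hb => hhalf b m hb⟩
  have hS : RootCh.IsSpecial d F := ⟨y₀, hF, hD⟩
  obtain ⟨y₁, h1, h2⟩ := Groth.Agent.RootChLib.exists_yLocus_of_isSpecial hd hS
  have : y₀ ∈ ({y₁} : Set N) := h2 ▸ ⟨hF, hD⟩
  exact ⟨hS, by rw [h1, Set.mem_singleton_iff.mp this]⟩

end Groth.Agent.S14245
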