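import Groth.Statements.S14253
import Mathlib
import Groth.Agent.PerfLib.Props

set_option autoImplicit false
universe u
open CategoryTheory AlgebraicGeometry
open PerfSch

namespace Groth.Agent.S14253

/-- A universal homeomorphism f : X ⟶ Y between perfect schemes of prime characteristic p (on every open
of X and of Y, p = 0 in the ring of sections and the p-th power map is bijective) is an isomorphism. -/
theorem result (p : ℕ) [Fact p.Prime] {X Y : Scheme.{u}} (f : X ⟶ Y)
    (hX : PerfSch.IsPerfect p X) (hY : PerfSch.IsPerfect p Y) (hf : FlatMor.IsUnivHomeo f) : IsIso f := by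
  have : MorphismProperty.isomorphisms Scheme.{u} f := by
    refine Groth.Agent.PerfLib.of_affine_opens f fun U => ?_
    haveI := FlatBasics.isIntegralHom_of_isUnivHomeo hf
    have hV : IsAffineOpen (f ⁻¹ᵁ U.1) := U.2.preimage f
    show IsIso _
    rw [Groth.Agent.PerfLib.morphismRestrict_eq_spec f U.2 hV]
    suffices h : Function.Bijective (f.app U.1).hom by
      haveI : IsIso (f.app U.1) := (ConcreteCategory.isIso_iff_bijective _).mpr h
      infer_instance
    have hu : FlatMor.IsUnivHomeo (Spec.map (f.app U.1)) := by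
      haveI : FlatMor.IsUnivHomeo.{u}.RespectsIso := inferInstanceAs ((MorphismProperty.universally _).RespectsIso)
      haveI : FlatMor.IsUnivHomeo.{u}.IsStableUnderBaseChange :=
        inferInstanceAs ((MorphismProperty.universally _).IsStableUnderBaseChange)
      have h1 : FlatMor.IsUnivHomeo (f ∣_ U.1) := MorphismProperty.of_isPullback
        (P := FlatMor.IsUnivHomeo.{u}) (isPullback_morphismRestrict f U.1).flip hf
      rwa [Groth.Agent.PerfLib.morphismRestrict_eq_spec f U.2 hV,
        MorphismProperty.cancel_left_of_respectsIso (P := FlatMor.IsUnivHomeo.{u}),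
        MorphismProperty.cancel_right_of_respectsIso (P := FlatMor.IsUnivHomeo.{u})] at h1
    obtain ⟨hA, hA'⟩ := hY U.1
    obtain ⟨hB, hB'⟩ := hX (f ⁻¹ᵁ U.1)
    rcases subsingleton_or_nontrivial Γ(X, f ⁻¹ᵁ U.1) with hs | hn
    · have : Subsingleton Γ(Y, U.1) := by
        by_contra hne
        rw [not_subsingleton_iff_nontrivial] at hne
        obtain ⟨P⟩ := (inferInstance : Nonempty (PrimeSpectrum Γ(Y, U.1)))
        obtain ⟨Q, -⟩ := ((EtaLib.isUnivHomeo_Spec_iff (f.app U.1).hom).mp hu).2.1 P
        exact Q.isPrime.ne_top (Subsingleton.elim _ _)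
      exact ⟨fun _ _ _ => Subsingleton.elim _ _, fun b => ⟨0, Subsingleton.elim _ _⟩⟩
    · haveI := (f.app U.1).hom.domain_nontrivial
      haveI := Groth.Agent.PerfLib.charP_of_zero hA
      haveI := Groth.Agent.PerfLib.charP_of_zero hB
      haveI : PerfectRing Γ(Y, U.1) p := ⟨hA'⟩
      haveI : PerfectRing Γ(X, f ⁻¹ᵁ U.1) p := ⟨hB'⟩
      haveI := IsPRadical.of_id Γ(Y, U.1) p
      haveI := IsPRadical.of_id Γ(X, f ⁻¹ᵁ U.1) p
      exact (CAlgH.PerfUH.univHomeo_iff p (f.app U.1).hom (RingHom.id _) (RingHom.id _) (f.app U.1).hom (by simp)).mp hu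
  exact this

end Groth.Agent.S14253
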