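import Groth.Statements.S14262
import Mathlib

set_option autoImplicit false
universe u
open FrobAlg

namespace Groth.Agent.S14262

theorem flat_radical (p : ℕ) [Fact p.Prime] (A : Type u) [CommRing A] [CharP A p] [PerfectRing A p] (f : A) :
    Module.Flat A ((Ideal.span {f}).radical) := by
  classical
  haveI : IsReduced A := ⟨fun x ⟨n, hn⟩ => (bijective_iterateFrobenius A p (n := n)).injective (by
    simp only [iterateFrobenius_def, zero_pow (pow_ne_zero n (Fact.out : p.Prime).ne_zero)]
    exact pow_eq_zero_of_le (Nat.lt_pow_self (Fact.out : p.Prime).one_lt).le hn)⟩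
  let r : ℕ → A := fun n => ((frobeniusEquiv A p).symm)^[n] f
  have hr : ∀ n, r (n + 1) ^ p = r n := fun n => by
    simp only [r, Function.iterate_succ_apply']
    exact frobenius_apply_frobeniusEquiv_symm A p _
  have hrn : ∀ n, r n ^ p ^ n = f := by
    intro n
    induction n with
    | zero => simp [r]
    | succ n ih => rw [pow_succ', pow_mul, hr, ih]
  have hmem : ∀ n, r n ∈ (Ideal.span {f}).radical := fun n =>
    ⟨p ^ n, (hrn n).symm ▸ Ideal.mem_span_singleton_self f⟩
  have hinj : ∀ n, Function.Injective fun x : A => x ^ p ^ n := fun n => (bijective_iterateFrobenius A p (n := n)).injective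
  have hmul : ∀ x ∈ (Ideal.span {f}).radical, ∃ n c, x = c * r n := by
    rintro x ⟨N, hN⟩
    obtain ⟨c, hc⟩ := Ideal.mem_span_singleton'.mp (Ideal.mem_of_dvd _
      (pow_dvd_pow x (Nat.lt_pow_self (n := N) (Fact.out : p.Prime).one_lt).le) hN : x ^ p ^ N ∈ Ideal.span {f})
    obtain ⟨c', hc'⟩ : ∃ c', c' ^ p ^ N = c := (bijective_iterateFrobenius A p (n := N)).surjective c
    exact ⟨N, c', hinj N (by simp only [mul_pow, hc', hrn, hc])⟩
  have hup : ∀ n m, n ≤ m → r n = r m ^ p ^ (m - n) := by
    intro n m h
    refine hinj n ?_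
    simp only [← pow_mul, ← pow_add, Nat.sub_add_cancel h, hrn]
  rw [Module.Flat.iff_forall_isTrivialRelation]
  intro l g x h
  choose n c hc using fun i => hmul (x i).1 (x i).2
  let N := Finset.univ.sup n
  let c' : Fin l → A := fun i => c i * r N ^ (p ^ (N - n i) - 1)
  have hc' : ∀ i, (x i).1 = c' i * r N := fun i => by
    rw [hc i, hup (n i) N (Finset.le_sup (Finset.mem_univ i))]
    show _ = c i * _ * r N
    rw [mul_assoc, ← pow_succ, Nat.sub_add_cancel (Nat.one_le_pow _ _ (Fact.out : p.Prime).pos)]
  refine ⟨1, fun i _ => c' i * r (N + 1) ^ (p - 1), fun _ => ⟨r (N + 1), hmem _⟩, fun i => Subtype.ext ?_, fun _ => ?_⟩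
  · simp only [Fintype.sum_unique, Submodule.coe_smul, smul_eq_mul]
    rw [hc' i, mul_assoc (c' i), ← pow_succ, Nat.sub_add_cancel (Fact.out : p.Prime).one_le, hr]
  · have h0 : (∑ i, g i * c' i) * r N = 0 := by
      have := congrArg Subtype.val h
      simp only [Submodule.coe_sum, Submodule.coe_smul, smul_eq_mul, ZeroMemClass.coe_zero, hc'] at this
      rw [← this, Finset.sum_mul]
      exact Finset.sum_congr rfl fun i _ => mul_assoc _ _ _
    have h2 : (∑ i, g i * c' i) * r (N + 1) = 0 := eq_zero_of_pow_eq_zero (n := p) (by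
      rw [mul_pow, hr, ← mul_pow_sub_one (Fact.out : p.Prime).ne_zero, mul_comm _ ((∑ i, g i * c' i) ^ (p - 1)),
        mul_assoc, h0, mul_zero])
    have hp2 := (Fact.out : p.Prime).two_le
    simp only [← mul_assoc, ← Finset.sum_mul]
    rw [show p - 1 = 1 + (p - 2) by omega, pow_add, pow_one, ← mul_assoc, h2, zero_mul]


/-- Let p be a prime, A a perfect ring of characteristic p and f ∈ A. The radical of the principal ideal
(f) — equivalently the ideal generated by all p^n-th roots of f, n ≥ 0 — is a flat A-module. -/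
theorem result (p : ℕ) [Fact p.Prime] (A : Type u) [CommRing A]
    [CharP A p] [PerfectRing A p] (f : A) :
    Module.Flat A ((Ideal.span {f}).radical) := by
  exact flat_radical p A f

end Groth.Agent.S14262
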