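import Groth.Statements.S14275
import Mathlib

set_option autoImplicit false
universe u
open CAlg

namespace Groth.Agent.S14275

theorem mem_span_pow {A : Type u} [CommRing A] {M : Type u} [AddCommGroup M] [Module A M] (a : A)
    (n : ℕ) (x : M) :
    x ∈ (Ideal.span {a} ^ n • ⊤ : Submodule A M) ↔ ∃ y : M, a ^ n • y = x := by
  rw [Ideal.span_singleton_pow, Submodule.ideal_span_singleton_smul,
    Submodule.mem_smul_pointwise_iff_exists]
  simp

/-- multiplication by a regular element with bounded `a`-torsion cokernel stays injective -/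
theorem smul_completion_injective {A : Type u} [CommRing A] (a r : A) {Q : Type u} [AddCommGroup Q]
    [Module A Q] (hr : IsSMulRegular Q r) (N : ℕ)
    (hN : ∀ x : Q, (∃ (m : ℕ) (y : Q), a ^ m • x = r • y) → ∃ y : Q, a ^ N • x = r • y)
    (z : AdicCompletion (Ideal.span {a}) Q) (hz : r • z = 0) : z = 0 := by
  obtain ⟨g, rfl⟩ := AdicCompletion.mk_surjective _ _ z
  refine AdicCompletion.ext fun n => ?_
  simp only [AdicCompletion.mk_apply_coe, AdicCompletion.val_zero_apply, Submodule.mkQ_apply]
  rw [← AdicCompletion.AdicCauchySequence.mk_eq_mk (show n ≤ n + N by omega) g,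
    Submodule.Quotient.mk_eq_zero, mem_span_pow]
  have h := congrArg (fun w : AdicCompletion (Ideal.span {a}) Q => w.val (n + N)) hz
  simp only [AdicCompletion.val_smul_apply, AdicCompletion.mk_apply_coe, Submodule.mkQ_apply,
    AdicCompletion.val_zero_apply, ← Submodule.Quotient.mk_smul, Submodule.Quotient.mk_eq_zero,
    mem_span_pow] at h
  obtain ⟨y, hy⟩ := h
  obtain ⟨y', hy'⟩ := hN y ⟨n + N, g (n + N), hy⟩
  refine ⟨y', hr ?_⟩
  change r • a ^ n • y' = r • g (n + N)
  rw [smul_comm, ← hy', smul_smul, ← pow_add, hy]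

/-- the kernel of the completion of `A → A/J` is `J·Â` when `A/J` has bounded `a`-torsion -/
theorem ker_map_mkQ {A : Type u} [CommRing A] (a : A) (js : List A) (N : ℕ)
    (hN : ∀ x : A, (∃ m : ℕ, a ^ m * x ∈ Ideal.ofList js) → a ^ N * x ∈ Ideal.ofList js) :
    LinearMap.ker (AdicCompletion.map (Ideal.span {a}) (Ideal.ofList js).mkQ) =
      (Ideal.ofList js).map (algebraMap A (AdicCompletion (Ideal.span {a}) A)) := by
  classical
  set J := Ideal.ofList js with hJ
  refine le_antisymm (fun z hz => ?_) ?_
  swap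
  · let Kk : Ideal (AdicCompletion (Ideal.span {a}) A) :=
      LinearMap.ker (AdicCompletion.map (Ideal.span {a}) J.mkQ)
    suffices J.map (algebraMap A (AdicCompletion (Ideal.span {a}) A)) ≤ Kk from this
    rw [Ideal.map_le_iff_le_comap]
    intro j hj
    refine (LinearMap.mem_ker (f := AdicCompletion.map (Ideal.span {a}) J.mkQ)).mpr ?_
    refine AdicCompletion.ext fun n => ?_
    change Submodule.Quotient.mk (J.mkQ (algebraMap A A j)) = _
    simpa using Ideal.mem_sup_right hj
  obtain ⟨g, rfl⟩ := AdicCompletion.mk_surjective (Ideal.span {a}) A z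
  have hsplit : ∀ n, ∃ b : A, g (n + N) - a ^ (n + N) * b ∈ J := by
    intro n
    have h := congrArg (fun w : AdicCompletion (Ideal.span {a}) (A ⧸ J) => w.val (n + N)) hz
    rw [AdicCompletion.map_mk] at h
    simp only [AdicCompletion.mk_apply_coe, Submodule.mkQ_apply, AdicCompletion.val_zero_apply,
      Submodule.Quotient.mk_eq_zero, mem_span_pow] at h
    obtain ⟨y, hy⟩ := h
    obtain ⟨b, rfl⟩ := Submodule.Quotient.mk_surjective _ y
    exact ⟨b, (Submodule.Quotient.eq J).mp hy.symm⟩
  choose b hb using hsplit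
  let e : Fin js.length → A := fun k => js[k]
  have he : J = Ideal.span (Set.range e) := by
    rw [hJ, Ideal.ofList]; congr 1; ext x; simp [e, List.mem_iff_getElem, Fin.exists_iff, eq_comm]
  have hdiff : ∀ n, ∃ w : Fin js.length → A,
      (g (n + 1 + N) - a ^ (n + 1 + N) * b (n + 1)) - (g (n + N) - a ^ (n + N) * b n) =
        a ^ n * ∑ k, w k * e k := by
    intro n
    have h1 := AdicCompletion.AdicCauchySequence.mk_eq_mk (show n + N ≤ n + 1 + N by omega) g
    rw [Submodule.Quotient.eq, mem_span_pow] at h1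
    obtain ⟨y, hy⟩ := h1
    rw [smul_eq_mul] at hy
    set c := y - a * b (n + 1) + b n
    have hc : a ^ (n + N) * c ∈ J := by
      have h := sub_mem (hb (n + 1)) (hb n)
      convert h using 1
      simp only [c, show n + 1 + N = n + N + 1 by omega, pow_succ] at hy ⊢
      linear_combination hy
    obtain ⟨w, hw⟩ := Submodule.mem_span_range_iff_exists_fun A |>.mp (he ▸ hN c ⟨n + N, hc⟩)
    simp only [smul_eq_mul] at hw
    refine ⟨w, ?_⟩
    rw [hw, ← mul_assoc, ← pow_add]
    simp only [c, show n + 1 + N = n + N + 1 by omega, pow_succ] at hy ⊢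
    linear_combination -hy
  choose w hw using hdiff
  obtain ⟨c₀, hc₀⟩ := Submodule.mem_span_range_iff_exists_fun A |>.mp (he ▸ hb 0)
  simp only [smul_eq_mul] at hc₀
  let u : Fin js.length → ℕ → A := fun k n => c₀ k + ∑ l ∈ Finset.range n, a ^ l * w l k
  have hu : ∀ n, g (n + N) - a ^ (n + N) * b n = ∑ k, u k n * e k := by
    intro n
    induction n with
    | zero => simp [u, hc₀]
    | succ n ih =>
      have h := hw n
      rw [ih] at h
      simp only [u, Finset.sum_range_succ, add_mul, Finset.sum_add_distrib, Finset.mul_sum] at h ⊢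
      simp only [mul_assoc] at h ⊢
      linear_combination h
  let y : Fin js.length → AdicCompletion.AdicCauchySequence (Ideal.span {a}) A := fun k =>
    AdicCompletion.AdicCauchySequence.mk (Ideal.span {a}) A (u k) fun n => by
      rw [SModEq.sub_mem, mem_span_pow]
      exact ⟨-(w n k), by simp only [u, Finset.sum_range_succ, smul_eq_mul]; ring⟩
  have hz' : AdicCompletion.mk (Ideal.span {a}) A g =
      ∑ k, algebraMap A (AdicCompletion (Ideal.span {a}) A) (e k) * AdicCompletion.mk (Ideal.span {a}) A (y k) := by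
    simp only [← Algebra.smul_def]
    refine AdicCompletion.ext fun n => ?_
    simp only [AdicCompletion.val_sum_apply, AdicCompletion.val_smul_apply,
      AdicCompletion.mk_apply_coe]
    rw [Submodule.mkQ_apply, ← AdicCompletion.AdicCauchySequence.mk_eq_mk (show n ≤ n + N by omega) g]
    simp only [← Submodule.mkQ_apply, ← map_smul, ← map_sum]
    rw [Submodule.mkQ_apply, Submodule.mkQ_apply, Submodule.Quotient.eq, mem_span_pow]
    refine ⟨a ^ N * b n, ?_⟩
    rw [smul_eq_mul, ← mul_assoc, ← pow_add]
    change _ = g (n + N) - ∑ k, e k • u k n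
    simp only [smul_eq_mul, mul_comm (e _), ← hu n]
    ring
  rw [hz']
  exact Ideal.sum_mem _ fun k _ => Ideal.mul_mem_right _ _
    (Ideal.mem_map_of_mem _ (he ▸ Ideal.subset_span ⟨k, rfl⟩))

open RingTheory.Sequence in
/-- Let A be a commutative ring, a an element of A with a-adic completion A^, and a_1, ..., a_n a weakly
regular sequence on A such that for each i = 0, ..., n the quotient A/(a_1, ..., a_i) has bounded
a-power torsion (some fixed power of a kills every element killed by a power of a). Then the images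
of a_1, ..., a_n form a weakly regular sequence on A^, and the canonical map from A^ to the a-adic
completion of A/(a_1, ..., a_n) is surjective with kernel the ideal generated by the images of a_1,
..., a_n. -/
theorem result (A : Type u) [CommRing A] (a : A) (rs : List A)
    (hreg : IsWeaklyRegular A rs)
    (hbd : ∀ i ≤ rs.length, ∃ N : ℕ, ∀ x : A ⧸ Ideal.ofList (rs.take i), (∃ m : ℕ, a ^ m • x = 0) → a ^ N • x = 0) :
    IsWeaklyRegular (AdicCompletion (Ideal.span {a}) A)
        (rs.map (algebraMap A (AdicCompletion (Ideal.span {a}) A))) ∧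
      Function.Surjective (AdicCompletion.map (Ideal.span {a}) (Ideal.ofList rs).mkQ) ∧
      LinearMap.ker (AdicCompletion.map (Ideal.span {a}) (Ideal.ofList rs).mkQ) =
        (Ideal.ofList rs).map (algebraMap A (AdicCompletion (Ideal.span {a}) A)) := by
  classical
  set I := Ideal.span {a}
  set Ah := AdicCompletion I A
  have hbd' : ∀ i ≤ rs.length, ∃ N : ℕ, ∀ x : A,
      (∃ m : ℕ, a ^ m * x ∈ Ideal.ofList (rs.take i)) → a ^ N * x ∈ Ideal.ofList (rs.take i) := by
    intro i hi
    obtain ⟨N, hN⟩ := hbd i hi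
    refine ⟨N, fun x ⟨m, hm⟩ => ?_⟩
    rw [← Ideal.Quotient.eq_zero_iff_mem] at hm ⊢
    exact hN (Ideal.Quotient.mk _ x) ⟨m, hm⟩
  refine ⟨?_, AdicCompletion.map_surjective I (Submodule.mkQ_surjective _), ?_⟩
  swap
  · obtain ⟨N, hN⟩ := hbd' rs.length le_rfl
    rw [List.take_length] at hN
    exact ker_map_mkQ a rs N hN
  rw [RingTheory.Sequence.isWeaklyRegular_map_algebraMap_iff, RingTheory.Sequence.isWeaklyRegular_iff]
  intro i hi
  obtain ⟨N, hN⟩ := hbd' i hi.le
  obtain ⟨N', hN'⟩ := hbd' (i + 1) hi
  set J := Ideal.ofList (rs.take i) with hJ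
  have hker := ker_map_mkQ a (rs.take i) N hN
  rw [isSMulRegular_quotient_iff_mem_of_smul_mem]
  intro z hz
  rw [Ideal.smul_top_eq_map, Submodule.restrictScalars_mem] at hz ⊢
  refine (SetLike.ext_iff.mp hker z).mp (LinearMap.mem_ker.mpr ?_)
  replace hz := LinearMap.mem_ker.mp ((SetLike.ext_iff.mp hker _).mpr hz)
  have hreg' := (RingTheory.Sequence.isWeaklyRegular_iff A rs).mp hreg i hi
  rw [smul_eq_mul, Ideal.mul_top] at hreg'
  refine smul_completion_injective a rs[i] hreg' N' ?_ _ ?_
  · intro q hq
    obtain ⟨m, y, hmy⟩ := hq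
    obtain ⟨x, rfl⟩ := Submodule.Quotient.mk_surjective _ q
    obtain ⟨y, rfl⟩ := Submodule.Quotient.mk_surjective _ y
    have hle : Ideal.ofList (rs.take (i + 1)) = J ⊔ Ideal.span {rs[i]} := by
      rw [List.take_add_one, List.getElem?_eq_getElem hi, Option.toList_some, Ideal.ofList_append,
        Ideal.ofList_singleton]
    rw [← Submodule.Quotient.mk_smul, ← Submodule.Quotient.mk_smul, Submodule.Quotient.eq,
      smul_eq_mul, smul_eq_mul] at hmy
    have h1 : a ^ N' * x ∈ Ideal.ofList (rs.take (i + 1)) := by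
      refine hN' x ⟨m, ?_⟩
      rw [hle]
      have := add_mem (Ideal.mem_sup_left hmy : a ^ m * x - rs[i] * y ∈ J ⊔ Ideal.span {rs[i]})
        (Ideal.mem_sup_right (Ideal.mul_mem_right y _ (Ideal.mem_span_singleton_self _)))
      simpa using this
    rw [hle, Submodule.mem_sup] at h1
    obtain ⟨j, hj, s, hs, hjs⟩ := h1
    obtain ⟨t, rfl⟩ := Ideal.mem_span_singleton.mp hs
    refine ⟨Submodule.Quotient.mk t, ?_⟩
    rw [← Submodule.Quotient.mk_smul, ← Submodule.Quotient.mk_smul, Submodule.Quotient.eq,
      smul_eq_mul, smul_eq_mul, ← hjs]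
    simpa using hj
  · rw [← hz, algebra_compatible_smul (AdicCompletion I A) rs[i] z, map_smul, algebraMap_smul]

end Groth.Agent.S14275
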