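import Groth.Statements.S14280
import Mathlib

set_option autoImplicit false
universe u
open SpSeq


namespace Groth.Agent.S14280

set_option backward.isDefEq.respectTransparency false
set_option backward.defeqAttrib.useBackward true

/-- Let E^{p,q} (p, q ≥ 0) be finite-dimensional complex vector spaces each carrying an endomorphism Φ,
and suppose that for a natural number N and functions a, c ≥ 0 (real) and b, d (natural numbers) one
has E^{p,q} = 0 for q > N, |μ| ≤ a(q)c(p) for every eigenvalue μ of Φ on E^{p,q}, and dim E^{p,q} ≤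
b(q)d(p). If Σ_p c(p)d(p) converges then the family of traces tr(Φ | E^{p,q}) is absolutely summable
over all pairs (p, q). (The published statement takes a and b defined on {0, …, N} only; here they
are functions on all natural numbers, which changes nothing since E^{p,q} = 0 for q > N.) -/
theorem result
    (E : ℕ → ℕ → Type u) [∀ p q, AddCommGroup (E p q)] [∀ p q, Module ℂ (E p q)]
    [∀ p q, FiniteDimensional ℂ (E p q)] (Φ : ∀ p q, E p q →ₗ[ℂ] E p q)
    (N : ℕ) (a c : ℕ → ℝ) (b d : ℕ → ℕ) (ha : ∀ q, 0 ≤ a q) (hc : ∀ p, 0 ≤ c p)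
    (h1 : ∀ p q, N < q → Subsingleton (E p q))
    (h2 : ∀ p q (μ : ℂ), Module.End.HasEigenvalue (Φ p q) μ → ‖μ‖ ≤ a q * c p)
    (h3 : ∀ p q, Module.finrank ℂ (E p q) ≤ b q * d p)
    (hsum : Summable fun p : ℕ => c p * (d p : ℝ)) :
    Summable fun pq : ℕ × ℕ => ‖LinearMap.trace ℂ (E pq.1 pq.2) (Φ pq.1 pq.2)‖ := by
  have hb : ∀ p q, ‖LinearMap.trace ℂ (E p q) (Φ p q)‖ ≤ (a q * c p) * (b q * d p : ℕ) := fun p q => by
    classical
    let M := LinearMap.toMatrix (Module.finBasis ℂ (E p q)) (Module.finBasis ℂ (E p q)) (Φ p q)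
    have h0 : LinearMap.trace ℂ (E p q) (Φ p q) = M.trace := LinearMap.trace_eq_matrix_trace ℂ _ _
    have hc1 : M.charpoly = (Φ p q).charpoly := LinearMap.charpoly_toMatrix _ _
    rw [h0, Matrix.trace_eq_sum_roots_charpoly, hc1]
    refine (norm_multiset_sum_le _).trans ?_
    have hroot : ∀ μ ∈ (Φ p q).charpoly.roots, ‖μ‖ ≤ a q * c p := fun μ hμ => by
      refine h2 p q μ ?_
      rw [Module.End.hasEigenvalue_iff_isRoot_charpoly]
      exact (Polynomial.mem_roots (LinearMap.charpoly_monic _).ne_zero).1 hμ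
    refine (Multiset.sum_le_card_nsmul _ (a q * c p) (fun x hx => by obtain ⟨μ, hμ, rfl⟩ := Multiset.mem_map.1 hx; exact hroot μ hμ)).trans ?_
    rw [Multiset.card_map, nsmul_eq_mul, mul_comm]
    refine mul_le_mul_of_nonneg_left ?_ (mul_nonneg (ha q) (hc p))
    exact_mod_cast (Polynomial.card_roots' _).trans ((LinearMap.charpoly_natDegree _).le.trans (h3 p q))
  let A : ℕ → ℝ := fun q => if q ≤ N then a q * b q else 0
  have hA : Summable A := summable_of_ne_finset_zero (s := Finset.range (N + 1)) fun q hq => by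
    simp only [Finset.mem_range] at hq
    simp [A, show ¬ q ≤ N by omega]
  refine Summable.of_nonneg_of_le (fun _ => norm_nonneg _) (fun pq => ?_)
    (hsum.mul_of_nonneg hA (fun p => mul_nonneg (hc p) (by positivity))
      (fun q => by
        change (0 : ℝ) ≤ if q ≤ N then a q * b q else 0
        split_ifs
        · exact mul_nonneg (ha q) (by positivity)
        · exact le_rfl))
  by_cases hq : pq.2 ≤ N
  · refine (hb pq.1 pq.2).trans_eq ?_
    simp only [A, hq, if_true]
    push_cast
    ring
  · haveI := h1 pq.1 pq.2 (by omega)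
    rw [show Φ pq.1 pq.2 = 0 from LinearMap.ext fun x => Subsingleton.elim _ _]
    simp [A, hq]

end Groth.Agent.S14280
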