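import Groth.Statements.S14305
import Mathlib
-- import your own Groth.Agent.* helpers here

set_option autoImplicit false
universe u v
open PtDeg

namespace Groth.Agent.S14305

/-- Let A and G be abelian groups, written additively, f : A → G a map and n ≥ 1. For k ≥ 0 the k-th
deviation of f is the map A^k → G, (y_1, …, y_k) ↦ Σ_{∅ ≠ I ⊆ {1,…,k}} (−1)^{k+|I|} f(Σ_{i ∈ I}
y_i). Then f is pointed of degree n, meaning that its (n+1)-st deviation vanishes identically, if
and only if its n-th deviation is additive in each variable separately (with the other variables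
fixed). -/
theorem result {A : Type u} {G : Type v} [AddCommGroup A] [AddCommGroup G]
    (f : A → G) (n : ℕ) (hn : 1 ≤ n) :
    (∀ x : Fin (n + 1) → A, ∑ I ∈ ((Finset.univ : Finset (Fin (n + 1))).powerset.erase ∅), ((-1 : ℤ) ^ (n + 1 + I.card)) • f (∑ i ∈ I, x i) = 0) ↔
      (∀ (j : Fin n) (y : Fin n → A) (a b : A),
        ∑ I ∈ ((Finset.univ : Finset (Fin n)).powerset.erase ∅), ((-1 : ℤ) ^ (n + I.card)) • f (∑ i ∈ I, (Function.update y j (a + b)) i) =
          ∑ I ∈ ((Finset.univ : Finset (Fin n)).powerset.erase ∅), ((-1 : ℤ) ^ (n + I.card)) • f (∑ i ∈ I, (Function.update y j a) i) + ∑ I ∈ ((Finset.univ : Finset (Fin n)).powerset.erase ∅), ((-1 : ℤ) ^ (n + I.card)) • f (∑ i ∈ I, (Function.update y j b) i)) := by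
  classical
  have hsplit : ∀ {ι : Type} [DecidableEq ι] (s : Finset ι) (i : ι), i ∉ s → ∀ (x : ι → A) (c : A),
      ∑ I ∈ (insert i s).powerset, ((-1 : ℤ) ^ ((insert i s).card + I.card)) • f (c + ∑ l ∈ I, x l) =
      ∑ I ∈ s.powerset, ((-1 : ℤ) ^ (s.card + I.card)) • f (c + x i + ∑ l ∈ I, x l) -
      ∑ I ∈ s.powerset, ((-1 : ℤ) ^ (s.card + I.card)) • f (c + ∑ l ∈ I, x l) := by
    intro ι _ s i hi x c
    rw [Finset.sum_powerset_insert hi, Finset.card_insert_of_notMem hi, add_comm, sub_eq_add_neg, ← Finset.sum_neg_distrib]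
    congr 1
    · refine Finset.sum_congr rfl fun I hI => ?_
      have hiI : i ∉ I := fun h => hi (Finset.mem_powerset.1 hI h)
      rw [Finset.card_insert_of_notMem hiI, Finset.sum_insert hiI, show s.card + 1 + (I.card + 1) = s.card + I.card + 2 by omega, pow_add, neg_one_sq, mul_one, add_assoc]
    · refine Finset.sum_congr rfl fun I _ => ?_
      rw [show s.card + 1 + I.card = s.card + I.card + 1 by omega, pow_succ, mul_neg_one, neg_smul]
  have hmap : ∀ (s : Finset (Fin n)) (x : Fin (n + 1) → A) (c : A),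
      ∑ I ∈ (s.map (Fin.succEmb n)).powerset, ((-1 : ℤ) ^ ((s.map (Fin.succEmb n)).card + I.card)) • f (c + ∑ l ∈ I, x l) =
      ∑ I ∈ s.powerset, ((-1 : ℤ) ^ (s.card + I.card)) • f (c + ∑ l ∈ I, x l.succ) := by
    intro s
    induction s using Finset.induction_on with
    | empty => simp
    | insert i s hi ih => intro x c; rw [Finset.map_insert, hsplit _ _ (by simpa using hi), hsplit _ _ hi, ih, ih]; rfl
  have hD : ∀ (m : ℕ) (x : Fin m → A),
      ∑ I ∈ ((Finset.univ : Finset (Fin m)).powerset.erase ∅), ((-1 : ℤ) ^ (m + I.card)) • f (∑ l ∈ I, x l) =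
      ∑ I ∈ (Finset.univ : Finset (Fin m)).powerset, ((-1 : ℤ) ^ ((Finset.univ : Finset (Fin m)).card + I.card)) • f (0 + ∑ l ∈ I, x l) - ((-1 : ℤ) ^ m) • f 0 := by
    intro m x
    rw [Finset.sum_erase_eq_sub (Finset.empty_mem_powerset _)]
    simp
  have key : ∀ (j : Fin n) (y : Fin n → A) (a b : A),
      ∑ I ∈ ((Finset.univ : Finset (Fin (n + 1))).powerset.erase ∅), ((-1 : ℤ) ^ (n + 1 + I.card)) • f (∑ l ∈ I, (Fin.cons a (Function.update y j b) : Fin (n + 1) → A) l) =
      ∑ I ∈ ((Finset.univ : Finset (Fin n)).powerset.erase ∅), ((-1 : ℤ) ^ (n + I.card)) • f (∑ l ∈ I, (Function.update y j (a + b)) l) -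
      ∑ I ∈ ((Finset.univ : Finset (Fin n)).powerset.erase ∅), ((-1 : ℤ) ^ (n + I.card)) • f (∑ l ∈ I, (Function.update y j a) l) -
      ∑ I ∈ ((Finset.univ : Finset (Fin n)).powerset.erase ∅), ((-1 : ℤ) ^ (n + I.card)) • f (∑ l ∈ I, (Function.update y j b) l) := by
    intro j y a b
    rw [hD, hD, hD, hD]
    have hu : ∀ (u c : A), ∑ I ∈ (Finset.univ : Finset (Fin n)).powerset, ((-1 : ℤ) ^ ((Finset.univ : Finset (Fin n)).card + I.card)) • f (c + ∑ l ∈ I, Function.update y j u l) =
        ∑ I ∈ (Finset.univ.erase j).powerset, ((-1 : ℤ) ^ ((Finset.univ.erase j).card + I.card)) • f (c + u + ∑ l ∈ I, y l) -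
        ∑ I ∈ (Finset.univ.erase j).powerset, ((-1 : ℤ) ^ ((Finset.univ.erase j).card + I.card)) • f (c + ∑ l ∈ I, y l) := by
      intro u c
      conv_lhs => rw [← Finset.insert_erase (Finset.mem_univ j)]
      rw [hsplit _ _ (Finset.notMem_erase _ _), Function.update_self]
      congr 1 <;> refine Finset.sum_congr rfl fun I hI => ?_ <;>
        rw [Finset.sum_congr rfl fun l hl => Function.update_of_ne (Finset.ne_of_mem_erase (Finset.mem_powerset.1 hI hl)) u y]
    have h1 : (Finset.univ : Finset (Fin (n + 1))) = insert 0 ((Finset.univ : Finset (Fin n)).map (Fin.succEmb n)) := by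
      ext l; cases l using Fin.cases <;> simp
    rw [h1, hsplit _ _ (by simp), hmap, hmap]
    simp only [Fin.cons_zero, Fin.cons_succ]
    simp only [hu]
    simp only [zero_add, pow_succ, mul_neg_one, neg_smul]
    abel
  constructor
  · intro h j y a b
    have := key j y a b
    rw [h, eq_comm, sub_sub, sub_eq_zero] at this
    exact this
  · intro h x
    have := key ⟨0, hn⟩ (Fin.tail x) (x 0) (Fin.tail x ⟨0, hn⟩)
    rw [Function.update_eq_self, Fin.cons_self_tail] at this
    rw [this, h, add_sub_cancel_left]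
    exact sub_eq_zero.2 (by rw [Function.update_eq_self])

end Groth.Agent.S14305
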