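import Groth.Statements.S14307
import Mathlib.Algebra.BigOperators.Group.Finset.Powerset
import Mathlib.Tactic.Ring
import Mathlib.Algebra.Module.Basic

set_option autoImplicit false
universe u v
open PtDeg

namespace Groth.Agent.S14307

/-- Let A and G be abelian groups, written additively, f : A → G a map and n ≥ 1. If a tuple x ∈ A^n has
some coordinate equal to 0, then the n-th deviation of f at x, namely Σ_{∅ ≠ I ⊆ {1,…,n}}
(−1)^{n+|I|} f(Σ_{i ∈ I} x_i), equals (−1)^{n+1} f(0). -/
theorem result {A : Type u} {G : Type v} [AddCommGroup A] [AddCommGroup G]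
    (f : A → G) (n : ℕ) (hn : 1 ≤ n) (x : Fin n → A) (i : Fin n) (hx : x i = 0) :
    ∑ I ∈ ((Finset.univ : Finset (Fin n)).powerset.erase ∅), ((-1 : ℤ) ^ (n + I.card)) • f (∑ j ∈ I, x j) =
      ((-1 : ℤ) ^ (n + 1)) • f 0 := by
  classical
  have hu : (Finset.univ : Finset (Fin n)) = insert i (Finset.univ.erase i) :=
    (Finset.insert_erase (Finset.mem_univ i)).symm
  have h0 : ∑ I ∈ (Finset.univ : Finset (Fin n)).powerset,
      ((-1 : ℤ) ^ (n + I.card)) • f (∑ j ∈ I, x j) = 0 := by
    rw [hu, Finset.sum_powerset_insert (Finset.notMem_erase i _), ← Finset.sum_add_distrib]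
    refine Finset.sum_eq_zero fun I hI => ?_
    have hi : i ∉ I := fun h => Finset.notMem_erase i _ (Finset.mem_powerset.mp hI h)
    rw [Finset.sum_insert hi, hx, zero_add, Finset.card_insert_of_notMem hi, ← add_assoc,
      pow_succ, mul_neg_one, neg_smul, add_neg_cancel]
  rw [← Finset.sum_erase_add _ _ (Finset.empty_mem_powerset _)] at h0
  rw [eq_neg_of_add_eq_zero_left h0, Finset.sum_empty, Finset.card_empty, add_zero, pow_succ,
    mul_neg_one, neg_smul]

end Groth.Agent.S14307
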