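import Groth.Statements.S14309
import Mathlib

set_option autoImplicit false
universe u v w x y
open CAlg

namespace Groth.Agent.S14309

/-- Let R be a commutative ring; A, B, C commutative R-algebras; i : A → B and j : A → C jointly
injective R-algebra maps; c a non-zero-divisor of B; u : C → B/(c) a ring map with u ∘ j equal to i
followed by reduction modulo c; ζ in A with i ζ = c and j ζ = 0; η : R[X_σ, Z] → A an R-algebra map
with η(Z) = ζ; a : R[Y_τ] → B a surjective R-algebra map; η_Z : R[X_σ, Z] → R[Y_τ] a surjective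
R-algebra map with a ∘ η_Z = i ∘ η. Fix c̃ in R[Y_τ] with a(c̃) = c, a family (p_h) generating the
kernel of the composite R[X_σ] → R[X_σ, Z] → A → C, a family (q'_h) generating the kernel of a
together with lifts q_h along η_Z, a family (v_h) generating the kernel of η_Z, and elements g'_h of
R[Y_τ] with η_Z(p_h) + g'_h c̃ in the ideal (q'_h), together with lifts g_h along η_Z. Then the
kernel of η is the ideal generated by the elements Z q_h, Z v_h and p_h + Z g_h. (The published
statement is for the rings of cycle classes, with coefficients ℤ[1/6], of a smooth quotient stack, a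
smooth closed substack whose normal bundle has top Chern class c a non-zero-divisor, and the open
complement; this row states the ring-theoretic content for any such square of commutative rings in
which A embeds in B × C.) -/
theorem result
    {R : Type u} [CommRing R] {A : Type v} {B : Type w} {C : Type x}
    [CommRing A] [CommRing B] [CommRing C] [Algebra R A] [Algebra R B] [Algebra R C]
    (i : A →ₐ[R] B) (j : A →ₐ[R] C)
    (hinj : ∀ t : A, i t = 0 → j t = 0 → t = 0)
    (c : B) (hc : c ∈ nonZeroDivisors B) (u : C →+* B ⧸ Ideal.span ({c} : Set B))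
    (hu : ∀ t : A, u (j t) = Ideal.Quotient.mk (Ideal.span ({c} : Set B)) (i t))
    (ζ : A) (hiζ : i ζ = c) (hjζ : j ζ = 0)
    {σ τ ιp ιq ιv : Type y}
    (η : MvPolynomial (Option σ) R →ₐ[R] A) (hη : η (MvPolynomial.X none) = ζ)
    (a : MvPolynomial τ R →ₐ[R] B) (ha : Function.Surjective a)
    (ηZ : MvPolynomial (Option σ) R →ₐ[R] MvPolynomial τ R)
    (hcomm : ∀ t, a (ηZ t) = i (η t)) (hηZ : Function.Surjective ηZ)
    (cZ : MvPolynomial τ R) (hcZ : a cZ = c)
    (p : ιp → MvPolynomial σ R)
    (hp : Ideal.span (Set.range p) =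
      RingHom.ker ((j.comp η).comp (MvPolynomial.rename (Option.some : σ → Option σ))))
    (q' : ιq → MvPolynomial τ R) (hq' : Ideal.span (Set.range q') = RingHom.ker a)
    (q : ιq → MvPolynomial (Option σ) R) (hq : ∀ h, ηZ (q h) = q' h)
    (v : ιv → MvPolynomial (Option σ) R) (hv : Ideal.span (Set.range v) = RingHom.ker ηZ)
    (g' : ιp → MvPolynomial τ R)
    (hg' : ∀ h, ηZ (MvPolynomial.rename (Option.some : σ → Option σ) (p h)) + g' h * cZ ∈
      Ideal.span (Set.range q'))
    (g : ιp → MvPolynomial (Option σ) R) (hg : ∀ h, ηZ (g h) = g' h) :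
    RingHom.ker η = Ideal.span
      (Set.range (fun h : ιq => MvPolynomial.X none * q h) ∪
        Set.range (fun h : ιv => MvPolynomial.X none * v h) ∪
        Set.range (fun h : ιp =>
          MvPolynomial.rename (Option.some : σ → Option σ) (p h) + MvPolynomial.X none * g h)) := by
  let Z : MvPolynomial (Option σ) R := MvPolynomial.X none
  let re := MvPolynomial.rename (R := R) (Option.some : σ → Option σ)
  let I := Ideal.span
      (Set.range (fun h : ιq => Z * q h) ∪ Set.range (fun h : ιv => Z * v h) ∪
        Set.range (fun h : ιp => re (p h) + Z * g h))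
  have hsub : I ≤ RingHom.ker η := Ideal.span_le.2 (by
    rintro _ ((⟨h, rfl⟩ | ⟨h, rfl⟩) | ⟨h, rfl⟩) <;>
      refine hinj _ ?_ ?_
    · show i (η (Z * q h)) = 0
      have : a (q' h) = 0 := RingHom.mem_ker.1 (hq'.le (Ideal.subset_span ⟨h, rfl⟩))
      rw [map_mul, map_mul, ← hcomm (q h), hq, this, mul_zero]
    · show j (η (Z * q h)) = 0
      rw [map_mul, map_mul, hη, hjζ, zero_mul]
    · show i (η (Z * v h)) = 0
      have : ηZ (v h) = 0 := RingHom.mem_ker.1 (hv.le (Ideal.subset_span ⟨h, rfl⟩))
      rw [map_mul, map_mul, ← hcomm (v h), this, map_zero, mul_zero]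
    · show j (η (Z * v h)) = 0
      rw [map_mul, map_mul, hη, hjζ, zero_mul]
    · show i (η (re (p h) + Z * g h)) = 0
      have h1 : a (ηZ (re (p h)) + g' h * cZ) = 0 := RingHom.mem_ker.1 (hq'.le (hg' h))
      rw [map_add, map_mul, hcZ, hcomm, ← hg h, hcomm (g h)] at h1
      rw [map_add, map_mul, map_add, map_mul, hη, hiζ, mul_comm c]
      exact h1
    · show j (η (re (p h) + Z * g h)) = 0
      have h1 : j (η (re (p h))) = 0 := RingHom.mem_ker.1 (hp.le (Ideal.subset_span ⟨h, rfl⟩))
      rw [map_add, map_mul, map_add, map_mul, h1, hη, hjζ, zero_mul, add_zero])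
  refine le_antisymm (fun t ht => ?_) hsub
  have hdec : ∀ t, ∃ s r, t = re s + Z * r := fun t => by
    induction t using MvPolynomial.induction_on with
    | C r => exact ⟨MvPolynomial.C r, 0, by simp [re]⟩
    | add t t' ht ht' =>
      obtain ⟨s, r, rfl⟩ := ht; obtain ⟨s', r', rfl⟩ := ht'
      exact ⟨s + s', r + r', by rw [map_add]; ring⟩
    | mul_X t o ht =>
      obtain ⟨s, r, rfl⟩ := ht
      cases o with
      | none => exact ⟨0, re s + Z * r, by rw [map_zero, zero_add]; ring⟩
      | some k => exact ⟨s * MvPolynomial.X k, r * MvPolynomial.X (some k), by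
          rw [map_mul, show re (MvPolynomial.X k) = MvPolynomial.X (some k) from MvPolynomial.rename_X _ k]; ring⟩
  obtain ⟨s, r, rfl⟩ := hdec t
  have h0 : η (re s + Z * r) = 0 := ht
  have hs : s ∈ Ideal.span (Set.range p) := by
    rw [hp]
    have := congrArg j h0
    rwa [map_add, map_mul, map_add, map_mul, hη, hjζ, zero_mul, add_zero, map_zero] at this
  obtain ⟨gs, hgs⟩ : ∃ gs, re s + Z * gs ∈ I := by
    clear h0 ht
    induction hs using Submodule.span_induction with
    | mem x hx => obtain ⟨h, rfl⟩ := hx; exact ⟨g h, Ideal.subset_span (Or.inr ⟨h, rfl⟩)⟩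
    | zero => exact ⟨0, by simp⟩
    | add x y _ _ hx hy =>
      obtain ⟨gx, hx⟩ := hx; obtain ⟨gy, hy⟩ := hy
      refine ⟨gx + gy, ?_⟩
      convert add_mem hx hy using 1
      rw [map_add]; ring
    | smul c x _ hx =>
      obtain ⟨gx, hx⟩ := hx
      refine ⟨re c * gx, ?_⟩
      convert I.mul_mem_left (re c) hx using 1
      rw [smul_eq_mul, map_mul]; ring
  have h1 : η (Z * (r - gs)) = 0 := by
    rw [show Z * (r - gs) = (re s + Z * r) - (re s + Z * gs) by ring, map_sub, h0, RingHom.mem_ker.1 (hsub hgs), sub_zero]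
  have h2 : a (ηZ (r - gs)) = 0 := by
    have := congrArg i h1
    rw [map_mul, map_mul, hη, hiζ, map_zero, ← hcomm] at this
    exact (mul_left_mem_nonZeroDivisors_eq_zero_iff hc).1 this
  have h3 : Z * (r - gs) ∈ I := by
    have h4 : ηZ (r - gs) ∈ (Ideal.span (Set.range q)).map ηZ := by
      rw [Ideal.map_span, ← Set.range_comp, show ηZ ∘ q = q' from funext hq, hq']
      exact RingHom.mem_ker.2 h2
    obtain ⟨w, hw, he⟩ := (Ideal.mem_map_iff_of_surjective ηZ hηZ).1 h4
    have h5 : r - gs - w ∈ Ideal.span (Set.range v) := by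
      rw [hv]; exact RingHom.mem_ker.2 (by rw [map_sub, he, sub_self])
    have hle : ∀ (S : Set (MvPolynomial (Option σ) R)), (∀ x ∈ S, Z * x ∈ I) → ∀ x ∈ Ideal.span S, Z * x ∈ I :=
      fun S hS x hx => by
        induction hx using Submodule.span_induction with
        | mem x hx => exact hS x hx
        | zero => rw [mul_zero]; exact zero_mem _
        | add x y _ _ hx hy => rw [mul_add]; exact add_mem hx hy
        | smul a x _ hx => rw [smul_eq_mul, mul_left_comm]; exact I.mul_mem_left a hx
    rw [show Z * (r - gs) = Z * w + Z * (r - gs - w) by ring]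
    exact add_mem (hle _ (by rintro _ ⟨h, rfl⟩; exact Ideal.subset_span (Or.inl (Or.inl ⟨h, rfl⟩))) w hw)
      (hle _ (by rintro _ ⟨h, rfl⟩; exact Ideal.subset_span (Or.inl (Or.inr ⟨h, rfl⟩))) _ h5)
  rw [show re s + Z * r = (re s + Z * gs) + Z * (r - gs) by ring]
  exact add_mem hgs h3

end Groth.Agent.S14309
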