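import Groth.Statements.S14310
import Mathlib
import Groth.Agent.ArSingInv.Basic
import Groth.Agent.MvPSLib.Eval
import Groth.Agent.FSAdic.PowerSeries

set_option autoImplicit false
universe u
open ArSing

namespace Groth.Agent.S14310

open IsLocalRing Groth.Agent

section
variable {k : Type u} [Field k]

local notation "R2" => MvPowerSeries (Fin 2) k
local notation "S2" => MvPolynomial (Fin 2) k

lemma fin2_eq : ∀ i l : Fin 2, ¬ l = i + 1 → l = i := by decide

lemma fin2_ne : ∀ i : Fin 2, i + 1 ≠ i := by decide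

lemma fin2_pair : ∀ l j : Fin 2, l ≠ j → (l = 0 ∧ j = 1) ∨ (l = 1 ∧ j = 0) := by decide

lemma psHom_ext {B : Type u} [CommRing B] [IsLocalRing B] [IsNoetherianRing B] [Algebra k B] {f g : R2 →ₐ[k] B}
    (hf : ∀ i, f (MvPowerSeries.X i) ∈ maximalIdeal B) (h : ∀ i, f (MvPowerSeries.X i) = g (MvPowerSeries.X i)) : f = g := by
  refine AlgHom.ext fun p => sub_eq_zero.mp ?_
  have hN : ∀ N : ℕ, f p - g p ∈ maximalIdeal B ^ N := fun N => by
    rw [← Ideal.Quotient.eq_zero_iff_mem, map_sub, sub_eq_zero]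
    have key : ∀ φ : R2 →ₐ[k] B, (∀ i, φ (MvPowerSeries.X i) ∈ maximalIdeal B) → ∀ x ∈ FSAdic.augIdeal k 2 ^ N,
        ((Ideal.Quotient.mkₐ k (maximalIdeal B ^ N)).comp φ) x = 0 := fun φ hφ x hx => by
      refine Ideal.Quotient.eq_zero_iff_mem.mpr ?_
      have h1 : (FSAdic.augIdeal k 2 ^ N).map φ ≤ maximalIdeal B ^ N := by
        rw [Ideal.map_pow, MvPSLib.map_augIdeal]
        exact Ideal.pow_right_mono (Ideal.span_le.mpr (by rintro _ ⟨i, rfl⟩; exact hφ i)) N
      exact h1 (Ideal.mem_map_of_mem _ hx)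
    exact DFunLike.congr_fun (FSAdic.algHom_ext_of_vanish N (key f hf) (key g fun i => h i ▸ hf i)
      (fun i => congrArg (Ideal.Quotient.mk _) (h i))) p
  have := (Ideal.mem_iInf.mpr hN : f p - g p ∈ ⨅ N, maximalIdeal B ^ N)
  rwa [Ideal.iInf_pow_eq_bot_of_isLocalRing _ (maximalIdeal.isMaximal B).ne_top, Ideal.mem_bot] at this

lemma injective_of_surjective_endo {B : Type u} [CommRing B] [IsNoetherianRing B] (φ : B →+* B)
    (h : Function.Surjective φ) : Function.Injective φ := by
  let K : ℕ →o Ideal B :=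
    { toFun := fun n => RingHom.ker (φ ^ n : B →+* B)
      monotone' := monotone_nat_of_le_succ fun n x hx => by
        rw [RingHom.mem_ker] at hx ⊢
        rw [pow_succ', RingHom.mul_def, RingHom.comp_apply, hx, map_zero] }
  obtain ⟨N, hN⟩ := monotone_stabilizes_iff_noetherian.mpr inferInstance K
  rw [injective_iff_map_eq_zero]
  intro x hx
  have hs : ∀ n x, ∃ z, (φ ^ n : B →+* B) z = x := by
    intro n
    induction n with
    | zero => exact fun x => ⟨x, rfl⟩
    | succ n ih =>
      intro x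
      obtain ⟨z, hz⟩ := h x
      obtain ⟨w, hw⟩ := ih z
      exact ⟨w, by rw [pow_succ', RingHom.mul_def, RingHom.comp_apply, hw, hz]⟩
  obtain ⟨z, hz⟩ := hs N x
  have h1 : z ∈ K (N + 1) := by
    show (φ ^ (N + 1) : B →+* B) z = 0
    rw [pow_succ', RingHom.mul_def, RingHom.comp_apply, hz, hx]
  rw [← hN (N + 1) (Nat.le_succ N)] at h1
  rw [← hz]
  exact h1

lemma exists_coord {G : R2} (hG : MvPowerSeries.constantCoeff G = 0) (i : Fin 2)
    (hi : MvPowerSeries.coeff (Finsupp.single i 1) G ≠ 0) :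
    ∃ φ : R2 ≃ₐ[k] R2, φ (MvPowerSeries.X 1) = G := by
  classical
  let j : Fin 2 := i + 1
  let z : Fin 2 → R2 := ![MvPowerSeries.X j, G]
  have hz : ∀ l, z l ∈ FSAdic.augIdeal k 2 := fun l => by
    fin_cases l
    · exact FSAdic.X_mem_augIdeal j
    · exact hG
  obtain ⟨φ, hφ⟩ := MvPSLib.exists_algHom (A := k) (FSAdic.augIdeal k 2) z hz
  have hspan : (FSAdic.augIdeal k 2).map φ = FSAdic.augIdeal k 2 := by
    rw [MvPSLib.map_augIdeal]
    refine le_antisymm (Ideal.span_le.mpr (by rintro _ ⟨l, rfl⟩; show φ _ ∈ _; rw [hφ]; exact hz l)) ?_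
    have hmax := MvPSLib.maximalIdeal_eq (n := 2) (K := k)
    refine Submodule.le_of_le_smul_of_le_jacobson_bot (I := FSAdic.augIdeal k 2) (IsNoetherian.noetherian _)
      (hmax ▸ maximalIdeal_le_jacobson _) ?_
    conv_lhs => rw [FSAdic.augIdeal_eq_span]
    rw [Ideal.span_le]
    have hj : (MvPowerSeries.X j : R2) ∈ Ideal.span (Set.range fun l => φ (MvPowerSeries.X l)) :=
      Ideal.subset_span ⟨0, (hφ 0).trans rfl⟩
    rintro _ ⟨l, rfl⟩
    by_cases hl : l = j
    · exact Submodule.mem_sup_left (hl ▸ hj)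
    have hli : l = i := fin2_eq i l hl
    subst hli
    have hd : G - MvPowerSeries.C (MvPowerSeries.coeff (Finsupp.single l 1) G) * MvPowerSeries.X l -
        MvPowerSeries.C (MvPowerSeries.coeff (Finsupp.single j 1) G) * MvPowerSeries.X j ∈ FSAdic.augIdeal k 2 ^ 2 := by
      rw [MvPSLib.mem_augIdeal_pow_iff]
      intro d hd
      have hlj : l ≠ j := hl
      have hd' : d 0 + d 1 < 2 := by rwa [Finsupp.degree_eq_sum, Fin.sum_univ_two] at hd
      have : d = 0 ∨ d = Finsupp.single l 1 ∨ d = Finsupp.single j 1 := by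
        rcases Nat.eq_zero_or_pos (d 0 + d 1) with h0 | h0
        · left; ext t; fin_cases t <;> simp at h0 ⊢ <;> omega
        · have hlj' : (l = 0 ∧ j = 1) ∨ (l = 1 ∧ j = 0) := fin2_pair l j hlj
          rcases (by omega : d 0 = 1 ∧ d 1 = 0 ∨ d 0 = 0 ∧ d 1 = 1) with ⟨a0, a1⟩ | ⟨a0, a1⟩ <;>
            rcases hlj' with ⟨e1, e2⟩ | ⟨e1, e2⟩ <;> rw [e1, e2] <;>
            first
            | (right; left; ext t; fin_cases t <;> simp [a0, a1]; done)
            | (right; right; ext t; fin_cases t <;> simp [a0, a1]; done)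
      rcases this with rfl | rfl | rfl
      · simp [hG, MvPowerSeries.coeff_zero_eq_constantCoeff_apply]
      · simp [MvPowerSeries.coeff_X, Finsupp.single_eq_single_iff, hlj]
      · simp [MvPowerSeries.coeff_X, Finsupp.single_eq_single_iff, hlj.symm]
    have hu : IsUnit (MvPowerSeries.C (MvPowerSeries.coeff (Finsupp.single l 1) G) : R2) :=
      (isUnit_iff_ne_zero.mpr hi).map MvPowerSeries.C
    refine (Ideal.unit_mul_mem_iff_mem _ hu).mp ?_
    have hG' : G ∈ Ideal.span (Set.range fun l => φ (MvPowerSeries.X l)) := Ideal.subset_span ⟨1, (hφ 1).trans rfl⟩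
    rw [show MvPowerSeries.C (MvPowerSeries.coeff (Finsupp.single l 1) G) * MvPowerSeries.X l =
      (G - MvPowerSeries.C (MvPowerSeries.coeff (Finsupp.single j 1) G) * MvPowerSeries.X j) +
      -(G - MvPowerSeries.C (MvPowerSeries.coeff (Finsupp.single l 1) G) * MvPowerSeries.X l -
        MvPowerSeries.C (MvPowerSeries.coeff (Finsupp.single j 1) G) * MvPowerSeries.X j) by ring]
    refine Submodule.add_mem _ (Submodule.mem_sup_left (Ideal.sub_mem _ hG' (Ideal.mul_mem_left _ _ hj))) (Submodule.mem_sup_right ?_)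
    rw [smul_eq_mul, ← pow_two]
    exact Submodule.neg_mem _ hd
  exact ⟨AlgEquiv.ofBijective φ (MvPSLib.bijective_of_span φ hspan), hφ 1⟩

lemma prime_Xi (i : Fin 2) : Prime (MvPowerSeries.X i : R2) := by
  classical
  have h00 : PowerSeries.constantCoeff (0 : PowerSeries k) = 0 := map_zero _
  have hX0 : PowerSeries.constantCoeff (PowerSeries.X : PowerSeries k) = 0 := PowerSeries.constantCoeff_X
  let z : Fin 2 → PowerSeries k := fun l => if l = i then 0 else PowerSeries.X
  have hz : MvPowerSeries.HasSubst z := MvPowerSeries.hasSubst_of_constantCoeff_zero fun l => by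
    show MvPowerSeries.constantCoeff (if l = i then 0 else PowerSeries.X : PowerSeries k) = 0
    split_ifs
    · exact map_zero _
    · exact hX0
  let g : R2 →ₐ[k] PowerSeries k := MvPowerSeries.substAlgHom hz
  have hj : i + 1 ≠ i := fin2_ne i
  have hgi : g (MvPowerSeries.X i) = 0 := (MvPowerSeries.substAlgHom_X hz i).trans (if_pos rfl)
  let ι' : PowerSeries k →ₐ[k] R2 :=
    PowerSeries.substAlgHom (PowerSeries.HasSubst.of_constantCoeff_zero (MvPowerSeries.constantCoeff_X (i + 1)))
  have hgι : ∀ f, g (ι' f) = f := DFunLike.congr_fun (ArSingInv.algHom_ext_X (g.comp ι') (AlgHom.id k _) (by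
    rw [AlgHom.comp_apply, show ι' PowerSeries.X = _ from PowerSeries.substAlgHom_X _]
    exact (MvPowerSeries.substAlgHom_X hz _).trans (if_neg hj)))
  have hker : ∀ F, g F = 0 → MvPowerSeries.X i ∣ F := fun F hF => by
    have hd : MvPowerSeries.X i ∣ F - ι' (PowerSeries.mk fun n => MvPowerSeries.coeff (Finsupp.single (i + 1) n) F) := by
      rw [MvPowerSeries.X_dvd_iff]
      intro d hd
      have he : d = Finsupp.single (i + 1) (d (i + 1)) := by
        ext t
        by_cases ht : t = i + 1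
        · rw [ht, Finsupp.single_eq_same]
        · obtain rfl : t = i := fin2_eq i t ht
          rw [hd, Finsupp.single_eq_of_ne ht]
      rw [map_sub, show ι' (PowerSeries.mk fun n => MvPowerSeries.coeff (Finsupp.single (i + 1) n) F) =
        PowerSeries.subst (MvPowerSeries.X (i + 1)) _ from congrFun (PowerSeries.coe_substAlgHom _) _,
        PowerSeries.coeff_subst_single, if_pos he, PowerSeries.coeff_mk, ← he, sub_self]
    obtain ⟨c, hc⟩ := hd
    have := congrArg g hc
    rw [map_sub, map_mul, hF, hgι, hgi, zero_mul, zero_sub, neg_eq_zero] at this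
    rw [this, map_zero, sub_zero] at hc
    exact ⟨c, hc⟩
  refine ⟨fun h0 => ?_, fun hu => ?_, fun a b ⟨c, hc⟩ => ?_⟩
  · have := congrArg (MvPowerSeries.coeff (Finsupp.single i 1)) h0
    simp [MvPowerSeries.coeff_X] at this
  · rw [MvPowerSeries.isUnit_iff_constantCoeff, MvPowerSeries.constantCoeff_X] at hu
    exact not_isUnit_zero hu
  · have := congrArg g hc
    rw [map_mul, map_mul, hgi, zero_mul] at this
    exact (mul_eq_zero.mp this).imp (hker a) (hker b)

variable (k) in
/-- The inclusion of polynomials. -/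
noncomputable def pc : S2 →ₐ[k] R2 := MvPolynomial.coeToMvPowerSeries.algHom k

lemma pc_apply (p : S2) : pc k p = (p : R2) := by
  rw [pc, MvPolynomial.coeToMvPowerSeries.algHom_apply]; simp

/-- Translation to `a`. -/
noncomputable def tr (a : Fin 2 → k) : S2 →ₐ[k] S2 :=
  MvPolynomial.aeval (fun i : Fin 2 => MvPolynomial.X i + MvPolynomial.C (a i))

lemma tr_tr (a b : Fin 2 → k) (h : ∀ i, a i + b i = 0) (p : S2) : tr a (tr b p) = p :=
  DFunLike.congr_fun (MvPolynomial.algHom_ext (f := (tr a).comp (tr b)) (g := AlgHom.id k _) fun i => by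
    show tr a (tr b (MvPolynomial.X i)) = MvPolynomial.X i
    rw [tr, tr, MvPolynomial.aeval_X, map_add, MvPolynomial.aeval_X, MvPolynomial.aeval_C, MvPolynomial.algebraMap_eq, add_assoc,
      ← map_add, h i, map_zero, add_zero]) p

lemma constantCoeff_tr (a : Fin 2 → k) (p : S2) : MvPowerSeries.constantCoeff (pc k (tr a p)) = MvPolynomial.eval a p := by
  induction p using MvPolynomial.induction_on with
  | C c =>
    rw [show tr a (MvPolynomial.C c) = MvPolynomial.C c from (tr a).commutes c, pc_apply, MvPolynomial.coe_C,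
      MvPowerSeries.constantCoeff_C, MvPolynomial.eval_C]
  | add p q hp hq => simp only [map_add, hp, hq]
  | mul_X p i hp =>
    simp only [map_mul, hp, MvPolynomial.eval_X]
    congr 1
    simp [tr, pc_apply]

lemma coeff_tr (a : Fin 2 → k) (p : S2) (i : Fin 2) :
    MvPowerSeries.coeff (Finsupp.single i 1) (pc k (tr a p)) = MvPolynomial.eval a (MvPolynomial.pderiv i p) := by
  classical
  induction p using MvPolynomial.induction_on with
  | C c =>
    rw [show tr a (MvPolynomial.C c) = MvPolynomial.C c from (tr a).commutes c, pc_apply, MvPolynomial.coeff_coe, MvPolynomial.coeff_C]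
    simp [eq_comm, Finsupp.single_eq_zero]
  | add p q hp hq => simp only [map_add, hp, hq]
  | mul_X p j hp =>
    rw [map_mul, show tr a (MvPolynomial.X j) = MvPolynomial.X j + MvPolynomial.C (a j) from MvPolynomial.aeval_X _ j,
      mul_add, pc_apply, MvPolynomial.coeff_coe, MvPolynomial.coeff_add, MvPolynomial.coeff_mul_X', mul_comm _ (MvPolynomial.C (a j)),
      MvPolynomial.coeff_C_mul, MvPolynomial.pderiv_mul, map_add, map_mul, map_mul, MvPolynomial.eval_X]
    have hp' : MvPolynomial.coeff (Finsupp.single i 1) (tr a p) = MvPolynomial.eval a (MvPolynomial.pderiv i p) := by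
      rw [← hp, pc_apply, MvPolynomial.coeff_coe]
    have h0 : MvPolynomial.coeff 0 (tr a p) = MvPolynomial.eval a p := by
      rw [← constantCoeff_tr, pc_apply, ← MvPowerSeries.coeff_zero_eq_constantCoeff_apply, MvPolynomial.coeff_coe]
    rw [hp']
    by_cases hij : i = j
    · subst hij
      simp [h0, Finsupp.support_single_ne_zero]
      ring
    · simp [Finsupp.support_single_ne_zero, MvPolynomial.pderiv_X, Pi.single_eq_of_ne hij, Ne.symm hij, mul_comm]

lemma exists_pderiv_ne_zero [IsAlgClosed k] {p : S2} (hp : Irreducible p) : ∃ i, MvPolynomial.pderiv i p ≠ 0 := by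
  classical
  by_contra hall
  push Not at hall
  obtain ⟨q, hq⟩ := CharP.exists k
  have hdvd : ∀ d ∈ p.support, ∀ i, q ∣ d i := fun d hd i => by
    by_cases h0 : d i = 0
    · rw [h0]; exact dvd_zero q
    have hle : Finsupp.single i 1 ≤ d := Finsupp.single_le_iff.mpr (Nat.one_le_iff_ne_zero.mpr h0)
    have h := congrArg (MvPolynomial.coeff (d - Finsupp.single i 1)) (hall i)
    rw [MvPolynomial.coeff_pderiv, MvPolynomial.coeff_zero, tsub_add_cancel_of_le hle, Finsupp.tsub_apply,
      Finsupp.single_eq_same, ← Nat.cast_add_one, Nat.sub_add_cancel (Nat.one_le_iff_ne_zero.mpr h0)] at h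
    exact (CharP.cast_eq_zero_iff k q _).mp ((mul_eq_zero.mp h).resolve_left (MvPolynomial.mem_support_iff.mp hd))
  rcases CharP.char_is_prime_or_zero k q with hqp | rfl
  · haveI : Fact q.Prime := ⟨hqp⟩
    choose c hc using fun d => IsAlgClosed.exists_pow_nat_eq (MvPolynomial.coeff d p) hqp.pos
    let t : S2 := ∑ d ∈ p.support, MvPolynomial.monomial (d.mapRange (· / q) (Nat.zero_div q)) (c d)
    have ht : t ^ q = p := by
      haveI : CharP S2 q := inferInstance
      rw [sum_pow_char q]
      conv_rhs => rw [p.as_sum]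
      refine Finset.sum_congr rfl fun d hd => ?_
      rw [MvPolynomial.monomial_pow, hc]
      congr 2
      ext i
      simp [Nat.mul_div_cancel' (hdvd d hd i)]
    exact (not_irreducible_pow hqp.ne_one) (ht ▸ hp)
  · have hC : p = MvPolynomial.C (MvPolynomial.coeff 0 p) := MvPolynomial.ext _ _ fun d => by
      rw [MvPolynomial.coeff_C]
      split_ifs with h
      · rw [h]
      · by_contra hd
        exact h (Finsupp.ext fun i => (Nat.eq_zero_of_zero_dvd (hdvd d (MvPolynomial.mem_support_iff.mpr hd) i)).symm)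
    rw [hC] at hp
    exact hp.not_isUnit ((isUnit_iff_ne_zero.mpr fun h => hp.ne_zero (by rw [h, map_zero])).map MvPolynomial.C)

lemma not_dvd_pderiv {p : S2} (i : Fin 2) (h : MvPolynomial.pderiv i p ≠ 0) : ¬ p ∣ MvPolynomial.pderiv i p := by
  classical
  rintro ⟨c, hc⟩
  have hp0 : p ≠ 0 := fun h0 => h (by rw [h0, map_zero])
  have hc0 : c ≠ 0 := fun h0 => h (by rw [hc, h0, mul_zero])
  have h1 : p.totalDegree ≤ (MvPolynomial.pderiv i p).totalDegree := by
    rw [hc, MvPolynomial.totalDegree_mul_of_isDomain hp0 hc0]; exact Nat.le_add_right _ _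
  obtain ⟨m, hm, hmeq⟩ := Finset.exists_mem_eq_sup _ (MvPolynomial.support_nonempty.mpr h) fun s : Fin 2 →₀ ℕ => s.sum fun _ e => e
  have hm' := MvPolynomial.mem_support_iff.mp hm
  rw [MvPolynomial.coeff_pderiv] at hm'
  have h2 := MvPolynomial.le_totalDegree (MvPolynomial.mem_support_iff.mpr (left_ne_zero_of_mul hm'))
  rw [Finsupp.sum_add_index' (fun _ => rfl) (fun _ _ _ => rfl), Finsupp.sum_single_index rfl] at h2
  rw [show (MvPolynomial.pderiv i p).totalDegree = _ from hmeq] at h1
  omega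

lemma eq_span_or_isMaximal {p : S2} (hp : Irreducible p) (q : Ideal S2) [q.IsPrime] (hq : p ∈ q) :
    q = Ideal.span {p} ∨ q.IsMaximal := by
  by_contra hc
  rw [not_or] at hc
  obtain ⟨M, hM, hqM⟩ := Ideal.exists_le_maximal q Ideal.IsPrime.ne_top'
  have hqM' : q < M := lt_of_le_of_ne hqM fun h => hc.2 (h ▸ hM)
  have hP : (Ideal.span {p}).IsPrime := (Ideal.span_singleton_prime hp.ne_zero).mpr (UniqueFactorizationMonoid.irreducible_iff_prime.mp hp)
  have hpq : Ideal.span {p} < q := lt_of_le_of_ne (Ideal.span_le.mpr (Set.singleton_subset_iff.mpr hq)) (Ne.symm hc.1)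
  have h0p : (⊥ : Ideal S2) < Ideal.span {p} := bot_lt_iff_ne_bot.mpr (by simpa using hp.ne_zero)
  have h1 := Ideal.height_strict_mono_of_isPrime h0p
  have h2 := Ideal.height_strict_mono_of_isPrime hpq
  have h3 := Ideal.height_strict_mono_of_isPrime hqM'
  have h4 : (M.height : WithBot ℕ∞) ≤ 2 := (Ideal.height_le_ringKrullDim_of_ne_top hM.ne_top).trans_eq (by
    rw [MvPolynomial.ringKrullDim_of_isNoetherianRing, ringKrullDim_eq_zero_of_field, Nat.card_fin, zero_add]; rfl)
  have h4' : M.height ≤ 2 := WithBot.coe_le_coe.mp h4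
  have e1 := Order.add_one_le_of_lt h1
  have e2 := Order.add_one_le_of_lt h2
  have e3 := Order.add_one_le_of_lt h3
  have e5 : (3 : ℕ∞) ≤ M.height := by
    calc (3 : ℕ∞) = 0 + 1 + 1 + 1 := by norm_num
      _ ≤ (⊥ : Ideal S2).height + 1 + 1 + 1 := by gcongr; exact bot_le
      _ ≤ (Ideal.span {p}).height + 1 + 1 := by gcongr
      _ ≤ q.height + 1 := by gcongr
      _ ≤ M.height := e3
  exact absurd (e5.trans h4') (by norm_num)

end


/-- Let k be an algebraically closed field, f a polynomial in two variables x = X_0, y = X_1 over k, and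
a a point of k². The quotient of the power series ring k[[x,y]] by the polynomial f recentred at a
(which is the completed local ring at a of the plane curve f = 0) is isomorphic as a k-algebra to
k[[x,y]]/(y^2) if and only if f = g^2 h for polynomials g and h with h(a) ≠ 0, g(a) = 0 and some
first partial derivative of g non-zero at a. (The published statement asks for the component through
a to be the square of a smooth plane curve; only smoothness at a matters and is what is stated here
— for the square of a nodal cubic the completed local ring at a smooth point of the cubic is still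
k[[x,y]]/(y^2). No hypothesis on the characteristic of k is imposed; the published setting assumes a
characteristic different from 2, 3, 5 and 7, which the argument does not use.) -/
theorem result
    {k : Type u} [Field k] [IsAlgClosed k] (f : MvPolynomial (Fin 2) k) (a : Fin 2 → k) :
    Nonempty ((MvPowerSeries (Fin 2) k ⧸ Ideal.span
        ({(MvPolynomial.aeval (fun i : Fin 2 => MvPolynomial.X i + MvPolynomial.C (a i)) f).toMvPowerSeries} :
          Set (MvPowerSeries (Fin 2) k))) ≃ₐ[k]
      (MvPowerSeries (Fin 2) k ⧸ Ideal.span ({MvPowerSeries.X 1 ^ 2} : Set (MvPowerSeries (Fin 2) k)))) ↔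
    ∃ g h : MvPolynomial (Fin 2) k, f = g ^ 2 * h ∧ MvPolynomial.eval a h ≠ 0 ∧ MvPolynomial.eval a g = 0 ∧
      ∃ i : Fin 2, MvPolynomial.eval a (MvPolynomial.pderiv i g) ≠ 0 := by
  classical
  haveI : IsNoetherianRing (MvPowerSeries (Fin 2) k) := inferInstance
  set F : MvPowerSeries (Fin 2) k := (MvPolynomial.aeval (fun i : Fin 2 => MvPolynomial.X i + MvPolynomial.C (a i)) f).toMvPowerSeries with hF
  have hFf : F = pc k (tr a f) := (pc_apply _).symm
  constructor
  · rintro ⟨e⟩
    have hmax := MvPSLib.maximalIdeal_eq (n := 2) (K := k)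
    let π := Ideal.Quotient.mkₐ k (Ideal.span ({F} : Set (MvPowerSeries (Fin 2) k)))
    let π' := Ideal.Quotient.mkₐ k (Ideal.span ({MvPowerSeries.X 1 ^ 2} : Set (MvPowerSeries (Fin 2) k)))
    haveI hnt' : Nontrivial (MvPowerSeries (Fin 2) k ⧸ Ideal.span ({MvPowerSeries.X 1 ^ 2} : Set (MvPowerSeries (Fin 2) k))) := by
      refine Ideal.Quotient.nontrivial_iff.mpr fun h => ?_
      rw [Ideal.span_singleton_eq_top, MvPowerSeries.isUnit_iff_constantCoeff] at h
      simp at h
    haveI : Nontrivial (MvPowerSeries (Fin 2) k ⧸ Ideal.span ({F} : Set (MvPowerSeries (Fin 2) k))) := e.toEquiv.nontrivial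
    haveI := IsLocalRing.of_surjective' π.toRingHom Ideal.Quotient.mk_surjective
    haveI := IsLocalRing.of_surjective' π'.toRingHom Ideal.Quotient.mk_surjective
    have hXm : ∀ i, ¬ IsUnit (π (MvPowerSeries.X i)) := fun i h => by
      haveI : IsLocalHom π.toRingHom := IsLocalHom.of_surjective _ Ideal.Quotient.mk_surjective
      have := isUnit_of_map_unit π.toRingHom _ h
      rw [MvPowerSeries.isUnit_iff_constantCoeff, MvPowerSeries.constantCoeff_X] at this
      exact not_isUnit_zero this
    have hXm' : ∀ i, ¬ IsUnit (π' (MvPowerSeries.X i)) := fun i h => by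
      haveI : IsLocalHom π'.toRingHom := IsLocalHom.of_surjective _ Ideal.Quotient.mk_surjective
      have := isUnit_of_map_unit π'.toRingHom _ h
      rw [MvPowerSeries.isUnit_iff_constantCoeff, MvPowerSeries.constantCoeff_X] at this
      exact not_isUnit_zero this
    choose P hP using fun i => Ideal.Quotient.mk_surjective (e.symm (π' (MvPowerSeries.X i)))
    choose Q hQ using fun i => Ideal.Quotient.mk_surjective (e (π (MvPowerSeries.X i)))
    have hPm : ∀ i, P i ∈ FSAdic.augIdeal k 2 := fun i => by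
      by_contra h
      refine hXm' i ((isUnit_map_iff e.symm _).mp ?_)
      rw [← hP i]
      rw [← hmax, mem_maximalIdeal, mem_nonunits_iff, not_not] at h
      exact h.map _
    have hQm : ∀ i, Q i ∈ FSAdic.augIdeal k 2 := fun i => by
      by_contra h
      refine hXm i ((isUnit_map_iff e _).mp ?_)
      rw [← hQ i]
      rw [← hmax, mem_maximalIdeal, mem_nonunits_iff, not_not] at h
      exact h.map _
    obtain ⟨ψ, hψ⟩ := MvPSLib.exists_algHom (A := k) (FSAdic.augIdeal k 2) P hPm
    obtain ⟨χ, hχ⟩ := MvPSLib.exists_algHom (A := k) (FSAdic.augIdeal k 2) Q hQm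
    have c1 : π.comp ψ = e.symm.toAlgHom.comp π' := psHom_ext (fun i => by
        rw [AlgHom.comp_apply, hψ, mem_maximalIdeal, mem_nonunits_iff]
        exact fun h => hXm' i ((isUnit_map_iff e.symm _).mp ((hP i) ▸ h)))
      (fun i => by rw [AlgHom.comp_apply, hψ]; exact hP i)
    have c2 : π'.comp χ = e.toAlgHom.comp π := psHom_ext (fun i => by
        rw [AlgHom.comp_apply, hχ, mem_maximalIdeal, mem_nonunits_iff]
        exact fun h => hXm i ((isUnit_map_iff e _).mp ((hQ i) ▸ h)))
      (fun i => by rw [AlgHom.comp_apply, hχ]; exact hQ i)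
    have hbij : Function.Bijective (χ.comp ψ) := by
      refine MvPSLib.bijective_of_span _ ?_
      rw [MvPSLib.map_augIdeal]
      refine le_antisymm (Ideal.span_le.mpr ?_) ?_
      · rintro _ ⟨i, rfl⟩
        show χ (ψ (MvPowerSeries.X i)) ∈ _
        have h1 : (FSAdic.augIdeal k 2).map χ ≤ FSAdic.augIdeal k 2 := by
          rw [MvPSLib.map_augIdeal, Ideal.span_le]; rintro _ ⟨i, rfl⟩; show χ _ ∈ _; rw [hχ]; exact hQm i
        exact h1 (Ideal.mem_map_of_mem _ (by rw [hψ]; exact hPm i))
      · refine Submodule.le_of_le_smul_of_le_jacobson_bot (I := FSAdic.augIdeal k 2) (IsNoetherian.noetherian _)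
          (hmax ▸ maximalIdeal_le_jacobson _) ?_
        conv_lhs => rw [FSAdic.augIdeal_eq_span]
        rw [Ideal.span_le]
        rintro _ ⟨i, rfl⟩
        have h : π' (χ (ψ (MvPowerSeries.X i))) = π' (MvPowerSeries.X i) := by
          refine (DFunLike.congr_fun c2 _).trans ?_
          show e (π (ψ (MvPowerSeries.X i))) = _
          rw [show π (ψ (MvPowerSeries.X i)) = e.symm (π' (MvPowerSeries.X i)) from DFunLike.congr_fun c1 _, e.apply_symm_apply]
        obtain ⟨w, hw⟩ := Ideal.mem_span_singleton.mp ((Ideal.Quotient.eq).mp h)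
        rw [show MvPowerSeries.X i = χ (ψ (MvPowerSeries.X i)) + -(MvPowerSeries.X 1 ^ 2 * w) by rw [← hw]; ring]
        refine Submodule.add_mem _ (Submodule.mem_sup_left (Ideal.subset_span ⟨i, rfl⟩)) (Submodule.mem_sup_right (Submodule.neg_mem _ ?_))
        rw [smul_eq_mul, pow_two, mul_assoc]
        exact Ideal.mul_mem_mul (FSAdic.X_mem_augIdeal 1) (Ideal.mul_mem_right _ _ (FSAdic.X_mem_augIdeal 1))
    have hχs : Function.Surjective χ := fun z => by
      obtain ⟨w, hw⟩ := hbij.2 z; exact ⟨ψ w, hw⟩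
    have hχi : Function.Injective χ := injective_of_surjective_endo χ.toRingHom hχs
    have hψb : Function.Bijective ψ := ⟨fun x y h => hbij.1 (congrArg χ h), fun z => by
      obtain ⟨w, hw⟩ := hbij.2 (χ z); exact ⟨w, hχi hw⟩⟩
    let Ψ := AlgEquiv.ofBijective ψ hψb
    obtain ⟨G, hGdef⟩ : ∃ G, G = ψ (MvPowerSeries.X 1) := ⟨_, rfl⟩
    have hGp : Prime G := by
      rw [hGdef]
      exact (MulEquiv.prime_iff (Ψ : MvPowerSeries (Fin 2) k ≃* MvPowerSeries (Fin 2) k)).mpr (prime_Xi 1)
    have hFG : Associated F (G ^ 2) := by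
      refine associated_of_dvd_dvd ?_ ?_
      · rw [← Ideal.mem_span_singleton, ← Ideal.Quotient.eq_zero_iff_mem]
        show π (G ^ 2) = 0
        rw [hGdef, ← map_pow, ← AlgHom.comp_apply, c1, AlgHom.comp_apply,
          show π' (MvPowerSeries.X 1 ^ 2) = 0 from Ideal.Quotient.eq_zero_iff_mem.mpr (Ideal.mem_span_singleton_self _), map_zero]
      · obtain ⟨w, hw⟩ := hψb.2 F
        have h : e.symm (π' w) = 0 := by
          show e.symm.toAlgHom (π' w) = 0
          rw [← AlgHom.comp_apply, ← c1, AlgHom.comp_apply, hw]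
          exact Ideal.Quotient.eq_zero_iff_mem.mpr (Ideal.mem_span_singleton_self _)
        rw [map_eq_zero_iff _ e.symm.injective] at h
        obtain ⟨c, hc⟩ := Ideal.mem_span_singleton.mp (Ideal.Quotient.eq_zero_iff_mem.mp h)
        exact ⟨ψ c, by rw [hGdef, ← hw, hc, map_mul, map_pow]⟩
    obtain ⟨U, hU⟩ := hFG.symm
    have hG0 : MvPowerSeries.constantCoeff G = 0 := by
      by_contra h
      exact hGp.not_unit (MvPowerSeries.isUnit_iff_constantCoeff.mpr (isUnit_iff_ne_zero.mpr h))
    let 𝔮 : Ideal (MvPolynomial (Fin 2) k) := (Ideal.span {G}).comap (pc k).toRingHom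
    haveI : (Ideal.span {G}).IsPrime := (Ideal.span_singleton_prime hGp.ne_zero).mpr hGp
    haveI h𝔮 : 𝔮.IsPrime := Ideal.IsPrime.comap _
    have hmem : ∀ p, p ∈ 𝔮 ↔ G ∣ pc k p := fun p => Ideal.mem_span_singleton
    have hf0 : tr a f ≠ 0 := fun h => by
      have : F = 0 := by rw [hFf, h, map_zero]
      exact pow_ne_zero 2 hGp.ne_zero (hFG.eq_zero_iff.mp this)
    have hfq : tr a f ∈ 𝔮 := (hmem _).mpr (hFf ▸ (dvd_pow_self G two_ne_zero).trans hFG.symm.dvd)
    obtain ⟨p, hp, hpq, hpf⟩ : ∃ p, Irreducible p ∧ p ∈ 𝔮 ∧ p ∣ tr a f := by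
      obtain ⟨s, hs, u, hu⟩ := WfDvdMonoid.exists_factors (tr a f) hf0
      have hsq : s.prod ∈ 𝔮 := by
        rw [← hu] at hfq
        exact (h𝔮.mem_or_mem hfq).resolve_right fun h => h𝔮.ne_top (Ideal.eq_top_of_isUnit_mem _ h u.isUnit)
      obtain ⟨p, hps, hp⟩ := (h𝔮.multiset_prod_mem_iff_exists_mem _).mp hsq
      exact ⟨p, hs p hps, hp, hu ▸ (Multiset.dvd_prod hps).mul_right _⟩
    have h𝔮p : 𝔮 = Ideal.span {p} := by
      refine (eq_span_or_isMaximal hp 𝔮 hpq).resolve_right fun hm => ?_
      have hX : ∀ i, G ∣ (MvPowerSeries.X i : MvPowerSeries (Fin 2) k) := fun i => by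
        by_contra h
        have h1 : MvPolynomial.X i ∉ 𝔮 := fun h' => h (by
          rw [← MvPolynomial.coe_X, ← pc_apply]
          exact (hmem _).mp h')
        obtain ⟨c, w, hw, hcw⟩ := hm.exists_inv h1
        have := congrArg (fun z => MvPowerSeries.constantCoeff (pc k z)) hcw
        obtain ⟨d, hd⟩ := (hmem _).mp hw
        simp only [map_add, map_mul, map_one, hd, hG0, zero_mul, add_zero, pc_apply, MvPolynomial.coe_X,
          MvPowerSeries.constantCoeff_X, mul_zero] at this
        exact zero_ne_one this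
      have a0 := hGp.associated_of_dvd (prime_Xi 0) (hX 0)
      have a1 := hGp.associated_of_dvd (prime_Xi 1) (hX 1)
      have h01 : (MvPowerSeries.X 0 : MvPowerSeries (Fin 2) k) ∣ MvPowerSeries.X 1 := (a0.symm.trans a1).dvd
      rw [MvPowerSeries.X_dvd_iff] at h01
      have := h01 (Finsupp.single 1 1) (by simp)
      simp [MvPowerSeries.coeff_X] at this
    obtain ⟨q, hq⟩ := hpf
    obtain ⟨w, hw⟩ := (hmem p).mp hpq
    have hwq : G * (↑U : MvPowerSeries (Fin 2) k) = w * pc k q := mul_left_cancel₀ hGp.ne_zero (by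
      rw [← mul_assoc, ← pow_two, hU, hFf, hq, map_mul, hw, mul_assoc])
    have hwG : ¬ G ∣ w := fun ⟨w', hw'⟩ => by
      obtain ⟨i, hi⟩ := exists_pderiv_ne_zero hp
      refine not_dvd_pderiv i hi (Ideal.mem_span_singleton.mp (h𝔮p ▸ (hmem _).mpr ?_))
      rw [pc_apply, ← MvPowerSeries.pderiv_coe, ← pc_apply, hw, hw', ← mul_assoc, Derivation.leibniz, Derivation.leibniz, smul_eq_mul,
        smul_eq_mul, smul_eq_mul]
      exact ⟨G * MvPowerSeries.pderiv k i w' + w' * (MvPowerSeries.pderiv k i G + MvPowerSeries.pderiv k i G), by ring⟩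
    have hqm : q ∈ 𝔮 := (hmem _).mpr ((hGp.dvd_or_dvd (Dvd.intro _ hwq)).resolve_left hwG)
    rw [h𝔮p, Ideal.mem_span_singleton] at hqm
    obtain ⟨h, rfl⟩ := hqm
    rw [map_mul, hw] at hwq
    have e3 : (↑U : MvPowerSeries (Fin 2) k) = w * w * pc k h := mul_left_cancel₀ hGp.ne_zero (by rw [hwq]; ring)
    have hu : IsUnit (w * w * pc k h) := e3 ▸ U.isUnit
    refine ⟨tr (-a) p, tr (-a) h, ?_, ?_, ?_, ?_⟩
    · rw [sq, ← map_mul, ← map_mul, mul_assoc, ← hq, tr_tr (-a) a (by simp)]
    · rw [← constantCoeff_tr, tr_tr a (-a) (by simp)]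
      exact (MvPowerSeries.isUnit_iff_constantCoeff.mp (isUnit_of_mul_isUnit_right hu)).ne_zero
    · rw [← constantCoeff_tr, tr_tr a (-a) (by simp), hw, map_mul, hG0, zero_mul]
    · by_contra hall
      push Not at hall
      have hp2 : pc k p ∈ FSAdic.augIdeal k 2 ^ 2 := by
        rw [MvPSLib.mem_augIdeal_pow_iff]
        intro d hd
        have hd' : d 0 + d 1 < 2 := by rwa [Finsupp.degree_eq_sum, Fin.sum_univ_two] at hd
        rcases (by omega : d 0 = 0 ∧ d 1 = 0 ∨ d 0 = 1 ∧ d 1 = 0 ∨ d 0 = 0 ∧ d 1 = 1) with ⟨a0, a1⟩ | ⟨a0, a1⟩ | ⟨a0, a1⟩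
        · obtain rfl : d = 0 := by ext t; fin_cases t <;> simp [a0, a1]
          rw [MvPowerSeries.coeff_zero_eq_constantCoeff_apply, hw, map_mul, hG0, zero_mul]
        · obtain rfl : d = Finsupp.single 0 1 := by ext t; fin_cases t <;> simp [a0, a1]
          rw [← tr_tr a (-a) (by simp) p, coeff_tr]; exact hall 0
        · obtain rfl : d = Finsupp.single 1 1 := by ext t; fin_cases t <;> simp [a0, a1]
          rw [← tr_tr a (-a) (by simp) p, coeff_tr]; exact hall 1
      have hG2 : G ∈ FSAdic.augIdeal k 2 ^ 2 := (Ideal.mul_unit_mem_iff_mem _ (isUnit_of_mul_isUnit_left (isUnit_of_mul_isUnit_left hu))).mp (hw ▸ hp2)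
      have hXm2 : (MvPowerSeries.X 1 : MvPowerSeries (Fin 2) k) ∈ FSAdic.augIdeal k 2 ^ 2 := by
        obtain ⟨e', he'⟩ : ∃ e' : MvPowerSeries (Fin 2) k ≃ₐ[k] MvPowerSeries (Fin 2) k, e' = Ψ.symm := ⟨_, rfl⟩
        have hle : (FSAdic.augIdeal k 2).map e' ≤ FSAdic.augIdeal k 2 := by
          rw [← hmax]
          exact Ideal.map_le_iff_le_comap.mpr fun z hz => by
            rw [Ideal.mem_comap, mem_maximalIdeal, mem_nonunits_iff, isUnit_map_iff]
            exact (mem_maximalIdeal z).mp hz
        have := Ideal.mem_map_of_mem e' hG2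
        rw [Ideal.map_pow, hGdef, he', show Ψ.symm (ψ (MvPowerSeries.X 1)) = MvPowerSeries.X 1 from Ψ.symm_apply_apply _] at this
        exact Ideal.pow_right_mono hle 2 (he' ▸ this)
      have := (MvPSLib.mem_augIdeal_pow_iff.mp hXm2) (Finsupp.single 1 1) (by simp)
      simp at this
  · rintro ⟨g, h, rfl, hh, hg, i, hi⟩
    obtain ⟨φ, hφ⟩ := exists_coord (G := pc k (tr a g)) (by rw [constantCoeff_tr]; exact hg) i (by rw [coeff_tr]; exact hi)
    have hhu : IsUnit (pc k (tr a h)) := by
      rw [MvPowerSeries.isUnit_iff_constantCoeff, constantCoeff_tr]; exact isUnit_iff_ne_zero.mpr hh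
    refine ⟨(Ideal.quotientEquivAlg _ _ φ ?_).symm⟩
    rw [Ideal.map_span, Set.image_singleton, hFf, map_mul (tr a), map_pow (tr a), map_mul (pc k), map_pow (pc k),
      Ideal.span_singleton_mul_right_unit hhu]
    congr 2
    exact (congrArg (· ^ 2) hφ).symm.trans (map_pow φ _ 2).symm

end Groth.Agent.S14310
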