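import Groth.Statements.S14311
import Mathlib
import Groth.Agent.S14310
import Groth.Agent.ArSingInv.Basic

set_option autoImplicit false
universe u
open ArSing

namespace Groth.Agent.S14311

open IsLocalRing Groth.Agent Groth.Agent.S14310

section
variable {k : Type u} [Field k]

local notation "R2" => MvPowerSeries (Fin 2) k
local notation "P" => PowerSeries k
local notation "m2" => FSAdic.augIdeal k 2

lemma psHom_ext_P (f g : P →ₐ[k] R2) (h : f PowerSeries.X = g PowerSeries.X) : f = g := by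
  refine AlgHom.ext fun p => ?_
  have h1 : ∀ u : P →ₐ[k] R2, u PowerSeries.X ∈ maximalIdeal R2 := fun u => by
    rw [mem_maximalIdeal, mem_nonunits_iff]
    intro hu
    rw [MvPowerSeries.isUnit_iff_constantCoeff] at hu
    have hc := hu.ne_zero
    have h2 : IsUnit (PowerSeries.X - PowerSeries.C (MvPowerSeries.constantCoeff (u PowerSeries.X)) : P) := by
      rw [PowerSeries.isUnit_iff_constantCoeff]; simpa using hc
    have h3 := MvPowerSeries.isUnit_iff_constantCoeff.mp (h2.map u)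
    rw [map_sub, map_sub, show u (PowerSeries.C (MvPowerSeries.constantCoeff (u PowerSeries.X))) = MvPowerSeries.C _ from u.commutes _,
      MvPowerSeries.constantCoeff_C, sub_self] at h3
    exact not_isUnit_zero h3
  refine sub_eq_zero.mp ?_
  have hN : ∀ N : ℕ, f p - g p ∈ maximalIdeal R2 ^ N := fun N => by
    obtain ⟨c, hc⟩ : PowerSeries.X ^ N ∣ p - (PowerSeries.trunc N p : P) := PowerSeries.X_pow_dvd_iff.mpr fun m hm => by
      rw [map_sub, Polynomial.coeff_coe, PowerSeries.coeff_trunc, if_pos hm, sub_self]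
    have e : f (PowerSeries.trunc N p : P) = g (PowerSeries.trunc N p : P) := by
      have := DFunLike.congr_fun (Polynomial.algHom_ext (f := f.comp (Polynomial.coeToPowerSeries.algHom k))
        (g := g.comp (Polynomial.coeToPowerSeries.algHom k)) (by simpa using h)) (PowerSeries.trunc N p)
      simpa using this
    have e' : ∀ u : P →ₐ[k] R2, u p = u (PowerSeries.trunc N p : P) + u PowerSeries.X ^ N * u c := fun u => by
      rw [← map_pow, ← map_mul, ← map_add, ← hc, add_sub_cancel]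
    rw [e' f, e' g, e, add_sub_add_left_eq_sub]
    exact Ideal.sub_mem _ (Ideal.mul_mem_right _ _ (Ideal.pow_mem_pow (h1 f) N)) (Ideal.mul_mem_right _ _ (Ideal.pow_mem_pow (h1 g) N))
  have := (Ideal.mem_iInf.mpr hN : f p - g p ∈ ⨅ N, maximalIdeal R2 ^ N)
  rwa [Ideal.iInf_pow_eq_bot_of_isLocalRing _ (maximalIdeal.isMaximal R2).ne_top, Ideal.mem_bot] at this

lemma aut_map_le (φ : R2 ≃ₐ[k] R2) (N : ℕ) : ∀ z ∈ m2 ^ N, φ z ∈ m2 ^ N := fun z hz => by
  have hle : (m2).map φ ≤ m2 := by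
    rw [← MvPSLib.maximalIdeal_eq]
    exact Ideal.map_le_iff_le_comap.mpr fun z hz => by
      rw [Ideal.mem_comap, mem_maximalIdeal, mem_nonunits_iff, isUnit_map_iff]
      exact (mem_maximalIdeal z).mp hz
  have := Ideal.mem_map_of_mem φ hz
  rw [Ideal.map_pow] at this
  exact Ideal.pow_right_mono hle N this

lemma lift_iso {F E : R2} (hF : F ∈ m2 ^ 2) (e : (R2 ⧸ Ideal.span ({F} : Set R2)) ≃ₐ[k] (R2 ⧸ Ideal.span ({E} : Set R2))) :
    ∃ Ψ : R2 ≃ₐ[k] R2, Associated (Ψ F) E := by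
  classical
  have hmax := MvPSLib.maximalIdeal_eq (n := 2) (K := k)
  let π' := Ideal.Quotient.mkₐ k (Ideal.span ({F} : Set R2))
  let π := Ideal.Quotient.mkₐ k (Ideal.span ({E} : Set R2))
  haveI hnt' : Nontrivial (R2 ⧸ Ideal.span ({F} : Set R2)) := by
    refine Ideal.Quotient.nontrivial_iff.mpr fun h => ?_
    rw [Ideal.span_singleton_eq_top] at h
    exact (mem_maximalIdeal F).mp (hmax ▸ Ideal.pow_le_self two_ne_zero hF) h
  haveI : Nontrivial (R2 ⧸ Ideal.span ({E} : Set R2)) := e.symm.toEquiv.nontrivial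
  haveI := IsLocalRing.of_surjective' π.toRingHom Ideal.Quotient.mk_surjective
  haveI := IsLocalRing.of_surjective' π'.toRingHom Ideal.Quotient.mk_surjective
  have hXm : ∀ i, ¬ IsUnit (π (MvPowerSeries.X i)) := fun i h => by
    haveI : IsLocalHom π.toRingHom := IsLocalHom.of_surjective _ Ideal.Quotient.mk_surjective
    have := isUnit_of_map_unit π.toRingHom _ h
    rw [MvPowerSeries.isUnit_iff_constantCoeff, MvPowerSeries.constantCoeff_X] at this
    exact not_isUnit_zero this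
  have hXm' : ∀ i, ¬ IsUnit (π' (MvPowerSeries.X i)) := fun i h => by
    haveI : IsLocalHom π'.toRingHom := IsLocalHom.of_surjective _ Ideal.Quotient.mk_surjective
    have := isUnit_of_map_unit π'.toRingHom _ h
    rw [MvPowerSeries.isUnit_iff_constantCoeff, MvPowerSeries.constantCoeff_X] at this
    exact not_isUnit_zero this
  choose PP hP using fun i => Ideal.Quotient.mk_surjective (e (π' (MvPowerSeries.X i)))
  choose Q hQ using fun i => Ideal.Quotient.mk_surjective (e.symm (π (MvPowerSeries.X i)))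
  have hPm : ∀ i, PP i ∈ m2 := fun i => by
    by_contra h
    refine hXm' i ((isUnit_map_iff e _).mp ?_)
    rw [← hP i]
    rw [← hmax, mem_maximalIdeal, mem_nonunits_iff, not_not] at h
    exact h.map _
  have hQm : ∀ i, Q i ∈ m2 := fun i => by
    by_contra h
    refine hXm i ((isUnit_map_iff e.symm _).mp ?_)
    rw [← hQ i]
    rw [← hmax, mem_maximalIdeal, mem_nonunits_iff, not_not] at h
    exact h.map _
  obtain ⟨ψ, hψ⟩ := MvPSLib.exists_algHom (A := k) m2 PP hPm
  obtain ⟨χ, hχ⟩ := MvPSLib.exists_algHom (A := k) m2 Q hQm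
  have c1 : π.comp ψ = e.toAlgHom.comp π' := psHom_ext (fun i => by
      rw [AlgHom.comp_apply, hψ, mem_maximalIdeal, mem_nonunits_iff]
      exact fun h => hXm' i ((isUnit_map_iff e _).mp ((hP i) ▸ h)))
    (fun i => by rw [AlgHom.comp_apply, hψ]; exact hP i)
  have c2 : π'.comp χ = e.symm.toAlgHom.comp π := psHom_ext (fun i => by
      rw [AlgHom.comp_apply, hχ, mem_maximalIdeal, mem_nonunits_iff]
      exact fun h => hXm i ((isUnit_map_iff e.symm _).mp ((hQ i) ▸ h)))
    (fun i => by rw [AlgHom.comp_apply, hχ]; exact hQ i)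
  have hbij : Function.Bijective (χ.comp ψ) := by
    refine MvPSLib.bijective_of_span _ ?_
    rw [MvPSLib.map_augIdeal]
    refine le_antisymm (Ideal.span_le.mpr ?_) ?_
    · rintro _ ⟨i, rfl⟩
      show χ (ψ (MvPowerSeries.X i)) ∈ _
      have h1 : (m2).map χ ≤ m2 := by
        rw [MvPSLib.map_augIdeal, Ideal.span_le]; rintro _ ⟨i, rfl⟩; show χ _ ∈ _; rw [hχ]; exact hQm i
      exact h1 (Ideal.mem_map_of_mem _ (by rw [hψ]; exact hPm i))
    · refine Submodule.le_of_le_smul_of_le_jacobson_bot (I := m2) (IsNoetherian.noetherian _)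
        (hmax ▸ maximalIdeal_le_jacobson _) ?_
      conv_lhs => rw [FSAdic.augIdeal_eq_span]
      rw [Ideal.span_le]
      rintro _ ⟨i, rfl⟩
      have h : π' (χ (ψ (MvPowerSeries.X i))) = π' (MvPowerSeries.X i) := by
        refine (DFunLike.congr_fun c2 _).trans ?_
        show e.symm (π (ψ (MvPowerSeries.X i))) = _
        rw [show π (ψ (MvPowerSeries.X i)) = e (π' (MvPowerSeries.X i)) from DFunLike.congr_fun c1 _, e.symm_apply_apply]
      obtain ⟨w, hw⟩ := Ideal.mem_span_singleton.mp ((Ideal.Quotient.eq).mp h)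
      rw [show MvPowerSeries.X i = χ (ψ (MvPowerSeries.X i)) + -(F * w) by rw [← hw]; ring]
      refine Submodule.add_mem _ (Submodule.mem_sup_left (Ideal.subset_span ⟨i, rfl⟩)) (Submodule.mem_sup_right (Submodule.neg_mem _ ?_))
      rw [smul_eq_mul, ← pow_two]
      exact Ideal.mul_mem_right _ _ hF
  have hχs : Function.Surjective χ := fun z => by
    obtain ⟨w, hw⟩ := hbij.2 z; exact ⟨ψ w, hw⟩
  have hχi : Function.Injective χ := injective_of_surjective_endo χ.toRingHom hχs
  have hψb : Function.Bijective ψ := ⟨fun x y h => hbij.1 (congrArg χ h), fun z => by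
    obtain ⟨w, hw⟩ := hbij.2 (χ z); exact ⟨w, hχi hw⟩⟩
  refine ⟨AlgEquiv.ofBijective ψ hψb, associated_of_dvd_dvd ?_ ?_⟩
  · obtain ⟨w, hw⟩ := hψb.2 E
    have h : e (π' w) = 0 := by
      rw [show e (π' w) = π (ψ w) from (DFunLike.congr_fun c1 _).symm, hw]
      exact Ideal.Quotient.eq_zero_iff_mem.mpr (Ideal.mem_span_singleton_self _)
    rw [map_eq_zero_iff _ e.injective] at h
    obtain ⟨c, hc⟩ := Ideal.mem_span_singleton.mp (Ideal.Quotient.eq_zero_iff_mem.mp h)
    exact ⟨ψ c, by show E = ψ F * ψ c; rw [← hw, hc, map_mul]⟩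
  · rw [← Ideal.mem_span_singleton, ← Ideal.Quotient.eq_zero_iff_mem]
    show π (ψ F) = 0
    rw [show π (ψ F) = e (π' F) from DFunLike.congr_fun c1 _,
      show π' F = 0 from Ideal.Quotient.eq_zero_iff_mem.mpr (Ideal.mem_span_singleton_self _), map_zero]

/-- Isomorphic quotients from an automorphism. -/
lemma quot_equiv (φ : R2 ≃ₐ[k] R2) {F E : R2} (h : Associated (φ E) F) :
    Nonempty ((R2 ⧸ Ideal.span ({F} : Set R2)) ≃ₐ[k] (R2 ⧸ Ideal.span ({E} : Set R2))) :=
  ⟨(Ideal.quotientEquivAlg _ _ φ (by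
    rw [Ideal.map_span, Set.image_singleton]
    exact le_antisymm (Ideal.span_singleton_le_span_singleton.mpr h.dvd) (Ideal.span_singleton_le_span_singleton.mpr h.symm.dvd))).symm⟩

/-- Coordinates fixing `x`. -/
lemma exists_coord1 {G : R2} (hG : MvPowerSeries.constantCoeff G = 0)
    (hi : MvPowerSeries.coeff (Finsupp.single 1 1) G ≠ 0) :
    ∃ φ : R2 ≃ₐ[k] R2, φ (MvPowerSeries.X 0) = MvPowerSeries.X 0 ∧ φ (MvPowerSeries.X 1) = G := by
  classical
  obtain ⟨φ, hφ⟩ := MvPSLib.exists_algHom (A := k) m2 ![MvPowerSeries.X 0, G] (Fin.forall_fin_two.mpr ⟨FSAdic.X_mem_augIdeal 0, hG⟩)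
  have hspan : (m2).map φ = m2 := by
    rw [MvPSLib.map_augIdeal]
    refine le_antisymm (Ideal.span_le.mpr (by
      rintro _ ⟨l, rfl⟩; show φ _ ∈ _; rw [hφ]; fin_cases l
      · exact FSAdic.X_mem_augIdeal 0
      · exact hG)) ?_
    refine Submodule.le_of_le_smul_of_le_jacobson_bot (I := m2) (IsNoetherian.noetherian _)
      (MvPSLib.maximalIdeal_eq (n := 2) (K := k) ▸ maximalIdeal_le_jacobson _) ?_
    conv_lhs => rw [FSAdic.augIdeal_eq_span]
    rw [Ideal.span_le]
    have h0 : (MvPowerSeries.X 0 : R2) ∈ Ideal.span (Set.range fun l => φ (MvPowerSeries.X l)) :=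
      Ideal.subset_span ⟨0, (hφ 0).trans rfl⟩
    rintro _ ⟨l, rfl⟩
    fin_cases l
    · exact Submodule.mem_sup_left h0
    have hd : G - MvPowerSeries.C (MvPowerSeries.coeff (Finsupp.single 1 1) G) * MvPowerSeries.X 1 -
        MvPowerSeries.C (MvPowerSeries.coeff (Finsupp.single 0 1) G) * MvPowerSeries.X 0 ∈ m2 ^ 2 := by
      rw [MvPSLib.mem_augIdeal_pow_iff]
      intro d hd
      have hd' : d 0 + d 1 < 2 := by rwa [Finsupp.degree_eq_sum, Fin.sum_univ_two] at hd
      rcases (by omega : d 0 = 0 ∧ d 1 = 0 ∨ d 0 = 1 ∧ d 1 = 0 ∨ d 0 = 0 ∧ d 1 = 1) with ⟨a0, a1⟩ | ⟨a0, a1⟩ | ⟨a0, a1⟩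
      · obtain rfl : d = 0 := by ext t; fin_cases t <;> simp [a0, a1]
        simp [hG]
      · obtain rfl : d = Finsupp.single 0 1 := by ext t; fin_cases t <;> simp [a0, a1]
        simp [MvPowerSeries.coeff_X, Finsupp.single_eq_single_iff]
      · obtain rfl : d = Finsupp.single 1 1 := by ext t; fin_cases t <;> simp [a0, a1]
        simp [MvPowerSeries.coeff_X, Finsupp.single_eq_single_iff]
    have hu : IsUnit (MvPowerSeries.C (MvPowerSeries.coeff (Finsupp.single 1 1) G) : R2) :=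
      (isUnit_iff_ne_zero.mpr hi).map MvPowerSeries.C
    refine (Ideal.unit_mul_mem_iff_mem _ hu).mp ?_
    show MvPowerSeries.C _ * MvPowerSeries.X 1 ∈ _
    rw [show MvPowerSeries.C (MvPowerSeries.coeff (Finsupp.single 1 1) G) * MvPowerSeries.X 1 =
      (G - MvPowerSeries.C (MvPowerSeries.coeff (Finsupp.single 0 1) G) * MvPowerSeries.X 0) +
      -(G - MvPowerSeries.C (MvPowerSeries.coeff (Finsupp.single 1 1) G) * MvPowerSeries.X 1 -
        MvPowerSeries.C (MvPowerSeries.coeff (Finsupp.single 0 1) G) * MvPowerSeries.X 0) by ring]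
    refine Submodule.add_mem _ (Submodule.mem_sup_left (Ideal.sub_mem _ (Ideal.subset_span ⟨1, (hφ 1).trans rfl⟩) (Ideal.mul_mem_left _ _ h0)))
      (Submodule.mem_sup_right ?_)
    rw [smul_eq_mul, ← pow_two]
    exact Submodule.neg_mem _ hd
  exact ⟨AlgEquiv.ofBijective φ (MvPSLib.bijective_of_span φ hspan), hφ 0, hφ 1⟩

/-- Square roots of units. -/
lemma exists_sqrt [IsAlgClosed k] (h2 : (2 : k) ≠ 0) (u : R2) (hu : MvPowerSeries.constantCoeff u ≠ 0) : ∃ s, s ^ 2 = u := by
  let g : P := PowerSeries.C (2 : k) * PowerSeries.X + PowerSeries.X ^ 2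
  have hg1 : IsUnit (PowerSeries.coeff 1 g) := by
    simpa [g, PowerSeries.coeff_X_pow] using h2
  have hg0 : PowerSeries.constantCoeff g = 0 := by simp [g]
  let Q := g.substInvOfIsUnit hg1
  have hQ : g.subst Q = PowerSeries.X := g.subst_substInvOfIsUnit_right hg0 hg1
  have hQs : PowerSeries.HasSubst Q := PowerSeries.HasSubst.of_constantCoeff_zero' (g.constantCoeff_substInvOfIsUnit hg1)
  have hsq : (1 + Q) ^ 2 = 1 + PowerSeries.X := by
    rw [← hQ, ← PowerSeries.coe_substAlgHom hQs]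
    simp only [g, map_add, map_mul, map_pow, PowerSeries.substAlgHom_X]
    rw [show PowerSeries.substAlgHom hQs (PowerSeries.C (2 : k)) = PowerSeries.C (2 : k) from (PowerSeries.substAlgHom hQs).commutes _,
      show PowerSeries.C (2 : k) = (2 : P) from map_ofNat _ 2]
    ring
  obtain ⟨c, hc⟩ := IsAlgClosed.exists_pow_nat_eq (MvPowerSeries.constantCoeff u) two_pos
  have hc0 : c ≠ 0 := fun h => hu (by rw [← hc, h, zero_pow two_ne_zero])
  let w : R2 := MvPowerSeries.C (c ^ 2)⁻¹ * u - 1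
  have hw : MvPowerSeries.constantCoeff w = 0 := by
    simp only [w, map_sub, map_mul, map_one, MvPowerSeries.constantCoeff_C, hc]
    rw [inv_mul_cancel₀ hu, sub_self]
  have hws : PowerSeries.HasSubst (S := k) w := PowerSeries.HasSubst.of_constantCoeff_zero hw
  refine ⟨MvPowerSeries.C c * PowerSeries.substAlgHom (R := k) hws (1 + Q), ?_⟩
  rw [mul_pow, ← map_pow (PowerSeries.substAlgHom (R := k) hws), hsq, map_add, map_one, PowerSeries.substAlgHom_X, add_sub_cancel,
    ← map_pow, ← mul_assoc, ← map_mul, mul_inv_cancel₀ (pow_ne_zero 2 hc0), map_one, one_mul]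

variable (k) in
/-- Restriction to `y = 0`. -/
noncomputable def rest : R2 →ₐ[k] P :=
  MvPowerSeries.substAlgHom (a := fun l : Fin 2 => if l = 1 then (0 : P) else PowerSeries.X)
    (MvPowerSeries.hasSubst_of_constantCoeff_zero fun l => by
      show MvPowerSeries.constantCoeff (if l = 1 then 0 else PowerSeries.X : P) = 0
      split_ifs
      · exact map_zero _
      · exact PowerSeries.constantCoeff_X)

lemma rest_X0 : rest k (MvPowerSeries.X 0) = PowerSeries.X :=
  (MvPowerSeries.substAlgHom_X _ _).trans (if_neg (by decide))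

lemma rest_X1 : rest k (MvPowerSeries.X 1) = 0 := (MvPowerSeries.substAlgHom_X _ _).trans (if_pos rfl)

lemma rest_sub0 (f : P) : rest k (ArSingInv.sub0 k f) = f :=
  DFunLike.congr_fun (ArSingInv.algHom_ext_X ((rest k).comp (ArSingInv.sub0 k)) (AlgHom.id k _) (by
    rw [AlgHom.comp_apply, ArSingInv.sub0_X]; exact rest_X0)) f

lemma dvd_sub_rest (F : R2) : MvPowerSeries.X 1 ∣ F - ArSingInv.sub0 k (rest k F) := by
  classical
  let f : P := PowerSeries.mk fun n => MvPowerSeries.coeff (Finsupp.single 0 n) F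
  have hd : MvPowerSeries.X 1 ∣ F - ArSingInv.sub0 k f := by
    rw [MvPowerSeries.X_dvd_iff]
    intro d hd
    have he : d = Finsupp.single 0 (d 0) := by ext t; fin_cases t <;> simp [hd]
    rw [map_sub, ArSingInv.coeff_sub0, if_pos hd, PowerSeries.coeff_mk, ← he, sub_self]
  obtain ⟨c, hc⟩ := hd
  have := congrArg (rest k) hc
  rw [map_sub, rest_sub0, map_mul, rest_X1, zero_mul, sub_eq_zero] at this
  rw [this]
  exact ⟨c, hc⟩

lemma coeff_sub0' (f : P) (n : Fin 2 →₀ ℕ) (h : n 1 ≠ 0) : MvPowerSeries.coeff n (ArSingInv.sub0 k f) = 0 := by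
  rw [ArSingInv.coeff_sub0, if_neg h]

/-- A double point with non-degenerate `y`-direction. -/
lemma double_point [IsAlgClosed k] (h2 : (2 : k) ≠ 0) (F : R2) (hF : F ∈ m2 ^ 2)
    (h02 : MvPowerSeries.coeff (Finsupp.single 1 2) F ≠ 0) :
    (∃ n : ℕ, Nonempty ((R2 ⧸ Ideal.span ({F} : Set R2)) ≃ₐ[k] ArSing.ring k n)) ∨
      Nonempty ((R2 ⧸ Ideal.span ({F} : Set R2)) ≃ₐ[k] (R2 ⧸ Ideal.span ({MvPowerSeries.X 1 ^ 2} : Set R2))) := by
  classical
  have hlow := MvPSLib.mem_augIdeal_pow_iff.mp hF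
  let H := MvPowerSeries.pderiv k 1 F
  have hH0 : MvPowerSeries.constantCoeff H = 0 := by
    rw [← MvPowerSeries.coeff_zero_eq_constantCoeff_apply, MvPowerSeries.coeff_pderiv, zero_add, hlow _ (by simp), zero_mul]
  have hH1 : MvPowerSeries.coeff (Finsupp.single 1 1) H ≠ 0 := by
    rw [MvPowerSeries.coeff_pderiv, ← Finsupp.single_add, Finsupp.single_eq_same, Nat.cast_one, one_add_one_eq_two]
    exact mul_ne_zero h02 (by simpa [one_add_one_eq_two] using h2)
  -- the critical section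
  obtain ⟨φ, hφ0, hφ1⟩ := exists_coord1 hH0 hH1
  let η : P := rest k (φ.symm (MvPowerSeries.X 1))
  have hη0 : PowerSeries.constantCoeff η = 0 := by
    by_contra h
    have h1 : φ.symm (MvPowerSeries.X 1) ∈ m2 := by
      have := aut_map_le φ.symm 1 (MvPowerSeries.X 1) (by rw [pow_one]; exact FSAdic.X_mem_augIdeal 1)
      rwa [pow_one] at this
    obtain ⟨c, hc⟩ := dvd_sub_rest (φ.symm (MvPowerSeries.X 1))
    have := congrArg MvPowerSeries.constantCoeff hc
    rw [map_sub, map_mul, RingHom.mem_ker.mp h1, MvPowerSeries.constantCoeff_X, zero_mul, zero_sub, neg_eq_zero,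
      ArSingInv.constantCoeff_sub0] at this
    exact h this
  let z : R2 := MvPowerSeries.X 1 - ArSingInv.sub0 k η
  have hz0 : MvPowerSeries.constantCoeff z = 0 := by
    rw [map_sub, MvPowerSeries.constantCoeff_X, ArSingInv.constantCoeff_sub0, hη0, sub_zero]
  have hz1 : MvPowerSeries.coeff (Finsupp.single 1 1) z = 1 := by
    rw [map_sub, coeff_sub0' _ _ (by simp), sub_zero, MvPowerSeries.coeff_X, if_pos rfl]
  obtain ⟨φ2, hφ20, hφ21⟩ := exists_coord1 hz0 (by rw [hz1]; exact one_ne_zero)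
  have hfix : ∀ ψ : R2 ≃ₐ[k] R2, ψ (MvPowerSeries.X 0) = MvPowerSeries.X 0 → ∀ f, ψ (ArSingInv.sub0 k f) = ArSingInv.sub0 k f := fun ψ hψ f =>
    DFunLike.congr_fun (psHom_ext_P ((ψ : R2 →ₐ[k] R2).comp (ArSingInv.sub0 k)) (ArSingInv.sub0 k) (by
      rw [AlgHom.comp_apply, ArSingInv.sub0_X]; exact hψ)) f
  let ρ : R2 →ₐ[k] P := (rest k).comp (φ.symm : R2 →ₐ[k] R2)
  have hρ : ∀ G, rest k (φ2.symm G) = ρ G := fun G => DFunLike.congr_fun (psHom_ext (B := P) (f := (rest k).comp (φ2.symm : R2 →ₐ[k] R2))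
    (g := ρ) (fun i => by
      rw [mem_maximalIdeal, mem_nonunits_iff]
      intro hu
      rw [PowerSeries.isUnit_iff_constantCoeff] at hu
      have h1 : φ2.symm (MvPowerSeries.X i) ∈ m2 := by
        have := aut_map_le φ2.symm 1 (MvPowerSeries.X i) (by rw [pow_one]; exact FSAdic.X_mem_augIdeal i)
        rwa [pow_one] at this
      obtain ⟨c, hc⟩ := dvd_sub_rest (φ2.symm (MvPowerSeries.X i))
      have := congrArg MvPowerSeries.constantCoeff hc
      rw [map_sub, map_mul, RingHom.mem_ker.mp h1, MvPowerSeries.constantCoeff_X, zero_mul, zero_sub, neg_eq_zero,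
        ArSingInv.constantCoeff_sub0] at this
      exact not_isUnit_zero (this ▸ hu))
    (Fin.forall_fin_two.mpr ⟨by
      show rest k (φ2.symm _) = rest k (φ.symm _)
      rw [show φ2.symm (MvPowerSeries.X 0) = MvPowerSeries.X 0 from (AlgEquiv.symm_apply_eq _).mpr hφ20.symm,
        show φ.symm (MvPowerSeries.X 0) = MvPowerSeries.X 0 from (AlgEquiv.symm_apply_eq _).mpr hφ0.symm], by
      show rest k (φ2.symm _) = η
      rw [show φ2.symm (MvPowerSeries.X 1) = MvPowerSeries.X 1 + ArSingInv.sub0 k η from (AlgEquiv.symm_apply_eq _).mpr (by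
        rw [map_add, hφ21, hfix φ2 hφ20]; ring), map_add, rest_X1, rest_sub0, zero_add]⟩)) G
  have hdvd : ∀ G, z ∣ G - ArSingInv.sub0 k (ρ G) := fun G => by
    obtain ⟨c, hc⟩ := dvd_sub_rest (φ2.symm G)
    refine ⟨φ2 c, ?_⟩
    have := congrArg φ2 hc
    rwa [map_sub, φ2.apply_symm_apply, hfix φ2 hφ20, map_mul, hφ21, hρ] at this
  obtain ⟨d, hd⟩ : ∃ d, d = ρ F := ⟨_, rfl⟩
  obtain ⟨G, hG⟩ := hdvd F
  have hder : H = G + z * MvPowerSeries.pderiv k 1 G := by
    have h0 : ∀ f, MvPowerSeries.pderiv k 1 (ArSingInv.sub0 k f) = 0 := fun f => MvPowerSeries.ext fun n => by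
      rw [MvPowerSeries.coeff_pderiv, coeff_sub0' _ _ (by simp), zero_mul, map_zero]
    have := congrArg (MvPowerSeries.pderiv k 1) hG
    rw [map_sub, h0, sub_zero, Derivation.leibniz, smul_eq_mul, smul_eq_mul, map_sub, h0, sub_zero, MvPowerSeries.pderiv_X_self, mul_one] at this
    rw [show H = MvPowerSeries.pderiv k 1 F from rfl, this]; ring
  have hρz : ρ z = 0 := by
    rw [← hρ, show φ2.symm z = MvPowerSeries.X 1 from (AlgEquiv.symm_apply_eq _).mpr hφ21.symm, rest_X1]
  have hρG : ρ G = 0 := by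
    have : ρ H = 0 := by
      show rest k (φ.symm H) = 0
      rw [show φ.symm H = MvPowerSeries.X 1 from (AlgEquiv.symm_apply_eq _).mpr hφ1.symm, rest_X1]
    rwa [hder, map_add, map_mul, hρz, zero_mul, add_zero] at this
  obtain ⟨v, hv⟩ := hdvd G
  rw [hρG, map_zero, sub_zero] at hv
  have hFv : F = ArSingInv.sub0 k d + z * z * v := by rw [hd, mul_assoc, ← hv]; linear_combination hG
  have hv0 : MvPowerSeries.constantCoeff v ≠ 0 := by
    intro h
    have hm3 : z * z * v ∈ m2 ^ 3 := by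
      rw [pow_succ, pow_two]
      exact Ideal.mul_mem_mul (Ideal.mul_mem_mul hz0 hz0) h
    have := congrArg (MvPowerSeries.coeff (Finsupp.single 1 2)) hFv
    rw [map_add, coeff_sub0' _ _ (by simp), zero_add, MvPSLib.mem_augIdeal_pow_iff.mp hm3 _ (by simp)] at this
    exact h02 this
  obtain ⟨s, hs⟩ := exists_sqrt h2 v hv0
  have hs0 : MvPowerSeries.constantCoeff s ≠ 0 := fun h => hv0 (by rw [← hs, map_pow, h, zero_pow two_ne_zero])
  have hmul1 : ∀ a b : R2, MvPowerSeries.constantCoeff a = 0 →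
      MvPowerSeries.coeff (Finsupp.single 1 1) (a * b) = MvPowerSeries.coeff (Finsupp.single 1 1) a * MvPowerSeries.constantCoeff b := fun a b ha => by
    rw [MvPowerSeries.coeff_mul, Finsupp.antidiagonal_single, Finset.sum_map, Finset.Nat.antidiagonal_succ, Finset.sum_cons]
    simp [ha]
  obtain ⟨φ3, hφ30, hφ31⟩ := exists_coord1 (G := z * s) (by rw [map_mul, hz0, zero_mul])
    (by rw [hmul1 _ _ hz0, hz1, one_mul]; exact hs0)
  have hE : φ3 (ArSingInv.sub0 k d + MvPowerSeries.X 1 ^ 2) = F := by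
    rw [map_add, hfix φ3 hφ30, map_pow, hφ31, mul_pow, hs, hFv]; ring
  by_cases hd0 : d = 0
  · right
    rw [hd0, map_zero, zero_add] at hE
    exact quot_equiv φ3 (Associated.of_eq hE)
  · left
    obtain ⟨u, hu⟩ : ∃ u : P, d = PowerSeries.X ^ d.order.toNat * u ∧ PowerSeries.constantCoeff u ≠ 0 :=
      ⟨PowerSeries.divXPowOrder d, PowerSeries.X_pow_order_mul_divXPowOrder.symm, by
        rw [Ne, PowerSeries.constantCoeff_divXPowOrder_eq_zero_iff]; exact hd0⟩
    obtain ⟨N, hN⟩ : ∃ N, d.order.toNat = N + 1 := by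
      refine ⟨d.order.toNat - 1, (Nat.sub_add_cancel (Nat.one_le_iff_ne_zero.mpr fun h => ?_)).symm⟩
      have h0 : PowerSeries.constantCoeff d = 0 := by
        have := congrArg MvPowerSeries.constantCoeff hFv
        rw [map_add, map_mul, map_mul, hz0, zero_mul, zero_mul, add_zero, ArSingInv.constantCoeff_sub0,
          ← MvPowerSeries.coeff_zero_eq_constantCoeff_apply, hlow _ (by simp)] at this
        exact this.symm
      rw [hu.1, h, pow_zero, one_mul] at h0
      exact hu.2 h0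
    let U := ArSingInv.sub0 k u
    have hU : MvPowerSeries.constantCoeff U ≠ 0 := by rw [ArSingInv.constantCoeff_sub0]; exact hu.2
    obtain ⟨t, ht⟩ := exists_sqrt h2 (-(U⁻¹)) (by rw [map_neg, MvPowerSeries.constantCoeff_inv, neg_ne_zero]; exact inv_ne_zero hU)
    have ht0 : MvPowerSeries.constantCoeff t ≠ 0 := fun h => by
      have := congrArg MvPowerSeries.constantCoeff ht
      rw [map_pow, h, zero_pow two_ne_zero, map_neg, MvPowerSeries.constantCoeff_inv] at this
      exact neg_ne_zero.mpr (inv_ne_zero hU) this.symm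
    obtain ⟨φ4, hφ40, hφ41⟩ := exists_coord1 (G := MvPowerSeries.X 1 * t) (by rw [map_mul, MvPowerSeries.constantCoeff_X, zero_mul])
      (by rw [hmul1 _ _ (MvPowerSeries.constantCoeff_X 1), MvPowerSeries.coeff_X, if_pos rfl, one_mul]; exact ht0)
    refine ⟨N, quot_equiv (φ4.trans φ3) ?_⟩
    have e4 : ArSingInv.sub0 k d + MvPowerSeries.X 1 ^ 2 = -U * φ4 (ArSing.eqn k N) := by
      rw [ArSing.eqn, map_sub, map_pow, map_pow, hφ40, hφ41, hu.1, hN, map_mul, map_pow, ArSingInv.sub0_X, mul_pow, ht]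
      linear_combination (-(MvPowerSeries.X 1 : R2) ^ 2) * (MvPowerSeries.mul_inv_cancel U hU)
    show Associated (φ3 (φ4 (ArSing.eqn k N))) F
    rw [← hE, e4, map_mul]
    exact (associated_unit_mul_left _ _ ((MvPowerSeries.isUnit_iff_constantCoeff.mpr (isUnit_iff_ne_zero.mpr hU)).neg.map φ3)).symm

lemma swap_exists : ∃ ψ : R2 ≃ₐ[k] R2, ψ (MvPowerSeries.X 0) = MvPowerSeries.X 1 ∧ ψ (MvPowerSeries.X 1) = MvPowerSeries.X 0 := by
  obtain ⟨ψ, hψ⟩ := MvPSLib.exists_algHom (A := k) m2 (![MvPowerSeries.X 1, MvPowerSeries.X 0] : Fin 2 → R2)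
    (Fin.forall_fin_two.mpr ⟨FSAdic.X_mem_augIdeal 1, FSAdic.X_mem_augIdeal 0⟩)
  have h : ψ.comp ψ = AlgHom.id k R2 := psHom_ext (fun i => by
      rw [AlgHom.comp_apply, hψ]; fin_cases i <;>
      · show ψ (MvPowerSeries.X _) ∈ _
        rw [hψ, MvPSLib.maximalIdeal_eq]; exact FSAdic.X_mem_augIdeal _)
    (fun i => by
      rw [AlgHom.comp_apply, hψ]; fin_cases i <;>
      · show ψ (MvPowerSeries.X _) = _
        rw [hψ]; rfl)
  exact ⟨AlgEquiv.ofAlgHom ψ ψ h h, hψ 0, hψ 1⟩

lemma shear_exists : ∃ ψ : R2 ≃ₐ[k] R2, ψ (MvPowerSeries.X 0) = MvPowerSeries.X 0 + MvPowerSeries.X 1 ∧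
    ψ (MvPowerSeries.X 1) = MvPowerSeries.X 1 := by
  obtain ⟨σ, hσ0, hσ1⟩ := swap_exists (k := k)
  obtain ⟨φ, hφ0, hφ1⟩ := exists_coord1 (G := (MvPowerSeries.X 0 + MvPowerSeries.X 1 : R2)) (by simp)
    (by simp [MvPowerSeries.coeff_X, Finsupp.single_eq_single_iff])
  refine ⟨σ.trans (φ.trans σ), ?_, ?_⟩
  · show σ (φ (σ _)) = _
    rw [hσ0, hφ1, map_add, hσ0, hσ1, add_comm]
  · show σ (φ (σ _)) = _
    rw [hσ1, hφ0, hσ0]

lemma pderiv_tr (a : Fin 2 → k) (i : Fin 2) (p : MvPolynomial (Fin 2) k) :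
    MvPolynomial.pderiv i (tr a p) = tr a (MvPolynomial.pderiv i p) := by
  induction p using MvPolynomial.induction_on with
  | C c => simp [show tr a (MvPolynomial.C c) = MvPolynomial.C c from (tr a).commutes c]
  | add p q hp hq => simp only [map_add, hp, hq]
  | mul_X p j hp =>
    have hX : tr a (MvPolynomial.X j) = MvPolynomial.X j + MvPolynomial.C (a j) := MvPolynomial.aeval_X _ j
    rw [map_mul, MvPolynomial.pderiv_mul, MvPolynomial.pderiv_mul, map_add, map_mul, map_mul, hp, hX, map_add,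
      MvPolynomial.pderiv_C, add_zero]
    congr 2
    rw [MvPolynomial.pderiv_X]
    by_cases h : i = j
    · subst h; simp
    · simp [Pi.single_apply, h, Ne.symm h]

end


/-- Let k be an algebraically closed field in which 2 ≠ 0, f a polynomial in x = X_0, y = X_1 over k and
a a zero of f in k². Then the gradient and all second partial derivatives of f vanish at a if and
only if the completed local ring k[[x,y]]/(f recentred at a) of the plane curve f = 0 at a is
isomorphic as a k-algebra neither to k[[x,y]]/(y^2 - x^(n+1)) for any natural number n nor to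
k[[x,y]]/(y^2). (Here n = 0, a smooth point, is allowed; with n ≥ 1 only, as in the published
definition of an A-singularity, the equivalence fails at smooth points of the curve. Only 2 ≠ 0 is
assumed of the characteristic; the published setting assumes a characteristic different from 2, 3, 5
and 7.) -/
theorem result
    {k : Type u} [Field k] [IsAlgClosed k] (h2 : (2 : k) ≠ 0) (f : MvPolynomial (Fin 2) k) (a : Fin 2 → k)
    (hfa : MvPolynomial.eval a f = 0) :
    ((∀ i : Fin 2, MvPolynomial.eval a (MvPolynomial.pderiv i f) = 0) ∧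
      ∀ i j : Fin 2, MvPolynomial.eval a (MvPolynomial.pderiv i (MvPolynomial.pderiv j f)) = 0) ↔
    ¬ ((∃ n : ℕ, Nonempty ((MvPowerSeries (Fin 2) k ⧸ Ideal.span
        ({(MvPolynomial.aeval (fun i : Fin 2 => MvPolynomial.X i + MvPolynomial.C (a i)) f).toMvPowerSeries} :
          Set (MvPowerSeries (Fin 2) k))) ≃ₐ[k] ArSing.ring k n)) ∨
        Nonempty ((MvPowerSeries (Fin 2) k ⧸ Ideal.span
        ({(MvPolynomial.aeval (fun i : Fin 2 => MvPolynomial.X i + MvPolynomial.C (a i)) f).toMvPowerSeries} :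
          Set (MvPowerSeries (Fin 2) k))) ≃ₐ[k]
          (MvPowerSeries (Fin 2) k ⧸ Ideal.span ({MvPowerSeries.X 1 ^ 2} : Set (MvPowerSeries (Fin 2) k))))) := by
  classical
  set F : MvPowerSeries (Fin 2) k := (MvPolynomial.aeval (fun i : Fin 2 => MvPolynomial.X i + MvPolynomial.C (a i)) f).toMvPowerSeries with hF
  have hFf : F = pc k (tr a f) := (pc_apply _).symm
  have hF0 : MvPowerSeries.constantCoeff F = 0 := by rw [hFf, constantCoeff_tr, hfa]
  have hF1 : ∀ i, MvPowerSeries.coeff (Finsupp.single i 1) F = MvPolynomial.eval a (MvPolynomial.pderiv i f) := fun i => by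
    rw [hFf, coeff_tr]
  have hF2 : ∀ i j, MvPolynomial.eval a (MvPolynomial.pderiv i (MvPolynomial.pderiv j f)) =
      MvPowerSeries.coeff (Finsupp.single i 1 + Finsupp.single j 1) F * (((Finsupp.single i 1 : Fin 2 →₀ ℕ) j : k) + 1) := fun i j => by
    rw [← coeff_tr, ← pderiv_tr, pc_apply, ← MvPowerSeries.pderiv_coe, MvPowerSeries.coeff_pderiv, ← pc_apply, ← hFf]
  have e20 : (Finsupp.single 0 1 + Finsupp.single 0 1 : Fin 2 →₀ ℕ) = Finsupp.single 0 2 := (Finsupp.single_add 0 1 1).symm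
  have e02 : (Finsupp.single 1 1 + Finsupp.single 1 1 : Fin 2 →₀ ℕ) = Finsupp.single 1 2 := (Finsupp.single_add 1 1 1).symm
  constructor
  · rintro ⟨h1, h2'⟩
    have q20 : MvPowerSeries.coeff (Finsupp.single 0 2) F = 0 := by
      have := (hF2 0 0).symm.trans (h2' 0 0)
      rw [e20, Finsupp.single_eq_same, Nat.cast_one, one_add_one_eq_two] at this
      exact (mul_eq_zero.mp this).resolve_right h2
    have q02 : MvPowerSeries.coeff (Finsupp.single 1 2) F = 0 := by
      have := (hF2 1 1).symm.trans (h2' 1 1)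
      rw [e02, Finsupp.single_eq_same, Nat.cast_one, one_add_one_eq_two] at this
      exact (mul_eq_zero.mp this).resolve_right h2
    have q11 : MvPowerSeries.coeff (Finsupp.single 0 1 + Finsupp.single 1 1) F = 0 := by
      have := (hF2 0 1).symm.trans (h2' 0 1)
      rwa [Finsupp.single_eq_of_ne (by decide : (1 : Fin 2) ≠ 0), Nat.cast_zero, zero_add, mul_one] at this
    have hm3 : F ∈ FSAdic.augIdeal k 2 ^ 3 := by
      rw [MvPSLib.mem_augIdeal_pow_iff]
      intro d hd
      have hd' : d 0 + d 1 < 3 := by rwa [Finsupp.degree_eq_sum, Fin.sum_univ_two] at hd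
      rcases (by omega : d 0 = 0 ∧ d 1 = 0 ∨ d 0 = 1 ∧ d 1 = 0 ∨ d 0 = 0 ∧ d 1 = 1 ∨ d 0 = 2 ∧ d 1 = 0 ∨ d 0 = 0 ∧ d 1 = 2 ∨ d 0 = 1 ∧ d 1 = 1) with
        ⟨a0, a1⟩ | ⟨a0, a1⟩ | ⟨a0, a1⟩ | ⟨a0, a1⟩ | ⟨a0, a1⟩ | ⟨a0, a1⟩
      · obtain rfl : d = 0 := by ext t; fin_cases t <;> simp [a0, a1]
        rw [MvPowerSeries.coeff_zero_eq_constantCoeff_apply, hF0]
      · obtain rfl : d = Finsupp.single 0 1 := by ext t; fin_cases t <;> simp [a0, a1]
        rw [hF1]; exact h1 0
      · obtain rfl : d = Finsupp.single 1 1 := by ext t; fin_cases t <;> simp [a0, a1]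
        rw [hF1]; exact h1 1
      · obtain rfl : d = Finsupp.single 0 2 := by ext t; fin_cases t <;> simp [a0, a1]
        exact q20
      · obtain rfl : d = Finsupp.single 1 2 := by ext t; fin_cases t <;> simp [a0, a1]
        exact q02
      · obtain rfl : d = Finsupp.single 0 1 + Finsupp.single 1 1 := by ext t; fin_cases t <;> simp [a0, a1]
        exact q11
    have bad : ∀ E : MvPowerSeries (Fin 2) k, MvPowerSeries.coeff (Finsupp.single 1 2) E = 1 →
        ¬ Nonempty ((MvPowerSeries (Fin 2) k ⧸ Ideal.span ({F} : Set (MvPowerSeries (Fin 2) k))) ≃ₐ[k] (MvPowerSeries (Fin 2) k ⧸ Ideal.span ({E} : Set (MvPowerSeries (Fin 2) k)))) := by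
      rintro E hE ⟨e⟩
      obtain ⟨Ψ, u, hu⟩ := lift_iso (Ideal.pow_le_pow_right (by omega) hm3) e
      have : E ∈ FSAdic.augIdeal k 2 ^ 3 := hu ▸ Ideal.mul_mem_right _ _ (aut_map_le Ψ 3 F hm3)
      rw [MvPSLib.mem_augIdeal_pow_iff.mp this _ (by simp)] at hE
      exact zero_ne_one hE
    rintro (⟨n, e⟩ | e)
    · refine bad (ArSing.eqn k n) ?_ e
      simp [ArSing.eqn, MvPowerSeries.coeff_X_pow, Finsupp.single_eq_single_iff]
      intro h; have := congrArg (fun v : Fin 2 →₀ ℕ => v 1) h; simp at this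
    · refine bad _ ?_ e
      simp [MvPowerSeries.coeff_X_pow]
  · intro hnot
    have hlin : ∀ i, MvPolynomial.eval a (MvPolynomial.pderiv i f) = 0 := fun i => by
      by_contra hi
      obtain ⟨φ, hφ⟩ := S14310.exists_coord hF0 i (by rw [hF1]; exact hi)
      obtain ⟨φ', hφ'⟩ := S14310.exists_coord (G := ArSing.eqn k 0) (by simp [ArSing.eqn]) 0
        (by simp [ArSing.eqn, MvPowerSeries.coeff_X_pow, MvPowerSeries.coeff_X, Finsupp.single_eq_single_iff])
      refine hnot (Or.inl ⟨0, quot_equiv (φ'.symm.trans φ) (Associated.of_eq ?_)⟩)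
      show φ (φ'.symm (ArSing.eqn k 0)) = F
      rw [show φ'.symm (ArSing.eqn k 0) = MvPowerSeries.X 1 from (AlgEquiv.symm_apply_eq _).mpr hφ'.symm, hφ]
    refine ⟨hlin, ?_⟩
    have hFm2 : F ∈ FSAdic.augIdeal k 2 ^ 2 := by
      rw [MvPSLib.mem_augIdeal_pow_iff]
      intro d hd
      have hd' : d 0 + d 1 < 2 := by rwa [Finsupp.degree_eq_sum, Fin.sum_univ_two] at hd
      rcases (by omega : d 0 = 0 ∧ d 1 = 0 ∨ d 0 = 1 ∧ d 1 = 0 ∨ d 0 = 0 ∧ d 1 = 1) with ⟨a0, a1⟩ | ⟨a0, a1⟩ | ⟨a0, a1⟩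
      · obtain rfl : d = 0 := by ext t; fin_cases t <;> simp [a0, a1]
        rw [MvPowerSeries.coeff_zero_eq_constantCoeff_apply, hF0]
      · obtain rfl : d = Finsupp.single 0 1 := by ext t; fin_cases t <;> simp [a0, a1]
        rw [hF1]; exact hlin 0
      · obtain rfl : d = Finsupp.single 1 1 := by ext t; fin_cases t <;> simp [a0, a1]
        rw [hF1]; exact hlin 1
    -- after a linear change of coordinates the quadratic part involves `y^2`
    have hmove : ∀ φ : MvPowerSeries (Fin 2) k ≃ₐ[k] MvPowerSeries (Fin 2) k, MvPowerSeries.coeff (Finsupp.single 1 2) (φ F) = 0 := fun φ => by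
      by_contra hc
      obtain ⟨e0⟩ := quot_equiv (k := k) φ.symm (F := F) (E := φ F) (Associated.of_eq (φ.symm_apply_apply F))
      rcases double_point h2 (φ F) (aut_map_le φ 2 F hFm2) hc with ⟨n, he⟩ | he
      · obtain ⟨e⟩ := he; exact hnot (Or.inl ⟨n, ⟨e0.trans e⟩⟩)
      · obtain ⟨e⟩ := he; exact hnot (Or.inr ⟨e0.trans e⟩)
    let A20 := MvPowerSeries.coeff (Finsupp.single 0 2) F
    let A11 := MvPowerSeries.coeff (Finsupp.single 0 1 + Finsupp.single 1 1) F
    have h02 : MvPowerSeries.coeff (Finsupp.single 1 2) F = 0 := hmove AlgEquiv.refl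
    have hrest : F - (MvPowerSeries.C A20 * MvPowerSeries.X 0 ^ 2 + MvPowerSeries.C A11 * (MvPowerSeries.X 0 * MvPowerSeries.X 1)) ∈ FSAdic.augIdeal k 2 ^ 3 := by
      rw [MvPSLib.mem_augIdeal_pow_iff]
      intro d hd
      have hd' : d 0 + d 1 < 3 := by rwa [Finsupp.degree_eq_sum, Fin.sum_univ_two] at hd
      have hxy : (MvPowerSeries.X 0 * MvPowerSeries.X 1 : MvPowerSeries (Fin 2) k) = MvPowerSeries.monomial (Finsupp.single 0 1 + Finsupp.single 1 1) 1 := by
        rw [MvPowerSeries.X, MvPowerSeries.X, MvPowerSeries.monomial_mul_monomial, one_mul]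
      rw [map_sub, map_add, MvPowerSeries.coeff_C_mul, MvPowerSeries.coeff_C_mul, hxy, MvPowerSeries.coeff_X_pow, MvPowerSeries.coeff_monomial]
      have hlow := MvPSLib.mem_augIdeal_pow_iff.mp hFm2
      rcases (by omega : d 0 + d 1 < 2 ∨ d 0 = 2 ∧ d 1 = 0 ∨ d 0 = 0 ∧ d 1 = 2 ∨ d 0 = 1 ∧ d 1 = 1) with
        h | ⟨a0, a1⟩ | ⟨a0, a1⟩ | ⟨a0, a1⟩
      · rw [hlow d (by rwa [Finsupp.degree_eq_sum, Fin.sum_univ_two]), if_neg, if_neg]
        · simp
        · rintro rfl; simp at h
        · rintro rfl; simp at h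
      · obtain rfl : d = Finsupp.single 0 2 := by ext t; fin_cases t <;> simp [a0, a1]
        rw [if_pos rfl, if_neg (fun h => by have := congrArg (fun v : Fin 2 →₀ ℕ => v 1) h; simp at this)]
        simp [A20]
      · obtain rfl : d = Finsupp.single 1 2 := by ext t; fin_cases t <;> simp [a0, a1]
        rw [h02, if_neg (fun h => by have := congrArg (fun v : Fin 2 →₀ ℕ => v 1) h; simp at this),
          if_neg (fun h => by have := congrArg (fun v : Fin 2 →₀ ℕ => v 1) h; simp at this)]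
        simp
      · obtain rfl : d = Finsupp.single 0 1 + Finsupp.single 1 1 := by ext t; fin_cases t <;> simp [a0, a1]
        rw [if_neg (fun h => by have := congrArg (fun v : Fin 2 →₀ ℕ => v 1) h; simp at this), if_pos rfl]
        simp [A11]
    have hcoef : ∀ φ : MvPowerSeries (Fin 2) k ≃ₐ[k] MvPowerSeries (Fin 2) k,
        A20 * MvPowerSeries.coeff (Finsupp.single 1 2) (φ (MvPowerSeries.X 0) ^ 2) +
          A11 * MvPowerSeries.coeff (Finsupp.single 1 2) (φ (MvPowerSeries.X 0) * φ (MvPowerSeries.X 1)) = 0 := fun φ => by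
      have h := MvPSLib.mem_augIdeal_pow_iff.mp (aut_map_le φ 3 _ hrest) (Finsupp.single 1 2) (by simp)
      rw [map_sub φ, map_add φ, map_mul φ, map_mul φ, map_pow φ, map_mul φ, map_sub, map_add, hmove φ, zero_sub, neg_eq_zero,
        show φ (MvPowerSeries.C A20) = MvPowerSeries.C A20 from φ.commutes A20, show φ (MvPowerSeries.C A11) = MvPowerSeries.C A11 from φ.commutes A11,
        MvPowerSeries.coeff_C_mul, MvPowerSeries.coeff_C_mul] at h
      exact h
    have hA20 : A20 = 0 := by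
      obtain ⟨φ, hφ⟩ := S14310.exists_coord (G := (MvPowerSeries.X 0 : MvPowerSeries (Fin 2) k)) (MvPowerSeries.constantCoeff_X 0) 0
        (by simp [MvPowerSeries.coeff_X])
      have h := hcoef φ.symm
      have h1 : φ.symm (MvPowerSeries.X 0) = MvPowerSeries.X 1 := (AlgEquiv.symm_apply_eq _).mpr hφ.symm
      obtain ⟨ψ, hψ0, hψ1⟩ : ∃ ψ : MvPowerSeries (Fin 2) k ≃ₐ[k] MvPowerSeries (Fin 2) k, ψ (MvPowerSeries.X 0) = MvPowerSeries.X 1 ∧ ψ (MvPowerSeries.X 1) = MvPowerSeries.X 0 := by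
        refine swap_exists (k := k)
      have h := hcoef ψ
      rw [hψ0, hψ1, MvPowerSeries.coeff_X_pow, if_pos rfl, mul_one, mul_comm (MvPowerSeries.X 1)] at h
      rw [MvPowerSeries.X, MvPowerSeries.X, MvPowerSeries.monomial_mul_monomial, MvPowerSeries.coeff_monomial,
        if_neg (fun h => by have := congrArg (fun v : Fin 2 →₀ ℕ => v 0) h; simp at this), mul_zero, add_zero] at h
      exact h
    have hA11 : A11 = 0 := by
      obtain ⟨ψ, hψ0, hψ1⟩ : ∃ ψ : MvPowerSeries (Fin 2) k ≃ₐ[k] MvPowerSeries (Fin 2) k,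
          ψ (MvPowerSeries.X 0) = MvPowerSeries.X 0 + MvPowerSeries.X 1 ∧ ψ (MvPowerSeries.X 1) = MvPowerSeries.X 1 := shear_exists (k := k)
      have h := hcoef ψ
      rw [hA20, zero_mul, zero_add, hψ0, hψ1, add_mul, map_add, ← pow_two, MvPowerSeries.coeff_X_pow, if_pos rfl,
        MvPowerSeries.X, MvPowerSeries.X, MvPowerSeries.monomial_mul_monomial, MvPowerSeries.coeff_monomial,
        if_neg (fun h => by have := congrArg (fun v : Fin 2 →₀ ℕ => v 0) h; simp at this), zero_add, mul_one] at h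
      exact h
    intro i j
    rw [hF2]
    have e10 : (Finsupp.single 1 1 + Finsupp.single 0 1 : Fin 2 →₀ ℕ) = Finsupp.single 0 1 + Finsupp.single 1 1 := add_comm _ _
    fin_cases i <;> fin_cases j
    · show MvPowerSeries.coeff (Finsupp.single 0 1 + Finsupp.single 0 1) F * _ = 0
      rw [e20]; exact mul_eq_zero_of_left hA20 _
    · show MvPowerSeries.coeff (Finsupp.single 0 1 + Finsupp.single 1 1) F * _ = 0
      exact mul_eq_zero_of_left hA11 _
    · show MvPowerSeries.coeff (Finsupp.single 1 1 + Finsupp.single 0 1) F * _ = 0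
      rw [e10]; exact mul_eq_zero_of_left hA11 _
    · show MvPowerSeries.coeff (Finsupp.single 1 1 + Finsupp.single 1 1) F * _ = 0
      rw [e02]; exact mul_eq_zero_of_left h02 _

end Groth.Agent.S14311
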