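import Groth.Statements.S14330
import Groth.Agent.S6039
import Groth.Agent.SchDomLib.Basic
import Groth.Agent.LeadInv.Basic
import Groth.Agent.TensorMod.FinLocFree
import Groth.Agent.FlatLocalDepth.Basic
import Groth.Agent.SmoothStalk.Basic
import Groth.Agent.Depth.Basic

set_option backward.isDefEq.respectTransparency.types false

set_option autoImplicit false
universe u
open CategoryTheory CategoryTheory.Limits AlgebraicGeometry Opposite
open GrpSch

namespace Groth.Agent.S14330

open Opposite TopologicalSpace CategoryTheory.Limits QCohBase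

variable {S : Scheme.{u}} [IsLocallyNoetherian S]

lemma injective_O {B : Scheme.{u}} (g : B ⟶ S) [Smooth g] (V : S.Opens) (hV : CInt.IsSchematicallyDense V) :
    CInt.IsSchematicallyDense (g ⁻¹ᵁ V) := by
  haveI : QuasiCompact V.ι := inferInstance
  haveI := SchDomLib.isSchemeTheoreticallyDominant_opens_ι hV
  haveI : IsLocallyNoetherian B := LocallyOfFiniteType.isLocallyNoetherian g
  haveI : QuasiCompact (g ⁻¹ᵁ V).ι := inferInstance
  have : IsSchemeTheoreticallyDominant (g ⁻¹ᵁ V).ι :=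
    IsSchemeTheoreticallyDominant.of_isPullback (isPullback_morphismRestrict g V)
  exact SchDomLib.isSchematicallyDense_of_injective fun W => (g ⁻¹ᵁ V).ι.app_injective W

lemma bijective_O {B : Scheme.{u}} (g : B ⟶ S) [Smooth g] (V : S.Opens)
    (hd : ∀ x : S, x ∉ V → 2 ≤ LocCoh.depth (S.presheaf.stalk x) (S.presheaf.stalk x)) (W : B.Opens) :
    Function.Bijective ((Coh.structureModule B).val.map (homOfLE (inf_le_left : W ⊓ g ⁻¹ᵁ V ≤ W)).op).hom := by
  haveI : IsLocallyNoetherian B := LocallyOfFiniteType.isLocallyNoetherian g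
  refine (S6039.result B (g ⁻¹ᵁ V) (Coh.structureModule B)
    (TensorMod.isCoh_of_isInvertible ?_)).1 (fun b hb => ?_) W
  · exact fun b => ⟨⊤, trivial, ⟨Scheme.Modules.restrictUnitIso _⟩⟩
  have hsm : b ∈ g.smoothLocus := by rw [Scheme.Hom.smoothLocus_eq_top]; trivial
  let R := S.presheaf.stalk (g b)
  let T := B.presheaf.stalk b
  letI : Algebra R T := (g.stalkMap b).hom.toAlgebra
  haveI : IsLocalHom (algebraMap R T) := inferInstanceAs (IsLocalHom (g.stalkMap b).hom)
  haveI : Module.Flat R T := SmoothStalk.flat_stalkMap g b hsm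
  have h1 : (2 : ℕ∞) ≤ LocCoh.depth T T := by
    rw [FlatLocalDepth.depth_eq_add R T]
    exact (hd (g b) hb).trans le_self_add
  rw [Depth.depth_congr (LeadInv.stalkUnit b)] at h1
  exact h1

lemma res_bij_congr {X : Scheme.{u}} (L : X.Modules) {a b a' b' : X.Opens} (h : b ≤ a) (h' : b' ≤ a') (ha : a = a')
    (hb : b = b') (H : Function.Bijective (L.val.map (homOfLE h).op).hom) :
    Function.Bijective (L.val.map (homOfLE h').op).hom := by
  subst ha hb; exact H

lemma res_inj_congr {X : Scheme.{u}} (L : X.Modules) {a b a' b' : X.Opens} (h : b ≤ a) (h' : b' ≤ a') (ha : a = a')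
    (hb : b = b') (H : Function.Injective (L.val.map (homOfLE h).op).hom) :
    Function.Injective (L.val.map (homOfLE h').op).hom := by
  subst ha hb; exact H

lemma nat_square {X : Scheme.{u}} {M N : X.Modules} (e : M ≅ N) {W' W : X.Opens} (h : W' ≤ W) :
    (Function.Injective (N.val.map (homOfLE h).op).hom → Function.Injective (M.val.map (homOfLE h).op).hom) ∧
    (Function.Bijective (N.val.map (homOfLE h).op).hom → Function.Bijective (M.val.map (homOfLE h).op).hom) := by
  let p := (SheafOfModules.forget _).mapIso e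
  have hb : ∀ Z : X.Opens, Function.Bijective (p.hom.app (op Z)).hom := fun Z =>
    Function.bijective_iff_has_inverse.2 ⟨(p.inv.app (op Z)).hom,
      fun x => congr((($(p.hom_inv_id)).app (op Z)).hom x),
      fun x => congr((($(p.inv_hom_id)).app (op Z)).hom x)⟩
  have sq : ∀ x, (p.hom.app (op W')).hom ((M.val.map (homOfLE h).op).hom x) =
      (N.val.map (homOfLE h).op).hom ((p.hom.app (op W)).hom x) := fun x =>
    PresheafOfModules.naturality_apply p.hom (homOfLE h).op x
  have hi : Function.Injective (N.val.map (homOfLE h).op).hom → Function.Injective (M.val.map (homOfLE h).op).hom :=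
    fun hN a b hab => (hb W).1 (hN ((sq a).symm.trans ((congrArg (p.hom.app (op W')).hom hab).trans (sq b))))
  refine ⟨hi, fun hN => ⟨hi hN.1, fun y => ?_⟩⟩
  obtain ⟨z, hz⟩ := hN.2 ((p.hom.app (op W')).hom y)
  obtain ⟨a, ha⟩ := (hb W).2 z
  exact ⟨a, (hb W').1 ((sq a).trans ((congrArg (N.val.map (homOfLE h).op).hom ha).trans hz))⟩

theorem glue {X : TopCat.{u}} (F : CohTop.Ab X) (U : Opens X) (O : X → Opens X) (hO : ∀ x, x ∈ O x)
    (hinj : ∀ x W, W ≤ O x → Function.Injective (res F.obj (inf_le_left : W ⊓ U ≤ W))) :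
    (∀ W, Function.Injective (res F.obj (inf_le_left : W ⊓ U ≤ W))) ∧
    ((∀ x W, W ≤ O x → Function.Bijective (res F.obj (inf_le_left : W ⊓ U ≤ W))) →
      ∀ W, Function.Bijective (res F.obj (inf_le_left : W ⊓ U ≤ W))) := by
  let F' : TopCat.Sheaf AddCommGrpCat.{u} X := F
  have hcover : ∀ W : Opens X, W ≤ iSup fun x => W ⊓ O x := fun W x hx =>
    Opens.mem_iSup.2 ⟨x, hx, hO x⟩
  have hI : ∀ W, Function.Injective (res F.obj (inf_le_left : W ⊓ U ≤ W)) := by
    intro W s t hst
    refine F'.eq_of_locally_eq' (fun x => W ⊓ O x) W (fun x => homOfLE inf_le_left) (hcover W) s t fun x => ?_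
    refine hinj x (W ⊓ O x) inf_le_right ?_
    change res F.obj inf_le_left (res F.obj inf_le_left s) = res F.obj inf_le_left (res F.obj inf_le_left t)
    have := congrArg (res F.obj (show W ⊓ O x ⊓ U ≤ W ⊓ U from inf_le_inf_right U inf_le_left)) hst
    rw [res_res, res_res] at this
    rw [res_res, res_res]; exact this
  refine ⟨hI, fun hbij W => ⟨hI W, fun t => ?_⟩⟩
  choose s hs using fun x => (hbij x (W ⊓ O x) inf_le_right).2
    (res F.obj (show W ⊓ O x ⊓ U ≤ W ⊓ U from inf_le_inf_right U inf_le_left) t)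
  obtain ⟨σ, hσ, -⟩ := F'.existsUnique_gluing' (fun x => W ⊓ O x) W (fun x => homOfLE inf_le_left) (hcover W) s
    (fun x y => by
      apply hI
      have h1 := congrArg (res F.obj (show (W ⊓ O x) ⊓ (W ⊓ O y) ⊓ U ≤ W ⊓ O x ⊓ U from
        inf_le_inf_right U inf_le_left)) (hs x)
      have h2 := congrArg (res F.obj (show (W ⊓ O x) ⊓ (W ⊓ O y) ⊓ U ≤ W ⊓ O y ⊓ U from
        inf_le_inf_right U inf_le_right)) (hs y)
      rw [res_res, res_res] at h1 h2
      change res F.obj inf_le_left (res F.obj inf_le_left (s x)) = res F.obj inf_le_left (res F.obj inf_le_right (s y))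
      rw [res_res, res_res]
      exact h1.trans h2.symm)
  refine ⟨σ, F'.eq_of_locally_eq' (fun x => W ⊓ O x ⊓ U) (W ⊓ U) (fun x => homOfLE (inf_le_inf_right U inf_le_left))
    (fun z hz => Opens.mem_iSup.2 ⟨z, ⟨hz.1, hO z⟩, hz.2⟩) _ _ fun x => ?_⟩
  have h3 := congrArg (res F.obj (inf_le_left : W ⊓ O x ⊓ U ≤ W ⊓ O x)) (show res F.obj _ σ = s x from hσ x)
  rw [res_res, hs] at h3
  change res F.obj _ (res F.obj _ σ) = _
  rw [res_res]
  exact h3

/-- Let S be a locally Noetherian scheme, f : A → S a smooth morphism, L an invertible O_A-module and V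
an open subscheme of S; for an open W of S consider the restriction of sections of L from f⁻¹(W) to
f⁻¹(W) ∩ f⁻¹(V), that is the component over W of the natural map f_*L → j_*j^*(f_*L), j : V → S the
inclusion. If V is schematically dense in S, all these restrictions are injective. If V is a big
open of S, meaning that the local ring of S at every point outside V has depth at least 2, all these
restrictions are bijective. (The published statement is for a semi-stable group scheme A; its proof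
uses only the smoothness of A over S and the local freeness of L, which are the hypotheses kept
here.) -/
theorem result {S A : Scheme.{u}} [IsLocallyNoetherian S]
    (f : A ⟶ S) [Smooth f] (L : A.Modules) (hL : PicF.IsInvertible L) (V : S.Opens) :
    (CInt.IsSchematicallyDense V →
      ∀ W : S.Opens, Function.Injective (L.val.map (homOfLE (inf_le_left : f ⁻¹ᵁ W ⊓ f ⁻¹ᵁ V ≤ f ⁻¹ᵁ W)).op)) ∧
    ((∀ x : S, x ∉ V → 2 ≤ LocCoh.depth (S.presheaf.stalk x) (S.presheaf.stalk x)) →
      ∀ W : S.Opens, Function.Bijective (L.val.map (homOfLE (inf_le_left : f ⁻¹ᵁ W ⊓ f ⁻¹ᵁ V ≤ f ⁻¹ᵁ W)).op)) := by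
  choose O hO hT using fun x : A => TensorMod.exists_triv_le hL (W := (⊤ : A.Opens)) (show x ∈ (⊤ : A.Opens) from trivial)
  have key : ∀ x (Q : A.Opens), Q ≤ O x →
      (CInt.IsSchematicallyDense V → Function.Injective (L.val.map (homOfLE (inf_le_left : Q ⊓ f ⁻¹ᵁ V ≤ Q)).op).hom) ∧
      ((∀ x : S, x ∉ V → 2 ≤ LocCoh.depth (S.presheaf.stalk x) (S.presheaf.stalk x)) →
        Function.Bijective (L.val.map (homOfLE (inf_le_left : Q ⊓ f ⁻¹ᵁ V ≤ Q)).op).hom) := by
    intro x Q hQ
    obtain ⟨-, ⟨e⟩⟩ := hT x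
    let j := (O x).ι
    let Q' := j ⁻¹ᵁ Q
    have e1 : j ''ᵁ Q' = Q := by
      rw [Scheme.Hom.image_preimage_eq_opensRange_inf, Scheme.Opens.opensRange_ι, inf_eq_right.2 hQ]
    have e2 : j ''ᵁ (Q' ⊓ (j ≫ f) ⁻¹ᵁ V) = Q ⊓ f ⁻¹ᵁ V := by
      rw [Scheme.Hom.comp_preimage, ← Scheme.Hom.preimage_inf, Scheme.Hom.image_preimage_eq_opensRange_inf,
        Scheme.Opens.opensRange_ι, inf_eq_right.2 (inf_le_left.trans hQ)]
    have hsq := nat_square e (inf_le_left : Q' ⊓ (j ≫ f) ⁻¹ᵁ V ≤ Q')
    have hle : j ''ᵁ (Q' ⊓ (j ≫ f) ⁻¹ᵁ V) ≤ j ''ᵁ Q' := j.image_mono inf_le_left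
    refine ⟨fun hV => res_inj_congr L hle _ e1 e2 ?_, fun hd => res_bij_congr L hle _ e1 e2 ?_⟩
    · have h0 := hsq.1 (injective_O (j ≫ f) V hV Q')
      exact h0
    · have h0 := hsq.2 (bijective_O (j ≫ f) V hd Q')
      exact h0
  refine ⟨fun hV W => (glue (X := A.carrier) (Coh.toAb L) (f ⁻¹ᵁ V) O hO fun x Q hQ => (key x Q hQ).1 hV).1 (f ⁻¹ᵁ W),
    fun hd W => (glue (X := A.carrier) (Coh.toAb L) (f ⁻¹ᵁ V) O hO fun x Q hQ => ((key x Q hQ).2 hd).1).2
      (fun x Q hQ => (key x Q hQ).2 hd) (f ⁻¹ᵁ W)⟩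

end Groth.Agent.S14330
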