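import Groth.Statements.S14337
import Mathlib.RingTheory.Flat.Basic
import Mathlib.LinearAlgebra.TensorProduct.RightExactness
import Mathlib.Algebra.Module.Projective
import Mathlib.RingTheory.Flat.EquationalCriterion
import Mathlib.Algebra.Module.FinitePresentation

set_option autoImplicit false
universe u
open scoped TensorProduct
open CAlg

namespace Groth.Agent.S14337

/-- Let B be a Noetherian ring, K and K' finitely generated flat B-modules and φ : K → K' a B-linear
map; for a prime y of B write κ(y) for its residue field and φ_y for the base change κ(y) ⊗ K → κ(y)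
⊗ K'. If the cokernel K'/Im φ is a projective (locally free) B-module, then Im φ is projective, and
the formation of Im φ commutes with every base change: for every commutative B-algebra B' the map B'
⊗ Im φ → B' ⊗ K' induced by the inclusion is injective and its range is the range of the base change
B' ⊗ K → B' ⊗ K' of φ. -/
theorem result (B : Type u) [CommRing B] [IsNoetherianRing B] (K K' : Type u) [AddCommGroup K] [Module B K] [Module.Finite B K] [Module.Flat B K] [AddCommGroup K'] [Module B K'] [Module.Finite B K'] [Module.Flat B K'] (φ : K →ₗ[B] K') (hc : Module.Projective B (K' ⧸ LinearMap.range φ)) : Module.Projective B ↥(LinearMap.range φ) ∧ ∀ (B' : Type u) [CommRing B'] [Algebra B B'], Function.Injective ((LinearMap.range φ).subtype.baseChange B') ∧ LinearMap.range ((LinearMap.range φ).subtype.baseChange B') = LinearMap.range (φ.baseChange B') := by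
  have : Module.FinitePresentation B K' := Module.finitePresentation_of_finite B K'
  have : Module.Projective B K' := Module.Flat.projective_of_finitePresentation
  obtain ⟨s, hs⟩ := Module.projective_lifting_property (LinearMap.range φ).mkQ LinearMap.id (Submodule.mkQ_surjective _)
  let r : K' →ₗ[B] LinearMap.range φ := LinearMap.codRestrict _ (LinearMap.id - s ∘ₗ (LinearMap.range φ).mkQ) fun x => by
    refine (Submodule.Quotient.mk_eq_zero _).mp ?_
    show (LinearMap.range φ).mkQ _ = 0
    simp only [LinearMap.sub_apply, map_sub, LinearMap.comp_apply, LinearMap.id_apply]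
    rw [show (LinearMap.range φ).mkQ (s ((LinearMap.range φ).mkQ x)) = (LinearMap.range φ).mkQ x from LinearMap.congr_fun hs _]
    exact sub_self _
  have hr : r ∘ₗ (LinearMap.range φ).subtype = LinearMap.id := by
    apply LinearMap.ext
    intro x
    apply Subtype.ext
    show (x : K') - s ((LinearMap.range φ).mkQ x) = x
    rw [(Submodule.Quotient.mk_eq_zero (LinearMap.range φ)).mpr x.2 |> fun h => (show (LinearMap.range φ).mkQ (x : K') = 0 from h), map_zero, sub_zero]
  refine ⟨Module.Projective.of_split (LinearMap.range φ).subtype r hr, fun B' _ _ => ⟨?_, ?_⟩⟩
  · have : ∀ x, r.baseChange B' ((LinearMap.range φ).subtype.baseChange B' x) = x := fun x => by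
      rw [← LinearMap.comp_apply, ← LinearMap.baseChange_comp, hr, LinearMap.baseChange_id]; rfl
    exact fun x y h => by rw [← this x, ← this y, h]
  · have hsurj : LinearMap.range (φ.rangeRestrict.baseChange B') = ⊤ := by
      rw [LinearMap.range_eq_top, LinearMap.baseChange_eq_ltensor]
      exact LinearMap.lTensor_surjective B' (LinearMap.surjective_rangeRestrict φ)
    conv_rhs => rw [show φ = (LinearMap.range φ).subtype ∘ₗ φ.rangeRestrict from (LinearMap.subtype_comp_codRestrict _ _ _).symm, LinearMap.baseChange_comp]
    rw [LinearMap.range_comp_of_range_eq_top _ hsurj]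

end Groth.Agent.S14337
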