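import Groth.Statements.S1434
import Mathlib.AlgebraicGeometry.Morphisms.ClosedImmersion
import Mathlib.AlgebraicGeometry.Morphisms.QuasiCompact

set_option autoImplicit false
universe u
open FlatMor

namespace Groth.Agent.S1434

open AlgebraicGeometry CategoryTheory Limits in
/-- Part (1), for a closed subscheme: let Z ⊂ X be the closed subscheme cut out by an ideal sheaf I and
Z' the one cut out by I², its first order infinitesimal neighbourhood. Given a first order
thickening T → T', a morphism a : T → Z and a morphism b : T' → X compatible with them, there is a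
unique morphism T' → Z' through which b factors (compatibility with a is then automatic). -/
theorem result {X T T' : Scheme.{u}} (I : X.IdealSheafData) (t : T ⟶ T') (ht : MoreMor.IsFirstOrderThickening t)
    (a : T ⟶ I.subscheme) (b : T' ⟶ X) (w : a ≫ I.subschemeι = t ≫ b) :
    ∃! a' : T' ⟶ (I ^ 2).subscheme, a' ≫ (I ^ 2).subschemeι = b := by
  obtain ⟨⟨_, _⟩, hsq⟩ := ht
  have hI : I ≤ (t ≫ b).ker := by
    rw [← w]
    exact I.ker_subschemeι.ge.trans (Scheme.Hom.le_ker_comp a I.subschemeι)
  have hle : I ^ 2 ≤ b.ker := by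
    refine Scheme.IdealSheafData.le_ofIdeals_iff.mpr fun U ↦ ?_
    rw [pow_two, Scheme.IdealSheafData.ideal_mul, Pi.mul_apply, Ideal.mul_le]
    intro x hx y hy
    rw [RingHom.mem_ker, map_mul]
    refine T'.IsSheaf.section_ext fun p hp ↦ ?_
    obtain ⟨_, ⟨V, hV, rfl⟩, hpV, hVU⟩ :=
      T'.isBasis_affineOpens.exists_subset_of_mem_open hp (b ⁻¹ᵁ U.1).isOpen
    refine ⟨V, hVU, hpV, ?_⟩
    have key : ∀ z ∈ I.ideal U,
        T'.presheaf.map (homOfLE hVU).op (b.app U.1 z) ∈ t.ker.ideal ⟨V, hV⟩ := by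
      intro z hz
      have h1 := (t ≫ b).ideal_ker_le U (hI U hz)
      rw [RingHom.mem_ker, Scheme.Hom.comp_app] at h1
      replace h1 : t.app (b ⁻¹ᵁ U.1) (b.app U.1 z) = 0 := h1
      rw [t.ker_apply ⟨V, hV⟩, RingHom.mem_ker, ← CommRingCat.comp_apply, t.naturality,
        CommRingCat.comp_apply, h1, map_zero]
    have h2 : T'.presheaf.map (homOfLE hVU).op (b.app U.1 x * b.app U.1 y) ∈
        (t.ker * t.ker).ideal ⟨V, hV⟩ := by
      rw [map_mul, Scheme.IdealSheafData.ideal_mul, Pi.mul_apply]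
      exact Ideal.mul_mem_mul (key x hx) (key y hy)
    rw [hsq] at h2
    simp at h2 ⊢
    exact h2
  have hk : (I ^ 2).subschemeι.ker ≤ b.ker := by rwa [Scheme.IdealSheafData.ker_subschemeι]
  exact ⟨IsClosedImmersion.lift _ b hk, IsClosedImmersion.lift_fac _ _ _, fun a' ha' ↦ by
    rw [← cancel_mono (I ^ 2).subschemeι, ha', IsClosedImmersion.lift_fac]⟩

end Groth.Agent.S1434
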