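import Groth.Statements.S14346
import Groth.Agent.FittLib.Rank
-- import your own Groth.Agent.* helpers here

set_option autoImplicit false
universe u v
open TensorProduct
open QuotLF

namespace Groth.Agent.S14346

/-- Let R be a commutative ring, M an R-module, k ≥ 0, and A an R-algebra for which A ⊗_R M is finite
projective of constant rank k, i.e. Spec A → Spec R factors through the locally closed stratum where
M is locally free of rank k. Then A ⊗_R M has exactly one rank-k locally free quotient: the zero
submodule has finite projective quotient of constant rank k, and every submodule with such a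
quotient is zero. In other words the Quot scheme of rank-k locally free quotients of M restricted to
that stratum maps isomorphically onto it. -/
theorem result (R : Type u) [CommRing R]
    (M : Type v) [AddCommGroup M] [Module R M] (k : ℕ)
    (A : Type u) [CommRing A] [Algebra R A] [Module.Finite A (A ⊗[R] M)] [Module.Projective A (A ⊗[R] M)]
    (hk : ∀ p : PrimeSpectrum A, Module.rankAtStalk (R := A) (A ⊗[R] M) p = k) :
    (∃ N : Module.Grassmannian A (A ⊗[R] M) k, N.toSubmodule = ⊥) ∧
      ∀ N : Module.Grassmannian A (A ⊗[R] M) k, N.toSubmodule = ⊥ := by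
  have hr := funext fun p => hk p
  refine ⟨⟨⟨⊥, Module.Finite.of_surjective (Submodule.quotEquivOfEqBot ⊥ rfl).symm.toLinearMap (LinearEquiv.surjective _),
    Module.Projective.of_equiv (Submodule.quotEquivOfEqBot ⊥ rfl).symm, fun p => ?_⟩, rfl⟩, fun N => ?_⟩
  · rw [Module.rankAtStalk_eq_of_equiv (Submodule.quotEquivOfEqBot ⊥ rfl)]
    exact hk p
  · obtain ⟨s, hs⟩ := Module.projective_lifting_property N.toSubmodule.mkQ LinearMap.id N.toSubmodule.mkQ_surjective
    let π : (A ⊗[R] M) →ₗ[A] ↥N.toSubmodule := (LinearMap.id - s ∘ₗ N.toSubmodule.mkQ).codRestrict _ fun m => by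
      rw [← Submodule.Quotient.mk_eq_zero, ← Submodule.mkQ_apply]
      show N.toSubmodule.mkQ (m - s (N.toSubmodule.mkQ m)) = 0
      rw [map_sub, show N.toSubmodule.mkQ (s _) = _ from LinearMap.congr_fun hs _, LinearMap.id_apply, sub_self]
    have hπ : π ∘ₗ N.toSubmodule.subtype = LinearMap.id := LinearMap.ext fun x => Subtype.ext (by
      show x.1 - s (N.toSubmodule.mkQ x.1) = x.1
      rw [show N.toSubmodule.mkQ x.1 = 0 from (Submodule.Quotient.mk_eq_zero _).2 x.2, map_zero, sub_zero])
    haveI : Module.Projective A ↥N.toSubmodule := Module.Projective.of_split _ π hπ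
    haveI : Module.Finite A ↥N.toSubmodule := Module.Finite.of_surjective π fun x => ⟨x.1, LinearMap.congr_fun hπ x⟩
    let e : (A ⊗[R] M) ≃ₗ[A] ↥N.toSubmodule × ((A ⊗[R] M) ⧸ N.toSubmodule) :=
      LinearEquiv.ofLinear (π.prod N.toSubmodule.mkQ) (N.toSubmodule.subtype.coprod s)
        (LinearMap.ext fun z => by
          obtain ⟨x, q⟩ := z
          have h1 : N.toSubmodule.mkQ (x.1 + s q) = q := by
            rw [map_add, show N.toSubmodule.mkQ x.1 = 0 from (Submodule.Quotient.mk_eq_zero _).2 x.2,
              show N.toSubmodule.mkQ (s q) = q from LinearMap.congr_fun hs q, zero_add]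
          exact Prod.ext (Subtype.ext (show x.1 + s q - s (N.toSubmodule.mkQ (x.1 + s q)) = x.1 by
            rw [h1, add_sub_cancel_right])) h1)
        (LinearMap.ext fun m => show (m - s (N.toSubmodule.mkQ m)) + s (N.toSubmodule.mkQ m) = m from sub_add_cancel _ _)
    have h0 : Module.rankAtStalk (R := A) ↥N.toSubmodule = 0 := funext fun p => by
      have := Module.rankAtStalk_eq_of_equiv (R := A) (M := A ⊗[R] M) (N := ↥N.toSubmodule × ((A ⊗[R] M) ⧸ N.toSubmodule)) e
      rw [Module.rankAtStalk_prod] at this
      have h2 := congrFun this p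
      rw [hk p, Pi.add_apply, N.rankAtStalk_eq p] at h2
      simpa using h2
    exact Submodule.subsingleton_iff_eq_bot.1 (Module.rankAtStalk_eq_zero_iff_subsingleton.1 h0)

end Groth.Agent.S14346
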