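import Groth.Statements.S14347
import Groth.Agent.FittLib.Rank
-- import your own Groth.Agent.* helpers here

set_option autoImplicit false
universe u
open QuotLF

namespace Groth.Agent.S14347

/-- Let R be a commutative ring and σ : R^m → R^n an injective linear map with cokernel M, so that M has
a length-one resolution by finite free modules and rank δ = n − m; let K be the cokernel of the dual
map (R^n)^∨ → (R^m)^∨, which is the module Ext¹_R(M, R). Then the Fitting ideals satisfy Fit_{δ +
j}(M) = Fit_j(K) for all j ≥ 0, and Fit_i(M) = 0 for i < δ (the degeneracy loci of M and of K agree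
after the shift by δ). -/
theorem result (R : Type u) [CommRing R] (m n : ℕ)
    (σ : (Fin m → R) →ₗ[R] (Fin n → R)) (hσ : Function.Injective σ) :
    (∀ j : ℕ, Fitt.ideal R ((Fin n → R) ⧸ LinearMap.range σ) (n - m + j) =
        Fitt.ideal R (Module.Dual R (Fin m → R) ⧸ LinearMap.range σ.dualMap) j) ∧
      ∀ i : ℕ, i < n - m → Fitt.ideal R ((Fin n → R) ⧸ LinearMap.range σ) i = ⊥ := by
  classical
  let c : Fin m → (Fin n → R) := fun j => σ (Pi.single j 1)
  let w : Fin n → (Fin m → R) := fun i j => c j i
  have hσw : ∀ (v : Fin m → R), σ v = ∑ j, v j • c j := fun v => by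
    conv_lhs => rw [pi_eq_sum_univ' v]
    simp [c, map_sum]
  have hx : ∀ (N : Submodule R (Fin n → R)),
      Submodule.span R (Set.range fun i => N.mkQ (Pi.single i (1 : R))) = ⊤ := fun N => by
    rw [show (fun i => N.mkQ (Pi.single i (1 : R))) = N.mkQ ∘ ⇑(Pi.basisFun R (Fin n)) by funext i; simp,
      Set.range_comp, Submodule.span_image, (Pi.basisFun R (Fin n)).span_eq, Submodule.map_top, Submodule.range_mkQ]
  have hrelx : FittLib.rel (R := R) (fun i => (LinearMap.range σ).mkQ (Pi.single i (1 : R))) = Submodule.span R (Set.range c) := by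
    ext v
    rw [FittLib.mem_rel]
    simp only [← map_smul, ← map_sum, ← pi_eq_sum_univ']
    rw [Submodule.mkQ_apply, Submodule.Quotient.mk_eq_zero]
    constructor
    · rintro ⟨u, rfl⟩
      rw [hσw]
      exact Submodule.sum_mem _ fun j _ => Submodule.smul_mem _ _ (Submodule.subset_span ⟨j, rfl⟩)
    · intro hv
      exact Submodule.span_le.2 (by rintro _ ⟨j, rfl⟩; exact ⟨_, rfl⟩) hv
  let D := Module.Dual R (Fin m → R)
  let b : Fin m → D := fun j => LinearMap.proj j
  have hbv : ∀ (a : Fin m → R) (v : Fin m → R), (∑ j, a j • b j) v = ∑ j, a j * v j := fun a v =>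
    (map_sum (LinearMap.applyₗ (R := R) (M₂ := R) v) _ _).trans (Finset.sum_congr rfl fun j _ => rfl)
  have hb : ∀ ψ : D, ∑ j, ψ (Pi.single j 1) • b j = ψ := fun ψ => LinearMap.ext fun v => by
    conv_rhs => rw [pi_eq_sum_univ' v]
    rw [hbv]
    simp [map_sum, mul_comm]
  have hy : Submodule.span R (Set.range fun j => (LinearMap.range σ.dualMap).mkQ (b j)) = ⊤ := eq_top_iff.2 fun q _ => by
    obtain ⟨ψ, rfl⟩ := Submodule.mkQ_surjective _ q
    rw [← hb ψ, map_sum]
    exact Submodule.sum_mem _ fun j _ => by
      rw [map_smul]; exact Submodule.smul_mem _ _ (Submodule.subset_span ⟨j, rfl⟩)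
  have hrely : FittLib.rel (R := R) (fun j => (LinearMap.range σ.dualMap).mkQ (b j)) = Submodule.span R (Set.range w) := by
    ext v
    rw [FittLib.mem_rel]
    simp only [← map_smul, ← map_sum]
    rw [Submodule.mkQ_apply, Submodule.Quotient.mk_eq_zero]
    constructor
    · rintro ⟨φ, hφ⟩
      have hv : v = ∑ i, φ (Pi.single i 1) • w i := funext fun j => by
        have h1 := LinearMap.congr_fun hφ (Pi.single j 1)
        rw [LinearMap.dualMap_apply, show σ (Pi.single j 1) = c j from rfl, pi_eq_sum_univ' (c j)] at h1
        simp only [map_sum, map_smul, b, LinearMap.sum_apply, LinearMap.smul_apply, LinearMap.proj_apply] at h1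
        simp only [Finset.sum_apply, Pi.smul_apply, w, smul_eq_mul]
        simp [Pi.single_apply] at h1
        rw [← h1]
        exact Finset.sum_congr rfl fun i _ => mul_comm _ _
      rw [hv]
      exact Submodule.sum_mem _ fun i _ => Submodule.smul_mem _ _ (Submodule.subset_span ⟨i, rfl⟩)
    · intro hv
      let L : (Fin m → R) →ₗ[R] D := Fintype.linearCombination R b
      have : L v ∈ LinearMap.range σ.dualMap := by
        refine (Submodule.span_le (p := (LinearMap.range σ.dualMap).comap L)).2 ?_ hv
        rintro _ ⟨i, rfl⟩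
        refine ⟨LinearMap.proj i, LinearMap.ext fun u => ?_⟩
        show (σ u) i = (∑ j, w i j • b j) u
        rw [hbv, hσw u]
        simp [w, mul_comm]
      simpa [L, Fintype.linearCombination_apply] using this
  have hI : ∀ d : ℕ, FittLib.I (Submodule.span R (Set.range c)) d = FittLib.I (Submodule.span R (Set.range w)) d := by
    intro d
    refine le_antisymm (FittLib.I_span_le _ _ _ fun z e hz => ?_) (FittLib.I_span_le _ _ _ fun z e hz => ?_)
    all_goals
      choose k hk using hz
      rw [← Matrix.det_transpose]
    · convert FittLib.det_mem_I (N := Submodule.span R (Set.range w)) (fun a => w (e a)) k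
        (fun a => Submodule.subset_span ⟨_, rfl⟩) using 2
      ext a a'
      simp [w, ← hk]
    · convert FittLib.det_mem_I (N := Submodule.span R (Set.range c)) (fun a => c (e a)) k
        (fun a => Submodule.subset_span ⟨_, rfl⟩) using 2
      ext a a'
      simp [w, ← hk]
  refine ⟨fun j => ?_, fun i hi => ?_⟩
  · rw [FittLib.ideal_eq_F _ (hx _), FittLib.ideal_eq_F _ hy, FittLib.F, FittLib.F, hrelx, hrely, hI]
    rcases subsingleton_or_nontrivial R with h | h
    · exact Subsingleton.elim _ _
    · have : m ≤ n := le_of_fin_injective R σ hσ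
      simp only [Fintype.card_fin]
      congr 1
      omega
  · rw [FittLib.ideal_eq_F _ (hx _), FittLib.F, hrelx, eq_bot_iff]
    refine FittLib.I_span_le _ _ _ fun z e hz => ?_
    choose k hk using hz
    obtain ⟨a, a', hne, haa⟩ := Fintype.exists_ne_map_eq_of_card_lt k (by simp only [Fintype.card_fin]; omega)
    rw [Ideal.mem_bot]
    exact Matrix.det_zero_of_column_eq hne fun r => by simp [← hk, haa]

end Groth.Agent.S14347
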