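import Groth.Statements.S14351
import Mathlib.RingTheory.Flat.FaithfullyFlat.Algebra

set_option autoImplicit false
universe u
open CAlg

namespace Groth.Agent.S14351

/-- For ring maps A → B → C with C faithfully flat over B and C faithfully flat over A, the ring B is
faithfully flat over A. -/
theorem result (A B C : Type u) [CommRing A] [CommRing B]
    [CommRing C] [Algebra A B] [Algebra B C] [Algebra A C] [IsScalarTower A B C]
    [Module.FaithfullyFlat B C] [Module.FaithfullyFlat A C] : Module.FaithfullyFlat A B := by
  have hflat : Module.Flat A B := by
    rw [Module.Flat.iff_lTensor_preserves_injective_linearMap]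
    intro N P _ _ _ _ f hf
    have hC : Function.Injective (f.lTensor C) := Module.Flat.lTensor_preserves_injective_linearMap f hf
    have key : Function.Injective ((f.baseChange B).lTensor C) := by
      have e : ∀ x, TensorProduct.AlgebraTensorModule.cancelBaseChange A B B C P ((f.baseChange B).lTensor C x) =
          f.lTensor C (TensorProduct.AlgebraTensorModule.cancelBaseChange A B B C N x) := by
        intro x
        induction x with
        | zero => simp
        | add x y hx hy => simp only [map_add, hx, hy]
        | tmul c y =>
          induction y with
          | zero => simp
          | add x y hx hy => simp only [TensorProduct.tmul_add, map_add, hx, hy]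
          | tmul b m => simp
      intro x y hxy
      apply (TensorProduct.AlgebraTensorModule.cancelBaseChange A B B C N).injective
      apply hC
      rw [← e, ← e, hxy]
    exact (Module.FaithfullyFlat.lTensor_injective_iff_injective B C (f.baseChange B)).mp key
  refine Module.FaithfullyFlat.of_comap_surjective fun p => ?_
  obtain ⟨q, hq⟩ := PrimeSpectrum.comap_surjective_of_faithfullyFlat (A := A) (B := C) p
  refine ⟨PrimeSpectrum.comap (algebraMap B C) q, ?_⟩
  rw [← hq, IsScalarTower.algebraMap_eq A B C]
  rfl

end Groth.Agent.S14351
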