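import Groth.Statements.S14355
import Mathlib

set_option autoImplicit false
universe v u
open CategoryTheory CategoryTheory.Limits
open SpSeqMor

namespace Groth.Agent.S14355

/-- Let φ : E ⟶ E' be a morphism of E_2-cohomological spectral sequences in an abelian category, with
abutments H and H' whose filtrations are finite in each degree, and f a morphism of abutment data
over φ. Fix integers l and a₀. If E_2^{i, l-i} = 0 for i < a₀, E'_2^{i, l-i} = 0 for i > a₀ and
φ_2^{a₀, l-a₀} = 0, then f^l : H^l ⟶ H'^l is zero. (The published statement prints the two vanishing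
hypotheses at positions (i, l); the argument works on the line of total degree l, at positions (i, l
- i), which is the form stated here.) -/
theorem result (C : Type u) [Category.{v} C] [Abelian C]
    (E E' : E₂CohomologicalSpectralSequence C) (φ : E ⟶ E') (H H' : ℤ → C)
    (a : SpSeq.Abutment E H) (a' : SpSeq.Abutment E' H')
    (ha : ∀ n : ℤ, a.IsFinite n) (ha' : ∀ n : ℤ, a'.IsFinite n)
    (f : SpSeqMor.AbutHom φ a a') (l a₀ : ℤ)
    (hE : ∀ i : ℤ, i < a₀ → IsZero ((E.page 2 le_rfl).X (i, l - i)))
    (hE' : ∀ i : ℤ, a₀ < i → IsZero ((E'.page 2 le_rfl).X (i, l - i)))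
    (hφ : (φ.hom 2 le_rfl).f (a₀, l - a₀) = 0) :
    f.hom l = 0 := by
  classical
  have zeroX : ∀ (F : E₂CohomologicalSpectralSequence C) (pq : ℤ × ℤ),
      IsZero ((F.page 2 le_rfl).X pq) → ∀ (r : ℤ) (hr : 2 ≤ r), IsZero ((F.page r hr).X pq) := by
    intro F pq h r hr
    induction r, hr using Int.le_induction with
    | base => exact h
    | succ r hr ih =>
      refine IsZero.of_iso ?_ (F.iso r (r + 1) pq rfl hr).symm
      exact HomologicalComplex.ExactAt.isZero_homology
        (ShortComplex.exact_of_isZero_X₂ _ ih)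
  have zeroφ : ∀ (r : ℤ) (hr : 2 ≤ r), (φ.hom r hr).f (a₀, l - a₀) = 0 := by
    intro r hr
    induction r, hr using Int.le_induction with
    | base => exact hφ
    | succ r hr ih =>
      have h := φ.comm r (r + 1) (a₀, l - a₀) rfl hr
      have h0 : HomologicalComplex.homologyMap (φ.hom r hr) (a₀, l - a₀) = 0 := by
        rw [← cancel_mono (HomologicalComplex.homologyι _ _), HomologicalComplex.homologyι_naturality,
          zero_comp, ← cancel_epi (HomologicalComplex.homologyπ _ _), comp_zero,
          HomologicalComplex.homology_π_ι_assoc, HomologicalComplex.p_opcyclesMap, ih, zero_comp, comp_zero]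
      rw [h0, zero_comp] at h
      rw [← cancel_epi (E.iso r (r + 1) (a₀, l - a₀) rfl hr).hom, comp_zero]
      exact h.symm
  have step : ∀ (K : SpSeq.FilObj C) (p : ℤ), IsZero (K.gr p) → K.fil (p + 1) = K.fil p := by
    intro K p h
    haveI : Epi (K.stepLE (Int.le_add_one (le_refl p))) :=
      Preadditive.epi_of_isZero_cokernel _ h
    haveI : IsIso (K.stepLE (Int.le_add_one (le_refl p))) := isIso_of_mono_of_epi _
    exact Subobject.eq_of_comm (asIso (K.stepLE (Int.le_add_one (le_refl p))))
      (Subobject.ofLE_arrow _)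
  have zgr : ∀ (F : E₂CohomologicalSpectralSequence C) (G : ℤ → C) (b : SpSeq.Abutment F G) (i : ℤ),
      IsZero ((F.page 2 le_rfl).X (i, l - i)) → IsZero ((b.filObj l).gr i) := by
    intro F G b i h
    have h1 : IsZero ((b.filObj (i + (l - i))).gr i) :=
      IsZero.of_iso (zeroX F _ h (b.rk (i, l - i)) (b.stat (i, l - i)).1) (b.β (i, l - i)).symm
    rwa [add_sub_cancel] at h1
  have htop : (a.filObj l).fil a₀ = ⊤ := by
    obtain ⟨p, hp⟩ := (ha l).1
    rcases le_total a₀ p with h | h
    · exact top_le_iff.mp (hp ▸ (a.filObj l).anti h)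
    · suffices H : ∀ q, p ≤ q → q ≤ a₀ → (a.filObj l).fil q = ⊤ from H a₀ h le_rfl
      intro q hq
      induction q, hq using Int.le_induction with
      | base => exact fun _ => hp
      | succ q hq ih => exact fun hqa => (step _ q (zgr E H a q (hE q (by omega)))).trans (ih (by omega))
  have hbot : (a'.filObj l).fil (a₀ + 1) = ⊥ := by
    obtain ⟨p, hp⟩ := (ha' l).2
    rcases le_total p (a₀ + 1) with h | h
    · exact le_bot_iff.mp (hp ▸ (a'.filObj l).anti h)
    · suffices H0 : ∀ q, a₀ + 1 ≤ q → (a'.filObj l).fil q = ⊥ → (a'.filObj l).fil (a₀ + 1) = ⊥ from H0 p h hp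
      intro q hq
      induction q, hq using Int.le_induction with
      | base => exact fun h => h
      | succ q hq ih => exact fun h => ih ((step _ q (zgr E' H' a' q (hE' q (by omega)))).symm.trans h)
  have hgr : ∀ n, n = a₀ + (l - a₀) → (f.fil n).gr a₀ = 0 := by
    rintro _ rfl
    obtain ⟨k, k', hkk⟩ : ∃ k k' : ℕ, a.rk (a₀, l - a₀) + k = a'.rk (a₀, l - a₀) + k' :=
      ⟨(max (a.rk (a₀, l - a₀)) (a'.rk (a₀, l - a₀)) - a.rk (a₀, l - a₀)).toNat,
        (max (a.rk (a₀, l - a₀)) (a'.rk (a₀, l - a₀)) - a'.rk (a₀, l - a₀)).toNat, by omega⟩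
    have h := f.comm (a₀, l - a₀) k k' hkk
    rw [zeroφ, zero_comp, comp_zero, comp_zero] at h
    exact (cancel_epi (a.β (a₀, l - a₀)).hom).mp (h.trans comp_zero.symm)
  have hg := hgr l (by omega)
  haveI : IsIso ((a.filObj l).fil a₀).arrow :=
    Subobject.isIso_arrow_iff_eq_top _ |>.mpr htop
  have hz : IsZero ((a'.filObj l).step (a₀ + 1)) := by
    show IsZero ((((a'.filObj l).fil (a₀ + 1)) : C))
    rw [hbot]
    exact IsZero.of_iso (isZero_zero C) Subobject.botCoeIsoZero
  haveI : IsIso (cokernel.π ((a'.filObj l).stepLE (Int.le_add_one (le_refl a₀)))) := by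
    have h0 : (a'.filObj l).stepLE (Int.le_add_one (le_refl a₀)) = 0 := hz.eq_of_src _ _
    haveI : Mono (cokernel.π ((a'.filObj l).stepLE (Int.le_add_one (le_refl a₀)))) :=
      mono_of_mono_fac (cokernel.π_desc _ (𝟙 _) (by rw [h0, zero_comp]))
    exact isIso_of_mono_of_epi _
  have hl : (f.fil l).lift a₀ = 0 := by
    rw [← cancel_mono (cokernel.π ((a'.filObj l).stepLE (Int.le_add_one (le_refl a₀)))), zero_comp]
    have h := congrArg (cokernel.π ((a.filObj l).stepLE (Int.le_add_one (le_refl a₀))) ≫ ·) hg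
    have h := h.trans comp_zero
    exact (cokernel.π_desc ((a.filObj l).stepLE (Int.le_add_one (le_refl a₀))) _ _).symm.trans h
  show (f.fil l).hom = 0
  rw [← cancel_epi ((a.filObj l).fil a₀).arrow, ← (f.fil l).lift_arrow, hl, zero_comp, comp_zero]

end Groth.Agent.S14355
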