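import Groth.Statements.S14357
import Mathlib
import Groth.Agent.ProjFinite.Finite

set_option autoImplicit false
universe u
open AlgebraicGeometry
open Proj

namespace Groth.Agent.S14357

/-- For a field k the projective line over k is not an affine scheme. (The projective line is taken here
as Proj of the polynomial ring in two variables over k with its standard grading; the book builds it
by gluing two affine lines and identifies the two constructions later.) -/
theorem result (k : Type u) [Field k] :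
    ¬ IsAffine (CohB1.ProjSpace 1 k) := by
  intro h
  haveI : IsAffine (CohB1.ProjSpace 1 k) := h
  haveI : IsProper (CohB1.ProjSpace.toSpec 1 k) := Groth.Agent.ProjCoord.isProper_baseMap (n := 1) (R := k)
  haveI : IsAffineHom (CohB1.ProjSpace.toSpec 1 k) := isAffineHom_of_isAffine _
  haveI : IsFinite (CohB1.ProjSpace.toSpec 1 k) := IsFinite.iff_isProper_and_isAffineHom.2 ⟨‹_›, ‹_›⟩
  haveI : DiscreteTopology (CohB1.ProjSpace 1 k) := isDiscrete_univ_iff.1 (by
    have h0 : IsDiscrete (Set.univ : Set (Spec (CommRingCat.of k))) :=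
      isDiscrete_univ_iff.2 (inferInstanceAs (DiscreteTopology (PrimeSpectrum k)))
    simpa using (CohB1.ProjSpace.toSpec 1 k).isDiscrete_preimage h0)
  have hmem : ∀ i : Fin 2, (MvPolynomial.X i : MvPolynomial (Fin 2) k) ∈ CohB1.polyGrading 1 k 1 :=
    fun i => MvPolynomial.isHomogeneous_X k i
  have hpos : ∀ i : Fin 2, (MvPolynomial.X i : MvPolynomial (Fin 2) k) ∈
      (HomogeneousIdeal.irrelevant (CohB1.polyGrading 1 k)).toIdeal :=
    fun i => HomogeneousIdeal.mem_irrelevant_of_mem _ one_pos (hmem i)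
  have hX : ¬ (MvPolynomial.X (R := k) (0 : Fin 2)) ∣ MvPolynomial.X (1 : Fin 2) := by
    rintro ⟨q, hq⟩
    have := congrArg (MvPolynomial.eval ![(0 : k), 1]) hq
    simp at this
  let p : ProjectiveSpectrum (CohB1.polyGrading 1 k) :=
    ⟨⟨Ideal.span {MvPolynomial.X (0 : Fin 2)},
        Ideal.homogeneous_span _ _ (by rintro _ rfl; exact ⟨1, hmem 0⟩)⟩,
      (Ideal.span_singleton_prime (MvPolynomial.X_ne_zero 0)).2 MvPolynomial.X_prime,
      fun hle => hX (Ideal.mem_span_singleton.1 (hle (hpos 1)))⟩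
  let g : ProjectiveSpectrum (CohB1.polyGrading 1 k) :=
    ⟨⊥, (Ideal.isPrime_bot : (⊥ : Ideal (MvPolynomial (Fin 2) k)).IsPrime),
      fun hle => MvPolynomial.X_ne_zero (R := k) (0 : Fin 2) (Ideal.mem_bot.1 (hle (hpos 0)))⟩
  have hle : g ≤ p := (bot_le : (⊥ : HomogeneousIdeal (CohB1.polyGrading 1 k)) ≤ p.asHomogeneousIdeal)
  have hs : g ⤳ p :=
    specializes_iff_mem_closure.2 ((ProjectiveSpectrum.le_iff_mem_closure _ g p).1 hle)
  haveI : DiscreteTopology (ProjectiveSpectrum (CohB1.polyGrading 1 k)) :=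
    ‹DiscreteTopology (CohB1.ProjSpace 1 k)›
  have he : g = p := hs.eq
  have h0 : MvPolynomial.X (0 : Fin 2) ∈ g.asHomogeneousIdeal.toIdeal := by
    rw [he]; exact Ideal.subset_span rfl
  exact MvPolynomial.X_ne_zero (R := k) (0 : Fin 2) (by simpa [g] using h0)

end Groth.Agent.S14357
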