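import Groth.Statements.S14358
import Mathlib.RingTheory.Ideal.AssociatedPrime.Basic
import Mathlib.RingTheory.Localization.FractionRing

set_option autoImplicit false
universe u
open CAlg

namespace Groth.Agent.S14358

/-- Let A be a Noetherian integral domain with fraction field K and let r ∈ K. Then r belongs to A if
and only if, for every nonzero g ∈ A and every associated prime p of the A-module A/(g), the element
r belongs to the local ring A_p inside K, i.e. s r = a in K for some a ∈ A and some s ∈ A outside p. -/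
theorem result (A K : Type u)
    [CommRing A] [IsDomain A] [IsNoetherianRing A] [Field K] [Algebra A K] [IsFractionRing A K]
    (r : K) :
    r ∈ Set.range (algebraMap A K) ↔
      ∀ g : A, g ≠ 0 → ∀ p ∈ associatedPrimes A (A ⧸ Ideal.span {g}),
        ∃ a s : A, s ∉ p ∧ algebraMap A K s * r = algebraMap A K a := by
  refine ⟨fun ⟨a, ha⟩ g _ p hp => ⟨a, 1, (IsAssociatedPrime.isPrime hp).one_notMem, by simp [ha]⟩, fun h => ?_⟩
  by_contra hc
  obtain ⟨⟨a, g⟩, hag⟩ := IsLocalization.surj (nonZeroDivisors A) r
  have hg : (g : A) ≠ 0 := nonZeroDivisors.coe_ne_zero g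
  let abar : A ⧸ Ideal.span {(g : A)} := Submodule.Quotient.mk a
  have ha : abar ≠ 0 := by
    intro h0
    obtain ⟨c, hc'⟩ := Ideal.mem_span_singleton.mp ((Submodule.Quotient.mk_eq_zero _).mp h0)
    apply hc
    refine ⟨c, (IsLocalization.map_units K g).mul_left_inj.mp ?_⟩
    rw [hag, ← map_mul]
    exact congrArg _ (by rw [mul_comm]; exact hc'.symm)
  obtain ⟨P, hP, hle⟩ := exists_le_isAssociatedPrime_of_isNoetherianRing A abar ha
  obtain ⟨b, s, hs, hsb⟩ := h g hg P hP
  apply hs
  apply hle
  rw [Submodule.mem_colon_singleton, Submodule.mem_bot, ← Submodule.Quotient.mk_smul, Submodule.Quotient.mk_eq_zero, smul_eq_mul]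
  refine Ideal.mem_span_singleton.mpr ⟨b, IsFractionRing.injective A K ?_⟩
  simp only [map_mul]
  rw [← hag, ← hsb]; ring

end Groth.Agent.S14358
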