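import Groth.Statements.S14359
import Mathlib.RingTheory.Ideal.KrullsHeightTheorem
import Mathlib.RingTheory.Ideal.AssociatedPrime.Basic
import Mathlib.RingTheory.IntegralClosure.Algebra.Basic
import Mathlib.RingTheory.IntegralClosure.IntegrallyClosed

set_option autoImplicit false
universe u
open CAlg

namespace Groth.Agent.S14359

/-- Let A be a Noetherian integrally closed integral domain and b a nonzero element of A. Then every
associated prime of the A-module A/(b) has height one, so that A/(b) has no embedded associated
primes. -/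
theorem result
    (A : Type u) [CommRing A] [IsDomain A] [IsNoetherianRing A] [IsIntegrallyClosed A]
    (b : A) (hb : b ≠ 0) (p : Ideal A) (hp : p ∈ associatedPrimes A (A ⧸ Ideal.span {b})) :
    p.height = 1 := by
  classical
  obtain ⟨hp', x, hx⟩ := isAssociatedPrime_iff.mp hp
  obtain ⟨a, rfl⟩ := Submodule.Quotient.mk_surjective _ x
  have hmem : ∀ t : A, t ∈ p ↔ b ∣ t * a := fun t => by
    rw [hx, Submodule.mem_colon_singleton, Submodule.mem_bot, ← Submodule.Quotient.mk_smul, Submodule.Quotient.mk_eq_zero,
      Ideal.mem_span_singleton, smul_eq_mul]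
  have hp0 : p ≠ ⊥ := by
    intro h
    have : b ∈ p := (hmem b).mpr (dvd_mul_right _ _)
    rw [h, Submodule.mem_bot] at this
    exact hb this
  obtain ⟨t, ht, u, hu, htu⟩ : ∃ t ∈ p, ∃ u, u ∉ p ∧ t * a = b * u := by
    by_contra hc
    push Not at hc
    apply hp'.ne_top
    rw [Ideal.eq_top_iff_one, hmem, one_mul]
    let K := FractionRing A
    let z : K := algebraMap A K a / algebraMap A K b
    have hb' : algebraMap A K b ≠ 0 := (map_ne_zero_iff _ (IsFractionRing.injective A K)).mpr hb
    let N : Submodule A K := Submodule.map (Algebra.linearMap A K) p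
    have hz : IsIntegral A z := by
      refine isIntegral_of_smul_mem_submodule N ?_ ((IsNoetherian.noetherian p).map _) z fun w hw => ?_
      · obtain ⟨w, hw, hw0⟩ := Submodule.exists_mem_ne_zero_of_ne_bot hp0
        exact (Submodule.ne_bot_iff _).mpr ⟨_, Submodule.mem_map_of_mem hw, (map_ne_zero_iff _ (IsFractionRing.injective A K)).mpr hw0⟩
      · obtain ⟨t, ht, rfl⟩ := hw
        obtain ⟨c, hc'⟩ := (hmem t).mp ht
        refine ⟨c, ?_, ?_⟩
        · by_contra hcp; exact hc t ht c hcp hc'
        · show algebraMap A K c = z * algebraMap A K t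
          simp only [z]
          rw [div_mul_eq_mul_div, eq_div_iff hb', ← map_mul, ← map_mul]
          congr 1
          linear_combination -hc'
    obtain ⟨w, hw⟩ := IsIntegrallyClosed.isIntegral_iff.mp hz
    refine ⟨w, IsFractionRing.injective A K ?_⟩
    rw [map_mul, hw, mul_comm]
    simp only [z]
    rw [div_mul_cancel₀ _ hb']
  have hmin : p ∈ (Ideal.span {t}).minimalPrimes := by
    refine ⟨⟨hp', (Ideal.span_singleton_le_iff_mem _).mpr ht⟩, fun q ⟨hq, hqt⟩ hqp y hy => ?_⟩
    have hyu : y * u ∈ q := by
      obtain ⟨c, hc⟩ := (hmem y).mp hy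
      have : y * u = t * c := mul_left_cancel₀ hb (by linear_combination t * hc - y * htu)
      rw [this]; exact q.mul_mem_right _ (hqt (Ideal.mem_span_singleton_self t))
    exact (hq.mem_or_mem hyu).resolve_right fun h => hu (hqp h)
  refine le_antisymm ?_ ?_
  · have := Ideal.height_le_one_of_isPrincipal_of_mem_minimalPrimes (Ideal.span {t}) p hmin
    exact this
  · rw [ENat.one_le_iff_ne_zero, Ne, Ideal.height_eq_zero_iff,
      IsDomain.minimalPrimes_eq_singleton_bot, Set.mem_singleton_iff]
    exact hp0

end Groth.Agent.S14359
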