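import Groth.Statements.S14360
import Mathlib

set_option autoImplicit false
universe u
open AlgebraicGeometry
open Variety


namespace S14360Aux
open CategoryTheory TopologicalSpace AlgebraicGeometry Scheme

variable {X Y : Scheme.{u}}

lemma equiv_spec [PreirreducibleSpace X] [Nonempty Y] (F : X.PartialMap Y) [IsDominant F.hom] (G : Y.PartialMap X)
    (h : (F.comp G).equiv (Scheme.PartialMap.id X)) :
    ∃ W : X.Opens, Dense (W : Set X) ∧ W ≤ F.domain ∧
      ∀ (T : Scheme.{u}) (t : T ⟶ W) (α : T ⟶ F.domain) (β : T ⟶ G.domain),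
        t ≫ W.ι = α ≫ F.domain.ι → α ≫ F.hom = β ≫ G.domain.ι → β ≫ G.hom = t ≫ W.ι := by
  obtain ⟨W, hW, hW₁, hW₂, e⟩ := h
  refine ⟨W, hW, hW₁.trans (Scheme.Opens.ι_image_le _ _), fun T t α β h1 h2 => ?_⟩
  let γ := t ≫ X.homOfLE hW₁ ≫ (F.domain.ι.isoImage (F.hom ⁻¹ᵁ G.domain)).inv
  have hγ : γ ≫ (F.hom ⁻¹ᵁ G.domain).ι = α := by
    rw [← cancel_mono F.domain.ι, ← h1]
    simp only [γ, Category.assoc]
    refine congrArg (t ≫ ·) ?_
    refine (congrArg (X.homOfLE hW₁ ≫ ·) (Scheme.Hom.isoImage_inv_ι F.domain.ι (F.hom ⁻¹ᵁ G.domain))).trans ?_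
    exact X.homOfLE_ι hW₁
  have hβ : γ ≫ F.hom ∣_ G.domain = β := by
    rw [← cancel_mono G.domain.ι, Category.assoc, morphismRestrict_ι, ← Category.assoc, hγ, h2]
  have e' : X.homOfLE hW₁ ≫ (F.domain.ι.isoImage _).inv ≫ F.hom ∣_ G.domain ≫ G.hom = W.ι := by
    have h' := e.trans (X.homOfLE_ι hW₂)
    simp at h'
    exact h'
  rw [← hβ]
  simp only [γ, Category.assoc]
  rw [e']

lemma comp_equiv_id [PreirreducibleSpace X] [Nonempty Y] (e : X.PartialIso Y) [IsDominant e.toPartialMap.hom] :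
    (e.toPartialMap.comp e.symm.toPartialMap).equiv (Scheme.PartialMap.id X) := by
  refine ⟨_, (e.toPartialMap.comp e.symm.toPartialMap).dense_domain, le_rfl, le_top, ?_⟩
  have h : e.toPartialMap.hom ∣_ e.target = (e.toPartialMap.hom ⁻¹ᵁ e.target).ι ≫ e.iso.hom := by
    rw [← cancel_mono e.target.ι, morphismRestrict_ι]
    simp
    rfl
  simp only [Scheme.PartialMap.restrict_hom, Scheme.PartialMap.comp_hom, Scheme.homOfLE_rfl, Category.id_comp]
  show _ ≫ e.toPartialMap.hom ∣_ e.target ≫ e.iso.inv ≫ e.source.ι = _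
  rw [reassoc_of% h]
  show (e.source.ι.isoImage ((e.iso.hom ≫ e.target.ι) ⁻¹ᵁ e.target)).inv ≫
      ((e.iso.hom ≫ e.target.ι) ⁻¹ᵁ e.target).ι ≫ e.iso.hom ≫ e.iso.inv ≫ e.source.ι = _
  rw [Iso.hom_inv_id_assoc, Scheme.Hom.isoImage_inv_ι]
  exact (Scheme.homOfLE_ι X le_top).symm

theorem main [IsIntegral X] [IsIntegral Y] : Scheme.Birational X Y ↔
      ∃ (f : X ⤏ Y) (g : Y ⤏ X) (_ : f.IsDominant) (_ : g.IsDominant),
        f.comp g = Scheme.RationalMap.id X ∧ g.comp f = Scheme.RationalMap.id Y := by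
  constructor
  · rintro ⟨e⟩
    haveI := Opens.isDominant_ι e.dense_target
    haveI := Opens.isDominant_ι e.dense_source
    haveI : IsDominant e.toPartialMap.hom := inferInstanceAs (IsDominant (e.iso.hom ≫ e.target.ι))
    haveI : IsDominant e.symm.toPartialMap.hom := inferInstanceAs (IsDominant (e.iso.inv ≫ e.source.ι))
    haveI h1 : e.toRationalMap.IsDominant := (Scheme.PartialMap.isDominant_toRationalMap_iff _).2 ‹_›
    haveI h2 : e.symm.toRationalMap.IsDominant := (Scheme.PartialMap.isDominant_toRationalMap_iff _).2 ‹_›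
    refine ⟨e.toRationalMap, e.symm.toRationalMap, h1, h2, ?_, ?_⟩
    · rw [Scheme.RationalMap.toRationalMap_comp]
      exact Scheme.PartialMap.toRationalMap_eq_iff.2 (comp_equiv_id e)
    · rw [Scheme.RationalMap.toRationalMap_comp]
      exact Scheme.PartialMap.toRationalMap_eq_iff.2 (comp_equiv_id e.symm)
  · rintro ⟨f, g, hf, hg, h1, h2⟩
    obtain ⟨F, rfl⟩ := f.exists_rep
    obtain ⟨G, rfl⟩ := g.exists_rep
    haveI : IsDominant F.hom := (Scheme.PartialMap.isDominant_toRationalMap_iff _).1 hf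
    haveI : IsDominant G.hom := (Scheme.PartialMap.isDominant_toRationalMap_iff _).1 hg
    change F.toRationalMap.comp G.toRationalMap = _ at h1
    change G.toRationalMap.comp F.toRationalMap = _ at h2
    rw [Scheme.RationalMap.toRationalMap_comp] at h1 h2
    obtain ⟨W1, hd1, hl1, k1⟩ := equiv_spec F G (Scheme.PartialMap.toRationalMap_eq_iff.1 h1)
    obtain ⟨W2, hd2, hl2, k2⟩ := equiv_spec G F (Scheme.PartialMap.toRationalMap_eq_iff.1 h2)
    let A : X.Opens := W1 ⊓ F.domain.ι ''ᵁ (F.hom ⁻¹ᵁ W2)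
    let B : Y.Opens := W2 ⊓ G.domain.ι ''ᵁ (G.hom ⁻¹ᵁ W1)
    have hA : A ≤ F.domain := inf_le_left.trans hl1
    have hB : B ≤ G.domain := inf_le_left.trans hl2
    let fA := X.homOfLE hA ≫ F.hom
    let gB := Y.homOfLE hB ≫ G.hom
    have mA : ∀ x : A, fA x ∈ W2 := by
      intro x
      obtain ⟨z, hz, hzx⟩ := x.2.2
      have : (X.homOfLE hA) x = z := F.domain.ι.isOpenEmbedding.injective (by
        rw [← Scheme.Hom.comp_apply, Scheme.homOfLE_ι]; exact hzx.symm)
      show F.hom ((X.homOfLE hA) x) ∈ W2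
      rw [this]; exact hz
    have mB : ∀ y : B, gB y ∈ W1 := by
      intro y
      obtain ⟨z, hz, hzx⟩ := y.2.2
      have : (Y.homOfLE hB) y = z := G.domain.ι.isOpenEmbedding.injective (by
        rw [← Scheme.Hom.comp_apply, Scheme.homOfLE_ι]; exact hzx.symm)
      show G.hom ((Y.homOfLE hB) y) ∈ W1
      rw [this]; exact hz
    let b0 := IsOpenImmersion.lift W2.ι fA (by rw [Scheme.Opens.range_ι]; rintro _ ⟨x, rfl⟩; exact mA x)
    let a0 := IsOpenImmersion.lift W1.ι gB (by rw [Scheme.Opens.range_ι]; rintro _ ⟨y, rfl⟩; exact mB y)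
    have hb0 : b0 ≫ W2.ι = fA := IsOpenImmersion.lift_fac _ _ _
    have ha0 : a0 ≫ W1.ι = gB := IsOpenImmersion.lift_fac _ _ _
    have eA : b0 ≫ Y.homOfLE hl2 ≫ G.hom = A.ι := by
      simpa using k1 _ (X.homOfLE inf_le_left) (X.homOfLE hA) (b0 ≫ Y.homOfLE hl2) (by simp) (by simp [hb0, fA])
    have eB : a0 ≫ X.homOfLE hl1 ≫ F.hom = B.ι := by
      simpa using k2 _ (Y.homOfLE inf_le_left) (Y.homOfLE hB) (a0 ≫ X.homOfLE hl1) (by simp) (by simp [ha0, gB])
    have rA : Set.range fA ⊆ (B : Set Y) := by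
      rintro _ ⟨x, rfl⟩
      refine ⟨mA x, (Y.homOfLE hl2) (b0 x), ?_, ?_⟩
      · show G.hom ((Y.homOfLE hl2) (b0 x)) ∈ W1
        have := congrArg (fun q => q x) eA
        simp only [Scheme.Hom.comp_apply] at this
        rw [this]; exact x.2.1
      · rw [← hb0]
        exact congrArg (fun q => q (b0 x)) (Y.homOfLE_ι hl2)
    have rB : Set.range gB ⊆ (A : Set X) := by
      rintro _ ⟨y, rfl⟩
      refine ⟨mB y, (X.homOfLE hl1) (a0 y), ?_, ?_⟩
      · show F.hom ((X.homOfLE hl1) (a0 y)) ∈ W2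
        have := congrArg (fun q => q y) eB
        simp only [Scheme.Hom.comp_apply] at this
        rw [this]; exact y.2.1
      · rw [← ha0]
        exact congrArg (fun q => q (a0 y)) (X.homOfLE_ι hl1)
    let φ := IsOpenImmersion.lift B.ι fA (by rw [Scheme.Opens.range_ι]; exact rA)
    let ψ := IsOpenImmersion.lift A.ι gB (by rw [Scheme.Opens.range_ι]; exact rB)
    have hφ : φ ≫ B.ι = fA := IsOpenImmersion.lift_fac _ _ _
    have hψ : ψ ≫ A.ι = gB := IsOpenImmersion.lift_fac _ _ _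
    have hne : ∀ {P Q : Scheme.{u}} [IrreducibleSpace P] [Nonempty Q] (H : P.PartialMap Q) [IsDominant H.hom]
        (W : P.Opens) (V : Q.Opens), Dense (W : Set P) → Dense (V : Set Q) →
        Dense ((W ⊓ H.domain.ι ''ᵁ (H.hom ⁻¹ᵁ V) : P.Opens) : Set P) := by
      intro P Q _ _ H _ W V hW hV
      refine hW.inter_of_isOpen_left ((H.domain.ι ''ᵁ H.hom ⁻¹ᵁ V).2.dense ?_) W.2
      simpa [← Set.nonempty_preimage_iff] using H.hom.denseRange.inter_open_nonempty _ V.2 hV.nonempty
    exact ⟨{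
      source := A
      dense_source := hne F W1 W2 hd1 hd2
      target := B
      dense_target := hne G W2 W1 hd2 hd1
      iso :=
        { hom := φ
          inv := ψ
          hom_inv_id := by
            rw [← cancel_mono A.ι, Category.assoc, hψ, Category.id_comp]
            have hk := k1 _ (X.homOfLE inf_le_left) (X.homOfLE hA) (φ ≫ Y.homOfLE hB) (by simp) (by simp [hφ, fA])
            simpa [gB] using hk
          inv_hom_id := by
            rw [← cancel_mono B.ι, Category.assoc, hφ, Category.id_comp]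
            have hk := k2 _ (Y.homOfLE inf_le_left) (Y.homOfLE hB) (ψ ≫ X.homOfLE hA) (by simp) (by simp [hψ, gB])
            simpa [fA] using hk } }⟩

end S14360Aux

namespace Groth.Agent.S14360

/-- Let X and Y be integral schemes. Then X and Y have isomorphic dense open subschemes if and only if
they are birational in the sense of rational maps, i.e. there exist dominant rational maps f : X ⤏ Y
and g : Y ⤏ X such that the composites g ∘ f and f ∘ g are the identity rational maps of X and of Y. -/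
theorem result (X Y : Scheme.{u})
    [IsIntegral X] [IsIntegral Y] :
    Scheme.Birational X Y ↔
      ∃ (f : X ⤏ Y) (g : Y ⤏ X) (_ : f.IsDominant) (_ : g.IsDominant),
        f.comp g = Scheme.RationalMap.id X ∧ g.comp f = Scheme.RationalMap.id Y := by
  exact S14360Aux.main

end Groth.Agent.S14360
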