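import Groth.Statements.S14363
import Mathlib.RingTheory.Ideal.AssociatedPrime.Basic
import Mathlib.RingTheory.Support

set_option autoImplicit false
universe u
open CAlg

namespace Groth.Agent.S14363

/-- Let A be a Noetherian ring and 0 → M' → M → M'' → 0 a short exact sequence of A-modules. If a prime
p of A is an associated prime of M'' and is not in the support of M', then p is an associated prime
of M. -/
theorem result (A : Type u) [CommRing A] [IsNoetherianRing A]
    (M' M M'' : Type u) [AddCommGroup M'] [Module A M'] [AddCommGroup M] [Module A M]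
    [AddCommGroup M''] [Module A M'']
    (f : M' →ₗ[A] M) (g : M →ₗ[A] M'') (hf : Function.Injective f) (hg : Function.Surjective g)
    (hfg : Function.Exact f g)
    (p : PrimeSpectrum A) (hp : p.asIdeal ∈ associatedPrimes A M'') (hsupp : p ∉ Module.support A M') :
    p.asIdeal ∈ associatedPrimes A M := by
  classical
  obtain ⟨hP, x, hx⟩ := isAssociatedPrime_iff.mp hp
  obtain ⟨y, rfl⟩ := hg x
  have hmem : ∀ a : A, a ∈ p.asIdeal ↔ g (a • y) = 0 := by
    intro a; rw [hx, Submodule.mem_colon_singleton]; simp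
  obtain ⟨S, hS⟩ := (isNoetherianRing_iff_ideal_fg A).mp ‹_› p.asIdeal
  rw [Module.notMem_support_iff'] at hsupp
  have hex : ∀ a ∈ S, ∃ s : A, s ∉ p.asIdeal ∧ s • a • y = 0 := by
    intro a ha
    obtain ⟨m, hm⟩ := (hfg (a • y)).mp ((hmem a).mp (hS ▸ Submodule.subset_span ha))
    obtain ⟨s, hs, hs'⟩ := hsupp m
    exact ⟨s, hs, by rw [← hm, ← map_smul, hs', map_zero]⟩
  choose s hs hs' using hex
  let t : A := ∏ a ∈ S.attach, s a.1 a.2
  have ht : t ∉ p.asIdeal := by
    intro h
    obtain ⟨a, -, ha⟩ := hP.prod_mem_iff.mp h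
    exact hs _ _ ha
  refine isAssociatedPrime_iff.mpr ⟨hP, t • y, ?_⟩
  refine le_antisymm ?_ fun c hc => ?_
  · rw [← hS, Submodule.span_le]
    intro a ha
    rw [SetLike.mem_coe, Submodule.mem_colon_singleton, Submodule.mem_bot]
    obtain ⟨c, hc⟩ : s a ha ∣ t := Finset.dvd_prod_of_mem (fun a : S => s a.1 a.2) (Finset.mem_attach S ⟨a, ha⟩)
    rw [smul_comm, hc, mul_comm, mul_smul, hs', smul_zero]
  · rw [Submodule.mem_colon_singleton, Submodule.mem_bot, smul_smul] at hc
    have : c * t ∈ p.asIdeal := (hmem _).mpr (by rw [hc, map_zero])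
    exact (hP.mem_or_mem this).resolve_right ht

end Groth.Agent.S14363
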