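import Groth.Statements.S14369
import Mathlib
import Groth.Agent.DimTheory.IrrFibres

set_option autoImplicit false
universe u
open CategoryTheory CategoryTheory.Limits AlgebraicGeometry
open Variety

namespace Groth.Agent.S14369

/-- Let k be an algebraically closed field, X and Y schemes of finite type over k with Y irreducible,
and f : X → Y a k-morphism whose underlying continuous map is closed. Suppose that for some natural
number d the fibre of f over every closed point y of Y (the subspace of points mapping to y) is
irreducible of dimension d. Then X is irreducible and dim X = d + dim Y. (The published statement is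
for varieties, i.e. reduced separated schemes; this row assumes neither.) -/
theorem result (k : Type u) [Field k] [IsAlgClosed k]
    {X Y : Scheme.{u}} (qX : X ⟶ Spec (CommRingCat.of k)) (qY : Y ⟶ Spec (CommRingCat.of k))
    [LocallyOfFiniteType qX] [QuasiCompact qX] [LocallyOfFiniteType qY] [QuasiCompact qY]
    (f : X ⟶ Y) (hf : f ≫ qY = qX) [IrreducibleSpace ↥Y] (hcl : IsClosedMap f.base) (d : ℕ)
    (hirr : ∀ y : ↥Y, IsClosed ({y} : Set ↥Y) → IsIrreducible (f.base ⁻¹' {y}))
    (hdim : ∀ y : ↥Y, IsClosed ({y} : Set ↥Y) → topologicalKrullDim ↥(f.base ⁻¹' {y}) = d) :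
    IrreducibleSpace ↥X ∧ topologicalKrullDim ↥X = d + topologicalKrullDim ↥Y := by
  subst hf
  have : LocallyOfFiniteType f := locallyOfFiniteType_of_comp f qY
  have : IsLocallyNoetherian Y := LocallyOfFiniteType.isLocallyNoetherian qY
  have : QuasiCompact f := QuasiCompact.of_comp f qY
  obtain ⟨ξ, hξ, hξη⟩ := Groth.Agent.DimTheory.exists_dominant_component qY f hirr
  have hall : ∀ x : X, ξ ⤳ x := by
    have := LocallyOfFiniteType.jacobsonSpace (f ≫ qY)
    intro x
    refine specializes_iff_mem_closure.2 ?_
    have hsub : (closedPoints X) ⊆ closure {ξ} := by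
      intro w hw
      have hy := Groth.Agent.DimTheory.isClosed_image_closedPoint qY f (show IsClosed ({w} : Set X) from hw)
      have hmem : f.base w ∈ closure (f.base '' closure {ξ}) := by
        rw [closure_image_closure f.continuous, Set.image_singleton, hξη, genericPoint_closure]
        trivial
      rw [(hcl _ isClosed_closure).closure_eq] at hmem
      obtain ⟨x₀, hx₀, e⟩ := hmem
      exact (Groth.Agent.DimTheory.mem_closure_of_fibre qY f d hirr hdim hξ
        (specializes_iff_mem_closure.2 hx₀) (e.symm ▸ hy) e.symm).mem_closure
    have h1 := closure_mono hsub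
    rw [closure_closure, ← Set.univ_inter (closedPoints X),
      JacobsonSpace.closure_inter_closedPoints_eq_closure isOpen_univ.isLocallyClosed, closure_univ] at h1
    exact h1 trivial
  refine ⟨Groth.Agent.DimTheory.irreducibleSpace_of_forall_specializes hall, ?_⟩
  rw [Groth.Agent.DimTheory.dim_eq_height_of_forall_specializes hall,
    Groth.Agent.DimTheory.height_component qY f d hirr hdim hξ, hξη,
    Groth.Agent.DimTheory.topologicalKrullDim_eq_height_genericPoint Y]
  rfl

end Groth.Agent.S14369
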