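import Groth.Statements.S14370
import Mathlib
import Groth.Agent.DimTheory.IrrFibres

set_option autoImplicit false
universe u
open CategoryTheory CategoryTheory.Limits AlgebraicGeometry
open Variety

namespace Groth.Agent.S14370

/-- Let k be an algebraically closed field, X and Y schemes of finite type over k with Y irreducible,
and f : X → Y a k-morphism. Suppose that X is pure-dimensional (every irreducible component of X has
dimension dim X) and that for some natural number d the fibre of f over every closed point y of Y
(the subspace of points mapping to y) is irreducible of dimension d. Then X is irreducible and dim X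
= d + dim Y. (The published statement is for varieties, i.e. reduced separated schemes; this row
assumes neither.) -/
theorem result (k : Type u) [Field k] [IsAlgClosed k]
    {X Y : Scheme.{u}} (qX : X ⟶ Spec (CommRingCat.of k)) (qY : Y ⟶ Spec (CommRingCat.of k))
    [LocallyOfFiniteType qX] [QuasiCompact qX] [LocallyOfFiniteType qY] [QuasiCompact qY]
    (f : X ⟶ Y) (hf : f ≫ qY = qX) [IrreducibleSpace ↥Y]
    (hpure : ∀ Z ∈ irreducibleComponents (↥X), topologicalKrullDim ↥Z = topologicalKrullDim ↥X) (d : ℕ)
    (hirr : ∀ y : ↥Y, IsClosed ({y} : Set ↥Y) → IsIrreducible (f.base ⁻¹' {y}))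
    (hdim : ∀ y : ↥Y, IsClosed ({y} : Set ↥Y) → topologicalKrullDim ↥(f.base ⁻¹' {y}) = d) :
    IrreducibleSpace ↥X ∧ topologicalKrullDim ↥X = d + topologicalKrullDim ↥Y := by
  subst hf
  have : LocallyOfFiniteType f := locallyOfFiniteType_of_comp f qY
  have : IsLocallyNoetherian Y := LocallyOfFiniteType.isLocallyNoetherian qY
  have : QuasiCompact f := QuasiCompact.of_comp f qY
  obtain ⟨ξ, hξ, hξη⟩ := Groth.Agent.DimTheory.exists_dominant_component qY f hirr
  have hdimeq : ∀ m : X, (∀ y : X, y ⤳ m → y = m) →
      (Order.height m : WithBot ℕ∞) = topologicalKrullDim ↥X := by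
    intro m hm
    have hZ := irreducibleComponent_mem_irreducibleComponents m
    have h2 : m ∈ closure {hZ.1.genericPoint} :=
      (Groth.Agent.DimTheory.component_eq_closure hZ).symm ▸ mem_irreducibleComponent
    have hgen : hZ.1.genericPoint = m := hm _ (specializes_iff_mem_closure.2 h2)
    rw [← hpure _ hZ, ← Groth.Agent.DimTheory.component_eq_closure hZ,
      Groth.Agent.DimTheory.topologicalKrullDim_closure, hgen]
  have hall : ∀ x : X, ξ ⤳ x := by
    intro x
    obtain ⟨m, hmx, hm⟩ := Groth.Agent.FlatMorLib.exists_maximal_generization x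
    have e := (hdimeq m hm).trans (hdimeq ξ hξ).symm
    rw [WithBot.coe_inj, Groth.Agent.DimTheory.height_component qY f d hirr hdim hm,
      Groth.Agent.DimTheory.height_component qY f d hirr hdim hξ, hξη,
      ENat.addLECancellable_natCast d |>.inj] at e
    have hle : f.base m ≤ genericPoint Y := genericPoint_specializes _
    have hge : genericPoint Y ≤ f.base m := by
      by_contra h
      exact absurd e (ne_of_lt (Order.height_strictMono (lt_of_le_not_ge hle h)
        (Groth.Agent.DimTheory.height_lt_top qY _)))
    have hmη : f.base m = genericPoint Y := ((show f.base m ⤳ genericPoint Y from hge).antisymm hle).eq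
    exact (Groth.Agent.DimTheory.eq_of_dominant qY f ⊤ ⟨genericPoint Y, trivial⟩ (fun y _ => hirr y)
      hm hξ hmη hξη) ▸ hmx
  refine ⟨Groth.Agent.DimTheory.irreducibleSpace_of_forall_specializes hall, ?_⟩
  rw [Groth.Agent.DimTheory.dim_eq_height_of_forall_specializes hall,
    Groth.Agent.DimTheory.height_component qY f d hirr hdim hξ, hξη,
    Groth.Agent.DimTheory.topologicalKrullDim_eq_height_genericPoint Y]
  rfl

end Groth.Agent.S14370
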