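import Groth.Statements.S14371
import Mathlib
import Groth.Agent.S0561

set_option autoImplicit false
universe u
open CAlg

namespace Groth.Agent.S14371

/-- Let R be a regular local ring of dimension n with maximal ideal m and residue field κ, and I, J
ideals of R such that R/I and R/J are regular local rings of dimensions a and b (two subvarieties
smooth at the point). Suppose the quotient R/(I + J) is local with cotangent space m/(m² + I + J) of
dimension a + b − n over κ (the tangent spaces of the two subvarieties meet in the expected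
dimension, i.e. they intersect transversally at the point). Then R/(I + J) is a regular local ring
of dimension a + b − n; in particular I + J is a prime ideal. (The published statement is about the
local rings of a smooth variety over an algebraically closed field at a point where two smooth
closed subvarieties meet transversally, and also states the resulting equalities of tangent spaces
and of ideals; this row is the local-ring form, for an arbitrary regular local ring.) -/
theorem result {R : Type u} [CommRing R] [IsRegularLocalRing R]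
    (I J : Ideal R) [IsRegularLocalRing (R ⧸ I)] [IsRegularLocalRing (R ⧸ J)] [IsLocalRing (R ⧸ (I ⊔ J))]
    (n a b : ℕ) (hn : ringKrullDim R = n) (ha : ringKrullDim (R ⧸ I) = a) (hb : ringKrullDim (R ⧸ J) = b)
    (ht : Module.finrank (IsLocalRing.ResidueField (R ⧸ (I ⊔ J))) (IsLocalRing.CotangentSpace (R ⧸ (I ⊔ J))) + n = a + b) :
    IsRegularLocalRing (R ⧸ (I ⊔ J)) ∧ ringKrullDim (R ⧸ (I ⊔ J)) = ((a + b - n : ℕ) : WithBot ℕ∞) := by
  classical
  obtain ⟨x, c, hc, hxm, hJx⟩ := Groth.Agent.S0561.result R n hn J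
  have hcb : c + b ≤ n := by
    have hmap : IsLocalRing.maximalIdeal (R ⧸ J) =
        Ideal.span ((fun i => Ideal.Quotient.mk J (x i)) '' {i : Fin n | c ≤ (i : ℕ)}) := by
      rw [← IsLocalRing.map_maximalIdeal_of_surjective (Ideal.Quotient.mk J) Ideal.Quotient.mk_surjective,
        ← hxm, Ideal.map_span, ← Set.range_comp]
      refine le_antisymm (Ideal.span_le.2 ?_) (Ideal.span_mono (Set.image_subset_range _ _))
      rintro _ ⟨i, rfl⟩
      by_cases h : c ≤ (i : ℕ)
      · exact Ideal.subset_span ⟨i, h, rfl⟩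
      · rw [Function.comp_apply, Ideal.Quotient.eq_zero_iff_mem.2]
        · exact zero_mem _
        · rw [hJx]
          exact Ideal.subset_span ⟨⟨i, by omega⟩, rfl⟩
    have h1 : (IsLocalRing.maximalIdeal (R ⧸ J)).spanFinrank ≤ n - c := by
      rw [hmap]
      refine (Submodule.spanFinrank_span_le_ncard_of_finite ((Set.toFinite _).image _)).trans ?_
      refine (Set.ncard_image_le (Set.toFinite _)).trans ?_
      rw [← Nat.card_coe_set_eq]
      have : Nat.card {i : Fin n | c ≤ (i : ℕ)} ≤ Nat.card (Fin (n - c)) :=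
        Nat.card_le_card_of_injective (fun i => (⟨(i.1 : ℕ) - c, by have := i.2; have := i.1.2; simp only [Set.mem_setOf_eq] at *; omega⟩ : Fin (n - c)))
          fun i j h => by
            have h' := congrArg Fin.val h
            have hi := i.2; have hj := j.2
            simp only [Set.mem_setOf_eq] at hi hj h'
            exact Subtype.ext (Fin.ext (by omega))
      simpa using this
    have h2 := ringKrullDim_le_spanFinrank_maximalIdeal (R ⧸ J)
    rw [hb] at h2
    have h3 : b ≤ (IsLocalRing.maximalIdeal (R ⧸ J)).spanFinrank := by exact_mod_cast h2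
    omega
  let s : Finset (R ⧸ I) := Finset.univ.image fun i : Fin c => Ideal.Quotient.mk I (x (Fin.castLE hc i))
  have hs : (s : Set (R ⧸ I)) ⊆ Ring.jacobson (R ⧸ I) := by
    intro y hy
    obtain ⟨i, -, rfl⟩ := Finset.mem_image.1 hy
    rw [Ring.jacobson_eq_sInf_isMaximal, SetLike.mem_coe, Ideal.mem_sInf]
    intro M hM
    haveI : M.IsMaximal := hM
    rw [IsLocalRing.eq_maximalIdeal ‹M.IsMaximal›,
      ← IsLocalRing.map_maximalIdeal_of_surjective (Ideal.Quotient.mk I) Ideal.Quotient.mk_surjective]
    exact Ideal.mem_map_of_mem _ (hxm ▸ Ideal.subset_span ⟨_, rfl⟩)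
  have h := ringKrullDim_le_ringKrullDim_quotient_add_card s hs
  have hspan : Ideal.span (s : Set (R ⧸ I)) = J.map (Ideal.Quotient.mk I) := by
    rw [hJx, Ideal.map_span, ← Set.range_comp, Finset.coe_image, Finset.coe_univ, Set.image_univ]
    rfl
  rw [hspan, ringKrullDim_eq_of_ringEquiv (DoubleQuot.quotQuotEquivQuotSup I J), ha] at h
  have hcard : s.card ≤ c := Finset.card_image_le.trans (by simp)
  haveI : IsNoetherianRing (R ⧸ (I ⊔ J)) := inferInstance
  obtain ⟨d, hd⟩ : ∃ d : ℕ, ringKrullDim (R ⧸ (I ⊔ J)) = d := by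
    have h1 : ringKrullDim (R ⧸ (I ⊔ J)) ≠ ⊥ := ringKrullDim_ne_bot
    obtain ⟨e, he⟩ := WithBot.ne_bot_iff_exists.1 h1
    have h2 := ringKrullDim_le_spanFinrank_maximalIdeal (R ⧸ (I ⊔ J))
    rw [← he] at h2
    have h3 : e ≤ ((IsLocalRing.maximalIdeal (R ⧸ (I ⊔ J))).spanFinrank : ℕ∞) := WithBot.coe_le_coe.1 h2
    obtain ⟨d, hd⟩ := ENat.ne_top_iff_exists.1 (ne_top_of_le_ne_top (ENat.coe_ne_top _) h3)
    exact ⟨d, by rw [← he, ← hd]; rfl⟩
  rw [hd] at h
  have h' : a ≤ d + s.card := by exact_mod_cast h
  have h2 := ringKrullDim_le_spanFinrank_maximalIdeal (R ⧸ (I ⊔ J))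
  rw [IsLocalRing.spanFinrank_maximalIdeal_eq_finrank_cotangentSpace, hd] at h2
  have h2' : d ≤ Module.finrank (IsLocalRing.ResidueField (R ⧸ (I ⊔ J))) (IsLocalRing.CotangentSpace (R ⧸ (I ⊔ J))) := by
    exact_mod_cast h2
  have hdd : d = a + b - n := by omega
  refine ⟨IsRegularLocalRing.iff_finrank_cotangentSpace (R ⧸ (I ⊔ J)) |>.2 ?_, by rw [hd, hdd]⟩
  rw [hd]
  congr 1
  omega

end Groth.Agent.S14371
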