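import Groth.Statements.S14372
import Groth.Agent.DimTheory.Algebra
import Mathlib.RingTheory.Nullstellensatz
import Mathlib.RingTheory.MvPolynomial.EulerIdentity
import Mathlib.Algebra.MvPolynomial.Funext
-- import your own Groth.Agent.* helpers here

set_option autoImplicit false
universe u
open Fano

namespace Groth.Agent.S14372Aux

theorem eval_aeval_lin {k : Type u} [Field k] {N m : ℕ} (b : Fin m → Fin N → k) (p : MvPolynomial (Fin N) k)
    (t : Fin m → k) :
    MvPolynomial.eval t (MvPolynomial.aeval (fun i => ∑ j, MvPolynomial.C (b j i) * MvPolynomial.X j) p)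
      = MvPolynomial.eval (fun i => ∑ j, b j i * t j) p := by
  induction p using MvPolynomial.induction_on with
  | C a => simp
  | add p q hp hq => simp only [map_add, hp, hq]
  | mul_X p i hp => simp only [map_mul, hp, MvPolynomial.aeval_X, map_sum, MvPolynomial.eval_C, MvPolynomial.eval_X]

theorem pderiv_aeval_lin {k : Type u} [Field k] {N m : ℕ} (b : Fin m → Fin N → k) (p : MvPolynomial (Fin N) k)
    (l : Fin m) :
    MvPolynomial.pderiv l (MvPolynomial.aeval (fun i => ∑ j, MvPolynomial.C (b j i) * MvPolynomial.X j) p)
      = ∑ i, MvPolynomial.aeval (fun i => ∑ j, MvPolynomial.C (b j i) * MvPolynomial.X j)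
          (MvPolynomial.pderiv i p) * MvPolynomial.C (b l i) := by
  classical
  induction p using MvPolynomial.induction_on with
  | C a => simp
  | add p q hp hq => simp only [map_add, hp, hq, Finset.sum_add_distrib, add_mul]
  | mul_X p i hp =>
    have hX : MvPolynomial.pderiv l (∑ j, MvPolynomial.C (b j i) * MvPolynomial.X j : MvPolynomial (Fin m) k)
        = MvPolynomial.C (b l i) := by
      rw [map_sum, Finset.sum_eq_single l]
      · simp
      · intro j _ hj
        simp [MvPolynomial.pderiv_X_of_ne hj]
      · simp
    simp only [map_mul, map_add, MvPolynomial.aeval_X, MvPolynomial.pderiv_mul, hp, hX,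
      Finset.sum_add_distrib, add_mul, Finset.sum_mul]
    congr 1
    · exact Finset.sum_congr rfl fun x _ => by ring
    · rw [Finset.sum_eq_single i]
      · simp
      · intro j _ hj
        simp [MvPolynomial.pderiv_X_of_ne hj.symm]
      · simp

end Groth.Agent.S14372Aux

namespace Groth.Agent.S14372

/-- Over an algebraically closed field k of arbitrary characteristic, let f be a homogeneous form of
degree d ≥ 2 in n + 1 variables and U a linear subspace of k^(n+1) on which f vanishes, such that at
every nonzero vector of U some partial derivative of f does not vanish (the hypersurface f = 0 in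
P^n contains the r-plane P(U), r + 1 = dim U, and is smooth at every point of it). Then 2 · dim U ≤
n + 1, i.e. r ≤ (n − 1)/2. (The published statement assumes the hypersurface smooth everywhere; this
row assumes smoothness only along P(U).) -/
theorem result (k : Type u) [Field k] [IsAlgClosed k]
    (n d : ℕ) (hd : 2 ≤ d) (f : MvPolynomial (Fin (n + 1)) k) (hf : f.IsHomogeneous d)
    (U : Submodule k (Fin (n + 1) → k)) (hU : ∀ u ∈ U, MvPolynomial.eval u f = 0)
    (hsm : ∀ u ∈ U, u ≠ 0 → ∃ i : Fin (n + 1), MvPolynomial.eval u (MvPolynomial.pderiv i f) ≠ 0) :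
    2 * Module.finrank k ↥U ≤ n + 1 := by
  classical
  set m := Module.finrank k ↥U with hm
  obtain ⟨W, hW⟩ := Submodule.exists_isCompl U
  have hc : m + Module.finrank k ↥W = n + 1 := by
    rw [hm, Submodule.finrank_add_eq_of_isCompl hW]; simp
  set c := Module.finrank k ↥W with hc'
  let bU := Module.finBasisOfFinrankEq k ↥U hm.symm
  let bW := Module.finBasisOfFinrankEq k ↥W hc'.symm
  let b : Fin m → Fin (n + 1) → k := fun j => (bU j : Fin (n + 1) → k)
  let φ : MvPolynomial (Fin (n + 1)) k →ₐ[k] MvPolynomial (Fin m) k :=
    MvPolynomial.aeval (fun i => ∑ j, MvPolynomial.C (b j i) * MvPolynomial.X j)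
  let P : (Fin m → k) → Fin (n + 1) → k := fun t => ↑(∑ j, t j • bU j)
  have hP : ∀ t, (fun i => ∑ j, b j i * t j) = P t := fun t => by
    funext i
    simp [P, b, mul_comm]
  have hev : ∀ (p : MvPolynomial (Fin (n + 1)) k) t, MvPolynomial.eval t (φ p) = MvPolynomial.eval (P t) p :=
    fun p t => by rw [← hP t]; exact S14372Aux.eval_aeval_lin b p t
  have hφf : φ f = 0 := MvPolynomial.funext fun t => by
    rw [hev, map_zero]; exact hU _ (Submodule.coe_mem _)
  let h : Fin c → MvPolynomial (Fin m) k := fun j =>
    ∑ i, φ (MvPolynomial.pderiv i f) * MvPolynomial.C ((bW j : Fin (n + 1) → k) i)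
  have hzero : MvPolynomial.zeroLocus k (Ideal.span (Set.range h)) = {0} := by
    ext t
    rw [MvPolynomial.mem_zeroLocus_iff]
    constructor
    · intro ht
      by_contra hne
      have hu0 : P t ≠ 0 := fun h0 => hne (Fintype.linearIndependent_iff.1 bU.linearIndependent t
        (Subtype.ext h0) |> funext)
      obtain ⟨i, hi⟩ := hsm (P t) (Submodule.coe_mem _) hu0
      let G : (Fin (n + 1) → k) →ₗ[k] k := ∑ i, MvPolynomial.eval (P t) (MvPolynomial.pderiv i f) • LinearMap.proj i
      have hGU : U ≤ LinearMap.ker G := fun x hx => by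
        have : G.comp U.subtype = 0 := bU.ext fun l => by
          have := congrArg (MvPolynomial.eval t) (S14372Aux.pderiv_aeval_lin b f l)
          change MvPolynomial.eval t (MvPolynomial.pderiv l (φ f)) = MvPolynomial.eval t
            (∑ i, φ (MvPolynomial.pderiv i f) * MvPolynomial.C (b l i)) at this
          simp [hφf, hev, b] at this
          simp [G, ← this]
        exact LinearMap.congr_fun this ⟨x, hx⟩
      have hGW : W ≤ LinearMap.ker G := fun x hx => by
        have : G.comp W.subtype = 0 := bW.ext fun l => by
          have := ht (h l) (Ideal.subset_span ⟨l, rfl⟩)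
          simp [MvPolynomial.aeval_eq_eval, h, hev] at this
          simp [G, this]
        exact LinearMap.congr_fun this ⟨x, hx⟩
      have hG := (hW.sup_eq_top.symm.le.trans (sup_le hGU hGW)) (Submodule.mem_top (x := Pi.single i 1))
      simp [G, Pi.single_apply] at hG
      exact hi hG
    · rintro rfl p hp
      have hp0 : MvPolynomial.eval (0 : Fin m → k) p = 0 := by
        have hle : Ideal.span (Set.range h) ≤ RingHom.ker (MvPolynomial.eval (0 : Fin m → k)) := by
          rw [Ideal.span_le]
          rintro _ ⟨j, rfl⟩
          have hP0 : P 0 = 0 := by simp [P]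
          have hd0 : ∀ i, MvPolynomial.eval (0 : Fin (n + 1) → k) (MvPolynomial.pderiv i f) = 0 := fun i => by
            rw [MvPolynomial.eval_zero, MvPolynomial.constantCoeff_eq]
            exact (hf.pderiv).coeff_eq_zero (by simp; omega)
          simp only [SetLike.mem_coe, RingHom.mem_ker, h, map_sum, map_mul, hev, hP0, hd0, zero_mul,
            Finset.sum_const_zero]
        exact hle hp
      simpa [MvPolynomial.aeval_eq_eval] using hp0
  set I := Ideal.span (Set.range h) with hI
  have hrad : I.radical = MvPolynomial.vanishingIdeal k {(0 : Fin m → k)} := by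
    rw [← hzero, MvPolynomial.vanishingIdeal_zeroLocus_eq_radical]
  have hmax : I.radical.IsMaximal := by rw [hrad]; infer_instance
  have hne : I ≠ ⊤ := fun e => hmax.ne_top (by rw [e, Ideal.radical_top])
  have hht : I.radical.height = (m : ℕ∞) := DimTheory.height_maximal_mvPolynomial k m I.radical
  obtain ⟨hmem⟩ : Nonempty (I.radical ∈ I.minimalPrimes) := ⟨⟨⟨hmax.isPrime, Ideal.le_radical⟩,
    fun q hq _ => hq.1.radical_le_iff.2 hq.2⟩⟩
  have h1 : I.radical.height ≤ (Finset.univ.image h).card := by
    refine Ideal.height_le_card_of_mem_minimalPrimes_span_finset ?_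
    rw [Finset.coe_image, Finset.coe_univ, Set.image_univ]; exact hmem
  rw [hht] at h1
  have h2 : m ≤ c := (Nat.cast_le.1 h1).trans (Finset.card_image_le.trans (by simp))
  omega

end Groth.Agent.S14372
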