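import Groth.Statements.S14378
import Mathlib
import Groth.Agent.DimTheory.IrrFibres

set_option autoImplicit false
universe u
open CategoryTheory CategoryTheory.Limits AlgebraicGeometry
open Variety

namespace Groth.Agent.S14378

/-- Let k be an algebraically closed field, X and Y schemes of finite type over k with Y irreducible,
and f : X → Y a k-morphism such that for some natural number d the fibre of f over every closed
point of Y (the subspace of points mapping to it) is irreducible of dimension d. Then (i) exactly
one irreducible component of X has dense image in Y, and (ii) each irreducible component Z of X is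
made up of whole fibres — if Z meets the fibre over a closed point then it contains it — and dim Z =
d + dim f(Z)‾, the dimension of the closure of its image. (The published assertions are for
varieties, i.e. reduced separated schemes; this row assumes neither.) -/
theorem result (k : Type u) [Field k] [IsAlgClosed k]
    {X Y : Scheme.{u}} (qX : X ⟶ Spec (CommRingCat.of k)) (qY : Y ⟶ Spec (CommRingCat.of k))
    [LocallyOfFiniteType qX] [QuasiCompact qX] [LocallyOfFiniteType qY] [QuasiCompact qY]
    (f : X ⟶ Y) (hf : f ≫ qY = qX) [IrreducibleSpace ↥Y] (d : ℕ)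
    (hirr : ∀ y : ↥Y, IsClosed ({y} : Set ↥Y) → IsIrreducible (f.base ⁻¹' {y}))
    (hdim : ∀ y : ↥Y, IsClosed ({y} : Set ↥Y) → topologicalKrullDim ↥(f.base ⁻¹' {y}) = d) :
    (∃! Z : Set ↥X, Z ∈ irreducibleComponents ↥X ∧ Dense (f.base '' Z)) ∧
      ∀ Z ∈ irreducibleComponents ↥X,
        (∀ y : ↥Y, IsClosed ({y} : Set ↥Y) → (f.base ⁻¹' {y} ∩ Z).Nonempty → f.base ⁻¹' {y} ⊆ Z) ∧
        topologicalKrullDim ↥Z = d + topologicalKrullDim ↥(closure (f.base '' Z)) := by
  subst hf
  have : LocallyOfFiniteType f := locallyOfFiniteType_of_comp f qY
  have : IsLocallyNoetherian Y := LocallyOfFiniteType.isLocallyNoetherian qY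
  have : QuasiCompact f := QuasiCompact.of_comp f qY
  have himg : ∀ ξ : X, closure (f.base '' closure {ξ}) = closure {f.base ξ} := fun ξ => by
    rw [closure_image_closure f.continuous, Set.image_singleton]
  refine ⟨?_, fun Z hZ => ?_⟩
  · obtain ⟨ξ, hξ, hξη⟩ := Groth.Agent.DimTheory.exists_dominant_component qY f hirr
    let Z := irreducibleComponent ξ
    have hZ : Z ∈ irreducibleComponents ↥X := irreducibleComponent_mem_irreducibleComponents ξ
    have hgen : hZ.1.genericPoint = ξ := by
      have h2 : ξ ∈ closure {hZ.1.genericPoint} :=
        (Groth.Agent.DimTheory.component_eq_closure hZ).symm ▸ mem_irreducibleComponent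
      exact hξ _ (specializes_iff_mem_closure.2 h2)
    refine ⟨Z, ⟨hZ, ?_⟩, fun W ⟨hW, hWd⟩ => ?_⟩
    · rw [dense_iff_closure_eq, ← Groth.Agent.DimTheory.component_eq_closure hZ, himg, hgen, hξη]
      exact genericPoint_closure _
    · rw [dense_iff_closure_eq, ← Groth.Agent.DimTheory.component_eq_closure hW, himg] at hWd
      have h1 : f.base hW.1.genericPoint = genericPoint Y :=
        IsGenericPoint.eq hWd (genericPoint_spec Y)
      have := Groth.Agent.DimTheory.eq_of_dominant qY f ⊤ ⟨genericPoint Y, trivial⟩ (fun y _ => hirr y)
        (Groth.Agent.DimTheory.mem_component_isMax hW) hξ h1 hξη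
      rw [← Groth.Agent.DimTheory.component_eq_closure hW, this, ← hgen,
        Groth.Agent.DimTheory.component_eq_closure hZ]
  · have hmax := Groth.Agent.DimTheory.mem_component_isMax hZ
    have hcl := Groth.Agent.DimTheory.component_eq_closure hZ
    refine ⟨fun y hy ⟨x, hx, hxZ⟩ w hw => ?_, ?_⟩
    · rw [← hcl] at hxZ ⊢
      exact (Groth.Agent.DimTheory.mem_closure_of_fibre qY f d hirr hdim hmax
        (specializes_iff_mem_closure.2 hxZ) ((show f.base x = y from hx).symm ▸ hy)
        ((show f.base w = y from hw).trans (show f.base x = y from hx).symm)).mem_closure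
    · have h1 := Groth.Agent.DimTheory.height_component qY f d hirr hdim hmax
      conv_lhs => rw [← hcl]
      conv_rhs => rw [← hcl, himg]
      rw [Groth.Agent.DimTheory.topologicalKrullDim_closure,
        Groth.Agent.DimTheory.topologicalKrullDim_closure, h1]
      rfl

end Groth.Agent.S14378
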