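import Groth.Statements.S14388
import Groth.Agent.DerCat.Devissage
import Groth.Agent.ProSys.Homology
import Mathlib
set_option autoImplicit false
open CategoryTheory CategoryTheory.Limits
universe w v u
open CohDer


namespace Groth.Agent.S14388

set_option backward.isDefEq.respectTransparency false
set_option backward.defeqAttrib.useBackward true

open CategoryTheory.Pretriangulated DerivedCategory DerivedCategory.TStructure

section
variable {C : Type u} [Category.{v} C] [Abelian C] [HasDerivedCategory.{w} C]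

lemma isIso_hom_ι (X : DerivedCategory C) (n i : ℤ) (h : i < n) :
    IsIso ((homologyFunctor C i).map ((t.truncLTι n).app X)) := by
  obtain ⟨m, rfl⟩ : ∃ m, n = m + 1 := ⟨n - 1, by omega⟩
  exact Groth.Agent.DerCat.isIso_homology_truncLEι X m i (by omega)

lemma isIso_hom_π (X : DerivedCategory C) (n i : ℤ) (h : n ≤ i) :
    IsIso ((homologyFunctor C i).map ((t.truncGEπ n).app X)) := by
  obtain ⟨m, rfl⟩ : ∃ m, n = m + 1 := ⟨n - 1, by omega⟩
  exact Groth.Agent.DerCat.isIso_homology_truncGTπ X m i (by omega)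

lemma isZero_hom_GELT (X : DerivedCategory C) (a b i : ℤ) (h : i < a ∨ b ≤ i) :
    IsZero ((homologyFunctor C i).obj ((t.truncGE a).obj ((t.truncLT b).obj X))) := by
  by_cases hi : i < a
  · exact isZero_of_isGE _ a i hi
  · have := isIso_hom_π ((t.truncLT b).obj X) a i (not_lt.1 hi)
    refine IsZero.of_iso ?_ (asIso ((homologyFunctor C i).map ((t.truncGEπ a).app ((t.truncLT b).obj X)))).symm
    have : ((t.truncLT b).obj X).IsLE (b - 1) := (inferInstance : t.IsLE _ _)
    change IsZero ((homologyFunctor C i).obj ((t.truncLT b).obj X))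
    exact isZero_of_isLE _ (b - 1) i (by omega)

lemma isIso_hom_incl (X : DerivedCategory C) (a b c i : ℤ) (hbc : b ≤ c) (hai : a ≤ i) (hib : i < b) :
    IsIso ((homologyFunctor C i).map ((t.truncGE a).map ((t.natTransTruncLTOfLE b c hbc).app X))) := by
  have := isIso_hom_ι X b i hib
  have := isIso_hom_ι X c i (by omega)
  have := isIso_hom_π ((t.truncLT b).obj X) a i hai
  have := isIso_hom_π ((t.truncLT c).obj X) a i hai
  have e1 : (homologyFunctor C i).map ((t.natTransTruncLTOfLE b c hbc).app X) ≫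
      (homologyFunctor C i).map ((t.truncLTι c).app X) =
      (homologyFunctor C i).map ((t.truncLTι b).app X) := by
    rw [← Functor.map_comp, t.natTransTruncLTOfLE_ι_app]
  have : IsIso ((homologyFunctor C i).map ((t.natTransTruncLTOfLE b c hbc).app X)) :=
    IsIso.of_isIso_fac_right e1
  have e2 : (homologyFunctor C i).map ((t.truncGEπ a).app ((t.truncLT b).obj X)) ≫
      (homologyFunctor C i).map ((t.truncGE a).map ((t.natTransTruncLTOfLE b c hbc).app X)) =
      (homologyFunctor C i).map ((t.natTransTruncLTOfLE b c hbc).app X) ≫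
        (homologyFunctor C i).map ((t.truncGEπ a).app ((t.truncLT c).obj X)) := by
    rw [← Functor.map_comp, ← Functor.map_comp, t.truncGEπ_naturality]
  exact IsIso.of_isIso_fac_left e2

lemma cone_bounds {A P Z : DerivedCategory C} (i : A ⟶ P) (g : P ⟶ Z) (δ : Z ⟶ A⟦(1 : ℤ)⟧)
    (hT : Triangle.mk i g δ ∈ distTriang _) (q : ℤ)
    (hiso : ∀ j, j ≠ q → IsIso ((homologyFunctor C j).map i))
    (hA : IsZero ((homologyFunctor C q).obj A)) : Z.IsGE q ∧ Z.IsLE q := by
  have key : ∀ j, j ≠ q → IsZero ((homologyFunctor C j).obj Z) := by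
    intro j hj
    have := hiso j hj
    have h1 : (homologyFunctor C j).map g = 0 :=
      (HomologySequence.epi_homologyMap_mor₁_iff _ hT j).1 (inferInstanceAs (Epi ((homologyFunctor C j).map i)))
    have h2 : HomologySequence.δ (Triangle.mk i g δ) j (j + 1) rfl = 0 :=
      (HomologySequence.mono_homologyMap_mor₁_iff _ hT j (j + 1) rfl).1 (by
        change Mono ((homologyFunctor C (j + 1)).map i)
        by_cases hq : j + 1 = q
        · subst hq
          exact ⟨fun _ _ _ => hA.eq_of_tgt _ _⟩
        · have := hiso (j + 1) hq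
          infer_instance)
    exact (HomologySequence.exact₃ _ hT j (j + 1) rfl).isZero_X₂ h1 h2
  exact ⟨(isGE_iff Z q).2 fun j hj => key j (by omega), (isLE_iff Z q).2 fun j hj => key j (by omega)⟩

end

/-- Let A be an abelian category, D(A) its derived category with the canonical t-structure and
truncation functors τ_{≥a}, τ_{<b}, and write τ_[a,b] = τ_{≥a} ∘ τ_{<b+1}, so that τ_[q,q] K is
H^q(K) placed in degree q. Let f : K → K' be a morphism in D(A) and q an integer such that the
induced maps H^(q-1)(K) → H^(q-1)(K') and H^q(K) → H^q(K') are both zero. Then there is a unique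
morphism L : τ_[q,q] K → τ_[q-1,q-1] K' such that τ_[q-1,q](f) : τ_[q-1,q] K → τ_[q-1,q] K' is the
composite of the canonical projection τ_[q-1,q] K → τ_[q,q] K, the morphism L, and the canonical
inclusion τ_[q-1,q-1] K' → τ_[q-1,q] K'. (Under τ_[n,n] ≅ H^n(−)[−n] the morphism L corresponds to a
morphism L_f[−q] : H^q(K)[−q] → H^(q-1)(K')[1−q].) -/
theorem result {C : Type u} [Category.{v} C] [Abelian C]
    [HasDerivedCategory.{w} C] {K K' : DerivedCategory C} (f : K ⟶ K') (q : ℤ)
    (h₁ : (DerivedCategory.homologyFunctor C (q - 1)).map f = 0)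
    (h₂ : (DerivedCategory.homologyFunctor C q).map f = 0) :
    ∃! L : ((DerivedCategory.TStructure.t (C := C)).truncGELT q (q + 1)).obj K ⟶
        ((DerivedCategory.TStructure.t (C := C)).truncGELT (q - 1) q).obj K',
      ((DerivedCategory.TStructure.t (C := C)).truncGELT (q - 1) (q + 1)).map f =
        ((DerivedCategory.TStructure.t (C := C)).natTransTruncGEOfLE (q - 1) q (sub_one_lt q).le).app
            (((DerivedCategory.TStructure.t (C := C)).truncLT (q + 1)).obj K) ≫ L ≫
          ((DerivedCategory.TStructure.t (C := C)).truncGE (q - 1)).map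
            (((DerivedCategory.TStructure.t (C := C)).natTransTruncLTOfLE q (q + 1) (lt_add_one q).le).app K') := by
  let H := DerivedCategory.homologyFunctor C
  let Y := (t.truncLT (q + 1)).obj K
  let πY : Y ⟶ (t.truncGE (q - 1)).obj Y := (t.truncGEπ (q - 1)).app Y
  let pY : Y ⟶ (t.truncGE q).obj Y := (t.truncGEπ q).app Y
  let i' := (t.truncGE (q - 1)).map ((t.natTransTruncLTOfLE q (q + 1) (lt_add_one q).le).app K')
  let p := (t.natTransTruncGEOfLE (q - 1) q (sub_one_lt q).le).app Y
  let φ := πY ≫ (t.truncGELT (q - 1) (q + 1)).map f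
  obtain ⟨Z, g, δ, hT⟩ := distinguished_cocone_triangle i'
  have hA'q : IsZero ((H q).obj ((t.truncGELT (q - 1) q).obj K')) :=
    isZero_hom_GELT K' (q - 1) q q (Or.inr le_rfl)
  obtain ⟨hZ1, hZ2⟩ := cone_bounds i' g δ hT q (fun j hj => by
    by_cases h : j = q - 1
    · subst h
      exact isIso_hom_incl K' (q - 1) q (q + 1) (q - 1) (by omega) le_rfl (by omega)
    · have a := isZero_hom_GELT K' (q - 1) q j (by omega)
      have b := isZero_hom_GELT K' (q - 1) (q + 1) j (by omega)
      exact ⟨0, a.eq_of_src _ _, b.eq_of_src _ _⟩) hA'q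
  have hLTf : ∀ j, j < q + 1 → (H j).map f = 0 → (H j).map ((t.truncLT (q + 1)).map f) = 0 := by
    intro j hj h0
    have := isIso_hom_ι K' (q + 1) j hj
    rw [← cancel_mono ((H j).map ((t.truncLTι (q + 1)).app K')), zero_comp, ← Functor.map_comp,
      show (t.truncLT (q + 1)).map f ≫ (t.truncLTι (q + 1)).app K' = (t.truncLTι (q + 1)).app K ≫ f from
        (t.truncLTι (q + 1)).naturality f, Functor.map_comp, h0, comp_zero]
  have hφ0 : ∀ j, j < q + 1 → (H j).map f = 0 → (H j).map φ = 0 := by
    intro j hj h0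
    have : φ = (t.truncLT (q + 1)).map f ≫ (t.truncGEπ (q - 1)).app _ :=
      t.truncGEπ_naturality (q - 1) ((t.truncLT (q + 1)).map f)
    rw [this, Functor.map_comp, hLTf j hj h0, zero_comp]
  have hw : (t.truncLTι q).app Y ≫ φ = 0 := by
    obtain ⟨e, he⟩ := Triangle.coyoneda_exact₂ _ hT ((t.truncLTι q).app Y ≫ φ)
      (t.zero_of_isLE_of_isGE _ (q - 1) q (by omega) inferInstance hZ1)
    change (t.truncLT q).obj Y ⟶ (t.truncGELT (q - 1) q).obj K' at e
    change (t.truncLTι q).app Y ≫ φ = e ≫ i' at he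
    rw [he]
    suffices e = 0 by rw [this, zero_comp]
    have := isIso_hom_incl K' (q - 1) q (q + 1) (q - 1) (by omega) le_rfl (by omega)
    have he0 : (H (q - 1)).map e = 0 := by
      rw [← cancel_mono ((H (q - 1)).map i'), zero_comp, ← Functor.map_comp, ← he, Functor.map_comp,
        hφ0 _ (by omega) h₁, comp_zero]
    have hπ := t.π_descTruncGE e (q - 1)
    have := isIso_hom_π ((t.truncLT q).obj Y) (q - 1) (q - 1) le_rfl
    have hd : (H (q - 1)).map (t.descTruncGE e (q - 1)) = 0 := by
      rw [← cancel_epi ((H (q - 1)).map ((t.truncGEπ (q - 1)).app ((t.truncLT q).obj Y))),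
        ← Functor.map_comp, hπ, he0, comp_zero]
    have : ((t.truncGE (q - 1)).obj ((t.truncLT q).obj Y)).IsLE (q - 1) :=
      (inferInstance : t.IsLE _ _)
    have : ((t.truncGE (q - 1)).obj ((t.truncLT q).obj Y)).IsGE (q - 1) :=
      (inferInstance : t.IsGE _ _)
    have : ((t.truncGELT (q - 1) q).obj K').IsLE (q - 1) := (inferInstance : t.IsLE _ _)
    have : ((t.truncGELT (q - 1) q).obj K').IsGE (q - 1) := (inferInstance : t.IsGE _ _)
    rw [← hπ, (Groth.Agent.ProSys.homology_map_bijective _ _ (q - 1)).1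
      (hd.trans (Functor.map_zero _ _ _).symm), comp_zero]
  obtain ⟨L1, hL1⟩ := Triangle.yoneda_exact₂ _ (t.triangleLTGE_distinguished q Y) φ hw
  change (t.truncGE q).obj Y ⟶ (t.truncGELT (q - 1) (q + 1)).obj K' at L1
  change φ = pY ≫ L1 at hL1
  have hL1g : L1 ≫ g = 0 := by
    have : ((t.truncGE q).obj Y).IsGE q := (inferInstance : t.IsGE _ _)
    have : ((t.truncGE q).obj Y).IsLE q := (inferInstance : t.IsLE _ _)
    haveI := hZ1
    haveI := hZ2
    refine (Groth.Agent.ProSys.homology_map_bijective _ _ q).1 ?_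
    rw [Functor.map_zero]
    have := isIso_hom_π Y q q le_rfl
    rw [← cancel_epi ((H q).map pY), comp_zero, ← Functor.map_comp, ← Category.assoc, ← hL1,
      Functor.map_comp, hφ0 q (by omega) h₂, zero_comp]
  obtain ⟨L, hL⟩ := Triangle.coyoneda_exact₂ _ hT L1 hL1g
  change (t.truncGE q).obj Y ⟶ (t.truncGELT (q - 1) q).obj K' at L
  change L1 = L ≫ i' at hL
  have hpp : πY ≫ p = pY := t.π_natTransTruncGEOfLE_app _ _ _ _
  refine ⟨L, t.from_truncGE_obj_ext ?_, fun L' hL' => ?_⟩
  · change φ = πY ≫ p ≫ L ≫ i'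
    rw [← Category.assoc, hpp, ← hL, hL1]
  · change (t.truncGE q).obj Y ⟶ (t.truncGELT (q - 1) q).obj K' at L'
    replace hL' : (t.truncGELT (q - 1) (q + 1)).map f = p ≫ L' ≫ i' := hL'
    have h0 : (pY ≫ (L' - L)) ≫ i' = 0 := by
      rw [Category.assoc, Preadditive.sub_comp, Preadditive.comp_sub, ← hL, ← hL1, sub_eq_zero,
        ← hpp, Category.assoc, ← hL']
    obtain ⟨v', hv⟩ := Triangle.coyoneda_exact₂ _ (inv_rot_of_distTriang _ hT) _ h0
    have hv0 : v' = 0 := t.zero_of_isLE_of_isGE v' q (q + 1) (by omega)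
      (t.isLE_truncLT_obj _ _ _ (by omega))
      (@CategoryTheory.Triangulated.TStructure.isGE_shift _ _ _ _ _ _ _ t Z q (-1) (q + 1) (by omega) hZ1)
    rw [hv0, zero_comp] at hv
    obtain ⟨x, hx⟩ := Triangle.yoneda_exact₃ _ (t.triangleLTGE_distinguished q Y) (L' - L) hv
    have hx0 : x = 0 := t.zero_of_isLE_of_isGE x (q - 2) (q - 1) (by omega)
      (@CategoryTheory.Triangulated.TStructure.isLE_shift _ _ _ _ _ _ _ t _ (q - 1) 1 (q - 2) (by omega) (t.isLE_truncLT_obj _ _ _ (by omega)))
      inferInstance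
    rw [hx0, comp_zero] at hx
    exact sub_eq_zero.1 hx

end Groth.Agent.S14388
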