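import Groth.Statements.S14389
import Groth.Agent.EtLimLib.PullAssoc
set_option linter.style.haveILetI false
set_option backward.isDefEq.respectTransparency.types false
set_option maxHeartbeats 1000000
-- import your own Groth.Agent.* helpers here

set_option autoImplicit false
open CategoryTheory CategoryTheory.Limits AlgebraicGeometry Opposite
universe u
open EtLim

namespace Groth.Agent.S14389

/-- For small étale sites of schemes: let g' ≫ f = f' ≫ g be a commutative square of schemes with f : X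
→ Y, g : Y' → Y, f' : X' → Y', g' : X' → X, and let F be an abelian sheaf on the small étale site of
X. For every q and every class ζ in H^q(Y_ét, f_*F), the pullback along g' of the image of ζ under
the canonical map H^q(Y, f_*F) → H^q(X, F) (pull back along f, then apply the counit f⁻¹f_*F → F)
equals the image of g^*ζ ∈ H^q(Y', g⁻¹f_*F) under the map induced by the base-change morphism
g⁻¹f_*F → f'_*g'⁻¹F followed by the canonical map H^q(Y', f'_*g'⁻¹F) → H^q(X', g'⁻¹F). (The
published statement is for a commutative square of topoi with a chosen isomorphism f_*g'_* ≅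
g_*f'_*; this row is the square of étale topoi of schemes. Exactness of pullback of abelian sheaves,
which always holds, is carried as instance hypotheses.) -/
theorem result {X Y X' Y' : Scheme.{u}} (f : X ⟶ Y)
    (g : Y' ⟶ Y) (f' : X' ⟶ Y') (g' : X' ⟶ X) (w : g' ≫ f = f' ≫ g) (F : EtCoh.Ab X) (q : ℕ)
    [PreservesFiniteLimits (EtCoh.pull f)] [PreservesFiniteLimits (EtCoh.pull g)]
    [PreservesFiniteLimits (EtCoh.pull f')] [PreservesFiniteLimits (EtCoh.pull g')]
    (ζ : EtCoh.H Y ((EtCoh.push f).obj F) q) :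
    EtCore.Hpull g' F q (EtLim.HofPush f F q ζ) =
      EtLim.HofPush f' ((EtCoh.pull g').obj F) q
        (((EtCoh.HF Y' q).map (EtCoh.baseChange0 f g f' g' w F)).hom
          (EtCore.Hpull g ((EtCoh.push f).obj F) q ζ)) := by
  haveI : PreservesFiniteLimits (EtCoh.pull (g' ≫ f)) :=
    haveI := comp_preservesFiniteLimits (EtCoh.pull f) (EtCoh.pull g')
    preservesFiniteLimits_of_natIso (EtCore.pullComp g' f).symm
  let M := (EtCoh.pull g').obj F
  let η : F ⟶ (EtCoh.push g').obj M := (EtCoh.pullPushAdj g').homEquiv F M (𝟙 M)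
  have hη : η = (EtCoh.pullPushAdj g').unit.app F := Adjunction.homEquiv_id _ _
  let y := Sheaf.H.map ((EtCoh.push f).map η) q ζ
  let θ₁ := EtLimLib.θIso (rfl : g' ≫ f = g' ≫ f)
  let θ₂ := EtLimLib.θIso w.symm
  let x := Sheaf.H.map (θ₁.inv.app M) q y
  let A := (EtCoh.push f).map η ≫ θ₁.inv.app M ≫ θ₂.hom.app M
  have hθ : θ₁.inv.app M = (EtCoh.pushComp f g').hom.app M := by
    refine (cancel_epi (θ₁.hom.app M)).1 ((θ₁.hom_inv_id_app M).trans ?_)
    refine (((Category.assoc _ _ _).trans ((congrArg (_ ≫ ·) ((EtCoh.pushComp f g').inv_hom_id_app M)).trans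
      (Category.comp_id _))).trans (EtLimLib.pushCongr_refl_hom _ M)).symm
  have hA : EtCoh.baseChange0 f g f' g' w F = ((EtCoh.pullPushAdj g).homEquiv _ _).symm A :=
    congrArg ((EtCoh.pullPushAdj g).homEquiv _ _).symm
      (congrArg₂ (fun p r => (EtCoh.push f).map p ≫ r ≫ θ₂.hom.app M) hη hθ).symm
  have h1 : Sheaf.H.map A q ζ = Sheaf.H.map (θ₂.hom.app M) q x :=
    (Sheaf.H.map_comp_apply _ _ ζ).trans (Sheaf.H.map_comp_apply _ _ _)
  have h2 : Sheaf.H.map (θ₁.hom.app M) q x = y :=
    (Sheaf.H.map_comp_apply _ _ y).symm.trans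
      ((congrArg (fun z => Sheaf.H.map z q y) (θ₁.inv_hom_id_app M)).trans (Sheaf.H.map_id_apply y))
  have hL : EtCore.Hpull g' F q (EtLim.HofPush f F q ζ) = EtLim.HofPush (g' ≫ f) M q x := by
    refine Eq.trans ?_ (EtLimLib.hofPush_comp (rfl : g' ≫ f = g' ≫ f) q M x)
    refine Eq.trans ?_ (congrArg (EtLim.HofPush g' M q) ((congrArg (EtLim.HofPush f ((EtCoh.push g').obj M) q)
      h2.symm).trans (EtLimLib.hpushTrans_eq (rfl : g' ≫ f = g' ≫ f) M q x).symm))
    refine Eq.trans ?_ (congrArg (EtLim.HofPush g' M q) (EtLimLib.hofPush_natural f η q ζ)).symm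
    exact ((EtLimLib.hpullThen_eq g' (𝟙 M) q _).trans ((EtLimLib.hpullThen_apply g' F (𝟙 M) q _).trans
      (Sheaf.H.map_id_apply _))).symm
  refine hL.trans ((EtLimLib.hofPush_comp w.symm q M x).symm.trans (congrArg (EtLim.HofPush f' M q) ?_))
  refine (EtLimLib.hpushTrans_eq w.symm M q x).trans ?_
  refine (congrArg (EtLim.HofPush g ((EtCoh.push f').obj M) q) h1.symm).trans ?_
  refine Eq.trans ?_ (EtLimLib.hpullThen_apply g _ _ q ζ)
  refine Eq.trans ?_ ((EtLimLib.hpullThen_eq g (((EtCoh.pullPushAdj g).homEquiv _ _).symm A) q ζ).trans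
    (congrArg (fun z => EtLim.HpullThen g ((EtCoh.push f).obj F) z q ζ) hA.symm))
  exact congrArg (fun z => EtLim.HofPush g ((EtCoh.push f').obj M) q (Sheaf.H.map z q ζ))
    (Equiv.apply_symm_apply _ _).symm

end Groth.Agent.S14389
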