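-- statement DualGr.GrothFrozen.S14397 (Groth/Statements/S14397.lean; the theorem DualGr.isAddTorsionFree_coker_pi_genMap_of_cover);
import Groth.Statements.S14397
import Mathlib

set_option autoImplicit false
universe u
open DualGr

namespace Groth.Agent.S14397

/-- Let (V, E) with endpoint map E → V × V be a finite multigraph (loops and parallel edges allowed; the
order of the two endpoints is an auxiliary orientation), and let D_1, …, D_n be finite sets of edges
such that every edge lies outside at least one D_i. For each i let Γ_i be the multigraph obtained by
contracting the edges of D_i, and let H₁(Γ, ℤ) → H₁(Γ_i, ℤ) be the map of cycle lattices (integer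
edge vectors with zero boundary) given by restriction to the surviving edges. Then the map H₁(Γ, ℤ)
→ ⊕_i H₁(Γ_i, ℤ) has torsion-free cokernel. (The published statement is about the connected labelled
dual graph of the closed fibre of a nodal curve, smooth outside a normal crossing divisor with
components D_1, …, D_n, over a Noetherian regular strictly local base; Γ_i is the dual graph of the
fibre over the generic point of D_i, the lattices are identified with the character groups of the
toric parts of the Picard schemes of these fibres, and the map is the generization map of character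
groups; this row states the assertion about cycle lattices, for any finite multigraph, which is what
the argument establishes.) -/
theorem result
    {V E : Type u} [Fintype V] [Fintype E] [DecidableEq V] [DecidableEq E]
    (ends : E → V × V) {n : ℕ} (D : Fin n → Finset E) (hcover : ∀ e : E, ∃ i : Fin n, e ∉ D i) :
    IsAddTorsionFree (((i : Fin n) → ↥(DualGr.cycleLattice (DualGr.ctrEnds ends (D i)))) ⧸
      LinearMap.range (LinearMap.pi fun i : Fin n => DualGr.genMap ends (D i))) := by
  refine ⟨fun n hn x y hxy => ?_⟩
  obtain ⟨x, rfl⟩ := Submodule.Quotient.mk_surjective _ x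
  obtain ⟨y, rfl⟩ := Submodule.Quotient.mk_surjective _ y
  simp only [← Submodule.Quotient.mk_smul, Submodule.Quotient.eq, ← smul_sub] at hxy
  obtain ⟨γ, hγ⟩ := hxy
  rw [Submodule.Quotient.eq]
  have hdiv : ∀ e : E, ∃ c : ℤ, γ.1 e = (n : ℤ) * c := by
    intro e
    obtain ⟨i, hi⟩ := hcover e
    refine ⟨((x - y) i).1 ⟨e, hi⟩, ?_⟩
    have h := congrFun (congrArg Subtype.val (congrFun hγ i)) (⟨e, hi⟩ : DualGr.CtrEdge (D i))
    simpa [DualGr.genMap, DualGr.resE, mul_sub] using h
  choose c hc using hdiv
  have hcmem : c ∈ DualGr.cycleLattice ends := by
    have h0 : DualGr.boundaryHom ends ((n : ℤ) • c) = 0 := by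
      rw [show (n : ℤ) • c = γ.1 from funext fun e => by simp [hc e]]
      exact γ.2
    rw [map_smul] at h0
    exact (smul_eq_zero.1 h0).resolve_left (by exact_mod_cast hn)
  refine ⟨⟨c, hcmem⟩, funext fun i => Subtype.ext (funext fun e => ?_)⟩
  have h := congrFun (congrArg Subtype.val (congrFun hγ i)) e
  simp [DualGr.genMap, DualGr.resE, hc, mul_sub] at h ⊢
  exact mul_left_cancel₀ (show (n : ℤ) ≠ 0 by exact_mod_cast hn) (by rw [h, mul_sub])

end Groth.Agent.S14397
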