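import Groth.Statements.S14400
import Groth.Agent.GalTwist.Points
import Groth.Agent.GeomConn.Scheme
import Mathlib.AlgebraicGeometry.Sites.Fpqc


set_option autoImplicit false
set_option backward.isDefEq.respectTransparency false
set_option backward.isDefEq.respectTransparency.types false
universe u
open CategoryTheory CategoryTheory.Limits AlgebraicGeometry
open Desc

namespace Groth.Agent.S14400

section Pre
open CategoryTheory CategoryTheory.Limits AlgebraicGeometry

lemma galAct_fst (k K : Type u) [Field k] [Field K] [Algebra k K] (X : Scheme.{u})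
    [X.Over (Spec (CommRingCat.of k))] (σ : K ≃ₐ[k] K) :
    Curv2.galAct k X K σ ≫ Curv2.bcFst k X K = Curv2.bcFst k X K := by
  simp [Curv2.galAct]

lemma galAct_snd (k K : Type u) [Field k] [Field K] [Algebra k K] (X : Scheme.{u})
    [X.Over (Spec (CommRingCat.of k))] (σ : K ≃ₐ[k] K) :
    Curv2.galAct k X K σ ≫ Curv2.bcSnd k X K = Curv2.bcSnd k X K ≫ GalTw.specMap K σ := by
  simp [Curv2.galAct]

end Pre

/-- Let K/k be a finite Galois extension of fields, X and Y schemes over k with base changes X_K and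
Y_K, and g : X_K ⟶ Y_K a morphism over Spec K. Then g is the base change of a k-morphism f : X ⟶ Y
(that is, g followed by the projection Y_K ⟶ Y is the projection X_K ⟶ X followed by f) if and only
if g commutes with the action of every k-automorphism σ of K on X_K and on Y_K (the identity on X,
resp. Y, and Spec σ on the factor Spec K). In other words the image of the k-morphisms X ⟶ Y among
the K-morphisms X_K ⟶ Y_K is exactly the set of Galois-invariant ones. -/
theorem result (k : Type u) [Field k] (K : Type u) [Field K]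
    [Algebra k K] [FiniteDimensional k K] [IsGalois k K]
    (X Y : Scheme.{u}) [X.Over (Spec (CommRingCat.of k))] [Y.Over (Spec (CommRingCat.of k))]
    (g : Curv2.bc k X K ⟶ Curv2.bc k Y K) (hg : g ≫ Curv2.bcSnd k Y K = Curv2.bcSnd k X K) :
    (∃ f : X ⟶ Y, f ≫ (Y ↘ Spec (CommRingCat.of k)) = X ↘ Spec (CommRingCat.of k) ∧
        g ≫ Curv2.bcFst k Y K = Curv2.bcFst k X K ≫ f) ↔
      ∀ σ : K ≃ₐ[k] K, Curv2.galAct k X K σ ≫ g = g ≫ Curv2.galAct k Y K σ := by
  let πX := Curv2.bcFst k X K
  let πY := Curv2.bcFst k Y K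
  haveI : Surjective (Spec.map (CommRingCat.ofHom (algebraMap k K))) :=
    ⟨GeomConn.surjective_specMap_field⟩
  constructor
  · rintro ⟨f, hf, hgf⟩ σ
    apply pullback.hom_ext
    · show (Curv2.galAct k X K σ ≫ g) ≫ πY = (g ≫ Curv2.galAct k Y K σ) ≫ πY
      rw [Category.assoc, hgf, ← Category.assoc, galAct_fst, Category.assoc, galAct_fst, hgf]
    · show (Curv2.galAct k X K σ ≫ g) ≫ Curv2.bcSnd k Y K = (g ≫ Curv2.galAct k Y K σ) ≫ Curv2.bcSnd k Y K
      rw [Category.assoc, hg, galAct_snd, Category.assoc, galAct_snd, reassoc_of% hg]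
  · intro h
    let a := g ≫ πY
    have hcond : ∀ {T : Scheme.{u}} (p₁ p₂ : T ⟶ Curv2.bc k X K), p₁ ≫ πX = p₂ ≫ πX → p₁ ≫ a = p₂ ≫ a := by
      intro T p₁ p₂ he
      have hh : (p₁ ≫ Curv2.bcSnd k X K) ≫ GalTwist.p k K = (p₂ ≫ Curv2.bcSnd k X K) ≫ GalTwist.p k K := by
        show (p₁ ≫ pullback.snd _ _) ≫ Spec.map (CommRingCat.ofHom (algebraMap k K)) =
          (p₂ ≫ pullback.snd _ _) ≫ Spec.map (CommRingCat.ofHom (algebraMap k K))
        simp only [Category.assoc, ← pullback.condition]
        rw [← Category.assoc p₁, ← Category.assoc p₂]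
        exact congrArg (· ≫ _) he
      refine GalTwist.hom_ext k K hh fun σ T' g' hg' => ?_
      have e : g' ≫ p₂ = g' ≫ p₁ ≫ Curv2.galAct k X K σ := by
        apply pullback.hom_ext
        · show (g' ≫ p₂) ≫ πX = (g' ≫ p₁ ≫ Curv2.galAct k X K σ) ≫ πX
          simp only [Category.assoc, galAct_fst, πX]
          rw [show p₂ ≫ Curv2.bcFst k X K = p₁ ≫ Curv2.bcFst k X K from he.symm]
        · show (g' ≫ p₂) ≫ Curv2.bcSnd k X K = (g' ≫ p₁ ≫ Curv2.galAct k X K σ) ≫ Curv2.bcSnd k X K
          simp only [Category.assoc, galAct_snd] at hg' ⊢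
          exact hg'
      rw [reassoc_of% e]
      simp only [a, Category.assoc, reassoc_of% (h σ), πY, galAct_fst]
    haveI : Surjective πX := MorphismProperty.pullback_fst _ _ inferInstance
    haveI : Flat πX := MorphismProperty.pullback_fst _ _ inferInstance
    haveI : IsAffineHom πX := MorphismProperty.pullback_fst _ _ inferInstance
    refine ⟨EffectiveEpi.desc πX a fun g₁ g₂ he => hcond g₁ g₂ he, ?_, (EffectiveEpi.fac πX a _).symm⟩
    rw [← cancel_epi πX, EffectiveEpi.fac_assoc]
    show (g ≫ πY) ≫ _ = _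
    rw [Category.assoc, pullback.condition]
    erw [reassoc_of% hg]
    exact pullback.condition.symm

end Groth.Agent.S14400
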