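import Groth.Statements.S14404
import Groth.Agent.FlatDim.Basic

set_option autoImplicit false
universe u
open CategoryTheory AlgebraicGeometry
open FlatMor

namespace Groth.Agent.S14404

/-- Let k be a field, X and Y irreducible schemes of finite type over k and f : X ⟶ Y a flat k-morphism.
Then dim Y ≤ dim X, and for every point y of Y every irreducible component Z of the scheme-theoretic
fibre of f over y has dim Z + dim Y = dim X; that is, every non-empty fibre has all its irreducible
components of dimension dim X − dim Y. -/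
theorem result (k : Type u) [Field k]
    {X Y : Scheme.{u}} (qX : X ⟶ Spec (CommRingCat.of k)) (qY : Y ⟶ Spec (CommRingCat.of k))
    [LocallyOfFiniteType qX] [QuasiCompact qX] [LocallyOfFiniteType qY] [QuasiCompact qY]
    [IrreducibleSpace X] [IrreducibleSpace Y] (f : X ⟶ Y) (hf : f ≫ qY = qX) [Flat f] :
    topologicalKrullDim Y ≤ topologicalKrullDim X ∧
      ∀ (y : Y), ∀ Z ∈ irreducibleComponents (f.fiber y : Type u),
        topologicalKrullDim Z + topologicalKrullDim Y = topologicalKrullDim X := by
  subst hf
  have : LocallyOfFiniteType f := locallyOfFiniteType_of_comp f qY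
  obtain ⟨e, -, he⟩ := Groth.Agent.DimTheory.exists_height_eq (f ≫ qY) (genericPoint X)
  obtain ⟨d, -, hd⟩ := Groth.Agent.DimTheory.exists_height_eq qY (genericPoint Y)
  have hfg : f (genericPoint X) = genericPoint Y :=
    Groth.Agent.FlatDim.eq_genericPoint (Groth.Agent.FlatDim.isMax_image f Groth.Agent.FlatDim.genericPoint_isMax)
  have hde : d ≤ e := by
    have := Groth.Agent.DimTheory.height_fiberι f qY (f (genericPoint X)) (f.asFiber (genericPoint X))
    have hh : Order.height (f (genericPoint X)) = d := by rw [hfg, hd]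
    rw [f.fiberι_asFiber, hh, he] at this
    exact_mod_cast le_self_add.trans this.ge
  rw [Groth.Agent.DimTheory.topologicalKrullDim_eq_height_genericPoint,
    Groth.Agent.DimTheory.topologicalKrullDim_eq_height_genericPoint, he, hd]
  refine ⟨WithBot.coe_le_coe.2 (Nat.cast_le.2 hde), fun y Z hZ => ?_⟩
  have key := (Groth.Agent.FlatDim.equidim_iff qY f d (e - d) fun η hη => by
    rw [Groth.Agent.FlatDim.eq_genericPoint hη, hd]).1 (fun ξ hξ => by
    rw [Groth.Agent.FlatDim.eq_genericPoint hξ, he, Nat.add_sub_cancel' hde]) y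
  rw [(Groth.Agent.FlatDim.forall_components_iff _).2 (fun z hz => congrArg _ (key z hz)) Z hZ]
  show ((((e - d : ℕ) : ℕ∞) : WithBot ℕ∞)) + ((d : ℕ∞) : WithBot ℕ∞) = ((e : ℕ∞) : WithBot ℕ∞)
  rw [← WithBot.coe_add, ← Nat.cast_add, Nat.sub_add_cancel hde]

end Groth.Agent.S14404
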