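import Groth.Statements.S14405
import Mathlib.NumberTheory.BernoulliPolynomials
import Mathlib.Tactic

set_option autoImplicit false
open Polynomial
open HilbNum

namespace Groth.Agent.S14405

/-- Let φ be a function from the integers to the rationals and Q a nonzero polynomial with rational
coefficients of degree d such that φ(m) - φ(m-1) = Q(m) for every integer m. Then there is a
polynomial P with rational coefficients, of degree d + 1, such that φ(m) = P(m) for every integer m.
(The explicit form of P in the binomial basis is not part of this statement.) -/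
theorem result (φ : ℤ → ℚ) (d : ℕ) (Q : ℚ[X]) (hQ : Q ≠ 0)
    (hd : Q.natDegree = d) (h : ∀ m : ℤ, φ m - φ (m - 1) = Q.eval (m : ℚ)) :
    ∃ P : ℚ[X], P.natDegree = d + 1 ∧ ∀ m : ℤ, φ m = P.eval (m : ℚ) := by
  classical
  let B : ℕ → ℚ[X] := fun n =>
    C (Q.coeff n / (n + 1 : ℚ)) * (Polynomial.bernoulli (n + 1)).comp (1 + X)
  let P₀ : ℚ[X] := ∑ n ∈ Finset.range (d + 1), B n
  have hdiff : ∀ x : ℚ, P₀.eval x - P₀.eval (x - 1) = Q.eval x := by
    intro x
    simp only [P₀]
    rw [Polynomial.eval_finsetSum, Polynomial.eval_finsetSum, ← Finset.sum_sub_distrib]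
    conv_rhs => rw [Polynomial.eval_eq_sum_range' (p := Q) (n := d + 1) (by omega) x]
    refine Finset.sum_congr rfl fun n _ => ?_
    simp only [B, eval_mul, eval_C, eval_comp, eval_add, eval_one, eval_X]
    have hb := Polynomial.bernoulli_eval_one_add (n + 1) x
    rw [show (1 : ℚ) + (x - 1) = x by ring, hb]
    simp only [Nat.add_sub_cancel, Nat.cast_add, Nat.cast_one]
    field_simp
    ring
  have hbdeg : ∀ n, (Polynomial.bernoulli n).natDegree ≤ n := fun n => by
    refine Polynomial.natDegree_le_iff_coeff_eq_zero.2 fun N hN => ?_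
    rw [Polynomial.coeff_bernoulli, if_neg (by omega)]
  have hbc : ∀ n, (Polynomial.bernoulli n).coeff n = 1 := fun n => by
    rw [Polynomial.coeff_bernoulli, if_pos le_rfl]
    simp
  have h1X : (1 + X : ℚ[X]).natDegree = 1 := by rw [add_comm, ← C_1, natDegree_X_add_C]
  have hBdeg : ∀ n, (B n).natDegree ≤ n + 1 := fun n =>
    (natDegree_C_mul_le _ _).trans (natDegree_comp_le.trans (by rw [h1X, mul_one]; exact hbdeg _))
  let P : ℚ[X] := P₀ + C (φ 0 - P₀.eval 0)
  have hPdeg : P.natDegree ≤ d + 1 := by
    refine (natDegree_add_le _ _).trans (max_le ?_ (by simp))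
    exact natDegree_sum_le_of_forall_le _ _ fun n hn =>
      (hBdeg n).trans (by have := Finset.mem_range.1 hn; omega)
  have hval : ∀ m : ℤ, φ m = P.eval (m : ℚ) := by
    intro m
    induction m using Int.induction_on with
    | zero => simp [P]
    | succ k ih =>
      have h1 := h (k + 1)
      rw [add_sub_cancel_right] at h1
      have h2 := hdiff ((k : ℚ) + 1)
      rw [add_sub_cancel_right] at h2
      simp only [P, eval_add, eval_C] at ih ⊢
      push_cast at h1 ih ⊢
      linarith
    | pred k ih =>
      have h1 := h (-k)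
      have h2 := hdiff (-(k : ℚ))
      simp only [P, eval_add, eval_C] at ih ⊢
      push_cast at h1 ih ⊢
      linarith
  refine ⟨P, le_antisymm hPdeg (le_natDegree_of_ne_zero ?_), hval⟩
  have hcoef : P.coeff (d + 1) = Q.coeff d / (d + 1 : ℚ) := by
    simp only [P, P₀, coeff_add, coeff_C, Nat.add_one_ne_zero, if_false, add_zero, finsetSum_coeff]
    rw [Finset.sum_eq_single d]
    · simp only [B, coeff_C_mul]
      have hc : ((Polynomial.bernoulli (d + 1)).comp (1 + X : ℚ[X])).coeff (d + 1) = 1 := by
        have hn : (Polynomial.bernoulli (d + 1)).natDegree = d + 1 :=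
          le_antisymm (hbdeg _) (le_natDegree_of_ne_zero (by rw [hbc]; norm_num))
        have hl : (1 + X : ℚ[X]).leadingCoeff = 1 := by rw [add_comm, ← C_1, leadingCoeff_X_add_C]
        have := coeff_comp_degree_mul_degree (p := Polynomial.bernoulli (d + 1))
          (q := (1 + X : ℚ[X])) (by rw [h1X]; norm_num)
        rw [hn, h1X, mul_one, hl, one_pow, mul_one] at this
        rw [this, leadingCoeff, hn, hbc]
      rw [hc, mul_one]
    · intro n hn hne
      refine coeff_eq_zero_of_natDegree_lt ((hBdeg n).trans_lt ?_)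
      have := Finset.mem_range.1 hn
      omega
    · simp
  rw [hcoef]
  refine div_ne_zero ?_ (by positivity)
  rw [← hd]
  exact leadingCoeff_ne_zero.2 hQ

end Groth.Agent.S14405
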