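import Groth.Statements.S5809
import Mathlib
import Groth.Agent.CAlgReg.GlobalDim
import Groth.Agent.CAlgReg.Serre
import Groth.Agent.CAlgMisc.FreeResolution

set_option autoImplicit false
universe u
open CategoryTheory
open EGA41

namespace Groth.Agent.S5809

open CategoryTheory Groth.Agent.CAlgReg MonoidalCategory

noncomputable section Syz

variable {A : Type u} [CommRing A] {M : ModuleCat.{u} A} (P : ProjectiveResolution M)

abbrev Syz (j : ℕ) := P.complex.X j ⧸ LinearMap.range (P.complex.d (j + 1) j).hom

theorem d_exact (j : ℕ) : Function.Exact (P.complex.d (j + 2) (j + 1)).hom (P.complex.d (j + 1) j).hom :=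
  (ShortComplex.ShortExact.moduleCat_exact_iff_function_exact _).1
    ((HomologicalComplex.exactAt_iff' _ (j + 2) (j + 1) j (by simp) (by simp)).1 (P.complex_exactAt_succ j))

def ι (j : ℕ) : Syz P (j + 1) →ₗ[A] P.complex.X j :=
  Submodule.liftQ _ (P.complex.d (j + 1) j).hom (d_exact P j).linearMap_ker_eq.ge

theorem ι_inj (j : ℕ) : Function.Injective (ι P j) := by
  rw [← LinearMap.ker_eq_bot]
  exact Submodule.ker_liftQ_eq_bot _ _ _ (d_exact P j).linearMap_ker_eq.le

theorem ι_exact (j : ℕ) : Function.Exact (ι P j) (LinearMap.range (P.complex.d (j + 1) j).hom).mkQ := by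
  rw [LinearMap.exact_iff, Submodule.ker_mkQ]
  exact (Submodule.range_liftQ _ _ _).symm

instance (j : ℕ) : Module.Projective A (P.complex.X j) := (IsProjective.iff_projective _).2 (P.projective j)

theorem syz_down : ∀ (n t : ℕ), PdLT A (Syz P t) (n + 1) → Module.Projective A (Syz P (t + n))
  | 0, t, h => projective_of_pdLT_one h
  | n + 1, t, h => by
    have := syz_down n (t + 1) (pdLT_left (ι P t) _ (ι_inj P t) (ι_exact P t) (Submodule.mkQ_surjective _) h)
    rwa [add_right_comm, add_assoc] at this

theorem syz_up : ∀ (n t : ℕ), Module.Projective A (Syz P (t + n)) → PdLT A (Syz P t) (n + 1)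
  | 0, t, h => @pdLT_one _ _ _ _ _ h
  | n + 1, t, h => pdLT_right (ι P t) _ (ι_inj P t) (ι_exact P t) (Submodule.mkQ_surjective _)
      (syz_up n (t + 1) (by rwa [add_right_comm, add_assoc]))

def syzZero : Syz P 0 ≃ₗ[A] M :=
  ((ModuleCat.cokernelIsColimit (P.complex.d 1 0)).coconePointUniqueUpToIso P.isColimitCokernelCofork).toLinearEquiv

theorem isZero_tor_iff (X : Type u) [AddCommGroup X] [Module A X] (q : ℕ) :
    Limits.IsZero (((Tor (ModuleCat.{u} A) (q + 1)).obj (ModuleCat.of A X)).obj M) ↔
      Function.Injective ((ι P q).lTensor X) := by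
  let F := MonoidalCategory.tensorLeft (ModuleCat.of A X)
  have e : ((CategoryTheory.Tor (ModuleCat.{u} A) (q + 1)).obj (ModuleCat.of A X)).obj M ≅ _ :=
    P.isoLeftDerivedObj F (q + 1)
  rw [e.isZero_iff]
  change Limits.IsZero (((F.mapHomologicalComplex _).obj P.complex).homology (q + 1)) ↔ _
  rw [← HomologicalComplex.exactAt_iff_isZero_homology,
    HomologicalComplex.exactAt_iff' _ (q + 2) (q + 1) q (by simp) (by simp),
    ShortComplex.ShortExact.moduleCat_exact_iff_function_exact]
  change Function.Exact ((P.complex.d (q + 2) (q + 1)).hom.lTensor X) ((P.complex.d (q + 1) q).hom.lTensor X) ↔ _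
  let π := (LinearMap.range (P.complex.d (q + 2) (q + 1)).hom).mkQ
  have hex : Function.Exact ((P.complex.d (q + 2) (q + 1)).hom.lTensor X) (π.lTensor X) :=
    lTensor_exact X (LinearMap.exact_map_mkQ_range _) (Submodule.mkQ_surjective _)
  have hsur : Function.Surjective (π.lTensor X) := LinearMap.lTensor_surjective X (Submodule.mkQ_surjective _)
  have hd : (P.complex.d (q + 1) q).hom.lTensor X = (ι P q).lTensor X ∘ₗ π.lTensor X := by
    rw [← LinearMap.lTensor_comp]
    congr 1
  rw [hd]
  constructor
  · intro h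
    rw [injective_iff_map_eq_zero]
    intro z hz
    obtain ⟨w, rfl⟩ := hsur z
    obtain ⟨v, rfl⟩ := (h w).1 hz
    exact hex.apply_apply_eq_zero v
  · intro h w
    exact ⟨fun hw => (hex w).1 (h (hw.trans (map_zero _).symm)), fun hw => by
      simp [(hex w).2 hw]⟩

end Syz


/-- Let A be a Noetherian local ring with residue field k, M a finitely generated A-module and n ≥ 0.
For M to have projective dimension at most n it is necessary that Tor^A_i(M, k) = 0 for all i > n,
and it suffices that Tor^A_(n+1)(M, k) = 0. (Tor is written here as the left derived functors of k ⊗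
- evaluated at M, i.e. computed from a projective resolution of M.) -/
theorem result (A : Type u) [CommRing A] [IsLocalRing A]
    [IsNoetherianRing A] (M : Type u) [AddCommGroup M] [Module A M] [Module.Finite A M] (n : ℕ) :
    (HasProjectiveDimensionLT (ModuleCat.of A M) (n + 1) →
        ∀ i : ℕ, n < i → Limits.IsZero (((Tor (ModuleCat.{u} A) i).obj
          (ModuleCat.of A (IsLocalRing.ResidueField A))).obj (ModuleCat.of A M))) ∧
      (Limits.IsZero (((Tor (ModuleCat.{u} A) (n + 1)).obj
          (ModuleCat.of A (IsLocalRing.ResidueField A))).obj (ModuleCat.of A M)) →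
        HasProjectiveDimensionLT (ModuleCat.of A M) (n + 1)) := by
  obtain ⟨P, hP⟩ := Groth.Agent.CAlgMisc.exists_finite_free_resolution (ModuleCat.of A M)
  refine ⟨fun h i hi => ?_, fun h => ?_⟩
  · obtain ⟨q, rfl⟩ : ∃ q, i = q + 1 := ⟨i - 1, by omega⟩
    have h' : PdLT A (Syz P 0) (q + 1) :=
      Groth.Agent.CAlgReg.pdLT_congr (syzZero P).symm (pdLT_mono (by omega : n + 1 ≤ q + 1) h)
    have := syz_down P q 0 h'
    rw [zero_add] at this
    rw [isZero_tor_iff P]
    exact LinearMap.lTensor_injective_of_exact_of_flat _ (Submodule.mkQ_surjective _) (ι P q) (ι_inj P q) (ι_exact P q) _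
  · rw [isZero_tor_iff P] at h
    haveI := (hP n).1
    haveI := (hP n).2
    haveI := (hP (n + 1)).1
    haveI := Module.free_of_lTensor_residueField_injective (ι P n) _ (Submodule.mkQ_surjective _) (ι_exact P n) h
    have hproj : Module.Projective A (Syz P (0 + n)) := by
      rw [zero_add]; exact Module.Projective.of_free
    exact Groth.Agent.CAlgReg.pdLT_congr (syzZero P) (syz_up P n 0 hproj)

end Groth.Agent.S5809
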