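import Groth.Statements.S14413
import Mathlib
import Groth.Agent.S5809
-- import your own Groth.Agent.* helpers here

set_option autoImplicit false
universe u
open CategoryTheory CategoryTheory.Limits
open CAlg

namespace Groth.Agent.S14413

/-- Splicing a resolution of the kernel of a surjection from a projective module. -/
theorem exists_resolution (R : Type u) [CommRing R] : ∀ (d : ℕ) (M : ModuleCat.{u} R),
    HasProjectiveDimensionLT M (d + 1) →
      ∃ P : ProjectiveResolution M, ∀ i : ℕ, d < i → IsZero (P.complex.X i) := by
  intro d
  induction d with
  | zero =>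
    intro M hM
    haveI := hM
    haveI : Projective M := projective_iff_hasProjectiveDimensionLT_one.2 hM
    exact ⟨ProjectiveResolution.self M, fun i hi => by
      show IsZero (((ChainComplex.single₀ _).obj M).X i)
      exact HomologicalComplex.isZero_single_obj_X _ _ _ _ (by omega)⟩
  | succ d ih =>
    intro M hM
    let p : Projective.over M ⟶ M := Projective.π M
    have hp : Function.Surjective p.hom := (ModuleCat.epi_iff_surjective p).1 inferInstance
    let K : ModuleCat.{u} R := ModuleCat.of R (LinearMap.ker p.hom)
    let ι : K ⟶ Projective.over M := ModuleCat.ofHom (LinearMap.ker p.hom).subtype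
    have hι : ι ≫ p = 0 := by ext x; exact x.2
    let S : ShortComplex (ModuleCat.{u} R) := ShortComplex.mk ι p hι
    have hS : S.ShortExact := by
      haveI : Mono S.f := (ModuleCat.mono_iff_injective _).2 Subtype.val_injective
      haveI : Epi S.g := (ModuleCat.epi_iff_surjective p).2 hp
      exact { exact := (ShortComplex.ShortExact.moduleCat_exact_iff_function_exact _).2
                (LinearMap.exact_subtype_ker_map p.hom) }
    obtain ⟨Q, hQ⟩ := ih K
      ((hS.hasProjectiveDimensionLT_X₃_iff d (inferInstanceAs (Projective (Projective.over M)))).1 hM)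
    let f : Q.complex.X 0 ⟶ Projective.over M := Q.π.f 0 ≫ ι
    have hw : Q.complex.d 1 0 ≫ f = 0 := by
      rw [← Category.assoc, Q.complex_d_comp_π_f_zero]; exact zero_comp
    let C : ChainComplex (ModuleCat.{u} R) ℕ := Q.complex.augment f hw
    have hfp : f ≫ p = 0 := by
      exact (Category.assoc _ _ _).trans ((congrArg (Q.π.f 0 ≫ ·) hι).trans comp_zero)
    have hq0 : Function.Surjective (Q.π.f 0).hom := (ModuleCat.epi_iff_surjective _).1 inferInstance
    have hex1 : (ShortComplex.mk f p hfp).Exact := by
      rw [ShortComplex.ShortExact.moduleCat_exact_iff_function_exact]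
      intro y
      refine ⟨fun hy => ?_, ?_⟩
      · obtain ⟨z, hz⟩ := hq0 ⟨y, hy⟩
        exact ⟨z, congrArg Subtype.val hz⟩
      · rintro ⟨z, rfl⟩
        exact congrArg (fun φ => φ.hom z) hfp
    have hex2 : ∀ n, C.ExactAt (n + 1) := by
      intro n
      rw [HomologicalComplex.exactAt_iff' _ (n + 2) (n + 1) n (by simp) (by simp),
        ShortComplex.ShortExact.moduleCat_exact_iff_function_exact]
      cases n with
      | zero =>
        have h0 := (ShortComplex.ShortExact.moduleCat_exact_iff_function_exact _).1 Q.exact₀
        intro y
        refine Iff.trans ?_ (h0 y)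
        exact ⟨fun h => Subtype.val_injective h, fun h => congrArg Subtype.val h⟩
      | succ n =>
        exact (ShortComplex.ShortExact.moduleCat_exact_iff_function_exact _).1 (Q.exact_succ n)
    refine ⟨{ complex := C, π := (ChainComplex.toSingle₀Equiv C M).symm ⟨p, hfp⟩,
              projective := ?_, quasiIso := ?_ }, ?_⟩
    · intro n
      cases n
      · exact inferInstanceAs (Projective (Projective.over M))
      · exact Q.projective _
    · refine ⟨fun n => ?_⟩
      cases n
      · rw [ChainComplex.quasiIsoAt₀_iff, ShortComplex.quasiIso_iff_of_zeros']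
        · refine (ShortComplex.exact_and_epi_g_iff_of_iso ?_).2 ⟨hex1, ?_⟩
          · exact ShortComplex.isoMk (Iso.refl _) (Iso.refl _) (Iso.refl _)
              ((Category.id_comp _).trans (Category.comp_id _).symm) ((Category.id_comp _).trans (Category.comp_id _).symm)
          · exact (ModuleCat.epi_iff_surjective p).2 hp
        all_goals rfl
      · rw [quasiIsoAt_iff_exactAt']
        · exact hex2 _
        · apply ChainComplex.exactAt_succ_single_obj
    · intro i hi
      obtain ⟨i, rfl⟩ : ∃ k, i = k + 1 := ⟨i - 1, by omega⟩
      exact hQ i (by omega)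

/-- Let R be a commutative ring, M an R-module and d ≥ 0. Then M has projective dimension at most d in
the sense that Ext^i_R(M, N) = 0 for every i > d and every R-module N (Mathlib's Ext-vanishing
definition) if and only if M has a projective resolution of length at most d, i.e. a projective
resolution P whose terms P_i are zero for all i > d (the definition of pd_R(M) ≤ d by resolutions). -/
theorem result (R : Type u) [CommRing R]
    (M : ModuleCat.{u} R) (d : ℕ) :
    HasProjectiveDimensionLE M d ↔
      ∃ P : ProjectiveResolution M, ∀ i : ℕ, d < i → IsZero (P.complex.X i) := by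
  refine ⟨fun h => exists_resolution R d M h, fun ⟨P, hP⟩ => ?_⟩
  have hproj : Module.Projective R (Groth.Agent.S5809.Syz P (0 + d)) := by
    rw [zero_add]
    haveI := ModuleCat.subsingleton_of_isZero (hP (d + 1) (by omega))
    have hbot : LinearMap.range (P.complex.d (d + 1) d).hom = ⊥ := by
      rw [LinearMap.range_eq_bot]
      exact LinearMap.ext fun x => by rw [Subsingleton.elim x 0, map_zero, map_zero]
    exact Module.Projective.of_equiv (Submodule.quotEquivOfEqBot _ hbot).symm
  exact Groth.Agent.CAlgReg.pdLT_congr (Groth.Agent.S5809.syzZero P)
    (Groth.Agent.S5809.syz_up P d 0 hproj)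

end Groth.Agent.S14413
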