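import Groth.Statements.S14414
import Mathlib
import Groth.Agent.S5809
-- import your own Groth.Agent.* helpers here

set_option autoImplicit false
universe u
open CategoryTheory CategoryTheory.Limits
open CAlg

namespace Groth.Agent.S14414

/-- Let R be a commutative ring and N an R-module of projective dimension at most q, in the sense that
Ext^i_R(N, N′) = 0 for all i > q and all N′ (equivalently, N has a projective resolution of length
at most q). Then for every R-module M and every i > q, Tor_i^R(M, N) — the value at N of the i-th
left derived functor of M ⊗_R (-) — is zero. -/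
theorem result (R : Type u) [CommRing R]
    (M N : ModuleCat.{u} R) (q : ℕ) [HasProjectiveDimensionLE N q] (i : ℕ) (hi : q < i) :
    IsZero (((CategoryTheory.Tor (ModuleCat.{u} R) i).obj M).obj N) := by
  obtain ⟨j, rfl⟩ : ∃ j, i = j + 1 := ⟨i - 1, by omega⟩
  let P := ProjectiveResolution.of N
  have h' : Groth.Agent.CAlgReg.PdLT R (Groth.Agent.S5809.Syz P 0) (j + 1) :=
    Groth.Agent.CAlgReg.pdLT_congr (Groth.Agent.S5809.syzZero P).symm
      (Groth.Agent.CAlgReg.pdLT_mono (by omega : q + 1 ≤ j + 1) ‹HasProjectiveDimensionLE N q›)
  have hp := Groth.Agent.S5809.syz_down P j 0 h'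
  rw [zero_add] at hp
  exact (Groth.Agent.S5809.isZero_tor_iff P M j).2
    (LinearMap.lTensor_injective_of_exact_of_flat _ (Submodule.mkQ_surjective _)
      (Groth.Agent.S5809.ι P j) (Groth.Agent.S5809.ι_inj P j) (Groth.Agent.S5809.ι_exact P j) _)

end Groth.Agent.S14414
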