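import Groth.Statements.S14416
import Mathlib.RingTheory.LocalRing.Module
import Mathlib.LinearAlgebra.TensorProduct.RightExactness
import Mathlib.RingTheory.Support

set_option autoImplicit false
universe u
open scoped TensorProduct
open CAlg

namespace Groth.Agent.S14416

/-- Let B → A be a ring map with A a finitely generated B-module such that for every prime ideal p of B
the fibre κ(p) ⊗_B A has dimension at most one over the residue field κ(p). Then B → A is
surjective. In scheme language: a finite morphism whose degree at every point of the target is 0 or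
1 is a closed immersion. (The published statement assumes the two schemes Noetherian; that
hypothesis plays no role and is dropped here.) -/
theorem result
    (B A : Type u) [CommRing B] [CommRing A] [Algebra B A] [Module.Finite B A]
    (h : ∀ p : PrimeSpectrum B,
      Module.finrank p.asIdeal.ResidueField (p.asIdeal.ResidueField ⊗[B] A) ≤ 1) :
    Function.Surjective (algebraMap B A) := by
  let f := Algebra.linearMap B A
  let Q := A ⧸ LinearMap.range f
  have hQ : Module.support B Q = ∅ := by
    refine Set.eq_empty_of_forall_notMem fun p hp => ?_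
    rw [Module.mem_support_iff_nontrivial_residueField_tensorProduct] at hp
    refine not_subsingleton_iff_nontrivial.mpr hp ?_
    let κ := p.asIdeal.ResidueField
    let u : κ ⊗[B] A := 1 ⊗ₜ 1
    have hu : ∀ z : κ ⊗[B] A, ∃ c : κ, c • u = z := by
      rcases subsingleton_or_nontrivial (κ ⊗[B] A) with hs | hn
      · exact fun z => ⟨0, Subsingleton.elim _ _⟩
      · have hu0 : u ≠ 0 := fun h0 => one_ne_zero (α := κ ⊗[B] A) h0
        have h1 : Module.finrank κ (κ ⊗[B] A) = 1 := le_antisymm (h p) Module.finrank_pos
        exact fun z => exists_smul_eq_of_finrank_eq_one h1 hu0 z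
    refine ⟨fun a b => ?_⟩
    suffices h0 : ∀ z : κ ⊗[B] Q, z = 0 by rw [h0 a, h0 b]
    intro z
    obtain ⟨w, rfl⟩ := LinearMap.lTensor_surjective κ (Submodule.mkQ_surjective (LinearMap.range f)) z
    obtain ⟨c, rfl⟩ := hu w
    show (LinearMap.lTensor κ (LinearMap.range f).mkQ) (c • ((1 : κ) ⊗ₜ[B] (1 : A))) = 0
    rw [TensorProduct.smul_tmul', LinearMap.lTensor_tmul, Submodule.mkQ_apply,
      (Submodule.Quotient.mk_eq_zero (LinearMap.range f)).mpr (LinearMap.mem_range.mpr ⟨1, map_one (algebraMap B A)⟩), TensorProduct.tmul_zero]
  rw [Module.support_eq_empty_iff, Submodule.Quotient.subsingleton_iff, LinearMap.range_eq_top] at hQ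
  exact hQ

end Groth.Agent.S14416
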