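import Groth.Statements.S14418
import Mathlib

set_option autoImplicit false
universe u
open CategoryTheory
open CAlg

namespace Groth.Agent.S14418

open CategoryTheory in
/-- The middle term of a short exact sequence is killed if the ends are. -/
theorem isZero_mid {B A : Type u} [CommRing B] [CommRing A] (T : ModuleCat.{u} B ⥤ ModuleCat.{u} A) [T.Additive]
    (hex : ∀ S : ShortComplex (ModuleCat.{u} B), S.ShortExact → Module.Finite B S.X₁ →
      Module.Finite B S.X₂ → Module.Finite B S.X₃ → (S.map T).Exact)
    {X Y Z : Type u} [AddCommGroup X] [AddCommGroup Y] [AddCommGroup Z] [Module B X] [Module B Y] [Module B Z]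
    [Module.Finite B X] [Module.Finite B Y] [Module.Finite B Z]
    (f : X →ₗ[B] Y) (g : Y →ₗ[B] Z) (hf : Function.Injective f) (hfg : Function.Exact f g) (hg : Function.Surjective g) :
    ((∀ a : T.obj (ModuleCat.of B X), a = 0) → (∀ a : T.obj (ModuleCat.of B Z), a = 0) →
      ∀ a : T.obj (ModuleCat.of B Y), a = 0) ∧
    ((∀ a : T.obj (ModuleCat.of B Z), a = 0) → Function.Surjective (T.map (ModuleCat.ofHom f))) := by
  let S := ShortComplex.moduleCatMk f g hfg.linearMap_comp_eq_zero
  have hS : S.ShortExact :=
    { exact := (ShortComplex.ShortExact.moduleCat_exact_iff_function_exact S).2 hfg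
      mono_f := (ModuleCat.mono_iff_injective _).2 hf
      epi_g := (ModuleCat.epi_iff_surjective _).2 hg }
  have h := (ShortComplex.moduleCat_exact_iff _).1 (hex S hS ‹Module.Finite B X› ‹Module.Finite B Y› ‹Module.Finite B Z›)
  refine ⟨fun h1 h3 a => ?_, fun h3 a => ?_⟩
  · obtain ⟨b, hb⟩ := h a (h3 _)
    rw [← hb, h1 b]
    exact map_zero _
  · obtain ⟨b, hb⟩ := h a (h3 _)
    exact ⟨b, hb⟩

/-- Let B → A be a local homomorphism of Noetherian local rings, n the maximal ideal of B, and T an
additive functor from B-modules to A-modules which is B-linear (T applied to multiplication by b ∈ B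
is multiplication by the image of b in A), carries finitely generated B-modules to finitely
generated A-modules, and is half-exact on finitely generated modules (every short exact sequence of
finitely generated B-modules goes to a sequence exact at its middle term). If T(B/n) = 0 then T(N) =
0 for every finitely generated B-module N. (The published statement takes T defined on finitely
generated modules only; here T is defined on all B-modules while every hypothesis and the conclusion
concern finitely generated modules.) -/
theorem result {B A : Type u} [CommRing B] [CommRing A]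
    [IsNoetherianRing B] [IsLocalRing B] [IsNoetherianRing A] [IsLocalRing A] [Algebra B A]
    [IsLocalHom (algebraMap B A)] (T : ModuleCat.{u} B ⥤ ModuleCat.{u} A) [T.Additive]
    (hlin : ∀ (N : ModuleCat.{u} B) (b : B),
      T.map (ModuleCat.ofHom (b • (LinearMap.id : N →ₗ[B] N))) =
        ModuleCat.ofHom (algebraMap B A b • (LinearMap.id : T.obj N →ₗ[A] T.obj N)))
    (hfin : ∀ N : ModuleCat.{u} B, Module.Finite B N → Module.Finite A (T.obj N))
    (hex : ∀ S : ShortComplex (ModuleCat.{u} B), S.ShortExact → Module.Finite B S.X₁ →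
      Module.Finite B S.X₂ → Module.Finite B S.X₃ → (S.map T).Exact)
    (h0 : Limits.IsZero (T.obj (ModuleCat.of B (B ⧸ IsLocalRing.maximalIdeal B))))
    (N : ModuleCat.{u} B) [Module.Finite B N] : Limits.IsZero (T.obj N) := by
  classical
  suffices H : ∀ I : Ideal B, ∀ (X : Type u) [AddCommGroup X] [Module B X] [Module.Finite B X],
      (∀ b ∈ I, ∀ x : X, b • x = 0) → ∀ a : T.obj (ModuleCat.of B X), a = 0 by
    have := H ⊥ N (fun b hb x => by rw [Ideal.mem_bot.1 hb, zero_smul])
    exact ModuleCat.isZero_iff_subsingleton.2 (subsingleton_of_forall_eq 0 this)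
  intro I
  induction I using WellFoundedGT.induction with
  | _ I ih =>
    intro X _ _ _ hIX
    have hzero : ∀ (Y : Type u) [AddCommGroup Y] [Module B Y], Subsingleton Y → ∀ a : T.obj (ModuleCat.of B Y), a = 0 :=
      fun Y _ _ hY a => by
        haveI := ModuleCat.subsingleton_of_isZero (T.map_isZero (ModuleCat.isZero_of_subsingleton (ModuleCat.of B Y)))
        exact Subsingleton.elim _ _
    by_cases htop : I = ⊤
    · exact hzero X (subsingleton_of_forall_eq 0 fun x => by simpa using hIX 1 (by rw [htop]; trivial) x)
    by_cases hp : I.IsPrime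
    swap
    · obtain ⟨a, b, hab, ha, hb⟩ : ∃ a b, a * b ∈ I ∧ a ∉ I ∧ b ∉ I := by
        simp only [Ideal.isPrime_iff, not_and, not_forall, not_or] at hp
        obtain ⟨a, b, hab, ha, hb⟩ := hp htop
        exact ⟨a, b, hab, ha, hb⟩
      let K : Submodule B X := LinearMap.ker (LinearMap.lsmul B X a)
      refine (isZero_mid T hex K.subtype K.mkQ K.injective_subtype (LinearMap.exact_subtype_mkQ K) K.mkQ_surjective).1
        (ih (I ⊔ Ideal.span {a}) (lt_of_le_not_ge le_sup_left fun h => ha (h (Ideal.mem_sup_right (Ideal.mem_span_singleton_self a)))) K ?_)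
        (ih (I ⊔ Ideal.span {b}) (lt_of_le_not_ge le_sup_left fun h => hb (h (Ideal.mem_sup_right (Ideal.mem_span_singleton_self b)))) _ ?_)
      · rintro c hc ⟨x, hx⟩
        obtain ⟨i, hi, s, hs, rfl⟩ := Submodule.mem_sup.1 hc
        obtain ⟨d, rfl⟩ := Ideal.mem_span_singleton'.1 hs
        apply Subtype.ext
        show (i + d * a) • x = 0
        rw [add_smul, hIX i hi, zero_add, mul_smul, show a • x = 0 from hx, smul_zero]
      · intro c hc y
        obtain ⟨x, rfl⟩ := K.mkQ_surjective y
        obtain ⟨i, hi, s, hs, rfl⟩ := Submodule.mem_sup.1 hc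
        obtain ⟨d, rfl⟩ := Ideal.mem_span_singleton'.1 hs
        rw [← map_smul, Submodule.mkQ_apply, Submodule.Quotient.mk_eq_zero]
        show a • (i + d * b) • x = 0
        rw [add_smul, hIX i hi, zero_add, smul_smul]
        exact hIX _ (by rw [show a * (d * b) = d * (a * b) by ring]; exact I.mul_mem_left d hab) x
    by_cases hmax : I = IsLocalRing.maximalIdeal B
    · -- a finite-dimensional vector space over the residue field
      suffices hall : ∀ S : Submodule B X, ∀ a : T.obj (ModuleCat.of B (X ⧸ S)), a = 0 by
        have e := (T.mapIso ((Submodule.quotEquivOfEqBot (⊥ : Submodule B X) rfl).toModuleIso)).toLinearEquiv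
        intro a
        obtain ⟨a, rfl⟩ := e.surjective a
        rw [hall ⊥ a, map_zero]
      intro S
      induction S using WellFoundedGT.induction with
      | _ S ihS =>
        by_cases hS : S = ⊤
        · exact hzero _ (Submodule.Quotient.subsingleton_iff.2 hS)
        obtain ⟨x, -, hx⟩ := SetLike.exists_of_lt (lt_top_iff_ne_top.2 hS)
        let S' := S ⊔ Submodule.span B {x}
        let f : (B ⧸ IsLocalRing.maximalIdeal B) →ₗ[B] X ⧸ S :=
          Submodule.liftQ _ (LinearMap.toSpanSingleton B (X ⧸ S) (S.mkQ x)) fun b hb => by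
            show b • S.mkQ x = 0
            rw [← map_smul, hIX b (hmax ▸ hb) x, map_zero]
        have hf : Function.Injective f := by
          rw [injective_iff_map_eq_zero]
          intro z hz
          obtain ⟨b, rfl⟩ := Submodule.mkQ_surjective _ z
          refine (Submodule.Quotient.mk_eq_zero _).2 (by_contra fun hb => hx ?_)
          obtain ⟨u, rfl⟩ := IsLocalRing.notMem_maximalIdeal.1 hb
          have : (u : B) • x ∈ S := (Submodule.Quotient.mk_eq_zero S).1 ((Submodule.Quotient.mk_smul S (u : B) x).trans hz)
          simpa [smul_smul] using S.smul_mem (↑u⁻¹ : B) this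
        have hfg : Function.Exact f (Submodule.factor (le_sup_left : S ≤ S')) := by
          intro z
          obtain ⟨y, rfl⟩ := S.mkQ_surjective z
          refine ⟨fun h => ?_, ?_⟩
          · obtain ⟨s, hs, w, hw, hsw⟩ := Submodule.mem_sup.1 ((Submodule.Quotient.mk_eq_zero S').1 h)
            obtain ⟨b, rfl⟩ := Submodule.mem_span_singleton.1 hw
            refine ⟨Submodule.Quotient.mk b, ?_⟩
            show b • S.mkQ x = S.mkQ y
            replace hsw : s + b • x = y := hsw
            rw [← hsw, map_add, map_smul, show S.mkQ s = 0 from (Submodule.Quotient.mk_eq_zero S).2 hs, zero_add]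
          · rintro ⟨b, hb⟩
            obtain ⟨b, rfl⟩ := Submodule.mkQ_surjective _ b
            rw [← hb]
            show Submodule.factor _ (b • S.mkQ x) = 0
            rw [map_smul, show Submodule.factor _ (S.mkQ x) = (0 : X ⧸ S') from
              (Submodule.Quotient.mk_eq_zero S').2 (Submodule.mem_sup_right (Submodule.mem_span_singleton_self x)), smul_zero]
        refine (isZero_mid T hex f _ hf hfg (Submodule.factor_surjective le_sup_left)).1 ?_
          (ihS S' (lt_of_le_not_ge le_sup_left fun h => hx (h (Submodule.mem_sup_right (Submodule.mem_span_singleton_self x)))))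
        haveI := ModuleCat.subsingleton_of_isZero h0
        exact fun a => Subsingleton.elim _ _
    -- a prime other than the maximal ideal
    obtain ⟨t, ht, htI⟩ := SetLike.exists_of_lt (lt_of_le_of_ne (IsLocalRing.le_maximalIdeal htop) hmax)
    obtain ⟨k, hk⟩ : ∃ k, ∀ x : X, t ^ (k + 1) • x = 0 → t ^ k • x = 0 := by
      let F : ℕ →o Submodule B X := ⟨fun n => LinearMap.ker (LinearMap.lsmul B X (t ^ n)), fun m n hmn x hx => by
        show t ^ n • x = 0
        rw [← Nat.sub_add_cancel hmn, pow_add, mul_smul, show t ^ m • x = 0 from hx, smul_zero]⟩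
      obtain ⟨k, hk⟩ := monotone_stabilizes_iff_noetherian.2 (inferInstance : IsNoetherian B X) F
      exact ⟨k, fun x hx => (hk (k + 1) (Nat.le_succ k)).ge hx⟩
    let K : Submodule B X := LinearMap.ker (LinearMap.lsmul B X (t ^ k))
    let m : (X ⧸ K) →ₗ[B] (X ⧸ K) := t • LinearMap.id
    have hm : Function.Injective m := by
      rw [injective_iff_map_eq_zero]
      intro z hz
      obtain ⟨x, rfl⟩ := K.mkQ_surjective z
      have : t • x ∈ K := (Submodule.Quotient.mk_eq_zero K).1 ((Submodule.Quotient.mk_smul K t x).trans hz)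
      refine (Submodule.Quotient.mk_eq_zero K).2 (hk x ?_)
      rw [pow_succ, mul_smul]
      exact this
    have hQ : ∀ a : T.obj (ModuleCat.of B ((X ⧸ K) ⧸ LinearMap.range m)), a = 0 := by
      refine ih (I ⊔ Ideal.span {t}) (lt_of_le_not_ge le_sup_left fun h => htI (h (Ideal.mem_sup_right (Ideal.mem_span_singleton_self t)))) _ ?_
      intro c hc y
      obtain ⟨z, rfl⟩ := Submodule.mkQ_surjective _ y
      obtain ⟨x, rfl⟩ := K.mkQ_surjective z
      obtain ⟨i, hi, s, hs, rfl⟩ := Submodule.mem_sup.1 hc
      obtain ⟨d, rfl⟩ := Ideal.mem_span_singleton'.1 hs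
      rw [← map_smul, ← map_smul, add_smul, hIX i hi, zero_add, Submodule.mkQ_apply, Submodule.Quotient.mk_eq_zero, mul_comm, mul_smul]
      exact ⟨K.mkQ (d • x), by simp [m]; exact smul_comm _ _ _⟩
    have hsurj := (isZero_mid T hex m (LinearMap.range m).mkQ hm (LinearMap.exact_map_mkQ_range m) (Submodule.mkQ_surjective _)).2 hQ
    rw [show T.map (ModuleCat.ofHom m) = ModuleCat.ofHom (algebraMap B A t • LinearMap.id) from hlin (ModuleCat.of B (X ⧸ K)) t] at hsurj
    haveI := hfin (ModuleCat.of B (X ⧸ K)) inferInstance
    have hbot : (⊤ : Submodule A (T.obj (ModuleCat.of B (X ⧸ K)))) = ⊥ := by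
      refine Submodule.eq_bot_of_le_smul_of_le_jacobson_bot (IsLocalRing.maximalIdeal A) _ Module.Finite.fg_top (fun a _ => ?_)
        (IsLocalRing.maximalIdeal_le_jacobson _)
      obtain ⟨b, hb⟩ := hsurj a
      rw [← hb]
      exact Submodule.smul_mem_smul (map_nonunit (algebraMap B A) t ht) trivial
    refine (isZero_mid T hex K.subtype K.mkQ K.injective_subtype (LinearMap.exact_subtype_mkQ K) K.mkQ_surjective).1
      (ih (I ⊔ Ideal.span {t ^ k}) (lt_of_le_not_ge le_sup_left fun h => htI (hp.mem_of_pow_mem k (h (Ideal.mem_sup_right (Ideal.mem_span_singleton_self _))))) K ?_)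
      (fun a => (Submodule.mem_bot A).1 (hbot ▸ Submodule.mem_top))
    rintro c hc ⟨x, hx⟩
    obtain ⟨i, hi, s, hs, rfl⟩ := Submodule.mem_sup.1 hc
    obtain ⟨d, rfl⟩ := Ideal.mem_span_singleton'.1 hs
    apply Subtype.ext
    show (i + d * t ^ k) • x = 0
    rw [add_smul, hIX i hi, zero_add, mul_smul, show t ^ k • x = 0 from hx, smul_zero]

end Groth.Agent.S14418
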