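import Groth.Statements.S14421
-- no helpers

set_option autoImplicit false
universe u v
open CategoryTheory
open HomAlg

namespace Groth.Agent.S14421

open CategoryTheory.Limits

/-- Let φ : K → J be a morphism of cochain complexes of modules over a ring which is surjective in
degree p − 1. Then the map induced on cohomology in degree p is surjective if and only if the map
induced on cocycles in degree p is surjective. (Stated for cochain complexes indexed by the
integers; the published statement is for three-term complexes in degrees p − 1, p, p + 1, which
embed as such complexes.) -/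
theorem result {R : Type u} [Ring R]
    (K J : CochainComplex (ModuleCat.{v} R) ℤ) (φ : K ⟶ J) (p : ℤ) [Epi (φ.f (p - 1))] :
    Epi (HomologicalComplex.homologyMap φ p) ↔ Epi (HomologicalComplex.cyclesMap φ p) := by
  have key : HomologicalComplex.cyclesMap φ p ≫ J.homologyπ p = K.homologyπ p ≫ HomologicalComplex.homologyMap φ p :=
    (HomologicalComplex.homologyπ_naturality φ p).symm
  constructor
  · intro h
    rw [Preadditive.epi_iff_cancel_zero]
    intro T c hc
    have h1 : J.toCycles (p - 1) p ≫ c = 0 := by
      rw [← cancel_epi (φ.f (p - 1)), comp_zero, ← Category.assoc, show φ.f (p - 1) ≫ J.toCycles (p - 1) p = K.toCycles (p - 1) p ≫ HomologicalComplex.cyclesMap φ p by simp [← cancel_mono (J.iCycles p)], Category.assoc, hc, comp_zero]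
    let d : J.homology p ⟶ T := (J.homologyIsCokernel (p - 1) p (by simp)).desc (CokernelCofork.ofπ c h1)
    have hd : J.homologyπ p ≫ d = c := (J.homologyIsCokernel (p - 1) p (by simp)).fac (CokernelCofork.ofπ c h1) WalkingParallelPair.one
    have h2 : HomologicalComplex.homologyMap φ p ≫ d = 0 := by
      rw [← cancel_epi (K.homologyπ p), ← Category.assoc, ← key, Category.assoc, hd, hc, comp_zero]
    rw [← hd, (cancel_epi (HomologicalComplex.homologyMap φ p)).mp (h2.trans comp_zero.symm), comp_zero]
  · intro h
    haveI : Epi (K.homologyπ p ≫ HomologicalComplex.homologyMap φ p) := key ▸ epi_comp _ _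
    exact epi_of_epi (K.homologyπ p) _

end Groth.Agent.S14421
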