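import Groth.Statements.S16420
import Mathlib

set_option autoImplicit false
universe u v
open CAlg

namespace Groth.Agent.S16420
open scoped TensorProduct

theorem exists_retraction {R : Type u} [CommRing R] {M : Type v} [AddCommGroup M] [Module R M] (N : Submodule R M)
    [Module.Projective R (M ⧸ N)] : ∃ π : M →ₗ[R] N, ∀ x : N, π x = x := by
  obtain ⟨s, hs⟩ := Module.projective_lifting_property N.mkQ LinearMap.id N.mkQ_surjective
  have hm : ∀ x : M, ((LinearMap.id : M →ₗ[R] M) - s.comp N.mkQ) x ∈ N := fun x => by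
    rw [← Submodule.Quotient.mk_eq_zero, ← Submodule.mkQ_apply]
    simp only [LinearMap.sub_apply, LinearMap.id_apply, LinearMap.comp_apply, map_sub]
    rw [show N.mkQ (s (N.mkQ x)) = N.mkQ x from LinearMap.congr_fun hs _, sub_self]
  refine ⟨(LinearMap.id - s.comp N.mkQ).codRestrict N hm, fun x => Subtype.ext ?_⟩
  simp [(Submodule.Quotient.mk_eq_zero N).mpr x.2]

theorem mem_smul_of_retraction {R : Type u} [CommRing R] {M : Type v} [AddCommGroup M] [Module R M] (N : Submodule R M)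
    (π : M →ₗ[R] N) (hπ : ∀ x : N, π x = x) (I : Ideal R) {x : M} (hx : x ∈ I • (⊤ : Submodule R M)) (hxN : x ∈ N) :
    x ∈ I • N := by
  have h := Submodule.mem_map_of_mem (f := N.subtype.comp π) hx
  rw [Submodule.map_smul'', show (N.subtype.comp π) x = x from congrArg Subtype.val (hπ ⟨x, hxN⟩)] at h
  refine Submodule.smul_mono le_rfl ?_ h
  rintro _ ⟨y, -, rfl⟩
  exact (π y).2

theorem exists_tmul_of_mem_baseChange {R : Type u} [CommRing R] {M : Type v} [AddCommGroup M] [Module R M]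
    (I : Ideal R) (F : Submodule R M) {t : (R ⧸ I) ⊗[R] M} (ht : t ∈ Submodule.baseChange (R ⧸ I) F) :
    ∃ z ∈ F, (1 : R ⧸ I) ⊗ₜ[R] z = t := by
  rw [Submodule.baseChange_eq_span] at ht
  induction ht using Submodule.span_induction with
  | mem x hx => obtain ⟨z, hz, rfl⟩ := hx; exact ⟨z, hz, rfl⟩
  | zero => exact ⟨0, zero_mem _, TensorProduct.tmul_zero _ _⟩
  | add x y _ _ hx hy =>
    obtain ⟨a, ha, rfl⟩ := hx
    obtain ⟨b, hb, rfl⟩ := hy
    exact ⟨a + b, add_mem ha hb, TensorProduct.tmul_add _ _ _⟩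
  | smul c x _ hx =>
    obtain ⟨a, ha, rfl⟩ := hx
    obtain ⟨r, rfl⟩ := Ideal.Quotient.mk_surjective c
    refine ⟨r • a, F.smul_mem r ha, ?_⟩
    rw [TensorProduct.tmul_smul, ← IsScalarTower.algebraMap_smul (R ⧸ I) r, Ideal.Quotient.algebraMap_eq]

theorem mem_smul_of_tmul_eq_zero {R : Type u} [CommRing R] {M : Type v} [AddCommGroup M] [Module R M]
    (I : Ideal R) {x : M} (h : (1 : R ⧸ I) ⊗ₜ[R] x = 0) : x ∈ I • (⊤ : Submodule R M) := by
  have := congrArg (TensorProduct.quotTensorEquivQuotSMul M I) h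
  rw [map_zero, ← map_one (Ideal.Quotient.mk I), TensorProduct.quotTensorEquivQuotSMul_mk_tmul, one_smul] at this
  exact (Submodule.Quotient.mk_eq_zero _).mp this

theorem tmul_eq_zero_of_mem_smul {R : Type u} [CommRing R] {M : Type v} [AddCommGroup M] [Module R M]
    (I : Ideal R) {x : M} (h : x ∈ I • (⊤ : Submodule R M)) : (1 : R ⧸ I) ⊗ₜ[R] x = 0 := by
  refine Submodule.smul_induction_on h (fun r hr y _ => ?_) (fun a b ha hb => by rw [TensorProduct.tmul_add, ha, hb, add_zero])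
  rw [← TensorProduct.smul_tmul, ← Algebra.algebraMap_eq_smul_one, Ideal.Quotient.algebraMap_eq,
    Ideal.Quotient.eq_zero_iff_mem.mpr hr, TensorProduct.zero_tmul]

open TensorProduct in
/-- For a commutative local Artinian ring R and an exact sequence 0 → H₁ → H → H₂ → 0 of finite free
R-modules, let F₁ ⊆ H₁ and F₂ ⊆ H₂ be submodules with free quotients, 𝔫 an ideal of R of square
zero, R̄ = R/𝔫, and F̄ ⊆ H̄ = R̄ ⊗ H an R̄-submodule with free quotient meeting the image of R̄ ⊗ H₁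
in the image of R̄ ⊗ F₁ and mapping onto the image of R̄ ⊗ F₂; let L be the set of direct summands F
of H with F ∩ H₁ = F₁, with image F̄ in H̄ and with image F₂ in H₂. Then L is a torsor under
Hom_R(F₂, 𝔫(H₁/F₁)), acting as follows: an R-linear u : H₂ → H₁ with u(H₂) ⊆ 𝔫H₁ moves F ∈ L to the
image of F under x ↦ x + f(u(g(x))). Precisely, for F ∈ L: (1) that image again lies in L; (2) it
equals F if and only if u(F₂) ⊆ 𝔫F₁; (3) every F' ∈ L is obtained from F in this way for some such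
u. (The published statement phrases the torsor under the R̄-linear maps from F̄₂ to 𝔫 ⊗ (H̄₁/F̄₁), a
group identified with the maps u as above modulo those with u(F₂) ⊆ 𝔫F₁, and describes the action
through a lift F₂ → 𝔫 ⊗ H₁ composed with F → F/F₁ ≅ F₂; restricted to F this is x ↦ f(u(g(x))).) -/
theorem result
    (R : Type u) [CommRing R] [IsArtinianRing R] [IsLocalRing R]
    (H₁ : Type v) (H : Type v) (H₂ : Type v)
    [AddCommGroup H₁] [Module R H₁] [AddCommGroup H] [Module R H] [AddCommGroup H₂] [Module R H₂]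
    [Module.Free R H₁] [Module.Finite R H₁] [Module.Free R H] [Module.Finite R H]
    [Module.Free R H₂] [Module.Finite R H₂]
    (f : H₁ →ₗ[R] H) (g : H →ₗ[R] H₂) (hf : Function.Injective f) (hg : Function.Surjective g)
    (hfg : Function.Exact f g)
    (F₁ : Submodule R H₁) (F₂ : Submodule R H₂) [Module.Free R (H₁ ⧸ F₁)] [Module.Free R (H₂ ⧸ F₂)]
    (𝔫 : Ideal R) (hn : 𝔫 * 𝔫 = ⊥)
    (Fb : Submodule (R ⧸ 𝔫) ((R ⧸ 𝔫) ⊗[R] H))
    [Module.Free (R ⧸ 𝔫) (((R ⧸ 𝔫) ⊗[R] H) ⧸ Fb)]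
    (h1 : Fb ⊓ LinearMap.range (f.baseChange (R ⧸ 𝔫)) =
      Submodule.map (f.baseChange (R ⧸ 𝔫)) (F₁.baseChange (R ⧸ 𝔫)))
    (h2 : Submodule.map (g.baseChange (R ⧸ 𝔫)) Fb = F₂.baseChange (R ⧸ 𝔫))
    (F F' : Submodule R H)
    (hF : (∃ C : Submodule R H, IsCompl (F) C) ∧
      (F) ⊓ LinearMap.range f = Submodule.map f F₁ ∧
      Submodule.baseChange (R ⧸ 𝔫) (F) = Fb ∧ Submodule.map g (F) = F₂)
    (hF' : (∃ C : Submodule R H, IsCompl (F') C) ∧
      (F') ⊓ LinearMap.range f = Submodule.map f F₁ ∧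
      Submodule.baseChange (R ⧸ 𝔫) (F') = Fb ∧ Submodule.map g (F') = F₂) :
    (∀ u : H₂ →ₗ[R] H₁, (∀ y : H₂, u y ∈ 𝔫 • (⊤ : Submodule R H₁)) →
      (∃ C : Submodule R H, IsCompl (Submodule.map (LinearMap.id + f ∘ₗ u ∘ₗ g) F) C) ∧
      (Submodule.map (LinearMap.id + f ∘ₗ u ∘ₗ g) F) ⊓ LinearMap.range f = Submodule.map f F₁ ∧
      Submodule.baseChange (R ⧸ 𝔫) (Submodule.map (LinearMap.id + f ∘ₗ u ∘ₗ g) F) = Fb ∧ Submodule.map g (Submodule.map (LinearMap.id + f ∘ₗ u ∘ₗ g) F) = F₂) ∧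
    (∀ u : H₂ →ₗ[R] H₁, (∀ y : H₂, u y ∈ 𝔫 • (⊤ : Submodule R H₁)) →
      (Submodule.map (LinearMap.id + f ∘ₗ u ∘ₗ g) F = F ↔ ∀ y ∈ F₂, u y ∈ 𝔫 • F₁)) ∧
    (∃ u : H₂ →ₗ[R] H₁, (∀ y : H₂, u y ∈ 𝔫 • (⊤ : Submodule R H₁)) ∧
      F' = Submodule.map (LinearMap.id + f ∘ₗ u ∘ₗ g) F) := by
  obtain ⟨π₁, hπ₁⟩ := exists_retraction F₁
  obtain ⟨π₂, hπ₂⟩ := exists_retraction F₂
  obtain ⟨hFc, hF1, hFb, hFg⟩ := hF
  obtain ⟨hF'c, hF'1, hF'b, hF'g⟩ := hF'
  have hgf : ∀ a, g (f a) = 0 := fun a => (hfg (f a)).mpr ⟨a, rfl⟩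
  have hfF : ∀ a ∈ F₁, f a ∈ F := fun a ha => (hF1.ge (Submodule.mem_map_of_mem ha)).1
  have hfF' : ∀ a ∈ F₁, f a ∈ F' := fun a ha => (hF'1.ge (Submodule.mem_map_of_mem ha)).1
  let φ : (H₂ →ₗ[R] H₁) → (H →ₗ[R] H) := fun u => LinearMap.id + f ∘ₗ u ∘ₗ g
  have hφ : ∀ u x, φ u x = x + f (u (g x)) := fun u x => rfl
  have hgφ : ∀ u x, g (φ u x) = g x := fun u x => by rw [hφ, map_add, hgf, add_zero]
  have hφφ : ∀ u x, φ (-u) (φ u x) = x := fun u x => by
    rw [hφ, hgφ, hφ, LinearMap.neg_apply, map_neg, add_neg_cancel_right]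
  let Φ : (H₂ →ₗ[R] H₁) → (H ≃ₗ[R] H) := fun u =>
    { φ u with
      invFun := φ (-u)
      left_inv := hφφ u
      right_inv := fun x => by have := hφφ (-u) x; rwa [neg_neg] at this }
  have hφrange : ∀ u x, x ∈ LinearMap.range f → φ u x = x := by
    rintro u _ ⟨a, rfl⟩
    rw [hφ, hgf, map_zero, map_zero, add_zero]
  refine ⟨fun u hu => ⟨?_, ?_, ?_, ?_⟩, fun u hu => ⟨fun heq y hy => ?_, fun hu' => ?_⟩, ?_⟩
  · obtain ⟨C, hC⟩ := hFc
    exact ⟨C.map (φ u), (Submodule.orderIsoMapComap (Φ u)).isCompl_iff.mp hC⟩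
  · rw [← hF1]
    refine le_antisymm ?_ fun x hx => ⟨⟨x, hx.1, hφrange u x hx.2⟩, hx.2⟩
    rintro _ ⟨⟨x, hx, rfl⟩, hr⟩
    have hx' : x ∈ LinearMap.range f := by
      rw [← hfg.linearMap_ker_eq, LinearMap.mem_ker, ← hgφ u x, hφ]
      exact (hfg _).mpr (by simpa [hφ] using hr)
    show φ u x ∈ _
    rw [hφrange u x hx']
    exact ⟨hx, hx'⟩
  · rw [← hFb, Submodule.baseChange_eq_span, Submodule.baseChange_eq_span]
    congr 1
    ext t
    simp only [Submodule.map_coe, Set.mem_image, SetLike.mem_coe, exists_exists_and_eq_and]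
    have hone : ∀ x, TensorProduct.mk R (R ⧸ 𝔫) H 1 (φ u x) = TensorProduct.mk R (R ⧸ 𝔫) H 1 x := fun x => by
      rw [hφ, map_add]
      refine add_eq_left.mpr (tmul_eq_zero_of_mem_smul 𝔫 ?_)
      have := Submodule.mem_map_of_mem (f := f) (hu (g x))
      rw [Submodule.map_smul''] at this
      exact Submodule.smul_mono le_rfl le_top this
    exact exists_congr fun x => and_congr_right fun _ => by rw [← hone x]
  · rw [← Submodule.map_comp, show g ∘ₗ (LinearMap.id + f ∘ₗ u ∘ₗ g) = g from LinearMap.ext (hgφ u), hFg]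
  · obtain ⟨x, hx, rfl⟩ := hFg.ge hy
    have h1' : f (u (g x)) ∈ F := by
      have hx2 : φ u x ∈ F := heq.le (Submodule.mem_map_of_mem hx)
      simpa [hφ] using sub_mem hx2 hx
    obtain ⟨a, ha, hfa⟩ := hF1.le ⟨h1', ⟨_, rfl⟩⟩
    exact mem_smul_of_retraction F₁ π₁ hπ₁ 𝔫 (hu _) (hf hfa ▸ ha)
  · have hmem : ∀ v : H₂ →ₗ[R] H₁, (∀ y ∈ F₂, v y ∈ 𝔫 • F₁) → ∀ x ∈ F, φ v x ∈ F := fun v hv x hx =>
      add_mem hx (hfF _ (Submodule.smul_le_right (hv _ (hFg.le (Submodule.mem_map_of_mem hx)))))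
    refine le_antisymm ?_ fun x hx => ⟨φ (-u) x, hmem (-u) (fun y hy => neg_mem (hu' y hy)) x hx, (Φ u).right_inv x⟩
    rintro _ ⟨x, hx, rfl⟩
    exact hmem u hu' x hx
  · haveI : Module.Projective R F₂ :=
      Module.Projective.of_split F₂.subtype π₂ (LinearMap.ext hπ₂)
    let gF : F →ₗ[R] F₂ := (g.comp F.subtype).codRestrict F₂ fun x => hFg.le (Submodule.mem_map_of_mem x.2)
    have hgF : Function.Surjective gF := fun y => by
      obtain ⟨x, hx, hxy⟩ := hFg.ge y.2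
      exact ⟨⟨x, hx⟩, Subtype.ext hxy⟩
    obtain ⟨σ, hσ⟩ := Module.projective_lifting_property gF LinearMap.id hgF
    let Ψ : (𝔫 • (⊤ : Submodule R H₁) : Submodule R H₁) × F' →ₗ[R] H :=
      LinearMap.coprod (-(f.comp (Submodule.subtype _))) F'.subtype
    obtain ⟨s, hs⟩ := Module.projective_lifting_property g LinearMap.id hg
    let r : H →ₗ[R] H₁ := (LinearEquiv.ofInjective f hf).symm.toLinearMap.comp ((LinearMap.id - s.comp g).codRestrict (LinearMap.range f) fun x => by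
      rw [← hfg.linearMap_ker_eq]
      simp [show g (s (g x)) = g x from LinearMap.congr_fun hs _])
    have hr : ∀ a, r (f a) = a := fun a => by
      refine (LinearEquiv.ofInjective f hf).injective ?_
      simp only [r, LinearMap.comp_apply, LinearEquiv.coe_coe, LinearEquiv.apply_symm_apply]
      exact Subtype.ext (by simp [hgf])
    have hmem : ∀ x ∈ F, x ∈ LinearMap.range Ψ := by
      intro x hx
      have hx1 : (1 : R ⧸ 𝔫) ⊗ₜ[R] x ∈ Submodule.baseChange (R ⧸ 𝔫) F' := by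
        rw [hF'b, ← hFb]
        exact Submodule.tmul_mem_baseChange_of_mem _ hx
      obtain ⟨z, hz, hzx⟩ := exists_tmul_of_mem_baseChange 𝔫 F' hx1
      have hn' : x - z ∈ 𝔫 • (⊤ : Submodule R H) :=
        mem_smul_of_tmul_eq_zero 𝔫 (by rw [TensorProduct.tmul_sub, hzx, sub_self])
      have hgn : g (x - z) ∈ 𝔫 • F₂ := by
        refine mem_smul_of_retraction F₂ π₂ hπ₂ 𝔫 ?_ ?_
        · have := Submodule.mem_map_of_mem (f := g) hn'
          rw [Submodule.map_smul''] at this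
          exact Submodule.smul_mono le_rfl le_top this
        · rw [map_sub]
          exact sub_mem (hFg.le (Submodule.mem_map_of_mem hx)) (hF'g.le (Submodule.mem_map_of_mem hz))
      rw [← hF'g, ← Submodule.map_smul''] at hgn
      obtain ⟨n', hn'F, hn'g⟩ := hgn
      obtain ⟨a, ha⟩ : x - z - n' ∈ LinearMap.range f := by
        rw [← hfg.linearMap_ker_eq, LinearMap.mem_ker, map_sub g (x - z), hn'g, sub_self]
      have han : a ∈ 𝔫 • (⊤ : Submodule R H₁) := by
        rw [← hr a, ha]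
        have := Submodule.mem_map_of_mem (f := r) (sub_mem hn' (Submodule.smul_mono le_rfl le_top hn'F))
        rw [Submodule.map_smul''] at this
        exact Submodule.smul_mono le_rfl le_top this
      refine ⟨(⟨-a, neg_mem han⟩, ⟨z + n', add_mem hz (Submodule.smul_le_right hn'F)⟩), ?_⟩
      simp [Ψ, ha]
    obtain ⟨w, hw⟩ := Module.projective_lifting_property Ψ.rangeRestrict
      ((F.subtype.comp σ).codRestrict (LinearMap.range Ψ) fun y => hmem _ (σ y).2) Ψ.surjective_rangeRestrict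
    let u : H₂ →ₗ[R] H₁ := (Submodule.subtype _).comp ((LinearMap.fst R _ _).comp (w.comp π₂))
    have hu : ∀ y : F₂, (σ y : H) + f (u y) = ((w y).2 : H) := fun y => by
      have := congrArg Subtype.val (LinearMap.congr_fun hw y)
      simp only [LinearMap.comp_apply, LinearMap.codRestrict_apply, Submodule.subtype_apply, LinearMap.coprod_apply,
        LinearMap.neg_apply, LinearMap.rangeRestrict, Ψ] at this
      simp only [u, LinearMap.comp_apply, LinearMap.fst_apply, Submodule.subtype_apply, hπ₂]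
      rw [← this]
      abel
    have hgσ : ∀ y : F₂, g (σ y : H) = y := fun y => congrArg Subtype.val (LinearMap.congr_fun hσ y)
    refine ⟨u, fun y => ((w (π₂ y)).1).2, le_antisymm (fun z hz => ?_) ?_⟩
    · let y : F₂ := ⟨g z, hF'g.le (Submodule.mem_map_of_mem hz)⟩
      have hd : z - φ u (σ y) ∈ Submodule.map f F₁ := by
        refine hF'1.le ⟨sub_mem hz ?_, hfg.linearMap_ker_eq ▸ ?_⟩
        · rw [hφ, hgσ, hu]; exact ((w y).2).2
        · simp [hgφ, hgσ, y]
      obtain ⟨a, ha, had⟩ := hd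
      refine ⟨(σ y : H) + f a, add_mem (σ y).2 (hfF a ha), ?_⟩
      show φ u _ = z
      rw [map_add, hφrange u (f a) ⟨a, rfl⟩, had]
      abel
    · rintro _ ⟨x, hx, rfl⟩
      let y : F₂ := ⟨g x, hFg.le (Submodule.mem_map_of_mem hx)⟩
      obtain ⟨a, ha, had⟩ := hF1.le (show x - (σ y : H) ∈ F ⊓ LinearMap.range f from
        ⟨sub_mem hx (σ y).2, hfg.linearMap_ker_eq ▸ by simp [hgσ, y]⟩)
      show φ u x ∈ F'
      rw [hφ, show g x = (y : H₂) from rfl, show x + f (u y) = f a + ((σ y : H) + f (u y)) by rw [had]; abel, hu]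
      exact add_mem (hfF' a ha) ((w y).2).2

end Groth.Agent.S16420
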