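import Groth.Statements.S14423
import Groth.Agent.CAlgH.TorBridge
import Groth.Agent.S16420
import Mathlib

set_option autoImplicit false
universe u
open CategoryTheory
open CAlg

namespace Groth.Agent.S14423

set_option backward.isDefEq.respectTransparency false in
theorem ker_tensor_inj {A : Type u} [CommRing A] {F M Q : Type u} [AddCommGroup F] [Module A F] [Module.Flat A F]
    [AddCommGroup M] [Module A M] [AddCommGroup Q] [Module A Q] (g : F →ₗ[A] M) (hg : Function.Surjective g)
    (h : FlatCrit.TorZero A Q M) : Function.Injective ((LinearMap.ker g).subtype.lTensor Q) :=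
  h.lTensor_injective Subtype.val_injective (LinearMap.exact_subtype_ker_map g) hg



open TensorProduct in
theorem self_mem_smul {A : Type u} [CommRing A] {ι : Type u} (m : Ideal A) (K : Submodule A (ι →₀ A))
    (hKm : ∀ x ∈ K, ∀ i, x i ∈ m) (hTor : Function.Injective (LinearMap.lTensor (A ⧸ m) K.subtype)) :
    ∀ z : K, z ∈ (m • ⊤ : Submodule A K) := fun z => by
  have h2 : ((1 : A ⧸ m) ⊗ₜ[A] z) = 0 := by
    refine (injective_iff_map_eq_zero _).1 hTor _ ?_
    rw [LinearMap.lTensor_tmul]
    show (1 : A ⧸ m) ⊗ₜ[A] (z : ι →₀ A) = 0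
    rw [← Finsupp.sum_single (z : ι →₀ A), Finsupp.sum, TensorProduct.tmul_sum]
    refine Finset.sum_eq_zero fun i _ => ?_
    rw [← Finsupp.smul_single_one i ((z : ι →₀ A) i), ← TensorProduct.smul_tmul, Algebra.smul_def, mul_one,
      Ideal.Quotient.algebraMap_eq, Ideal.Quotient.eq_zero_iff_mem.2 (hKm _ z.2 i), TensorProduct.zero_tmul]
  exact S16420.mem_smul_of_tmul_eq_zero (M := ↥K) m h2

/-- Graded freeness criterion: let k be a field, S = k[x_0, …, x_n] with its standard grading by degree,
and M a finitely generated graded S-module. If Tor_1^S(M, k) = 0, where k = S/S_+ (S modulo the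
ideal of polynomials with zero constant term) and Tor_1^S(M, ·) is the first left derived functor of
M ⊗_S ·, then M is free with a basis of homogeneous elements, i.e. M is isomorphic as a graded
module to a finite direct sum of shifted copies S(−d_i). (Here the module is graded in non-negative
degrees; the published statement allows any integer degrees.) -/
theorem result (k : Type u) [Field k] (n : ℕ)
    (M : Type u) [AddCommGroup M] [Module (MvPolynomial (Fin (n + 1)) k) M]
    [Module.Finite (MvPolynomial (Fin (n + 1)) k) M]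
    (ℳ : ℕ → AddSubgroup M)
    [SetLike.GradedSMul (MvPolynomial.homogeneousSubmodule (Fin (n + 1)) k) ℳ]
    [DirectSum.Decomposition ℳ]
    (h : Limits.IsZero (((Tor (ModuleCat.{u} (MvPolynomial (Fin (n + 1)) k)) 1).obj
      (ModuleCat.of (MvPolynomial (Fin (n + 1)) k) M)).obj
      (ModuleCat.of (MvPolynomial (Fin (n + 1)) k)
        (MvPolynomial (Fin (n + 1)) k ⧸
          RingHom.ker (MvPolynomial.constantCoeff : MvPolynomial (Fin (n + 1)) k →+* k))))) :
    ∃ (ι : Type u) (b : Module.Basis ι (MvPolynomial (Fin (n + 1)) k) M),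
      ∀ i, SetLike.IsHomogeneousElem ℳ (b i) := by
  classical
  let A := MvPolynomial (Fin (n + 1)) k
  let 𝒜 := MvPolynomial.homogeneousSubmodule (Fin (n + 1)) k
  let m : Ideal A := RingHom.ker (MvPolynomial.constantCoeff : A →+* k)
  haveI hmax : m.IsMaximal := RingHom.ker_isMaximal_of_surjective _ (fun c => ⟨MvPolynomial.C c, MvPolynomial.constantCoeff_C _ c⟩)
  letI := Ideal.Quotient.field m
  let π : M →ₗ[A] M ⧸ (m • ⊤ : Submodule A M) := Submodule.mkQ _
  -- homogeneous elements span the quotient
  let H : Set (M ⧸ (m • ⊤ : Submodule A M)) := π '' {x | SetLike.IsHomogeneousElem ℳ x}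
  have hHspan : ⊤ ≤ Submodule.span (A ⧸ m) H := by
    rintro y -
    obtain ⟨x, rfl⟩ := Submodule.mkQ_surjective _ y
    rw [← DirectSum.sum_support_decompose ℳ x, map_sum]
    exact Submodule.sum_mem _ fun i _ => Submodule.subset_span ⟨_, ⟨i, SetLike.coe_mem _⟩, rfl⟩
  obtain ⟨b, hbH, hbspan, hbli⟩ := exists_linearIndependent (A ⧸ m) H
  choose v hvhom hv using fun y : b => hbH y.2
  let N : Submodule A M := Submodule.span A (Set.range v)
  have hN1 : ∀ x : M, ∃ y ∈ N, x - y ∈ (m • ⊤ : Submodule A M) := by
    intro x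
    have hx : π x ∈ (Submodule.span (A ⧸ m) b).restrictScalars A := by
      rw [hbspan]; exact hHspan trivial
    have e : (Submodule.span (A ⧸ m) b).restrictScalars A = Submodule.map π N := by
      rw [Submodule.restrictScalars_span A (A ⧸ m) Ideal.Quotient.mk_surjective, Submodule.map_span, ← Set.range_comp]
      congr 1
      ext z
      exact ⟨fun hz => ⟨⟨z, hz⟩, hv _⟩, fun ⟨y, hy⟩ => by rw [← hy, Function.comp_apply, hv]; exact y.2⟩
    rw [e] at hx
    obtain ⟨y, hy, hyx⟩ := hx
    exact ⟨y, hy, (Submodule.Quotient.eq _).1 hyx.symm⟩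
  have hsm : ∀ (i j : ℕ) (a : A) (x : M), x ∈ ℳ j → MvPolynomial.homogeneousComponent i a • x ∈ ℳ (i + j) :=
    fun i j a x hx => (inferInstance : SetLike.GradedSMul 𝒜 ℳ).smul_mem (i := i) (j := j) (MvPolynomial.homogeneousComponent_mem i a) hx
  have hNgr : ∀ y ∈ N, ∀ d, (DirectSum.decompose ℳ y d : M) ∈ N := by
    intro y hy
    induction hy using Submodule.span_induction with
    | mem z hz =>
      obtain ⟨i, rfl⟩ := hz
      intro d
      obtain ⟨e, he⟩ := hvhom i
      rcases eq_or_ne e d with rfl | hne
      · rw [DirectSum.decompose_of_mem_same ℳ he]; exact Submodule.subset_span ⟨i, rfl⟩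
      · rw [DirectSum.decompose_of_mem_ne ℳ he hne]; exact N.zero_mem
    | zero => intro d; simp
    | add a c _ _ ha hc => intro d; rw [DirectSum.decompose_add, DirectSum.add_apply, AddSubgroup.coe_add]; exact add_mem (ha d) (hc d)
    | smul a z _ hz =>
      intro d
      rw [← MvPolynomial.sum_homogeneousComponent a, Finset.sum_smul, DirectSum.decompose_sum, DFinsupp.finsetSum_apply, AddSubgroup.val_finsetSum]
      refine Submodule.sum_mem _ fun i _ => ?_
      rw [← DirectSum.sum_support_decompose ℳ z, Finset.smul_sum, DirectSum.decompose_sum, DFinsupp.finsetSum_apply, AddSubgroup.val_finsetSum]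
      refine Submodule.sum_mem _ fun j _ => ?_
      have hh := hsm i j a _ (SetLike.coe_mem (DirectSum.decompose ℳ z j))
      rcases eq_or_ne (i + j) d with rfl | hne
      · rw [DirectSum.decompose_of_mem_same ℳ hh]; exact N.smul_mem _ (hz j)
      · rw [DirectSum.decompose_of_mem_ne ℳ hh hne]; exact N.zero_mem
  have hN : ∀ d, ∀ x ∈ ℳ d, x ∈ N := by
    intro d
    induction d using Nat.strong_induction_on with
    | _ d ih =>
      intro x hx
      obtain ⟨y, hy, hxy⟩ := hN1 x
      have hmd : ∀ w ∈ (m • ⊤ : Submodule A M), (DirectSum.decompose ℳ w d : M) ∈ N := by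
        intro w hw
        refine Submodule.smul_induction_on hw (fun a ha z _ => ?_) (fun p q hp hq => by
          rw [DirectSum.decompose_add, DirectSum.add_apply, AddSubgroup.coe_add]; exact add_mem hp hq)
        rw [← MvPolynomial.sum_homogeneousComponent a, Finset.sum_smul, DirectSum.decompose_sum, DFinsupp.finsetSum_apply, AddSubgroup.val_finsetSum]
        refine Submodule.sum_mem _ fun i _ => ?_
        rcases Nat.eq_zero_or_pos i with rfl | hi
        · rw [MvPolynomial.homogeneousComponent_zero, show MvPolynomial.coeff 0 a = 0 from ha, map_zero, zero_smul]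
          simp
        · rw [← DirectSum.sum_support_decompose ℳ z, Finset.smul_sum, DirectSum.decompose_sum, DFinsupp.finsetSum_apply, AddSubgroup.val_finsetSum]
          refine Submodule.sum_mem _ fun j _ => ?_
          have hh := hsm i j a _ (SetLike.coe_mem (DirectSum.decompose ℳ z j))
          rcases eq_or_ne (i + j) d with rfl | hne
          · rw [DirectSum.decompose_of_mem_same ℳ hh]
            exact N.smul_mem _ (ih j (by omega) _ (SetLike.coe_mem _))
          · rw [DirectSum.decompose_of_mem_ne ℳ hh hne]; exact N.zero_mem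
      have := add_mem (hmd _ hxy) (hNgr y hy d)
      rwa [← AddSubgroup.coe_add, ← DirectSum.add_apply, ← DirectSum.decompose_add, sub_add_cancel, DirectSum.decompose_of_mem_same ℳ hx] at this
  have hNtop : N = ⊤ := Submodule.eq_top_iff'.2 fun x => by
    rw [← DirectSum.sum_support_decompose ℳ x]
    exact Submodule.sum_mem _ fun i _ => hN i _ (SetLike.coe_mem _)
  let g : (b →₀ A) →ₗ[A] M := Finsupp.linearCombination A v
  have hg : Function.Surjective g := LinearMap.range_eq_top.1 (by rw [Finsupp.range_linearCombination]; exact hNtop)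
  let K := LinearMap.ker g
  have hKm : ∀ x ∈ K, ∀ i, x i ∈ m := by
    intro x hx i
    have h0 : ∑ j ∈ x.support, Ideal.Quotient.mk m (x j) • (j : M ⧸ (m • ⊤ : Submodule A M)) = 0 := by
      have := congrArg π (LinearMap.mem_ker.1 hx)
      rw [Finsupp.linearCombination_apply, Finsupp.sum, map_sum, map_zero] at this
      rw [← this]
      refine Finset.sum_congr rfl fun j _ => ?_
      rw [map_smul, hv]; rfl
    by_cases hi : i ∈ x.support
    · exact Ideal.Quotient.eq_zero_iff_mem.1 (linearIndependent_iff'.1 hbli x.support _ h0 i hi)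
    · rw [Finsupp.notMem_support_iff.1 hi]; exact m.zero_mem
  have hT0 : FlatCrit.TorZero A M (A ⧸ m) := (CAlgH.TorBridge.isZero_tor_one_iff _ _).1 h
  have hT1 : FlatCrit.TorZero A (A ⧸ m) M := CAlgH.TorBridge.torZero_symm hT0
  have hTor : Function.Injective (K.subtype.lTensor (A ⧸ m)) :=
    ker_tensor_inj g hg hT1
  have hKK : ∀ z : K, z ∈ (m • ⊤ : Submodule A K) := self_mem_smul m K hKm hTor
  have hpow : ∀ j : ℕ, ∀ z : K, ∀ i, (z : b →₀ A) i ∈ m ^ j := by
    intro j
    induction j with
    | zero => intros; simp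
    | succ j ih =>
      intro z i
      refine Submodule.smul_induction_on (hKK z) (fun a ha w _ => ?_) (fun p q hp hq => by
        rw [Submodule.coe_add, Finsupp.add_apply]; exact add_mem hp hq)
      rw [Submodule.coe_smul, Finsupp.smul_apply, smul_eq_mul, pow_succ']
      exact Ideal.mul_mem_mul ha (ih w i)
  have hK0 : K = ⊥ := by
    rw [eq_bot_iff]
    intro z hz
    refine (Submodule.mem_bot A).2 (Finsupp.ext fun i => ?_)
    rw [Finsupp.zero_apply]
    by_contra hne
    obtain ⟨e, he⟩ := MvPolynomial.ne_zero_iff.1 hne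
    have hmle : m ≤ MvPolynomial.idealOfVars (Fin (n + 1)) k := fun q hq => by
      rw [← pow_one (MvPolynomial.idealOfVars (Fin (n + 1)) k), MvPolynomial.mem_pow_idealOfVars_iff']
      intro x hx
      rw [(Finsupp.degree_eq_zero_iff x).1 (Nat.lt_one_iff.1 hx)]
      exact hq
    exact he ((MvPolynomial.mem_pow_idealOfVars_iff' _ _).1 (Ideal.pow_right_mono hmle _ (hpow (e.degree + 1) ⟨z, hz⟩ i)) e (Nat.lt_succ_self _))
  let e : (b →₀ A) ≃ₗ[A] M := LinearEquiv.ofBijective g ⟨LinearMap.ker_eq_bot.1 hK0, hg⟩
  refine ⟨b, Module.Basis.ofRepr e.symm, fun i => ?_⟩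
  have : (Module.Basis.ofRepr e.symm) i = v i := by
    show e.symm.symm (Finsupp.single i 1) = v i
    simp [e, g]
  rw [this]
  exact hvhom i

end Groth.Agent.S14423
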