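import Groth.Statements.S14426
import Groth.Agent.KoszulCx.Depth
-- import your own Groth.Agent.* helpers here

set_option autoImplicit false
universe u
open Koszul3

namespace Groth.Agent.S14426

open CategoryTheory CategoryTheory.Limits in
/-- Let (R, m) be a Noetherian local ring, M a nonzero finitely generated R-module and x_1, …, x_n
elements of m generating the ideal a. Then depth(a, M) ≤ n; the Koszul cohomology H^p(x; M) vanishes
for every p < depth(a, M); and H^r(x; M) is nonzero for r = depth(a, M). (Cohomological indexing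
with H^n(x; M) = M/(x)M; in homological indexing this reads H_i = 0 for i > n − r and H_{n−r} ≠ 0.
Koszul complex realised by iterated mapping cones, as in the prelude.) -/
theorem result {R : Type u} [CommRing R] [IsNoetherianRing R] [IsLocalRing R]
    (M : Type u) [AddCommGroup M] [Module R M] [Module.Finite R M] [Nontrivial M]
    (xs : List R) (hxs : ∀ x ∈ xs, x ∈ IsLocalRing.maximalIdeal R) :
    LocCoh.idealDepth (Ideal.span {x | x ∈ xs}) M ≤ xs.length ∧
      (∀ p : ℕ, (p : ℕ∞) < LocCoh.idealDepth (Ideal.span {x | x ∈ xs}) M → IsZero (CohIII.koszulH xs (ModuleCat.of R M) p)) ∧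
      (∀ r : ℕ, LocCoh.idealDepth (Ideal.span {x | x ∈ xs}) M = r → ¬ IsZero (CohIII.koszulH xs (ModuleCat.of R M) r)) := by
  open KoszulCx in
  have hI : Ideal.span {x | x ∈ xs} ≤ IsLocalRing.maximalIdeal R := Ideal.span_le.2 hxs
  have hne := Depth.smul_top_ne_top_of_isLocalRing (M := M) hI
  obtain ⟨d, hd⟩ := Depth.exists_natCast_eq_idealDepth (M := M) hne
  obtain ⟨hlow, hnot⟩ := KoszulCx.ex_and_not_ex xs d (ModuleCat.of R M) inferInstance hne hd
  rw [hd]
  refine ⟨?_, fun p hp => ?_, fun r hr => ?_⟩
  · by_contra h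
    rw [not_le, Nat.cast_lt] at h
    refine hnot fun p' r' _ _ x _ => ⟨0, (KoszulCx.subsingleton_X_pos (ModuleCat.of R M) xs _ (by omega)).elim _ _⟩
  · exact (KoszulCech.ExtCech.exactAt_of_ex (hlow _ (by rw [Nat.cast_lt] at hp; omega))).isZero_homology
  · obtain rfl : d = r := by exact_mod_cast hr
    intro hz
    refine hnot fun p' r' hp' hr' x hx => ?_
    have he : (CohIII.koszulCx (ModuleCat.of R M) xs).ExactAt ((d : ℤ) - xs.length) :=
      (HomologicalComplex.exactAt_iff_isZero_homology _ _).2 hz
    rw [HomologicalComplex.exactAt_iff' _ p' _ r' (by simp; omega) (by simp; omega), ShortComplex.moduleCat_exact_iff] at he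
    exact he x hx

end Groth.Agent.S14426
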