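import Groth.Statements.S14427
import Groth.Agent.PlanePts.Basic

set_option autoImplicit false
universe u
open CAlgX

namespace Groth.Agent.S14427

/-- Let k be a field and Λ a set of n ≥ 3 nonzero vectors of k^3 which are pairwise linearly
independent, i.e. n distinct k-rational points of the projective plane. Then the space of
homogeneous forms of degree n − 1 in k[x_0, x_1, x_2] vanishing at every point of Λ — the global
sections of I_Λ(n − 1) — has dimension C(n+1, 2) − n over k, the same for all such Λ. (The published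
statement is over an algebraically closed field; this row allows any field and k-rational points,
which is all its argument uses.) -/
theorem result (k : Type u) [Field k] (n : ℕ) (hn : 3 ≤ n)
    (Λ : Finset (Fin 3 → k)) (hcard : Λ.card = n) (h0 : ∀ v ∈ Λ, v ≠ 0)
    (hdist : ∀ v ∈ Λ, ∀ w ∈ Λ, v ≠ w → LinearIndependent k ![v, w]) :
    Module.finrank k ↥(MvPolynomial.homogeneousSubmodule (Fin 3) k (n - 1) ⊓ ⨅ v ∈ Λ, LinearMap.ker (MvPolynomial.aeval v).toLinearMap) = Nat.choose (n + 1) 2 - n := by
  classical
  set V := MvPolynomial.homogeneousSubmodule (Fin 3) k (n - 1) with hV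
  have hdim : Module.finrank k V = Nat.choose (n + 1) 2 := by
    rw [hV, Groth.Agent.PlanePts.finrank_hom k 2 (n - 1), show n - 1 + 2 = n + 1 by omega]
  haveI : Module.Finite k V := Module.finite_of_finrank_pos (by rw [hdim]; exact Nat.choose_pos (by omega))
  let E : V →ₗ[k] (Λ → k) :=
    LinearMap.pi (fun v : Λ => (MvPolynomial.aeval v.1).toLinearMap.comp V.subtype)
  have hE : Function.Surjective E := by
    intro c
    have hF : ∀ v : Λ, ∃ F : V, (∀ w : Λ, w ≠ v → E F w = 0) ∧ E F v ≠ 0 := by
      intro v
      obtain ⟨F, hFh, hF0, hFv⟩ := Groth.Agent.PlanePts.exists_form (Λ.erase v.1) v.1 (fun w hw =>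
        Groth.Agent.PlanePts.notMem_span_singleton (hdist v.1 v.2 w (Finset.mem_of_mem_erase hw)
          (Finset.ne_of_mem_erase hw).symm))
      refine ⟨⟨F, ?_⟩, fun w hw => hF0 w.1 (Finset.mem_erase.2 ⟨fun h => hw (Subtype.ext h), w.2⟩), hFv⟩
      rw [Finset.card_erase_of_mem v.2, hcard] at hFh
      exact hFh
    choose F hF0 hFv using hF
    refine ⟨∑ v, (c v / E (F v) v) • F v, funext fun w => ?_⟩
    rw [map_sum, Finset.sum_apply, Finset.sum_eq_single w]
    · rw [map_smul, Pi.smul_apply, smul_eq_mul, div_mul_cancel₀ _ (hFv w)]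
    · intro v _ hvw
      rw [map_smul, Pi.smul_apply, hF0 v w (Ne.symm hvw), smul_zero]
    · intro hw
      exact absurd (Finset.mem_univ w) hw
  have hker : Submodule.map V.subtype (LinearMap.ker E) =
      V ⊓ ⨅ v ∈ Λ, LinearMap.ker (MvPolynomial.aeval v).toLinearMap := by
    ext f
    simp only [Submodule.mem_map, LinearMap.mem_ker, Submodule.mem_inf, Submodule.mem_iInf]
    constructor
    · rintro ⟨g, hg, rfl⟩
      exact ⟨g.2, fun v hv => congr_fun hg ⟨v, hv⟩⟩
    · rintro ⟨hfV, hf⟩
      exact ⟨⟨f, hfV⟩, funext fun v => hf v.1 v.2, rfl⟩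
  rw [← hker, Submodule.finrank_map_subtype_eq]
  have h1 := LinearMap.finrank_range_add_finrank_ker E
  rw [LinearMap.range_eq_top.2 hE, finrank_top, Module.finrank_pi, Fintype.card_coe, hcard, hdim] at h1
  omega

end Groth.Agent.S14427
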