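import Groth.Statements.S14428
import Groth.Agent.PlanePts.Basic

set_option autoImplicit false
universe u
open CAlgX

namespace Groth.Agent.S14428

/-- Let k be a field, n ≥ 3, and let Λ and Λ' be two sets of n nonzero, pairwise linearly independent
vectors of k^3 (n distinct k-rational points of the projective plane each), neither lying on a line
(no nonzero linear form vanishes on all of Λ, resp. Λ'). If the spaces of homogeneous forms of
degree n − 1 vanishing on Λ and on Λ' coincide, then Λ and Λ' define the same set of points of the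
plane: the assignment Λ ↦ H^0(P^2, I_Λ(n − 1)), with values in a Grassmannian, is injective on
non-collinear sets. (The published statement is over an algebraically closed field; this row allows
any field and k-rational points, which is all its argument uses.) -/
theorem result (k : Type u) [Field k] (n : ℕ) (hn : 3 ≤ n)
    (Λ Λ' : Finset (Fin 3 → k)) (hcard : Λ.card = n) (hcard' : Λ'.card = n)
    (h0 : ∀ v ∈ Λ, v ≠ 0) (h0' : ∀ v ∈ Λ', v ≠ 0)
    (hdist : ∀ v ∈ Λ, ∀ w ∈ Λ, v ≠ w → LinearIndependent k ![v, w])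
    (hdist' : ∀ v ∈ Λ', ∀ w ∈ Λ', v ≠ w → LinearIndependent k ![v, w])
    (hline : ¬ ∃ ℓ : (Fin 3 → k) →ₗ[k] k, ℓ ≠ 0 ∧ ∀ v ∈ Λ, ℓ v = 0)
    (hline' : ¬ ∃ ℓ : (Fin 3 → k) →ₗ[k] k, ℓ ≠ 0 ∧ ∀ v ∈ Λ', ℓ v = 0)
    (heq : (MvPolynomial.homogeneousSubmodule (Fin 3) k (n - 1) ⊓ ⨅ v ∈ Λ, LinearMap.ker (MvPolynomial.aeval v).toLinearMap) = (MvPolynomial.homogeneousSubmodule (Fin 3) k (n - 1) ⊓ ⨅ v ∈ Λ', LinearMap.ker (MvPolynomial.aeval v).toLinearMap)) :
    (∀ v ∈ Λ, ∃ w ∈ Λ', ∃ c : k, v = c • w) ∧ (∀ w ∈ Λ', ∃ v ∈ Λ, ∃ c : k, w = c • v) := by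
  classical
  have main : ∀ (A B : Finset (Fin 3 → k)), B.card = n →
      (∀ v ∈ A, v ≠ 0) → (∀ v ∈ B, v ≠ 0) →
      (¬ ∃ ℓ : (Fin 3 → k) →ₗ[k] k, ℓ ≠ 0 ∧ ∀ v ∈ B, ℓ v = 0) →
      (∀ v ∈ B, ∀ w ∈ B, v ≠ w → LinearIndependent k ![v, w]) →
      ((MvPolynomial.homogeneousSubmodule (Fin 3) k (n - 1) ⊓ ⨅ v ∈ B, LinearMap.ker (MvPolynomial.aeval v).toLinearMap) ≤ ⨅ v ∈ A, LinearMap.ker (MvPolynomial.aeval v).toLinearMap) →
      ∀ v ∈ A, ∃ w ∈ B, ∃ c : k, v = c • w := by
    intro A B hB hA0 hB0 hline hdist hle v hv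
    by_contra hnot
    push Not at hnot
    have hvw : ∀ w ∈ B, v ∉ Submodule.span k {w} := by
      intro w hw hmem
      obtain ⟨c, hc⟩ := Submodule.mem_span_singleton.1 hmem
      exact hnot w hw c hc.symm
    obtain ⟨w₁, hw₁⟩ : B.Nonempty := Finset.card_pos.1 (by omega)
    obtain ⟨w₂, hw₂, hne⟩ := Finset.exists_mem_ne (show 1 < B.card by omega) w₁
    -- a pair of points of B whose line avoids v
    obtain ⟨a, ha, b, hb, hab, hva⟩ : ∃ a ∈ B, ∃ b ∈ B, a ≠ b ∧ v ∉ Submodule.span k {a, b} := by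
      by_contra hall
      push Not at hall
      obtain ⟨w₃, hw₃, hw₃'⟩ : ∃ w₃ ∈ B, w₃ ∉ Submodule.span k {w₁, w₂} := by
        by_contra hsub
        push Not at hsub
        have hlt : Submodule.span k {w₁, w₂} < (⊤ : Submodule k (Fin 3 → k)) := by
          refine lt_top_iff_ne_top.2 fun htop => ?_
          have h1 := finrank_span_finset_le_card (R := k) ({w₁, w₂} : Finset (Fin 3 → k))
          rw [Set.finrank, Finset.coe_pair, htop, finrank_top, Module.finrank_fin_fun] at h1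
          have h2 : ({w₁, w₂} : Finset (Fin 3 → k)).card ≤ 2 := Finset.card_le_two
          omega
        obtain ⟨ℓ, hℓ0, hℓ⟩ := Submodule.exists_dual_map_eq_bot_of_lt_top hlt inferInstance
        refine hline ⟨ℓ, hℓ0, fun w hw => ?_⟩
        have : ℓ w ∈ Submodule.map ℓ (Submodule.span k {w₁, w₂}) := Submodule.mem_map_of_mem (hsub w hw)
        rwa [hℓ, Submodule.mem_bot] at this
      have h13 : w₁ ≠ w₃ := fun h => hw₃' (h ▸ Submodule.subset_span (Set.mem_insert _ _))
      have h12 := hall w₁ hw₁ w₂ hw₂ hne.symm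
      have h13' := hall w₁ hw₁ w₃ hw₃ h13
      rw [Submodule.mem_span_pair] at h12 h13'
      obtain ⟨p, q, hpq⟩ := h12
      obtain ⟨p', q', hpq'⟩ := h13'
      by_cases hq' : q' = 0
      · rw [hq', zero_smul, add_zero] at hpq'
        exact hvw w₁ hw₁ (Submodule.mem_span_singleton.2 ⟨p', hpq'⟩)
      · refine hw₃' (Submodule.mem_span_pair.2 ⟨q'⁻¹ * (p - p'), q'⁻¹ * q, ?_⟩)
        have h4 : q' • w₃ = (p - p') • w₁ + q • w₂ := by
          rw [sub_smul, eq_comm, ← sub_eq_zero]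
          linear_combination (norm := module) hpq - hpq'
        rw [mul_smul, mul_smul, ← smul_add, ← h4, inv_smul_smul₀ hq']
    obtain ⟨ℓ, hℓv, hℓ⟩ := Submodule.exists_dual_map_eq_bot_of_notMem hva inferInstance
    have hℓab : ℓ a = 0 ∧ ℓ b = 0 := by
      constructor <;>
      · refine (Submodule.mem_bot k).1 (hℓ ▸ Submodule.mem_map_of_mem (Submodule.subset_span ?_))
        simp
    obtain ⟨F, hFh, hF0, hFv⟩ := Groth.Agent.PlanePts.exists_form ((B.erase a).erase b) v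
      (fun w hw => hvw w (Finset.mem_of_mem_erase (Finset.mem_of_mem_erase hw)))
    rw [Finset.card_erase_of_mem (Finset.mem_erase.2 ⟨hab.symm, hb⟩), Finset.card_erase_of_mem ha, hB] at hFh
    have hG := (Groth.Agent.PlanePts.isHomogeneous_linForm ℓ).mul hFh
    rw [show 1 + (n - 1 - 1) = n - 1 by omega] at hG
    have hmem : Groth.Agent.PlanePts.linForm ℓ * F ∈ MvPolynomial.homogeneousSubmodule (Fin 3) k (n - 1) ⊓ ⨅ v ∈ B, LinearMap.ker (MvPolynomial.aeval v).toLinearMap := by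
      refine Submodule.mem_inf.2 ⟨hG, ?_⟩
      simp only [Submodule.mem_iInf, LinearMap.mem_ker]
      intro w hw
      change MvPolynomial.aeval w (Groth.Agent.PlanePts.linForm ℓ * F) = 0
      rw [map_mul, Groth.Agent.PlanePts.aeval_linForm]
      by_cases hwa : w = a
      · rw [hwa, hℓab.1, zero_mul]
      by_cases hwb : w = b
      · rw [hwb, hℓab.2, zero_mul]
      rw [hF0 w (Finset.mem_erase.2 ⟨hwb, Finset.mem_erase.2 ⟨hwa, hw⟩⟩), mul_zero]
    have h5 := hle hmem
    simp only [Submodule.mem_iInf, LinearMap.mem_ker] at h5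
    have h6 : MvPolynomial.aeval v (Groth.Agent.PlanePts.linForm ℓ * F) = 0 := h5 v hv
    rw [map_mul, Groth.Agent.PlanePts.aeval_linForm, mul_eq_zero] at h6
    exact h6.elim hℓv hFv
  exact ⟨main Λ Λ' hcard' h0 h0' hline' hdist' (heq ▸ inf_le_right),
    main Λ' Λ hcard h0' h0 hline hdist (heq.symm ▸ inf_le_right)⟩

end Groth.Agent.S14428
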