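import Groth.Statements.S14434
import Groth.Agent.CAlgH.TorBridge
import Groth.Agent.S14414
-- import your own Groth.Agent.* helpers here

set_option autoImplicit false
universe u
open CAlg

open CategoryTheory

namespace Groth.Agent.S14434

/-- Let R be a commutative ring, M an R-module and x ∈ R a non-zero-divisor on R and on M. Then
Tor_i^R(M, R/(x)) = 0 for all i ≥ 1 (Tor computed as the left derived functors of the tensor product
on R-modules). -/
theorem result {R : Type u} [CommRing R] (M : Type u) [AddCommGroup M] [Module R M]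
    (x : R) (hxR : IsSMulRegular R x) (hxM : IsSMulRegular M x) (i : ℕ) (hi : 1 ≤ i) :
    Subsingleton (DRing.Tor R i M (R ⧸ Ideal.span {x})) := by
  obtain rfl | hi2 : i = 1 ∨ 1 < i := by omega
  · refine ModuleCat.subsingleton_of_isZero
      ((Groth.Agent.CAlgH.TorBridge.isZero_tor_one_iff (ModuleCat.of R M) (ModuleCat.of R _)).2
        ((Groth.Agent.FlatCrit.torZero_quotient_iff _).2 ?_))
    let φ : R →ₗ[R] ↥(Ideal.span ({x} : Set R)) :=
      (LinearMap.toSpanSingleton R _ ⟨x, Ideal.mem_span_singleton_self x⟩)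
    have hφ : Function.Surjective φ := fun ⟨y, hy⟩ => by
      obtain ⟨c, rfl⟩ := Ideal.mem_span_singleton'.1 hy
      exact ⟨c, Subtype.ext (by simp [φ])⟩
    intro a b hab
    obtain ⟨a', rfl⟩ := LinearMap.lTensor_surjective M hφ a
    obtain ⟨b', rfl⟩ := LinearMap.lTensor_surjective M hφ b
    obtain ⟨m, rfl⟩ := (TensorProduct.rid R M).symm.surjective a'
    obtain ⟨m', rfl⟩ := (TensorProduct.rid R M).symm.surjective b'
    have h2 := congrArg (TensorProduct.rid R M) hab
    simp [φ] at h2
    rw [hxM h2]
  · let S : ShortComplex (ModuleCat.{u} R) := ShortComplex.mk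
      (ModuleCat.ofHom (LinearMap.mulLeft R x))
      (ModuleCat.ofHom (Ideal.span ({x} : Set R)).mkQ)
      (by
        ext
        exact (Submodule.Quotient.mk_eq_zero _).2 (Ideal.mem_span_singleton'.2 ⟨1, by show 1 * x = x * 1; ring⟩))
    have hS : S.ShortExact := by
      haveI : Mono S.f := (ModuleCat.mono_iff_injective _).2 hxR
      haveI : Epi S.g := (ModuleCat.epi_iff_surjective _).2 (Submodule.mkQ_surjective _)
      refine { exact := (ShortComplex.ShortExact.moduleCat_exact_iff_function_exact _).2 ?_ }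
      intro y
      refine Iff.trans (Submodule.Quotient.mk_eq_zero _) ?_
      rw [Ideal.mem_span_singleton']
      exact ⟨fun ⟨c, hc⟩ => ⟨c, by show x * c = y; rw [← hc, mul_comm]⟩, fun ⟨c, hc⟩ => ⟨c, by rw [← hc, mul_comm]; rfl⟩⟩
    haveI : Projective (ModuleCat.of R R) := (IsProjective.iff_projective (R := R) R).1 inferInstance
    haveI : HasProjectiveDimensionLE (ModuleCat.of R (R ⧸ Ideal.span {x})) 1 :=
      hS.hasProjectiveDimensionLT_X₃ 1 (inferInstanceAs (HasProjectiveDimensionLT (ModuleCat.of R R) 1))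
        (inferInstanceAs (HasProjectiveDimensionLT (ModuleCat.of R R) 2))
    exact ModuleCat.subsingleton_of_isZero
      (Groth.Agent.S14414.result R (ModuleCat.of R M) (ModuleCat.of R (R ⧸ Ideal.span {x})) 1 i hi2)

end Groth.Agent.S14434
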