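import Groth.Statements.S14436
import Mathlib

set_option autoImplicit false
universe u
open CAlg

namespace Groth.Agent.S14436

/-- Let L/K be a finitely generated field extension which is separable in the sense that it has a
transcendence basis a_1, …, a_n over which L is a (finite) separable extension of K(a_1, …, a_n).
Then dim_L Ω_{L/K} = n, the transcendence degree of L over K. -/
theorem result (K L : Type u) [Field K] [Field L] [Algebra K L]
    (hfg : ∃ s : Finset L, IntermediateField.adjoin K (s : Set L) = ⊤)
    (n : ℕ) (a : Fin n → L) (ha : IsTranscendenceBasis K a)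
    (hsep : Algebra.IsSeparable ↥(IntermediateField.adjoin K (Set.range a)) L) :
    Module.finrank L (Ω[L⁄K]) = n := by
  let e := AlgebraicIndependent.aevalEquivField ha.1
  let F := IntermediateField.adjoin K (Set.range a)
  letI : Algebra (MvPolynomial (Fin n) K) F :=
    (e.toAlgHom.comp (IsScalarTower.toAlgHom K (MvPolynomial (Fin n) K) (FractionRing (MvPolynomial (Fin n) K)))).toRingHom.toAlgebra
  haveI : IsFractionRing (MvPolynomial (Fin n) K) F :=
    IsLocalization.isLocalization_of_algEquiv (nonZeroDivisors (MvPolynomial (Fin n) K))
      (AlgEquiv.ofRingEquiv (f := e.toRingEquiv) (fun x => rfl))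
  letI : Algebra (MvPolynomial (Fin n) K) L :=
    ((algebraMap F L).comp (algebraMap (MvPolynomial (Fin n) K) F)).toAlgebra
  haveI : IsScalarTower (MvPolynomial (Fin n) K) F L := IsScalarTower.of_algebraMap_eq fun _ => rfl
  haveI : IsScalarTower K (MvPolynomial (Fin n) K) L := IsScalarTower.of_algebraMap_eq fun x => by
    show algebraMap K L x = algebraMap F L (e (algebraMap _ _ (algebraMap K (MvPolynomial (Fin n) K) x)))
    rw [← IsScalarTower.algebraMap_apply K (MvPolynomial (Fin n) K) (FractionRing _), e.commutes]
    rfl
  haveI : Algebra.IsSeparable F L := hsep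
  haveI : Algebra.FormallyEtale (MvPolynomial (Fin n) K) F :=
    Algebra.FormallyEtale.of_isLocalization (nonZeroDivisors _)
  haveI : Algebra.FormallyEtale F L := Algebra.FormallyEtale.of_isSeparable F L
  haveI : Algebra.FormallyEtale (MvPolynomial (Fin n) K) L :=
    Algebra.FormallyEtale.comp (MvPolynomial (Fin n) K) F L
  rw [← (KaehlerDifferential.tensorKaehlerEquivOfFormallyEtale K (MvPolynomial (Fin n) K) L).finrank_eq,
    Module.finrank_eq_card_basis ((KaehlerDifferential.mvPolynomialBasis K (Fin n)).baseChange L),
    Fintype.card_fin]

end Groth.Agent.S14436
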