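import Groth.Statements.S14437
import Mathlib

set_option autoImplicit false
universe u
open CAlg

open TensorProduct

namespace Groth.Agent.S14437

/-- Let k be a field and A → B a local homomorphism of Noetherian local k-algebras with residue fields k
(k → A/m_A and k → B/m_B bijective) — for instance the local rings at a closed point x and at its
image y under a morphism of schemes of finite type over an algebraically closed k. Then dim_k
(Ω_{B/A} ⊗_B B/m_B) + rank(m_A/m_A² → m_B/m_B²) = dim_k (m_B/m_B²): the fibre at x of the sheaf of
relative differentials is dual to the kernel of the tangent map T_x X → T_y Y. (The published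
statement is the canonical isomorphism (Ω_{X/Y})_(x)^∨ ≅ ker(df_x); stated here as the resulting
equality of dimensions. Its second assertion, dim (Ω_{X/Y})_(x) ≥ r when the fibre has an
r-dimensional component through x, is not included.) -/
theorem result (k : Type u) [Field k]
    (A B : Type u) [CommRing A] [CommRing B] [IsLocalRing A] [IsLocalRing B] [IsNoetherianRing A] [IsNoetherianRing B]
    [Algebra k A] [Algebra k B] [Algebra A B] [IsScalarTower k A B]
    (hle : IsLocalRing.maximalIdeal A ≤ Ideal.comap (IsScalarTower.toAlgHom k A B) (IsLocalRing.maximalIdeal B))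
    (hA : Function.Bijective (algebraMap k (IsLocalRing.ResidueField A)))
    (hB : Function.Bijective (algebraMap k (IsLocalRing.ResidueField B))) :
    Module.finrank (IsLocalRing.ResidueField B) (TensorProduct B (IsLocalRing.ResidueField B) (Ω[B⁄A])) +
      Module.finrank k ↥(LinearMap.range (Ideal.mapCotangent (IsLocalRing.maximalIdeal A) (IsLocalRing.maximalIdeal B)
        (IsScalarTower.toAlgHom k A B) hle)) =
      Module.finrank k (IsLocalRing.CotangentSpace B) := by
  classical
  set m := IsLocalRing.maximalIdeal B with hm
  let K := IsLocalRing.ResidueField B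
  let φA := IsScalarTower.toAlgHom k A B
  let T := K ⊗[B] Ω[B⁄A]
  have hk : ∀ b : B, ∃ c : k, b - algebraMap k B c ∈ m := by
    intro b
    obtain ⟨c, hc⟩ := hB.2 (IsLocalRing.residue B b)
    refine ⟨c, ?_⟩
    rw [hm, ← IsLocalRing.residue_eq_zero_iff, map_sub, sub_eq_zero, ← hc]
    rfl
  choose e he using hk
  have huniq : ∀ (b : B) (c : k), b - algebraMap k B c ∈ m → e b = c := by
    intro b c hc
    by_contra hne
    have h2 : algebraMap k B (e b - c) ∈ m := by
      rw [map_sub]; simpa using sub_mem hc (he b)
    exact (IsLocalRing.maximalIdeal.isMaximal B).ne_top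
      (Ideal.eq_top_of_isUnit_mem _ h2 ((Ne.isUnit (sub_ne_zero.2 hne)).map _))
  have hDk : ∀ c : k, KaehlerDifferential.D A B (algebraMap k B c) = 0 := fun c => by
    rw [IsScalarTower.algebraMap_apply k A B, Derivation.map_algebraMap]
  -- the range as a `B`-submodule
  set W := LinearMap.range (Ideal.mapCotangent (IsLocalRing.maximalIdeal A) m φA hle) with hW
  have hsm : ∀ (b : B) (q : m.Cotangent), b • q = e b • q := by
    intro b q
    obtain ⟨x, rfl⟩ := Ideal.toCotangent_surjective m q
    rw [← map_smul, ← IsScalarTower.algebraMap_smul B (e b) (m.toCotangent x), ← map_smul,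
      Ideal.toCotangent_eq]
    simp only [SetLike.val_smul, smul_eq_mul, ← sub_mul]
    rw [pow_two]
    exact Ideal.mul_mem_mul (he b) x.2
  let W' : Submodule B m.Cotangent :=
    { carrier := W
      add_mem' := fun ha hb => W.add_mem ha hb
      zero_mem' := W.zero_mem
      smul_mem' := fun b q hq => by
        show b • q ∈ W
        rw [hsm]; exact W.smul_mem _ hq }
  -- the map to the fibre of differentials
  let f : m →ₗ[B] T :=
    { toFun := fun x => 1 ⊗ₜ KaehlerDifferential.D A B (x : B)
      map_add' := fun x y => by simp [TensorProduct.tmul_add]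
      map_smul' := fun b x => by
        simp only [SetLike.val_smul, smul_eq_mul, Derivation.leibniz, TensorProduct.tmul_add,
          TensorProduct.tmul_smul, RingHom.id_apply]
        rw [add_eq_left, TensorProduct.smul_tmul']
        have : (x : B) • (1 : K) = 0 := by
          rw [Algebra.smul_def, mul_one]
          exact (IsLocalRing.residue_eq_zero_iff _).2 x.2
        rw [this, TensorProduct.zero_tmul] }
  have hkill : ∀ a ∈ m, ∀ t : T, a • t = 0 := by
    intro a ha t
    rw [← IsScalarTower.algebraMap_smul K a t,
      show algebraMap B K a = 0 from (IsLocalRing.residue_eq_zero_iff _).2 ha, zero_smul]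
  let φ : m.Cotangent →ₗ[B] T := Submodule.liftQ _ f (by
    rw [Submodule.smul_le]
    intro a ha x _
    rw [LinearMap.mem_ker, map_smul]
    exact hkill a ha _)
  have hφ : ∀ x : m, φ (m.toCotangent x) = 1 ⊗ₜ KaehlerDifferential.D A B (x : B) := fun x => rfl
  have hWker : W' ≤ LinearMap.ker φ := by
    rintro _ ⟨q, rfl⟩
    obtain ⟨a, rfl⟩ := Ideal.toCotangent_surjective _ q
    rw [Ideal.mapCotangent_toCotangent, LinearMap.mem_ker, hφ]
    simp [φA]
  let φ' : (m.Cotangent ⧸ W') →ₗ[B] T := W'.liftQ φ hWker
  -- the inverse
  have hmem : ∀ b : B, b - algebraMap k B (e b) ∈ m := he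
  have he1 : e 1 = 1 := huniq _ _ (by simp)
  let δ : Derivation A B (m.Cotangent ⧸ W') :=
    Derivation.mk'
      { toFun := fun b => W'.mkQ (m.toCotangent ⟨_, hmem b⟩)
        map_add' := fun b b' => by
          rw [← map_add, ← map_add]
          congr 2
          refine Subtype.ext ?_
          have : e (b + b') = e b + e b' := huniq _ _ (by
            rw [map_add, add_sub_add_comm]; exact add_mem (he b) (he b'))
          show b + b' - algebraMap k B (e (b + b')) = (b - algebraMap k B (e b)) + (b' - algebraMap k B (e b'))
          rw [this, map_add]; ring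
        map_smul' := fun a b => by
          obtain ⟨c, hc⟩ := hA.2 (IsLocalRing.residue A a)
          have hac : a - algebraMap k A c ∈ IsLocalRing.maximalIdeal A := by
            rw [← IsLocalRing.residue_eq_zero_iff, map_sub, sub_eq_zero, ← hc]; rfl
          have hacB : φA (a - algebraMap k A c) ∈ m := hle hac
          have hea : e (algebraMap A B a) = c := huniq _ _ (by
            simpa [φA, IsScalarTower.algebraMap_apply k A B] using hacB)
          have heab : e (a • b) = c * e b := huniq _ _ (by
            have : a • b - algebraMap k B (c * e b) =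
                φA (a - algebraMap k A c) * b + algebraMap k B c * (b - algebraMap k B (e b)) := by
              simp [φA, Algebra.smul_def, IsScalarTower.algebraMap_apply k A B]; ring
            rw [this]
            exact add_mem (Ideal.mul_mem_right _ _ hacB) (Ideal.mul_mem_left _ _ (he b)))
          show _ = a • W'.mkQ _
          rw [← IsScalarTower.algebraMap_smul B a (W'.mkQ _), ← map_smul]
          refine (Submodule.Quotient.eq _).2 ?_
          rw [← map_smul, ← map_sub]
          have : (⟨_, hmem (a • b)⟩ : m) - algebraMap A B a • ⟨_, hmem b⟩ =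
              (algebraMap k B (e b)) • (⟨_, hacB⟩ : m) := Subtype.ext (by
            show a • b - algebraMap k B (e (a • b)) - algebraMap A B a * (b - algebraMap k B (e b)) =
              algebraMap k B (e b) * φA (a - algebraMap k A c)
            rw [heab]
            simp [φA, Algebra.smul_def, IsScalarTower.algebraMap_apply k A B]; ring)
          rw [this, map_smul]
          refine W'.smul_mem _ ⟨(IsLocalRing.maximalIdeal A).toCotangent ⟨_, hac⟩, ?_⟩
          rw [Ideal.mapCotangent_toCotangent] }
      (fun b b' => by
        show W'.mkQ _ = b • W'.mkQ _ + b' • W'.mkQ _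
        rw [← map_smul W'.mkQ, ← map_smul W'.mkQ, ← map_add, ← map_smul m.toCotangent, ← map_smul m.toCotangent, ← map_add]
        congr 1
        rw [Ideal.toCotangent_eq]
        have hebb : e (b * b') = e b * e b' := huniq _ _ (by
          have : b * b' - algebraMap k B (e b * e b') =
              (b - algebraMap k B (e b)) * b' + algebraMap k B (e b) * (b' - algebraMap k B (e b')) := by
            rw [map_mul]; ring
          rw [this]
          exact add_mem (Ideal.mul_mem_right _ _ (he b)) (Ideal.mul_mem_left _ _ (he b')))
        simp only [Submodule.coe_add, SetLike.val_smul, smul_eq_mul]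
        have : b * b' - algebraMap k B (e (b * b')) -
            (b * (b' - algebraMap k B (e b')) + b' * (b - algebraMap k B (e b))) =
            -((b - algebraMap k B (e b)) * (b' - algebraMap k B (e b'))) := by
          rw [hebb, map_mul]; ring
        rw [this, pow_two]
        exact neg_mem (Ideal.mul_mem_mul (he b) (he b')))
  let g0 : Ω[B⁄A] →ₗ[B] m.Cotangent ⧸ W' := δ.liftKaehlerDifferential
  have hg0 : m • (⊤ : Submodule B Ω[B⁄A]) ≤ LinearMap.ker g0 := by
    rw [Submodule.smul_le]
    intro a ha x _
    rw [LinearMap.mem_ker, map_smul]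
    obtain ⟨q, hq⟩ := W'.mkQ_surjective (g0 x)
    obtain ⟨y, rfl⟩ := Ideal.toCotangent_surjective m q
    rw [← hq, ← map_smul, ← map_smul, show m.toCotangent (a • y) = 0 from
      (Ideal.toCotangent_eq_zero _ _).2 (by rw [SetLike.val_smul, smul_eq_mul, pow_two]; exact Ideal.mul_mem_mul ha y.2),
      map_zero]
  let g : T →ₗ[B] m.Cotangent ⧸ W' := (Submodule.liftQ _ g0 hg0) ∘ₗ
    (TensorProduct.quotTensorEquivQuotSMul Ω[B⁄A] m).toLinearMap
  have hinj : Function.Injective φ' := by
    have key : ∀ x : m, g (φ' (W'.mkQ (m.toCotangent x))) = W'.mkQ (m.toCotangent x) := by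
      intro x
      show g (φ (m.toCotangent x)) = _
      rw [hφ]
      show Submodule.liftQ _ g0 hg0 ((TensorProduct.quotTensorEquivQuotSMul Ω[B⁄A] m)
        ((Ideal.Quotient.mk m 1) ⊗ₜ KaehlerDifferential.D A B (x : B))) = _
      rw [TensorProduct.quotTensorEquivQuotSMul_mk_tmul, one_smul, Submodule.liftQ_apply]
      show δ.liftKaehlerDifferential (KaehlerDifferential.D A B (x : B)) = _
      rw [Derivation.liftKaehlerDifferential_comp_D]
      show W'.mkQ _ = _
      congr 2
      refine Subtype.ext ?_
      show (x : B) - algebraMap k B (e x) = x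
      rw [huniq x 0 (by simp), map_zero, sub_zero]
    intro q q' h
    obtain ⟨q, rfl⟩ := W'.mkQ_surjective q
    obtain ⟨q', rfl⟩ := W'.mkQ_surjective q'
    obtain ⟨x, rfl⟩ := Ideal.toCotangent_surjective m q
    obtain ⟨x', rfl⟩ := Ideal.toCotangent_surjective m q'
    rw [← key x, ← key x', h]
  have hsurj : Function.Surjective φ' := by
    intro t
    induction t using TensorProduct.induction_on with
    | zero => exact ⟨0, map_zero _⟩
    | add a b ha hb =>
      obtain ⟨a, rfl⟩ := ha; obtain ⟨b, rfl⟩ := hb; exact ⟨a + b, map_add _ _ _⟩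
    | tmul c ω =>
      obtain ⟨b, rfl⟩ := IsLocalRing.residue_surjective c
      suffices h : ∃ q, φ' q = (1 : K) ⊗ₜ ω by
        obtain ⟨q, hq⟩ := h
        refine ⟨b • q, ?_⟩
        rw [map_smul, hq, TensorProduct.smul_tmul', Algebra.smul_def, mul_one]
        rfl
      have hω : ω ∈ Submodule.span B (Set.range (KaehlerDifferential.D A B)) := by
        rw [KaehlerDifferential.span_range_derivation]; trivial
      induction hω using Submodule.span_induction with
      | mem _ hx =>
        obtain ⟨x, rfl⟩ := hx
        refine ⟨W'.mkQ (m.toCotangent ⟨_, hmem x⟩), ?_⟩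
        show W'.liftQ φ hWker (Submodule.Quotient.mk _) = _
        rw [Submodule.liftQ_apply, hφ, map_sub, hDk, sub_zero]
      | zero => exact ⟨0, by rw [map_zero, TensorProduct.tmul_zero]⟩
      | add x y _ _ hx hy =>
        obtain ⟨x', hx'⟩ := hx; obtain ⟨y', hy'⟩ := hy
        exact ⟨x' + y', by rw [map_add, hx', hy', TensorProduct.tmul_add]⟩
      | smul a x _ hx =>
        obtain ⟨x', hx'⟩ := hx
        exact ⟨a • x', by rw [map_smul, hx', TensorProduct.tmul_smul]⟩
  let eT : (m.Cotangent ⧸ W) ≃ₗ[k] T :=
    { (LinearEquiv.ofBijective φ' ⟨hinj, hsurj⟩).restrictScalars k with }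
  have hK1 : Module.finrank k K = 1 := by
    rw [← Module.finrank_self k]
    exact (LinearEquiv.ofBijective (Algebra.linearMap k K) hB).finrank_eq.symm
  have hT : Module.finrank K T = Module.finrank k T := by
    rw [← Module.finrank_mul_finrank k K T, hK1, one_mul]
  haveI : Module.Finite k K :=
    Module.Finite.equiv (LinearEquiv.ofBijective (Algebra.linearMap k K) hB)
  haveI : Module.Finite K (IsLocalRing.CotangentSpace B) := inferInstance
  haveI : IsScalarTower k K (IsLocalRing.CotangentSpace B) := IsScalarTower.of_algebraMap_smul fun c q => by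
    rw [IsScalarTower.algebraMap_apply k B K, IsScalarTower.algebraMap_smul, IsScalarTower.algebraMap_smul]
  haveI : Module.Finite k (IsLocalRing.CotangentSpace B) := Module.Finite.trans K _
  show Module.finrank K T + Module.finrank k ↥W = Module.finrank k m.Cotangent
  rw [hT, ← eT.finrank_eq]
  exact Submodule.finrank_quotient_add_finrank W

end Groth.Agent.S14437
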