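import Groth.Statements.S14438
import Mathlib
import Groth.Agent.CAlgT1.LengthLoc

set_option autoImplicit false
universe u
open CAlg

namespace Groth.Agent.S14438

set_option maxHeartbeats 2000000 in
/-- Let (A, m) be a local ring, B a commutative A-algebra which is free of finite rank d as an A-module,
and assume that for every maximal ideal n of B containing mB the induced map of residue fields A/m →
B/n is bijective (as for the points of a fibre of a finite flat morphism of varieties over an
algebraically closed field). Then the multiplicities of the points of the fibre add up to the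
degree: the sum over all such n of the length of the B_n-module (B/mB)_n equals d. -/
theorem result (A B : Type u) [CommRing A] [IsLocalRing A] [CommRing B] [Algebra A B]
    [Module.Free A B] [Module.Finite A B] (d : ℕ) (hd : Module.finrank A B = d)
    (hres : ∀ (n : Ideal B) [n.IsMaximal] (h : Ideal.map (algebraMap A B) (IsLocalRing.maximalIdeal A) ≤ n),
      Function.Bijective (Ideal.quotientMap n (algebraMap A B) (Ideal.map_le_iff_le_comap.mp h))) :
    finsum (fun n : {n : MaximalSpectrum B // Ideal.map (algebraMap A B) (IsLocalRing.maximalIdeal A) ≤ n.asIdeal} =>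
      Module.length (Localization.AtPrime n.1.asIdeal)
        (LocalizedModule n.1.asIdeal.primeCompl (B ⧸ Ideal.map (algebraMap A B) (IsLocalRing.maximalIdeal A)))) = (d : ℕ∞) := by
  classical
  let m := IsLocalRing.maximalIdeal A
  let mB := m.map (algebraMap A B)
  have hover : ∀ n : MaximalSpectrum B, n.asIdeal.comap (algebraMap A B) = m := fun n => by
    haveI := n.isMaximal
    exact IsLocalRing.eq_maximalIdeal (Ideal.isMaximal_comap_of_isIntegral_of_isMaximal n.asIdeal)
  have hle : ∀ n : MaximalSpectrum B, mB ≤ n.asIdeal := fun n =>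
    Ideal.map_le_iff_le_comap.2 (hover n).ge
  letI : Field (A ⧸ m) := Ideal.Quotient.field m
  haveI : Module.Finite A (B ⧸ mB) := Module.Finite.of_surjective ((Submodule.mkQ mB).restrictScalars A) (Submodule.mkQ_surjective _)
  haveI : Module.Finite (A ⧸ m) (B ⧸ mB) := Module.Finite.of_restrictScalars_finite A _ _
  haveI : IsArtinianRing (B ⧸ mB) := isArtinian_of_tower (A ⧸ m) inferInstance
  haveI : Finite (MaximalSpectrum B) := by
    refine Finite.of_injective (fun n : MaximalSpectrum B => (⟨n.asIdeal.map (Ideal.Quotient.mk mB), by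
      haveI := n.isMaximal
      exact Ideal.IsMaximal.map_of_surjective_of_ker_le Ideal.Quotient.mk_surjective (by rw [Ideal.mk_ker]; exact hle n)⟩ : MaximalSpectrum (B ⧸ mB))) ?_
    intro n n' h
    have h1 := congrArg (fun q : MaximalSpectrum (B ⧸ mB) => q.asIdeal.comap (Ideal.Quotient.mk mB)) h
    simp only [Ideal.comap_map_of_surjective' _ Ideal.Quotient.mk_surjective, Ideal.mk_ker, sup_eq_left.2 (hle n),
      sup_eq_left.2 (hle n')] at h1
    exact MaximalSpectrum.ext h1
  have hfin : ∀ n : MaximalSpectrum B, Module.Finite (A ⧸ n.asIdeal.comap (algebraMap A B)) (B ⧸ n.asIdeal) := fun n =>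
    haveI : Module.Finite A (B ⧸ n.asIdeal) :=
      Module.Finite.of_surjective ((Submodule.mkQ n.asIdeal).restrictScalars A) (Submodule.mkQ_surjective _)
    haveI : IsScalarTower A (A ⧸ n.asIdeal.comap (algebraMap A B)) (B ⧸ n.asIdeal) :=
      .of_algebraMap_eq fun _ => rfl
    Module.Finite.of_restrictScalars_finite A _ _
  have hlen : Module.length A (B ⧸ mB) = (d : ℕ∞) := by
    rw [Module.length_eq_of_surjective (R := A ⧸ m) (S := A) (M := B ⧸ mB) Ideal.Quotient.mk_surjective,
      Module.length_eq_finrank]
    congr 1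
    rw [← hd]
    exact IsLocalRing.finrank_quotient_map (R := A) (S := B)
  have hfl : IsFiniteLength B (B ⧸ mB) := by
    rw [← Module.length_ne_top_iff]
    have h := Submodule.length_le_length_restrictScalars (R := B) A (⊤ : Submodule B (B ⧸ mB))
    rw [Module.length_top, Submodule.restrictScalars_top, Module.length_top, hlen] at h
    exact ne_top_of_le_ne_top (ENat.coe_ne_top d) h
  have hsum := Groth.Agent.CAlgT1.length_eq_sum hover hfin (B ⧸ mB) hfl
  rw [← hlen, hsum]
  rw [← finsum_comp_equiv (Equiv.subtypeUnivEquiv hle)]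
  refine finsum_congr fun n => ?_
  have h1 : Module.finrank (A ⧸ n.1.asIdeal.comap (algebraMap A B)) (B ⧸ n.1.asIdeal) = 1 := by
    haveI : (n.1.asIdeal.comap (algebraMap A B)).IsMaximal := by rw [hover]; exact IsLocalRing.maximalIdeal.isMaximal A
    haveI := n.1.isMaximal
    letI := Ideal.Quotient.field (n.1.asIdeal.comap (algebraMap A B))
    have hb := hres n.1.asIdeal n.2
    have hs : Function.Surjective (algebraMap (A ⧸ n.1.asIdeal.comap (algebraMap A B)) (B ⧸ n.1.asIdeal)) := by
      intro z
      obtain ⟨w, hw⟩ := hb.2 z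
      obtain ⟨a, rfl⟩ := Ideal.Quotient.mk_surjective w
      exact ⟨Ideal.Quotient.mk _ a, hw⟩
    haveI := hfin n.1
    let e := LinearEquiv.ofBijective (Algebra.linearMap (A ⧸ n.1.asIdeal.comap (algebraMap A B)) (B ⧸ n.1.asIdeal))
      ⟨(algebraMap (A ⧸ n.1.asIdeal.comap (algebraMap A B)) (B ⧸ n.1.asIdeal)).injective, hs⟩
    rw [← e.finrank_eq, Module.finrank_self]
  show _ = ((Module.finrank (A ⧸ n.1.asIdeal.comap (algebraMap A B)) (B ⧸ n.1.asIdeal) : ℕ) : ℕ∞) * _
  rw [h1, Nat.cast_one, one_mul]
  rfl

end Groth.Agent.S14438
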