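import Groth.Statements.S14442


set_option autoImplicit false
universe u
open GrNak

namespace Groth.Agent.S14442

/-- Let R be a commutative ℕ-graded ring with irrelevant ideal R_+ = ⊕_{i>0} R_i, M an ℕ-graded R-module
and N a graded submodule of M (closed under taking homogeneous components). If M = R_+ M + N then N
= M. (The published statement is for finitely generated ℤ-graded modules over a graded quotient of a
polynomial ring, whose degrees are then bounded below; stated here for non-negatively graded modules
over any ℕ-graded commutative ring, where the same lowest-degree argument applies without finite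
generation.) -/
theorem result {R : Type u} [CommRing R] {σ : Type u} [SetLike σ R] [AddSubmonoidClass σ R]
    (𝒜 : ℕ → σ) [GradedRing 𝒜]
    {M : Type u} [AddCommGroup M] [Module R M] {τ : Type u} [SetLike τ M] [AddSubmonoidClass τ M]
    (ℳ : ℕ → τ) [DirectSum.Decomposition ℳ] [SetLike.GradedSMul 𝒜 ℳ]
    (N : Submodule R M) (hN : ∀ x ∈ N, ∀ i : ℕ, (DirectSum.decompose ℳ x i : M) ∈ N)
    (h : (HomogeneousIdeal.irrelevant 𝒜).toIdeal • (⊤ : Submodule R M) ⊔ N = ⊤) :
    N = ⊤ := by
  classical
  suffices H : ∀ (i : ℕ) (x : M), x ∈ ℳ i → x ∈ N by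
    refine eq_top_iff.2 fun x _ => ?_
    rw [← DirectSum.sum_support_decompose ℳ x]
    exact sum_mem fun i _ => H i _ (DirectSum.decompose ℳ x i).2
  intro i
  induction i using Nat.strong_induction_on with
  | _ i ih =>
    intro x hx
    let S : AddSubmonoid M :=
      { carrier := {z | (DirectSum.decompose ℳ z i : M) ∈ N}
        zero_mem' := by simp
        add_mem' := fun {a b} ha hb => by
          simp only [Set.mem_ofPred_eq] at ha hb ⊢
          rw [DirectSum.decompose_add, DirectSum.add_apply, AddMemClass.coe_add]
          exact add_mem ha hb }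
    have hall : ∀ z, z ∈ (HomogeneousIdeal.irrelevant 𝒜).toIdeal • (⊤ : Submodule R M) ⊔ N → z ∈ S := by
      intro z hz
      obtain ⟨a, ha, b, hb, rfl⟩ := Submodule.mem_sup.1 hz
      refine add_mem ?_ (hN b hb i)
      refine Submodule.smul_induction_on ha (fun r hr m _ => ?_) (fun y y' => add_mem)
      rw [← DirectSum.sum_support_decompose 𝒜 r, Finset.sum_smul]
      refine sum_mem fun j _ => ?_
      rcases Nat.eq_zero_or_pos j with rfl | hj
      · have : (DirectSum.decompose 𝒜 r 0 : R) = 0 := hr
        rw [this, zero_smul]
        exact zero_mem _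
      · rw [← DirectSum.sum_support_decompose ℳ m, Finset.smul_sum]
        refine sum_mem fun k _ => ?_
        show (DirectSum.decompose ℳ _ i : M) ∈ N
        have hmem := SetLike.GradedSMul.smul_mem (A := 𝒜) (B := ℳ) (DirectSum.decompose 𝒜 r j).2 (DirectSum.decompose ℳ m k).2
        rw [vadd_eq_add] at hmem
        by_cases hjk : j + k = i
        · rw [← hjk, DirectSum.decompose_of_mem_same ℳ hmem]
          exact N.smul_mem _ (ih k (by omega) _ (DirectSum.decompose ℳ m k).2)
        · rw [DirectSum.decompose_of_mem_ne ℳ hmem hjk]
          exact zero_mem _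
    have : (DirectSum.decompose ℳ x i : M) ∈ N := hall x (h.ge Submodule.mem_top)
    rwa [DirectSum.decompose_of_mem_same ℳ hx] at this

end Groth.Agent.S14442
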