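import Groth.Statements.S14445
import Groth.Agent.TorsorDesc.Equiv

set_option autoImplicit false
universe u
open NonAbH1

namespace Groth.Agent.S14445

open AlgebraicGeometry CategoryTheory CategoryTheory.Limits MonoidalCategory CartesianMonoidalCategory MonObj

set_option backward.isDefEq.respectTransparency.types false


open CategoryTheory MonoidalCategory CartesianMonoidalCategory AlgebraicGeometry in
/-- Let S be a scheme, G a group scheme over S and X an S-scheme with an action of G. Then X is a
G-torsor for the fpqc topology — the morphism G ×_S X → X ×_S X, (g, x) ↦ (gx, x), is an isomorphism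
and X → S acquires sections over the members of some fpqc covering family of S — if and only if
there are an fpqc covering family of S and, for each member S' → S, an S-morphism s : S' → X for
which the G-equivariant S'-morphism G ×_S S' → X ×_S S', (g, t) ↦ (g·s(t), t), is an isomorphism; in
words, X becomes equivariantly isomorphic to the trivial torsor over each member of the covering.
(The published statement is set in any subcanonical site with fibre products, for an invariant arrow
X → Y; this row is its instance for schemes over S with the fpqc topology and Y = S.) -/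
theorem result {S : Scheme.{u}} {G X : Over S} [GrpObj G]
    (a : AlgGrp.Action G X) :
    NonAbH1.IsTorsorFor Scheme.fpqcPrecoverage a ↔
      ∃ R ∈ Scheme.fpqcPrecoverage S, ∀ ⦃S' : Scheme.{u}⦄ (f : S' ⟶ S), R f →
        ∃ s : Over.mk f ⟶ X, IsIso (lift ((G ◁ s) ≫ a.act) (snd G (Over.mk f))) := by
  constructor
  · rintro ⟨hps, R, hR, hsec⟩
    refine ⟨R, hR, fun S' f hf => ?_⟩
    obtain ⟨s, hs⟩ := hsec f hf
    let σ : Over.mk f ⟶ X := Over.homMk s hs
    refine ⟨σ, ⟨⟨lift (TorsorDesc.div hps (fst X (Over.mk f)) (snd X (Over.mk f) ≫ σ)) (snd X (Over.mk f)), ?_, ?_⟩⟩⟩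
    · apply CartesianMonoidalCategory.hom_ext
      · rw [Category.assoc, lift_fst, Category.id_comp, TorsorDesc.comp_div]
        simp only [lift_fst, lift_snd_assoc]
        have e : (G ◁ σ) ≫ a.act = TorsorDesc.act a (fst G (Over.mk f)) (snd G (Over.mk f) ≫ σ) := by
          rw [TorsorDesc.act]
          congr 1
        skip
        rw [e, TorsorDesc.div_act]
      · simp
    · apply CartesianMonoidalCategory.hom_ext
      · rw [Category.assoc, lift_fst, Category.id_comp]
        have e : ∀ {T : Over S} (p : T ⟶ G) (q : T ⟶ Over.mk f),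
            lift p q ≫ (G ◁ σ) ≫ a.act = TorsorDesc.act a p (q ≫ σ) := fun p q => by
          rw [lift_whiskerLeft_assoc]; rfl
        rw [e, TorsorDesc.act_div]
      · simp
  · rintro ⟨R, hR, hloc⟩
    have hlt : NonAbH1.IsLocallyTrivialFor Scheme.fpqcPrecoverage X :=
      ⟨R, hR, fun S' f hf => by obtain ⟨s, -⟩ := hloc f hf; exact ⟨s.left, Over.w s⟩⟩
    refine ⟨?_, hlt⟩
    let κ := {q : Σ Y : Scheme.{u}, Y ⟶ S // R q.2}
    have hz : SchDescent.IsCover (fun i : κ => i.1.2) := by
      change Presieve.ofArrows _ _ ∈ _
      convert hR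
      funext Y; ext g
      exact ⟨fun ⟨i⟩ => i.2, fun hg => Presieve.ofArrows.mk (⟨⟨Y, g⟩, hg⟩ : κ)⟩
    refine TorsorDesc.isIso_of_locally_bijective (lift a.act (snd G X)) hz fun i T w => ?_
    obtain ⟨s, hs⟩ := hloc i.1.2 i.2
    let x0 : T ⟶ X := w ≫ s
    have key : ∀ x : T ⟶ X, ∃! g : T ⟶ G, TorsorDesc.act a g x0 = x := fun x => by
      let e := lift ((G ◁ s) ≫ a.act) (snd G (Over.mk i.1.2))
      have he : ∀ g : T ⟶ G, lift g w ≫ e = lift (TorsorDesc.act a g x0) w := fun g => by
        apply CartesianMonoidalCategory.hom_ext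
        · simp only [e, Category.assoc, lift_fst]
          rw [lift_whiskerLeft_assoc]; rfl
        · simp [e]
      have he' : e ≫ snd X (Over.mk i.1.2) = snd G (Over.mk i.1.2) := lift_snd _ _
      refine ⟨lift x w ≫ inv e ≫ fst G (Over.mk i.1.2), ?_, fun g hg => ?_⟩
      · have h1 : lift (lift x w ≫ inv e ≫ fst G (Over.mk i.1.2)) w = lift x w ≫ inv e := by
          apply CartesianMonoidalCategory.hom_ext
          · simp
          · rw [lift_snd, Category.assoc, ← he', IsIso.inv_hom_id_assoc, lift_snd]
        have h2 := he (lift x w ≫ inv e ≫ fst G (Over.mk i.1.2))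
        rw [h1, Category.assoc, IsIso.inv_hom_id, Category.comp_id] at h2
        have h3 := congrArg (· ≫ fst X (Over.mk i.1.2)) h2
        simpa using h3.symm
      · have h1 := he g
        rw [hg] at h1
        rw [← h1, Category.assoc, IsIso.hom_inv_id_assoc, lift_fst]
    have hsplit : ∀ p : T ⟶ G ⊗ X, p ≫ lift a.act (snd G X) =
        lift (TorsorDesc.act a (p ≫ fst G X) (p ≫ snd G X)) (p ≫ snd G X) := fun p => by
      rw [comp_lift]
      congr 1
      rw [TorsorDesc.act, ← comp_lift, lift_fst_snd, Category.comp_id]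
    constructor
    · intro p q hpq
      dsimp only at hpq
      rw [hsplit, hsplit] at hpq
      have h2 := congrArg (· ≫ snd X X) hpq
      simp only [lift_snd] at h2
      have h1 := congrArg (· ≫ fst X X) hpq
      simp only [lift_fst, ← h2] at h1
      obtain ⟨c, hc, -⟩ := key (p ≫ snd G X)
      rw [← hc, TorsorDesc.act_act, TorsorDesc.act_act] at h1
      obtain ⟨d, -, hd⟩ := key (TorsorDesc.act a (q ≫ fst G X * c) x0)
      exact CartesianMonoidalCategory.hom_ext _ _ (mul_right_cancel ((hd _ h1).trans (hd _ rfl).symm)) h2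
    · intro y
      obtain ⟨c, hc, -⟩ := key (y ≫ snd X X)
      obtain ⟨d, hd, -⟩ := key (y ≫ fst X X)
      refine ⟨lift (d * c⁻¹) (y ≫ snd X X), ?_⟩
      dsimp only
      rw [hsplit, lift_fst, lift_snd]
      apply CartesianMonoidalCategory.hom_ext
      · rw [lift_fst, ← hc, TorsorDesc.act_act, inv_mul_cancel_right, hd]
      · rw [lift_snd]

end Groth.Agent.S14445
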