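import Groth.Statements.S14446
import Groth.Agent.AlgStB.Invariance

set_option autoImplicit false
open CategoryTheory
universe v₂ u₂ v₃ u₃ v u
open Stk

namespace Groth.Agent.S14446

/-- Let C be a category with a Grothendieck topology J and 𝒳, 𝒴 categories over C which are equivalent
in the 2-category of categories over C. Then 𝒳 is a prestack in groupoids for J — fibred in
groupoids, with restriction from functors C/U → 𝒳 over C to functors R → 𝒳 over C fully faithful for
every covering sieve R on every object U — if and only if 𝒴 is. (The published statement concerns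
fibred categories in general; this row is its case for categories fibred in groupoids, with the
prestack condition in sieve form.) -/
theorem result {C : Type u} [Category.{v} C] (J : GrothendieckTopology C)
    {𝒳 : BasedCategory.{v₂, u₂} C} {𝒴 : BasedCategory.{v₃, u₃} C} (F : 𝒳 ⥤ᵇ 𝒴) (hF : FibCat.IsEquivOver F) :
    Stk.IsPrestack J 𝒳 ↔ Stk.IsPrestack J 𝒴 := by
  refine and_congr (Groth.Agent.Fib.isFibGrpd_iff_of_isEquivOver F hF)
    (forall_congr' fun U => forall_congr' fun R => imp_congr_right fun _ => ?_)
  have h₁ := Groth.Agent.AlgStB.isEquivalence_postcomp hF (FibCat.overCat U)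
  have h₂ := Groth.Agent.AlgStB.isEquivalence_postcomp hF (Stk.sieveCat R)
  have key : Groth.Agent.AlgStB.postcomp F (FibCat.overCat U) ⋙ Stk.resSieve R 𝒴 =
      Stk.resSieve R 𝒳 ⋙ Groth.Agent.AlgStB.postcomp F (Stk.sieveCat R) := rfl
  let E₁ := Groth.Agent.AlgStB.postcomp F (FibCat.overCat U)
  let E₂ := Groth.Agent.AlgStB.postcomp F (Stk.sieveCat R)
  constructor
  · intro ⟨hf, hF'⟩
    have : (E₁ ⋙ Stk.resSieve R 𝒴).Full := by rw [key]; infer_instance
    have : (E₁ ⋙ Stk.resSieve R 𝒴).Faithful := by rw [key]; infer_instance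
    let i : E₁.inv ⋙ (E₁ ⋙ Stk.resSieve R 𝒴) ≅ Stk.resSieve R 𝒴 :=
      (Functor.associator _ _ _).symm ≪≫ Functor.isoWhiskerRight E₁.asEquivalence.counitIso _ ≪≫
        Functor.leftUnitor _
    exact ⟨Functor.Full.of_iso i, Functor.Faithful.of_iso i⟩
  · intro ⟨hf, hF'⟩
    have : (Stk.resSieve R 𝒳 ⋙ E₂).Full := by rw [← key]; infer_instance
    have : (Stk.resSieve R 𝒳 ⋙ E₂).Faithful := by rw [← key]; infer_instance
    exact ⟨Functor.Full.of_comp_faithful _ E₂, Functor.Faithful.of_comp _ E₂⟩

end Groth.Agent.S14446
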