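import Groth.Statements.S14447
import Mathlib

set_option autoImplicit false
universe w v u
open AlgGrp

namespace Groth.Agent.S14447

open CategoryTheory CategoryTheory.Limits in
/-- Let C be a category with finite products and with all coproducts indexed by sets, and assume that
for every set I and every object U the canonical arrow ∐_{i∈I} U → (∐_{i∈I} pt) × U, whose i-th
component pairs U → pt → ∐_{i∈I} pt (i-th coprojection) with the identity of U, is an isomorphism.
Then the discrete-object functor from sets to C, I ↦ ∐_{i∈I} pt, preserves finite products. (Sets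
are the types of one fixed universe, the one indexing the coproducts. The published statement asks
only for the coproducts of copies of one object; this row assumes that C has all coproducts indexed
by sets, which Mathlib's discrete-object functor sigmaConst requires.) -/
theorem result {C : Type u} [Category.{v} C]
    [HasFiniteProducts C] [HasCoproducts.{w} C]
    (h : ∀ (I : Type w) (U : C), IsIso (Sigma.desc fun i : I =>
      prod.lift (terminal.from U ≫ Sigma.ι (fun _ : I => ⊤_ C) i) (𝟙 U))) :
    PreservesFiniteProducts (sigmaConst.{w}.obj (⊤_ C)) := by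
  let F := sigmaConst.{w}.obj (⊤_ C)
  haveI hterm : PreservesLimit (Functor.empty.{0} (Type w)) F := by
    refine preservesTerminal_of_iso F ?_
    let u : (⊤_ (Type w)) := (Types.terminalIso.{w}).inv PUnit.unit
    have hu : ∀ i : (⊤_ (Type w)), i = u := fun i => by
      have := (Types.terminalIso.{w}).hom_inv_id
      have h1 : (Types.terminalIso.{w}).inv ((Types.terminalIso.{w}).hom i) = i := congrArg (fun g => (g : (⊤_ (Type w)) ⟶ _) i) this
      rw [← h1]
    exact
    { hom := terminal.from _
      inv := Sigma.ι (fun _ : (⊤_ (Type w)) => ⊤_ C) u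
      hom_inv_id := Sigma.hom_ext _ _ fun i => by
        obtain rfl := hu i
        change Sigma.ι (fun _ : (⊤_ (Type w)) => ⊤_ C) u ≫ terminal.from _ ≫ Sigma.ι (fun _ : (⊤_ (Type w)) => ⊤_ C) u = Sigma.ι (fun _ : (⊤_ (Type w)) => ⊤_ C) u ≫ 𝟙 _
        rw [← Category.assoc, terminal.hom_ext (Sigma.ι (fun _ : (⊤_ (Type w)) => ⊤_ C) u ≫ terminal.from _) (𝟙 _), Category.id_comp, Category.comp_id]
      inv_hom_id := terminal.hom_ext _ _ }
  haveI : ∀ X Y : Type w, PreservesLimit (pair X Y) F := fun X Y => by
    let b := Types.binaryProductIso X Y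
    let Φ : (∐ fun _ : X => ∐ fun _ : Y => ⊤_ C) ⟶ F.obj (X ⨯ Y) :=
      Sigma.desc fun i => Sigma.desc fun j => Sigma.ι (fun _ : (X ⨯ Y) => ⊤_ C) (b.inv (i, j))
    let Ψ : F.obj (X ⨯ Y) ⟶ (∐ fun _ : X => ∐ fun _ : Y => ⊤_ C) :=
      Sigma.desc fun z => Sigma.ι (fun _ : Y => ⊤_ C) (b.hom z).2 ≫ Sigma.ι (fun _ : X => ∐ fun _ : Y => ⊤_ C) (b.hom z).1
    have hb1 : ∀ i j, b.hom (b.inv (i, j)) = (i, j) := fun i j => congrArg (fun g => (g : (X × Y : Type w) ⟶ _) (i, j)) b.inv_hom_id
    have hb2 : ∀ z, b.inv (b.hom z) = z := fun z => congrArg (fun g => (g : (X ⨯ Y : Type w) ⟶ _) z) b.hom_inv_id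
    haveI : IsIso Φ := ⟨Ψ, Sigma.hom_ext _ _ fun i => Sigma.hom_ext _ _ fun j => by
        simp [Φ, Ψ, F, hb1], Sigma.hom_ext _ _ fun z => by simp [Φ, Ψ, F, hb2]⟩
    let K := Sigma.desc fun i : X => prod.lift (terminal.from (F.obj Y) ≫ Sigma.ι (fun _ : X => ⊤_ C) i) (𝟙 (F.obj Y))
    have hK : Φ ≫ prodComparison F X Y = K := by
      refine Sigma.hom_ext _ _ fun i => Sigma.hom_ext _ _ fun j => ?_
      have h1 : (prod.fst : X ⨯ Y ⟶ X) (b.inv (i, j)) = i := congrArg (fun g => (g : (X × Y : Type w) ⟶ _) (i, j)) (Types.binaryProductIso_inv_comp_fst X Y)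
      have h2 : (prod.snd : X ⨯ Y ⟶ Y) (b.inv (i, j)) = j := congrArg (fun g => (g : (X × Y : Type w) ⟶ _) (i, j)) (Types.binaryProductIso_inv_comp_snd X Y)
      apply prod.hom_ext
      · simp [Φ, K, F, prodComparison, h1]
        erw [h2]
        rw [terminal.hom_ext (terminal.from (⊤_ C)) (𝟙 _), Category.id_comp]
      · simp [Φ, K, F, prodComparison, h2]
        erw [h1]
        rw [terminal.hom_ext (terminal.from (⊤_ C)) (𝟙 _), Category.id_comp]
    haveI : IsIso (prodComparison F X Y) := by
      haveI : IsIso K := h X (F.obj Y)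
      haveI : IsIso (Φ ≫ prodComparison F X Y) := hK ▸ ‹IsIso K›
      exact IsIso.of_isIso_comp_left Φ _
    exact PreservesLimitPair.of_iso_prod_comparison F X Y
  haveI : PreservesLimitsOfShape (Discrete WalkingPair) F := ⟨fun {K} => preservesLimit_of_iso_diagram F (diagramIsoPair K).symm⟩
  haveI := Limits.preservesLimitsOfShape_pempty_of_preservesTerminal F
  exact PreservesFiniteProducts.of_preserves_binary_and_terminal F

end Groth.Agent.S14447
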