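import Groth.Statements.S14452
import Groth.Agent.EtSh.OverSite
import Groth.Agent.EtSh.ExtZeroOpen
import Groth.Agent.S0648
import Groth.Agent.EtSh.StrictHens
import Groth.Agent.EtSh.Gluing

set_option autoImplicit false
universe u
open CategoryTheory CategoryTheory.Limits AlgebraicGeometry Opposite
open EtCore

namespace Groth.Agent.S14452

set_option backward.isDefEq.respectTransparency.types false

open Groth.Agent.EtSh CategoryTheory.Abelian

/-- sections lift along a short exact sequence when the first cohomology of the kernel vanishes -/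
theorem surjective_top {Y : Scheme.{u}} {S : ShortComplex (EtCoh.Ab Y)} (hS : S.ShortExact)
    (h : Subsingleton (EtCoh.H Y S.X₁ 1)) :
    Function.Surjective (S.g.hom.app (op (EtCoh.top Y))) := fun s => by
  obtain ⟨y, hy⟩ := Ext.covariant_sequence_exact₃ _ hS
    ((Sheaf.H.equiv₀ S.X₃ (topTerminal Y)).symm s) (rfl : 0 + 1 = 1) (Subsingleton.elim _ _)
  refine ⟨Sheaf.H.equiv₀ S.X₂ (topTerminal Y) y, ?_⟩
  rw [Sheaf.H.equiv₀_naturality]
  exact (congrArg (Sheaf.H.equiv₀ S.X₃ (topTerminal Y)) hy).trans (AddEquiv.apply_symm_apply _ _)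

theorem surjective_of_H_one {X : Scheme.{u}} (W : X.Etale) {S : ShortComplex (EtCoh.Ab X)} (hS : S.ShortExact)
    (h : Subsingleton (EtCoh.H W.left ((EtCoh.pull W.hom).obj S.X₁) 1)) :
    Function.Surjective (S.g.hom.app (op W)) := by
  haveI : Etale W.hom := W.prop
  haveI : EtShriek.JCont W.hom := jCont_hom W
  let R := EtShriek.restrAlong W.hom
  haveI hc : PreservesColimitsOfSize.{0, 0} R := (restrPushAdj W.hom).leftAdjoint_preservesColimits
  haveI hl : PreservesLimitsOfSize.{0, 0} R := (EtShriek.extZeroAdj W.hom).rightAdjoint_preservesLimits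
  haveI : PreservesFiniteColimits R := @PreservesColimitsOfSize.preservesFiniteColimits.{0, 0} _ _ _ _ R hc
  haveI : PreservesFiniteLimits R := @PreservesLimitsOfSize.preservesFiniteLimits.{0, 0} _ _ _ _ R hl
  have hS' := hS.map_of_exact R
  have h1 : Subsingleton (EtCoh.H W.left ((EtShriek.restrAlong W.hom).obj S.X₁) 1) := by
    refine ⟨fun x y => ?_⟩
    let e := (pullRestrIso W.hom).app S.X₁
    have hx : ∀ z : EtCoh.H W.left ((EtShriek.restrAlong W.hom).obj S.X₁) 1,
        Sheaf.H.map e.hom 1 (Sheaf.H.map e.inv 1 z) = z := fun z => by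
      rw [← Sheaf.H.map_comp_apply, e.inv_hom_id, Sheaf.H.map_id_apply]
    rw [← hx x, ← hx y, @Subsingleton.elim _ h (Sheaf.H.map e.inv 1 x) (Sheaf.H.map e.inv 1 y)]
  have key := surjective_top hS' h1
  let k : (EtShriek.compEtale W.hom).obj (EtCoh.top W.left) ≅ W :=
    MorphismProperty.Over.isoMk (Iso.refl _) (by
      exact (Category.id_comp _).trans (Category.id_comp _).symm)
  intro s
  obtain ⟨a, ha⟩ := key (S.X₃.obj.map k.hom.op s)
  refine ⟨S.X₂.obj.map k.inv.op a, ?_⟩
  rw [NatTrans.naturality_apply S.g.hom k.inv.op a]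
  refine (congrArg (S.X₃.obj.map k.inv.op) ha).trans ?_
  rw [← ConcreteCategory.comp_apply, ← S.X₃.obj.map_comp, ← op_comp, k.inv_hom_id, op_id, S.X₃.obj.map_id]
  rfl

theorem exact_sections {X : Scheme.{u}} {S : ShortComplex (EtCoh.Ab X)} (hS : S.ShortExact) (U : X.Etale)
    (t : S.X₂.obj.obj (op U)) (ht : S.g.hom.app (op U) t = 0) :
    ∃ a, S.f.hom.app (op U) a = t := by
  let Φ : EtCoh.Ab X ⥤ AddCommGrpCat.{u + 1} := sheafToPresheaf _ _ ⋙ (evaluation _ _).obj (op U)
  haveI : Φ.Additive := { }
  have hE : (S.map Φ).Exact :=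
    ShortComplex.exact_of_f_is_kernel _ (KernelFork.mapIsLimit _ hS.fIsKernel Φ)
  exact (ShortComplex.ab_exact_iff _).1 hE t ht

/-- a point in both copies comes from the common open -/
theorem exists_of_inl_eq_inr {V U : Scheme.{u}} (g : V ⟶ U) [IsOpenImmersion g] (a b : U)
    (h : (pushout.inl g g) a = (pushout.inr g g) b) : ∃ v, g v = a ∧ g v = b := by
  obtain ⟨k, fi, fj, x, hx, hy⟩ := (Scheme.IsLocallyDirected.ι_eq_ι_iff (span g g)).1 h
  obtain (_ | (_ | _)) := k
  · cases fi; cases fj
    exact ⟨x, hx, hy⟩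
  · cases fj
  · cases fi

theorem jointly_surjective {V U : Scheme.{u}} (g : V ⟶ U) [IsOpenImmersion g] (x : ↥(pushout g g)) :
    (∃ a, (pushout.inl g g) a = x) ∨ (∃ b, (pushout.inr g g) b = x) := by
  obtain ⟨i, xi, hxi⟩ := Scheme.IsLocallyDirected.ι_jointly_surjective (span g g) x
  obtain (_ | (_ | _)) := i
  · refine Or.inl ⟨g xi, ?_⟩
    rw [← hxi, ← colimit.w (span g g) WalkingSpan.Hom.fst]
    rfl
  · exact Or.inl ⟨xi, hxi⟩
  · exact Or.inr ⟨xi, hxi⟩

/-- injective sheaves have surjective restriction maps along open immersions -/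
theorem injective_restriction_surjective {X : Scheme.{u}} {I : EtCoh.Ab X} [Injective I] {U V : X.Etale}
    (g : V ⟶ U) [IsOpenImmersion g.left] (s : I.obj.obj (op V)) : ∃ t, I.obj.map g.op t = s := by
  haveI : Etale U.hom := U.prop
  haveI : EtShriek.JCont U.hom := jCont_hom U
  haveI := Groth.Agent.S0648.result U.hom
  haveI : (EtShriek.extZero U.hom).PreservesMonomorphisms := preservesMonomorphisms_of_preservesLimitsOfShape _
  let I' := (EtShriek.restrAlong U.hom).obj I
  haveI : Injective I' := Injective.injective_of_adjoint (EtShriek.extZeroAdj U.hom) I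
  let j := g.left
  haveI : EtShriek.JCont j := jCont j
  let G := (constantSheaf U.left.smallEtaleTopology AddCommGrpCat.{u + 1}).obj
    (AddCommGrpCat.of (ULift.{u + 1} ℤ))
  let c := (EtShriek.extZeroAdj j).counit.app G
  haveI : Mono c := mono_of_stalk c fun Ω _ _ ξ => by
    by_cases h : ξ.base default ∈ Set.range j.base
    · obtain ⟨u, rfl⟩ := exists_lift_of_isOpenImmersion j ξ h
      haveI := isIso_restr_counit j G
      haveI := isIso_stalk_map_of_restr j c u
      exact (AddCommGrpCat.mono_iff_injective _).1 inferInstance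
    · intro a b _
      exact @Subsingleton.elim _ (AddCommGrpCat.subsingleton_of_isZero
        (isZero_stalk_extZero j ξ (isEmpty_over' j ξ h) ((EtShriek.restrAlong j).obj G))) _ _
  let T := (EtCoh.bc j).obj (EtCoh.top U.left)
  haveI hsnd : IsIso (pullback.snd (EtCoh.top U.left).hom j) :=
    (inferInstance : IsIso (pullback.snd (𝟙 U.left) j))
  let e : (EtShriek.compEtale U.hom).obj ((EtShriek.compEtale j).obj T) ≅ V :=
    MorphismProperty.Over.isoMk (@asIso _ _ _ _ (pullback.snd (EtCoh.top U.left).hom j) hsnd) (by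
      show pullback.snd (EtCoh.top U.left).hom j ≫ V.hom =
        (pullback.snd (EtCoh.top U.left).hom j ≫ j) ≫ U.hom
      rw [Category.assoc, MorphismProperty.Over.w g])
  let k : (EtShriek.compEtale U.hom).obj (EtCoh.top U.left) ≅ U :=
    MorphismProperty.Over.isoMk (Iso.refl _) ((Category.id_comp _).trans (Category.id_comp _).symm)
  let d := (EtShriek.compEtale U.hom).map ((compBCAdj j).counit.app (EtCoh.top U.left))
  have hd : d ≫ k.hom = e.hom ≫ g := by
    refine MorphismProperty.Over.Hom.ext ?_
    show pullback.fst (EtCoh.top U.left).hom j ≫ 𝟙 _ = pullback.snd (EtCoh.top U.left).hom j ≫ j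
    exact pullback.condition
  let s' : ((EtCoh.push j).obj ((EtShriek.restrAlong j).obj I')).obj.obj (op (EtCoh.top U.left)) :=
    I.obj.map e.hom.op s
  let a : G ⟶ (EtCoh.push j).obj ((EtShriek.restrAlong j).obj I') :=
    Ext.addEquiv₀ ((Sheaf.H.equiv₀ _ (topTerminal U.left)).symm s')
  let φ := ((restrPushAdj j).homEquiv G ((EtShriek.restrAlong j).obj I')).symm a
  let ψ : G ⟶ I' := Injective.factorThru (((EtShriek.extZeroAdj j).homEquiv _ I').symm φ) c
  have hψ : (EtShriek.restrAlong j).map ψ = φ := by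
    have h1 := congrArg ((EtShriek.extZeroAdj j).homEquiv _ I')
      (Injective.comp_factorThru (((EtShriek.extZeroAdj j).homEquiv _ I').symm φ) c)
    rw [Equiv.apply_symm_apply, Adjunction.homEquiv_naturality_right] at h1
    have h2 : (EtShriek.extZeroAdj j).homEquiv ((EtShriek.restrAlong j).obj G) G c = 𝟙 _ := by
      rw [Adjunction.homEquiv_unit]; exact (EtShriek.extZeroAdj j).right_triangle_components G
    exact ((congrArg (· ≫ _) h2).trans (Category.id_comp _)).symm.trans h1
  let x : EtCoh.H U.left I' 0 := Ext.addEquiv₀.symm ψ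
  let t' := Sheaf.H.equiv₀ I' (topTerminal U.left) x
  refine ⟨I.obj.map k.inv.op t', ?_⟩
  have ha : ψ ≫ (restrPushAdj j).unit.app I' = a := by
    have h3 : (restrPushAdj j).homEquiv G _ ((EtShriek.restrAlong j).map ψ) = a := by
      rw [hψ]; exact Equiv.apply_symm_apply _ _
    rw [← h3, Adjunction.homEquiv_unit]
    exact (restrPushAdj j).unit.naturality ψ
  have hx : Sheaf.H.map ((restrPushAdj j).unit.app I') 0 x =
      (Sheaf.H.equiv₀ _ (topTerminal U.left)).symm s' := by
    apply Ext.addEquiv₀.injective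
    rw [Sheaf.H.addEquiv₀_map]
    exact (congrArg (· ≫ (restrPushAdj j).unit.app I') (AddEquiv.apply_symm_apply _ ψ)).trans ha
  have key : I.obj.map d.op t' = I.obj.map e.hom.op s := by
    have h4 := Sheaf.H.equiv₀_naturality (topTerminal U.left) ((restrPushAdj j).unit.app I') x
    rw [hx] at h4
    exact h4.trans (AddEquiv.apply_symm_apply _ s')
  have hg : g = e.inv ≫ d ≫ k.hom := by rw [hd, e.inv_hom_id_assoc]
  rw [hg, op_comp, op_comp, I.obj.map_comp, I.obj.map_comp]
  simp only [ConcreteCategory.comp_apply]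
  have hk : I.obj.map k.hom.op (I.obj.map k.inv.op t') = t' := by
    rw [← ConcreteCategory.comp_apply, ← I.obj.map_comp, ← op_comp, k.hom_inv_id, op_id, I.obj.map_id]; rfl
  rw [hk, key, ← ConcreteCategory.comp_apply, ← I.obj.map_comp, ← op_comp, e.inv_hom_id, op_id, I.obj.map_id]
  rfl

theorem injective_app_of_mono {X : Scheme.{u}} {F G : EtCoh.Ab X} (f : F ⟶ G) (hf : Mono f) (V : X.Etale) :
    Function.Injective (f.hom.app (op V)) :=
  haveI := hf
  app_injective_of_mono f _

/-- glue `q` and `0` on the doubled scheme -/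
theorem exists_glue_two {X : Scheme.{u}} {Q : EtCoh.Ab X} {U V : X.Etale} (g : V ⟶ U) [IsOpenImmersion g.left]
    {hom : pushout g.left g.left ⟶ X} (hl : pushout.inl g.left g.left ≫ hom = U.hom)
    (hr : pushout.inr g.left g.left ≫ hom = U.hom) (het : Etale hom)
    (q : Q.obj.obj (op U)) (hq : Q.obj.map g.op q = 0) :
    let W : X.Etale := MorphismProperty.Over.mk ⊤ hom het
    let jl : U ⟶ W := MorphismProperty.Over.homMk (pushout.inl g.left g.left) hl
    let jr : U ⟶ W := MorphismProperty.Over.homMk (pushout.inr g.left g.left) hr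
    ∃ q' : Q.obj.obj (op W), Q.obj.map jl.op q' = q ∧ Q.obj.map jr.op q' = 0 := by
  intro W jl jr
  let Y : ULift.{u} Bool → X.Etale := fun _ => U
  let π : ∀ i, Y i ⟶ W := fun i => if i.down then jl else jr
  let fold : pushout g.left g.left ⟶ U.left := pushout.desc (𝟙 _) (𝟙 _) rfl
  have hP : Presieve.IsSheaf X.smallEtaleTopology (Q.obj ⋙ forget AddCommGrpCat.{u + 1}) :=
    (isSheaf_iff_isSheaf_of_type _ _).1 ((sheafCompose _ (forget AddCommGrpCat.{u + 1})).obj Q).property
  have hmem : Sieve.ofArrows _ π ∈ X.smallEtaleTopology W := (mem_topology_iff _).2 fun x => by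
    rcases jointly_surjective g.left x with ⟨a, ha⟩ | ⟨b, hb⟩
    · exact ⟨U, jl, a, Sieve.ofArrows_mk Y π ⟨true⟩, ha⟩
    · exact ⟨U, jr, b, Sieve.ofArrows_mk Y π ⟨false⟩, hb⟩
  have hS := hP _ hmem
  rw [Sieve.ofArrows, ← Presieve.isSheafFor_iff_generate, Presieve.isSheafFor_arrows_iff] at hS
  let val : ∀ i, (Q.obj ⋙ forget AddCommGrpCat.{u + 1}).obj (op (Y i)) := fun i =>
    if i.down then q else (0 : Q.obj.obj (op U))
  have mixed : ∀ (Z : X.Etale) (a b : Z ⟶ U), a ≫ jl = b ≫ jr →
      Q.obj.map a.op q = Q.obj.map b.op (0 : Q.obj.obj (op U)) := by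
    intro Z a b hab
    rw [map_zero]
    have hlr : a.left ≫ pushout.inl g.left g.left = b.left ≫ pushout.inr g.left g.left :=
      congrArg (fun k => k.left) hab
    have hab' : a.left = b.left := by
      simpa [fold, pushout.inl_desc, pushout.inr_desc] using congrArg (· ≫ fold) hlr
    have hrange : Set.range a.left ⊆ Set.range g.left := by
      rintro _ ⟨z, rfl⟩
      obtain ⟨v, hv, -⟩ := exists_of_inl_eq_inr g.left (a.left z) (b.left z)
        (by
          have := congrArg (fun k : Z.left ⟶ pushout g.left g.left => k z) hlr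
          simpa using this)
      exact ⟨v, hv⟩
    let a' : Z ⟶ V := MorphismProperty.Over.homMk (IsOpenImmersion.lift g.left a.left hrange) (by
      rw [← MorphismProperty.Over.w g, IsOpenImmersion.lift_fac_assoc, MorphismProperty.Over.w a])
    have ha : a = a' ≫ g := MorphismProperty.Over.Hom.ext (IsOpenImmersion.lift_fac _ _ hrange).symm
    rw [ha, op_comp, Q.obj.map_comp, ConcreteCategory.comp_apply, hq, map_zero]
  haveI : Mono (pushout.inl g.left g.left) := inferInstanceAs (Mono (colimit.ι (span g.left g.left) WalkingSpan.left))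
  haveI : Mono (pushout.inr g.left g.left) := inferInstanceAs (Mono (colimit.ι (span g.left g.left) WalkingSpan.right))
  obtain ⟨q', hq', -⟩ := hS val (by
    rintro ⟨_ | _⟩ ⟨_ | _⟩ Z a b hab
    · rw [show a = b from MorphismProperty.Over.Hom.ext
        ((cancel_mono (pushout.inr g.left g.left)).1 (congrArg (fun k => k.left) hab))]
    · exact (mixed Z b a hab.symm).symm
    · exact mixed Z a b hab
    · rw [show a = b from MorphismProperty.Over.Hom.ext
        ((cancel_mono (pushout.inl g.left g.left)).1 (congrArg (fun k => k.left) hab))])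
  exact ⟨q', hq' ⟨true⟩, hq' ⟨false⟩⟩

/-- Let X be a scheme and F an abelian sheaf on the small étale site of X such that H^q(W, F|_W) = 0 for
every étale X-scheme W and every q > 0 (F|_W the pullback of F along the structure morphism of W).
Then for every morphism g : V ⟶ U of étale X-schemes which is an open immersion, the restriction map
F(U) → F(V) is surjective. -/
theorem result {X : Scheme.{u}}
    (F : EtCoh.Ab X)
    (hF : ∀ (W : X.Etale) (q : ℕ), 0 < q → Subsingleton (EtCoh.H W.left ((EtCoh.pull W.hom).obj F) q))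
    {U V : X.Etale} (g : V ⟶ U) [IsOpenImmersion g.left] :
    Function.Surjective (F.obj.map g.op).hom := by
  haveI : Etale U.hom := U.prop
  let hom : pushout g.left g.left ⟶ X := pushout.desc U.hom U.hom rfl
  have hl : pushout.inl g.left g.left ≫ hom = U.hom := pushout.inl_desc _ _ _
  have hr : pushout.inr g.left g.left ≫ hom = U.hom := pushout.inr_desc _ _ _
  have het : Etale hom := by
    rw [IsZariskiLocalAtSource.iff_of_openCover (P := @Etale)
      (Scheme.IsLocallyDirected.openCover (span g.left g.left))]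
    intro i
    obtain (_ | (_ | _)) := i
    · have e : colimit.ι (span g.left g.left) none ≫ hom = g.left ≫ U.hom := by
        rw [← colimit.w (span g.left g.left) WalkingSpan.Hom.fst, Category.assoc]
        exact congrArg (g.left ≫ ·) hl
      show Etale (colimit.ι (span g.left g.left) none ≫ hom)
      rw [e, MorphismProperty.Over.w g]
      exact V.prop
    · show Etale (pushout.inl g.left g.left ≫ hom)
      rw [hl]; infer_instance
    · show Etale (pushout.inr g.left g.left ≫ hom)
      rw [hr]; infer_instance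
  let W : X.Etale := MorphismProperty.Over.mk ⊤ hom het
  let jl : U ⟶ W := MorphismProperty.Over.homMk (pushout.inl g.left g.left) hl
  let jr : U ⟶ W := MorphismProperty.Over.homMk (pushout.inr g.left g.left) hr
  let S := ShortComplex.mk (Injective.ι F) (cokernel.π (Injective.ι F)) (cokernel.condition _)
  have hS : S.ShortExact :=
    { exact := S.exact_of_g_is_cokernel (cokernelIsCokernel _)
      mono_f := inferInstanceAs (Mono (Injective.ι F))
      epi_g := inferInstanceAs (Epi (cokernel.π (Injective.ι F))) }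
  intro s
  -- extend the image of `s`
  obtain ⟨t, ht⟩ : ∃ t : S.X₂.obj.obj (op U), S.X₂.obj.map g.op t = S.f.hom.app (op V) s :=
    haveI : Injective S.X₂ := inferInstanceAs (Injective (Injective.under F))
    injective_restriction_surjective g _
  let q := S.g.hom.app (op U) t
  have hq : S.X₃.obj.map g.op q = 0 := by
    rw [← NatTrans.naturality_apply S.g.hom g.op t, ht]
    exact ConcreteCategory.congr_hom (congrArg (fun k => k.hom.app (op V)) S.zero) s
  obtain ⟨q', hql, hqr⟩ : ∃ q' : S.X₃.obj.obj (op W), S.X₃.obj.map jl.op q' = q ∧ S.X₃.obj.map jr.op q' = 0 :=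
    exists_glue_two g hl hr het q hq
  obtain ⟨r, hr'⟩ := surjective_of_H_one W hS (hF W 1 one_pos) q'
  obtain ⟨a, ha⟩ := exact_sections hS U (S.X₂.obj.map jl.op r - t) (by
    rw [map_sub, NatTrans.naturality_apply S.g.hom jl.op r, hr', hql]; exact sub_self _)
  obtain ⟨b, hb⟩ := exact_sections hS U (S.X₂.obj.map jr.op r) (by
    rw [NatTrans.naturality_apply S.g.hom jr.op r, hr', hqr])
  refine ⟨b - a, ?_⟩
  have hinj : Function.Injective (S.f.hom.app (op V)) := injective_app_of_mono S.f hS.mono_f V
  apply hinj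
  have hgg : g ≫ jl = g ≫ jr := MorphismProperty.Over.Hom.ext pushout.condition
  show S.f.hom.app (op V) (F.obj.map g.op (b - a)) = _
  rw [NatTrans.naturality_apply S.f.hom g.op (b - a)]
  rw [map_sub (S.f.hom.app (op U)).hom b a, ha, hb, map_sub, map_sub, ht]
  have : S.X₂.obj.map g.op (S.X₂.obj.map jl.op r) = S.X₂.obj.map g.op (S.X₂.obj.map jr.op r) := by
    rw [← ConcreteCategory.comp_apply, ← ConcreteCategory.comp_apply, ← S.X₂.obj.map_comp, ← S.X₂.obj.map_comp,
      ← op_comp, ← op_comp, hgg]
  rw [this]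
  abel

end Groth.Agent.S14452
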