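import Groth.Statements.S14455
import Groth.Agent.ZetaFun.Points
import Mathlib.AlgebraicGeometry.AffineSpace

set_option autoImplicit false
universe u
open CategoryTheory AlgebraicGeometry
open Zeta

namespace Groth.Agent.S14455

open Groth.Agent.ZetaFun Groth.Agent.FunFldLib

theorem pointCount_affine {k : Type u} [Field k] {X : Scheme.{u}} (f : X ⟶ Spec (CommRingCat.of k))
    (k' : Type u) [Field k'] [Algebra k k'] :
    SgaExt.pointCount ((𝔸(PUnit.{u + 1}; X) ↘ X) ≫ f) k' = Nat.card k' * SgaExt.pointCount f k' := by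
  let e : {g : Spec (CommRingCat.of k') ⟶ 𝔸(PUnit.{u + 1}; X) //
      g ≫ ((𝔸(PUnit.{u + 1}; X) ↘ X) ≫ f) = Spec.map (CommRingCat.ofHom (algebraMap k k'))} ≃
      (PUnit.{u + 1} → Γ(Spec (CommRingCat.of k'), ⊤)) ×
        {g : Spec (CommRingCat.of k') ⟶ X // g ≫ f = Spec.map (CommRingCat.ofHom (algebraMap k k'))} :=
    { toFun := fun g => ⟨fun i => g.1.appTop (AffineSpace.coord X i), ⟨g.1 ≫ (𝔸(PUnit.{u + 1}; X) ↘ X), by
        rw [Category.assoc, g.2]⟩⟩
      invFun := fun t => ⟨AffineSpace.homOfVector t.2.1 t.1, by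
        rw [AffineSpace.homOfVector_over_assoc, t.2.2]⟩
      left_inv := fun g => Subtype.ext (AffineSpace.hom_ext (by simp) (by simp))
      right_inv := fun t => Prod.ext (funext fun i => by simp) (Subtype.ext (by simp)) }
  rw [SgaExt.pointCount, Nat.card_congr e, Nat.card_prod, Nat.card_pi, Fintype.prod_unique,
    Nat.card_congr (Scheme.ΓSpecIso (CommRingCat.of k')).commRingCatIsoToRingEquiv.toEquiv]
  rfl

/-- For a scheme X of finite type over a finite field k with q elements, the zeta function of the affine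
line over X (a k-scheme through X) is obtained from that of X by the substitution t ↦ qt, that is
Z(𝔸¹_X, t) = Z(X, qt) in ℚ⟦t⟧. (The published statement is the equality ζ(𝔸¹_X, s) = ζ(X, s − 1) of
zeta functions in the variable s; under the substitution t = q^(−s), which turns ζ(Y, s) into Z(Y,
t) for every Y of finite type over k, it is the identity stated here.) -/
theorem result {k : Type u} [Field k] [Finite k] {X : Scheme.{u}}
    (f : X ⟶ Spec (CommRingCat.of k)) [LocallyOfFiniteType f] [QuasiCompact f] :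
    Zeta.zetaFun ((𝔸(PUnit.{u + 1}; X) ↘ X) ≫ f) =
      PowerSeries.rescale (Nat.card k : ℚ) (Zeta.zetaFun f) := by
  letI : X.Over (Spec (CommRingCat.of k)) := ⟨f⟩
  haveI : LocallyOfFiniteType ((𝔸(PUnit.{u + 1}; X) ↘ X) ≫ f) := inferInstance
  haveI : QuasiCompact ((𝔸(PUnit.{u + 1}; X) ↘ X) ≫ f) := inferInstance
  set g := (𝔸(PUnit.{u + 1}; X) ↘ X) ≫ f with hg
  have hN : ∀ m, Zeta.nPts g m = Nat.card k ^ m * Zeta.nPts f m := by
    intro m
    rcases Nat.eq_zero_or_pos m with rfl | hm
    · simp [Zeta.nPts]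
    obtain ⟨p, hp⟩ := CharP.exists k
    haveI : Fact p.Prime := ⟨CharP.char_is_prime k p⟩
    haveI : NeZero m := ⟨hm.ne'⟩
    let k' := ULift.{u} (FiniteField.Extension k p m)
    have hd : Module.finrank k k' = m :=
      (ULift.moduleEquiv (R := k) (M := FiniteField.Extension k p m)).finrank_eq.trans (FiniteField.finrank_extension k p m)
    haveI : Finite k' := Finite.of_equiv _ Equiv.ulift.symm
    haveI : LocallyOfFiniteType (X ↘ Spec (CommRingCat.of k)) := ‹LocallyOfFiniteType f›
    haveI : QuasiCompact (X ↘ Spec (CommRingCat.of k)) := ‹QuasiCompact f›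
    have h1 : SgaExt.pointCount f k' = Zeta.nPts f m :=
      (pointCount_eq_nPts (k := k) (X := X) k').trans (congrArg (Zeta.nPts f) hd)
    have h2 : SgaExt.pointCount g k' = Zeta.nPts g m := by
      letI : (𝔸(PUnit.{u + 1}; X)).Over (Spec (CommRingCat.of k)) := ⟨g⟩
      haveI : LocallyOfFiniteType (𝔸(PUnit.{u + 1}; X) ↘ Spec (CommRingCat.of k)) := ‹LocallyOfFiniteType g›
      haveI : QuasiCompact (𝔸(PUnit.{u + 1}; X) ↘ Spec (CommRingCat.of k)) := ‹QuasiCompact g›
      exact (pointCount_eq_nPts (k := k) (X := 𝔸(PUnit.{u + 1}; X)) k').trans (congrArg (Zeta.nPts g) hd)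
    rw [← h2, hg, pointCount_affine, h1, Module.natCard_eq_pow_finrank (K := k), hd]
  refine (eq_zetaFun g ?_ ?_).symm
  · ext n
    rw [coeff_theta, PowerSeries.coeff_rescale, PowerSeries.coeff_mul]
    have h := congrArg (PowerSeries.coeff n) (theta_zetaFun f)
    rw [coeff_theta, PowerSeries.coeff_mul] at h
    calc (n : ℚ) * ((Nat.card k : ℚ) ^ n * PowerSeries.coeff n (Zeta.zetaFun f))
        = (Nat.card k : ℚ) ^ n * ((n : ℚ) * PowerSeries.coeff n (Zeta.zetaFun f)) := by ring
      _ = _ := by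
          rw [h, Finset.mul_sum]
          refine Finset.sum_congr rfl fun p hp => ?_
          rw [Finset.HasAntidiagonal.mem_antidiagonal] at hp
          rw [PowerSeries.coeff_rescale, U, U, PowerSeries.coeff_mk, PowerSeries.coeff_mk, hN, ← hp, pow_add]
          push_cast
          ring
  · rw [PowerSeries.coeff_rescale, pow_zero, one_mul, coeff_zero_zetaFun]

end Groth.Agent.S14455
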