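import Groth.Statements.S14457
import Mathlib.Algebra.DualNumber
import Mathlib.RingTheory.Etale.StandardEtale
import Mathlib.FieldTheory.IsAlgClosed.AlgebraicClosure

set_option autoImplicit false
universe u
open CAlg

namespace Groth.Agent.S14457

open Polynomial in
/-- Let A be a commutative ring, a an element of A and n ≥ 1 an integer. The A-algebra A[T]/(T^n − a) is
etale exactly when either n = 1 or the product n·a is a unit of A. (The exponent n is a positive
integer here; for n = 0 the quotient is (A/(1 − a))[T] and the equivalence fails.) -/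
theorem result (A : Type u) [CommRing A] (a : A) (n : ℕ) (hn : 1 ≤ n) :
    Algebra.Etale A (AdjoinRoot ((X : A[X]) ^ n - C a)) ↔ n = 1 ∨ IsUnit ((n : A) * a) := by
  set f : A[X] := X ^ n - C a with hf
  have hmon : f.Monic := monic_X_pow_sub_C a (by omega)
  constructor
  · intro het
    by_contra hne
    push Not at hne
    obtain ⟨hn1, hu⟩ := hne
    obtain ⟨m, hm, hle⟩ := Ideal.exists_le_maximal (Ideal.span {(n : A) * a})
      (by rwa [Ne, Ideal.span_singleton_eq_top])
    let := Ideal.Quotient.field m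
    let L := AlgebraicClosure (A ⧸ m)
    have hna : (n : L) * algebraMap A L a = 0 := by
      rw [← map_natCast (algebraMap A L), ← map_mul,
        IsScalarTower.algebraMap_apply A (A ⧸ m) L, Ideal.Quotient.algebraMap_eq,
        Ideal.Quotient.eq_zero_iff_mem.mpr (hle (Ideal.mem_span_singleton_self _)), map_zero]
    obtain ⟨x₀, hx₀⟩ := IsAlgClosed.exists_pow_nat_eq (algebraMap A L a) (show 0 < n by omega)
    let e₀ : DualNumber L := TrivSqZeroExt.inl x₀
    let e₁ : DualNumber L := TrivSqZeroExt.inl x₀ + DualNumber.eps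
    have hzero : (n : L) * x₀ ^ (n - 1) = 0 := by
      rcases mul_eq_zero.1 hna with h | h
      · rw [h, zero_mul]
      · rw [h] at hx₀
        rw [eq_zero_of_pow_eq_zero hx₀, zero_pow (by omega), mul_zero]
    have h₀ : e₀ ^ n = algebraMap A (DualNumber L) a := by
      apply TrivSqZeroExt.ext
      · simpa [e₀, TrivSqZeroExt.algebraMap_eq_inl'] using hx₀
      · simp [e₀, TrivSqZeroExt.algebraMap_eq_inl']
    have h₁ : e₁ ^ n = algebraMap A (DualNumber L) a := by
      apply TrivSqZeroExt.ext
      · simpa [e₁, TrivSqZeroExt.algebraMap_eq_inl'] using hx₀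
      · rw [TrivSqZeroExt.snd_pow]
        simpa [e₁, TrivSqZeroExt.algebraMap_eq_inl', nsmul_eq_mul] using hzero
    let g₁ : AdjoinRoot f →ₐ[A] DualNumber L := AdjoinRoot.liftAlgHom f (Algebra.ofId A _) e₀
      (by simp [hf, h₀])
    let g₂ : AdjoinRoot f →ₐ[A] DualNumber L := AdjoinRoot.liftAlgHom f (Algebra.ofId A _) e₁
      (by simp [hf, h₁])
    have hk : IsNilpotent (RingHom.ker (TrivSqZeroExt.fstHom L L L).toRingHom) := by
      refine ⟨2, ?_⟩
      rw [Submodule.pow_succ, Submodule.pow_one]
      refine le_bot_iff.mp (Ideal.mul_le.mpr fun a ha b hb => ?_)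
      rw [RingHom.mem_ker] at ha hb
      change a.fst = 0 at ha
      change b.fst = 0 at hb
      rw [Ideal.mem_bot]
      ext <;> simp [ha, hb]
    have heq : g₁ = g₂ := by
      refine Algebra.FormallyUnramified.ext' _ hk g₁ g₂ fun x => ?_
      have : ((TrivSqZeroExt.fstHom L L L).restrictScalars A).comp g₁ =
          ((TrivSqZeroExt.fstHom L L L).restrictScalars A).comp g₂ := by
        apply AdjoinRoot.algHom_ext
        simp [g₁, g₂, e₀, e₁]
      exact DFunLike.congr_fun this x
    have := congrArg (fun g : AdjoinRoot f →ₐ[A] DualNumber L => (g (AdjoinRoot.root f)).snd) heq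
    simp [g₁, g₂, e₀, e₁] at this
  · intro h
    obtain ⟨p₁, p₂, hp⟩ : ∃ p₁ p₂ : A[X], derivative f * p₁ + f * p₂ = 1 := by
      rcases h with rfl | ⟨u, hu⟩
      · exact ⟨1, 0, by simp [hf]⟩
      · refine ⟨C (↑u⁻¹ : A) * X, -C ((n : A) * ↑u⁻¹), ?_⟩
        simp only [hf, derivative_sub, derivative_X_pow, derivative_C, sub_zero]
        have hX : (X : A[X]) ^ (n - 1) * X = X ^ n := by
          rw [← pow_succ, show n - 1 + 1 = n by omega]
        have hc : C (n : A) * C a * C (↑u⁻¹ : A) = 1 := by
          rw [← C_mul, ← C_mul, ← hu, Units.mul_inv, C_1]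
        rw [C_mul]
        linear_combination (C (n : A) * C (↑u⁻¹ : A)) * hX + hc
    let P : StandardEtalePair A := ⟨f, hmon, 1, p₁, p₂, 0, by rw [hp, pow_zero]⟩
    have hone : IsUnit (AdjoinRoot.mk P.f P.g) := by simp [P]
    let e := IsLocalization.atUnit (AdjoinRoot f) (Localization.Away (AdjoinRoot.mk P.f P.g))
      (AdjoinRoot.mk P.f P.g) hone
    exact Algebra.Etale.of_equiv (P.equivAwayAdjoinRoot.trans (e.symm.restrictScalars A))

end Groth.Agent.S14457
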