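import Groth.Statements.S14458
import Mathlib.RingTheory.Artinian.Module
import Mathlib.LinearAlgebra.TensorProduct.Quotient

set_option autoImplicit false
universe u
open CAlg

namespace Groth.Agent.S14458

open TensorProduct in
/-- Let R be an Artinian local ring with residue field k and M an R-module, not necessarily finitely
generated. If M ⊗_R k = 0 then M = 0. -/
theorem result {R : Type u} [CommRing R]
    [IsArtinianRing R] [IsLocalRing R] (M : Type u) [AddCommGroup M] [Module R M]
    (h : Subsingleton ((IsLocalRing.ResidueField R) ⊗[R] M)) : Subsingleton M := by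
  let m := IsLocalRing.maximalIdeal R
  have : Subsingleton ((R ⧸ m) ⊗[R] M) := h
  have h1 : Subsingleton (M ⧸ m • (⊤ : Submodule R M)) :=
    (TensorProduct.quotTensorEquivQuotSMul M m).symm.toEquiv.subsingleton
  rw [Submodule.Quotient.subsingleton_iff] at h1
  have h2 : ∀ n : ℕ, m ^ n • (⊤ : Submodule R M) = ⊤ := by
    intro n
    induction n with
    | zero => simp
    | succ n ih => rw [pow_succ, Submodule.mul_smul, h1, ih]
  obtain ⟨n, hn⟩ := IsArtinianRing.isNilpotent_jacobson_bot (R := R)
  rw [IsLocalRing.jacobson_eq_maximalIdeal ⊥ bot_ne_top] at hn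
  have h3 := h2 n
  rw [hn, Submodule.zero_eq_bot, Submodule.bot_smul] at h3
  exact ⟨fun a b => by
    have ha : a ∈ (⊥ : Submodule R M) := h3 ▸ Submodule.mem_top
    have hb : b ∈ (⊥ : Submodule R M) := h3 ▸ Submodule.mem_top
    rw [Submodule.mem_bot] at ha hb; rw [ha, hb]⟩

end Groth.Agent.S14458
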