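import Groth.Statements.S14461
import Groth.Agent.FEtLib.FullCrit
import Groth.Agent.FEtLib.Monodromy

set_option autoImplicit false
universe u
open CategoryTheory CategoryTheory.Limits AlgebraicGeometry
open Pi1

namespace Groth.Agent.S14461

/-- Let X be a Noetherian scheme and X₀ → X a closed immersion such that, for every finite étale Y → X,
the projection Y ×_X X₀ → Y induces a bijection on connected components. Then restriction of finite
étale covers from X to X₀ is full and faithful. -/
theorem result {X X₀ : Scheme.{u}} [IsNoetherian X]
    (i : X₀ ⟶ X) [IsClosedImmersion i]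
    (h : ∀ Y : FEt.Cat X, Function.Bijective (pullback.fst Y.hom i).continuous.connectedComponentsMap) :
    (FEt.restrict i).Full ∧ (FEt.restrict i).Faithful := by
  refine FEtLib.full_faithful_restrict i (fun W hW hne => ?_) fun Z W hW => ?_
  · obtain ⟨x, hx⟩ := hne
    let T : FEt.Cat X := FEtLib.mk (𝟙 X)
    obtain ⟨c, hc⟩ := (h T).2 (ConnectedComponents.mk (show T.left from x))
    obtain ⟨p, rfl⟩ := ConnectedComponents.surjective_coe c
    refine ⟨pullback.fst T.hom i p, ?_, pullback.snd T.hom i p, ?_⟩
    · have hc' : pullback.fst T.hom i p ∈ connectedComponent (show T.left from x) :=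
        ConnectedComponents.coe_eq_coe'.mp hc
      exact hW.connectedComponent_subset hx hc'
    · exact (congr($(pullback.condition (f := T.hom) (g := i)) p)).symm
  · let e := pullback.fst Z.hom i
    haveI : TopologicalSpace.NoetherianSpace Z.left := FEtLib.noetherianSpace_of_finiteType (S := X) Z.hom
    have hS : IsLocallyConstant (fun z : Z.left => ConnectedComponents.mk z ∈
        e.continuous.connectedComponentsMap '' (ConnectedComponents.mk '' W)) := by
      refine IsLocallyConstant.iff_exists_open _ |>.mpr fun z =>
        ⟨connectedComponent z, (FEtLib.isClopen_component z).2, mem_connectedComponent, fun z' hz' => ?_⟩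
      have : ConnectedComponents.mk z' = ConnectedComponents.mk z := ConnectedComponents.coe_eq_coe'.mpr hz'
      simp only [this]
    refine ⟨{z | ConnectedComponents.mk z ∈
        e.continuous.connectedComponentsMap '' (ConnectedComponents.mk '' W)}, ?_, ?_⟩
    · have := hS.isClopen_fiber True
      convert this using 2 with z
      simp
    · ext p
      constructor
      · rintro ⟨c, ⟨q, hq, rfl⟩, hcp⟩
        have : ConnectedComponents.mk p = ConnectedComponents.mk q := (h Z).1 hcp.symm
        exact hW.connectedComponent_subset hq (ConnectedComponents.coe_eq_coe'.mp this)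
      · intro hp
        exact ⟨ConnectedComponents.mk p, ⟨p, hp, rfl⟩, rfl⟩

end Groth.Agent.S14461
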