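import Groth.Statements.S14462
import Groth.Agent.PurityReg.DiscrFlat


set_option autoImplicit false
set_option linter.style.haveILetI false
set_option backward.isDefEq.respectTransparency false
set_option backward.isDefEq.respectTransparency.types false
universe u
open CategoryTheory AlgebraicGeometry
open Unram

namespace Groth.Agent.S14462

section Aux
open TensorProduct

set_option maxHeartbeats 1000000 in
theorem etale_atPrime_of_dim {A B : Type u} [CommRing A] [CommRing B] [Algebra A B] [IsNoetherianRing A]
    [Module.Finite A B] [Module.Flat A B] (S : Set (PrimeSpectrum A))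
    (hd : ∀ q : PrimeSpectrum A, q ∉ S →
      (2 : WithBot ℕ∞) ≤ ringKrullDim (Localization.AtPrime q.asIdeal))
    (he : ∀ q : PrimeSpectrum A, q ∈ S → Algebra.Etale q.asIdeal.ResidueField (q.asIdeal.ResidueField ⊗[A] B))
    (p : Ideal A) [p.IsPrime] :
    Algebra.Etale (Localization.AtPrime p) (Localization.AtPrime p ⊗[A] B) := by
  classical
  set A' := Localization.AtPrime p
  haveI : Module.Free A' (A' ⊗[A] B) := Module.free_of_flat_of_isLocalRing
  let b := Module.Free.chooseBasis A' (A' ⊗[A] B)
  refine Unram.etale_of_isUnit_discr b ?_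
  by_contra hu
  obtain ⟨m, hm, hle⟩ := Ideal.exists_le_maximal _ (show Ideal.span {Algebra.discr A' b} ≠ ⊤ by
    rwa [Ne, Ideal.span_singleton_eq_top])
  obtain ⟨q', hq', -⟩ := Ideal.exists_minimalPrimes_le hle
  haveI := hq'.1.1
  have hdq : Algebra.discr A' b ∈ q' := hq'.1.2 (Ideal.mem_span_singleton_self _)
  let q : Ideal A := q'.comap (algebraMap A A')
  by_cases hq : (⟨q, inferInstance⟩ : PrimeSpectrum A) ∈ S
  · let K := q'.ResidueField
    have hK : RingHom.ker (algebraMap A K) = q := by
      rw [IsScalarTower.algebraMap_eq A A' K, ← RingHom.comap_ker, Ideal.ker_algebraMap_residueField]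
    haveI := PurityReg.etale_fibre q (he _ hq) K hK
    haveI : Algebra.Etale K (K ⊗[A'] (A' ⊗[A] B)) :=
      .of_equiv (Algebra.TensorProduct.cancelBaseChange A A' K K B).symm
    have h1 := Unram.isUnit_discr_of_etale (A := K) (B := K ⊗[A'] (A' ⊗[A] B))
      (Algebra.TensorProduct.basis K b)
    rw [Unram.discr_baseChange, Ideal.algebraMap_residueField_eq_zero.mpr hdq] at h1
    exact not_isUnit_zero h1
  · have h2 := hd _ hq
    haveI : IsLocalization.AtPrime (Localization.AtPrime q') q :=
      IsLocalization.isLocalization_atPrime_localization_atPrime p.primeCompl q'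
    have e : Localization.AtPrime q ≃ₐ[A] Localization.AtPrime q' :=
      IsLocalization.algEquiv q.primeCompl _ _
    rw [ringKrullDim_eq_of_ringEquiv e.toRingEquiv,
      IsLocalization.AtPrime.ringKrullDim_eq_height q' (Localization.AtPrime q')] at h2
    have h4 : q'.height ≤ 1 :=
      Ideal.height_le_one_of_isPrincipal_of_mem_minimalPrimes (Ideal.span {Algebra.discr A' b}) q' hq'
    have h5 : (2 : ℕ∞) ≤ q'.height := WithBot.coe_le_coe.1 h2
    exact absurd (h5.trans h4) (by norm_num)

theorem etale_of_flat_of_dim {A B : Type u} [CommRing A] [CommRing B] [Algebra A B] [IsNoetherianRing A]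
    [Module.Finite A B] [Module.Flat A B] (S : Set (PrimeSpectrum A))
    (hd : ∀ q : PrimeSpectrum A, q ∉ S →
      (2 : WithBot ℕ∞) ≤ ringKrullDim (Localization.AtPrime q.asIdeal))
    (he : ∀ q : PrimeSpectrum A, q ∈ S → Algebra.Etale q.asIdeal.ResidueField (q.asIdeal.ResidueField ⊗[A] B)) :
    Algebra.Etale A B := by
  haveI : Algebra.FinitePresentation A B :=
    Algebra.FinitePresentation.of_finiteType.mp inferInstance
  haveI : Algebra.FormallyUnramified A B := by
    refine Unram.formallyUnramified_of_forall_algClosure fun p hp => ?_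
    haveI := etale_atPrime_of_dim S hd he p
    haveI : Algebra.Etale p.ResidueField (p.ResidueField ⊗[A] B) :=
      .of_equiv (Algebra.TensorProduct.cancelBaseChange A (Localization.AtPrime p) p.ResidueField
        p.ResidueField B)
    have hK : RingHom.ker (algebraMap A (AlgebraicClosure p.ResidueField)) = p := by
      rw [IsScalarTower.algebraMap_eq A p.ResidueField (AlgebraicClosure p.ResidueField),
        ← RingHom.comap_ker, (RingHom.injective_iff_ker_eq_bot _).mp (algebraMap p.ResidueField (AlgebraicClosure p.ResidueField)).injective,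
        ← RingHom.ker_eq_comap_bot, Ideal.ker_algebraMap_residueField]
    haveI := PurityReg.etale_fibre p ‹_› (AlgebraicClosure p.ResidueField) hK
    infer_instance
  exact Algebra.Etale.of_formallyUnramified_of_flat

end Aux

open AlgebraicGeometry CategoryTheory CategoryTheory.Limits TensorProduct in
set_option maxHeartbeats 1000000 in
theorem etale_spec {A B : CommRingCat.{u}} (φ : A ⟶ B) [IsNoetherianRing A] [IsFinite (Spec.map φ)]
    [Flat (Spec.map φ)] (U : (Spec A).Opens)
    (hU : ∀ x : Spec A, x ∉ U →
      (2 : WithBot ℕ∞) ≤ ringKrullDim ((Spec A).presheaf.stalk x))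
    (he : ∀ (K : CommRingCat.{u}) (g : Spec K ⟶ Spec A), Set.range g.base ⊆ U →
      Etale (pullback.snd (Spec.map φ) g)) : Etale (Spec.map φ) := by
  letI := φ.hom.toAlgebra
  have : Module.Finite A B := (IsFinite.SpecMap_iff φ).mp inferInstance
  have : Module.Flat A B := (HasRingHomProperty.Spec_iff (P := @Flat)).mp inferInstance
  have h : Algebra.Etale A B := by
    refine etale_of_flat_of_dim {q : PrimeSpectrum A | (q : ↥(Spec A)) ∈ U} (fun q hq => ?_) fun q hq => ?_
    · have h2 := hU q hq
      have hn : IsNoetherianRing ((Spec A).presheaf.stalk q) := inferInstance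
      let e : Localization.AtPrime q.asIdeal ≃+* (Spec A).presheaf.stalk q :=
        (StructureSheaf.stalkIso (R := A) q).toRingEquiv
      rwa [ringKrullDim_eq_of_ringEquiv e]
    · let K := q.asIdeal.ResidueField
      have h3 := he (.of K) (Spec.map (CommRingCat.ofHom (algebraMap A K))) (by
        rintro _ ⟨z, rfl⟩
        have : (Spec.map (CommRingCat.ofHom (algebraMap A K))).base z = q := by
          apply PrimeSpectrum.ext
          change z.asIdeal.comap (algebraMap A K) = q.asIdeal
          rw [show z.asIdeal = ⊥ from (Ideal.eq_bot_or_top _).resolve_right z.2.ne_top,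
            ← RingHom.ker_eq_comap_bot, Ideal.ker_algebraMap_residueField]
        exact this.symm ▸ hq)
      have h4 : Etale (pullback.snd (Spec.map (CommRingCat.ofHom (algebraMap A B)))
          (Spec.map (CommRingCat.ofHom (algebraMap A K)))) := h3
      rw [← pullbackSpecIso_hom_snd, MorphismProperty.cancel_left_of_respectsIso @Etale,
        HasRingHomProperty.Spec_iff (P := @Etale)] at h4
      have h5 := RingHom.Etale.respectsIso.1 _ (Algebra.TensorProduct.comm A B K).toRingEquiv h4
      have h6 : (algebraMap K (K ⊗[A] B)).Etale := by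
        refine Eq.mp (congrArg RingHom.Etale ?_) h5
        exact RingHom.ext fun k => by simp [Algebra.TensorProduct.algebraMap_apply]
      exact RingHom.etale_algebraMap.mp h6
  rw [HasRingHomProperty.Spec_iff (P := @Etale)]
  exact RingHom.etale_algebraMap.mpr h




open CategoryTheory.Limits in
/-- Let f : X → Y be finite and flat with Y locally Noetherian, and let U ⊆ Y be open with every point
of the complement having a local ring of Krull dimension at least 2. If f is étale over U, then f is
étale. -/
theorem result {X Y : Scheme.{u}} [IsLocallyNoetherian Y]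
    (f : X ⟶ Y) [IsFinite f] [Flat f] (U : Y.Opens)
    (hU : ∀ y : Y, y ∉ U → (2 : WithBot ℕ∞) ≤ ringKrullDim (Y.presheaf.stalk y))
    [Etale (f ∣_ U)] : Etale f := by
  haveI : Etale (pullback.snd f U.ι) := by
    rw [← pullbackRestrictIsoRestrict_hom_morphismRestrict f U,
      MorphismProperty.cancel_left_of_respectsIso @Etale]
    infer_instance
  rw [IsZariskiLocalAtTarget.iff_of_openCover (P := @AlgebraicGeometry.Etale) Y.affineCover]
  intro i
  set j := Y.affineCover.f i
  set f' := pullback.snd f j
  haveI : IsFinite f' := MorphismProperty.pullback_snd _ _ inferInstance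
  haveI : Flat f' := MorphismProperty.pullback_snd _ _ inferInstance
  haveI : IsAffine (pullback f j) := isAffine_of_isAffineHom f'
  change Etale f'
  let φ := Spec.preimage ((pullback f j).isoSpec.inv ≫ f')
  have hφ : Spec.map φ = (pullback f j).isoSpec.inv ≫ f' := Spec.map_preimage _
  rw [← MorphismProperty.cancel_left_of_respectsIso @Etale (pullback f j).isoSpec.inv f', ← hφ]
  haveI : IsFinite (Spec.map φ) := by rw [hφ]; infer_instance
  haveI : Flat (Spec.map φ) := by rw [hφ]; infer_instance
  haveI := isLocallyNoetherian_of_isOpenImmersion j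
  haveI hnoe : IsNoetherianRing ↑((fun x => Classical.choose (Y.local_affine x).choose_spec) i) :=
    isLocallyNoetherian_Spec.mp (isLocallyNoetherian_of_isOpenImmersion j)
  refine etale_spec φ (j ⁻¹ᵁ U) (fun x hx => ?_) fun K g hg => ?_
  · have h2 := hU (j.base x) hx
    haveI := isLocallyNoetherian_of_isOpenImmersion j
    rwa [ringKrullDim_eq_of_ringEquiv (asIso (j.stalkMap x)).commRingCatIsoToRingEquiv] at h2
  · let g' := IsOpenImmersion.lift U.ι (g ≫ j) (by
      rintro _ ⟨z, rfl⟩
      rw [Scheme.Opens.range_ι]
      exact hg ⟨z, rfl⟩)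
    have hg' : g' ≫ U.ι = g ≫ j := IsOpenImmersion.lift_fac _ _ _
    have h1 : Etale (pullback.snd (pullback.snd f U.ι) g') :=
      MorphismProperty.pullback_snd _ _ inferInstance
    have h2 : Etale (pullback.snd f (g' ≫ U.ι)) := by
      rw [← pullbackLeftPullbackSndIso_hom_snd, MorphismProperty.cancel_left_of_respectsIso @Etale] at h1
      exact h1
    have h2' : ∀ k, k = g' ≫ U.ι → Etale (pullback.snd f k) := by rintro k rfl; exact h2
    have h3 : Etale (pullback.snd f' g) := by
      rw [← pullbackLeftPullbackSndIso_hom_snd, MorphismProperty.cancel_left_of_respectsIso @Etale]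
      exact h2' _ hg'.symm
    have hmap : pullback.snd (Spec.map φ) g =
        pullback.map (Spec.map φ) g f' g (pullback f j).isoSpec.inv (𝟙 _) (𝟙 _) (by simp [hφ]) (by simp)
          ≫ pullback.snd f' g := by simp
    rw [hmap]
    haveI := h3
    infer_instance

end Groth.Agent.S14462
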