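import Groth.Statements.S14478


set_option autoImplicit false
universe u
open CharCyc

namespace Groth.Agent.S14478

/-- Let V be a finite-dimensional vector space over a field k, let W = V × V^∨ with V^∨ the dual space,
and let T ⊆ W be a subspace with dim T = dim V; put V₁ = V ∩ T, where V sits in W as V × 0. Then
there is a complement V₂ of V₁ in V with the following property: for every injective linear map A₁ :
V₁ → V₁^∨, the map A : V → V^∨ extending A₁ by zero along the decompositions V = V₁ ⊕ V₂ and V^∨ =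
V₁^∨ ⊕ V₂^∨ (so A v = A₁(p v) ∘ p, with p : V → V₁ the projection along V₂) has graph Γ ⊆ W with Γ ∩
T = 0. -/
theorem result (k V : Type u) [Field k] [AddCommGroup V] [Module k V]
    [FiniteDimensional k V] (T : Submodule k (V × Module.Dual k V))
    (hT : Module.finrank k T = Module.finrank k V) :
    ∃ (V₂ : Submodule k V) (h : IsCompl (T.comap (LinearMap.inl k V (Module.Dual k V))) V₂),
      ∀ A₁ : T.comap (LinearMap.inl k V (Module.Dual k V)) →ₗ[k]
          Module.Dual k (T.comap (LinearMap.inl k V (Module.Dual k V))),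
        Function.Injective A₁ →
          LinearMap.graph ((Submodule.projectionOnto _ V₂ h).dualMap ∘ₗ A₁ ∘ₗ
              Submodule.projectionOnto _ V₂ h) ⊓ T = ⊥ := by
  classical
  -- common complement of two subspaces of the same dimension
  have common : ∀ (m : ℕ) (U₁ U₂ : Submodule k V), Module.finrank k U₁ = Module.finrank k U₂ →
      Module.finrank k V - Module.finrank k U₁ = m → ∃ C, IsCompl U₁ C ∧ IsCompl U₂ C := by
    intro m
    induction m with
    | zero =>
      intro U₁ U₂ he h0
      have h1 : U₁ = ⊤ := Submodule.eq_top_of_finrank_eq (le_antisymm (Submodule.finrank_le _) (by omega))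
      have h2 : U₂ = ⊤ := Submodule.eq_top_of_finrank_eq (le_antisymm (Submodule.finrank_le _) (by omega))
      exact ⟨⊥, by rw [h1]; exact isCompl_top_bot, by rw [h2]; exact isCompl_top_bot⟩
    | succ m ih =>
      intro U₁ U₂ he hm
      obtain ⟨v, hv1, hv2⟩ : ∃ v, v ∉ U₁ ∧ v ∉ U₂ := by
        have hne1 : U₁ ≠ ⊤ := fun h => by rw [h, finrank_top] at hm; omega
        have hne2 : U₂ ≠ ⊤ := fun h => by rw [h, finrank_top] at he; omega
        by_contra hcon
        push Not at hcon
        obtain ⟨a, -, ha⟩ := SetLike.exists_of_lt (lt_top_iff_ne_top.2 hne1)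
        obtain ⟨b, -, hb⟩ := SetLike.exists_of_lt (lt_top_iff_ne_top.2 hne2)
        have ha2 := hcon a ha
        have hb1 : b ∈ U₁ := by by_contra h; exact hb (hcon b h)
        have hab : a + b ∉ U₁ := fun h => ha (by simpa using U₁.sub_mem h hb1)
        exact hb (by simpa using U₂.sub_mem (hcon _ hab) ha2)
      have hv0 : v ≠ 0 := fun h => hv1 (h ▸ U₁.zero_mem)
      have hr : ∀ U : Submodule k V, v ∉ U →
          Module.finrank k ↥(U ⊔ k ∙ v) = Module.finrank k U + 1 := by
        intro U hU
        have h := Submodule.finrank_sup_add_finrank_inf_eq U (k ∙ v)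
        have hd : Disjoint U (k ∙ v) := (Submodule.disjoint_span_singleton' hv0).2 hU
        rw [hd.eq_bot, finrank_bot, finrank_span_singleton hv0] at h
        omega
      obtain ⟨C, hC1, hC2⟩ := ih (U₁ ⊔ k ∙ v) (U₂ ⊔ k ∙ v) (by rw [hr _ hv1, hr _ hv2, he])
        (by rw [hr _ hv1]; omega)
      refine ⟨(k ∙ v) ⊔ C, ⟨?_, ?_⟩, ⟨?_, ?_⟩⟩
      · exact ((Submodule.disjoint_span_singleton' hv0).2 hv1).disjoint_sup_right_of_disjoint_sup_left hC1.disjoint
      · rw [codisjoint_iff, ← sup_assoc, hC1.sup_eq_top]
      · exact ((Submodule.disjoint_span_singleton' hv0).2 hv2).disjoint_sup_right_of_disjoint_sup_left hC2.disjoint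
      · rw [codisjoint_iff, ← sup_assoc, hC2.sup_eq_top]
  set V₁ := T.comap (LinearMap.inl k V (Module.Dual k V)) with hV₁
  let π₂ := (LinearMap.snd k V (Module.Dual k V)).domRestrict T
  let D : Submodule k (Module.Dual k V) := LinearMap.range π₂
  have hker : Module.finrank k (LinearMap.ker π₂) = Module.finrank k V₁ := by
    refine LinearEquiv.finrank_eq
      { toFun := fun x => ⟨(x.1 : V × Module.Dual k V).1, by
          have h2 : (x.1 : V × Module.Dual k V).2 = 0 := x.2
          show ((x.1 : V × Module.Dual k V).1, (0 : Module.Dual k V)) ∈ T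
          rw [← h2]
          exact x.1.2⟩
        map_add' := fun _ _ => rfl
        map_smul' := fun _ _ => rfl
        invFun := fun v => ⟨⟨((v : V), 0), v.2⟩, rfl⟩
        left_inv := fun x => by
          have h2 : (x.1 : V × Module.Dual k V).2 = 0 := x.2
          apply Subtype.ext; apply Subtype.ext
          exact Prod.ext rfl h2.symm
        right_inv := fun _ => rfl }
  have hD : Module.finrank k D.dualCoannihilator = Module.finrank k V₁ := by
    have h1 := Subspace.finrank_add_finrank_dualCoannihilator_eq D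
    have h2 := LinearMap.finrank_range_add_finrank_ker (K := k) (V := ↥T) (V₂ := Module.Dual k V) π₂
    rw [hker, hT] at h2
    change Module.finrank k D + _ = _ at h2
    omega
  obtain ⟨C, hC1, hC2⟩ := common _ V₁ D.dualCoannihilator hD.symm rfl
  refine ⟨C, hC1, fun A₁ hA => ?_⟩
  rw [eq_bot_iff]
  rintro ⟨v, φ⟩ ⟨hg, hT'⟩
  have hφ : φ = (Submodule.projectionOnto V₁ C hC1).dualMap (A₁ (Submodule.projectionOnto V₁ C hC1 v)) := hg
  have hφC : ∀ c ∈ C, φ c = 0 := by
    intro c hc
    rw [hφ, LinearMap.dualMap_apply, show Submodule.projectionOnto V₁ C hC1 c = 0 from (Submodule.projectionOnto_apply_eq_zero_iff hC1).2 hc, map_zero]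
  have hφD : ∀ u ∈ D.dualCoannihilator, φ u = 0 := fun u hu =>
    (Submodule.mem_dualCoannihilator u).1 hu φ ⟨⟨(v, φ), hT'⟩, rfl⟩
  have hφ0 : φ = 0 := by
    ext u
    obtain ⟨a, ha, c, hc, rfl⟩ := Submodule.mem_sup.1 (hC2.sup_eq_top.symm ▸ Submodule.mem_top : u ∈ _)
    rw [map_add, hφD a ha, hφC c hc, add_zero]; rfl
  have hp : Submodule.projectionOnto V₁ C hC1 v = 0 := by
    apply hA
    rw [map_zero]
    apply LinearMap.dualMap_injective_of_surjective (f := Submodule.projectionOnto V₁ C hC1)
    · intro x; exact ⟨x, Submodule.projectionOnto_apply_left _ x⟩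
    · rw [← hφ, hφ0, map_zero]
  have hvC : v ∈ C := (Submodule.projectionOnto_apply_eq_zero_iff hC1).1 hp
  have hvV : v ∈ V₁ := by
    show (v, (0 : Module.Dual k V)) ∈ T
    rw [← hφ0]; exact hT'
  have hv0 : v = 0 := (Submodule.disjoint_def.1 hC1.disjoint) v hvV hvC
  simp [hv0, hφ0]

end Groth.Agent.S14478
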