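import Groth.Statements.S14479
import Mathlib.LinearAlgebra.Matrix.BilinearForm
import Mathlib.LinearAlgebra.Matrix.NonsingularInverse
import Mathlib.LinearAlgebra.Dimension.Free


set_option autoImplicit false
universe u
open CharCyc

namespace Groth.Agent.S14479

/-- Let V be a finite-dimensional vector space over a field k. If dim V is even or the characteristic of
k is different from 2, there is a bilinear form B on V such that the bilinear form (v, w) ↦ B(v, w)
+ B(w, v) (B plus its transpose, as a map V → V^∨) is nondegenerate. -/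
theorem result (k V : Type u) [Field k] [AddCommGroup V] [Module k V]
    [FiniteDimensional k V] (h : Even (Module.finrank k V) ∨ ringChar k ≠ 2) :
    ∃ B : LinearMap.BilinForm k V, (B + B.flip).Nondegenerate := by
  classical
  suffices ∃ (n : ℕ) (b : Module.Basis (Fin n) k V) (M : Matrix (Fin n) (Fin n) k),
      (M + M.transpose).det ≠ 0 by
    obtain ⟨n, b, M, hM⟩ := this
    refine ⟨Matrix.toBilin b M, ?_⟩
    rw [LinearMap.BilinForm.nondegenerate_iff_det_ne_zero b]
    have : LinearMap.BilinForm.toMatrix b (Matrix.toBilin b M + (Matrix.toBilin b M).flip) =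
        M + M.transpose := by
      ext i j
      rw [LinearMap.BilinForm.toMatrix_apply, LinearMap.add_apply, LinearMap.add_apply,
        LinearMap.BilinForm.flip_apply, ← LinearMap.BilinForm.toMatrix_apply b,
        ← LinearMap.BilinForm.toMatrix_apply b, LinearMap.BilinForm.toMatrix_toBilin]
      rfl
    rwa [this]
  let b := Module.finBasis k V
  rcases h with ⟨m, hm⟩ | h2
  · let e : Fin m ⊕ Fin m ≃ Fin (Module.finrank k V) := finSumFinEquiv.trans (finCongr hm.symm)
    refine ⟨_, b, Matrix.reindex e e (Matrix.fromBlocks 0 1 0 0), ?_⟩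
    rw [Matrix.transpose_reindex, Matrix.fromBlocks_transpose]
    simp only [Matrix.reindex_apply]
    rw [show ∀ (X Y : Matrix (Fin m ⊕ Fin m) (Fin m ⊕ Fin m) k),
      X.submatrix e.symm e.symm + Y.submatrix e.symm e.symm = (X + Y).submatrix e.symm e.symm
      from fun X Y => rfl, Matrix.det_submatrix_equiv_self, Matrix.fromBlocks_add]
    refine (Matrix.isUnit_det_of_right_inverse (B := Matrix.fromBlocks 0 1 1 0) ?_).ne_zero
    simp [Matrix.fromBlocks_multiply, Matrix.fromBlocks_one]
  · refine ⟨_, b, 1, ?_⟩
    rw [Matrix.transpose_one, ← two_smul k (1 : Matrix _ _ k), Matrix.det_smul, Matrix.det_one, mul_one]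
    exact pow_ne_zero _ (Ring.two_ne_zero h2)

end Groth.Agent.S14479
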