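import Groth.Statements.S14496
import Groth.Agent.IndCofLib.Primary

set_option autoImplicit false
set_option linter.style.haveILetI false
universe v
open IndCof

namespace Groth.Agent.S14496

open CategoryTheory CategoryTheory.Limits in
/-- Let C be a small abelian category all of whose objects are Artinian and killed by some power of a
prime p, and A an ind-object of C of cofinite type. Let N be such that p^n A = p^N A for all n ≥ N,
so that the divisible part A_div = ⋂ p^n A equals p^N A. Then A_div is of cofinite type and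
divisible (multiplication by p on it is an epimorphism; integers prime to p act invertibly on every
ind-object here, so this is divisibility by all positive integers); it is the largest divisible
sub-object of A; and A / A_div is the largest quotient of A lying in C: every epimorphism from A
onto an object isomorphic to an object of C vanishes on A_div. (The row takes the stabilization
index N as a hypothesis instead of forming the intersection; that A / A_div itself lies in C is the
statement about A / p^N A and is not repeated here.) -/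
theorem result {C : Type v} [SmallCategory C] [Abelian C]
    (hart : ∀ X : C, IsArtinianObject X) (p : ℕ) (hp : p.Prime)
    (htor : ∀ X : C, ∃ n : ℕ, (p ^ n) • 𝟙 X = 0)
    (A : Ind C) (hA : ∀ n : ℕ, (Ind.yoneda (C := C)).essImage (kernel ((p ^ n) • 𝟙 A))) (N : ℕ)
    (hN : ∀ n : ℕ, N ≤ n → imageSubobject ((p ^ n) • 𝟙 A) = imageSubobject ((p ^ N) • 𝟙 A)) :
    (∀ n : ℕ, (Ind.yoneda (C := C)).essImage
        (kernel ((p ^ n) • 𝟙 ((imageSubobject ((p ^ N) • 𝟙 A) : Subobject A) : Ind C)))) ∧
      Epi (p • 𝟙 ((imageSubobject ((p ^ N) • 𝟙 A) : Subobject A) : Ind C)) ∧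
      (∀ D : Subobject A, Epi (p • 𝟙 (D : Ind C)) → D ≤ imageSubobject ((p ^ N) • 𝟙 A)) ∧
      (∀ (Q : Ind C) (q : A ⟶ Q), Epi q → (Ind.yoneda (C := C)).essImage Q →
        (imageSubobject ((p ^ N) • 𝟙 A)).arrow ≫ q = 0) := by
  have htor' := Groth.Agent.IndCofLib.tors_of_pow hp htor
  have hcof := Groth.Agent.IndCofLib.cof_of_pow hp htor hA
  have e0 : ∀ n, (imageSubobject ((p ^ n) • 𝟙 A)).arrow ≫ cokernel.π ((p ^ n) • 𝟙 A) = 0 := fun n => by
    rw [← cancel_epi (factorThruImageSubobject ((p ^ n) • 𝟙 A)), imageSubobject_arrow_comp_assoc,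
      cokernel.condition, comp_zero]
  have eN : ∀ n, N ≤ n → (imageSubobject ((p ^ N) • 𝟙 A)).arrow ≫ cokernel.π ((p ^ n) • 𝟙 A) = 0 :=
    fun n hn => by rw [← Subobject.ofLE_arrow (hN n hn).ge, Category.assoc, e0, comp_zero]
  refine ⟨fun n => ?_, ?_, fun D hD => ?_, fun Q q _ hQ => ?_⟩
  · have e1 : kernel.ι (cokernel.π ((p ^ N) • 𝟙 A)) ≫
        cokernel.π (imageSubobject ((p ^ N) • 𝟙 A)).arrow = 0 := by
      have h := factorThruImageSubobject ((p ^ N) • 𝟙 A) ≫=
        cokernel.condition (imageSubobject ((p ^ N) • 𝟙 A)).arrow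
      rw [comp_zero, ← Category.assoc, imageSubobject_arrow_comp] at h
      rw [← cokernel.π_desc _ _ h, kernel.condition_assoc, zero_comp]
    let e : kernel (cokernel.π ((p ^ N) • 𝟙 A)) ≅ ((imageSubobject ((p ^ N) • 𝟙 A) : Subobject A) : Ind C) :=
      ⟨Abelian.monoLift _ _ e1, kernel.lift _ _ (e0 N), by
        rw [← cancel_mono (kernel.ι _), Category.assoc, kernel.lift_ι, Abelian.monoLift_comp, Category.id_comp],
      by rw [← cancel_mono (imageSubobject ((p ^ N) • 𝟙 A)).arrow, Category.assoc, Abelian.monoLift_comp,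
        kernel.lift_ι, Category.id_comp]⟩
    refine Groth.Agent.IndCofLib.rep_of_iso
      (kernel.mapIso _ ((p ^ n) • 𝟙 _) e e (by
        rw [Preadditive.nsmul_comp, Preadditive.comp_nsmul, Category.comp_id, Category.id_comp])) ?_
    exact Groth.Agent.IndCofLib.cof_kernel hcof (Groth.Agent.IndCofLib.cof_of_rep
      (Groth.Agent.IndCofLib.rep_coker hart htor' hcof (pow_pos hp.pos N))) _ _ (pow_pos hp.pos n)
  · rw [epi_iff_surjective_up_to_refinements]
    intro T x
    obtain ⟨T', π, hπ, y, hy⟩ := Groth.Agent.IndCofLib.exists_refine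
      (x ≫ (imageSubobject ((p ^ N) • 𝟙 A)).arrow) ((p ^ (N + 1)) • 𝟙 A)
      (by rw [Category.assoc, eN (N + 1) (by omega), comp_zero])
    refine ⟨T', π, hπ, y ≫ factorThruImageSubobject ((p ^ N) • 𝟙 A), ?_⟩
    rw [← cancel_mono (imageSubobject ((p ^ N) • 𝟙 A)).arrow]
    simp only [Category.assoc, Preadditive.nsmul_comp, Category.id_comp, Preadditive.comp_nsmul,
      imageSubobject_arrow_comp, ← mul_smul]
    rw [hy, Preadditive.comp_nsmul, pow_succ']
  · rw [Groth.Agent.IndCofLib.le_iff_comp_cokernel]
    have key : ∀ n : ℕ, D.arrow ≫ cokernel.π ((p ^ n) • 𝟙 A) = 0 := fun n => by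
      haveI : ∀ n : ℕ, Epi ((p ^ n) • 𝟙 (D : Ind C)) := fun n => by
        induction n with
        | zero => rw [pow_zero, one_smul]; infer_instance
        | succ n ih =>
          rw [pow_succ, mul_smul, show p ^ n • p • 𝟙 (D : Ind C) = ((p ^ n) • 𝟙 _) ≫ (p • 𝟙 _) by
            rw [Preadditive.nsmul_comp, Category.id_comp]]
          haveI := hD
          exact epi_comp _ _
      rw [← cancel_epi ((p ^ n) • 𝟙 (D : Ind C)), comp_zero, ← Category.assoc, Preadditive.nsmul_comp,
        Category.id_comp]
      exact Groth.Agent.IndCofLib.smul_comp_cokernel _ _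
    obtain ⟨T', π, hπ, y, hy⟩ := Groth.Agent.IndCofLib.exists_refine _ _ (key N)
    refine Groth.Agent.IndCofLib.comp_cokernel_eq_zero π (y ≫ factorThruImageSubobject ((p ^ N) • 𝟙 A)) ?_
    rw [hy, Category.assoc, imageSubobject_arrow_comp]
  · obtain ⟨k, hk⟩ := htor hQ.witness
    have hk' : (p ^ k) • q = 0 := by
      have h := congrArg (fun t => q ≫ hQ.getIso.inv ≫ Ind.yoneda.map t ≫ hQ.getIso.hom) hk
      simpa [Functor.map_nsmul, Preadditive.comp_nsmul, Preadditive.nsmul_comp] using h
    have hM : (p ^ max N k) • q = 0 := by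
      rw [← Nat.sub_add_cancel (le_max_right N k), pow_add, mul_smul, hk', smul_zero]
    have h0 : ((p ^ max N k) • 𝟙 A) ≫ q = 0 := by rw [Preadditive.nsmul_comp, Category.id_comp, hM]
    rw [← cokernel.π_desc _ _ h0, ← Category.assoc, eN _ (le_max_left N k), zero_comp]

end Groth.Agent.S14496
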