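import Groth.Statements.S14497
-- import your own Groth.Agent.* helpers here

set_option autoImplicit false
universe v u
open IndCof

namespace Groth.Agent.S14497

open CategoryTheory CategoryTheory.Limits

theorem le_of_epi_comm {V : Type u} [Category.{v} V] [Abelian V] {B : V} {D X : Subobject B}
    (e : (D : V) ⟶ D) [Epi e] (h : (D : V) ⟶ X) (w : e ≫ D.arrow = h ≫ X.arrow) : D ≤ X :=
  haveI := strongEpi_of_epi e
  have sq : CommSq h e X.arrow D.arrow := ⟨w.symm⟩
  Subobject.le_of_comm sq.lift sq.fac_right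

/-- Let B be an object of an abelian category and consider the inverse system, indexed by the positive
integers ordered by divisibility, with every term equal to B and transition map from the m-th to the
n-th term (n ∣ m) given by multiplication by m/n. This system is Mittag-Leffler, i.e. for every n
the images in the n-th term of the transition maps are eventually constant, if and only if B has a
divisible sub-object B' (multiplication by every positive integer is an epimorphism of B') with B/B'
killed by some positive integer. Moreover such a B' is the largest divisible sub-object of B. -/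
theorem result
    {V : Type u} [Category.{v} V] [Abelian V] (B : V) :
    ((∀ n : ℕ, 0 < n → ∃ m : ℕ, 0 < m ∧ n ∣ m ∧ ∀ m' : ℕ, 0 < m' → m ∣ m' →
        imageSubobject ((m' / n) • 𝟙 B) = imageSubobject ((m / n) • 𝟙 B)) ↔
      ∃ B' : Subobject B, (∀ k : ℕ, 0 < k → Epi (k • 𝟙 (B' : V))) ∧
        ∃ M : ℕ, 0 < M ∧ M • 𝟙 (cokernel B'.arrow) = 0) ∧
    (∀ B' : Subobject B, (∀ k : ℕ, 0 < k → Epi (k • 𝟙 (B' : V))) →
      (∃ M : ℕ, 0 < M ∧ M • 𝟙 (cokernel B'.arrow) = 0) →
      ∀ D : Subobject B, (∀ k : ℕ, 0 < k → Epi (k • 𝟙 (D : V))) → D ≤ B') := by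
  have key : ∀ (D : Subobject B), (∀ k : ℕ, 0 < k → Epi (k • 𝟙 (D : V))) → ∀ (j : ℕ), 0 < j →
      ∀ (X : Subobject B) (t : B ⟶ (X : V)), t ≫ X.arrow = j • 𝟙 B → D ≤ X := fun D hD j hj X t ht => by
    haveI := hD j hj
    exact le_of_epi_comm (j • 𝟙 (D : V)) (D.arrow ≫ t) (by
      rw [Category.assoc, ht, Preadditive.nsmul_comp, Preadditive.comp_nsmul, Category.id_comp,
        Category.comp_id])
  have kill : ∀ (B' : Subobject B) (M : ℕ), M • 𝟙 (cokernel B'.arrow) = 0 →
      ∃ t : B ⟶ (B' : V), t ≫ B'.arrow = M • 𝟙 B := fun B' M hM => by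
    refine ⟨Abelian.monoLift B'.arrow (M • 𝟙 B) ?_, Abelian.monoLift_comp _ _ _⟩
    have := congrArg (cokernel.π B'.arrow ≫ ·) hM
    simp only [Preadditive.comp_nsmul, Category.comp_id, comp_zero] at this
    rw [Preadditive.nsmul_comp, Category.id_comp]
    exact this
  refine ⟨⟨fun h => ?_, ?_⟩, fun B' _ ⟨M, hM0, hM⟩ D hD => ?_⟩
  · obtain ⟨m, hm, -, hs⟩ := h 1 one_pos
    simp only [Nat.div_one] at hs
    refine ⟨imageSubobject (m • 𝟙 B), fun k hk => ?_, m, hm, ?_⟩
    · have he := hs (m * k) (Nat.mul_pos hm hk) ⟨k, rfl⟩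
      have hq : factorThruImageSubobject (m • 𝟙 B) ≫ (k • 𝟙 _) =
          factorThruImageSubobject ((m * k) • 𝟙 B) ≫ Subobject.ofLE _ _ he.le := by
        rw [← cancel_mono (imageSubobject (m • 𝟙 B)).arrow]
        rw [Category.assoc, Category.assoc, Preadditive.nsmul_comp, Category.id_comp, Preadditive.comp_nsmul,
          Subobject.ofLE_arrow, imageSubobject_arrow_comp, imageSubobject_arrow_comp, mul_comm m k, mul_smul]
      haveI : IsIso (Subobject.ofLE _ _ he.le) :=
        ⟨Subobject.ofLE _ _ he.ge, by simp, by simp⟩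
      haveI : Epi (factorThruImageSubobject (m • 𝟙 B) ≫ (k • 𝟙 _)) := by rw [hq]; infer_instance
      exact epi_of_epi (factorThruImageSubobject (m • 𝟙 B)) _
    · rw [← cancel_epi (cokernel.π (imageSubobject (m • 𝟙 B)).arrow), comp_zero]
      calc cokernel.π _ ≫ (m • 𝟙 _) = (m • 𝟙 B) ≫ cokernel.π _ := by
            rw [Preadditive.nsmul_comp, Preadditive.comp_nsmul, Category.id_comp, Category.comp_id]
        _ = 0 := by
            have h0 := factorThruImageSubobject (m • 𝟙 B) ≫= cokernel.condition (imageSubobject (m • 𝟙 B)).arrow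
            rwa [comp_zero, ← Category.assoc, imageSubobject_arrow_comp] at h0
  · rintro ⟨B', hB', M, hM0, hM⟩ n hn
    refine ⟨n * M, Nat.mul_pos hn hM0, dvd_mul_right n M, fun m' hm' hdvd => ?_⟩
    obtain ⟨k, rfl⟩ := hdvd
    have hk : 0 < k := Nat.pos_of_mul_pos_left hm'
    rw [mul_assoc, Nat.mul_div_cancel_left _ hn, Nat.mul_div_cancel_left _ hn]
    obtain ⟨t, ht⟩ := kill B' M hM
    have eq : ∀ j, 0 < j → imageSubobject ((M * j) • 𝟙 B) = B' := fun j hj => by
      refine le_antisymm (imageSubobject_le _ (j • t) ?_)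
        (key B' hB' (M * j) (Nat.mul_pos hM0 hj) _ _ (imageSubobject_arrow_comp _))
      rw [Preadditive.nsmul_comp, ht, mul_comm M j, mul_smul]
    rw [eq k hk]
    exact (eq 1 one_pos).symm.trans (by rw [mul_one])
  · obtain ⟨t, ht⟩ := kill B' M hM
    exact key D hD M hM0 B' t ht

end Groth.Agent.S14497
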