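import Groth.Statements.S14498
import Mathlib.CategoryTheory.Abelian.Refinements
import Mathlib.CategoryTheory.Abelian.Exact
-- import your own Groth.Agent.* helpers here

set_option autoImplicit false
universe v u
open AbDiag

namespace Groth.Agent.S14498

open CategoryTheory CategoryTheory.Limits in
/-- In an abelian category, let 0 → F → W → E' → 0 (maps a, b) and 0 → E → W → F' → G → G' → 0 (maps c,
d, e, g) be exact sequences such that the composite F → W → F' is a monomorphism. Then the composite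
E → W → E' is a monomorphism, and there is a short exact sequence 0 → Coker(E → E') → Coker(F → F')
→ Ker(G → G') → 0 whose first map is induced by d (through the quotient map b) and whose second map
is induced by e. -/
theorem result
    {V : Type u} [Category.{v} V] [Abelian V] {F W E' E F' G G' : V}
    (a : F ⟶ W) (b : W ⟶ E') (c : E ⟶ W) (d : W ⟶ F') (e : F' ⟶ G) (g : G ⟶ G')
    [Mono a] [Epi b] (wab : a ≫ b = 0) (hab : (ShortComplex.mk a b wab).Exact)
    [Mono c] (wcd : c ≫ d = 0) (hcd : (ShortComplex.mk c d wcd).Exact)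
    (wde : d ≫ e = 0) (hde : (ShortComplex.mk d e wde).Exact)
    (weg : e ≫ g = 0) (heg : (ShortComplex.mk e g weg).Exact) [Epi g]
    (hmono : Mono (a ≫ d)) :
    Mono (c ≫ b) ∧
      ∃ (φ : cokernel (c ≫ b) ⟶ cokernel (a ≫ d)) (ψ : cokernel (a ≫ d) ⟶ kernel g)
        (w : φ ≫ ψ = 0),
        b ≫ cokernel.π (c ≫ b) ≫ φ = d ≫ cokernel.π (a ≫ d) ∧
        cokernel.π (a ≫ d) ≫ ψ ≫ kernel.ι g = e ∧
        (ShortComplex.mk φ ψ w).ShortExact := by
  have h1 : Mono (c ≫ b) := by
    refine Preadditive.mono_of_cancel_zero _ (fun {A} h hh => ?_)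
    have hh' : (h ≫ c) ≫ b = 0 := by simpa using hh
    obtain ⟨A', π', hπ', l, hl⟩ := hab.exact_up_to_refinements (h ≫ c) hh'
    change π' ≫ h ≫ c = l ≫ a at hl
    have hl0 : l = 0 := by
      rw [← cancel_mono (a ≫ d), zero_comp, ← Category.assoc, ← hl]
      simp [wcd]
    rw [hl0, zero_comp] at hl
    rw [← cancel_mono c, zero_comp, ← cancel_epi π', comp_zero]
    exact hl
  refine ⟨h1, ?_⟩
  let φ0 : E' ⟶ cokernel (a ≫ d) := hab.desc (d ≫ cokernel.π (a ≫ d))
    (show a ≫ d ≫ cokernel.π (a ≫ d) = 0 by rw [← Category.assoc, cokernel.condition])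
  have hφ0 : b ≫ φ0 = d ≫ cokernel.π (a ≫ d) := hab.g_desc _ _
  let φ : cokernel (c ≫ b) ⟶ cokernel (a ≫ d) := cokernel.desc (c ≫ b) φ0 (by
    rw [Category.assoc, hφ0, ← Category.assoc, wcd, zero_comp])
  have hφ : b ≫ cokernel.π (c ≫ b) ≫ φ = d ≫ cokernel.π (a ≫ d) := by
    rw [cokernel.π_desc, hφ0]
  let ψ : cokernel (a ≫ d) ⟶ kernel g := cokernel.desc (a ≫ d) (kernel.lift g e weg) (by
    rw [← cancel_mono (kernel.ι g)]; simp [wde])
  have hψ : cokernel.π (a ≫ d) ≫ ψ ≫ kernel.ι g = e := by simp [ψ]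
  have w : φ ≫ ψ = 0 := by
    rw [← cancel_epi (cokernel.π (c ≫ b)), ← cancel_epi b, ← cancel_mono (kernel.ι g)]
    have := hφ =≫ (ψ ≫ kernel.ι g)
    simp only [Category.assoc, hψ, wde] at this
    simpa using this
  refine ⟨φ, ψ, w, hφ, hψ, ?_⟩
  haveI : Mono φ := by
    refine Preadditive.mono_of_cancel_zero _ (fun {A} x hx => ?_)
    obtain ⟨A', π', hπ', y0, hy0⟩ := surjective_up_to_refinements_of_epi (b ≫ cokernel.π (c ≫ b)) x
    have h2 : (y0 ≫ d) ≫ cokernel.π (a ≫ d) = 0 := by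
      rw [Category.assoc, ← hφ]
      have := hy0 =≫ φ
      simp only [Category.assoc, hx, comp_zero] at this
      exact this.symm
    obtain ⟨A'', π'', hπ'', z, hz⟩ :=
      (ShortComplex.exact_cokernel (a ≫ d)).exact_up_to_refinements (y0 ≫ d) h2
    change π'' ≫ y0 ≫ d = z ≫ a ≫ d at hz
    have h3 : (π'' ≫ y0 - z ≫ a) ≫ d = 0 := by
      rw [Preadditive.sub_comp, Category.assoc, Category.assoc, hz, sub_self]
    obtain ⟨A₃, π₃, hπ₃, t, ht⟩ := hcd.exact_up_to_refinements _ h3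
    change π₃ ≫ (π'' ≫ y0 - z ≫ a) = t ≫ c at ht
    rw [← cancel_epi π', ← cancel_epi π'', ← cancel_epi π₃, comp_zero, comp_zero, comp_zero, hy0]
    have h4 := ht =≫ (b ≫ cokernel.π (c ≫ b))
    simp only [Preadditive.sub_comp, Preadditive.comp_sub, Category.assoc, reassoc_of% wab,
      zero_comp, comp_zero, sub_zero] at h4
    rw [h4]
    rw [← Category.assoc c, cokernel.condition, comp_zero]
  haveI : Epi ψ := by
    rw [epi_iff_surjective_up_to_refinements]
    intro A x
    obtain ⟨A', π', hπ', y, hy⟩ := heg.exact_up_to_refinements (x ≫ kernel.ι g) (by simp)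
    change π' ≫ x ≫ kernel.ι g = y ≫ e at hy
    refine ⟨A', π', hπ', y ≫ cokernel.π (a ≫ d), ?_⟩
    rw [← cancel_mono (kernel.ι g)]
    simp only [Category.assoc, hy, hψ]
  refine { exact := ?_, mono_f := inferInstance, epi_g := inferInstance }
  rw [ShortComplex.exact_iff_exact_up_to_refinements]
  intro A x hx
  change A ⟶ cokernel (a ≫ d) at x
  change x ≫ ψ = 0 at hx
  obtain ⟨A', π', hπ', y, hy⟩ := surjective_up_to_refinements_of_epi (cokernel.π (a ≫ d)) x
  have h2 : y ≫ e = 0 := by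
    rw [← hψ, ← Category.assoc, ← hy, Category.assoc, ← Category.assoc x ψ, hx]
    simp
  obtain ⟨A'', π'', hπ'', w', hw'⟩ := hde.exact_up_to_refinements y h2
  change π'' ≫ y = w' ≫ d at hw'
  refine ⟨A'', π'' ≫ π', inferInstance, w' ≫ b ≫ cokernel.π (c ≫ b), ?_⟩
  change (π'' ≫ π') ≫ x = (w' ≫ b ≫ cokernel.π (c ≫ b)) ≫ φ
  simp only [Category.assoc, hy, hφ]
  rw [← Category.assoc π'' y, hw', Category.assoc]

end Groth.Agent.S14498
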