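import Groth.Statements.S14503
import Groth.Agent.DetLen.Lattice

set_option autoImplicit false
universe u
open IntTh

namespace Groth.Agent.S14503

/-- Let A ⊆ B be a module-finite extension of domains with A Noetherian local of Krull dimension one, K
⊆ L their fraction fields, and r ∈ B nonzero. Then B/rB has finite length as an A-module and
length_A(B/rB) equals the order at the closed point of A of the norm N_{L/K}(r), i.e.
length_A(A/(a)) − length_A(A/(b)) for N_{L/K}(r) = a/b. -/
theorem result (A : Type u) [CommRing A] [IsDomain A]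
    [IsNoetherianRing A] [IsLocalRing A] (hA : ringKrullDim A = 1) (B : Type u) [CommRing B]
    [IsDomain B] [Algebra A B] (hinj : Function.Injective (algebraMap A B)) [Module.Finite A B]
    (K L : Type u) [Field K] [Field L] [Algebra A K] [IsFractionRing A K] [Algebra B L]
    [IsFractionRing B L] [Algebra K L] [Algebra A L] [IsScalarTower A B L] [IsScalarTower A K L]
    [FiniteDimensional K L] (r : B) (hr : r ≠ 0) :
    Module.length A (B ⧸ Ideal.span {r}) < ⊤ ∧
      ((Module.length A (B ⧸ Ideal.span {r})).toNat : ℤ) =
        CycAlg.ordFrac A K (Algebra.norm K (algebraMap B L r)) := by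
  haveI : Ring.KrullDimLE 1 A := Ring.krullDimLE_iff.2 hA.le
  let ι : B →ₗ[A] L := (IsScalarTower.toAlgHom A B L).toLinearMap
  have hι : Function.Injective ι := IsFractionRing.injective B L
  let M := LinearMap.range ι
  let S : Subalgebra K L := Algebra.adjoin K (M : Set L)
  haveI : Submodule.IsLattice K M := by
    refine ⟨Module.Finite.iff_fg.mp inferInstance, eq_top_iff.mpr ?_⟩
    have hmul : ∀ x ∈ Submodule.span K (M : Set L), ∀ y ∈ Submodule.span K (M : Set L), x * y ∈ Submodule.span K (M : Set L) := by
      intro x hx y hy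
      have : x * y ∈ Submodule.span K (M : Set L) * Submodule.span K (M : Set L) := Submodule.mul_mem_mul hx hy
      rw [Submodule.span_mul_span] at this
      refine Submodule.span_mono ?_ this
      rintro - ⟨-, ⟨a, rfl⟩, -, ⟨b, rfl⟩, rfl⟩
      exact ⟨a * b, map_mul (algebraMap B L) a b⟩
    have hone : (1 : L) ∈ Submodule.span K (M : Set L) := Submodule.subset_span ⟨1, map_one (algebraMap B L)⟩
    intro z _
    obtain ⟨a, b, hb, rfl⟩ := IsFractionRing.div_surjective (A := B) z
    have hb0 : algebraMap B L b ≠ 0 := by simpa using nonZeroDivisors.ne_zero hb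
    let μ : Submodule.span K (M : Set L) →ₗ[K] Submodule.span K (M : Set L) :=
      (LinearMap.mulLeft K (algebraMap B L b)).restrict fun x hx => hmul _ (Submodule.subset_span ⟨b, rfl⟩) x hx
    have hμ : Function.Injective μ := fun x y h => Subtype.ext (mul_left_cancel₀ hb0 (congrArg Subtype.val h))
    obtain ⟨⟨w, hw⟩, hw'⟩ := LinearMap.surjective_of_injective hμ ⟨1, hone⟩
    have hw2 : algebraMap B L b * w = 1 := congrArg Subtype.val hw'
    rw [div_eq_mul_inv, ← eq_inv_of_mul_eq_one_right hw2]
    exact hmul _ (Submodule.subset_span ⟨a, rfl⟩) _ hw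
  let c := algebraMap B L r
  have hc : c ≠ 0 := by simpa [c] using hr
  let φ : L ≃ₗ[K] L := LinearEquiv.ofBijective (LinearMap.mulLeft K c)
    ⟨fun x y h => mul_left_cancel₀ hc h, fun y => ⟨c⁻¹ * y, by simp [hc]⟩⟩
  let ρ : B →ₗ[A] B := LinearMap.mulLeft A r
  have hMm : M.map (φ.toLinearMap.restrictScalars A) = (LinearMap.range ρ).map ι := by
    simp only [M, ← LinearMap.range_comp]
    congr 1
    exact LinearMap.ext fun b => (map_mul (algebraMap B L) r b).symm
  have hM : M = (⊤ : Submodule A B).map ι := LinearMap.range_eq_map ι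
  have hle : M.map (φ.toLinearMap.restrictScalars A) ≤ M := by
    rw [hMm, hM]; exact Submodule.map_mono le_top
  have hq : LinearMap.range ρ = (Ideal.span {r}).restrictScalars A := by
    refine Submodule.ext fun x => ?_
    simp only [LinearMap.mem_range, Submodule.restrictScalars_mem, Ideal.mem_span_singleton', ρ, LinearMap.mulLeft_apply]
    simp_rw [mul_comm r]
  have hlen : Module.length A (Groth.Agent.CycAlgLib.Sq M (M.map (φ.toLinearMap.restrictScalars A))) =
      Module.length A (B ⧸ Ideal.span {r}) := by
    rw [hMm, hM, Groth.Agent.DetLen.length_sq_map ι hι, Groth.Agent.DetLen.length_sq_top, hq]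
    exact ((Submodule.Quotient.restrictScalarsEquiv A (Ideal.span {r}))).length_eq
  have := Groth.Agent.DetLen.isLattice_map K φ M
  refine ⟨hlen ▸ Groth.Agent.DetLen.length_sq_lt_top K M _, ?_⟩
  have hdist := Groth.Agent.DetLen.dist_map K φ M
  rw [Groth.Agent.DetLen.dist_eq K M _ (M.map (φ.toLinearMap.restrictScalars A)) hle le_rfl] at hdist
  rw [← hlen, Algebra.norm_apply]
  have h0 : Module.length A (Groth.Agent.CycAlgLib.Sq (M.map (φ.toLinearMap.restrictScalars A)) (M.map (φ.toLinearMap.restrictScalars A))) = 0 := by
    rw [Module.length_eq_zero_iff]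
    exact Submodule.Quotient.subsingleton_iff.mpr (by simp [Submodule.submoduleOf])
  rw [h0] at hdist
  rw [show (Algebra.lmul K L) (algebraMap B L r) = φ.toLinearMap from LinearMap.ext fun y => rfl]
  simpa using hdist

end Groth.Agent.S14503
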