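import Groth.Statements.S14504
import Mathlib.LinearAlgebra.Matrix.Rank
import Mathlib.LinearAlgebra.Matrix.NonsingularInverse
import Mathlib.Data.Finset.Sort
import Mathlib.Order.Interval.Finset.Fin

set_option autoImplicit false
universe u
open IntTh

namespace Groth.Agent.S14504

/-- Let K be a field, d ≤ n, λ = (λ₁ ≥ ⋯ ≥ λ_d) a non-increasing sequence of natural numbers, d_i = n −
d + i − λ_i, and V_j ⊆ K^n the span of the first j standard basis vectors. For a d × n matrix A over
K with linearly independent rows spanning the subspace W: one has dim(W ∩ V_{d_i}) ≥ i for every i =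
1, …, d if and only if every d × d minor of A taken on strictly increasing columns j₁ < ⋯ < j_d
(1-indexed) with j_i > d_i for some i vanishes. (Indices are 0-based in the formal statement: row i
: Fin d stands for i + 1 and column l : Fin n for l + 1.) -/
theorem result (K : Type u) [Field K] (n d : ℕ)
    (hdn : d ≤ n) (V : ℕ → Submodule K (Fin n → K))
    (hV : ∀ (j : ℕ) (v : Fin n → K), v ∈ V j ↔ ∀ l : Fin n, j ≤ (l : ℕ) → v l = 0)
    (lam : Fin d → ℕ) (hlam : Antitone lam) (A : Matrix (Fin d) (Fin n) K)
    (hA : LinearIndependent K (fun i : Fin d => A i)) :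
    (∀ i : Fin d, (i : ℕ) + 1 ≤
        Module.finrank K ↥(Submodule.span K (Set.range fun i : Fin d => A i) ⊓
          V (n - d + ((i : ℕ) + 1) - lam i))) ↔
      ∀ J : Fin d → Fin n, StrictMono J →
        (∃ i : Fin d, n - d + ((i : ℕ) + 1) - lam i < (J i : ℕ) + 1) →
          (A.submatrix id J).det = 0 := by
  classical
  let c : Fin n → Fin d → K := fun l i => A i l
  let W : ℕ → Submodule K (Fin d → K) := fun j => Submodule.span K (c '' {l : Fin n | j ≤ (l : ℕ)})
  let Φ : (Fin d → K) →ₗ[K] Fin n → K := Matrix.vecMulLinear A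
  have hΦinj : Function.Injective Φ := Matrix.vecMul_injective_iff.2 hA
  have hΦrange : LinearMap.range Φ = Submodule.span K (Set.range fun i : Fin d => A i) := range_vecMulLinear A
  have hdim : ∀ j : ℕ, Module.finrank K ↥(Submodule.span K (Set.range fun i : Fin d => A i) ⊓ V j) +
      Module.finrank K (W j) = d := by
    intro j
    let B : Matrix (Fin d) {l : Fin n // j ≤ (l : ℕ)} K := A.submatrix id Subtype.val
    have hker : Submodule.span K (Set.range fun i : Fin d => A i) ⊓ V j =
        (LinearMap.ker B.vecMulLinear).map Φ := by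
      ext x
      rw [Submodule.mem_inf, ← hΦrange, Submodule.mem_map, LinearMap.mem_range, hV]
      constructor
      · rintro ⟨⟨y, rfl⟩, hx⟩
        exact ⟨y, LinearMap.mem_ker.2 (funext fun l => hx l.1 l.2), rfl⟩
      · rintro ⟨y, hy, rfl⟩
        exact ⟨⟨y, rfl⟩, fun l hl => congrFun (LinearMap.mem_ker.1 hy) ⟨l, hl⟩⟩
    rw [hker, ← (Submodule.equivMapOfInjective Φ hΦinj _).finrank_eq]
    have hW : Module.finrank K (W j) = Module.finrank K (LinearMap.range B.vecMulLinear) := by
      rw [range_vecMulLinear, ← Matrix.rank_eq_finrank_span_row, Matrix.rank_eq_finrank_span_cols]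
      have : Set.range B.col = c '' {l : Fin n | j ≤ (l : ℕ)} := by
        ext x
        constructor
        · rintro ⟨l, rfl⟩
          exact ⟨l.1, l.2, rfl⟩
        · rintro ⟨l, hl, rfl⟩
          exact ⟨⟨l, hl⟩, rfl⟩
      rw [this]
    rw [hW, add_comm, LinearMap.finrank_range_add_finrank_ker, Module.finrank_fin_fun]
  constructor
  · intro hcond J hJ ⟨i, hi⟩
    by_contra hdet
    have hli : LinearIndependent K fun i' : Fin d => c (J i') :=
      Matrix.linearIndependent_cols_of_det_ne_zero hdet
    have h1 : Module.finrank K (Submodule.span K (Set.range fun i' : {i' : Fin d // i ≤ i'} => c (J i'.1))) =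
        Fintype.card {i' : Fin d // i ≤ i'} :=
      finrank_span_eq_card (hli.comp Subtype.val Subtype.val_injective)
    have h2 : Submodule.span K (Set.range fun i' : {i' : Fin d // i ≤ i'} => c (J i'.1)) ≤
        W (n - d + ((i : ℕ) + 1) - lam i) := by
      refine Submodule.span_mono ?_
      rintro x ⟨i', rfl⟩
      have hmono : (J i : ℕ) ≤ (J i'.1 : ℕ) := hJ.monotone i'.2
      refine ⟨J i'.1, ?_, rfl⟩
      show n - d + ((i : ℕ) + 1) - lam i ≤ (J i'.1 : ℕ)
      omega
    have h3 := Submodule.finrank_mono h2
    have hcard : Fintype.card {i' : Fin d // i ≤ i'} = d - (i : ℕ) := by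
      rw [Fintype.card_subtype, ← Fin.card_Ici i]
      congr 1
      ext x
      simp
    have h4 := hcond i
    have h5 := hdim (n - d + ((i : ℕ) + 1) - lam i)
    have := i.2
    omega
  · intro hminor i
    set j := n - d + ((i : ℕ) + 1) - lam i with hj
    by_contra hcon
    have h5 := hdim j
    obtain ⟨b, hbT, -, hbspan, hbli⟩ := exists_linearIndepOn_extension (linearIndepOn_empty K c) (Set.empty_subset {l : Fin n | j ≤ (l : ℕ)})
    obtain ⟨s, -, hbs, hsspan, hsli⟩ := exists_linearIndepOn_extension hbli (Set.subset_univ b)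
    have hbcard : Fintype.card b = Module.finrank K (W j) := by
      have hWeq : Submodule.span K (Set.range fun x : b => c x) = W j := by
        refine le_antisymm (Submodule.span_mono (by rintro x ⟨l, rfl⟩; exact ⟨l.1, hbT l.2, rfl⟩)) (Submodule.span_le.2 ?_)
        refine hbspan.trans ?_
        rw [Set.image_eq_range]
      rw [← hWeq, finrank_span_eq_card hbli]
    have hscard : s.toFinset.card = d := by
      rw [Set.toFinset_card, ← finrank_span_eq_card hsli]
      have h0 := hdim 0
      have hV0 : V 0 = ⊥ := by
        rw [eq_bot_iff]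
        intro x hx
        exact (Submodule.mem_bot K).2 (funext fun l => (hV 0 x).1 hx l (Nat.zero_le _))
      rw [hV0, inf_bot_eq, finrank_bot, zero_add] at h0
      refine le_antisymm (le_trans (Submodule.finrank_le _) (Module.finrank_fin_fun K).le) (h0.symm.le.trans (Submodule.finrank_mono ?_))
      rw [Submodule.span_le]
      refine (Set.image_mono (Set.subset_univ _)).trans (hsspan.trans ?_)
      rw [Set.image_eq_range]
    let J : Fin d → Fin n := s.toFinset.orderEmbOfFin hscard
    have hJmem : ∀ i', J i' ∈ s := fun i' => Set.mem_toFinset.1 (Finset.orderEmbOfFin_mem _ _ _)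
    have hJmono : StrictMono J := (s.toFinset.orderEmbOfFin hscard).strictMono
    have hbig : j < (J i : ℕ) + 1 := by
      by_contra hsmall
      have hsub : b.toFinset ⊆ (Finset.Ioi i).image J := by
        intro l hl
        have hls : l ∈ Set.range J := by
          have : l ∈ s := hbs (Set.mem_toFinset.1 hl)
          simp only [J, Finset.range_orderEmbOfFin]
          exact Finset.mem_coe.2 (Set.mem_toFinset.2 this)
        obtain ⟨i', rfl⟩ := hls
        have hjl : j ≤ (J i' : ℕ) := hbT (Set.mem_toFinset.1 hl)
        refine Finset.mem_image.2 ⟨i', Finset.mem_Ioi.2 ?_, rfl⟩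
        by_contra hle
        have : (J i' : ℕ) ≤ (J i : ℕ) := hJmono.monotone (not_lt.1 hle)
        omega
      have h6 := (Finset.card_le_card hsub).trans Finset.card_image_le
      rw [Set.toFinset_card, hbcard, Fin.card_Ioi] at h6
      have := i.2
      omega
    have hzero := hminor J hJmono ⟨i, by omega⟩
    have hli : LinearIndependent K (A.submatrix id J).col :=
      hsli.comp (fun i' => ⟨J i', hJmem i'⟩) fun a b h => hJmono.injective (show J a = J b from Subtype.mk.inj h)
    exact ((Matrix.isUnit_iff_isUnit_det _).1 (Matrix.linearIndependent_cols_iff_isUnit.1 hli)).ne_zero hzero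

end Groth.Agent.S14504
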