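import Groth.Statements.S14505
import Groth.Agent.PortLib.Res

set_option autoImplicit false
universe u
open IntTh

namespace Groth.Agent.S14505

/-- Let R be a commutative ring, α₁, …, α_d, β₁, …, β_e ∈ R, b(t) = ∏ (1 + β_j t), and for k = 1, …, d
let P_k(t) = b(t)/∏_{i ≤ k} (1 + α_i t) ∈ R⟦t⟧, each factor 1 + α_i t being inverted by its
geometric series; write (P_k)_m for the coefficient of t^m, with (P_k)_m = 0 for m < 0. Then ∏_{i,j}
(β_j − α_i) = det((P_i)_{e+j−i})_{1 ≤ i,j ≤ d}, the d × d determinant whose i-th row is built from
the coefficients of the i-th partial quotient. (Rows and columns are 0-based in the formal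
statement, which does not change j − i; the row of index i inverts the factors of index at most i.
The companion form with every row built from the full quotient b/a is stated separately.) -/
theorem result (R : Type u) [CommRing R] (d e : ℕ)
    (α : Fin d → R) (β : Fin e → R) :
    ∏ i : Fin d, ∏ j : Fin e, (β j - α i) =
      (Matrix.of fun i j : Fin d =>
        if (i : ℕ) ≤ e + (j : ℕ) then
          PowerSeries.coeff (e + (j : ℕ) - (i : ℕ))
            ((∏ j : Fin e, (1 + PowerSeries.C (β j) * PowerSeries.X)) *
              ∏ l : Fin d, if l ≤ i then PowerSeries.mk (fun m => (-α l) ^ m) else 1)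
        else 0).det := by
  classical
  let A : Finset (Fin d) → Polynomial R := fun s => Groth.Agent.PortLib.oneAddProd s α
  let Q : Fin d → PowerSeries R := fun l => PowerSeries.mk (fun m => (-α l) ^ m)
  let B : PowerSeries R := (Groth.Agent.PortLib.oneAddProd Finset.univ β : Polynomial R)
  let c : PowerSeries R := B * ∏ l : Fin d, Q l
  have hQ : ∀ l, (1 + PowerSeries.C (α l) * PowerSeries.X) * Q l = 1 := by
    intro l
    refine PowerSeries.ext fun m => ?_
    rw [add_mul, one_mul, mul_assoc, map_add, PowerSeries.coeff_C_mul, PowerSeries.coeff_one]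
    cases m with
    | zero => simp [Q]
    | succ m => simp [Q, PowerSeries.coeff_succ_X_mul, pow_succ]; ring
  have hA : ∀ s : Finset (Fin d), (A s : PowerSeries R) * ∏ l ∈ s, Q l = 1 := by
    intro s
    have : (A s : PowerSeries R) = ∏ l ∈ s, (1 + PowerSeries.C (α l) * PowerSeries.X) := by
      show Polynomial.coeToPowerSeries.ringHom (∏ l ∈ s, (1 + Polynomial.C (α l) * Polynomial.X)) = _
      simp [map_prod]
    rw [this, ← Finset.prod_mul_distrib]
    exact Finset.prod_eq_one fun l _ => hQ l
  have hc : (Groth.Agent.PortLib.oneAddProd Finset.univ α : PowerSeries R) * c = B := by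
    show (A Finset.univ : PowerSeries R) * (B * ∏ l : Fin d, Q l) = B
    rw [mul_left_comm, hA, mul_one]
  have hBp : (∏ j : Fin e, (1 + PowerSeries.C (β j) * PowerSeries.X)) = B := by
    show _ = Polynomial.coeToPowerSeries.ringHom (∏ l : Fin e, (1 + Polynomial.C (β l) * Polynomial.X))
    simp [map_prod]
  let G : Fin d → Finset (Fin d) := fun i => Finset.univ.filter (fun l => ¬ l ≤ i)
  let T : Matrix (Fin d) (Fin d) R :=
    Matrix.of fun i k => if (i : ℕ) ≤ k then (A (G i)).coeff ((k : ℕ) - i) else 0
  have hT : T.det = 1 := by
    rw [Matrix.det_of_isUpperTriangular (M := T) (fun (i k : Fin d) (h : k < i) => if_neg (show ¬ (i : ℕ) ≤ k by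
      exact Nat.not_le.mpr h))]
    refine Finset.prod_eq_one fun i _ => ?_
    simp [T, A, Groth.Agent.PortLib.coeff_zero_oneAddProd]
  have key : (Matrix.of fun i j : Fin d =>
      if (i : ℕ) ≤ e + (j : ℕ) then
        PowerSeries.coeff (e + (j : ℕ) - (i : ℕ))
          ((∏ j : Fin e, (1 + PowerSeries.C (β j) * PowerSeries.X)) *
            ∏ l : Fin d, if l ≤ i then PowerSeries.mk (fun m => (-α l) ^ m) else 1)
      else 0) = T * Groth.Agent.PortLib.coeffMat d e c := by
    ext i j
    have hsplit : (∏ j : Fin e, (1 + PowerSeries.C (β j) * PowerSeries.X)) *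
        (∏ l : Fin d, if l ≤ i then PowerSeries.mk (fun m => (-α l) ^ m) else 1) =
        (A (G i) : PowerSeries R) * c := by
      rw [hBp]
      show B * _ = (A (G i) : PowerSeries R) * (B * ∏ l : Fin d, Q l)
      rw [mul_left_comm, ← Finset.prod_filter_mul_prod_filter_not Finset.univ (fun l => l ≤ i) Q,
        mul_left_comm (A (G i) : PowerSeries R), hA, mul_one, Finset.prod_filter]
    have hdeg : (A (G i)).natDegree + (i : ℕ) < d := by
      have h1 := Groth.Agent.PortLib.natDegree_oneAddProd_le (G i) α
      have h2 : (G i).card = d - 1 - (i : ℕ) := by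
        rw [show G i = Finset.Ioi i from by ext l; simp [G, not_le], Fin.card_Ioi]
      have := i.2
      simp only [A] at *; omega
    simp only [Matrix.of_apply, hsplit, Matrix.mul_apply, T, Groth.Agent.PortLib.coeffMat]
    split_ifs with hi
    · rw [PowerSeries.coeff_mul, Finset.Nat.sum_antidiagonal_eq_sum_range_succ_mk]
      rw [Fin.sum_univ_eq_sum_range (fun k => (if (i : ℕ) ≤ k then (A (G i)).coeff (k - i) else 0) *
        (if k ≤ e + (j : ℕ) then PowerSeries.coeff (e + (j : ℕ) - k) c else 0)) d]
      have e1 : ∀ q : ℕ, (PowerSeries.coeff q) (A (G i) : PowerSeries R) = (A (G i)).coeff q :=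
        fun q => Polynomial.coeff_coe _ _
      simp only [e1]
      calc ∑ q ∈ Finset.range (e + (j : ℕ) - i).succ, (A (G i)).coeff q * PowerSeries.coeff (e + (j : ℕ) - i - q) c
          = ∑ q ∈ Finset.range (max (e + (j : ℕ) - i).succ (d - i)), (A (G i)).coeff q *
              (if q + i ≤ e + (j : ℕ) then PowerSeries.coeff (e + (j : ℕ) - (q + i)) c else 0) := by
            refine Eq.trans (Finset.sum_congr rfl fun q hq => ?_)
              (Finset.sum_subset (Finset.range_mono (le_max_left _ _)) fun q _ hq => ?_)
            · simp only [Finset.mem_range] at hq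
              rw [if_pos (by omega), show e + (j : ℕ) - (q + i) = e + (j : ℕ) - i - q by omega]
            · rw [if_neg (by simp at hq; omega), mul_zero]
        _ = ∑ q ∈ Finset.range (d - i), (A (G i)).coeff q *
              (if q + i ≤ e + (j : ℕ) then PowerSeries.coeff (e + (j : ℕ) - (q + i)) c else 0) := by
            refine (Finset.sum_subset (Finset.range_mono (le_max_right _ _)) fun q _ hq => ?_).symm
            rw [Polynomial.coeff_eq_zero_of_natDegree_lt (by simp at hq; omega), zero_mul]
        _ = _ := by
            have hadd : d = (i : ℕ) + (d - i) := by have := i.2; omega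
            conv_rhs => rw [show Finset.range d = Finset.range ((i : ℕ) + (d - i)) from congrArg _ hadd, Finset.sum_range_add]
            rw [Finset.sum_eq_zero (s := Finset.range (i : ℕ)) (fun k hk => by
              rw [if_neg (by simp at hk; omega), zero_mul]), zero_add]
            refine Finset.sum_congr rfl fun q _ => ?_
            rw [if_pos (show (i : ℕ) ≤ (i : ℕ) + q by omega), Nat.add_sub_cancel_left, add_comm (i : ℕ) q]
    · symm
      refine Finset.sum_eq_zero fun k _ => ?_
      split_ifs <;> first | omega | simp
  rw [key, Matrix.det_mul, hT, one_mul, Groth.Agent.PortLib.det_coeffMat α β c hc]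

end Groth.Agent.S14505
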