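import Groth.Statements.S14510
import Groth.Agent.HopfLib.Segre

set_option autoImplicit false
universe u v
open CAlgX

namespace Groth.Agent.S14510

/-- Let k be an algebraically closed field, U, V, W finite-dimensional k-vector spaces with U and V
nonzero, and φ : U ⊗ V → W a linear map which is 1-generic, i.e. φ(u ⊗ v) ≠ 0 for all nonzero u and
v (φ is given here as a bilinear map). Then dim W ≥ dim U + dim V − 1. (Algebraic closedness
matters: complex multiplication ℂ ⊗ ℂ → ℂ over the reals is 1-generic with 2 + 2 − 1 > 2.) -/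
theorem result (k : Type u) [Field k] [IsAlgClosed k]
    (U V W : Type v) [AddCommGroup U] [Module k U] [AddCommGroup V] [Module k V] [AddCommGroup W] [Module k W]
    [Module.Finite k U] [Module.Finite k V] [Module.Finite k W] [Nontrivial U] [Nontrivial V]
    (φ : U →ₗ[k] V →ₗ[k] W) (hφ : ∀ (a : U) (b : V), a ≠ 0 → b ≠ 0 → φ a b ≠ 0) :
    Module.finrank k U + Module.finrank k V ≤ Module.finrank k W + 1 := by
  by_contra hlt
  let bU := Module.finBasis k U
  let bV := Module.finBasis k V
  let bW := Module.finBasis k W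
  haveI : NeZero (Module.finrank k U) := ⟨(Module.finrank_pos).ne'⟩
  haveI : NeZero (Module.finrank k V) := ⟨(Module.finrank_pos).ne'⟩
  obtain ⟨u, v, hu, hv, h⟩ := Groth.Agent.HopfLib.exists_rankOne k _ _ (n := Module.finrank k W)
    (show Module.finrank k W + 2 ≤ Module.finrank k U + Module.finrank k V by omega)
    (fun l ij => bW.repr (φ (bU ij.1) (bV ij.2)) l)
  refine hφ (bU.equivFun.symm u) (bV.equivFun.symm v) ((LinearEquiv.map_ne_zero_iff _).2 hu) ((LinearEquiv.map_ne_zero_iff _).2 hv) ?_
  refine bW.repr.injective (Finsupp.ext fun l => ?_)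
  rw [map_zero, Finsupp.zero_apply, ← h l]
  simp only [Module.Basis.equivFun_symm_apply, map_sum, map_smul, LinearMap.sum_apply,
    LinearMap.smul_apply, Finsupp.coe_finset_sum, Finset.sum_apply, Finsupp.coe_smul, Pi.smul_apply,
    smul_eq_mul, Fintype.sum_prod_type, Finset.smul_sum, Finset.mul_sum]
  rw [Finset.sum_comm]
  exact Finset.sum_congr rfl fun i _ => Finset.sum_congr rfl fun j _ => by ring

end Groth.Agent.S14510
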