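import Groth.Statements.S14511
import Mathlib

set_option autoImplicit false
universe u
open CAlgX

namespace Groth.Agent.S14511

/-- Let R be a commutative ring and P ∈ R[x_1, …, x_r] a polynomial of total degree at most r. Then the
coefficient of the monomial x_1 ⋯ x_r in P equals Σ_J (−1)^{|J|} P(δ_J), the sum over all subsets J
⊆ {1, …, r} (the empty one included), where δ_J is the point with coordinate −1 at the indices in J
and 0 at the others. -/
theorem result (R : Type u) [CommRing R] (r : ℕ)
    (P : MvPolynomial (Fin r) R) (hP : P.totalDegree ≤ r) :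
    MvPolynomial.coeff (∑ i : Fin r, Finsupp.single i 1) P =
      ∑ J : Finset (Fin r), (-1 : R) ^ J.card * MvPolynomial.eval (fun j => if j ∈ J then (-1 : R) else 0) P := by
  classical
  have hall : ∀ d : Fin r →₀ ℕ, (∑ i, d i) ≤ r → (∀ j, d j ≠ 0) → d = ∑ i : Fin r, Finsupp.single i 1 := by
    intro d hd h1
    ext j
    have h2 : ∑ i, (d i - 1) = 0 := by
      have h3 : ∑ i, (d i - 1) + ∑ _i : Fin r, 1 = ∑ i, d i := by
        rw [← Finset.sum_add_distrib]
        exact Finset.sum_congr rfl fun i _ => Nat.sub_add_cancel (Nat.pos_of_ne_zero (h1 i))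
      rw [Finset.sum_const, Finset.card_univ, Fintype.card_fin, smul_eq_mul, mul_one] at h3
      omega
    have h4 := (Finset.sum_eq_zero_iff.mp h2) j (Finset.mem_univ j)
    have := h1 j
    simp [Finsupp.finset_sum_apply, Finsupp.single_apply]
    omega
  simp only [MvPolynomial.eval_eq', Finset.mul_sum]
  rw [Finset.sum_comm]
  have key : ∀ d ∈ P.support, ∑ J : Finset (Fin r), (-1 : R) ^ J.card * (MvPolynomial.coeff d P * ∏ i, (if i ∈ J then (-1 : R) else 0) ^ d i) =
      if d = ∑ i : Fin r, Finsupp.single i 1 then MvPolynomial.coeff d P else 0 := by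
    intro d hd
    have h1 : ∀ J : Finset (Fin r), (-1 : R) ^ J.card * (MvPolynomial.coeff d P * ∏ i, (if i ∈ J then (-1 : R) else 0) ^ d i) =
        MvPolynomial.coeff d P * ((∏ i ∈ J, -((-1 : R) ^ d i)) * ∏ i ∈ Jᶜ, (0 : R) ^ d i) := by
      intro J
      rw [← Finset.prod_mul_prod_compl J (fun i => (if i ∈ J then (-1 : R) else 0) ^ d i)]
      rw [Finset.prod_congr rfl (fun i hi => by rw [if_pos hi] : ∀ i ∈ J, (if i ∈ J then (-1 : R) else 0) ^ d i = (-1) ^ d i),
        Finset.prod_congr rfl (fun i hi => by rw [if_neg (Finset.mem_compl.mp hi)] : ∀ i ∈ Jᶜ, (if i ∈ J then (-1 : R) else 0) ^ d i = 0 ^ d i),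
        Finset.prod_neg]
      ring
    simp only [h1, ← Finset.mul_sum, ← Fintype.prod_add]
    split_ifs with h
    · subst h
      simp [Finsupp.finset_sum_apply, Finsupp.single_apply]
    · obtain ⟨j, hj⟩ : ∃ j, d j = 0 := by
        by_contra! hne
        refine h (hall d ?_ hne)
        refine le_trans (le_of_eq ?_) ((MvPolynomial.le_totalDegree hd).trans hP)
        rw [Finsupp.sum_fintype _ _ fun _ => rfl]
      rw [Finset.prod_eq_zero (Finset.mem_univ j) (by simp [hj]), mul_zero]
  rw [Finset.sum_congr rfl key, Finset.sum_ite_eq']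
  split_ifs with h
  · rfl
  · rwa [MvPolynomial.notMem_support_iff] at h

end Groth.Agent.S14511
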