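import Groth.Statements.S14514
import Mathlib
import Groth.Agent.DimTheory.Fibre
import Groth.Agent.FpqcDescent.Specialization

set_option autoImplicit false
universe u
open CategoryTheory CategoryTheory.Limits AlgebraicGeometry
open Variety

namespace Groth.Agent.S14514

/-- Let k be an algebraically closed field and f : X → Y a morphism of algebraic varieties over k (X, Y
reduced, separated and of finite type over k) such that Y is irreducible and the image f(X) is dense
in Y. Then X contains an irreducible closed subset Z with dim Z = dim Y such that f(Z) is dense in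
Y. -/
theorem result (k : Type u) [Field k] [IsAlgClosed k]
    (X Y : Scheme.{u}) [X.Over (Spec (CommRingCat.of k))] [Y.Over (Spec (CommRingCat.of k))]
    [IsReduced X] [IsSeparated (X ↘ (Spec (CommRingCat.of k)))] [LocallyOfFiniteType (X ↘ (Spec (CommRingCat.of k)))] [QuasiCompact (X ↘ (Spec (CommRingCat.of k)))]
    [IsReduced Y] [IsSeparated (Y ↘ (Spec (CommRingCat.of k)))] [LocallyOfFiniteType (Y ↘ (Spec (CommRingCat.of k)))] [QuasiCompact (Y ↘ (Spec (CommRingCat.of k)))] [IrreducibleSpace Y]
    (f : X ⟶ Y) (hf : f ≫ (Y ↘ (Spec (CommRingCat.of k))) = (X ↘ (Spec (CommRingCat.of k)))) [IsDominant f] :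
    ∃ Z : Set X, IsClosed Z ∧ IsIrreducible Z ∧ topologicalKrullDim ↥Z = topologicalKrullDim Y ∧
      Dense (f '' Z) := by
  have : LocallyOfFiniteType (f ≫ (Y ↘ (Spec (CommRingCat.of k)))) := hf ▸ inferInstance
  have : LocallyOfFiniteType f := locallyOfFiniteType_of_comp f (Y ↘ (Spec (CommRingCat.of k)))
  have : QuasiCompact (f ≫ (Y ↘ (Spec (CommRingCat.of k)))) := hf ▸ inferInstance
  have : QuasiCompact f := QuasiCompact.of_comp f (Y ↘ (Spec (CommRingCat.of k)))
  let η := genericPoint Y
  obtain ⟨x₀, hx₀⟩ := Groth.Agent.FpqcDescent.exists_specializes_of_mem_closure_range f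
    (x := η) (f.denseRange η)
  have hx₀' : f.base x₀ = η := (hx₀.antisymm (genericPoint_specializes _)).eq
  have : Nonempty (f.fiber η) := ⟨(f.fiberHomeo η).symm ⟨x₀, hx₀'⟩⟩
  obtain ⟨z, -, hz⟩ := (isClosed_univ (X := f.fiber η)).exists_closed_singleton Set.univ_nonempty
  have hz0 : Order.height z = 0 := Order.height_eq_zero.2 fun w hw => by
    have : w ∈ ({z} : Set (f.fiber η)) := hz.closure_eq ▸ (specializes_iff_mem_closure.1 (show z ⤳ w from hw))
    exact (show w = z from this).ge
  let x := f.fiberι η z
  have hfx : f.base x = η := by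
    have : x ∈ Set.range (f.fiberι η) := ⟨z, rfl⟩
    rwa [f.range_fiberι η] at this
  have hh := Groth.Agent.DimTheory.height_fiberι f (Y ↘ (Spec (CommRingCat.of k))) η z
  rw [hz0, add_zero] at hh
  refine ⟨closure {x}, isClosed_closure, isIrreducible_singleton.closure, ?_, fun w => ?_⟩
  · rw [Groth.Agent.DimTheory.topologicalKrullDim_closure, hh,
      Groth.Agent.DimTheory.topologicalKrullDim_eq_height_genericPoint]
  · have h1 : w ∈ closure ({η} : Set Y) := (genericPoint_specializes w).mem_closure
    refine closure_mono ?_ h1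
    rintro _ rfl
    exact ⟨x, subset_closure rfl, hfx⟩

end Groth.Agent.S14514
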