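import Groth.Statements.S14536
import Groth.Agent.HopfPoint.Main
import Groth.Agent.MultHopf.Bridge
import Groth.Agent.MultHopf.ExtField

set_option autoImplicit false
universe u
open CategoryTheory MonoidalCategory CartesianMonoidalCategory MonObj GrpObj AlgebraicGeometry
open PrincBund

namespace Groth.Agent.S14536

open CategoryTheory MonoidalCategory CartesianMonoidalCategory MonObj AlgebraicGeometry WithConv


/-- Let k be an algebraically closed field and h : G → G' a homomorphism of affine group schemes over k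
(not necessarily of finite type) which is surjective on underlying spaces. Then h is surjective on
k-points: every k-point of G' is the image of a k-point of G. -/
theorem result (k : Type u) [Field k] [IsAlgClosed k]
    (G G' : Over (Spec (CommRingCat.of k))) [GrpObj G] [GrpObj G'] [IsAffine G.left] [IsAffine G'.left]
    (h : G ⟶ G') [IsMonHom h] (hs : Surjective h.left) (x : 𝟙_ (Over (Spec (CommRingCat.of k))) ⟶ G') :
    ∃ g : 𝟙_ (Over (Spec (CommRingCat.of k))) ⟶ G, g ≫ h = x := by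
  haveI : IsAffineHom G.hom := isAffineHom_of_isAffine _
  haveI : IsAffineHom G'.hom := isAffineHom_of_isAffine _
  obtain ⟨A, _, _, ⟨eA⟩⟩ := Groth.Agent.MultHopf.exists_hopf k G
  obtain ⟨A', _, _, ⟨eA'⟩⟩ := Groth.Agent.MultHopf.exists_hopf k G'
  let hG : Grp.mk G ⟶ Grp.mk G' := Grp.homMk'' h
  obtain ⟨f, hf⟩ := Groth.Agent.MultHopf.exists_bialgHom (eA.inv ≫ hG ≫ eA'.hom)
  have hf' : (Groth.Agent.MultHopf.hspecHom f).hom.hom = eA.inv.hom.hom ≫ h ≫ eA'.hom.hom.hom := by rw [hf]; rfl
  haveI i1 : IsIso eA.inv.hom.hom := ⟨eA.hom.hom.hom, congrArg (fun z => z.hom.hom) eA.inv_hom_id,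
    congrArg (fun z => z.hom.hom) eA.hom_inv_id⟩
  haveI i2 : IsIso eA'.hom.hom.hom := ⟨eA'.inv.hom.hom, congrArg (fun z => z.hom.hom) eA'.hom_inv_id,
    congrArg (fun z => z.hom.hom) eA'.inv_hom_id⟩
  have hsurj : Surjective (Spec.map (CommRingCat.ofHom (f : A' →ₐ[k] A).toRingHom)) := by
    have : Surjective (eA.inv.hom.hom ≫ h ≫ eA'.hom.hom.hom).left :=
      Groth.Agent.MultHopf.left_property_comp₃ @Surjective _ h _ hs
    rw [← hf'] at this
    exact this
  obtain ⟨χ, hχ⟩ := (Spec.mapMulEquiv (R := k) (S := A') (T := k)).surjective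
    (Over.homMk (x ≫ eA'.hom.hom.hom).left ((Over.w (x ≫ eA'.hom.hom.hom)).trans (Spec.map_id _).symm))
  have hker : ∀ a, f a = 0 → χ.ofConv a = 0 := by
    intro a ha
    obtain ⟨p, hp⟩ := hsurj.surj (⟨RingHom.ker χ.ofConv.toRingHom, RingHom.ker_isPrime _⟩ : PrimeSpectrum A')
    have h2 : a ∈ p.asIdeal.comap (f : A' →ₐ[k] A).toRingHom := by
      show f a ∈ p.asIdeal
      rw [ha]
      exact zero_mem _
    have h3 : p.asIdeal.comap (f : A' →ₐ[k] A).toRingHom = RingHom.ker χ.ofConv.toRingHom :=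
      congrArg PrimeSpectrum.asIdeal hp
    rw [h3] at h2
    exact h2
  obtain ⟨y, hy⟩ := Groth.Agent.HopfPoint.exists_point f χ.ofConv hker
  let g₀ : 𝟙_ (Over (Spec (CommRingCat.of k))) ⟶ (Spec (CommRingCat.of A)).asOver (Spec (CommRingCat.of k)) :=
    Over.homMk (Spec.map (CommRingCat.ofHom y.toRingHom)) (by
      show Spec.map _ ≫ Spec.map _ = 𝟙 _
      rw [← Spec.map_comp, ← Spec.map_id]
      congr 1
      ext z
      exact y.commutes z)
  refine ⟨g₀ ≫ eA.inv.hom.hom, ?_⟩
  rw [← cancel_mono eA'.hom.hom.hom, Category.assoc, Category.assoc, ← hf']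
  apply Over.OverMorphism.ext
  have hx : Spec.map (CommRingCat.ofHom χ.ofConv.toRingHom) = (x ≫ eA'.hom.hom.hom).left :=
    congrArg CommaMorphism.left hχ
  rw [← hx]
  show Spec.map _ ≫ Spec.map _ = _
  rw [← Spec.map_comp, ← hy]
  rfl

end Groth.Agent.S14536
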