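import Groth.Statements.S14537
import Groth.Agent.HopfPoint.Dense
import Groth.Agent.MultHopf.Bridge

set_option autoImplicit false
universe u
open CategoryTheory MonoidalCategory CartesianMonoidalCategory MonObj GrpObj AlgebraicGeometry
open PrincBund

namespace Groth.Agent.S14537

open CategoryTheory MonoidalCategory CartesianMonoidalCategory MonObj AlgebraicGeometry


/-- Let k be an algebraically closed field and G an affine group scheme over k, not necessarily of
finite type. Then the set of k-rational points of G is dense in the underlying space of G. -/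
theorem result (k : Type u) [Field k] [IsAlgClosed k]
    (G : Over (Spec (CommRingCat.of k))) [GrpObj G] [IsAffine G.left] :
    Dense {x : ↥G.left | ∃ g : 𝟙_ (Over (Spec (CommRingCat.of k))) ⟶ G, g.left.base (IsLocalRing.closedPoint k) = x} := by
  haveI : IsAffineHom G.hom := isAffineHom_of_isAffine _
  obtain ⟨A, _, _, ⟨eA⟩⟩ := Groth.Agent.MultHopf.exists_hopf k G
  let e : (Spec (CommRingCat.of A)).asOver (Spec (CommRingCat.of k)) ⟶ G := eA.inv.hom.hom
  haveI : IsIso e := ⟨eA.hom.hom.hom, congrArg (fun z => z.hom.hom) eA.inv_hom_id,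
    congrArg (fun z => z.hom.hom) eA.hom_inv_id⟩
  haveI : IsIso e.left := inferInstanceAs (IsIso ((Over.forget _).map e))
  let ψ : PrimeSpectrum A → G.left := e.left.base
  have hψ : Function.Surjective ψ := (Scheme.homeoOfIso (asIso e.left)).surjective
  have hψc : Continuous ψ := e.left.base.hom.continuous
  rw [dense_iff_inter_open]
  rintro U hU ⟨x, hx⟩
  obtain ⟨p, rfl⟩ := hψ x
  obtain ⟨V, ⟨a, rfl⟩, hpV, hVU⟩ := PrimeSpectrum.isTopologicalBasis_basic_opens.exists_subset_of_mem_open hx (hU.preimage hψc)
  have ha : ¬ IsNilpotent a := fun h => hpV (nilradical_le_prime p.asIdeal h)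
  obtain ⟨y, hy⟩ := Groth.Agent.HopfPoint.exists_point_ne_zero (k := k) a ha
  let g₀ : 𝟙_ (Over (Spec (CommRingCat.of k))) ⟶ (Spec (CommRingCat.of A)).asOver (Spec (CommRingCat.of k)) :=
    Over.homMk (Spec.map (CommRingCat.ofHom y.toRingHom)) (by
      show Spec.map _ ≫ Spec.map _ = 𝟙 _
      rw [← Spec.map_comp, ← Spec.map_id]
      congr 1
      ext z
      exact y.commutes z)
  refine ⟨(g₀ ≫ e).left.base (IsLocalRing.closedPoint k), ?_, g₀ ≫ e, rfl⟩
  apply hVU
  show y a ∉ IsLocalRing.maximalIdeal k
  rw [IsLocalRing.mem_maximalIdeal, mem_nonunits_iff, not_not]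
  exact isUnit_iff_ne_zero.2 hy

end Groth.Agent.S14537
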