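import Groth.Statements.S14539
import Groth.Agent.HopfPoint.Any
import Groth.Agent.Comod.Basic

set_option autoImplicit false
universe u v w
open TensorProduct
open PrincBund

namespace Groth.Agent.S14539

/-- Let k be an algebraically closed field of characteristic 0, A a commutative Hopf algebra over k (the
coordinate ring of an affine group scheme G over k, not necessarily of finite type) and V a right
A-comodule, of any dimension. If a k-subspace W of V is mapped into itself by the action of every
k-rational point of G (every k-algebra homomorphism A → k, acting on V through the coaction), then W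
is a subcomodule of V. -/
theorem result (k : Type u) (A : Type v) [Field k] [IsAlgClosed k]
    [CharZero k] [CommRing A] [HopfAlgebra k A]
    (V : Type w) [AddCommGroup V] [Module k V] [HopfRep.Comod k A V] (W : Submodule k V)
    (hW : ∀ g : A →ₐ[k] k, W.map (HopfRep.Comod.act k A V g) ≤ W) :
    HopfRep.IsSubcomod (k := k) (A := A) W := by
  classical
  intro w hw
  apply Groth.Agent.Comod.mem_range_rTensor_of_slR_mem
  intro φ
  by_contra hcon
  obtain ⟨ψ, hψ, hψW⟩ := Submodule.exists_le_ker_of_notMem hcon
  let c : A := (TensorProduct.lid k A).toLinearMap ((ψ.rTensor A) (HopfRep.Comod.coact (k := k) (A := A) w))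
  have hc : c ≠ 0 := by
    intro h
    apply hψ
    have e : ∀ z : TensorProduct k V A, ψ (Groth.Agent.Comod.slR φ z) = φ ((TensorProduct.lid k A) (ψ.rTensor A z)) := by
      intro z
      induction z with
      | zero => simp
      | tmul p q => simp [Groth.Agent.Comod.slR, mul_comm]
      | add y z hy hz => simp only [map_add, hy, hz]
    rw [e]
    show φ c = 0
    rw [h, map_zero]
  obtain ⟨g, hg⟩ := Groth.Agent.HopfPoint.Univ.exists_point_ne_zero (k := k) c hc
  apply hg
  have h1 : HopfRep.Comod.act k A V g w ∈ W := hW g ⟨w, hw, rfl⟩
  have h2 := hψW h1
  rw [LinearMap.mem_ker] at h2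
  refine Eq.trans ?_ h2
  show g c = ψ ((TensorProduct.rid k V) ((g.toLinearMap.lTensor V) (HopfRep.Comod.coact (k := k) (A := A) w)))
  simp only [c]
  induction HopfRep.Comod.coact (k := k) (A := A) w with
  | zero => simp
  | tmul p q => simp [mul_comm]
  | add y z hy hz => simp only [map_add, hy, hz]

end Groth.Agent.S14539
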