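import Groth.Statements.S1454
import Groth.Agent.Chevalley.Equiv
import Groth.Agent.EquidimChart.Section
import Groth.Agent.AlgSpDesc.LqfFibre
import Mathlib

set_option autoImplicit false
universe u
open FlatMor

set_option backward.isDefEq.respectTransparency.types false
set_option linter.style.haveILetI false
namespace Groth.Agent.S1454

open Groth.Agent Groth.Agent.DimTheory Groth.Agent.EquidimChart


open AlgebraicGeometry CategoryTheory Limits in
/-- Consider a locally quasi-finite f : X → Y whose target is locally Noetherian with geometrically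
unibranch local rings, and assume every irreducible component of X dominates an irreducible
component of Y (its generic point maps to a generic point of an irreducible component of Y). Then f
is universally open. -/
theorem result {X Y : Scheme.{u}} (f : X ⟶ Y) [LocallyQuasiFinite f] [LocallyOfFiniteType f] [IsLocallyNoetherian Y]
    (hY : ∀ y : Y, CAlg2.IsGeomUnibranch (Y.presheaf.stalk y))
    (hdom : ∀ Z ∈ irreducibleComponents ↑X, ∀ x : X, IsGenericPoint x Z → ∃ W ∈ irreducibleComponents ↑Y, IsGenericPoint (f x) W) :
    UniversallyOpen f := by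
  refine Chevalley.universallyOpen_of_forall f fun x => ?_
  have hZ := irreducibleComponent_mem_irreducibleComponents x
  have hξ := mem_component_isMax hZ
  have hξx : hZ.1.genericPoint ⤳ x :=
    specializes_iff_mem_closure.2 ((component_eq_closure hZ).symm ▸ mem_irreducibleComponent)
  obtain ⟨W, hW, hgen⟩ := hdom _ hZ _ (component_eq_closure hZ)
  have hη : ∀ w, w ⤳ f hZ.1.genericPoint → w = f hZ.1.genericPoint := by
    have h1 := mem_component_isMax hW
    rwa [hgen.eq (component_eq_closure hW)]
  refine Chevalley.isUnivOpenAt_of_generic f x _ hξx hη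
    (Chevalley.closure_mem_nhds _ (hY _).1.1 (hξx.map f.continuous) hη) 0 ?_ ?_ (hY _)
  · refine mapTrdeg_eq_zero_of_closed _ fun x' h1 h2 => ?_
    haveI := (f.isDiscrete_preimage_singleton (f hZ.1.genericPoint)).to_subtype
    exact congrArg Subtype.val (Specializes.eq (x := (⟨_, rfl⟩ : ↥(f ⁻¹' {f hZ.1.genericPoint})))
      (y := ⟨x', h1⟩) ((subtype_specializes_iff _ _).2 h2)).symm
  · rw [(AlgSpDesc.quasiFiniteAt_iff_fibreDimAt f x).1 (f.quasiFiniteAt x)]
    rfl

end Groth.Agent.S1454
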