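import Groth.Statements.S14547
import Mathlib.AlgebraicGeometry.Morphisms.FlatDescent
import Mathlib.AlgebraicGeometry.Sites.Fpqc
import Groth.Prelude.Def_ActBC

set_option autoImplicit false
universe u
open CategoryTheory MonoidalCategory CartesianMonoidalCategory MonObj GrpObj AlgebraicGeometry
open PrincBund

set_option backward.isDefEq.respectTransparency.types false
open CategoryTheory.Limits

namespace Groth.Agent.S14547

/-- Let f : X' → X be a faithfully flat quasi-compact morphism of schemes, J a group scheme affine over
X with an action a on an X-scheme P, and a' the induced action of the base change J' = J ×_X X' on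
P' = P ×_X X'. Then P with a is a J-torsor for the fpqc topology if and only if P' with a' is a
J'-torsor for the fpqc topology. (The published statement allows any morphism X' → X that is
covering for the fpqc topology, and an action of a pregroupoid; this row is the case of a faithfully
flat quasi-compact X' → X and the trivial pregroupoid.) -/
theorem result {X X' : Scheme.{u}} (f : X' ⟶ X)
    [Flat f] [Surjective f] [QuasiCompact f]
    {J P : Over X} [GrpObj J] [IsAffineHom J.hom] (a : AlgGrp.Action J P)
    (a' : AlgGrp.Action (Red.bc f J) (Red.bc f P))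
    (ha' : Functor.LaxMonoidal.μ (Over.pullback f) J P ≫ (Over.pullback f).map a.act = a'.act) :
    NonAbH1.IsTorsorFor Scheme.fpqcPrecoverage a ↔ NonAbH1.IsTorsorFor Scheme.fpqcPrecoverage a' := by
  have hact : a' = a.bc f := AlgGrp.Action.ext' ha'.symm
  subst hact
  refine ⟨NonAbH1.isTorsorFor_bc f _, fun h => ⟨?_, ?_⟩⟩
  · let s := lift a.act (snd J P)
    have key : lift (a.bc f).act (snd _ _) ≫ Functor.LaxMonoidal.μ (Over.pullback f) P P =
        Functor.LaxMonoidal.μ (Over.pullback f) J P ≫ (Over.pullback f).map s := by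
      rw [← Functor.Monoidal.lift_μ, comp_lift_assoc, Functor.Monoidal.μ_snd, AlgGrp.Action.bc_act]
    haveI : IsIso (lift (a.bc f).act (snd _ _)) := h.1
    haveI : IsIso (Functor.LaxMonoidal.μ (Over.pullback f) J P ≫ (Over.pullback f).map s) := by
      rw [← key]; infer_instance
    haveI : IsIso ((Over.pullback f).map s) :=
      IsIso.of_isIso_comp_left (Functor.LaxMonoidal.μ (Over.pullback f) J P) _
    have hs1 : IsIso ((Over.pullback f).map s).left :=
      (inferInstance : IsIso ((Over.forget X').map ((Over.pullback f).map s)))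
    have sq : IsPullback ((Over.pullback f).map s).left (pullback.fst (J ⊗ P).hom f)
        (pullback.fst (P ⊗ P).hom f) s.left := by
      refine (IsPullback.of_right (h₁₂ := pullback.snd (P ⊗ P).hom f) (h₂₂ := (P ⊗ P).hom) ?_
        (ActBC.pullback_map_left_fst f s) (IsPullback.of_hasPullback (P ⊗ P).hom f).flip)
      rw [Over.w s]
      have := Over.w ((Over.pullback f).map s)
      erw [this]
      exact (IsPullback.of_hasPullback (J ⊗ P).hom f).flip
    have hfst : (@Surjective ⊓ @Flat ⊓ @QuasiCompact : MorphismProperty Scheme.{u})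
        (pullback.fst (P ⊗ P).hom f) :=
      ⟨⟨inferInstance, inferInstance⟩, inferInstance⟩
    have h4 : MorphismProperty.isomorphisms Scheme.{u} s.left :=
      MorphismProperty.of_isPullback_of_descendsAlong (P := MorphismProperty.isomorphisms Scheme.{u})
        (Q := @Surjective ⊓ @Flat ⊓ @QuasiCompact) sq hfst hs1
    haveI : IsIso ((Over.forget X).map s) := h4
    exact isIso_of_reflects_iso s (Over.forget X)
  · obtain ⟨R', hR', hsec⟩ := h.2
    let κ := {q : Σ Y : Scheme.{u}, Y ⟶ X' // R' q.2}
    have hR : Presieve.ofArrows (fun k : κ => k.1.1) (fun k => k.1.2) = R' := by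
      funext Y
      ext g
      exact ⟨fun ⟨i⟩ => i.2, fun hg => Presieve.ofArrows.mk (⟨⟨Y, g⟩, hg⟩ : κ)⟩
    refine ⟨Presieve.ofArrows (fun p : Σ _ : PUnit.{1}, κ => p.2.1.1) (fun p => p.2.1.2 ≫ f),
      Precoverage.comp_mem_coverings (J := Scheme.fpqcPrecoverage) (fun _ : PUnit.{1} => f)
        (by rw [Presieve.ofArrows_pUnit]; exact Scheme.Hom.singleton_mem_fpqcPrecoverage f)
        (fun _ (k : κ) => k.1.2) (fun _ => hR.symm ▸ hR'), ?_⟩
    rintro T g ⟨p⟩
    obtain ⟨t, ht⟩ := hsec _ p.2.2
    refine ⟨t ≫ pullback.fst P.hom f, ?_⟩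
    rw [Category.assoc, pullback.condition, ← Category.assoc]
    exact congrArg (· ≫ f) ht

end Groth.Agent.S14547
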