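import Groth.Statements.S1458
import Mathlib.RingTheory.Finiteness.ModuleFinitePresentation
import Mathlib.RingTheory.TensorProduct.Basic
import Mathlib.LinearAlgebra.TensorProduct.RightExactness

set_option autoImplicit false
universe u
open FlatMor

namespace Groth.Agent.S1458

open TensorProduct in
/-- Let A → B be a finite ring map of finite presentation. Then there are a finitely presented A-algebra
A_u and an idempotent e_u of B ⊗_A A_u such that for every A-algebra A' and every idempotent e of B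
⊗_A A' there is an A-algebra map A_u → A' whose induced map B ⊗ A_u → B ⊗ A' sends e_u to e. -/
theorem result {A B : Type u} [CommRing A] [CommRing B] [Algebra A B] [Module.Finite A B] [Algebra.FinitePresentation A B] :
    ∃ (Au : Type u) (_ : CommRing Au) (_ : Algebra A Au) (eu : B ⊗[A] Au), Algebra.FinitePresentation A Au ∧ IsIdempotentElem eu ∧
      ∀ (A' : Type u) [CommRing A'] [Algebra A A'] (e : B ⊗[A] A'), IsIdempotentElem e →
        ∃ φ : Au →ₐ[A] A', Algebra.TensorProduct.map (AlgHom.id A B) φ eu = e := by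
  classical
  have := Module.FinitePresentation.of_finite_of_finitePresentation A B
  obtain ⟨n, x, hx⟩ : ∃ (n : ℕ) (π : (Fin n → A) →ₗ[A] B), Function.Surjective π :=
    Module.Finite.exists_fin' A B
  obtain ⟨m, g, hg⟩ : ∃ (m : ℕ) (g : (Fin m → A) →ₗ[A] (Fin n → A)),
      LinearMap.range g = LinearMap.ker x := by
    obtain ⟨s, hs⟩ := Module.FinitePresentation.fg_ker x hx
    let v : Fin s.card → (Fin n → A) := fun i ↦ (s.equivFin.symm i).1
    refine ⟨s.card, Fintype.linearCombination A v, ?_⟩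
    rw [Fintype.range_linearCombination, ← hs]
    congr 1
    ext z
    exact ⟨fun ⟨i, hi⟩ ↦ hi ▸ (s.equivFin.symm i).2, fun hz ↦ ⟨s.equivFin ⟨z, hz⟩, by simp [v]⟩⟩
  let b : Fin n → B := fun i ↦ x (Pi.single i 1)
  let r : Fin m → Fin n → A := fun l ↦ g (Pi.single l 1)
  have key : ∀ (A' : Type u) [CommRing A'] [Algebra A A'],
      (∀ e : B ⊗[A] A', ∃ a : Fin n → A', ∑ i, b i ⊗ₜ[A] a i = e) ∧
      ∀ a : Fin n → A', ∑ i, b i ⊗ₜ[A] a i = (0 : B ⊗[A] A') →
        ∃ y : Fin m → A', ∀ i, a i = ∑ l, r l i • y l := by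
    intro A' _ _
    have exp : ∀ (k : ℕ) (v : Fin k → A), v = ∑ i, v i • Pi.single (M := fun _ ↦ A) i 1 := by
      intro k v; ext j; simp [Pi.single_apply]
    have surj : ∀ (k : ℕ) (z : (Fin k → A) ⊗[A] A'), ∃ a : Fin k → A',
        ∑ i, Pi.single (M := fun _ ↦ A) i 1 ⊗ₜ[A] a i = z := by
      intro k z
      induction z with
      | zero => exact ⟨0, by simp⟩
      | tmul v c =>
        refine ⟨fun i ↦ v i • c, ?_⟩
        conv_rhs => rw [exp k v, TensorProduct.sum_tmul]
        simp [TensorProduct.smul_tmul]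
      | add z w hz hw =>
        obtain ⟨a, rfl⟩ := hz
        obtain ⟨a', rfl⟩ := hw
        exact ⟨a + a', by simp [TensorProduct.tmul_add, Finset.sum_add_distrib]⟩
    refine ⟨fun e ↦ ?_, fun a ha ↦ ?_⟩
    · obtain ⟨z, rfl⟩ := LinearMap.rTensor_surjective A' hx e
      obtain ⟨a, rfl⟩ := surj n z
      exact ⟨a, by simp [b]⟩
    · have hex := rTensor_exact A' (LinearMap.exact_iff.mpr hg.symm) hx
      obtain ⟨w, hw⟩ := (hex (∑ i, Pi.single (M := fun _ ↦ A) i 1 ⊗ₜ[A] a i)).mp
        (by simpa [b] using ha)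
      obtain ⟨y, rfl⟩ := surj m w
      refine ⟨y, fun i ↦ ?_⟩
      have := congrArg (TensorProduct.lift (LinearMap.mk₂ A
        (fun (v : Fin n → A) (c : A') ↦ v i • c)
        (fun v v' c ↦ by simp [add_smul]) (fun a v c ↦ by simp [mul_smul])
        (fun v c c' ↦ smul_add _ _ _) (fun a v c ↦ smul_comm _ _ _))) hw
      simpa [r, Pi.single_apply] using this.symm
  have hc : ∀ z : B, ∃ v : Fin n → A, ∑ k, v k • b k = z := by
    intro z
    obtain ⟨v, rfl⟩ := hx z
    refine ⟨v, ?_⟩
    simp only [b, ← map_smul, ← map_sum]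
    congr 1
    ext j; simp [Pi.single_apply]
  choose c hc' using fun i j ↦ hc (b i * b j)
  let Q : Fin n → MvPolynomial (Fin n ⊕ Fin m) A := fun k ↦
    (∑ i, ∑ j, MvPolynomial.C (c i j k) * MvPolynomial.X (Sum.inl i) * MvPolynomial.X (Sum.inl j))
      - MvPolynomial.X (Sum.inl k) - ∑ l, MvPolynomial.C (r l k) * MvPolynomial.X (Sum.inr l)
  let J : Ideal (MvPolynomial (Fin n ⊕ Fin m) A) := Ideal.span (Set.range Q)
  have hrel : ∀ l, ∑ k, r l k • b k = 0 := by
    intro l
    have : r l ∈ LinearMap.ker x := hg ▸ ⟨_, rfl⟩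
    rw [LinearMap.mem_ker] at this
    simp only [b, ← map_smul, ← map_sum]
    convert this
    ext j; simp [Pi.single_apply]
  have sq : ∀ (A' : Type u) [CommRing A'] [Algebra A A'] (a : Fin n → A'),
      (∑ i, b i ⊗ₜ[A] a i) * (∑ i, b i ⊗ₜ[A] a i) =
        ∑ k, b k ⊗ₜ[A] (∑ i, ∑ j, algebraMap A A' (c i j k) * a i * a j) := by
    intro A' _ _ a
    simp only [Finset.mul_sum, Finset.sum_mul, Algebra.TensorProduct.tmul_mul_tmul]
    simp only [← hc', TensorProduct.sum_tmul, TensorProduct.tmul_sum, TensorProduct.smul_tmul]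
    simp only [Algebra.smul_def]
    rw [Finset.sum_comm]
    conv_lhs => arg 2; ext i; rw [Finset.sum_comm]
    rw [Finset.sum_comm]
    refine Finset.sum_congr rfl fun k _ ↦ ?_
    simp only [mul_assoc]
  let Au := MvPolynomial (Fin n ⊕ Fin m) A ⧸ J
  let au : Fin n → Au := fun i ↦ Ideal.Quotient.mk J (MvPolynomial.X (Sum.inl i))
  refine ⟨Au, inferInstance, inferInstance, ∑ i, b i ⊗ₜ[A] au i,
    Algebra.FinitePresentation.quotient ⟨(Set.finite_range Q).toFinset, by simp [J]⟩, ?_, ?_⟩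
  · rw [IsIdempotentElem, sq]
    have hQ : ∀ k, (∑ i, ∑ j, algebraMap A Au (c i j k) * au i * au j) =
        au k + ∑ l, r l k • Ideal.Quotient.mk J (MvPolynomial.X (Sum.inr l)) := by
      intro k
      have : Ideal.Quotient.mk J (Q k) = 0 :=
        Ideal.Quotient.eq_zero_iff_mem.mpr (Ideal.subset_span ⟨k, rfl⟩)
      simp only [Q, map_sub, map_sum, map_mul, sub_sub, sub_eq_zero] at this
      refine Eq.trans ?_ (this.trans ?_)
      · rfl
      · simp only [map_add, map_sum, au]
        congr 1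
        refine Finset.sum_congr rfl fun l _ ↦ ?_
        rw [MvPolynomial.C_mul', ← Ideal.Quotient.mkₐ_eq_mk A, map_smul]
    simp only [hQ, TensorProduct.tmul_add, Finset.sum_add_distrib, TensorProduct.tmul_sum,
      ← TensorProduct.smul_tmul]
    rw [Finset.sum_comm (f := fun k l ↦ (r l k • b k) ⊗ₜ[A] _)]
    simp [← TensorProduct.sum_tmul, hrel]
  · intro A' _ _ e he
    obtain ⟨a, rfl⟩ := (key A').1 e
    obtain ⟨y, hy⟩ := (key A').2
      (fun k ↦ (∑ i, ∑ j, algebraMap A A' (c i j k) * a i * a j) - a k) (by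
        simp only [TensorProduct.tmul_sub, Finset.sum_sub_distrib, ← sq, he.eq, sub_self])
    let φ₀ : MvPolynomial (Fin n ⊕ Fin m) A →ₐ[A] A' := MvPolynomial.aeval (Sum.elim a y)
    have hJ : ∀ p ∈ J, φ₀ p = 0 := by
      intro p hp
      refine (Ideal.span_le (I := RingHom.ker φ₀.toRingHom)).mpr ?_ hp
      rintro _ ⟨k, rfl⟩
      change φ₀ (Q k) = 0
      simp only [Q, φ₀, map_sub, map_sum, map_mul, MvPolynomial.aeval_C, MvPolynomial.aeval_X,
        Sum.elim_inl, Sum.elim_inr]
      rw [hy k]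
      simp [Algebra.smul_def]
    refine ⟨Ideal.Quotient.liftₐ J φ₀ hJ, ?_⟩
    simp only [map_sum, Algebra.TensorProduct.map_tmul, AlgHom.coe_id, id_eq]
    refine Finset.sum_congr rfl fun i _ ↦ ?_
    congr 1
    exact (Ideal.Quotient.lift_mk J _ _).trans (MvPolynomial.aeval_X (Sum.elim a y) (Sum.inl i))

end Groth.Agent.S1458
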