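import Groth.Statements.S4107
import Groth.Agent.GrpSch.AntiSmooth
import Groth.Agent.GrpSch.Cat

set_option autoImplicit false
universe u
open CategoryTheory MonoidalCategory CartesianMonoidalCategory MonObj GrpObj AlgebraicGeometry CategoryTheory.Limits
open SGA3

namespace Groth.Agent.S4107

/-- Let G be an algebraic group over a field k, ρ : G → Spec O(G) the canonical morphism and N = Ker ρ,
the fibre of ρ over the image of the unit section. Then O(N) = k (the structure morphism N → Spec k
induces an isomorphism on global sections), and N is smooth over k and connected. (The source adds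
that N is commutative and characteristic in G.) -/
theorem result (k : Type u) [Field k] (G : Over (Spec (CommRingCat.of k))) [GrpObj G]
    [LocallyOfFiniteType G.hom] [QuasiCompact G.hom] :
    IsIso (pullback.snd G.left.toSpecΓ (η[G].left ≫ G.left.toSpecΓ) ≫ (𝟙_ (Over (Spec (CommRingCat.of k)))).hom).appTop ∧
    Smooth (pullback.snd G.left.toSpecΓ (η[G].left ≫ G.left.toSpecΓ) ≫ (𝟙_ (Over (Spec (CommRingCat.of k)))).hom) ∧
    ConnectedSpace ↥(pullback G.left.toSpecΓ (η[G].left ≫ G.left.toSpecΓ)) := by
  haveI := GrpSch.AffEnv.compactSpace_left G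
  haveI := GrpSch.AffEnv.quasiSeparatedSpace_left G
  obtain ⟨_, _⟩ := GrpSch.AffEnv.exists_grpObj G
  haveI := GrpSch.AffEnv.isIso_toAff_appTop G
  haveI := GrpSch.SepPoints.isSeparated_grp G
  set t := GrpSch.AffEnv.toAff G
  haveI := GrpSch.SepPoints.isSeparated_grp (GrpSch.AffEnv.aff G)
  have hη : (η[G].left ≫ G.left.toSpecΓ) = (η[GrpSch.AffEnv.aff G]).left := by
    rw [← IsMonHom.one_hom (f := t), Over.comp_left]
    rfl
  have h0 := CategoryTheory.IsPullback.of_hasPullback G.left.toSpecΓ (η[G].left ≫ G.left.toSpecΓ)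
  let N : Over (Spec (CommRingCat.of k)) :=
    Over.mk (Limits.pullback.fst G.left.toSpecΓ (η[G].left ≫ G.left.toSpecΓ) ≫ G.hom)
  let n : N ⟶ G := Over.homMk (Limits.pullback.fst G.left.toSpecΓ (η[G].left ≫ G.left.toSpecΓ)) rfl
  have hNhom : N.hom = Limits.pullback.snd G.left.toSpecΓ (η[G].left ≫ G.left.toSpecΓ) ≫
      (𝟙_ (Over (Spec (CommRingCat.of k)))).hom := by
    change Limits.pullback.fst _ _ ≫ G.hom = _
    have e2 : G.hom = G.left.toSpecΓ ≫ (GrpSch.AffEnv.aff G).hom := (Over.w t).symm
    rw [e2, Limits.pullback.condition_assoc]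
    refine congrArg (Limits.pullback.snd _ _ ≫ ·) ?_
    exact (congrArg (· ≫ (GrpSch.AffEnv.aff G).hom) hη).trans (Over.w η[GrpSch.AffEnv.aff G])
  have hu : (toUnit N).left = Limits.pullback.snd G.left.toSpecΓ (η[G].left ≫ G.left.toSpecΓ) := by
    have e1 : (toUnit N).left = N.hom := (Category.comp_id _).symm.trans (Over.w (toUnit N))
    rw [e1, hNhom]
    exact Category.comp_id _
  have hpb : IsPullback n (toUnit N) t η[GrpSch.AffEnv.aff G] := by
    refine IsPullback.of_map (Over.forget _) (Over.OverMorphism.ext ?_) ?_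
    · change n.left ≫ t.left = (toUnit N).left ≫ _
      rw [hu]
      exact Limits.pullback.condition.trans (congrArg (Limits.pullback.snd _ _ ≫ ·) hη)
    · simp only [Over.forget_map, hu]
      rw [← hη]
      exact h0
  haveI hnc : IsClosedImmersion n.left := by
    haveI : IsClosedImmersion η[GrpSch.AffEnv.aff G].left := by
      haveI : IsClosedImmersion (η[GrpSch.AffEnv.aff G].left ≫ (GrpSch.AffEnv.aff G).hom) := by
        rw [Over.w η[GrpSch.AffEnv.aff G]]
        exact inferInstanceAs (IsClosedImmersion (𝟙 (Spec (CommRingCat.of k))))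
      exact IsClosedImmersion.of_comp η[GrpSch.AffEnv.aff G].left (GrpSch.AffEnv.aff G).hom
    exact MorphismProperty.of_isPullback (P := @IsClosedImmersion) (GrpSch.isPullback_left hpb).flip inferInstance
  haveI : Mono n := (Over.forget _).mono_of_mono_map (show Mono n.left from inferInstance)
  obtain ⟨_, _⟩ := GrpSch.exists_grpObj_of_isKernel hpb
  have hN := GrpSch.AntiKer.bijective_kernel t n hpb
  haveI : LocallyOfFiniteType N.hom := by rw [← Over.w n]; infer_instance
  haveI : QuasiCompact N.hom := by rw [← Over.w n]; infer_instance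
  refine ⟨?_, ?_, GrpSch.Rigidity.connectedSpace_of_bijective N hN⟩
  · rw [← hNhom]
    haveI : IsIso ((Scheme.ΓSpecIso (CommRingCat.of k)).inv ≫ N.hom.appTop) :=
      (ConcreteCategory.isIso_iff_bijective _).2 hN
    exact IsIso.of_isIso_comp_left (Scheme.ΓSpecIso (CommRingCat.of k)).inv _
  · rw [← hNhom]
    exact GrpSch.AntiSmooth.smooth N hN

end Groth.Agent.S4107
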