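import Groth.Statements.S14580
import Groth.Agent.S4107
import Groth.Agent.GrpSch.AffThm

set_option autoImplicit false
universe u
open CategoryTheory MonoidalCategory CartesianMonoidalCategory MonObj GrpObj AlgebraicGeometry CategoryTheory.Limits
open AlgGrp

namespace Groth.Agent.S14580

/-- Let k be a field, G a proper k-group scheme of finite type and N ⊆ G the kernel of the affinization
morphism G → Spec O(G), i.e. the fibre over the image of the unit section (the largest anti-affine
subgroup scheme of G). Then the image of N in G is the connected component of the identity: as N is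
smooth, N is the reduced neutral component G⁰_red, which is therefore a smooth connected algebraic
group. -/
theorem result (k : Type u) [Field k]
    (G : Over (Spec (CommRingCat.of k))) [GrpObj G] [IsProper G.hom] (t : ↥((𝟙_ (Over (Spec (CommRingCat.of k)))).left)) :
    Set.range ⇑(pullback.fst G.left.toSpecΓ (η[G].left ≫ G.left.toSpecΓ)).base = connectedComponent ((η[G]).left.base t) := by
  haveI : LocallyOfFiniteType G.hom := inferInstance
  haveI : QuasiCompact G.hom := inferInstance
  haveI := GrpSch.AffEnv.compactSpace_left G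
  haveI := GrpSch.AffEnv.quasiSeparatedSpace_left G
  obtain ⟨_, _⟩ := GrpSch.AffEnv.exists_grpObj G
  haveI := GrpSch.AffEnv.isIso_toAff_appTop G
  set ρ := GrpSch.AffEnv.toAff G
  have hinj : Function.Injective ρ.left.appTop.hom := (ConcreteCategory.bijective_of_isIso ρ.left.appTop).1
  obtain ⟨hf, hs⟩ := GrpSch.AffThm.flat_surjective ρ hinj
  obtain ⟨hft, -⟩ := GrpSch.AffThm.locallyOfFiniteType ρ hinj
  haveI : IsAffineHom (GrpSch.AffEnv.aff G).hom := inferInstance
  haveI : UniversallyClosed (GrpSch.AffEnv.aff G).hom := by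
    haveI : UniversallyClosed (ρ.left ≫ (GrpSch.AffEnv.aff G).hom) := by rw [Over.w ρ]; infer_instance
    exact UniversallyClosed.of_comp_surjective ρ.left _
  haveI : IsProper (GrpSch.AffEnv.aff G).hom := { }
  haveI : IsFinite (GrpSch.AffEnv.aff G).hom := (IsFinite.iff_isProper_and_isAffineHom).2 ⟨inferInstance, inferInstance⟩
  haveI : IsArtinianScheme (Spec (CommRingCat.of k)) := inferInstance
  haveI : DiscreteTopology (GrpSch.AffEnv.aff G).left := by
    algebraize [((Scheme.ΓSpecIso (CommRingCat.of k)).inv ≫ (GrpSch.AffEnv.aff G).hom.appTop).hom]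
    haveI : Module.Finite k Γ((GrpSch.AffEnv.aff G).left, ⊤) :=
      (RingHom.Finite.comp (IsFinite.finite_app ⊤ (isAffineOpen_top _) (f := (GrpSch.AffEnv.aff G).hom))
        (RingHom.Finite.of_surjective (Scheme.ΓSpecIso (CommRingCat.of k)).inv.hom
          (ConcreteCategory.bijective_of_isIso (Scheme.ΓSpecIso (CommRingCat.of k)).inv).2) :)
    haveI : IsArtinianRing Γ((GrpSch.AffEnv.aff G).left, ⊤) := IsArtinianRing.of_finite k _
    exact (GrpSch.AffEnv.aff G).left.isoSpec.hom.isOpenEmbedding.discreteTopology
  set e := η[G].left.base t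
  have hrange : Set.range ⇑(Limits.pullback.fst G.left.toSpecΓ (η[G].left ≫ G.left.toSpecΓ)).base =
      ρ.left ⁻¹' {ρ.left e} := by
    refine (Scheme.Pullback.range_fst G.left.toSpecΓ (η[G].left ≫ G.left.toSpecΓ)).trans ?_
    congr 1
    refine Set.eq_singleton_iff_unique_mem.2 ⟨⟨t, rfl⟩, ?_⟩
    rintro _ ⟨t', rfl⟩
    rw [Subsingleton.elim (α := PrimeSpectrum k) t' t]
    rfl
  refine Set.Subset.antisymm ?_ ?_
  · obtain ⟨hΓ, -, hc⟩ := Groth.Agent.S4107.result k G
    haveI := hc
    refine (isPreconnected_range (Limits.pullback.fst G.left.toSpecΓ (η[G].left ≫ G.left.toSpecΓ)).continuous).subset_connectedComponent ?_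
    rw [hrange]
    rfl
  · rw [hrange]
    intro x hx
    have h := (isPreconnected_connectedComponent (x := e)).image ρ.left ρ.left.continuous.continuousOn
    exact h.subsingleton ⟨x, hx, rfl⟩ ⟨e, mem_connectedComponent, rfl⟩

end Groth.Agent.S14580
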