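import Groth.Statements.S14587
import Groth.Agent.GrpSch.OverBase
import Groth.Agent.GrpSch.Smooth
import Groth.Agent.Unram.Pointwise
import Groth.Agent.GrpSch.Desc

set_option autoImplicit false
universe u
open CategoryTheory MonoidalCategory CartesianMonoidalCategory MonObj GrpObj AlgebraicGeometry CategoryTheory.Limits
open AlgGrp

namespace Groth.Agent.S14587

/-- Let k be a perfect field and G a finite k-group scheme, r : G_red → G its reduced subgroup scheme (a
homomorphism and closed immersion from a reduced k-group scheme, surjective on underlying spaces)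
and i₀ : G⁰ → G its neutral component (a homomorphism and open immersion from a connected k-group
scheme). Then the multiplication morphism G_red × G⁰ → G is an isomorphism, exhibiting G as the
semi-direct product of G⁰ by G_red. -/
theorem result (k : Type u) [Field k] [PerfectField k]
    (G Gr G₀ : Over (Spec (CommRingCat.of k))) [GrpObj G] [GrpObj Gr] [GrpObj G₀] [IsFinite G.hom]
    (r : Gr ⟶ G) [IsMonHom r] [IsClosedImmersion r.left] [IsReduced Gr.left] [Surjective r.left]
    (i₀ : G₀ ⟶ G) [IsMonHom i₀] [IsOpenImmersion i₀.left] [ConnectedSpace ↥G₀.left] :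
    IsIso ((r ⊗ₘ i₀) ≫ μ[G]) := by
  haveI : IsFinite (r.left ≫ G.hom) := inferInstance
  haveI : IsFinite Gr.hom := by rw [← Over.w r]; infer_instance
  haveI hfinG : Finite ↥G.left := by
    refine Set.finite_univ_iff.1 ((Scheme.Hom.finite_preimage_singleton
      G.hom (IsLocalRing.closedPoint k)).subset fun x _ => ?_)
    exact Subsingleton.elim (α := ↥(Spec (CommRingCat.of k))) _ _
  haveI : Finite ↥Gr.left := Finite.of_injective _ r.left.isClosedEmbedding.injective
  haveI : JacobsonSpace ↥G.left := LocallyOfFiniteType.jacobsonSpace G.hom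
  haveI : JacobsonSpace ↥Gr.left := LocallyOfFiniteType.jacobsonSpace Gr.hom
  haveI : DiscreteTopology ↥G.left := inferInstance
  haveI : DiscreteTopology ↥Gr.left := inferInstance
  haveI : DiscreteTopology ↥G₀.left :=
    DiscreteTopology.of_continuous_injective i₀.left.continuous i₀.left.isOpenEmbedding.injective
  haveI : Subsingleton ↥G₀.left := PreconnectedSpace.trivial_of_discrete
  set e₀ : ↥(𝟙_ (Over (Spec (CommRingCat.of k)))).left := IsLocalRing.closedPoint k
  -- the unit section of `Gr` is an open immersion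
  have hη : IsOpenImmersion η[Gr].left := by
    let U : Gr.left.Opens := ⟨{η[Gr].left e₀}, isOpen_discrete _⟩
    have hr : Set.range η[Gr].left ⊆ Set.range U.ι := by
      rw [Scheme.Opens.range_ι]
      rintro _ ⟨x, rfl⟩
      exact congrArg _ (Subsingleton.elim (α := ↥(Spec (CommRingCat.of k))) _ _)
    haveI : IsClosedImmersion η[Gr].left := by
      haveI : IsClosedImmersion (η[Gr].left ≫ Gr.hom) := by
        rw [Over.w η[Gr]]
        exact inferInstanceAs (IsClosedImmersion (𝟙 (Spec (CommRingCat.of k))))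
      exact IsClosedImmersion.of_comp η[Gr].left Gr.hom
    haveI : IsClosedImmersion (IsOpenImmersion.lift U.ι η[Gr].left hr ≫ U.ι) := by
      rw [IsOpenImmersion.lift_fac]; infer_instance
    haveI : IsClosedImmersion (IsOpenImmersion.lift U.ι η[Gr].left hr) :=
      IsClosedImmersion.of_comp _ U.ι
    haveI : Surjective (IsOpenImmersion.lift U.ι η[Gr].left hr) := ⟨fun x => ⟨e₀, by
      apply U.ι.isOpenEmbedding.injective
      rw [← Scheme.Hom.comp_apply, IsOpenImmersion.lift_fac]
      exact (Set.mem_singleton_iff.1 x.2).symm⟩⟩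
    haveI : IsReduced U.toScheme := isReduced_of_isOpenImmersion U.ι
    haveI := isIso_of_isClosedImmersion_of_surjective (IsOpenImmersion.lift U.ι η[Gr].left hr)
    rw [← IsOpenImmersion.lift_fac U.ι η[Gr].left hr]
    infer_instance
  haveI : FormallyUnramified Gr.hom := by
    haveI := GrpSch.property_diagonal_of_one (P := @IsOpenImmersion) Gr hη
    infer_instance
  haveI : Smooth Gr.hom := GrpSch.smooth_of_perfectField Gr
  haveI : Etale Gr.hom := Groth.Agent.Unram.etale_of_smooth_of_formallyUnramified _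
  -- the intersection of `Gr` with `G₀` is trivial
  have hker : ∀ (T : Over (Spec (CommRingCat.of k))) (a : T ⟶ Gr) (b : T ⟶ G₀), a ≫ r = b ≫ i₀ → a = 1 := by
    intro T a b hab
    have hr : Set.range a.left ⊆ Set.range η[Gr].left := by
      rintro _ ⟨t, rfl⟩
      refine ⟨e₀, r.left.isClosedEmbedding.injective ?_⟩
      rw [← Scheme.Hom.comp_apply a.left, ← Over.comp_left, hab, ← Scheme.Hom.comp_apply, ← Over.comp_left,
        IsMonHom.one_hom, ← IsMonHom.one_hom (f := i₀), Over.comp_left, Over.comp_left, Scheme.Hom.comp_apply,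
        Scheme.Hom.comp_apply]
      exact congrArg _ (Subsingleton.elim _ _)
    have h : a = toUnit T ≫ η[Gr] := by
      let l : T ⟶ 𝟙_ (Over (Spec (CommRingCat.of k))) := Over.homMk (IsOpenImmersion.lift η[Gr].left a.left hr) (by
        rw [← Over.w η[Gr], IsOpenImmersion.lift_fac_assoc, Over.w a])
      rw [toUnit_unique (toUnit T) l]
      ext : 1
      exact (IsOpenImmersion.lift_fac η[Gr].left a.left hr).symm
    rw [h, Hom.one_def]
  haveI : Mono i₀ := (Over.forget _).mono_of_mono_map (show Mono i₀.left from inferInstance)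
  haveI : Mono ((r ⊗ₘ i₀) ≫ μ[G]) := ⟨fun {T} a b hab => by
    have h : (a ≫ fst _ _ ≫ r) * (a ≫ snd _ _ ≫ i₀) = (b ≫ fst _ _ ≫ r) * (b ≫ snd _ _ ≫ i₀) := by
      have key : ∀ c : T ⟶ Gr ⊗ G₀,
          (c ≫ fst _ _ ≫ r) * (c ≫ snd _ _ ≫ i₀) = c ≫ (r ⊗ₘ i₀) ≫ μ[G] := fun c => by
        rw [Hom.mul_def, ← Category.assoc c (r ⊗ₘ i₀)]
        congr 1
        apply CartesianMonoidalCategory.hom_ext <;> simp
      rw [key, key, hab]
    have h1 : (b ≫ fst _ _)⁻¹ * (a ≫ fst _ _) = 1 := hker T _ ((b ≫ snd _ _) * (a ≫ snd _ _)⁻¹) (by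
      rw [MonObj.mul_comp, GrpObj.inv_comp, MonObj.mul_comp, GrpObj.inv_comp, Category.assoc, Category.assoc,
        Category.assoc, Category.assoc, inv_mul_eq_iff_eq_mul, ← _root_.mul_assoc, ← h, mul_inv_cancel_right])
    have ha : a ≫ fst _ _ = b ≫ fst _ _ := (inv_mul_eq_one.1 h1).symm
    rw [← Category.assoc a (fst _ _), ha, Category.assoc, mul_left_cancel_iff, ← Category.assoc,
      ← Category.assoc b, cancel_mono] at h
    exact CartesianMonoidalCategory.hom_ext _ _ ha h⟩
  haveI : Mono ((r ⊗ₘ i₀) ≫ μ[G]).left := Over.mono_left_of_mono _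
  haveI : Etale ((r ⊗ₘ i₀) ≫ μ[G]).left := by
    let sh : Gr ⊗ G ≅ Gr ⊗ G :=
      { hom := lift (fst Gr G) ((fst Gr G ≫ r) * snd Gr G)
        inv := lift (fst Gr G) ((fst Gr G ≫ r)⁻¹ * snd Gr G)
        hom_inv_id := by
          apply CartesianMonoidalCategory.hom_ext <;> simp [MonObj.comp_mul, GrpObj.comp_inv]
        inv_hom_id := by
          apply CartesianMonoidalCategory.hom_ext <;> simp [MonObj.comp_mul, GrpObj.comp_inv] }
    have hfac : (r ⊗ₘ i₀) ≫ μ[G] = (Gr ◁ i₀) ≫ sh.hom ≫ snd Gr G := by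
      rw [lift_snd, MonObj.comp_mul, ← Category.assoc, whiskerLeft_fst, whiskerLeft_snd, Hom.mul_def]
      congr 1
    haveI : IsOpenImmersion (Gr ◁ i₀).left := GrpSch.Desc.whiskerLeft_prop Gr i₀ ‹_›
    haveI : IsIso sh.hom.left := ((Over.forget _).mapIso sh).isIso_hom
    haveI : Etale (snd Gr G).left := inferInstanceAs (Etale (pullback.snd Gr.hom G.hom))
    rw [hfac, Over.comp_left, Over.comp_left]
    infer_instance
  haveI : IsOpenImmersion ((r ⊗ₘ i₀) ≫ μ[G]).left := IsOpenImmersion.of_flat_of_mono _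
  haveI : Surjective ((r ⊗ₘ i₀) ≫ μ[G]).left := by
    refine ⟨fun x => ?_⟩
    obtain ⟨y, rfl⟩ := r.left.surjective x
    refine ⟨(lift (𝟙 Gr) (1 : Gr ⟶ G₀)).left y, ?_⟩
    rw [← Scheme.Hom.comp_apply, ← Over.comp_left]
    congr 3
    rw [← Category.assoc, lift_map, ← Hom.mul_def, MonObj.one_comp, _root_.mul_one, Category.id_comp]
  haveI : IsIso ((Over.forget _).map ((r ⊗ₘ i₀) ≫ μ[G])) := (isIso_iff_isOpenImmersion_and_epi_base _).2
    ⟨‹_›, (TopCat.epi_iff_surjective _).2 ((r ⊗ₘ i₀) ≫ μ[G]).left.surjective⟩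
  exact isIso_of_reflects_iso _ (Over.forget _)

end Groth.Agent.S14587
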