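import Groth.Statements.S14588
import Groth.Agent.GrpSch.SmoothOne

set_option autoImplicit false
universe u
open CategoryTheory MonoidalCategory CartesianMonoidalCategory MonObj GrpObj AlgebraicGeometry CategoryTheory.Limits
open AlgGrp

namespace Groth.Agent.S14588

/-- Let k be a field with algebraic closure K and G a k-group scheme locally of finite type. If the
local ring of G_K at its unit point is reduced, then G is smooth over k. -/
theorem result (k : Type u) [Field k]
    (G : Over (Spec (CommRingCat.of k))) [GrpObj G] [LocallyOfFiniteType G.hom]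
    (t : ↥((𝟙_ (Over (Spec (CommRingCat.of (AlgebraicClosure k))))).left))
    (h : _root_.IsReduced ↑((Red.bc (Spec.map (CommRingCat.ofHom (algebraMap k (AlgebraicClosure k)))) G).left.presheaf.stalk ((η[Red.bc (Spec.map (CommRingCat.ofHom (algebraMap k (AlgebraicClosure k)))) G]).left.base t))) :
    Smooth G.hom := by
  let K := AlgebraicClosure k
  haveI : LocallyOfFiniteType (Red.bc (Spec.map (CommRingCat.ofHom (algebraMap k K))) G).hom :=
    inferInstanceAs (LocallyOfFiniteType (Limits.pullback.snd G.hom _))
  obtain rfl : IsLocalRing.closedPoint K = t := Subsingleton.elim (α := PrimeSpectrum K) _ _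
  haveI := Groth.Agent.GrpSch.isReduced_of_isReduced_stalk_one _ h
  refine Groth.Agent.GrpSch.smooth_of_smooth_geomFibre G ?_
  let GK := Red.bc (Spec.map (CommRingCat.ofHom (algebraMap k K))) G
  haveI : LocallyOfFiniteType GK.hom := inferInstanceAs (LocallyOfFiniteType (Red.bc (Spec.map (CommRingCat.ofHom (algebraMap k K))) G).hom)
  haveI : IsReduced GK.left := inferInstanceAs (IsReduced (Red.bc (Spec.map (CommRingCat.ofHom (algebraMap k K))) G).left)
  haveI : Nonempty ↥GK.left := ⟨η[Red.bc (Spec.map (CommRingCat.ofHom (algebraMap k K))) G].left (IsLocalRing.closedPoint K)⟩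
  obtain ⟨y, hy⟩ := GK.hom.dense_smoothLocus_of_perfectField.nonempty
  exact Groth.Agent.GrpSch.smooth_of_mem_smoothLocus (Red.bc (Spec.map (CommRingCat.ofHom (algebraMap k K))) G) hy

end Groth.Agent.S14588
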