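import Groth.Statements.S14589
import Groth.Agent.GrpSch.AntiPart
import Groth.Agent.GrpSch.ImageQuot

set_option autoImplicit false
universe u
open CategoryTheory MonoidalCategory CartesianMonoidalCategory MonObj GrpObj AlgebraicGeometry CategoryTheory.Limits
open AlgGrp

namespace Groth.Agent.S14589

/-- Let k be a field, G a k-group scheme of finite type, i : N → G a closed normal subgroup scheme and q
: G → Q a flat surjective homomorphism of k-group schemes of finite type with kernel N (Q = G/N).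
Let j : M → G and j' : M' → Q be the largest anti-affine subgroup schemes of G and of Q (closed
subgroup schemes of finite type with only constant global functions through which every other such
subgroup scheme factors). Then q maps M onto M': the image of M → G → Q equals the underlying set of
M'. Since M' is smooth, this is the statement that G_ant/(G_ant ∩ N) → (G/N)_ant is an isomorphism. -/
theorem result (k : Type u) [Field k]
    (G : Over (Spec (CommRingCat.of k))) [GrpObj G] [LocallyOfFiniteType G.hom] [QuasiCompact G.hom]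
    (N : Over (Spec (CommRingCat.of k))) [GrpObj N] (i : N ⟶ G) [IsMonHom i] [IsClosedImmersion i.left] (hN : AlgGrp.IsNormalHom i)
    (Q : Over (Spec (CommRingCat.of k))) [GrpObj Q] [LocallyOfFiniteType Q.hom] [QuasiCompact Q.hom]
    (q : G ⟶ Q) [IsMonHom q] [Surjective q.left] [Flat q.left] (hq : AlgGrp.IsKernel i q)
    (M : Over (Spec (CommRingCat.of k))) [GrpObj M] [LocallyOfFiniteType M.hom] [QuasiCompact M.hom] (j : M ⟶ G) [IsMonHom j] [IsClosedImmersion j.left]
    (hM : Function.Bijective ((Scheme.ΓSpecIso (CommRingCat.of k)).inv ≫ M.hom.appTop).hom)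
    (hMmax : ∀ (M₁ : Over (Spec (CommRingCat.of k))) [GrpObj M₁] [LocallyOfFiniteType M₁.hom] [QuasiCompact M₁.hom] (j₁ : M₁ ⟶ G) [IsMonHom j₁] [IsClosedImmersion j₁.left],
      Function.Bijective ((Scheme.ΓSpecIso (CommRingCat.of k)).inv ≫ M₁.hom.appTop).hom → ∃ g : M₁ ⟶ M, g ≫ j = j₁)
    (M' : Over (Spec (CommRingCat.of k))) [GrpObj M'] [LocallyOfFiniteType M'.hom] [QuasiCompact M'.hom] (j' : M' ⟶ Q) [IsMonHom j'] [IsClosedImmersion j'.left]
    (hM' : Function.Bijective ((Scheme.ΓSpecIso (CommRingCat.of k)).inv ≫ M'.hom.appTop).hom)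
    (hM'max : ∀ (M₁ : Over (Spec (CommRingCat.of k))) [GrpObj M₁] [LocallyOfFiniteType M₁.hom] [QuasiCompact M₁.hom] (j₁ : M₁ ⟶ Q) [IsMonHom j₁] [IsClosedImmersion j₁.left],
      Function.Bijective ((Scheme.ΓSpecIso (CommRingCat.of k)).inv ≫ M₁.hom.appTop).hom → ∃ g : M₁ ⟶ M', g ≫ j' = j₁) :
    Set.range ⇑(j ≫ q).left.base = Set.range ⇑j'.left.base := by
  obtain ⟨_, _⟩ := GrpSch.AffEnv.exists_grpObj G
  obtain ⟨_, _⟩ := GrpSch.AffEnv.exists_grpObj Q
  obtain ⟨K, _, n, _, _, _, _, hK, hKi⟩ := GrpSch.AntiPart.exists_ker G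
  obtain ⟨K', _, n', _, _, _, _, hK', hKi'⟩ := GrpSch.AntiPart.exists_ker Q
  obtain ⟨e, he⟩ := hMmax K n hK
  obtain ⟨e', he'⟩ := hM'max K' n' hK'
  obtain ⟨R, _, r, _, hR, _, _, _, hloc⟩ := GrpSch.ImageQuot.exists_affine_hom i hN q hq
  haveI := hR
  refine Set.Subset.antisymm ?_ ?_
  · obtain ⟨a, ha⟩ := (hKi' M (j ≫ q)).2 (GrpSch.AntiHom.eq_one M _ hM _)
    rintro _ ⟨y, rfl⟩
    refine ⟨(a ≫ e').left.base y, ?_⟩
    rw [← Scheme.Hom.comp_apply, ← Over.comp_left, Category.assoc, he', ha]
  · haveI : IsLocallyNoetherian Q.left := LocallyOfFiniteType.isLocallyNoetherian Q.hom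
    haveI : LocallyOfFiniteType q.left := by
      have h : LocallyOfFiniteType (q.left ≫ Q.hom) := by rw [Over.w q]; infer_instance
      exact locallyOfFiniteType_of_comp q.left Q.hom
    haveI : LocallyOfFinitePresentation q.left := inferInstance
    obtain ⟨P, π, g, _, _, _, hg⟩ := GrpSch.ImageQuot.lift_cover q j'
    have hgr : g ≫ q ≫ r = 1 := by
      rw [← Category.assoc, ← hg, Category.assoc, GrpSch.AntiHom.eq_one M' _ hM' (j' ≫ r), MonObj.comp_one]
    obtain ⟨A, p, nn, m, hps, hm, hpg⟩ := hloc P g hgr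
    obtain ⟨a, ha⟩ := (hKi A m).2 hm
    rintro _ ⟨y, rfl⟩
    obtain ⟨z, hz⟩ := (p.left ≫ π.left).surjective y
    refine ⟨(a ≫ e).left.base z, ?_⟩
    rw [← hz, ← Scheme.Hom.comp_apply, ← Scheme.Hom.comp_apply, ← Over.comp_left, ← Over.comp_left,
      ← Over.comp_left]
    congr 3
    rw [Category.assoc p π j', hg, ← Category.assoc p g q, hpg, MonObj.mul_comp, Category.assoc nn i q,
      (GrpSch.isKernel_factors_iff hq i).1 ⟨𝟙 N, Category.id_comp _⟩, MonObj.comp_one, _root_.mul_one,
      Category.assoc, ← Category.assoc e j q, he, ← Category.assoc, ha]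

end Groth.Agent.S14589
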