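import Groth.Statements.S14596
import Groth.Agent.GrpSch.QuotRed
import Groth.Agent.GrpSch.Neutral
import Groth.Agent.GrpSch.BundleMap
import Groth.Agent.DimTheory.ZeroDim
import Groth.Agent.LimSch.DVRProper
import Groth.Agent.GITQuot.Torsor

set_option backward.isDefEq.respectTransparency.types false

set_option autoImplicit false
universe u
open CategoryTheory MonoidalCategory CartesianMonoidalCategory MonObj GrpObj AlgebraicGeometry CategoryTheory.Limits
open AlgGrp

namespace Groth.Agent.S14596Aux

open CategoryTheory MonoidalCategory CartesianMonoidalCategory MonObj GrpObj AlgebraicGeometry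

variable {k : Type u} [Field k]

theorem isFinite_of_openSubgroup {G G₀ X : Over (Spec (CommRingCat.of k))} [GrpObj G] [GrpObj G₀]
    [LocallyOfFiniteType G.hom] [QuasiCompact G.hom] (r₀ : G₀ ⟶ G) [IsMonHom r₀]
    (hopen : IsOpen (Set.range r₀.left)) (a : AlgGrp.Action G X) (o : 𝟙_ _ ⟶ X)
    (hX : AGF.IsQuotient r₀ X a o) : IsFinite X.hom := by
  obtain ⟨hlft, hflat, hsurj, hpb⟩ := hX
  haveI := hlft; haveI := hflat; haveI := hsurj
  let π := a.orbitMap o
  haveI : LocallyOfFinitePresentation π.left := GrpSch.QuotRed.fppf_orbit a o hlft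
  haveI : CompactSpace G.left := QuasiCompact.compactSpace_of_compactSpace G.hom
  haveI : CompactSpace X.left := ⟨by rw [← π.left.surjective.range_eq]; exact isCompact_range π.left.continuous⟩
  -- the shear
  let sh : G ⊗ G ⟶ G ⊗ G := lift (fst G G) μ[G]
  haveI : IsIso sh := ⟨⟨lift (fst G G) ((fst G G)⁻¹ * snd G G), by
    have hmu : fst G G * snd G G = μ[G] := by rw [Hom.mul_def, lift_fst_snd, Category.id_comp]
    refine ⟨?_, ?_⟩ <;> apply CartesianMonoidalCategory.hom_ext
    · simp [sh]
    · rw [Category.id_comp, Category.assoc, lift_snd, MonObj.comp_mul, GrpObj.comp_inv, lift_fst, lift_snd,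
        ← hmu, inv_mul_cancel_left]
    · simp [sh]
    · rw [Category.id_comp, Category.assoc, lift_snd, ← Hom.mul_def, mul_inv_cancel_left]⟩⟩
  haveI : IsIso sh.left := inferInstanceAs (IsIso ((Over.forget _).map sh))
  let P : Set (G ⊗ G).left := sh.left '' ((snd G G).left ⁻¹' Set.range r₀.left)
  have hP : IsOpen P := sh.left.isOpenEmbedding.isOpenMap _ (hopen.preimage (snd G G).left.continuous)
  have hsnd : IsPullback (G ◁ r₀).left (snd G G₀).left (snd G G).left r₀.left := by
    exact GrpSch.BundleMap.isPullback_whiskerLeft_snd G r₀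
  have hPmem : ∀ z, z ∈ P → ∃ w : (G ⊗ G₀).left, (lift (fst G G₀) ((G ◁ r₀) ≫ μ[G])).left w = z := by
    rintro _ ⟨v, ⟨h, hh⟩, rfl⟩
    obtain ⟨w, hw, -⟩ := Scheme.exists_preimage_of_isPullback hsnd v h hh.symm
    refine ⟨w, ?_⟩
    have e : lift (fst G G₀) ((G ◁ r₀) ≫ μ[G]) = (G ◁ r₀) ≫ sh := by
      apply CartesianMonoidalCategory.hom_ext <;> simp [sh]
    rw [e, Over.comp_left, Scheme.Hom.comp_apply, hw]
  have hPmem' : ∀ w : (G ⊗ G₀).left, (lift (fst G G₀) ((G ◁ r₀) ≫ μ[G])).left w ∈ P := fun w => by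
    have e : lift (fst G G₀) ((G ◁ r₀) ≫ μ[G]) = (G ◁ r₀) ≫ sh := by
      apply CartesianMonoidalCategory.hom_ext <;> simp [sh]
    refine ⟨(G ◁ r₀).left w, ⟨(snd G G₀).left w, ?_⟩, ?_⟩
    · rw [← Scheme.Hom.comp_apply, ← Scheme.Hom.comp_apply, hsnd.w]
    · rw [e, Over.comp_left, Scheme.Hom.comp_apply]
  haveI : UniversallyOpen π.left := UniversallyOpen.of_flat _
  haveI h1 : UniversallyOpen (π ⊗ₘ π).left := by
    rw [MonoidalCategory.tensorHom_def, Over.comp_left]
    haveI := GrpSch.Desc.whiskerRight_prop (P := @UniversallyOpen) G π inferInstance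
    haveI := GrpSch.Desc.whiskerLeft_prop (P := @UniversallyOpen) X π inferInstance
    infer_instance
  haveI h2 : Surjective (π ⊗ₘ π).left := by
    rw [MonoidalCategory.tensorHom_def, Over.comp_left]
    haveI := GrpSch.Desc.whiskerRight_prop (P := @Surjective) G π inferInstance
    haveI := GrpSch.Desc.whiskerLeft_prop (P := @Surjective) X π inferInstance
    infer_instance
  let Δ : X ⟶ X ⊗ X := lift (𝟙 X) (𝟙 X)
  have hΔ : IsOpen (Set.range Δ.left) := by
    have hrange : Set.range Δ.left = (π ⊗ₘ π).left '' P := by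
      refine Set.Subset.antisymm ?_ ?_
      · rintro _ ⟨x, rfl⟩
        obtain ⟨g, rfl⟩ := π.left.surjective x
        let w := (lift (𝟙 G) (toUnit G ≫ η[G₀])).left g
        refine ⟨_, hPmem' w, ?_⟩
        have e : lift (𝟙 G) (toUnit G ≫ η[G₀]) ≫ lift (fst G G₀) ((G ◁ r₀) ≫ μ[G]) ≫ (π ⊗ₘ π) = π ≫ Δ := by
          have h1 : lift (𝟙 G) (toUnit G ≫ η[G₀]) ≫ (G ◁ r₀) ≫ μ[G] = 𝟙 G := by
            rw [lift_whiskerLeft_assoc, ← Hom.mul_def, Category.assoc, IsMonHom.one_hom,
              ← Hom.one_def, _root_.mul_one]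
          apply CartesianMonoidalCategory.hom_ext
          · simp [Δ]
          · simp only [Δ, Category.assoc, tensorHom_snd, lift_snd, lift_snd_assoc, Category.comp_id]
            rw [reassoc_of% h1]
        exact congr($(congrArg CommaMorphism.left e) g)
      · rintro _ ⟨z, hz, rfl⟩
        obtain ⟨w, rfl⟩ := hPmem z hz
        refine ⟨((fst G G₀) ≫ π).left w, ?_⟩
        have e : lift (fst G G₀) ((G ◁ r₀) ≫ μ[G]) ≫ (π ⊗ₘ π) = (fst G G₀ ≫ π) ≫ Δ := by
          apply CartesianMonoidalCategory.hom_ext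
          · simp [Δ]
          · simp only [Δ, Category.assoc, tensorHom_snd, lift_snd, lift_snd_assoc, Category.comp_id]
            exact hpb.w.symm
        exact congrArg (fun m : _ ⟶ (X ⊗ X) => m.left w) e.symm
    rw [hrange]
    exact (π ⊗ₘ π).left.isOpenMap _ hP
  have hclosed : ∀ x : X.left, IsClosed ({x} : Set X.left) → IsOpen ({x} : Set X.left) := fun x hx => by
    haveI := isClosed_singleton_iff_isClosedImmersion.1 hx
    let Xx : Over (Spec (CommRingCat.of k)) := Over.mk (X.left.fromSpecResidueField x ≫ X.hom)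
    let ix : Xx ⟶ X := Over.homMk (X.left.fromSpecResidueField x) rfl
    haveI : LocallyOfFiniteType Xx.hom := inferInstanceAs (LocallyOfFiniteType (X.left.fromSpecResidueField x ≫ X.hom))
    haveI : IsLocallyNoetherian (Spec (CommRingCat.of k)) := inferInstance
    haveI : LocallyOfFinitePresentation Xx.hom := inferInstance
    haveI : Flat Xx.hom := inferInstance
    haveI : UniversallyOpen Xx.hom := UniversallyOpen.of_flat _
    haveI : UniversallyOpen (snd Xx X).left := MorphismProperty.pullback_snd (P := @UniversallyOpen) _ _ ‹_›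
    let W : Set (Xx ⊗ X).left := (ix ▷ X).left ⁻¹' Set.range Δ.left
    have hW : (snd Xx X).left '' W = {x} := by
      refine Set.Subset.antisymm ?_ ?_
      · rintro _ ⟨w, ⟨y, hy⟩, rfl⟩
        have e1 : (snd Xx X).left w = y := by
          have := congrArg (fun z => (snd X X).left z) hy
          simp only [← Scheme.Hom.comp_apply, ← Over.comp_left, Δ, lift_snd, whiskerRight_snd] at this
          simpa using this.symm
        have e2 : ix.left ((fst Xx X).left w) = y := by
          have := congrArg (fun z => (fst X X).left z) hy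
          simp only [← Scheme.Hom.comp_apply, ← Over.comp_left, Δ, lift_fst, whiskerRight_fst] at this
          simpa using this.symm
        rw [e1, ← e2, Set.mem_singleton_iff]
        exact Scheme.fromSpecResidueField_apply _ _
      · rintro _ rfl
        obtain ⟨q⟩ : Nonempty Xx.left := inferInstanceAs (Nonempty (Spec (X.left.residueField _)))
        refine ⟨(lift (𝟙 Xx) ix).left q, ⟨ix.left q, ?_⟩, ?_⟩
        · have e : lift (𝟙 Xx) ix ≫ (ix ▷ X) = ix ≫ Δ := by
            apply CartesianMonoidalCategory.hom_ext <;> simp [Δ]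
          exact congrArg (fun m : _ ⟶ (X ⊗ X) => m.left q) e.symm
        · have e : lift (𝟙 Xx) ix ≫ snd Xx X = ix := lift_snd _ _
          exact (congr($(congrArg CommaMorphism.left e) q)).trans (Scheme.fromSpecResidueField_apply _ _)
    rw [← hW]
    exact (snd Xx X).left.isOpenMap _ (hΔ.preimage (ix ▷ X).left.continuous)
  haveI : JacobsonSpace X.left := LocallyOfFiniteType.jacobsonSpace X.hom
  have hall : ∀ x : X.left, IsClosed ({x} : Set X.left) := fun x => by
    by_contra hx
    obtain ⟨z, hz, hzc⟩ := nonempty_inter_closedPoints (X := X.left)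
      (Z := (⋃ y ∈ closedPoints X.left, ({y} : Set X.left))ᶜ)
      ⟨x, fun hmem => by
        obtain ⟨y, hy, hxy⟩ := Set.mem_iUnion₂.1 hmem
        exact hx (Set.mem_singleton_iff.1 hxy ▸ mem_closedPoints_iff.1 hy)⟩
      ((isOpen_biUnion fun y hy => hclosed y (mem_closedPoints_iff.1 hy)).isClosed_compl.isLocallyClosed)
    exact hz (Set.mem_biUnion hzc rfl)
  haveI : DiscreteTopology X.left := discreteTopology_iff_isOpen_singleton.2 fun x => hclosed x (hall x)
  haveI : Finite X.left := finite_of_compact_of_discrete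
  exact DimTheory.ZeroDim.isFinite_of_finite X.hom

end Groth.Agent.S14596Aux

namespace Groth.Agent.S14596

/-- Let k be a perfect field, G a k-group scheme of finite type and r₀ : G⁰_red → G the reduced neutral
component of G, i.e. a homomorphism and closed immersion from a reduced k-group scheme whose image
is the connected component of the identity. Then the homogeneous space G/G⁰_red is finite, and
G⁰_red is the smallest closed subgroup scheme H of G such that G/H is finite: every such H contains
G⁰_red. -/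
theorem result (k : Type u) [Field k] [PerfectField k]
    (G G₀ : Over (Spec (CommRingCat.of k))) [GrpObj G] [GrpObj G₀] [LocallyOfFiniteType G.hom] [QuasiCompact G.hom]
    [LocallyOfFiniteType G₀.hom] [QuasiCompact G₀.hom]
    (r₀ : G₀ ⟶ G) [IsMonHom r₀] [IsClosedImmersion r₀.left] [IsReduced G₀.left] (t : ↥((𝟙_ (Over (Spec (CommRingCat.of k)))).left))
    (hr₀ : Set.range ⇑r₀.left.base = connectedComponent ((η[G]).left.base t)) :
    (∀ (X : Over (Spec (CommRingCat.of k))) (a : AlgGrp.Action G X) (o : 𝟙_ (Over (Spec (CommRingCat.of k))) ⟶ X), AGF.IsQuotient r₀ X a o → IsFinite X.hom) ∧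
    ∀ (H : Over (Spec (CommRingCat.of k))) [GrpObj H] (h : H ⟶ G) [IsMonHom h] [IsClosedImmersion h.left]
      (X : Over (Spec (CommRingCat.of k))) (a : AlgGrp.Action G X) (o : 𝟙_ (Over (Spec (CommRingCat.of k))) ⟶ X),
      AGF.IsQuotient h X a o → IsFinite X.hom → ∃ g : G₀ ⟶ H, g ≫ h = r₀ := by
  let e := (η[G]).left.base t
  have hopen : IsOpen (Set.range r₀.left) := by
    show IsOpen (Set.range ⇑r₀.left.base)
    rw [hr₀, GrpSch.connectedComponent_eq G]
    exact GrpSch.isOpen_irreducibleComponent G _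
  refine ⟨fun X a o hX => S14596Aux.isFinite_of_openSubgroup r₀ hopen a o hX, ?_⟩
  intro H _ h _ _ X a o hX hfin
  obtain ⟨hlft, hflat, hsurj, hpb⟩ := hX
  haveI := hlft; haveI := hfin
  let π := a.orbitMap o
  have h1 : η[G] ≫ π = o := by
    have e1 : η[G] ≫ lift (𝟙 G) (toUnit G ≫ o) = lift η[G] o := by
      apply CartesianMonoidalCategory.hom_ext <;> simp
    show η[G] ≫ lift (𝟙 G) (toUnit G ≫ o) ≫ a.act = o
    rw [← Category.assoc, e1]
    have := congrArg (fun q => lift (𝟙 (𝟙_ _)) o ≫ q) a.one_act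
    simpa using this
  haveI : DiscreteTopology X.left := by
    haveI : JacobsonSpace X.left := LocallyOfFiniteType.jacobsonSpace X.hom
    haveI : Finite X.left := by
      have h := X.hom.finite_preimage_singleton (Classical.arbitrary ↥(Spec (CommRingCat.of k)))
      rw [show X.hom ⁻¹' {Classical.arbitrary ↥(Spec (CommRingCat.of k))} = Set.univ from
        Set.eq_univ_of_forall fun z => Subsingleton.elim (α := PrimeSpectrum k) _ _] at h
      exact Set.finite_univ_iff.1 h
    infer_instance
  haveI : ConnectedSpace G₀.left := by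
    refine connectedSpace_iff_univ.2 ?_
    refine ⟨⟨(η[G₀]).left t, trivial⟩, r₀.left.isClosedEmbedding.isInducing.isPreconnected_image.1 ?_⟩
    rw [Set.image_univ]
    show _root_.IsPreconnected (Set.range ⇑r₀.left.base)
    rw [hr₀]
    exact isPreconnected_connectedComponent
  haveI : IsClosedImmersion o.left := by
    haveI : IsClosedImmersion (o.left ≫ X.hom) := by
      rw [Over.w o]; exact inferInstanceAs (IsClosedImmersion (𝟙 _))
    exact IsClosedImmersion.of_comp o.left X.hom
  have hrange : Set.range (r₀ ≫ π).left ⊆ Set.range o.left := by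
    rintro _ ⟨g, rfl⟩
    refine ⟨t, ?_⟩
    have e2 : (r₀ ≫ π).left ((η[G₀]).left t) = o.left t := by
      have : η[G₀] ≫ r₀ ≫ π = o := by rw [← Category.assoc, IsMonHom.one_hom, h1]
      exact congr($(congrArg CommaMorphism.left this) t)
    rw [← e2]
    exact PreconnectedSpace.constant ‹ConnectedSpace G₀.left›.toPreconnectedSpace (r₀ ≫ π).left.continuous
  obtain ⟨l, hl⟩ := LimSch.exists_lift_of_range_subset o.left (r₀ ≫ π).left hrange
  have hlo : r₀ ≫ π = toUnit G₀ ≫ o := by
    refine Over.OverMorphism.ext ?_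
    rw [← hl, Over.comp_left]
    congr 1
    have := congrArg (fun q => q ≫ X.hom) hl
    simp only [Category.assoc, Over.w] at this
    exact (Category.comp_id _).symm.trans (this.trans ((Over.w (toUnit G₀)).symm.trans (Category.comp_id _)))
  have h2 : (1 : G₀ ⟶ G) ≫ π = r₀ ≫ π := by
    rw [hlo, Hom.one_def, Category.assoc, h1]
  let g := hpb.lift (1 : G₀ ⟶ G) r₀ h2
  refine ⟨g ≫ snd G H, ?_⟩
  have hg1 : g ≫ fst G H = 1 := hpb.lift_fst _ _ _
  have hg2 : g ≫ (G ◁ h) ≫ μ[G] = r₀ := hpb.lift_snd _ _ _
  have hg : g = lift (g ≫ fst G H) (g ≫ snd G H) := by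
    apply CartesianMonoidalCategory.hom_ext <;> simp
  rw [hg, hg1, lift_whiskerLeft_assoc, ← Hom.mul_def, _root_.one_mul] at hg2
  exact hg2


end Groth.Agent.S14596
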