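import Groth.Statements.S14606
import Mathlib

set_option autoImplicit false
universe u
open FrobAlg

namespace Groth.Agent.S14606

open TensorProduct in
theorem geom_red (k : Type u) [Field k] (p : ℕ) [Fact p.Prime] [CharP k p]
    (R : Type u) [CommRing R] [Algebra k R] [Algebra.FiniteType k R] :
    ∃ n : ℕ, Algebra.IsGeometricallyReduced k ↥(Algebra.adjoin k (Set.range (fun x : R => x ^ (p ^ n)))) := by
  let K := AlgebraicClosure k
  let T := K ⊗[k] R
  haveI : CharP K p := charP_of_injective_algebraMap (algebraMap k K).injective p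
  haveI : IsNoetherianRing T := Algebra.FiniteType.isNoetherianRing K T
  obtain ⟨N, hN⟩ := IsNoetherianRing.isNilpotent_nilradical T
  obtain ⟨n, hn⟩ : ∃ n, N ≤ p ^ n := ⟨N, (Nat.lt_pow_self (Fact.out : p.Prime).one_lt).le⟩
  refine ⟨n, (Algebra.isGeometricallyReduced_field_iff k _).mpr ?_⟩
  let S := Algebra.adjoin k (Set.range (fun x : R => x ^ (p ^ n)))
  let f : K ⊗[k] S →ₐ[k] T := Algebra.TensorProduct.map (AlgHom.id k K) S.val
  have hf : Function.Injective f := Module.Flat.lTensor_preserves_injective_linearMap _ Subtype.val_injective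
  have hadd : ∀ a b : T, (a + b) ^ p ^ n = a ^ p ^ n + b ^ p ^ n := fun a b => by
    rcases subsingleton_or_nontrivial T with h | h
    · exact Subsingleton.elim _ _
    · haveI : CharP T p := charP_of_injective_algebraMap (algebraMap k T).injective p
      exact add_pow_char_pow a b p n
  have hrange : ∀ z, ∃ w : T, f z = w ^ p ^ n := by
    intro z
    induction z using TensorProduct.induction_on with
    | zero => exact ⟨0, by rw [map_zero, zero_pow (pow_ne_zero _ (Fact.out : p.Prime).ne_zero)]⟩
    | tmul c s =>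
      obtain ⟨c', rfl⟩ := IsAlgClosed.exists_pow_nat_eq c (pow_pos (Fact.out : p.Prime).pos n)
      suffices ∃ w : T, (1 : K) ⊗ₜ[k] (s : R) = w ^ p ^ n by
        obtain ⟨w, hw⟩ := this
        refine ⟨c' ⊗ₜ 1 * w, ?_⟩
        rw [mul_pow, Algebra.TensorProduct.tmul_pow, one_pow, ← hw, Algebra.TensorProduct.tmul_mul_tmul, mul_one, one_mul]
        rfl
      obtain ⟨s, hs⟩ := s
      induction hs using Algebra.adjoin_induction with
      | mem x hx =>
        obtain ⟨r, rfl⟩ := hx
        exact ⟨1 ⊗ₜ r, by rw [Algebra.TensorProduct.tmul_pow, one_pow]⟩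
      | algebraMap a =>
        obtain ⟨a', ha'⟩ := IsAlgClosed.exists_pow_nat_eq (algebraMap k K a) (pow_pos (Fact.out : p.Prime).pos n)
        refine ⟨a' ⊗ₜ 1, ?_⟩
        rw [Algebra.TensorProduct.tmul_pow, one_pow, ha']
        exact (Algebra.TensorProduct.tmul_one_eq_one_tmul a).symm
      | add x y hx hy ihx ihy =>
        obtain ⟨⟨v, hv⟩, ⟨w, hw⟩⟩ := And.intro ihx ihy
        exact ⟨v + w, by rw [hadd, ← hv, ← hw, TensorProduct.tmul_add]⟩
      | mul x y hx hy ihx ihy =>
        obtain ⟨⟨v, hv⟩, ⟨w, hw⟩⟩ := And.intro ihx ihy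
        exact ⟨v * w, by rw [mul_pow, ← hv, ← hw, Algebra.TensorProduct.tmul_mul_tmul, one_mul]⟩
    | add u v hu hv =>
      obtain ⟨⟨a, ha⟩, ⟨b, hb⟩⟩ := And.intro hu hv
      exact ⟨a + b, by rw [map_add, ha, hb, hadd]⟩
  refine ⟨fun z hz => hf ?_⟩
  obtain ⟨w, hw⟩ := hrange z
  rw [hw, map_zero]
  have hwn : w ∈ nilradical T := by
    obtain ⟨M, hM⟩ := hw ▸ hz.map f
    exact ⟨p ^ n * M, by rw [pow_mul, hM]; exact Ideal.zero_mem _⟩
  exact pow_eq_zero_of_le hn (by simpa [hN, Ideal.zero_eq_bot] using Ideal.pow_mem_pow hwn N)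


/-- Let k be a field of characteristic p > 0 and R a finitely generated commutative k-algebra. The
scheme-theoretic image of the n-th relative Frobenius morphism of Spec R is the spectrum of the
k-subalgebra k[R^(p^n)] generated by all p^n-th powers; for n large enough this image is
geometrically reduced: there is an n such that k[R^(p^n)] is a geometrically reduced k-algebra.
(Stated in affine, ring-theoretic form.) -/
theorem result (k : Type u) [Field k] (p : ℕ) [Fact p.Prime] [CharP k p]
    (R : Type u) [CommRing R] [Algebra k R] [Algebra.FiniteType k R] :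
    ∃ n : ℕ, Algebra.IsGeometricallyReduced k ↥(Algebra.adjoin k (Set.range (fun x : R => x ^ (p ^ n)))) := by
  exact geom_red k p R

end Groth.Agent.S14606
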