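import Groth.Statements.S14609
import Mathlib
import Groth.Agent.FibreRank.Basic

set_option autoImplicit false
universe u v
open CAlg

namespace Groth.Agent.S14609

open TensorProduct in
/-- Let A be a Noetherian ring, M a finitely generated A-module, F a finitely generated free A-module
and δ : M → F an A-linear map. Then the function on Spec A sending a prime p with residue field κ(p)
to the κ(p)-dimension of the kernel of δ ⊗ κ(p) : M ⊗ κ(p) → F ⊗ κ(p) is upper semicontinuous. -/
theorem result (A : Type u) [CommRing A]
    [IsNoetherianRing A] (M : Type v) (F : Type v) [AddCommGroup M] [Module A M] [Module.Finite A M]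
    [AddCommGroup F] [Module A F] [Module.Finite A F] [Module.Free A F] (δ : M →ₗ[A] F) :
    UpperSemicontinuous (fun x : PrimeSpectrum A =>
      Module.finrank x.asIdeal.ResidueField
        (LinearMap.ker (δ.baseChange x.asIdeal.ResidueField))) := by
  haveI : Module.FinitePresentation A F := Module.finitePresentation_of_finite A F
  refine upperSemicontinuous_iff_isOpen_preimage.2 fun n => isOpen_iff_forall_mem_open.2 fun x hx => ?_
  obtain ⟨U, hU, hxU, hle⟩ := Groth.Agent.FibreRank.exists_nhds_fiberDim_le (A := A) M x
  refine ⟨U ∩ {y | Module.finrank x.asIdeal.ResidueField (LinearMap.range (δ.baseChange x.asIdeal.ResidueField)) ≤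
      Module.finrank y.asIdeal.ResidueField (LinearMap.range (δ.baseChange y.asIdeal.ResidueField))},
    fun y ⟨hy1, hy2⟩ => ?_, hU.inter (Groth.Agent.FibreRank.isOpen_rank_le δ _), hxU, Set.mem_setOf.2 (le_refl _)⟩
  have e1 := LinearMap.finrank_range_add_finrank_ker (δ.baseChange x.asIdeal.ResidueField)
  have e2 := LinearMap.finrank_range_add_finrank_ker (δ.baseChange y.asIdeal.ResidueField)
  have h := hle y hy1
  simp only [Groth.Agent.FibreRank.fiberDim] at h
  change Module.finrank x.asIdeal.ResidueField _ < n at hx
  simp only [Set.mem_setOf_eq] at hy2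
  show Module.finrank y.asIdeal.ResidueField _ < n
  omega

end Groth.Agent.S14609
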