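import Groth.Statements.S14610
import Mathlib
import Groth.Agent.FibreRank.Reduced

set_option autoImplicit false
universe u v
open CAlg

namespace Groth.Agent.S14610

open TensorProduct in
/-- Let A be a reduced Noetherian ring, M a finitely generated A-module, F a finitely generated free
A-module and δ : M → F an A-linear map such that the function p ↦ dim_{κ(p)} ker(δ ⊗ κ(p)) is
locally constant on Spec A. Then M, ker δ and coker δ = F / im δ are projective A-modules, and for
every A-module N the natural map (ker δ) ⊗ N → M ⊗ N is injective with image equal to the kernel of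
δ ⊗ N. -/
theorem result (A : Type u) [CommRing A]
    [IsNoetherianRing A] [IsReduced A] (M : Type v) (F : Type v) [AddCommGroup M] [Module A M]
    [Module.Finite A M] [AddCommGroup F] [Module A F] [Module.Finite A F] [Module.Free A F]
    (δ : M →ₗ[A] F)
    (h : IsLocallyConstant (fun x : PrimeSpectrum A =>
      Module.finrank x.asIdeal.ResidueField
        (LinearMap.ker (δ.baseChange x.asIdeal.ResidueField)))) :
    Module.Projective A M ∧ Module.Projective A (LinearMap.ker δ) ∧
      Module.Projective A (F ⧸ LinearMap.range δ) ∧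
      ∀ (N : Type v) [AddCommGroup N] [Module A N],
        Function.Injective (LinearMap.rTensor N (LinearMap.ker δ).subtype) ∧
        Function.Exact (LinearMap.rTensor N (LinearMap.ker δ).subtype) (LinearMap.rTensor N δ) := by
  haveI : Module.Projective A F := inferInstance
  haveI := Module.finitePresentation_of_finite A F
  have key : ∀ x : PrimeSpectrum A, ∃ U : Set (PrimeSpectrum A), IsOpen U ∧ x ∈ U ∧ ∀ y ∈ U,
      Groth.Agent.FibreRank.fiberDim M y = Groth.Agent.FibreRank.fiberDim M x ∧
      Module.finrank y.asIdeal.ResidueField (LinearMap.range (δ.baseChange y.asIdeal.ResidueField)) =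
      Module.finrank x.asIdeal.ResidueField (LinearMap.range (δ.baseChange x.asIdeal.ResidueField)) := by
    intro x
    obtain ⟨U, hU, hxU, hle⟩ := Groth.Agent.FibreRank.exists_nhds_fiberDim_le M x
    refine ⟨(U ∩ _) ∩ _, (hU.inter (h.isOpen_fiber _)).inter
      (Groth.Agent.FibreRank.isOpen_rank_le δ (Module.finrank x.asIdeal.ResidueField
        (LinearMap.range (δ.baseChange x.asIdeal.ResidueField)))), ⟨⟨hxU, rfl⟩, Set.mem_setOf.2 le_rfl⟩,
      fun y ⟨⟨hy1, hy2⟩, hy3⟩ => ?_⟩
    have h1 := hle y hy1
    have h2 : Module.finrank y.asIdeal.ResidueField (LinearMap.ker (δ.baseChange y.asIdeal.ResidueField)) =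
        Module.finrank x.asIdeal.ResidueField (LinearMap.ker (δ.baseChange x.asIdeal.ResidueField)) := hy2
    have h3 : Module.finrank x.asIdeal.ResidueField (LinearMap.range (δ.baseChange x.asIdeal.ResidueField)) ≤
        Module.finrank y.asIdeal.ResidueField (LinearMap.range (δ.baseChange y.asIdeal.ResidueField)) := hy3
    have e1 := LinearMap.finrank_range_add_finrank_ker (δ.baseChange y.asIdeal.ResidueField)
    have e2 := LinearMap.finrank_range_add_finrank_ker (δ.baseChange x.asIdeal.ResidueField)
    simp only [Groth.Agent.FibreRank.fiberDim] at h1 ⊢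
    omega
  have hM : Module.Projective A M := by
    refine Groth.Agent.FibreRank.projective_of_fiberDim M ((IsLocallyConstant.iff_exists_open _).2 ?_)
    intro x
    obtain ⟨U, hU, hx, hy⟩ := key x
    exact ⟨U, hU, hx, fun y hyU => (hy y hyU).1⟩
  have hC : Module.Projective A (F ⧸ LinearMap.range δ) := by
    refine Groth.Agent.FibreRank.projective_coker δ ((IsLocallyConstant.iff_exists_open _).2 ?_)
    intro x
    obtain ⟨U, hU, hx, hy⟩ := key x
    exact ⟨U, hU, hx, fun y hyU => (hy y hyU).2⟩
  haveI := hM
  haveI := hC
  haveI : Module.Projective A (LinearMap.range δ) := Groth.Agent.FibreRank.projective_range δ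
  obtain ⟨σ, hσ⟩ := Module.projective_lifting_property δ.rangeRestrict LinearMap.id
    δ.surjective_rangeRestrict
  have hmem : ∀ z : M, ((LinearMap.id : M →ₗ[A] M) - σ ∘ₗ δ.rangeRestrict : M →ₗ[A] M) z ∈ LinearMap.ker δ := by
    intro z
    have h1 : δ.rangeRestrict (σ (δ.rangeRestrict z)) = δ.rangeRestrict z := LinearMap.congr_fun hσ _
    have h2 : δ (σ (δ.rangeRestrict z)) = δ z := congrArg Subtype.val h1
    simp [LinearMap.mem_ker, h2]
  have hret : LinearMap.codRestrict _ _ hmem ∘ₗ (LinearMap.ker δ).subtype = LinearMap.id := by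
    refine LinearMap.ext fun z => Subtype.ext ?_
    have h0 : δ.rangeRestrict z.1 = 0 := Subtype.ext z.2
    simp [h0]
  refine ⟨hM, Module.Projective.of_split _ _ hret, hC, fun N _ _ => ?_⟩
  have hs : Function.Surjective δ.rangeRestrict := δ.surjective_rangeRestrict
  refine ⟨?_, ?_⟩
  · refine Function.LeftInverse.injective (g := LinearMap.rTensor N (LinearMap.codRestrict _ _ hmem)) fun z => ?_
    rw [← LinearMap.comp_apply, ← LinearMap.rTensor_comp, hret, LinearMap.rTensor_id, LinearMap.id_apply]
  · obtain ⟨r, hr⟩ := Module.projective_lifting_property (LinearMap.range δ).mkQ LinearMap.id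
      (Submodule.mkQ_surjective _)
    have hmem' : ∀ z : F, ((LinearMap.id : F →ₗ[A] F) - r ∘ₗ (LinearMap.range δ).mkQ : F →ₗ[A] F) z ∈ LinearMap.range δ := by
      intro z
      have h := LinearMap.congr_fun hr ((LinearMap.range δ).mkQ z)
      simp only [LinearMap.comp_apply, LinearMap.id_apply] at h
      rw [← Submodule.Quotient.mk_eq_zero, ← Submodule.mkQ_apply, LinearMap.sub_apply, map_sub,
        LinearMap.id_apply, LinearMap.comp_apply, h, sub_self]
    have hret' : LinearMap.codRestrict _ _ hmem' ∘ₗ (LinearMap.range δ).subtype = LinearMap.id := by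
      refine LinearMap.ext fun z => Subtype.ext ?_
      simp [(Submodule.Quotient.mk_eq_zero (LinearMap.range δ)).2 z.2]
    have hinj : Function.Injective (LinearMap.rTensor N (LinearMap.range δ).subtype) := by
      refine Function.LeftInverse.injective (g := LinearMap.rTensor N (LinearMap.codRestrict _ _ hmem')) fun z => ?_
      rw [← LinearMap.comp_apply, ← LinearMap.rTensor_comp, hret', LinearMap.rTensor_id, LinearMap.id_apply]
    have hex : Function.Exact (LinearMap.ker δ).subtype δ.rangeRestrict := by
      intro z
      simp [LinearMap.rangeRestrict, Subtype.ext_iff]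
    have hex' := rTensor_exact N hex hs
    have hcomp : δ = (LinearMap.range δ).subtype ∘ₗ δ.rangeRestrict := rfl
    intro z
    rw [hcomp, LinearMap.rTensor_comp, LinearMap.comp_apply]
    constructor
    · intro h0
      exact (hex' z).1 (hinj (h0.trans (map_zero _).symm))
    · intro h0
      rw [(hex' z).2 h0, map_zero]

end Groth.Agent.S14610
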