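import Groth.Statements.S14611
import Mathlib
-- import your own Groth.Agent.* helpers here

set_option autoImplicit false
universe u
open FlatCx

namespace Groth.Agent.S14611

open CategoryTheory CategoryTheory.Limits in
/-- Let A be a Noetherian ring, Q a cochain complex whose terms are finitely generated projective
A-modules, and d an integer such that H^p(Q) = 0 for every p < d and H^p(Q ⊗_A A/m) = 0 for every p
< d and every maximal ideal m of A. Then Q^d / im(Q^{d-1} → Q^d), the degree-d term of the
truncation τ_{≥ d} Q, is a projective A-module, so that τ_{≥ d} Q is again a complex of projective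
modules. (The published statement also asserts that Q → τ_{≥ d} Q is a quasi-isomorphism when H^p(Q)
= 0 for p < d; this row omits that clause.) -/
theorem result (A : Type u) [CommRing A] [IsNoetherianRing A]
    (Q : CochainComplex (ModuleCat.{u} A) ℤ)
    (hQ : ∀ i, Module.Finite A (Q.X i) ∧ Module.Projective A (Q.X i)) (d : ℤ)
    (h1 : ∀ p < d, IsZero (Q.homology p))
    (h2 : ∀ (m : Ideal A) [m.IsMaximal], ∀ p < d,
      IsZero ((CohIII.tensorObj Q (ModuleCat.of A (A ⧸ m))).homology p)) :
    Module.Projective A (Q.opcycles d) := by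
  classical
  let f : Q.X (d - 1) →ₗ[A] Q.X d := (Q.d (d - 1) d).hom
  let N : Submodule A (Q.X d) := LinearMap.range f
  haveI := (hQ d).1
  haveI := (hQ d).2
  have hkey : ∀ (m : Ideal A) [m.IsMaximal] (x : N), (x : Q.X d) ∈ m • (⊤ : Submodule A (Q.X d)) →
      x ∈ m • (⊤ : Submodule A N) := by
    intro m _ x hx
    obtain ⟨z, hz⟩ := x.2
    have hex := (HomologicalComplex.exactAt_iff_isZero_homology _ _).2 (h2 m (d - 1) (by omega))
    rw [HomologicalComplex.exactAt_iff' _ (d - 2) (d - 1) d (by simp; omega) (by simp),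
      ShortComplex.moduleCat_exact_iff] at hex
    have h0 : f.rTensor (A ⧸ m) (z ⊗ₜ[A] (1 : A ⧸ m)) = 0 := by
      rw [LinearMap.rTensor_tmul, hz, ← TensorProduct.tensorQuotEquivQuotSMul_symm_mk m,
        (Submodule.Quotient.mk_eq_zero _).2 hx, map_zero]
    obtain ⟨w, hw⟩ := hex (z ⊗ₜ[A] (1 : A ⧸ m)) h0
    change (Q.d (d - 2) (d - 1)).hom.rTensor (A ⧸ m) w = z ⊗ₜ[A] (1 : A ⧸ m) at hw
    obtain ⟨w', rfl⟩ := (TensorProduct.tensorQuotEquivQuotSMul (Q.X (d - 2)) m).symm.surjective w
    obtain ⟨v, rfl⟩ := Submodule.Quotient.mk_surjective _ w'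
    rw [TensorProduct.tensorQuotEquivQuotSMul_symm_mk, LinearMap.rTensor_tmul,
      ← TensorProduct.tensorQuotEquivQuotSMul_symm_mk m, ← TensorProduct.tensorQuotEquivQuotSMul_symm_mk m] at hw
    have hd := (Submodule.Quotient.eq _).1 ((LinearEquiv.injective _) hw)
    have hx' : x = -(f.rangeRestrict ((Q.d (d - 2) (d - 1)).hom v - z)) := Subtype.ext (by
      have h : f ((Q.d (d - 2) (d - 1)).hom v) = 0 :=
        ConcreteCategory.congr_hom (Q.d_comp_d (d - 2) (d - 1) d) v
      simp [h, hz])
    rw [hx']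
    refine neg_mem ?_
    have := Submodule.mem_map_of_mem (f := f.rangeRestrict) hd
    rw [Submodule.map_smul''] at this
    exact Submodule.smul_mono le_rfl le_top this
  let J : Ideal A :=
    { carrier := {c | ∃ r : Q.X d →ₗ[A] N, ∀ x : N, r x = c • x}
      add_mem' := fun ⟨r, hr⟩ ⟨r', hr'⟩ => ⟨r + r', fun x => by simp [hr, hr', add_smul]⟩
      zero_mem' := ⟨0, fun x => by simp⟩
      smul_mem' := fun a c ⟨r, hr⟩ => ⟨a • r, fun x => by simp [hr, smul_smul]⟩ }
  have hJ : J = ⊤ := by
    by_contra hne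
    obtain ⟨m, hm, hle⟩ := Ideal.exists_le_maximal J hne
    letI : Field (A ⧸ m) := Ideal.Quotient.field m
    haveI : Module.Finite A N := inferInstance
    let j := (m • (⊤ : Submodule A N)).mapQ (m • (⊤ : Submodule A (Q.X d))) N.subtype (by
      rw [← Submodule.map_le_iff_le_comap, Submodule.map_smul'']
      exact Submodule.smul_mono le_rfl le_top)
    let j' := LinearMap.extendScalarsOfSurjective (R := A) (S := A ⧸ m) Ideal.Quotient.mk_surjective j
    have hj : LinearMap.ker j' = ⊥ := by
      rw [LinearMap.ker_eq_bot']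
      intro q hq
      obtain ⟨x, rfl⟩ := Submodule.Quotient.mk_surjective _ q
      exact (Submodule.Quotient.mk_eq_zero _).2 (hkey m x ((Submodule.Quotient.mk_eq_zero _).1 hq))
    obtain ⟨s, hs⟩ := j'.exists_leftInverse_of_injective hj
    obtain ⟨ψ, hψ⟩ := Module.projective_lifting_property (m • (⊤ : Submodule A N)).mkQ
      (s.restrictScalars A ∘ₗ (m • (⊤ : Submodule A (Q.X d))).mkQ) (Submodule.mkQ_surjective _)
    let u : Module.End A N := ψ ∘ₗ N.subtype
    have hu : LinearMap.range (u - 1) ≤ m • (⊤ : Submodule A N) := by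
      rintro _ ⟨x, rfl⟩
      refine (Submodule.Quotient.eq _).1 ?_
      exact (LinearMap.congr_fun hψ (x : Q.X d)).trans (LinearMap.congr_fun hs (Submodule.Quotient.mk x))
    obtain ⟨p, hp, hdeg, hcoef, hp0⟩ :=
      LinearMap.exists_monic_and_natDegree_eq_and_coeff_mem_pow_and_aeval_eq_zero A (u - 1) m hu
    let q := p.comp (Polynomial.X - 1)
    have hq : Polynomial.aeval u q = 0 := by
      rw [Polynomial.aeval_comp, map_sub, Polynomial.aeval_X, map_one]; exact hp0
    have hc : q.coeff 0 ∉ m := by
      have hmap : p.map (Ideal.Quotient.mk m) = Polynomial.X ^ p.natDegree := by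
        ext k
        rw [Polynomial.coeff_map, Polynomial.coeff_X_pow]
        split_ifs with hk
        · rw [hk, hp.coeff_natDegree, map_one]
        · rcases lt_or_gt_of_ne hk with h | h
          · exact Ideal.Quotient.eq_zero_iff_mem.2 (Ideal.pow_le_self (by omega) (hcoef k))
          · rw [Polynomial.coeff_eq_zero_of_natDegree_lt h, map_zero]
      rw [← Ideal.Quotient.eq_zero_iff_mem, ← Polynomial.coeff_map, Polynomial.map_comp, hmap]
      simp [Polynomial.coeff_zero_eq_eval_zero]
    refine hc (neg_mem_iff.1 (hle ⟨Polynomial.aeval u q.divX ∘ₗ ψ, fun x => ?_⟩))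
    have h := congrArg (fun e : Module.End A N => e x) hq
    rw [← Polynomial.divX_mul_X_add q] at h
    simp only [map_add, map_mul, Polynomial.aeval_X, Polynomial.aeval_C, LinearMap.add_apply,
      Module.End.mul_apply, Module.algebraMap_end_apply, LinearMap.zero_apply] at h
    rw [neg_smul]
    exact eq_neg_of_add_eq_zero_left h
  obtain ⟨r, hr⟩ := (hJ ▸ Submodule.mem_top : (1 : A) ∈ J)
  have hproj : Module.Projective A (Q.X d ⧸ N) := by
    refine Module.Projective.of_split (N.liftQ (LinearMap.id - N.subtype ∘ₗ r) fun x hx => ?_) N.mkQ ?_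
    · have := congrArg Subtype.val (hr ⟨x, hx⟩)
      simp only [one_smul] at this
      rw [LinearMap.mem_ker]
      simp [this]
    · refine LinearMap.ext fun y => ?_
      obtain ⟨y, rfl⟩ := N.mkQ_surjective y
      show N.mkQ (y - (r y : Q.X d)) = N.mkQ y
      rw [map_sub, show N.mkQ (r y : Q.X d) = 0 from (Submodule.Quotient.mk_eq_zero _).2 (r y).2, sub_zero]
  let e : (Q.X d ⧸ N) ≃ₗ[A] Q.opcycles d :=
    (IsColimit.coconePointUniqueUpToIso (Q.opcyclesIsCokernel (d - 1) d (by simp))
      (ModuleCat.cokernelIsColimit (Q.d (d - 1) d))).toLinearEquiv.symm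
  haveI := hproj
  exact Module.Projective.of_equiv e

end Groth.Agent.S14611
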