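import Groth.Statements.S14612
import Mathlib.RingTheory.Flat.Equalizer
import Mathlib.Algebra.Homology.ShortComplex.ModuleCat
import Mathlib.Algebra.Category.ModuleCat.Kernels
import Mathlib.Algebra.Homology.ShortComplex.HomologicalComplex
-- import your own Groth.Agent.* helpers here

set_option autoImplicit false
universe u
open FlatCx

namespace Groth.Agent.S14612

open CategoryTheory CategoryTheory.Limits in
/-- Let A be a commutative ring and F a cochain complex of flat A-modules which is bounded above (F^i =
0 for all large i) and whose cohomology H^p(F) vanishes for every p > d. Then the module of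
d-cocycles Z^d = ker(F^d → F^{d+1}) is flat over A; hence the truncation τ_{≤ d} F is again a
complex of flat modules (and τ_{≤ d} F → F is a quasi-isomorphism, which is not restated).
Boundedness cannot be dropped. -/
theorem result (A : Type u) [CommRing A]
    (F : CochainComplex (ModuleCat.{u} A) ℤ) (hF : ∀ i, Module.Flat A (F.X i))
    (hb : ∃ b : ℤ, ∀ i, b < i → IsZero (F.X i)) (d : ℤ) (hac : ∀ p, d < p → IsZero (F.homology p)) :
    Module.Flat A (F.cycles d) := by
  have hker : ∀ (M N : Type u) [AddCommGroup M] [Module A M] [AddCommGroup N] [Module A N]
      [Module.Flat A M] [Module.Flat A N] (g : M →ₗ[A] N), Function.Surjective g →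
      Module.Flat A (LinearMap.ker g) := by
    intro M N _ _ _ _ _ _ g hg
    rw [Module.Flat.iff_rTensor_preserves_injective_linearMap'.{u, u, u}]
    intro P P' _ _ _ _ φ hφ
    have h1 := LinearMap.lTensor_injective_of_exact_of_flat g hg (LinearMap.ker g).subtype
      (Submodule.injective_subtype _) (LinearMap.exact_subtype_ker_map g)
    have h2 : Function.Injective ((φ.rTensor M) ∘ₗ (LinearMap.lTensor P (LinearMap.ker g).subtype)) :=
      (Module.Flat.rTensor_preserves_injective_linearMap φ hφ).comp (h1 P)
    rw [LinearMap.rTensor_comp_lTensor, ← LinearMap.lTensor_comp_rTensor, LinearMap.coe_comp] at h2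
    exact h2.of_comp
  obtain ⟨b, hb⟩ := hb
  have key : ∀ n : ℕ, ∀ i, d ≤ i → b < i + n → Module.Flat A (F.cycles i) := by
    intro n
    induction n with
    | zero =>
      intro i _ hi
      have : Subsingleton (F.X i) := ModuleCat.subsingleton_of_isZero (hb i (by simpa using hi))
      have : Subsingleton (F.cycles i) :=
        ((ModuleCat.mono_iff_injective (F.iCycles i)).1 inferInstance).subsingleton
      infer_instance
    | succ n ih =>
      intro i hdi hi
      have hflat := ih (i + 1) (by omega) (by push_cast at hi ⊢; omega)
      have hepi : Epi (F.toCycles i (i + 1)) :=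
        Preadditive.epi_of_isZero_cokernel' _ (F.homologyIsCokernel i (i + 1) (by simp)) (hac (i + 1) (by omega))
      have := hF i
      have hk := hker (F.X i) (F.cycles (i + 1)) (F.toCycles i (i + 1)).hom
        ((ModuleCat.epi_iff_surjective _).1 hepi)
      have hinj := (ModuleCat.mono_iff_injective (F.iCycles i)).1 inferInstance
      have hrange : LinearMap.range (F.iCycles i).hom = LinearMap.ker (F.toCycles i (i + 1)).hom := by
        apply le_antisymm
        · rintro _ ⟨z, rfl⟩
          apply (ModuleCat.mono_iff_injective (F.iCycles (i + 1))).1 inferInstance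
          have := ConcreteCategory.congr_hom (F.iCycles_d i (i + 1)) z
          rw [← F.toCycles_i i (i + 1)] at this
          rw [map_zero]
          exact this
        · intro x hx
          let k : ModuleCat.of A A ⟶ F.X i := ModuleCat.ofHom (LinearMap.toSpanSingleton A _ x)
          have hk : k ≫ F.d i (i + 1) = 0 := by
            ext
            show (F.d i (i + 1)).hom ((1 : A) • x) = 0
            rw [one_smul, ← F.toCycles_i i (i + 1)]
            show (F.iCycles (i + 1)).hom ((F.toCycles i (i + 1)).hom x) = 0
            rw [LinearMap.mem_ker.1 hx, map_zero]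
          refine ⟨(F.liftCycles k (i + 1) (by simp) hk).hom 1, ?_⟩
          exact (ConcreteCategory.congr_hom (F.liftCycles_i k (i + 1) (by simp) hk) (1 : A)).trans (one_smul A x)
      exact Module.Flat.of_linearEquiv ((LinearEquiv.ofInjective _ hinj).trans (LinearEquiv.ofEq _ _ hrange))
  exact key (b - d + 1).toNat d le_rfl (by omega)

end Groth.Agent.S14612
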