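import Groth.Statements.S14613
import Groth.Agent.S14612
import Groth.Agent.GrothSS.Acyclic
import Mathlib.Algebra.Category.ModuleCat.Biproducts
import Mathlib.Algebra.Category.ModuleCat.Monoidal.Basic
-- import your own Groth.Agent.* helpers here

set_option autoImplicit false
universe u
open FlatCx

namespace Groth.Agent.S14613

open TensorProduct in
theorem flat_prod {R : Type u} [CommRing R] (P Q : Type u) [AddCommGroup P] [AddCommGroup Q]
    [Module R P] [Module R Q] [Module.Flat R P] [Module.Flat R Q] : Module.Flat R (P × Q) := by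
  rw [Module.Flat.iff_lTensor_preserves_injective_linearMap]
  intro N N' _ _ _ _ f hf
  rw [injective_iff_map_eq_zero]
  intro z hz
  have h1 : LinearMap.rTensor N (LinearMap.fst R P Q) z = 0 := by
    refine Module.Flat.lTensor_preserves_injective_linearMap (M := P) f hf ?_
    rw [map_zero, ← LinearMap.comp_apply, LinearMap.lTensor_comp_rTensor,
      ← LinearMap.rTensor_comp_lTensor, LinearMap.comp_apply, hz, map_zero]
  have h2 : LinearMap.rTensor N (LinearMap.snd R P Q) z = 0 := by
    refine Module.Flat.lTensor_preserves_injective_linearMap (M := Q) f hf ?_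
    rw [map_zero, ← LinearMap.comp_apply, LinearMap.lTensor_comp_rTensor,
      ← LinearMap.rTensor_comp_lTensor, LinearMap.comp_apply, hz, map_zero]
  have : LinearMap.rTensor N (LinearMap.inl R P Q ∘ₗ LinearMap.fst R P Q +
      LinearMap.inr R P Q ∘ₗ LinearMap.snd R P Q) z = z := by
    rw [show LinearMap.inl R P Q ∘ₗ LinearMap.fst R P Q +
      LinearMap.inr R P Q ∘ₗ LinearMap.snd R P Q = LinearMap.id by ext <;> simp]
    simp
  rw [← this, LinearMap.rTensor_add, LinearMap.add_apply, LinearMap.rTensor_comp,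
    LinearMap.rTensor_comp, LinearMap.comp_apply, LinearMap.comp_apply, h1, h2, map_zero, map_zero,
    add_zero]

open CategoryTheory CategoryTheory.Limits in
/-- Let A be a commutative ring (not necessarily Noetherian), C and D cochain complexes of flat
A-modules that are bounded above (zero in all large degrees), φ : C → D a quasi-isomorphism and M an
arbitrary A-module. Then φ ⊗ id_M : C ⊗_A M → D ⊗_A M, the tensor product taken degreewise, is a
quasi-isomorphism. Boundedness cannot be dropped. -/
theorem result (A : Type u) [CommRing A]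
    (C D : CochainComplex (ModuleCat.{u} A) ℤ)
    (hC : ∀ i, Module.Flat A (C.X i)) (hD : ∀ i, Module.Flat A (D.X i))
    (bC : ∃ b : ℤ, ∀ i, b < i → IsZero (C.X i)) (bD : ∃ b : ℤ, ∀ i, b < i → IsZero (D.X i))
    (φ : C ⟶ D) [QuasiIso φ] (M : ModuleCat.{u} A) :
    QuasiIso (((MonoidalCategory.tensorRight M).mapHomologicalComplex (ComplexShape.up ℤ)).map φ) := by
  haveI : (MonoidalCategory.tensorRight M).Additive :=
    { map_add := fun {X Y f g} => ModuleCat.hom_ext (LinearMap.rTensor_add M f.hom g.hom) }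
  rw [Groth.Agent.GrothSS.quasiIso_iff_acyclic_mappingCone]
  have hac := (Groth.Agent.GrothSS.quasiIso_iff_acyclic_mappingCone φ).1 inferInstance
  obtain ⟨b, hb⟩ := bC
  obtain ⟨b', hb'⟩ := bD
  have hX : ∀ i, Nonempty ((CochainComplex.mappingCone φ).X i ≅ C.X (i + 1) ⊞ D.X i) := fun i =>
    ⟨HomologicalComplex.homotopyCofiber.XIsoBiprod φ i (i + 1) rfl⟩
  have hflat : ∀ i, Module.Flat A ((CochainComplex.mappingCone φ).X i) := fun i => by
    obtain ⟨e⟩ := hX i
    haveI := hC (i + 1)
    haveI := hD i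
    haveI : Module.Flat A (↑(C.X (i + 1)) × ↑(D.X i)) := Groth.Agent.S14613.flat_prod _ _
    exact Module.Flat.of_linearEquiv (e ≪≫ ModuleCat.biprodIsoProd _ _).toLinearEquiv
  have hbd : ∃ c : ℤ, ∀ i, c < i → IsZero ((CochainComplex.mappingCone φ).X i) := by
    refine ⟨max b b', fun i hi => ?_⟩
    obtain ⟨e⟩ := hX i
    refine IsZero.of_iso ?_ e
    exact (biprod_isZero_iff _ _).2 ⟨hb _ (by omega), hb' _ (by omega)⟩
  suffices key : ∀ (E : CochainComplex (ModuleCat.{u} A) ℤ), (∀ i, Module.Flat A (E.X i)) →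
      (∃ c : ℤ, ∀ i, c < i → IsZero (E.X i)) → E.Acyclic →
      (((MonoidalCategory.tensorRight M).mapHomologicalComplex (ComplexShape.up ℤ)).obj E).Acyclic from
    fun i => (HomologicalComplex.exactAt_iff_isZero_homology _ _).2
      (IsZero.of_iso ((HomologicalComplex.exactAt_iff_isZero_homology _ _).1 (key _ hflat hbd hac i))
        ((HomologicalComplex.homologyFunctor _ _ i).mapIso
          (CochainComplex.mappingCone.mapHomologicalComplexIso φ (MonoidalCategory.tensorRight M)).symm))
  intro E hE hEb hEac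
  have hZ : ∀ i, Module.Flat A (LinearMap.ker (E.d i (i + 1)).hom) := fun i => by
    haveI := Groth.Agent.S14612.result A E hE hEb i fun p _ =>
      (HomologicalComplex.exactAt_iff_isZero_homology _ _).1 (hEac p)
    exact Module.Flat.of_linearEquiv
      (E.cyclesIsoSc' (i - 1) i (i + 1) (by simp) (by simp) ≪≫
        (E.sc' (i - 1) i (i + 1)).moduleCatCyclesIso).toLinearEquiv.symm
  have hπ : ∀ i j k : ℤ, i + 1 = j → j + 1 = k → ∃ π : E.X i →ₗ[A] LinearMap.ker (E.d j k).hom,
      Function.Surjective π ∧ (LinearMap.ker (E.d j k).hom).subtype ∘ₗ π = (E.d i j).hom := by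
    intro i j k hij hjk
    refine ⟨(E.d i j).hom.codRestrict _ fun x => ?_, fun z => ?_, LinearMap.ext fun x => rfl⟩
    · exact ConcreteCategory.congr_hom (E.d_comp_d i j k) x
    · have he := (E.exactAt_iff' i j k (by simp; omega) (by simp; omega)).1 (hEac j)
      obtain ⟨x, hx⟩ := (ShortComplex.moduleCat_exact_iff _).1 he z.1 z.2
      exact ⟨x, Subtype.ext hx⟩
  intro i
  rw [HomologicalComplex.exactAt_iff' _ (i - 1) i (i + 1) (by simp) (by simp), ShortComplex.moduleCat_exact_iff]
  intro (x : TensorProduct A (E.X i) M) (hx : (E.d i (i + 1)).hom.rTensor M x = 0)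
  obtain ⟨π₀, hπ₀, e₀⟩ := hπ (i - 1) i (i + 1) (by omega) rfl
  obtain ⟨π₁, hπ₁, e₁⟩ := hπ i (i + 1) (i + 2) rfl (by omega)
  obtain ⟨π₂, hπ₂, e₂⟩ := hπ (i + 1) (i + 2) (i + 3) (by omega) (by omega)
  have hinj : Function.Injective ((LinearMap.ker (E.d (i + 1) (i + 2)).hom).subtype.rTensor M) := by
    haveI : Module.Flat A (LinearMap.ker (E.d (i + 2) (i + 3)).hom) := by
      have := hZ (i + 2)
      rwa [show i + 2 + 1 = i + 3 by omega] at this
    refine (LinearMap.lTensor_inj_iff_rTensor_inj _ _).1 ?_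
    exact LinearMap.lTensor_injective_of_exact_of_flat π₂ hπ₂ _ (Submodule.injective_subtype _)
      (LinearMap.exact_iff.2 (by rw [Submodule.range_subtype, ← e₂, LinearMap.ker_comp, Submodule.ker_subtype, Submodule.comap_bot])) M
  rw [← e₁, LinearMap.rTensor_comp, LinearMap.comp_apply] at hx
  obtain ⟨y, rfl⟩ := (rTensor_exact M (LinearMap.exact_iff.2 (by
      rw [Submodule.range_subtype, ← e₁, LinearMap.ker_comp, Submodule.ker_subtype, Submodule.comap_bot]) :
      Function.Exact (LinearMap.ker (E.d i (i + 1)).hom).subtype π₁) hπ₁ x).1 (hinj (hx.trans (map_zero _).symm))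
  obtain ⟨z, rfl⟩ := LinearMap.rTensor_surjective M hπ₀ y
  refine ⟨z, ?_⟩
  show (E.d (i - 1) i).hom.rTensor M z = _
  rw [← LinearMap.comp_apply, ← LinearMap.rTensor_comp, e₀]

end Groth.Agent.S14613
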