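import Mathlib
import Groth.Agent.EtLocalLib.StalkCrit
import Groth.Agent.ObsBound.Algebra
import Groth.Statements.S14614
-- import your own Groth.Agent.* helpers here

set_option autoImplicit false
set_option backward.isDefEq.respectTransparency false
set_option backward.isDefEq.respectTransparency.types false
universe u
open Mor

namespace Groth.Agent.S14614

open CategoryTheory AlgebraicGeometry in
/-- Let S be a locally Noetherian scheme and i : Z → S a closed immersion with the following property:
for every Artinian local ring A with residue field k and every morphism g : Spec A → S, if the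
restriction Spec k → Spec A → S of g factors through i then so does g. Then i is also an open
immersion, i.e. the closed subscheme Z is open in S as a subscheme. (The published hypothesis is an
equivalence; its other direction always holds, so this row assumes only the implication.) -/
theorem result (S : Scheme.{u}) [IsLocallyNoetherian S]
    {Z : Scheme.{u}} (i : Z ⟶ S) [IsClosedImmersion i]
    (h : ∀ (A : Type u) [CommRing A] [IsArtinianRing A] [IsLocalRing A] (g : Spec (CommRingCat.of A) ⟶ S),
      (∃ t : Spec (CommRingCat.of (IsLocalRing.ResidueField A)) ⟶ Z,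
          t ≫ i = Spec.map (CommRingCat.ofHom (IsLocalRing.residue A)) ≫ g) →
        ∃ g' : Spec (CommRingCat.of A) ⟶ Z, g' ≫ i = g) :
    IsOpenImmersion i := by
  haveI : LocallyOfFinitePresentation i := EtLocalLib.locallyOfFinitePresentation_of_noetherian i
  have hker : ∀ z : Z, Function.Injective (i.stalkMap z).hom := by
    intro z
    let O := S.presheaf.stalk (i z)
    let m := IsLocalRing.maximalIdeal O
    have key : ∀ n : ℕ, RingHom.ker (i.stalkMap z).hom ≤ m ^ (n + 1) := by
      intro n
      let A := O ⧸ m ^ (n + 1)
      haveI : Nontrivial A := Ideal.Quotient.nontrivial_iff.2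
        (ne_top_of_le_ne_top (IsLocalRing.maximalIdeal.isMaximal O).ne_top (Ideal.pow_le_self (by omega)))
      haveI : IsLocalRing A := IsLocalRing.of_surjective' (Ideal.Quotient.mk _) Ideal.Quotient.mk_surjective
      haveI : IsArtinianRing A := ObsBound.isArtinianRing_of_pow_le (n := n + 1) (le_refl _)
      let mk : O ⟶ CommRingCat.of A := CommRingCat.ofHom (Ideal.Quotient.mk _)
      haveI hml : IsLocalHom mk.hom := IsLocalHom.of_surjective _ Ideal.Quotient.mk_surjective
      let g : Spec (CommRingCat.of A) ⟶ S := Spec.map mk ≫ S.fromSpecStalk (i z)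
      have hres : IsIso (i.residueFieldMap z) := by
        refine (ConcreteCategory.isIso_iff_bijective _).2 ⟨RingHom.injective _, fun a => ?_⟩
        obtain ⟨b, rfl⟩ := Z.residue_surjective z a
        obtain ⟨c, rfl⟩ := i.stalkMap_surjective z b
        exact ⟨S.residue (i z) c, ConcreteCategory.congr_hom (Scheme.residue_residueFieldMap i z) c⟩
      let r : S.residueField (i z) ⟶ CommRingCat.of (IsLocalRing.ResidueField A) :=
        CommRingCat.ofHom (IsLocalRing.ResidueField.map mk.hom)
      let t : Spec (CommRingCat.of (IsLocalRing.ResidueField A)) ⟶ Z :=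
        Spec.map (inv (i.residueFieldMap z) ≫ r) ≫ Z.fromSpecResidueField z
      have ht : t ≫ i = Spec.map (CommRingCat.ofHom (IsLocalRing.residue A)) ≫ g := by
        rw [Category.assoc, ← Scheme.Hom.SpecMap_residueFieldMap_fromSpecResidueField, ← Spec.map_comp_assoc,
          IsIso.hom_inv_id_assoc, Scheme.fromSpecResidueField, ← Spec.map_comp_assoc, ← Spec.map_comp_assoc]
        rfl
      obtain ⟨g', hg'⟩ := h A g ⟨t, ht⟩
      have hg0 : g (IsLocalRing.closedPoint A) = i z := by
        show (Spec.map mk ≫ S.fromSpecStalk (i z)) _ = _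
        rw [Scheme.Hom.comp_apply]
        erw [show Spec.map mk (IsLocalRing.closedPoint A) = IsLocalRing.closedPoint O from Spec_closedPoint]
        exact Scheme.fromSpecStalk_closedPoint
      have hz : g' (IsLocalRing.closedPoint A) = z :=
        i.isEmbedding.injective (by rw [← Scheme.Hom.comp_apply, hg', hg0])
      have hfac : ∀ p : Z, g' (IsLocalRing.closedPoint A) = p →
          ∃ ψ : Z.presheaf.stalk p ⟶ CommRingCat.of A, Spec.map ψ ≫ Z.fromSpecStalk p = g' := by
        rintro p rfl; exact ⟨_, Scheme.Spec_stalkClosedPointTo_fromSpecStalk g'⟩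
      obtain ⟨ψ, hψ⟩ := hfac z hz
      have heq : i.stalkMap z ≫ ψ = mk := by
        refine Spec.map_injective ((cancel_mono (S.fromSpecStalk (i z))).1 ?_)
        rw [Spec.map_comp, Category.assoc, Scheme.SpecMap_stalkMap_fromSpecStalk, ← Category.assoc, hψ, hg']
      intro a ha
      refine Ideal.Quotient.eq_zero_iff_mem.1 ?_
      show mk.hom a = 0
      rw [← heq, CommRingCat.comp_apply, RingHom.mem_ker.1 ha, map_zero]
    refine (RingHom.injective_iff_ker_eq_bot _).2 (eq_bot_iff.2 ?_)
    rw [← Ideal.iInf_pow_eq_bot_of_isLocalRing m (IsLocalRing.maximalIdeal.isMaximal O).ne_top]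
    refine le_iInf fun n => (key n).trans (Ideal.pow_le_pow_right n.le_succ)
  haveI : Flat i := by
    rw [Flat.iff_flat_stalkMap]
    exact fun z => RingHom.Flat.of_bijective ⟨hker z, i.stalkMap_surjective z⟩
  exact IsOpenImmersion.of_flat_of_mono i

end Groth.Agent.S14614
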