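import Groth.Statements.S14615
import Groth.Agent.TowerLib.Basic
-- import your own Groth.Agent.* helpers here

set_option autoImplicit false
universe u
open Formal2

namespace Groth.Agent.S14615

/-- Let … → G_2 → G_1 → G_0 be an inverse system of abelian groups with transition maps t_n : G_{n+1} →
G_n, and suppose that for every i there is j ≥ i such that the composite transition map G_j → G_i is
zero; this is expressed by asking that every sequence (x_n) ∈ ∏ G_n satisfying x_n = t_n(x_{n+1})
for i ≤ n < j has x_i = 0. Then both lim G_n and lim¹ G_n vanish: the map (x_n) ↦ (x_n −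
t_n(x_{n+1})) on ∏ G_n, whose kernel is lim and whose cokernel is lim¹, is injective and surjective. -/
theorem result (G : ℕ → Type u)
    [∀ n, AddCommGroup (G n)] (t : ∀ n, G (n + 1) →+ G n)
    (h : ∀ i : ℕ, ∃ j : ℕ, i ≤ j ∧
      ∀ x : ∀ n, G n, (∀ n, i ≤ n → n < j → x n = t n (x (n + 1))) → x i = 0) :
    Formal2.limZero G t = ⊥ ∧ Function.Surjective (Formal2.towerDiff G t) := by
  classical
  let F := CategoryTheory.Functor.ofOpSequence (X := fun n => AddCommGrpCat.of (G n))
    (fun n => AddCommGrpCat.ofHom (t n))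
  have hsucc : ∀ n (x : G (n + 1)), TowerLib.tr F (Nat.le_succ n) x = t n x := fun n x =>
    CategoryTheory.ConcreteCategory.congr_hom (CategoryTheory.Functor.ofOpSequence_map_homOfLE_succ (X := fun n => AddCommGrpCat.of (G n))
      (fun n => AddCommGrpCat.ofHom (t n)) n) x
  refine ⟨(AddSubgroup.eq_bot_iff_forall _).2 fun x hx => funext fun i => ?_, fun y => ?_⟩
  · obtain ⟨j, -, hj⟩ := h i
    exact hj x fun n _ _ => sub_eq_zero.1 (congrFun (AddMonoidHom.mem_ker.1 hx) n)
  · have hF : (CategoryTheory.Functor.comp F (CategoryTheory.forget AddCommGrpCat)).IsMittagLeffler := (TowerLib.isMittagLeffler_iff F).2 fun i => by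
      obtain ⟨j, hij, hj⟩ := h i
      refine ⟨j, hij, fun k hjk z => ⟨0, ?_⟩⟩
      let x : ∀ n, G n := fun n => if hn : n ≤ j then TowerLib.tr F hn z else 0
      have := hj x fun n _ hn => by
        simp only [x, dif_pos hn.le, dif_pos (show n + 1 ≤ j from hn)]
        rw [← hsucc, TowerLib.tr_tr]
      simp only [x, dif_pos hij] at this
      rw [map_zero, this]
      rfl
    obtain ⟨x, hx⟩ := TowerLib.exists_sub_tr_eq F hF y
    let x₀ : ∀ n, G n := x
    refine ⟨x₀, funext fun n => ?_⟩
    show x₀ n - t n (x₀ (n + 1)) = y n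
    rw [← hsucc]
    exact hx n

end Groth.Agent.S14615
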