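import Groth.Statements.S14617
-- import your own Groth.Agent.* helpers here

set_option autoImplicit false
universe u
open Formal2

namespace Groth.Agent.S14617

/-- Let 0 → (G'_n) → (G_n) → (G''_n) → 0 be a short exact sequence of inverse systems of abelian groups
indexed by ℕ: maps u_n : G'_n → G_n and v_n : G_n → G''_n commuting with the transition maps, with
u_n injective, v_n surjective and ker v_n = im u_n for every n. Writing lim and lim¹ for the kernel
and cokernel of (x_n) ↦ (x_n − t_n(x_{n+1})) on the product, there is an exact sequence 0 → lim G' →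
lim G → lim G'' → lim¹ G' → lim¹ G → lim¹ G'' → 0 in which the four outer maps are the ones induced
by u and v on products and the connecting map δ sends a compatible sequence (z_n) to the class of
the unique (w_n) with u_n(w_n) = y_n − t_n(y_{n+1}), for any levelwise lift (y_n) of (z_n). -/
theorem result (G' G G'' : ℕ → Type u)
    [∀ n, AddCommGroup (G' n)] [∀ n, AddCommGroup (G n)] [∀ n, AddCommGroup (G'' n)]
    (t' : ∀ n, G' (n + 1) →+ G' n) (t : ∀ n, G (n + 1) →+ G n) (t'' : ∀ n, G'' (n + 1) →+ G'' n)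
    (u : ∀ n, G' n →+ G n) (v : ∀ n, G n →+ G'' n)
    (hu : ∀ n x, t n (u (n + 1) x) = u n (t' n x)) (hv : ∀ n x, t'' n (v (n + 1) x) = v n (t n x))
    (hinj : ∀ n, Function.Injective (u n)) (hsurj : ∀ n, Function.Surjective (v n))
    (hex : ∀ n, (v n).ker = (u n).range) :
    ∃ (α : Formal2.limZero G' t' →+ Formal2.limZero G t) (β : Formal2.limZero G t →+ Formal2.limZero G'' t'')
      (δ : Formal2.limZero G'' t'' →+ Formal2.limOne G' t')
      (ε : Formal2.limOne G' t' →+ Formal2.limOne G t) (ζ : Formal2.limOne G t →+ Formal2.limOne G'' t''),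
      (∀ (x : Formal2.limZero G' t') (n : ℕ), (α x : ∀ n, G n) n = u n ((x : ∀ n, G' n) n)) ∧
      (∀ (x : Formal2.limZero G t) (n : ℕ), (β x : ∀ n, G'' n) n = v n ((x : ∀ n, G n) n)) ∧
      (∀ (z : Formal2.limZero G'' t'') (y : ∀ n, G n) (w : ∀ n, G' n),
          (∀ n, v n (y n) = (z : ∀ n, G'' n) n) → (∀ n, u n (w n) = Formal2.towerDiff G t y n) →
            δ z = (QuotientAddGroup.mk w : Formal2.limOne G' t')) ∧
      (∀ y : ∀ n, G' n, ε (QuotientAddGroup.mk y : Formal2.limOne G' t') =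
          (QuotientAddGroup.mk (fun n => u n (y n)) : Formal2.limOne G t)) ∧
      (∀ y : ∀ n, G n, ζ (QuotientAddGroup.mk y : Formal2.limOne G t) =
          (QuotientAddGroup.mk (fun n => v n (y n)) : Formal2.limOne G'' t'')) ∧
      Function.Injective α ∧ α.range = β.ker ∧ β.range = δ.ker ∧ δ.range = ε.ker ∧ ε.range = ζ.ker ∧
      Function.Surjective ζ := by
  classical
  let P := fun (H : ℕ → Type u) => ∀ n, H n
  let U : (∀ n, G' n) →+ (∀ n, G n) := AddMonoidHom.mk' (fun x n => u n (x n)) fun x y => funext fun n => map_add _ _ _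
  let V : (∀ n, G n) →+ (∀ n, G'' n) := AddMonoidHom.mk' (fun x n => v n (x n)) fun x y => funext fun n => map_add _ _ _
  have hU : ∀ x, Formal2.towerDiff G t (U x) = U (Formal2.towerDiff G' t' x) := fun x => funext fun n => by
    show u n (x n) - t n (u (n + 1) (x (n + 1))) = u n (x n - t' n (x (n + 1)))
    rw [map_sub, hu]
  have hV : ∀ x, Formal2.towerDiff G'' t'' (V x) = V (Formal2.towerDiff G t x) := fun x => funext fun n => by
    show v n (x n) - t'' n (v (n + 1) (x (n + 1))) = v n (x n - t n (x (n + 1)))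
    rw [map_sub, hv]
  have hUinj : Function.Injective U := fun x y h => funext fun n => hinj n (congrFun h n)
  have hVsurj : Function.Surjective V := fun z => ⟨fun n => (hsurj n (z n)).choose, funext fun n => (hsurj n (z n)).choose_spec⟩
  have hUV : ∀ x, V (U x) = 0 := fun x => funext fun n => by
    show v n (u n (x n)) = 0
    rw [← AddMonoidHom.mem_ker, hex]; exact ⟨_, rfl⟩
  have hVU : ∀ y, V y = 0 → ∃ w, U w = y := fun y hy => by
    have : ∀ n, y n ∈ (u n).range := fun n => by rw [← hex]; exact congrFun hy n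
    choose w hw using this
    exact ⟨w, funext hw⟩
  let mk' : (∀ n, G' n) →+ Formal2.limOne G' t' := QuotientAddGroup.mk' _
  let mk : (∀ n, G n) →+ Formal2.limOne G t := QuotientAddGroup.mk' _
  let mk'' : (∀ n, G'' n) →+ Formal2.limOne G'' t'' := QuotientAddGroup.mk' _
  have hmk' : ∀ x, mk' x = 0 ↔ x ∈ (Formal2.towerDiff G' t').range := fun x => QuotientAddGroup.eq_zero_iff x
  have hmk : ∀ x, mk x = 0 ↔ x ∈ (Formal2.towerDiff G t).range := fun x => QuotientAddGroup.eq_zero_iff x
  have hmk'' : ∀ x, mk'' x = 0 ↔ x ∈ (Formal2.towerDiff G'' t'').range := fun x => QuotientAddGroup.eq_zero_iff x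
  let α : Formal2.limZero G' t' →+ Formal2.limZero G t := (U.comp (Formal2.limZero G' t').subtype).codRestrict _ fun x => by
    rw [AddMonoidHom.mem_ker, AddMonoidHom.comp_apply, hU, AddSubgroup.coe_subtype, AddMonoidHom.mem_ker.1 x.2, map_zero]
  let β : Formal2.limZero G t →+ Formal2.limZero G'' t'' := (V.comp (Formal2.limZero G t).subtype).codRestrict _ fun x => by
    rw [AddMonoidHom.mem_ker, AddMonoidHom.comp_apply, hV, AddSubgroup.coe_subtype, AddMonoidHom.mem_ker.1 x.2, map_zero]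
  choose Y hY using fun z : Formal2.limZero G'' t'' => hVsurj z.1
  choose W hW using fun z : Formal2.limZero G'' t'' => hVU (Formal2.towerDiff G t (Y z)) (by
    rw [← hV, hY]; exact AddMonoidHom.mem_ker.1 z.2)
  have hδ : ∀ (z : Formal2.limZero G'' t'') y w, V y = z.1 → U w = Formal2.towerDiff G t y → mk' (W z) = mk' w := by
    intro z y w hy hw
    obtain ⟨d, hd⟩ := hVU (Y z - y) (by rw [map_sub, hY, hy, sub_self])
    rw [← sub_eq_zero, ← map_sub, hmk']
    refine ⟨d, hUinj ?_⟩
    rw [← hU, hd, map_sub, map_sub, hW, hw]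
  let δ : Formal2.limZero G'' t'' →+ Formal2.limOne G' t' := AddMonoidHom.mk' (fun z => mk' (W z)) fun z z' => by
    rw [← map_add]
    exact hδ (z + z') (Y z + Y z') (W z + W z') (by rw [map_add, hY, hY]; rfl) (by rw [map_add, map_add, hW, hW])
  let ε : Formal2.limOne G' t' →+ Formal2.limOne G t := QuotientAddGroup.map _ _ U (by
    rintro _ ⟨x, rfl⟩; exact ⟨U x, hU x⟩)
  let ζ : Formal2.limOne G t →+ Formal2.limOne G'' t'' := QuotientAddGroup.map _ _ V (by
    rintro _ ⟨x, rfl⟩; exact ⟨V x, hV x⟩)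
  refine ⟨α, β, δ, ε, ζ, fun x n => rfl, fun x n => rfl, fun z y w hy hw => hδ z y w (funext hy) (funext hw),
    fun y => rfl, fun y => rfl, fun x y h => Subtype.ext (hUinj (congrArg Subtype.val h)), ?_, ?_, ?_, ?_, ?_⟩
  · refine le_antisymm ?_ fun x hx => ?_
    · rintro _ ⟨x, rfl⟩; exact Subtype.ext (hUV x.1)
    · obtain ⟨w, hw⟩ := hVU x.1 (congrArg Subtype.val hx)
      exact ⟨⟨w, hUinj (by rw [← hU, hw, map_zero]; exact x.2)⟩, Subtype.ext hw⟩
  · refine le_antisymm ?_ fun z hz => ?_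
    · rintro _ ⟨x, rfl⟩
      show mk' (W (β x)) = 0
      rw [hδ (β x) x.1 0 rfl (by rw [map_zero]; exact (AddMonoidHom.mem_ker.1 x.2).symm), map_zero]
    · obtain ⟨d, hd⟩ := (hmk' _).1 hz
      refine ⟨⟨Y z - U d, ?_⟩, Subtype.ext ?_⟩
      · rw [AddMonoidHom.mem_ker, map_sub, hU, hd, hW, sub_self]
      · show V (Y z - U d) = z.1
        rw [map_sub, hY, hUV, sub_zero]
  · refine le_antisymm ?_ fun q hq => ?_
    · rintro _ ⟨z, rfl⟩
      show ε (mk' (W z)) = 0
      exact (hmk _).2 ⟨Y z, (hW z).symm⟩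
    · obtain ⟨w, rfl⟩ := QuotientAddGroup.mk'_surjective _ q
      obtain ⟨y, hy⟩ := (hmk _).1 (show mk (U w) = 0 from hq)
      exact ⟨⟨V y, by rw [AddMonoidHom.mem_ker, hV, hy, hUV]⟩, hδ _ y w rfl hy.symm⟩
  · refine le_antisymm ?_ fun q hq => ?_
    · rintro _ ⟨p, rfl⟩
      obtain ⟨w, rfl⟩ := QuotientAddGroup.mk'_surjective _ p
      show mk'' (V (U w)) = 0
      rw [hUV, map_zero]
    · obtain ⟨y, rfl⟩ := QuotientAddGroup.mk'_surjective _ q
      obtain ⟨x'', hx⟩ := (hmk'' _).1 (show mk'' (V y) = 0 from hq)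
      obtain ⟨x, rfl⟩ := hVsurj x''
      obtain ⟨w, hw⟩ := hVU (y - Formal2.towerDiff G t x) (by rw [map_sub, ← hV, hx, sub_self])
      refine ⟨mk' w, ?_⟩
      show mk (U w) = mk y
      rw [hw, map_sub, sub_eq_self, hmk]
      exact ⟨x, rfl⟩
  · intro q
    obtain ⟨z, rfl⟩ := QuotientAddGroup.mk'_surjective _ q
    obtain ⟨y, rfl⟩ := hVsurj z
    exact ⟨mk y, rfl⟩

end Groth.Agent.S14617
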