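import Groth.Statements.S14621
import Groth.Agent.QCTopos.Filtered
import Groth.Agent.QCTopos.Algebraic

set_option autoImplicit false
open CategoryTheory CategoryTheory.Limits
universe u
open CohSite

namespace Groth.Agent.S14621

/-- Let C be a small category with pullbacks and J a Grothendieck topology on C in which every object is
quasi-compact in the site sense (every covering sieve contains finitely many morphisms which already
generate a covering sieve). Then for every small filtered category I the inclusion of sheaves of
sets on (C, J) into presheaves preserves colimits of shape I: filtered colimits of sheaves are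
computed objectwise. (Only sheaves of sets are stated; the same holds for sheaves of abelian groups
or modules. All pullbacks in C are assumed.) -/
theorem result {C : Type u} [SmallCategory C]
    [HasPullbacks C] (J : GrothendieckTopology C) (hJ : ∀ U : C, ToposFin.IsQCSite J U)
    (I : Type u) [SmallCategory I] [IsFiltered I] :
    PreservesColimitsOfShape I (sheafToPresheaf J (Type u)) := by
  apply preservesColimitsOfShape_of_evaluation
  rintro ⟨c⟩
  refine ⟨fun {D} => ?_⟩
  let e : coyoneda.obj (Opposite.op (Groth.Agent.Giraud.freeSheaf (K := J) c)) ≅ sheafToPresheaf J (Type u) ⋙ (evaluation Cᵒᵖ (Type u)).obj (Opposite.op c) :=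
    NatIso.ofComponents (fun F => (Groth.Agent.Giraud.freeSheafEquiv c F).toIso) (fun {F G} g => by
      ext t
      exact Groth.Agent.Giraud.freeSheafEquiv_comp t g)
  haveI : IsIso (colimit.post D (coyoneda.obj (Opposite.op (Groth.Agent.Giraud.freeSheaf (K := J) c)))) :=
    (ConcreteCategory.isIso_iff_bijective _).2 (Groth.Agent.QCTopos.coherent_post_bijective
      (Groth.Agent.QCTopos.hasQC_site hJ) (Groth.Agent.QCTopos.coherent_free hJ c))
  haveI := preservesColimit_of_isIso_post (coyoneda.obj (Opposite.op (Groth.Agent.Giraud.freeSheaf (K := J) c))) D
  exact preservesColimit_of_natIso D e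

end Groth.Agent.S14621
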