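import Groth.Agent.EtSh.Agree
import Groth.Statements.S14622
-- import your own Groth.Agent.* helpers here

set_option autoImplicit false
set_option backward.isDefEq.respectTransparency false
set_option backward.isDefEq.respectTransparency.types false
open CategoryTheory AlgebraicGeometry
universe u
open EtBase

namespace Groth.Agent.S14622

/-- Let g : Y' → Y be a morphism of schemes which is surjective on points. Then for every abelian sheaf
F on the small étale site of Y the unit F → g_* g⁻¹ F of the adjunction between inverse image and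
direct image is a monomorphism. -/
theorem result {Y Y' : Scheme.{u}} (g : Y' ⟶ Y) [Surjective g]
    (F : EtCoh.Ab Y) : Mono ((EtCoh.pullPushAdj g).unit.app F) := by
  have inj : ∀ U, Function.Injective (((EtCoh.pullPushAdj g).unit.app F).hom.app U) := fun U s s' hs => by
    refine Groth.Agent.EtSh.sect_ext F fun x => ?_
    obtain ⟨x', hx'⟩ := g.surjective (U.unop.hom.base x)
    obtain ⟨Ω, _, _, ξ, hξ⟩ := Groth.Agent.EtSh.exists_geometric_point x'
    have hxi : ξ.base default = x' := Set.eq_of_mem_singleton (hξ.le ⟨default, rfl⟩)
    obtain ⟨t, rfl⟩ := Groth.Agent.EtSh.exists_fib (ξ := ξ ≫ g) (U := U.unop) x (by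
      show U.unop.hom.base x = g.base (ξ.base default)
      rw [hxi]; exact hx'.symm)
    exact (Groth.Agent.EtSh.germ_eq_iff F t s s').1 ((Groth.Agent.EtSh.unit_germ_eq_iff g ξ F t s s').1 (congrArg _ hs))
  have h2 : ∀ U, Mono (((EtCoh.pullPushAdj g).unit.app F).hom.app U) := fun U => (AddCommGrpCat.mono_iff_injective _).2 (inj U)
  have h3 : ∀ U, Mono (((sheafToPresheaf Y.smallEtaleTopology AddCommGrpCat).map ((EtCoh.pullPushAdj g).unit.app F)).app U) := h2
  have : Mono ((sheafToPresheaf _ _).map ((EtCoh.pullPushAdj g).unit.app F)) := NatTrans.mono_of_mono_app _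
  exact (sheafToPresheaf _ _).mono_of_mono_map this

end Groth.Agent.S14622
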