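import Groth.Statements.S14623
import Groth.Agent.DerCat.AdjHomotopy
import Mathlib

set_option autoImplicit false
open CategoryTheory CategoryTheory.Limits
universe w v u
open CohDer


namespace Groth.Agent.S14623

set_option backward.isDefEq.respectTransparency false
set_option backward.defeqAttrib.useBackward true

section

variable {A B : Type u} [Category.{v} A] [Category.{v} B] [Abelian A] [Abelian B]
  {L : A ⥤ B} {R : B ⥤ A} [L.Additive] [R.Additive] (adj : L ⊣ R)

/-- The adjunction on bounded below homotopy categories. -/
noncomputable def adjPlus : L.mapHomotopyCategoryPlus ⊣ R.mapHomotopyCategoryPlus :=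
  (Groth.Agent.DerCat.adjHomotopy adj (ComplexShape.up ℤ)).restrictFullyFaithful
    (HomotopyCategory.plus A).fullyFaithfulι (HomotopyCategory.plus B).fullyFaithfulι
    (ObjectProperty.liftCompιIso _ _ _).symm (ObjectProperty.liftCompιIso _ _ _).symm

lemma inverts_plus [HasDerivedCategory.{w} B] [PreservesFiniteLimits L] [PreservesFiniteColimits L] :
    (HomotopyCategory.Plus.quasiIso A).IsInvertedBy (L.mapHomotopyCategoryPlus ⋙ DerivedCategory.Plus.Qh) := by
  rintro ⟨X, hX⟩ ⟨Y, hY⟩ f hf
  refine Localization.inverts DerivedCategory.Plus.Qh (HomotopyCategory.Plus.quasiIso B) _ ?_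
  obtain ⟨K, rfl⟩ := HomotopyCategory.quotient_obj_surjective X
  obtain ⟨M, rfl⟩ := HomotopyCategory.quotient_obj_surjective Y
  obtain ⟨g, hg⟩ := (HomotopyCategory.quotient A (ComplexShape.up ℤ)).map_surjective f.hom
  change HomotopyCategory.quasiIso B (ComplexShape.up ℤ) ((L.mapHomotopyCategory (ComplexShape.up ℤ)).map f.hom)
  change HomotopyCategory.quasiIso A (ComplexShape.up ℤ) f.hom at hf
  rw [← hg, HomotopyCategory.quotient_map_mem_quasiIso_iff] at hf
  rw [← hg]
  refine (HomotopyCategory.quotient_map_mem_quasiIso_iff ((L.mapHomologicalComplex _).map g)).2 ?_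
  change QuasiIso g at hf
  change QuasiIso ((L.mapHomologicalComplex _).map g)
  infer_instance

end

/-- Let A and B be abelian categories with enough injectives, L : A ⥤ B an exact additive functor and R
: B ⥤ A an additive right adjoint of L. Then on bounded below derived categories the functor induced
by L (written as its total right derived functor, L being exact) is left adjoint to the right
derived functor of R; the existence of an adjunction is asserted. -/
theorem result {A B : Type u} [Category.{v} A] [Category.{v} B]
    [Abelian A] [Abelian B] [HasDerivedCategory.{w} A] [HasDerivedCategory.{w} B]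
    [EnoughInjectives A] [EnoughInjectives B] {L : A ⥤ B} {R : B ⥤ A} (adj : L ⊣ R)
    [L.Additive] [R.Additive] [PreservesFiniteLimits L] [PreservesFiniteColimits L] :
    Nonempty (L.rightDerivedFunctorPlus ⊣ R.rightDerivedFunctorPlus) := by
  let LF := L.rightDerivedFunctorPlus
  let RG := R.rightDerivedFunctorPlus
  let W₁ := HomotopyCategory.Plus.quasiIso A
  let W₂ := HomotopyCategory.Plus.quasiIso B
  haveI : IsIso L.rightDerivedFunctorPlusUnit :=
    Functor.isIso_of_isRightDerivedFunctor_of_inverts (W := W₁) LF _ (inverts_plus (L := L))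
  let α : DerivedCategory.Plus.Qh ⋙ LF ≅ L.mapHomotopyCategoryPlus ⋙ DerivedCategory.Plus.Qh :=
    (asIso L.rightDerivedFunctorPlusUnit).symm
  let β := R.rightDerivedFunctorPlusUnit
  haveI : LF.IsLeftDerivedFunctor α.hom W₁ := Functor.isLeftDerivedFunctor_of_inverts W₁ LF α
  haveI : (LF ⋙ RG).IsLeftDerivedFunctor
      ((Functor.associator _ _ _).inv ≫ Functor.whiskerRight α.hom RG) W₁ :=
    Functor.isLeftDerivedFunctor_of_inverts W₁ (LF ⋙ RG) ((Functor.associator _ _ _).symm ≪≫ Functor.isoWhiskerRight α RG)
  haveI : (RG ⋙ LF).IsRightDerivedFunctor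
      (Functor.whiskerRight β LF ≫ (Functor.associator _ _ _).hom) W₂ := by
    refine (HomotopyCategory.Plus.localizerMorphism_derives _).isRightDerivedFunctor_of_isIso _ fun X => ?_
    dsimp
    infer_instance
  exact ⟨(adjPlus adj).derived W₁ W₂ α.hom β⟩

end Groth.Agent.S14623
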