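import Groth.Statements.S14625
import Groth.Agent.S13507

set_option autoImplicit false
open CategoryTheory AlgebraicGeometry
universe u
open EtBase

namespace Groth.Agent.S14625

/-- Let A be a strictly henselian local ring, n ≥ 1 an integer invertible in A, and X a scheme over Spec
A. Then the étale sheaf μ_n of n-th roots of unity on X is isomorphic to the constant sheaf with
value ℤ/n. Only the existence of an isomorphism is asserted; it depends on the choice of a primitive
n-th root of unity in A. -/
theorem result (A : Type u) [CommRing A]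
    (hA : EtCoh.IsStrictlyHenselianLocalRing A) (n : ℕ) (hn : 1 ≤ n) (hu : IsUnit (n : A))
    (X : Scheme.{u}) (f : X ⟶ Spec (CommRingCat.of A)) :
    Nonempty (EtCoh.mu X n ≅ EtCoh.const X (ZMod n)) := by
  obtain ⟨hH, hk⟩ := hA
  obtain ⟨ζ₀, hζ₀⟩ : ∃ ζ : A, (Polynomial.cyclotomic n A).eval ζ = 0 := by
    let k := IsLocalRing.ResidueField A
    let r := IsLocalRing.residue A
    have : NeZero ((n : ℕ) : k) := ⟨by
      have := (hu.map r).ne_zero
      rwa [map_natCast] at this⟩
    obtain ⟨z, hz⟩ := IsSepClosed.exists_root (Polynomial.cyclotomic n k)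
      (Polynomial.degree_cyclotomic_pos n k (by omega)).ne' (Polynomial.separable_cyclotomic n k)
    obtain ⟨a₀, rfl⟩ := IsLocalRing.residue_surjective z
    have hd : IsUnit ((Polynomial.cyclotomic n A).derivative.eval a₀) := by
      refine (IsLocalRing.residue_ne_zero_iff_isUnit _).1 ?_
      rw [← Polynomial.eval₂_at_apply, ← Polynomial.eval_map, ← Polynomial.derivative_map, Polynomial.map_cyclotomic]
      exact (Polynomial.separable_cyclotomic n k).eval₂_derivative_ne_zero (RingHom.id _) hz
    obtain ⟨a, ha, -⟩ := HenselianLocalRing.is_henselian _ (Polynomial.cyclotomic.monic n A) a₀ (by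
      rw [← IsLocalRing.residue_eq_zero_iff, ← Polynomial.eval₂_at_apply, ← Polynomial.eval_map, Polynomial.map_cyclotomic]
      exact hz) hd
    exact ⟨a, ha⟩
  let e : A →+* Γ(X, ⊤) := f.appTop.hom.comp (Scheme.ΓSpecIso (CommRingCat.of A)).inv.hom
  refine Groth.Agent.S13507.result X n hn ?_ (e ζ₀) ?_
  · have := hu.map e
    rwa [map_natCast] at this
  · have h := congrArg e hζ₀
    rw [map_zero, ← Polynomial.eval₂_at_apply, ← Polynomial.eval_map, Polynomial.map_cyclotomic] at h
    rwa [Polynomial.aeval_def, ← Polynomial.eval_map, Polynomial.map_cyclotomic]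

end Groth.Agent.S14625
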