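import Groth.Statements.S14630
import Groth.Agent.EtCechLib.CechColim

set_option autoImplicit false
open CategoryTheory CategoryTheory.Limits AlgebraicGeometry
universe u
open EtBase

namespace Groth.Agent.S14630

set_option backward.isDefEq.respectTransparency.types false

/-- On the small étale site of a quasi-compact quasi-separated scheme, let X be a quasi-compact
quasi-separated scheme, U an étale X-scheme quasi-compact and quasi-separated over X, and (U_i → U)
a finite family of étale U-schemes each quasi-compact and quasi-separated over X. Then for every q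
and every small filtered category I, the functor F ↦ Ȟ^q((U_i → U), F) on abelian étale sheaves on X
preserves colimits of shape I. The finite products of the over category (the fibre products entering
the Čech complex) are carried as an instance hypothesis. (The published statement is for an
arbitrary covering family, reduced to a finite one without argument; this row takes a finite family,
which need not cover U.) -/
theorem result (X : Scheme.{u}) [CompactSpace ↥X]
    [QuasiSeparatedSpace ↥X] (U : X.Etale) [QuasiCompact U.hom] [QuasiSeparated U.hom]
    [HasFiniteProducts (Over U)] (ι : Type (u + 1)) [Finite ι] (Uf : ι → Over U)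
    [∀ i, QuasiCompact (Uf i).left.hom] [∀ i, QuasiSeparated (Uf i).left.hom]
    (q : ℕ) (I : Type (u + 1)) [SmallCategory I] [IsFiltered I] :
    PreservesColimitsOfShape I
      (sheafToPresheaf X.smallEtaleTopology AddCommGrpCat.{u + 1} ⋙ EtCech.cechHFunctor Uf q) := by
  haveI : ∀ r, CompactSpace ((Functor.fromPUnit.{0} X).obj r) := fun _ => ‹CompactSpace X›
  haveI : ∀ r, QuasiSeparatedSpace ((Functor.fromPUnit.{0} X).obj r) := fun _ => ‹QuasiSeparatedSpace X›
  haveI : CompactSpace U.left := QuasiCompact.compactSpace_of_compactSpace U.hom
  haveI : QuasiSeparatedSpace U.left := quasiSeparatedSpace_of_quasiSeparated U.hom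
  have hU : U ∈ Groth.Agent.EtCechLib.qcqsObj := ⟨‹_›, ‹_›⟩
  have hq : ∀ (n : ℕ) (a : Fin (n + 1) → ι), (Groth.Agent.EtCechLib.inter Uf n a).left ∈ Groth.Agent.EtCechLib.qcqsObj := by
    intro n a
    refine Groth.Agent.EtCechLib.qcqs_of_hom hU _ (Groth.Agent.EtCechLib.qc_inter Uf (fun i => ?_) n a)
    haveI : CompactSpace (Uf i).left.left := QuasiCompact.compactSpace_of_compactSpace (Uf i).left.hom
    haveI : QuasiSeparatedSpace (Uf i).left.left := quasiSeparatedSpace_of_quasiSeparated (Uf i).left.hom
    exact ⟨quasiCompact_of_compactSpace _, QuasiSeparated.of_quasiSeparatedSpace _⟩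
  exact ⟨fun {D} => ⟨fun {c} hc => ⟨Groth.Agent.EtSh.isColimitOfRepZero _
    (fun x => Groth.Agent.EtCechLib.exists_cechH_rep hc Uf hq q x)
    (fun j y hy => Groth.Agent.EtCechLib.exists_cechH_eq_zero hc Uf hq q j y hy)⟩⟩⟩

end Groth.Agent.S14630
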