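import Groth.Statements.S14631
import Groth.Agent.EtSh.Gluing

set_option autoImplicit false
open CategoryTheory AlgebraicGeometry
universe u
open EtBase

namespace Groth.Agent.S14631

/-- Let X be a quasi-separated scheme and U an étale X-scheme. Then there is a jointly surjective family
of étale U-schemes each of which is quasi-compact and quasi-separated, hence of finite presentation,
over X. (Sheaves on the small étale site are therefore determined by their values on étale X-schemes
of finite presentation; that equivalence is not stated here.) -/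
theorem result (X : Scheme.{u})
    [QuasiSeparatedSpace ↥X] (U : X.Etale) :
    ∃ (ι : Type u) (V : ι → Over U), (∀ i, QuasiCompact (V i).left.hom ∧ QuasiSeparated (V i).left.hom) ∧
      ∀ x : ↥(U.left), ∃ (i : ι) (y : ↥((V i).left.left)), (V i).hom.left.base y = x := by
  let ι := {O : U.left.Opens // IsAffineOpen O}
  refine ⟨ι, fun O => Over.mk (EtSh.pieceIncl U O.1), fun O => ?_, fun x => ?_⟩
  · have : IsAffine O.1.toScheme := O.2
    have : Etale U.hom := U.prop
    show QuasiCompact (O.1.ι ≫ U.hom) ∧ QuasiSeparated (O.1.ι ≫ U.hom)
    have := (quasiSeparatedSpace_iff_quasiSeparated X).1 inferInstance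
    exact ⟨QuasiCompact.of_comp _ (Limits.terminal.from X), QuasiSeparated.of_comp _ (Limits.terminal.from X)⟩
  · obtain ⟨O, hO, hxO, -⟩ := exists_isAffineOpen_mem_and_subset (x := x) (U := (⊤ : U.left.Opens)) trivial
    exact ⟨⟨O, hO⟩, ⟨x, hxO⟩, rfl⟩

end Groth.Agent.S14631
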