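import Groth.Statements.S14633
import Groth.Agent.GrpSch.Neutral
import Groth.Agent.GrpSch.JointInj
import Groth.Agent.GrpSch.SmoothRed
import Groth.Prelude.Def_Red
import Groth.Agent.DimTheory.ZeroDim

set_option backward.isDefEq.respectTransparency.types false

set_option autoImplicit false
universe u
open CategoryTheory MonoidalCategory CartesianMonoidalCategory MonObj GrpObj AlgebraicGeometry CategoryTheory.Limits
open AlgGrp

namespace Groth.Agent.S14633

/-- Over a field k, let G be a smooth connected k-group scheme of finite type and let Z be a reduced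
k-scheme of finite type of dimension at most 0 (for Z empty the conclusion is immediate). Then every
action of G on Z is trivial: the action morphism G × Z → Z is the second projection. -/
theorem result (k : Type u) [Field k]
    (G Z : Over (Spec (CommRingCat.of k))) [GrpObj G] [Smooth G.hom] [QuasiCompact G.hom] [ConnectedSpace ↥G.left]
    [LocallyOfFiniteType Z.hom] [QuasiCompact Z.hom] [IsReduced Z.left] (hdim : topologicalKrullDim ↥Z.left ≤ 0)
    (a : AlgGrp.Action G Z) : a.act = CartesianMonoidalCategory.snd G Z := by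
  haveI := GrpSch.irreducibleSpace_of_connectedSpace (G := G)
  haveI : GeometricallyIrreducible G.hom := GrpSch.geometricallyIrreducible_of_irreducibleSpace (G := G)
  haveI : Finite Z.left := DimTheory.ZeroDim.finite_of_dim_le_zero Z.hom hdim
  haveI : IsFinite Z.hom := DimTheory.ZeroDim.isFinite_of_finite Z.hom
  haveI : DiscreteTopology Z.left := DimTheory.ZeroDim.discreteTopology_of_isFinite Z.hom
  let U : Z.left → Z.left.Opens := fun z => ⟨{z}, isOpen_discrete _⟩
  let 𝒰 : Z.left.OpenCover := Z.left.openCoverOfIsOpenCover U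
    (TopologicalSpace.IsOpenCover.mk (eq_top_iff.2 fun z _ => TopologicalSpace.Opens.mem_iSup.2 ⟨z, rfl⟩))
  apply Over.OverMorphism.ext
  refine Scheme.Cover.hom_ext (Scheme.Pullback.openCoverOfRight 𝒰 G.hom Z.hom) _ _ fun (z : Z.left) => ?_
  let Zz : Over (Spec (CommRingCat.of k)) := Over.mk ((U z).ι ≫ Z.hom)
  let jz : Zz ⟶ Z := Over.homMk (U z).ι rfl
  suffices h : (G ◁ jz) ≫ a.act = (G ◁ jz) ≫ snd G Z by
    have h' := congrArg (fun f => f.left) h
    simp only [Over.comp_left] at h'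
    refine Eq.trans ?_ (h'.trans ?_) <;> congr 1 <;>
      (apply Limits.pullback.hom_ext <;> simp [jz, Zz, 𝒰] <;> rfl)
  haveI : IsOpenImmersion jz.left := inferInstanceAs (IsOpenImmersion (U z).ι)
  haveI : Mono jz := Over.mono_of_mono_left jz
  haveI : Subsingleton Zz.left := ⟨fun x y => Subtype.ext ((Set.mem_singleton_iff.1 x.2).trans (Set.mem_singleton_iff.1 y.2).symm)⟩
  haveI : Nonempty Zz.left := ⟨⟨z, rfl⟩⟩
  haveI : IrreducibleSpace Zz.left := { isPreirreducible_univ := fun u v _ _ ⟨x, _, hx⟩ ⟨y, _, hy⟩ =>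
      ⟨x, trivial, hx, Subsingleton.elim y x ▸ hy⟩, toNonempty := inferInstance }
  haveI : AlgebraicGeometry.IsReduced Zz.left := isReduced_of_isOpenImmersion jz.left
  haveI : IsAffine Zz.left := by
    haveI : DiscreteTopology Zz.left := Subsingleton.discreteTopology
    haveI : CompactSpace Zz.left := Finite.compactSpace
    haveI : QuasiCompact Zz.hom := quasiCompact_of_compactSpace _
    haveI : LocallyOfFiniteType Zz.hom := inferInstanceAs (LocallyOfFiniteType ((U z).ι ≫ Z.hom))
    haveI : IsFinite Zz.hom := DimTheory.ZeroDim.isFinite_of_finite Zz.hom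
    exact isAffine_of_isAffineHom Zz.hom
  haveI : IrreducibleSpace (G ⊗ Zz).left := inferInstanceAs (IrreducibleSpace ↥(Limits.pullback G.hom Zz.hom))
  haveI : LocallyOfFiniteType Zz.hom := inferInstanceAs (LocallyOfFiniteType ((U z).ι ≫ Z.hom))
  haveI : IsLocallyNoetherian Zz.left := LocallyOfFiniteType.isLocallyNoetherian Zz.hom
  haveI : GeometricallyReduced G.hom := ⟨fun K _ y Y fst' snd' h => by
    letI : GrpObj (Red.bc y G) := Red.grpObj_bc y G
    haveI : Smooth (Red.bc y G).hom := inferInstanceAs (Smooth (Limits.pullback.snd G.hom y))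
    haveI : AlgebraicGeometry.IsReduced (Limits.pullback G.hom y) :=
      GrpSch.isReduced_of_smooth (Red.bc y G)
    exact isReduced_of_isOpenImmersion h.isoPullback.hom⟩
  haveI : AlgebraicGeometry.IsReduced (G ⊗ Zz).left :=
    inferInstanceAs (AlgebraicGeometry.IsReduced (Limits.pullback G.hom Zz.hom))
  haveI : AlgebraicGeometry.IsIntegral (G ⊗ Zz).left := isIntegral_of_irreducibleSpace_of_isReduced _
  let s : Zz ⟶ G ⊗ Zz := lift (toUnit _ ≫ η[G]) (𝟙 _)
  have hs : s ≫ (G ◁ jz) ≫ a.act = jz := by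
    rw [lift_whiskerLeft_assoc, Category.id_comp]
    have : lift (toUnit Zz ≫ η[G]) jz = lift (toUnit Zz) jz ≫ (η[G] ▷ Z) := by
      apply CartesianMonoidalCategory.hom_ext <;> simp
    rw [this, Category.assoc, a.one_act, leftUnitor_hom, lift_snd]
  have hrange : Set.range ((G ◁ jz) ≫ a.act).left ⊆ Set.range jz.left := by
    rintro _ ⟨w, rfl⟩
    have hpre : _root_.IsPreconnected (Set.range ((G ◁ jz) ≫ a.act).left) :=
      isPreconnected_range (Scheme.Hom.continuous _)
    have hz : ((G ◁ jz) ≫ a.act).left (s.left ⟨z, rfl⟩) = z := by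
      rw [← Scheme.Hom.comp_apply, ← Over.comp_left, hs]
      rfl
    refine ⟨⟨z, rfl⟩, ?_⟩
    exact hpre.subsingleton ⟨_, hz⟩ ⟨w, rfl⟩
  obtain ⟨g₁, hg₁⟩ : ∃ g, g ≫ jz = (G ◁ jz) ≫ a.act :=
    ⟨Over.homMk (IsOpenImmersion.lift jz.left _ hrange) (by
      change _ ≫ jz.left ≫ Z.hom = _
      rw [IsOpenImmersion.lift_fac_assoc]
      exact Over.w _), Over.OverMorphism.ext (IsOpenImmersion.lift_fac _ _ _)⟩
  rw [← hg₁, whiskerLeft_snd]
  congr 1
  have hs₁ : s ≫ g₁ = 𝟙 _ := by rw [← cancel_mono jz, Category.assoc, hg₁, hs, Category.id_comp]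
  apply Over.OverMorphism.ext
  apply ext_of_isAffine
  refine CommRingCat.hom_ext (RingHom.ext fun b => ?_)
  letI := GrpSch.JointInj.algΓ Zz
  letI := GrpSch.JointInj.algΓ (G ⊗ Zz)
  have halg : ∀ (g : G ⊗ Zz ⟶ Zz) (r : k),
      g.left.appTop.hom (algebraMap k Γ(Zz.left, ⊤) r) = algebraMap k Γ((G ⊗ Zz).left, ⊤) r := fun g r => by
    change ((Scheme.ΓSpecIso (CommRingCat.of k)).inv ≫ Zz.hom.appTop ≫ g.left.appTop).hom r = _
    rw [← Scheme.Hom.comp_appTop, Over.w g]
    rfl
  let e₁ : Γ(Zz.left, ⊤) →ₐ[k] Γ((G ⊗ Zz).left, ⊤) := { g₁.left.appTop.hom with commutes' := halg g₁ }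
  let e₂ : Γ(Zz.left, ⊤) →ₐ[k] Γ((G ⊗ Zz).left, ⊤) := { (snd G Zz).left.appTop.hom with commutes' := halg _ }
  haveI : Finite Zz.left := inferInstance
  haveI : LocallyOfFiniteType Zz.hom := inferInstanceAs (LocallyOfFiniteType ((U z).ι ≫ Z.hom))
  haveI : QuasiCompact Zz.hom := by
    haveI : CompactSpace Zz.left := Finite.compactSpace
    exact quasiCompact_of_compactSpace _
  haveI : IsFinite Zz.hom := DimTheory.ZeroDim.isFinite_of_finite Zz.hom
  haveI : Module.Finite k Γ(Zz.left, ⊤) := by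
    have h1 : Zz.hom.appTop.hom.Finite := IsFinite.finite_app Zz.hom ⊤ (isAffineOpen_top _)
    exact (h1.comp (RingHom.Finite.of_surjective (Scheme.ΓSpecIso (CommRingCat.of k)).inv.hom
      (ConcreteCategory.bijective_of_isIso (Scheme.ΓSpecIso (CommRingCat.of k)).inv).2))
  have hint : IsIntegral k (e₁ b - e₂ b) :=
    ((Algebra.IsIntegral.isIntegral b).map e₁).sub ((Algebra.IsIntegral.isIntegral b).map e₂)
  have hev : s.left.appTop.hom (e₁ b - e₂ b) = 0 := by
    change s.left.appTop.hom (g₁.left.appTop.hom b - (snd G Zz).left.appTop.hom b) = 0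
    rw [map_sub, ← CommRingCat.comp_apply, ← CommRingCat.comp_apply, ← Scheme.Hom.comp_appTop,
      ← Scheme.Hom.comp_appTop, ← Over.comp_left, ← Over.comp_left, hs₁, lift_snd, sub_self]
  haveI : Algebra.IsIntegral k (Algebra.adjoin k {e₁ b - e₂ b}) :=
    Algebra.IsIntegral.adjoin fun x hx => by rw [Set.mem_singleton_iff.1 hx]; exact hint
  have hfield := isField_of_isIntegral_of_isField' (S := Algebra.adjoin k {e₁ b - e₂ b}) (Field.toIsField k)
  by_contra hne
  let d : Algebra.adjoin k {e₁ b - e₂ b} := ⟨_, Algebra.self_mem_adjoin_singleton k _⟩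
  obtain ⟨c, hc⟩ := hfield.mul_inv_cancel (a := d) fun h0 => hne (sub_eq_zero.1 (congrArg Subtype.val h0))
  haveI : Nonempty (⊤ : Zz.left.Opens) := ⟨⟨⟨z, rfl⟩, trivial⟩⟩
  have h1 : (1 : Γ(Zz.left, ⊤)) = 0 := by
    rw [← map_one s.left.appTop.hom, ← (show (d : Γ((G ⊗ Zz).left, ⊤)) * c = 1 from congrArg Subtype.val hc), map_mul, hev,
      zero_mul]
  exact one_ne_zero h1

end Groth.Agent.S14633
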