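import Groth.Statements.S14634
import Groth.Agent.GrpSch.OpenOrbit
import Groth.Agent.GrpSch.Neutral
import Groth.Agent.GrpSch.Dim
import Groth.Agent.GrpSch.Homogeneous

set_option backward.isDefEq.respectTransparency.types false

set_option autoImplicit false
universe u
open CategoryTheory MonoidalCategory CartesianMonoidalCategory MonObj GrpObj AlgebraicGeometry CategoryTheory.Limits
open AlgGrp

namespace Groth.Agent.S14634

/-- The dimension does not change along an algebraic extension of the base field. -/
lemma dim_geomPt {k : Type u} [Field k] (K : Type u) [Field K] [Algebra k K] [Algebra.IsAlgebraic k K]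
    (C : Over (Spec (CommRingCat.of k))) :
    topologicalKrullDim (GrpSch.OpenOrbit.geomPt (k := k) K ⊗ C).left = topologicalKrullDim C.left := by
  let f : Spec (CommRingCat.of K) ⟶ Spec (CommRingCat.of k) := Spec.map (CommRingCat.ofHom (algebraMap k K))
  have : IsIntegralHom f := IsIntegralHom.SpecMap_iff.2 (algebraMap_isIntegral_iff.2 inferInstance)
  have : Surjective f := ⟨Function.surjective_to_subsingleton (α := PrimeSpectrum K) (β := PrimeSpectrum k) _⟩
  let p := (snd (GrpSch.OpenOrbit.geomPt (k := k) K) C).left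
  have : IsIntegralHom p := MorphismProperty.pullback_snd _ _ ‹_›
  have : Flat p := MorphismProperty.pullback_snd _ _ (inferInstanceAs (Flat f))
  have : Surjective p := MorphismProperty.pullback_snd _ _ ‹_›
  rw [GrpSch.topologicalKrullDim_eq_iSup_coheight, GrpSch.topologicalKrullDim_eq_iSup_coheight,
    ← p.surjective.iSup_comp]
  simp only [GrpSch.coheight_eq_of_flat_integral p]

/-- Over a field k, let G be a smooth connected k-group scheme of finite type acting on a curve C, i.e.
a separated, geometrically integral k-scheme of finite type of dimension 1. Then C is almost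
homogeneous under G, meaning that the graph morphism G × C → C × C, (g, x) ↦ (x, g·x), is dominant,
if and only if the action is not the trivial one (the action morphism is not the second projection). -/
theorem result (k : Type u) [Field k]
    (G C : Over (Spec (CommRingCat.of k))) [GrpObj G] [Smooth G.hom] [QuasiCompact G.hom] [ConnectedSpace ↥G.left]
    [IsSeparated C.hom] [LocallyOfFiniteType C.hom] [QuasiCompact C.hom] [GeometricallyIntegral C.hom] (hdim : topologicalKrullDim ↥C.left = 1)
    (a : AlgGrp.Action G C) :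
    IsDominant (CartesianMonoidalCategory.lift (CartesianMonoidalCategory.snd G C) a.act).left ↔
      a.act ≠ CartesianMonoidalCategory.snd G C := by
  let K := AlgebraicClosure k
  let E := GrpSch.OpenOrbit.geomPt (k := k) K
  let Φ := lift (snd G C) a.act
  have : GeometricallyIrreducible C.hom := inferInstance
  have : IrreducibleSpace C.left := GeometricallyIrreducible.irreducibleSpace_of_subsingleton C.hom
  have : IrreducibleSpace G.left := GrpSch.irreducibleSpace_of_connectedSpace G
  have : GeometricallyIrreducible G.hom := GrpSch.geometricallyIrreducible_of_irreducibleSpace G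
  let π : (E ⊗ C).left ⟶ Spec (CommRingCat.of K) := (fst E C).left
  have : GeometricallyIrreducible π := MorphismProperty.pullback_fst (P := @GeometricallyIrreducible) _ _ ‹_›
  have : IrreducibleSpace (E ⊗ C).left := GeometricallyIrreducible.irreducibleSpace_of_subsingleton π
  have : LocallyOfFiniteType π := MorphismProperty.pullback_fst (P := @LocallyOfFiniteType) _ _ ‹_›
  have : JacobsonSpace (E ⊗ C).left := LocallyOfFiniteType.jacobsonSpace π
  let π' : (E ⊗ G).left ⟶ Spec (CommRingCat.of K) := (fst E G).left
  have hEGi : GeometricallyIrreducible π' :=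
    MorphismProperty.pullback_fst (P := @GeometricallyIrreducible) _ _ ‹_›
  have : IrreducibleSpace (E ⊗ G).left :=
    GeometricallyIrreducible.irreducibleSpace_of_subsingleton π'
  have hsec : ∀ (v w : E ⟶ C), GrpSch.OpenOrbit.imPt K (lift (𝟙 E) v) = GrpSch.OpenOrbit.imPt K (lift (𝟙 E) w) → v = w := by
    intro v w h
    have e : (lift (𝟙 E) v).left = (lift (𝟙 E) w).left :=
      ext_of_apply_closedPoint_eq π (congrArg CommaMorphism.left (lift_fst (𝟙 E) v))
        (congrArg CommaMorphism.left (lift_fst (𝟙 E) w)) h
    have := congrArg (· ≫ snd E C) (Over.OverMorphism.ext e : lift (𝟙 E) v = lift (𝟙 E) w)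
    simpa using this
  have hclosed : ∀ v : E ⟶ C, IsClosed ({GrpSch.OpenOrbit.imPt K (lift (𝟙 E) v)} : Set (E ⊗ C).left) := by
    intro v
    let s : Spec (CommRingCat.of K) ⟶ (E ⊗ C).left := (lift (𝟙 E) v).left
    have : IsSeparated π := MorphismProperty.pullback_fst (P := @IsSeparated) _ _ ‹_›
    have : IsClosedImmersion s :=
      isClosedImmersion_of_comp_eq_id π s (congrArg CommaMorphism.left (lift_fst (𝟙 E) v))
    have heq : Set.range s = {GrpSch.OpenOrbit.imPt K (lift (𝟙 E) v)} := by
      refine Set.eq_singleton_iff_unique_mem.2 ⟨⟨_, rfl⟩, ?_⟩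
      rintro - ⟨z, rfl⟩
      exact congrArg _ (Subsingleton.elim (α := PrimeSpectrum K) _ _)
    exact heq ▸ s.isClosedEmbedding.isClosed_range
  -- in the curve, an irreducible closed set with two points is everything
  have hcurve : ∀ (Z : Set (E ⊗ C).left), IsClosed Z → IsIrreducible Z → ∀ v w : E ⟶ C, v ≠ w →
      GrpSch.OpenOrbit.imPt K (lift (𝟙 E) v) ∈ Z → GrpSch.OpenOrbit.imPt K (lift (𝟙 E) w) ∈ Z →
      Z = Set.univ := by
    intro Z hZ hZi v w hvw hv hw
    by_contra hne
    let Z₀ : TopologicalSpace.IrreducibleCloseds (E ⊗ C).left :=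
      ⟨{GrpSch.OpenOrbit.imPt K (lift (𝟙 E) v)}, isIrreducible_singleton, hclosed v⟩
    let Z₁ : TopologicalSpace.IrreducibleCloseds (E ⊗ C).left := ⟨Z, hZi, hZ⟩
    let Z₂ : TopologicalSpace.IrreducibleCloseds (E ⊗ C).left :=
      ⟨Set.univ, (irreducibleSpace_def _).1 ‹_›, isClosed_univ⟩
    have h01 : Z₀ < Z₁ := by
      refine lt_of_le_of_ne (fun x hx => ?_) fun h => ?_
      · obtain rfl := Set.mem_singleton_iff.1 hx
        exact hv
      · have : GrpSch.OpenOrbit.imPt K (lift (𝟙 E) w) ∈ (Z₀ : Set (E ⊗ C).left) := h ▸ hw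
        exact hvw (hsec w v (Set.mem_singleton_iff.1 this)).symm
    have h12 : Z₁ < Z₂ := lt_of_le_of_ne (fun x _ => Set.mem_univ x) fun h =>
      hne (congrArg (fun z : TopologicalSpace.IrreducibleCloseds (E ⊗ C).left => (z : Set (E ⊗ C).left)) h)
    have h := Order.LTSeries.length_le_krullDim
      (((RelSeries.singleton _ Z₀).snoc Z₁ (by simpa using h01)).snoc Z₂ (by simpa using h12))
    have hd : Order.krullDim (TopologicalSpace.IrreducibleCloseds (E ⊗ C).left) = 1 :=
      (dim_geomPt K C).trans hdim
    rw [hd] at h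
    simp only [RelSeries.snoc_length, RelSeries.singleton_length] at h
    norm_cast at h
  have hdiag : ∀ v w : E ⟶ C, GrpSch.OpenOrbit.imPt K (lift v w) ∈ Set.range (lift (𝟙 C) (𝟙 C)).left →
      v = w := by
    intro v w h
    obtain ⟨x, hx⟩ := GrpSch.OpenOrbit.exists_lift_imPt K (lift (𝟙 C) (𝟙 C)) (lift v w) h
    rw [comp_lift, Category.comp_id] at hx
    have h1 := congrArg (· ≫ fst C C) hx
    have h2 := congrArg (· ≫ snd C C) hx
    simp only [lift_fst, lift_snd] at h1 h2
    exact h1.symm.trans h2
  have hΔ : IsClosed (Set.range (lift (𝟙 C) (𝟙 C)).left) := by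
    have : IsSeparated (fst C C).left := MorphismProperty.pullback_fst _ _ ‹_›
    have : IsClosedImmersion (lift (𝟙 C) (𝟙 C)).left := by
      have : IsClosedImmersion ((lift (𝟙 C) (𝟙 C)).left ≫ (fst C C).left) := by
        rw [← Over.comp_left, lift_fst]; exact inferInstanceAs (IsClosedImmersion (𝟙 C.left))
      exact IsClosedImmersion.of_comp _ (fst C C).left
    exact (lift (𝟙 C) (𝟙 C)).left.isClosedEmbedding.isClosed_range
  constructor
  · intro hdom htriv
    have : IsDominant Φ.left := hdom
    have hsub : Set.range Φ.left ⊆ Set.range (lift (𝟙 C) (𝟙 C)).left := by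
      rintro - ⟨r, rfl⟩
      refine ⟨(snd G C).left r, ?_⟩
      rw [← Scheme.Hom.comp_apply, ← Over.comp_left]
      simp only [Φ, htriv, comp_lift, Category.comp_id]
    have huniv : Set.range (lift (𝟙 C) (𝟙 C)).left = Set.univ :=
      Set.eq_univ_of_univ_subset (Φ.left.denseRange.closure_range ▸ closure_minimal hsub hΔ)
    have hone : ∀ v w : E ⟶ C, v = w := fun v w => hdiag v w (huniv ▸ Set.mem_univ _)
    have hsub1 : Subsingleton ↥(E ⊗ C).left := by
      have hcl : (closedPoints (E ⊗ C).left).Subsingleton := by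
        intro p hp q hq
        have key : ∀ (r : (E ⊗ C).left) (hr : r ∈ closedPoints (E ⊗ C).left),
            ∃ v : E ⟶ C, GrpSch.OpenOrbit.imPt K (lift (𝟙 E) v) = r := by
          intro r hr
          let p' : E ⟶ E ⊗ C := Over.homMk (pointOfClosedPoint π r hr) (by
            rw [← Over.w (fst E C), ← Category.assoc, pointOfClosedPoint_comp]
            exact Category.id_comp _)
          have hp' : p' ≫ fst _ _ = 𝟙 _ := Over.OverMorphism.ext (pointOfClosedPoint_comp π r hr)
          refine ⟨p' ≫ snd E C, ?_⟩
          rw [← hp', lift_comp_fst_snd]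
          exact pointOfClosedPoint_apply π r hr _
        obtain ⟨v, rfl⟩ := key p hp
        obtain ⟨w, rfl⟩ := key q hq
        rw [hone v w]
      have hfin : (closedPoints (E ⊗ C).left).Finite := hcl.finite
      constructor
      intro p q
      have hd := closure_closedPoints (X := (E ⊗ C).left)
      rcases (closedPoints (E ⊗ C).left).eq_empty_or_nonempty with h0 | ⟨c, hc⟩
      · rw [h0, closure_empty] at hd
        exact ((Set.mem_univ p) |> fun hp => absurd (hd ▸ hp) (Set.notMem_empty p))
      · have hs : closedPoints (E ⊗ C).left = {c} := hcl.eq_singleton_of_mem hc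
        rw [hs, (show IsClosed ({c} : Set _) from hc).closure_eq] at hd
        have hp : p ∈ ({c} : Set _) := hd ▸ Set.mem_univ p
        have hq : q ∈ ({c} : Set _) := hd ▸ Set.mem_univ q
        exact (Set.mem_singleton_iff.1 hp).trans (Set.mem_singleton_iff.1 hq).symm
    have h0 : topologicalKrullDim (E ⊗ C).left ≤ 0 := by
      have : Subsingleton (TopologicalSpace.IrreducibleCloseds ↥(E ⊗ C).left) := ⟨fun A B => by
        apply SetLike.ext
        intro x
        obtain ⟨y, hy⟩ := A.isIrreducible.nonempty
        obtain ⟨z, hz⟩ := B.isIrreducible.nonempty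
        exact ⟨fun _ => Subsingleton.elim z x ▸ hz, fun _ => Subsingleton.elim y x ▸ hy⟩⟩
      exact Order.krullDim_nonpos_of_subsingleton
    rw [dim_geomPt K C, hdim] at h0
    exact absurd h0 (by decide)
  · intro hne
    let D : (G ⊗ C).left.Opens := ⟨Φ.left ⁻¹' (Set.range (lift (𝟙 C) (𝟙 C)).left)ᶜ,
      hΔ.isOpen_compl.preimage Φ.left.continuous⟩
    have hDne : (D : Set (G ⊗ C).left).Nonempty := by
      by_contra h
      have hsub : Set.range Φ.left ⊆ Set.range (lift (𝟙 C) (𝟙 C)).left := by
        rintro - ⟨r, rfl⟩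
        by_contra hr
        exact h ⟨r, hr⟩
      have : IsSeparated (fst C C).left := MorphismProperty.pullback_fst _ _ ‹_›
      have : IsClosedImmersion (lift (𝟙 C) (𝟙 C)).left := by
        have : IsClosedImmersion ((lift (𝟙 C) (𝟙 C)).left ≫ (fst C C).left) := by
          rw [← Over.comp_left, lift_fst]; exact inferInstanceAs (IsClosedImmersion (𝟙 C.left))
        exact IsClosedImmersion.of_comp _ (fst C C).left
      have : AlgebraicGeometry.IsReduced G.left := GrpSch.isReduced_of_smooth G
      have : IsLocallyNoetherian G.left := LocallyOfFiniteType.isLocallyNoetherian G.hom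
      have : AlgebraicGeometry.IsReduced (G ⊗ C).left :=
        inferInstanceAs (AlgebraicGeometry.IsReduced (Limits.pullback G.hom C.hom))
      obtain ⟨g', hg'⟩ := GrpSch.exists_lift_of_isImmersion (lift (𝟙 C) (𝟙 C)).left Φ.left hsub
      have hgw : g' ≫ C.hom = (G ⊗ C).hom := by
        rw [← Over.w Φ, ← hg', Category.assoc, Over.w]
      have e : (Over.homMk g' hgw : G ⊗ C ⟶ C) ≫ lift (𝟙 C) (𝟙 C) = Φ := Over.OverMorphism.ext hg'
      rw [comp_lift, Category.comp_id] at e
      have h1 := congrArg (· ≫ fst C C) e
      have h2 := congrArg (· ≫ snd C C) e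
      simp only [Φ, lift_fst, lift_snd] at h1 h2
      exact hne (h2.symm.trans h1)
    have : UniversallyOpen G.hom := inferInstance
    have : UniversallyOpen (snd G C).left := MorphismProperty.pullback_snd _ _ ‹_›
    let U0 := (snd G C).left '' (D : Set (G ⊗ C).left)
    have hU0 : IsOpen U0 := (snd G C).left.isOpenMap _ D.2
    let A : Over (Spec (CommRingCat.of k)) := Over.mk (D.ι ≫ (G ⊗ C).hom)
    let jA : A ⟶ G ⊗ C := Over.homMk D.ι rfl
    have hGC : LocallyOfFiniteType (G ⊗ C).hom :=
      MorphismProperty.comp_mem _ _ _ (MorphismProperty.pullback_fst _ _ inferInstance) inferInstance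
    have : LocallyOfFiniteType (D.ι ≫ (G ⊗ C).hom) := inferInstance
    have : LocallyOfFiniteType A.hom := this
    -- over a point moved by the group the slice is dense
    have hslice : ∀ v : E ⟶ C, GrpSch.OpenOrbit.imPt K v ∈ U0 →
        ∀ z : (E ⊗ C).left, (v ▷ C).left z ∈ closure (Set.range Φ.left) := by
      intro v hv
      obtain ⟨d, hd, hdv⟩ := hv
      obtain ⟨w, hw⟩ := GrpSch.OpenOrbit.exists_lift_imPt K (jA ≫ snd G C) v ⟨(⟨d, hd⟩ : D), hdv⟩
      let g := w ≫ jA ≫ fst G C
      have hgv : lift g v ≫ a.act ≠ v := by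
        intro h
        have hmem : GrpSch.OpenOrbit.imPt K (w ≫ jA) ∈ (D : Set (G ⊗ C).left) :=
          (w.left (IsLocalRing.closedPoint K)).2
        apply hmem
        have e : (w ≫ jA) ≫ Φ = v ≫ lift (𝟙 C) (𝟙 C) := by
          have e1 : lift g v = w ≫ jA := by
            rw [← hw]; simp only [g, ← Category.assoc, ← comp_lift, lift_fst_snd, Category.comp_id]
          rw [comp_lift, comp_lift, Category.comp_id]
          congr 1
          all_goals first
            | rw [Category.assoc, hw]
            | rw [← e1, h]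
        refine ⟨GrpSch.OpenOrbit.imPt K v, ?_⟩
        change (lift (𝟙 C) (𝟙 C)).left (v.left (IsLocalRing.closedPoint K)) = Φ.left ((w ≫ jA).left _)
        rw [← Scheme.Hom.comp_apply, ← Over.comp_left, ← e]
        rfl
      let σ : E ⊗ G ⟶ E ⊗ C := lift (fst E G) (lift (snd E G) (fst E G ≫ v) ≫ a.act)
      have hσ : σ ≫ (v ▷ C) = lift (snd E G) (fst E G ≫ v) ≫ Φ := by
        apply CartesianMonoidalCategory.hom_ext <;> simp [σ, Φ]
      have hpt : ∀ h : E ⟶ G, GrpSch.OpenOrbit.imPt K (lift (𝟙 E) (lift h v ≫ a.act)) ∈ closure (Set.range σ.left) := by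
        intro h
        refine subset_closure ⟨GrpSch.OpenOrbit.imPt K (lift (𝟙 E) h), ?_⟩
        change σ.left ((lift (𝟙 E) h).left _) = _
        rw [← Scheme.Hom.comp_apply, ← Over.comp_left]
        simp only [σ, comp_lift, lift_fst, lift_snd, comp_lift_assoc, lift_fst_assoc, Category.id_comp]
      have hirr : IsIrreducible (closure (Set.range σ.left)) := by
        rw [← Set.image_univ]
        exact (((irreducibleSpace_def _).1 ‹_›).image _ σ.left.continuous.continuousOn).closure
      have hu := hcurve _ isClosed_closure hirr (lift g v ≫ a.act) (lift (1 : E ⟶ G) v ≫ a.act)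
        (by rw [GrpSch.act_one]; exact hgv) (hpt g) (hpt 1)
      intro z
      refine map_mem_closure (v ▷ C).left.continuous (hu ▸ Set.mem_univ z) ?_
      rintro - ⟨r, rfl⟩
      refine ⟨(lift (snd E G) (fst E G ≫ v)).left r, ?_⟩
      rw [← Scheme.Hom.comp_apply, ← Over.comp_left, ← hσ, Over.comp_left, Scheme.Hom.comp_apply]
    -- the range is dense
    let O : Set (C ⊗ C).left := (fst C C).left ⁻¹' U0
    have hO : IsOpen O := hU0.preimage (fst C C).left.continuous
    let q : E ⊗ (C ⊗ C) ⟶ C ⊗ C := snd E (C ⊗ C)
    have hEs : Surjective E.hom :=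
      ⟨Function.surjective_to_subsingleton (α := PrimeSpectrum K) (β := PrimeSpectrum k) _⟩
    have : Surjective q.left := MorphismProperty.pullback_snd _ _ hEs
    have hCC : LocallyOfFiniteType (C ⊗ C).hom :=
      MorphismProperty.comp_mem _ _ _ (MorphismProperty.pullback_fst _ _ inferInstance) inferInstance
    let π₂ : (E ⊗ (C ⊗ C)).left ⟶ Spec (CommRingCat.of K) := (fst E (C ⊗ C)).left
    have : LocallyOfFiniteType π₂ :=
      MorphismProperty.pullback_fst (P := @LocallyOfFiniteType) _ _ hCC
    have : JacobsonSpace (E ⊗ (C ⊗ C)).left := LocallyOfFiniteType.jacobsonSpace π₂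
    have hsub : O ⊆ closure (Set.range Φ.left) := by
      intro c hc
      by_contra hcz
      obtain ⟨z, hz⟩ := q.left.surjective c
      obtain ⟨r, ⟨hr1, hr2⟩, hrc⟩ := nonempty_inter_closedPoints (X := (E ⊗ (C ⊗ C)).left)
        (Z := q.left ⁻¹' O ∩ q.left ⁻¹' (closure (Set.range Φ.left))ᶜ)
        ⟨z, by rw [Set.mem_preimage, hz]; exact hc, by rw [Set.mem_preimage, hz]; exact hcz⟩
        ((hO.preimage q.left.continuous).inter
          (isClosed_closure.isOpen_compl.preimage q.left.continuous)).isLocallyClosed
      let p' : E ⟶ E ⊗ (C ⊗ C) := Over.homMk (pointOfClosedPoint π₂ r hrc) (by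
        rw [← Over.w (fst E (C ⊗ C)), ← Category.assoc, pointOfClosedPoint_comp]
        exact Category.id_comp _)
      let x := p' ≫ q
      have hx : GrpSch.OpenOrbit.imPt K x = q.left r := by
        change (p' ≫ q).left _ = _
        rw [Over.comp_left, Scheme.Hom.comp_apply]
        exact congrArg _ (pointOfClosedPoint_apply _ r hrc _)
      apply hr2
      rw [← hx]
      have hv : GrpSch.OpenOrbit.imPt K (x ≫ fst C C) ∈ U0 := by
        change (x ≫ fst C C).left _ ∈ U0
        rw [Over.comp_left, Scheme.Hom.comp_apply]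
        rw [Set.mem_preimage, ← hx] at hr1
        exact hr1
      have h := hslice (x ≫ fst C C) hv (GrpSch.OpenOrbit.imPt K (lift (𝟙 E) (x ≫ snd C C)))
      change ((x ≫ fst C C) ▷ C).left ((lift (𝟙 E) (x ≫ snd C C)).left _) ∈ _ at h
      rw [← Scheme.Hom.comp_apply, ← Over.comp_left, lift_whiskerRight, Category.id_comp,
        lift_comp_fst_snd] at h
      exact h
    have hne' : O.Nonempty := by
      obtain ⟨d, hd⟩ := hDne
      exact ⟨(lift (snd G C) (snd G C)).left d, by
        change (fst C C).left _ ∈ U0
        rw [← Scheme.Hom.comp_apply, ← Over.comp_left, lift_fst]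
        exact ⟨d, hd, rfl⟩⟩
    have hCCi : IrreducibleSpace (C ⊗ C).left := by
      have : GeometricallyIrreducible (fst C C).left :=
        MorphismProperty.pullback_fst (P := @GeometricallyIrreducible) _ _ ‹_›
      have : UniversallyOpen (fst C C).left := MorphismProperty.pullback_fst _ _ inferInstance
      exact GeometricallyIrreducible.irreducibleSpace (fst C C).left (fst C C).left.isOpenMap
    refine ⟨dense_iff_closure_eq.2 (Set.eq_univ_of_univ_subset ?_)⟩
    rw [← (hO.dense hne').closure_eq]
    exact closure_minimal hsub isClosed_closure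

end Groth.Agent.S14634
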