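import Groth.Statements.S14638
import Groth.Agent.GrpSch.OpenOrbit

set_option backward.isDefEq.respectTransparency.types false

set_option autoImplicit false
universe u
open CategoryTheory MonoidalCategory CartesianMonoidalCategory MonObj GrpObj AlgebraicGeometry CategoryTheory.Limits
open AlgGrp

namespace Groth.Agent.S14638

/-- Over a field k, let G be a smooth k-group scheme of finite type acting on a variety X (a separated,
geometrically integral k-scheme of finite type). Then X is almost homogeneous, i.e. the graph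
morphism G × X → X × X, (g, x) ↦ (x, g·x), is dominant, if and only if there is a nonempty open
subscheme U of X which is G-stable (the action restricts to an action on U) and homogeneous (the
graph morphism G × U → U × U is surjective). Moreover there is at most one such open subscheme U
(the open orbit). -/
theorem result (k : Type u) [Field k]
    (G X : Over (Spec (CommRingCat.of k))) [GrpObj G] [Smooth G.hom] [QuasiCompact G.hom]
    [IsSeparated X.hom] [LocallyOfFiniteType X.hom] [QuasiCompact X.hom] [GeometricallyIntegral X.hom]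
    (a : AlgGrp.Action G X) :
    (IsDominant (CartesianMonoidalCategory.lift (CartesianMonoidalCategory.snd G X) a.act).left ↔
      ∃ U : X.left.Opens, (U : Set ↥X.left).Nonempty ∧
        ∃ b : AlgGrp.Action G (Over.mk (U.ι ≫ X.hom)),
          (G ◁ (Over.homMk U.ι rfl : Over.mk (U.ι ≫ X.hom) ⟶ X)) ≫ a.act = b.act ≫ Over.homMk U.ι rfl ∧
          Surjective (CartesianMonoidalCategory.lift (CartesianMonoidalCategory.snd G (Over.mk (U.ι ≫ X.hom))) b.act).left) ∧
    ∀ U U' : X.left.Opens,
      ((U : Set ↥X.left).Nonempty ∧ ∃ b : AlgGrp.Action G (Over.mk (U.ι ≫ X.hom)),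
          (G ◁ (Over.homMk U.ι rfl : Over.mk (U.ι ≫ X.hom) ⟶ X)) ≫ a.act = b.act ≫ Over.homMk U.ι rfl ∧
          Surjective (CartesianMonoidalCategory.lift (CartesianMonoidalCategory.snd G (Over.mk (U.ι ≫ X.hom))) b.act).left) →
      ((U' : Set ↥X.left).Nonempty ∧ ∃ b' : AlgGrp.Action G (Over.mk (U'.ι ≫ X.hom)),
          (G ◁ (Over.homMk U'.ι rfl : Over.mk (U'.ι ≫ X.hom) ⟶ X)) ≫ a.act = b'.act ≫ Over.homMk U'.ι rfl ∧
          Surjective (CartesianMonoidalCategory.lift (CartesianMonoidalCategory.snd G (Over.mk (U'.ι ≫ X.hom))) b'.act).left) →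
      U = U' := by
  let K := AlgebraicClosure k
  let Φ := lift (snd G X) a.act
  have hGl : LocallyOfFiniteType G.hom := inferInstance
  have : GeometricallyIrreducible X.hom := inferInstance
  have : IrreducibleSpace X.left := GeometricallyIrreducible.irreducibleSpace_of_subsingleton X.hom
  have hXXi : IrreducibleSpace (X ⊗ X).left := by
    have : GeometricallyIrreducible (fst X X).left :=
      MorphismProperty.pullback_fst (P := @GeometricallyIrreducible) _ _ ‹_›
    have : UniversallyOpen (fst X X).left := MorphismProperty.pullback_fst _ _ inferInstance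
    exact GeometricallyIrreducible.irreducibleSpace (fst X X).left (fst X X).left.isOpenMap
  have hGX : LocallyOfFiniteType (G ⊗ X).hom :=
    MorphismProperty.comp_mem _ _ _ (MorphismProperty.pullback_fst _ _ inferInstance) inferInstance
  have hGXq : QuasiCompact (G ⊗ X).hom :=
    MorphismProperty.comp_mem _ _ _ (MorphismProperty.pullback_fst _ _ inferInstance) inferInstance
  have hXX : LocallyOfFiniteType (X ⊗ X).hom :=
    MorphismProperty.comp_mem _ _ _ (MorphismProperty.pullback_fst _ _ inferInstance) inferInstance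
  have hXXq : QuasiCompact (X ⊗ X).hom :=
    MorphismProperty.comp_mem _ _ _ (MorphismProperty.pullback_fst _ _ inferInstance) inferInstance
  have : UniversallyOpen G.hom := inferInstance
  have : UniversallyOpen (snd G X).left := MorphismProperty.pullback_snd _ _ ‹_›
  have hactop : IsOpenMap a.act.left := by
    rw [← GrpSch.actShear_hom_snd, Over.comp_left]
    have : IsIso (GrpSch.actShear a).hom.left :=
      inferInstanceAs (IsIso ((Over.forget _).map (GrpSch.actShear a).hom))
    exact Scheme.Hom.isOpenMap _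
  refine ⟨⟨fun hdom => ?_, ?_⟩, ?_⟩
  · have : IsDominant Φ.left := hdom
    have : LocallyOfFiniteType Φ.left := by
      have : LocallyOfFiniteType (Φ.left ≫ (X ⊗ X).hom) := by rw [Over.w Φ]; infer_instance
      exact locallyOfFiniteType_of_comp Φ.left (X ⊗ X).hom
    have : IsLocallyNoetherian (X ⊗ X).left := LocallyOfFiniteType.isLocallyNoetherian (X ⊗ X).hom
    have : IsLocallyNoetherian (G ⊗ X).left := LocallyOfFiniteType.isLocallyNoetherian (G ⊗ X).hom
    have hne : (Set.range Φ.left).Nonempty := by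
      have h := (Φ.left.denseRange).nonempty_iff.2 inferInstance
      obtain ⟨r⟩ := h
      exact ⟨_, r, rfl⟩
    have : QuasiCompact Φ.left := GrpSch.quasiCompact_left Φ
    obtain ⟨O, hO, hOne, hOR⟩ := GrpSch.exists_open_part (GrpSch.isLocallyConstructible_range Φ) hne
    rw [Φ.left.denseRange.closure_range, Set.inter_univ] at hOne hOR
    have : UniversallyOpen (fst X X).left := MorphismProperty.pullback_fst _ _ inferInstance
    let U0 := (fst X X).left '' O
    have hU0 : IsOpen U0 := (fst X X).left.isOpenMap _ hO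
    let S := a.act.left '' ((snd G X).left ⁻¹' U0)
    let U : X.left.Opens := ⟨S, hactop _ (hU0.preimage (snd G X).left.continuous)⟩
    have hUne : (U : Set X.left).Nonempty := by
      obtain ⟨o, ho⟩ := hOne
      refine ⟨_, (lift (toUnit X ≫ η[G]) (𝟙 X)).left ((fst X X).left o), ?_, rfl⟩
      refine ⟨o, ho, ?_⟩
      rw [← Scheme.Hom.comp_apply (lift (toUnit X ≫ η[G]) (𝟙 X)).left, ← Over.comp_left, lift_snd]
      rfl
    let XU : Over (Spec (CommRingCat.of k)) := Over.mk (U.ι ≫ X.hom)
    let j : XU ⟶ X := Over.homMk U.ι rfl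
    have : Mono j := (Over.forget _).mono_of_mono_map (inferInstanceAs (Mono U.ι))
    have hrange : Set.range ((G ◁ j) ≫ a.act).left ⊆ Set.range U.ι := by
      rintro - ⟨r, rfl⟩
      rw [Scheme.Opens.range_ι, Over.comp_left, Scheme.Hom.comp_apply]
      refine GrpSch.OpenOrbit.act_stable a U0 _ ?_
      rw [← Scheme.Hom.comp_apply, ← Over.comp_left, whiskerLeft_snd, Over.comp_left, Scheme.Hom.comp_apply]
      exact ((snd G XU).left r).2
    let act' : G ⊗ XU ⟶ XU := Over.homMk (IsOpenImmersion.lift U.ι ((G ◁ j) ≫ a.act).left hrange) (by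
      change _ ≫ U.ι ≫ X.hom = _
      rw [IsOpenImmersion.lift_fac_assoc]
      exact Over.w ((G ◁ j) ≫ a.act))
    have hact' : act' ≫ j = (G ◁ j) ≫ a.act :=
      Over.OverMorphism.ext (IsOpenImmersion.lift_fac _ _ _)
    let b : AlgGrp.Action G XU :=
      { act := act'
        one_act := by
          rw [← cancel_mono j, Category.assoc, hact', ← whisker_exchange_assoc, a.one_act,
            leftUnitor_naturality]
        mul_act := by
          rw [← cancel_mono j, Category.assoc, hact', ← whisker_exchange_assoc, a.mul_act,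
            Category.assoc, Category.assoc, hact', ← MonoidalCategory.whiskerLeft_comp_assoc, hact',
            MonoidalCategory.whiskerLeft_comp_assoc, associator_naturality_right_assoc] }
    refine ⟨U, hUne, b, hact'.symm, ?_⟩
    have : LocallyOfFiniteType (U.ι ≫ X.hom) := inferInstance
    have : LocallyOfFiniteType XU.hom := this
    have : IsLocallyNoetherian X.left := LocallyOfFiniteType.isLocallyNoetherian X.hom
    have : QuasiCompact (U.ι ≫ X.hom) := inferInstance
    have : QuasiCompact XU.hom := this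
    have : LocallyOfFiniteType (G ⊗ XU).hom :=
      MorphismProperty.comp_mem _ _ _ (MorphismProperty.pullback_fst _ _ inferInstance) inferInstance
    have : QuasiCompact (G ⊗ XU).hom :=
      MorphismProperty.comp_mem _ _ _ (MorphismProperty.pullback_fst _ _ inferInstance) inferInstance
    have : LocallyOfFiniteType (XU ⊗ XU).hom :=
      MorphismProperty.comp_mem _ _ _ (MorphismProperty.pullback_fst _ _ inferInstance) inferInstance
    have : QuasiCompact (XU ⊗ XU).hom :=
      MorphismProperty.comp_mem _ _ _ (MorphismProperty.pullback_fst _ _ inferInstance) inferInstance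
    refine GrpSch.CompGroup.surjective_of_points k K _ fun y => ?_
    let u₁ := y ≫ fst XU XU ≫ j
    let u₂ := y ≫ snd XU XU ≫ j
    have hu : ∀ u : GrpSch.OpenOrbit.geomPt (k := k) K ⟶ XU, GrpSch.OpenOrbit.imPt K (u ≫ j) ∈ S :=
      fun u => (u.left (IsLocalRing.closedPoint K)).2
    -- every point of the set `S` is a translate of the first coordinate of a point in `O`
    have hrep : ∀ u : GrpSch.OpenOrbit.geomPt (k := k) K ⟶ X, GrpSch.OpenOrbit.imPt K u ∈ S →
        ∃ (g : GrpSch.OpenOrbit.geomPt (k := k) K ⟶ G) (v v' : GrpSch.OpenOrbit.geomPt (k := k) K ⟶ X),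
          lift g v ≫ a.act = u ∧ GrpSch.OpenOrbit.imPt K (lift v v') ∈ O := by
      intro u hu
      let V : (G ⊗ X).left.Opens := ⟨(snd G X).left ⁻¹' U0, hU0.preimage (snd G X).left.continuous⟩
      let A : Over (Spec (CommRingCat.of k)) := Over.mk (V.ι ≫ (G ⊗ X).hom)
      let jA : A ⟶ G ⊗ X := Over.homMk V.ι rfl
      have : LocallyOfFiniteType (V.ι ≫ (G ⊗ X).hom) := inferInstance
      have : LocallyOfFiniteType A.hom := this
      obtain ⟨z, hz, hzu⟩ := hu
      obtain ⟨w, hw⟩ := GrpSch.OpenOrbit.exists_lift_imPt K (jA ≫ a.act) u ⟨(⟨z, hz⟩ : V), hzu⟩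
      let O' : (X ⊗ X).left.Opens := ⟨O, hO⟩
      let B : Over (Spec (CommRingCat.of k)) := Over.mk (O'.ι ≫ (X ⊗ X).hom)
      let jB : B ⟶ X ⊗ X := Over.homMk O'.ι rfl
      have : LocallyOfFiniteType (O'.ι ≫ (X ⊗ X).hom) := inferInstance
      have : LocallyOfFiniteType B.hom := this
      obtain ⟨o, ho, hov⟩ := ((w.left (IsLocalRing.closedPoint K)).2 : _ ∈ (snd G X).left ⁻¹' U0)
      obtain ⟨w', hw'⟩ := GrpSch.OpenOrbit.exists_lift_imPt K (jB ≫ fst X X) (w ≫ jA ≫ snd G X)
        ⟨(⟨o, ho⟩ : O'), hov⟩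
      refine ⟨w ≫ jA ≫ fst G X, w ≫ jA ≫ snd G X, w' ≫ jB ≫ snd X X, ?_, ?_⟩
      · rw [← hw, ← Category.assoc w jA, ← Category.assoc w jA, ← comp_lift_assoc, lift_fst_snd,
          Category.id_comp, Category.assoc]
      · rw [← hw', ← Category.assoc w' jB, ← Category.assoc w' jB, ← comp_lift, lift_fst_snd,
          Category.comp_id]
        exact (w'.left (IsLocalRing.closedPoint K)).2
    obtain ⟨g₁, v₁, v₁', hg₁, hv₁⟩ := hrep u₁ (by
      simpa only [u₁, ← Category.assoc] using hu (y ≫ fst XU XU))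
    obtain ⟨g₂, v₂, v₂', hg₂, hv₂⟩ := hrep u₂ (by
      simpa only [u₂, ← Category.assoc] using hu (y ≫ snd XU XU))
    obtain ⟨w, hw₁, hw₂⟩ := GrpSch.OpenOrbit.exists_inter K v₁ v₂ O O hO hO v₁' v₂' hv₁ hv₂
    obtain ⟨z₁, hz₁⟩ := GrpSch.OpenOrbit.exists_lift_imPt K Φ (lift v₁ w) (hOR hw₁)
    obtain ⟨z₂, hz₂⟩ := GrpSch.OpenOrbit.exists_lift_imPt K Φ (lift v₂ w) (hOR hw₂)
    have key : ∀ (v : GrpSch.OpenOrbit.geomPt (k := k) K ⟶ X) (z : GrpSch.OpenOrbit.geomPt (k := k) K ⟶ G ⊗ X),
        z ≫ Φ = lift v w → lift (z ≫ fst G X) v ≫ a.act = w := by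
      intro v z hz
      have e1 := congrArg (· ≫ fst X X) hz
      have e2 := congrArg (· ≫ snd X X) hz
      simp only [Φ, Category.assoc, lift_fst, lift_snd] at e1 e2
      rw [← e1, ← comp_lift_assoc, lift_fst_snd, Category.id_comp, e2]
    have k₁ := key v₁ z₁ hz₁
    have k₂ := key v₂ z₂ hz₂
    let g := g₂ * (z₂ ≫ fst G X)⁻¹ * (z₁ ≫ fst G X) * g₁⁻¹
    have hg : lift g u₁ ≫ a.act = u₂ := by
      have e1 : lift g₁⁻¹ u₁ ≫ a.act = v₁ := by
        rw [← hg₁, ← GrpSch.act_mul, inv_mul_cancel, GrpSch.act_one]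
      have e2 : lift (z₂ ≫ fst G X)⁻¹ w ≫ a.act = v₂ := by
        rw [← k₂, ← GrpSch.act_mul, inv_mul_cancel, GrpSch.act_one]
      simp only [g]
      rw [GrpSch.act_mul, e1, GrpSch.act_mul, k₁, GrpSch.act_mul, e2, hg₂]
    refine ⟨(lift g (y ≫ fst XU XU)).left (IsLocalRing.closedPoint K), ?_⟩
    rw [← Scheme.Hom.comp_apply, ← Over.comp_left]
    have hfac : lift g (y ≫ fst XU XU) ≫ lift (snd G XU) b.act = y := by
      apply CartesianMonoidalCategory.hom_ext
      · simp
      · rw [Category.assoc, lift_snd, ← cancel_mono j, Category.assoc]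
        change _ ≫ act' ≫ j = _
        rw [hact', lift_whiskerLeft_assoc, Category.assoc, Category.assoc]
        exact hg
    rw [hfac]
  · rintro ⟨U, hUne, b, hb, hs⟩
    let XU : Over (Spec (CommRingCat.of k)) := Over.mk (U.ι ≫ X.hom)
    let j : XU ⟶ X := Over.homMk U.ι rfl
    obtain ⟨u, hu⟩ := hUne
    let O := (fst X X).left ⁻¹' (U : Set X.left) ∩ (snd X X).left ⁻¹' (U : Set X.left)
    have hO : IsOpen O := (U.2.preimage (fst X X).left.continuous).inter (U.2.preimage (snd X X).left.continuous)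
    have hsub : O ⊆ Set.range (lift (snd G X) a.act).left := by
      rintro q ⟨h1, h2⟩
      obtain ⟨T, t, P, Q, hP, hQ, hPQ⟩ := GrpSch.OpenOrbit.exists_common (fst X X) j q ⟨_, h1⟩ rfl
      obtain ⟨T', t', P', Q', hP', hQ', hPQ'⟩ :=
        GrpSch.OpenOrbit.exists_common (P ≫ snd X X) j t (⟨_, h2⟩ : U) (by
          rw [Over.comp_left, Scheme.Hom.comp_apply, hP]; rfl)
      obtain ⟨r, hr⟩ := hs.surj ((lift (P' ≫ Q) Q').left t')
      refine ⟨(G ◁ j).left r, ?_⟩
      rw [← Scheme.Hom.comp_apply, ← Over.comp_left]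
      have e : (G ◁ j) ≫ lift (snd G X) a.act = lift (snd G XU) b.act ≫ (j ⊗ₘ j) := by
        apply CartesianMonoidalCategory.hom_ext
        · simp
        · simp only [Category.assoc, lift_snd, tensorHom_snd, lift_snd_assoc]
          exact hb
      rw [e, Over.comp_left, Scheme.Hom.comp_apply, hr, ← Scheme.Hom.comp_apply, ← Over.comp_left]
      have e2 : lift (P' ≫ Q) Q' ≫ (j ⊗ₘ j) = P' ≫ P := by
        apply CartesianMonoidalCategory.hom_ext
        · simp [hPQ]
        · rw [Category.assoc, tensorHom_snd, lift_snd_assoc, Category.assoc, ← hPQ']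
      rw [e2, Over.comp_left, Scheme.Hom.comp_apply, hP', hP]
    have hne : O.Nonempty := by
      obtain ⟨r, hr1, hr2⟩ := Scheme.Pullback.exists_preimage_pullback (f := X.hom) (g := X.hom) u u rfl
      exact ⟨r, by change (fst X X).left r ∈ U; exact hr1.symm ▸ hu,
        by change (snd X X).left r ∈ U; exact hr2.symm ▸ hu⟩
    exact ⟨(hO.dense hne).mono hsub⟩
  · suffices h : ∀ U U' : X.left.Opens, (U' : Set X.left).Nonempty →
        ((U : Set ↥X.left).Nonempty ∧ ∃ b : AlgGrp.Action G (Over.mk (U.ι ≫ X.hom)),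
          (G ◁ (Over.homMk U.ι rfl : Over.mk (U.ι ≫ X.hom) ⟶ X)) ≫ a.act = b.act ≫ Over.homMk U.ι rfl ∧
          Surjective (CartesianMonoidalCategory.lift (CartesianMonoidalCategory.snd G (Over.mk (U.ι ≫ X.hom))) b.act).left) →
        (∃ b' : AlgGrp.Action G (Over.mk (U'.ι ≫ X.hom)),
          (G ◁ (Over.homMk U'.ι rfl : Over.mk (U'.ι ≫ X.hom) ⟶ X)) ≫ a.act = b'.act ≫ Over.homMk U'.ι rfl) →
        U ≤ U' by
      intro U U' hU hU'
      obtain ⟨h1, b, hb, -⟩ := id hU
      obtain ⟨h1', b', hb', -⟩ := id hU'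
      exact le_antisymm (h U U' h1' hU ⟨b', hb'⟩) (h U' U h1 hU' ⟨b, hb⟩)
    rintro U U' hne' ⟨hne, b, hb, hs⟩ ⟨b', hb'⟩
    intro q hq
    let XU : Over (Spec (CommRingCat.of k)) := Over.mk (U.ι ≫ X.hom)
    let j : XU ⟶ X := Over.homMk U.ι rfl
    let XU' : Over (Spec (CommRingCat.of k)) := Over.mk (U'.ι ≫ X.hom)
    let j' : XU' ⟶ X := Over.homMk U'.ι rfl
    obtain ⟨z, hz, hz'⟩ := nonempty_preirreducible_inter U.2 U'.2 hne hne'
    obtain ⟨p, hp1, hp2⟩ := Scheme.Pullback.exists_preimage_pullback (f := XU.hom) (g := XU.hom)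
      (⟨z, hz⟩ : U) (⟨q, hq⟩ : U) (Subsingleton.elim (α := PrimeSpectrum k) _ _)
    obtain ⟨r, hr⟩ := hs.surj (p : (XU ⊗ XU).left)
    have e1 : (snd G XU).left r = (⟨z, hz⟩ : U) := by
      rw [← hp1]
      change _ = (fst XU XU).left p
      rw [← hr, ← Scheme.Hom.comp_apply (lift (snd G XU) b.act).left, ← Over.comp_left, lift_fst]
    have e2 : b.act.left r = (⟨q, hq⟩ : U) := by
      rw [← hp2]
      change _ = (snd XU XU).left p
      rw [← hr, ← Scheme.Hom.comp_apply (lift (snd G XU) b.act).left, ← Over.comp_left, lift_snd]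
    have e3 : (snd G X).left ((G ◁ j).left r) = z := by
      rw [← Scheme.Hom.comp_apply, ← Over.comp_left, whiskerLeft_snd, Over.comp_left, Scheme.Hom.comp_apply, e1]
      rfl
    have e4 : a.act.left ((G ◁ j).left r) = q := by
      rw [← Scheme.Hom.comp_apply, ← Over.comp_left, hb, Over.comp_left, Scheme.Hom.comp_apply, e2]
      rfl
    obtain ⟨T, t, P, Q, hP, hQ, hPQ⟩ := GrpSch.OpenOrbit.exists_common (snd G X) j' ((G ◁ j).left r)
      (⟨z, hz'⟩ : U') e3
    rw [← e4, ← hP, ← Scheme.Hom.comp_apply, ← Over.comp_left]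
    have : P ≫ a.act = (lift (P ≫ fst G X) Q ≫ b'.act) ≫ j' := by
      rw [Category.assoc, ← hb', lift_whiskerLeft_assoc, ← hPQ, ← comp_lift_assoc, lift_fst_snd,
        Category.id_comp]
    rw [this, Over.comp_left, Scheme.Hom.comp_apply]
    exact ((lift (P ≫ fst G X) Q ≫ b'.act).left t).2

end Groth.Agent.S14638
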