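import Groth.Statements.S14639
import Mathlib


set_option autoImplicit false
universe u
open Polynomial
open AlgGrp

namespace Groth.Agent.S14639

/-- Classification of the subalgebras of a truncated polynomial ring that are stable under the unipotent
substitutions, which is the algebraic step behind the classification of curves almost homogeneous
under the additive group in characteristic zero. Let k be a field of characteristic zero, N ≥ 0 and
R = k[u]/(u^(N+1)). The additive group acts on R through the substitutions u ↦ u/(1 + a u), a in k.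
If A is a k-subalgebra of R stable under all these substitutions (stated for every k-algebra
endomorphism σ of R with σ(u)(1 + a u) = u for some a in k), then there is an integer n with 1 ≤ n ≤
N + 1 such that A = k ⊕ (u^n): as a k-subspace, A is the span of 1 plus the ideal generated by u^n.
(In positive characteristic p and for N ≥ p + 1, the subalgebra generated by u^p is stable and not
of this form.) -/
theorem result (k : Type u) [Field k] [CharZero k]
    (N : ℕ) (A : Subalgebra k (AdjoinRoot ((Polynomial.X : Polynomial k) ^ (N + 1))))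
    (hA : ∀ (a : k) (σ : AdjoinRoot ((Polynomial.X : Polynomial k) ^ (N + 1)) →ₐ[k] AdjoinRoot ((Polynomial.X : Polynomial k) ^ (N + 1))),
      σ (AdjoinRoot.root ((Polynomial.X : Polynomial k) ^ (N + 1))) * (1 + algebraMap k (AdjoinRoot ((Polynomial.X : Polynomial k) ^ (N + 1))) a * AdjoinRoot.root ((Polynomial.X : Polynomial k) ^ (N + 1))) = AdjoinRoot.root ((Polynomial.X : Polynomial k) ^ (N + 1)) →
        A.map σ ≤ A) :
    ∃ n : ℕ, 1 ≤ n ∧ n ≤ N + 1 ∧
      Subalgebra.toSubmodule A =
        Submodule.span k {1} ⊔ (Ideal.span {AdjoinRoot.root ((Polynomial.X : Polynomial k) ^ (N + 1)) ^ n}).restrictScalars k := by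
  classical
  let R := AdjoinRoot ((Polynomial.X : Polynomial k) ^ (N + 1))
  let u : R := AdjoinRoot.root _
  have hu : u ^ (N + 1) = 0 := by
    have := AdjoinRoot.mk_self (f := (Polynomial.X : Polynomial k) ^ (N + 1))
    rwa [map_pow, AdjoinRoot.mk_X] at this
  have hnil : IsNilpotent u := ⟨_, hu⟩
  obtain ⟨w, hw⟩ : ∃ w : R, w * (1 + u) = 1 := (hnil.isUnit_one_add).exists_left_inv
  have hv : Polynomial.aeval (u * w) ((Polynomial.X : Polynomial k) ^ (N + 1)) = 0 := by simp [mul_pow, hu]
  let σ : R →ₐ[k] R := AdjoinRoot.liftAlgHom _ (Algebra.ofId k R) (u * w) hv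
  have hσu : σ u = u * w := AdjoinRoot.liftAlgHom_root _ _ _ hv
  have hσA : ∀ f ∈ A, σ f ∈ A := fun f hf => hA 1 σ (by
    change σ u * (1 + algebraMap k R 1 * u) = u
    rw [hσu, map_one, _root_.one_mul, _root_.mul_assoc, hw, _root_.mul_one]) ⟨f, hf, rfl⟩
  have dec : ∀ g : R, ∃ (c : k) (g' : R), g = algebraMap k R c + u * g' := fun g => by
    obtain ⟨q, rfl⟩ := AdjoinRoot.mk_surjective g
    refine ⟨q.coeff 0, AdjoinRoot.mk _ q.divX, ?_⟩
    conv_lhs => rw [← Polynomial.X_mul_divX_add q]
    rw [map_add, map_mul, AdjoinRoot.mk_X, AdjoinRoot.mk_C, AdjoinRoot.algebraMap_eq, _root_.add_comm]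
  have hd : ∀ g : R, ∃ z, σ g = g + u ^ 2 * z := fun g => by
    obtain ⟨q, rfl⟩ := AdjoinRoot.mk_surjective g
    rw [← AdjoinRoot.aeval_eq, ← Polynomial.aeval_algHom_apply, hσu]
    obtain ⟨z, hz⟩ := (q.map (algebraMap k R)).sub_dvd_eval_sub (u * w) u
    rw [Polynomial.eval_map_algebraMap, Polynomial.eval_map_algebraMap] at hz
    exact ⟨-(w * z), by linear_combination hz + u * z * hw⟩
  have hwpow : ∀ j : ℕ, ∃ t, w ^ j = 1 - (j : R) * u + u ^ 2 * t := fun j => by
    induction j with
    | zero => exact ⟨0, by simp⟩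
    | succ j ih =>
      obtain ⟨t, ht⟩ := ih
      refine ⟨t * w + (1 + (j : R)) * w, ?_⟩
      rw [pow_succ, ht]
      push_cast
      linear_combination (1 - (1 + (j : R)) * u) * hw
  let P : ℕ → Prop := fun j => ∃ r, u ^ j + u ^ (j + 1) * r ∈ A
  have htop : P (N + 1) := ⟨0, by rw [hu, mul_zero, add_zero]; exact A.zero_mem⟩
  have step : ∀ j, 1 ≤ j → P j → P (j + 1) := by
    rintro j hj ⟨r, hr⟩
    obtain ⟨t, ht⟩ := hwpow j
    obtain ⟨t', ht'⟩ := hwpow (j + 1)
    obtain ⟨z, hz⟩ := hd r
    have hmem := A.smul_mem (A.sub_mem (hσA _ hr) hr) (-(j : k)⁻¹)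
    have hj0 : (j : k) ≠ 0 := Nat.cast_ne_zero.2 (by omega)
    refine ⟨algebraMap k R (-(j : k)⁻¹) * (t + (-((j + 1 : ℕ) : R) + u * t') * σ r + u * z), ?_⟩
    convert hmem using 1
    rw [map_add, map_mul, map_pow, map_pow, hσu, mul_pow, mul_pow, ht, ht', hz, Algebra.smul_def]
    have hinv : algebraMap k R (-(j : k)⁻¹) * (j : R) = -1 := by
      rw [← map_natCast (algebraMap k R), ← map_mul, neg_mul, inv_mul_cancel₀ hj0, map_neg, map_one]
    linear_combination (u ^ (j + 1)) * hinv
  have hex : ∃ j, 1 ≤ j ∧ P j := ⟨N + 1, by omega, htop⟩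
  let n := Nat.find hex
  have hn1 : 1 ≤ n := (Nat.find_spec hex).1
  have hnN : n ≤ N + 1 := Nat.find_min' hex ⟨by omega, htop⟩
  have hup : ∀ j, n ≤ j → P j := fun j hj => by
    induction j, hj using Nat.le_induction with
    | base => exact (Nat.find_spec hex).2
    | succ j hj ih => exact step j (by omega) ih
  have hideal : ∀ d j, n ≤ j → N + 1 ≤ j + d → ∀ g : R, u ^ j * g ∈ A := by
    intro d
    induction d with
    | zero =>
      intro j _ hd g
      obtain ⟨e, rfl⟩ := Nat.exists_eq_add_of_le (show N + 1 ≤ j by omega)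
      have : u ^ (N + 1 + e) * g = 0 := by rw [pow_add u (N + 1) e, hu]; simp
      rw [this]; exact A.zero_mem
    | succ d ih =>
      intro j hj hd g
      obtain ⟨c, g', rfl⟩ := dec g
      obtain ⟨r, hr⟩ := hup j hj
      have h := A.add_mem (A.smul_mem (A.sub_mem hr (ih (j + 1) (by omega) (by omega) r)) c) (ih (j + 1) (by omega) (by omega) g')
      convert h using 1
      rw [Algebra.smul_def]; ring
  refine ⟨n, hn1, hnN, le_antisymm (fun f hf => ?_) (sup_le ?_ ?_)⟩
  · obtain ⟨c, g', rfl⟩ := dec f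
    have hg : u * g' ∈ A := by
      have h := A.sub_mem hf (A.algebraMap_mem c)
      rwa [add_sub_cancel_left] at h
    have key : ∀ i, i + 1 ≤ n → ∃ h, u * g' = u ^ (i + 1) * h := by
      intro i
      induction i with
      | zero => exact fun _ => ⟨g', by simp⟩
      | succ i ih =>
        intro hi
        obtain ⟨h, hh⟩ := ih (by omega)
        obtain ⟨c', h', rfl⟩ := dec h
        by_cases hc : c' = 0
        · exact ⟨h', by rw [hh, hc, map_zero]; ring⟩
        · refine absurd ⟨algebraMap k R c'⁻¹ * h', ?_⟩ (fun hP : P (i + 1) => Nat.find_min hex (show i + 1 < n by omega) ⟨by omega, hP⟩)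
          convert A.smul_mem hg c'⁻¹ using 1
          have hone : algebraMap k R c'⁻¹ * algebraMap k R c' = 1 := by rw [← map_mul, inv_mul_cancel₀ hc, map_one]
          rw [hh, Algebra.smul_def]
          linear_combination -(u ^ (i + 1)) * hone
    obtain ⟨h, hh⟩ := key (n - 1) (by omega)
    rw [Nat.sub_add_cancel hn1] at hh
    refine Submodule.add_mem_sup (Submodule.mem_span_singleton.2 ⟨c, by rw [Algebra.smul_def, _root_.mul_one]⟩) ?_
    exact Ideal.mem_span_singleton.2 ⟨h, hh⟩
  · rw [Submodule.span_le, Set.singleton_subset_iff]; exact A.one_mem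
  · intro x hx
    obtain ⟨g, rfl⟩ := Ideal.mem_span_singleton.1 hx
    exact hideal (N + 1) n le_rfl (by omega) g

end Groth.Agent.S14639
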