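import Groth.Statements.S14652
import Mathlib.RingTheory.Polynomial.UniqueFactorization
import Mathlib.RingTheory.Polynomial.IsIntegral
import Mathlib.RingTheory.IntegralClosure.IntegrallyClosed
import Mathlib.RingTheory.Polynomial.Basic
import Mathlib.Algebra.Polynomial.Degree.TrailingDegree

set_option autoImplicit false
universe u
open FiltBl

namespace Groth.Agent.S14652

/-- Let A be a Noetherian integrally closed domain with fraction field K, let v_1, …, v_s be finitely
many valuations on K with values in ℤ ∪ {∞} (written additively) that are non-negative on A, and let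
r_i = p_i / q_i be positive rationals (p_i, q_i positive integers). Let F be the filtration of
ideals of A given by F^k = {x ∈ A | q_i · v_i(x) ≥ k · p_i for every i}. Then the Rees algebra ⊕_{k
≥ 0} F^k X^k ⊆ A[X] is an integrally closed domain (it need not be Noetherian). -/
theorem result (A K : Type u) [CommRing A] [IsDomain A]
    [IsNoetherianRing A] [IsIntegrallyClosed A] [Field K] [Algebra A K] [IsFractionRing A K]
    (ι : Type) [Finite ι] (v : ι → AddValuation K (WithTop ℤ))
    (hv : ∀ (i : ι) (x : A), 0 ≤ v i (algebraMap A K x)) (p q : ι → ℕ) (hp : ∀ i, 0 < p i)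
    (hq : ∀ i, 0 < q i) (𝓕 : FiltBl.IdealFiltration A)
    (hF : ∀ (k : ℕ) (x : A), x ∈ 𝓕.F k ↔
      ∀ i, ((k * p i : ℕ) : WithTop ℤ) ≤ (q i : WithTop ℤ) * v i (algebraMap A K x)) :
    IsIntegrallyClosed 𝓕.rees := by
  classical
  let ρ := 𝓕.rees
  have hInt : ∀ f : Polynomial A, IsIntegral ρ f → (∃ b ∈ ρ, b ≠ 0 ∧ f * b ∈ ρ) → f ∈ ρ := by
    intro f
    induction hs : f.support.card using Nat.strong_induction_on generalizing f with
    | _ n IH =>
      intro hf hb
      by_cases h0 : f = 0
      · subst h0; exact ρ.zero_mem
      obtain ⟨b, hbρ, hb0, hfb⟩ := hb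
      obtain ⟨P, hP, hPf⟩ := hf
      let d := P.natDegree
      have hN : ∀ N : ℕ, b ^ d * f ^ N ∈ ρ := by
        intro N
        have e : f ^ N = Polynomial.aeval f ((Polynomial.X : Polynomial ρ) ^ N %ₘ P) := by
          have h := congrArg (Polynomial.aeval f) (Polynomial.modByMonic_add_div ((Polynomial.X : Polynomial ρ) ^ N) P)
          rw [map_add, map_mul, show Polynomial.aeval f P = 0 from hPf, zero_mul, add_zero, Polynomial.aeval_X_pow] at h
          exact h.symm
        rw [e, Polynomial.aeval_eq_sum_range, Finset.mul_sum]
        refine ρ.sum_mem fun j _ => ?_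
        by_cases hj : ((Polynomial.X : Polynomial ρ) ^ N %ₘ P).coeff j = 0
        · rw [hj, zero_smul, mul_zero]; exact ρ.zero_mem
        have hjd : j ≤ d := (Polynomial.le_natDegree_of_ne_zero hj).trans (Polynomial.natDegree_modByMonic_le _ hP)
        rw [Algebra.smul_def, mul_left_comm, show b ^ d = b ^ (d - j) * b ^ j by rw [← pow_add, Nat.sub_add_cancel hjd],
          mul_assoc (b ^ (d - j)), ← mul_pow, mul_comm b f]
        exact ρ.mul_mem (SetLike.coe_mem _) (ρ.mul_mem (ρ.pow_mem hbρ _) (ρ.pow_mem hfb _))
      let c := b ^ d
      have hc : c ≠ 0 := pow_ne_zero _ hb0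
      have hgood : f.trailingCoeff ∈ 𝓕.F f.natTrailingDegree := by
        rw [hF]
        intro i
        let m0 := c.natTrailingDegree
        let k0 := f.natTrailingDegree
        have ha0 : algebraMap A K f.trailingCoeff ≠ 0 := fun h =>
          (Polynomial.trailingCoeff_eq_zero.not.2 h0) ((IsFractionRing.injective A K) (h.trans (map_zero _).symm))
        have hc0 : algebraMap A K c.trailingCoeff ≠ 0 := fun h =>
          (Polynomial.trailingCoeff_eq_zero.not.2 hc) ((IsFractionRing.injective A K) (h.trans (map_zero _).symm))
        obtain ⟨α, hα⟩ := WithTop.ne_top_iff_exists.1 (show v i (algebraMap A K f.trailingCoeff) ≠ ⊤ from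
          fun h => ha0 (((v i).top_iff).1 h))
        obtain ⟨γ, hγ⟩ := WithTop.ne_top_iff_exists.1 (show v i (algebraMap A K c.trailingCoeff) ≠ ⊤ from
          fun h => hc0 (((v i).top_iff).1 h))
        have key : ∀ N : ℕ, (((m0 + N * k0) * p i : ℕ) : ℤ) ≤ (q i : ℤ) * (γ + N * α) := by
          intro N
          have htd : (c * f ^ N).natTrailingDegree = m0 + N * k0 := by
            induction N with
            | zero => simp [m0]
            | succ N ih =>
              rw [pow_succ, ← mul_assoc, Polynomial.natTrailingDegree_mul (mul_ne_zero hc (pow_ne_zero _ h0)) h0, ih]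
              ring
          have htc : (c * f ^ N).trailingCoeff = c.trailingCoeff * f.trailingCoeff ^ N := by
            induction N with
            | zero => simp
            | succ N ih =>
              rw [pow_succ, ← mul_assoc, Polynomial.trailingCoeff_mul, pow_succ, ← mul_assoc]
              congr 1
              exact ih (by
                have h := htd
                rw [pow_succ, ← mul_assoc, Polynomial.natTrailingDegree_mul (mul_ne_zero hc (pow_ne_zero _ h0)) h0] at h
                have : (c * f ^ N).natTrailingDegree + k0 = m0 + (N + 1) * k0 := h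
                rw [add_mul, one_mul] at this
                omega)
          have hm := hN N (m0 + N * k0)
          rw [← htd] at hm
          change (c * f ^ N).trailingCoeff ∈ 𝓕.F _ at hm
          rw [hF, htd, htc] at hm
          have hmi := hm i
          rw [map_mul, map_pow, AddValuation.map_mul, AddValuation.map_pow, ← hα, ← hγ, ← WithTop.coe_nsmul,
            ← WithTop.coe_add] at hmi
          have : (((m0 + N * k0) * p i : ℕ) : ℤ) ≤ (q i : ℤ) * (γ + N • α) := WithTop.coe_le_coe.1 (by
            push_cast
            exact_mod_cast hmi)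
          simpa [nsmul_eq_mul] using this
        rw [← hα]
        have goal' : ((k0 * p i : ℕ) : ℤ) ≤ (q i : ℤ) * α := by
          by_contra hlt
          push_neg at hlt
          have h1 := key ((q i : ℤ) * γ).toNat.succ
          push_cast at h1 hlt
          have h2 : ((q i : ℤ) * γ) ≤ (((q i : ℤ) * γ).toNat : ℤ) := Int.self_le_toNat _
          nlinarith [mul_nonneg (Int.natCast_nonneg m0) (Int.natCast_nonneg (p i))]
        rw [← WithTop.coe_natCast, ← WithTop.coe_natCast (q i), ← WithTop.coe_mul, WithTop.coe_le_coe]
        exact goal'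
      let mo : Polynomial A := Polynomial.monomial f.natTrailingDegree f.trailingCoeff
      have hmo : mo ∈ ρ := by
        intro k
        rw [Polynomial.coeff_monomial]
        split_ifs with hk
        · exact hk ▸ hgood
        · exact zero_mem _
      have herase : f - mo = f.erase f.natTrailingDegree := by
        rw [sub_eq_iff_eq_add']; exact (Polynomial.monomial_add_erase f _).symm
      have hlt : (f - mo).support.card < n := by
        rw [herase, Polynomial.support_erase, ← hs]
        exact Finset.card_erase_lt_of_mem (Polynomial.natTrailingDegree_mem_support_of_nonzero h0)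
      have h2 := IH _ hlt (f - mo) rfl (IsIntegral.sub ⟨P, hP, hPf⟩ (isIntegral_algebraMap (x := (⟨mo, hmo⟩ : ρ))))
        ⟨b, hbρ, hb0, by rw [sub_mul]; exact ρ.sub_mem hfb (ρ.mul_mem hmo hbρ)⟩
      simpa using ρ.add_mem h2 hmo
  rw [isIntegrallyClosed_iff (FractionRing ρ)]
  intro z hz
  let j : FractionRing ρ →+* FractionRing (Polynomial A) :=
    IsFractionRing.lift (g := (algebraMap (Polynomial A) (FractionRing (Polynomial A))).comp ρ.val.toRingHom)
      ((IsFractionRing.injective (Polynomial A) (FractionRing (Polynomial A))).comp Subtype.val_injective)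
  have hj : ∀ r : ρ, j (algebraMap ρ _ r) = algebraMap (Polynomial A) _ (r : Polynomial A) := fun r => IsFractionRing.lift_algebraMap _ r
  obtain ⟨P, hP, hPz⟩ := hz
  have hz' : IsIntegral (Polynomial A) (j z) := by
    refine ⟨P.map ρ.val.toRingHom, hP.map _, ?_⟩
    rw [Polynomial.eval₂_map]
    have h := congrArg j hPz
    rw [Polynomial.hom_eval₂, map_zero] at h
    refine Eq.trans ?_ h
    congr 1
    exact RingHom.ext fun r => (hj r).symm
  obtain ⟨f, hf⟩ := IsIntegrallyClosed.isIntegral_iff.1 hz'
  obtain ⟨a, b, hb, rfl⟩ := IsFractionRing.div_surjective (A := ρ) z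
  have hfb : f * (b : Polynomial A) = a := by
    apply IsFractionRing.injective (Polynomial A) (FractionRing (Polynomial A))
    rw [map_mul, hf, map_div₀, hj, hj, div_mul_cancel₀]
    exact fun h => (nonZeroDivisors.ne_zero hb) (Subtype.ext ((IsFractionRing.injective (Polynomial A) (FractionRing (Polynomial A))) (h.trans (map_zero _).symm)))
  have hfi : IsIntegral ρ f := by
    refine ⟨P, hP, ?_⟩
    apply IsFractionRing.injective (Polynomial A) (FractionRing (Polynomial A))
    rw [Polynomial.hom_eval₂, map_zero, hf]
    have h := congrArg j hPz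
    rw [Polynomial.hom_eval₂, map_zero] at h
    convert h using 2
    exact RingHom.ext fun r => (hj r).symm
  refine ⟨⟨f, hInt f hfi ⟨b, b.2, fun h => nonZeroDivisors.ne_zero hb (Subtype.ext h), hfb ▸ a.2⟩⟩, ?_⟩
  apply j.injective
  rw [hj]
  exact hf

end Groth.Agent.S14652
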