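import Groth.Statements.S14654
import Mathlib.AlgebraicGeometry.ProjectiveSpectrum.Basic
import Mathlib.RingTheory.IntegralClosure.IntegrallyClosed
import Mathlib.RingTheory.GradedAlgebra.HomogeneousLocalization

set_option autoImplicit false
universe u
open FiltBl

namespace Groth.Agent.S14654

open AlgebraicGeometry in
/-- Let A be a Noetherian ℕ-graded commutative ring which is normal, i.e. every localization of A at a
prime ideal is an integrally closed domain. Then the scheme Proj A is normal: every local ring of
Proj A is an integrally closed domain. -/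
theorem result (A : Type u) [CommRing A] [IsNoetherianRing A]
    (𝒜 : ℕ → AddSubgroup A) [GradedRing 𝒜]
    (hA : ∀ (p : Ideal A) [p.IsPrime], IsDomain (Localization.AtPrime p) ∧
      IsIntegrallyClosed (Localization.AtPrime p))
    (x : Proj 𝒜) :
    IsDomain ((Proj 𝒜).presheaf.stalk x) ∧ IsIntegrallyClosed ((Proj 𝒜).presheaf.stalk x) := by
  classical
  let p : Ideal A := x.asHomogeneousIdeal.toIdeal
  haveI : p.IsPrime := x.isPrime
  obtain ⟨hdom, hic⟩ := hA p
  let B := HomogeneousLocalization.AtPrime 𝒜 p
  let L := Localization.AtPrime p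
  let v : B →+* L := algebraMap B L
  have hv : Function.Injective v := HomogeneousLocalization.val_injective _
  haveI : IsDomain B := hv.isDomain v
  have desc : ∀ (b c : B) (w : L), v b = w * v c → ∃ d : B, b = d * c := by
    intro b c w h
    obtain ⟨⟨i, a, s, hs⟩, rfl⟩ := HomogeneousLocalization.mk_surjective b
    obtain ⟨⟨i', a', s', hs'⟩, rfl⟩ := HomogeneousLocalization.mk_surjective c
    obtain ⟨u, t, rfl⟩ := IsLocalization.exists_mk'_eq p.primeCompl w
    change (HomogeneousLocalization.mk _).val = _ * (HomogeneousLocalization.mk _).val at h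
    rw [HomogeneousLocalization.val_mk, HomogeneousLocalization.val_mk, Localization.mk_eq_mk',
      ← IsLocalization.mk'_mul, IsLocalization.mk'_eq_iff_eq, IsLocalization.eq_iff_exists p.primeCompl] at h
    obtain ⟨r, hr⟩ := h
    simp only [Submonoid.coe_mul] at hr
    let T : A := r * t
    let U : A := r * u
    have hT : T ∉ p := (r * t).2
    obtain ⟨k, hk⟩ : ∃ k, (DirectSum.decompose 𝒜 T k : A) ∉ p := by
      by_contra hno
      push_neg at hno
      exact hT (by rw [← DirectSum.sum_support_decompose 𝒜 T]; exact Ideal.sum_mem _ fun j _ => hno j)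
    let Tk : 𝒜 k := DirectSum.decompose 𝒜 T k
    let Uk : 𝒜 k := DirectSum.decompose 𝒜 U k
    have e : T * ((a : A) * s') = U * ((a' : A) * s) := by simp only [T, U]; linear_combination hr
    have e' := congrArg (fun z => (DirectSum.decompose 𝒜 z (k + (i + i')) : A)) e
    simp only at e'
    rw [DirectSum.coe_decompose_mul_add_of_right_mem 𝒜 (SetLike.mul_mem_graded a.2 s'.2),
      DirectSum.coe_decompose_mul_add_of_right_mem 𝒜 (show (a' : A) * s ∈ 𝒜 (i + i') from add_comm i' i ▸ SetLike.mul_mem_graded a'.2 s.2)] at e'
    refine ⟨HomogeneousLocalization.mk ⟨k, Uk, Tk, hk⟩, hv ?_⟩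
    rw [map_mul]
    show (HomogeneousLocalization.mk _).val = (HomogeneousLocalization.mk _).val * (HomogeneousLocalization.mk _).val
    rw [HomogeneousLocalization.val_mk, HomogeneousLocalization.val_mk, HomogeneousLocalization.val_mk,
      Localization.mk_mul, Localization.mk_eq_mk', IsLocalization.mk'_eq_iff_eq]
    congr 1
    simp only [Submonoid.coe_mul, Tk, Uk]
    linear_combination e'
  haveI : IsIntegrallyClosed B := by
    rw [isIntegrallyClosed_iff (FractionRing B)]
    intro z hz
    haveI := hdom; haveI := hic
    let j : FractionRing B →+* FractionRing L :=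
      IsFractionRing.lift (g := (algebraMap L (FractionRing L)).comp v)
        ((IsFractionRing.injective L (FractionRing L)).comp hv)
    have hj : ∀ r : B, j (algebraMap B _ r) = algebraMap L _ (v r) := fun r => IsFractionRing.lift_algebraMap _ r
    obtain ⟨P, hP, hPz⟩ := hz
    have hz' : IsIntegral L (j z) := by
      refine ⟨P.map v, hP.map _, ?_⟩
      rw [Polynomial.eval₂_map]
      have h := congrArg j hPz
      rw [Polynomial.hom_eval₂, map_zero] at h
      refine Eq.trans ?_ h
      congr 1
      exact RingHom.ext fun r => (hj r).symm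
    obtain ⟨w, hw⟩ := IsIntegrallyClosed.isIntegral_iff.1 hz'
    obtain ⟨b, c, hc, rfl⟩ := IsFractionRing.div_surjective (A := B) z
    have hc0 : algebraMap B (FractionRing B) c ≠ 0 := IsFractionRing.to_map_ne_zero_of_mem_nonZeroDivisors hc
    have hbc : v b = w * v c := by
      apply IsFractionRing.injective L (FractionRing L)
      rw [map_mul, hw, map_div₀, hj, hj, div_mul_cancel₀]
      rw [← hj]
      exact fun h => hc0 (j.injective (h.trans (map_zero j).symm))
    obtain ⟨d, rfl⟩ := desc b c w hbc
    exact ⟨d, by rw [map_mul, mul_div_assoc, div_self hc0, mul_one]⟩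
  let e := (AlgebraicGeometry.Proj.stalkIso 𝒜 x).commRingCatIsoToRingEquiv
  exact ⟨e.toMulEquiv.isDomain B, IsIntegrallyClosed.of_equiv e.symm⟩

end Groth.Agent.S14654
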