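import Groth.Statements.S14666
import Groth.Agent.GrpSch.Contraction

set_option autoImplicit false
universe u
open CategoryTheory CategoryTheory.Limits AlgebraicGeometry
open AbSch

open Groth.Agent.GrpSch
namespace Groth.Agent.S14666

/-- Let S be a locally Noetherian scheme, ξ : X ⟶ S a proper morphism all of whose geometric fibres are
integral and for which O_S ⟶ ξ_*O_X is an isomorphism (the map Γ(U, O_S) → Γ(ξ⁻¹U, O_X) is bijective
for every open U of S), v : Y ⟶ S an arbitrary S-scheme and f : X ⟶ Y a morphism over S. Let U be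
the set of points s of S such that f sends every point of the fibre ξ⁻¹(s) to one and the same point
of Y. Then U is open in S, and for every morphism τ : T ⟶ S the base change of f to T factors
through the projection X ×_S T ⟶ T — that is, there is r : T ⟶ Y with r ≫ v = τ and fst ≫ f = snd ≫
r on X ×_S T — if and only if τ maps every point of T into U. -/
theorem result {X Y S : Scheme.{u}} [IsLocallyNoetherian S]
    (ξ : X ⟶ S) [IsProper ξ] [GeometricallyIntegral ξ]
    (h0 : ∀ U : S.Opens, Function.Bijective (ξ.app U).hom)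
    (v : Y ⟶ S) (f : X ⟶ Y) (hf : f ≫ v = ξ) :
    IsOpen {s : ↥S | ∃ y : ↥Y, ∀ x : ↥X, ξ.base x = s → f.base x = y} ∧
    ∀ (T : Scheme.{u}) (τ : T ⟶ S),
      ((∃ r : T ⟶ Y, r ≫ v = τ ∧ pullback.fst ξ τ ≫ f = pullback.snd ξ τ ≫ r) ↔
        ∀ t : ↥T, τ.base t ∈ {s : ↥S | ∃ y : ↥Y, ∀ x : ↥X, ξ.base x = s → f.base x = y}) := by
  let U : Set S := {s : ↥S | ∃ y : ↥Y, ∀ x : ↥X, ξ.base x = s → f.base x = y}
  have hc : Contraction.IsConn ξ := fun V => (ConcreteCategory.isIso_iff_bijective _).2 (h0 V)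
  have hU : U = Contraction.locus ξ f := by
    ext s
    refine ⟨fun ⟨y, hy⟩ => Contraction.mem_locus_of_const hc f s fun x x' hx hx' =>
      (hy x hx).trans (hy x' hx').symm, fun hs => ?_⟩
    obtain ⟨O, W, hW, hsO, hO⟩ := Contraction.exists_tube f hs
    obtain ⟨g, hg⟩ := Contraction.exists_desc_tube hc f O W hW hO
    refine ⟨g ⟨s, hsO⟩, fun x hx => ?_⟩
    have := congrArg (fun m : (ξ ⁻¹ᵁ O).toScheme ⟶ Y => m ⟨x, show ξ x ∈ O from hx ▸ hsO⟩) hg
    simp only [Scheme.Hom.comp_apply] at this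
    rw [show f.base x = f x from rfl, show f x = f ((ξ ⁻¹ᵁ O).ι ⟨x, show ξ x ∈ O from hx ▸ hsO⟩) from rfl, ← this]
    congr 1
    exact Subtype.ext ((congrArg (fun m : _ ⟶ S => m _) (morphismRestrict_ι ξ O)).trans hx)
  have hUo : IsOpen U := by rw [hU]; exact Contraction.isOpen_locus f
  refine ⟨hUo, fun T τ => ⟨fun ⟨r, hr, hfr⟩ t => ?_, fun h => ?_⟩⟩
  · refine ⟨r t, fun x hx => ?_⟩
    obtain ⟨z, hz1, hz2⟩ := Scheme.Pullback.exists_preimage_pullback x t (f := ξ) (g := τ) hx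
    rw [← hz1, ← hz2]
    exact congrArg (fun m : pullback ξ τ ⟶ Y => m z) hfr
  · let Uo : S.Opens := ⟨U, hUo⟩
    have hcr := Contraction.morphismRestrict hc Uo
    obtain ⟨g, hg, -⟩ := Contraction.existsUnique_desc hcr ((ξ ⁻¹ᵁ Uo).ι ≫ f) (fun y => by
      obtain ⟨y0, hy0⟩ := y.2
      refine Contraction.mem_locus_of_const hcr _ y fun x x' hx hx' => ?_
      rw [Scheme.Hom.comp_apply, Scheme.Hom.comp_apply]
      refine (hy0 _ ?_).trans (hy0 _ ?_).symm
      · rw [← hx]; exact (congrArg (fun m : _ ⟶ S => m x) (morphismRestrict_ι ξ Uo)).symm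
      · rw [← hx']; exact (congrArg (fun m : _ ⟶ S => m x') (morphismRestrict_ι ξ Uo)).symm)
    haveI := Contraction.epi hcr
    have hgv : g ≫ v = Uo.ι := by
      rw [← cancel_epi (ξ ∣_ Uo), ← Category.assoc, hg, Category.assoc, hf, morphismRestrict_ι]
    let τ' := IsOpenImmersion.lift Uo.ι τ (by
      rintro _ ⟨t, rfl⟩; rw [Scheme.Opens.range_ι]; exact h t)
    have hτ : τ' ≫ Uo.ι = τ := IsOpenImmersion.lift_fac _ _ _
    refine ⟨τ' ≫ g, by rw [Category.assoc, hgv, hτ], ?_⟩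
    obtain ⟨l, hl1, hl2⟩ : ∃ l, l ≫ ξ ∣_ Uo = pullback.snd ξ τ ≫ τ' ∧ l ≫ (ξ ⁻¹ᵁ Uo).ι = pullback.fst ξ τ :=
      ⟨(isPullback_morphismRestrict ξ Uo).lift (pullback.snd ξ τ ≫ τ') (pullback.fst ξ τ) (by
          rw [Category.assoc, hτ, pullback.condition]),
        IsPullback.lift_fst _ _ _ _, IsPullback.lift_snd _ _ _ _⟩
    rw [← hl2, Category.assoc, ← hg, ← Category.assoc, hl1, Category.assoc]

end Groth.Agent.S14666
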