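import Groth.Statements.S14668
import Groth.Agent.GrpSch.ProjShear
import Groth.Agent.GrpSch.RigidityNoSection
import Groth.Agent.FpqcDescent.Flat

set_option autoImplicit false
set_option backward.isDefEq.respectTransparency.types false
universe u
open CategoryTheory CategoryTheory.Limits MonoidalCategory CartesianMonoidalCategory MonObj GrpObj AlgebraicGeometry
open AbSch

namespace Groth.Agent.S14668

/-- Let S be a locally Noetherian scheme, A an abelian scheme over S (an S-group scheme whose structure
morphism is proper and flat with geometrically integral fibres), and P an S-scheme whose structure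
morphism is proper and flat and whose geometric fibres are projective spaces: for every
algebraically closed field K and every K-point of S, the fibre P ×_S Spec K is isomorphic over Spec
K to projective n-space over K for some n. Then every S-morphism P ⟶ A factors through the structure
morphism of P: it is the composite of P ⟶ S with a section S ⟶ A. -/
theorem result {S : Scheme.{u}} [IsLocallyNoetherian S]
    (A : Over S) [GrpObj A] [IsProper A.hom] [Flat A.hom] [GeometricallyIntegral A.hom]
    (P : Over S) [IsProper P.hom] [Flat P.hom]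
    (hP : ∀ (K : Type u) [Field K] [IsAlgClosed K] (s : Spec (CommRingCat.of K) ⟶ S),
      ∃ (n : ℕ) (e : pullback P.hom s ≅ CohB1.ProjSpace n K), e.hom ≫ CohB1.ProjSpace.toSpec n K = pullback.snd P.hom s)
    (φ : P ⟶ A) :
    ∃ a : 𝟙_ (Over S) ⟶ A, φ = toUnit P ≫ a := by
  haveI : LocallyOfFinitePresentation P.hom := inferInstance
  -- geometric fibres are integral and map to a point
  have hgeo : ∀ (K : Type u) [Field K] [IsAlgClosed K] (s : Spec (CommRingCat.of K) ⟶ S),
      IsIntegral (pullback P.hom s) ∧ ∀ z z' : ↥(pullback P.hom s),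
        (pullback.fst P.hom s ≫ φ.left) z = (pullback.fst P.hom s ≫ φ.left) z' := by
    intro K _ _ s
    obtain ⟨n, e, he⟩ := hP K s
    obtain ⟨m, hm, hm'⟩ := Groth.Agent.ProjBC.exists_iso n K
    haveI := hm
    have hI : IsIntegral (Proj (CohB1.polyGrading n K)) :=
      (Groth.Agent.EGA2G.proj_isIntegral_iff _ fun f _ h => h.eq_zero).2
        ⟨⟨MvPolynomial.X 0, HomogeneousIdeal.mem_irrelevant_of_mem _ one_pos (MvPolynomial.isHomogeneous_X K 0),
          MvPolynomial.X_ne_zero 0⟩, fun f _ g _ h => mul_eq_zero.1 h⟩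
    haveI : IsIntegral (CohB1.ProjSpace n K) := hI
    haveI : Nonempty ↥(pullback P.hom s) := ⟨e.inv (Classical.arbitrary _)⟩
    refine ⟨isIntegral_of_isOpenImmersion e.hom, fun z z' => ?_⟩
    let G : Over (Spec (CommRingCat.of K)) := (Over.pullback s).obj A
    haveI : IsSeparated G.hom := inferInstanceAs (IsSeparated (pullback.snd A.hom s))
    haveI : GrpObj G := Functor.grpObjObj
    let d : (pullback P.hom s) ⟶ (Groth.Agent.GrpSch.ProjShear.pX n (Spec (CommRingCat.of K))).left := e.hom ≫ m
    have hd : d ≫ (Groth.Agent.GrpSch.ProjShear.pX n (Spec (CommRingCat.of K))).hom = pullback.snd P.hom s := by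
      rw [← he, Category.assoc]
      exact congrArg (e.hom ≫ ·) hm'
    let ψ : Groth.Agent.GrpSch.ProjShear.pX n (Spec (CommRingCat.of K)) ⟶ G :=
      Over.homMk (inv d ≫ ((Over.pullback s).map φ).left) (by
        rw [Category.assoc, IsIso.inv_comp_eq]
        exact (Over.w ((Over.pullback s).map φ)).trans hd.symm)
    have hψ := Groth.Agent.GrpSch.ProjShear.hom_projSpace_eq_const n G ψ
    have h1 : pullback.fst P.hom s ≫ φ.left = d ≫ ψ.left ≫ pullback.fst A.hom s := by
      simp only [ψ, Over.homMk_left, Category.assoc, IsIso.hom_inv_id_assoc]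
      exact (pullback.lift_fst _ _ _).symm
    rw [h1, hψ]
    simp only [Over.comp_left, Scheme.Hom.comp_apply]
    congr 3
    exact @Subsingleton.elim _ (inferInstanceAs (Subsingleton (PrimeSpectrum K))) _ _
  have hcl : ∀ (K : Type u) [Field K] (y : Spec (CommRingCat.of K) ⟶ S),
      AlgebraicGeometry.IsReduced (pullback P.hom y) ∧ ConnectedSpace ↥(pullback P.hom y) := by
    intro K _ y
    let c : Spec (CommRingCat.of (AlgebraicClosure K)) ⟶ Spec (CommRingCat.of K) :=
      Spec.map (CommRingCat.ofHom (algebraMap K (AlgebraicClosure K)))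
    haveI : Surjective c := ⟨fun x => ⟨IsLocalRing.closedPoint (AlgebraicClosure K),
      @Subsingleton.elim _ (inferInstanceAs (Subsingleton (PrimeSpectrum K))) _ _⟩⟩
    haveI : IsIntegral (pullback P.hom (c ≫ y)) := (hgeo (AlgebraicClosure K) (c ≫ y)).1
    let g : pullback P.hom (c ≫ y) ⟶ pullback P.hom y :=
      (pullbackLeftPullbackSndIso P.hom y c).inv ≫ pullback.fst (pullback.snd P.hom y) c
    haveI : Flat g := inferInstance
    haveI : Surjective g := inferInstance
    refine ⟨Groth.Agent.FpqcDescent.isReduced_of_flat_surjective g, ?_⟩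
    haveI : ConnectedSpace ↥(pullback P.hom (c ≫ y)) := inferInstance
    exact g.surjective.connectedSpace g.continuous
  haveI : GeometricallyReduced P.hom :=
    ⟨fun K _ y Z a b h => by
      haveI := (hcl K y).1
      exact isReduced_of_isOpenImmersion h.isoPullback.hom⟩
  haveI : GeometricallyConnected P.hom :=
    ⟨fun K _ y Z a b h => by
      haveI := (hcl K y).2
      exact h.isoPullback.inv.surjective.connectedSpace h.isoPullback.inv.continuous⟩
  have hfib : ∀ x x' : ↥P.left, P.hom x = P.hom x' → φ.left x = φ.left x' := by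
    intro x x' hxx
    let t := P.hom x
    let s : Spec (CommRingCat.of (AlgebraicClosure (S.residueField t))) ⟶ S :=
      Spec.map (CommRingCat.ofHom (algebraMap (S.residueField t) (AlgebraicClosure (S.residueField t)))) ≫
        S.fromSpecResidueField t
    have hs : s (IsLocalRing.closedPoint _) = t := S.fromSpecResidueField_apply t _
    obtain ⟨z, hz, -⟩ := Scheme.Pullback.exists_preimage_pullback (f := P.hom) (g := s) x
      (IsLocalRing.closedPoint _) hs.symm
    obtain ⟨z', hz', -⟩ := Scheme.Pullback.exists_preimage_pullback (f := P.hom) (g := s) x'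
      (IsLocalRing.closedPoint _) (hxx.symm.trans hs.symm)
    rw [← hz, ← hz', ← Scheme.Hom.comp_apply, ← Scheme.Hom.comp_apply]
    exact (hgeo _ s).2 z z'
  haveI : Surjective P.hom := ⟨fun t => by
    let s : Spec (CommRingCat.of (AlgebraicClosure (S.residueField t))) ⟶ S :=
      Spec.map (CommRingCat.ofHom (algebraMap (S.residueField t) (AlgebraicClosure (S.residueField t)))) ≫
        S.fromSpecResidueField t
    haveI := (hgeo _ s).1
    let z : ↥(pullback P.hom s) := Classical.arbitrary _
    refine ⟨pullback.fst P.hom s z, ?_⟩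
    rw [← Scheme.Hom.comp_apply, pullback.condition]
    exact S.fromSpecResidueField_apply t _⟩
  let σ : P.left ⟶ pullback P.hom P.hom := pullback.lift (𝟙 _) (𝟙 _) rfl
  have hσ : σ ≫ pullback.snd P.hom P.hom = 𝟙 _ := pullback.lift_snd _ _ _
  have hσ1 : σ ≫ pullback.fst P.hom P.hom = 𝟙 _ := pullback.lift_fst _ _ _
  have hfac := Groth.Agent.GrpSch.RigidityBase.eq_of_forall_constant (π := pullback.snd P.hom P.hom) σ hσ
    (pullback.fst P.hom P.hom ≫ φ.left) (fun x0 z hz => by
      rw [← Scheme.Hom.comp_apply σ, reassoc_of% hσ1, Scheme.Hom.comp_apply]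
      refine hfib _ _ ?_
      rw [← Scheme.Hom.comp_apply, pullback.condition, Scheme.Hom.comp_apply, hz])
  rw [reassoc_of% hσ1] at hfac
  have hdesc : ∀ {Z : Scheme.{u}} (g₁ g₂ : Z ⟶ P.left), g₁ ≫ P.hom = g₂ ≫ P.hom → g₁ ≫ φ.left = g₂ ≫ φ.left :=
    fun g₁ g₂ h => by
      have := congrArg (pullback.lift g₁ g₂ h ≫ ·) hfac
      simpa [pullback.lift_fst_assoc, pullback.lift_snd_assoc] using this
  have hfacP : P.hom ≫ EffectiveEpi.desc P.hom φ.left hdesc = φ.left := EffectiveEpi.fac P.hom φ.left hdesc
  refine ⟨Over.homMk (EffectiveEpi.desc P.hom φ.left hdesc) ?_, ?_⟩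
  · rw [← cancel_epi P.hom, reassoc_of% hfacP, Over.w φ]
    exact (Category.comp_id _).symm
  · exact Over.OverMorphism.ext hfacP.symm

end Groth.Agent.S14668
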