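import Groth.Statements.S14670
import Mathlib
import Groth.Agent.DimTheory.Algebra
import Groth.Agent.RegUFD.Basic
import Groth.Agent.S2082

set_option autoImplicit false
universe u
open CAlg

namespace Groth.Agent.S14670

/-- Let R be a regular local ring and S an integral domain containing R as a subring over which it is a
finitely generated module, such that the localization of S at each of its maximal ideals is a
Cohen–Macaulay local ring. Then S is a flat R-module. (The published statement does not require S to
be a domain; in that generality it fails — for a discrete valuation ring R with residue field κ the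
ring R × κ contains R diagonally, is finite over R with Cohen–Macaulay localizations, and is not
flat — and the printed argument needs every maximal ideal of S to have height dim R, which holds
when S is a domain by going down.) -/
theorem result (R S : Type u) [CommRing R] [CommRing S]
    [IsRegularLocalRing R] [IsDomain S] [Algebra R S] [Module.Finite R S]
    (hinj : Function.Injective (algebraMap R S))
    (hCM : ∀ (q : Ideal S) [q.IsMaximal], LocCoh.IsCohenMacaulayLocalRing (Localization.AtPrime q)) :
    Module.Flat R S := by
  classical
  haveI : IsDomain R := Function.Injective.isDomain (algebraMap R S) hinj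
  haveI : UniqueFactorizationMonoid R := Groth.Agent.RegUFD.ufd R
  haveI : IsIntegrallyClosed R := UniqueFactorizationMonoid.instIsIntegrallyClosed
  haveI : FaithfulSMul R S := (faithfulSMul_iff_algebraMap_injective R S).2 hinj
  refine Module.flat_of_isLocalized_maximal (R := R) S S (fun P _ => Localization.AtPrime P)
    (fun P _ => Algebra.linearMap S (Localization.AtPrime P)) fun q _ => ?_
  haveI : LocCoh.IsCohenMacaulayLocalRing (Localization.AtPrime q) := hCM q
  have hu : q.under R = IsLocalRing.maximalIdeal R :=
    IsLocalRing.eq_maximalIdeal (Ideal.isMaximal_comap_of_isIntegral_of_isMaximal q)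
  haveI : IsLocalHom (algebraMap R (Localization.AtPrime q)) := ⟨fun r hr => by
    by_contra h
    have hm : algebraMap R S r ∈ q := by
      have : r ∈ q.under R := hu ▸ h
      exact this
    rw [IsScalarTower.algebraMap_apply R S (Localization.AtPrime q)] at hr
    exact (IsLocalization.AtPrime.to_map_mem_maximal_iff (Localization.AtPrime q) q _).2 hm hr⟩
  refine Groth.Agent.S2082.result ?_
  have hdimS : ringKrullDim (Localization.AtPrime q) = ringKrullDim R := by
    rw [IsLocalization.AtPrime.ringKrullDim_eq_height q (Localization.AtPrime q),
      DimTheory.height_eq_height_under R S q, hu, IsLocalRing.maximalIdeal_height_eq_ringKrullDim]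
  rw [hdimS]
  let mS := (IsLocalRing.maximalIdeal R).map (algebraMap R (Localization.AtPrime q))
  have hne : mS ≠ ⊤ := fun h => by
    have hle : mS ≤ IsLocalRing.maximalIdeal (Localization.AtPrime q) :=
      (Ideal.map_le_iff_le_comap).2 fun r hr => by
        simpa [IsLocalRing.mem_maximalIdeal] using hr
    exact (IsLocalRing.maximalIdeal.isMaximal _).ne_top (top_le_iff.1 (h ▸ hle))
  haveI : Nontrivial (Localization.AtPrime q ⧸ mS) := Ideal.Quotient.nontrivial_iff.2 hne
  have h0 : ringKrullDim (Localization.AtPrime q ⧸ mS) = 0 := by
    haveI : Ring.KrullDimLE 0 (Localization.AtPrime q ⧸ mS) := by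
      let k := IsLocalRing.ResidueField R
      let mB := (IsLocalRing.maximalIdeal R).map (algebraMap R S)
      let f : (S ⧸ mB) →+* (Localization.AtPrime q ⧸ mS) := Ideal.quotientMap mS (algebraMap S (Localization.AtPrime q))
        (Ideal.map_le_iff_le_comap.1 (by rw [Ideal.map_map, ← IsScalarTower.algebraMap_eq]))
      rw [Ring.krullDimLE_zero_iff]
      intro P hP
      have hmem : ∀ r ∈ IsLocalRing.maximalIdeal R, algebraMap R S r ∈
          (P.comap (Ideal.Quotient.mk mS)).comap (algebraMap S (Localization.AtPrime q)) := by
        intro r hr
        show Ideal.Quotient.mk mS (algebraMap S (Localization.AtPrime q) (algebraMap R S r)) ∈ P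
        rw [← IsScalarTower.algebraMap_apply, Ideal.Quotient.eq_zero_iff_mem.2 (Ideal.mem_map_of_mem _ hr)]
        exact zero_mem _
      let Q := (P.comap (Ideal.Quotient.mk mS)).comap (algebraMap S (Localization.AtPrime q))
      haveI : (P.comap (Ideal.Quotient.mk mS)).IsPrime := Ideal.IsPrime.comap _
      haveI : Q.IsPrime := Ideal.IsPrime.comap _
      have hQu : Q.under R = IsLocalRing.maximalIdeal R :=
        ((IsLocalRing.maximalIdeal.isMaximal R).eq_of_le (Ideal.IsPrime.ne_top inferInstance) hmem).symm
      have hQum : (Q.under R).IsMaximal := by rw [hQu]; infer_instance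
      haveI : Q.IsMaximal := Ideal.isMaximal_of_isIntegral_of_isMaximal_comap Q hQum
      have hQle : Q ≤ q := fun a ha => by
        by_contra haq
        exact (Ideal.IsPrime.ne_top (inferInstance : (P.comap (Ideal.Quotient.mk mS)).IsPrime))
          (Ideal.eq_top_of_isUnit_mem _ ha (IsLocalization.map_units (Localization.AtPrime q) (⟨a, haq⟩ : q.primeCompl)))
      have hQq : Q = q := (Ideal.IsMaximal.eq_of_le inferInstance (Ideal.IsPrime.ne_top inferInstance) hQle)
      have hPm : P.comap (Ideal.Quotient.mk mS) = IsLocalRing.maximalIdeal (Localization.AtPrime q) := by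
        rw [← IsLocalization.map_under q.primeCompl (Localization.AtPrime q) (P.comap (Ideal.Quotient.mk mS))]
        change Q.map _ = _
        rw [hQq, IsLocalization.AtPrime.map_eq_maximalIdeal]
      rw [← Ideal.map_comap_of_surjective (Ideal.Quotient.mk mS) Ideal.Quotient.mk_surjective P]
      haveI : (P.comap (Ideal.Quotient.mk mS)).IsMaximal := by rw [hPm]; infer_instance
      refine Ideal.IsMaximal.map_of_surjective_of_ker_le Ideal.Quotient.mk_surjective ?_
      rw [Ideal.mk_ker]
      exact fun a ha => Ideal.mem_comap.2 (by rw [Ideal.Quotient.eq_zero_iff_mem.2 ha]; exact zero_mem _)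
    exact ringKrullDimZero_iff_ringKrullDim_eq_zero.1 inferInstance
  rw [h0, add_zero]

end Groth.Agent.S14670
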