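import Groth.Statements.S14676
import Mathlib.Algebra.Polynomial.Identities
import Mathlib.RingTheory.AdicCompletion.Basic
import Mathlib.RingTheory.Ideal.Quotient.Operations
import Mathlib.Algebra.Polynomial.RingDivision

set_option autoImplicit false
universe u
open CAlg

namespace Groth.Agent.S14676

/-- Let A be a commutative ring which is separated and complete for the I-adic topology of an ideal I,
let P be any polynomial over A (not assumed monic) and a₀ an element of A such that P(a₀) lies in I
and P'(a₀) is a unit modulo I. Then there is a unique a in A congruent to a₀ modulo I with P(a) = 0. -/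
theorem result (A : Type u) [CommRing A] (I : Ideal A) [IsAdicComplete I A]
    (P : Polynomial A) (a₀ : A) (h₀ : P.eval a₀ ∈ I)
    (h₁ : IsUnit (Ideal.Quotient.mk I (P.derivative.eval a₀))) :
    ∃! a : A, a - a₀ ∈ I ∧ P.IsRoot a := by
  open Polynomial in
  obtain ⟨v, hv⟩ := Ideal.Quotient.mk_surjective (↑h₁.unit⁻¹ : A ⧸ I)
  have hv' : P.derivative.eval a₀ * v - 1 ∈ I := by
    rw [← Ideal.Quotient.eq, map_mul, hv, map_one, IsUnit.mul_val_inv]
  have hder : ∀ a : A, a - a₀ ∈ I → P.derivative.eval a * v - 1 ∈ I := by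
    intro a ha
    have : P.derivative.eval a * v - 1 =
        (P.derivative.eval a - P.derivative.eval a₀) * v + (P.derivative.eval a₀ * v - 1) := by ring
    rw [this]
    exact Ideal.add_mem _ (Ideal.mul_mem_right _ _ (Ideal.mem_of_dvd _ (sub_dvd_eval_sub a a₀ _) ha)) hv'
  let s : ℕ → A := fun n => Nat.rec a₀ (fun _ a => a + -(v * P.eval a)) n
  have hs : ∀ n, s (n + 1) = s n + -(v * P.eval (s n)) := fun n => rfl
  have key : ∀ n, s n - a₀ ∈ I ∧ P.eval (s n) ∈ I ^ (n + 1) := by
    intro n
    induction n with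
    | zero => exact ⟨by simp [s], by simpa [s] using h₀⟩
    | succ n ih =>
      obtain ⟨h1, h2⟩ := ih
      have h2' : P.eval (s n) ∈ I := Ideal.pow_le_self (by omega) h2
      refine ⟨?_, ?_⟩
      · rw [hs, show s n + -(v * P.eval (s n)) - a₀ = (s n - a₀) - v * P.eval (s n) by ring]
        exact Ideal.sub_mem _ h1 (Ideal.mul_mem_left _ _ h2')
      · obtain ⟨k, hk⟩ := binomExpansion P (s n) (-(v * P.eval (s n)))
        rw [hs, hk, show P.eval (s n) + P.derivative.eval (s n) * -(v * P.eval (s n)) + k * (-(v * P.eval (s n))) ^ 2 =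
          P.eval (s n) * (-(P.derivative.eval (s n) * v - 1)) + P.eval (s n) * (k * v ^ 2 * P.eval (s n)) by ring,
          pow_succ _ (n + 1)]
        exact Ideal.add_mem _ (Ideal.mul_mem_mul h2 (I.neg_mem (hder _ h1))) (Ideal.mul_mem_mul h2 (Ideal.mul_mem_left _ _ h2'))
  have hstep : ∀ {m n}, m ≤ n → s m - s n ∈ I ^ m := by
    intro m n hmn
    induction n, hmn using Nat.le_induction with
    | base => simp
    | succ n hmn ih =>
      rw [hs, show s m - (s n + -(v * P.eval (s n))) = (s m - s n) + v * P.eval (s n) by ring]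
      exact Ideal.add_mem _ ih (Ideal.mul_mem_left _ _ (Ideal.pow_le_pow_right (by omega) (key n).2))
  obtain ⟨L, hL⟩ := IsPrecomplete.prec (I := I) (M := A) inferInstance (f := s) (fun {m n} h => by
    rw [SModEq.sub_mem, smul_eq_mul, Ideal.mul_top]; exact hstep h)
  have hL' : ∀ n, s n - L ∈ I ^ n := fun n => by simpa [SModEq.sub_mem] using hL n
  have hL1 : L - a₀ ∈ I := by
    rw [show L - a₀ = (s 1 - a₀) - (s 1 - L) by ring]
    exact Ideal.sub_mem _ (key 1).1 (by simpa using hL' 1)
  have hroot : P.eval L = 0 := by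
    refine IsHausdorff.haus (I := I) inferInstance _ fun n => ?_
    rw [SModEq.sub_mem, sub_zero, smul_eq_mul, Ideal.mul_top]
    have := Ideal.sub_mem _ (Ideal.pow_le_pow_right (Nat.le_succ n) (key n).2) (Ideal.mem_of_dvd _ (sub_dvd_eval_sub (s n) L P) (hL' n))
    simpa using this
  refine ⟨L, ⟨hL1, hroot⟩, fun b ⟨hb1, hb2⟩ => ?_⟩
  obtain ⟨k, hk⟩ := binomExpansion P L (b - L)
  rw [add_sub_cancel, hroot, show P.eval b = 0 from hb2] at hk
  have hb : b - L ∈ I := by
    rw [show b - L = (b - a₀) - (L - a₀) by ring]; exact Ideal.sub_mem _ hb1 hL1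
  have hu : IsUnit (P.derivative.eval L + k * (b - L)) := by
    have hmem : (P.derivative.eval L + k * (b - L)) * v - 1 ∈ I := by
      rw [show (P.derivative.eval L + k * (b - L)) * v - 1 = (P.derivative.eval L * v - 1) + (k * v) * (b - L) by ring]
      exact Ideal.add_mem _ (hder L hL1) (Ideal.mul_mem_left _ _ hb)
    have := Ideal.mem_jacobson_bot.mp (IsAdicComplete.le_jacobson_bot I hmem) 1
    rw [mul_one, sub_add_cancel] at this
    exact (IsUnit.mul_iff.mp this).1
  have h3 : (b - L) * (P.derivative.eval L + k * (b - L)) = 0 := by linear_combination -hk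
  exact sub_eq_zero.mp (hu.mul_left_eq_zero.mp h3)

end Groth.Agent.S14676
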