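import Groth.Statements.S14677
import Mathlib

set_option autoImplicit false
universe u
open CAlg

namespace Groth.Agent.S14677

/-- Let A be a Noetherian commutative ring, I and J ideals of A and M a finitely generated A-module.
Then the map of I-adic completions induced by the inclusion of the submodule JM into M is injective
with image exactly J·M̂, where M̂ is the I-adic completion of M; that is, the completion of JM is J
times the completion of M. (The published statement does not say that A is Noetherian; its proof
uses exactness of completion on finitely generated modules, which needs it, so this row assumes A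
Noetherian.) -/
theorem result (A : Type u) [CommRing A] [IsNoetherianRing A] (I J : Ideal A)
    (M : Type u) [AddCommGroup M] [Module A M] [Module.Finite A M] :
    Function.Injective (AdicCompletion.map I (J • (⊤ : Submodule A M)).subtype) ∧
      LinearMap.range (AdicCompletion.map I (J • (⊤ : Submodule A M)).subtype) =
        (J.map (algebraMap A (AdicCompletion I A))) • (⊤ : Submodule (AdicCompletion I A) (AdicCompletion I M)) := by
  refine ⟨AdicCompletion.map_injective I (Submodule.injective_subtype _), le_antisymm ?_ ?_⟩
  · rintro _ ⟨w, rfl⟩
    obtain ⟨v, rfl⟩ := AdicCompletion.ofTensorProduct_surjective_of_finite I (↥(J • (⊤ : Submodule A M))) w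
    induction v using TensorProduct.induction_on with
    | zero => rw [map_zero, map_zero]; exact zero_mem _
    | add a b ha hb => rw [map_add, map_add]; exact add_mem ha hb
    | tmul c x =>
      rw [AdicCompletion.ofTensorProduct_tmul, map_smul, AdicCompletion.map_of]
      refine Submodule.smul_mem _ c ?_
      change AdicCompletion.of I M x.1 ∈ _
      refine Submodule.smul_induction_on (p := fun y => AdicCompletion.of I M y ∈
        (J.map (algebraMap A (AdicCompletion I A))) • (⊤ : Submodule (AdicCompletion I A) (AdicCompletion I M))) x.2 ?_ ?_
      · intro j hj m _
        rw [map_smul, ← algebraMap_smul (AdicCompletion I A) j]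
        exact Submodule.smul_mem_smul (Ideal.mem_map_of_mem _ hj) Submodule.mem_top
      · intro y z hy hz
        rw [map_add]
        exact add_mem hy hz
  · rw [Submodule.smul_le]
    intro c hc w hw
    clear hw
    induction hc using Submodule.span_induction with
    | mem c hc =>
      obtain ⟨j, hj, rfl⟩ := hc
      obtain ⟨v, rfl⟩ := AdicCompletion.ofTensorProduct_surjective_of_finite I M w
      induction v using TensorProduct.induction_on with
      | zero => rw [map_zero, smul_zero]; exact zero_mem _
      | add a b ha hb => rw [map_add, smul_add]; exact add_mem ha hb
      | tmul d x =>
        rw [AdicCompletion.ofTensorProduct_tmul, smul_comm, algebraMap_smul, ← map_smul]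
        refine Submodule.smul_mem _ d ⟨AdicCompletion.of I _ ⟨j • x, Submodule.smul_mem_smul hj Submodule.mem_top⟩, ?_⟩
        rw [AdicCompletion.map_of]
        rfl
    | zero => rw [zero_smul]; exact zero_mem _
    | add a b _ _ ha hb => rw [add_smul]; exact add_mem ha hb
    | smul r a _ ha => rw [smul_eq_mul, mul_smul]; exact Submodule.smul_mem _ r ha

end Groth.Agent.S14677
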