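import Groth.Agent.ResExt.Basic
import Groth.Statements.S14678
-- import your own Groth.Agent.* helpers here

set_option autoImplicit false
set_option backward.isDefEq.respectTransparency false
set_option backward.isDefEq.respectTransparency.types false
universe u
open CategoryTheory CategoryTheory.Limits AlgebraicGeometry
open EtBase

namespace Groth.Agent.S14678

/-- Let S be a scheme, s a point of S and ℓ a finite field extension of the residue field κ(s). Then,
fppf-locally around s, ℓ occurs as a residue field: there are an affine scheme U', a flat morphism b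
: U' ⟶ S locally of finite presentation (so with open image containing s) and a morphism t : Spec ℓ
⟶ U' over the canonical morphism Spec ℓ ⟶ Spec κ(s) ⟶ S which is a preimmersion, i.e. the inclusion
of a point s' of U' above s together with an identification of κ(s') with ℓ over κ(s); such a point
is closed in its fibre over s. (The published statement gives an affine open neighbourhood U of s
and an fppf morphism U' ⟶ U; this row asks only for a flat, locally finitely presented U' ⟶ S, whose
open image then contains s.) -/
theorem result (S : Scheme.{u}) (s : ↥S)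
    (ℓ : Type u) [Field ℓ] [Algebra (S.residueField s) ℓ] [Module.Finite (S.residueField s) ℓ] :
    ∃ (U' : Scheme.{u}) (b : U' ⟶ S) (t : Spec (CommRingCat.of ℓ) ⟶ U'),
      IsAffine U' ∧ Flat b ∧ LocallyOfFinitePresentation b ∧ IsPreimmersion t ∧
        t ≫ b = Spec.map (CommRingCat.ofHom (algebraMap (S.residueField s) ℓ)) ≫ S.fromSpecResidueField s := by
  obtain ⟨U, hU, hs, -⟩ := exists_isAffineOpen_mem_and_subset (x := s) (U := ⊤) trivial
  letI : Algebra Γ(S, U) (S.residueField s) := (S.evaluation U s hs).hom.toAlgebra
  letI : Algebra Γ(S, U) ℓ := ((algebraMap (S.residueField s) ℓ).comp (S.evaluation U s hs).hom).toAlgebra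
  haveI : IsScalarTower Γ(S, U) (S.residueField s) ℓ := .of_algebraMap_eq fun _ => rfl
  have hfrac : ∀ c : S.residueField s, ∃ a b : Γ(S, U),
      algebraMap Γ(S, U) (S.residueField s) b ≠ 0 ∧
        algebraMap Γ(S, U) (S.residueField s) b * c = algebraMap Γ(S, U) (S.residueField s) a := by
    intro c
    obtain ⟨z, rfl⟩ := S.residue_surjective s c
    letI := TopCat.Presheaf.algebra_section_stalk S.presheaf (U := U) ⟨s, hs⟩
    haveI := hU.isLocalization_stalk ⟨s, hs⟩
    obtain ⟨⟨a, b⟩, hab⟩ := IsLocalization.surj (hU.primeIdealOf ⟨s, hs⟩).asIdeal.primeCompl z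
    refine ⟨a, b.1, ?_, ?_⟩
    · have hu : IsUnit (algebraMap Γ(S, U) (S.presheaf.stalk s) b.1) := IsLocalization.map_units _ b
      exact (hu.map (S.residue s).hom).ne_zero
    · have := congrArg (S.residue s).hom hab
      rw [map_mul, mul_comm] at this
      exact this
  obtain ⟨B, _, _, φ, hfree, hfin, hdiv⟩ := Groth.Agent.ResExt.exists_fraction (ℓ := ℓ) hfrac
  let β : CommRingCat.of Γ(S, U) ⟶ CommRingCat.of B := CommRingCat.ofHom (algebraMap Γ(S, U) B)
  haveI : Algebra.FinitePresentation Γ(S, U) B :=
    haveI := Module.finitePresentation_of_projective Γ(S, U) B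
    inferInstance
  haveI h1 : Flat (Spec.map β) := (HasRingHomProperty.Spec_iff (P := @Flat)).mpr
    (RingHom.flat_algebraMap_iff.mpr inferInstance)
  haveI h2 : LocallyOfFinitePresentation (Spec.map β) :=
    (HasRingHomProperty.Spec_iff (P := @LocallyOfFinitePresentation)).mpr
      (RingHom.finitePresentation_algebraMap.mpr inferInstance)
  refine ⟨Spec (CommRingCat.of B), Spec.map β ≫ hU.fromSpec, Spec.map (CommRingCat.ofHom φ.toRingHom),
    inferInstance, inferInstance, inferInstance, IsPreimmersion.mk_SpecMap ?_ ?_, ?_⟩
  · exact .of_subsingleton _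
  · exact RingHom.surjectiveOnStalks_of_exists_div hdiv
  · rw [← Category.assoc, ← Spec.map_comp, Scheme.fromSpecResidueField,
      ← hU.fromSpecStalk_eq_fromSpecStalk hs, IsAffineOpen.fromSpecStalk, ← Spec.map_comp_assoc,
      ← Spec.map_comp_assoc]
    refine congrArg (fun g => Spec.map g ≫ hU.fromSpec) ?_
    ext a
    exact φ.commutes a

end Groth.Agent.S14678
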