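import Groth.Agent.GeomConnExt.Components
import Groth.Statements.S14679
-- import your own Groth.Agent.* helpers here

set_option autoImplicit false
set_option backward.isDefEq.respectTransparency false
set_option backward.isDefEq.respectTransparency.types false
universe u
open CategoryTheory CategoryTheory.Limits AlgebraicGeometry
open EtBase

namespace Groth.Agent.S14679

/-- Given a morphism of schemes f : X ⟶ Y and a point x ∈ X with image y = f(x), such that the residue
field map κ(y) → κ(x) is bijective; let ℓ be an algebraic extension field of κ(y) and form the base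
change X ×_Y Spec ℓ along Spec ℓ ⟶ Spec κ(y) ⟶ Y. Then there is exactly one point of X ×_Y Spec ℓ
mapping to x under the first projection. (The published statement takes ℓ to be an algebraic closure
of κ(y), noting that any algebraic extension works, and also identifies the local ring at the point
with O_{X,x} ⊗_{O_{Y,y}} ℓ; this row allows any algebraic extension ℓ and states only the first
assertion.) -/
theorem result {X Y : Scheme.{u}} (f : X ⟶ Y) (x : ↥X)
    (hx : Function.Bijective (f.residueFieldMap x).hom)
    (ℓ : Type u) [Field ℓ] [Algebra (Y.residueField (f.base x)) ℓ] [Algebra.IsAlgebraic (Y.residueField (f.base x)) ℓ] :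
    ∃! z : ↥(pullback f (Spec.map (CommRingCat.ofHom (algebraMap (Y.residueField (f.base x)) ℓ)) ≫ Y.fromSpecResidueField (f.base x))),
      (pullback.fst f (Spec.map (CommRingCat.ofHom (algebraMap (Y.residueField (f.base x)) ℓ)) ≫ Y.fromSpecResidueField (f.base x))).base z = x := by
  let g := Spec.map (CommRingCat.ofHom (algebraMap (Y.residueField (f.base x)) ℓ))
  let a := g ≫ Y.fromSpecResidueField (f.base x)
  haveI : IsIso (f.residueFieldMap x) := (ConcreteCategory.isIso_iff_bijective _).2 hx
  let j : pullback (X.fromSpecResidueField x ≫ f) a ⟶ pullback f a :=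
    pullback.map _ _ _ _ (X.fromSpecResidueField x) (𝟙 _) (𝟙 _) (by simp) (by simp)
  have hr : Set.range j.base = (pullback.fst f a).base ⁻¹' {x} := by
    rw [Scheme.Pullback.range_map, Scheme.range_fromSpecResidueField]
    simp
  haveI : Subsingleton ↥(pullback (X.fromSpecResidueField x ≫ f) a) := by
    have h1 : X.fromSpecResidueField x ≫ f = Spec.map (f.residueFieldMap x) ≫ Y.fromSpecResidueField (f.base x) :=
      (Scheme.Hom.SpecMap_residueFieldMap_fromSpecResidueField f x).symm
    let m := Y.fromSpecResidueField (f.base x)
    let e₂ : pullback (Spec.map (f.residueFieldMap x) ≫ m) (g ≫ m) ≅ pullback (Spec.map (f.residueFieldMap x)) g :=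
      { hom := pullback.lift (pullback.fst _ _) (pullback.snd _ _)
          (by rw [← cancel_mono m, Category.assoc, Category.assoc, pullback.condition])
        inv := pullback.lift (pullback.fst _ _) (pullback.snd _ _) (by rw [pullback.condition_assoc]) }
    let e : pullback (X.fromSpecResidueField x ≫ f) a ≅ pullback (Spec.map (f.residueFieldMap x)) g :=
      pullback.congrHom h1 rfl ≪≫ e₂
    haveI : IsIso (pullback.snd (Spec.map (f.residueFieldMap x)) g) := inferInstance
    haveI : Subsingleton ↥(Spec (CommRingCat.of ℓ)) := inferInstanceAs (Subsingleton (PrimeSpectrum ℓ))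
    exact (e ≪≫ asIso (pullback.snd (Spec.map (f.residueFieldMap x)) g)).hom.homeomorph.subsingleton
  obtain ⟨z, hz⟩ : x ∈ Set.range (pullback.fst f a).base := by
    rw [Scheme.Pullback.range_fst]
    haveI : Nonempty ↥(Spec (CommRingCat.of ℓ)) := inferInstanceAs (Nonempty (PrimeSpectrum ℓ))
    refine ⟨Classical.arbitrary _, ?_⟩
    show (g ≫ Y.fromSpecResidueField (f.base x)) _ = f.base x
    rw [Scheme.Hom.comp_apply]
    exact Scheme.fromSpecResidueField_apply _ _
  refine ⟨z, hz, fun z' hz' => ?_⟩
  obtain ⟨w, rfl⟩ := hr.ge (show z' ∈ (pullback.fst f a).base ⁻¹' {x} from hz')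
  obtain ⟨w', rfl⟩ := hr.ge (show z ∈ (pullback.fst f a).base ⁻¹' {x} from hz)
  rw [Subsingleton.elim w w']

end Groth.Agent.S14679
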