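import Groth.Statements.S14680
import Mathlib

set_option autoImplicit false
universe u
open CAlg

namespace Groth.Agent.S14680

theorem subsingleton_of_completion {A : Type u} [CommRing A] (P : Type u) [AddCommGroup P] [Module A P] [Module.Finite A P]
    (h : ∀ (m : Ideal A) [m.IsMaximal], ∀ x : AdicCompletion m P, x = 0) : Subsingleton P := by
  rw [← Module.support_eq_empty_iff (R := A), Set.eq_empty_iff_forall_notMem]
  intro p hp
  obtain ⟨m, hm, hle⟩ := p.asIdeal.exists_le_maximal p.2.ne_top
  have hm' := Module.mem_support_mono (q := ⟨m, hm.isPrime⟩) hle hp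
  have htop : (⊤ : Submodule A P) ≤ m • ⊤ := fun y _ => by
    obtain ⟨x, hx⟩ := AdicCompletion.eval_surjective m P 1 (Submodule.Quotient.mk y)
    rw [h m x, map_zero, eq_comm, Submodule.Quotient.mk_eq_zero, pow_one] at hx
    exact hx
  obtain ⟨r, hr1, hr⟩ := Submodule.exists_sub_one_mem_and_smul_eq_zero_of_fg_of_le_smul m ⊤ Module.Finite.fg_top htop
  rw [Module.mem_support_iff_of_finite] at hm'
  have : r ∈ m := hm' (Module.mem_annihilator.2 fun x => hr x Submodule.mem_top)
  exact hm.ne_top ((Ideal.eq_top_iff_one m).2 (by simpa using m.sub_mem this hr1))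

theorem surjective_of_completion {A : Type u} [CommRing A] {P Q : Type u} [AddCommGroup P] [Module A P]
    [AddCommGroup Q] [Module A Q] [Module.Finite A Q] (u : P →ₗ[A] Q)
    (h : ∀ (m : Ideal A) [m.IsMaximal], Function.Surjective (AdicCompletion.map m u)) : Function.Surjective u := by
  have : Subsingleton (Q ⧸ LinearMap.range u) := subsingleton_of_completion _ fun m _ x => by
    obtain ⟨y, rfl⟩ := AdicCompletion.map_surjective m (Submodule.mkQ_surjective (LinearMap.range u)) x
    obtain ⟨z, rfl⟩ := h m y
    rw [← LinearMap.comp_apply, AdicCompletion.map_comp, LinearMap.range_mkQ_comp, AdicCompletion.map_zero,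
      LinearMap.zero_apply]
  rw [Submodule.Quotient.subsingleton_iff] at this
  exact LinearMap.range_eq_top.1 this

theorem injective_of_completion {A : Type u} [CommRing A] [IsNoetherianRing A] {P Q : Type u} [AddCommGroup P] [Module A P]
    [AddCommGroup Q] [Module A Q] [Module.Finite A P] (u : P →ₗ[A] Q)
    (h : ∀ (m : Ideal A) [m.IsMaximal], Function.Injective (AdicCompletion.map m u)) : Function.Injective u := by
  have : Subsingleton (LinearMap.ker u) := subsingleton_of_completion _ fun m _ x => by
    refine AdicCompletion.map_injective m (LinearMap.ker u).injective_subtype ?_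
    refine h m ?_
    rw [map_zero, map_zero, ← LinearMap.comp_apply, AdicCompletion.map_comp, LinearMap.comp_ker_subtype,
      AdicCompletion.map_zero, LinearMap.zero_apply]
  exact LinearMap.ker_eq_bot.1 (Submodule.subsingleton_iff_eq_bot.1 this)


/-- Let A be a Noetherian commutative ring and f : M' → M, g : M → M'' linear maps between finitely
generated A-modules. Then the sequence 0 → M' → M → M'' → 0 is exact — f injective, the image of f
equal to the kernel of g, g surjective — if and only if for every maximal ideal m of A the sequence
of m-adic completions 0 → M'^ → M^ → M''^ → 0 (maps induced by f and g) is exact in the same sense. -/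
theorem result (A : Type u) [CommRing A] [IsNoetherianRing A]
    (M' M M'' : Type u) [AddCommGroup M'] [Module A M'] [AddCommGroup M] [Module A M] [AddCommGroup M''] [Module A M'']
    [Module.Finite A M'] [Module.Finite A M] [Module.Finite A M''] (f : M' →ₗ[A] M) (g : M →ₗ[A] M'') :
    (Function.Injective f ∧ Function.Exact f g ∧ Function.Surjective g) ↔
      ∀ (m : Ideal A) [m.IsMaximal],
        Function.Injective (AdicCompletion.map m f) ∧ Function.Exact (AdicCompletion.map m f) (AdicCompletion.map m g) ∧
          Function.Surjective (AdicCompletion.map m g) := by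
  constructor
  · rintro ⟨hf, hex, hg⟩ m _
    exact ⟨AdicCompletion.map_injective m hf, AdicCompletion.map_exact hf hex hg, AdicCompletion.map_surjective m hg⟩
  · intro h
    refine ⟨injective_of_completion f fun m _ => (h m).1, ?_, surjective_of_completion g fun m _ => (h m).2.2⟩
    have hgf : g ∘ₗ f = 0 := by
      have : Subsingleton (LinearMap.range (g ∘ₗ f)) := subsingleton_of_completion _ fun m _ x => by
        obtain ⟨y, rfl⟩ := AdicCompletion.map_surjective m (g ∘ₗ f).surjective_rangeRestrict x
        refine AdicCompletion.map_injective m (LinearMap.range (g ∘ₗ f)).injective_subtype ?_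
        rw [map_zero, ← LinearMap.comp_apply, AdicCompletion.map_comp, LinearMap.subtype_comp_codRestrict,
          ← AdicCompletion.map_comp, LinearMap.comp_apply]
        exact ((h m).2.1 _).2 ⟨y, rfl⟩
      exact LinearMap.range_eq_bot.1 (Submodule.subsingleton_iff_eq_bot.1 this)
    let f' : M' →ₗ[A] LinearMap.ker g := f.codRestrict _ fun x => LinearMap.congr_fun hgf x
    have hs : Function.Surjective f' := surjective_of_completion f' fun m _ x => by
      have hx : AdicCompletion.map m g (AdicCompletion.map m (LinearMap.ker g).subtype x) = 0 := by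
        rw [← LinearMap.comp_apply, AdicCompletion.map_comp, LinearMap.comp_ker_subtype, AdicCompletion.map_zero,
          LinearMap.zero_apply]
      obtain ⟨y, hy⟩ := ((h m).2.1 _).1 hx
      refine ⟨y, AdicCompletion.map_injective m (LinearMap.ker g).injective_subtype ?_⟩
      rw [← LinearMap.comp_apply, AdicCompletion.map_comp, LinearMap.subtype_comp_codRestrict]
      exact hy
    intro z
    constructor
    · intro hz
      obtain ⟨y, hy⟩ := hs ⟨z, hz⟩
      exact ⟨y, congrArg Subtype.val hy⟩
    · rintro ⟨y, rfl⟩
      exact LinearMap.congr_fun hgf y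

end Groth.Agent.S14680
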