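import Groth.Statements.S14693
-- import your own Groth.Agent.* helpers here

set_option autoImplicit false
universe u
open CategoryTheory AlgebraicGeometry
open SekSuwa

namespace Groth.Agent.S14693

open Limits MonObj CartesianMonoidalCategory in
/-- For any commutative ring R, λ ∈ R and N such that λ is a non-zero-divisor and λ^N divides (1 + λX)^N
− 1 in R[X] with quotient P_{λ,N}, the closed subgroup scheme G_{λ,N} = Spec R[T]/(P_{λ,N}(T)) of
the affine R-group G^(λ) = Spec R[T, 1/(1+λT)] (group law s + t + λst) is the kernel of the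
homomorphism ψ_{λ,N} : G^(λ) → G^(λ^N), T ↦ P_{λ,N}(T): the square with sides the inclusion G_{λ,N}
→ G^(λ), ψ_{λ,N}, the unit section of G^(λ^N) and G_{λ,N} → Spec R is cartesian. (The published
text, over a discrete valuation ring and with N = p^n, introduces G_{λ,n} as the kernel of the
isogeny ψ_{λ,n}; this row is that assertion for every N, including the degenerate N = 0 where ψ is
trivial and G_{λ,0} = G^(λ).) -/
theorem result (R : Type u) [CommRing R] (lam : R) (N : ℕ) (h : SekSuwa.DivCond lam N) :
    AlgGrp.IsKernel (SekSuwa.incl R lam N h) (SekSuwa.psi R lam N h) := by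
  refine IsPullback.of_map (Over.forget _) ?_ ?_
  · rw [SekSuwa.incl_psi]; rfl
  · have hpush : IsPushout (CommRingCat.ofHom (SekSuwa.psiHom R lam N h : SekSuwa.A R (lam ^ N) →+* SekSuwa.A R lam))
        (CommRingCat.ofHom (Bialgebra.counitAlgHom R (SekSuwa.A R (lam ^ N)) : SekSuwa.A R (lam ^ N) →+* R))
        (CommRingCat.ofHom (SekSuwa.AK.mkHom R lam N h : SekSuwa.A R lam →+* SekSuwa.AK R lam N h))
        (CommRingCat.ofHom (algebraMap R (SekSuwa.AK R lam N h))) := by
      refine IsPushout.of_isColimit' ⟨?_⟩ (PushoutCocone.IsColimit.mk _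
        (fun s ↦ CommRingCat.ofHom (Ideal.Quotient.lift (SekSuwa.kerIdeal lam N h) s.inl.hom ?_))
        (fun s ↦ ?_) (fun s ↦ ?_) (fun s m hm _ ↦ ?_))
      · ext x
        exact DFunLike.congr_fun (SekSuwa.mkHom_comp_psiHom R lam N h) x
      · intro a ha
        obtain ⟨b, rfl⟩ := Ideal.mem_span_singleton'.mp ha
        have e := ConcreteCategory.congr_hom s.condition (SekSuwa.A.t : SekSuwa.A R (lam ^ N))
        change s.inl.hom (SekSuwa.psiHom R lam N h SekSuwa.A.t) =
          s.inr.hom (CoalgebraStruct.counit (R := R) (SekSuwa.A.t : SekSuwa.A R (lam ^ N))) at e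
        rw [SekSuwa.psiHom_t, SekSuwa.A.counit_t, map_zero] at e
        rw [map_mul, e, mul_zero]
      · ext x; rfl
      · ext r
        have e := ConcreteCategory.congr_hom s.condition (algebraMap R (SekSuwa.A R (lam ^ N)) r)
        change s.inl.hom (SekSuwa.psiHom R lam N h (algebraMap R _ r)) =
          s.inr.hom (Bialgebra.counitAlgHom R (SekSuwa.A R (lam ^ N)) (algebraMap R _ r)) at e
        rw [AlgHomClass.commutes, AlgHom.commutes] at e
        exact e
      · ext x
        obtain ⟨a, rfl⟩ := Ideal.Quotient.mk_surjective x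
        exact ConcreteCategory.congr_hom hm a
    have hpb := isPullback_SpecMap_of_isPushout _ _ _ _ hpush
    have e1 : (toUnit (SekSuwa.GK R lam N h)).left =
        Spec.map (CommRingCat.ofHom (algebraMap R (SekSuwa.AK R lam N h))) :=
      (CategoryTheory.Category.comp_id _).symm.trans (Over.w (toUnit (SekSuwa.GK R lam N h)))
    change IsPullback (SekSuwa.incl R lam N h).left (toUnit (SekSuwa.GK R lam N h)).left
      (SekSuwa.psi R lam N h).left (η[SekSuwa.G R (lam ^ N)]).left
    rw [e1, one_spec_asOver_spec_left]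
    exact hpb

end Groth.Agent.S14693
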