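import Groth.Statements.S14694
-- import your own Groth.Agent.* helpers here

set_option autoImplicit false
universe u
open CategoryTheory AlgebraicGeometry
open SekSuwa

namespace Groth.Agent.S14694

open Polynomial in
private theorem psiPoly_monic_deg (R : Type u) [CommRing R] [Nontrivial R] (lam : R) (N : ℕ) (hN : 0 < N)
    (h : SekSuwa.DivCond lam N) :
    (psiPoly lam N h).Monic ∧ (psiPoly lam N h).natDegree = N := by
  have hreg : ∀ a : R, lam ^ N * a = 0 → a = 0 := fun a ha =>
    (mul_left_mem_nonZeroDivisors_eq_zero_iff (pow_mem h.1 N)).mp ha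
  have hc : ∀ k, 0 < k → lam ^ N * (psiPoly lam N h).coeff k = (N.choose k : R) * lam ^ k := by
    intro k hk
    have e := congrArg (fun p : R[X] => p.coeff k) (psiPoly_spec (lam := lam) (N := N) h)
    simp only [coeff_C_mul, coeff_sub, coeff_one, hk.ne', if_false, sub_zero] at e
    have e2 : ((1 + C lam * X) ^ N).coeff k = (N.choose k : R) * lam ^ k := by
      have : ((1 + C lam * X : R[X]) ^ N) = (((1 + X) ^ N : R[X])).comp (C lam * X) := by simp
      rw [this, comp_C_mul_X_coeff, coeff_one_add_X_pow]
    rw [e, e2]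
  have hhigh : ∀ k, N < k → (psiPoly lam N h).coeff k = 0 := fun k hk =>
    hreg _ (by rw [hc k (by omega), Nat.choose_eq_zero_of_lt hk, Nat.cast_zero, zero_mul])
  have htop : (psiPoly lam N h).coeff N = 1 := by
    have := hc N hN
    rw [Nat.choose_self, Nat.cast_one, one_mul] at this
    exact sub_eq_zero.mp (hreg _ (by rw [mul_sub, mul_one, this, sub_self]))
  have hle : (psiPoly lam N h).natDegree ≤ N := natDegree_le_iff_coeff_eq_zero.mpr hhigh
  exact ⟨monic_of_natDegree_le_of_coeff_eq_one N hle htop,
    le_antisymm hle (le_natDegree_of_ne_zero (by rw [htop]; exact one_ne_zero))⟩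

open Polynomial in
private theorem exists_equiv (R : Type u) [CommRing R] (lam : R) (N : ℕ) (hN : 0 < N)
    (h : SekSuwa.DivCond lam N) :
    Nonempty (SekSuwa.AK R lam N h ≃ₐ[R] AdjoinRoot (psiPoly lam N h)) := by
  set P := psiPoly lam N h
  have hu : (1 + lam • AdjoinRoot.root P) ^ N = 1 := by
    have e := aeval_psiPoly h (AdjoinRoot.root P)
    rw [show Polynomial.aeval (AdjoinRoot.root P) (psiPoly lam N h) = 0 by
      rw [AdjoinRoot.aeval_eq]; exact AdjoinRoot.mk_self] at e
    simp only [mul_zero] at e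
    rw [Algebra.smul_def]
    exact sub_eq_zero.mp e.symm
  have hb : (1 + lam • AdjoinRoot.root P) * (1 + lam • AdjoinRoot.root P) ^ (N - 1) = 1 := by
    rw [← pow_succ', Nat.sub_add_cancel hN, hu]
  let f₀ : SekSuwa.A R lam →ₐ[R] AdjoinRoot P := SekSuwa.A.lift R lam (AdjoinRoot.root P) _ hb
  have hker : ∀ a ∈ SekSuwa.kerIdeal lam N h, f₀ a = 0 := by
    intro a ha
    obtain ⟨b, rfl⟩ := Ideal.mem_span_singleton'.mp ha
    rw [map_mul, SekSuwa.kerGen, ← Polynomial.aeval_algHom_apply, SekSuwa.A.lift_t,
      AdjoinRoot.aeval_eq, AdjoinRoot.mk_self, mul_zero]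
  let f : SekSuwa.AK R lam N h →ₐ[R] AdjoinRoot P := Ideal.Quotient.liftₐ _ f₀ hker
  let g : AdjoinRoot P →ₐ[R] SekSuwa.AK R lam N h :=
    AdjoinRoot.liftAlgHom P (Algebra.ofId R _) SekSuwa.AK.t (by
      rw [← SekSuwa.AK.aeval_t (R := R) (lam := lam) (N := N) (h := h)]; rfl)
  have hft : f SekSuwa.AK.t = AdjoinRoot.root P := SekSuwa.A.lift_t _ _ hb
  have hfi : f SekSuwa.AK.inv = (1 + lam • AdjoinRoot.root P) ^ (N - 1) := SekSuwa.A.lift_inv _ _ hb
  have hgr : g (AdjoinRoot.root P) = SekSuwa.AK.t := AdjoinRoot.liftAlgHom_root ..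
  refine ⟨AlgEquiv.ofAlgHom f g ?_ ?_⟩
  · apply AdjoinRoot.algHom_ext
    rw [AlgHom.comp_apply, hgr, hft]; rfl
  · apply SekSuwa.AK.algHom_ext
    · rw [AlgHom.comp_apply, hft, hgr]; rfl
    · rw [AlgHom.comp_apply, hfi, map_pow, map_add, map_one, map_smul, hgr]
      have e1 : (1 + lam • (AK.t : AK R lam N h)) * AK.inv = 1 := by
        have := congrArg (AK.mkHom R lam N h) (A.u_mul_inv (R := R) (lam := lam))
        rw [map_mul, map_one, A.u, map_add, map_one, map_smul] at this
        exact this
      change (1 + lam • (AK.t : AK R lam N h)) ^ (N - 1) = AK.inv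
      calc (1 + lam • (AK.t : AK R lam N h)) ^ (N - 1)
          = (1 + lam • AK.t) ^ (N - 1) * ((1 + lam • AK.t) * AK.inv) := by rw [e1, _root_.mul_one]
        _ = (1 + lam • AK.t) ^ N * AK.inv := by rw [← _root_.mul_assoc, ← pow_succ, Nat.sub_add_cancel hN]
        _ = AK.inv := by rw [AK.u_pow, _root_.one_mul]



/-- For any commutative ring R, λ ∈ R and N ≥ 1 such that λ is a non-zero-divisor and λ^N divides (1 +
λX)^N − 1 in R[X] with quotient P_{λ,N}, the R-group scheme G_{λ,N}, defined as the closed subscheme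
of the affine R-group G^(λ) = Spec R[T, 1/(1+λT)] cut out by P_{λ,N}(T), is finite locally free of
degree N over Spec R (its coordinate ring is R[T]/(P_{λ,N}(T)) with P_{λ,N} monic of degree N). (The
published text states this over a discrete valuation ring with N = p^n: G_{λ,n} is a commutative
finite flat group scheme of rank p^n.) -/
theorem result (R : Type u) [CommRing R] (lam : R) (N : ℕ) (hN : 0 < N) (h : SekSuwa.DivCond lam N) :
    Mor2.IsFinLocFreeOfDeg N (SekSuwa.GK R lam N h).hom := by
  rcases subsingleton_or_nontrivial R with hR | hR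
  · have : Subsingleton (SekSuwa.AK R lam N h) := Module.subsingleton R _
    have : Module.Finite R (SekSuwa.AK R lam N h) := inferInstance
    have : Module.FinitePresentation R (SekSuwa.AK R lam N h) := inferInstance
    have : Algebra.FinitePresentation R (SekSuwa.AK R lam N h) := Algebra.FinitePresentation.of_finitePresentation R _
    refine ⟨⟨(IsFinite.SpecMap_iff _).mpr ((RingHom.finite_algebraMap (A := R) (B := SekSuwa.AK R lam N h)).mpr inferInstance),
      HasRingHomProperty.Spec_iff.mpr ((RingHom.flat_algebraMap_iff (R := R) (S := SekSuwa.AK R lam N h)).mpr inferInstance),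
      HasRingHomProperty.Spec_iff.mpr ((RingHom.finitePresentation_algebraMap (A := R) (B := SekSuwa.AK R lam N h)).mpr inferInstance)⟩, fun y => ?_⟩
    exact (IsEmpty.false (α := PrimeSpectrum R) y).elim
  · obtain ⟨hm, hd⟩ := psiPoly_monic_deg R lam N hN h
    obtain ⟨e⟩ := exists_equiv R lam N hN h
    have : Module.Free R (SekSuwa.AK R lam N h) :=
      have := hm.free_adjoinRoot
      Module.Free.of_equiv e.symm.toLinearEquiv
    have : Module.Finite R (SekSuwa.AK R lam N h) :=
      have := hm.finite_adjoinRoot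
      Module.Finite.equiv e.symm.toLinearEquiv
    have : Algebra.FinitePresentation R (SekSuwa.AK R lam N h) :=
      have : Module.FinitePresentation R (SekSuwa.AK R lam N h) := Module.finitePresentation_of_projective R _
      Algebra.FinitePresentation.of_finitePresentation R _
    have hk : Module.finrank R (SekSuwa.AK R lam N h) = N := by
      rw [e.toLinearEquiv.finrank_eq, (AdjoinRoot.powerBasis' hm).finrank, AdjoinRoot.powerBasis'_dim, hd]
    refine ⟨⟨(IsFinite.SpecMap_iff _).mpr ((RingHom.finite_algebraMap (A := R) (B := SekSuwa.AK R lam N h)).mpr inferInstance),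
      HasRingHomProperty.Spec_iff.mpr ((RingHom.flat_algebraMap_iff (R := R) (S := SekSuwa.AK R lam N h)).mpr inferInstance),
      HasRingHomProperty.Spec_iff.mpr ((RingHom.finitePresentation_algebraMap (A := R) (B := SekSuwa.AK R lam N h)).mpr inferInstance)⟩, fun y => ?_⟩
    change Scheme.Hom.finrank (Spec.map (CommRingCat.ofHom (algebraMap R (SekSuwa.AK R lam N h)))) y = N
    refine (Scheme.Hom.finrank_SpecMap_algebraMap R (SekSuwa.AK R lam N h) y).trans ?_
    rw [Module.rankAtStalk_eq_finrank_of_free]
    exact hk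

end Groth.Agent.S14694
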