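import Groth.Statements.S14695
import Groth.Agent.TorsorDesc.Normal
import Groth.Agent.TorsorDesc.Basic
import Groth.Agent.TorsorDesc.Equiv

set_option autoImplicit false
universe u
open CategoryTheory AlgebraicGeometry
open NonAbH1

namespace Groth.Agent.S14695

open AlgebraicGeometry CategoryTheory CategoryTheory.Limits MonoidalCategory CartesianMonoidalCategory

set_option backward.isDefEq.respectTransparency.types false


/-- In the case where the morphism Y → X is the identity of X: let X be a normal integral scheme
(integral, with every local ring an integrally closed domain), G and G' X-group schemes which are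
finite and flat over X, and g : G → G' a homomorphism which becomes an isomorphism after base change
to the spectrum of the function field of X. If an fppf G-torsor P over X becomes trivial after
extension of the structure group along g — there is an fppf G'-torsor P' over X with a g-equivariant
X-morphism P → P', and P' has a section over X — then P has a section over X. (The published
statement takes G, G' commutative and all schemes Noetherian, allows also composition with the
pull-back along a morphism Y → X admitting a rational section, and is phrased as injectivity of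
H¹(X, G) → H¹(Y, G'_Y); this row is the case where Y → X is the identity of X, as the trivial-kernel
assertion the argument establishes, for which commutativity and the Noetherian condition are not
needed.) -/
theorem result {X : Scheme.{u}} [IsIntegral X]
    (hX : Pi1.IsNormalScheme X) (G G' : Over X) [GrpObj G] [GrpObj G']
    [IsFinite G.hom] [Flat G.hom] [IsFinite G'.hom] [Flat G'.hom]
    (g : G ⟶ G') [IsMonHom g]
    (hg : IsIso ((Over.pullback (X.fromSpecStalk (genericPoint X))).map g))
    (P : Over X) (a : AlgGrp.Action G P) (hP : NonAbH1.IsTorsorFor Scheme.fppfPrecoverage a)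
    (P' : Over X) (a' : AlgGrp.Action G' P') (hP' : NonAbH1.IsTorsorFor Scheme.fppfPrecoverage a')
    (hpush : NonAbH1.IsPushforwardAlongSch g a a') (htriv : NonAbH1.HasSectionOver P' (𝟙 X)) :
    NonAbH1.HasSectionOver P (𝟙 X) := by
  let η0 := X.fromSpecStalk (genericPoint X)
  obtain ⟨f, hf⟩ := hpush
  have hPq : NonAbH1.IsTorsorFor Scheme.fpqcPrecoverage a :=
    ⟨hP.1, by obtain ⟨_, R', h1, h2⟩ := hP; exact ⟨R', Scheme.fppfPrecoverage_le_fpqcPrecoverage _ h1, h2⟩⟩
  have hfin : IsFinite P.hom := TorsorDesc.of_isTorsorFor @IsFinite a hPq ‹_›
  let F := Over.pullback η0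
  have : IsIso (F.map g) := hg
  have hFf : (a.bc η0).act ≫ F.map f = lift (fst _ _ ≫ F.map g) (snd _ _ ≫ F.map f) ≫ (a'.bc η0).act := by
    rw [AlgGrp.Action.bc_act, AlgGrp.Action.bc_act, Category.assoc, ← Functor.map_comp, hf, Functor.map_comp]
    have h1 : lift (fst G P ≫ g) (snd G P ≫ f) = g ⊗ₘ f := by
      apply CartesianMonoidalCategory.hom_ext <;> simp
    have h2 : lift (fst (F.obj G) (F.obj P) ≫ F.map g) (snd (F.obj G) (F.obj P) ≫ F.map f) = F.map g ⊗ₘ F.map f := by
      apply CartesianMonoidalCategory.hom_ext <;> simp
    change _ = lift (fst (F.obj G) (F.obj P) ≫ F.map g) (snd (F.obj G) (F.obj P) ≫ F.map f) ≫ _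
    rw [h1, h2, Functor.LaxMonoidal.μ_natural_assoc]
  have : IsIso (F.map f) := TorsorDesc.isIso_of_equivariant (NonAbH1.isTorsorFor_bc η0 _ hPq)
    (NonAbH1.isPseudoTorsorSch_bc η0 hP'.1) (F.map g) (F.map f) hFf
  obtain ⟨σ, hσ⟩ := htriv
  let σ0 : Spec (X.presheaf.stalk (genericPoint X)) ⟶ (F.obj P').left :=
    pullback.lift (η0 ≫ σ) (𝟙 _) (by rw [Category.assoc, hσ, Category.comp_id, Category.id_comp])
  refine TorsorDesc.exists_section_of_genericPoint hX P.hom (σ0 ≫ (inv (F.map f)).left ≫ pullback.fst P.hom η0) ?_
  have h1 : (inv (F.map f)).left ≫ pullback.snd P.hom η0 = pullback.snd P'.hom η0 := Over.w (inv (F.map f))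
  simp only [Category.assoc, pullback.condition]
  rw [reassoc_of% h1, pullback.lift_snd_assoc, Category.id_comp]

end Groth.Agent.S14695
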