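import Groth.Statements.S14708
import Mathlib

set_option autoImplicit false
universe u
open CategoryTheory CategoryTheory.Limits Opposite AlgebraicGeometry
open HRes

set_option backward.isDefEq.respectTransparency false

namespace Groth.Agent.S14708

universe w v u'

theorem mapExact_natTrans {C : Type u'} [Category.{v} C] [Abelian C] [HasExt.{w} C] [EnoughInjectives C]
    (F : C ⥤ C) [F.Additive] [PreservesFiniteLimits F] [PreservesFiniteColimits F] (η : F ⟶ 𝟭 C)
    (n : ℕ) : ∀ {X Y : C} (x : Abelian.Ext X Y n),
      (x.mapExactFunctor F).comp (Abelian.Ext.mk₀ (η.app Y)) (add_zero n) =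
        (Abelian.Ext.mk₀ (η.app X)).comp x (zero_add n) := by
  induction n with
  | zero =>
    intro X Y x
    obtain ⟨g, rfl⟩ := (Abelian.Ext.mk₀_bijective X Y).2 x
    rw [Abelian.Ext.mapExactFunctor_mk₀, Abelian.Ext.mk₀_comp_mk₀, Abelian.Ext.mk₀_comp_mk₀,
      η.naturality]
    rfl
  | succ n ih =>
    intro X Y x
    let S := ShortComplex.mk (Injective.ι Y) (cokernel.π (Injective.ι Y)) (cokernel.condition _)
    have hS : S.ShortExact :=
      { exact := ShortComplex.exact_of_g_is_cokernel _ (cokernelIsCokernel _) }
    haveI : Injective S.X₂ := inferInstanceAs (Injective (Injective.under Y))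
    obtain ⟨y, rfl⟩ := Abelian.Ext.covariant_sequence_exact₁ _ hS x
      (Abelian.Ext.eq_zero_of_injective _) (n₀ := n) rfl
    let φ : S.map F ⟶ S := ⟨η.app _, η.app _, η.app _, (η.naturality S.f).symm, (η.naturality S.g).symm⟩
    rw [Abelian.Ext.mapExactFunctor_comp, Abelian.Ext.mapExactFunctor_extClass,
      Abelian.Ext.comp_assoc_of_third_deg_zero,
      ShortComplex.ShortExact.extClass_naturality (hS.map_of_exact F) hS φ,
      ← Abelian.Ext.comp_assoc_of_second_deg_zero, ih y,
      Abelian.Ext.comp_assoc _ _ _ (zero_add n) rfl (by omega)]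

open CategoryTheory AlgebraicGeometry in
set_option maxHeartbeats 500000 in
/-- Let S be a scheme, K a precoverage on schemes with its big site over S, F an abelian sheaf on that
site and n ≥ 0. For every class x ∈ H^n(S, F), restricting x along the identity of S and then
applying the map induced on cohomology by the canonical isomorphism (𝟙_S)⁻¹ F ≅ F gives back x; this
is the identity law of the presheaf U ↦ H^n(U, F) given by the restriction maps. The statement is
asserted for every precoverage K; it has no hypothesis depending on K. -/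
theorem result (K : Precoverage Scheme.{u}) (S : Scheme.{u})
    (F : BigSite.Ab K S) (n : ℕ) (x : BigSite.H K S F n) :
    Sheaf.H.map ((K.toGrothendieck.overMapPullbackId AddCommGrpCat.{u + 1} S).hom.app F) n
      (HRes.pull K (𝟙 S) F n x) = x := by
  let η := (K.toGrothendieck.overMapPullbackId AddCommGrpCat.{u + 1} S).hom
  let M := AddCommGrpCat.of (ULift.{u + 1} ℤ)
  have h : (HRes.pullConst K (𝟙 S) M).inv ≫
      η.app ((constantSheaf (QuotSh.J K S) AddCommGrpCat.{u + 1}).obj M) = 𝟙 _ := by
    apply Sheaf.hom_ext
    apply sheafify_hom_ext _ _ _ (((constantSheaf (QuotSh.J K S) AddCommGrpCat.{u + 1}).obj M).property)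
    refine (Category.assoc _ _ _).symm.trans ((congrArg (fun t => t ≫ (η.app _).hom)
      ((Over.map (𝟙 S)).toSheafify_pullbackSheafificationCompatibility AddCommGrpCat.{u + 1}
        (QuotSh.J K S) (QuotSh.J K S) ((Functor.const _).obj M))).trans ?_)
    refine NatTrans.ext (funext fun U => ?_)
    refine (((toSheafify (QuotSh.J K S) ((Functor.const _).obj M)).naturality
      ((Over.mapId S).inv.app U.unop).op).symm.trans (Category.id_comp _)).trans
        (Category.comp_id _).symm
  rw [Sheaf.H.map_apply, HRes.pull_apply, Abelian.Ext.comp_assoc_of_third_deg_zero,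
    mapExact_natTrans _ η, ← Abelian.Ext.comp_assoc_of_second_deg_zero, Abelian.Ext.mk₀_comp_mk₀]
  erw [h, Abelian.Ext.mk₀_id_comp]

end Groth.Agent.S14708
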