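import Groth.Statements.S14709
import Mathlib

set_option autoImplicit false
universe u
open HRes

set_option backward.isDefEq.respectTransparency false

namespace Groth.Agent.S14709

open CategoryTheory Limits in
theorem mapExact_natTrans.{w, v, v', v'', a, b, c, w', w''} {C : Type a} [Category.{v} C] [Abelian C]
    [HasExt.{w} C] [EnoughInjectives C] {D : Type b} [Category.{v'} D] [Abelian D] [HasExt.{w'} D]
    {E : Type c} [Category.{v''} E] [Abelian E] [HasExt.{w''} E]
    (F : C ⥤ D) [F.Additive] [PreservesFiniteLimits F] [PreservesFiniteColimits F]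
    (G : D ⥤ E) [G.Additive] [PreservesFiniteLimits G] [PreservesFiniteColimits G]
    (H : C ⥤ E) [H.Additive] [PreservesFiniteLimits H] [PreservesFiniteColimits H]
    (η : F ⋙ G ⟶ H) (n : ℕ) : ∀ {X Y : C} (x : Abelian.Ext X Y n),
      ((x.mapExactFunctor F).mapExactFunctor G).comp (Abelian.Ext.mk₀ (η.app Y)) (add_zero n) =
        (Abelian.Ext.mk₀ (η.app X)).comp (x.mapExactFunctor H) (zero_add n) := by
  induction n with
  | zero =>
    intro X Y x
    obtain ⟨g, rfl⟩ := (Abelian.Ext.mk₀_bijective X Y).2 x
    simp only [Abelian.Ext.mapExactFunctor_mk₀, Abelian.Ext.mk₀_comp_mk₀]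
    exact congrArg _ (η.naturality g)
  | succ n ih =>
    intro X Y x
    let S := ShortComplex.mk (Injective.ι Y) (cokernel.π (Injective.ι Y)) (cokernel.condition _)
    have hS : S.ShortExact :=
      { exact := ShortComplex.exact_of_g_is_cokernel _ (cokernelIsCokernel _) }
    haveI : Injective S.X₂ := inferInstanceAs (Injective (Injective.under Y))
    obtain ⟨y, rfl⟩ := Abelian.Ext.covariant_sequence_exact₁ _ hS x
      (Abelian.Ext.eq_zero_of_injective _) (n₀ := n) rfl
    let φ : (S.map F).map G ⟶ S.map H :=
      ⟨η.app _, η.app _, η.app _, (η.naturality S.f).symm, (η.naturality S.g).symm⟩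
    simp only [Abelian.Ext.mapExactFunctor_comp, Abelian.Ext.mapExactFunctor_extClass]
    rw [Abelian.Ext.comp_assoc_of_third_deg_zero]
    erw [ShortComplex.ShortExact.extClass_naturality ((hS.map_of_exact F).map_of_exact G)
      (hS.map_of_exact H) φ]
    rw [← Abelian.Ext.comp_assoc_of_second_deg_zero]
    erw [ih y, Abelian.Ext.comp_assoc _ _ _ (zero_add n) rfl (by omega)]

open CategoryTheory AlgebraicGeometry in
set_option maxHeartbeats 700000 in
/-- Let g : T' ⟶ T and f : T ⟶ S be morphisms of schemes, K a precoverage on schemes with its big sites,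
F an abelian sheaf on the big site of S and n ≥ 0. For every x ∈ H^n(S, F), the restriction of x
along g ≫ f is the restriction of x along f, restricted further along g, and then carried along the
map induced on cohomology by the canonical isomorphism g⁻¹(f⁻¹ F) ≅ (g ≫ f)⁻¹ F; this is the
composition law of the presheaf U ↦ H^n(U, F) given by the restriction maps. The statement is
asserted for every precoverage K; it has no hypothesis depending on K. -/
theorem result (K : Precoverage Scheme.{u}) {S T T' : Scheme.{u}}
    (f : T ⟶ S) (g : T' ⟶ T) (F : BigSite.Ab K S) (n : ℕ) (x : BigSite.H K S F n) :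
    HRes.pull K (g ≫ f) F n x =
      Sheaf.H.map ((K.toGrothendieck.overMapPullbackComp AddCommGrpCat.{u + 1} g f).hom.app F) n
        (HRes.pull K g ((BigSite.pullBig K f AddCommGrpCat.{u + 1}).obj F) n (HRes.pull K f F n x)) := by
  let η := (K.toGrothendieck.overMapPullbackComp AddCommGrpCat.{u + 1} g f).hom
  let M := AddCommGrpCat.of (ULift.{u + 1} ℤ)
  let P := (Functor.const (Over S)ᵒᵖ).obj M
  have h : (HRes.pullConst K g M).inv ≫ (BigSite.pullBig K g AddCommGrpCat.{u + 1}).map (HRes.pullConst K f M).inv ≫
      η.app ((constantSheaf (QuotSh.J K S) AddCommGrpCat.{u + 1}).obj M) = (HRes.pullConst K (g ≫ f) M).inv := by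
    apply Sheaf.hom_ext
    apply sheafify_hom_ext _ _ _ (((BigSite.pullBig K (g ≫ f) AddCommGrpCat.{u + 1}).obj
      ((constantSheaf (QuotSh.J K S) AddCommGrpCat.{u + 1}).obj M)).property)
    refine (Category.assoc _ _ _).symm.trans ((congrArg (fun t => t ≫ _)
      ((Over.map g).toSheafify_pullbackSheafificationCompatibility AddCommGrpCat.{u + 1}
        (QuotSh.J K T') (QuotSh.J K T) ((Functor.const _).obj M))).trans ?_)
    refine Eq.trans ?_ ((Over.map (g ≫ f)).toSheafify_pullbackSheafificationCompatibility
      AddCommGrpCat.{u + 1} (QuotSh.J K T') (QuotSh.J K S) ((Functor.const _).obj M)).symm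
    refine NatTrans.ext (funext fun U => ?_)
    refine (Category.assoc _ _ _).symm.trans ((congrArg (fun t => t ≫ _)
      (congrArg (fun α => α.app (Opposite.op ((Over.map g).obj U.unop)))
        ((Over.map f).toSheafify_pullbackSheafificationCompatibility AddCommGrpCat.{u + 1}
          (QuotSh.J K T) (QuotSh.J K S) ((Functor.const _).obj M)))).trans ?_)
    exact ((toSheafify (QuotSh.J K S) P).naturality
      ((Over.mapComp g f).hom.app U.unop).op).symm.trans (Category.id_comp _)
  rw [Sheaf.H.map_apply, HRes.pull_apply, HRes.pull_apply, HRes.pull_apply,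
    Abelian.Ext.mapExactFunctor_comp, Abelian.Ext.mapExactFunctor_mk₀,
    Abelian.Ext.mk₀_comp_mk₀_assoc, Abelian.Ext.comp_assoc_of_third_deg_zero,
    mapExact_natTrans (BigSite.pullBig K f AddCommGrpCat.{u + 1}) (BigSite.pullBig K g AddCommGrpCat.{u + 1})
      (BigSite.pullBig K (g ≫ f) AddCommGrpCat.{u + 1}) η n x,
    Abelian.Ext.mk₀_comp_mk₀_assoc, Category.assoc]
  exact congrArg (fun t => (Abelian.Ext.mk₀ t).comp _ _) h.symm

end Groth.Agent.S14709
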