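import Groth.Statements.S1471
import Groth.Agent.FlatMorLib.SpecStalk
import Groth.Agent.FpqcDescent.ReducedSub

set_option autoImplicit false
universe u
open FlatMor

namespace Groth.Agent.S1471

open AlgebraicGeometry CategoryTheory Limits in
/-- Let f : X → Y and η a generic point of an irreducible component of Y. Then the fibre over η of the
composite X_red → X → Y is reduced; since it is a closed subscheme of X_η with the same underlying
set, this says (X_η)_red = (X_red)_η. -/
theorem result {X Y : Scheme.{u}} (f : X ⟶ Y) (η : Y) (W : Set ↑Y) (hW : W ∈ irreducibleComponents ↑Y) (hη : IsGenericPoint η W) :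
    IsReduced ((X.nilradical.subschemeι ≫ f).fiber η) := by
  have : IsReduced X.nilradical.subscheme := by
    have := Groth.Agent.FpqcDescent.isReduced_subscheme_vanishingIdeal (X := X) ⊤
    rwa [Scheme.IdealSheafData.vanishingIdeal_top] at this
  refine Groth.Agent.FlatMorLib.isReduced_fiber_of_maximal _ η fun y hy ↦ ?_
  have h1 : W ⊆ closure {y} := hη.def ▸
    closure_minimal (Set.singleton_subset_iff.mpr hy.mem_closure) isClosed_closure
  have h2 : closure {y} = W := (hW.2 isIrreducible_singleton.closure h1).antisymm h1
  exact IsGenericPoint.eq h2 hη

end Groth.Agent.S1471
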