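import Groth.Statements.S1969
import Mathlib

set_option autoImplicit false
universe u
open EtAlg

namespace Groth.Agent.S1969

/-- For a commutative ring A these are equivalent — all ideals are flat A-modules; all finitely
generated ideals are flat; flatness passes to submodules of flat modules; each localization at a
prime is a valuation ring (in particular a domain). Condition (1), weak dimension at most one, is
not stated. -/
theorem result (A : Type u) [CommRing A] :
    List.TFAE [∀ I : Ideal A, Module.Flat A I,
      ∀ I : Ideal A, I.FG → Module.Flat A I,
      ∀ (M : Type u) [AddCommGroup M] [Module A M], Module.Flat A M → ∀ N : Submodule A M, Module.Flat A N,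
      ∀ (p : Ideal A) [p.IsPrime], ∃ _ : IsDomain (Localization.AtPrime p), ValuationRing (Localization.AtPrime p)] := by
  tfae_have 1 → 2 := fun h I _ => h I
  tfae_have 2 → 3 := fun h M _ _ hM N => by
    rw [Module.Flat.iff_rTensor_injective]
    intro J hJ
    haveI := h J hJ
    have h1 : Function.Injective (J.subtype.rTensor N) := by
      have hc : (J.subtype.rTensor M) ∘ₗ (N.subtype.lTensor J) = (N.subtype.lTensor A) ∘ₗ (J.subtype.rTensor N) := by
        rw [LinearMap.rTensor_comp_lTensor, LinearMap.lTensor_comp_rTensor]
      refine Function.Injective.of_comp (f := N.subtype.lTensor A) ?_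
      rw [← LinearMap.coe_comp, ← hc, LinearMap.coe_comp]
      exact (Module.Flat.iff_rTensor_injective.mp hM hJ).comp
        (Module.Flat.lTensor_preserves_injective_linearMap _ Subtype.val_injective)
    exact h1
  tfae_have 3 → 1 := fun h I => h A inferInstance I
  tfae_have 3 → 4 := fun h p _ => by
    let R := Localization.AtPrime p
    have hfl : ∀ J : Ideal R, Module.Flat R J := fun J => by
      rw [Module.flat_iff_of_isLocalization R p.primeCompl]
      haveI : Module.Flat A R := inferInstance
      let e : (J.restrictScalars A : Submodule A R) ≃ₗ[A] J := LinearEquiv.refl A J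
      haveI := h R inferInstance (J.restrictScalars A)
      exact Module.Flat.of_linearEquiv e.symm
    have hfree : ∀ J : Ideal R, J.FG → Module.Free R J := fun J hJ => by
      haveI := hfl J
      haveI : Module.Finite R J := Module.Finite.iff_fg.mpr hJ
      exact Module.free_of_flat_of_isLocalRing
    haveI : NoZeroDivisors R := by
      refine ⟨fun {x y} hxy => ?_⟩
      by_contra hc
      push Not at hc
      haveI := hfree (Ideal.span {x}) ⟨{x}, by simp⟩
      let b := Module.Free.chooseBasis R (Ideal.span {x})
      have : y = 0 := by
        have hz : ∀ w : Ideal.span {x}, y • w = 0 := fun w => by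
          obtain ⟨c, hc⟩ := Ideal.mem_span_singleton'.mp w.2
          exact Subtype.ext (by simp [← hc]; linear_combination c * hxy)
        rcases isEmpty_or_nonempty (Module.Free.ChooseBasisIndex R (Ideal.span {x})) with he | ⟨⟨i⟩⟩
        · exfalso
          haveI : Subsingleton (Ideal.span {x}) := b.repr.toEquiv.subsingleton
          exact hc.1 (congrArg Subtype.val (Subsingleton.elim (⟨x, Ideal.mem_span_singleton_self x⟩ : Ideal.span {x}) 0))
        · have := congrArg (fun w => b.repr w i) (hz (b i))
          simpa using this
      exact hc.2 this
    haveI : IsDomain R := NoZeroDivisors.to_isDomain R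
    haveI : IsBezout R := ⟨fun J hJ => by
      haveI := hfree J hJ
      haveI : Module.Finite R J := Module.Finite.iff_fg.mpr hJ
      let b := Module.Free.chooseBasis R J
      rcases isEmpty_or_nonempty (Module.Free.ChooseBasisIndex R J) with he | ⟨⟨i⟩⟩
      · refine ⟨⟨0, ?_⟩⟩
        rw [Submodule.span_zero_singleton, eq_bot_iff]
        intro x hx
        haveI : Subsingleton J := b.repr.toEquiv.subsingleton
        exact congrArg Subtype.val (Subsingleton.elim (⟨x, hx⟩ : J) 0)
      · have hall : ∀ j, j = i := fun j => by
          by_contra hne
          have h1 : (b i : R) • b j = (b j : R) • b i := Subtype.ext (mul_comm _ _)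
          have h2 := congrArg (fun w => b.repr w j) h1
          simp [Ne.symm hne] at h2
          exact b.ne_zero i h2
        refine ⟨⟨(b i : R), le_antisymm (fun x hx => ?_) ((Submodule.span_singleton_le_iff_mem _ _).mpr (b i).2)⟩⟩
        rw [Submodule.mem_span_singleton]
        refine ⟨b.repr ⟨x, hx⟩ i, ?_⟩
        have h3 := b.sum_repr ⟨x, hx⟩
        rw [Finset.sum_eq_single i (fun j _ hj => absurd (hall j) hj) (fun hi => absurd (Finset.mem_univ i) hi)] at h3
        exact congrArg Subtype.val h3⟩
    exact ⟨inferInstance, inferInstance⟩
  tfae_have 4 → 1 := fun h I => by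
    refine Module.flat_of_isLocalized_maximal _ _
      (fun P _ => I.localized' (Localization.AtPrime P) P.primeCompl (Algebra.linearMap A (Localization.AtPrime P)))
      (fun P _ => I.toLocalized' (Localization.AtPrime P) P.primeCompl (Algebra.linearMap A (Localization.AtPrime P))) ?_
    intro P _
    obtain ⟨hd, hv⟩ := h P
    let J : Ideal (Localization.AtPrime P) := I.localized' (Localization.AtPrime P) P.primeCompl (Algebra.linearMap A (Localization.AtPrime P))
    haveI : Module.Flat (Localization.AtPrime P) J := by
      rw [Module.Flat.flat_iff_torsion_eq_bot_of_isBezout, eq_bot_iff]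
      intro x hx
      obtain ⟨c, hc⟩ := (Submodule.mem_torsion_iff x).mp hx
      have : (c : Localization.AtPrime P) * (x : Localization.AtPrime P) = 0 := congrArg Subtype.val hc
      exact Subtype.ext ((mul_eq_zero.mp this).resolve_left (nonZeroDivisors.ne_zero c.2))
    exact (Module.flat_iff_of_isLocalization (Localization.AtPrime P) P.primeCompl (M := J)).mp inferInstance
  tfae_finish

end Groth.Agent.S1969
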