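import Groth.Statements.S14726
import Mathlib
import Groth.Agent.ValEt.Etale

set_option autoImplicit false
universe u
open ValPrufer

open scoped TensorProduct

namespace Groth.Agent.S14726

/-- Let V be a valuation ring with maximal ideal m, A an integral domain that is a smooth V-algebra, and
p a prime ideal of A minimal among the primes containing mA (a generic point of the special fibre of
Spec A over V). Then A_p is a valuation ring, V → A_p is an injective local homomorphism, and every
nonzero element of A_p is a unit of A_p times the image of an element of V, so that V → A_p induces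
a bijection on value groups. (The published statement takes A faithfully flat and a semilocalisation
of a smooth V-algebra at finitely many primes; the local ring A_p is then a local ring of the smooth
algebra itself at such a prime, and faithful flatness follows from the existence of p, so this row
states the smooth case, which carries the whole content.) -/
theorem result
    (V : Type u) [CommRing V] [IsDomain V] [ValuationRing V]
    (A : Type u) [CommRing A] [IsDomain A] [Algebra V A] [Algebra.Smooth V A]
    (p : Ideal A) [p.IsPrime]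
    (hp : p ∈ ((IsLocalRing.maximalIdeal V).map (algebraMap V A)).minimalPrimes) :
    ValuationRing (Localization.AtPrime p) ∧
      Function.Injective (algebraMap V (Localization.AtPrime p)) ∧
      IsLocalHom (algebraMap V (Localization.AtPrime p)) ∧
      ∀ x : Localization.AtPrime p, x ≠ 0 →
        ∃ (v : V) (w : (Localization.AtPrime p)ˣ), x = algebraMap V (Localization.AtPrime p) v * w := by
  classical
  -- a local domain all of whose elements are units times scalars is a valuation ring
  have hvr : ∀ (W : Type u) [CommRing W] [IsDomain W] (i : V →+* W),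
      (∀ x : W, x ≠ 0 → ∃ (v : V) (w : Wˣ), x = i v * w) → ValuationRing W := by
    intro W _ _ i hs
    refine { cond' := fun x y => ?_ }
    rcases eq_or_ne x 0 with rfl | hx
    · exact ⟨0, Or.inr (by simp)⟩
    rcases eq_or_ne y 0 with rfl | hy
    · exact ⟨0, Or.inl (by simp)⟩
    obtain ⟨a, p, rfl⟩ := hs x hx
    obtain ⟨c, q, rfl⟩ := hs y hy
    obtain ⟨w, hw | hw⟩ := ValuationRing.cond a c
    · refine ⟨↑(p⁻¹ * q) * i w, Or.inl ?_⟩
      rw [← hw, map_mul, Units.val_mul]
      linear_combination (↑q * i a * i w) * Units.mul_inv p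
    · refine ⟨↑(q⁻¹ * p) * i w, Or.inr ?_⟩
      rw [← hw, map_mul, Units.val_mul]
      linear_combination (↑p * i c * i w) * Units.mul_inv q
  let Ap := Localization.AtPrime p
  haveI : Module.Flat V A := inferInstance
  have hpm : Ideal.comap (algebraMap V A) p = IsLocalRing.maximalIdeal V :=
    le_antisymm (IsLocalRing.le_maximalIdeal (Ideal.IsPrime.ne_top (Ideal.comap_isPrime _ p))) (Ideal.map_le_iff_le_comap.mp hp.1.2)
  have hloc : IsLocalHom (algebraMap V Ap) := by
    refine ((IsLocalRing.local_hom_TFAE _).out 0 4).mpr ?_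
    rw [IsScalarTower.algebraMap_eq V A Ap, ← Ideal.comap_comap,
      show Ideal.comap (algebraMap A Ap) (IsLocalRing.maximalIdeal Ap) = p from IsLocalization.AtPrime.under_maximalIdeal Ap p, hpm]
  have hinjVA : Function.Injective (algebraMap V A) := by
    rw [injective_iff_map_eq_zero]
    intro a ha
    by_contra h
    have h1 := Module.Flat.lTensor_preserves_injective_linearMap (M := A)
      (LinearMap.toSpanSingleton V V a) (fun x y hxy => mul_right_cancel₀ h (by simpa using hxy))
    have h2 : (1 : A) ⊗ₜ[V] (1 : V) = 0 := h1 (by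
      rw [map_zero, LinearMap.lTensor_tmul, LinearMap.toSpanSingleton_apply, one_smul,
        show a = a • (1 : V) by simp, ← TensorProduct.smul_tmul, ← Algebra.algebraMap_eq_smul_one, ha,
        TensorProduct.zero_tmul])
    have h3 := congrArg (TensorProduct.rid V A) h2
    simp at h3
  have hinjA : Function.Injective (algebraMap A Ap) := IsLocalization.injective Ap p.primeCompl_le_nonZeroDivisors
  have hinj : Function.Injective (algebraMap V Ap) := by
    rw [IsScalarTower.algebraMap_eq V A Ap]; exact hinjA.comp hinjVA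
  suffices hkey : ∀ x : Ap, x ≠ 0 → ∃ (v : V) (w : Apˣ), x = algebraMap V Ap v * w from
    ⟨hvr Ap (algebraMap V Ap) hkey, hinj, hloc, hkey⟩
  -- chart
  obtain ⟨s, hs, hstd⟩ := Algebra.Smooth.exists_span_eq_top_isStandardSmooth V A
  obtain ⟨g, hgs, hgp⟩ : ∃ g ∈ s, g ∉ p := by
    by_contra h
    push Not at h
    exact Ideal.IsPrime.ne_top ‹p.IsPrime› (top_le_iff.mp (hs ▸ Ideal.span_le.mpr h))
  let A' := Localization.Away g
  obtain ⟨n, gP, hgC, hget⟩ := RingHom.IsStandardSmooth.exists_etale_mvPolynomial
    (f := algebraMap V A') (RingHom.isStandardSmooth_algebraMap.mpr (hstd g hgs))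
  let P := MvPolynomial (Fin n) V
  letI : Algebra P A' := gP.toAlgebra
  haveI : Algebra.Etale P A' := hget
  let ρ : A' →+* Ap := IsLocalization.Away.lift g (g := algebraMap A Ap)
    (IsLocalization.map_units Ap (⟨g, hgp⟩ : p.primeCompl))
  have hρ : ∀ a, ρ (algebraMap A A' a) = algebraMap A Ap a := IsLocalization.Away.lift_eq g _
  let q := Ideal.comap ρ (IsLocalRing.maximalIdeal Ap)
  have hqA : Ideal.comap (algebraMap A A') q = p := by
    rw [Ideal.comap_comap, show ρ.comp (algebraMap A A') = algebraMap A Ap from RingHom.ext hρ]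
    exact IsLocalization.AtPrime.under_maximalIdeal Ap p
  have hρV : ∀ v : V, ρ (gP (MvPolynomial.C v)) = algebraMap V Ap v := fun v => by
    rw [show gP (MvPolynomial.C v) = algebraMap V A' v from RingHom.congr_fun hgC v,
      IsScalarTower.algebraMap_apply V A A', hρ, ← IsScalarTower.algebraMap_apply]
  -- the generic point of the special fibre of affine space
  let Q0 : Ideal P := RingHom.ker (MvPolynomial.map (IsLocalRing.residue V) : P →+* MvPolynomial (Fin n) (IsLocalRing.ResidueField V))
  haveI hQ0 : Q0.IsPrime := RingHom.ker_isPrime _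
  have hQ0' : Q0 = (IsLocalRing.maximalIdeal V).map (MvPolynomial.C : V →+* P) := by
    show RingHom.ker _ = _
    rw [MvPolynomial.ker_map, IsLocalRing.ker_residue]
  have hcontract : Ideal.comap gP q = Q0 := by
    refine le_antisymm ?_ ?_
    · by_contra hle
      have hle' : Q0 ≤ Ideal.under P q := by
        rw [hQ0', Ideal.map_le_iff_le_comap]
        intro v hv
        show ρ (gP (MvPolynomial.C v)) ∈ IsLocalRing.maximalIdeal Ap
        rw [hρV]
        exact map_nonunit (algebraMap V Ap) v hv
      obtain ⟨q', hq'q, hq'P, hq'o⟩ := Algebra.HasGoingDown.exists_ideal_le_liesOver_of_lt q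
        (lt_of_le_of_ne hle' fun h => hle (le_of_eq h.symm))
      have h1 : Ideal.comap (algebraMap A A') q' ≤ p := hqA ▸ Ideal.comap_mono hq'q
      have h2 : (IsLocalRing.maximalIdeal V).map (algebraMap V A) ≤ Ideal.comap (algebraMap A A') q' := by
        rw [Ideal.map_le_iff_le_comap]
        intro v hv
        show algebraMap A A' (algebraMap V A v) ∈ q'
        rw [← IsScalarTower.algebraMap_apply, ← RingHom.congr_fun hgC v]
        show MvPolynomial.C v ∈ Ideal.under P q'
        rw [← hq'o.over, hQ0']
        exact Ideal.mem_map_of_mem _ hv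
      have h3 : p = Ideal.comap (algebraMap A A') q' := le_antisymm (hp.2 ⟨Ideal.comap_isPrime _ q', h2⟩ h1) h1
      have h4 : q' = q := by
        rw [← IsLocalization.map_comap (Submonoid.powers g) A' q', ← IsLocalization.map_comap (Submonoid.powers g) A' q,
          Ideal.under_def, Ideal.under_def, ← h3, hqA]
      apply hle
      show Ideal.under P q ≤ Q0
      rw [← h4, ← hq'o.over]
    · rw [hQ0', Ideal.map_le_iff_le_comap]
      intro v hv
      show ρ (gP (MvPolynomial.C v)) ∈ IsLocalRing.maximalIdeal Ap
      rw [hρV]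
      exact map_nonunit (algebraMap V Ap) v hv
  let W0 := Localization.AtPrime Q0
  have hcontent : ∀ x : W0, x ≠ 0 → ∃ (v : V) (w : W0ˣ), x = (algebraMap P W0).comp MvPolynomial.C v * w := by
    intro x hx
    obtain ⟨⟨f, t⟩, hft⟩ := IsLocalization.surj Q0.primeCompl x
    have hf0 : f ≠ 0 := fun h => hx (by
      rw [h, map_zero] at hft
      exact (IsLocalization.map_units W0 t).mul_left_eq_zero.mp hft)
    obtain ⟨m, hm, hmax⟩ : ∃ m ∈ f.support, ∀ j ∈ f.support, f.coeff m ∣ f.coeff j := by
      have : ∀ s : Finset (Fin n →₀ ℕ), s.Nonempty → ∃ i ∈ s, ∀ j ∈ s, f.coeff i ∣ f.coeff j := by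
        intro s hs
        induction hs using Finset.Nonempty.cons_induction with
        | singleton a => exact ⟨a, Finset.mem_singleton_self a, fun j hj => by rw [Finset.mem_singleton.mp hj]⟩
        | cons a s has hs ih =>
          obtain ⟨i, hi, hmax⟩ := ih
          rcases ValuationRing.dvd_total (f.coeff i) (f.coeff a) with h | h
          · exact ⟨i, Finset.mem_cons_of_mem hi, fun j hj => (Finset.mem_cons.mp hj).elim (fun e => e ▸ h) (hmax j)⟩
          · exact ⟨a, Finset.mem_cons_self a s, fun j hj => (Finset.mem_cons.mp hj).elim (fun e => e ▸ dvd_rfl) fun hj => h.trans (hmax j hj)⟩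
      exact this _ (MvPolynomial.support_nonempty.mpr hf0)
    obtain ⟨f1, hf1⟩ : MvPolynomial.C (f.coeff m) ∣ f := (MvPolynomial.C_dvd_iff_dvd_coeff _ _).mpr fun j => by
      by_cases hj : j ∈ f.support
      · exact hmax j hj
      · rw [MvPolynomial.notMem_support_iff.mp hj]; exact dvd_zero _
    have hu1 : f1 ∉ Q0 := by
      intro h
      have h1 := congrArg (fun z => z.coeff m) hf1
      simp only [MvPolynomial.coeff_C_mul] at h1
      have h2 : f1.coeff m = 1 := mul_left_cancel₀ (MvPolynomial.mem_support_iff.mp hm) (by rw [mul_one]; exact h1.symm)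
      have h3 := congrArg (fun z => MvPolynomial.coeff m z) (show MvPolynomial.map (IsLocalRing.residue V) f1 = 0 from h)
      simp only [MvPolynomial.coeff_map, h2, map_one, MvPolynomial.coeff_zero] at h3
      exact one_ne_zero h3
    obtain ⟨u1, hu1'⟩ := IsLocalization.map_units W0 (⟨f1, hu1⟩ : Q0.primeCompl)
    refine ⟨f.coeff m, u1 * (IsLocalization.map_units W0 t).unit⁻¹, ?_⟩
    rw [Units.val_mul, hu1', ← mul_assoc, RingHom.comp_apply, ← map_mul, ← hf1, ← hft, mul_assoc, IsUnit.mul_val_inv, mul_one]
  haveI : ValuationRing W0 := hvr W0 _ hcontent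
  -- base change to the generic point
  letI : Algebra P Ap := (ρ.comp gP).toAlgebra
  let σ : W0 →+* Ap := IsLocalization.lift (M := Q0.primeCompl) (g := algebraMap P Ap) fun t =>
    IsLocalRing.notMem_maximalIdeal.mp fun h => t.2 (hcontract.le (show (t : P) ∈ Ideal.comap gP q from h))
  have hσ : ∀ z, σ (algebraMap P W0 z) = ρ (gP z) := fun z => IsLocalization.lift_eq _ z
  letI : Algebra W0 Ap := σ.toAlgebra
  haveI : IsScalarTower P W0 Ap := .of_algebraMap_eq fun z => (hσ z).symm
  let φ : W0 ⊗[P] A' →ₐ[W0] Ap := Algebra.TensorProduct.lift (Algebra.ofId W0 Ap)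
    ({ ρ with commutes' := fun z => rfl } : A' →ₐ[P] Ap) fun _ _ => Commute.all _ _
  let m := Ideal.comap φ.toRingHom (IsLocalRing.maximalIdeal Ap)
  have hm : Ideal.comap (algebraMap W0 (W0 ⊗[P] A')) m = IsLocalRing.maximalIdeal W0 := by
    refine le_antisymm (IsLocalRing.le_maximalIdeal (Ideal.IsPrime.ne_top (Ideal.comap_isPrime _ m))) ?_
    rw [← Localization.AtPrime.map_eq_maximalIdeal, Ideal.map_le_iff_le_comap]
    intro z hz
    show φ (algebraMap W0 (W0 ⊗[P] A') (algebraMap P W0 z)) ∈ IsLocalRing.maximalIdeal Ap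
    rw [φ.commutes]
    show σ (algebraMap P W0 z) ∈ _
    rw [hσ]
    exact (hcontract.ge hz : z ∈ Ideal.comap gP q)
  obtain ⟨-, -, -, -, hspec⟩ := ValEt.atPrime_spec W0 (W0 ⊗[P] A') m hm
  let τ : Localization.AtPrime m →+* Ap := IsLocalization.lift (M := m.primeCompl) (g := φ.toRingHom) fun y =>
    IsLocalRing.notMem_maximalIdeal.mp y.2
  have hτ : ∀ z, τ (algebraMap _ _ z) = φ z := fun z => IsLocalization.lift_eq _ z
  intro x hx
  obtain ⟨⟨a, t⟩, hat⟩ := IsLocalization.surj p.primeCompl x
  have hra : φ (1 ⊗ₜ[P] algebraMap A A' a) = algebraMap A Ap a := by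
    simp only [φ, Algebra.TensorProduct.lift_tmul, map_one, one_mul]
    exact hρ a
  obtain ⟨w0, uW, hw0⟩ := hspec (algebraMap _ (Localization.AtPrime m) ((1 : W0) ⊗ₜ[P] algebraMap A A' a)) fun h => by
    have := congrArg τ h
    rw [hτ, hra, map_zero, ← hat] at this
    exact hx ((IsLocalization.map_units Ap t).mul_left_eq_zero.mp this)
  have h1 := congrArg τ hw0
  rw [hτ, hra, map_mul, IsScalarTower.algebraMap_apply W0 (W0 ⊗[P] A') (Localization.AtPrime m), hτ, φ.commutes,
    show algebraMap W0 Ap w0 = σ w0 from rfl] at h1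
  obtain ⟨v, w1, hw1⟩ := hcontent w0 fun h => by
    rw [h, map_zero, mul_zero, ← hat] at h1
    exact hx ((IsLocalization.map_units Ap t).mul_left_eq_zero.mp h1)
  rw [hw1, map_mul, RingHom.comp_apply, hσ, hρV, ← hat] at h1
  refine ⟨v, uW.map τ.toMonoidHom * w1.map σ.toMonoidHom * (IsLocalization.map_units Ap t).unit⁻¹, ?_⟩
  refine (IsLocalization.map_units Ap t).mul_right_cancel ?_
  rw [h1]
  simp only [Units.val_mul, Units.coe_map, RingHom.toMonoidHom_eq_coe, MonoidHom.coe_coe, mul_assoc,
    IsUnit.val_inv_mul, mul_one]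
  ring

end Groth.Agent.S14726
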