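import Groth.Statements.S14727
import Mathlib

set_option autoImplicit false
universe u
open ValPrufer

namespace Groth.Agent.S14727

/-- Let R be a semilocal ring (finitely many maximal ideals) and I an ideal of R of co-height zero, i.e.
every prime ideal containing I is maximal. Then the canonical map from the I-adic completion of R to
the product, over the maximal ideals m ⊇ I, of the I-adic completions of the local rings R_m
(equivalently their IR_m-adic completions) is bijective; it is the continuous ring isomorphism of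
the source, stated here as bijectivity of the canonical map of completed modules. -/
theorem result
    (R : Type u) [CommRing R] (hR : Finite (MaximalSpectrum R)) (I : Ideal R)
    (hI : ∀ (p : Ideal R), p.IsPrime → I ≤ p → p.IsMaximal) :
    Function.Bijective (LinearMap.pi (fun m : {m : MaximalSpectrum R // I ≤ m.asIdeal} =>
      AdicCompletion.map I (Algebra.linearMap R (Localization.AtPrime m.1.asIdeal)))) := by
  classical
  let SM := {m : MaximalSpectrum R // I ≤ m.asIdeal}
  haveI : Finite SM := Subtype.finite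
  have hle : ∀ (n : ℕ) (P : Ideal R), P.IsPrime → I ^ n ≤ P → I ≤ P := fun n P hP h => hP.le_of_pow_le h
  -- a power of an element of `m` lies in `I ^ n R_m`
  have hnil : ∀ (n : ℕ) (m : SM) (t : R), t ∈ m.1.asIdeal → ∃ k : ℕ,
      algebraMap R (Localization.AtPrime m.1.asIdeal) (t ^ k) ∈ Ideal.map (algebraMap R (Localization.AtPrime m.1.asIdeal)) (I ^ n) := by
    intro n m t ht
    suffices h : algebraMap R (Localization.AtPrime m.1.asIdeal) t ∈ (Ideal.map (algebraMap R (Localization.AtPrime m.1.asIdeal)) (I ^ n)).radical by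
      obtain ⟨k, hk⟩ := h
      exact ⟨k, by rwa [map_pow]⟩
    rw [Ideal.radical_eq_sInf, Submodule.mem_sInf]
    rintro P ⟨hP, hPp⟩
    have h1 : I ≤ Ideal.comap (algebraMap R (Localization.AtPrime m.1.asIdeal)) P := hle n _ (Ideal.comap_isPrime _ P) (Ideal.map_le_iff_le_comap.mp hP)
    have h2 := hI _ (Ideal.comap_isPrime (algebraMap R (Localization.AtPrime m.1.asIdeal)) P) h1
    have h3 : Ideal.comap (algebraMap R (Localization.AtPrime m.1.asIdeal)) P ≤ m.1.asIdeal := by
      exact le_of_le_of_eq (Ideal.comap_mono (IsLocalRing.le_maximalIdeal hPp.ne_top))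
        (IsLocalization.AtPrime.comap_maximalIdeal (Localization.AtPrime m.1.asIdeal) m.1.asIdeal)
    rw [← h2.eq_of_le m.1.isMaximal.ne_top h3] at ht
    exact ht
  have hsep : ∀ m : SM, ∃ t : R, t ∉ m.1.asIdeal ∧ ∀ m' : SM, m' ≠ m → t ∈ m'.1.asIdeal := by
    intro m
    cases nonempty_fintype SM
    have : ∀ m' : SM, ∃ r : R, r ∉ m.1.asIdeal ∧ (m' ≠ m → r ∈ m'.1.asIdeal) := fun m' => by
      by_cases h : m' = m
      · exact ⟨1, fun h1 => m.1.isMaximal.ne_top ((Ideal.eq_top_iff_one _).mpr h1), fun h' => absurd h h'⟩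
      · obtain ⟨r, hr, hr'⟩ := SetLike.not_le_iff_exists.mp fun hle' : m'.1.asIdeal ≤ m.1.asIdeal =>
          h (Subtype.ext (MaximalSpectrum.ext (m'.1.isMaximal.eq_of_le m.1.isMaximal.ne_top hle')))
        exact ⟨r, hr', fun _ => hr⟩
    choose r hr hr' using this
    refine ⟨∏ m', r m', fun h => ?_, fun m' hm' => ?_⟩
    · obtain ⟨i, -, hi⟩ := (m.1.isMaximal.isPrime.prod_mem_iff).mp h
      exact hr i hi
    · exact Ideal.prod_mem _ (Finset.mem_univ m') (hr' m' hm')
  choose t ht ht' using hsep
  have hred : ∀ (n : ℕ) (m : SM) (y : Localization.AtPrime m.1.asIdeal),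
      y ∈ (I ^ n • ⊤ : Submodule R (Localization.AtPrime m.1.asIdeal)) ↔
        y ∈ Ideal.map (algebraMap R (Localization.AtPrime m.1.asIdeal)) (I ^ n) := fun n m y => by
    rw [Ideal.smul_top_eq_map]; rfl
  let φ : ∀ (n : ℕ) (m : SM), R ⧸ (I ^ n • ⊤ : Submodule R R) →ₗ[R]
      Localization.AtPrime m.1.asIdeal ⧸ (I ^ n • ⊤ : Submodule R (Localization.AtPrime m.1.asIdeal)) := fun n m =>
    Submodule.mapQ _ _ (Algebra.linearMap R _) (Submodule.smul_top_le_comap_smul_top _ _)
  have hinj : ∀ (n : ℕ) (q : R ⧸ (I ^ n • ⊤ : Submodule R R)), (∀ m, φ n m q = 0) → q = 0 := by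
    intro n q hq
    obtain ⟨x, rfl⟩ := Submodule.Quotient.mk_surjective _ q
    rw [Submodule.Quotient.mk_eq_zero, smul_eq_mul, Ideal.mul_top]
    by_contra hx
    obtain ⟨M, hM, hJM⟩ := Ideal.exists_le_maximal ((I ^ n).colon {x}) (fun h => hx (by
      simpa [Submodule.mem_colon] using (Ideal.eq_top_iff_one _).mp h))
    have hIM : I ≤ M := hle n M hM.isPrime (fun a ha => hJM (by
      simp only [Submodule.mem_colon, Set.mem_singleton_iff, forall_eq]; exact Ideal.mul_mem_right _ _ ha))
    have h1 := (hred n ⟨⟨M, hM⟩, hIM⟩ _).mp ((Submodule.Quotient.mk_eq_zero _).mp (hq ⟨⟨M, hM⟩, hIM⟩))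
    obtain ⟨s, hs, hsx⟩ := (IsLocalization.algebraMap_mem_map_algebraMap_iff M.primeCompl _ _ _).mp h1
    exact hs (hJM (by simp only [Submodule.mem_colon, Set.mem_singleton_iff, forall_eq]; exact hsx))
  have hsurj : ∀ (n : ℕ) (y : ∀ m : SM, Localization.AtPrime m.1.asIdeal ⧸ (I ^ n • ⊤ : Submodule R (Localization.AtPrime m.1.asIdeal))),
      ∃ q, ∀ m, φ n m q = y m := by
    intro n y
    cases nonempty_fintype SM
    have key : ∀ m : SM, ∃ z : R, φ n m (Submodule.Quotient.mk z) = y m ∧ ∀ m', m' ≠ m → φ n m' (Submodule.Quotient.mk z) = 0 := by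
      intro m
      obtain ⟨w, hw⟩ := Submodule.Quotient.mk_surjective _ (y m)
      obtain ⟨⟨a, s⟩, has⟩ := IsLocalization.surj m.1.asIdeal.primeCompl w
      have hk : ∀ m' : SM, ∃ k, m' ≠ m →
          algebraMap R (Localization.AtPrime m'.1.asIdeal) (t m ^ k) ∈ Ideal.map (algebraMap R _) (I ^ n) := fun m' => by
        by_cases h : m' = m
        · exact ⟨0, fun h' => absurd h h'⟩
        · obtain ⟨k, hk⟩ := hnil n m' _ (ht' m m' h)
          exact ⟨k, fun _ => hk⟩
      choose k hk using hk
      set K := Finset.univ.sup k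
      let J : Ideal R := Ideal.span {(s : R) * t m ^ K} ⊔ Ideal.comap (algebraMap R (Localization.AtPrime m.1.asIdeal)) (Ideal.map (algebraMap R (Localization.AtPrime m.1.asIdeal)) (I ^ n))
      have hJ : J = ⊤ := by
        by_contra hne
        obtain ⟨M, hM, hJM⟩ := Ideal.exists_le_maximal J hne
        have hIM : I ≤ M := hle n M hM.isPrime fun a ha => hJM (Ideal.mem_sup_right (Ideal.mem_map_of_mem _ ha))
        by_cases hMm : M = m.1.asIdeal
        · subst hMm
          exact (hM.isPrime.mem_or_mem (hJM (Ideal.mem_sup_left (Ideal.mem_span_singleton_self _)))).elim s.2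
            fun h => ht m (hM.isPrime.mem_of_pow_mem _ h)
        · obtain ⟨r, hr, hr'⟩ := SetLike.not_le_iff_exists.mp fun h' : m.1.asIdeal ≤ M =>
            hMm (m.1.isMaximal.eq_of_le hM.ne_top h').symm
          obtain ⟨e, he⟩ := hnil n m r hr
          exact hr' (hM.isPrime.mem_of_pow_mem _ (hJM (Ideal.mem_sup_right he)))
      obtain ⟨p, hp, d, hd, hpd⟩ := Submodule.mem_sup.mp ((Ideal.eq_top_iff_one J).mp hJ)
      obtain ⟨c, rfl⟩ := Ideal.mem_span_singleton'.mp hp
      refine ⟨c * t m ^ K * a, ?_, fun m' hm' => ?_⟩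
      · rw [← hw, Submodule.mapQ_apply, Submodule.Quotient.eq, hred, Algebra.linearMap_apply, map_mul, ← has]
        rw [show algebraMap R (Localization.AtPrime m.1.asIdeal) (c * t m ^ K) * (w * algebraMap R _ (s : R)) - w =
          -(w * algebraMap R (Localization.AtPrime m.1.asIdeal) d) from ?_]
        · exact neg_mem (Ideal.mul_mem_left _ _ hd)
        have h1 := congrArg (algebraMap R (Localization.AtPrime m.1.asIdeal)) hpd
        simp only [map_add, map_mul, map_one] at h1 ⊢
        linear_combination w * h1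
      · rw [Submodule.mapQ_apply, Submodule.Quotient.mk_eq_zero, hred, Algebra.linearMap_apply]
        obtain ⟨e, he⟩ := Nat.exists_eq_add_of_le (Finset.le_sup (f := k) (Finset.mem_univ m'))
        rw [show K = k m' + e from he, pow_add,
          show c * (t m ^ k m' * t m ^ e) * a = t m ^ k m' * (c * t m ^ e * a) by ring, map_mul]
        exact Ideal.mul_mem_right _ _ (hk m' hm')
    choose z hz hz' using key
    refine ⟨Submodule.Quotient.mk (∑ m, z m), fun m => ?_⟩
    rw [← Submodule.mkQ_apply, map_sum, map_sum]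
    simp only [Submodule.mkQ_apply]
    rw [Finset.sum_eq_single m (fun m' _ h => hz' m' m (Ne.symm h))
      (fun h => absurd (Finset.mem_univ m) h)]
    exact hz m
  refine ⟨(injective_iff_map_eq_zero _).mpr fun x hx => ?_, fun y => ?_⟩
  · refine AdicCompletion.ext fun n => ?_
    refine hinj n _ fun m => ?_
    exact congrArg (fun v => v.val n) (congrFun hx m)
  · choose q hq using fun n => hsurj n (fun m => (y m).val n)
    refine ⟨⟨q, fun {a b} hab => ?_⟩, funext fun m => AdicCompletion.ext fun n => hq n m⟩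
    rw [← sub_eq_zero]
    refine hinj a _ fun m => ?_
    rw [map_sub, hq a m, sub_eq_zero, ← (y m).property hab, ← hq b m]
    obtain ⟨r, hr⟩ := Submodule.Quotient.mk_surjective _ (q b)
    rw [← hr]
    rfl

end Groth.Agent.S14727
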