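import Groth.Statements.S14728
import Mathlib

set_option autoImplicit false
universe u
open ValPrufer

namespace Groth.Agent.S14728

/-- Let R be a Prüfer domain, i.e. a domain all of whose local rings at primes are valuation rings. (a)
For a multiplicative subset S, any localisation B = S⁻¹R that is a domain (S not containing 0) is a
Prüfer domain. (b) For a prime ideal I, the quotient R/I is a Prüfer domain. -/
theorem result
    (R : Type u) [CommRing R] [IsDomain R]
    (hR : ∀ (p : Ideal R) [p.IsPrime], ValuationRing (Localization.AtPrime p))
    (S : Submonoid R) (B : Type u) [CommRing B] [IsDomain B] [Algebra R B] [IsLocalization S B]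
    (I : Ideal R) [I.IsPrime] :
    (∀ (q : Ideal B) [q.IsPrime], ValuationRing (Localization.AtPrime q)) ∧
      (∀ (q : Ideal (R ⧸ I)) [q.IsPrime], ValuationRing (Localization.AtPrime q)) := by
  refine ⟨fun q _ => ?_, fun q _ => ?_⟩
  · have := hR (q.comap (algebraMap R B))
    haveI : IsLocalization.AtPrime (Localization.AtPrime q) (q.comap (algebraMap R B)) :=
      IsLocalization.isLocalization_isLocalization_atPrime_isLocalization S (T := Localization.AtPrime q) q
    let e := IsLocalization.algEquiv (q.comap (algebraMap R B)).primeCompl (Localization.AtPrime (q.comap (algebraMap R B))) (Localization.AtPrime q)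
    exact Function.Surjective.valuationRing (R := Localization.AtPrime (q.comap (algebraMap R B))) e.toRingHom e.surjective
  · have := hR (q.comap (Ideal.Quotient.mk I))
    let φ : Localization.AtPrime (q.comap (Ideal.Quotient.mk I)) →+* Localization.AtPrime q :=
      Localization.localRingHom _ _ (Ideal.Quotient.mk I) rfl
    refine Function.Surjective.valuationRing φ fun z => ?_
    obtain ⟨a, s, rfl⟩ := IsLocalization.exists_mk'_eq q.primeCompl z
    obtain ⟨a, rfl⟩ := Ideal.Quotient.mk_surjective a
    obtain ⟨s', hs'⟩ := Ideal.Quotient.mk_surjective (s : R ⧸ I)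
    refine ⟨IsLocalization.mk' _ a (⟨s', fun h => s.2 (hs' ▸ h)⟩ : (q.comap (Ideal.Quotient.mk I)).primeCompl), ?_⟩
    simp only [φ, Localization.localRingHom_mk']
    congr 1
    exact Subtype.ext hs'

end Groth.Agent.S14728
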