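import Groth.Statements.S14729
import Mathlib
import Groth.Agent.ValApprox.Prufer

set_option autoImplicit false
universe u
open ValPrufer

namespace Groth.Agent.S14729

/-- Let R be a semilocal Prüfer domain (an integral domain with finitely many maximal ideals whose
localisations at primes are valuation rings) with fraction field L, and let K ⊆ L be a subfield.
Then R ∩ K is again a semilocal Prüfer domain and its fraction field is K, i.e. every element of K
is a quotient of two elements of R ∩ K. -/
theorem result
    (R L : Type u) [CommRing R] [IsDomain R] [Field L] [Algebra R L] [IsFractionRing R L]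
    (hR : ∀ (p : Ideal R) [p.IsPrime], ValuationRing (Localization.AtPrime p))
    (hfin : Finite (MaximalSpectrum R)) (K : Subfield L) :
    (∀ (p : Ideal ↥((algebraMap R L).range ⊓ K.toSubring)) [p.IsPrime],
        ValuationRing (Localization.AtPrime p)) ∧
      Finite (MaximalSpectrum ↥((algebraMap R L).range ⊓ K.toSubring)) ∧
      ∀ x : L, x ∈ K → ∃ a b : L, a ∈ (algebraMap R L).range ⊓ K.toSubring ∧
        b ∈ (algebraMap R L).range ⊓ K.toSubring ∧ b ≠ 0 ∧ x = a / b := by
  set B := (algebraMap R L).range ⊓ K.toSubring with hBdef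
  let W : MaximalSpectrum R → ValuationSubring ↥K := fun m =>
    (ValApprox.localVal R L hR m).comap K.subtype
  let B' : Subring ↥K := ((algebraMap R L).range).comap K.subtype
  have hB : ∀ x, x ∈ B' ↔ ∀ m, x ∈ W m := fun x => ValApprox.mem_range_iff R L hR _
  let e : ↥B' ≃+* ↥B :=
    { toFun := fun x => ⟨x.1.1, x.2, x.1.2⟩
      invFun := fun x => ⟨⟨x.1, x.2.2⟩, x.2.1⟩
      left_inv := fun _ => rfl
      right_inv := fun _ => rfl
      map_add' := fun _ _ => rfl
      map_mul' := fun _ _ => rfl }
  refine ⟨fun p hp => ?_, ?_, fun x hx => ?_⟩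
  · haveI : (Ideal.comap e.toRingHom p).IsPrime := Ideal.IsPrime.comap _
    haveI := ValApprox.valuationRing_localization W B' hB (Ideal.comap e.toRingHom p)
    let f := Localization.localRingHom (Ideal.comap e.toRingHom p) p e.toRingHom rfl
    exact (ValuationRing.iff_dvd_total).2 ⟨fun a b => by
      have hsurj : Function.Surjective f := fun a => by
        obtain ⟨r, s, rfl⟩ := IsLocalization.exists_mk'_eq p.primeCompl a
        obtain ⟨r, rfl⟩ := e.surjective r
        obtain ⟨s0, hs0⟩ := e.surjective s.1
        refine ⟨IsLocalization.mk' _ r (⟨s0, fun h => s.2 (hs0 ▸ h)⟩ :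
          (Ideal.comap e.toRingHom p).primeCompl), ?_⟩
        refine (Localization.localRingHom_mk' _ _ _ _ _ _).trans ?_
        congr 1
        exact Subtype.ext hs0
      obtain ⟨a', rfl⟩ := hsurj a
      obtain ⟨b', rfl⟩ := hsurj b
      exact ((ValuationRing.iff_dvd_total.1 ‹_›).total a' b').imp (map_dvd f) (map_dvd f)⟩
  · haveI := ValApprox.finite_maximal W B' hB
    haveI : Finite (MaximalSpectrum R) := hfin
    exact Finite.of_injective (fun M : MaximalSpectrum ↥B => (⟨Ideal.comap e.toRingHom M.asIdeal,
      Ideal.comap_isMaximal_of_surjective _ e.surjective⟩ : MaximalSpectrum ↥B'))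
      fun M N h => MaximalSpectrum.ext (Ideal.comap_injective_of_surjective _ e.surjective
        (congrArg MaximalSpectrum.asIdeal h))
  · obtain ⟨a, b, ha, hb, hb0, hab⟩ := ValApprox.exists_fraction W B' hB ⟨x, hx⟩
    exact ⟨a.1, b.1, ⟨ha, a.2⟩, ⟨hb, b.2⟩, fun h => hb0 (Subtype.ext h),
      congrArg Subtype.val hab⟩

end Groth.Agent.S14729
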