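import Groth.Statements.S14730
import Mathlib
import Groth.Agent.ValApprox.Prufer
import Groth.Agent.ValApprox.Rank

set_option autoImplicit false
universe u
open ValPrufer

namespace Groth.Agent.S14730

/-- Let R be a semilocal Prüfer domain (an integral domain with finitely many maximal ideals whose
localisations at primes are valuation rings). Then R is the increasing union of subrings that are
semilocal Prüfer domains of finite Krull dimension; equivalently, every finite subset of R is
contained in such a subring. -/
theorem result
    (R : Type u) [CommRing R] [IsDomain R]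
    (hR : ∀ (p : Ideal R) [p.IsPrime], ValuationRing (Localization.AtPrime p))
    (hfin : Finite (MaximalSpectrum R)) (s : Finset R) :
    ∃ R' : Subring R, (↑s : Set R) ⊆ R' ∧
      (∀ (p : Ideal R') [p.IsPrime], ValuationRing (Localization.AtPrime p)) ∧
      Finite (MaximalSpectrum R') ∧ ringKrullDim R' < ⊤ := by
  classical
  let L := FractionRing R
  haveI : Finite (MaximalSpectrum R) := hfin
  let K : Subfield L := Subfield.closure ((s.image (algebraMap R L) : Finset L) : Set L)
  let W : MaximalSpectrum R → ValuationSubring ↥K := fun m =>
    (ValApprox.localVal R L hR m).comap K.subtype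
  let B' : Subring ↥K := ((algebraMap R L).range).comap K.subtype
  have hB : ∀ x, x ∈ B' ↔ ∀ m, x ∈ W m := fun x => ValApprox.mem_range_iff R L hR _
  let R' : Subring R := K.toSubring.comap (algebraMap R L)
  have hmem : ∀ x : R', algebraMap R L x ∈ K := fun x => x.2
  let f : R' →+* B' := RingHom.codRestrict
    (((algebraMap R L).comp R'.subtype).codRestrict K hmem) B' fun x => ⟨x.1, rfl⟩
  have hf : Function.Bijective f := by
    refine ⟨fun a b h => Subtype.ext (IsFractionRing.injective R L
      (congrArg (fun z : B' => ((z : K) : L)) h)), fun y => ?_⟩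
    obtain ⟨r, hr⟩ := y.2
    refine ⟨⟨r, show algebraMap R L r ∈ K by rw [hr]; exact y.1.2⟩, ?_⟩
    exact Subtype.ext (Subtype.ext hr)
  let e : B' ≃+* R' := (RingEquiv.ofBijective f hf).symm
  have hVal : ∀ (p : Ideal B') [p.IsPrime], ValuationRing (Localization.AtPrime p) :=
    fun p _ => ValApprox.valuationRing_localization W B' hB p
  haveI := ValApprox.finite_maximal W B' hB
  refine ⟨R', fun x hx => ?_, fun p _ => ValApprox.valuationRing_localization_of_equiv e hVal p,
    ValApprox.finite_maximal_of_equiv e, ?_⟩
  · exact Subfield.subset_closure (Finset.mem_coe.2 (Finset.mem_image_of_mem _ hx))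
  · rw [← ringKrullDim_eq_of_ringEquiv e]
    let t : Finset ↥K := (s.image (algebraMap R L)).attach.image
      fun x => ⟨x.1, Subfield.subset_closure (Finset.mem_coe.2 x.2)⟩
    have himg : (K.subtype '' (t : Set ↥K)) = ((s.image (algebraMap R L) : Finset L) : Set L) := by
      ext z
      simp [t]
      exact fun a ha haz => haz ▸ Subfield.subset_closure (Finset.mem_coe.2 (Finset.mem_image_of_mem _ ha))
    have htop : Subfield.closure (t : Set ↥K) = ⊤ := by
      refine eq_top_iff.2 fun z _ => ?_
      have hz : (z : L) ∈ (Subfield.closure (t : Set ↥K)).map K.subtype := by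
        rw [RingHom.map_field_closure, himg]
        exact z.2
      obtain ⟨w, hw, hwz⟩ := hz
      rwa [← Subtype.ext hwz]
    exact lt_of_le_of_lt (ValApprox.ringKrullDim_le hVal B'.subtype Subtype.val_injective t htop)
      (WithBot.coe_lt_coe.2 (ENat.coe_lt_top _))

end Groth.Agent.S14730
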