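import Groth.Statements.S14731
import Groth.Agent.SmoothModelLead.Model

set_option autoImplicit false
universe u
open ValPrufer

namespace Groth.Agent.S14731

/-- In characteristic zero, every field K generated as a field by a finite set is the fraction field of
a subring A of K of finite type and smooth over the integers. -/
theorem result
    (K : Type u) [Field K] [CharZero K] (s : Finset K)
    (hs : Subfield.closure (↑s : Set K) = ⊤) :
    ∃ A : Subring K, Algebra.FiniteType ℤ A ∧ Algebra.Smooth ℤ A ∧ IsFractionRing A K := by
  classical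
  obtain ⟨A, h1, h2, h3⟩ := Groth.Agent.SmoothModelLead.exists_model ℤ K s hs
    (fun _ => by
      haveI : Algebra.EssFiniteType ℚ K := Algebra.EssFiniteType.of_comp ℤ ℚ K
      haveI : Algebra.FormallySmooth ℤ ℚ := .of_isLocalization (nonZeroDivisors ℤ)
      exact Algebra.FormallySmooth.comp ℤ ℚ K)
  refine ⟨A.toSubring, ?_, ?_, ?_⟩
  · exact Algebra.FiniteType.equiv h1 (AlgEquiv.ofRingEquiv (R := ℤ) (f := (RingEquiv.refl A : A ≃+* A.toSubring)) (by intro z; simp))
  · haveI := h2
    exact Algebra.Smooth.of_equiv (AlgEquiv.ofRingEquiv (R := ℤ) (f := (RingEquiv.refl A : A ≃+* A.toSubring)) (by intro z; simp))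
  · exact h3

end Groth.Agent.S14731
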