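import Groth.Statements.S14734
import Mathlib
import Groth.Agent.PruferDim.Main
import Groth.Agent.CatenaryLib.Basic

set_option autoImplicit false
universe u
open ValPrufer

namespace Groth.Agent.S14734

theorem lift_bound (R S : Type u) [CommRing R] [IsDomain R] [CommRing S] [Algebra R S]
    [Algebra.FiniteType R S] : ∃ n : ℕ, ∀ P : Ideal S, P.IsPrime → PruferDim.dTr R P ≤ n := by
  classical
  obtain ⟨s, hs⟩ := Algebra.FiniteType.out (R := R) (A := S)
  refine ⟨s.card, fun P hP => ?_⟩
  haveI := hP
  let t := (Ideal.Quotient.mk P) '' (s : Set S)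
  have htop : Algebra.adjoin (R ⧸ P.under R) t = ⊤ := by
    refine eq_top_iff.2 fun z hz => ?_
    clear hz
    obtain ⟨x, rfl⟩ := Ideal.Quotient.mk_surjective z
    have hx : x ∈ Algebra.adjoin R (s : Set S) := hs.ge Algebra.mem_top
    induction hx using Algebra.adjoin_induction with
    | mem y hy => exact Algebra.subset_adjoin ⟨y, hy, rfl⟩
    | algebraMap r => exact Subalgebra.algebraMap_mem _ (Ideal.Quotient.mk _ r)
    | add a b _ _ ha hb => rw [map_add]; exact add_mem ha hb
    | mul a b _ _ ha hb => rw [map_mul]; exact mul_mem ha hb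
  haveI : Algebra.IsAlgebraic (Algebra.adjoin (R ⧸ P.under R) t) (S ⧸ P) := ⟨fun z =>
    isAlgebraic_algebraMap (⟨z, htop.ge Algebra.mem_top⟩ : Algebra.adjoin (R ⧸ P.under R) t)⟩
  refine (Cardinal.toNat_le_toNat (Algebra.IsAlgebraic.trdeg_le_cardinalMk (R ⧸ P.under R) t)
    (Set.Finite.lt_aleph0 (s.finite_toSet.image _))).trans ?_
  exact (Cardinal.toNat_le_toNat Cardinal.mk_image_le (Cardinal.lt_aleph0_of_finite _)).trans
    (le_of_eq (by simp))


/-- Let R be a Prüfer domain (an integral domain whose localisations at primes are valuation rings) of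
finite Krull dimension and S an R-algebra of finite type. Then S, and every localisation T of S at a
multiplicative subset, is catenary and of finite Krull dimension. (The published statement is for a
scheme X of finite type over R and the spectrum of any semilocalisation of X; catenarity is local
and finiteness of dimension is checked on a finite affine cover, so this row states the affine case
together with arbitrary localisations.) -/
theorem result
    (R : Type u) [CommRing R] [IsDomain R]
    (hR : ∀ (p : Ideal R) [p.IsPrime], ValuationRing (Localization.AtPrime p))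
    (hdim : ringKrullDim R < ⊤)
    (S : Type u) [CommRing S] [Algebra R S] [Algebra.FiniteType R S]
    (M : Submonoid S) (T : Type u) [CommRing T] [Algebra S T] [IsLocalization M T] :
    CAlg.IsCatenary S ∧ ringKrullDim S < ⊤ ∧ CAlg.IsCatenary T ∧ ringKrullDim T < ⊤ := by
  classical
  have hmain : ∀ p q : PrimeSpectrum S, p < q →
      PruferDim.delta R q.asIdeal < PruferDim.delta R p.asIdeal ∧
        (p ⋖ q → PruferDim.delta R p.asIdeal = PruferDim.delta R q.asIdeal + 1) := fun p q h =>
    PruferDim.main (hP := p.2) (hQ := q.2) hR hdim h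
  have hlen : ∀ l : LTSeries (PrimeSpectrum S),
      (l.length : ℤ) ≤ PruferDim.delta R l.head.asIdeal - PruferDim.delta R l.last.asIdeal := by
    intro l
    have key : ∀ i : Fin (l.length + 1),
        ((i : ℕ) : ℤ) ≤ PruferDim.delta R l.head.asIdeal - PruferDim.delta R (l i).asIdeal := by
      intro i
      induction i using Fin.induction with
      | zero =>
        simp [RelSeries.head]
      | succ i ih =>
        have := (hmain _ _ (l.step i)).1
        simp only [Fin.val_succ, Fin.val_castSucc] at ih ⊢
        push_cast
        omega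
    simpa [RelSeries.last] using key (Fin.last _)
  have hsat : ∀ l : LTSeries (PrimeSpectrum S), (∀ i : Fin l.length, l i.castSucc ⋖ l i.succ) →
      (l.length : ℤ) = PruferDim.delta R l.head.asIdeal - PruferDim.delta R l.last.asIdeal := by
    intro l hl
    have key : ∀ i : Fin (l.length + 1),
        ((i : ℕ) : ℤ) = PruferDim.delta R l.head.asIdeal - PruferDim.delta R (l i).asIdeal := by
      intro i
      induction i using Fin.induction with
      | zero =>
        simp [RelSeries.head]
      | succ i ih =>
        have := (hmain _ _ (l.step i)).2 (hl i)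
        simp only [Fin.val_succ, Fin.val_castSucc] at ih ⊢
        push_cast
        omega
    simpa [RelSeries.last] using key (Fin.last _)
  have hS : CAlg.IsCatenary S := by
    refine ⟨fun p q _ => ⟨(PruferDim.delta R p.asIdeal - PruferDim.delta R q.asIdeal).toNat,
      fun l h1 h2 => ?_⟩, fun s t h1 h2 hs ht => ?_⟩
    · have := hlen l
      rw [h1, h2] at this
      omega
    · have e1 := hsat s hs
      have e2 := hsat t ht
      rw [h1, h2] at e1
      omega
  have hdS : ringKrullDim S < ⊤ := by
    obtain ⟨n, hn⟩ := lift_bound R S
    obtain ⟨N, hN⟩ : ∃ N : ℕ, ∀ p : Ideal R, p.IsPrime → p.height.toNat ≤ N := by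
      obtain ⟨N, hN⟩ : ∃ N : ℕ, ringKrullDim R ≤ (N : ℕ) := by
        generalize ringKrullDim R = d at hdim
        induction d using WithBot.recBotCoe with
        | bot => exact ⟨0, bot_le⟩
        | coe a =>
          induction a using WithTop.recTopCoe with
          | top => exact absurd hdim (lt_irrefl _)
          | coe n => exact ⟨n, le_rfl⟩
      refine ⟨N, fun p hp => ?_⟩
      have h1 : p.height ≤ (N : ℕ∞) :=
        WithBot.coe_le_coe.mp ((Ideal.height_le_ringKrullDim_of_ne_top hp.ne_top).trans hN)
      exact ENat.toNat_le_of_le_coe h1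
    refine lt_of_le_of_lt (iSup_le fun l => ?_) (WithBot.coe_lt_coe.2 (ENat.coe_lt_top (n + N)))
    refine WithBot.coe_le_coe.2 (Nat.cast_le.2 ?_)
    have h1 := hlen l
    have h2 := hn _ l.head.2
    have h3 := hN _ (inferInstance : (l.last.asIdeal.under R).IsPrime)
    simp only [PruferDim.delta] at h1
    omega
  refine ⟨hS, hdS, CatenaryLib.isCatenary_of_isLocalization M hS, ?_⟩
  refine lt_of_le_of_lt (Order.krullDim_le_of_strictMono (PrimeSpectrum.comap (algebraMap S T)) ?_) hdS
  refine Monotone.strictMono_of_injective (fun a b h => Ideal.comap_mono h)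
    (PrimeSpectrum.localization_comap_injective T M)

end Groth.Agent.S14734
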