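import Groth.Statements.S14738
import Mathlib
import Groth.Agent.PruferSL.Spectrum

set_option autoImplicit false
universe u
open ValPrufer

namespace Groth.Agent.S14738

/-- Let R be a semilocal Prüfer domain (an integral domain with finitely many maximal ideals whose
localisations at primes are valuation rings) of finite Krull dimension, and m a maximal ideal of R.
Then there is a ∈ R with V(a) = {m}, i.e. m is the only prime ideal containing a, and there is b ∉ m
such that R[1/b] is the localisation R_m (every element outside m becomes invertible after inverting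
b); consequently the spectra of the local rings R_m form a Zariski open covering of Spec R. (The
published remark assumes positive Krull dimension to construct a; for R a field the assertions hold
with a = 0 and b = 1. It also takes b to be the product of the elements a_n chosen in the same way
for the other maximal ideals n; that choice fails as soon as a non-maximal prime lies in another
maximal ideal but not in m, e.g. for the intersection of two independent rank-two valuation rings of
a field, so this row asserts only that some such b exists.) -/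
theorem result
    (R : Type u) [CommRing R] [IsDomain R]
    (hR : ∀ (p : Ideal R) [p.IsPrime], ValuationRing (Localization.AtPrime p))
    (hfin : Finite (MaximalSpectrum R)) (hdim : ringKrullDim R < ⊤)
    (m : Ideal R) [m.IsMaximal] :
    (∃ a : R, ∀ (p : Ideal R), p.IsPrime → (a ∈ p ↔ p = m)) ∧
      ∃ b : R, b ∉ m ∧ IsLocalization.AtPrime (Localization.Away b) m := by
  classical
  haveI : Finite (PrimeSpectrum R) :=
    PruferSL.finite_primeSpectrum R (fun p _ => ⟨inferInstance, hR p⟩) hfin hdim
  cases nonempty_fintype (PrimeSpectrum R)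
  refine ⟨?_, ?_⟩
  · obtain ⟨a, ham, ha⟩ : ∃ a ∈ m, ∀ p : PrimeSpectrum R, p.asIdeal ≠ m → a ∉ p.asIdeal := by
      by_contra h
      push Not at h
      let s : Finset (PrimeSpectrum R) := Finset.univ.filter fun p => p.asIdeal ≠ m
      have hsub : (m : Set R) ⊆ ⋃ i ∈ (s : Set (PrimeSpectrum R)), i.asIdeal := fun x hx => by
        obtain ⟨p, hp, hxp⟩ := h x hx
        exact Set.mem_biUnion (show p ∈ (s : Set _) by simp [s, hp]) hxp
      obtain ⟨p, hp, hmp⟩ := (Ideal.subset_union_prime (f := fun i : PrimeSpectrum R => i.asIdeal) ⟨m, inferInstance⟩ ⟨m, inferInstance⟩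
        (fun i _ _ _ => i.2)).mp hsub
      exact (Finset.mem_filter.mp hp).2 (Ideal.IsMaximal.eq_of_le inferInstance p.2.ne_top hmp).symm
    exact ⟨a, fun p hp => ⟨fun hap => by_contra fun hne => ha ⟨p, hp⟩ hne hap, fun h => h ▸ ham⟩⟩
  have hsel : ∀ p : PrimeSpectrum R, ∃ x : R, x ∉ m ∧ (¬ p.asIdeal ≤ m → x ∈ p.asIdeal) := fun p => by
    by_cases h : p.asIdeal ≤ m
    · exact ⟨1, fun h1 => Ideal.IsPrime.ne_top inferInstance ((Ideal.eq_top_iff_one m).mpr h1), fun h' => absurd h h'⟩
    · obtain ⟨x, hx, hxm⟩ := SetLike.not_le_iff_exists.mp h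
      exact ⟨x, hxm, fun _ => hx⟩
  choose x hx hx' using hsel
  refine ⟨∏ p, x p, fun hb => ?_, ?_⟩
  · obtain ⟨p, -, hp⟩ := (Ideal.IsPrime.prod_mem_iff (p := m)).mp hb
    exact hx p hp
  set b := ∏ p, x p with hb
  let Rb := Localization.Away b
  have hbm : b ∉ m := fun h => by
    obtain ⟨p, -, hp⟩ := (Ideal.IsPrime.prod_mem_iff (p := m)).mp h
    exact hx p hp
  have hu : ∀ t ∈ m.primeCompl, IsUnit (algebraMap R Rb t) := by
    intro t ht
    by_contra hn
    obtain ⟨M, hM, htM⟩ := exists_max_ideal_of_mem_nonunits hn
    have hle : Ideal.comap (algebraMap R Rb) M ≤ m := by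
      by_contra hle
      have hbP : b ∈ Ideal.comap (algebraMap R Rb) M :=
        Ideal.prod_mem _ (Finset.mem_univ _) (hx' ⟨_, Ideal.comap_isPrime _ M⟩ hle)
      exact hM.ne_top (Ideal.eq_top_of_isUnit_mem _ hbP (IsLocalization.Away.algebraMap_isUnit b))
    exact ht (hle htM)
  exact IsLocalization.of_le_of_exists_dvd (Submonoid.powers b) m.primeCompl (Submonoid.powers_le.mpr hbm) fun t ht => by
      obtain ⟨u, hu'⟩ := isUnit_iff_exists_inv.mp (hu t ht)
      obtain ⟨⟨c, ⟨_, k, rfl⟩⟩, hc⟩ := IsLocalization.surj (Submonoid.powers b) u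
      have h2 : algebraMap R Rb (t * c) = algebraMap R Rb (b ^ k) := by
        rw [map_mul, ← hc, ← mul_assoc, hu', one_mul]
      obtain ⟨⟨_, j, rfl⟩, hj⟩ := (IsLocalization.eq_iff_exists (Submonoid.powers b) Rb).mp h2
      exact ⟨b ^ j * b ^ k, mul_mem (pow_mem (Submonoid.mem_powers b) j) (pow_mem (Submonoid.mem_powers b) k),
        ⟨b ^ j * c, by simp only at hj; rw [← hj]; ring⟩⟩

end Groth.Agent.S14738
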