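import Groth.Statements.S14739
import Mathlib
import Groth.Agent.PruferSL.Spectrum

set_option autoImplicit false
universe u
open ValPrufer

namespace Groth.Agent.S14739

/-- Let R be a semilocal Prüfer domain (an integral domain with finitely many maximal ideals whose
localisations at primes are valuation rings) of finite Krull dimension and S an R-algebra of finite
type. Then Spec S is a Noetherian topological space, and so is Spec T for every localisation T of S.
(The published remark is for a scheme of finite type over R and the spectrum of any
semilocalisation; the affine case with arbitrary localisations is stated.) -/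
theorem result
    (R : Type u) [CommRing R] [IsDomain R]
    (hR : ∀ (p : Ideal R) [p.IsPrime], ValuationRing (Localization.AtPrime p))
    (hfin : Finite (MaximalSpectrum R)) (hdim : ringKrullDim R < ⊤)
    (S : Type u) [CommRing S] [Algebra R S] [Algebra.FiniteType R S]
    (M : Submonoid S) (T : Type u) [CommRing T] [Algebra S T] [IsLocalization M T] :
    TopologicalSpace.NoetherianSpace (PrimeSpectrum S) ∧
      TopologicalSpace.NoetherianSpace (PrimeSpectrum T) := by
  haveI : Finite (PrimeSpectrum R) :=
    PruferSL.finite_primeSpectrum R (fun p _ => ⟨inferInstance, hR p⟩) hfin hdim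
  have hS : TopologicalSpace.NoetherianSpace (PrimeSpectrum S) := by
    rw [← TopologicalSpace.noetherian_univ_iff,
      ← show (⋃ p : PrimeSpectrum R, PrimeSpectrum.comap (algebraMap R S) ⁻¹' {p}) = Set.univ from Set.iUnion_eq_univ_iff.mpr fun x => ⟨_, rfl⟩]
    haveI : ∀ p : PrimeSpectrum R,
        TopologicalSpace.NoetherianSpace ↥(PrimeSpectrum.comap (algebraMap R S) ⁻¹' ({p} : Set (PrimeSpectrum R))) := fun p => by
      haveI : IsNoetherianRing (p.asIdeal.Fiber S) := Algebra.FiniteType.isNoetherianRing p.asIdeal.ResidueField _
      exact (PrimeSpectrum.preimageHomeomorphFiber R S p).isInducing.noetherianSpace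
    exact TopologicalSpace.NoetherianSpace.iUnion _
  exact ⟨hS, (PrimeSpectrum.localization_comap_isEmbedding T M).isInducing.noetherianSpace⟩

end Groth.Agent.S14739
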