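import Groth.Statements.S14741
import Groth.Agent.QCohBase.Union
import Groth.Agent.QCohBase.Acyclic
import Groth.Agent.ProjCoord.Basic
import Mathlib.AlgebraicGeometry.ProjectiveSpectrum.Proper
import Mathlib.AlgebraicGeometry.Morphisms.Separated

set_option autoImplicit false
universe u
open CategoryTheory AlgebraicGeometry
open ValPrufer

namespace Groth.Agent.S14741

/-- Let R be a semilocal Prüfer domain (an integral domain with finitely many maximal ideals whose
localisations at primes are valuation rings) of finite Krull dimension, m ≥ 1, X a closed subscheme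
of projective (m-1)-space over R which is flat over R, and F a finitely presented (equivalently,
coherent) O_X-module. Then H^q(X, F) = 0 for all q > m. -/
theorem result
    (R : Type u) [CommRing R] [IsDomain R]
    (hR : ∀ (p : Ideal R) [p.IsPrime], ValuationRing (Localization.AtPrime p))
    (hfin : Finite (MaximalSpectrum R)) (hdim : ringKrullDim R < ⊤)
    (m : ℕ) (hm : 1 ≤ m) (X : Scheme.{u}) (ι : X ⟶ CohB1.ProjSpace (m - 1) R) [IsClosedImmersion ι]
    [Flat (ι ≫ CohB1.ProjSpace.toSpec (m - 1) R)]
    (F : X.Modules) (hF : CohB1.IsFP F) (q : ℕ) (hq : m < q) :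
    Subsingleton (Coh.HH X F q) := by
  haveI : Coh.IsQCoh F := by
    haveI : SheafOfModules.IsFinitePresentation (R := X.ringCatSheaf) F := hF
    infer_instance
  obtain ⟨k, rfl⟩ : ∃ k, q = k + 1 := ⟨q - 1, by omega⟩
  let P := AlgebraicGeometry.Proj (CohB1.polyGrading (m - 1) R)
  have key : ∀ (Y : Scheme.{u}) (j : Y ⟶ P) [IsClosedImmersion j] (G : Y.Modules),
      Coh.IsQCoh G → Subsingleton (Coh.HH Y G (k + 1)) := by
    intro Y j _ G hG
    haveI : Coh.IsQCoh G := hG
    haveI : P.IsSeparated := inferInstance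
    haveI : Y.IsSeparated := ⟨by
      rw [← Limits.terminal.comp_from j]; infer_instance⟩
    refine Groth.Agent.QCohBase.CovSystem.subsingleton_H_of_union
      (S := Groth.Agent.QCohBase.affineSystem Y) (t := m - 1)
      (fun V W hV hW => AlgebraicGeometry.IsAffineOpen.inf hV hW)
      (Groth.Agent.QCohBase.acyclic_of_isQCoh G) ?_ k (by omega)
    have h : (⨆ i : Fin (m - 1 + 1), j ⁻¹ᵁ AlgebraicGeometry.Proj.basicOpen (CohB1.polyGrading (m - 1) R)
        (MvPolynomial.X i)) = ⊤ := by
      rw [← Scheme.Hom.preimage_iSup, AlgebraicGeometry.Proj.iSup_basicOpen_eq_top _ _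
        (Groth.Agent.ProjCoord.irrelevant_le_span_X (n := m - 1) (R := R))]
      rfl
    rw [← h]
    exact Groth.Agent.QCohBase.CovSystem.unionLE_iSup _ fun i =>
      (AlgebraicGeometry.Proj.isAffineOpen_basicOpen _ _
        (Groth.Agent.ProjCoord.X_mem (n := m - 1) (R := R) i) one_pos).preimage j
  exact @key X ι ‹IsClosedImmersion ι› F ‹_›

end Groth.Agent.S14741
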