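import Groth.Statements.S14743
import Groth.Agent.GrpSch.Cat

set_option autoImplicit false
universe u
open CategoryTheory MonoidalCategory CartesianMonoidalCategory MonObj GrpObj AlgebraicGeometry
open AlgGrp

namespace Groth.Agent.S14743

/-- Over an algebraically closed field k let L, G, B be commutative k-group schemes, i : L → G and π : G
→ B homomorphisms with i the kernel of π, and suppose that every k-morphism B × B → L is constant
(factors through a k-point of L). If π admits a section which is a morphism of k-schemes, then it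
admits a section which is a homomorphism, so the extension splits. (The published statement is for
algebraic groups, that is, of finite type over k; finiteness plays no role and is not assumed here.) -/
theorem result (k : Type u) [Field k] [IsAlgClosed k]
    (L G B : Over (Spec (CommRingCat.of k))) [GrpObj L] [GrpObj G] [GrpObj B]
    [IsCommMonObj L] [IsCommMonObj G] [IsCommMonObj B]
    (i : L ⟶ G) [IsMonHom i] (π : G ⟶ B) [IsMonHom π] (hker : AlgGrp.IsKernel i π)
    (hconst : ∀ f : B ⊗ B ⟶ L, ∃ l : 𝟙_ (Over (Spec (CommRingCat.of k))) ⟶ L, f = toUnit (B ⊗ B) ≫ l)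
    (s : B ⟶ G) (hs : s ≫ π = 𝟙 B) :
    ∃ s' : B ⟶ G, IsMonHom s' ∧ s' ≫ π = 𝟙 B := by
  letI : CommGroup (B ⊗ B ⟶ G) := Hom.commGroup
  let f₀ : B ⊗ B ⟶ G := (fst B B ≫ s) * (snd B B ≫ s) * (μ[B] ≫ s)⁻¹
  have hμ : μ[B] = fst B B * snd B B := by rw [Groth.Agent.GrpSch.mul_eq_lift, lift_fst_snd, Category.id_comp]
  have hf₀ : f₀ ≫ π = 1 := by
    simp only [f₀, MonObj.mul_comp, GrpObj.inv_comp, Category.assoc, hs, Category.comp_id, hμ,
      mul_inv_cancel]
  obtain ⟨f, hf⟩ := (Groth.Agent.GrpSch.isKernel_factors_iff hker f₀).2 hf₀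
  obtain ⟨l, rfl⟩ := hconst f
  have key : (fst B B ≫ s) * (snd B B ≫ s) = (toUnit (B ⊗ B) ≫ l ≫ i) * (μ[B] ≫ s) := by
    rw [← mul_inv_eq_iff_eq_mul]
    simpa [f₀] using hf.symm
  have hl : (l ≫ i) ≫ π = 1 := (Groth.Agent.GrpSch.isKernel_factors_iff hker _).1 ⟨l, rfl⟩
  let s₁ : B ⟶ G := (toUnit B ≫ l ≫ i)⁻¹ * s
  have hmul : μ[B] ≫ s₁ = (fst B B ≫ s₁) * (snd B B ≫ s₁) := by
    simp only [s₁, MonObj.comp_mul, GrpObj.comp_inv, comp_toUnit_assoc]
    rw [_root_.mul_mul_mul_comm, key, _root_.mul_assoc, inv_mul_cancel_left]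
  refine ⟨s₁, ⟨?_, ?_⟩, ?_⟩
  · have h := congrArg (fun q => lift η[B] η[B] ≫ q) hmul
    simp only [MonObj.comp_mul, lift_fst_assoc, lift_snd_assoc] at h
    have e : lift η[B] η[B] ≫ μ[B] = η[B] := by
      rw [← Groth.Agent.GrpSch.mul_eq_lift, one_eq_one, _root_.one_mul]
    rw [← Category.assoc, e] at h
    rw [one_eq_one] at h ⊢
    rw [one_eq_one]
    exact left_eq_mul.mp h
  · rw [hmul, Groth.Agent.GrpSch.mul_eq_lift]
    congr 1
  · simp [s₁, MonObj.mul_comp, GrpObj.inv_comp, Category.assoc, hs, Category.assoc _ i π ▸ hl]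

end Groth.Agent.S14743
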