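import Groth.Statements.S14751
import Groth.Agent.GrpSch.AntiAffine
import Groth.Agent.GrpSch.TransComp
import Groth.Agent.GrpSch.SmoothRed

set_option backward.isDefEq.respectTransparency.types false

set_option autoImplicit false
universe u
open CategoryTheory CategoryTheory.Limits MonoidalCategory CartesianMonoidalCategory MonObj GrpObj AlgebraicGeometry
open AlgGrp

namespace Groth.Agent.S14751

/-- Over an algebraically closed field k let G be a group variety (smooth connected k-group scheme of
finite type), i : N → G an affine closed subgroup scheme which is the kernel of a flat surjective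
homomorphism π : G → Q, and j : A → G an abelian subvariety (a smooth connected proper closed
subgroup scheme) with A · N = G, that is, the multiplication A × N → G is surjective. Then the
multiplication A × N → G is a homomorphism and an isogeny (surjective with finite kernel), and so is
the composite A → G → Q. (In the published statement N is the largest connected affine normal
subgroup variety and Q = G/N the Albanese quotient; only the listed properties are used.) -/
theorem result (k : Type u) [Field k] [IsAlgClosed k]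
    (G N A Q : Over (Spec (CommRingCat.of k))) [GrpObj G] [GrpObj N] [GrpObj A] [GrpObj Q]
    [Smooth G.hom] [QuasiCompact G.hom] [ConnectedSpace ↥G.left]
    (i : N ⟶ G) [IsMonHom i] [IsClosedImmersion i.left] [IsAffine N.left]
    (π : G ⟶ Q) [IsMonHom π] [Flat π.left] [Surjective π.left] (hker : AlgGrp.IsKernel i π)
    (j : A ⟶ G) [IsMonHom j] [IsClosedImmersion j.left] [Smooth A.hom] [ConnectedSpace ↥A.left] [IsProper A.hom]
    (hsurj : Surjective ((j ⊗ₘ i) ≫ μ[G]).left) :
    IsMonHom ((j ⊗ₘ i) ≫ μ[G]) ∧ SGA7.IsIsogenyOver ((j ⊗ₘ i) ≫ μ[G]) ∧ SGA7.IsIsogenyOver (j ≫ π) := by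
  have : AlgebraicGeometry.IsReduced A.left := GrpSch.isReduced_of_smooth A
  have hA := GrpSch.TransComp.bijective_appTop_of_point A.hom η[A].left (Over.w η[A])
  have hc : ∀ {T : Over (Spec (CommRingCat.of k))} (a : T ⟶ A) (g : T ⟶ G), (a ≫ j) * g = g * (a ≫ j) :=
    fun a g => GrpSch.Rigidity.central_of_bijective A G hA j a g
  let m := (j ⊗ₘ i) ≫ μ[G]
  have hm : ∀ {T : Over (Spec (CommRingCat.of k))} (z : T ⟶ A ⊗ N),
      z ≫ m = ((z ≫ fst A N) ≫ j) * ((z ≫ snd A N) ≫ i) := by
    intro T z
    rw [Hom.mul_def, ← Category.assoc z]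
    congr 1
    apply CartesianMonoidalCategory.hom_ext <;> simp
  have hhom : IsMonHom m := by
    constructor
    · rw [hm]
      have h1 : η[A ⊗ N] ≫ fst A N = η[A] := IsMonHom.one_hom _
      have h2 : η[A ⊗ N] ≫ snd A N = η[N] := IsMonHom.one_hom _
      rw [h1, h2, IsMonHom.one_hom, IsMonHom.one_hom, GrpSch.eq_one_unit, _root_.mul_one]
    · have e : (m ⊗ₘ m) ≫ μ[G] = (fst (A ⊗ N) (A ⊗ N) ≫ m) * (snd (A ⊗ N) (A ⊗ N) ≫ m) := by
        rw [Hom.mul_def]
        congr 1
      have e' : μ[A ⊗ N] = fst (A ⊗ N) (A ⊗ N) * snd (A ⊗ N) (A ⊗ N) := by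
        rw [Hom.mul_def, lift_fst_snd, Category.id_comp]
      rw [e, e', hm, hm, hm, MonObj.mul_comp (g := fst A N), MonObj.mul_comp (g := snd A N),
        MonObj.mul_comp (g := j), MonObj.mul_comp (g := i)]
      simp only [_root_.mul_assoc]
      congr 1
      rw [← _root_.mul_assoc, hc, _root_.mul_assoc]
  let P := Limits.pullback j i
  let pA : P ⟶ A := Limits.pullback.fst j i
  let pN : P ⟶ N := Limits.pullback.snd j i
  have hP : IsPullback pA pN j i := IsPullback.of_hasPullback j i
  have : IsClosedImmersion pA.left :=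
    MorphismProperty.of_isPullback (P := @IsClosedImmersion) (GrpSch.isPullback_left hP).flip inferInstance
  have : IsClosedImmersion pN.left :=
    MorphismProperty.of_isPullback (P := @IsClosedImmersion) (GrpSch.isPullback_left hP) inferInstance
  have : IsAffineHom N.hom := isAffineHom_of_isAffine N.hom
  have hPf : IsFinite P.hom := by
    rw [IsFinite.iff_isProper_and_isAffineHom]
    constructor
    · rw [← Over.w pA]; infer_instance
    · rw [← Over.w pN]; infer_instance
  -- a kernel isomorphic to `P` is finite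
  have fin : ∀ {N' : Over (Spec (CommRingCat.of k))} (e : N' ≅ P), IsFinite N'.hom := by
    intro N' e
    have : IsIso e.hom.left := inferInstanceAs (IsIso ((Over.forget _).map e.hom))
    rw [← Over.w e.hom]; infer_instance
  have hiπ : i ≫ π = 1 := by rw [hker.w, GrpSch.one_eq_toUnit]
  have hmπ : m ≫ π = fst A N ≫ j ≫ π := by
    rw [← Category.id_comp m, hm, MonObj.mul_comp, Category.assoc (𝟙 _ ≫ snd A N), hiπ,
      MonObj.comp_one, _root_.mul_one, Category.id_comp, Category.assoc]
  refine ⟨hhom, ⟨hsurj, fun K n hn => ?_⟩, ⟨?_, fun K n hn => ?_⟩⟩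
  · have h1 : ((n ≫ fst A N) ≫ j) * ((n ≫ snd A N) ≫ i) = 1 := by
      rw [← hm, GrpSch.one_eq_toUnit]; exact hn.w
    have h2 : (n ≫ fst A N) ≫ j = (n ≫ snd A N)⁻¹ ≫ i := by
      rw [GrpSch.inv_comp_of_isMonHom, eq_inv_iff_mul_eq_one, h1]
    have h3 : lift pA pN⁻¹ ≫ m = toUnit P ≫ η[G] := by
      rw [hm, lift_fst, lift_snd, GrpSch.inv_comp_of_isMonHom, ← hP.w, mul_inv_cancel,
        GrpSch.one_eq_toUnit]
    refine fin ⟨hP.lift (n ≫ fst A N) (n ≫ snd A N)⁻¹ h2, hn.lift (lift pA pN⁻¹) (toUnit P) h3, ?_, ?_⟩
    · refine hn.hom_ext ?_ (toUnit_unique _ _)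
      rw [Category.assoc, hn.lift_fst, comp_lift, GrpObj.comp_inv, hP.lift_fst, hP.lift_snd, _root_.inv_inv,
        ← comp_lift, lift_fst_snd, Category.comp_id, Category.id_comp]
    · apply hP.hom_ext
      · rw [Category.assoc, hP.lift_fst, ← Category.assoc, hn.lift_fst, lift_fst, Category.id_comp]
      · rw [Category.assoc, hP.lift_snd, GrpObj.comp_inv, ← Category.assoc, hn.lift_fst, lift_snd,
          _root_.inv_inv, Category.id_comp]
  · have : Surjective ((fst A N).left ≫ (j ≫ π).left) := by
      rw [← Over.comp_left, ← hmπ, Over.comp_left]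
      have : Surjective m.left := hsurj
      infer_instance
    exact Surjective.of_comp (fst A N).left (j ≫ π).left
  · have h1 : (n ≫ j) ≫ π = 1 := by
      rw [Category.assoc, hn.w, GrpSch.one_eq_toUnit]
    obtain ⟨c, hc'⟩ := (GrpSch.isKernel_factors_iff hker _).2 h1
    have h3 : pA ≫ j ≫ π = toUnit P ≫ η[Q] := by
      rw [← Category.assoc, hP.w, Category.assoc, hiπ, MonObj.comp_one, GrpSch.one_eq_toUnit]
    refine fin ⟨hP.lift n c hc'.symm, hn.lift pA (toUnit P) h3, ?_, ?_⟩
    · refine hn.hom_ext ?_ (toUnit_unique _ _)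
      rw [Category.assoc, hn.lift_fst, hP.lift_fst, Category.id_comp]
    · apply hP.hom_ext
      · rw [Category.assoc, hP.lift_fst, hn.lift_fst, Category.id_comp]
      · have : Mono i := (Over.forget _).mono_of_mono_map (inferInstanceAs (Mono i.left))
        rw [← cancel_mono i, Category.assoc, Category.assoc, ← Category.assoc (hP.lift n c hc'.symm),
          hP.lift_snd, hc', ← Category.assoc, hn.lift_fst, Category.id_comp, hP.w]

end Groth.Agent.S14751
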