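import Groth.Statements.S14765
import Groth.Agent.SubtrLib.Basic
import Groth.Agent.FpqcDescent.ReducedSub

set_option autoImplicit false
set_option linter.style.haveILetI false
universe u
open CategoryTheory CategoryTheory.Limits AlgebraicGeometry
open Subtr

namespace Groth.Agent.S14765

/-- Let V be a valuation ring and f : X ⟶ Spec V any morphism of schemes. The following are equivalent:
(a) after every base change, every ordered pair of points of the target (a point and a
specialization of it) lifts to an ordered pair of points of the source; (b) every ordered pair of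
points of Spec V lifts to an ordered pair of points of X; (c) every point of Spec V is the image of
a point of X lying in the closure of the generic fibre; (d) the pair formed by the closed point and
the generic point of Spec V lifts to points x, x' of X with x a specialization of x'; (e) there are
a valuation ring W and a morphism Spec W ⟶ X whose composite with f is surjective; (f) there is a
closed subscheme Z of X such that Z ⟶ Spec V is flat and surjective. (The published list also
contains subtrusiveness and universal subtrusiveness, which add submersiveness for the constructible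
topology, and the lifting of arbitrary chains of points; this row omits those items and keeps the
lifting property alone in (a).) -/
theorem result (V : Type u) [CommRing V] [IsDomain V] [ValuationRing V]
    {X : Scheme.{u}} (f : X ⟶ Spec (CommRingCat.of V)) :
    List.TFAE [
      Subtr.UnivSSubtrusive f,
      Subtr.IsSSubtrusive f,
      ∀ y : Spec (CommRingCat.of V), ∃ x : X,
        x ∈ closure (f ⁻¹' {(⟨⊥, Ideal.isPrime_bot⟩ : PrimeSpectrum V)}) ∧ f x = y,
      ∃ x x' : X, x' ⤳ x ∧ f x = IsLocalRing.closedPoint V ∧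
        f x' = (⟨⊥, Ideal.isPrime_bot⟩ : PrimeSpectrum V),
      ∃ (W : Type u) (_ : CommRing W) (_ : IsDomain W) (_ : ValuationRing W)
        (g : Spec (CommRingCat.of W) ⟶ X), Surjective (g ≫ f),
      ∃ (Z : Scheme.{u}) (i : Z ⟶ X), IsClosedImmersion i ∧ Flat (i ≫ f) ∧ Surjective (i ≫ f)] := by
  let η : PrimeSpectrum V := ⟨⊥, Ideal.isPrime_bot⟩
  have hη : ∀ y : Spec (CommRingCat.of V), η ⤳ y := fun y ↦
    (PrimeSpectrum.le_iff_specializes η y).mp (show (η.asIdeal : Ideal V) ≤ y.asIdeal from bot_le)
  tfae_have 1 → 2 := fun h ↦ Groth.Agent.SubtrLib.isSSubtrusive_of_univ h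
  tfae_have 2 → 3 := by
    intro h y
    obtain ⟨x, x', hxx, hx, hx'⟩ := h (hη y)
    exact ⟨x, hxx.mem_closed isClosed_closure (subset_closure (show f x' ∈ ({η} : Set _) from hx')), hx⟩
  tfae_have 3 → 4 := by
    intro h
    obtain ⟨x, hx, hfx⟩ := h (IsLocalRing.closedPoint V)
    obtain ⟨x', hx', hxx⟩ := Groth.Agent.SubtrLib.exists_specializes_of_mem_closure
      (Groth.Agent.ProConsLib.isPro_preimage f (Groth.Agent.SubtrLib.isPro_singleton η)) hx
    exact ⟨x, x', hxx, hfx, hx'⟩
  tfae_have 4 → 5 := by
    rintro ⟨x, x', hxx, hx, hx'⟩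
    obtain ⟨W, _, _, m, hmc, hmg⟩ := Groth.Agent.VCov.exists_valuation_of_specializes hxx
    refine ⟨W, inferInstance, inferInstance, inferInstance, m,
      Groth.Agent.SubtrLib.surjective_of_extension _ ?_ ?_⟩
    · rw [Scheme.Hom.comp_apply]; exact (congrArg f hmg).trans hx'
    · rw [Scheme.Hom.comp_apply]; exact (congrArg f hmc).trans hx
  tfae_have 5 → 6 := by
    rintro ⟨W, _, _, _, g, hs⟩
    let ξ := g (⟨⊥, Ideal.isPrime_bot⟩ : PrimeSpectrum W)
    let Z : TopologicalSpace.Closeds X := TopologicalSpace.Closeds.closure {ξ}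
    let I := Scheme.IdealSheafData.vanishingIdeal Z
    have hrange : Set.range I.subschemeι = closure {ξ} := by
      rw [Scheme.IdealSheafData.range_subschemeι, Scheme.IdealSheafData.coe_support_vanishingIdeal]
      rfl
    have hsurj : Surjective (I.subschemeι ≫ f) := ⟨fun y ↦ by
      obtain ⟨u, hu⟩ := (g ≫ f).surjective y
      have hmem : g u ∈ Set.range I.subschemeι := by
        rw [hrange]
        exact specializes_iff_mem_closure.mp ((((PrimeSpectrum.le_iff_specializes
          (⟨⊥, Ideal.isPrime_bot⟩ : PrimeSpectrum W) u).mp bot_le)).map g.continuous)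
      obtain ⟨z, hz⟩ := hmem
      exact ⟨z, by rw [Scheme.Hom.comp_apply, hz, ← Scheme.Hom.comp_apply, hu]⟩⟩
    obtain ⟨z₀, hz₀⟩ : ξ ∈ Set.range I.subschemeι := hrange ▸ subset_closure rfl
    have hgen : ∀ z : I.subscheme, z₀ ⤳ z := fun z ↦ by
      rw [← I.subschemeι.isClosedEmbedding.isEmbedding.isInducing.specializes_iff, hz₀,
        specializes_iff_mem_closure]
      exact hrange.le ⟨z, rfl⟩
    haveI : Nonempty I.subscheme := ⟨z₀⟩
    haveI : PreirreducibleSpace I.subscheme :=
      ⟨fun u v hu hv ⟨a, _, ha⟩ ⟨b, _, hb⟩ ↦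
        ⟨z₀, trivial, (hgen a).mem_open hu ha, (hgen b).mem_open hv hb⟩⟩
    haveI : IrreducibleSpace I.subscheme := ⟨inferInstance⟩
    haveI : IsIntegral I.subscheme := isIntegral_of_irreducibleSpace_of_isReduced _
    have hfξ : f ξ = η := by
      obtain ⟨u, hu⟩ := (g ≫ f).surjective η
      have h1 : f ξ ⤳ η := by
        rw [← hu, Scheme.Hom.comp_apply]
        exact ((((PrimeSpectrum.le_iff_specializes
          (⟨⊥, Ideal.isPrime_bot⟩ : PrimeSpectrum W) u).mp bot_le)).map g.continuous).map f.continuous
      exact (h1.antisymm (hη _)).eq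
    refine ⟨I.subscheme, I.subschemeι, inferInstance, ?_, hsurj⟩
    let U' : {T : I.subscheme.affineOpens // z₀ ∈ (T : I.subscheme.Opens)} → I.subscheme.affineOpens :=
      fun T ↦ T.1
    have hcov : ⨆ T, (U' T : I.subscheme.Opens) = ⊤ := by
      refine eq_top_iff.mpr fun z _ ↦ ?_
      obtain ⟨_, ⟨T, hT, rfl⟩, hz, -⟩ :=
        I.subscheme.isBasis_affineOpens.exists_subset_of_mem_open (Set.mem_univ z) isOpen_univ
      exact TopologicalSpace.Opens.mem_iSup.mpr ⟨⟨⟨T, hT⟩, (hgen z).mem_open T.2 hz⟩, hz⟩
    refine (HasRingHomProperty.iff_of_iSup_eq_top U' hcov).mpr fun T ↦ ?_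
    let hom := (I.subschemeι ≫ f).appLE ⊤ (U' T).1 le_top
    let φ : CommRingCat.of V ⟶ Γ(I.subscheme, (U' T).1) :=
      (Scheme.ΓSpecIso (CommRingCat.of V)).inv ≫ hom
    haveI : Nonempty (U' T).1.toScheme := ⟨⟨z₀, T.2⟩⟩
    algebraize [φ.hom]
    have hinj : Function.Injective φ.hom := (injective_iff_map_eq_zero _).mpr fun r hr ↦ by
      by_contra hr0
      have h1 : z₀ ∈ I.subscheme.basicOpen (φ.hom r) := by
        change z₀ ∈ I.subscheme.basicOpen (hom ((Scheme.ΓSpecIso (CommRingCat.of V)).inv r))
        rw [Scheme.basicOpen_appLE]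
        refine ⟨T.2, ?_⟩
        change (I.subschemeι ≫ f) z₀ ∈ (Spec (CommRingCat.of V)).basicOpen _
        rw [basicOpen_eq_of_affine, Scheme.Hom.comp_apply, hz₀, hfξ]
        exact fun h => hr0 (by simpa [η] using h)
      rw [hr, Scheme.basicOpen_zero] at h1
      exact h1
    haveI : FaithfulSMul V Γ(I.subscheme, (U' T).1) :=
      (faithfulSMul_iff_algebraMap_injective _ _).mpr hinj
    have hflat : φ.hom.Flat := by
      change Module.Flat V Γ(I.subscheme, (U' T).1)
      rw [Module.Flat.flat_iff_torsion_eq_bot_of_isBezout, ← Submodule.isTorsionFree_iff_torsion_eq_bot]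
      infer_instance
    have heq : hom = (Scheme.ΓSpecIso (CommRingCat.of V)).hom ≫ φ := by simp [φ]
    change hom.hom.Flat
    rw [heq, CommRingCat.hom_comp]
    exact RingHom.Flat.comp (RingHom.Flat.of_bijective
      (ConcreteCategory.bijective_of_isIso (Scheme.ΓSpecIso (CommRingCat.of V)).hom)) hflat
  tfae_have 6 → 1 := by
    rintro ⟨Z, i, hi, hfl, hs⟩
    intro X' Y' i₁ i₂ f' hsq y y' hy
    let P := pullback (i ≫ f) i₂
    let l : P ⟶ X' := hsq.lift (pullback.snd _ _) (pullback.fst _ _ ≫ i)
      (by rw [Category.assoc, ← pullback.condition])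
    have hl : l ≫ f' = pullback.snd (i ≫ f) i₂ := hsq.lift_fst _ _ _
    haveI : Flat (pullback.snd (i ≫ f) i₂) := MorphismProperty.pullback_snd _ _ hfl
    haveI : Surjective (pullback.snd (i ≫ f) i₂) := MorphismProperty.pullback_snd _ _ hs
    obtain ⟨w, hw⟩ := (pullback.snd (i ≫ f) i₂).surjective y
    obtain ⟨w', hw', hw'y⟩ := Flat.generalizingMap (pullback.snd (i ≫ f) i₂)
      (a := w) (b := y') (hw.symm ▸ hy)
    refine ⟨l w, l w', hw'.map l.continuous, ?_, ?_⟩
    · rw [← Scheme.Hom.comp_apply, hl, hw]
    · rw [← Scheme.Hom.comp_apply, hl, hw'y]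
  tfae_finish

end Groth.Agent.S14765
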