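import Groth.Statements.S14766
import Groth.Agent.SubtrLib.Basic

set_option autoImplicit false
universe u
open CategoryTheory CategoryTheory.Limits AlgebraicGeometry
open Subtr

namespace Groth.Agent.S14766

/-- Let V be a discrete valuation ring and f : X ⟶ Spec V any morphism of schemes. Then the underlying
continuous map of f is a quotient map (f is submersive) if and only if every ordered pair of points
of Spec V lifts to an ordered pair of points of X. -/
theorem result (V : Type u) [CommRing V] [IsDomain V]
    [IsDiscreteValuationRing V] {X : Scheme.{u}} (f : X ⟶ Spec (CommRingCat.of V)) :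
    Topology.IsQuotientMap f ↔ Subtr.IsSSubtrusive f := by
  let η : PrimeSpectrum V := ⟨⊥, Ideal.isPrime_bot⟩
  have htwo : ∀ y : PrimeSpectrum V, y = η ∨ y = IsLocalRing.closedPoint V := fun y ↦ by
    by_cases h : y.asIdeal = ⊥
    · exact Or.inl (PrimeSpectrum.ext h)
    · exact Or.inr (PrimeSpectrum.ext
        (IsLocalRing.eq_maximalIdeal (Ideal.IsPrime.isMaximal y.isPrime h)))
  have hne : η ≠ IsLocalRing.closedPoint V := fun h ↦
    IsDiscreteValuationRing.not_a_field V (congrArg PrimeSpectrum.asIdeal h).symm
  constructor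
  · intro hq y y' hyy
    by_cases he : y' = y
    · subst he
      obtain ⟨x, hx⟩ := hq.surjective y'
      exact ⟨x, x, specializes_refl x, hx, hx⟩
    · have hy' : y' = η := (htwo y').resolve_right fun h ↦ he (by
        subst h
        exact (hyy.antisymm (IsLocalRing.specializes_closedPoint (R := V) y)).eq)
      subst hy'
      have hy : y = IsLocalRing.closedPoint V := (htwo y).resolve_left (Ne.symm he)
      subst hy
      by_contra hno
      have hcl : IsClosed (f ⁻¹' {η}) := by
        refine isClosed_of_closure_subset fun x hx ↦ ?_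
        obtain ⟨x', hx', hxx⟩ := Groth.Agent.SubtrLib.exists_specializes_of_mem_closure
          (Groth.Agent.ProConsLib.isPro_preimage f (Groth.Agent.SubtrLib.isPro_singleton η)) hx
        rcases htwo (f x) with h | h
        · exact h
        · exact absurd ⟨x, x', hxx, h, hx'⟩ hno
      have h1 : IsClosed ({η} : Set (PrimeSpectrum V)) := hq.isClosed_preimage.mp hcl
      exact hne ((IsLocalRing.specializes_closedPoint (R := V) η).mem_closed h1 rfl).symm
  · intro h
    refine Topology.isQuotientMap_iff_isClosed.mpr
      ⟨Groth.Agent.SubtrLib.surjective_of_isSSubtrusive h,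
        fun C ↦ ⟨fun hC ↦ hC.preimage f.continuous, fun hC ↦ ?_⟩⟩
    refine Groth.Agent.SubtrLib.isClosed_of_isPro ?_ fun a b hab ha ↦ ?_
    · rcases Set.eq_empty_or_nonempty C with rfl | _
      · exact Groth.Agent.SubtrLib.isPro_of_isClosed isClosed_empty
      · by_cases h0 : η ∈ C <;> by_cases h1 : IsLocalRing.closedPoint V ∈ C
        · rw [show C = Set.univ from Set.eq_univ_of_forall fun y ↦
            (htwo y).elim (fun e ↦ e ▸ h0) (fun e ↦ e ▸ h1)]
          exact Groth.Agent.SubtrLib.isPro_of_isClosed isClosed_univ
        · rw [show C = {η} from Set.eq_singleton_iff_unique_mem.mpr ⟨h0, fun y hy ↦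
            (htwo y).resolve_right fun e ↦ h1 (e ▸ hy)⟩]
          exact Groth.Agent.SubtrLib.isPro_singleton _
        · rw [show C = {IsLocalRing.closedPoint V} from Set.eq_singleton_iff_unique_mem.mpr
            ⟨h1, fun y hy ↦ (htwo y).resolve_left fun e ↦ h0 (e ▸ hy)⟩]
          exact Groth.Agent.SubtrLib.isPro_singleton _
        · rw [show C = ∅ from Set.eq_empty_of_forall_notMem fun y hy ↦
            (htwo y).elim (fun e ↦ h0 (e ▸ hy)) (fun e ↦ h1 (e ▸ hy))]
          exact Groth.Agent.SubtrLib.isPro_of_isClosed isClosed_empty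
    · obtain ⟨x, x', hxx, hx, hx'⟩ := h hab
      have : x' ∈ f ⁻¹' C := show f x' ∈ C from hx' ▸ ha
      exact hx ▸ hxx.mem_closed hC this

end Groth.Agent.S14766
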