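import Groth.Statements.S14767
import Groth.Agent.SubtrLib.Basic

set_option autoImplicit false
universe u
open CategoryTheory CategoryTheory.Limits AlgebraicGeometry
open Subtr

namespace Groth.Agent.S14767

/-- Let f : X ⟶ Y be a quasi-compact morphism of schemes. Then f is universally submersive if and only
if, for every valuation ring V and every morphism Spec V ⟶ Y, the base change X ×_Y Spec V ⟶ Spec V
is submersive (its underlying continuous map is a quotient map). (The published statement asks
instead that f be universally submersive for the constructible topologies, which holds for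
quasi-compact surjective morphisms; both sides here force f to be surjective.) -/
theorem result {X Y : Scheme.{u}} (f : X ⟶ Y) [QuasiCompact f] :
    SGA1.UnivSubmersive f ↔
      ∀ (V : Type u) [CommRing V] [IsDomain V] [ValuationRing V] (g : Spec (CommRingCat.of V) ⟶ Y),
        Topology.IsQuotientMap (pullback.snd f g) := by
  refine ⟨fun h V _ _ _ g ↦ h (pullback.fst f g) g (pullback.snd f g)
    (IsPullback.of_hasPullback f g).flip, fun h X' Y' i₁ i₂ f' hsq ↦ ?_⟩
  have hqc : QuasiCompact f' := MorphismProperty.of_isPullback hsq.flip ‹QuasiCompact f›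
  have key : ∀ (V : Type u) [CommRing V] [IsDomain V] [ValuationRing V]
      (m : Spec (CommRingCat.of V) ⟶ Y'), ∃ l : pullback f (m ≫ i₂) ⟶ X',
        l ≫ f' = pullback.snd f (m ≫ i₂) ≫ m := fun V _ _ _ m ↦
    ⟨hsq.lift (pullback.snd _ _ ≫ m) (pullback.fst _ _) (by rw [Category.assoc, pullback.condition]),
      hsq.lift_fst _ _ _⟩
  have hsurj : Function.Surjective f' := fun y ↦ by
    obtain ⟨W, _, _, m, hmc, -⟩ :=
      Groth.Agent.VCov.exists_valuation_of_specializes (specializes_refl y)
    obtain ⟨l, hl⟩ := key W m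
    obtain ⟨w, hw⟩ := (h W (m ≫ i₂)).surjective (IsLocalRing.closedPoint W)
    refine ⟨l w, ?_⟩
    rw [← Scheme.Hom.comp_apply, hl, Scheme.Hom.comp_apply, hw, hmc]
  refine Topology.isQuotientMap_iff_isClosed.mpr
    ⟨hsurj, fun C ↦ ⟨fun hC ↦ hC.preimage f'.continuous, fun hC ↦ ?_⟩⟩
  refine Groth.Agent.SubtrLib.isClosed_of_isPro ?_ fun a b hab ha ↦ ?_
  · rw [← Set.image_preimage_eq C hsurj]
    exact Groth.Agent.ProConsLib.isPro_image f' (Groth.Agent.SubtrLib.isPro_of_isClosed hC)
  · obtain ⟨W, _, _, m, hmc, hmg⟩ := Groth.Agent.VCov.exists_valuation_of_specializes hab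
    obtain ⟨l, hl⟩ := key W m
    have hcl : IsClosed (m ⁻¹' C) := by
      refine (h W (m ≫ i₂)).isClosed_preimage.mp ?_
      have : (pullback.snd f (m ≫ i₂)) ⁻¹' (m ⁻¹' C) = l ⁻¹' (f' ⁻¹' C) := by
        ext w
        change m (pullback.snd f (m ≫ i₂) w) ∈ C ↔ f' (l w) ∈ C
        rw [← Scheme.Hom.comp_apply, ← Scheme.Hom.comp_apply, hl]
      rw [this]
      exact hC.preimage l.continuous
    have := (Groth.Agent.VCov.specializes_closedPt (R := W) _).mem_closed hcl
      (show m (⟨⊥, Ideal.isPrime_bot⟩ : PrimeSpectrum W) ∈ C from hmg ▸ ha)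
    exact hmc ▸ this

end Groth.Agent.S14767
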