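import Groth.Statements.S14771
import Groth.Agent.SubtrLib.Noetherian

set_option autoImplicit false
universe u
open CategoryTheory CategoryTheory.Limits AlgebraicGeometry
open Subtr

namespace Groth.Agent.S14771

/-- Let Y be locally Noetherian and f : X ⟶ Y quasi-compact and locally of finite type. The following
are equivalent: (i) f is universally submersive; (ii) every base change of f has the lifting
property for ordered pairs of points; (iii) for every discrete valuation ring D and morphism g :
Spec D ⟶ Y there are a discrete valuation ring D', a morphism a : Spec D' ⟶ X and a surjective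
morphism b : Spec D' ⟶ Spec D with a ≫ f = b ≫ g. (The published statement assumes f only locally of
finite type. Quasi-compactness cannot be dropped: over the local ring of a regular surface at a
closed point s, the disjoint union of the punctured surface, a regular curve C through s and, for
every n ≥ 1, the n-fold blow-up along successive points of the strict transform of C with the n-th
such point removed, satisfies (iii) with D' = D, while (ii) fails at a valuation ring of rank two
whose centres are exactly the removed points; the limit argument behind the published proof uses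
quasi-compactness of the fibres.) -/
theorem result {X Y : Scheme.{u}} [IsLocallyNoetherian Y]
    (f : X ⟶ Y) [LocallyOfFiniteType f] [QuasiCompact f] :
    List.TFAE [
      SGA1.UnivSubmersive f,
      Subtr.UnivSSubtrusive f,
      ∀ (D : Type u) [CommRing D] [IsDomain D] [IsDiscreteValuationRing D] (g : Spec (CommRingCat.of D) ⟶ Y),
        ∃ (D' : Type u) (_ : CommRing D') (_ : IsDomain D') (_ : IsDiscreteValuationRing D')
          (a : Spec (CommRingCat.of D') ⟶ X) (b : Spec (CommRingCat.of D') ⟶ Spec (CommRingCat.of D)),
          Surjective b ∧ a ≫ f = b ≫ g] := by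
  tfae_have 1 → 2 := SubtrLib.univ_of_univSubmersive f
  tfae_have 2 → 1 := SubtrLib.univSubmersive_of_univ f
  tfae_have 3 → 2 := by
    intro h
    by_contra hne
    obtain ⟨D, _, _, _, g, hg⟩ := SubtrLib.exists_dvr_of_not_univ f hne
    obtain ⟨D', _, _, _, a, b, hb, hab⟩ := h D g
    let l := pullback.lift a b hab
    have hl : ∀ z, pullback.snd f g (l z) = b z := fun z => by
      rw [← Scheme.Hom.comp_apply, pullback.lift_snd]
    obtain ⟨z, hz⟩ := b.surjective (⟨⊥, Ideal.isPrime_bot⟩ : PrimeSpectrum D)
    refine hg (l z) (l (IsLocalRing.closedPoint D')) ((IsLocalRing.specializes_closedPoint (z : PrimeSpectrum D')).map l.continuous)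
      ((hl z).trans hz) ((hl _).trans (SubtrLib.closedPoint_eq_of_surjective b))
  tfae_have 2 → 3 := by
    intro h D _ _ _ g
    obtain ⟨x, x', hxx, hx, hx'⟩ := h _ _ _ (IsPullback.of_hasPullback f g).flip
      (y := IsLocalRing.closedPoint D) (y' := (⟨⊥, Ideal.isPrime_bot⟩ : PrimeSpectrum D))
      (IsLocalRing.specializes_closedPoint _)
    have hne : x ≠ x' := by
      rintro rfl
      exact IsDiscreteValuationRing.not_a_field D (congrArg PrimeSpectrum.asIdeal (hx.symm.trans hx'))
    have : LocallyOfFiniteType (pullback.snd f g) := MorphismProperty.pullback_snd _ _ (inferInstance : LocallyOfFiniteType f)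
    have : IsLocallyNoetherian (pullback f g) := LocallyOfFiniteType.isLocallyNoetherian (pullback.snd f g)
    obtain ⟨R, m, hR, hm1, hm2⟩ := DVRDom.exists_dvr_through_specialization (𝟙 (pullback f g)) x' x (by simpa using hxx)
      (by simpa using hne)
    have hgen : m (⟨⊥, Ideal.isPrime_bot⟩ : PrimeSpectrum R) = x' := by
      have h1 : (Spec.map (CommRingCat.ofHom R.subtype)) (IsLocalRing.closedPoint ((pullback f g).residueField x')) =
          (⟨⊥, Ideal.isPrime_bot⟩ : PrimeSpectrum R) := by
        refine PrimeSpectrum.ext ?_
        show Ideal.comap R.subtype (IsLocalRing.maximalIdeal _) = ⊥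
        rw [IsLocalRing.maximalIdeal_eq_bot, ← RingHom.ker_eq_comap_bot]
        exact (RingHom.injective_iff_ker_eq_bot _).1 Subtype.val_injective
      rw [← h1, ← Scheme.Hom.comp_apply, hm2, Category.comp_id]
      exact Scheme.fromSpecResidueField_apply _ _
    refine ⟨R, inferInstance, inferInstance, hR, m ≫ pullback.fst f g, m ≫ pullback.snd f g, ⟨fun y => ?_⟩, ?_⟩
    · by_cases hy : (y : PrimeSpectrum D).asIdeal = ⊥
      · refine ⟨(⟨⊥, Ideal.isPrime_bot⟩ : PrimeSpectrum R), ?_⟩
        rw [Scheme.Hom.comp_apply, hgen, hx']
        exact (PrimeSpectrum.ext hy).symm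
      · refine ⟨IsLocalRing.closedPoint R, ?_⟩
        rw [Scheme.Hom.comp_apply, hm1, hx]
        exact (PrimeSpectrum.ext ((IsLocalRing.eq_maximalIdeal ((y : PrimeSpectrum D).isPrime.isMaximal hy)))).symm
    · rw [Category.assoc, Category.assoc, pullback.condition]
  tfae_finish

end Groth.Agent.S14771
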