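import Groth.Statements.S1478
import Groth.Agent.QCohPull.Affine
import Groth.Agent.QCohAffine.Omega
import Groth.Agent.QCohAffine.Kernel
import Groth.Agent.QCohBase.Noetherian
import Groth.Agent.AssPts.Structure
import Mathlib.AlgebraicGeometry.Morphisms.FormallyUnramified

set_option autoImplicit false
set_option linter.style.haveILetI false
universe u
open FlatMor

namespace Groth.Agent.S1478

open AlgebraicGeometry CategoryTheory Limits TensorProduct Groth.Agent
section Aux
open Groth.Agent.QCohBase Groth.Agent.QCohAffine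

variable {P : Scheme.{u}} (K : P.IdealSheafData)

lemma isQuasicoherent_idealMod : (ClSub.idealMod K).IsQuasicoherent :=
  isQuasicoherent_kernel _ (AssPts.isQuasicoherent_structureModule P)
    (by
      haveI := AssPts.isQuasicoherent_structureModule K.subscheme
      exact isQuasicoherent_pushforward _ _)

/-- Sections of the ideal module on an affine open are the ideal. -/
lemma nonempty_idealMod_sections {W : P.Opens} (hW : IsAffineOpen W) :
    Nonempty (Γ(ClSub.idealMod K, W) ≃ₗ[Γ(P, W)] K.ideal ⟨W, hW⟩) := by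
  let l : Γ(ClSub.idealMod K, W) →ₗ[Γ(P, W)] Γ(P, W) :=
    { toFun := fun x => (ClSub.idealModι K).app W x
      map_add' := map_add _
      map_smul' := fun r x => map_smul (appL (ClSub.idealModι K) W) r x }
  have hl : Function.Injective l := kernel_ι_app_injective (ClSub.toSubscheme K) W
  have hr : LinearMap.range l = K.ideal ⟨W, hW⟩ := by
    ext a
    rw [← K.ker_subschemeι_app, RingHom.mem_ker, LinearMap.mem_range]
    exact mem_range_kernel_app_iff (ClSub.toSubscheme K) W a
  exact ⟨(LinearEquiv.ofInjective l hl).trans (LinearEquiv.ofEq _ _ hr)⟩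

lemma subsingleton_tensor_iff {Q A N : Type u} [CommRing Q] [CommRing A] [Algebra Q A] (I : Ideal Q)
    (hsurj : Function.Surjective (algebraMap Q A)) (hI : RingHom.ker (algebraMap Q A) = I)
    [AddCommGroup N] [Module Q N] (e : N ≃ₗ[Q] I) :
    Subsingleton (A ⊗[Q] N) ↔ IsIdempotentElem I := by
  let q : (Q ⧸ I) ≃ₗ[Q] A :=
    LinearEquiv.ofBijective (Submodule.liftQ I (Algebra.linearMap Q A) hI.symm.le)
      ⟨LinearMap.ker_eq_bot.1 (Submodule.ker_liftQ_eq_bot _ _ _ hI.le), fun a => by
        obtain ⟨r, rfl⟩ := hsurj a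
        exact ⟨Submodule.Quotient.mk r, rfl⟩⟩
  rw [(TensorProduct.congr q.symm e).toEquiv.subsingleton_congr,
    (TensorProduct.quotTensorEquivQuotSMul I I).toEquiv.subsingleton_congr,
    Submodule.Quotient.subsingleton_iff]
  constructor
  · intro h
    refine le_antisymm Ideal.mul_le_right fun a ha => ?_
    have h2 : (⟨a, ha⟩ : I) ∈ I • (⊤ : Submodule Q I) := by rw [h]; trivial
    exact Submodule.mem_smul_top_iff _ _ _ |>.mp h2
  · intro h
    refine eq_top_iff.2 fun a _ => ?_
    rw [Submodule.mem_smul_top_iff, smul_eq_mul, h.eq]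
    exact a.2

/-- The sheaf of differentials vanishes on an affine piece iff the piece is formally unramified. -/
lemma subsingleton_omega_sections_iff {X S : Scheme.{u}} (f : X ⟶ S) [IsSeparated f]
    {U : X.Opens} (hU : IsAffineOpen U) {V : S.Opens} (hV : IsAffineOpen V) (hUV : U ≤ f ⁻¹ᵁ V) :
    Subsingleton Γ(Omega.sheaf f, U) ↔ (f.appLE V U hUV).hom.FormallyUnramified := by
  let R := Γ(S, V)
  let A := Γ(X, U)
  letI : Algebra R A := (f.appLE V U hUV).hom.toAlgebra
  let g : Spec A ⟶ Spec R := Spec.map (CommRingCat.ofHom (algebraMap R A))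
  have hg : g ≫ hV.fromSpec = hU.fromSpec ≫ f := IsAffineOpen.SpecMap_appLE_fromSpec f hV hU hUV
  let m : pullback g g ⟶ pullback f f :=
    pullback.map g g f f hU.fromSpec hU.fromSpec hV.fromSpec hg hg
  haveI : IsOpenImmersion m := Scheme.pullback_map_isOpenImmersion _ _ _ _ _ _ _ _ _
  let m' : Spec (CommRingCat.of (A ⊗[R] A)) ⟶ pullback f f := (pullbackSpecIso R A A).inv ≫ m
  let W : (pullback f f).Opens := m'.opensRange
  have hW : IsAffineOpen W := isAffineOpen_opensRange m'
  set Δ := pullback.diagonal f with hΔ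
  have hUW : Δ ⁻¹ᵁ W = U := by
    have hr : Set.range m' = Set.range m := by
      simp only [m', Scheme.Hom.comp_base, TopCat.coe_comp]
      exact (pullbackSpecIso R A A).inv.homeomorph.surjective.range_comp _
    have hrm : Set.range m = pullback.fst f f ⁻¹' Set.range hU.fromSpec ∩
        pullback.snd f f ⁻¹' Set.range hU.fromSpec := Scheme.Pullback.range_map _ _ _ _ _ _ _ _ _
    ext x
    change Δ x ∈ Set.range m' ↔ _
    rw [hr, hrm, hU.range_fromSpec]
    simp [hΔ, ← Scheme.Hom.comp_apply]
  let Q := Γ(pullback f f, W)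
  obtain ⟨ψ, hψ⟩ := Spec.map_surjective
    (IsOpenImmersion.lift hW.fromSpec m' (by rw [hW.range_fromSpec]; rfl))
  have hψ' : Spec.map ψ ≫ hW.fromSpec = m' := by rw [hψ]; exact IsOpenImmersion.lift_fac _ _ _
  haveI : IsIso (Spec.map ψ) := by
    haveI : IsOpenImmersion (Spec.map ψ ≫ hW.fromSpec) := hψ'.symm ▸ inferInstance
    haveI : IsOpenImmersion (Spec.map ψ) := IsOpenImmersion.of_comp _ hW.fromSpec
    haveI : Surjective (Spec.map ψ) := ⟨fun p => by
      have h1 : hW.fromSpec p ∈ Set.range m' := hW.range_fromSpec.le ⟨p, rfl⟩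
      obtain ⟨q, hq⟩ := h1
      refine ⟨q, hW.fromSpec.isOpenEmbedding.injective ?_⟩
      rw [← Scheme.Hom.comp_apply, hψ', hq]⟩
    rw [isIso_iff_isOpenImmersion_and_epi_base, TopCat.epi_iff_surjective]
    exact ⟨inferInstance, (Spec.map ψ).surjective⟩
  haveI : IsIso (Scheme.Spec.map ψ.op) := ‹IsIso (Spec.map ψ)›
  haveI : IsIso ψ.op := isIso_of_reflects_iso ψ.op Scheme.Spec
  haveI : IsIso ψ := isIso_of_op ψ
  let μ : CommRingCat.of (A ⊗[R] A) ⟶ A :=
    CommRingCat.ofHom (Algebra.TensorProduct.lmul' (S := A) R).toRingHom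
  have hμ : Spec.map μ ≫ m' = hU.fromSpec ≫ Δ := by
    apply pullback.hom_ext
    · simp only [m', m, hΔ, Category.assoc, pullback.lift_fst, pullback.diagonal_fst, Category.comp_id]
      rw [reassoc_of% (pullbackSpecIso_inv_fst R A A), ← Spec.map_comp_assoc]
      refine Eq.trans ?_ (Category.id_comp hU.fromSpec)
      congr 1
      refine Eq.trans ?_ (Spec.map_id A)
      congr 1
      ext a
      exact (Algebra.TensorProduct.lmul'_apply_tmul _ _).trans (mul_one a)
    · simp only [m', m, hΔ, Category.assoc, pullback.lift_snd, pullback.diagonal_snd, Category.comp_id]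
      rw [reassoc_of% (pullbackSpecIso_inv_snd R A A), ← Spec.map_comp_assoc]
      refine Eq.trans ?_ (Category.id_comp hU.fromSpec)
      congr 1
      refine Eq.trans ?_ (Spec.map_id A)
      congr 1
      ext a
      exact (Algebra.TensorProduct.lmul'_apply_tmul _ _).trans (one_mul a)
  have happ : Δ.appLE W U hUW.ge = ψ ≫ μ := by
    apply Spec.map_injective
    rw [← cancel_mono hW.fromSpec, IsAffineOpen.SpecMap_appLE_fromSpec Δ hW hU hUW.ge,
      Spec.map_comp, Category.assoc, hψ', hμ]
  letI : Algebra Q A := (Δ.appLE W U hUW.ge).hom.toAlgebra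
  have hbij : Function.Bijective ψ.hom := ConcreteCategory.bijective_of_isIso ψ
  have hsurj : Function.Surjective (algebraMap Q A) := by
    intro a
    obtain ⟨q, hq⟩ := hbij.2 (a ⊗ₜ[R] (1 : A))
    refine ⟨q, ?_⟩
    change (Δ.appLE W U hUW.ge).hom q = a
    rw [happ, CommRingCat.comp_apply, hq]
    exact (Algebra.TensorProduct.lmul'_apply_tmul _ _).trans (mul_one a)
  have hker : RingHom.ker (algebraMap Q A) = (KaehlerDifferential.ideal R A).comap ψ.hom := by
    change RingHom.ker (Δ.appLE W U hUW.ge).hom = _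
    rw [happ, CommRingCat.hom_comp, ← RingHom.comap_ker]
    rfl
  have hideal : Δ.ker.ideal ⟨W, hW⟩ = RingHom.ker (algebraMap Q A) := by
    rw [Scheme.Hom.ker_apply]
    change RingHom.ker (Δ.app W).hom = RingHom.ker (Δ.appLE W U hUW.ge).hom
    rw [Scheme.Hom.appLE, CommRingCat.hom_comp, RingHom.ker_comp_of_injective]
    haveI : IsIso (homOfLE hUW.ge) := ⟨homOfLE hUW.le, rfl, rfl⟩
    exact (ConcreteCategory.bijective_of_isIso (X.presheaf.map (homOfLE hUW.ge).op)).1
  haveI := isQuasicoherent_idealMod Δ.ker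
  obtain ⟨i⟩ := QCohPull.nonempty_sections_pullback Δ (ClSub.idealMod Δ.ker) hU hW hUW.ge
  obtain ⟨j⟩ := nonempty_idealMod_sections Δ.ker hW
  change Subsingleton Γ((Scheme.Modules.pullback Δ).obj (ClSub.idealMod Δ.ker), U) ↔ _
  rw [← i.toEquiv.subsingleton_congr, subsingleton_tensor_iff _ hsurj hideal.symm j, hideal, hker]
  change _ ↔ Algebra.FormallyUnramified R A
  rw [Algebra.formallyUnramified_iff]
  change _ ↔ Subsingleton (KaehlerDifferential.ideal R A).Cotangent
  rw [Ideal.cotangent_subsingleton_iff]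
  let E := RingEquiv.ofBijective ψ.hom hbij
  change IsIdempotentElem ((KaehlerDifferential.ideal R A).comap E) ↔ _
  rw [← Ideal.map_symm]
  constructor
  · intro h
    have h2 := congrArg (Ideal.map E) h.eq
    rw [Ideal.map_mul] at h2
    have h3 : Ideal.map E (Ideal.map E.symm (KaehlerDifferential.ideal R A)) =
        KaehlerDifferential.ideal R A := Ideal.map_of_equiv E.symm
    rwa [h3] at h2
  · intro h
    change _ * _ = _
    rw [← Ideal.map_mul, h.eq]

end Aux

/-- For separated morphisms (where the sheaf of differentials is literally the conormal sheaf of the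
closed diagonal): a separated morphism f : X → S is formally unramified if and only if Ω_{X/S}, the
conormal sheaf of the diagonal, is the zero O_X-module. -/
theorem result {X S : Scheme.{u}} (f : X ⟶ S) [IsSeparated f] :
    FormallyUnramified f ↔ IsZero (Omega.sheaf f) := by
  constructor
  · intro h
    haveI := isQuasicoherent_idealMod (pullback.diagonal f).ker
    haveI : (Omega.sheaf f).IsQuasicoherent :=
      QCohPull.isQuasicoherent_pullback (pullback.diagonal f) (ClSub.idealMod (pullback.diagonal f).ker)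

    have hc : ∀ x : X, ∃ (U : X.Opens) (V : S.Opens),
        x ∈ U ∧ IsAffineOpen U ∧ IsAffineOpen V ∧ U ≤ f ⁻¹ᵁ V := fun x => by
      obtain ⟨_, ⟨(V : S.Opens), hV, rfl⟩, hxV, -⟩ :=
        S.isBasis_affineOpens.exists_subset_of_mem_open (Set.mem_univ (f x)) isOpen_univ
      obtain ⟨_, ⟨(U : X.Opens), hU, rfl⟩, hxU, hUV⟩ :=
        X.isBasis_affineOpens.exists_subset_of_mem_open (show x ∈ f ⁻¹ᵁ V from hxV) (f ⁻¹ᵁ V).isOpen
      exact ⟨U, V, hxU, hU, hV, hUV⟩
    choose U V hx hU hV e using hc
    exact QCohBase.isZero_of_sections U hU (fun x => ⟨x, hx x⟩) fun x =>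
      (subsingleton_omega_sections_iff f (hU x) (hV x) (e x)).2 (f.formallyUnramified_appLE (hV x) (hU x) (e x))
  · intro h
    refine ⟨fun {V} hV {U} hU e => (subsingleton_omega_sections_iff f hU hV e).1 ?_⟩
    refine subsingleton_of_forall_eq 0 fun s => ?_
    have h0 := congrArg (fun φ : Omega.sheaf f ⟶ Omega.sheaf f => φ.app U s) ((IsZero.iff_id_eq_zero _).1 h)
    exact h0

end Groth.Agent.S1478
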