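import Groth.Statements.S14783
import Groth.Agent.SubtrLib.ChainLift

set_option autoImplicit false
set_option linter.style.haveILetI false
universe u
open CategoryTheory CategoryTheory.Limits AlgebraicGeometry
open Subtr

namespace Groth.Agent.S14783

/-- Let f : S' ⟶ S be a quasi-compact morphism of schemes every base change of which has the lifting
property for ordered pairs of points, and E ⊆ S any subset. For E to be both locally closed and
retrocompact it is necessary and sufficient that f⁻¹(E) be both. -/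
theorem result {S' S : Scheme.{u}} (f : S' ⟶ S)
    [QuasiCompact f] (hf : Subtr.UnivSSubtrusive f) (E : Set S) :
    (IsLocallyClosed E ∧ IsRetrocompact E) ↔
      (IsLocallyClosed (f ⁻¹' E) ∧ IsRetrocompact (f ⁻¹' E)) := by
  open Groth.Agent in
  have hsurj : Function.Surjective f :=
    SubtrLib.surjective_of_isSSubtrusive (SubtrLib.isSSubtrusive_of_univ hf)
  have hpro : ∀ {Z : Scheme.{u}} (S : Set Z), IsLocallyClosed S → IsRetrocompact S →
      ProCons.IsProConstructible S := by
    intro Z S hlc hrc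
    refine Groth.Agent.ProConsLib.isPro_of_affine fun z ↦ ?_
    obtain ⟨U, hU, hzU, -⟩ := Groth.Agent.ProConsLib.exists_affine_subset isOpen_univ (Set.mem_univ z)
    refine ⟨U, hU, hzU, ?_⟩
    obtain ⟨O, C, hO, hC, rfl⟩ := hlc
    have hc : IsCompact (U.ι ⁻¹' (O ∩ C)) := by
      rw [U.ι.isOpenEmbedding.isInducing.isCompact_iff, Set.image_preimage_eq_inter_range,
        Scheme.Opens.range_ι]
      exact hrc hU.isCompact U.2
    haveI : IsAffine U.toScheme := hU
    haveI := Groth.Agent.ProConsLib.spectralSpace_opens hU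
    obtain ⟨V, hVc, hVo, hsub, hVO⟩ : ∃ V : Set U.toScheme, IsCompact V ∧ IsOpen V ∧
        U.ι ⁻¹' (O ∩ C) ⊆ V ∧ V ⊆ U.ι ⁻¹' O := by
      exact PrespectralSpace.exists_isCompact_and_isOpen_between hc
        (hO.preimage U.ι.continuous) (fun x hx ↦ hx.1)
    have he : U.ι ⁻¹' (O ∩ C) = V ∩ U.ι ⁻¹' C :=
      Set.Subset.antisymm (fun x hx ↦ ⟨hsub hx, hx.2⟩) fun x hx ↦ ⟨hVO hx.1, hx.2⟩
    have hp : ProCons.IsProConstructible (U.ι ⁻¹' (O ∩ C)) := by
      rw [he, Groth.Agent.ProConsLib.isPro_iff_compl, Set.compl_inter]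
      rw [Set.union_eq_iUnion]
      refine Groth.Agent.ProConsLib.isInd_iUnion fun b ↦ ?_
      cases b
      · exact Groth.Agent.ProConsLib.isInd_of_isOpen (hC.preimage U.ι.continuous).isOpen_compl
      · exact Groth.Agent.ProConsLib.isPro_iff_compl.mp
          (Groth.Agent.ProConsLib.isPro_of_isLocallyConstructible
            ((hVc.isConstructible hVo).isLocallyConstructible))
    exact Groth.Agent.ProConsLib.isClosed_con_preimage_of_isPro (g := fun z ↦ z)
      Topology.IsOpenEmbedding.id hp
  constructor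
  · rintro ⟨hlc, hrc⟩
    refine ⟨hlc.preimage f.continuous, fun W hWc hWo ↦ ?_⟩
    let W' : S'.Opens := ⟨W, hWo⟩
    have hp := Groth.Agent.ProConsLib.isPro_preimage f (hpro E hlc hrc)
    haveI : CompactSpace (Scheme.Opens.toScheme W') := isCompact_iff_compactSpace.mp hWc
    obtain ⟨X', g, _, hg⟩ := Groth.Agent.ProConsLib.exists_affine_range
      (Groth.Agent.ProConsLib.isPro_preimage (Scheme.Opens.ι W') hp)
    have h1 : IsCompact ((Scheme.Opens.ι W') ⁻¹' (f ⁻¹' E)) :=
      hg ▸ isCompact_range g.continuous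
    have h2 := h1.image (Scheme.Opens.ι W').continuous
    rwa [Set.image_preimage_eq_inter_range, Scheme.Opens.range_ι] at h2
  · rintro ⟨hlc, hrc⟩
    have hretro : IsRetrocompact E := fun W hWc hWo ↦ by
      have : E ∩ W = f '' (f ⁻¹' E ∩ f ⁻¹' W) := by
        rw [← Set.preimage_inter, Set.image_preimage_eq _ hsurj]
      rw [this]
      exact (hrc (f.isCompact_preimage (U := ⟨W, hWo⟩) hWc) (hWo.preimage f.continuous)).image f.continuous
    have hproE : ProCons.IsProConstructible E := by
      rw [← Set.image_preimage_eq E hsurj]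
      exact Groth.Agent.ProConsLib.isPro_image f (hpro _ hlc hrc)
    obtain ⟨O, C, hO, hC, hOC⟩ := hlc
    let B : Set S' := closure (f ⁻¹' E) \ f ⁻¹' E
    have hB : IsClosed B := by
      have : B = closure (f ⁻¹' E) ∩ Oᶜ := by
        ext x
        constructor
        · rintro ⟨h1, h2⟩
          refine ⟨h1, fun hxO ↦ h2 (hOC.ge ⟨hxO, ?_⟩)⟩
          exact closure_minimal (hOC.le.trans Set.inter_subset_right) hC h1
        · rintro ⟨h1, h2⟩
          exact ⟨h1, fun hx ↦ h2 (hOC.le hx).1⟩
      rw [this]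
      exact isClosed_closure.inter hO.isClosed_compl
    have heq : closure E \ E = f '' B := by
      ext y
      constructor
      · rintro ⟨hy, hyE⟩
        obtain ⟨e, he, hey⟩ := Groth.Agent.SubtrLib.exists_specializes_of_mem_closure hproE hy
        obtain ⟨x, x', hxx, hx, hx'⟩ := Groth.Agent.SubtrLib.isSSubtrusive_of_univ hf hey
        refine ⟨x, ⟨hxx.mem_closed isClosed_closure (subset_closure (show f x' ∈ E from hx' ▸ he)),
          fun h ↦ hyE (hx ▸ h)⟩, hx⟩
      · rintro ⟨x, ⟨hx1, hx2⟩, rfl⟩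
        exact ⟨map_mem_closure f.continuous hx1 fun _ h ↦ h, hx2⟩
    have hcl : IsClosed (closure E \ E) := by
      refine Groth.Agent.SubtrLib.isClosed_of_isPro ?_ fun a b hab ha ↦ ?_
      · rw [heq]
        exact Groth.Agent.ProConsLib.isPro_image f (Groth.Agent.SubtrLib.isPro_of_isClosed hB)
      · refine ⟨hab.mem_closed isClosed_closure ha.1, fun hb ↦ ha.2 ?_⟩
        obtain ⟨e, he, hea⟩ := Groth.Agent.SubtrLib.exists_specializes_of_mem_closure hproE ha.1
        obtain ⟨x, hx, hxy⟩ := Groth.Agent.SubtrLib.exists_chain_lift hf 2 ![e, a, b] (by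
          intro i j hij
          fin_cases i <;> fin_cases j <;> first
            | exact specializes_refl _ | exact hea | exact hab | exact hea.trans hab
            | exact absurd hij (by decide))
        have h0 : x 0 ∈ O ∩ C := hOC.le (show f (x 0) ∈ E by rw [hxy]; exact he)
        have h2 : x 2 ∈ O ∩ C := hOC.le (show f (x 2) ∈ E by rw [hxy]; exact hb)
        have h1 : x 1 ∈ f ⁻¹' E :=
          hOC.ge ⟨(hx 1 2 (by decide)).mem_open hO h2.1, (hx 0 1 (by decide)).mem_closed hC h0.2⟩
        have h1' : f (x 1) ∈ E := h1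
        rw [hxy] at h1'
        exact h1'
    refine ⟨⟨(closure E \ E)ᶜ, closure E, hcl.isOpen_compl, isClosed_closure, ?_⟩, hretro⟩
    ext y
    exact ⟨fun h ↦ ⟨fun h' ↦ h'.2 h, subset_closure h⟩, fun h ↦ by
      by_contra hy
      exact h.1 ⟨h.2, hy⟩⟩

end Groth.Agent.S14783
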