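import Groth.Statements.S14784
import Groth.Agent.SubtrLib.ChainLift
import Groth.Agent.S14788

set_option autoImplicit false
universe u
open CategoryTheory CategoryTheory.Limits AlgebraicGeometry
open Subtr

namespace Groth.Agent.S14784

/-- Let f : S' ⟶ S be a morphism of schemes of finite presentation every base change of which has the
lifting property for ordered pairs of points, and E ⊆ S a subset. Then E is locally closed if and
only if f⁻¹(E) is locally closed. (The published statement is for algebraic spaces; this row is the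
case of schemes.) -/
theorem result {S' S : Scheme.{u}} (f : S' ⟶ S)
    [LocallyOfFinitePresentation f] [QuasiCompact f] [QuasiSeparated f]
    (hf : Subtr.UnivSSubtrusive f) (E : Set S) :
    IsLocallyClosed E ↔ IsLocallyClosed (f ⁻¹' E) := by
  open Groth.Agent in
  refine ⟨fun h => h.preimage f.continuous, fun h => ?_⟩
  have hs : Subtr.IsSSubtrusive f := SubtrLib.isSSubtrusive_of_univ hf
  obtain ⟨O, C, hO, hC, hOC⟩ := h
  let K : Set S := {z | ∀ T : Set S, ProCons.IsIndConstructible T → z ∈ T → (T ∩ E).Nonempty}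
  have hK : ProCons.IsProConstructible K := by
    rw [ProConsLib.isPro_iff_compl]
    have : Kᶜ = ⋃₀ {T : Set S | ProCons.IsIndConstructible T ∧ T ∩ E = ∅} := by
      ext z
      simp only [K, Set.mem_compl_iff, Set.mem_setOf_eq, Set.mem_sUnion]
      push Not
      exact ⟨fun ⟨T, hT, hz, he⟩ => ⟨T, ⟨hT, he⟩, hz⟩, fun ⟨T, ⟨hT, he⟩, hz⟩ => ⟨T, hT, hz, he⟩⟩
    rw [this]
    exact ProConsLib.isInd_sUnion fun T hT => hT.1
  have hEK : E ⊆ K := fun z hz T _ hzT => ⟨z, hzT, hz⟩
  have hKE : K ⊆ closure E := fun z hz => mem_closure_iff.2 fun V hV hzV =>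
    hz V (ProConsLib.isInd_of_isOpen hV) hzV
  have hpre : f ⁻¹' K ⊆ closure (f ⁻¹' E) := fun x hx => mem_closure_iff.2 fun V hV hxV => by
    obtain ⟨z, ⟨v, hv, rfl⟩, hz⟩ :=
      hx (f '' V) (ProConsLib.isInd_image f (ProConsLib.isInd_of_isOpen hV)) ⟨x, hxV, rfl⟩
    exact ⟨v, hv, hz⟩
  have hcl : closure (f ⁻¹' K) = closure (f ⁻¹' E) :=
    (closure_minimal hpre isClosed_closure).antisymm (closure_mono (Set.preimage_mono hEK))
  have himg : f '' closure (f ⁻¹' K) = closure K := (S14788.result f).1 hs K hK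
  have hC' : closure (f ⁻¹' E) ⊆ C := closure_minimal (hOC ▸ Set.inter_subset_right) hC
  let K' : Set S := f '' (closure (f ⁻¹' E) ∩ Oᶜ)
  have hK' : ProCons.IsProConstructible K' :=
    ProConsLib.isPro_image f (SubtrLib.isPro_of_isClosed (isClosed_closure.inter hO.isClosed_compl))
  have hsub : E ⊆ (closure K')ᶜ := fun p hp hpK => by
    obtain ⟨z, ⟨b, ⟨hb, hbO⟩, rfl⟩, hzp⟩ := SubtrLib.exists_specializes_of_mem_closure hK' hpK
    rw [← hcl] at hb
    obtain ⟨e, he, heb⟩ := SubtrLib.exists_specializes_of_mem_closure (ProConsLib.isPro_preimage f hK) hb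
    obtain ⟨x, hx, hxy⟩ := SubtrLib.exists_chain_lift hf 2 ![f e, f b, p] (by
      have h1 : f e ⤳ f b := heb.map f.continuous
      intro i j hij
      fin_cases i <;> fin_cases j <;>
        first | exact specializes_refl _ | exact h1 | exact hzp | exact h1.trans hzp | simp at hij)
    have hO2 : x 2 ∈ O := (hOC.le (show x 2 ∈ f ⁻¹' E by rw [Set.mem_preimage, show f (x 2) = p from hxy 2]; exact hp)).1
    have hO0 : x 0 ∈ O := (hx 0 2 (by decide)).mem_open hO hO2
    have hC0 : x 0 ∈ C := hC' (hpre (show f (x 0) ∈ K from (show f (x 0) = f e from hxy 0).symm ▸ he))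
    have hO1 : x 1 ∈ O := (hx 1 2 (by decide)).mem_open hO hO2
    have hC1 : x 1 ∈ C := (hx 0 1 (by decide)).mem_closed hC hC0
    have h1E : f (x 1) ∈ E := hOC.ge ⟨hO1, hC1⟩
    have hbE : b ∈ f ⁻¹' E := by
      rw [Set.mem_preimage, ← show f (x 1) = f b from hxy 1]; exact h1E
    exact hbO (hOC.le hbE).1
  refine ⟨(closure K')ᶜ, closure E, isClosed_closure.isOpen_compl, isClosed_closure,
    Set.Subset.antisymm (fun z hz => ⟨hsub hz, subset_closure hz⟩) ?_⟩
  rintro w ⟨hw, hwE⟩
  obtain ⟨c, hc, rfl⟩ := himg.ge (closure_mono hEK hwE)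
  rw [hcl] at hc
  by_cases hcO : c ∈ O
  · exact hOC.ge ⟨hcO, hC' hc⟩
  · exact absurd (subset_closure (show f c ∈ K' from ⟨c, ⟨hc, hcO⟩, rfl⟩)) hw

end Groth.Agent.S14784
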