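import Groth.Statements.S14789
import Groth.Agent.SubtrLib.Basic
import Groth.Agent.DomLib.Maximal

set_option autoImplicit false
universe u
open CategoryTheory CategoryTheory.Limits AlgebraicGeometry
open Subtr

namespace Groth.Agent.S14789

/-- Let f : X ⟶ Y be a morphism of schemes with the lifting property for ordered pairs of points, and U
⊆ Y a subset containing every maximal point of Y (every point all of whose generizations are equal
to it). Then the closure of f⁻¹(U) maps onto Y. -/
theorem result {X Y : Scheme.{u}} (f : X ⟶ Y)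
    (hf : Subtr.IsSSubtrusive f) (U : Set Y) (hU : ∀ y : Y, (∀ y' : Y, y' ⤳ y → y' = y) → y ∈ U) :
    f '' closure (f ⁻¹' U) = Set.univ := by
  refine Set.eq_univ_of_forall fun y ↦ ?_
  obtain ⟨η, hη, hηy⟩ := Groth.Agent.DomLib.exists_maximal_specializes y
  have hηU : η ∈ U := hU η fun y' h' ↦ Groth.Agent.DomLib.eq_of_specializes_maximal hη h'
  obtain ⟨x, x', hxx, hx, hx'⟩ := hf hηy
  exact ⟨x, hxx.mem_closed isClosed_closure (subset_closure (show f x' ∈ U from hx' ▸ hηU)), hx⟩

end Groth.Agent.S14789
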