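import Groth.Statements.S14791
import Groth.Agent.LimSch.Pullback
import Groth.Agent.SubtrLib.Basic

set_option autoImplicit false
universe u
open CategoryTheory CategoryTheory.Limits AlgebraicGeometry
open Subtr

namespace Groth.Agent.S14791

/-- Let S = lim S_i be a cofiltered limit of schemes with affine transition morphisms, Y₀ a scheme over
a stage S_{i₀}, f₀ : X₀ ⟶ Y₀ a quasi-compact morphism, and write f_i, f for the base changes of f₀
to the stages S_i and to S (realised as second projections of fibre products). If there is a stage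
S_{i₁} such that f_i has the lifting property for ordered pairs of points for every stage S_i over
S_{i₁}, then f has it. (The published statement is about subtrusive morphisms and assumes f a
quotient map for the constructible topologies; this row keeps only the lifting property and assumes
f₀ quasi-compact, which makes the fibres quasi-compact as the filtered-intersection step of the
argument requires.) -/
theorem result {I : Type u} [SmallCategory I] [IsCofiltered I]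
    (D : I ⥤ Scheme.{u}) (c : Limits.Cone D) (hc : Limits.IsLimit c)
    [∀ (i j : I) (a : i ⟶ j), IsAffineHom (D.map a)] (i₀ : I)
    {X₀ Y₀ : Scheme.{u}} (f₀ : X₀ ⟶ Y₀) (g₀ : Y₀ ⟶ D.obj i₀) [QuasiCompact f₀]
    (h : ∃ (i₁ : I) (ψ : i₁ ⟶ i₀), ∀ (i : I) (φ : i ⟶ i₁),
      Subtr.IsSSubtrusive (pullback.snd f₀ (pullback.fst g₀ (D.map (φ ≫ ψ))))) :
    Subtr.IsSSubtrusive (pullback.snd f₀ (pullback.fst g₀ (c.π.app i₀))) := by
  open Groth.Agent CategoryTheory.Limits in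
  obtain ⟨i₁, ψ, hsub⟩ := h
  intro y' y hyy
  by_contra hno
  let π₀ := c.π.app i₀
  let gY := pullback.fst g₀ π₀
  let f := pullback.snd f₀ gY
  let q : pullback f₀ gY ⟶ c.pt := f ≫ pullback.snd g₀ π₀
  have hp : IsPullback q (pullback.fst f₀ gY) π₀ (f₀ ≫ g₀) :=
    (((IsPullback.of_hasPullback f₀ gY).flip).paste_horiz ((IsPullback.of_hasPullback g₀ π₀).flip))
  have hlim := LimSch.isLimitBcCone D c i₀ (f₀ ≫ g₀) hc q _ hp
  haveI : ∀ {j k : Over i₀} (a : j ⟶ k), IsAffineHom ((LimSch.bcDiag D i₀ (f₀ ≫ g₀)).map a) :=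
    fun a => LimSch.isAffineHom_bcDiag_map D i₀ (f₀ ≫ g₀) a
  let Fy : Set ↥(pullback f₀ gY) := f ⁻¹' {y}
  have hpro : ProCons.IsProConstructible Fy := ProConsLib.isPro_preimage f (SubtrLib.isPro_singleton y)
  have hnb : ∀ x : f ⁻¹' {y'}, ∃ (j : Over i₀) (V : ((LimSch.bcDiag D i₀ (f₀ ≫ g₀)).obj j).Opens),
      x.1 ∈ (LimSch.bcCone D c i₀ (f₀ ≫ g₀) q _ hp).π.app j ⁻¹ᵁ V ∧
      Disjoint (((LimSch.bcCone D c i₀ (f₀ ≫ g₀) q _ hp).π.app j ⁻¹ᵁ V :
        (pullback f₀ gY).Opens) : Set ↥(pullback f₀ gY)) Fy := by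
    intro x
    have hx : x.1 ∉ closure Fy := fun hcl => by
      obtain ⟨e, he, hex⟩ := SubtrLib.exists_specializes_of_mem_closure hpro hcl
      exact hno ⟨x.1, e, hex, x.2, he⟩
    obtain ⟨W, ⟨j, V, -, rfl⟩, hxW, hW⟩ := TopologicalSpace.Opens.isBasis_iff_nbhd.1
      (isBasis_preimage_isAffineOpen _ (LimSch.bcCone D c i₀ (f₀ ≫ g₀) q _ hp) hlim)
      (U := ⟨(closure Fy)ᶜ, isClosed_closure.isOpen_compl⟩) hx
    exact ⟨j, V, hxW, Set.disjoint_left.2 fun z hz hzF => hW hz (subset_closure hzF)⟩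
  choose j V hxV hdisj using hnb
  obtain ⟨t, ht⟩ := (f.isCompact_preimage_singleton y').elim_finite_subcover
    (fun x : f ⁻¹' {y'} => (((LimSch.bcCone D c i₀ (f₀ ≫ g₀) q _ hp).π.app (j x) ⁻¹ᵁ V x :
      (pullback f₀ gY).Opens) : Set ↥(pullback f₀ gY)))
    (fun x => TopologicalSpace.Opens.isOpen _) (fun x hx => Set.mem_iUnion.2 ⟨⟨x, hx⟩, hxV _⟩)
  classical
  obtain ⟨k, hk⟩ := IsCofiltered.inf_objs_exists (t.image j ∪ {Over.mk ψ})
  obtain ⟨a⟩ := hk (X := Over.mk ψ) (by simp)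
  have hak : a.left ≫ ψ = k.hom := Over.w a
  have hs := hsub k.left a.left
  rw [hak] at hs
  let gk := pullback.fst g₀ (D.map k.hom)
  let fk := pullback.snd f₀ gk
  let bY : pullback g₀ π₀ ⟶ pullback g₀ (D.map k.hom) :=
    pullback.lift gY (pullback.snd g₀ π₀ ≫ c.π.app k.left) (by
      rw [Category.assoc, c.w]; exact pullback.condition)
  have hbY : bY ≫ gk = gY := pullback.lift_fst _ _ _
  let aX : pullback f₀ gY ⟶ pullback f₀ gk :=
    pullback.lift (pullback.fst f₀ gY) (f ≫ bY) (by rw [Category.assoc, hbY]; exact pullback.condition)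
  have hsq : IsPullback aX f fk bY := by
    refine IsPullback.of_right (h₁₂ := pullback.fst f₀ gk) (h₂₂ := gk) (v₁₃ := f₀) ?_
      (pullback.lift_snd _ _ _) (IsPullback.of_hasPullback f₀ gk)
    rw [hbY, show aX ≫ pullback.fst f₀ gk = pullback.fst f₀ gY from pullback.lift_fst _ _ _]
    exact IsPullback.of_hasPullback f₀ gY
  let e : pullback f₀ gk ⟶ pullback (D.map k.hom) (f₀ ≫ g₀) :=
    pullback.lift (fk ≫ pullback.snd g₀ (D.map k.hom)) (pullback.fst f₀ gk) (by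
      rw [Category.assoc, ← pullback.condition, ← Category.assoc, ← pullback.condition, Category.assoc])
  have he : aX ≫ e = (LimSch.bcCone D c i₀ (f₀ ≫ g₀) q _ hp).π.app k := by
    show aX ≫ e = pullback.lift (q ≫ c.π.app k.left) (pullback.fst f₀ gY) _
    apply pullback.hom_ext
    · rw [Category.assoc, pullback.lift_fst, ← Category.assoc, show aX ≫ fk = f ≫ bY from pullback.lift_snd _ _ _,
        Category.assoc, pullback.lift_snd, pullback.lift_fst]
      simp [q]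
    · rw [Category.assoc, pullback.lift_snd, pullback.lift_fst, pullback.lift_snd]
  have hb : ∀ x : t, Nonempty (k ⟶ j x.1) := fun x =>
    hk (Finset.mem_union_left _ (Finset.mem_image_of_mem j x.2))
  let W : (pullback f₀ gk).Opens := ⨆ x : t,
    e ⁻¹ᵁ ((LimSch.bcDiag D i₀ (f₀ ≫ g₀)).map (hb x).some ⁻¹ᵁ V x.1)
  have hW : ∀ z, aX z ∈ W ↔ ∃ x ∈ t, z ∈ (LimSch.bcCone D c i₀ (f₀ ≫ g₀) q _ hp).π.app (j x) ⁻¹ᵁ V x := by
    intro z
    have hh : ∀ x : t, aX z ∈ e ⁻¹ᵁ ((LimSch.bcDiag D i₀ (f₀ ≫ g₀)).map (hb x).some ⁻¹ᵁ V x.1) ↔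
        z ∈ (LimSch.bcCone D c i₀ (f₀ ≫ g₀) q _ hp).π.app (j x.1) ⁻¹ᵁ V x.1 := fun x => by
      rw [← (LimSch.bcCone D c i₀ (f₀ ≫ g₀) q _ hp).w (hb x).some, ← he]
      rfl
    simp only [W, TopologicalSpace.Opens.mem_iSup, hh, Subtype.exists, exists_prop]
    constructor <;> rintro ⟨a, b, h, hz⟩ <;> exact ⟨a, b, h, hz⟩
  have hspec : bY y ⤳ bY y' := hyy.map bY.continuous
  obtain ⟨x', x, hxx, hx'y, hxy⟩ := hs hspec
  obtain ⟨z', hz'1, hz'2⟩ : ∃ z, aX z = x' ∧ f z = y' := by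
    obtain ⟨w, hw1, hw2⟩ := Scheme.Pullback.exists_preimage_pullback x' y' hx'y
    exact ⟨hsq.isoPullback.inv w, by rw [← Scheme.Hom.comp_apply, hsq.isoPullback_inv_fst]; exact hw1,
      by rw [← Scheme.Hom.comp_apply, hsq.isoPullback_inv_snd]; exact hw2⟩
  obtain ⟨z, hz1, hz2⟩ : ∃ z, aX z = x ∧ f z = y := by
    obtain ⟨w, hw1, hw2⟩ := Scheme.Pullback.exists_preimage_pullback x y hxy
    exact ⟨hsq.isoPullback.inv w, by rw [← Scheme.Hom.comp_apply, hsq.isoPullback_inv_fst]; exact hw1,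
      by rw [← Scheme.Hom.comp_apply, hsq.isoPullback_inv_snd]; exact hw2⟩
  have hx'W : x' ∈ W := by
    obtain ⟨p, hp', hz'p⟩ := Set.mem_iUnion₂.1 (ht (show z' ∈ f ⁻¹' {y'} from hz'2))
    rw [← hz'1, hW]
    exact ⟨p, hp', hz'p⟩
  have hxW : x ∈ W := hxx.mem_open W.isOpen hx'W
  rw [← hz1, hW] at hxW
  obtain ⟨p, -, hzp⟩ := hxW
  exact Set.disjoint_left.1 (hdisj p) hzp hz2

end Groth.Agent.S14791
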