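import Groth.Statements.S14796
import Groth.Agent.WeakSubint.BaseChange

set_option autoImplicit false
universe u
open CategoryTheory CategoryTheory.Limits AlgebraicGeometry
open Subtr

namespace Groth.Agent.S14796

/-- Let A ⊆ B be a ring extension and A ⟶ A' a ring map that is a localization or étale; put B' = A' ⊗_A
B. Let C ⊆ B be the weak subintegral closure of A in B and C' ⊆ B' that of A' in B' (each the
largest subalgebra whose spectrum maps to the base by a universal homeomorphism, characterised here
by that maximality). Then C' is the image of A' ⊗_A C ⟶ A' ⊗_A B: the weak subintegral closure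
commutes with such base changes. -/
theorem result {A B A' : Type u} [CommRing A] [CommRing B]
    [CommRing A'] [Algebra A B] [Algebra A A'] (hinj : Function.Injective (algebraMap A B))
    (hA' : (∃ M : Submonoid A, IsLocalization M A') ∨ Algebra.Etale A A')
    (C : Subalgebra A B) (hC : FlatMor.IsUnivHomeo (Spec.map (CommRingCat.ofHom (algebraMap A C))))
    (hmax : ∀ D : Subalgebra A B, FlatMor.IsUnivHomeo (Spec.map (CommRingCat.ofHom (algebraMap A D))) → D ≤ C)
    (C' : Subalgebra A' (TensorProduct A A' B)) (hC' : FlatMor.IsUnivHomeo (Spec.map (CommRingCat.ofHom (algebraMap A' C'))))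
    (hmax' : ∀ D : Subalgebra A' (TensorProduct A A' B), FlatMor.IsUnivHomeo (Spec.map (CommRingCat.ofHom (algebraMap A' D))) → D ≤ C') :
    (C' : Set (TensorProduct A A' B)) =
      Set.range (Algebra.TensorProduct.map (AlgHom.id A A') C.val) := by
  open Groth.Agent TensorProduct in
  haveI hW : Algebra.WeaklyEtale A A' := by
    rcases hA' with ⟨M, hM⟩ | h
    · exact WLoc.weaklyEtale_of_isLocalization M A'
    · haveI := h; infer_instance
  have hbij : Function.Bijective (TensorProduct.toIntegralClosure A A' B) := by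
    rcases hA' with ⟨M, hM⟩ | h
    · exact TensorProduct.toIntegralClosure_bijective_of_isLocalization M
    · haveI := h; exact TensorProduct.toIntegralClosure_bijective_of_smooth
  let B₀ := integralClosure A B
  have hinj₀ : Function.Injective (algebraMap A B₀) := fun a b h => hinj (congrArg Subtype.val h)
  obtain ⟨E, hE, hEu, hEmax⟩ := WeakSubint.exists_equalizer_univHomeo A B₀ hinj₀
  have hC0 : (C : Set B) = B₀.val '' E :=
    WeakSubint.eq_map_equalizer B₀.val Subtype.val_injective (fun c hc => ⟨⟨c, hc⟩, rfl⟩)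
      E hEu hEmax C hC hmax
  have hinj' : Function.Injective (algebraMap A' (A' ⊗[A] B₀)) :=
    Algebra.TensorProduct.includeLeft_injective (S := A') hinj₀
  obtain ⟨E', hE', hE'u, hE'max⟩ := WeakSubint.exists_equalizer_univHomeo A' (A' ⊗[A] B₀) hinj'
  have hEE' := WeakSubint.equalizer_baseChange (A' := A') E hE E' hE'
  let ι' : A' ⊗[A] B₀ →ₐ[A'] A' ⊗[A] B := Algebra.TensorProduct.map (AlgHom.id A' A') B₀.val
  have hι' : Function.Injective ι' :=
    Module.Flat.lTensor_preserves_injective_linearMap (M := A') B₀.val.toLinearMap Subtype.val_injective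
  have hrange : integralClosure A' (A' ⊗[A] B) ≤ ι'.range := fun z hz => by
    obtain ⟨w, hw⟩ := hbij.2 ⟨z, hz⟩
    exact ⟨w, congrArg Subtype.val hw⟩
  rw [WeakSubint.eq_map_equalizer ι' hι' hrange E' hE'u hE'max C' hC' hmax', hEE']
  let f : E →ₐ[A] C := AlgHom.codRestrict (B₀.val.comp E.val) C fun e =>
    (Set.ext_iff.1 hC0 _).2 ⟨e.1, e.2, rfl⟩
  have hf : Function.Surjective f := fun c => by
    obtain ⟨e, he, hec⟩ := (Set.ext_iff.1 hC0 _).1 c.2
    exact ⟨⟨e, he⟩, Subtype.ext hec⟩
  have hcomp : ∀ y, ι' (Algebra.TensorProduct.map (AlgHom.id A A') E.val y) =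
      Algebra.TensorProduct.map (AlgHom.id A A') C.val (LinearMap.lTensor A' f.toLinearMap y) := fun y => by
    induction y using TensorProduct.induction_on with
    | zero => simp
    | tmul a b => rfl
    | add a b ha hb => simp only [map_add, ha, hb]
  ext z
  constructor
  · rintro ⟨_, ⟨y, rfl⟩, rfl⟩
    exact ⟨_, (hcomp y).symm⟩
  · rintro ⟨w, rfl⟩
    obtain ⟨y, rfl⟩ := LinearMap.lTensor_surjective A' (g := f.toLinearMap) hf w
    exact ⟨_, ⟨y, rfl⟩, hcomp y⟩

end Groth.Agent.S14796
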