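import Groth.Statements.S14797
import Mathlib.AlgebraicGeometry.ZariskisMainTheorem

set_option autoImplicit false
set_option linter.style.haveILetI false
universe u
open CategoryTheory CategoryTheory.Limits AlgebraicGeometry
open Subtr

namespace Groth.Agent.S14797

open CategoryTheory CategoryTheory.Limits AlgebraicGeometry in
theorem descendsUC :
    MorphismProperty.DescendsAlong (@UniversallyClosed : MorphismProperty Scheme.{u})
      SGA1.UnivSubmersive := by
  refine MorphismProperty.DescendsAlong.mk' fun {X Y Z f g} _ hf hp ↦ ⟨fun A' B' i₁ i₂ p' hsq ↦ ?_⟩
  intro C hC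
  let r := pullback.fst i₂ f
  have hq : Topology.IsQuotientMap r :=
    hf (pullback.snd i₂ f) i₂ r (IsPullback.of_hasPullback i₂ f)
  let k := pullback.snd i₂ f
  let l : pullback p' r ⟶ pullback f g := pullback.lift (pullback.snd p' r ≫ k)
    (pullback.fst p' r ≫ i₁) (by
      rw [Category.assoc, Category.assoc, ← hsq.w, ← pullback.condition (f := i₂) (g := f),
        ← Category.assoc, ← Category.assoc, pullback.condition])
  have hpb : IsPullback l (pullback.snd p' r) (pullback.fst f g) k := by
    refine IsPullback.of_right (h₁₂ := pullback.snd f g) (v₁₃ := g) (h₂₂ := f) ?_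
      (pullback.lift_fst _ _ _) (IsPullback.of_hasPullback f g).flip
    rw [show l ≫ pullback.snd f g = pullback.fst p' r ≫ i₁ from pullback.lift_snd _ _ _,
      show k ≫ f = r ≫ i₂ from pullback.condition.symm]
    exact (IsPullback.of_hasPullback p' r).paste_horiz hsq.flip
  haveI : UniversallyClosed (pullback.snd p' r) := MorphismProperty.of_isPullback hpb hp
  refine hq.isClosed_preimage.mp ?_
  have hset : r ⁻¹' (p' '' C) = pullback.snd p' r '' (pullback.fst p' r ⁻¹' C) := by
    ext b
    constructor
    · rintro ⟨a, ha, hab⟩
      obtain ⟨c, hc1, hc2⟩ := Scheme.Pullback.exists_preimage_pullback (f := p') (g := r) a b hab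
      exact ⟨c, by simpa [hc1] using ha, hc2⟩
    · rintro ⟨c, hc, rfl⟩
      refine ⟨pullback.fst p' r c, hc, ?_⟩
      rw [← Scheme.Hom.comp_apply, pullback.condition, Scheme.Hom.comp_apply]
  rw [hset]
  exact (pullback.snd p' r).isClosedMap _ (hC.preimage (pullback.fst p' r).continuous)


/-- Let g : S' ⟶ S be a quasi-compact universally submersive morphism of schemes and f : X ⟶ S an étale
morphism whose base change X ×_S S' ⟶ S' is finite. Then f is finite. (The published statement
treats the properties universally closed, separated and quasi-compact one at a time as well; this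
row is the finite case. It assumes g universally subtrusive, using it only through universal
submersiveness and, for quasi-compactness, through the constructible topology; for quasi-compact g
universal submersiveness suffices by the same proof.) -/
theorem result {X S S' : Scheme.{u}} (g : S' ⟶ S)
    [QuasiCompact g] (hg : SGA1.UnivSubmersive g) (f : X ⟶ S) [Etale f]
    [IsFinite (pullback.snd f g)] : IsFinite f := by
  have hgs : Function.Surjective g := (hg (𝟙 S') (𝟙 S) g IsPullback.of_id_snd).surjective
  have hfst : IsFinite (pullback.fst g f) := by
    change @IsFinite _ _ (pullback.fst g f)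
    rw [← pullbackSymmetry_hom_comp_snd g f]
    infer_instance
  haveI : MorphismProperty.DescendsAlong @UniversallyClosed SGA1.UnivSubmersive := descendsUC
  haveI : SGA1.UnivSubmersive.IsStableUnderBaseChange :=
    MorphismProperty.universally_isStableUnderBaseChange _
  haveI : UniversallyClosed f :=
    MorphismProperty.of_pullback_fst_of_descendsAlong (P := @UniversallyClosed) hg
      (inferInstance : UniversallyClosed (pullback.fst g f))
  haveI : UniversallyClosed (pullback.diagonal f) :=
    MorphismProperty.of_pullback_fst_of_descendsAlong
      (P := MorphismProperty.diagonal @UniversallyClosed) hg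
      (inferInstance : UniversallyClosed (pullback.diagonal (pullback.fst g f)))
  haveI : LocallyQuasiFinite f := by
    refine LocallyQuasiFinite.of_finite_preimage_singleton f fun s ↦ ?_
    obtain ⟨s', rfl⟩ := hgs s
    refine (((pullback.snd f g).finite_preimage_singleton s').image (pullback.fst f g)).subset ?_
    intro x hx
    obtain ⟨z, h1, h2⟩ := Scheme.Pullback.exists_preimage_pullback (f := f) (g := g) x s' hx
    exact ⟨z, h2, h1⟩
  haveI : IsSeparated f := by
    refine ⟨?_⟩
    exact IsClosedImmersion.of_isPreimmersion _ (pullback.diagonal f).isClosedMap.isClosed_range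
  haveI : QuasiCompact f := inferInstance
  haveI : IsProper f := {}
  exact IsFinite.of_isProper_of_locallyQuasiFinite f

end Groth.Agent.S14797
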