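import Groth.Statements.S14801
import Groth.Agent.LabGraphLead.ChainMap

set_option autoImplicit false
universe u
open Finset
open LabGraph

namespace Groth.Agent.S14801

/-- Let (G, β) be a finite multigraph with a multiplicity function and α its matrix (α_{vw} = #edges(v,
w) for v ≠ w, diagonal entries defined by Σ_w β(w) α_{vw} = 0); let L be a connecting chain of
length m (vertices v₀, …, v_m, edges e₁, …, e_m, each connecting) with β(v_i) = m and α_{v_i v_i} =
-2 for all i; let (G', β') be the contraction of L and f : ℤ^{V(G')} → ℤ^{V(G)} the map extending a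
vector by zero along the section of V(G) → V(G') that sends the contracted vertex to v₀. Then f
carries ker β' into ker β, and there is a map h : ℤ^{V(G')} → ℤ^{V(G)} with f ∘ α' = α ∘ h, so that
f induces a homomorphism of component groups ker β'/im α' → ker β/im α; this homomorphism is
surjective. -/
theorem result {V E : Type u} [Fintype V] [Fintype E] [DecidableEq V] [DecidableEq E]
    (ends : E → V × V) (β : V → ℤ) (hβ : LabGraph.IsMultFn ends β)
    (m : ℕ) (f : Fin (m + 1) → V) (e : Fin m → E) (hC : LabGraph.IsChain ends f e)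
    (hconn : ∀ i, LabGraph.IsConnecting ends (e i)) (hβm : ∀ i, β (f i) = m)
    (hα : ∀ i, LabGraph.mfMatrix ends β (f i) (f i) = -2) :
    ∃ φ : LabGraph.CompGrp (DualGr.ctrEnds ends (univ.image e)) (LabGraph.ctrFn ends (univ.image e) β) →+
        LabGraph.CompGrp ends β,
      Function.Surjective φ ∧
      ∀ (x : LinearMap.ker (LabGraph.betaHom (LabGraph.ctrFn ends (univ.image e) β)))
        (y : LinearMap.ker (LabGraph.betaHom β)),
        (y : V → ℤ) = LabGraph.liftAt ends (univ.image e) (f 0) (x : DualGr.CtrVert ends (univ.image e) → ℤ) →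
        φ (Submodule.Quotient.mk x) = Submodule.Quotient.mk y := by
  have G : LabGraphLead.Good ends β f e := ⟨hβ, hC, hconn, hβm, hα⟩
  let L : LinearMap.ker (LabGraph.betaHom (LabGraph.ctrFn ends (univ.image e) β)) →ₗ[ℤ]
      LinearMap.ker (LabGraph.betaHom β) :=
    { toFun := fun x => ⟨LabGraph.liftAt ends (univ.image e) (f 0) x.1, by
        rw [LinearMap.mem_ker, G.beta_liftAt]; exact x.2⟩
      map_add' := fun x y => Subtype.ext (funext fun v => by
        simp only [LabGraph.liftAt, Submodule.coe_add, Pi.add_apply]; split <;> simp)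
      map_smul' := fun c x => Subtype.ext (funext fun v => by
        simp only [LabGraph.liftAt, RingHom.id_apply, SetLike.val_smul, Pi.smul_apply]; split <;> simp) }
  refine ⟨(Submodule.mapQ _ _ L (fun x hx => G.map_range hx) :
      LabGraph.CompGrp (DualGr.ctrEnds ends (univ.image e)) (LabGraph.ctrFn ends (univ.image e) β) →ₗ[ℤ]
        LabGraph.CompGrp ends β).toAddMonoidHom, fun q => ?_, fun x y hxy => ?_⟩
  · obtain ⟨u, rfl⟩ := Submodule.Quotient.mk_surjective _ q
    obtain ⟨x, hx, hr⟩ := G.exists_preimage u.1 u.2
    refine ⟨Submodule.Quotient.mk ⟨x, hx⟩, ?_⟩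
    rw [LinearMap.toAddMonoidHom_coe, Submodule.mapQ_apply, eq_comm, Submodule.Quotient.eq]
    exact hr
  · rw [LinearMap.toAddMonoidHom_coe, Submodule.mapQ_apply]
    exact congrArg _ (Subtype.ext hxy.symm)

end Groth.Agent.S14801
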