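import Groth.Statements.S14804
import Groth.Agent.LabGraphLead.Forest

set_option autoImplicit false
universe u
open Finset
open LabGraph

namespace Groth.Agent.S14804

/-- In a connected finite multigraph G, a vertex v belongs to some cycle of G (here: v is an endpoint of
an edge of some circuit, a circuit being a minimal nonempty edge set meeting every vertex in an even
number of edge-ends, which includes loops and pairs of parallel edges) if and only if G has a
spanning tree T such that some edge outside T has v as an endpoint. (The published statement is for
an arbitrary multigraph; when G is disconnected it has no spanning tree while a vertex may lie on a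
cycle, so G is taken connected here, the case of dual graphs for which it is used.) -/
theorem result
    {V E : Type u} [Fintype V] [Fintype E] [DecidableEq V] [DecidableEq E]
    (ends : E → V × V) (hG : LabGraph.Connected ends) (v : V) :
    (∃ C : Finset E, LabGraph.IsCircuit ends C ∧ LabGraph.endCount ends C v ≠ 0) ↔
      ∃ T : Finset E, LabGraph.IsSpanningTree ends T ∧
        ∃ e : E, e ∉ T ∧ ((ends e).1 = v ∨ (ends e).2 = v) := by
  classical
  have hmc : ∀ (T : Finset E) (D : Finset T) (u : V),
      LabGraph.endCount ends (D.map (Function.Embedding.subtype _)) u =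
        LabGraph.endCount (fun e : T => ends e.1) D u := fun T D u => by
    simp only [LabGraph.endCount, Finset.sum_map, Function.Embedding.subtype_apply]
    congr!
  constructor
  · rintro ⟨C, hC, hv⟩
    obtain ⟨e, he, hev⟩ : ∃ e ∈ C, (ends e).1 = v ∨ (ends e).2 = v := by
      by_contra h
      push Not at h
      exact hv (Finset.sum_eq_zero fun e he => by simp [h e he])
    have hac : LabGraphLead.Acyclic ends (C.erase e) := fun D hD hD' => by
      obtain ⟨u, hu⟩ := hC.2.2 D (lt_of_le_of_lt hD (Finset.erase_ssubset he)) hD'.1
      exact hu (hD'.2.1 u)
    obtain ⟨T, hT1, hT2, hmax⟩ := LabGraphLead.exists_maximal ends hac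
    refine ⟨T, ⟨⟨hG.1, fun a b => ?_⟩, fun D hD => ?_⟩, e, fun heT => hT2 C ?_ hC, hev⟩
    · induction hG.2 a b with
      | refl => exact Relation.ReflTransGen.refl
      | @tail b c _ hbc ih =>
        refine ih.trans ?_
        have key : ∀ x y, LabGraphLead.Reach ends T x y →
            Relation.ReflTransGen (LabGraph.Adj (fun e : T => ends e.1)) x y := by
          intro x y h
          induction h with
          | rel x y hxy =>
            obtain ⟨d, hd, hxy⟩ := hxy
            exact Relation.ReflTransGen.single ⟨⟨d, hd⟩, Or.inl hxy⟩
          | refl x => exact Relation.ReflTransGen.refl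
          | symm x y _ ih =>
            clear * - ih
            induction ih with
            | refl => exact Relation.ReflTransGen.refl
            | tail _ h ih' => exact ih'.head ⟨h.choose, h.choose_spec.symm⟩
          | trans x y z _ _ i1 i2 => exact i1.trans i2
        obtain ⟨d, hd | hd⟩ := hbc
        · have := LabGraphLead.reach_of_maximal ends hT2 hmax d
          rw [hd] at this; exact key _ _ this
        · have := LabGraphLead.reach_of_maximal ends hT2 hmax d
          rw [hd] at this; exact key _ _ (Relation.EqvGen.symm _ _ this)
    · obtain ⟨hne, heven, hmin⟩ := hD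
      have hsub : D.map (Function.Embedding.subtype _) ⊆ T := fun x hx => by
        obtain ⟨d, -, rfl⟩ := Finset.mem_map.1 hx; exact d.2
      refine hT2 _ hsub ⟨hne.map, fun u => ?_, fun D' hD' hne' => ?_⟩
      · rw [hmc]; convert heven u
      · have hD'' : D' = (D'.subtype (· ∈ T)).map (Function.Embedding.subtype _) := by
          rw [Finset.subtype_map]
          exact (Finset.filter_true_of_mem fun x hx => hsub (hD'.subset hx)).symm
        have hlt : D'.subtype (· ∈ T) ⊂ D := by
          rw [← Finset.map_ssubset_map (f := Function.Embedding.subtype _), ← hD'']; exact hD'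
        have hne'' : (D'.subtype (· ∈ T)).Nonempty := by
          rw [← Finset.map_nonempty (f := Function.Embedding.subtype _), ← hD'']; exact hne'
        obtain ⟨u, hu⟩ := hmin _ hlt hne''
        refine ⟨u, ?_⟩
        rw [hD'', hmc]
        convert hu
    · intro x hx
      by_cases h : x = e
      · exact h ▸ heT
      · exact hT1 (Finset.mem_erase.2 ⟨h, hx⟩)
  · rintro ⟨T, hT, e, he, hev⟩
    have key : ∀ x y, Relation.ReflTransGen (LabGraph.Adj (fun e : T => ends e.1)) x y → LabGraphLead.Reach ends T x y := by
      intro x y h
      induction h with
      | refl => exact Relation.EqvGen.refl _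
      | tail _ hbc ih =>
        obtain ⟨d, hd | hd⟩ := hbc
        · exact Relation.EqvGen.trans _ _ _ ih (Relation.EqvGen.rel _ _ ⟨d.1, d.2, hd⟩)
        · exact Relation.EqvGen.trans _ _ _ ih (Relation.EqvGen.symm _ _ (Relation.EqvGen.rel _ _ ⟨d.1, d.2, hd⟩))
    obtain ⟨C, hC, hC'⟩ := LabGraphLead.exists_circuit_of_reach ends he (key _ _ (hT.1.2 _ _))
    refine ⟨C, hC', ?_⟩
    have heC : e ∈ C := by
      by_contra hec
      have hCT : C ⊆ T := fun x hx => (Finset.mem_insert.1 (hC hx)).resolve_left (fun h => hec (h ▸ hx))
      have hmap : (C.subtype (· ∈ T)).map (Function.Embedding.subtype _) = C := by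
        rw [Finset.subtype_map]; exact Finset.filter_true_of_mem fun x hx => hCT hx
      obtain ⟨hne, heven, hmin⟩ := hC'
      refine hT.2 (C.subtype (· ∈ T)) ⟨?_, fun u => ?_, fun D hD hDne => ?_⟩
      · rw [← Finset.map_nonempty (f := Function.Embedding.subtype _), hmap]; exact hne
      · have := heven u
        rw [← hmap, hmc] at this
        convert this
      · obtain ⟨u, hu⟩ := hmin (D.map (Function.Embedding.subtype _))
          (by rw [← hmap, Finset.map_ssubset_map]; exact hD) hDne.map
        exact ⟨u, by rw [hmc] at hu; convert hu⟩
    intro h0
    have := Finset.sum_eq_zero_iff.1 h0 e heC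
    rcases hev with h | h <;> simp [h] at this

end Groth.Agent.S14804
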