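import Groth.Statements.S14806
import Groth.Agent.LatIndex.Basic

set_option autoImplicit false
open Finset
open CompLat

namespace Groth.Agent.S14806

/-- Let n ≥ 1, let D, D' : ℤⁿ → ℤⁿ be given by diagonal matrices with nonzero diagonal entries, A : ℤⁿ →
ℤⁿ an integer matrix of rank n - 1, S : ℤⁿ → ℤ the sum of the coordinates and Δ : ℤ → ℤⁿ the
diagonal embedding, with S D A = 0 and A D' Δ = 0; let d, d' be the greatest common divisors of the
diagonal entries of D and of D' (dℤ = im(S D), d'ℤ = im(S D')). Then #(ker(S D)/im A) · |det D| ·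
|det D'| = d d' · #(ker S/im(D A D')). -/
theorem result (n : ℕ) (hn : 0 < n) (δ δ' : Fin n → ℤ) (hδ : ∀ i, δ i ≠ 0) (hδ' : ∀ i, δ' i ≠ 0)
    (A : Matrix (Fin n) (Fin n) ℤ) (hA : A.rank = n - 1)
    (hSDA : (∑ i : Fin n, (LinearMap.proj i : (Fin n → ℤ) →ₗ[ℤ] ℤ)) ∘ₗ
        (Matrix.mulVecLin (Matrix.diagonal δ)) ∘ₗ (Matrix.mulVecLin A) = 0)
    (hADΔ : (Matrix.mulVecLin A) ∘ₗ (Matrix.mulVecLin (Matrix.diagonal δ')) ∘ₗ
        (LinearMap.pi fun _ : Fin n => (LinearMap.id : ℤ →ₗ[ℤ] ℤ)) = 0) :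
    (Nat.card (LinearMap.ker ((∑ i : Fin n, (LinearMap.proj i : (Fin n → ℤ) →ₗ[ℤ] ℤ)) ∘ₗ (Matrix.mulVecLin (Matrix.diagonal δ))) ⧸
          (LinearMap.range (Matrix.mulVecLin A)).comap (LinearMap.ker ((∑ i : Fin n, (LinearMap.proj i : (Fin n → ℤ) →ₗ[ℤ] ℤ)) ∘ₗ (Matrix.mulVecLin (Matrix.diagonal δ)))).subtype) : ℤ) * |∏ i, δ i| * |∏ i, δ' i| =
      (univ.gcd δ) * (univ.gcd δ') * Nat.card (LinearMap.ker (∑ i : Fin n, (LinearMap.proj i : (Fin n → ℤ) →ₗ[ℤ] ℤ)) ⧸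
          (LinearMap.range ((Matrix.mulVecLin (Matrix.diagonal δ)) ∘ₗ (Matrix.mulVecLin A) ∘ₗ (Matrix.mulVecLin (Matrix.diagonal δ')))).comap (LinearMap.ker (∑ i : Fin n, (LinearMap.proj i : (Fin n → ℤ) →ₗ[ℤ] ℤ))).subtype) := by
  have hS : ∀ x, (∑ i : Fin n, (LinearMap.proj i : (Fin n → ℤ) →ₗ[ℤ] ℤ)) x = Groth.Agent.LatIndex.csum n x :=
    fun x => by simp [Groth.Agent.LatIndex.csum]
  have hD : ∀ (e : Fin n → ℤ) (x : Fin n → ℤ), Matrix.mulVecLin (Matrix.diagonal e) x =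
      Groth.Agent.LatIndex.diag e x := fun e x => funext fun i => by
    simp [Groth.Agent.LatIndex.diag_apply, Matrix.mulVec_diagonal]
  rw [Groth.Agent.LatIndex.card_quot_comap_subtype, Groth.Agent.LatIndex.card_quot_comap_subtype]
  have e1 : (LinearMap.ker ((∑ i : Fin n, (LinearMap.proj i : (Fin n → ℤ) →ₗ[ℤ] ℤ)) ∘ₗ
      (Matrix.mulVecLin (Matrix.diagonal δ)))).toAddSubgroup =
      ((Groth.Agent.LatIndex.csum n).comp (Groth.Agent.LatIndex.diag δ)).ker := by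
    ext x
    rw [Submodule.mem_toAddSubgroup, LinearMap.mem_ker, LinearMap.comp_apply, hS, hD]
    rfl
  have e2 : (LinearMap.ker (∑ i : Fin n, (LinearMap.proj i : (Fin n → ℤ) →ₗ[ℤ] ℤ))).toAddSubgroup =
      (Groth.Agent.LatIndex.csum n).ker := by
    ext x
    rw [Submodule.mem_toAddSubgroup, LinearMap.mem_ker, hS]
    rfl
  set N := ((Matrix.mulVecLin A).toAddMonoidHom.comp (Groth.Agent.LatIndex.diag δ')).range with hN
  have e3 : (LinearMap.range ((Matrix.mulVecLin (Matrix.diagonal δ)) ∘ₗ (Matrix.mulVecLin A) ∘ₗ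
      (Matrix.mulVecLin (Matrix.diagonal δ')))).toAddSubgroup = N.map (Groth.Agent.LatIndex.diag δ) := by
    ext x
    constructor
    · rintro ⟨y, rfl⟩
      refine ⟨_, ⟨y, rfl⟩, ?_⟩
      simp only [LinearMap.comp_apply, AddMonoidHom.comp_apply, LinearMap.toAddMonoidHom_coe, hD]
    · rintro ⟨_, ⟨y, rfl⟩, rfl⟩
      refine ⟨y, ?_⟩
      simp only [LinearMap.comp_apply, AddMonoidHom.comp_apply, LinearMap.toAddMonoidHom_coe, hD]
  rw [e1, e2, e3]
  have hrA : (Matrix.mulVecLin A).toAddMonoidHom.range ≤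
      ((Groth.Agent.LatIndex.csum n).comp (Groth.Agent.LatIndex.diag δ)).ker := by
    rintro _ ⟨y, rfl⟩
    rw [← e1]
    exact LinearMap.congr_fun hSDA y
  have hNle : N ≤ (Matrix.mulVecLin A).toAddMonoidHom.range := by
    rintro _ ⟨y, rfl⟩
    exact ⟨_, rfl⟩
  have h0 : A.mulVec δ' = 0 := by
    have := LinearMap.congr_fun hADΔ 1
    simp only [LinearMap.comp_apply, hD] at this
    have hδ : Groth.Agent.LatIndex.diag δ' (fun _ => (1 : ℤ)) = δ' := funext fun i => mul_one _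
    rw [← hδ]
    exact this
  have key := Groth.Agent.LatIndex.relIndex_mul_det hn hδ N (hNle.trans hrA)
  rw [← AddSubgroup.relIndex_mul_relIndex _ _ _ hNle hrA] at key
  have key2 := Groth.Agent.LatIndex.relIndex_range_mul hn hδ' A hA h0
  push_cast at key
  rw [key2]
  have hrange : (LinearMap.range (Matrix.mulVecLin A)).toAddSubgroup =
      (Matrix.mulVecLin A).toAddMonoidHom.range := rfl
  rw [hrange]
  linear_combination (univ.gcd δ') * key

end Groth.Agent.S14806
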