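import Groth.Statements.S14808
import Groth.Agent.GenLocus.PullFrame
import Groth.Agent.TensorMod.Dual

set_option autoImplicit false
universe u
open CategoryTheory CategoryTheory.Limits AlgebraicGeometry
open PicF

namespace Groth.Agent.S14808

/-- Let X be an integral scheme such that Γ(X, O_X) is a field and L an invertible O_X-module. If L has
a nonzero global section (a nonzero morphism O_X → L) and its dual has a nonzero global section (a
nonzero morphism L → O_X), then L is isomorphic to O_X. -/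
theorem result (X : Scheme.{u}) [IsIntegral X]
    (hfield : IsField (Γ(X, ⊤) : Type u)) (L : X.Modules) (hL : PicF.IsInvertible L)
    (s : Coh.structureModule X ⟶ L) (hs : s ≠ 0) (t : L ⟶ Coh.structureModule X) (ht : t ≠ 0) :
    Nonempty (L ≅ Coh.structureModule X) := by
  classical
  have frame : ∀ x : X, ∃ (U : X.Opens) (_ : x ∈ U) (e : Γ(L, U)), Groth.Agent.GenLocus.IsFrame L e := fun x => by
    obtain ⟨U, -, hx, -, e, he⟩ := Groth.Agent.GenLocus.exists_isFrame hL (W := ⊤) (x := x) trivial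
    exact ⟨U, hx, e, he⟩
  choose U hxU e he using frame
  have hcoef := fun x => (he x).bijective.2 (Groth.Agent.GenLocus.sect s (U x))
  choose a ha using hcoef
  replace ha : ∀ x, a x • e x = Groth.Agent.GenLocus.sect s (U x) := ha
  let b : ∀ x, Γ(X, U x) := fun x => t.app (U x) (e x)
  have hzero : ∀ (V W : X.Opens) (_ : Nonempty W.toScheme) (h : W ≤ V) (r : Γ(X, V)), QCohBase.ores h r = 0 → r = 0 := by
    intro V W hW h r hr
    haveI := hW
    exact map_injective_of_isIntegral X (CategoryTheory.homOfLE h) (hr.trans (map_zero _).symm)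
  have hmeet : ∀ x y, Nonempty (U x ⊓ U y).toScheme := fun x y => by
    obtain ⟨z, hz⟩ := nonempty_preirreducible_inter (U x).2 (U y).2 ⟨x, hxU x⟩ ⟨y, hxU y⟩
    exact ⟨⟨z, hz⟩⟩
  let x₀ : X := Classical.arbitrary X
  have ha0 : a x₀ ≠ 0 := by
    intro h0
    refine hs ((L.unitHomEquiv).injective (Subtype.ext (funext fun V => ?_)))
    show Groth.Agent.GenLocus.sect s V.unop = Groth.Agent.GenLocus.sect 0 V.unop
    have hall : ∀ y, a y = 0 := fun y => by
      refine hzero _ _ (hmeet y x₀) inf_le_left _ ((he y _ inf_le_left).1 ?_)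
      show QCohBase.ores inf_le_left (a y) • QCohBase.mres L inf_le_left (e y) = (0 : Γ(X, U y ⊓ U x₀)) • _
      rw [← QCohBase.mres_smul, ha, zero_smul, Groth.Agent.GenLocus.mres_sect,
        ← Groth.Agent.GenLocus.mres_sect s (inf_le_right : U y ⊓ U x₀ ≤ U x₀), ← ha x₀]
      simp [h0]
    refine TopCat.Sheaf.eq_of_locally_eq' ⟨L.presheaf, L.isSheaf⟩ (fun y : X => U y ⊓ V.unop) V.unop
      (fun y => CategoryTheory.homOfLE inf_le_right) (fun y hy => TopologicalSpace.Opens.mem_iSup.2 ⟨y, hxU y, hy⟩)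
      _ _ fun y => ?_
    show QCohBase.mres L inf_le_right _ = QCohBase.mres L inf_le_right _
    rw [Groth.Agent.GenLocus.mres_sect, Groth.Agent.GenLocus.mres_sect,
      ← Groth.Agent.GenLocus.mres_sect s (inf_le_left : U y ⊓ V.unop ≤ U y), ← ha y]
    refine Eq.trans (b := 0) ?_ ?_
    · simp [hall y]
    · rfl
  have hb0 : b x₀ ≠ 0 := by
    intro h0
    have hall : ∀ y, b y = 0 := fun y => by
      refine hzero _ _ (hmeet y x₀) inf_le_left _ ?_
      obtain ⟨r, hr⟩ := (he x₀ (U y ⊓ U x₀) inf_le_right).2 (QCohBase.mres L inf_le_left (e y))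
      have h1 : QCohBase.ores (inf_le_left : U y ⊓ U x₀ ≤ U y) (b y) = t.app _ (QCohBase.mres L (inf_le_left : U y ⊓ U x₀ ≤ U y) (e y)) :=
        Groth.Agent.GenLocus.app_mres t (inf_le_left : U y ⊓ U x₀ ≤ U y) (e y)
      have h2 : t.app _ (QCohBase.mres L (inf_le_right : U y ⊓ U x₀ ≤ U x₀) (e x₀)) = 0 := by
        refine (Groth.Agent.GenLocus.app_mres t (inf_le_right : U y ⊓ U x₀ ≤ U x₀) (e x₀)).symm.trans ?_
        show QCohBase.ores (inf_le_right : U y ⊓ U x₀ ≤ U x₀) (b x₀) = 0
        rw [h0]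
        exact map_zero _
      rw [h1, ← hr]
      exact (Scheme.Modules.Hom.app_smul t r _).trans ((congrArg (r • ·) h2).trans (smul_zero r))
    refine ht ?_
    ext V m
    refine TopCat.Sheaf.eq_of_locally_eq' ⟨(Coh.structureModule X).presheaf, (Coh.structureModule X).isSheaf⟩
      (fun y : X => U y ⊓ V) V
      (fun y => CategoryTheory.homOfLE inf_le_right) (fun y hy => TopologicalSpace.Opens.mem_iSup.2 ⟨y, hxU y, hy⟩)
      _ _ fun y => ?_
    obtain ⟨r, hr⟩ := (he y (U y ⊓ V) inf_le_left).2 (QCohBase.mres L inf_le_right m)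
    refine (Groth.Agent.GenLocus.app_mres t inf_le_right m).trans ?_
    rw [← hr]
    refine (Scheme.Modules.Hom.app_smul t r _).trans ?_
    rw [← Groth.Agent.GenLocus.app_mres t inf_le_left (e y), show t.app (U y) (e y) = 0 from hall y, map_zero, smul_zero]
    exact (map_zero (QCohBase.mres (Coh.structureModule X) inf_le_right)).symm
  let c : Γ(X, ⊤) := Groth.Agent.GenLocus.sect (s ≫ t) ⊤
  have hc : QCohBase.ores (le_top : U x₀ ≤ ⊤) c = a x₀ * b x₀ := by
    refine (Groth.Agent.GenLocus.mres_sect (s ≫ t) le_top).trans ?_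
    show t.app (U x₀) (Groth.Agent.GenLocus.sect s (U x₀)) = _
    rw [← ha x₀]
    exact Scheme.Modules.Hom.app_smul t _ _
  have hc0 : c ≠ 0 := fun h => by
    rw [h, map_zero] at hc
    haveI : Nonempty (U x₀).toScheme := ⟨⟨x₀, hxU x₀⟩⟩
    exact mul_ne_zero ha0 hb0 hc.symm
  obtain ⟨d, hd⟩ := hfield.mul_inv_cancel hc0
  let u : Coh.structureModule X ⟶ Coh.structureModule X :=
    Groth.Agent.GenLocus.homOfSection (Coh.structureModule X) d
  have hu : u ≫ s ≫ t = CategoryTheory.CategoryStruct.id _ := by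
    refine (SheafOfModules.unitHomEquiv _).injective (Subtype.ext (funext fun V => ?_))
    show Groth.Agent.GenLocus.sect (u ≫ s ≫ t) V.unop = Groth.Agent.GenLocus.sect (CategoryTheory.CategoryStruct.id _) V.unop
    rw [← Groth.Agent.GenLocus.mres_sect (u ≫ s ≫ t) (le_top : V.unop ≤ ⊤),
      ← Groth.Agent.GenLocus.mres_sect (CategoryTheory.CategoryStruct.id _) (le_top : V.unop ≤ ⊤)]
    congr 1
    show (s ≫ t).app ⊤ (Groth.Agent.GenLocus.sect u ⊤) = _
    rw [Groth.Agent.GenLocus.app_eq_smul, Groth.Agent.GenLocus.sect_homOfSection, QCohBase.mres_refl]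
    exact (mul_comm d c).trans hd
  haveI : CategoryTheory.IsSplitEpi t := CategoryTheory.IsSplitEpi.mk' ⟨u ≫ s, by rw [CategoryTheory.Category.assoc]; exact hu⟩
  haveI := Groth.Agent.TensorMod.isIso_of_epi_invertible hL (PicLoc.isInvertible_structureModule X) t
  exact ⟨CategoryTheory.asIso t⟩

end Groth.Agent.S14808
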