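import Groth.Statements.S14809
import Groth.Agent.GenLocus.Ops
import Groth.Agent.GenLocus.Extend

set_option autoImplicit false
universe u
open CategoryTheory CategoryTheory.Limits AlgebraicGeometry
open PicF

namespace Groth.Agent.S14809

open Groth.Agent Groth.Agent.GenLocus TopologicalSpace

theorem genLocus_ne_bot {X : Scheme.{u}} [IsIntegral X] (L : X.Modules) (hL : PicF.IsInvertible L)
    (s : Coh.structureModule X ⟶ L) (hs : s ≠ 0) : CohB1.genLocus L s ≠ ⊥ := fun hbot => by
  classical
  have key : ∀ x : X, ∃ U : X.Opens, x ∈ U ∧ sect s U = 0 := fun x => by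
    obtain ⟨U, -, hx, -, e, he⟩ := exists_isFrame hL (W := ⊤) (x := x) trivial
    obtain ⟨f, hf⟩ := he.bijective.2 (sect s U)
    refine ⟨U, hx, ?_⟩
    have h0 : X.basicOpen f = ⊥ := by
      rw [← genLocus_inf_eq_basicOpen s he hf, hbot, bot_inf_eq]
    rw [← hf, (basicOpen_eq_bot_iff f).1 h0]
    exact zero_smul _ _
  choose U hU hU0 using key
  refine hs (L.unitHomEquiv.injective (Subtype.ext (funext fun V => ?_)))
  show sect s V.unop = sect 0 V.unop
  refine TopCat.Sheaf.eq_of_locally_eq' ⟨L.presheaf, L.isSheaf⟩ (fun y : X => U y ⊓ V.unop) V.unop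
    (fun y => homOfLE inf_le_right) (fun y hy => Opens.mem_iSup.2 ⟨y, hU y, hy⟩) _ _ fun y => ?_
  show QCohBase.mres L inf_le_right _ = QCohBase.mres L inf_le_right _
  rw [mres_sect, mres_sect, ← mres_sect s (inf_le_left : U y ⊓ V.unop ≤ U y), hU0, map_zero]
  rfl

theorem exists_coef {X : Scheme.{u}} (v : Coh.structureModule X ⟶ Coh.structureModule X) :
    ∃ c : Γ(X, ⊤), CohB1.genLocus (Coh.structureModule X) v = X.basicOpen c := by
  have he : IsFrame (Coh.structureModule X) (U := ⊤) (1 : Γ(X, ⊤)) := fun V hV => by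
    have h1 : ∀ r : Γ(X, V), r • (QCohBase.mres (Coh.structureModule X) hV (1 : Γ(X, ⊤))) = r := fun r => by
      show r * (QCohBase.ores hV) (1 : Γ(X, ⊤)) = r
      rw [map_one, mul_one]
    simp only [h1]
    exact Function.bijective_id
  obtain ⟨c, hc⟩ := he.bijective.2 (sect v ⊤)
  exact ⟨c, by rw [← genLocus_inf_eq_basicOpen v he hc, inf_top_eq]⟩

/-- A section generating everywhere is an isomorphism. -/
noncomputable def isoOfTop {X : Scheme.{u}} {L : X.Modules} (s : Coh.structureModule X ⟶ L)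
    (h : CohB1.genLocus L s = ⊤) : Coh.structureModule X ≅ L :=
  haveI : IsIso s := by
    rw [Scheme.Modules.Hom.isIso_iff_isIso_app]
    intro V
    rw [ConcreteCategory.isIso_iff_bijective]
    have h1 := isFrame_sect_genLocus s V (by rw [h]; exact le_top)
    rw [mres_sect] at h1
    show Function.Bijective ⇑(s.app V).hom
    rw [← show (fun r : Γ(X, V) ↦ r • sect s V) = ⇑(s.app V).hom from
      funext fun r ↦ (app_eq_smul s _ r).symm]
    exact h1
  asIso s

/-- Let X be an integral scheme such that Γ(X, O_X) is a field and L an invertible O_X-module with a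
nonzero global section (a nonzero morphism O_X → L). If some tensor power L^{⊗d} with d ≥ 1 is
isomorphic to O_X, then L itself is isomorphic to O_X. -/
theorem result (X : Scheme.{u}) [IsIntegral X]
    (hfield : IsField (Γ(X, ⊤) : Type u)) (L : X.Modules) (hL : PicF.IsInvertible L)
    (s : Coh.structureModule X ⟶ L) (hs : s ≠ 0) (d : ℕ) (hd : 0 < d)
    (htriv : Nonempty (CohB1.tensorPow L d ≅ Coh.structureModule X)) :
    Nonempty (L ≅ Coh.structureModule X) := by
  obtain ⟨e⟩ := htriv
  obtain ⟨m, rfl⟩ := Nat.exists_eq_add_of_le' hd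
  let v := SecTwist.powHom s (m + 1) ≫ e.hom
  have hgv : CohB1.genLocus (Coh.structureModule X) v = CohB1.genLocus L s :=
    (Groth.Agent.GenLocus.genLocus_comp_iso e _).trans (Groth.Agent.GenLocus.genLocus_powHom hL s m)
  obtain ⟨c, hc⟩ := Groth.Agent.S14809.exists_coef v
  have hc0 : c ≠ 0 := fun h => by
    refine Groth.Agent.S14809.genLocus_ne_bot L hL s hs ?_
    rw [← hgv, hc, h, Scheme.basicOpen_zero]
  have htop : CohB1.genLocus L s = ⊤ := by
    obtain ⟨d', hd'⟩ := hfield.mul_inv_cancel hc0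
    rw [← hgv, hc]
    exact X.basicOpen_of_isUnit (IsUnit.of_mul_eq_one d' hd')
  exact ⟨(Groth.Agent.S14809.isoOfTop s htop).symm⟩

end Groth.Agent.S14809
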