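import Groth.Statements.S1483
import Mathlib
import Groth.Agent.FlatOverBC.Fibre
-- import your own Groth.Agent.* helpers here

set_option autoImplicit false
universe u
open FlatMor

open CategoryTheory AlgebraicGeometry Opposite TopologicalSpace TensorProduct
open Groth.Agent.QCohBase Groth.Agent.FlatOver Groth.Agent.FlatOverBC

namespace Groth.Agent.S1483

variable {X Y S : Scheme.{u}}

/-- The fibrewise criterion of flatness at a point. -/
theorem flat_base_of_fibre (f : X ⟶ Y) (g : Y ⟶ S) [LocallyOfFinitePresentation (f ≫ g)]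
    [LocallyOfFiniteType g] (F : X.Modules) [F.IsQuasicoherent] (hF : CohB1.IsFP F) (x : X)
    (hx0 : Nontrivial ↑(F.presheaf.stalk x)) (h1 : FlatMod.IsFlatOverAt (f ≫ g) F x)
    (h2 : letI := FlatMod.moduleStalkOver f F x
      Module.Flat (Y.presheaf.stalk (f x) ⧸
          Ideal.map (g.stalkMap (f x)).hom (IsLocalRing.maximalIdeal (S.presheaf.stalk (g (f x)))))
        (F.presheaf.stalk x ⧸
          Ideal.map (g.stalkMap (f x)).hom (IsLocalRing.maximalIdeal (S.presheaf.stalk (g (f x)))) •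
            (⊤ : Submodule (Y.presheaf.stalk (f x)) (F.presheaf.stalk x)))) :
    (g.stalkMap (f x)).hom.Flat := by
  obtain ⟨W₀, hxW₀, hW₀⟩ := exists_affine_finitePresentation F hF x
  obtain ⟨_, ⟨V, hV, rfl⟩, hsV, -⟩ :=
    S.isBasis_affineOpens.exists_subset_of_mem_open (Set.mem_univ (g (f x))) isOpen_univ
  obtain ⟨_, ⟨W, hW, rfl⟩, hyW, eg⟩ :=
    Y.isBasis_affineOpens.exists_subset_of_mem_open (show f x ∈ g ⁻¹ᵁ V from hsV) (g ⁻¹ᵁ V).2
  obtain ⟨_, ⟨U, hU, rfl⟩, hxU, hle⟩ :=
    X.isBasis_affineOpens.exists_subset_of_mem_open (show x ∈ W₀ ⊓ f ⁻¹ᵁ W from ⟨hxW₀, hyW⟩)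
      (W₀ ⊓ f ⁻¹ᵁ W).2
  have ef : U ≤ f ⁻¹ᵁ W := fun z hz => (hle hz).2
  have eg' : W ≤ g ⁻¹ᵁ V := eg
  have efg : U ≤ (f ≫ g) ⁻¹ᵁ V := fun z hz => eg' (ef hz)
  haveI := hW₀ U hU fun z hz => (hle hz).1
  let A := Γ(S, V)
  let B := Γ(Y, W)
  let C := Γ(X, U)
  let φ := g.appLE V W eg'
  let ψ := f.appLE W U ef
  letI : Algebra A B := φ.hom.toAlgebra
  letI : Algebra B C := ψ.hom.toAlgebra
  letI : Algebra A C := ((f ≫ g).appLE V U efg).hom.toAlgebra
  haveI : IsScalarTower A B C := IsScalarTower.of_algebraMap_eq' (by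
    show ((f ≫ g).appLE V U efg).hom = ψ.hom.comp φ.hom
    rw [← CommRingCat.hom_comp, Scheme.Hom.appLE_comp_appLE])
  haveI : Algebra.FinitePresentation A C := Scheme.Hom.finitePresentation_appLE (f ≫ g) hV hU efg
  haveI : Algebra.FiniteType A B := Scheme.Hom.finiteType_appLE g hV hW eg'
  letI : Module A Γ(F, U) := baseModule (f ≫ g) F efg
  letI : Module B Γ(F, U) := baseModule f F ef
  haveI : IsScalarTower A C Γ(F, U) := .of_algebraMap_smul fun _ _ => rfl
  haveI : IsScalarTower B C Γ(F, U) := .of_algebraMap_smul fun _ _ => rfl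
  let q := hU.primeIdealOf ⟨x, hxU⟩
  rw [isFlatOverAt_iff_localized (f ≫ g) F efg hU hV x hxU] at h1
  haveI := h1
  haveI : Nontrivial (LocalizedModule q.asIdeal.primeCompl Γ(F, U)) := by
    letI := germModule F x hxU
    haveI := isLocalizedModule_germₗ F hU x hxU
    exact (IsLocalizedModule.iso q.asIdeal.primeCompl (germₗ F x hxU)).toEquiv.nontrivial
  suffices hk : Module.Flat A (LocalizedModule (q.asIdeal.comap (algebraMap B C)).primeCompl B) by
    letI : Algebra B (Y.presheaf.stalk (f x)) := Y.presheaf.algebra_section_stalk ⟨f x, hyW⟩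
    haveI := hW.isLocalization_stalk ⟨f x, hyW⟩
    letI : Algebra A (Y.presheaf.stalk (f x)) := ((algebraMap B _).comp (algebraMap A B)).toAlgebra
    haveI : IsScalarTower A B (Y.presheaf.stalk (f x)) := IsScalarTower.of_algebraMap_eq fun _ => rfl
    letI : Algebra A (S.presheaf.stalk (g (f x))) := S.presheaf.algebra_section_stalk ⟨g (f x), hsV⟩
    haveI := hV.isLocalization_stalk ⟨g (f x), hsV⟩
    letI : Algebra (S.presheaf.stalk (g (f x))) (Y.presheaf.stalk (f x)) := (g.stalkMap (f x)).hom.toAlgebra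
    haveI : IsScalarTower A (S.presheaf.stalk (g (f x))) (Y.presheaf.stalk (f x)) :=
      IsScalarTower.of_algebraMap_eq fun r => (germ_appLE_stalkMap g eg' (f x) hyW r).symm
    have hqB : q.asIdeal.comap (algebraMap B C) = (hW.primeIdealOf ⟨f x, hyW⟩).asIdeal :=
      congrArg PrimeSpectrum.asIdeal (IsAffineOpen.comap_primeIdealOf_appLE (f := f) W hW U hU ef hxU)
    haveI : IsLocalization (q.asIdeal.comap (algebraMap B C)).primeCompl (Y.presheaf.stalk (f x)) := by
      simp only [hqB]
      exact hW.isLocalization_stalk ⟨f x, hyW⟩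
    haveI := hk
    haveI : Module.Flat A (Y.presheaf.stalk (f x)) :=
      Module.Flat.of_linearEquiv ((IsLocalizedModule.iso (q.asIdeal.comap (algebraMap B C)).primeCompl
        (Algebra.linearMap B (Y.presheaf.stalk (f x)))).restrictScalars A).symm
    show (algebraMap (S.presheaf.stalk (g (f x))) (Y.presheaf.stalk (f x))).Flat
    rw [RingHom.flat_algebraMap_iff]
    exact (Module.flat_iff_of_isLocalization (S.presheaf.stalk (g (f x)))
      (hV.primeIdealOf ⟨g (f x), hsV⟩).asIdeal.primeCompl (Y.presheaf.stalk (f x))).2 inferInstance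
  refine (FlatLocus.fibre_criterion (R := A) (S := B) (S' := C) (M := Γ(F, U)) q.asIdeal ?_).2
  -- the stalk
  letI := germModule F x hxU
  letI := FlatMod.moduleStalkOver f F x
  letI : Algebra B (Y.presheaf.stalk (f x)) := Y.presheaf.algebra_section_stalk ⟨f x, hyW⟩
  haveI : IsLocalization.AtPrime (Y.presheaf.stalk (f x)) (hW.primeIdealOf ⟨f x, hyW⟩).asIdeal :=
    hW.isLocalization_stalk ⟨f x, hyW⟩
  letI : Module B (F.presheaf.stalk x) := Module.compHom _ (ψ ≫ X.presheaf.germ U x hxU).hom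
  haveI : IsScalarTower B C (F.presheaf.stalk x) := .of_algebraMap_smul fun _ _ => rfl
  haveI : IsScalarTower B (Y.presheaf.stalk (f x)) (F.presheaf.stalk x) :=
    .of_algebraMap_smul fun r z => congrArg (· • z) (germ_appLE_stalkMap f ef x hxU r)
  haveI := isLocalizedModule_germₗ F hU x hxU
  refine FlatLocus.RelFlat.congr ?_
    ((IsLocalizedModule.iso q.asIdeal.primeCompl (germₗ F x hxU)).symm.restrictScalars B)
  refine relFlat_of_localization (hW.primeIdealOf ⟨f x, hyW⟩).asIdeal.primeCompl _ _ ?_ h2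
  letI : Algebra A (S.presheaf.stalk (g (f x))) := S.presheaf.algebra_section_stalk ⟨g (f x), hsV⟩
  haveI : IsLocalization.AtPrime (S.presheaf.stalk (g (f x))) (hV.primeIdealOf ⟨g (f x), hsV⟩).asIdeal :=
    hV.isLocalization_stalk ⟨g (f x), hsV⟩
  have hp : q.asIdeal.comap (algebraMap A C) = (hV.primeIdealOf ⟨g (f x), hsV⟩).asIdeal :=
    congrArg PrimeSpectrum.asIdeal
      (IsAffineOpen.comap_primeIdealOf_appLE (f := f ≫ g) V hV U hU efg hxU)
  rw [hp, Ideal.map_map, ← IsLocalization.AtPrime.map_eq_maximalIdeal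
    (hV.primeIdealOf ⟨g (f x), hsV⟩).asIdeal (S.presheaf.stalk (g (f x))), Ideal.map_map]
  congr 1
  ext a
  exact germ_appLE_stalkMap g eg' (f x) hyW a

end Groth.Agent.S1483

namespace Groth.Agent.S1483

open AlgebraicGeometry CategoryTheory Limits in
/-- Fibrewise flatness criterion (critère de platitude par fibres), pointwise equivalence for a module:
let f : X → Y and g : Y → S be morphisms of schemes with X locally of finite presentation over S
(via g ∘ f) and Y locally of finite type over S, F a finitely presented quasi-coherent O_X-module,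
and x a point of X with images y = f(x) and s = g(y) at which the stalk F_x is nonzero. The
following are equivalent: (a) F is flat over S at x and F_x / 𝔪_s F_x is flat over O_{Y,y} / 𝔪_s
O_{Y,y}; (b) the morphism g is flat at the point y and F is Y-flat at x. The published statement
also asserts that the locus of such x is open in the support of F; that is not restated here (the
companion statement for F = O_X carries it). -/
theorem result {X Y S : Scheme.{u}} (f : X ⟶ Y) (g : Y ⟶ S) [LocallyOfFinitePresentation (f ≫ g)] [LocallyOfFiniteType g]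
    (F : X.Modules) (hq : Coh.IsQCoh F) (hfp : CohB1.IsFP F) (x : X) (hx : Nontrivial ↑(F.presheaf.stalk x)) :
    letI := FlatMod.moduleStalkOver f F x
    (FlatMod.IsFlatOverAt (f ≫ g) F x ∧
      Module.Flat (↑(Y.presheaf.stalk (f x)) ⧸ Ideal.map (g.stalkMap (f x)).hom (IsLocalRing.maximalIdeal ↑(S.presheaf.stalk (g (f x)))))
        (↑(F.presheaf.stalk x) ⧸ (Ideal.map (g.stalkMap (f x)).hom (IsLocalRing.maximalIdeal ↑(S.presheaf.stalk (g (f x)))) •
          (⊤ : Submodule ↑(Y.presheaf.stalk (f x)) ↑(F.presheaf.stalk x))))) ↔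
    ((g.stalkMap (f x)).hom.Flat ∧ FlatMod.IsFlatOverAt f F x) := by
  haveI : F.IsQuasicoherent := hq
  letI := FlatMod.moduleStalkOver f F x
  refine ⟨fun ⟨h1, h2⟩ => ⟨flat_base_of_fibre f g F hfp x hx h1 h2,
    FlatOverBC.isFlatOverAt_of_fibre f g F hfp x h1 h2⟩, fun ⟨hg, hf⟩ => ?_⟩
  letI : Algebra (S.presheaf.stalk (g (f x))) (Y.presheaf.stalk (f x)) := (g.stalkMap (f x)).hom.toAlgebra
  haveI : Module.Flat (S.presheaf.stalk (g (f x))) (Y.presheaf.stalk (f x)) := hg
  haveI : Module.Flat (Y.presheaf.stalk (f x)) (F.presheaf.stalk x) := hf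
  constructor
  · letI : Module (S.presheaf.stalk (g (f x))) (F.presheaf.stalk x) := FlatMod.moduleStalkOver (f ≫ g) F x
    haveI : IsScalarTower (S.presheaf.stalk (g (f x))) (Y.presheaf.stalk (f x)) (F.presheaf.stalk x) :=
      .of_algebraMap_smul fun r z => by
        show (f.stalkMap x).hom ((g.stalkMap (f x)).hom r) • z = ((f ≫ g).stalkMap x).hom r • z
        rw [Scheme.Hom.stalkMap_comp]
        rfl
    exact Module.Flat.trans (S.presheaf.stalk (g (f x))) (Y.presheaf.stalk (f x)) (F.presheaf.stalk x)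
  · let I := Ideal.map (g.stalkMap (f x)).hom (IsLocalRing.maximalIdeal ↑(S.presheaf.stalk (g (f x))))
    exact Module.Flat.of_linearEquiv
      ((TensorProduct.quotTensorEquivQuotSMul (↑(F.presheaf.stalk x)) I).extendScalarsOfSurjective
        (S := ↑(Y.presheaf.stalk (f x)) ⧸ I) Ideal.Quotient.mk_surjective).symm

end Groth.Agent.S1483
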