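import Groth.Statements.S1484
import Mathlib

set_option autoImplicit false
universe u
open FlatMor

namespace Groth.Agent.S1484

/-- Let R be a ring, p_1, …, p_r primes of R none of which is contained in another, k_i ⊆ κ(p_i)
subfields over which κ(p_i) is not algebraic, and J an ideal of R contained in none of the p_i. Then
some x ∈ J has image in κ(p_i) transcendental over k_i for every i. -/
theorem result {R : Type u} [CommRing R] {r : ℕ} (p : Fin r → Ideal R) [∀ i, (p i).IsPrime]
    (hp : ∀ i j, i ≠ j → ¬ p i ≤ p j) (k : ∀ i, Subfield (p i).ResidueField)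
    (hk : ∀ i, ¬ Algebra.IsAlgebraic ↥(k i) (p i).ResidueField) (J : Ideal R) (hJ : ∀ i, ¬ J ≤ p i) :
    ∃ x ∈ J, ∀ i, Transcendental ↥(k i) (algebraMap R (p i).ResidueField x) := by
  classical
  have key : ∀ i, ∃ x ∈ J, (∀ j, j ≠ i → x ∈ p j) ∧
      Transcendental ↥(k i) (algebraMap R (p i).ResidueField x) := by
    intro i
    set I : Ideal R := J ⊓ (Finset.univ.erase i).inf p with hI
    have hIp : ¬ I ≤ p i := by
      intro h
      rcases (inferInstance : (p i).IsPrime).inf_le.mp h with h | h
      · exact hJ i h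
      · obtain ⟨j, hj, hle⟩ := (Ideal.IsPrime.inf_le' (inferInstance : (p i).IsPrime)).mp h
        exact hp j i (Finset.ne_of_mem_erase hj) hle
    by_contra hcon
    push Not at hcon
    have hI' : ∀ x ∈ I, IsAlgebraic ↥(k i) (algebraMap R (p i).ResidueField x) := by
      intro x hx
      have := hcon x hx.1 fun j hj =>
        Finset.inf_le (f := p) (Finset.mem_erase.mpr ⟨hj, Finset.mem_univ j⟩) hx.2
      exact not_not.mp this
    obtain ⟨a, haI, ha⟩ := Set.not_subset.mp hIp
    have ha' : algebraMap R (p i).ResidueField a ≠ 0 := fun h =>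
      ha (Ideal.algebraMap_residueField_eq_zero.mp h)
    have hall : ∀ r : R, IsAlgebraic ↥(k i) (algebraMap R (p i).ResidueField r) := by
      intro r
      have h1 := (hI' (r * a) (I.mul_mem_left r haI)).mul (hI' a haI).inv
      rwa [map_mul, mul_assoc, mul_inv_cancel₀ ha', mul_one] at h1
    refine hk i ⟨fun z => ?_⟩
    obtain ⟨r, s, -, rfl⟩ := IsFractionRing.div_surjective (R ⧸ p i) z
    obtain ⟨r, rfl⟩ := Ideal.Quotient.mk_surjective r
    obtain ⟨s, rfl⟩ := Ideal.Quotient.mk_surjective s
    rw [div_eq_mul_inv]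
    exact (hall r).mul (hall s).inv
  choose x hxJ hxp hx using key
  refine ⟨∑ j, x j, Ideal.sum_mem _ fun j _ => hxJ j, fun i => ?_⟩
  rw [map_sum, Finset.sum_eq_single i]
  · exact hx i
  · intro j _ hj
    exact Ideal.algebraMap_residueField_eq_zero.mpr (hxp j i (Ne.symm hj))
  · exact fun h => absurd (Finset.mem_univ i) h

end Groth.Agent.S1484
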