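import Groth.Statements.S14842
import Groth.Agent.Comod.Cosemisimple

set_option autoImplicit false
universe u v
open HopfRep

namespace Groth.Agent.S14842

open scoped Groth.Agent.Comod
open Groth.Agent.Comod


open TensorProduct in
/-- Over a field K, every simple subcoalgebra D of a coalgebra C is the coefficient space of a simple
comodule. Precisely: there is a subspace E of C contained in D which is a simple subcomodule of the
regular right comodule C (E is nonzero, stable under the coaction, and its only subcomodules are 0
and E) and such that D is the least subspace D' of C with comul(E) inside the image of E ⊗ D'. Here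
a subcoalgebra of C is a subspace B whose comultiplication lands in the image of B ⊗ B, and a simple
subcoalgebra is a nonzero subcoalgebra D whose only subcoalgebras contained in D are 0 and D.
(Stated for right comodules; the published statement is for left comodules.) -/
theorem result {K : Type u} {C : Type v} [Field K]
    [AddCommGroup C] [Module K C] [Coalgebra K C]
    (D : Submodule K C) (hD0 : D ≠ ⊥) (hD : (∀ b ∈ D, CoalgebraStruct.comul (R := K) b ∈ LinearMap.range (TensorProduct.map D.subtype D.subtype)))
    (hDs : ∀ B : Submodule K C, B ≤ D → (∀ b ∈ B, CoalgebraStruct.comul (R := K) b ∈ LinearMap.range (TensorProduct.map B.subtype B.subtype)) → B = ⊥ ∨ B = D) :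
    ∃ E : Submodule K C, E ≤ D ∧ E ≠ ⊥ ∧ HopfRep.IsSubcomod (k := K) (A := C) E ∧
      (∀ E' : Submodule K C, E' ≤ E → HopfRep.IsSubcomod (k := K) (A := C) E' → E' = ⊥ ∨ E' = E) ∧
      IsLeast {D' : Submodule K C |
        ∀ e ∈ E, CoalgebraStruct.comul (R := K) e ∈ LinearMap.range (TensorProduct.map E.subtype D'.subtype)} D := by
  obtain ⟨S, hS, hs⟩ := exists_simple_le (M := toSub (IsSubcoalg.isSubcomod hD))
    (fun h => hD0 ((Submodule.eq_bot_iff _).2 fun x hx => (Submodule.eq_bot_iff _).1 h x hx))
  haveI := hs
  have hmin := (isSimpleModule_toSub_iff (isSubcomod_restrictScalars S)).1 hs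
  refine ⟨S.restrictScalars K, hS, hmin.1, isSubcomod_restrictScalars S,
    fun E' hE' hsub => hmin.2 E' hsub hE', ?_, ?_⟩
  · intro e he
    letI := subComod S
    have heq := coeff_sub_eq hD hDs S hS
    obtain ⟨x, hx⟩ := coact_mem_range_coeff (k := K) (C := C) (⟨e, he⟩ : S.restrictScalars K)
    have h1 := ComodSub.restr_coact_coe (HopfRep.Comod.regular K C) _ (isSubcomod_restrictScalars S)
      (⟨e, he⟩ : S.restrictScalars K)
    refine ⟨(Submodule.inclusion heq.le).lTensor _ x, ?_⟩
    rw [← LinearMap.comp_apply, LinearMap.lTensor_def, ← TensorProduct.map_comp,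
      Submodule.subtype_comp_inclusion, LinearMap.comp_id]
    refine Eq.trans ?_ h1
    change _ = (S.restrictScalars K).subtype.rTensor C (HopfRep.Comod.coact (k := K) (A := C) _)
    rw [← hx, LinearMap.rTensor_def, LinearMap.lTensor_def, ← LinearMap.comp_apply, ← TensorProduct.map_comp,
      LinearMap.comp_id, LinearMap.id_comp]
  · intro D' hD'
    letI := subComod S
    rw [← coeff_sub_eq hD hDs S hS, coeff_le_iff]
    intro e
    refine mem_range_lTensor_of_slL fun ψ => ?_
    obtain ⟨g, hg⟩ := LinearMap.exists_extend ψ
    rw [← hg, ← slL_rTensor, ComodSub.restr_coact_coe]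
    obtain ⟨x, hx⟩ := hD' e.1 e.2
    show slL g (CoalgebraStruct.comul (R := K) e.1) ∈ D'
    rw [← hx]
    clear hx
    induction x with
    | zero => simp
    | tmul a b => simp [D'.smul_mem]
    | add y z hy hz => simpa only [map_add] using add_mem hy hz

end Groth.Agent.S14842
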