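import Groth.Statements.S14843
import Groth.Agent.Comod.Cosemisimple

set_option autoImplicit false
universe u v
open HopfRep

namespace Groth.Agent.S14843

open scoped Groth.Agent.Comod
open Groth.Agent.Comod


open TensorProduct in
/-- Over a field K, a coalgebra C is cosemisimple, i.e. C is the internal direct sum of a family of
simple subcoalgebras, if and only if every right C-comodule is completely reducible (every
subcomodule admits a complementary subcomodule). Here a subcoalgebra of C is a subspace B whose
comultiplication lands in the image of B ⊗ B, and a simple subcoalgebra is a nonzero subcoalgebra D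
whose only subcoalgebras contained in D are 0 and D. (Comodules are quantified in the universe of C;
the published statement is for left comodules, and the equivalence of 'direct sum of simple
subcomodules' with 'every subcomodule is a direct summand' is the standard one.) -/
theorem result {K : Type u} {C : Type v} [Field K]
    [AddCommGroup C] [Module K C] [Coalgebra K C] :
    (∃ (ι : Type v) (D : ι → Submodule K C), iSupIndep D ∧ iSup D = ⊤ ∧ ∀ i,
        D i ≠ ⊥ ∧ (∀ b ∈ D i, CoalgebraStruct.comul (R := K) b ∈ LinearMap.range (TensorProduct.map (D i).subtype (D i).subtype)) ∧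
        ∀ B : Submodule K C, B ≤ D i → (∀ b ∈ B, CoalgebraStruct.comul (R := K) b ∈ LinearMap.range (TensorProduct.map B.subtype B.subtype)) → B = ⊥ ∨ B = D i) ↔
      ∀ (V : Type v) [AddCommGroup V] [Module K V] [HopfRep.Comod K C V],
        HopfRep.IsSemisimpleComod K C V := by
  classical
  constructor
  · rintro ⟨ι, D, -, htop, hD⟩ V _ _ _
    refine isSemisimpleComod_of_regular ?_
    refine isSemisimpleModule_of_isSemisimpleModule_submodule'
      (p := fun i => toSub (IsSubcoalg.isSubcomod (hD i).2.1)) (fun i => ?_) ((iSup_toSub_eq_top _).2 htop)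
    obtain ⟨S, hS, hs⟩ := exists_simple_le (M := toSub (IsSubcoalg.isSubcomod (hD i).2.1))
      (fun h => (hD i).1 ((Submodule.eq_bot_iff _).2 fun x hx => (Submodule.eq_bot_iff _).1 h x hx))
    haveI := hs
    letI := subComod S
    haveI : IsSimpleModule (DualAlg K C) (S.restrictScalars K) := IsSimpleModule.congr (N := S) (subLinearEquiv S)
    have h := isSemisimpleModule_coeff (k := K) (C := C) (V := S.restrictScalars K)
    have heq := coeff_sub_eq (hD i).2.1 (hD i).2.2 S hS
    have : toSub (isSubcoalg_coeff (k := K) (C := C) (V := S.restrictScalars K)).isSubcomod =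
        toSub (IsSubcoalg.isSubcomod (hD i).2.1) := SetLike.ext fun x => by rw [mem_toSub, mem_toSub, heq]
    rwa [this] at h
  · intro hall
    haveI := isSemisimpleComod_iff.1 (hall C)
    let 𝒟 := {D : Submodule K C // D ≠ ⊥ ∧ IsSubcoalg D ∧
      ∀ B : Submodule K C, B ≤ D → IsSubcoalg B → B = ⊥ ∨ B = D}
    refine ⟨𝒟, fun D => D.1, iSupIndep_simple_subcoalg _ Subtype.val_injective fun D => D.2, ?_, fun D => D.2⟩
    rw [eq_top_iff, ← Submodule.restrictScalars_top K (DualAlg K C) C,
      ← IsSemisimpleModule.sSup_simples_eq_top (DualAlg K C) C, Submodule.restrictScalars_sSup]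
    refine sSup_le ?_
    rintro _ ⟨S, hS, rfl⟩
    haveI : IsSimpleModule (DualAlg K C) S := hS
    letI := subComod S
    haveI hss : IsSimpleModule (DualAlg K C) (S.restrictScalars K) := IsSimpleModule.congr (N := S) (subLinearEquiv S)
    have hsim := isSimpleComod_iff.2 hss
    haveI := hsim.1
    refine le_iSup_of_le (⟨coeff K C (S.restrictScalars K), coeff_ne_bot, isSubcoalg_coeff, fun B hle hB =>
      or_iff_not_imp_left.2 fun h0 => le_antisymm hle (coeff_le_of_subcoalg hsim hB hle h0)⟩ : 𝒟)
      (le_coeff_restr S)

end Groth.Agent.S14843
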