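import Groth.Statements.S14844
import Groth.Agent.Comod.Along
import Mathlib.Algebra.DirectSum.Module

set_option autoImplicit false
universe u v w w'
open HopfRep

namespace Groth.Agent.S14844

open Groth.Agent.Comod
open scoped TensorProduct


open TensorProduct in
/-- Let R be a commutative ring and C an R-coalgebra, flat over R, which is the internal direct sum of
subcoalgebras D_i (submodules whose comultiplication lands in the image of D_i ⊗ D_i, independent
and with supremum C). Then every right C-comodule V is the internal direct sum of the subcomodules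
V_i, where V_i is the preimage under the coaction of the image of V ⊗ D_i in V ⊗ C, and the coaction
maps V_i into the image of V_i ⊗ D_i, so that the comodule structure of V_i reduces to a
D_i-comodule structure. (The published statement is for a flat sheaf of coalgebras over a base
scheme and left comodules on a scheme over it; this row is the case of an affine base with modules
of global sections, for right comodules.) -/
theorem result {R : Type u} {C : Type v} [CommRing R]
    [AddCommGroup C] [Module R C] [Coalgebra R C] [Module.Flat R C]
    {ι : Type w} (D : ι → Submodule R C)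
    (hD : ∀ i, ∀ d ∈ D i, CoalgebraStruct.comul (R := R) d ∈
      LinearMap.range (TensorProduct.map (D i).subtype (D i).subtype))
    (hind : iSupIndep D) (htop : iSup D = ⊤)
    {V : Type w'} [AddCommGroup V] [Module R V] [HopfRep.Comod R C V] :
    (∀ i, HopfRep.IsSubcomod (k := R) (A := C) ((LinearMap.range (LinearMap.lTensor V (D i).subtype)).comap
        (HopfRep.Comod.coact (k := R) (A := C) (V := V)))) ∧
    iSupIndep (fun i => ((LinearMap.range (LinearMap.lTensor V (D i).subtype)).comap
        (HopfRep.Comod.coact (k := R) (A := C) (V := V)))) ∧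
    (⨆ i, ((LinearMap.range (LinearMap.lTensor V (D i).subtype)).comap
        (HopfRep.Comod.coact (k := R) (A := C) (V := V)))) = ⊤ ∧
    ∀ i, ∀ v ∈ ((LinearMap.range (LinearMap.lTensor V (D i).subtype)).comap
        (HopfRep.Comod.coact (k := R) (A := C) (V := V))),
      HopfRep.Comod.coact (k := R) (A := C) v ∈
        LinearMap.range (TensorProduct.map ((LinearMap.range (LinearMap.lTensor V (D i).subtype)).comap
        (HopfRep.Comod.coact (k := R) (A := C) (V := V))).subtype (D i).subtype) := by
  classical
  have hint := DirectSum.isInternal_submodule_of_iSupIndep_of_iSup_eq_top hind htop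
  let e := LinearEquiv.ofBijective (DirectSum.coeLinearMap D) hint
  let pr : ∀ i, C →ₗ[R] D i := fun i => DirectSum.component R ι (fun i => D i) i ∘ₗ e.symm.toLinearMap
  let π : ι → C →ₗ[R] C := fun i => (D i).subtype ∘ₗ pr i
  have hπ : ∀ i j, ∀ d ∈ D j, π i d = if j = i then d else 0 := by
    intro i j d hd
    have : e.symm d = DirectSum.lof R ι (fun i => D i) j ⟨d, hd⟩ := by
      rw [LinearEquiv.symm_apply_eq]
      exact (DirectSum.coeLinearMap_lof D j ⟨d, hd⟩).symm
    simp only [π, pr, LinearMap.comp_apply, LinearEquiv.coe_coe, this]
    by_cases h : j = i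
    · subst h; simp
    · rw [if_neg h, DirectSum.component.of, dif_neg h]
      simp
  let ε : ι → C →ₗ[R] R := fun i => Coalgebra.counit (R := R) ∘ₗ π i
  have hR : ∀ (c : C) i, slR (ε i) (Coalgebra.comul (R := R) c) = π i c ∧
      slL (ε i) (Coalgebra.comul (R := R) c) = π i c := by
    intro c i
    have hc : c ∈ iSup D := htop ▸ Submodule.mem_top
    induction hc using Submodule.iSup_induction' with
    | mem j d hd =>
      obtain ⟨y, hy⟩ := hD j d hd
      rw [hπ i j d hd]
      have hy' : ∀ y : D j ⊗[R] D j,
          slR (ε i) (TensorProduct.map (D j).subtype (D j).subtype y) =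
            (if j = i then slR (Coalgebra.counit (R := R)) (TensorProduct.map (D j).subtype (D j).subtype y) else 0) ∧
          slL (ε i) (TensorProduct.map (D j).subtype (D j).subtype y) =
            (if j = i then slL (Coalgebra.counit (R := R)) (TensorProduct.map (D j).subtype (D j).subtype y) else 0) := by
        intro y
        induction y with
        | zero => simp
        | tmul a b =>
          simp only [TensorProduct.map_tmul, Submodule.subtype_apply, slR_tmul, slL_tmul, ε, LinearMap.comp_apply,
            hπ i j _ a.2, hπ i j _ b.2]
          split_ifs <;> simp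
        | add y z hy hz => simp only [map_add, hy.1, hz.1, hy.2, hz.2]; split_ifs <;> simp
      rw [← hy, (hy' y).1, (hy' y).2, hy]
      split_ifs
      · exact ⟨actL_counit (A := C) d, by simp [slL]⟩
      · exact ⟨rfl, rfl⟩
    | zero => simp
    | add x y _ _ hx hy => simp only [map_add, hx.1, hy.1, hx.2, hy.2, and_self]
  let ρ := HopfRep.Comod.coact (k := R) (A := C) (V := V)
  have hco := fun v => LinearMap.congr_fun (HopfRep.Comod.coassoc (k := R) (A := C) (V := V)) v
  simp only [LinearMap.comp_apply, LinearEquiv.coe_coe] at hco
  -- the projection of the comodule onto the `i`-th component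
  let p : ι → V →ₗ[R] V := fun i => actL (A := C) (ε i)
  have hp1 : ∀ i v, ρ (p i v) = (π i).lTensor V (ρ v) := by
    intro i v
    have h1 : ∀ x : V ⊗[R] C, ρ (slR (ε i) x) =
        (slR (ε i)).lTensor V (TensorProduct.assoc R V C C (ρ.rTensor C x)) := by
      intro x
      induction x with
      | zero => simp
      | tmul a b =>
        rw [slR_tmul, map_smul, LinearMap.rTensor_tmul]
        generalize ρ a = y
        induction y with
        | zero => simp
        | tmul s t => simp [TensorProduct.smul_tmul']
        | add y z hy hz => simp only [map_add, TensorProduct.add_tmul, smul_add, hy, hz]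
      | add y z hy hz => simp only [map_add, hy, hz]
    show ρ (slR (ε i) (ρ v)) = _
    rw [h1, hco, ← LinearMap.comp_apply, ← LinearMap.lTensor_comp]
    exact congrArg (fun g : C →ₗ[R] C => g.lTensor V (ρ v)) (LinearMap.ext fun c => (hR c i).1)
  have hp2 : ∀ i v, (p i).rTensor C (ρ v) = (π i).lTensor V (ρ v) := by
    intro i v
    have h1 : ∀ x : V ⊗[R] C, (p i).rTensor C x =
        (slL (ε i)).lTensor V (TensorProduct.assoc R V C C (ρ.rTensor C x)) := by
      intro x
      induction x with
      | zero => simp
      | tmul a b =>
        rw [LinearMap.rTensor_tmul, LinearMap.rTensor_tmul]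
        show slR (ε i) (ρ a) ⊗ₜ b = _
        generalize ρ a = y
        induction y with
        | zero => simp
        | tmul s t => simp [TensorProduct.smul_tmul]
        | add y z hy hz => simp only [map_add, TensorProduct.add_tmul, hy, hz]
      | add y z hy hz => simp only [map_add, hy, hz]
    rw [h1, hco, ← LinearMap.comp_apply, ← LinearMap.lTensor_comp]
    exact congrArg (fun g : C →ₗ[R] C => g.lTensor V (ρ v)) (LinearMap.ext fun c => (hR c i).2)
  let Vc : ι → Submodule R V := fun i => (LinearMap.range (LinearMap.lTensor V (D i).subtype)).comap ρ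
  have hpmem : ∀ i v, p i v ∈ Vc i := fun i v => by
    simp only [Vc, Submodule.mem_comap]
    rw [hp1, LinearMap.lTensor_comp, LinearMap.comp_apply]
    exact LinearMap.mem_range_self _ _
  have hpid : ∀ i j v, v ∈ Vc j → p i v = if j = i then v else 0 := by
    rintro i j v ⟨y, hy⟩
    have h2 : slR (ε i) ((D j).subtype.lTensor V y) =
        if j = i then slR (Coalgebra.counit (R := R)) ((D j).subtype.lTensor V y) else 0 := by
      clear hy
      induction y with
      | zero => simp
      | tmul a b =>
        simp only [LinearMap.lTensor_tmul, Submodule.subtype_apply, slR_tmul, ε, LinearMap.comp_apply,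
          hπ i j _ b.2]
        split_ifs <;> simp
      | add y z hy hz => simp only [map_add, hy, hz]; split_ifs <;> simp
    show slR (ε i) (ρ v) = _
    rw [← hy, h2, hy]
    split_ifs
    · exact actL_counit v
    · rfl
  have hrange : ∀ i, ∀ v ∈ Vc i, ρ v ∈ LinearMap.range (TensorProduct.map (Vc i).subtype (D i).subtype) := by
    intro i v hv
    have hv' : ρ v = (π i).lTensor V (ρ v) := by
      have := hp1 i v
      rwa [hpid i i v hv, if_pos rfl] at this
    refine ⟨TensorProduct.map ((p i).codRestrict (Vc i) (hpmem i)) (pr i) (ρ v), ?_⟩
    rw [← LinearMap.comp_apply, ← TensorProduct.map_comp, LinearMap.subtype_comp_codRestrict]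
    show TensorProduct.map (p i) (π i) (ρ v) = ρ v
    rw [show TensorProduct.map (p i) (π i) = (p i).rTensor C ∘ₗ (π i).lTensor V by
      rw [LinearMap.rTensor_comp_lTensor], LinearMap.comp_apply, ← hv', hp2, ← hv']
  refine ⟨fun i v hv => ?_, ?_, ?_, hrange⟩
  · obtain ⟨y, hy⟩ := hrange i v hv
    exact ⟨(D i).subtype.lTensor _ y, by
      rw [← LinearMap.comp_apply, LinearMap.rTensor_comp_lTensor]; exact hy⟩
  · intro i
    rw [Submodule.disjoint_def]
    intro v hv hv'
    have : p i v = 0 := by
      clear hv
      have h : v ∈ ⨆ j, ⨆ (_ : j ≠ i), Vc j := hv'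
      refine (iSup₂_le (fun j hj => ?_) : (⨆ j, ⨆ (_ : j ≠ i), Vc j) ≤ LinearMap.ker (p i)) h
      intro w hw
      rw [LinearMap.mem_ker, hpid i j w hw, if_neg hj]
    rwa [hpid i i v hv, if_pos rfl] at this
  · rw [eq_top_iff]
    intro v _
    have hex : ∀ x : V ⊗[R] C, ∃ s : Finset ι, ∀ t : Finset ι, s ⊆ t →
        slR (Coalgebra.counit (R := R)) x = ∑ i ∈ t, slR (ε i) x := by
      intro x
      induction x with
      | zero => exact ⟨∅, fun t _ => by simp⟩
      | tmul a b =>
        refine ⟨(e.symm b).support, fun t ht => ?_⟩
        simp only [slR_tmul, ← Finset.sum_smul, ε, LinearMap.comp_apply, ← map_sum]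
        congr 2
        conv_lhs => rw [← e.apply_symm_apply b, ← DirectSum.sum_support_of (e.symm b)]
        rw [map_sum]
        refine Eq.trans ?_ (Finset.sum_subset ht fun i _ hi => ?_)
        · refine Finset.sum_congr rfl fun i _ => ?_
          show DirectSum.coeLinearMap D (DirectSum.of (fun i => D i) i ((e.symm b) i)) = _
          rw [DirectSum.coeLinearMap_of]
          rfl
        · show ((e.symm b) i : C) = 0
          rw [DFinsupp.notMem_support_iff.1 hi]
          rfl
      | add y z hy hz =>
        obtain ⟨s, hs⟩ := hy
        obtain ⟨s', hs'⟩ := hz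
        exact ⟨s ∪ s', fun t ht => by
          simp only [map_add, Finset.sum_add_distrib,
            ← hs t (Finset.union_subset_left ht), ← hs' t (Finset.union_subset_right ht)]⟩
    obtain ⟨s, hs⟩ := hex (ρ v)
    rw [show v = slR (Coalgebra.counit (R := R)) (ρ v) from (actL_counit (k := R) (A := C) v).symm, hs s subset_rfl]
    exact Submodule.sum_mem _ fun i _ => Submodule.mem_iSup_of_mem i (hpmem i v)

end Groth.Agent.S14844
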