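import Groth.Statements.S14845
import Mathlib
-- import your own Groth.Agent.* helpers here

set_option autoImplicit false
open CategoryTheory CategoryTheory.Limits AlgebraicGeometry
universe u
open HilbD

namespace Groth.Agent.S14845

open CategoryTheory CategoryTheory.Limits AlgebraicGeometry

/-- For a separated morphism f : X → S, the Hilbert functor of one point of X over S is represented by X
with the diagonal as universal family: the diagonal of X ×_S X (the graph of the identity section of
X over itself) is a closed subscheme finite locally free of degree 1 over X, and every closed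
subscheme of X ×_S T which is finite locally free of degree 1 over T is its base change along a
unique S-morphism T → X. (The published statement takes S Noetherian, f locally of finite type and
the Hilbert functor on locally Noetherian S-schemes with flat proper families of Hilbert polynomial
1; this row uses the functor of families finite locally free of degree 1 on all S-schemes, for which
the same argument applies without Noetherian hypotheses.) -/
theorem result {X S : Scheme.{u}} (f : X ⟶ S) [IsSeparated f] :
    ∃ Δ : HilbD.Obj f 1 (Over.mk f),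
      Δ.1 = HilbD.secGraph f (Over.mk f) (𝟙 X) (Category.id_comp f) ∧
      HilbD.IsUniversal f 1 (Over.mk f) Δ := by
  have hsec : ∀ (T : Over S) (x : T.left ⟶ X) (hx : x ≫ f = T.hom),
      IsClosedImmersion (pullback.lift x (𝟙 T.left) (by simpa using hx) : T.left ⟶ PicF.XT f T) := fun T x hx => by
    haveI : IsClosedImmersion ((pullback.lift x (𝟙 T.left) (by simpa using hx) : T.left ⟶ PicF.XT f T) ≫ pullback.snd f T.hom) := by
      rw [pullback.lift_snd]; infer_instance
    exact IsClosedImmersion.of_comp _ (pullback.snd f T.hom)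
  let s : X ⟶ PicF.XT f (Over.mk f) := pullback.lift (𝟙 X) (𝟙 X) rfl
  haveI hs : IsClosedImmersion s := hsec (Over.mk f) (𝟙 X) (Category.id_comp f)
  let I := HilbD.secGraph f (Over.mk f) (𝟙 X) (Category.id_comp f)
  have hI : I = s.ker := rfl
  have hsp : s ≫ pullback.snd f (Over.mk f).hom = 𝟙 X := pullback.lift_snd _ _ _
  have hsf : s ≫ pullback.fst f (Over.mk f).hom = 𝟙 X := pullback.lift_fst _ _ _
  let t := IsClosedImmersion.lift I.subschemeι s (by rw [Scheme.IdealSheafData.ker_subschemeι]; exact hI.le)
  let t' := IsClosedImmersion.lift s I.subschemeι (by rw [Scheme.IdealSheafData.ker_subschemeι]; exact hI.ge)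
  have ht : t ≫ I.subschemeι = s := IsClosedImmersion.lift_fac _ _ _
  have ht' : t' ≫ s = I.subschemeι := IsClosedImmersion.lift_fac _ _ _
  have htt' : t ≫ t' = 𝟙 X := by
    have h1 : (t ≫ t') ≫ s = s := by rw [Category.assoc, ht', ht]
    have h2 := congrArg (· ≫ pullback.snd f (Over.mk f).hom) h1
    simp only [Category.assoc, hsp] at h2
    exact (by simpa using h2 : t ≫ t' = 𝟙 X)
  have ht't : t' ≫ t = 𝟙 _ := by
    rw [← cancel_mono I.subschemeι, Category.assoc, ht, ht', Category.id_comp]
  have hq : I.subschemeι ≫ pullback.snd f (Over.mk f).hom = t' := by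
    rw [← ht', Category.assoc, hsp]; exact Category.comp_id _
  haveI hiso : IsIso (I.subschemeι ≫ PicF.XTproj f (Over.mk f)) := ⟨t,
    (congrArg (· ≫ t) hq).trans ht't, (congrArg (t ≫ ·) hq).trans htt'⟩
  refine ⟨⟨I, ⟨inferInstance, inferInstance, inferInstance⟩, fun y =>
    congrFun ((Scheme.Hom.isIso_iff_finrank_eq (I.subschemeι ≫ PicF.XTproj f (Over.mk f))).1 hiso) y⟩, rfl, fun T Z => ?_⟩
  obtain ⟨⟨hfin, hfl, hfp⟩, hrk⟩ := Z.2
  haveI := hfin
  haveI := hfl
  haveI := hfp
  haveI : IsIso (Z.1.subschemeι ≫ PicF.XTproj f T) :=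
    (Scheme.Hom.isIso_iff_finrank_eq (Z.1.subschemeι ≫ PicF.XTproj f T)).2 (funext hrk)
  let σ : T.left ⟶ PicF.XT f T := inv (Z.1.subschemeι ≫ PicF.XTproj f T) ≫ Z.1.subschemeι
  have hσp : σ ≫ pullback.snd f T.hom = 𝟙 _ := by
    rw [Category.assoc]; exact IsIso.inv_hom_id _
  have hσk : σ.ker = Z.1 := by
    show (inv _ ≫ Z.1.subschemeι).ker = Z.1
    rw [Scheme.Hom.ker_comp_of_isIso, Scheme.IdealSheafData.ker_subschemeι]
  let x : T.left ⟶ X := σ ≫ pullback.fst f T.hom
  have hx : x ≫ f = T.hom := by
    rw [Category.assoc, pullback.condition, ← Category.assoc, hσp, Category.id_comp]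
  have hσ : σ = pullback.lift x (𝟙 T.left) (by simpa using hx) := by
    apply pullback.hom_ext
    · rw [pullback.lift_fst]
    · rw [pullback.lift_snd, hσp]
  have hpull : ∀ g : T ⟶ Over.mk f, HilbD.pull f g I =
      (pullback.lift g.left (𝟙 T.left) (by simpa using Over.w g) : T.left ⟶ PicF.XT f T).ker := by
    intro g
    let τ : T.left ⟶ PicF.XT f T := pullback.lift g.left (𝟙 T.left) (by simpa using Over.w g)
    have hm1 : PicF.XTmap f g ≫ pullback.fst f (Over.mk f).hom = pullback.fst f T.hom :=
      (pullback.lift_fst _ _ _).trans (Category.comp_id _)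
    have hm2 : PicF.XTmap f g ≫ pullback.snd f (Over.mk f).hom = pullback.snd f T.hom ≫ g.left :=
      pullback.lift_snd _ _ _
    have hτ : τ ≫ PicF.XTmap f g = g.left ≫ s := by
      apply pullback.hom_ext
      · refine (Category.assoc _ _ _).trans ((congrArg (τ ≫ ·) hm1).trans ?_)
        exact (pullback.lift_fst _ _ _).trans ((Category.comp_id _).symm.trans ((congrArg (g.left ≫ ·) hsf.symm).trans (Category.assoc _ _ _).symm))
      · refine (Category.assoc _ _ _).trans ((congrArg (τ ≫ ·) hm2).trans ((Category.assoc _ _ _).symm.trans ?_))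
        refine (congrArg (· ≫ g.left) (pullback.lift_snd _ _ _)).trans ((Category.id_comp _).trans ?_)
        exact (Category.comp_id _).symm.trans ((congrArg (g.left ≫ ·) hsp.symm).trans (Category.assoc _ _ _).symm)
    have sq : IsPullback (g.left ≫ t) τ I.subschemeι (PicF.XTmap f g) := by
      refine ⟨⟨by rw [Category.assoc, ht, hτ]⟩, ⟨PullbackCone.IsLimit.mk _ (fun c => c.snd ≫ pullback.snd f T.hom)
        (fun c => ?_) (fun c => ?_) (fun c m h₁ h₂ => ?_)⟩⟩
      · have hc : c.fst ≫ t' = c.snd ≫ pullback.snd f T.hom ≫ g.left := by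
          have h := congrArg (· ≫ pullback.snd f (Over.mk f).hom) c.condition
          simp only [Category.assoc] at h
          exact ((congrArg (c.fst ≫ ·) hq).symm.trans h).trans (congrArg (c.snd ≫ ·) hm2)
        rw [← Category.assoc, Category.assoc c.snd, ← hc, Category.assoc, ht't, Category.comp_id]
      · have hc : c.fst ≫ t' = c.snd ≫ pullback.snd f T.hom ≫ g.left := by
          have h := congrArg (· ≫ pullback.snd f (Over.mk f).hom) c.condition
          simp only [Category.assoc] at h
          exact ((congrArg (c.fst ≫ ·) hq).symm.trans h).trans (congrArg (c.snd ≫ ·) hm2)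
        have hc' : c.fst ≫ t' = c.snd ≫ pullback.fst f T.hom := by
          have h := congrArg (· ≫ pullback.fst f (Over.mk f).hom) c.condition
          simp only [Category.assoc] at h
          have he : I.subschemeι ≫ pullback.fst f (Over.mk f).hom = t' :=
            (congrArg (· ≫ pullback.fst f (Over.mk f).hom) ht').symm.trans
              ((Category.assoc _ _ _).trans ((congrArg (t' ≫ ·) hsf).trans (Category.comp_id _)))
          exact ((congrArg (c.fst ≫ ·) he).symm.trans h).trans (congrArg (c.snd ≫ ·) hm1)
        apply pullback.hom_ext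
        · simp only [τ, Category.assoc, pullback.lift_fst]
          exact hc.symm.trans hc'
        · simp only [τ, Category.assoc, pullback.lift_snd, Category.comp_id]
      · rw [← h₂, Category.assoc, pullback.lift_snd, Category.comp_id]
    show (pullback.snd I.subschemeι (PicF.XTmap f g)).ker = τ.ker
    rw [← sq.isoPullback_hom_snd, Scheme.Hom.ker_comp_of_isIso]
  let g₀ : T ⟶ Over.mk f := Over.homMk x hx
  refine ⟨g₀, ?_, fun g hg => ?_⟩
  · show HilbD.pull f g₀ I = Z.1
    rw [hpull, ← hσk, hσ]
    rfl
  · have hg' : HilbD.pull f g I = Z.1 := hg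
    rw [hpull, ← hσk] at hg'
    haveI h1 := hsec T g.left (Over.w g)
    haveI : IsClosedImmersion σ := by rw [hσ]; exact hsec T x hx
    let t := IsClosedImmersion.lift σ (pullback.lift g.left (𝟙 T.left) (by simpa using Over.w g)) hg'.ge
    have ht : t ≫ σ = pullback.lift g.left (𝟙 T.left) (by simpa using Over.w g) := IsClosedImmersion.lift_fac _ _ _
    have h2 := congrArg (· ≫ pullback.snd f T.hom) ht
    simp only [Category.assoc, hσp, Category.comp_id, pullback.lift_snd] at h2
    rw [h2, Category.id_comp] at ht
    apply Over.OverMorphism.ext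
    show g.left = x
    show g.left = σ ≫ pullback.fst f T.hom
    rw [ht, pullback.lift_fst]

end Groth.Agent.S14845
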