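import Groth.Statements.S14846
import Mathlib


set_option autoImplicit false
universe u v w
open Brauer

namespace Groth.Agent.S14846

open TensorProduct in
/-- Let L/K be a Galois extension with group Γ = Aut_K(L), and A a K-algebra which is a simple ring. If
L ⊗_K A is semisimple, then Γ, acting on L ⊗_K A through the first tensor factor, permutes its
simple components, i.e. its minimal nonzero two-sided ideals, transitively: any minimal two-sided
ideal is carried onto any other by some γ ⊗ id. -/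
theorem result
    {K : Type u} {L : Type v} [Field K] [Field L] [Algebra K L] [IsGalois K L]
    {A : Type w} [Ring A] [Algebra K A] [IsSimpleRing A]
    [IsSemisimpleRing (L ⊗[K] A)]
    (I J : TwoSidedIdeal (L ⊗[K] A)) (hI : IsAtom I) (hJ : IsAtom J) :
    ∃ γ : L ≃ₐ[K] L, (J : Set (L ⊗[K] A)) =
      Algebra.TensorProduct.map (γ : L →ₐ[K] L) (AlgHom.id K A) '' (I : Set (L ⊗[K] A)) := by
  classical
  let R := L ⊗[K] A
  let Φ : (L ≃ₐ[K] L) → R →ₐ[K] R := fun γ => Algebra.TensorProduct.map (γ : L →ₐ[K] L) (AlgHom.id K A)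
  have hΦ : ∀ γ γ' x, Φ γ (Φ γ' x) = Φ (γ * γ') x := by
    intro γ γ' x
    induction x using TensorProduct.induction_on with
    | zero => simp
    | add a b ha hb => simp only [map_add, ha, hb]
    | tmul l a => rfl
  have hΦ1 : ∀ x, Φ 1 x = x := by
    intro x
    induction x using TensorProduct.induction_on with
    | zero => simp
    | add a b ha hb => simp only [map_add, ha, hb]
    | tmul l a => rfl
  -- some translate of I meets J
  obtain ⟨γ, x, hx, j, hj, hne⟩ : ∃ (γ : L ≃ₐ[K] L) (x : R), x ∈ I ∧ ∃ j ∈ J, j * Φ γ x ≠ 0 := by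
    by_contra hno
    push Not at hno
    let T : TwoSidedIdeal R := TwoSidedIdeal.mk' {x | ∀ γ, ∀ j ∈ J, j * Φ γ x = 0}
      (fun γ j _ => by simp)
      (fun {a b} ha hb γ j hj => by rw [map_add, mul_add, ha γ j hj, hb γ j hj, add_zero])
      (fun {a} ha γ j hj => by rw [map_neg, mul_neg, ha γ j hj, neg_zero])
      (fun {a b} hb γ j hj => by rw [map_mul, ← mul_assoc]; exact hb γ _ (J.mul_mem_right _ _ hj))
      (fun {a b} ha γ j hj => by rw [map_mul, ← mul_assoc, ha γ j hj, zero_mul])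
    have hT : ∀ x, x ∈ T ↔ ∀ γ, ∀ j ∈ J, j * Φ γ x = 0 := fun x => TwoSidedIdeal.mem_mk' ..
    have hIT : ∀ x ∈ I, x ∈ T := fun x hx => (hT x).mpr fun γ j hj => hno γ x hx j hj
    have hstab : ∀ γ, ∀ x ∈ T, Φ γ x ∈ T := fun γ x hx => (hT _).mpr fun γ' j hj => by
      rw [hΦ]; exact (hT x).mp hx _ j hj
    let b := Module.Free.chooseBasis K A
    let B := Algebra.TensorProduct.basis L b
    have hrepr : ∀ γ x i, B.repr (Φ γ x) i = γ (B.repr x i) := by
      intro γ x i
      induction x using TensorProduct.induction_on with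
      | zero => simp
      | add a b ha hb => simp only [map_add, Finsupp.coe_add, Pi.add_apply, ha, hb]
      | tmul l a =>
        show B.repr (γ l ⊗ₜ[K] a) i = γ (B.repr (l ⊗ₜ[K] a) i)
        simp [B]
    obtain ⟨x₀, hx₀, hx₀'⟩ : ∃ x ∈ T, x ≠ 0 := by
      by_contra hcon
      push Not at hcon
      refine hI.1 (le_bot_iff.mp fun x hx => ?_)
      simp only [TwoSidedIdeal.mem_bot]
      exact hcon x (hIT x hx)
    obtain ⟨m, ⟨x₁, hx₁, hx₁0, rfl⟩, hmin⟩ :=
      WellFounded.has_min Nat.lt_wfRel.2 {m | ∃ x ∈ T, x ≠ 0 ∧ (B.repr x).support.card = m} ⟨_, x₀, hx₀, hx₀', rfl⟩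
    obtain ⟨i₀, hi₀⟩ := Finsupp.support_nonempty_iff.mpr (fun h => hx₁0 (B.repr.map_eq_zero_iff.mp h))
    have hc : B.repr x₁ i₀ ≠ 0 := Finsupp.mem_support_iff.mp hi₀
    let x₂ : R := ((B.repr x₁ i₀)⁻¹ ⊗ₜ[K] (1 : A)) * x₁
    have hx₂s : x₂ = (B.repr x₁ i₀)⁻¹ • x₁ := by
      show _ * x₁ = _
      rw [Algebra.smul_def]; rfl
    have hx₂T : x₂ ∈ T := T.mul_mem_left _ _ hx₁
    have hx₂1 : B.repr x₂ i₀ = 1 := by rw [hx₂s, map_smul, Finsupp.smul_apply, smul_eq_mul, inv_mul_cancel₀ hc]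
    have hfix : ∀ γ, Φ γ x₂ = x₂ := by
      intro γ
      by_contra hd
      refine hmin (B.repr (Φ γ x₂ - x₂)).support.card ⟨_, T.sub_mem (hstab γ _ hx₂T) hx₂T, sub_ne_zero.mpr hd, rfl⟩ ?_
      refine Finset.card_lt_card (Finset.ssubset_iff_of_subset (fun i hi => ?_) |>.mpr ⟨i₀, hi₀, ?_⟩)
      · rw [Finsupp.mem_support_iff] at hi ⊢
        intro h0
        apply hi
        rw [map_sub, Finsupp.sub_apply, hrepr, hx₂s, map_smul, Finsupp.smul_apply, h0, smul_zero, map_zero, sub_zero]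
      · rw [Finsupp.notMem_support_iff, map_sub, Finsupp.sub_apply, hrepr, hx₂1, map_one, sub_self]
    have hcoef : ∀ i, B.repr x₂ i ∈ Set.range (algebraMap K L) := fun i => by
      refine (InfiniteGalois.mem_range_algebraMap_iff_fixed (B.repr x₂ i)).mpr fun γ => ?_
      rw [← hrepr, hfix]
    choose c hc' using hcoef
    let a : A := ∑ i ∈ (B.repr x₂).support, c i • b i
    have ha : (1 : L) ⊗ₜ[K] a = x₂ := by
      conv_rhs => rw [← B.linearCombination_repr x₂, Finsupp.linearCombination_apply, Finsupp.sum]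
      rw [TensorProduct.tmul_sum]
      refine Finset.sum_congr rfl fun i _ => ?_
      rw [← hc' i, algebraMap_smul, TensorProduct.tmul_smul]
      simp [B]
    let T₀ : TwoSidedIdeal A := T.comap (Algebra.TensorProduct.includeRight : A →ₐ[K] R)
    have haT : a ∈ T₀ := by rw [TwoSidedIdeal.mem_comap]; show (1 : L) ⊗ₜ[K] a ∈ T; rw [ha]; exact hx₂T
    have htop : T₀ = ⊤ := (IsSimpleOrder.eq_bot_or_eq_top T₀).resolve_left fun h => by
      rw [h, TwoSidedIdeal.mem_bot] at haT
      rw [haT, TensorProduct.tmul_zero] at ha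
      rw [← ha, map_zero] at hx₂1
      exact zero_ne_one hx₂1
    have h1 : (1 : R) ∈ T := by
      have : (1 : A) ∈ T₀ := htop ▸ trivial
      rw [TwoSidedIdeal.mem_comap, map_one] at this
      exact this
    refine hJ.1 (le_bot_iff.mp fun j hj => ?_)
    simp only [TwoSidedIdeal.mem_bot]
    simpa using (hT 1).mp h1 1 j hj
  refine ⟨γ, ?_⟩
  let e : R ≃+* R :=
    { Φ γ with
      toFun := Φ γ
      invFun := Φ γ⁻¹
      left_inv := fun y => by rw [hΦ, inv_mul_cancel, hΦ1]
      right_inv := fun y => by rw [hΦ, mul_inv_cancel, hΦ1] }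
  let J' : TwoSidedIdeal R := J.comap e
  let I' : TwoSidedIdeal R := I.comap e.symm
  have hI'x : Φ γ x ∈ I' := by
    rw [TwoSidedIdeal.mem_comap]
    show e.symm (e x) ∈ I
    rwa [e.symm_apply_apply]
  have hJI' : J ≤ I' := by
    by_contra hle
    have h0 : J ⊓ I' = ⊥ := hJ.2 _ (lt_of_le_of_ne inf_le_left fun h => hle (h ▸ inf_le_right))
    exact hne ((TwoSidedIdeal.mem_bot R).mp (h0 ▸ TwoSidedIdeal.mem_inf R |>.mpr ⟨J.mul_mem_right _ _ hj, I'.mul_mem_left _ _ hI'x⟩))
  have hJ'le : J' ≤ I := fun y hy => by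
    rw [TwoSidedIdeal.mem_comap] at hy
    have := hJI' hy
    rw [TwoSidedIdeal.mem_comap] at this
    simpa using this
  have hJ'eq : J' = I := by
    by_contra hne'
    have h0 := hI.2 _ (lt_of_le_of_ne hJ'le hne')
    refine hJ.1 (le_bot_iff.mp fun y hy => ?_)
    have : e.symm y ∈ J' := by rw [TwoSidedIdeal.mem_comap]; simpa using hy
    rw [h0, TwoSidedIdeal.mem_bot] at this
    simp only [TwoSidedIdeal.mem_bot]
    simpa using congrArg e this
  ext y
  constructor
  · intro hy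
    exact ⟨e.symm y, hJ'eq ▸ (TwoSidedIdeal.mem_comap e).mpr (by simpa using hy), e.apply_symm_apply y⟩
  · rintro ⟨z, hz, rfl⟩
    rw [← hJ'eq] at hz
    exact (TwoSidedIdeal.mem_comap e).mp hz

end Groth.Agent.S14846
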