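import Groth.Statements.S14847
import Groth.Agent.Comod.Integral

set_option autoImplicit false
universe u v
open HopfRep

namespace Groth.Agent.S14847

open scoped Groth.Agent.Comod
open Groth.Agent.Comod


open TensorProduct in
/-- When K is a field of characteristic zero and G = Spec A is a finite group scheme over K, the
coordinate Hopf algebra A is cosemisimple, i.e. A is the internal direct sum of simple
subcoalgebras. Here a subcoalgebra of A is a subspace B whose comultiplication lands in the image of
B ⊗ B, and a simple subcoalgebra is a nonzero subcoalgebra D whose only subcoalgebras contained in D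
are 0 and D. -/
theorem result {K : Type u} {A : Type v} [Field K] [CharZero K]
    [CommRing A] [HopfAlgebra K A] [Module.Finite K A] :
    ∃ (ι : Type v) (D : ι → Submodule K A), iSupIndep D ∧ iSup D = ⊤ ∧ ∀ i,
        D i ≠ ⊥ ∧ (∀ b ∈ (D i), CoalgebraStruct.comul (R := K) b ∈ LinearMap.range (TensorProduct.map (D i).subtype (D i).subtype)) ∧
        ∀ B : Submodule K A, B ≤ D i → (∀ b ∈ B, CoalgebraStruct.comul (R := K) b ∈ LinearMap.range (TensorProduct.map B.subtype B.subtype)) → B = ⊥ ∨ B = D i := by
  classical
  let n : K := (Module.finrank K A : K)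
  have hn : n ≠ 0 := by
    show ((Module.finrank K A : ℕ) : K) ≠ 0
    haveI : Nontrivial A := (Bialgebra.counitAlgHom K A).toRingHom.domain_nontrivial
    exact_mod_cast Module.finrank_pos.ne'
  have htr : Algebra.trace K A 1 = n := by
    rw [Algebra.trace_apply, map_one, LinearMap.trace_one]
  let α : A →ₗ[K] K := n⁻¹ • Algebra.trace K A
  have hα : IsIntegral α := fun a => by
    have h := isIntegral_trace (k := K) (A := A) a
    simp only [α, slL, LinearMap.rTensor_smul, LinearMap.comp_apply, LinearMap.smul_apply, map_smul,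
      smul_eq_mul, LinearEquiv.coe_coe] at h ⊢
    rw [h, smul_smul]
  have h1 : α 1 = 1 := by
    simp only [α, LinearMap.smul_apply, htr, smul_eq_mul]
    exact inv_mul_cancel₀ hn
  have hC : HopfRep.IsSemisimpleComod K A A := isSemisimpleComod_of_integral hα h1
  haveI := isSemisimpleComod_iff.1 hC
  let 𝒟 := {D : Submodule K A // D ≠ ⊥ ∧ IsSubcoalg D ∧
    ∀ B : Submodule K A, B ≤ D → IsSubcoalg B → B = ⊥ ∨ B = D}
  refine ⟨𝒟, fun D => D.1, iSupIndep_simple_subcoalg _ Subtype.val_injective fun D => D.2, ?_, fun D => D.2⟩
  rw [eq_top_iff, ← Submodule.restrictScalars_top K (DualAlg K A) A,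
    ← IsSemisimpleModule.sSup_simples_eq_top (DualAlg K A) A, Submodule.restrictScalars_sSup]
  refine sSup_le ?_
  rintro _ ⟨S, hS, rfl⟩
  haveI : IsSimpleModule (DualAlg K A) S := hS
  letI := subComod S
  haveI hss : IsSimpleModule (DualAlg K A) (S.restrictScalars K) := IsSimpleModule.congr (N := S) (subLinearEquiv S)
  have hsim := isSimpleComod_iff.2 hss
  haveI := hsim.1
  refine le_iSup_of_le (⟨coeff K A (S.restrictScalars K), coeff_ne_bot, isSubcoalg_coeff, fun B hle hB =>
    or_iff_not_imp_left.2 fun h0 => le_antisymm hle (coeff_le_of_subcoalg hsim hB hle h0)⟩ : 𝒟)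
    (le_coeff_restr S)

end Groth.Agent.S14847
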