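import Groth.Statements.S14848
import Mathlib
-- import your own Groth.Agent.* helpers here

set_option autoImplicit false
universe u v
open McKay

namespace Groth.Agent.S14848
section
variable {L : Type*} [Field L]

theorem pow_eigen (M : Matrix (Fin 2) (Fin 2) L) (v : Fin 2 → L) (x : L) (h : M.mulVec v = x • v) :
    ∀ m : ℕ, (M ^ m).mulVec v = x ^ m • v := by
  intro m
  induction m with
  | zero => simp
  | succ m ih => rw [pow_succ, ← Matrix.mulVec_mulVec, h, Matrix.mulVec_smul, ih, smul_smul, mul_comm, ← pow_succ]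

theorem pow_eq_one_iff (ξ : L) (hξ : ξ ≠ 0) (hne : ξ ≠ ξ⁻¹) (m : ℕ) :
    (!![0, -1; 1, ξ + ξ⁻¹] : Matrix (Fin 2) (Fin 2) L) ^ m = 1 ↔ ξ ^ m = 1 := by
  set M := (!![0, -1; 1, ξ + ξ⁻¹] : Matrix (Fin 2) (Fin 2) L)
  have h1 : M.mulVec ![1, -ξ] = ξ • ![1, -ξ] := by
    ext i; fin_cases i <;> simp [M, Matrix.mulVec, dotProduct, Fin.sum_univ_two] <;> field_simp <;> ring
  have h2 : M.mulVec ![1, -ξ⁻¹] = ξ⁻¹ • ![1, -ξ⁻¹] := by
    ext i; fin_cases i <;> simp [M, Matrix.mulVec, dotProduct, Fin.sum_univ_two] <;> field_simp <;> ring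
  constructor
  · intro h
    have := pow_eigen M _ _ h1 m
    rw [h, Matrix.one_mulVec] at this
    simpa using (congrFun this 0).symm
  · intro h
    refine Matrix.ext_of_mulVec_single fun i => ?_
    have a1 := pow_eigen M _ _ h1 m
    have a2 := pow_eigen M _ _ h2 m
    rw [inv_pow, h, inv_one, one_smul] at a2
    rw [h, one_smul] at a1
    have hd : ξ⁻¹ - ξ ≠ 0 := sub_ne_zero.2 (Ne.symm hne)
    have b1 : (M ^ m).mulVec (Pi.single 1 1) = Pi.single 1 1 := by
      have e : (Pi.single 1 1 : Fin 2 → L) = (ξ⁻¹ - ξ)⁻¹ • (![1, -ξ] - ![1, -ξ⁻¹]) := by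
        funext j
        fin_cases j
        · simp
        · simp [neg_add_eq_sub, inv_mul_cancel₀ hd]
      rw [e, Matrix.mulVec_smul, Matrix.mulVec_sub, a1, a2]
    fin_cases i
    · have e : (Pi.single 0 1 : Fin 2 → L) = ![1, -ξ] + ξ • Pi.single 1 1 := by
        ext j; fin_cases j <;> simp
      simp only [Fin.zero_eta, Matrix.one_mulVec]
      rw [e, Matrix.mulVec_add, Matrix.mulVec_smul, a1, b1]
    · simp only [Fin.mk_one, Matrix.one_mulVec]
      exact b1

end

/-- Let K be a field of characteristic zero, L an extension field of K and ξ ∈ L a primitive n-th root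
of unity (n ≥ 1) with ξ + ξ⁻¹ ∈ K, say ξ + ξ⁻¹ = 2c with c ∈ K (the character of the natural
two-dimensional representation of the cyclic group of order n takes values in K). Then the cyclic
group of order n is realisable over K as a subgroup of SL(2, K): there is an element of SL(2, K) of
order n. -/
theorem result {K : Type u} {L : Type v} [Field K] [Field L]
    [CharZero K] [Algebra K L] (n : ℕ) (hn : 1 ≤ n) (ξ : L) (hξ : IsPrimitiveRoot ξ n) (c : K)
    (hc : algebraMap K L (2 * c) = ξ + ξ⁻¹) :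
    ∃ M : Matrix.SpecialLinearGroup (Fin 2) K, orderOf M = n := by
  rcases (show n = 1 ∨ n = 2 ∨ 3 ≤ n by omega) with h | h | h
  · exact ⟨1, by simp [h]⟩
  · subst h
    refine ⟨⟨!![-1, 0; 0, -1], by simp [Matrix.det_fin_two]⟩, orderOf_eq_prime ?_ ?_⟩
    · apply Matrix.SpecialLinearGroup.ext
      intro i j
      fin_cases i <;> fin_cases j <;> simp [pow_two, Matrix.mul_apply, Fin.sum_univ_two]
    · intro e
      have := congrArg (fun A : Matrix.SpecialLinearGroup (Fin 2) K => (A : Matrix (Fin 2) (Fin 2) K) 0 0) e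
      simp at this
      norm_num at this
  · refine ⟨⟨!![0, -1; 1, 2 * c], by simp [Matrix.det_fin_two]⟩, ?_⟩
    have hne : ξ ≠ ξ⁻¹ := by
      intro e
      have : ξ ^ 2 = 1 := by
        rw [pow_two]
        nth_rw 2 [e]
        exact mul_inv_cancel₀ (hξ.ne_zero (by omega))
      have := hξ.eq_orderOf ▸ orderOf_dvd_of_pow_eq_one this
      have := Nat.le_of_dvd two_pos this
      omega
    rw [hξ.eq_orderOf]
    refine orderOf_eq_orderOf_iff.2 fun m => ?_
    rw [← pow_eq_one_iff ξ (hξ.ne_zero (by omega)) hne m]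
    have inj : ∀ a b : Matrix.SpecialLinearGroup (Fin 2) K, a = b ↔ (a : Matrix (Fin 2) (Fin 2) K) = b :=
      fun a b => ⟨fun h => h ▸ rfl, fun h => Subtype.ext h⟩
    refine (inj _ _).trans ?_
    rw [Matrix.SpecialLinearGroup.coe_pow, Matrix.SpecialLinearGroup.coe_one]
    rw [← (Matrix.map_injective (algebraMap K L).injective).eq_iff]
    have : (!![0, -1; 1, 2 * c] : Matrix (Fin 2) (Fin 2) K).map (algebraMap K L) = !![0, -1; 1, ξ + ξ⁻¹] := by
      ext i j; fin_cases i <;> fin_cases j <;> simp [← hc]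
    show ((_ : Matrix (Fin 2) (Fin 2) K) ^ m).map (algebraMap K L) = _ ↔ _
    rw [← RingHom.mapMatrix_apply, map_pow, RingHom.mapMatrix_apply, this, Matrix.map_one _ (map_zero _) (map_one _)]

end Groth.Agent.S14848
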