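import Groth.Statements.S14849
import Mathlib
-- import your own Groth.Agent.* helpers here

set_option autoImplicit false
universe u v
open McKay

namespace Groth.Agent.S14849
section
variable {G : Type*} [Group G] (n : ℕ) [NeZero n] (s t : G) (hs : s ^ (2 * n) = 1) (ht : t * t = s ^ n)
  (hst : t * s * t⁻¹ = s⁻¹)

include hs in
theorem zpow_val_add (i j : ZMod (2 * n)) : s ^ (i + j).val = s ^ i.val * s ^ j.val := by
  rw [← pow_add, ZMod.val_add, ← pow_eq_pow_mod _ hs]

include hs in
theorem pow_val_neg (i : ZMod (2 * n)) : s ^ (-i).val = (s ^ i.val)⁻¹ := by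
  refine eq_inv_of_mul_eq_one_left ?_
  rw [← zpow_val_add n s hs, neg_add_cancel, ZMod.val_zero, pow_zero]

include hst in
theorem comm_t (k : ℕ) : s ^ k * t = t * (s ^ k)⁻¹ := by
  induction k with
  | zero => simp
  | succ k ih =>
    have h1 : s * t = t * s⁻¹ := by
      have h2 : t * s = s⁻¹ * t := by rw [← hst]; group
      have : s * (t * s) * s⁻¹ = s * (s⁻¹ * t) * s⁻¹ := by rw [h2]
      simpa [mul_assoc] using this
    rw [pow_succ, mul_assoc, h1, ← mul_assoc, ih]
    rw [mul_inv_rev, mul_assoc]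
    congr 1
    exact ((Commute.refl s).pow_left k).inv_inv.eq

/-- The homomorphism out of the generalised quaternion group attached to two elements. -/
noncomputable def quatHom : QuaternionGroup n →* G where
  toFun x := match x with
    | .a i => s ^ i.val
    | .xa i => t * s ^ i.val
  map_one' := by show s ^ (0 : ZMod (2*n)).val = 1; simp
  map_mul' := by
    rintro (i | i) (j | j)
    · exact zpow_val_add n s hs i j
    · show t * s ^ (j - i).val = s ^ i.val * (t * s ^ j.val)
      rw [← mul_assoc, comm_t s t hst, mul_assoc, sub_eq_add_neg, zpow_val_add n s hs, pow_val_neg n s hs,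
        (((Commute.refl s).pow_pow j.val i.val).inv_right).eq]
    · show t * s ^ (i + j).val = t * s ^ i.val * s ^ j.val
      rw [zpow_val_add n s hs, mul_assoc]
    · show s ^ ((n : ZMod (2*n)) + j - i).val = t * s ^ i.val * (t * s ^ j.val)
      have hn : (n : ZMod (2*n)).val = n := ZMod.val_cast_of_lt (by have := NeZero.ne n; omega)
      rw [← mul_assoc, mul_assoc t, comm_t s t hst, ← mul_assoc, ht, sub_eq_add_neg, zpow_val_add n s hs,
        zpow_val_add n s hs, pow_val_neg n s hs, hn, mul_assoc, mul_assoc, (((Commute.refl s).pow_pow j.val i.val).inv_right).eq]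

theorem quatHom_injective (hord : orderOf s = 2 * n) (hnot : s * s ≠ 1) :
    Function.Injective (quatHom n s t hs ht hst) := by
  rw [injective_iff_map_eq_one]
  rintro (i | i) h
  · have h' : s ^ i.val = 1 := h
    have := hord ▸ orderOf_dvd_of_pow_eq_one h'
    have hi : i = 0 := (ZMod.val_eq_zero i).1 (Nat.eq_zero_of_dvd_of_lt this (ZMod.val_lt i))
    rw [hi]; rfl
  · exfalso
    have h' : t = (s ^ i.val)⁻¹ := eq_inv_of_mul_eq_one_left h
    apply hnot
    have hc : t * s * t⁻¹ = s := by
      have : Commute t s := h' ▸ ((Commute.refl s).pow_left i.val).inv_left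
      rw [this.eq, mul_inv_cancel_right]
    have := hst.symm.trans hc
    nth_rw 2 [← this]
    exact mul_inv_cancel s

end

theorem sigma_order {K L : Type*} [Field K] [Field L] [Algebra K L] (n : ℕ) (hn : 2 ≤ n) (ξ : L)
    (hξ : IsPrimitiveRoot ξ (2 * n)) (c : K) (hc : algebraMap K L (2 * c) = ξ + ξ⁻¹)
    (s : Matrix.SpecialLinearGroup (Fin 2) K) (hs : (s : Matrix (Fin 2) (Fin 2) K) = !![c, c^2-1; 1, c]) :
    orderOf s = 2 * n ∧ ((s ^ n : Matrix.SpecialLinearGroup (Fin 2) K) : Matrix (Fin 2) (Fin 2) K) = -1 := by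
  set M := (!![c, c^2-1; 1, c] : Matrix (Fin 2) (Fin 2) K).map (algebraMap K L)
  have h0 : ξ ≠ 0 := hξ.ne_zero (by omega)
  have hne : ξ ≠ ξ⁻¹ := by
    intro e
    have : ξ ^ 2 = 1 := by
      rw [pow_two]
      nth_rw 2 [e]
      exact mul_inv_cancel₀ h0
    have := hξ.eq_orderOf ▸ orderOf_dvd_of_pow_eq_one this
    have := Nat.le_of_dvd two_pos this
    omega
  set C := algebraMap K L c
  have hc' : 2 * C = ξ + ξ⁻¹ := by rw [← hc, map_mul, map_ofNat]
  have hd : ξ + ξ⁻¹ = ξ + ξ⁻¹ := rfl
  have hinv : ξ * ξ⁻¹ = 1 := mul_inv_cancel₀ h0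
  have eig : ∀ z w : L, z + w = 2 * C → z * w = 1 → M.mulVec ![z - C, 1] = z • ![z - C, 1] := by
    intro z w e1 e2
    ext i; fin_cases i <;> simp [M, C, Matrix.mulVec, dotProduct, Fin.sum_univ_two] <;> linear_combination -z * e1 + e2
  have hpow : ∀ m : ℕ, M ^ m = (((s ^ m : Matrix.SpecialLinearGroup (Fin 2) K)) : Matrix (Fin 2) (Fin 2) K).map (algebraMap K L) := by
    intro m
    rw [Matrix.SpecialLinearGroup.coe_pow, hs, ← RingHom.mapMatrix_apply, map_pow]; rfl
  have e1 := eig ξ ξ⁻¹ hc'.symm hinv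
  have e2 := eig ξ⁻¹ ξ (by rw [hc', add_comm]) (by rw [mul_comm, hinv])
  have ev : ∀ (m : ℕ) (v : Fin 2 → L) (z : L), M.mulVec v = z • v → (M ^ m).mulVec v = z ^ m • v := by
    intro m v z h
    induction m with
    | zero => simp
    | succ m ih => rw [pow_succ, ← Matrix.mulVec_mulVec, h, Matrix.mulVec_smul, ih, smul_smul, mul_comm, ← pow_succ]
  have hscal : ∀ (m : ℕ) (z : L), ξ ^ m = z → (ξ⁻¹) ^ m = z → M ^ m = z • (1 : Matrix (Fin 2) (Fin 2) L) := by
    intro m z hz hz'
    have a1 := ev m _ _ e1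
    have a2 := ev m _ _ e2
    rw [hz] at a1; rw [hz'] at a2
    have hd : ξ - ξ⁻¹ ≠ 0 := sub_ne_zero.2 hne
    have b0 : (M ^ m).mulVec (Pi.single 0 1) = z • Pi.single 0 1 := by
      have e : (Pi.single 0 1 : Fin 2 → L) = (ξ - ξ⁻¹)⁻¹ • (![ξ - C, 1] - ![ξ⁻¹ - C, 1]) := by
        funext j; fin_cases j <;> simp [inv_mul_cancel₀ hd]
      rw [e, Matrix.mulVec_smul, Matrix.mulVec_sub, a1, a2, ← smul_sub, smul_comm]
    have b1 : (M ^ m).mulVec (Pi.single 1 1) = z • Pi.single 1 1 := by
      have e : (Pi.single 1 1 : Fin 2 → L) = ![ξ - C, 1] - (ξ - C) • Pi.single 0 1 := by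
        funext j; fin_cases j <;> simp
      rw [e, Matrix.mulVec_sub, Matrix.mulVec_smul, a1, b0, smul_sub, smul_comm]
    refine Matrix.ext_of_mulVec_single fun i => ?_
    rw [Matrix.smul_mulVec, Matrix.one_mulVec]
    fin_cases i
    · exact b0
    · exact b1
  have hn1 : ξ ^ n = -1 := by
    have h2 : (ξ ^ n) ^ 2 = 1 := by rw [← pow_mul, mul_comm]; exact hξ.pow_eq_one
    rcases sq_eq_one_iff.1 h2 with h | h
    · exact absurd (Nat.le_of_dvd (by omega) ((hξ.pow_eq_one_iff_dvd n).1 h)) (by omega)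
    · exact h
  constructor
  · rw [hξ.eq_orderOf]
    refine orderOf_eq_orderOf_iff.2 fun m => ⟨fun h => ?_, fun h => ?_⟩
    · have := hpow m
      rw [h, Matrix.SpecialLinearGroup.coe_one, Matrix.map_one _ (map_zero _) (map_one _)] at this
      have a1 := ev m _ _ e1
      rw [this, Matrix.one_mulVec] at a1
      simpa using (congrFun a1 1).symm
    · have h' := hscal m 1 h (by rw [inv_pow, h, inv_one])
      rw [hpow, one_smul, ← Matrix.map_one (algebraMap K L) (map_zero _) (map_one _)] at h'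
      exact Subtype.ext (Matrix.map_injective (algebraMap K L).injective h')
  · have h' := hscal n (-1) hn1 (by rw [inv_pow, hn1, inv_neg, inv_one])
    rw [hpow] at h'
    apply Matrix.map_injective (algebraMap K L).injective
    simp only [h']
    ext i j; fin_cases i <;> fin_cases j <;> simp


/-- Let K be a field of characteristic zero, L an extension field of K, n ≥ 2, and ξ ∈ L a primitive
2n-th root of unity with ξ + ξ⁻¹ = 2c for some c ∈ K. If the Hilbert symbol of -1 and c² - 1 over K
equals 1, i.e. x² - (c² - 1) y² = -1 has a solution in K, then the binary dihedral group of order 4n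
(generators σ, τ with τ² = σⁿ = (τσ)²) is isomorphic to a subgroup of SL(2, K). (The published
statement is an equivalence; this row is the direction realising the group from a solution of the
conic.) -/
theorem result {K : Type u} {L : Type v}
    [Field K] [Field L] [CharZero K] [Algebra K L] (n : ℕ) (hn : 2 ≤ n) (ξ : L)
    (hξ : IsPrimitiveRoot ξ (2 * n)) (c : K) (hc : algebraMap K L (2 * c) = ξ + ξ⁻¹)
    (hsol : ∃ x y : K, x ^ 2 - (c ^ 2 - 1) * y ^ 2 = -1) :
    ∃ f : QuaternionGroup n →* Matrix.SpecialLinearGroup (Fin 2) K, Function.Injective f := by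
  obtain ⟨x, y, hxy⟩ := hsol
  have : NeZero n := ⟨by omega⟩
  let s : Matrix.SpecialLinearGroup (Fin 2) K := ⟨!![c, c^2-1; 1, c], by simp [Matrix.det_fin_two]; ring⟩
  let t : Matrix.SpecialLinearGroup (Fin 2) K := ⟨!![x, (c^2-1) * y; -y, -x], by
    simp [Matrix.det_fin_two]; linear_combination -hxy⟩
  obtain ⟨hord, hsn⟩ := sigma_order n hn ξ hξ c hc s rfl
  have hs : s ^ (2 * n) = 1 := hord ▸ pow_orderOf_eq_one s
  have ht : t * t = s ^ n := by
    apply Subtype.ext
    rw [hsn]
    ext i j
    fin_cases i <;> fin_cases j <;> simp [t, Matrix.mul_apply, Fin.sum_univ_two] <;> first | linear_combination hxy | ring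
  have hst : t * s * t⁻¹ = s⁻¹ := by
    rw [mul_inv_eq_iff_eq_mul]
    apply Subtype.ext
    ext i j
    fin_cases i <;> fin_cases j <;> simp [t, s, Matrix.mul_apply, Fin.sum_univ_two, Matrix.SpecialLinearGroup.coe_inv, Matrix.adjugate_fin_two] <;> ring
  refine ⟨quatHom n s t hs ht hst, quatHom_injective n s t hs ht hst hord fun h => ?_⟩
  have h2 : s ^ 2 = 1 := by rw [pow_two]; exact h
  have := Nat.le_of_dvd two_pos (hord ▸ orderOf_dvd_of_pow_eq_one h2)
  omega

end Groth.Agent.S14849
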