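import Groth.Statements.S14850
import Groth.Agent.Comod.Cosemisimple

set_option autoImplicit false
universe u v
open HopfRep

namespace Groth.Agent.S14850

open scoped Groth.Agent.Comod
open Groth.Agent.Comod


open TensorProduct in
/-- Over a field K, a nonzero coalgebra C is simple if and only if C is isotypic as a right comodule
over itself, i.e. C is the internal direct sum of the images of a family of injective comodule maps
from one simple right C-comodule E. Here a subcoalgebra of C is a subspace B whose comultiplication
lands in the image of B ⊗ B, and C is simple when its only subcoalgebras are 0 and C. (Stated for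
the right regular comodule; the published statement allows left or right.) -/
theorem result {K : Type u} {C : Type v} [Field K] [AddCommGroup C]
    [Module K C] [Coalgebra K C] [Nontrivial C] :
    (∀ B : Submodule K C, (∀ b ∈ B, CoalgebraStruct.comul (R := K) b ∈ LinearMap.range (TensorProduct.map B.subtype B.subtype)) → B = ⊥ ∨ B = ⊤) ↔
    ∃ (E : Type v) (_ : AddCommGroup E) (_ : Module K E) (_ : HopfRep.Comod K C E),
      HopfRep.IsSimpleComod K C E ∧
      ∃ (ι : Type v) (f : ι → (E →ₗ[K] C)),
        (∀ i, Hoch.IsComodHom C (f i) ∧ Function.Injective (f i)) ∧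
        iSupIndep (fun i => LinearMap.range (f i)) ∧ (⨆ i, LinearMap.range (f i)) = ⊤ := by
  classical
  have hT : IsSubcoalg (⊤ : Submodule K C) :=
    isSubcoalg_of_slR_slL (fun _ _ _ => Submodule.mem_top) (fun _ _ _ => Submodule.mem_top)
  constructor
  · intro hC
    obtain ⟨S, hS, hs⟩ := exists_simple_le (M := toSub hT.isSubcomod) (fun h => by
      obtain ⟨c, hc⟩ := exists_ne (0 : C)
      exact hc ((Submodule.eq_bot_iff _).1 h c Submodule.mem_top))
    haveI := hs
    letI := subComod S
    haveI : IsSimpleModule (DualAlg K C) (S.restrictScalars K) := IsSimpleModule.congr (N := S) (subLinearEquiv S)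
    have heq := coeff_sub_eq hT (fun B _ hB => hC B hB) S hS
    have hsemi : IsSemisimpleModule (DualAlg K C) C := by
      have h := isSemisimpleModule_coeff (k := K) (C := C) (V := S.restrictScalars K)
      have htop : toSub (isSubcoalg_coeff (k := K) (C := C) (V := S.restrictScalars K)).isSubcomod = ⊤ :=
        SetLike.ext fun x => by rw [mem_toSub, heq]; exact iff_of_true Submodule.mem_top Submodule.mem_top
      rw [htop] at h
      exact (Submodule.topEquiv (R := DualAlg K C) (M := C)).isSemisimpleModule_iff.1 h
    obtain ⟨s, hind, htop, hsim⟩ := IsSemisimpleModule.exists_sSupIndep_sSup_simples_eq_top (DualAlg K C) C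
    refine ⟨S.restrictScalars K, inferInstance, inferInstance, subComod S, isSimpleComod_iff.2 ‹_›, s, ?_⟩
    have he : ∀ m : s, Nonempty ((S.restrictScalars K) ≃ₗ[DualAlg K C] (m : Submodule (DualAlg K C) C)) := by
      intro m
      haveI := hsim _ m.2
      exact (linearEquiv_of_le_coeff (k := K) (C := C) (V := S.restrictScalars K) m.1 (by
        rw [heq]; exact le_top)).map LinearEquiv.symm
    refine ⟨fun m => ((m : Submodule (DualAlg K C) C).subtype.restrictScalars K) ∘ₗ ((he m).some.toLinearMap.restrictScalars K),
      fun m => ⟨?_, ?_⟩, ?_, ?_⟩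
    · exact isComodHom_restrictScalars ((m : Submodule (DualAlg K C) C).subtype ∘ₗ (he m).some.toLinearMap)
    · exact (Submodule.injective_subtype _).comp (he m).some.injective
    all_goals
      have hr : ∀ m : s, LinearMap.range (((m : Submodule (DualAlg K C) C).subtype.restrictScalars K) ∘ₗ
          ((he m).some.toLinearMap.restrictScalars K)) = (m : Submodule (DualAlg K C) C).restrictScalars K := by
        intro m
        refine le_antisymm ?_ fun x hx => ⟨(he m).some.symm ⟨x, hx⟩, by simp⟩
        rintro _ ⟨x, rfl⟩
        exact ((he m).some x).2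
      simp only [hr]
    · exact (iSupIndep_restrictScalars _).2 ((sSupIndep_iff _).1 hind)
    · exact (iSup_restrictScalars_eq_top _).2 (by rw [← sSup_eq_iSup']; exact htop)
  · rintro ⟨E, _, _, _, hE, ι, f, hf, -, hsum⟩ B hB
    refine or_iff_not_imp_left.2 fun hB0 => ?_
    haveI := isSimpleComod_iff.1 hE
    have hBc : IsSubcoalg B := hB
    obtain ⟨S, hS, hs⟩ := exists_simple_le (M := toSub hBc.isSubcomod)
      (fun h => hB0 ((Submodule.eq_bot_iff _).2 fun x hx => (Submodule.eq_bot_iff _).1 h x hx))
    haveI := hs
    let s : Set (Submodule (DualAlg K C) C) := Set.range fun i => LinearMap.range (toHom (hf i).1)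
    haveI : ∀ q : s, IsSimpleModule (DualAlg K C) q := by
      rintro ⟨_, i, rfl⟩
      exact IsSimpleModule.congr (N := E) (LinearEquiv.ofInjective (toHom (hf i).1) (hf i).2).symm
    have htop : (⊤ : Submodule (DualAlg K C) C) ≤ sSup s := by
      rw [sSup_range, top_le_iff, ← iSup_restrictScalars_eq_top (k := K)]
      exact hsum
    obtain ⟨_, ⟨i, rfl⟩, ⟨e⟩⟩ := Submodule.linearEquiv_of_le_sSup S s (le_top.trans htop)
    letI := subComod S
    have h3 := coeff_congr ((subLinearEquiv S).trans
      (e.trans (LinearEquiv.ofInjective (toHom (hf i).1) (hf i).2).symm))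
    have hle : coeff K C E ≤ B := h3 ▸ coeff_restr_le hBc S hS
    rw [eq_top_iff, ← hsum]
    refine iSup_le fun j => ?_
    rintro _ ⟨x, rfl⟩
    refine hle ?_
    have : coeffMap (C := C) ((Coalgebra.counit (R := K)) ∘ₗ f j) x = f j x := by
      have h := LinearMap.congr_fun (hf j).1 x
      simp only [LinearMap.comp_apply] at h
      rw [coeffMap_apply, ← slL_rTensor, ← h]
      exact slL_counit_comul _
    rw [← this]
    exact coeffMap_mem_coeff _ _

end Groth.Agent.S14850
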