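import Groth.Statements.S14851
import Groth.Agent.Comod.Cosemisimple

set_option autoImplicit false
universe u v w w'
open HopfRep

namespace Groth.Agent.S14851

open scoped Groth.Agent.Comod
open Groth.Agent.Comod


open TensorProduct in
/-- The map E ↦ C(E) from isomorphism classes of simple comodules to simple subcoalgebras is injective,
that is: over a field K, two simple right comodules E, E' over a coalgebra C with the same
coefficient space D (the least subspace D' of C such that the coaction lands in E ⊗ D', resp. E' ⊗
D') are isomorphic as comodules. (The published statement is made for a cosemisimple coalgebra and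
for left comodules; the printed argument for this part uses neither restriction.) -/
theorem result {K : Type u} {C : Type v} [Field K]
    [AddCommGroup C] [Module K C] [Coalgebra K C]
    {E : Type w} [AddCommGroup E] [Module K E] [HopfRep.Comod K C E]
    {E' : Type w'} [AddCommGroup E'] [Module K E'] [HopfRep.Comod K C E']
    (hE : HopfRep.IsSimpleComod K C E) (hE' : HopfRep.IsSimpleComod K C E') (D : Submodule K C)
    (hD : IsLeast {D' : Submodule K C |
      ∀ e : E, HopfRep.Comod.coact (k := K) (A := C) e ∈ LinearMap.range (LinearMap.lTensor E D'.subtype)} D)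
    (hD' : IsLeast {D' : Submodule K C |
      ∀ e : E', HopfRep.Comod.coact (k := K) (A := C) e ∈ LinearMap.range (LinearMap.lTensor E' D'.subtype)} D) :
    ∃ e : E ≃ₗ[K] E', Hoch.IsComodHom C e.toLinearMap := by
  have h1 : D = coeff K C E := hD.unique isLeast_coeff
  have h2 : D = coeff K C E' := hD'.unique isLeast_coeff
  haveI := isSimpleComod_iff.1 hE
  haveI := isSimpleComod_iff.1 hE'
  haveI := hE'.1
  obtain ⟨v, hv⟩ := exists_ne (0 : E')
  obtain ⟨ψ, hψ⟩ := Module.Projective.exists_dual_eq_one K hv
  have hne : toHom (isComodHom_coeffMap (C := C) ψ) ≠ 0 := fun h => by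
    have : coeffMap (C := C) ψ v = 0 := LinearMap.congr_fun h v
    have h2 := counit_coeffMap (C := C) ψ v
    rw [this, map_zero, hψ] at h2
    exact zero_ne_one h2
  let e0 := LinearEquiv.ofInjective _ (LinearMap.injective_of_ne_zero hne)
  haveI : IsSimpleModule (DualAlg K C) (LinearMap.range (toHom (isComodHom_coeffMap (C := C) ψ))) :=
    IsSimpleModule.congr (N := E') e0.symm
  obtain ⟨e⟩ := linearEquiv_of_le_coeff (k := K) (C := C) (V := E)
    (LinearMap.range (toHom (isComodHom_coeffMap (C := C) ψ))) (by
      rw [← h1, h2]
      rintro _ ⟨w, rfl⟩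
      exact coeffMap_mem_coeff ψ w)
  exact ⟨(e0.trans e).symm.restrictScalars K, isComodHom_equiv _⟩

end Groth.Agent.S14851
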