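import Groth.Statements.S14857
import Mathlib.RingTheory.WittVector.Identities
import Mathlib.RingTheory.WittVector.Domain
import Mathlib.Algebra.CharP.Lemmas

set_option autoImplicit false
open CAlg

namespace Groth.Agent.S14857

/-- For a prime p, the Teichmüller representative [p^p] of the element p^p of the p-adic integers is
divisible by p in the ring of p-typical Witt vectors W(ℤ_p). -/
theorem result (p : ℕ) [Fact p.Prime] :
    (p : WittVector p ℤ_[p]) ∣ WittVector.teichmuller p ((p : ℤ_[p]) ^ p) := by
  set W := WittVector.teichmuller p (p : ℤ_[p]) with hW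
  have h0 : ((W - (p : WittVector p ℤ_[p])).coeff 0) = 0 := by
    have : WittVector.constantCoeff (W - (p : WittVector p ℤ_[p])) = 0 := by
      rw [map_sub, map_natCast]
      simp [W, WittVector.constantCoeff_apply, WittVector.teichmuller_coeff_zero]
    simpa [WittVector.constantCoeff_apply] using this
  obtain ⟨a, ha⟩ : ∃ a, W - (p : WittVector p ℤ_[p]) = WittVector.verschiebung a := by
    exact ⟨_, WittVector.eq_iterate_verschiebung (n := 1) (by intro i hi; interval_cases i; exact h0)⟩
  have h2 : (p : WittVector p ℤ_[p]) ∣ (WittVector.verschiebung a) ^ 2 := by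
    refine ⟨WittVector.verschiebung (a * a), ?_⟩
    rw [sq, ← WittVector.verschiebung_mul_frobenius, WittVector.frobenius_verschiebung, ← mul_assoc]
    conv_lhs => rw [← map_natCast (WittVector.frobenius (R := ℤ_[p]) (p := p)) p]
    rw [WittVector.verschiebung_mul_frobenius, mul_comm]
  have hpow : WittVector.teichmuller p ((p : ℤ_[p]) ^ p) = W ^ p := map_pow _ _ _
  rw [hpow, show W = (p : WittVector p ℤ_[p]) + WittVector.verschiebung a by rw [← ha]; ring]
  rw [add_pow_prime_eq (Fact.out : p.Prime)]
  have hp2 : 2 ≤ p := (Fact.out : p.Prime).two_le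
  refine dvd_add (dvd_add (dvd_pow_self _ (by omega)) ?_) ?_
  · exact h2.trans (pow_dvd_pow _ hp2)
  · simp only [mul_assoc]; exact Dvd.intro _ rfl

end Groth.Agent.S14857
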