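import Groth.Statements.S14859
import Groth.Agent.DispLib.Basic

set_option autoImplicit false
universe u v w
open Disp

namespace Groth.Agent.S14859

/-- Let p be a prime, R a commutative ring with p-typical Witt vectors W = W(R), and (P, Q, F, V⁻¹) a
3n-display over R with a normal decomposition P = L ⊕ T, Q = L + I_R·T. Then V⁻¹ ⊕ F : L ⊕ T → P is
a Frobenius-linear isomorphism; stated here in the case where L and T are free with bases (l_i) and
(t_j): the family consisting of the V⁻¹(l_i) and the F(t_j) is a basis of the W-module P, i.e. it is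
linearly independent over W and spans P. -/
theorem result (p : ℕ) [Fact p.Prime] (R : Type u) [CommRing R]
    (P : Type v) [AddCommGroup P] [Module (WittVector p R) P] (D : W4c1extbt610.Display3n p R P)
    (L T : Submodule (WittVector p R) P) (hLT : IsCompl L T)
    (hQ : D.Q = L ⊔ W4c1extbt610.IV p R • T) (hLQ : L ≤ D.Q)
    (ιL ιT : Type w) (bL : Module.Basis ιL (WittVector p R) L) (bT : Module.Basis ιT (WittVector p R) T) :
    LinearIndependent (WittVector p R)
        (Sum.elim (fun i : ιL => D.Vinv ⟨(bL i : P), hLQ (bL i).2⟩) (fun j : ιT => D.F (bT j : P))) ∧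
      Submodule.span (WittVector p R)
        (Set.range (Sum.elim (fun i : ιL => D.Vinv ⟨(bL i : P), hLQ (bL i).2⟩) (fun j : ιT => D.F (bT j : P)))) = ⊤ := by
  classical
  haveI := D.finite
  let v : ιL ⊕ ιT → P := Sum.elim (fun i : ιL => D.Vinv ⟨(bL i : P), hLQ (bL i).2⟩) (fun j : ιT => D.F (bT j : P))
  let S' := Submodule.span (WittVector p R) (Set.range v)
  have hF : ∀ t ∈ T, D.F t ∈ S' := by
    intro t ht
    have h1 := congrArg (D.F.comp T.subtype) (bT.linearCombination_repr ⟨t, ht⟩)
    simp only [Finsupp.linearCombination_apply, Finsupp.sum, map_sum, map_smulₛₗ, LinearMap.comp_apply,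
      Submodule.subtype_apply] at h1
    rw [← h1]
    exact Submodule.sum_mem _ fun j _ => Submodule.smul_mem _ _ (Submodule.subset_span ⟨Sum.inr j, rfl⟩)
  have hspan : S' = ⊤ := by
    rw [eq_top_iff, ← D.span_range_Vinv, Submodule.span_le]
    rintro _ ⟨⟨y, hy⟩, rfl⟩
    have hy' := hy
    rw [hQ] at hy'
    obtain ⟨l, hl, t, ht, rfl⟩ := Submodule.mem_sup.1 hy'
    have htQ : t ∈ D.Q := D.IV_smul_le (Submodule.smul_mono le_rfl le_top ht)
    rw [show (⟨l + t, hy⟩ : D.Q) = ⟨l, hLQ hl⟩ + ⟨t, htQ⟩ from rfl, map_add]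
    refine Submodule.add_mem _ ?_ ?_
    · have h1 := congrArg (D.Vinv.comp (Submodule.inclusion hLQ)) (bL.linearCombination_repr ⟨l, hl⟩)
      simp only [Finsupp.linearCombination_apply, Finsupp.sum, map_sum, map_smulₛₗ, LinearMap.comp_apply,
        Submodule.inclusion_apply] at h1
      rw [← h1]
      exact Submodule.sum_mem _ fun j _ => Submodule.smul_mem _ _ (Submodule.subset_span ⟨Sum.inl j, rfl⟩)
    · suffices h : ∃ h : t ∈ D.Q, D.Vinv ⟨t, h⟩ ∈ S' from h.2
      refine Submodule.smul_induction_on ht (fun r hr m hm => ?_) (fun a b ha hb => ?_)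
      · refine ⟨Groth.Agent.DispLib.smul_mem_Q D (Groth.Agent.DispLib.mem_IV.1 hr) m, ?_⟩
        rw [Groth.Agent.DispLib.Vinv_smul D (Groth.Agent.DispLib.mem_IV.1 hr) m]
        exact Submodule.smul_mem _ _ (hF m hm)
      · obtain ⟨ha', ha⟩ := ha
        obtain ⟨hb', hb⟩ := hb
        refine ⟨D.Q.add_mem ha' hb', ?_⟩
        rw [show (⟨a + b, D.Q.add_mem ha' hb'⟩ : D.Q) = ⟨a, ha'⟩ + ⟨b, hb'⟩ from rfl, map_add]
        exact S'.add_mem ha hb
  refine ⟨?_, hspan⟩
  let b := (bL.prod bT).map (Submodule.prodEquivOfIsCompl L T hLT)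
  let f : P →ₗ[WittVector p R] P := b.constr (WittVector p R) v
  have hfs : Function.Surjective f := by
    rw [← LinearMap.range_eq_top, Module.Basis.constr_range]
    exact hspan
  have hfi := OrzechProperty.injective_of_surjective_endomorphism f hfs
  have h2 : LinearIndependent (WittVector p R) (f ∘ b) := b.linearIndependent.map' f (LinearMap.ker_eq_bot.2 hfi)
  have h3 : f ∘ b = v := funext fun i => b.constr_basis (WittVector p R) v i
  rwa [h3] at h2

end Groth.Agent.S14859
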