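import Groth.Statements.S14860
import Mathlib
import Groth.Agent.CAlgH.WittLift

set_option autoImplicit false
universe u v
open CAlg

namespace Groth.Agent.S14860

section
variable {W : Type u} [CommRing W] {n : ℕ}

theorem mem_smul_top_pi {J : Ideal W} {y : Fin n → W} :
    y ∈ J • (⊤ : Submodule W (Fin n → W)) ↔ ∀ k, y k ∈ J := by
  constructor
  · intro hy k
    refine Submodule.smul_induction_on hy (fun a ha z _ => ?_) fun a b ha hb => add_mem ha hb
    exact J.mul_mem_right _ ha
  · intro h
    rw [pi_eq_sum_univ y]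
    exact sum_mem fun k _ => Submodule.smul_mem_smul (h k) trivial

theorem lift_of_killed (J : Ideal W) {P : Type v} [AddCommGroup P] [Module W P]
    [Module.Projective (W ⧸ J) (P ⧸ J • (⊤ : Submodule W P))]
    {F G : Type*} [AddCommGroup F] [Module W F] [AddCommGroup G] [Module W G]
    (f : F →ₗ[W] G) (hf : Function.Surjective f) (hF : ∀ a ∈ J, ∀ x : F, a • x = 0) (g : P →ₗ[W] G) :
    ∃ h : P →ₗ[W] F, f ∘ₗ h = g := by
  have hFt : Module.IsTorsionBySet W F J := fun x a => hF a a.2 x
  have hGt : Module.IsTorsionBySet W G J := fun y a => by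
    obtain ⟨x, rfl⟩ := hf y
    change (a : W) • f x = 0
    rw [← map_smul, hF a a.2, map_zero]
  letI : Module (W ⧸ J) F := hFt.module
  letI : Module (W ⧸ J) G := hGt.module
  haveI : IsScalarTower W (W ⧸ J) F := hFt.isScalarTower
  haveI : IsScalarTower W (W ⧸ J) G := hGt.isScalarTower
  have hg : J • (⊤ : Submodule W P) ≤ LinearMap.ker g := Submodule.smul_le.mpr fun a ha x _ => by
    rw [LinearMap.mem_ker, map_smul]; exact @hGt (g x) ⟨a, ha⟩
  have hs : Function.Surjective (algebraMap W (W ⧸ J)) := Ideal.Quotient.mk_surjective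
  obtain ⟨h, hh⟩ := Module.projective_lifting_property (f.extendScalarsOfSurjective hs)
    (((J • (⊤ : Submodule W P)).liftQ g hg).extendScalarsOfSurjective hs) hf
  exact ⟨(h.restrictScalars W) ∘ₗ (J • (⊤ : Submodule W P)).mkQ,
    LinearMap.ext fun x => LinearMap.congr_fun hh (Submodule.Quotient.mk x)⟩

theorem fg_proj_of_tower (I : ℕ → Ideal W) (hmono : ∀ m, I (m + 1) ≤ I m)
    (hsep : ∀ a : W, (∀ m, a ∈ I m) → a = 0)
    (hcompl : ∀ a : ℕ → W, (∀ m, a (m + 1) - a m ∈ I m) → ∃ L, ∀ m, a m - L ∈ I m)
    {P : Type v} [AddCommGroup P] [Module W P] (q : (Fin n → W) →ₗ[W] P)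
    (hgen : ∀ m, LinearMap.range q ⊔ I m • (⊤ : Submodule W P) = ⊤)
    (hP : ∀ x : P, (∀ m, x ∈ I m • (⊤ : Submodule W P)) → x = 0)
    (hproj : ∀ m, Module.Projective (W ⧸ I m) (P ⧸ I m • (⊤ : Submodule W P))) :
    Module.Finite W P ∧ Module.Projective W P := by
  let KF : ℕ → Submodule W (Fin n → W) := fun m => I m • ⊤
  let KP : ℕ → Submodule W P := fun m => I m • ⊤
  let qb : ∀ m, ((Fin n → W) ⧸ KF m) →ₗ[W] P ⧸ KP m := fun m =>
    Submodule.mapQ (KF m) (KP m) q (Submodule.smul_le.mpr fun a ha x _ => by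
      rw [Submodule.mem_comap, map_smul]; exact Submodule.smul_mem_smul ha trivial)
  have hqb : ∀ m, Function.Surjective (qb m) := by
    intro m y
    obtain ⟨y, rfl⟩ := Submodule.Quotient.mk_surjective _ y
    obtain ⟨_, ⟨c, rfl⟩, d, hd, rfl⟩ := Submodule.mem_sup.mp ((hgen m).symm ▸ Submodule.mem_top (x := y))
    exact ⟨Submodule.Quotient.mk c, ((Submodule.Quotient.eq _).mpr (by simpa using neg_mem hd))⟩
  have hkill : ∀ m, ∀ a ∈ I m, ∀ x : (Fin n → W) ⧸ KF m, a • x = 0 := by
    intro m a ha x
    obtain ⟨x, rfl⟩ := Submodule.Quotient.mk_surjective _ x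
    rw [← Submodule.Quotient.mk_smul, Submodule.Quotient.mk_eq_zero]
    exact Submodule.smul_mem_smul ha trivial
  have h0 : ∃ s : P →ₗ[W] (Fin n → W) ⧸ KF 0, qb 0 ∘ₗ s = (KP 0).mkQ :=
    haveI := hproj 0
    lift_of_killed (I 0) _ (hqb 0) (hkill 0) _
  have hstep : ∀ m (s : P →ₗ[W] (Fin n → W) ⧸ KF m), qb m ∘ₗ s = (KP m).mkQ →
      ∃ s' : P →ₗ[W] (Fin n → W) ⧸ KF (m + 1), qb (m + 1) ∘ₗ s' = (KP (m + 1)).mkQ ∧
        Submodule.factor (Submodule.smul_mono_left (hmono m)) ∘ₗ s' = s := by
    intro m s hs
    haveI := hproj (m + 1)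
    let red : ((Fin n → W) ⧸ KF (m + 1)) →ₗ[W] (Fin n → W) ⧸ KF m :=
      Submodule.factor (Submodule.smul_mono_left (hmono m))
    let Fib : Submodule W ((P ⧸ KP (m + 1)) × ((Fin n → W) ⧸ KF m)) :=
      LinearMap.ker (Submodule.factor (Submodule.smul_mono_left (hmono m)) ∘ₗ LinearMap.fst W _ _ -
        qb m ∘ₗ LinearMap.snd W _ _)
    let f : ((Fin n → W) ⧸ KF (m + 1)) →ₗ[W] Fib := LinearMap.codRestrict Fib ((qb (m + 1)).prod red) fun x => by
      obtain ⟨x, rfl⟩ := Submodule.Quotient.mk_surjective _ x
      rw [LinearMap.mem_ker, LinearMap.sub_apply, sub_eq_zero]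
      rfl
    let g : P →ₗ[W] Fib := LinearMap.codRestrict Fib ((KP (m + 1)).mkQ.prod s) fun x =>
      LinearMap.mem_ker.mpr (sub_eq_zero.mpr (LinearMap.congr_fun hs x).symm)
    have hf : Function.Surjective f := by
      rintro ⟨⟨a, b⟩, hab⟩
      obtain ⟨a, rfl⟩ := Submodule.Quotient.mk_surjective _ a
      obtain ⟨b, rfl⟩ := Submodule.Quotient.mk_surjective _ b
      have hd : a - q b ∈ KP m := (Submodule.Quotient.eq _).mp (sub_eq_zero.mp (LinearMap.mem_ker.mp hab))
      have hle : KP m ≤ Submodule.map q (KF m) ⊔ KP (m + 1) := by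
        show I m • (⊤ : Submodule W P) ≤ _
        conv_lhs => rw [← hgen (m + 1), Submodule.smul_sup, LinearMap.range_eq_map, ← Submodule.map_smul'']
        exact sup_le_sup_left (Submodule.smul_le_right) _
      obtain ⟨_, ⟨c, hc, rfl⟩, d, hd', hcd⟩ := Submodule.mem_sup.mp (hle hd)
      refine ⟨Submodule.Quotient.mk (b + c), Subtype.ext (Prod.ext ?_ ?_)⟩
      · refine (Submodule.Quotient.eq _).mpr ?_
        rw [map_add, show q b + q c - a = -d by rw [← sub_eq_zero] at hcd ⊢; rw [← hcd]; abel]
        exact neg_mem hd'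
      · refine (Submodule.Quotient.eq _).mpr ?_
        simpa using hc
    obtain ⟨s', hs'⟩ := lift_of_killed (I (m + 1)) f hf (hkill _) g
    exact ⟨s', LinearMap.ext fun x => congrArg (fun z : Fib => z.1.1) (LinearMap.congr_fun hs' x),
      LinearMap.ext fun x => congrArg (fun z : Fib => z.1.2) (LinearMap.congr_fun hs' x)⟩
  choose nxt hnxt1 hnxt2 using hstep
  obtain ⟨s0, hs0⟩ := h0
  let S : ∀ m, {s : P →ₗ[W] (Fin n → W) ⧸ KF m // qb m ∘ₗ s = (KP m).mkQ} :=
    fun m => Nat.rec ⟨s0, hs0⟩ (fun m s => ⟨nxt m s.1 s.2, hnxt1 m s.1 s.2⟩) m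
  have hex : ∀ x : P, ∃ L : Fin n → W, ∀ m, Submodule.Quotient.mk L = (S m).1 x := by
    intro x
    choose a ha using fun m => Submodule.Quotient.mk_surjective (KF m) ((S m).1 x)
    have hc : ∀ k m, a (m + 1) k - a m k ∈ I m := fun k m => by
      have h1 := LinearMap.congr_fun (hnxt2 m (S m).1 (S m).2) x
      rw [LinearMap.comp_apply] at h1
      change Submodule.factor _ ((S (m + 1)).1 x) = (S m).1 x at h1
      rw [← ha, ← ha] at h1
      exact mem_smul_top_pi.mp ((Submodule.Quotient.eq _).mp h1) k
    choose L hL using fun k => hcompl (fun m => a m k) (hc k)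
    refine ⟨L, fun m => ?_⟩
    rw [← ha, eq_comm, Submodule.Quotient.eq]
    exact mem_smul_top_pi.mpr fun k => hL k m
  choose L hL using hex
  have huniq : ∀ y z : Fin n → W, (∀ m, (Submodule.Quotient.mk y : (Fin n → W) ⧸ KF m) = Submodule.Quotient.mk z) → y = z :=
    fun y z h => funext fun k => sub_eq_zero.mp
      (hsep _ fun m => mem_smul_top_pi.mp ((Submodule.Quotient.eq _).mp (h m)) k)
  let sec : P →ₗ[W] (Fin n → W) :=
    { toFun := L
      map_add' := fun x y => huniq _ _ fun m => by rw [Submodule.Quotient.mk_add, hL, hL, hL, map_add]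
      map_smul' := fun a x => huniq _ _ fun m => by
        rw [RingHom.id_apply, Submodule.Quotient.mk_smul, hL, hL, map_smul] }
  have hsec : q ∘ₗ sec = LinearMap.id := LinearMap.ext fun x => by
    refine sub_eq_zero.mp (hP _ fun m => ?_)
    have h1 := LinearMap.congr_fun (S m).2 x
    rw [LinearMap.comp_apply, ← hL x m] at h1
    exact (Submodule.Quotient.eq _).mp h1
  exact ⟨Module.Finite.of_surjective q fun x => ⟨sec x, LinearMap.congr_fun hsec x⟩,
    Module.Projective.of_split sec q hsec⟩

theorem quot_of_fg_proj (J : Ideal W) (P : Type v) [AddCommGroup P] [Module W P] [Module.Finite W P]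
    [Module.Projective W P] :
    Module.Finite (W ⧸ J) (P ⧸ J • (⊤ : Submodule W P)) ∧
      Module.Projective (W ⧸ J) (P ⧸ J • (⊤ : Submodule W P)) := by
  let e := (TensorProduct.quotTensorEquivQuotSMul P J).extendScalarsOfSurjective
    (S := W ⧸ J) Ideal.Quotient.mk_surjective
  exact ⟨Module.Finite.equiv e, Module.Projective.of_equiv e⟩

theorem sep_of_fg_proj (I : ℕ → Ideal W) (hsep : ∀ a : W, (∀ m, a ∈ I m) → a = 0)
    (P : Type v) [AddCommGroup P] [Module W P] [Module.Finite W P] [Module.Projective W P]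
    (x : P) (hx : ∀ m, x ∈ I m • (⊤ : Submodule W P)) : x = 0 := by
  obtain ⟨n, q, hq⟩ := Module.Finite.exists_fin' W P
  obtain ⟨i, hi⟩ := Module.projective_lifting_property q LinearMap.id hq
  have h1 : i x = 0 := funext fun k => hsep _ fun m => by
    have : i x ∈ I m • (⊤ : Submodule W (Fin n → W)) := by
      have h := Submodule.mem_map_of_mem (f := i) (hx m)
      rw [Submodule.map_smul''] at h
      exact Submodule.smul_mono le_rfl le_top h
    exact mem_smul_top_pi.mp this k
  have := LinearMap.congr_fun hi x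
  rw [LinearMap.comp_apply, h1, map_zero, LinearMap.id_apply] at this
  exact this.symm

end

section
open WittVector
variable {p : ℕ} [Fact p.Prime] {R : Type u} [CommRing R]

local notation "I" => fun m => RingHom.ker (WittVector.truncate (p := p) (R := R) m)

theorem ker_mono (m : ℕ) : I (m + 1) ≤ I m := fun x hx =>
  (mem_ker_truncate m x).mpr fun i hi => (mem_ker_truncate (m + 1) x).mp hx i (by omega)

theorem ker_one_sq : I 1 * I 1 ≤ Ideal.span {(p : WittVector p R)} * I 1 := by
  refine Ideal.mul_le.mpr fun a ha b hb => ?_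
  have h : ∀ {z : WittVector p R}, z ∈ I 1 → ∃ y, z = verschiebung y := fun {z} hz =>
    ⟨z.shift 1, eq_iterate_verschiebung (n := 1) ((mem_ker_truncate 1 z).mp hz)⟩
  obtain ⟨a, rfl⟩ := h ha
  obtain ⟨b, rfl⟩ := h hb
  rw [← verschiebung_mul_frobenius, frobenius_verschiebung,
    show a * (b * (p : WittVector p R)) = p • (a * b) by rw [nsmul_eq_mul]; ring, map_nsmul, nsmul_eq_mul]
  refine Ideal.mul_mem_mul (Ideal.mem_span_singleton_self _) ((mem_ker_truncate 1 _).mpr fun i hi => ?_)
  obtain rfl : i = 0 := by omega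
  exact verschiebung_coeff_zero _

theorem low_coeff (z : WittVector p R) (m : ℕ) : ∀ i, i < m → ((⇑(verschiebung : WittVector p R →+ WittVector p R))^[m] z).coeff i = 0 := by
  induction m with
  | zero => intro i hi; omega
  | succ m ih =>
    intro i hi
    rw [Function.iterate_succ_apply']
    cases i with
    | zero => exact verschiebung_coeff_zero _
    | succ i => rw [verschiebung_coeff_succ]; exact ih i (by omega)

theorem p_pow_mem {e : ℕ} (he : (p : R) ^ e = 0) : ∀ m, ((p : WittVector p R) ^ (e * m)) ∈ I m := by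
  intro m
  induction m with
  | zero => exact (mem_ker_truncate 0 _).mpr fun i hi => absurd hi (by omega)
  | succ m ih =>
    have hm := (mem_ker_truncate m _).mp ih
    obtain ⟨y, hy⟩ : ∃ y, (p : WittVector p R) ^ (e * m) = verschiebung^[m] y := ⟨_, eq_iterate_verschiebung hm⟩
    refine (mem_ker_truncate (m + 1) _).mpr fun i hi => ?_
    rw [Nat.mul_succ, pow_add, hy, iterate_verschiebung_mul_left]
    rcases Nat.lt_succ_iff_lt_or_eq.mp hi with h | rfl
    · exact low_coeff _ _ _ h
    · have := iterate_verschiebung_coeff (y * ((⇑(frobenius : WittVector p R →+* WittVector p R))^[i] ((p : WittVector p R) ^ e))) i 0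
      rw [zero_add] at this
      rw [this, ← RingHom.coe_pow, map_pow, map_natCast, ← constantCoeff_apply, map_mul, map_pow, map_natCast, he, mul_zero]

theorem exists_pow_one_le (hp : IsNilpotent (p : R)) (m : ℕ) : ∃ N, I 1 ^ N ≤ I m := by
  obtain ⟨e, he⟩ := hp
  have h : ∀ k, I 1 ^ (k + 1) ≤ Ideal.span {(p : WittVector p R)} ^ k * I 1 := by
    intro k
    induction k with
    | zero => simp
    | succ k ih =>
      rw [pow_succ]
      calc I 1 ^ (k + 1) * I 1 ≤ Ideal.span {(p : WittVector p R)} ^ k * I 1 * I 1 := Ideal.mul_mono_left ih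
        _ ≤ Ideal.span {(p : WittVector p R)} ^ k * (Ideal.span {(p : WittVector p R)} * I 1) := by
          rw [mul_assoc]; exact Ideal.mul_mono_right ker_one_sq
        _ = _ := by rw [← mul_assoc, ← pow_succ]
  refine ⟨e * m + 1, (h (e * m)).trans (Ideal.mul_le_left.trans ?_)⟩
  rw [Ideal.span_singleton_pow, Ideal.span_singleton_le_iff_mem]
  exact p_pow_mem he m

theorem eq_zero_of_mem (a : WittVector p R) (h : ∀ m, a ∈ I m) : a = 0 := by
  ext i
  rw [(mem_ker_truncate (i + 1) a).mp (h (i + 1)) i (Nat.lt_succ_self i), zero_coeff]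

theorem compl (a : ℕ → WittVector p R) (h : ∀ m, a (m + 1) - a m ∈ I m) : ∃ L, ∀ m, a m - L ∈ I m := by
  have hk : ∀ m k, m ≤ k → truncate m (a k) = truncate m (a m) := by
    intro m k hk
    induction k, hk using Nat.le_induction with
    | base => rfl
    | succ k hmk ih =>
      rw [← ih, ← sub_eq_zero, ← map_sub]
      exact RingHom.mem_ker.mpr ((mem_ker_truncate m _).mpr fun i hi =>
        (mem_ker_truncate k _).mp (h k) i (by omega))
  obtain ⟨L, hL⟩ := Groth.Agent.CAlgH.WittLift.exists_limit a fun m => ⟨m, hk m⟩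
  refine ⟨L, fun m => ?_⟩
  obtain ⟨N, hN⟩ := hL m
  rw [RingHom.mem_ker, map_sub, sub_eq_zero, ← hN (max N m) (le_max_left _ _), hk m _ (le_max_right _ _)]

end

/-- Let p be a prime and R a commutative ring in which p is nilpotent; write W = W(R) for the p-typical
Witt vectors and, for n ≥ 0, I_n ⊆ W for the ideal of Witt vectors whose first n components vanish
(the kernel of the truncation W → W_n(R), so W/I_n = W_n(R)). For a W-module P conditions (i) and
(ii) below are equivalent: (i) P is a projective W-module of finite type; (ii) P is separated for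
the filtration by the submodules I_n P, and for every n the W_n(R)-module P/I_n P is finitely
generated and projective. (The published statement is made for every ℤ_(p)-algebra R, the section's
standing convention; over R = ℚ, where W(ℚ) ≅ ℚ^ℕ by the ghost map, the module ⊕_ℕ ℚ satisfies (ii)
but is not finitely generated, and the published proof uses that I_1 is nilpotent in each W_n(R),
which holds when p is nilpotent in R; so p is taken nilpotent here. The third equivalent condition
of the published statement, freeness Zariski-locally on R, is not rendered.) -/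
theorem result (p : ℕ) [Fact p.Prime] (R : Type u) [CommRing R]
    (hp : IsNilpotent (p : R))
    (P : Type v) [AddCommGroup P] [Module (WittVector p R) P] :
    (Module.Finite (WittVector p R) P ∧ Module.Projective (WittVector p R) P) ↔
      ((⨅ n : ℕ, (RingHom.ker (WittVector.truncate (p := p) (R := R) n) • (⊤ : Submodule (WittVector p R) P))) = ⊥ ∧
        ∀ n : ℕ, Module.Finite (WittVector p R ⧸ RingHom.ker (WittVector.truncate (p := p) (R := R) n))
              (P ⧸ (RingHom.ker (WittVector.truncate (p := p) (R := R) n) • (⊤ : Submodule (WittVector p R) P))) ∧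
            Module.Projective (WittVector p R ⧸ RingHom.ker (WittVector.truncate (p := p) (R := R) n))
              (P ⧸ (RingHom.ker (WittVector.truncate (p := p) (R := R) n) • (⊤ : Submodule (WittVector p R) P)))) := by
  constructor
  · rintro ⟨hf, hpr⟩
    refine ⟨?_, fun n => quot_of_fg_proj _ P⟩
    rw [eq_bot_iff]
    intro x hx
    rw [Submodule.mem_iInf] at hx
    exact sep_of_fg_proj _ eq_zero_of_mem P x hx
  · rintro ⟨hsep, hn⟩
    set J := RingHom.ker (WittVector.truncate (p := p) (R := R) 1)
    haveI := (hn 1).1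
    haveI : Module.Finite (WittVector p R) (P ⧸ J • (⊤ : Submodule (WittVector p R) P)) :=
      Module.Finite.trans (WittVector p R ⧸ J) _
    obtain ⟨n, s, hs⟩ := Module.Finite.exists_fin (R := WittVector p R) (M := P ⧸ J • (⊤ : Submodule (WittVector p R) P))
    choose x hx using fun i => Submodule.Quotient.mk_surjective _ (s i)
    let q : (Fin n → WittVector p R) →ₗ[WittVector p R] P := Fintype.linearCombination (WittVector p R) x
    have hq1 : LinearMap.range q ⊔ J • (⊤ : Submodule (WittVector p R) P) = ⊤ := by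
      rw [Fintype.range_linearCombination, sup_comm, ← Submodule.comap_map_mkQ, Submodule.map_span, ← Set.range_comp,
        show (⇑(J • (⊤ : Submodule (WittVector p R) P)).mkQ ∘ x) = s from funext hx, hs, Submodule.comap_top]
    refine fg_proj_of_tower _ ker_mono eq_zero_of_mem compl q (fun m => ?_) (fun y hy => ?_) fun m => (hn m).2
    · obtain ⟨N, hN⟩ := exists_pow_one_le hp m
      have h : ∀ k, LinearMap.range q ⊔ J ^ k • (⊤ : Submodule (WittVector p R) P) = ⊤ := by
        intro k
        induction k with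
        | zero => simp
        | succ k ih =>
          refine top_le_iff.mp ?_
          conv_lhs => rw [← hq1]
          refine sup_le le_sup_left ?_
          conv_lhs => rw [← ih, Submodule.smul_sup, ← mul_smul, ← pow_succ']
          exact sup_le_sup_right Submodule.smul_le_right _
      refine top_le_iff.mp ?_
      conv_lhs => rw [← h N]
      exact sup_le_sup_left (Submodule.smul_mono_left hN) _
    · have : y ∈ (⊥ : Submodule (WittVector p R) P) := by rw [← hsep, Submodule.mem_iInf]; exact hy
      exact (Submodule.mem_bot _).mp this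

end Groth.Agent.S14860
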