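import Groth.Statements.S14862
import Groth.Agent.CAlgH.WittClosed

set_option autoImplicit false
universe u
open CAlg

namespace Groth.Agent.S14862

/-- Let p be a prime and S a commutative ring without p-torsion which is complete and separated for the
p-adic topology; write W = W(S) for the p-typical Witt vectors, I_r ⊆ W for the ideal of Witt
vectors whose first r components vanish (the image of the r-th iterate of the Verschiebung) and
W(p^s S) ⊆ W for the ideal of Witt vectors all of whose components lie in p^s S (the kernel of W(S)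
→ W(S/p^s S)). Then for every natural number u the ideal p^u W is closed for the linear topology on
W in which the ideals I_r + W(p^s S) form a neighbourhood basis of zero: the intersection over all r
and s of p^u W + I_r + W(p^s S) equals p^u W. (The published statement asks only that S have no
p-torsion; S is moreover taken p-adically complete and separated here, the case in which the result
is applied and through which the published proof goes.) -/
theorem result (p : ℕ) [Fact p.Prime] (S : Type u) [CommRing S]
    (hS : ∀ y : S, (p : S) * y = 0 → y = 0) [IsAdicComplete (Ideal.span {(p : S)}) S] (u : ℕ) :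
    (⨅ r : ℕ, ⨅ s : ℕ,
        Ideal.span {(p : WittVector p S) ^ u} ⊔ RingHom.ker (WittVector.truncate (p := p) (R := S) r) ⊔
          RingHom.ker (WittVector.map (p := p) (Ideal.Quotient.mk (Ideal.span {(p : S) ^ s})))) =
      Ideal.span {(p : WittVector p S) ^ u} := by
  refine le_antisymm (fun a ha => ?_) (le_iInf fun r => le_iInf fun s => le_sup_left.trans le_sup_left)
  have h : ∀ m s, ∃ z, CAlgH.WittAdic.proj m s ((p : WittVector p S) ^ u * z - a) = 0 := by
    intro m s
    have := (Submodule.mem_iInf _).mp ((Submodule.mem_iInf _).mp ha m) s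
    obtain ⟨b, hb, w, hw, rfl⟩ := Submodule.mem_sup.mp this
    obtain ⟨e, he, v, hv, rfl⟩ := Submodule.mem_sup.mp hb
    obtain ⟨z, rfl⟩ := Ideal.mem_span_singleton'.mp he
    refine ⟨z, CAlgH.WittAdic.proj_eq_zero_iff.mpr ?_⟩
    have hv' : CAlgH.WittAdic.proj m s v = 0 := CAlgH.WittAdic.proj_eq_zero_iff.mpr fun i hi => by
      rw [(WittVector.mem_ker_truncate m v).mp hv i hi]; exact zero_mem _
    have hw' : CAlgH.WittAdic.proj m s w = 0 := CAlgH.WittAdic.proj_eq_zero_iff.mpr fun i hi => by
      have := congrArg (fun t => t.coeff i) (RingHom.mem_ker.mp hw)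
      simpa [WittVector.map_coeff, Ideal.Quotient.eq_zero_iff_mem] using this
    refine CAlgH.WittAdic.proj_eq_zero_iff.mp ?_
    rw [show (p : WittVector p S) ^ u * z - (z * (p : WittVector p S) ^ u + v + w) = -(v + w) by ring, map_neg, map_add, hv', hw', add_zero, neg_zero]
  choose x hx using fun m => CAlgH.WittAdic.exists_solution hS a m u (h m)
  have huniq : ∀ m i, i < m → (x m).coeff i = (x (i + 1)).coeff i := by
    intro m i hi
    refine sub_eq_zero.mp (IsHausdorff.haus (inferInstance : IsHausdorff (Ideal.span {(p : S)}) S) _ fun s => ?_)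
    rw [SModEq.zero, smul_eq_mul, Ideal.mul_top, Ideal.span_singleton_pow]
    refine Ideal.span_singleton_le_span_singleton.mpr (pow_dvd_pow _ (Nat.le_succ s))
      (CAlgH.WittAdic.proj_eq_iff.mp (sub_eq_zero.mp ((map_sub _ _ _).symm.trans
        (CAlgH.WittAdic.proj_cancel hS (m := i + 1) (n := u) (s := s + 1) (by omega) ?_))) i (Nat.lt_succ_self i))
    have h0 : ∀ k, i + 1 ≤ k → CAlgH.WittAdic.proj (i + 1) (s + 1 + u) ((p : WittVector p S) ^ u * x k - a) = 0 :=
      fun k hk => CAlgH.WittAdic.proj_eq_zero_iff.mpr fun j hj => by rw [hx k j (by omega)]; exact zero_mem _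
    rw [show (p : WittVector p S) ^ u * (x m - x (i + 1)) =
      ((p : WittVector p S) ^ u * x m - a) - ((p : WittVector p S) ^ u * x (i + 1) - a) by ring, map_sub, h0 m hi, h0 _ le_rfl, sub_zero]
  refine Ideal.mem_span_singleton'.mpr ⟨WittVector.mk p fun i => (x (i + 1)).coeff i, ?_⟩
  refine CAlgH.WittAdic.eq_of_proj fun m s => ?_
  have hy : CAlgH.WittAdic.proj m s (WittVector.mk p fun i => (x (i + 1)).coeff i) = CAlgH.WittAdic.proj m s (x m) :=
    CAlgH.WittAdic.proj_eq_iff.mpr fun i hi => by simp [huniq m i hi]
  rw [map_mul, hy, ← map_mul, mul_comm]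
  refine sub_eq_zero.mp ?_
  rw [← map_sub]
  exact CAlgH.WittAdic.proj_eq_zero_iff.mpr fun i hi => by rw [hx m i hi]; exact zero_mem _

end Groth.Agent.S14862
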