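import Groth.Statements.S14867
import Mathlib
import Groth.Agent.CAlgH.WittLift

set_option autoImplicit false
universe u
open CAlg

namespace Groth.Agent.S14867

open Groth.Agent.CAlgH in
theorem proj_lift {A B : Type u} [CommRing A] [CommRing B] (ψ : A →+* B)
    (hlift : ∀ (n : ℕ) (M : Matrix (Fin n) (Fin n) B), IsIdempotentElem M →
      ∃ E : Matrix (Fin n) (Fin n) A, IsIdempotentElem E ∧ E.map ψ = M)
    (hψ : Function.Surjective ψ)
    (P : Type u) [AddCommGroup P] [Module B P] [Module.Finite B P] [Module.Projective B P] :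
    ∃ (P' : Type u) (_ : AddCommGroup P') (_ : Module A P'),
        Module.Finite A P' ∧ Module.Projective A P' ∧
          ∃ π : P' →ₛₗ[ψ] P, Function.Surjective π ∧
            LinearMap.ker π = RingHom.ker ψ • (⊤ : Submodule A P') := by
  obtain ⟨n, q, hq⟩ := Module.Finite.exists_fin' B P
  obtain ⟨i, hi⟩ := q.exists_rightInverse_of_surjective (LinearMap.range_eq_top.mpr hq)
  have hqi : ∀ y, q (i y) = y := fun y => LinearMap.congr_fun hi y
  obtain ⟨E, hE, hEM⟩ := hlift n (LinearMap.toMatrix' (i ∘ₗ q)) (by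
    rw [IsIdempotentElem, ← LinearMap.toMatrix'_comp]
    congr 1
    refine LinearMap.ext fun x => ?_
    simp [hqi])
  have key : ∀ v : Fin n → A, ψ ∘ (E.mulVec v) = i (q (ψ ∘ v)) := fun v => by
    funext k
    rw [Function.comp_apply, RingHom.map_mulVec, hEM]
    exact congrFun (LinearMap.toMatrix'_mulVec _ _) k
  let ρ : (Fin n → A) →ₗ[A] LinearMap.range (Matrix.toLin' E) := (Matrix.toLin' E).rangeRestrict
  have hρι : ρ ∘ₗ (LinearMap.range (Matrix.toLin' E)).subtype = LinearMap.id := by
    refine LinearMap.ext fun ⟨x, w, hw⟩ => Subtype.ext ?_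
    show Matrix.toLin' E x = x
    rw [← hw, Matrix.toLin'_apply, Matrix.toLin'_apply, Matrix.mulVec_mulVec, hE.eq]
  refine ⟨LinearMap.range (Matrix.toLin' E), inferInstance, inferInstance,
    Module.Finite.of_surjective ρ (LinearMap.surjective_rangeRestrict _),
    Module.Projective.of_split _ ρ hρι, ?_⟩
  let π : LinearMap.range (Matrix.toLin' E) →ₛₗ[ψ] P :=
    { toFun := fun x => q (ψ ∘ (x : Fin n → A))
      map_add' := fun x y => by
        rw [← map_add]; congr 1; funext k; simp
      map_smul' := fun a x => by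
        rw [← map_smul]; congr 1; funext k; simp }
  refine ⟨π, fun y => ?_, le_antisymm (fun x hx => ?_) ?_⟩
  · obtain ⟨v, hv⟩ := hψ.comp_left (i y)
    refine ⟨ρ v, ?_⟩
    show q (ψ ∘ (E.mulVec v)) = y
    rw [key, hqi, show ψ ∘ v = i y from hv, hqi]
  · obtain ⟨w, hw⟩ := x.2
    have h0 : q (ψ ∘ (x : Fin n → A)) = 0 := LinearMap.mem_ker.mp hx
    have hx0 : ∀ k, ψ ((x : Fin n → A) k) = 0 := by
      intro k
      have h1 : ψ ∘ (x : Fin n → A) = i (q (ψ ∘ w)) := by rw [← key, ← hw]; rfl
      rw [h1, hqi] at h0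
      rw [← Function.comp_apply (f := ψ), h1, h0, map_zero]; rfl
    have : x = ∑ k, ((x : Fin n → A) k) • ρ (Pi.single k 1) := by
      conv_lhs => rw [show x = ρ (x : Fin n → A) from (LinearMap.congr_fun hρι x).symm]
      simp only [← map_smul, ← map_sum]
      congr 1
      funext k
      simp [Finset.sum_apply, Pi.single_apply]
    rw [this]
    exact sum_mem fun k _ => Submodule.smul_mem_smul (RingHom.mem_ker.mpr (hx0 k)) trivial
  · refine Submodule.smul_le.mpr fun a ha x _ => ?_
    rw [LinearMap.mem_ker, π.map_smulₛₗ, RingHom.mem_ker.mp ha, zero_smul]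

theorem proj_unique {A B : Type u} [CommRing A] [CommRing B] (ψ : A →+* B)
    (hJ : RingHom.ker ψ ≤ Ideal.jacobson ⊥) (hψ : Function.Surjective ψ)
    (P : Type u) [AddCommGroup P] [Module B P]
    (P₁ : Type u) [AddCommGroup P₁] [Module A P₁] [Module.Finite A P₁] [Module.Projective A P₁]
    (P₂ : Type u) [AddCommGroup P₂] [Module A P₂] [Module.Finite A P₂] [Module.Projective A P₂]
    (π₁ : P₁ →ₛₗ[ψ] P) (π₂ : P₂ →ₛₗ[ψ] P)
    (h1 : Function.Surjective π₁) (k1 : LinearMap.ker π₁ = RingHom.ker ψ • (⊤ : Submodule A P₁))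
    (h2 : Function.Surjective π₂) (k2 : LinearMap.ker π₂ = RingHom.ker ψ • (⊤ : Submodule A P₂)) :
    ∃ e : P₁ ≃ₗ[A] P₂, ∀ x : P₁, π₂ (e x) = π₁ x := by
  letI : Module A P := Module.compHom P ψ
  let l1 : P₁ →ₗ[A] P := { toFun := π₁, map_add' := π₁.map_add, map_smul' := fun a x => π₁.map_smulₛₗ a x }
  let l2 : P₂ →ₗ[A] P := { toFun := π₂, map_add' := π₂.map_add, map_smul' := fun a x => π₂.map_smulₛₗ a x }
  obtain ⟨f, hf⟩ := Module.projective_lifting_property l2 l1 h2
  obtain ⟨g, hg⟩ := Module.projective_lifting_property l1 l2 h1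
  have hf' : ∀ x, π₂ (f x) = π₁ x := fun x => LinearMap.congr_fun hf x
  have hg' : ∀ x, π₁ (g x) = π₂ x := fun x => LinearMap.congr_fun hg x
  have surj : ∀ {Q : Type u} [AddCommGroup Q] [Module A Q] [Module.Finite A Q] (h : Q →ₗ[A] Q)
      (π : Q →ₛₗ[ψ] P), LinearMap.ker π = RingHom.ker ψ • (⊤ : Submodule A Q) → (∀ x, π (h x) = π x) →
      Function.Surjective h := by
    intro Q _ _ _ h π hk hπ
    rw [← LinearMap.range_eq_top, eq_top_iff]
    refine Submodule.le_of_le_smul_of_le_jacobson_bot (Module.Finite.fg_top) hJ ?_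
    intro x _
    rw [← sub_add_cancel x (h x)]
    refine add_mem (Submodule.mem_sup_right ?_) (Submodule.mem_sup_left ⟨x, rfl⟩)
    rw [← hk, LinearMap.mem_ker, map_sub, hπ, sub_self]
  have s1 : Function.Surjective (g ∘ₗ f) := surj _ π₁ k1 fun x => by rw [LinearMap.comp_apply, hg', hf']
  have s2 : Function.Surjective (f ∘ₗ g) := surj _ π₂ k2 fun x => by rw [LinearMap.comp_apply, hf', hg']
  have i1 := OrzechProperty.injective_of_surjective_endomorphism _ s1
  rw [LinearMap.coe_comp] at i1 s2
  exact ⟨LinearEquiv.ofBijective f ⟨i1.of_comp, s2.of_comp⟩, fun x => hf' x⟩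

/-- Let p be a prime and S → R a surjective homomorphism of commutative rings such that every element of
its kernel 𝔞 is nilpotent and p is nilpotent in S; write J = W(𝔞) for the kernel of the induced
surjection W(S) → W(R) of rings of p-typical Witt vectors. Then finitely generated projective
modules lift along W(S) → W(R), uniquely up to isomorphism: for every finitely generated projective
W(R)-module P there is a finitely generated projective W(S)-module P̃ together with a surjection P̃
→ P, semilinear over W(S) → W(R), whose kernel is J·P̃ (that is, an isomorphism W(R) ⊗_{W(S)} P̃ ≅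
P); and for any two such pairs (P̃_1, π_1), (P̃_2, π_2) there is a W(S)-linear isomorphism P̃_1 ≅
P̃_2 compatible with π_1 and π_2. -/
theorem result (p : ℕ) [Fact p.Prime] (S R : Type u)
    [CommRing S] [CommRing R] (φ : S →+* R) (hφ : Function.Surjective φ)
    (hnil : ∀ a : S, φ a = 0 → IsNilpotent a) (hp : IsNilpotent (p : S))
    (P : Type u) [AddCommGroup P] [Module (WittVector p R) P]
    [Module.Finite (WittVector p R) P] [Module.Projective (WittVector p R) P] :
    (∃ (P' : Type u) (_ : AddCommGroup P') (_ : Module (WittVector p S) P'),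
        Module.Finite (WittVector p S) P' ∧ Module.Projective (WittVector p S) P' ∧
          ∃ π : P' →ₛₗ[WittVector.map (p := p) φ] P, Function.Surjective π ∧
            LinearMap.ker π = RingHom.ker (WittVector.map (p := p) φ) • (⊤ : Submodule (WittVector p S) P')) ∧
      ∀ (P₁ : Type u) [AddCommGroup P₁] [Module (WittVector p S) P₁]
        [Module.Finite (WittVector p S) P₁] [Module.Projective (WittVector p S) P₁]
        (P₂ : Type u) [AddCommGroup P₂] [Module (WittVector p S) P₂]
        [Module.Finite (WittVector p S) P₂] [Module.Projective (WittVector p S) P₂]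
        (π₁ : P₁ →ₛₗ[WittVector.map (p := p) φ] P) (π₂ : P₂ →ₛₗ[WittVector.map (p := p) φ] P),
        Function.Surjective π₁ →
          LinearMap.ker π₁ = RingHom.ker (WittVector.map (p := p) φ) • (⊤ : Submodule (WittVector p S) P₁) →
        Function.Surjective π₂ →
          LinearMap.ker π₂ = RingHom.ker (WittVector.map (p := p) φ) • (⊤ : Submodule (WittVector p S) P₂) →
        ∃ e : P₁ ≃ₗ[WittVector p S] P₂, ∀ x : P₁, π₂ (e x) = π₁ x := by
  have hs : Function.Surjective (WittVector.map (p := p) φ) := WittVector.map_surjective φ hφ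
  have hI := CAlgH.WittLift.isNilpotent_coeff_of_mem_ker (p := p) φ hnil
  refine ⟨proj_lift _ (fun n M hM => ?_) hs P, fun P₁ _ _ _ _ P₂ _ _ _ _ π₁ π₂ h1 k1 h2 k2 =>
    proj_unique _ (CAlgH.WittLift.le_jacobson _ hI) hs P P₁ P₂ π₁ π₂ h1 k1 h2 k2⟩
  choose lft hlft using hs
  let M0 : Matrix (Fin n) (Fin n) (WittVector p S) := M.map lft
  have hM0 : M0.map (WittVector.map (p := p) φ) = M := by
    ext1 a b; exact hlft _
  obtain ⟨E, hE, hEM⟩ := CAlgH.WittLift.exists_idempotent _ hI M0 fun a b => by
    have : ((WittVector.map (p := p) φ).mapMatrix) (M0 * M0 - M0) = 0 := by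
      rw [map_sub, map_mul, RingHom.mapMatrix_apply, hM0, hM.eq, sub_self]
    exact congrFun (congrFun this a) b
  refine ⟨E, hE, ?_⟩
  rw [← hM0]
  ext1 a b
  have := CAlgH.WittLift.map_eq_zero_of_truncate φ (hEM a b)
  rwa [Matrix.sub_apply, map_sub, sub_eq_zero] at this

end Groth.Agent.S14867
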