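import Groth.Statements.S14869
import Mathlib.LinearAlgebra.TensorProduct.RightExactness
import Mathlib.Algebra.Module.Projective
import Mathlib.LinearAlgebra.TensorProduct.Tower

set_option autoImplicit false
universe u v w
open CAlg

namespace Groth.Agent.S14869

open TensorProduct in
/-- Let S → R be a surjective homomorphism of commutative rings, let π : P_1 → P_2 be a surjective
homomorphism of S-modules with P_2 projective, and let π̄ : R ⊗_S P_1 → R ⊗_S P_2 be its base
change. Then every R-linear section σ̄ of π̄ lifts to a section of π: there is an S-linear map σ :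
P_2 → P_1 with π ∘ σ = id whose base change R ⊗_S σ is σ̄. -/
theorem result (S R : Type u) [CommRing S] [CommRing R] [Algebra S R]
    (hSR : Function.Surjective (algebraMap S R))
    (P₁ : Type v) [AddCommGroup P₁] [Module S P₁]
    (P₂ : Type w) [AddCommGroup P₂] [Module S P₂] [Module.Projective S P₂]
    (π : P₁ →ₗ[S] P₂) (hπ : Function.Surjective π)
    (σ' : R ⊗[S] P₂ →ₗ[R] R ⊗[S] P₁) (hσ' : (π.baseChange R).comp σ' = LinearMap.id) :
    ∃ σ : P₂ →ₗ[S] P₁, π.comp σ = LinearMap.id ∧ σ.baseChange R = σ' := by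
  classical
  let L₁ : P₁ →ₗ[S] R ⊗[S] P₁ := TensorProduct.mk S R P₁ 1
  let L₂ : P₂ →ₗ[S] R ⊗[S] P₂ := TensorProduct.mk S R P₂ 1
  let f : LinearMap.ker (Algebra.linearMap S R) →ₗ[S] S := Submodule.subtype _
  have hex : Function.Exact f (Algebra.linearMap S R) := LinearMap.exact_subtype_ker_map _
  have hmk : ∀ (P : Type w) [AddCommGroup P] [Module S P] (x : P),
      LinearMap.rTensor P (Algebra.linearMap S R) (1 ⊗ₜ x) = 1 ⊗ₜ x := by
    intro P _ _ x; simp
  have hker : ∀ z : P₂, (1 : R) ⊗ₜ[S] z = 0 → ∃ y : P₁, (1 : R) ⊗ₜ[S] y = 0 ∧ π y = z := by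
    intro z hz
    obtain ⟨t, ht⟩ := (rTensor_exact P₂ hex hSR ((1 : S) ⊗ₜ z)).mp (by rw [hmk P₂, hz])
    obtain ⟨t', rfl⟩ := LinearMap.lTensor_surjective (LinearMap.ker (Algebra.linearMap S R)) hπ t
    refine ⟨TensorProduct.lid S P₁ (f.rTensor P₁ t'), ?_, ?_⟩
    · have h0 : (Algebra.linearMap S R).rTensor P₁ (f.rTensor P₁ t') = 0 := (rTensor_exact P₁ hex hSR).apply_apply_eq_zero t'
      have : ∀ w : S ⊗[S] P₁, (1 : R) ⊗ₜ[S] (TensorProduct.lid S P₁ w) = (Algebra.linearMap S R).rTensor P₁ w := by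
        intro w
        induction w with
        | zero => simp
        | add x y hx hy => simp [TensorProduct.tmul_add, hx, hy]
        | tmul a b =>
          simp only [TensorProduct.lid_tmul, LinearMap.rTensor_tmul, Algebra.linearMap_apply]
          rw [← TensorProduct.smul_tmul, Algebra.smul_def, mul_one]
      rw [this, h0]
    · have : ∀ w : LinearMap.ker (Algebra.linearMap S R) ⊗[S] P₁,
          π (TensorProduct.lid S P₁ (f.rTensor P₁ w)) = TensorProduct.lid S P₂ (f.rTensor P₂ (π.lTensor _ w)) := by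
        intro w
        induction w with
        | zero => simp
        | add x y hx hy => simp [hx, hy]
        | tmul a b => simp
      rw [this, ht, TensorProduct.lid_tmul, one_smul]
  let F : Submodule S ((R ⊗[S] P₁) × P₂) :=
    LinearMap.ker ((π.baseChange R).restrictScalars S ∘ₗ LinearMap.fst S _ _ - L₂ ∘ₗ LinearMap.snd S _ _)
  let Φ : P₁ →ₗ[S] F := LinearMap.codRestrict F (L₁.prod π) fun x => by simp [F, L₁, L₂]
  have hΦ : Function.Surjective Φ := by
    rintro ⟨⟨y, z⟩, hyz⟩
    obtain ⟨a, ha⟩ := TensorProduct.mk_surjective S P₁ R hSR y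
    have h1 : (π.baseChange R) y = (1 : R) ⊗ₜ[S] z := sub_eq_zero.mp hyz
    rw [← ha] at h1
    obtain ⟨b, hb, hb'⟩ := hker (π a - z) (by rw [TensorProduct.tmul_sub, sub_eq_zero]; simpa using h1)
    refine ⟨a - b, Subtype.ext (Prod.ext ?_ ?_)⟩
    · show (1 : R) ⊗ₜ[S] (a - b) = y
      rw [TensorProduct.tmul_sub, hb, sub_zero]; exact ha
    · show π (a - b) = z
      rw [map_sub, hb', sub_sub_cancel]
  let g : P₂ →ₗ[S] F := LinearMap.codRestrict F ((σ'.restrictScalars S ∘ₗ L₂).prod LinearMap.id) fun z => by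
    have := LinearMap.congr_fun hσ' ((1 : R) ⊗ₜ[S] z)
    simp only [LinearMap.comp_apply, LinearMap.id_apply] at this
    simp [F, L₂, this]
  obtain ⟨σ, hσ⟩ := Module.projective_lifting_property Φ g hΦ
  refine ⟨σ, LinearMap.ext fun z => congrArg Prod.snd (congrArg Subtype.val (LinearMap.congr_fun hσ z)), ?_⟩
  refine TensorProduct.AlgebraTensorModule.ext fun r z => ?_
  have h2 : (1 : R) ⊗ₜ[S] σ z = σ' ((1 : R) ⊗ₜ[S] z) :=
    congrArg Prod.fst (congrArg Subtype.val (LinearMap.congr_fun hσ z))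
  rw [LinearMap.baseChange_tmul, show r ⊗ₜ[S] σ z = r • ((1 : R) ⊗ₜ[S] σ z) by rw [TensorProduct.smul_tmul', smul_eq_mul, mul_one],
    h2, ← map_smul, TensorProduct.smul_tmul', smul_eq_mul, mul_one]

end Groth.Agent.S14869
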