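-- statement PLie.GrothFrozen.S14870 (Groth/Statements/S14870.lean; the theorem PLie.ker_stable_pMap_of_surjective_of_center_eq_bot);
import Groth.Statements.S14870
import Groth.Agent.PLieLib.Basic

set_option autoImplicit false
universe u v w
open PLie

namespace Groth.Agent.S14870

/-- Let `L` be a Lie algebra over a field of characteristic `p` equipped with a `p`-mapping `φ`, and let
`f : L → L'` be a surjective morphism of Lie algebras onto a Lie algebra with zero centre. Then the
kernel of `f` is stable under `φ`, i.e. it is a `p`-ideal. (The published statement is for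
finite-dimensional Lie algebras; no finiteness is assumed in this row.) -/
theorem result
    (k : Type u) [Field k] (p : ℕ) [Fact p.Prime] [CharP k p]
    (L : Type v) [LieRing L] [LieAlgebra k L] (L' : Type w) [LieRing L'] [LieAlgebra k L']
    (φ : PLie.PMap k p L) (f : L →ₗ⁅k⁆ L') (hf : Function.Surjective f)
    (hz : LieAlgebra.center k L' = ⊥) (x : L) (hx : f x = 0) :
    f (φ x) = 0 := by
  have hp := (Fact.out : p.Prime).ne_zero
  have h : LieAlgebra.ad k L' (f (φ x)) = LieAlgebra.ad k L' 0 := LinearMap.ext fun z => by
    obtain ⟨y, rfl⟩ := hf z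
    rw [LieAlgebra.ad_apply, LieAlgebra.ad_apply, zero_lie, ← LieHom.map_lie, Groth.Agent.PLieLib.lie_map, Groth.Agent.PLieLib.pow_lie, hx, map_zero, zero_pow hp]
    rfl
  have := Groth.Agent.PLieLib.mem_center_of_ad_eq h
  rw [hz, sub_zero, LieSubmodule.mem_bot] at this
  exact this

end Groth.Agent.S14870
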