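-- statement PLie.GrothFrozen.S14874 (Groth/Statements/S14874.lean; the theorem PLie.nilradical_eq_pRadical_iff_center_le);
import Groth.Statements.S14874
import Groth.Agent.PLieLib.Basic

set_option autoImplicit false
universe u v
open PLie

namespace Groth.Agent.S14874

/-- Let `L` be a finite-dimensional Lie algebra over a field of characteristic `p` equipped with a
`p`-mapping `φ`. Let `N` be the nilradical of `L` (the ideal nilpotent as a Lie ring that contains
every such ideal) and `P` its `p`-radical (the largest ideal stable under `φ` all of whose elements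
are `p`-nilpotent). Then `N = P` if and only if the centre of `L` is contained in `P`. -/
theorem result
    (k : Type u) [Field k] (p : ℕ) [Fact p.Prime] [CharP k p]
    (L : Type v) [LieRing L] [LieAlgebra k L] [Module.Finite k L]
    (φ : PLie.PMap k p L)
    (N : LieIdeal k L) (hN : LieRing.IsNilpotent N)
    (hNmax : ∀ I : LieIdeal k L, LieRing.IsNilpotent I → I ≤ N)
    (P : LieIdeal k L) (hPsub : ∀ x ∈ P, φ x ∈ P) (hPnil : ∀ x ∈ P, PLie.IsPNilpotent φ x)
    (hPmax : ∀ J : LieIdeal k L, (∀ x ∈ J, φ x ∈ J) → (∀ x ∈ J, PLie.IsPNilpotent φ x) → J ≤ P) :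
    N = P ↔ LieAlgebra.center k L ≤ P := by
  have hp := (Fact.out : p.Prime).ne_zero
  constructor
  · rintro rfl
    refine hNmax _ ((LieModule.isNilpotent_iff k _ _).2 ⟨1, ?_⟩)
    rw [LieModule.lowerCentralSeries_succ, eq_bot_iff, LieSubmodule.lie_le_iff]
    intro a _ b _
    rw [LieSubmodule.mem_bot]
    exact Subtype.ext ((LieModule.mem_maxTrivSubmodule k L L _).1 b.2 a)
  · intro hZ
    refine le_antisymm (hPmax N (fun x hx => hNmax _ (Groth.Agent.PLieLib.isNilpotent_adjoinPow hp φ N hN x hx) (Groth.Agent.PLieLib.mem_adjoinPow hp φ N x hx)) fun x hx => ?_) (hNmax P (Groth.Agent.PLieLib.isNilpotent_of_pNilpotent φ P hPnil))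
    obtain ⟨m, hm⟩ := Groth.Agent.PLieLib.ad_nilpotent_of_mem N hN hx
    obtain ⟨n, hn⟩ := pow_unbounded_of_one_lt m (Fact.out : p.Prime).one_lt
    have hc : φ.toFun^[n] x ∈ LieAlgebra.center k L := by
      have h := Groth.Agent.PLieLib.ad_iterate φ x n
      rw [← Nat.sub_add_cancel hn.le, pow_add, hm, mul_zero] at h
      have := Groth.Agent.PLieLib.mem_center_of_ad_eq (h.trans (map_zero _).symm)
      rwa [sub_zero] at this
    obtain ⟨l, hl⟩ := hPnil _ (hZ hc)
    exact ⟨l + n, by rw [Function.iterate_add_apply]; exact hl⟩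

end Groth.Agent.S14874
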