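import Groth.Statements.S14877
import Groth.Agent.GITQuot.Fppf
import Groth.Agent.TorsorDesc.Equiv
import Groth.Agent.SchDescent.Cover
import Groth.Agent.FpqcDescent.Flat
import Mathlib.AlgebraicGeometry.Morphisms.FlatDescent

set_option backward.isDefEq.respectTransparency.types false

set_option autoImplicit false
universe u
open CategoryTheory MonoidalCategory CartesianMonoidalCategory MonObj GrpObj AlgebraicGeometry CategoryTheory.Limits
open AlgGrp

namespace Groth.Agent.S14877

/-- Over an algebraically closed field k of characteristic zero, let G be an algebraic group (a smooth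
k-group scheme of finite type) acting on a variety P (reduced, separated, of finite type over k),
and let π : P → X be a geometric quotient by this action onto a variety X: π is invariant,
surjective and open, the map (g, p) ↦ (g·p, p) from G × P to P ×_X P is surjective on points, and
for every open U of X the sections of O_X over U are exactly the invariant sections of O_P over
π⁻¹U. Suppose the bundle is locally isotrivial: every point of X has an open neighbourhood U with a
finite étale surjective morphism U' → U and a morphism s : U' → P lifting U' → U → X such that (u,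
g) ↦ g·s(u) exhibits U' × G as the fibre product U' ×_X P. Then the bundle is principal: (g, p) ↦
(g·p, p) is an isomorphism of G × P onto P ×_X P, and π is flat. (The published definition of an
étale covering asks only for a finite étale morphism; this row also requires it to be surjective,
since an empty cover would make every bundle isotrivial.) -/
theorem result (k : Type u) [Field k] [IsAlgClosed k] [CharZero k]
    (G P X : Over (Spec (CommRingCat.of k))) [GrpObj G] [Smooth G.hom] [QuasiCompact G.hom]
    [LocallyOfFiniteType P.hom] [QuasiCompact P.hom] [IsSeparated P.hom] [IsReduced P.left]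
    [LocallyOfFiniteType X.hom] [QuasiCompact X.hom] [IsSeparated X.hom] [IsReduced X.left]
    (a : AlgGrp.Action G P) (π : P ⟶ X) (hinv : GIT.IsInvariant a π)
    (hq : Function.Surjective π.left.base ∧ IsOpenMap π.left.base ∧
      Function.Surjective (GIT.PsiY a π hinv).base ∧
      ∀ U : X.left.Opens, Function.Injective (π.left.app U) ∧
        Set.range (π.left.app U) = {f | GIT.IsInvSection a π U f})
    (hli : ∀ x : ↥X.left, ∃ (U : X.left.Opens) (_ : x ∈ U) (U' : Scheme.{u}) (φ : U' ⟶ ↑U)
      (_ : IsFinite φ) (_ : Etale φ) (_ : Surjective φ) (s : Over.mk (φ ≫ U.ι ≫ X.hom) ⟶ P),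
      s.left ≫ π.left = φ ≫ U.ι ∧
      IsPullback (fst (Over.mk (φ ≫ U.ι ≫ X.hom)) G).left (lift (snd (Over.mk (φ ≫ U.ι ≫ X.hom)) G) (fst (Over.mk (φ ≫ U.ι ≫ X.hom)) G ≫ s) ≫ a.act).left
        (φ ≫ U.ι) π.left) :
    IsIso (GIT.PsiY a π hinv) ∧ Flat π.left := by
  obtain ⟨-, -, -, -⟩ := hq
  choose U hxU U' φ hfin het hsurj s hs hpb using hli
  let c : ∀ x, U' x ⟶ X.left := fun x => φ x ≫ (U x).ι
  haveI : ∀ x, IsFinite (φ x) := hfin
  haveI : ∀ x, Etale (φ x) := het
  haveI : ∀ x, Surjective (φ x) := hsurj
  have hcov : SchDescent.IsCover c := by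
    refine Scheme.fppfPrecoverage_le_fpqcPrecoverage _
      ((Scheme.ofArrows_mem_precoverage_iff _).mpr ⟨fun y => ?_, fun x => ?_⟩)
    · obtain ⟨w, hw⟩ := (φ y).surjective ⟨y, hxU y⟩
      refine ⟨y, w, ?_⟩
      show (U y).ι (φ y w) = y
      rw [hw]; rfl
    · exact ⟨inferInstanceAs (Flat (φ x ≫ (U x).ι)), inferInstanceAs (LocallyOfFinitePresentation (φ x ≫ (U x).ι))⟩
  let A : Over X.left := Over.mk ((snd G P).left ≫ π.left)
  let B : Over X.left := Over.mk (Limits.pullback.fst π.left π.left ≫ π.left)
  let f : A ⟶ B := Over.homMk (GIT.PsiY a π hinv) (by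
    show GIT.PsiY a π hinv ≫ Limits.pullback.fst π.left π.left ≫ π.left = _
    rw [GIT.PsiY, Limits.pullback.lift_fst_assoc]
    exact hinv.left)
  have hf : IsIso f := TorsorDesc.isIso_of_locally_bijective f hcov fun x T w => by
    let Tk : Over (Spec (CommRingCat.of k)) := Over.mk (T.hom ≫ X.hom)
    let V : Over (Spec (CommRingCat.of k)) := Over.mk (φ x ≫ (U x).ι ≫ X.hom)
    let wk : Tk ⟶ V := Over.homMk w.left (by
      show w.left ≫ φ x ≫ (U x).ι ≫ X.hom = T.hom ≫ X.hom
      rw [← Over.w w]
      simp [c])
    let θ : V ⊗ G ⟶ P := lift (snd V G) (fst V G ≫ s x) ≫ a.act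
    have huniq : ∀ h h' : Tk ⟶ G, lift h (wk ≫ s x) ≫ a.act = lift h' (wk ≫ s x) ≫ a.act → h = h' := fun h h' e => by
      have e1 : ∀ h : Tk ⟶ G, lift wk h ≫ θ = lift h (wk ≫ s x) ≫ a.act := fun h => by
        simp only [θ, ← Category.assoc, comp_lift, lift_snd, lift_fst]
      have e2 : lift wk h = lift wk h' := Over.OverMorphism.ext ((hpb x).hom_ext
        (by rw [← Over.comp_left, ← Over.comp_left, lift_fst, lift_fst])
        (by
          show (lift wk h).left ≫ θ.left = (lift wk h').left ≫ θ.left
          rw [← Over.comp_left, ← Over.comp_left, e1, e1, e]))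
      simpa using congrArg (fun m => m ≫ snd V G) e2
    have hex : ∀ p : Tk ⟶ P, p.left ≫ π.left = T.hom → ∃ h : Tk ⟶ G, lift h (wk ≫ s x) ≫ a.act = p := fun p hp => by
      have hw : w.left ≫ (φ x ≫ (U x).ι) = p.left ≫ π.left := by rw [hp]; exact Over.w w
      let l : Tk ⟶ V ⊗ G := Over.homMk ((hpb x).lift w.left p.left hw) (by
        rw [← Over.w (fst V G), ← Category.assoc, (hpb x).lift_fst]
        exact Over.w wk)
      have h1 : l ≫ fst V G = wk := Over.OverMorphism.ext ((hpb x).lift_fst _ _ _)
      have h2 : l ≫ θ = p := Over.OverMorphism.ext ((hpb x).lift_snd _ _ _)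
      refine ⟨l ≫ snd V G, ?_⟩
      rw [← h1, Category.assoc, ← comp_lift, Category.assoc]
      exact h2
    constructor
    · intro m m' e
      have e' : m.left ≫ GIT.PsiY a π hinv = m'.left ≫ GIT.PsiY a π hinv := congrArg CommaMorphism.left e
      have ea := congrArg (fun r => r ≫ Limits.pullback.fst π.left π.left) e'
      have es := congrArg (fun r => r ≫ Limits.pullback.snd π.left π.left) e'
      simp only [GIT.PsiY, Category.assoc, Limits.pullback.lift_fst, Limits.pullback.lift_snd] at ea es
      have hmk : ∀ m : T ⟶ A, m.left ≫ (G ⊗ P).hom = Tk.hom := fun m => by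
        show m.left ≫ _ = T.hom ≫ X.hom
        rw [← Over.w m, ← Over.w (snd G P), ← Over.w π]
        simp [A]
      let n : Tk ⟶ G ⊗ P := Over.homMk m.left (hmk m)
      let n' : Tk ⟶ G ⊗ P := Over.homMk m'.left (hmk m')
      have ea' : n ≫ a.act = n' ≫ a.act := Over.OverMorphism.ext ea
      have es' : n ≫ snd G P = n' ≫ snd G P := Over.OverMorphism.ext es
      obtain ⟨h, hh⟩ := hex (n ≫ snd G P) (by
        show (m.left ≫ (snd G P).left) ≫ π.left = T.hom
        rw [Category.assoc]; exact Over.w m)
      have hd : ∀ q : Tk ⟶ G ⊗ P, q ≫ snd G P = lift h (wk ≫ s x) ≫ a.act →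
          q ≫ a.act = lift ((q ≫ fst G P) * h) (wk ≫ s x) ≫ a.act := fun q hq => by
        rw [GITQuot.act_mul_point, ← hq, ← comp_lift, lift_fst_snd, Category.comp_id]
      have hn : n = n' := by
        have e3 := huniq ((n ≫ fst G P) * h) ((n' ≫ fst G P) * h)
          (by rw [← hd n hh.symm, ← hd n' (es'.symm.trans hh.symm), ea'])
        apply CartesianMonoidalCategory.hom_ext
        · exact mul_right_cancel e3
        · exact es'
      exact Over.OverMorphism.ext (congrArg CommaMorphism.left hn :)
    · intro b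
      have hb : b.left ≫ Limits.pullback.fst π.left π.left ≫ π.left = T.hom := Over.w b
      let p₁ : Tk ⟶ P := Over.homMk (b.left ≫ Limits.pullback.fst π.left π.left) (by
        show _ = T.hom ≫ X.hom
        rw [← hb, ← Over.w π]; simp)
      let p₂ : Tk ⟶ P := Over.homMk (b.left ≫ Limits.pullback.snd π.left π.left) (by
        show _ = T.hom ≫ X.hom
        rw [← hb, Limits.pullback.condition, ← Over.w π]; simp)
      obtain ⟨h₁, hh₁⟩ := hex p₁ ((Category.assoc _ _ _).trans hb)
      obtain ⟨h₂, hh₂⟩ := hex p₂ (by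
        show (b.left ≫ _) ≫ _ = _
        rw [Category.assoc, ← Limits.pullback.condition]; exact hb)
      let n : Tk ⟶ G ⊗ P := lift (h₁ * h₂⁻¹) p₂
      have hna : n ≫ a.act = p₁ := by
        show lift (h₁ * h₂⁻¹) p₂ ≫ a.act = p₁
        rw [← hh₂, ← GITQuot.act_mul_point, inv_mul_cancel_right, hh₁]
      have hns : n ≫ snd G P = p₂ := lift_snd _ _
      refine ⟨Over.homMk n.left (by
        show n.left ≫ (snd G P).left ≫ π.left = T.hom
        rw [← Category.assoc, ← Over.comp_left, hns]
        show (b.left ≫ _) ≫ _ = _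
        rw [Category.assoc, ← Limits.pullback.condition]; exact hb), ?_⟩
      apply Over.OverMorphism.ext
      show n.left ≫ GIT.PsiY a π hinv = b.left
      apply Limits.pullback.hom_ext
      · rw [GIT.PsiY, Category.assoc, Limits.pullback.lift_fst, ← Over.comp_left, hna]; rfl
      · rw [GIT.PsiY, Category.assoc, Limits.pullback.lift_snd, ← Over.comp_left, hns]; rfl
  refine ⟨inferInstanceAs (IsIso ((Over.forget _).map f)), ?_⟩
  refine (IsZariskiLocalAtTarget.iff_of_iSup_eq_top (P := @Flat) U
    (eq_top_iff.2 fun x _ => TopologicalSpace.Opens.mem_iSup.2 ⟨x, hxU x⟩)).2 fun x => ?_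
  let V : Over (Spec (CommRingCat.of k)) := Over.mk (φ x ≫ (U x).ι ≫ X.hom)
  let θ : V ⊗ G ⟶ P := lift (snd V G) (fst V G ≫ s x) ≫ a.act
  have hw : (fst V G).left ≫ φ x ≫ (U x).ι = θ.left ≫ π.left := (hpb x).w
  let r : (V ⊗ G).left ⟶ ↑(π.left ⁻¹ᵁ U x) :=
    (isPullback_morphismRestrict π.left (U x)).lift ((fst V G).left ≫ φ x) θ.left ((Category.assoc _ _ _).trans hw)
  have hsq : IsPullback r (fst V G).left (π.left ∣_ U x) (φ x) :=
    (IsPullback.of_right (by
        have e : r ≫ (π.left ⁻¹ᵁ U x).ι = θ.left := (isPullback_morphismRestrict π.left (U x)).lift_snd _ _ _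
        rw [e]; exact (hpb x).flip)
      ((isPullback_morphismRestrict π.left (U x)).lift_fst _ _ _)
      (isPullback_morphismRestrict π.left (U x)).flip)
  haveI : Flat (fst V G).left := by
    have : Flat G.hom := inferInstance
    exact MorphismProperty.pullback_fst (P := @Flat) V.hom G.hom this
  haveI h1 : Flat r := MorphismProperty.of_isPullback hsq.flip (inferInstanceAs (Flat (φ x)))
  haveI h2 : Surjective r := MorphismProperty.of_isPullback hsq.flip (hsurj x)
  haveI : Flat (r ≫ (π.left ∣_ U x)) := by rw [hsq.w]; infer_instance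
  exact FpqcDescent.flat_of_flat_comp r (π.left ∣_ U x)

end Groth.Agent.S14877
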