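import Groth.Statements.S14879
import Mathlib

set_option autoImplicit false
universe u
open Finset
open AlgGrp

namespace Groth.Agent.S14879

/-- Let k be a field of characteristic zero, n = p + r with p, r ≥ 1, M an n × n matrix over k, A a set
of p row indices and B a set of r row indices, both listed increasingly. For a permutation π of the
indices, with permutation matrix P_π, let Y_A(M·P_π) be the minor of M·P_π on the rows A and the
first p columns, and Z_B(M·P_π) the minor on the rows B and the last r columns. Then the sum over
all π of sign(π)·Y_A(M·P_π)·Z_B(M·P_π) equals p!·r!·(−1)^N·det M when B is the complement of A,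
where N is the number of pairs (a, b) with a in A, b outside A and b < a, and equals 0 otherwise.
Taking det M = 1 this says that the pairing (f, h) ↦ Σ_π sign(π) f(π) h(π) between the spans of the
left p-minors and of the right r-minors is invariant under left translation by matrices of
determinant one and pairs Y_A with the signed complementary minor to p!·r!. (The published statement
asserts that the two families of minors are dual bases for this pairing, that is, the value 1 in
place of p!·r!; the p!·r! permutations preserving the two column blocks each contribute the same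
signed term, so this row carries that factor, which is 1 only for n = 2.) -/
theorem result (k : Type u) [Field k] [CharZero k]
    (p r : ℕ) (hp : 1 ≤ p) (hr : 1 ≤ r) (M : Matrix (Fin (p + r)) (Fin (p + r)) k)
    (A : Finset (Fin (p + r))) (hA : A.card = p) (B : Finset (Fin (p + r))) (hB : B.card = r) :
    ∑ π : Equiv.Perm (Fin (p + r)), (((Equiv.Perm.sign π : ℤˣ) : ℤ) : k) *
      ((M * π.permMatrix k).submatrix (A.orderEmbOfFin hA) (Fin.castAdd r)).det *
      ((M * π.permMatrix k).submatrix (B.orderEmbOfFin hB) (Fin.natAdd p)).det =
    if B = Aᶜ then ((p.factorial * r.factorial : ℕ) : k) *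
      (-1 : k) ^ ((A ×ˢ Aᶜ).filter (fun ab => ab.2 < ab.1)).card * M.det else 0 := by
  classical
  let a := A.orderEmbOfFin hA
  let b := B.orderEmbOfFin hB
  let f₀ : Fin (p + r) → Fin (p + r) := Fin.append a b
  have hperm : ∀ π : Equiv.Perm (Fin (p + r)), M * π.permMatrix k = M.submatrix id π.symm := fun π => by
    rw [Equiv.Perm.permMatrix, PEquiv.mul_toMatrix_toPEquiv]
  have key : ∀ (σ : Equiv.Perm (Fin p)) (τ : Equiv.Perm (Fin r)),
      ∑ π : Equiv.Perm (Fin (p + r)), ((π.sign : ℤ) : k) *
        ((∏ i, M (a (σ i)) (π (Fin.castAdd r i))) * ∏ j, M (b (τ j)) (π (Fin.natAdd p j))) =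
      ((σ.sign : ℤ) : k) * ((τ.sign : ℤ) : k) * (M.submatrix f₀ id).det := by
    intro σ τ
    let ρ : Equiv.Perm (Fin (p + r)) := finSumFinEquiv.permCongr (Equiv.Perm.sumCongr σ τ)
    have hρ : ρ.sign = σ.sign * τ.sign := by
      rw [show ρ = finSumFinEquiv.permCongr (Equiv.Perm.sumCongr σ τ) from rfl, Equiv.Perm.sign_permCongr,
        Equiv.Perm.sign_sumCongr]
    have hd : ((M.submatrix f₀ id).submatrix ρ id).det =
        ((σ.sign : ℤ) : k) * ((τ.sign : ℤ) : k) * (M.submatrix f₀ id).det := by
      rw [Matrix.det_permute, hρ]; push_cast; ring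
    rw [← hd, ← Matrix.det_transpose, Matrix.det_apply']
    refine Finset.sum_congr rfl fun π _ => ?_
    congr 1
    rw [Fin.prod_univ_add]
    congr 1 <;> refine Finset.prod_congr rfl fun i _ => ?_
    · simp [ρ, f₀]
    · simp [ρ, f₀]
  have hsum : ∑ π : Equiv.Perm (Fin (p + r)), (((Equiv.Perm.sign π : ℤˣ) : ℤ) : k) *
      ((M * π.permMatrix k).submatrix a (Fin.castAdd r)).det *
      ((M * π.permMatrix k).submatrix b (Fin.natAdd p)).det =
      ((p.factorial * r.factorial : ℕ) : k) * (M.submatrix f₀ id).det := by
    calc _ = ∑ π : Equiv.Perm (Fin (p + r)), ((π.sign : ℤ) : k) *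
          (∑ σ : Equiv.Perm (Fin p), ∑ τ : Equiv.Perm (Fin r),
            ((σ.sign : ℤ) : k) * ((τ.sign : ℤ) : k) *
              ((∏ i, M (a (σ i)) (π (Fin.castAdd r i))) * ∏ j, M (b (τ j)) (π (Fin.natAdd p j)))) := by
          refine Fintype.sum_equiv (Equiv.inv _) _ _ fun π => ?_
          rw [hperm, Matrix.det_apply', Matrix.det_apply', mul_assoc, Finset.sum_mul_sum]
          simp only [Equiv.inv_apply, Equiv.Perm.sign_inv]
          congr 1
          refine Finset.sum_congr rfl fun σ _ => Finset.sum_congr rfl fun τ _ => ?_
          simp only [Matrix.submatrix_apply, id_eq, Equiv.Perm.inv_def]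
          ring
      _ = ∑ σ : Equiv.Perm (Fin p), ∑ τ : Equiv.Perm (Fin r), ((σ.sign : ℤ) : k) * ((τ.sign : ℤ) : k) *
            (((σ.sign : ℤ) : k) * ((τ.sign : ℤ) : k) * (M.submatrix f₀ id).det) := by
          simp only [Finset.mul_sum]
          rw [Finset.sum_comm]
          refine Finset.sum_congr rfl fun σ _ => ?_
          rw [Finset.sum_comm]
          refine Finset.sum_congr rfl fun τ _ => ?_
          rw [← key σ τ, Finset.mul_sum]
          exact Finset.sum_congr rfl fun π _ => by ring
      _ = _ := by
          have h1 : ∀ {m : ℕ} (σ : Equiv.Perm (Fin m)), ((σ.sign : ℤ) : k) * ((σ.sign : ℤ) : k) = 1 :=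
            fun σ => by rcases Int.units_eq_one_or σ.sign with h | h <;> simp [h]
          rw [Finset.sum_congr rfl fun σ _ => Finset.sum_congr rfl fun τ _ =>
            show _ = (M.submatrix f₀ id).det by
              rw [← mul_assoc, mul_mul_mul_comm, h1, h1, mul_one, one_mul]]
          simp [Fintype.card_perm, mul_assoc]
  rw [hsum]
  split_ifs with h
  · have hinj : Function.Injective f₀ := by
      intro i j hij
      induction i using Fin.addCases with
      | left i =>
        induction j using Fin.addCases with
        | left j => simp only [f₀, Fin.append_left] at hij; rw [a.injective hij]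
        | right j =>
          simp only [f₀, Fin.append_left, Fin.append_right] at hij
          have h1 := B.orderEmbOfFin_mem hB j
          rw [show B.orderEmbOfFin hB j = a i from hij.symm] at h1
          subst h
          exact absurd (A.orderEmbOfFin_mem hA i) (Finset.mem_compl.1 h1)
      | right i =>
        induction j using Fin.addCases with
        | left j =>
          simp only [f₀, Fin.append_left, Fin.append_right] at hij
          have h1 := B.orderEmbOfFin_mem hB i
          rw [show B.orderEmbOfFin hB i = a j from hij] at h1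
          subst h
          exact absurd (A.orderEmbOfFin_mem hA j) (Finset.mem_compl.1 h1)
        | right j => simp only [f₀, Fin.append_right] at hij; rw [b.injective hij]
    let e : Equiv.Perm (Fin (p + r)) := Equiv.ofBijective f₀ (Finite.injective_iff_bijective.1 hinj)
    rw [show M.submatrix f₀ id = M.submatrix e id from rfl, Matrix.det_permute, mul_assoc _ _ M.det]
    congr 1
    congr 1
    rw [e.sign_eq_prod_prod_Ioi, Finset.prod_sigma']
    push_cast
    simp only [apply_ite (fun z : ℤˣ => ((z : ℤ) : k)), Units.val_neg, Units.val_one, Int.cast_neg, Int.cast_one]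
    rw [Finset.prod_ite, Finset.prod_const_one, one_mul, Finset.prod_const]
    congr 1
    refine Finset.card_bij (fun x _ => (e x.1, e x.2)) ?_ ?_ ?_
    · rintro ⟨i, j⟩ hx
      simp only [Finset.mem_filter, Finset.mem_sigma, Finset.mem_univ, true_and, Finset.mem_Ioi] at hx
      simp only [Finset.mem_filter, Finset.mem_product]
      obtain ⟨hij, hne⟩ := hx
      have hlt : e j < e i := lt_of_le_of_ne (not_lt.1 hne) fun h' => hij.ne' (e.injective h')
      induction i using Fin.addCases with
      | left i =>
        induction j using Fin.addCases with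
        | left j =>
          exfalso; apply hne
          change f₀ _ < f₀ _
          simp only [f₀, Fin.append_left]
          exact a.strictMono (Fin.lt_def.2 (Fin.lt_def.1 hij))
        | right j =>
          refine ⟨⟨?_, ?_⟩, hlt⟩
          · change f₀ _ ∈ A; simp only [f₀, Fin.append_left]; exact A.orderEmbOfFin_mem hA i
          · change f₀ _ ∈ Aᶜ; simp only [f₀, Fin.append_right]; rw [← h]; exact B.orderEmbOfFin_mem hB j
      | right i =>
        induction j using Fin.addCases with
        | left j =>
          exfalso
          have h1 := Fin.lt_def.1 hij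
          simp only [Fin.val_natAdd, Fin.val_castAdd] at h1
          omega
        | right j =>
          exfalso; apply hne
          change f₀ _ < f₀ _
          simp only [f₀, Fin.append_right]
          exact b.strictMono (by simpa using hij)
    · rintro ⟨i, j⟩ _ ⟨i', j'⟩ _ hx
      simp only [Prod.mk.injEq, e.injective.eq_iff] at hx
      obtain ⟨rfl, rfl⟩ := hx
      rfl
    · rintro ⟨x, y⟩ hx
      simp only [Finset.mem_filter, Finset.mem_product] at hx
      obtain ⟨⟨hx, hy⟩, hlt⟩ := hx
      obtain ⟨i, rfl⟩ : ∃ i, a i = x := by
        rw [← Set.mem_range, Finset.range_orderEmbOfFin]; exact hx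
      obtain ⟨j, rfl⟩ : ∃ j, b j = y := by
        rw [← Set.mem_range, Finset.range_orderEmbOfFin, h]; exact hy
      refine ⟨⟨Fin.castAdd r i, Fin.natAdd p j⟩, ?_, ?_⟩
      · simp only [Finset.mem_filter, Finset.mem_sigma, Finset.mem_univ, true_and, Finset.mem_Ioi]
        refine ⟨?_, ?_⟩
        · rw [Fin.lt_def]; simp only [Fin.val_natAdd, Fin.val_castAdd]; omega
        · simpa [e, f₀] using hlt.le
      · simp [e, f₀]
  · obtain ⟨x, hxA, hxB⟩ : ∃ x ∈ A, x ∈ B := by
      by_contra hne
      refine h (Finset.eq_of_subset_of_card_le (fun x hx => Finset.mem_compl.2 fun hxA => hne ⟨x, hxA, hx⟩) ?_)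
      rw [Finset.card_compl, Fintype.card_fin, hA, hB]; omega
    obtain ⟨i, hi⟩ : ∃ i, a i = x := by
      rw [← Set.mem_range, Finset.range_orderEmbOfFin]; exact hxA
    obtain ⟨j, hj⟩ : ∃ j, b j = x := by
      rw [← Set.mem_range, Finset.range_orderEmbOfFin]; exact hxB
    have hne : Fin.castAdd r i ≠ Fin.natAdd p j := fun he => by
      have := congrArg Fin.val he
      simp only [Fin.val_natAdd, Fin.val_castAdd] at this
      omega
    rw [Matrix.det_zero_of_row_eq hne (by funext c; simp [f₀, hi, hj]), mul_zero]

end Groth.Agent.S14879
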