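import Groth.Statements.S14882
import Groth.Agent.GrpSch.Cat

set_option autoImplicit false
universe u
open CategoryTheory MonoidalCategory CartesianMonoidalCategory MonObj GrpObj AlgebraicGeometry CategoryTheory.Limits
open AlgGrp

namespace Groth.Agent.S14882

/-- Over an algebraically closed field k of characteristic zero, let G be an algebraic group (a smooth
k-group scheme of finite type), X a variety (reduced, separated, of finite type over k) and Γ a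
finite group acting on X on the right (x ↦ x·σ, with x·(στ) = (x·σ)·τ). Let φ and φ' be 1-cocycles Γ
→ G(X), φ_{στ} = φ_σ · (φ_τ ∘ (·σ)), with attached Γ-linearizations of X × G given on points by
λ_σ(x, g) = (x·σ, φ_σ(x)⁻¹·g) and λ'_σ(x, g) = (x·σ, φ'_σ(x)⁻¹·g). Then the two Γ-linearized trivial
bundles are isomorphic, meaning that there is an automorphism Φ of X × G over X, commuting with the
action of G by right multiplication, with Φ ∘ λ_σ = λ'_σ ∘ Φ for every σ, if and only if the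
cocycles are cohomologous: there is ψ in G(X) with φ_σ = ψ⁻¹ · φ'_σ · (ψ ∘ (·σ)) for every σ. Hence
isomorphism classes of Γ-linearizations of the trivial bundle correspond to H¹(Γ, G(X)). -/
theorem result (k : Type u) [Field k] [IsAlgClosed k] [CharZero k]
    (G X : Over (Spec (CommRingCat.of k))) [GrpObj G] [Smooth G.hom] [QuasiCompact G.hom]
    [LocallyOfFiniteType X.hom] [QuasiCompact X.hom] [IsSeparated X.hom] [IsReduced X.left]
    (Γ : Type) [Group Γ] [Finite Γ] (ρ : Γ → (X ⟶ X)) (hρ₁ : ρ 1 = 𝟙 X) (hρ : ∀ σ τ : Γ, ρ (σ * τ) = ρ σ ≫ ρ τ)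
    (φ φ' : Γ → (X ⟶ G)) (hφ : ∀ σ τ : Γ, φ (σ * τ) = φ σ * (ρ σ ≫ φ τ))
    (hφ' : ∀ σ τ : Γ, φ' (σ * τ) = φ' σ * (ρ σ ≫ φ' τ))
    (lam lam' : Γ → (X ⊗ G ⟶ X ⊗ G))
    (hlam : ∀ (σ : Γ) (T : Over (Spec (CommRingCat.of k))) (x : T ⟶ X) (g : T ⟶ G),
      lift x g ≫ lam σ = lift (x ≫ ρ σ) ((x ≫ φ σ)⁻¹ * g))
    (hlam' : ∀ (σ : Γ) (T : Over (Spec (CommRingCat.of k))) (x : T ⟶ X) (g : T ⟶ G),
      lift x g ≫ lam' σ = lift (x ≫ ρ σ) ((x ≫ φ' σ)⁻¹ * g)) :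
    (∃ Φ : X ⊗ G ⟶ X ⊗ G, IsIso Φ ∧ Φ ≫ fst X G = fst X G ∧
      (∀ (T : Over (Spec (CommRingCat.of k))) (x : T ⟶ X) (g h : T ⟶ G),
        lift x (g * h) ≫ Φ ≫ snd X G = (lift x g ≫ Φ ≫ snd X G) * h) ∧
      ∀ σ : Γ, lam σ ≫ Φ = Φ ≫ lam' σ) ↔
    ∃ ψ : X ⟶ G, ∀ σ : Γ, φ σ = ψ⁻¹ * φ' σ * (ρ σ ≫ ψ) := by
  have univ : ∀ {Y : Over (Spec (CommRingCat.of k))} (p q : X ⊗ G ⟶ Y),
      (∀ (T : Over (Spec (CommRingCat.of k))) (x : T ⟶ X) (g : T ⟶ G), lift x g ≫ p = lift x g ≫ q) → p = q :=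
    fun p q h => by simpa using h _ (fst X G) (snd X G)
  have hlam1 : ∀ σ, lift (𝟙 X) (1 : X ⟶ G) ≫ lam σ = lift (ρ σ) (φ σ)⁻¹ := fun σ => by
    simp [hlam σ X (𝟙 X) 1]
  constructor
  · rintro ⟨Φ, -, hΦf, hΦe, hΦ⟩
    refine ⟨lift (𝟙 X) (1 : X ⟶ G) ≫ Φ ≫ snd X G, fun σ => ?_⟩
    have key : ∀ (T : Over (Spec (CommRingCat.of k))) (x : T ⟶ X) (g : T ⟶ G),
        lift x g ≫ Φ = lift x ((x ≫ lift (𝟙 X) (1 : X ⟶ G) ≫ Φ ≫ snd X G) * g) := fun T x g => by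
      have h := hΦe T x 1 g
      rw [_root_.one_mul] at h
      have e : x ≫ lift (𝟙 X) (1 : X ⟶ G) = lift x (1 : T ⟶ G) := by simp [comp_lift]
      apply CartesianMonoidalCategory.hom_ext
      · simp [hΦf]
      · rw [lift_snd, Category.assoc, h, ← Category.assoc x, e]
    have h := congrArg (fun q => lift (𝟙 X) (1 : X ⟶ G) ≫ q) (hΦ σ)
    generalize lift (𝟙 X) (1 : X ⟶ G) ≫ Φ ≫ snd X G = ψ at key ⊢
    rw [← Category.assoc, hlam1, key, ← Category.assoc (lift (𝟙 X) (1 : X ⟶ G)), key, hlam'] at h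
    have h2 := h =≫ snd X G
    simp only [lift_snd, Category.id_comp, _root_.mul_one] at h2
    rw [eq_inv_mul_iff_mul_eq] at h2
    rw [_root_.mul_assoc, eq_inv_mul_iff_mul_eq]
    conv_lhs => rw [← h2]
    group
  · rintro ⟨ψ, hψ⟩
    let Φ : X ⊗ G ⟶ X ⊗ G := lift (fst X G) ((fst X G ≫ ψ) * snd X G)
    have key : ∀ (T : Over (Spec (CommRingCat.of k))) (x : T ⟶ X) (g : T ⟶ G),
        lift x g ≫ Φ = lift x ((x ≫ ψ) * g) := fun T x g => by
      apply CartesianMonoidalCategory.hom_ext <;> simp [Φ, MonObj.comp_mul]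
    refine ⟨Φ, (Groth.Agent.GrpSch.shearLeft ψ).isIso_hom, lift_fst _ _,
      fun T x g h => ?_, fun σ => univ _ _ fun T x g => ?_⟩
    · rw [← Category.assoc, ← Category.assoc (lift x g), key, key]
      simp [_root_.mul_assoc]
    · rw [← Category.assoc, ← Category.assoc (lift x g), hlam, key, key, hlam', hψ]
      simp [MonObj.comp_mul, GrpObj.comp_inv, _root_.mul_assoc]

end Groth.Agent.S14882
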