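import Groth.Statements.S14885


set_option autoImplicit false
universe u v
open CategoryTheory TopologicalSpace Opposite AlgebraicGeometry Topology
open AlgGrp

namespace Groth.Agent.S14885

theorem res_res {X : SheafedSpace CommRingCat.{u}} {A B C : (Opens X)ᵒᵖ} (j : A ⟶ B) (k : B ⟶ C) (l : A ⟶ C)
    (x : X.presheaf.obj A) : X.presheaf.map k (X.presheaf.map j x) = X.presheaf.map l x := by
  rw [← CategoryTheory.comp_apply, ← Functor.map_comp]
  exact congrArg (fun m => X.presheaf.map m x) ((Quiver.Hom.unop_inj (Subsingleton.elim _ _)))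

theorem res_eq {X : SheafedSpace CommRingCat.{u}} {A B B' C : (Opens X)ᵒᵖ} (j : A ⟶ B) (k : B ⟶ C) (j' : A ⟶ B')
    (k' : B' ⟶ C) (x : X.presheaf.obj A) :
    X.presheaf.map k (X.presheaf.map j x) = X.presheaf.map k' (X.presheaf.map j' x) :=
  (res_res j k (j ≫ k) x).trans (res_res j' k' (j ≫ k) x).symm

theorem congr_c {X Z : SheafedSpace CommRingCat.{u}} (m f : X ⟶ Z) (e : m = f) (W : Opens Z)
    (i : op ((Opens.map f.hom.base).obj W) ⟶ op ((Opens.map m.hom.base).obj W)) (s : Z.presheaf.obj (op W)) :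
    m.hom.c.app (op W) s = X.presheaf.map i (f.hom.c.app (op W) s) := by
  subst e
  rw [Subsingleton.elim i (𝟙 _), CategoryTheory.Functor.map_id]; rfl

theorem c_res {X X' : SheafedSpace CommRingCat.{u}} (m : X ⟶ X') {A B : (Opens X')ᵒᵖ} (j : A ⟶ B)
    (s : X'.presheaf.obj A) :
    m.hom.c.app B (X'.presheaf.map j s) = X.presheaf.map ((Opens.map m.hom.base).map j.unop).op (m.hom.c.app A s) :=
  ConcreteCategory.congr_hom (m.hom.c.naturality j) s

theorem hom_ext' {X Z : SheafedSpace CommRingCat.{u}} (m f : X ⟶ Z) (w : m.hom.base = f.hom.base)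
    (h : ∀ (W : Opens Z) (i : op ((Opens.map m.hom.base).obj W) ⟶ op ((Opens.map f.hom.base).obj W))
      (s : Z.presheaf.obj (op W)), X.presheaf.map i (m.hom.c.app (op W) s) = f.hom.c.app (op W) s) : m = f := by
  refine SheafedSpace.ext m f w ?_
  ext W s
  exact h W _ s

theorem aux {X Y : SheafedSpace CommRingCat.{u}} {Γ : Type v} [Group Γ]
    (τ : Γ →* Aut X) (π : X ⟶ Y) (hτ : ∀ g : Γ, (τ g).hom ≫ π = π)
    (h1 : IsQuotientMap π.hom.base)
    (h2 : ∀ x x' : X, π.hom.base x = π.hom.base x' ↔ ∃ g : Γ, (τ g).hom.hom.base x = x')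
    (h3 : ∀ V : Opens Y, Function.Injective (π.hom.c.app (op V)) ∧
      Set.range (π.hom.c.app (op V)) =
        {s | ∀ g : Γ, (τ g).hom.hom.c.app (op ((Opens.map π.hom.base).obj V)) s =
          X.presheaf.map (eqToHom (congrArg (fun f : X ⟶ Y => op ((Opens.map f.hom.base).obj V)) (hτ g).symm)) s})
    (Z : SheafedSpace CommRingCat.{u}) (f : X ⟶ Z) (hf : ∀ g : Γ, (τ g).hom ≫ f = f) :
    ∃! fbar : Y ⟶ Z, π ≫ fbar = f := by
  have hfac : Function.FactorsThrough f.hom.base π.hom.base := by
    intro x x' h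
    obtain ⟨g, rfl⟩ := (h2 x x').mp h
    exact (ConcreteCategory.congr_hom (congrArg (fun m : X ⟶ Z => m.hom.base) (hf g)) x).symm
  let bm : C(Y, Z) := h1.lift f.hom.base.hom hfac
  have hb : π.hom.base ≫ TopCat.ofHom bm = f.hom.base := by
    apply TopCat.hom_ext
    exact h1.lift_comp f.hom.base.hom hfac
  have he : ∀ W : Opens Z, op ((Opens.map f.hom.base).obj W) =
      op ((Opens.map π.hom.base).obj ((Opens.map (TopCat.ofHom bm)).obj W)) := by
    intro W; rw [← hb]; rfl
  let F : ∀ W : Opens Z, Z.presheaf.obj (op W) ⟶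
      X.presheaf.obj (op ((Opens.map π.hom.base).obj ((Opens.map (TopCat.ofHom bm)).obj W))) :=
    fun W => f.hom.c.app (op W) ≫ X.presheaf.map (eqToHom (he W))
  have hex : ∀ (W : Opens Z) (s : Z.presheaf.obj (op W)),
      ∃ t : Y.presheaf.obj (op ((Opens.map (TopCat.ofHom bm)).obj W)), π.hom.c.app _ t = F W s := by
    intro W s
    show F W s ∈ Set.range _
    rw [(h3 _).2]
    intro g
    show (τ g).hom.hom.c.app _ (X.presheaf.map (eqToHom (he W)) (f.hom.c.app (op W) s)) =
      X.presheaf.map _ (X.presheaf.map (eqToHom (he W)) (f.hom.c.app (op W) s))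
    rw [c_res]
    have hk := congr_c ((τ g).hom ≫ f) f (hf g) W (eqToHom (congrArg (fun m : X ⟶ Z => op ((Opens.map m.hom.base).obj W)) (hf g).symm)) s
    have hk' : (τ g).hom.hom.c.app (op ((Opens.map f.hom.base).obj W)) (f.hom.c.app (op W) s) =
        X.presheaf.map (eqToHom (congrArg (fun m : X ⟶ Z => op ((Opens.map m.hom.base).obj W)) (hf g).symm)) (f.hom.c.app (op W) s) := hk
    rw [hk']
    exact res_eq _ _ _ _ _
  choose T hT using hex
  let c : Z.presheaf ⟶ (TopCat.ofHom bm) _* Y.presheaf :=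
    { app := fun W => CommRingCat.ofHom
        { toFun := T W.unop
          map_one' := (h3 _).1 (by rw [hT, map_one]; exact (map_one (π.hom.c.app _).hom).symm)
          map_mul' := fun a b => (h3 _).1 (by rw [hT, map_mul, map_mul, hT, hT])
          map_zero' := (h3 _).1 (by rw [hT, map_zero]; exact (map_zero (π.hom.c.app _).hom).symm)
          map_add' := fun a b => (h3 _).1 (by rw [hT, map_add, map_add, hT, hT]) }
      naturality := fun V W j => by
        ext s
        apply (h3 _).1
        refine (hT W.unop _).trans ?_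
        refine Eq.trans ?_ (c_res π _ _).symm
        refine Eq.trans ?_ (congrArg (X.presheaf.map _) (hT V.unop s)).symm
        show X.presheaf.map _ (f.hom.c.app W (Z.presheaf.map j s)) =
          X.presheaf.map _ (X.presheaf.map _ (f.hom.c.app V s))
        rw [c_res f]
        exact res_eq _ _ _ _ _ }
  let fb : Y ⟶ Z := InducedCategory.homMk { base := TopCat.ofHom bm, c := c }
  refine ⟨fb, hom_ext' (π ≫ fb) f hb fun W i s => ?_, fun m hm => ?_⟩
  · show X.presheaf.map i (π.hom.c.app _ (T W s)) = _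
    rw [hT]
    refine (res_res _ _ (𝟙 _) _).trans ?_
    rw [CategoryTheory.Functor.map_id]; rfl
  · have hbase : m.hom.base = TopCat.ofHom bm := by
      ext y
      obtain ⟨x, rfl⟩ := h1.surjective y
      exact (ConcreteCategory.congr_hom (congrArg (fun m : X ⟶ Z => m.hom.base) hm) x).trans
        (ConcreteCategory.congr_hom hb x).symm
    refine hom_ext' m fb hbase fun W i s => (h3 _).1 ?_
    show π.hom.c.app _ (Y.presheaf.map i (m.hom.c.app (op W) s)) = π.hom.c.app _ (T W s)
    rw [hT]
    refine (c_res π i _).trans ?_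
    have hk : π.hom.c.app (op ((Opens.map m.hom.base).obj W)) (m.hom.c.app (op W) s) =
        X.presheaf.map (eqToHom (by rw [← hm]; rfl)) (f.hom.c.app (op W) s) := congr_c (π ≫ m) f hm W _ s
    rw [hk]
    exact res_res _ _ _ _


/-- Let a group Γ act on a ringed space X (a topological space with a sheaf of rings) by automorphisms
τ_g, and let π : X → Y be a Γ-invariant morphism of ringed spaces which exhibits Y as the quotient
ringed space X/Γ: the underlying continuous map of π is a topological quotient map whose fibres are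
exactly the Γ-orbits, and for every open subset V of Y the ring map O_Y(V) → O_X(π⁻¹V) is injective
with image the sections s satisfying τ_g^♯(s) = s for all g. Then (Y, π) is a categorical quotient
for the action in the category of ringed spaces: every morphism of ringed spaces f : X → Z with f ∘
τ_g = f for all g (as morphisms of ringed spaces) factors uniquely as f = f̄ ∘ π. -/
theorem result (X Y : SheafedSpace CommRingCat.{u}) (Γ : Type v) [Group Γ]
    (τ : Γ →* Aut X) (π : X ⟶ Y) (hτ : ∀ g : Γ, (τ g).hom ≫ π = π)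
    (h1 : IsQuotientMap π.hom.base)
    (h2 : ∀ x x' : X, π.hom.base x = π.hom.base x' ↔ ∃ g : Γ, (τ g).hom.hom.base x = x')
    (h3 : ∀ V : Opens Y, Function.Injective (π.hom.c.app (op V)) ∧
      Set.range (π.hom.c.app (op V)) =
        {s | ∀ g : Γ, (τ g).hom.hom.c.app (op ((Opens.map π.hom.base).obj V)) s =
          X.presheaf.map (eqToHom (congrArg (fun f : X ⟶ Y => op ((Opens.map f.hom.base).obj V)) (hτ g).symm)) s})
    (Z : SheafedSpace CommRingCat.{u}) (f : X ⟶ Z) (hf : ∀ g : Γ, (τ g).hom ≫ f = f) :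
    ∃! fbar : Y ⟶ Z, π ≫ fbar = f := by
  exact aux τ π hτ h1 h2 h3 Z f hf

end Groth.Agent.S14885
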