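import Groth.Statements.S14886
import Groth.Agent.GrpSch.BundleMap

set_option autoImplicit false
universe u
open CategoryTheory MonoidalCategory CartesianMonoidalCategory MonObj GrpObj AlgebraicGeometry CategoryTheory.Limits
open AlgGrp

namespace Groth.Agent.S14886

/-- Over an algebraically closed field k of characteristic zero, let G be a connected algebraic group (a
smooth connected k-group scheme of finite type) and H an algebraic subgroup (a smooth closed
subgroup scheme, j : H → G). Let π : G → B be the quotient of G by H (a geometric quotient for the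
action h·g = g·h⁻¹ which is a principal H-bundle: (h, g) ↦ (g·h⁻¹, g) is an isomorphism H × G ≅ G
×_B G and π is flat). Let X and Y be varieties (reduced, separated, of finite type over k) with
H-actions, in each of which every finite set of points lies in an affine open subset, and let qX : G
× X → QX, qY : G × Y → QY and qXY : G × (X × Y) → QXY be the associated bundles G_H(X), G_H(Y) and
G_H(X × Y): geometric quotients (invariant, surjective, open, fibre-pair map surjective on points,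
sections = invariant sections) which are principal H-bundles, for the actions h·(g, x) = (g·h⁻¹,
h·x), h·(g, y) = (g·h⁻¹, h·y) and h·(g, x, y) = (g·h⁻¹, h·x, h·y), with QX, QY, QXY varieties over B
= G/H through pX, pY, pXY satisfying p ∘ q = π ∘ pr₁. Let fX : QXY → QX and fY : QXY → QY be the
morphisms over B induced by the projections, fX ∘ qXY = qX ∘ (id × pr₁) and fY ∘ qXY = qY ∘ (id ×
pr₂). Then the square formed by fX, fY, pX, pY is cartesian: G_H(X × Y) is the fibre product of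
G_H(X) and G_H(Y) over G/H. -/
theorem result (k : Type u) [Field k] [IsAlgClosed k] [CharZero k]
    (G H : Over (Spec (CommRingCat.of k))) [GrpObj G] [Smooth G.hom] [QuasiCompact G.hom]
    [ConnectedSpace ↥G.left] [GrpObj H] (j : H ⟶ G) [IsMonHom j] [IsClosedImmersion j.left] [Smooth H.hom]
    (B : Over (Spec (CommRingCat.of k))) [LocallyOfFiniteType B.hom] [QuasiCompact B.hom] [IsSeparated B.hom] [IsReduced B.left]
    (r : AlgGrp.Action H G) (hr : ∀ (T : Over (Spec (CommRingCat.of k))) (h : T ⟶ H) (g : T ⟶ G),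
      lift h g ≫ r.act = g * (h ≫ j)⁻¹)
    (π : G ⟶ B) (hπinv : GIT.IsInvariant r π)
    (hπ : (Function.Surjective π.left.base ∧ IsOpenMap π.left.base ∧
      Function.Surjective (GIT.PsiY r π hπinv).base ∧
      (∀ U : B.left.Opens, Function.Injective (π.left.app U) ∧
        Set.range (π.left.app U) = {f | GIT.IsInvSection r π U f}) ∧
      IsIso (GIT.PsiY r π hπinv) ∧ Flat π.left))
    (X Y : Over (Spec (CommRingCat.of k))) [LocallyOfFiniteType X.hom] [QuasiCompact X.hom] [IsSeparated X.hom] [IsReduced X.left] [LocallyOfFiniteType Y.hom] [QuasiCompact Y.hom] [IsSeparated Y.hom] [IsReduced Y.left]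
    (hFX : ∀ F : Finset ↥X.left, ∃ U : X.left.Opens, IsAffineOpen U ∧ (↑F : Set ↥X.left) ⊆ (U : Set ↥X.left))
    (hFY : ∀ F : Finset ↥Y.left, ∃ U : Y.left.Opens, IsAffineOpen U ∧ (↑F : Set ↥Y.left) ⊆ (U : Set ↥Y.left))
    (aX : AlgGrp.Action H X) (aY : AlgGrp.Action H Y)
    (b : AlgGrp.Action H (G ⊗ X))
    (hb : ∀ (T : Over (Spec (CommRingCat.of k))) (h : T ⟶ H) (g : T ⟶ G) (x : T ⟶ X),
      lift h (lift g x) ≫ b.act = lift (g * (h ≫ j)⁻¹) (lift h x ≫ aX.act))
    (c : AlgGrp.Action H (G ⊗ Y))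
    (hc : ∀ (T : Over (Spec (CommRingCat.of k))) (h : T ⟶ H) (g : T ⟶ G) (x : T ⟶ Y),
      lift h (lift g x) ≫ c.act = lift (g * (h ≫ j)⁻¹) (lift h x ≫ aY.act))
    (d : AlgGrp.Action H (G ⊗ (X ⊗ Y)))
    (hd : ∀ (T : Over (Spec (CommRingCat.of k))) (h : T ⟶ H) (g : T ⟶ G) (x : T ⟶ X) (y : T ⟶ Y),
      lift h (lift g (lift x y)) ≫ d.act = lift (g * (h ≫ j)⁻¹) (lift (lift h x ≫ aX.act) (lift h y ≫ aY.act)))
    (QX QY QXY : Over (Spec (CommRingCat.of k))) [LocallyOfFiniteType QX.hom] [QuasiCompact QX.hom] [IsSeparated QX.hom] [IsReduced QX.left] [LocallyOfFiniteType QY.hom] [QuasiCompact QY.hom] [IsSeparated QY.hom] [IsReduced QY.left] [LocallyOfFiniteType QXY.hom] [QuasiCompact QXY.hom] [IsSeparated QXY.hom] [IsReduced QXY.left]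
    (qX : G ⊗ X ⟶ QX) (hqXinv : GIT.IsInvariant b qX) (hqX : (Function.Surjective qX.left.base ∧ IsOpenMap qX.left.base ∧
      Function.Surjective (GIT.PsiY b qX hqXinv).base ∧
      (∀ U : QX.left.Opens, Function.Injective (qX.left.app U) ∧
        Set.range (qX.left.app U) = {f | GIT.IsInvSection b qX U f}) ∧
      IsIso (GIT.PsiY b qX hqXinv) ∧ Flat qX.left))
    (qY : G ⊗ Y ⟶ QY) (hqYinv : GIT.IsInvariant c qY) (hqY : (Function.Surjective qY.left.base ∧ IsOpenMap qY.left.base ∧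
      Function.Surjective (GIT.PsiY c qY hqYinv).base ∧
      (∀ U : QY.left.Opens, Function.Injective (qY.left.app U) ∧
        Set.range (qY.left.app U) = {f | GIT.IsInvSection c qY U f}) ∧
      IsIso (GIT.PsiY c qY hqYinv) ∧ Flat qY.left))
    (qXY : G ⊗ (X ⊗ Y) ⟶ QXY) (hqXYinv : GIT.IsInvariant d qXY) (hqXY : (Function.Surjective qXY.left.base ∧ IsOpenMap qXY.left.base ∧
      Function.Surjective (GIT.PsiY d qXY hqXYinv).base ∧
      (∀ U : QXY.left.Opens, Function.Injective (qXY.left.app U) ∧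
        Set.range (qXY.left.app U) = {f | GIT.IsInvSection d qXY U f}) ∧
      IsIso (GIT.PsiY d qXY hqXYinv) ∧ Flat qXY.left))
    (pX : QX ⟶ B) (hpX : qX ≫ pX = fst G X ≫ π) (pY : QY ⟶ B) (hpY : qY ≫ pY = fst G Y ≫ π)
    (pXY : QXY ⟶ B) (hpXY : qXY ≫ pXY = fst G (X ⊗ Y) ≫ π)
    (fX : QXY ⟶ QX) (hfX : qXY ≫ fX = (G ◁ fst X Y) ≫ qX) (hfXp : fX ≫ pX = pXY)
    (fY : QXY ⟶ QY) (hfY : qXY ≫ fY = (G ◁ snd X Y) ≫ qY) (hfYp : fY ≫ pY = pXY) :
    IsPullback fX.left fY.left pX.left pY.left := by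
  obtain ⟨hπs, -, -, -, hπiso, hπfl⟩ := hπ
  haveI : Surjective π.left := ⟨hπs⟩
  haveI := hπfl
  haveI : QuasiCompact π.left := Groth.Agent.GrpSch.BundleMap.quasiCompact_of_sep π
  obtain ⟨sb, -, -, -, ib, fb⟩ := hqX
  haveI : Surjective qX.left := ⟨sb⟩
  haveI := fb
  haveI : QuasiCompact (G ⊗ X).hom := Groth.Agent.GrpSch.BundleMap.quasiCompact_tensor G X
  haveI : QuasiCompact qX.left := Groth.Agent.GrpSch.BundleMap.quasiCompact_of_sep qX
  have hbb := Groth.Agent.GrpSch.BundleMap.isPullback_bundle r π hπinv hπiso b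
    (Groth.Agent.GrpSch.BundleMap.whisker_fst_act j r hr aX b hb) qX hqXinv ib pX hpX
  obtain ⟨sc, -, -, -, ic, fc⟩ := hqY
  haveI : Surjective qY.left := ⟨sc⟩
  haveI := fc
  haveI : QuasiCompact (G ⊗ Y).hom := Groth.Agent.GrpSch.BundleMap.quasiCompact_tensor G Y
  haveI : QuasiCompact qY.left := Groth.Agent.GrpSch.BundleMap.quasiCompact_of_sep qY
  have hbc := Groth.Agent.GrpSch.BundleMap.isPullback_bundle r π hπinv hπiso c
    (Groth.Agent.GrpSch.BundleMap.whisker_fst_act j r hr aY c hc) qY hqYinv ic pY hpY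
  obtain ⟨sd, -, -, -, id', fd⟩ := hqXY
  haveI : Surjective qXY.left := ⟨sd⟩
  haveI := fd
  haveI : QuasiCompact (X ⊗ Y).hom := Groth.Agent.GrpSch.BundleMap.quasiCompact_tensor X Y
  haveI : QuasiCompact (G ⊗ (X ⊗ Y)).hom := Groth.Agent.GrpSch.BundleMap.quasiCompact_tensor G (X ⊗ Y)
  haveI : QuasiCompact qXY.left := Groth.Agent.GrpSch.BundleMap.quasiCompact_of_sep qXY
  have hd1 : (H ◁ fst G (X ⊗ Y)) ≫ r.act = d.act ≫ fst G (X ⊗ Y) := by
    have e1 := hd (H ⊗ (G ⊗ (X ⊗ Y))) (fst _ _) (snd _ _ ≫ fst _ _) (snd _ _ ≫ snd _ _ ≫ fst _ _)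
      (snd _ _ ≫ snd _ _ ≫ snd _ _)
    have e2 : lift (fst H (G ⊗ (X ⊗ Y))) (lift (snd _ _ ≫ fst _ _)
        (lift (snd _ _ ≫ snd _ _ ≫ fst _ _) (snd _ _ ≫ snd _ _ ≫ snd _ _))) = 𝟙 _ := by
      apply CartesianMonoidalCategory.hom_ext
      · simp
      · apply CartesianMonoidalCategory.hom_ext
        · simp
        · apply CartesianMonoidalCategory.hom_ext <;> simp
    rw [e2, Category.id_comp] at e1
    rw [show H ◁ fst G (X ⊗ Y) = lift (fst H _) (snd H _ ≫ fst G (X ⊗ Y)) by
      apply CartesianMonoidalCategory.hom_ext <;> simp, hr, e1, lift_fst]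
  have hbd := Groth.Agent.GrpSch.BundleMap.isPullback_bundle r π hπinv hπiso d hd1 qXY hqXYinv id' pXY hpXY
  have w : fX.left ≫ pX.left = fY.left ≫ pY.left := by
    rw [← Over.comp_left, hfXp, ← Over.comp_left, hfYp]
  let φ := Limits.pullback.lift fX.left fY.left w
  let l := qXY.left ≫ φ
  have hl1 : l ≫ Limits.pullback.fst pX.left pY.left = (G ◁ fst X Y).left ≫ qX.left := by
    rw [Category.assoc, Limits.pullback.lift_fst, ← Over.comp_left, hfX, Over.comp_left]
  have hl2 : l ≫ Limits.pullback.snd pX.left pY.left = (G ◁ snd X Y).left ≫ qY.left := by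
    rw [Category.assoc, Limits.pullback.lift_snd, ← Over.comp_left, hfY, Over.comp_left]
  have h1 : IsPullback (l ≫ Limits.pullback.snd pX.left pY.left) (G ◁ fst X Y).left pY.left (qX.left ≫ pX.left) := by
    rw [hl2, hbb.w.symm]
    exact (Groth.Agent.GrpSch.BundleMap.isPullback_whiskerLeft_fst G X Y).paste_horiz hbc.flip
  have h2 := IsPullback.of_right h1 hl1 (IsPullback.of_hasPullback pX.left pY.left).flip
  have h3 := h2.paste_vert hbb.flip
  have h4 : IsPullback qXY.left (𝟙 _) φ l := by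
    refine IsPullback.of_bot ?_ (Category.id_comp l).symm h3
    rw [Category.id_comp, ← Over.comp_left (f := G ◁ fst X Y) (g := fst G X), whiskerLeft_fst,
      ← Category.assoc, Limits.pullback.lift_fst, ← Over.comp_left, hfXp]
    exact hbd.flip
  haveI : Surjective l := MorphismProperty.of_isPullback h3.flip ‹Surjective π.left›
  haveI : Flat l := MorphismProperty.of_isPullback h3.flip hπfl
  haveI : QuasiCompact l := MorphismProperty.of_isPullback h3.flip ‹QuasiCompact π.left›
  haveI : IsIso φ := MorphismProperty.of_isPullback_of_descendsAlong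
    (P := MorphismProperty.isomorphisms Scheme.{u}) (Q := @Surjective ⊓ @Flat ⊓ @QuasiCompact)
    h4.flip ⟨⟨‹Surjective l›, ‹Flat l›⟩, ‹QuasiCompact l›⟩ (inferInstanceAs (IsIso (𝟙 _)))
  exact IsPullback.of_iso_pullback ⟨w⟩ (asIso φ) (Limits.pullback.lift_fst _ _ _) (Limits.pullback.lift_snd _ _ _)

end Groth.Agent.S14886
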