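import Groth.Statements.S14887
import Groth.Agent.FlatEquidim.Scheme

set_option autoImplicit false
universe u
open CategoryTheory AlgebraicGeometry
open FlatMor

namespace Groth.Agent.S14887

/-- Let R be a valuation ring and let φ : X → Spec R be flat and locally of finite presentation. Call x
∈ X fibre-generic when it is the generic point of an irreducible component of its fibre, i.e. no
point y ≠ x with φ y = φ x specializes to x. Then every generization of a fibre-generic point is
fibre-generic. (The published statement allows an arbitrary base scheme and takes φ finitely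
presented. Over a two-dimensional base it fails: for the affine line over the affine plane with
coordinates a, b, the closed point u = a/b of the generic fibre specializes to the generic point of
the fibre over a = b = 0, and the chain-lifting step of the published proof does not hold in that
generality. This row takes the base to be the spectrum of a valuation ring, the case in which the
result is applied to relative curves, and assumes only local finite presentation, the property being
local on X.) -/
theorem result
    (R : Type u) [CommRing R] [IsDomain R] [ValuationRing R] {X : Scheme.{u}}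
    (φ : X ⟶ Spec (CommRingCat.of R)) [Flat φ] [LocallyOfFinitePresentation φ]
    (x x' : X) (hgen : x' ⤳ x) (hx : ∀ y : X, y ⤳ x → φ y = φ x → y = x) :
    ∀ y : X, y ⤳ x' → φ y = φ x' → y = x' := by
  classical
  have hV := isAffineOpen_top (Spec (CommRingCat.of R))
  obtain ⟨d, U, W, hU, e, hWU, hxW, -, π, hπ, hiff⟩ :=
    Groth.Agent.FlatEquidim.exists_nbhd φ x hx hV trivial
  have hx'W : x' ∈ W := hgen.mem_open W.isOpen hxW
  refine (hiff x' hx'W).2 ?_
  have hxP := (hiff x hxW).1 hx
  set P' := (hU.primeIdealOf ⟨x', hWU hx'W⟩).asIdeal
  set P := (hU.primeIdealOf ⟨x, hWU hxW⟩).asIdeal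
  have hle : P' ≤ P := (Groth.Agent.FlatEquidim.specializes_iff_le hU (hWU hxW) (hWU hx'W)).1 hgen
  let ι := (Scheme.ΓSpecIso (CommRingCat.of R)).commRingCatIsoToRingEquiv.symm
  have : ValuationRing Γ(Spec (CommRingCat.of R), ⊤) :=
    Function.Surjective.valuationRing ι.toRingHom ι.surjective
  refine le_antisymm (fun F hF => ?_) ?_
  · rw [MvPolynomial.mem_map_C_iff]
    rcases eq_or_ne F 0 with rfl | hF0
    · simp
    obtain ⟨m, hm, hdiv⟩ : ∃ m ∈ F.support, ∀ n ∈ F.support, F.coeff m ∣ F.coeff n := by
      have key : ∀ t : Finset (Fin d →₀ ℕ), t.Nonempty → ∃ m ∈ t, ∀ n ∈ t, F.coeff m ∣ F.coeff n := by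
        intro t ht
        induction ht using Finset.Nonempty.cons_induction with
        | singleton a => exact ⟨a, by simp, by simp⟩
        | cons a t ha ht ih =>
          obtain ⟨m, hm, h⟩ := ih
          rcases ValuationRing.dvd_total (F.coeff a) (F.coeff m) with h' | h'
          · exact ⟨a, by simp, fun n hn => by
              rcases Finset.mem_cons.1 hn with rfl | hn
              · exact dvd_rfl
              · exact h'.trans (h n hn)⟩
          · exact ⟨m, by simp [hm], fun n hn => by
              rcases Finset.mem_cons.1 hn with rfl | hn
              · exact h'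
              · exact h n hn⟩
      exact key _ (MvPolynomial.support_nonempty.2 hF0)
    obtain ⟨F₁, hF₁⟩ : MvPolynomial.C (F.coeff m) ∣ F := by
      rw [MvPolynomial.C_dvd_iff_dvd_coeff]
      intro n
      by_cases hn : n ∈ F.support
      · exact hdiv n hn
      · rw [MvPolynomial.notMem_support_iff.1 hn]; exact dvd_zero _
    have hF₁m : F₁.coeff m = 1 := by
      have h := congrArg (MvPolynomial.coeff m) hF₁
      rw [MvPolynomial.coeff_C_mul] at h
      exact mul_left_cancel₀ (MvPolynomial.mem_support_iff.1 hm) (by rw [mul_one]; exact h.symm)
    have hnot : π F₁ ∉ P' := fun h => by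
      have : F₁ ∈ P.comap π := hle h
      rw [hxP, MvPolynomial.mem_map_C_iff] at this
      exact (Ideal.IsPrime.comap _).ne_top ((Ideal.eq_top_iff_one _).2 (hF₁m ▸ this m))
    have hc : F.coeff m ∈ P'.comap (φ.appLE ⊤ U e).hom := by
      rw [Ideal.mem_comap, ← hπ, RingHom.comp_apply]
      refine ((hU.primeIdealOf ⟨x', hWU hx'W⟩).isPrime.mem_or_mem ?_).resolve_right hnot
      rw [← map_mul, ← hF₁]
      exact hF
    intro n
    rw [hF₁, MvPolynomial.coeff_C_mul]
    exact Ideal.mul_mem_right _ _ hc
  · rw [Ideal.map_le_iff_le_comap, Ideal.comap_comap, hπ]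

end Groth.Agent.S14887
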