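import Groth.Statements.S14892
import Mathlib
import Groth.Agent.ValApprox.Rank

set_option autoImplicit false
universe u
open CAlg

namespace Groth.Agent.S14892

/-- If the field K has finite transcendence degree d over its prime subfield, then every valuation
subring of K has height (Krull dimension) at most d + 1. -/
theorem result
    (K : Type u) [Field K] (A : ValuationSubring K) (d : ℕ)
    (hd : Algebra.trdeg (⊥ : Subfield K) K = d) :
    ringKrullDim A ≤ ((d + 1 : ℕ) : WithBot ℕ∞) := by
  let k : Subring K := ⊥
  let F : Subfield K := ⊥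
  letI : Algebra k F := (Subring.inclusion (bot_le : k ≤ F.toSubring)).toAlgebra
  haveI : IsScalarTower k F K := IsScalarTower.of_algebraMap_eq fun _ => rfl
  haveI : FaithfulSMul k F := (faithfulSMul_iff_algebraMap_injective _ _).2
    fun a b h => Subtype.ext (congrArg (fun z : F => (z : K)) h)
  haveI : Algebra.IsAlgebraic k F := ⟨fun z => by
    obtain ⟨y, hy, w, hw, hz⟩ := Subfield.mem_closure_iff.1
      (show (z : K) ∈ Subfield.closure (∅ : Set K) by rw [Subfield.closure_empty]; exact z.2)
    rw [Subring.closure_empty] at hy hw
    by_cases hw0 : w = 0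
    · have : z = 0 := Subtype.ext (by rw [← hz, hw0, div_zero]; rfl)
      exact this ▸ isAlgebraic_zero
    · refine ⟨Polynomial.C (⟨w, hw⟩ : k) * Polynomial.X - Polynomial.C ⟨y, hy⟩, fun h => hw0 ?_, ?_⟩
      · have h1 := congrArg (fun q => Polynomial.coeff q 1) h
        simpa using congrArg Subtype.val h1
      · rw [map_sub, map_mul, Polynomial.aeval_C, Polynomial.aeval_C, Polynomial.aeval_X, sub_eq_zero]
        refine Subtype.ext ?_
        show w * (z : K) = y
        rw [← hz]; field_simp⟩
  have hN : Algebra.trdeg k K ≤ d := by
    rw [← trdeg_add_eq k F (A := K), trdeg_eq_zero (R := k) (A := F), zero_add, hd]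
  refine iSup_le fun l => Nat.cast_le.2 ?_
  exact ValApprox.chain_bound_trdeg A.subtype Subtype.val_injective hN (fun i => (l.toFun i).asIdeal)
    (fun i => (l.toFun i).2) (fun i j hij => LTSeries.strictMono l hij)

end Groth.Agent.S14892
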