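import Groth.Statements.S14893
import Mathlib
import Groth.Agent.ValApprox.Rank
import Groth.Agent.PruferSL.Spectrum
import Groth.Agent.FibrePd.Local

set_option autoImplicit false
universe u
open CAlg

namespace Groth.Agent.S14893

/-- Every valuation ring R is a filtered union of subrings which are valuation rings with finite
spectrum (finite height): there is a nonempty directed index type and a monotone family of such
subrings of R whose supremum is R. -/
theorem result
    (R : Type u) [CommRing R] [IsDomain R] [ValuationRing R] :
    ∃ (ι : Type u) (_ : Preorder ι) (_ : IsDirected ι (fun a b ↦ a ≤ b)) (_ : Nonempty ι)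
      (F : ι → Subring R), Monotone F ∧ (⨆ i, F i) = ⊤ ∧
        ∀ i, ValuationRing (F i) ∧ Finite (PrimeSpectrum (F i)) := by
  classical
  let L := FractionRing R
  let K : Finset R → Subfield L := fun s => Subfield.closure ((s.image (algebraMap R L) : Finset L) : Set L)
  let F : Finset R → Subring R := fun s => (K s).toSubring.comap (algebraMap R L)
  have hmono : Monotone F := fun s t hst x hx =>
    Subfield.closure_mono (Finset.coe_subset.2 (Finset.image_subset_image hst)) hx
  refine ⟨Finset R, inferInstance, inferInstance, inferInstance, F, hmono, ?_, fun s => ?_⟩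
  · refine eq_top_iff.2 fun x _ => Subring.mem_iSup_of_directed hmono.directed_le |>.2 ⟨{x}, ?_⟩
    exact Subfield.subset_closure (Finset.mem_coe.2 (Finset.mem_image_of_mem _ (Finset.mem_singleton_self x)))
  have hmem : ∀ a b : F s, ∀ c : R, (a : R) * c = b → (a : R) ≠ 0 → c ∈ F s := by
    intro a b c h ha
    show algebraMap R L c ∈ K s
    have h0 : algebraMap R L a ≠ 0 := fun e => ha (IsFractionRing.injective R L (by rw [e, map_zero]))
    rw [show algebraMap R L c = algebraMap R L b / algebraMap R L a by
      rw [eq_div_iff h0, ← map_mul, mul_comm, h]]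
    exact div_mem b.2 a.2
  have key : ∀ a b : F s, (a : R) ∣ b → a ∣ b := by
    rintro a b ⟨c, hc⟩
    by_cases ha : (a : R) = 0
    · exact ⟨0, Subtype.ext (by rw [hc, ha, zero_mul]; simp)⟩
    · exact ⟨⟨c, hmem a b c hc.symm ha⟩, Subtype.ext hc⟩
  haveI hV : ValuationRing (F s) := ValuationRing.iff_dvd_total.2 ⟨fun a b =>
    ((ValuationRing.iff_dvd_total.1 ‹ValuationRing R›).total (a : R) b).imp (key a b) (key b a)⟩
  refine ⟨hV, ?_⟩
  let g : F s →+* K s := ((algebraMap R L).comp (F s).subtype).codRestrict (K s) fun x => x.2
  let t : Finset ↥(K s) := (s.image (algebraMap R L)).attach.image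
    fun x => ⟨x.1, Subfield.subset_closure (Finset.mem_coe.2 x.2)⟩
  have himg : ((K s).subtype '' (t : Set ↥(K s))) = ((s.image (algebraMap R L) : Finset L) : Set L) := by
    ext z
    simp [t]
    exact fun a ha haz => haz ▸ Subfield.subset_closure (Finset.mem_coe.2 (Finset.mem_image_of_mem _ ha))
  have htop : Subfield.closure (t : Set ↥(K s)) = ⊤ := by
    refine eq_top_iff.2 fun z _ => ?_
    have hz : (z : L) ∈ (Subfield.closure (t : Set ↥(K s))).map (K s).subtype := by
      rw [RingHom.map_field_closure, himg]
      exact z.2
    obtain ⟨w, hw, hwz⟩ := hz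
    rwa [← Subtype.ext hwz]
  have hVal : ∀ (p : Ideal (F s)) [p.IsPrime], ValuationRing (Localization.AtPrime p) :=
    fun p _ => FibrePd.valuationRing_atPrime (F s) p
  refine PruferSL.finite_primeSpectrum (F s) (fun p _ => ⟨inferInstance, hVal p⟩) inferInstance ?_
  exact lt_of_le_of_lt (ValApprox.ringKrullDim_le hVal g (fun a b h => Subtype.ext
    (IsFractionRing.injective R L (congrArg Subtype.val h))) t htop)
    (WithBot.coe_lt_coe.2 (ENat.coe_lt_top _))

end Groth.Agent.S14893
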