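import Mathlib
import Groth.Statements.S14896
-- import your own Groth.Agent.* helpers here

set_option autoImplicit false
set_option backward.isDefEq.respectTransparency false
set_option backward.isDefEq.respectTransparency.types false
universe u
open CAlg

namespace Groth.Agent.S14896

/-- Let L/K be a finite extension of valued fields, v_L extending v_K, with K° = the valuation ring of
v_K having finite spectrum (finite height), and L° the valuation ring of v_L. If L° is local-étale
over K°, i.e. L° is the localization at a prime ideal of some étale K°-algebra B compatibly with the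
K°-algebra structures, then L° is étale over K°. (For valued fields of finite height 'unramified' in
the local-étale sense is thus the same as K° → L° étale; the published lemma phrases the hypothesis
as 'L/K unramified'.) -/
theorem result
    {K L Γ₀ Γ₁ : Type u} [Field K] [Field L] [Algebra K L] [FiniteDimensional K L]
    [LinearOrderedCommGroupWithZero Γ₀] [LinearOrderedCommGroupWithZero Γ₁]
    (vK : Valuation K Γ₀) (vL : Valuation L Γ₁) [vK.HasExtension vL]
    [Finite (PrimeSpectrum vK.valuationSubring)]
    (B : Type u) [CommRing B] [Algebra vK.valuationSubring B] [Algebra.Etale vK.valuationSubring B]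
    [Algebra B vL.valuationSubring] [IsScalarTower vK.valuationSubring B vL.valuationSubring]
    (P : Ideal B) [P.IsPrime] [IsLocalization.AtPrime vL.valuationSubring P] :
    Algebra.Etale vK.valuationSubring vL.valuationSubring := by
  haveI : Finite (PrimeSpectrum B) := Algebra.QuasiFinite.finite_primeSpectrum vK.valuationSubring B
  cases nonempty_fintype (PrimeSpectrum B)
  have hch : ∀ q : PrimeSpectrum B, ∃ f : B, f ∉ P ∧ (¬ q.asIdeal ≤ P → f ∈ q.asIdeal) := by
    intro q
    by_cases h : q.asIdeal ≤ P
    · exact ⟨1, fun h1 => Ideal.IsPrime.ne_top inferInstance ((Ideal.eq_top_iff_one P).2 h1), fun h' => absurd h h'⟩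
    · obtain ⟨f, hf, hfP⟩ := SetLike.not_le_iff_exists.1 h
      exact ⟨f, hfP, fun _ => hf⟩
  choose fq hfq hfq' using hch
  let f := ∏ q, fq q
  have hf : f ∉ P := fun h => by
    obtain ⟨q, -, hq⟩ := Ideal.IsPrime.prod_mem_iff.1 h
    exact hfq q hq
  have hf' : ∀ q : PrimeSpectrum B, f ∉ q.asIdeal → q.asIdeal ≤ P := fun q hq => by
    by_contra h
    exact hq (Ideal.mem_of_dvd _ (Finset.dvd_prod_of_mem _ (Finset.mem_univ q)) (hfq' q h))
  have hu : ∀ s ∈ P.primeCompl, IsUnit (algebraMap B (Localization.Away f) s) := by
    intro s hs
    by_contra h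
    obtain ⟨Q, hQ, hsQ⟩ := exists_max_ideal_of_mem_nonunits h
    have hfQ : f ∉ Q.comap (algebraMap B (Localization.Away f)) := fun h' =>
      hQ.ne_top (Ideal.eq_top_of_isUnit_mem _ h' (IsLocalization.Away.algebraMap_isUnit f))
    exact hs (hf' ⟨_, Ideal.IsPrime.comap (algebraMap B (Localization.Away f))⟩ hfQ hsQ)
  haveI : IsLocalization P.primeCompl (Localization.Away f) :=
    IsLocalization.of_le (Submonoid.powers f) P.primeCompl (Submonoid.powers_le.2 hf) hu
  let e : Localization.Away f ≃ₐ[B] vL.valuationSubring := IsLocalization.algEquiv P.primeCompl _ _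
  haveI : Algebra.Etale B (Localization.Away f) := Algebra.Etale.of_isLocalizationAway f
  haveI : Algebra.Etale B vL.valuationSubring := Algebra.Etale.of_equiv e
  exact Algebra.Etale.comp vK.valuationSubring B vL.valuationSubring

end Groth.Agent.S14896
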