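import Groth.Statements.S14901
import Groth.Agent.DimTheory.GenFibre
import Groth.Agent.DimTheory.LocClosed
import Groth.Agent.DimFunLift.RelDim
import Groth.Agent.ConstrSets.Basic

set_option autoImplicit false
universe u
open MovLem

namespace Groth.Agent.S14901

open AlgebraicGeometry CategoryTheory in
/-- Let k be a field, let S and X be separated k-schemes of finite type that are locally equidimensional
(all irreducible components passing through a given point have the same dimension), let f : S → X be
a k-morphism and Z ⊆ X a closed subset. Let d be the dimension of the image f(S), as a subspace of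
X. If every point s of S with f(s) ∈ Z satisfies dim O_{S,s} ≥ d + 1 (equivalently: the closed
subset f⁻¹(Z) of S has local codimension at least d + 1 at each of its points), then f⁻¹(Z) is
empty. -/
theorem result (k : Type u) [Field k] (S X : Scheme.{u})
    (pS : S ⟶ Spec (CommRingCat.of k)) (pX : X ⟶ Spec (CommRingCat.of k))
    [IsSeparated pS] [LocallyOfFiniteType pS] [QuasiCompact pS]
    [IsSeparated pX] [LocallyOfFiniteType pX] [QuasiCompact pX]
    (hS : ∀ (s : S) (A B : Set S), A ∈ irreducibleComponents (S : Type u) → B ∈ irreducibleComponents (S : Type u) →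
      s ∈ A → s ∈ B → topologicalKrullDim A = topologicalKrullDim B)
    (hX : ∀ (x : X) (A B : Set X), A ∈ irreducibleComponents (X : Type u) → B ∈ irreducibleComponents (X : Type u) →
      x ∈ A → x ∈ B → topologicalKrullDim A = topologicalKrullDim B)
    (f : S ⟶ X) (hf : f ≫ pX = pS) (Z : Set X) (hZ : IsClosed Z)
    (h : ∀ s : S, f.base s ∈ Z →
      topologicalKrullDim (Set.range f.base) + 1 ≤ ringKrullDim (S.presheaf.stalk s)) :
    f.base ⁻¹' Z = ∅ := by
  haveI : LocallyOfFiniteType (f ≫ pX) := hf ▸ ‹LocallyOfFiniteType pS›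
  haveI : QuasiCompact (f ≫ pX) := hf ▸ ‹QuasiCompact pS›
  haveI : LocallyOfFiniteType f := locallyOfFiniteType_of_comp f pX
  haveI : QuasiCompact f := QuasiCompact.of_comp f pX
  haveI : IsLocallyNoetherian X := LocallyOfFiniteType.isLocallyNoetherian pX
  haveI : CompactSpace X := QuasiCompact.compactSpace_of_compactSpace pX
  haveI : IsNoetherian X := {}
  refine Set.eq_empty_iff_forall_notMem.2 fun s hs => ?_
  obtain ⟨g, hg, hgT⟩ := DimFunLift.exists_generic (f.asFiber s)
  let s' := f.fiberι (f s) g
  have hfs' : f s' = f s := FlatEquidim.fiberι_apply_eq _ _ g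
  have hmax : ∀ w, w ⤳ s' → f w = f s → w = s' := by
    intro w hw hwy
    obtain ⟨w, rfl⟩ : w ∈ Set.range (f.fiberι (f s)) := by
      rw [Scheme.Hom.range_fiberι]; exact hwy
    have hwm : w ⤳ g := (f.fiberι (f s)).isEmbedding.isInducing.specializes_iff.1 hw
    have hsub : closure {w} ⊆ closure {g} :=
      hgT.2 isIrreducible_singleton.closure hwm.closure_subset
    have hmw : g ⤳ w := specializes_iff_mem_closure.2 (hsub (subset_closure rfl))
    rw [(hwm.antisymm hmw).eq]
  obtain ⟨m, hm, -, hh⟩ := DimTheory.exists_height_eq_add_coheight (f ≫ pX) s'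
  obtain ⟨x', -, hx', hfx', hle⟩ := DimTheory.exists_generization_height_ge pX f (show m ⤳ s' from hm)
  rw [hmax x' hx' (hfx'.trans hfs'), hh] at hle
  -- the image has dimension at least the height of `f m`
  have hdim : (Order.height (f m) : WithBot ℕ∞) ≤ topologicalKrullDim (Set.range f.base) := by
    obtain ⟨W, hW, ⟨y, hyW, hyZ⟩, hsub⟩ := ConstrSets.exists_open_of_dense'
      (E := Set.range f.base) (by
        rw [← Set.image_univ]
        exact f.isConstructible_image Topology.IsConstructible.univ)
      (isIrreducible_singleton (x := f m)).closure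
      (closure_mono (Set.singleton_subset_iff.2 ⟨⟨m, rfl⟩, subset_closure rfl⟩))
    have hlc : IsLocallyClosed (W ∩ closure {f m}) := hW.isLocallyClosed.inter isClosed_closure.isLocallyClosed
    have hmW : f m ∈ W := (specializes_iff_mem_closure.2 hyZ).mem_open hW hyW
    calc (Order.height (f m) : WithBot ℕ∞)
        ≤ ⨆ z : ↥(W ∩ closure {f m}), (Order.height z.1 : WithBot ℕ∞) :=
          le_iSup (fun z : ↥(W ∩ closure {f m}) => (Order.height z.1 : WithBot ℕ∞))
            ⟨f m, hmW, subset_closure rfl⟩
      _ = topologicalKrullDim ↥(W ∩ closure {f m}) :=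
          (DimTheory.topologicalKrullDim_locallyClosed pX hlc).symm
      _ ≤ _ := (Topology.IsEmbedding.inclusion hsub).isInducing.topologicalKrullDim_le
  have h1 := h s' (show f s' ∈ Z from hfs' ▸ hs)
  rw [ringKrullDim_stalk_eq_coheight] at h1
  obtain ⟨a, -, ha⟩ := DimTheory.exists_height_eq (f ≫ pX) s'
  obtain ⟨b, -, hb⟩ := DimTheory.exists_height_eq pX (f s')
  obtain ⟨c, -, hc⟩ := DimTheory.exists_height_eq pX (f m)
  obtain ⟨e, he⟩ := ENat.ne_top_iff_exists.1 (DimTheory.coheight_lt_top (f ≫ pX) s').ne
  rw [ha, hb, hc, ← he] at hle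
  rw [← he] at h1
  rw [hc] at hdim
  have h2 : a + e + b ≤ a + c := by exact_mod_cast hle
  have h3 : ((c : ℕ∞) : WithBot ℕ∞) + 1 ≤ ((e : ℕ∞) : WithBot ℕ∞) := (add_le_add hdim le_rfl).trans h1
  have h4 : c + 1 ≤ e := by exact_mod_cast h3
  omega

end Groth.Agent.S14901
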