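import Groth.Statements.S1491
import Groth.Agent.LCIPres.Pres
import Mathlib

set_option autoImplicit false
universe u
attribute [local instance] HasDerivedCategory.standard
open FlatMor

namespace Groth.Agent.S1491

set_option linter.style.haveILetI false

open AlgebraicGeometry CategoryTheory Limits in
/-- Let f : X → Y and g : Y → Z be local complete intersection morphisms, in the affine-local sense that
all ring maps between affine opens are local complete intersection homomorphisms. Then f ≫ g is a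
local complete intersection morphism. -/
theorem result {X Y Z : Scheme.{u}} (f : X ⟶ Y) (g : Y ⟶ Z)
    (hf : (∀ (U : X.Opens) (V : Y.Opens) (hU : IsAffineOpen U) (hV : IsAffineOpen V) (hUV : U ≤ f ⁻¹ᵁ V),
        letI := (f.appLE V U hUV).hom.toAlgebra
        LCI.IsLCI Γ(Y, V) Γ(X, U)))
    (hg : (∀ (U : Y.Opens) (V : Z.Opens) (hU : IsAffineOpen U) (hV : IsAffineOpen V) (hUV : U ≤ g ⁻¹ᵁ V),
        letI := (g.appLE V U hUV).hom.toAlgebra
        LCI.IsLCI Γ(Z, V) Γ(Y, U))) :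
    (∀ (U : X.Opens) (V : Z.Opens) (hU : IsAffineOpen U) (hV : IsAffineOpen V) (hUV : U ≤ (f ≫ g) ⁻¹ᵁ V),
        letI := ((f ≫ g).appLE V U hUV).hom.toAlgebra
        LCI.IsLCI Γ(Z, V) Γ(X, U)) := by
  intro U V hU hV hUV
  letI : Algebra Γ(Z, V) Γ(X, U) := ((f ≫ g).appLE V U hUV).hom.toAlgebra
  haveI : LocallyOfFiniteType f := ⟨fun {W} hW {T} hT e => (hf T W hT hW e).1⟩
  haveI : LocallyOfFiniteType g := ⟨fun {W} hW {T} hT e => (hg T W hT hW e).1⟩
  haveI : Algebra.FiniteType Γ(Z, V) Γ(X, U) := (f ≫ g).finiteType_appLE hV hU hUV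
  let s : Set Γ(X, U) := {b | ∃ W : Y.Opens, IsAffineOpen W ∧ W ≤ g ⁻¹ᵁ V ∧ X.basicOpen b ≤ f ⁻¹ᵁ W}
  refine Groth.Agent.LCIPres.isLCI_of_span s ?_ ?_
  · rw [← hU.iSup_basicOpen_eq_self_iff]
    refine le_antisymm (iSup_le fun b => X.basicOpen_le _) fun x hx => ?_
    obtain ⟨W, hW, hxW, hWV⟩ := TopologicalSpace.Opens.isBasis_iff_nbhd.1 Y.isBasis_affineOpens
      (show f x ∈ g ⁻¹ᵁ V from hUV hx)
    obtain ⟨b, hb, hxb⟩ := hU.exists_basicOpen_le (V := f ⁻¹ᵁ W) ⟨x, hxW⟩ hx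
    exact TopologicalSpace.Opens.mem_iSup.2 ⟨⟨b, W, hW, hWV, hb⟩, hxb⟩
  · rintro b ⟨W, hW, hWV, hb⟩
    letI : Algebra Γ(Z, V) Γ(Y, W) := (g.appLE V W hWV).hom.toAlgebra
    letI : Algebra Γ(Y, W) Γ(X, X.basicOpen b) := (f.appLE W (X.basicOpen b) hb).hom.toAlgebra
    haveI : IsLocalization.Away b Γ(X, X.basicOpen b) := hU.isLocalization_basicOpen b
    letI : Algebra Γ(Z, V) Γ(X, X.basicOpen b) :=
      ((f ≫ g).appLE V (X.basicOpen b) ((X.basicOpen_le b).trans hUV)).hom.toAlgebra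
    haveI : IsScalarTower Γ(Z, V) Γ(Y, W) Γ(X, X.basicOpen b) := IsScalarTower.of_algebraMap_eq' <| by
      show ((f ≫ g).appLE V (X.basicOpen b) ((X.basicOpen_le b).trans hUV)).hom =
        (g.appLE V W hWV ≫ f.appLE W (X.basicOpen b) hb).hom
      rw [Scheme.Hom.appLE_comp_appLE]
    haveI : IsScalarTower Γ(Z, V) Γ(X, U) Γ(X, X.basicOpen b) := IsScalarTower.of_algebraMap_eq' <| by
      show ((f ≫ g).appLE V (X.basicOpen b) ((X.basicOpen_le b).trans hUV)).hom =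
        ((f ≫ g).appLE V U hUV ≫ X.presheaf.map (homOfLE (X.basicOpen_le b)).op).hom
      rw [Scheme.Hom.appLE_map]
    have h1 : LCI.IsLCI Γ(Z, V) Γ(Y, W) := hg W V hW hV hWV
    have h2 : LCI.IsLCI Γ(Y, W) Γ(X, X.basicOpen b) := hf (X.basicOpen b) W (hU.basicOpen b) hW hb
    have h3 : LCI.IsLCI Γ(Z, V) Γ(X, X.basicOpen b) := Groth.Agent.LCIPres.isLCI_trans h1 h2
    exact Groth.Agent.LCIPres.isLCI_congr
      ((IsLocalization.algEquiv (Submonoid.powers b) Γ(X, X.basicOpen b) (Localization.Away b)).restrictScalars Γ(Z, V)) h3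

end Groth.Agent.S1491
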