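import Groth.Statements.S14958
import Mathlib
import Groth.Agent.MilnorLib.Criteria
import Groth.Agent.TorElem.Basic

set_option autoImplicit false
universe u
open TensorProduct CategoryTheory CategoryTheory.Limits
open EtAlg

namespace Groth.Agent.S14958

/-- Let B' = B ×_A A' be a fibre product of commutative rings with A' → A surjective and L' a B'-module.
Then L' is a fixed point of the glueing adjunction, i.e. the canonical map from L' to the compatible
pairs in (B ⊗_{B'} L') × (A' ⊗_{B'} L') is injective (it is always surjective), if and only if the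
map Tor_1(L', B) ⊕ Tor_1(L', A') → Tor_1(L', A) over B' induced by B → A and A' → A is surjective.
Here Tor_1(L', –) is the first left derived functor of L' ⊗_{B'} – on B'-modules. -/
theorem result (B' B A' A : Type u) [CommRing B'] [CommRing B] [CommRing A'] [CommRing A]
    [Algebra B' B] [Algebra B' A'] [Algebra B A] [Algebra A' A] [Algebra B' A] [IsScalarTower B' B A] [IsScalarTower B' A' A]
    (hsq : EtMil.IsFibreSquare B' B A' A)
    (L' : Type u) [AddCommGroup L'] [Module B' L'] :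
    (∀ l : L', ((1 : B) ⊗ₜ[B'] l : B ⊗[B'] L') = 0 → ((1 : A') ⊗ₜ[B'] l : A' ⊗[B'] L') = 0 → l = 0) ↔
    Epi (biprod.desc
      (((Tor (ModuleCat.{u} B') 1).obj (ModuleCat.of B' L')).map
        (ModuleCat.ofHom (IsScalarTower.toAlgHom B' B A).toLinearMap))
      (((Tor (ModuleCat.{u} B') 1).obj (ModuleCat.of B' L')).map
        (ModuleCat.ofHom (IsScalarTower.toAlgHom B' A' A).toLinearMap))) := by
  classical
  obtain ⟨F, iF1, iF2, iF3, p, hp⟩ : ∃ (F : Type u) (_ : AddCommGroup F) (_ : Module B' F) (_ : Module.Flat B' F)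
      (p : F →ₗ[B'] L'), Function.Surjective p :=
    ⟨L' →₀ B', inferInstance, inferInstance, inferInstance, Finsupp.linearCombination B' (id : L' → L'),
      Finsupp.linearCombination_id_surjective B' L'⟩
  obtain ⟨K, iK1, iK2, i, hi, hip⟩ : ∃ (K : Type u) (_ : AddCommGroup K) (_ : Module B' K) (i : K →ₗ[B'] F),
      Function.Injective i ∧ Function.Exact i p :=
    ⟨↥(LinearMap.ker p), inferInstance, inferInstance, (LinearMap.ker p).subtype,
      (LinearMap.ker p).subtype_injective, LinearMap.exact_subtype_ker_map p⟩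
  obtain ⟨θ, hinj, hrange, hnat⟩ := Groth.Agent.TorElem.exists_natural_ker i p hi hip hp
  let g1 : B →ₗ[B'] A := (IsScalarTower.toAlgHom B' B A).toLinearMap
  let g2 : A' →ₗ[B'] A := (IsScalarTower.toAlgHom B' A' A).toLinearMap
  -- step 1: elementwise form of `Epi`
  have hepi : Epi (biprod.desc
      (((Tor (ModuleCat.{u} B') 1).obj (ModuleCat.of B' L')).map (ModuleCat.ofHom g1))
      (((Tor (ModuleCat.{u} B') 1).obj (ModuleCat.of B' L')).map (ModuleCat.ofHom g2))) ↔
      ∀ t : A ⊗[B'] K, i.lTensor A t = 0 → ∃ (tb : B ⊗[B'] K) (ta : A' ⊗[B'] K),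
        i.lTensor B tb = 0 ∧ i.lTensor A' ta = 0 ∧ t = g1.rTensor K tb + g2.rTensor K ta := by
    rw [ModuleCat.epi_iff_surjective]
    constructor
    · intro hs t ht
      obtain ⟨h, hh⟩ : t ∈ LinearMap.range (θ (ModuleCat.of B' A)) := by rw [hrange]; exact ht
      obtain ⟨x, hx⟩ := hs h
      refine ⟨θ (ModuleCat.of B' B) ((biprod.fst : ((Tor (ModuleCat.{u} B') 1).obj (ModuleCat.of B' L')).obj (ModuleCat.of B' B) ⊞ _ ⟶ _).hom x), θ (ModuleCat.of B' A') ((biprod.snd : _ ⊞ ((Tor (ModuleCat.{u} B') 1).obj (ModuleCat.of B' L')).obj (ModuleCat.of B' A') ⟶ _).hom x), ?_, ?_, ?_⟩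
      · exact (hrange (ModuleCat.of B' B)).le ⟨_, rfl⟩
      · exact (hrange (ModuleCat.of B' A')).le ⟨_, rfl⟩
      · rw [← hh, ← hx, biprod.desc_eq]
        show θ (ModuleCat.of B' A) (_ + _) = _
        rw [map_add]
        exact congrArg₂ (· + ·) (hnat _ _ (ModuleCat.ofHom g1) _) (hnat _ _ (ModuleCat.ofHom g2) _)
    · intro H h
      obtain ⟨tb, ta, htb, hta, he⟩ := H (θ (ModuleCat.of B' A) h)
        ((hrange (ModuleCat.of B' A)).le ⟨_, rfl⟩)
      obtain ⟨hb, rfl⟩ : tb ∈ LinearMap.range (θ (ModuleCat.of B' B)) := by rw [hrange]; exact htb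
      obtain ⟨ha, rfl⟩ : ta ∈ LinearMap.range (θ (ModuleCat.of B' A')) := by rw [hrange]; exact hta
      refine ⟨(biprod.inl : _ ⟶ _ ⊞ ((Tor (ModuleCat.{u} B') 1).obj (ModuleCat.of B' L')).obj (ModuleCat.of B' A')).hom hb +
        (biprod.inr : _ ⟶ ((Tor (ModuleCat.{u} B') 1).obj (ModuleCat.of B' L')).obj (ModuleCat.of B' B) ⊞ _).hom ha, ?_⟩
      apply hinj (ModuleCat.of B' A)
      rw [he, map_add, map_add]
      refine congrArg₂ (· + ·) ?_ ?_
      · refine Eq.trans (congrArg (θ _) (congrArg (fun f => ModuleCat.Hom.hom f hb) (biprod.inl_desc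
          (((Tor (ModuleCat.{u} B') 1).obj (ModuleCat.of B' L')).map (ModuleCat.ofHom g1)) (((Tor (ModuleCat.{u} B') 1).obj (ModuleCat.of B' L')).map (ModuleCat.ofHom g2))))) ?_
        exact hnat _ _ (ModuleCat.ofHom g1) hb
      · refine Eq.trans (congrArg (θ _) (congrArg (fun f => ModuleCat.Hom.hom f ha) (biprod.inr_desc
          (((Tor (ModuleCat.{u} B') 1).obj (ModuleCat.of B' L')).map (ModuleCat.ofHom g1)) (((Tor (ModuleCat.{u} B') 1).obj (ModuleCat.of B' L')).map (ModuleCat.ofHom g2))))) ?_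
        exact hnat _ _ (ModuleCat.ofHom g2) ha
  refine Iff.trans ?_ hepi.symm
  -- step 2: the diagram chase
  have hB1 : ∀ k : K, g1.rTensor K ((1 : B) ⊗ₜ[B'] k) = (1 : A) ⊗ₜ[B'] k := fun k => by simp [g1]
  have hA1 : ∀ k : K, g2.rTensor K ((1 : A') ⊗ₜ[B'] k) = (1 : A) ⊗ₜ[B'] k := fun k => by simp [g2]
  have hBF : ∀ f : F, g1.rTensor F ((1 : B) ⊗ₜ[B'] f) = (1 : A) ⊗ₜ[B'] f := fun f => by simp [g1]
  have hAF : ∀ f : F, g2.rTensor F ((1 : A') ⊗ₜ[B'] f) = (1 : A) ⊗ₜ[B'] f := fun f => by simp [g2]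
  have hcomB : ∀ x : B ⊗[B'] K, g1.rTensor F (i.lTensor B x) = i.lTensor A (g1.rTensor K x) := fun x => by
    rw [← LinearMap.comp_apply, LinearMap.rTensor_comp_lTensor, ← LinearMap.lTensor_comp_rTensor,
      LinearMap.comp_apply]
  have hcomA : ∀ x : A' ⊗[B'] K, g2.rTensor F (i.lTensor A' x) = i.lTensor A (g2.rTensor K x) := fun x => by
    rw [← LinearMap.comp_apply, LinearMap.rTensor_comp_lTensor, ← LinearMap.lTensor_comp_rTensor,
      LinearMap.comp_apply]
  constructor
  · intro H t ht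
    obtain ⟨k, rfl⟩ := LinearMap.rTensor_surjective K (show Function.Surjective g2 from hsq.1) t
    obtain ⟨f, hf1, hf2⟩ := Groth.Agent.MilnorLib.pair_surjective hsq (0 : B ⊗[B'] F) (i.lTensor A' k)
      (by rw [map_zero, hcomA, ht])
    have h0 : p f = 0 := H (p f)
      (by rw [← LinearMap.lTensor_tmul, hf1, map_zero])
      (by
        rw [← LinearMap.lTensor_tmul, hf2, ← LinearMap.comp_apply, ← LinearMap.lTensor_comp,
          hip.linearMap_comp_eq_zero, LinearMap.lTensor_zero, LinearMap.zero_apply])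
    obtain ⟨k0, rfl⟩ := (hip f).1 h0
    refine ⟨(1 : B) ⊗ₜ k0, k - (1 : A') ⊗ₜ k0, ?_, ?_, ?_⟩
    · rw [LinearMap.lTensor_tmul, hf1]
    · rw [map_sub, LinearMap.lTensor_tmul, hf2, sub_self]
    · rw [map_sub, hB1, hA1, add_sub_cancel]
  · intro H l h1 h2
    obtain ⟨f, rfl⟩ := hp l
    rw [← LinearMap.lTensor_tmul] at h1 h2
    obtain ⟨kb, hkb⟩ := (lTensor_exact B hip hp _).1 h1
    obtain ⟨ka, hka⟩ := (lTensor_exact A' hip hp _).1 h2
    obtain ⟨tb, ta, htb, hta, he⟩ := H (g1.rTensor K kb - g2.rTensor K ka)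
      (by rw [map_sub, ← hcomB, ← hcomA, hkb, hka, hBF, hAF, sub_self])
    obtain ⟨k, hk1, hk2⟩ := Groth.Agent.MilnorLib.pair_surjective hsq (kb - tb) (ka + ta) (by
      show g1.rTensor K (kb - tb) = g2.rTensor K (ka + ta)
      rw [map_sub, map_add, ← sub_eq_zero]
      have he' := sub_eq_zero.2 he
      rw [← he']
      abel)
    have hfk : f - i k = 0 := by
      refine Groth.Agent.MilnorLib.pair_injective_of_flat hsq ?_ ?_
      · rw [tmul_sub, ← LinearMap.lTensor_tmul, hk1, map_sub, hkb, htb, sub_zero, sub_self]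
      · rw [tmul_sub, ← LinearMap.lTensor_tmul, hk2, map_add, hka, hta, add_zero, sub_self]
    rw [sub_eq_zero.1 hfk]
    exact hip.apply_apply_eq_zero k

end Groth.Agent.S14958
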