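import Groth.Statements.S1496
import Groth.Agent.ProjUPLib.QProjAmple
-- import your own Groth.Agent.* helpers here

set_option autoImplicit false
set_option backward.isDefEq.respectTransparency false
set_option backward.isDefEq.respectTransparency.types false
universe u
attribute [local instance] HasDerivedCategory.standard
open FlatMor

namespace Groth.Agent.S1496

open AlgebraicGeometry CategoryTheory Limits in
/-- Let S be a scheme carrying an ample invertible sheaf and f : X → S a morphism. Then f is a closed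
immersion into some projective space over S (f factors as a closed immersion X → Pⁿ_S followed by
the projection Pⁿ_S → S, for some n) if and only if f is proper and X carries an ample invertible
sheaf; and the latter holds if and only if f is proper and some O_X-module is ample relative to f. -/
theorem result {X S : Scheme.{u}} (hS : ∃ N : S.Modules, CohB1.IsAmple N) (f : X ⟶ S) :
    ((∃ (n : ℕ) (i : X ⟶ CohB1.ProjSpaceOver n S), IsClosedImmersion i ∧ i ≫ pullback.snd (CohB1.ProjSpace.toSpec n (ULift.{u} ℤ)) (specULiftZIsTerminal.from S) = f) ↔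
      (IsProper f ∧ ∃ L : X.Modules, CohB1.IsAmple L)) ∧
    ((IsProper f ∧ ∃ L : X.Modules, CohB1.IsAmple L) ↔ (IsProper f ∧ ∃ L : X.Modules, RelAmple.IsRelAmple f L)) := by
  obtain ⟨N, hN⟩ := hS
  haveI := Groth.Agent.GenLocus.isSeparated_of_isAmple hN
  refine ⟨⟨?_, ?_⟩, ⟨?_, ?_⟩⟩
  · rintro ⟨n, i, hi, hif⟩
    haveI := Groth.Agent.ProjUPLib.isProper_toBase.{u} n S
    refine ⟨hif ▸ inferInstance, ?_⟩
    exact Groth.Agent.ProjUPLib.exists_ample_of_relAmple ⟨N, hN⟩ f
      (Groth.Agent.ProjUPLib.of_immersion f i hif).2.2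
  · rintro ⟨hp, h⟩
    obtain ⟨n, i, hi, hq, hif⟩ := Groth.Agent.ProjUPLib.exists_immersion_of_ample f h
    haveI := Groth.Agent.ProjUPLib.isProper_toBase.{u} n S
    haveI : IsProper (i ≫ pullback.snd (CohB1.ProjSpace.toSpec n (ULift.{u} ℤ)) (specULiftZIsTerminal.from S)) := by
      rw [hif]; exact hp
    exact ⟨n, i, Groth.Agent.ProjUPLib.isClosedImmersion_of_proper i
      (pullback.snd (CohB1.ProjSpace.toSpec n (ULift.{u} ℤ)) (specULiftZIsTerminal.from S)), hif⟩
  · rintro ⟨hp, L, hL⟩
    exact ⟨hp, L, Groth.Agent.ProjUPLib.exists_relAmple_of_ample f hL⟩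
  · rintro ⟨hp, h⟩
    exact ⟨hp, Groth.Agent.ProjUPLib.exists_ample_of_relAmple ⟨N, hN⟩ f h⟩

end Groth.Agent.S1496
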