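import Groth.Statements.S14966
import Groth.Agent.MilnorLib.Basic

set_option autoImplicit false
universe u
open EtAlg

namespace Groth.Agent.S14966

/-- Let A → A' be an injective homomorphism of commutative rings and let I ⊆ A be the conductor, i.e.
the annihilator of the A-module A'/A. Then the conductor square formed by A → A/I, A → A', A/I →
A'/IA' and A' → A'/IA' is a fibre product square of rings with A' → A'/IA' surjective: A = A/I
×_{A'/IA'} A'. (The published Lemma is for the conductor square of a finite modification of schemes;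
this row is the underlying statement for one injective ring map, which needs no finiteness.) -/
theorem result (A A' : Type u) [CommRing A] [CommRing A'] [Algebra A A']
    (hinj : Function.Injective (algebraMap A A')) :
    EtMil.IsFibreSquare A (A ⧸ Module.annihilator A (A' ⧸ LinearMap.range (Algebra.linearMap A A'))) A'
      (A' ⧸ Ideal.map (algebraMap A A') (Module.annihilator A (A' ⧸ LinearMap.range (Algebra.linearMap A A')))) := by
  set c := Module.annihilator A (A' ⧸ LinearMap.range (Algebra.linearMap A A'))
  have hc : ∀ x ∈ c, ∀ a' : A', ∃ d ∈ c, algebraMap A A' d = algebraMap A A' x * a' := by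
    intro x hx a'
    have h : ∀ y : A', ∃ d, algebraMap A A' d = algebraMap A A' x * y := fun y => by
      have := Module.mem_annihilator.1 hx (Submodule.Quotient.mk y)
      rw [← Submodule.Quotient.mk_smul, Submodule.Quotient.mk_eq_zero] at this
      obtain ⟨d, hd⟩ := this
      exact ⟨d, hd.trans (Algebra.smul_def x y)⟩
    obtain ⟨d, hd⟩ := h a'
    refine ⟨d, Module.mem_annihilator.2 fun z => ?_, hd⟩
    obtain ⟨z, rfl⟩ := Submodule.Quotient.mk_surjective _ z
    obtain ⟨e, he⟩ := h (a' * z)
    rw [← Submodule.Quotient.mk_smul, Submodule.Quotient.mk_eq_zero]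
    exact ⟨e, by rw [Algebra.linearMap_apply, he, Algebra.smul_def, hd, mul_assoc]⟩
  refine ⟨Ideal.Quotient.mk_surjective, ?_⟩
  intro b a' hba
  obtain ⟨a₀, rfl⟩ := Ideal.Quotient.mk_surjective b
  have h0 : a' - algebraMap A A' a₀ ∈ c.map (algebraMap A A') := by
    rw [← Ideal.Quotient.eq_zero_iff_mem, map_sub, sub_eq_zero]
    exact hba.symm
  have h1 : ∀ y ∈ c.map (algebraMap A A'), ∀ z, ∃ d ∈ c, algebraMap A A' d = y * z := by
    intro y hy
    induction hy using Submodule.span_induction with
    | mem x hx => obtain ⟨x, hx, rfl⟩ := hx; exact hc x hx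
    | zero => exact fun z => ⟨0, zero_mem _, by simp⟩
    | add p q _ _ hp hq =>
      intro z
      obtain ⟨d, hd, hd'⟩ := hp z
      obtain ⟨e, he, he'⟩ := hq z
      exact ⟨d + e, add_mem hd he, by rw [map_add, hd', he', add_mul]⟩
    | smul r p _ hp =>
      intro z
      obtain ⟨d, hd, hd'⟩ := hp (r * z)
      exact ⟨d, hd, by rw [hd', smul_eq_mul]; ring⟩
  obtain ⟨d, hd, hd'⟩ := h1 _ h0 1
  rw [mul_one] at hd'
  refine ⟨a₀ + d, ⟨?_, ?_⟩, fun y hy => hinj ?_⟩
  · show Ideal.Quotient.mk c (a₀ + d) = Ideal.Quotient.mk c a₀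
    rw [Ideal.Quotient.eq, add_sub_cancel_left]
    exact hd
  · rw [map_add, hd', add_sub_cancel]
  · rw [hy.2, map_add, hd', add_sub_cancel]

end Groth.Agent.S14966
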