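import Groth.Statements.S14978
import Groth.Agent.AlgStB.QuotHom
import Groth.Agent.AlgStB.SecAt

set_option autoImplicit false
universe u
open CategoryTheory MonoidalCategory CartesianMonoidalCategory AlgebraicGeometry
open AlgSt

namespace Groth.Agent.S14978
set_option backward.isDefEq.respectTransparency false
set_option maxHeartbeats 1000000

/-- Let `S` be a scheme, `G` a group scheme over `S` whose structure morphism is affine, flat and
locally of finite presentation, acting on a scheme `X` over `S`, and `M` an algebraic space over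
`S`. A morphism of fppf sheaves `f : h_X ⟶ M` which is `G`-invariant (its composites with the action
`G ×_S X ⟶ X` and with the projection agree) factors through the canonical functor `X ⟶ [X/G]` by
exactly one functor `[X/G] ⟶ M` over `(Sch/S)` (this is the lifting half of the correspondence
between morphisms `[X/G] ⟶ M` and `G`-invariant morphisms `X ⟶ M`). Here `[X/G]` is the fppf
quotient stack described by `G`-torsors that are schemes together with an equivariant map to `X`,
and `M` is viewed as the category of its sections over `(Sch/S)`; since that category is fibred in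
sets, equality of functors over the base is the appropriate uniqueness. (The published statement
takes the base `S` affine; this row allows any base scheme.) -/
theorem result (S : Scheme.{u}) (G : Over S) [GrpObj G]
    [IsAffineHom G.hom] [Flat G.hom] [LocallyOfFinitePresentation G.hom]
    (X : Over S) (aX : AlgGrp.Action G X) (M : AlgSp.Space S)
    (f : (AlgSp.yon S).obj X ⟶ M.obj)
    (hf : (AlgSp.yon S).map aX.act ≫ f = (AlgSp.yon S).map (snd G X) ≫ f) :
    ∃! φ : AlgSt.QuotSt Scheme.fppfPrecoverage G aX ⥤ᵇ AlgSt.ofSp M.obj,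
      BasedFunctor.comp (AlgSt.quotMap Scheme.fppfPrecoverage G aX) φ = AlgSt.ofSpMap f := by
  open MonoidalCategory CartesianMonoidalCategory MonObj Opposite in
  let W := M.obj.obj
  have hW : Presieve.IsSheaf (AlgSp.J S) W := (isSheaf_iff_isSheaf_of_type _ _).1 M.obj.property
  let pt : ∀ {Z : Over S}, (Z ⟶ X) → W.obj (op Z) := fun {Z} x => f.hom.app (op Z) ⟨x⟩
  have hnat : ∀ {Z' Z : Over S} (k : Z' ⟶ Z) (x : Z ⟶ X), W.map k.op (pt x) = pt (k ≫ x) :=
    fun k x => (ConcreteCategory.congr_hom (f.hom.naturality k.op) ⟨x⟩).symm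
  have hinv : ∀ {Z : Over S} (g : Z ⟶ G) (x : Z ⟶ X), pt (lift g x ≫ aX.act) = pt x := fun {Z} g x => by
    have h := congrArg (fun t => t.hom.app (op Z) ⟨lift g x⟩) hf
    have h' : pt (lift g x ≫ aX.act) = pt (lift g x ≫ snd G X) := h
    rwa [lift_snd] at h'
  let R : ∀ A : AlgSt.QuotObj Scheme.fppfPrecoverage G aX, Sieve A.base := fun A =>
    { arrows := fun Z k => ∃ s : Z ⟶ A.P, s ≫ A.π = k
      downward_closed := fun {Z Z'} {k} hk g => by
        obtain ⟨s, hs⟩ := hk
        exact ⟨g ≫ s, by rw [Category.assoc, hs]⟩ }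
  have hR : ∀ A, R A ∈ AlgSp.J S A.base := fun A => by
    obtain ⟨R₀, hR₀, hs⟩ := A.loc
    rw [GrothendieckTopology.mem_over_iff]
    refine GrothendieckTopology.superset_covering _ ?_ (Precoverage.generate_mem_toGrothendieck hR₀)
    rw [Sieve.generate_le_iff]
    intro T' k hk
    obtain ⟨s₀, hs₀⟩ := hs k hk
    have hs₀' : s₀ ≫ A.π.left = k := hs₀
    rw [Sieve.overEquiv_iff]
    exact ⟨Over.homMk s₀ (by simp only [Over.mk_hom]; rw [← hs₀', Category.assoc, Over.w A.π]),
      Over.OverMorphism.ext hs₀'⟩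
  let fam : ∀ A, Presieve.FamilyOfElements W (R A).arrows := fun A Z k hk => pt (hk.choose ≫ A.φ)
  have hind : ∀ (A : AlgSt.QuotObj Scheme.fppfPrecoverage G aX) {Z : Over S} (s t : Z ⟶ A.P),
      s ≫ A.π = t ≫ A.π → pt (s ≫ A.φ) = pt (t ≫ A.φ) := fun A Z s t hst => by
    let w := A.cart.lift s t hst
    have hw : w = lift (w ≫ fst G A.P) t := by
      apply CartesianMonoidalCategory.hom_ext
      · rw [lift_fst]
      · rw [lift_snd]; exact A.cart.lift_snd _ _ _
    have hs : w ≫ A.act.act = s := A.cart.lift_fst _ _ _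
    rw [← hs, hw, Category.assoc, A.eqv, lift_whiskerLeft_assoc]
    exact hinv _ _
  have hfam : ∀ A, (fam A).Compatible := fun A => by
    rw [Presieve.compatible_iff_sieveCompatible]
    intro Z Z' k g hk
    change pt (_ ≫ A.φ) = W.map g.op (pt (_ ≫ A.φ))
    rw [hnat, ← Category.assoc]
    refine hind A _ _ ?_
    refine Eq.trans ?_ ((Category.assoc _ _ _).trans (congrArg (g ≫ ·) hk.choose_spec)).symm
    exact ((R A).downward_closed hk g).choose_spec
  let sec : ∀ A : AlgSt.QuotObj Scheme.fppfPrecoverage G aX, W.obj (op A.base) := fun A =>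
    (hW (R A) (hR A) (fam A) (hfam A)).choose
  have hsec : ∀ (A : AlgSt.QuotObj Scheme.fppfPrecoverage G aX) {Z : Over S} (s : Z ⟶ A.P),
      W.map (s ≫ A.π).op (sec A) = pt (s ≫ A.φ) := fun A Z s => by
    refine ((hW (R A) (hR A) (fam A) (hfam A)).choose_spec.1 (s ≫ A.π) ⟨s, rfl⟩).trans ?_
    exact hind A _ _ (Exists.choose_spec (⟨s, rfl⟩ : ∃ t : Z ⟶ A.P, t ≫ A.π = s ≫ A.π))
  have hmap : ∀ {A B : AlgSt.QuotObj Scheme.fppfPrecoverage G aX} (h : A ⟶ B),
      W.map h.base.op (sec B) = sec A := fun {A B} h => by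
    refine (hW (R A) (hR A)).isSeparatedFor.ext fun Z k hk => ?_
    obtain ⟨s, rfl⟩ := hk
    have hw : (s ≫ h.top) ≫ B.π = (s ≫ A.π) ≫ h.base := by rw [Category.assoc, Category.assoc, h.cart.w]
    rw [hsec, ← Functor.map_comp_apply, ← op_comp, ← hw, hsec, Category.assoc, h.wφ]
  let φ : AlgSt.QuotSt Scheme.fppfPrecoverage G aX ⥤ᵇ AlgSt.ofSp M.obj :=
    { toFunctor :=
        { obj := fun A => ⟨A.base, sec A⟩
          map := fun h => ⟨h.base, hmap h⟩ }
      w := rfl }
  have bext : ∀ {𝒜 ℬ : AlgSt.Cat S} (F F' : 𝒜 ⥤ᵇ ℬ), F.toFunctor = F'.toFunctor → F = F' := by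
    intro 𝒜 ℬ F F' h; cases F; cases F'; cases h; rfl
  refine ⟨φ, ?_, fun ψ hψ => ?_⟩
  · have hobj : ∀ a, (BasedFunctor.comp (AlgSt.quotMap Scheme.fppfPrecoverage G aX) φ).obj a = (AlgSt.ofSpMap f).obj a := by
      intro a
      let A := (AlgSt.quotMap Scheme.fppfPrecoverage G aX).obj a
      have h := hsec A (lift (1 : a.base ⟶ G) (𝟙 a.base) : a.base ⟶ G ⊗ a.base)
      have e1 : (lift (1 : a.base ⟶ G) (𝟙 a.base) : a.base ⟶ G ⊗ a.base) ≫ A.π = 𝟙 a.base := lift_snd _ _
      have e2 : (lift (1 : a.base ⟶ G) (𝟙 a.base) : a.base ⟶ G ⊗ a.base) ≫ A.φ = a.sec.down := by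
        change lift (1 : a.base ⟶ G) (𝟙 a.base) ≫ (G ◁ a.sec.down) ≫ aX.act = _
        rw [lift_whiskerLeft_assoc, Category.id_comp, AlgGrp.Action.lift_one_act]
      rw [e1, e2] at h
      change (⟨a.base, sec A⟩ : Stk.EltObj W) = ⟨a.base, f.hom.app _ a.sec⟩
      exact congrArg (Stk.EltObj.mk a.base) ((by simp : W.map (𝟙 a.base).op (sec A) = sec A).symm.trans h)
    refine bext _ _ (CategoryTheory.Functor.ext hobj fun a b g => ?_)
    apply Stk.EltObj.hom_ext
    have key : ∀ {p q : Stk.EltObj W} (e : p = q), (eqToHom e).hom = eqToHom (congrArg Stk.EltObj.base e) := by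
      intro p q e; subst e; rfl
    simp only [Stk.EltObj.comp_hom, key]
    change g.hom = 𝟙 _ ≫ g.hom ≫ 𝟙 _
    simp
  · have hsecψ : ∀ A, Groth.Agent.AlgStB.secAt ψ A = sec A := by
      intro A
      refine (hW (R A) (hR A)).isSeparatedFor.ext fun Z k hk => ?_
      obtain ⟨s, rfl⟩ := hk
      rw [hsec]
      let m := Groth.Agent.AlgStB.QuotHom.homOfSection (K := Scheme.fppfPrecoverage) A (s ≫ A.π) s rfl
      refine (Groth.Agent.AlgStB.secAt_natural ψ m).trans ?_
      have h := Groth.Agent.AlgStB.secAt_comp (AlgSt.quotMap Scheme.fppfPrecoverage G aX) ψ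
        ((AlgSt.ofOverCat X).obj (Over.mk (s ≫ A.φ)))
      rw [hψ] at h
      simp only [eqToHom_refl, op_id, Functor.map_id] at h
      refine Eq.trans ?_ (h.symm.trans ?_)
      · exact (by simp : W.map (𝟙 _) (Groth.Agent.AlgStB.secAt ψ _) = _).symm
      · exact ConcreteCategory.congr_hom (W.map_id _) _
    have hobj : ∀ A, ψ.obj A = φ.obj A := fun A => by
      refine Groth.Agent.AlgStB.eq_of_sec_eq (ψ.w_obj A) rfl ?_
      refine (hsecψ A).trans ?_
      exact (by simp : W.map (𝟙 (op A.base)) (sec A) = sec A).symm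
    refine bext _ _ (CategoryTheory.Functor.ext hobj fun a b g => ?_)
    apply Stk.EltObj.hom_ext
    have h1 : (ψ.map g).hom = eqToHom (ψ.w_obj a) ≫ g.base ≫ eqToHom (ψ.w_obj b).symm :=
      Groth.Agent.Fib.w_map ψ g
    have key : ∀ {p q : Stk.EltObj W} (e : p = q), (eqToHom e).hom = eqToHom (congrArg Stk.EltObj.base e) := by
      intro p q e; subst e; rfl
    simp [Stk.EltObj.comp_hom, h1, key, φ]

end Groth.Agent.S14978
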