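import Groth.Statements.S14984
-- import your own Groth.Agent.* helpers here

set_option autoImplicit false
universe u v w
open HopfRep

namespace Groth.Agent.S14984

/-- Let `R` be a commutative ring, `A` a commutative Hopf algebra over `R`, flat as an `R`-module, `B` a
commutative `R`-algebra with a coaction of `A` that is an algebra map (an action of `G = Spec A` on
`X = Spec B`), and `C = B^A` the ring of invariants. If the action base-changed along `R → C` — the
`C`-Hopf algebra `C ⊗ A` coacting on `C ⊗ B` — is tame, i.e. there is a `C`-linear comodule map `β :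
C ⊗ A → C ⊗ B` (regular coaction on the source, base-changed coaction on the target) with `β 1 = 1`,
then the original action is tame: there is an `R`-linear comodule map `α : A → B` with `α 1 = 1`.
(The converse is the case `S = C` of stability of tameness under base change. The published lemma
also lists, as a third equivalent condition, tameness of the action of `C ⊗ A` on `B` itself over
`C`; that condition is not stated here.) -/
theorem result
    (R : Type u) (A : Type v) (B : Type w)
    [CommRing R] [CommRing A] [HopfAlgebra R A] [Module.Flat R A]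
    [CommRing B] [Algebra R B] [HopfRep.Comod R A B] [GLin.IsCoactAlg R A B]
    (h : ∃ β : TensorProduct R ↥(GLin.invariants R A B) A →ₗ[↥(GLin.invariants R A B)]
        TensorProduct R ↥(GLin.invariants R A B) B,
      @Hoch.IsComodHom ↥(GLin.invariants R A B) _ (TensorProduct R ↥(GLin.invariants R A B) A) _ _ _
        (TensorProduct R ↥(GLin.invariants R A B) A) _ _
        (HopfRep.Comod.regular ↥(GLin.invariants R A B) (TensorProduct R ↥(GLin.invariants R A B) A))
        (TensorProduct R ↥(GLin.invariants R A B) B) _ _
        (CoactBr.Comod.baseChange R ↥(GLin.invariants R A B) A B) β ∧ β 1 = 1) :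
    ∃ α : A →ₗ[R] B, Hoch.IsComodHom A α ∧ α 1 = 1 := by
  obtain ⟨β, hβ, h1⟩ := h
  letI := CoactBr.Comod.baseChange R ↥(GLin.invariants R A B) A B
  let μ : TensorProduct R ↥(GLin.invariants R A B) B →ₗ[R] B :=
    (LinearMap.mul' R B).comp (TensorProduct.map (GLin.invariants R A B).val.toLinearMap LinearMap.id)
  have hμ : ∀ (s : ↥(GLin.invariants R A B)) (b : B), μ (s ⊗ₜ[R] b) = (s : B) * b := fun s b => rfl
  let α : A →ₗ[R] B := μ ∘ₗ (β.restrictScalars R) ∘ₗ (TensorProduct.mk R ↥(GLin.invariants R A B) A 1)
  refine ⟨α, ?_, ?_⟩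
  swap
  · show μ (β (1 ⊗ₜ[R] 1)) = 1
    rw [← Algebra.TensorProduct.one_def, h1, Algebra.TensorProduct.one_def, hμ]
    simp
  let Φ : TensorProduct ↥(GLin.invariants R A B) (TensorProduct R ↥(GLin.invariants R A B) B)
      (TensorProduct R ↥(GLin.invariants R A B) A) →ₗ[R] TensorProduct R B A :=
    (μ.rTensor A) ∘ₗ ((TensorProduct.AlgebraTensorModule.cancelBaseChange R ↥(GLin.invariants R A B)
      ↥(GLin.invariants R A B) (TensorProduct R ↥(GLin.invariants R A B) B) A).toLinearMap.restrictScalars R)
  have hΦ : ∀ (x : TensorProduct R ↥(GLin.invariants R A B) B) (s : ↥(GLin.invariants R A B)) (a : A),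
      Φ (x ⊗ₜ (s ⊗ₜ[R] a)) = μ (s • x) ⊗ₜ[R] a := fun x s a => by
    simp only [Φ, LinearMap.comp_apply, LinearMap.restrictScalars_apply, LinearEquiv.coe_coe,
      TensorProduct.AlgebraTensorModule.cancelBaseChange_tmul, LinearMap.rTensor_tmul]
  have hequiv : ∀ x : TensorProduct R ↥(GLin.invariants R A B) B,
      HopfRep.Comod.coact (k := R) (A := A) (μ x) = Φ ((CoactBr.Comod.baseChange R ↥(GLin.invariants R A B) A B).coact x) := by
    intro x
    induction x with
    | zero => simp
    | add x y hx hy => simp only [map_add, hx, hy]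
    | tmul s b =>
      rw [hμ, CoactBr.baseChange_coact_tmul]
      have hs : HopfRep.Comod.coact (k := R) (A := A) ((s : B) * b) =
          ((s : B) ⊗ₜ[R] (1 : A)) * HopfRep.Comod.coact (k := R) (A := A) b := by
        rw [← GLin.coactAlgHom_apply, map_mul, GLin.coactAlgHom_apply, GLin.coactAlgHom_apply]
        exact congrArg (· * _) s.2
      rw [hs]
      generalize HopfRep.Comod.coact (k := R) (A := A) b = z
      induction z with
      | zero => simp
      | add x y hx hy => simp only [mul_add, TensorProduct.tmul_add, map_add, hx, hy]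
      | tmul b₀ b₁ =>
        rw [TensorProduct.AlgebraTensorModule.tensorTensorTensorComm_tmul, hΦ, Algebra.TensorProduct.tmul_mul_tmul,
          one_mul, TensorProduct.smul_tmul', smul_eq_mul, mul_one, hμ]
  refine LinearMap.ext fun a => ?_
  simp only [LinearMap.comp_apply]
  show HopfRep.Comod.coact (k := R) (A := A) (μ (β (1 ⊗ₜ[R] a))) = _
  rw [hequiv]
  have h2 := LinearMap.congr_fun hβ (1 ⊗ₜ[R] a)
  simp only [LinearMap.comp_apply] at h2
  refine (congrArg Φ h2).trans ?_
  show Φ (β.rTensor _ (TensorProduct.AlgebraTensorModule.tensorTensorTensorComm R ↥(GLin.invariants R A B) R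
      ↥(GLin.invariants R A B) ↥(GLin.invariants R A B) ↥(GLin.invariants R A B) A A
        (((1 : ↥(GLin.invariants R A B)) ⊗ₜ 1) ⊗ₜ[R] CoalgebraStruct.comul (R := R) (A := A) a))) =
    α.rTensor A (CoalgebraStruct.comul (R := R) (A := A) a)
  generalize CoalgebraStruct.comul (R := R) (A := A) a = z
  induction z with
  | zero => simp
  | add x y hx hy => simp only [TensorProduct.tmul_add, map_add, hx, hy]
  | tmul a₁ a₂ =>
    rw [TensorProduct.AlgebraTensorModule.tensorTensorTensorComm_tmul, LinearMap.rTensor_tmul, hΦ, one_smul,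
      LinearMap.rTensor_tmul]
    rfl

end Groth.Agent.S14984
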