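import Groth.Statements.S1499
import Groth.Agent.ProjUPLib.RelAmpleTwist
import Groth.Agent.GenLocus.Rel
import Groth.Agent.GenLocus.UnivClosed
-- import your own Groth.Agent.* helpers here

set_option autoImplicit false
universe u
attribute [local instance] HasDerivedCategory.standard
open FlatMor

namespace Groth.Agent.S1499

open AlgebraicGeometry CategoryTheory Limits in
/-- Let f : X → Y with Y having an ample family of invertible modules, and suppose some O_X-module is
ample relative to f. Then X has an ample family of invertible modules. -/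
theorem result {X Y : Scheme.{u}} (f : X ⟶ Y)
    (hY : MoreMor.HasAmpleFamily Y) (L : X.Modules) (hL : RelAmple.IsRelAmple f L) :
    MoreMor.HasAmpleFamily X := by
  classical
  obtain ⟨hYc, hY⟩ := hY
  choose K n c hKi hn hxc haff using hY
  haveI := hL.1
  haveI : CompactSpace X := QuasiCompact.compactSpace_of_compactSpace f
  let D : Y → Y.Opens := fun y => CohB1.genLocus _ (c y)
  have hDD : ∀ y z, IsAffineOpen (D y ⊓ D z) := fun y z => by
    haveI := Groth.Agent.GenLocus.isAffineHom_genLocus_ι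
      (Groth.Agent.TensorMod.isInvertible_tensorPow (hKi y) (n y)) (c y)
    have := ((haff z).preimage (D y).ι).image_of_isOpenImmersion (D y).ι
    rwa [Scheme.Hom.image_preimage_eq_opensRange_inf, Scheme.Opens.opensRange_ι] at this
  have hcov : ⨆ y, D y = ⊤ := eq_top_iff.2 fun y _ => TopologicalSpace.Opens.mem_iSup.2 ⟨y, hxc y⟩
  haveI : IsAffineHom (pullback.diagonal (terminal.from Y)) :=
    Groth.Agent.GenLocus.isAffineHom_diagonal_of_cover D hcov haff hDD
  haveI : QuasiSeparated (terminal.from Y) := ⟨inferInstance⟩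
  haveI : QuasiSeparatedSpace Y := (quasiSeparatedSpace_iff_quasiSeparated Y).2 inferInstance
  haveI : IsSeparated f := by
    refine IsZariskiLocalAtTarget.of_iSup_eq_top (P := @IsSeparated)
      (fun V : Y.affineOpens ↦ V.1) (iSup_affineOpens_eq_top Y) fun V ↦ ?_
    haveI : (f ⁻¹ᵁ V.1).toScheme.IsSeparated := Groth.Agent.GenLocus.isSeparated_of_isAmple (hL.2 V)
    infer_instance
  haveI : QuasiSeparatedSpace X := quasiSeparatedSpace_of_quasiSeparated f
  have hLi := Groth.Agent.GenLocus.isInvertible_of_isRelAmple f hL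
  refine ⟨inferInstance, fun x => ?_⟩
  let K' := (Scheme.Modules.pullback f).obj (CohB1.tensorPow (K (f x)) (n (f x)))
  have hK'i := Groth.Agent.GenLocus.isInvertible_pullback f
    (Groth.Agent.TensorMod.isInvertible_tensorPow (hKi (f x)) (n (f x)))
  let σ : Γ(K', ⊤) := Groth.Agent.GenLocus.sect (Groth.Agent.GenLocus.pullHom f (c (f x))) ⊤
  have hσ : Groth.Agent.ProjUPLib.loc K' σ = f ⁻¹ᵁ D (f x) :=
    (Groth.Agent.ProjUPLib.loc_sect _).trans (Groth.Agent.GenLocus.genLocus_pullHom f
      (Groth.Agent.TensorMod.isInvertible_tensorPow (hKi (f x)) (n (f x))) _)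
  have hamp : CohB1.IsAmple (L.restrict (Groth.Agent.ProjUPLib.loc K' σ).ι) :=
    (Groth.Agent.GenLocus.isAmple_restrict_congr L hσ).2 (hL.2 ⟨_, haff (f x)⟩)
  have hxσ : x ∈ Groth.Agent.ProjUPLib.loc K' σ := hσ.ge (hxc (f x))
  obtain ⟨a, s, hxs, hs⟩ := hamp.2.2 ⟨x, hxσ⟩
  let e := (Groth.Agent.TensorMod.tensorPowCongr ((Scheme.Modules.restrictFunctorIsoPullback _).app L) (a + 1) ≪≫
    (Groth.Agent.GenLocus.pullPowIso _ hLi (a + 1)).symm ≪≫
    ((Scheme.Modules.restrictFunctorIsoPullback (Groth.Agent.ProjUPLib.loc K' σ).ι).app _).symm)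
  obtain ⟨N, τ, hτ⟩ := (Groth.Agent.ProjUPLib.eventually_exists_loc_eq
    (Groth.Agent.TensorMod.isInvertible_tensorPow hLi (a + 1)) hK'i σ (s ≫ e.hom)).exists
  rw [Groth.Agent.GenLocus.genLocus_comp_iso] at hτ
  let L' := CohB1.tensorMod (CohB1.tensorMod (CohB1.tensorPow L (a + 1)) (CohB1.tensorPow K' N)) K'
  refine ⟨L', 1, Groth.Agent.GenLocus.homOfSection _ τ ≫ (Groth.Agent.TensorMod.tensorPowOneIso L').inv,
    Groth.Agent.TensorMod.isInvertible_tensorMod (Groth.Agent.TensorMod.isInvertible_tensorMod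
      (Groth.Agent.TensorMod.isInvertible_tensorPow hLi (a + 1))
      (Groth.Agent.TensorMod.isInvertible_tensorPow hK'i N)) hK'i, le_rfl, ?_⟩
  rw [show (Groth.Agent.TensorMod.tensorPowOneIso L').inv = (Groth.Agent.TensorMod.tensorPowOneIso L').symm.hom from rfl,
    Groth.Agent.GenLocus.genLocus_comp_iso]
  refine ⟨hτ.ge ⟨⟨x, hxσ⟩, hxs, rfl⟩, ?_⟩
  show IsAffineOpen (Groth.Agent.ProjUPLib.loc _ τ)
  rw [hτ]
  exact hs.image_of_isOpenImmersion _
end Groth.Agent.S1499
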