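import Groth.Statements.S14994
import Mathlib.LinearAlgebra.Dual.Lemmas
-- import your own Groth.Agent.* helpers here

set_option autoImplicit false
set_option backward.isDefEq.respectTransparency false
set_option backward.isDefEq.respectTransparency.types false
universe u
open CAlg

namespace Groth.Agent.S14994

/-- Let A be a Noetherian integrally closed domain, M a finitely generated torsion-free A-module, N a
submodule of M and ι : M → M** the canonical map to the double dual. Write N** → M** for the double
dual of the inclusion N → M. Then every m ∈ M whose image ι(m) lies in the image of N** is a torsion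
element modulo N: some nonzero a ∈ A satisfies a·m ∈ N. In other words the preimage of N** under ι
is contained in the saturation of N in M (the preimage of the torsion submodule of M/N), and the two
coincide when M/N is torsion-free. (The published statement asserts equality of the preimage with
the saturation for every N; for N = xA inside M = A = k[x] the saturation is all of M while N** has
image xA = N under the identification M** = M, so only the inclusion stated here holds, and it is
the inclusion later used, for saturated N, where the two sides agree.) -/
theorem result (A : Type u) [CommRing A] [IsDomain A]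
    [IsNoetherianRing A] [IsIntegrallyClosed A]
    (M : Type u) [AddCommGroup M] [Module A M] [Module.Finite A M] [NoZeroSMulDivisors A M]
    (N : Submodule A M) :
    (LinearMap.range N.subtype.dualMap.dualMap).comap (Module.Dual.eval A M) ≤
      (Submodule.torsion A (M ⧸ N)).comap N.mkQ := by
  classical
  intro m hm
  obtain ⟨ξ, hξ⟩ := hm
  rw [Submodule.mem_comap, Submodule.mem_torsion_iff]
  by_contra hne
  push Not at hne
  let K := FractionRing A
  let j : (M ⧸ N) →ₗ[A] LocalizedModule (nonZeroDivisors A) (M ⧸ N) := LocalizedModule.mkLinearMap _ _
  have hv : j (N.mkQ m) ≠ 0 := fun h => by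
    obtain ⟨a, ha⟩ := (IsLocalizedModule.eq_zero_iff (nonZeroDivisors A) j).1 h
    exact hne a ha
  obtain ⟨φ, hφ⟩ := not_forall.1 (mt (Module.forall_dual_apply_eq_zero_iff (FractionRing A) (j (N.mkQ m))).1 hv)
  let ψ : M →ₗ[A] Localization (nonZeroDivisors A) := (φ.restrictScalars A).comp (j.comp N.mkQ)
  obtain ⟨s, hs⟩ := Module.Finite.fg_top (R := A) (M := M)
  obtain ⟨b, hb⟩ := IsLocalization.exist_integer_multiples (nonZeroDivisors A) s ψ
  have hint : ∀ x : M, (b : A) • ψ x ∈ LinearMap.range (Algebra.linearMap A (Localization (nonZeroDivisors A))) := by
    intro x
    have : (Submodule.span A (s : Set M)) ≤ (LinearMap.range (Algebra.linearMap A _)).comap ((b : A) • ψ) :=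
      Submodule.span_le.2 fun y hy => hb y hy
    exact this (hs.ge (show x ∈ (⊤ : Submodule A M) from trivial))
  have inj : Function.Injective (Algebra.linearMap A (Localization (nonZeroDivisors A))) := IsFractionRing.injective A _
  let θ : M →ₗ[A] A := (LinearEquiv.ofInjective _ inj).symm.toLinearMap.comp
    (LinearMap.codRestrict _ ((b : A) • ψ) hint)
  have hθ : ∀ x, algebraMap A (Localization (nonZeroDivisors A)) (θ x) = (b : A) • ψ x := fun x =>
    congrArg Subtype.val ((LinearEquiv.ofInjective (Algebra.linearMap A _) inj).apply_symm_apply _)
  have h0 : N.subtype.dualMap θ = 0 := by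
    refine LinearMap.ext fun x => inj ?_
    show algebraMap A _ (θ x) = algebraMap A _ 0
    rw [hθ, map_zero]
    simp [ψ, (Submodule.Quotient.mk_eq_zero N).2 x.2]
  have h1 : θ m = 0 := by
    have := LinearMap.congr_fun hξ θ
    rw [LinearMap.dualMap_apply, h0, map_zero] at this
    exact this.symm
  have h2 : (b : A) • ψ m = 0 := by rw [← hθ, h1, map_zero]
  rw [Algebra.smul_def, mul_eq_zero] at h2
  exact h2.elim (fun h => nonZeroDivisors.ne_zero b.2 (IsFractionRing.injective A (Localization (nonZeroDivisors A)) (h.trans (map_zero _).symm))) hφ

end Groth.Agent.S14994
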