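import Groth.Statements.S14997
import Mathlib

set_option autoImplicit false
open HilbPol

namespace Groth.Agent.S14997

open Polynomial in
/-- Let d and ℓ be natural numbers with ℓ + 1 ≤ d, let a be a nonzero rational number and let P, Q be
polynomials with rational coefficients, both of degree exactly d. For a polynomial R of degree e
write R(m) = Σ_i α_i(R) m^i / i! (so α_i(R) = i! · coeff_i(R)) and let r_ℓ(R) ∈ ℚ^ℓ be the vector
(α_{e−1}(R)/α_e(R), …, α_{e−ℓ}(R)/α_e(R)) of the ℓ coefficients after the leading one of the reduced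
polynomial R/α_e(R), ordered lexicographically. The polynomials P(m) − P(m − a) and Q(m) − Q(m − a)
have degree d − 1, and r_ℓ(P) ≤ r_ℓ(Q) lexicographically if and only if r_ℓ(P(m) − P(m − a)) ≤
r_ℓ(Q(m) − Q(m − a)) lexicographically (hence the same with strict inequalities, by exchanging P and
Q). When P and Q are the Hilbert polynomials of pure d-dimensional coherent sheaves E → F on a
polarized projective scheme and D is a hypersurface section of degree a containing no associated
point of E or F, the Hilbert polynomials of E|_D and F|_D are P(m) − P(m − a) and Q(m) − Q(m − a),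
and the two sides are the comparisons of the ℓ-truncated reduced Hilbert polynomials p_ℓ(E) ≥ p_ℓ(F)
and p_ℓ(E|_D) ≥ p_ℓ(F|_D). (The published statement is phrased for the sheaves; this row is the
statement about their Hilbert polynomials that the displayed coefficient formula yields.) -/
theorem result (d ℓ : ℕ) (hℓ : ℓ + 1 ≤ d) (a : ℚ) (ha : a ≠ 0)
    (P Q : ℚ[X]) (hP : P.natDegree = d) (hQ : Q.natDegree = d) (hP0 : P ≠ 0) (hQ0 : Q ≠ 0) :
    toLex (fun j : Fin ℓ => ((P).coeff (d - 1 - (j : ℕ)) * (Nat.factorial (d - 1 - (j : ℕ)) : ℚ)) / ((P).coeff (d) * (Nat.factorial (d) : ℚ))) ≤ toLex (fun j : Fin ℓ => ((Q).coeff (d - 1 - (j : ℕ)) * (Nat.factorial (d - 1 - (j : ℕ)) : ℚ)) / ((Q).coeff (d) * (Nat.factorial (d) : ℚ))) ↔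
      toLex (fun j : Fin ℓ => ((P - P.comp (X - C a)).coeff ((d - 1) - 1 - (j : ℕ)) * (Nat.factorial ((d - 1) - 1 - (j : ℕ)) : ℚ)) / ((P - P.comp (X - C a)).coeff ((d - 1)) * (Nat.factorial ((d - 1)) : ℚ))) ≤
        toLex (fun j : Fin ℓ => ((Q - Q.comp (X - C a)).coeff ((d - 1) - 1 - (j : ℕ)) * (Nat.factorial ((d - 1) - 1 - (j : ℕ)) : ℚ)) / ((Q - Q.comp (X - C a)).coeff ((d - 1)) * (Nat.factorial ((d - 1)) : ℚ))) := by
  classical
  set Δ : ℚ[X] → ℚ[X] := fun R => R - R.comp (X - C a) with hΔ
  have hco : ∀ (R : ℚ[X]) (k : ℕ), 1 ≤ k → (∀ n, k < n → R.coeff n = 0) →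
      (∀ i, k ≤ i → (Δ R).coeff i = 0) ∧ (Δ R).coeff (k - 1) = (k : ℚ) * a * R.coeff k := by
    intro R k hk hR
    have hexp : ∀ i, (R.comp (X - C a)).coeff i = ∑ n ∈ Finset.range (k + 1), R.coeff n * ((-a) ^ (n - i) * (n.choose i : ℚ)) := by
      intro i
      have hnd : R.natDegree < k + 1 := by
        rw [Nat.lt_succ_iff]
        exact Polynomial.natDegree_le_iff_coeff_eq_zero.2 hR
      conv_lhs => rw [R.as_sum_range' (k + 1) hnd]
      rw [Polynomial.sum_comp, Polynomial.finsetSum_coeff]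
      refine Finset.sum_congr rfl fun n _ => ?_
      rw [Polynomial.monomial_comp, Polynomial.coeff_C_mul, sub_eq_add_neg, ← map_neg C a, Polynomial.coeff_X_add_C_pow]
    refine ⟨fun i hi => ?_, ?_⟩
    · simp only [hΔ, Polynomial.coeff_sub, hexp]
      rcases eq_or_lt_of_le hi with rfl | h
      · rw [Finset.sum_eq_single k]
        · simp
        · intro n hn hne
          simp at hn
          simp [Nat.choose_eq_zero_of_lt (show n < k by omega)]
        · simp
      · rw [hR i h, Finset.sum_eq_zero, sub_zero]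
        intro n hn
        simp at hn
        simp [Nat.choose_eq_zero_of_lt (show n < i by omega)]
    · simp only [hΔ, Polynomial.coeff_sub, hexp]
      obtain ⟨k', rfl⟩ : ∃ k', k = k' + 1 := ⟨k - 1, by omega⟩
      rw [Nat.add_sub_cancel, Finset.sum_range_succ, Finset.sum_eq_single k']
      · rw [Nat.sub_self, pow_zero, Nat.choose_self, show k' + 1 - k' = 1 by omega, pow_one, show (k' + 1).choose k' = k' + 1 from Nat.choose_succ_self_right k']
        push_cast; ring
      · intro n hn hne
        simp at hn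
        simp [Nat.choose_eq_zero_of_lt (show n < k' by omega)]
      · simp
  have hlead : ∀ R : ℚ[X], R.natDegree = d → (Δ R).coeff (d - 1) = (d : ℚ) * a * R.coeff d := fun R hR =>
    (hco R d (by omega) fun n hn => Polynomial.coeff_eq_zero_of_natDegree_lt (hR ▸ hn)).2
  have hPd : P.coeff d ≠ 0 := by rw [← hP]; exact Polynomial.leadingCoeff_ne_zero.2 hP0
  have hQd : Q.coeff d ≠ 0 := by rw [← hQ]; exact Polynomial.leadingCoeff_ne_zero.2 hQ0
  set D : ℚ[X] := C (P.coeff d)⁻¹ * P - C (Q.coeff d)⁻¹ * Q with hD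
  have hΔD : ∀ i, (Δ D).coeff i = (P.coeff d)⁻¹ * (Δ P).coeff i - (Q.coeff d)⁻¹ * (Δ Q).coeff i := by
    intro i
    simp only [hΔ, hD, Polynomial.sub_comp, Polynomial.mul_comp, Polynomial.C_comp, Polynomial.coeff_sub, Polynomial.coeff_C_mul]
    ring
  have hDhigh : ∀ n, d ≤ n → D.coeff n = 0 := by
    intro n hn
    rw [hD, Polynomial.coeff_sub, Polynomial.coeff_C_mul, Polynomial.coeff_C_mul]
    rcases eq_or_lt_of_le hn with rfl | h
    · rw [inv_mul_cancel₀ hPd, inv_mul_cancel₀ hQd, sub_self]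
    · rw [Polynomial.coeff_eq_zero_of_natDegree_lt (show P.natDegree < n by omega), Polynomial.coeff_eq_zero_of_natDegree_lt (show Q.natDegree < n by omega)]; ring
  set x := fun j : Fin ℓ => ((P).coeff (d - 1 - (j : ℕ)) * (Nat.factorial (d - 1 - (j : ℕ)) : ℚ)) / ((P).coeff (d) * (Nat.factorial (d) : ℚ)) with hx
  set y := fun j : Fin ℓ => ((Q).coeff (d - 1 - (j : ℕ)) * (Nat.factorial (d - 1 - (j : ℕ)) : ℚ)) / ((Q).coeff (d) * (Nat.factorial (d) : ℚ)) with hy
  set x' := fun j : Fin ℓ => ((Δ P).coeff ((d - 1) - 1 - (j : ℕ)) * (Nat.factorial ((d - 1) - 1 - (j : ℕ)) : ℚ)) / ((Δ P).coeff ((d - 1)) * (Nat.factorial ((d - 1)) : ℚ)) with hx'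
  set y' := fun j : Fin ℓ => ((Δ Q).coeff ((d - 1) - 1 - (j : ℕ)) * (Nat.factorial ((d - 1) - 1 - (j : ℕ)) : ℚ)) / ((Δ Q).coeff ((d - 1)) * (Nat.factorial ((d - 1)) : ℚ)) with hy'
  show toLex x ≤ toLex y ↔ toLex x' ≤ toLex y'
  have hdf : (Nat.factorial d : ℚ) = (d : ℚ) * (Nat.factorial (d - 1) : ℚ) := by
    conv_lhs => rw [show d = (d - 1) + 1 by omega]
    rw [Nat.factorial_succ, Nat.cast_mul, show d - 1 + 1 = d by omega]
  have hd0 : (d : ℚ) ≠ 0 := by exact_mod_cast (show d ≠ 0 by omega)
  have hsub : ∀ j : Fin ℓ, x j - y j = D.coeff (d - 1 - (j : ℕ)) * (Nat.factorial (d - 1 - (j : ℕ)) : ℚ) / (Nat.factorial d : ℚ) := by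
    intro j
    simp only [hx, hy, hD, Polynomial.coeff_sub, Polynomial.coeff_C_mul]
    have : (Nat.factorial d : ℚ) ≠ 0 := by exact_mod_cast Nat.factorial_ne_zero d
    field_simp
  have hsub' : ∀ j : Fin ℓ, x' j - y' j = (Δ D).coeff ((d - 1) - 1 - (j : ℕ)) * (Nat.factorial ((d - 1) - 1 - (j : ℕ)) : ℚ) / ((Nat.factorial d : ℚ) * a) := by
    intro j
    simp only [hx', hy', hΔD, hlead P hP, hlead Q hQ, hdf]
    have : (Nat.factorial (d - 1) : ℚ) ≠ 0 := by exact_mod_cast Nat.factorial_ne_zero (d - 1)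
    field_simp
  have key : ∀ j : Fin ℓ, (∀ i < j, x i = y i) → x j - y j = x' j - y' j := by
    intro j hj
    have hzero : ∀ n, d - 1 - (j : ℕ) < n → D.coeff n = 0 := by
      intro n hn
      by_cases hnd : d ≤ n
      · exact hDhigh n hnd
      · have hi : d - 1 - n < ℓ := by omega
        have h := hsub ⟨d - 1 - n, hi⟩
        rw [hj ⟨d - 1 - n, hi⟩ (by show d - 1 - n < (j : ℕ); omega), sub_self] at h
        simp only [show d - 1 - (d - 1 - n) = n by omega] at h
        have h1 : (Nat.factorial n : ℚ) ≠ 0 := by exact_mod_cast Nat.factorial_ne_zero n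
        have h2 : (Nat.factorial d : ℚ) ≠ 0 := by exact_mod_cast Nat.factorial_ne_zero d
        rcases div_eq_zero_iff.1 h.symm with h | h
        · exact (mul_eq_zero.1 h).resolve_right h1
        · exact absurd h h2
    have hj' := j.isLt
    have hk := (hco D (d - 1 - (j : ℕ)) (by omega) hzero).2
    rw [hsub, hsub', show (d - 1) - 1 - (j : ℕ) = d - 1 - (j : ℕ) - 1 by omega, hk]
    have hf : (Nat.factorial (d - 1 - (j : ℕ)) : ℚ) = ((d - 1 - (j : ℕ) : ℕ) : ℚ) * (Nat.factorial (d - 1 - (j : ℕ) - 1) : ℚ) := by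
      conv_lhs => rw [show d - 1 - (j : ℕ) = (d - 1 - (j : ℕ) - 1) + 1 by omega]
      rw [Nat.factorial_succ, Nat.cast_mul, show d - 1 - (j : ℕ) - 1 + 1 = d - 1 - (j : ℕ) by omega]
    have h2 : (Nat.factorial d : ℚ) ≠ 0 := by exact_mod_cast Nat.factorial_ne_zero d
    rw [hf]
    field_simp
  have hpre : ∀ j : Fin ℓ, (∀ i < j, x i = y i) ↔ (∀ i < j, x' i = y' i) := by
    intro j
    induction j using WellFoundedLT.induction with
    | ind j ih =>
      constructor
      · intro h i hi
        have := key i (fun l hl => h l (hl.trans hi))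
        rw [h i hi, sub_self] at this
        exact sub_eq_zero.1 this.symm
      · intro h i hi
        have := key i ((ih i hi).2 fun l hl => h l (hl.trans hi))
        rw [h i hi, sub_self] at this
        exact sub_eq_zero.1 this
  rw [le_iff_eq_or_lt, le_iff_eq_or_lt]
  refine or_congr ?_ ?_
  · rw [toLex.injective.eq_iff, toLex.injective.eq_iff]
    constructor
    · intro h
      funext j
      have := key j (fun i _ => congrFun h i)
      rw [congrFun h j, sub_self] at this
      exact sub_eq_zero.1 this.symm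
    · intro h
      funext j
      have := key j ((hpre j).2 fun i _ => congrFun h i)
      rw [congrFun h j, sub_self] at this
      exact sub_eq_zero.1 this
  · constructor
    · rintro ⟨j, h1, h2⟩
      refine ⟨j, (hpre j).1 h1, ?_⟩
      have := key j h1
      show x' j < y' j
      change x j < y j at h2
      linarith
    · rintro ⟨j, h1, h2⟩
      refine ⟨j, (hpre j).2 h1, ?_⟩
      have := key j ((hpre j).2 h1)
      show x j < y j
      change x' j < y' j at h2
      linarith

end Groth.Agent.S14997
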