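import Groth.Statements.S14998
import Groth.Agent.DVRDom.Criterion
import Groth.Agent.LimSch.DVRProper
import Groth.Agent.AlgSpc.ValRep
import Groth.Agent.ConstrSets.Basic
import Groth.Agent.FpqcDescent.ReducedSub

set_option autoImplicit false
set_option backward.isDefEq.respectTransparency.types false
universe u
open CategoryTheory CategoryTheory.Limits AlgebraicGeometry
open AlgGrp

namespace Groth.Agent.S14998

/-- A point over a discrete valuation ring lifts to `R` up to the action. -/
lemma exists_lift {k : Type u} [Field k] {G R S T : Over (Spec (CommRingCat.of k))} [GrpObj G]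
    {a : AlgGrp.Action G R} {f : R ⟶ S} {q : S ⟶ T} (hf : W4c2lssmoduli.IsInvariantMor a f)
    (hp : W4c2lssmoduli.IsGUnivClosed a (f ≫ q))
    (A : Type u) [CommRing A] [IsDomain A] [IsDiscreteValuationRing A]
    (K : Type u) [Field K] [Algebra A K] [IsFractionRing A K]
    (g : Spec (CommRingCat.of K) ⟶ R.left) (hT : Spec (CommRingCat.of A) ⟶ T.left)
    (hg : Spec.map (CommRingCat.ofHom (algebraMap A K)) ≫ hT = g ≫ f.left ≫ q.left) :
    ∃ l : Spec (CommRingCat.of A) ⟶ R.left, l ≫ f.left ≫ q.left = hT ∧
      Spec.map (CommRingCat.ofHom (algebraMap A K)) ≫ l ≫ f.left = g ≫ f.left := by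
  let sA := hT ≫ T.hom
  let g' : Over.mk (Spec.map (CommRingCat.ofHom (algebraMap A K)) ≫ sA) ⟶ R := Over.homMk g (by
    show g ≫ R.hom = Spec.map _ ≫ hT ≫ T.hom
    rw [reassoc_of% hg, Over.w q, Over.w f])
  let h' : Over.mk sA ⟶ T := Over.homMk hT rfl
  obtain ⟨i, γ, hi, hgen⟩ := hp.2 A K sA g' h' (Over.OverMorphism.ext hg.symm)
  refine ⟨i.left, congrArg (·.left) hi, ?_⟩
  have hinv : (CartesianMonoidalCategory.lift γ g' ≫ a.act) ≫ f = g' ≫ f := by
    rw [Category.assoc, show a.act ≫ f = CartesianMonoidalCategory.snd G R ≫ f from hf]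
    exact CartesianMonoidalCategory.lift_snd_assoc _ _ _
  rw [← hgen] at hinv
  exact (Category.assoc _ _ _).symm.trans (congrArg (·.left) hinv)

/-- Let k be a field and G a group scheme over k (a group object of schemes over Spec k) acting on a
k-scheme R of finite type. Let f : R → S and q : S → T be morphisms of k-schemes of finite type such
that q is separated, f is invariant under the action, and the composite p = q ∘ f is G-universally
closed: p is invariant and for every discrete valuation ring A over k with fraction field K, every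
K-point of R and A-point of T over k forming a commutative square with p admit an A-point of R over
T restricting on Spec K to a translate of the given K-point by a K-point of G. Then the
set-theoretic image f(R) is closed in S, and the reduced closed subscheme of S with underlying set
f(R) is proper over T. (The published statement fixes a connected algebraic group over the complex
numbers; this row allows any group scheme over any field, which is what the printed argument uses.) -/
theorem result (k : Type u) [Field k]
    (G R S T : Over (Spec (CommRingCat.of k))) [GrpObj G]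
    [LocallyOfFiniteType R.hom] [CompactSpace ↥R.left] [LocallyOfFiniteType S.hom] [CompactSpace ↥S.left]
    [LocallyOfFiniteType T.hom] [CompactSpace ↥T.left]
    (a : AlgGrp.Action G R) (f : R ⟶ S) (q : S ⟶ T) [IsSeparated q.left]
    (hf : W4c2lssmoduli.IsInvariantMor a f) (hp : W4c2lssmoduli.IsGUnivClosed a (f ≫ q)) :
    IsClosed (Set.range f.left.base) ∧
      IsProper ((Scheme.IdealSheafData.vanishingIdeal
          (⟨closure (Set.range f.left.base), isClosed_closure⟩ : TopologicalSpace.Closeds ↥S.left)).subschemeι ≫ q.left) := by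
  haveI : IsLocallyNoetherian S.left := LocallyOfFiniteType.isLocallyNoetherian S.hom
  haveI : IsLocallyNoetherian R.left := LocallyOfFiniteType.isLocallyNoetherian R.hom
  haveI : IsLocallyNoetherian T.left := LocallyOfFiniteType.isLocallyNoetherian T.hom
  haveI : IsNoetherian S.left := {}
  haveI : IsNoetherian R.left := {}
  haveI : LocallyOfFiniteType (f.left ≫ S.hom) := by rw [Over.w]; infer_instance
  haveI : LocallyOfFiniteType f.left := locallyOfFiniteType_of_comp f.left S.hom
  haveI : LocallyOfFiniteType (q.left ≫ T.hom) := by rw [Over.w]; infer_instance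
  haveI : LocallyOfFiniteType q.left := locallyOfFiniteType_of_comp q.left T.hom
  have hcl : IsClosed (Set.range f.left.base) := by
    have hc : Topology.IsConstructible (Set.range f.left.base) := by
      rw [← Set.image_univ]
      exact f.left.isConstructible_image (Groth.Agent.ConstrSets.isConstructible_of_isOpen isOpen_univ)
    refine isOpen_compl_iff.mp (Groth.Agent.ConstrSets.isOpen_of_stableUnderGeneralization hc.compl ?_)
    intro x y hxy hx hy
    obtain ⟨r, rfl⟩ := hy
    apply hx
    rcases eq_or_ne x (f.left.base r) with rfl | hne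
    · exact ⟨r, rfl⟩
    obtain ⟨A, h, hA, hcp, hgen⟩ :=
      Groth.Agent.DVRDom.exists_dvr_through_specialization f.left r x hxy hne
    haveI := hA
    have hgen' : Spec.map (CommRingCat.ofHom (algebraMap A (R.left.residueField r))) ≫ h =
        R.left.fromSpecResidueField r ≫ f.left := hgen
    obtain ⟨l, hl, hlg⟩ := exists_lift hf hp A (R.left.residueField r) (R.left.fromSpecResidueField r)
      (h ≫ q.left) (by rw [reassoc_of% hgen'])
    have := IsSeparated.valuativeCriterion q.left
      ⟨A, R.left.residueField r, _, h ≫ q.left, ⟨(Category.assoc _ h q.left)⟩⟩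
    have he : l ≫ f.left = h := congrArg CommSq.LiftStruct.l
      (this.elim ⟨l ≫ f.left, hlg.trans hgen'.symm, (Category.assoc _ _ _).trans hl⟩ ⟨h, rfl, rfl⟩)
    exact ⟨l (IsLocalRing.closedPoint A), by rw [← hcp, ← he]; rfl⟩
  refine ⟨hcl, ?_⟩
  set Zc : TopologicalSpace.Closeds ↥S.left := ⟨closure (Set.range f.left.base), isClosed_closure⟩
  let ι := (Scheme.IdealSheafData.vanishingIdeal Zc).subschemeι
  have hrange : Set.range ι = Set.range f.left.base := by
    rw [Scheme.IdealSheafData.range_subschemeι, Scheme.IdealSheafData.coe_support_vanishingIdeal]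
    exact hcl.closure_eq
  haveI : QuasiCompact q.left := by
    haveI : CompactSpace ↥S.left := inferInstance
    infer_instance
  refine (Groth.Agent.DVRDom.isProper_iff_dvr (ι ≫ q.left)).mpr
    ⟨?_, (Groth.Agent.DVRDom.isSeparated_iff_dvr _).mp inferInstance⟩
  intro A _ _ _ x y hxy
  let jA := Spec.map (CommRingCat.ofHom (algebraMap A (FractionRing A)))
  haveI : LocallyOfFiniteType jA := Groth.Agent.LimSch.locallyOfFiniteType_fractionField
  obtain ⟨r, hr⟩ : ι (x (IsLocalRing.closedPoint (FractionRing A))) ∈ Set.range f.left.base :=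
    hrange ▸ Set.mem_range_self _
  obtain ⟨p, -, hp2⟩ := Scheme.Pullback.exists_preimage_pullback (f := x ≫ ι) (g := f.left)
    (IsLocalRing.closedPoint (FractionRing A)) r hr.symm
  let P := pullback (x ≫ ι) f.left
  let π : P ⟶ Spec (CommRingCat.of A) := pullback.fst (x ≫ ι) f.left ≫ jA
  have hne : IsLocalRing.closedPoint A ≠ π p := by
    intro e
    have e' : IsLocalRing.maximalIdeal A =
        ((pullback.fst (x ≫ ι) f.left p : PrimeSpectrum (FractionRing A)).asIdeal).comap (algebraMap A _) :=
      congrArg PrimeSpectrum.asIdeal e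
    rw [Ideal.eq_bot_of_prime (I := (pullback.fst (x ≫ ι) f.left p : PrimeSpectrum (FractionRing A)).asIdeal),
      ← RingHom.ker_eq_comap_bot, (RingHom.injective_iff_ker_eq_bot _).mp (IsFractionRing.injective A _)] at e'
    exact IsDiscreteValuationRing.not_a_field A e'
  obtain ⟨A', h, hA', hcp, hgen⟩ := Groth.Agent.DVRDom.exists_dvr_through_specialization π p
    (IsLocalRing.closedPoint A) (IsLocalRing.specializes_closedPoint _) hne
  haveI := hA'
  let L := P.residueField p
  let j' := Spec.map (CommRingCat.ofHom (algebraMap A' L))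
  have hgen' : j' ≫ h = P.fromSpecResidueField p ≫ pullback.fst (x ≫ ι) f.left ≫ jA := hgen
  obtain ⟨ψ, hψ⟩ := Spec.map_surjective (P.fromSpecResidueField p ≫ pullback.fst (x ≫ ι) f.left)
  obtain ⟨φ, hφ⟩ := Spec.map_surjective h
  have hcomm : (algebraMap A' L).comp φ.hom = ψ.hom.comp (algebraMap A (FractionRing A)) := by
    have : φ ≫ CommRingCat.ofHom (algebraMap A' L) = CommRingCat.ofHom (algebraMap A (FractionRing A)) ≫ ψ := by
      apply Spec.map_injective
      rw [Spec.map_comp, Spec.map_comp, hφ, hψ, Category.assoc]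
      exact hgen'
    exact congrArg CommRingCat.Hom.hom this
  haveI : IsLocalHom φ.hom := (IsLocalRing.isLocalHom_iff_comap_closedPoint φ.hom).mpr (by
    rw [← hφ] at hcp
    exact hcp)
  let g := P.fromSpecResidueField p ≫ pullback.snd (x ≫ ι) f.left
  have hgf : g ≫ f.left = Spec.map ψ ≫ x ≫ ι := by
    rw [hψ, Category.assoc, Category.assoc, pullback.condition]
  obtain ⟨l, hl, hlg⟩ := exists_lift hf hp A' L g (h ≫ y) (by
    rw [reassoc_of% hgen', reassoc_of% hgf, hψ, Category.assoc, hxy])
  obtain ⟨lZ, hlZ⟩ := Groth.Agent.LimSch.exists_lift_of_range_subset ι (l ≫ f.left) (by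
    rintro _ ⟨z, rfl⟩
    rw [hrange]
    exact ⟨l z, rfl⟩)
  let V := pullback (ι ≫ q.left) y
  have hl' : j' ≫ pullback.lift (f := ι ≫ q.left) (g := y) lZ h (by rw [reassoc_of% hlZ, hl]) =
      Spec.map (CommRingCat.ofHom ψ.hom) ≫ pullback.lift (f := ι ≫ q.left) (g := y) x jA hxy := by
    apply pullback.hom_ext
    · rw [Category.assoc, Category.assoc, pullback.lift_fst, pullback.lift_fst, CommRingCat.ofHom_hom,
        ← cancel_mono ι, Category.assoc, hlZ, hlg, hgf, Category.assoc]
    · rw [Category.assoc, Category.assoc, pullback.lift_snd, pullback.lift_snd, hgen', CommRingCat.ofHom_hom, hψ,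
        Category.assoc]
  obtain ⟨m, hm1, hm2⟩ := Groth.Agent.AlgSpc.exists_lift_of_dom φ.hom ψ.hom hcomm
    (pullback.snd (ι ≫ q.left) y) (pullback.lift x jA hxy) (pullback.lift_snd _ _ _) _ hl'
  refine ⟨m ≫ pullback.fst _ _, ?_, ?_⟩
  · rw [Category.assoc, pullback.condition, reassoc_of% hm2]
  · rw [reassoc_of% hm1, pullback.lift_fst]

end Groth.Agent.S14998
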