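import Groth.Statements.S14999
import Groth.Agent.DVRDom.Basic
import Groth.Agent.EGA2Curve.Finite
import Groth.Agent.S6333

set_option backward.isDefEq.respectTransparency.types false

set_option autoImplicit false
universe u
open CategoryTheory CategoryTheory.Limits AlgebraicGeometry
open AlgGrp

namespace Groth.Agent.S14999Aux

open CategoryTheory AlgebraicGeometry

/-- elements of a finitely generated field integral over a finitely generated subalgebra form a finite module -/
theorem finite_integralClosure (k A L : Type u) [Field k] [CommRing A] [Algebra k A] [Algebra.FiniteType k A]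
    [Field L] [Algebra A L] [Algebra k L] [IsScalarTower k A L] [Algebra.EssFiniteType k L] :
    Module.Finite A (integralClosure A L) := by
  haveI : IsNoetherianRing A := Algebra.FiniteType.isNoetherianRing k A
  let P := RingHom.ker (algebraMap A L)
  haveI : P.IsPrime := RingHom.ker_isPrime _
  let B := A ⧸ P
  letI : Algebra B L := (Ideal.Quotient.lift P (algebraMap A L) fun a ha => ha).toAlgebra
  haveI : IsScalarTower A B L := IsScalarTower.of_algebraMap_eq fun _ => rfl
  haveI : Algebra.FiniteType k B := Algebra.FiniteType.of_surjective (Ideal.Quotient.mkₐ k P) Ideal.Quotient.mk_surjective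
  haveI : IsScalarTower k B L := IsScalarTower.of_algebraMap_eq fun x => IsScalarTower.algebraMap_apply k A L x
  let K0 := FractionRing B
  have hinj : Function.Injective (algebraMap B L) :=
    RingHom.lift_injective_of_ker_le_ideal P (fun a ha => ha) le_rfl
  letI : Algebra K0 L := (IsFractionRing.lift hinj).toAlgebra
  haveI : IsScalarTower B K0 L := IsScalarTower.of_algebraMap_eq fun x => (IsFractionRing.lift_algebraMap hinj x).symm
  haveI : IsScalarTower k K0 L := IsScalarTower.of_algebraMap_eq fun x => by
    rw [IsScalarTower.algebraMap_apply k B K0, ← IsScalarTower.algebraMap_apply B K0 L,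
      ← IsScalarTower.algebraMap_apply k B L]
  haveI : Algebra.EssFiniteType K0 L := Algebra.EssFiniteType.of_comp k K0 L
  haveI : FiniteDimensional K0 (algebraicClosure K0 L) := S6333.result (IntermediateField.fg_top_iff.2 inferInstance)
  let L0 := algebraicClosure K0 L
  haveI : IsScalarTower B L0 L := IsScalarTower.of_algebraMap_eq fun x => by
    rw [IsScalarTower.algebraMap_apply B K0 L, IsScalarTower.algebraMap_apply B K0 L0]; rfl
  haveI := EGA2Curve.finite_integralClosure k B K0 L0
  let g : (integralClosure B L0) →ₗ[B] L :=
    ((IsScalarTower.toAlgHom B L0 L).comp (integralClosure B L0).val).toLinearMap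
  have hfg : ((LinearMap.range g).restrictScalars A).FG := by
    refine Submodule.FG.restrictScalars_of_surjective ?_ Ideal.Quotient.mk_surjective
    rw [LinearMap.range_eq_map]
    exact Module.Finite.fg_top.map g
  have hle : Subalgebra.toSubmodule (integralClosure A L) ≤ (LinearMap.range g).restrictScalars A := fun z hz => by
    have hzB : IsIntegral B z := IsIntegral.tower_top (hz : IsIntegral A z)
    have hz0 : z ∈ L0 := mem_algebraicClosure_iff.2 (IsIntegral.tower_top (A := K0) hzB).isAlgebraic
    exact ⟨⟨⟨z, hz0⟩, (isIntegral_algHom_iff (IsScalarTower.toAlgHom B L0 L) Subtype.val_injective).1 hzB⟩, rfl⟩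
  haveI : IsNoetherian A ((LinearMap.range g).restrictScalars A) := isNoetherian_of_fg_of_noetherian _ hfg
  exact Module.Finite.of_injective (Submodule.inclusion hle) (Submodule.inclusion_injective hle)

end Groth.Agent.S14999Aux

namespace Groth.Agent.S14999

/-- Let k be a field, A a finitely generated k-algebra and G a group scheme over k acting on an integral
k-scheme Y of finite type; let p : Y → Spec A be a morphism over k which is G-universally closed
(invariant under the action, and for every discrete valuation ring over k with fraction field K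
every commutative square of a K-point of Y and a point of Spec A with values in that ring lifts, up
to translation of the K-point by a K-point of G, to a point of Y with values in the ring). Call a
global function s on Y invariant when its pullbacks along the action morphism and along the
projection G ×_k Y → Y agree. Then the invariant global functions form a finite A-module: there are
finitely many invariant functions such that every invariant function is a linear combination of them
with coefficients from A (acting on Γ(Y, O_Y) through p). (The published statement is for an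
integral G-stable closed subscheme Y of a G-universally closed scheme over Spec A, with k the
complex numbers and G a connected algebraic group; such a Y is itself G-universally closed over Spec
A, and the printed argument uses only a field k and a group scheme G.) -/
theorem result (k : Type u) [Field k]
    (G Y : Over (Spec (CommRingCat.of k))) [GrpObj G]
    [LocallyOfFiniteType Y.hom] [CompactSpace ↥Y.left] [IsIntegral Y.left]
    (A : Type u) [CommRing A] [Algebra k A] [Algebra.FiniteType k A]
    (a : AlgGrp.Action G Y)
    (p : Y ⟶ Over.mk (Spec.map (CommRingCat.ofHom (algebraMap k A))))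
    (hp : W4c2lssmoduli.IsGUnivClosed a p) :
    ∃ t : Finset ↑Γ(Y.left, ⊤),
      (∀ s ∈ t, a.act.left.appTop s = (CartesianMonoidalCategory.snd G Y).left.appTop s) ∧
      ∀ s : ↑Γ(Y.left, ⊤), a.act.left.appTop s = (CartesianMonoidalCategory.snd G Y).left.appTop s →
        ∃ c : ↑Γ(Y.left, ⊤) → A,
          s = ∑ x ∈ t, ((Scheme.ΓSpecIso (CommRingCat.of A)).inv ≫ p.left.appTop) (c x) * x := by
  classical
  obtain ⟨hinv, huniv⟩ := hp
  let L := Y.left.functionField
  let germ := (Y.left.presheaf.germ ⊤ (genericPoint Y.left) trivial).hom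
  let pA : A →+* Γ(Y.left, ⊤) := ((Scheme.ΓSpecIso (CommRingCat.of A)).inv ≫ p.left.appTop).hom
  have hgerm : Function.Injective germ := germ_injective_of_isIntegral Y.left (U := ⊤) _ trivial
  letI : Algebra A L := (germ.comp pA).toAlgebra
  letI : Algebra k L := ((algebraMap A L).comp (algebraMap k A)).toAlgebra
  haveI : IsScalarTower k A L := IsScalarTower.of_algebraMap_eq fun _ => rfl
  haveI : IsNoetherianRing A := Algebra.FiniteType.isNoetherianRing k A
  -- generators of the function field
  obtain ⟨U, hU, hxU, -⟩ := exists_isAffineOpen_mem_and_subset (x := genericPoint Y.left) (U := (⊤ : Y.left.Opens)) trivial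
  haveI : Nonempty (U : Scheme.{u}) := ⟨⟨_, hxU⟩⟩
  haveI := functionField_isFractionRing_of_isAffineOpen Y.left U hU
  letI : Algebra k Γ(Y.left, U) := ((Scheme.ΓSpecIso (CommRingCat.of k)).inv ≫ Y.hom.appLE ⊤ U le_top).hom.toAlgebra
  haveI : Algebra.FiniteType k Γ(Y.left, U) := by
    have h1 := LocallyOfFiniteType.finiteType_appLE Y.hom (U := ⊤) (isAffineOpen_top _) hU le_top
    exact h1.comp (RingHom.FiniteType.of_surjective _ (Scheme.ΓSpecIso (CommRingCat.of k)).symm.commRingCatIsoToRingEquiv.surjective)
  haveI : IsScalarTower k Γ(Y.left, U) L := IsScalarTower.of_algebraMap_eq fun x => by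
    show germ (((Scheme.ΓSpecIso (CommRingCat.of A)).inv ≫ p.left.appTop).hom (algebraMap k A x)) =
      (Y.left.presheaf.germ U _ hxU).hom
        (((Scheme.ΓSpecIso (CommRingCat.of k)).inv ≫ Y.hom.appLE ⊤ U le_top).hom x)
    have e : CommRingCat.ofHom (algebraMap k A) ≫ (Scheme.ΓSpecIso (CommRingCat.of A)).inv ≫ p.left.appTop =
        (Scheme.ΓSpecIso (CommRingCat.of k)).inv ≫ Y.hom.appTop := by
      rw [Scheme.ΓSpecIso_inv_naturality_assoc, ← Scheme.Hom.comp_appTop]
      congr 2
      exact Over.w p
    have e2 : (Scheme.ΓSpecIso (CommRingCat.of k)).inv ≫ Y.hom.appTop ≫ Y.left.presheaf.germ ⊤ (genericPoint Y.left) trivial =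
        (Scheme.ΓSpecIso (CommRingCat.of k)).inv ≫ Y.hom.appLE ⊤ U le_top ≫ Y.left.presheaf.germ U (genericPoint Y.left) hxU := by
      rw [Scheme.Hom.appLE, Category.assoc, Scheme.Hom.appTop, Y.left.presheaf.germ_res]
      rfl
    have h2 := congrArg (fun q => q ≫ Y.left.presheaf.germ ⊤ (genericPoint Y.left) trivial) e
    simp only [Category.assoc] at h2
    exact congrArg (fun q : CommRingCat.of k ⟶ L => q.hom x) (h2.trans e2)
  haveI : Algebra.EssFiniteType Γ(Y.left, U) L := Algebra.EssFiniteType.of_isLocalization L (nonZeroDivisors Γ(Y.left, U))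
  haveI : Algebra.EssFiniteType k L := Algebra.EssFiniteType.comp k Γ(Y.left, U) L
  obtain ⟨tU, htU⟩ := (inferInstance : Algebra.FiniteType k Γ(Y.left, U)).out
  let gs : Finset L := tU.image (algebraMap Γ(Y.left, U) L)
  have hgen : Subfield.closure (Set.range (algebraMap A L) ∪ (gs : Set L)) = ⊤ := by
    rw [eq_top_iff]
    intro x _
    obtain ⟨a, b, -, rfl⟩ := IsFractionRing.div_surjective (A := Γ(Y.left, U)) x
    have hc : ∀ c, algebraMap Γ(Y.left, U) L c ∈ Subfield.closure (Set.range (algebraMap A L) ∪ (gs : Set L)) := fun c => by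
      have hc : c ∈ Algebra.adjoin k (tU : Set Γ(Y.left, U)) := by rw [htU]; trivial
      induction hc using Algebra.adjoin_induction with
      | mem y hy => exact Subfield.subset_closure (Or.inr (Finset.mem_image_of_mem _ hy))
      | algebraMap r =>
        rw [← IsScalarTower.algebraMap_apply k Γ(Y.left, U) L]
        exact Subfield.subset_closure (Or.inl ⟨algebraMap k A r, rfl⟩)
      | add y z _ _ hy hz => rw [map_add]; exact add_mem hy hz
      | mul y z _ _ hy hz => rw [map_mul]; exact mul_mem hy hz
    exact div_mem (hc a) (hc b)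
  -- invariant functions are integral
  let I : Submodule A L := Subalgebra.toSubmodule (integralClosure A L)
  have hint : ∀ s : Γ(Y.left, ⊤),
      a.act.left.appTop s = (CartesianMonoidalCategory.snd G Y).left.appTop s → IsIntegral A (germ s) := fun s hs => by
    by_contra hni
    haveI : IsIntegrallyClosedIn (integralClosure A L).toSubring L :=
      Subring.isIntegrallyClosedIn_iff.2 fun {z} hz => by
        haveI : Algebra.IsIntegral A (integralClosure A L) := inferInstance
        exact isIntegral_trans (A := integralClosure A L) z hz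
    obtain ⟨W, hW, hWs⟩ := Subring.exists_le_valuationSubring_of_isIntegrallyClosedIn
      (R := (integralClosure A L).toSubring) (x := germ s) hni
    have hs0 : germ s ≠ 0 := fun h0 => hWs (h0 ▸ W.zero_mem)
    have hnu : (germ s)⁻¹ ∈ W.nonunits := W.inv_mem_nonunits_iff.2 (Or.inr hWs)
    obtain ⟨R, hR, hAR, hRs⟩ := DVRDom.exists_dvr_of_valuationSubring gs hgen W
      (fun x => hW (Subalgebra.algebraMap_mem (integralClosure A L) x)) {(germ s)⁻¹}
      (fun x hx => by rw [Finset.mem_singleton.1 hx]; exact hnu)
      ⟨_, Finset.mem_singleton_self _, inv_ne_zero hs0⟩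
    haveI := hR
    let ψ : A →+* R := (algebraMap A L).codRestrict R.toSubring hAR
    let sA : Spec (CommRingCat.of R) ⟶ Spec (CommRingCat.of k) :=
      Spec.map (CommRingCat.ofHom ψ) ≫ Spec.map (CommRingCat.ofHom (algebraMap k A))
    have hψ : CommRingCat.ofHom ψ ≫ CommRingCat.ofHom (algebraMap R L) =
        (Scheme.ΓSpecIso (CommRingCat.of A)).inv ≫ p.left.appTop ≫ Y.left.presheaf.germ ⊤ (genericPoint Y.left) trivial := by
      ext x; rfl
    have hpg : Y.left.fromSpecStalk (genericPoint Y.left) ≫ p.left =
        Spec.map (CommRingCat.ofHom (algebraMap R L)) ≫ Spec.map (CommRingCat.ofHom ψ) := by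
      haveI : IsAffine (Over.mk (Spec.map (CommRingCat.ofHom (algebraMap k A)))).left := inferInstanceAs (IsAffine (Spec _))
      refine ext_of_isAffine ?_
      rw [Scheme.Hom.comp_appTop, Scheme.fromSpecStalk_appTop, ← Spec.map_comp, hψ,
        ← cancel_epi (Scheme.ΓSpecIso (CommRingCat.of A)).inv, ← Scheme.ΓSpecIso_inv_naturality]
      simp
    let g : Over.mk (Spec.map (CommRingCat.ofHom (algebraMap R L)) ≫ sA) ⟶ Y :=
      Over.homMk (Y.left.fromSpecStalk (genericPoint Y.left)) (by
        show _ ≫ Y.hom = _ ≫ Spec.map _ ≫ Spec.map _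
        rw [← Category.assoc (Spec.map _) (Spec.map _), ← hpg, Category.assoc]
        congr 1
        exact (Over.w p).symm)
    let h : Over.mk sA ⟶ Over.mk (Spec.map (CommRingCat.ofHom (algebraMap k A))) :=
      Over.homMk (Spec.map (CommRingCat.ofHom ψ)) rfl
    obtain ⟨i, γ, -, hiγ⟩ := huniv R L sA g h (Over.OverMorphism.ext hpg)
    have e1 := congrArg (fun m : Over.mk (Spec.map (CommRingCat.ofHom (algebraMap R L)) ≫ sA) ⟶ Y => m.left.appTop s) hiγ
    have e2 : (CartesianMonoidalCategory.lift γ g ≫ a.act).left.appTop s = g.left.appTop s := by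
      conv_rhs => rw [← CartesianMonoidalCategory.lift_snd γ g]
      rw [Over.comp_left, Over.comp_left, Scheme.Hom.comp_appTop, Scheme.Hom.comp_appTop, CommRingCat.comp_apply,
        CommRingCat.comp_apply, hs]
    have e3 : (Spec.map (CommRingCat.ofHom (algebraMap R L)) ≫ i.left).appTop s =
        (Y.left.fromSpecStalk (genericPoint Y.left)).appTop s := e1.trans e2
    rw [Scheme.Hom.comp_appTop, Scheme.fromSpecStalk_appTop, CommRingCat.comp_apply, CommRingCat.comp_apply] at e3
    let r : R := (Scheme.ΓSpecIso (CommRingCat.of R)).hom (i.left.appTop s)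
    have hr : (algebraMap R L r : L) = germ s := by
      have e4 := congrArg (fun q : Γ(Spec (CommRingCat.of R), ⊤) ⟶ L => q.hom (i.left.appTop s))
        (Scheme.ΓSpecIso_naturality (CommRingCat.ofHom (algebraMap R L)))
      refine e4.symm.trans ?_
      show (Scheme.ΓSpecIso L).hom.hom ((Spec.map (CommRingCat.ofHom (algebraMap R L))).appTop.hom (i.left.appTop s)) = _
      erw [e3]
      exact Iso.inv_hom_id_apply (Scheme.ΓSpecIso L) _
    have hb : germ s ∈ R := hr ▸ r.2
    have := R.inv_mem_nonunits_iff.1 (hRs _ (Finset.mem_singleton_self _))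
    exact this.elim hs0 fun h' => h' hb
  letI : Module A Γ(Y.left, ⊤) := Module.compHom _ pA
  let gl : Γ(Y.left, ⊤) →ₗ[A] L :=
    { toFun := germ, map_add' := map_add germ, map_smul' := fun c x => map_mul germ (pA c) x }
  let V : Submodule A Γ(Y.left, ⊤) :=
    { carrier := {s | a.act.left.appTop s = (CartesianMonoidalCategory.snd G Y).left.appTop s}
      add_mem' := fun {x y} hx hy => by
        simp only [Set.mem_ofPred_eq, map_add] at hx hy ⊢
        rw [hx, hy]
      zero_mem' := by simp
      smul_mem' := fun c x hx => by
        simp only [Set.mem_ofPred_eq] at hx ⊢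
        show a.act.left.appTop (pA c * x) = (CartesianMonoidalCategory.snd G Y).left.appTop (pA c * x)
        rw [map_mul, map_mul, hx]
        congr 1
        have h0 : a.act.left ≫ p.left = (CartesianMonoidalCategory.snd G Y).left ≫ p.left :=
          congrArg CommaMorphism.left (show a.act ≫ p = CartesianMonoidalCategory.snd G Y ≫ p from hinv)
        exact congrArg (fun q => q ((Scheme.ΓSpecIso (CommRingCat.of A)).inv c))
          (((Scheme.Hom.comp_appTop _ _).symm.trans (congrArg Scheme.Hom.appTop h0)).trans (Scheme.Hom.comp_appTop _ _)) }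
  haveI := S14999Aux.finite_integralClosure k A L
  haveI : IsNoetherian A (integralClosure A L) := isNoetherian_of_isNoetherianRing_of_finite A _
  let gV : V →ₗ[A] integralClosure A L :=
    LinearMap.codRestrict (Subalgebra.toSubmodule (integralClosure A L)) (gl.comp V.subtype) fun x => hint x.1 x.2
  haveI : Module.Finite A V := Module.Finite.of_injective gV fun x y e => Subtype.ext (hgerm (congrArg Subtype.val e))
  obtain ⟨t, ht⟩ := Module.Finite.iff_fg.1 ‹Module.Finite A V›
  refine ⟨t, fun s hs => ?_, fun s hs => ?_⟩
  · have : s ∈ V := ht ▸ Submodule.subset_span hs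
    exact this
  · have hsV : s ∈ Submodule.span A (t : Set Γ(Y.left, ⊤)) := by rw [ht]; exact hs
    obtain ⟨c, -, hc⟩ := Submodule.mem_span_finset.1 hsV
    exact ⟨c, hc.symm⟩


end Groth.Agent.S14999
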