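import Groth.Statements.S15004


set_option autoImplicit false
universe u v
open Harb

namespace Groth.Agent.S15004

/-- Let C be a finite family of d curves, recorded as an incidence relation between a type of points and
a finite index type, such that any two distinct curves of the family meet in exactly h points; for a
point p write r_p for the number of curves of the family through p. Then for every curve C_i of the
family, Σ_{p ∈ C_i} (r_p − 1) = h (d − 1), the sum being finitely supported. (The published
statement is for a transversal arrangement of curves on a geometrically ruled surface with invariant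
e, all numerically equivalent to a C₀ + b f, where any two of the curves meet transversally in h =
2ab − a²e points; only this common pairwise intersection count enters the proof, and this row states
the identity for an abstract incidence relation.) -/
theorem result (P : Type u) (ι : Type v) [Fintype ι]
    (inc : P → ι → Prop) (h : ℕ)
    (hfin : ∀ i j : ι, i ≠ j → {p : P | inc p i ∧ inc p j}.Finite)
    (hcount : ∀ i j : ι, i ≠ j → {p : P | inc p i ∧ inc p j}.ncard = h) (i : ι) :
    ∑ᶠ p ∈ {p : P | inc p i}, (Nat.card {j : ι // inc p j} - 1) = h * (Fintype.card ι - 1) := by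
  classical
  have hfinU : (⋃ j ∈ (Finset.univ.erase i), {p : P | inc p i ∧ inc p j}).Finite :=
    Set.Finite.biUnion (Finset.finite_toSet _) fun j hj => hfin i j (Ne.symm (Finset.ne_of_mem_erase hj))
  let U := hfinU.toFinset
  have hr : ∀ p, inc p i → Nat.card {j : ι // inc p j} - 1 = ((Finset.univ.erase i).filter (inc p ·)).card := by
    intro p hp
    rw [Nat.card_eq_fintype_card, Fintype.card_subtype, Finset.filter_erase, Finset.card_erase_of_mem (by simp [hp])]
  rw [finsum_mem_eq_sum_of_inter_support_eq _ (t := U) ?_]
  · have hU : ∀ p ∈ U, inc p i := fun p hp => by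
      obtain ⟨j, -, hj⟩ := Set.mem_iUnion₂.1 (hfinU.mem_toFinset.1 hp)
      exact hj.1
    rw [Finset.sum_congr rfl fun p hp => hr p (hU p hp)]
    simp only [Finset.card_filter]
    rw [Finset.sum_comm, Finset.sum_congr rfl (fun j hj => ?_), Finset.sum_const, Finset.card_erase_of_mem (Finset.mem_univ i), Finset.card_univ, smul_eq_mul, mul_comm]
    rw [← Finset.card_filter, ← hcount i j (Ne.symm (Finset.ne_of_mem_erase hj)), Set.ncard_eq_toFinset_card _ (hfin i j (Ne.symm (Finset.ne_of_mem_erase hj)))]
    congr 1
    ext p
    simp only [Finset.mem_filter, Set.Finite.mem_toFinset, Set.mem_ofPred_eq]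
    exact ⟨fun h => ⟨hU p h.1, h.2⟩, fun h => ⟨hfinU.mem_toFinset.2 (Set.mem_biUnion hj h), h.2⟩⟩
  · ext p
    simp only [Set.mem_inter_iff, Function.mem_support, Finset.mem_coe, and_congr_left_iff]
    intro hne
    refine ⟨fun hp => ?_, fun hp => ?_⟩
    · rw [hr p hp, Finset.card_ne_zero] at hne
      obtain ⟨j, hj⟩ := hne
      exact hfinU.mem_toFinset.2 (Set.mem_biUnion (Finset.mem_filter.1 hj).1 ⟨hp, (Finset.mem_filter.1 hj).2⟩)
    · obtain ⟨j, -, hj⟩ := Set.mem_iUnion₂.1 (hfinU.mem_toFinset.1 hp)
      exact hj.1

end Groth.Agent.S15004
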