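import Groth.Statements.S15005
import Mathlib
-- import your own Groth.Agent.* helpers here

set_option autoImplicit false
universe u v
open Harb

namespace Groth.Agent.S15005

/-- Let C be a finite family of d curves, recorded as an incidence relation between a type of points and
a finite index type, such that any two distinct curves of the family meet in exactly h points; let
t_k be the number of k-fold points (points lying on exactly k curves of the family). Then f₂ − f₁ =
Σ_{k ≥ 2} k(k − 1) t_k equals h d(d − 1), where f_i = Σ_{k ≥ 2} k^i t_k. (The published statement is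
for a transversal arrangement of curves on a geometrically ruled surface with invariant e, all
numerically equivalent to a C₀ + b f, where any two of the curves meet transversally in h = 2ab −
a²e points; only this common pairwise intersection count enters the proof, and this row states the
identity for an abstract incidence relation.) -/
theorem result (P : Type u) (ι : Type v) [Fintype ι]
    (inc : P → ι → Prop) (h : ℕ)
    (hfin : ∀ i j : ι, i ≠ j → {p : P | inc p i ∧ inc p j}.Finite)
    (hcount : ∀ i j : ι, i ≠ j → {p : P | inc p i ∧ inc p j}.ncard = h) :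
    ∑ k ∈ Finset.Icc 2 (Fintype.card ι), k * (k - 1) * Nat.card {p : P // Nat.card {j : ι // inc p j} = k} =
      h * (Fintype.card ι * (Fintype.card ι - 1)) := by
  classical
  let r : P → ℕ := fun p => (Finset.univ.filter (inc p ·)).card
  have hr : ∀ p, Nat.card {j : ι // inc p j} = r p := fun p => by
    rw [Nat.card_eq_fintype_card, Fintype.card_subtype]
  let O : Finset (ι × ι) := (Finset.univ : Finset ι).offDiag
  have hfinU : (⋃ x ∈ O, {p : P | inc p x.1 ∧ inc p x.2}).Finite :=
    Set.Finite.biUnion (Finset.finite_toSet _) fun x hx => hfin x.1 x.2 (Finset.mem_offDiag.1 hx).2.2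
  let U := hfinU.toFinset
  have hU : ∀ p, 2 ≤ r p → p ∈ U := by
    intro p hp
    obtain ⟨i, hi, j, hj, hij⟩ := Finset.one_lt_card.1 hp
    exact hfinU.mem_toFinset.2 (Set.mem_biUnion (x := (i, j))
      (Finset.mem_offDiag.2 ⟨Finset.mem_univ _, Finset.mem_univ _, hij⟩)
      ⟨(Finset.mem_filter.1 hi).2, (Finset.mem_filter.1 hj).2⟩)
  have hU' : ∀ p ∈ U, r p ∈ Finset.Icc 2 (Fintype.card ι) := by
    intro p hp
    obtain ⟨x, hx, hp'⟩ := Set.mem_iUnion₂.1 (hfinU.mem_toFinset.1 hp)
    refine Finset.mem_Icc.2 ⟨Finset.one_lt_card.2 ⟨x.1, ?_, x.2, ?_, (Finset.mem_offDiag.1 hx).2.2⟩,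
      Finset.card_le_univ _⟩
    · exact Finset.mem_filter.2 ⟨Finset.mem_univ _, hp'.1⟩
    · exact Finset.mem_filter.2 ⟨Finset.mem_univ _, hp'.2⟩
  have ht : ∀ k ∈ Finset.Icc 2 (Fintype.card ι),
      Nat.card {p : P // Nat.card {j : ι // inc p j} = k} = (U.filter (r · = k)).card := by
    intro k hk
    refine Nat.subtype_card _ fun p => ?_
    simp only [Finset.mem_filter, hr]
    exact ⟨fun h => h.2, fun h => ⟨hU p (h ▸ (Finset.mem_Icc.1 hk).1), h⟩⟩
  rw [Finset.sum_congr rfl (fun k hk => by rw [ht k hk])]
  have h1 : ∀ k ∈ Finset.Icc 2 (Fintype.card ι), k * (k - 1) * (U.filter (r · = k)).card =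
      ∑ p ∈ U.filter (r · = k), r p * (r p - 1) := fun k _ => by
    rw [Finset.sum_congr rfl (g := fun _ => k * (k - 1))
      (fun p hp => by rw [(Finset.mem_filter.1 hp).2]), Finset.sum_const, smul_eq_mul, mul_comm]
  rw [Finset.sum_congr rfl h1, Finset.sum_fiberwise_of_maps_to hU']
  have h2 : ∀ p ∈ U, r p * (r p - 1) =
      (O.filter fun x => inc p x.1 ∧ inc p x.2).card := fun p _ => by
    have : (O.filter fun x => inc p x.1 ∧ inc p x.2) = (Finset.univ.filter (inc p ·)).offDiag := by
      ext x; simp [O, Finset.mem_offDiag]; tauto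
    rw [this, Finset.offDiag_card, Nat.mul_sub, mul_one]
  rw [Finset.sum_congr rfl h2]
  simp only [Finset.card_filter]
  rw [Finset.sum_comm, Finset.sum_congr rfl (g := fun _ => h) (fun x hx => ?_), Finset.sum_const,
    Finset.offDiag_card, Finset.card_univ, smul_eq_mul, Nat.mul_sub, mul_one, mul_comm]
  · have hx' := (Finset.mem_offDiag.1 hx).2.2
    rw [← Finset.card_filter, ← hcount x.1 x.2 hx', Set.ncard_eq_toFinset_card _ (hfin x.1 x.2 hx')]
    congr 1
    ext p
    simp only [Finset.mem_filter, Set.Finite.mem_toFinset, Set.mem_setOf_eq]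
    exact ⟨fun h => h.2, fun h => ⟨hfinU.mem_toFinset.2 (Set.mem_biUnion hx h), h⟩⟩

end Groth.Agent.S15005
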