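-- statement TFCurv.GrothFrozen.S15010 (Groth/Statements/S15010.lean; the theorem TFCurv.linearEquiv_of_lattices_induced_by_unit_matrix);
import Groth.Statements.S15010
import Mathlib

set_option autoImplicit false
universe u
open TFCurv

namespace Groth.Agent.S15010

/-- Let O be a one-dimensional Noetherian local domain with algebraically closed residue field whose
integral closure O~ in its fraction field K is a finite O-module. If M and N are O-submodules of K^n
with O^n ⊆ M ⊆ O~^n and O^n ⊆ N ⊆ O~^n, then every O-linear isomorphism M → N is the restriction of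
x ↦ A·x for an invertible n × n matrix A with entries in O~. -/
theorem result (O : Type u) [CommRing O] [IsDomain O] [IsNoetherianRing O] [IsLocalRing O] (hdim : ringKrullDim O = 1) [IsAlgClosed (IsLocalRing.ResidueField O)] (K : Type u) [Field K] [Algebra O K] [IsFractionRing O K] (hfin : Module.Finite O ↥(integralClosure O K)) (n : ℕ) (M N : Submodule O (Fin n → K)) (hM1 : Submodule.pi Set.univ (fun _ : Fin n => (1 : Submodule O K)) ≤ M) (hM2 : M ≤ Submodule.pi Set.univ (fun _ : Fin n => (Subalgebra.toSubmodule (integralClosure O K)))) (hN1 : Submodule.pi Set.univ (fun _ : Fin n => (1 : Submodule O K)) ≤ N) (hN2 : N ≤ Submodule.pi Set.univ (fun _ : Fin n => (Subalgebra.toSubmodule (integralClosure O K)))) (φ : ↥M ≃ₗ[O] ↥N) : ∃ A : Matrix (Fin n) (Fin n) ↥(integralClosure O K), IsUnit A ∧ ∀ x : ↥M, ((φ x : ↥N) : Fin n → K) = (A.map (algebraMap ↥(integralClosure O K) K)).mulVec (x : Fin n → K) := by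
  classical
  have hmem : ∀ (L : Submodule O (Fin n → K)),
      Submodule.pi Set.univ (fun _ : Fin n => (1 : Submodule O K)) ≤ L → ∀ j, (Pi.single j (1 : K) : Fin n → K) ∈ L :=
    fun L hL j => hL fun i _ => Submodule.mem_one.2 <| by
      by_cases h : i = j
      · exact ⟨1, by subst h; rw [map_one, Pi.single_eq_same]⟩
      · exact ⟨0, by rw [map_zero, Pi.single_eq_of_ne h]⟩
  have main : ∀ (L L' : Submodule O (Fin n → K))
      (hL : Submodule.pi Set.univ (fun _ : Fin n => (1 : Submodule O K)) ≤ L)
      (hL' : L' ≤ Submodule.pi Set.univ (fun _ : Fin n => (Subalgebra.toSubmodule (integralClosure O K))))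
      (ψ : ↥L →ₗ[O] ↥L'), ∃ A : Matrix (Fin n) (Fin n) ↥(integralClosure O K), ∀ x : ↥L,
        ((ψ x : ↥L') : Fin n → K) = (A.map (algebraMap ↥(integralClosure O K) K)).mulVec (x : Fin n → K) := by
    intro L L' hL hL' ψ
    refine ⟨Matrix.of fun i j => ⟨(ψ ⟨_, hmem L hL j⟩ : Fin n → K) i, hL' (ψ ⟨_, hmem L hL j⟩).2 i (Set.mem_univ i)⟩,
      fun x => ?_⟩
    obtain ⟨d, hd⟩ := IsLocalization.exist_integer_multiples_of_finite (nonZeroDivisors O) (x : Fin n → K)
    choose c hc using hd
    have hx : (d : O) • x = ∑ j, c j • (⟨_, hmem L hL j⟩ : ↥L) := by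
      refine Subtype.ext ?_
      funext i
      simp [Submodule.coe_sum, Finset.sum_apply, Pi.single_apply, hc, Algebra.smul_def]
    have h := congrArg (fun z => ((ψ z : ↥L') : Fin n → K)) hx
    simp only [map_smul, map_sum, Submodule.coe_smul, Submodule.coe_sum] at h
    funext i
    have hi := congrFun h i
    simp only [Pi.smul_apply, Finset.sum_apply, Algebra.smul_def] at hi
    have hne : algebraMap O K (d : O) ≠ 0 :=
      IsFractionRing.to_map_ne_zero_of_mem_nonZeroDivisors d.2
    refine mul_left_cancel₀ hne (hi.trans ?_)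
    simp only [Matrix.mulVec, dotProduct, Matrix.map_apply, Matrix.of_apply, Finset.mul_sum]
    refine Finset.sum_congr rfl fun j _ => ?_
    rw [Pi.mul_apply, Pi.algebraMap_apply, hc j, Algebra.smul_def]
    show algebraMap O K (d : O) * (x : Fin n → K) j * _ = algebraMap O K (d : O) * (_ * (x : Fin n → K) j)
    rw [mul_assoc, mul_comm ((x : Fin n → K) j)]
    rfl
  obtain ⟨A, hA⟩ := main M N hM1 hN2 φ.toLinearMap
  obtain ⟨B, hB⟩ := main N M hN1 hM2 φ.symm.toLinearMap
  refine ⟨A, ?_, hA⟩
  let g := algebraMap ↥(integralClosure O K) K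
  have hAB : A.map g * B.map g = 1 := by
    refine Matrix.ext_of_mulVec_single fun j => ?_
    have hj := hmem N hN1 j
    rw [← Matrix.mulVec_mulVec, ← hB ⟨_, hj⟩, ← hA, Matrix.one_mulVec]
    exact congrArg (fun z : ↥N => (z : Fin n → K)) (φ.apply_symm_apply ⟨_, hj⟩)
  refine IsUnit.of_mul_eq_one B (Matrix.map_injective (f := g) Subtype.val_injective ?_)
  show g.mapMatrix (A * B) = g.mapMatrix 1
  rw [map_mul, map_one]
  exact hAB

end Groth.Agent.S15010
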