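-- statement TFCurv.GrothFrozen.S15011 (Groth/Statements/S15011.lean; the theorem TFCurv.spanFinrank_le_rank_mul_multiplicity);
import Groth.Statements.S15011
import Groth.Agent.TFCurvSG.Normal

set_option autoImplicit false
universe u
open TFCurv

namespace Groth.Agent.S15011

set_option maxHeartbeats 1600000

/-- Let O be a one-dimensional Noetherian local domain with maximal ideal m and algebraically closed
residue field, whose integral closure O~ in its fraction field K is a finite O-module; put e =
length(O~/m O~), the multiplicity of O. Then a finitely generated torsion-free O-module of rank n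
can be generated by at most n·e elements. -/
theorem result (O : Type u) [CommRing O] [IsDomain O] [IsNoetherianRing O] [IsLocalRing O] (hdim : ringKrullDim O = 1) [IsAlgClosed (IsLocalRing.ResidueField O)] (K : Type u) [Field K] [Algebra O K] [IsFractionRing O K] (hfin : Module.Finite O ↥(integralClosure O K)) (M : Type u) [AddCommGroup M] [Module O M] [Module.Finite O M] [NoZeroSMulDivisors O M] (n : ℕ) (hn : Module.finrank K (TensorProduct O K M) = n) : ((⊤ : Submodule O M).spanFinrank : ℕ∞) ≤ (n : ℕ∞) * Module.length O (↥(integralClosure O K) ⧸ (IsLocalRing.maximalIdeal O) • (⊤ : Submodule O ↥(integralClosure O K))) := by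
  classical
  haveI : Module.IsTorsionFree O M := inferInstance
  haveI hpid := Groth.Agent.TFCurvSG.Normal.isPID (K := K) hdim
  haveI := Groth.Agent.TFCurvSG.Normal.finite_max (K := K) hdim
  haveI := Groth.Agent.SemiLocalGlue.krullDimLE_one hdim
  obtain ⟨φ, hinj, hstd, hint⟩ := Groth.Agent.TFCurvSG.Normal.exists_normal_form hdim M n hn
  let B := ↥(integralClosure O K)
  have halg : Function.Injective (algebraMap O B) := fun a b h =>
    IsFractionRing.injective O K (congrArg Subtype.val h)
  haveI : Module.IsTorsionFree O B :=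
    Function.Injective.moduleIsTorsionFree (fun y : B => (y : K)) Subtype.val_injective (fun _ _ => rfl)
  -- an element generating `m B`
  have hm0 : IsLocalRing.maximalIdeal O ≠ ⊥ := fun h => by
    rw [ringKrullDim_eq_zero_of_isField (IsLocalRing.isField_iff_maximalIdeal_eq.2 h)] at hdim
    exact zero_ne_one hdim
  obtain ⟨x, hx, hxB⟩ : ∃ x ∈ IsLocalRing.maximalIdeal O,
      (IsLocalRing.maximalIdeal O).map (algebraMap O B) = Ideal.span {algebraMap O B x} := by
    obtain ⟨g, hg⟩ := (hpid.principal ((IsLocalRing.maximalIdeal O).map (algebraMap O B))).principal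
    replace hg : (IsLocalRing.maximalIdeal O).map (algebraMap O B) = Ideal.span {g} := hg
    have hg0 : g ≠ 0 := fun h => by
      rw [h, Ideal.span_singleton_zero, Ideal.map_eq_bot_iff_le_ker, (RingHom.injective_iff_ker_eq_bot _).1 halg,
        le_bot_iff] at hg
      exact hm0 hg
    have hq : ∀ c : ↥(IsLocalRing.maximalIdeal O), ∃ b, b * g = algebraMap O B c.1 := fun c =>
      Ideal.mem_span_singleton'.1 (hg ▸ Ideal.mem_map_of_mem _ c.2)
    choose q hq using hq
    let f1 : ↥(IsLocalRing.maximalIdeal O) →ₗ[O] (Fin 1 → B) :=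
      { toFun := fun c => fun _ => q c
        map_add' := fun a b => funext fun _ => mul_right_cancel₀ hg0
          (by rw [Pi.add_apply, add_mul, hq, hq, hq, Submodule.coe_add, map_add])
        map_smul' := fun a b => funext fun _ => mul_right_cancel₀ hg0
          (by rw [Pi.smul_apply, RingHom.id_apply, Algebra.smul_def, mul_assoc, hq, hq, Submodule.coe_smul,
            smul_eq_mul, map_mul]) }
    have hf1 : Submodule.span B (Set.range f1) = ⊤ := by
      have hone : (fun _ => (1 : B)) ∈ Submodule.span B (Set.range f1) := by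
        have hgm : g ∈ (Ideal.span {g}) * Ideal.span (Set.range q) := by
          have : (IsLocalRing.maximalIdeal O).map (algebraMap O B) ≤ (Ideal.span {g}) * Ideal.span (Set.range q) :=
            Ideal.map_le_iff_le_comap.2 fun c hc => by
              rw [Ideal.mem_comap, ← hq ⟨c, hc⟩, mul_comm (q _) g]
              exact Ideal.mul_mem_mul (Ideal.mem_span_singleton_self g) (Ideal.subset_span ⟨_, rfl⟩)
          exact this (hg ▸ Ideal.mem_span_singleton_self g)
        obtain ⟨z, hz, hzg⟩ := Ideal.mem_span_singleton_mul.1 hgm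
        have hz1 : z = 1 := mul_left_cancel₀ hg0 (by rw [hzg, mul_one])
        subst hz1
        have := Submodule.mem_map_of_mem (f := (LinearMap.pi fun _ : Fin 1 => (LinearMap.id : B →ₗ[B] B))) hz
        rw [Submodule.map_span, ← Set.range_comp] at this
        exact this
      refine eq_top_iff.2 fun v _ => ?_
      have hv : v = v 0 • (fun _ => (1 : B)) := funext fun i => by
        rw [Subsingleton.elim i 0, Pi.smul_apply, smul_eq_mul, mul_one]
      rw [hv]
      exact Submodule.smul_mem _ _ hone
    obtain ⟨w, hw⟩ := Groth.Agent.TFCurvSG.Normal.exists_spanning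
      (fun P => Groth.Agent.TFCurvSG.Normal.maximal_le P) f1 hf1
    rw [Matrix.isUnit_iff_isUnit_det, Matrix.det_fin_one] at hw
    refine ⟨(w 0).1, (w 0).2, ?_⟩
    have hu : IsUnit (q (w 0)) := hw
    rw [hg, ← hq (w 0), Ideal.span_singleton_mul_left_unit hu]
  have hx0 : x ≠ 0 := fun h => by
    rw [h, map_zero, Ideal.span_singleton_zero, Ideal.map_eq_bot_iff_le_ker,
      (RingHom.injective_iff_ker_eq_bot _).1 halg, le_bot_iff] at hxB
    exact hm0 hxB
  let f : M →ₗ[O] (Fin n → B) :=
    { toFun := fun m i => ⟨φ m i, hint m i⟩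
      map_add' := fun a b => funext fun i => Subtype.ext (congrFun (map_add φ a b) i)
      map_smul' := fun a b => funext fun i => Subtype.ext (congrFun (map_smul φ a b) i) }
  have hf : Function.Injective f := fun a b h =>
    hinj (funext fun i => congrArg Subtype.val (congrFun h i))
  let mx : (Fin n → B) →ₗ[O] (Fin n → B) := x • LinearMap.id
  let mxM : M →ₗ[O] M := x • LinearMap.id
  have hmx : Function.Injective mx := fun a b h => smul_right_injective _ hx0 h
  let xM' : Submodule O (Fin n → B) := LinearMap.range (mx ∘ₗ f)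
  let i : (Fin n → B) ⧸ LinearMap.range f →ₗ[O] (Fin n → B) ⧸ xM' :=
    Submodule.mapQ _ _ mx (by rintro _ ⟨m, rfl⟩; exact ⟨m, rfl⟩)
  let p : (Fin n → B) ⧸ xM' →ₗ[O] (Fin n → B) ⧸ LinearMap.range mx :=
    Submodule.factor (by rintro _ ⟨m, rfl⟩; exact ⟨f m, rfl⟩)
  let j : M ⧸ LinearMap.range mxM →ₗ[O] (Fin n → B) ⧸ xM' :=
    Submodule.mapQ _ _ f (by rintro _ ⟨m, rfl⟩; exact ⟨m, (map_smul f x m).symm⟩)
  let p2 : (Fin n → B) ⧸ xM' →ₗ[O] (Fin n → B) ⧸ LinearMap.range f :=
    Submodule.factor (by rintro _ ⟨m, rfl⟩; exact ⟨x • m, map_smul f x m⟩)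
  have hi : Function.Injective i := by
    refine (injective_iff_map_eq_zero _).2 fun a ha => ?_
    obtain ⟨a, rfl⟩ := Submodule.Quotient.mk_surjective _ a
    obtain ⟨m, hm⟩ := (Submodule.Quotient.mk_eq_zero _).1 ha
    exact (Submodule.Quotient.mk_eq_zero _).2 ⟨m, hmx hm⟩
  have hj : Function.Injective j := by
    refine (injective_iff_map_eq_zero _).2 fun a ha => ?_
    obtain ⟨a, rfl⟩ := Submodule.Quotient.mk_surjective _ a
    obtain ⟨m, hm⟩ := (Submodule.Quotient.mk_eq_zero _).1 ha
    exact (Submodule.Quotient.mk_eq_zero _).2 ⟨m, hf ((map_smul f x m).trans hm)⟩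
  have hip : Function.Exact i p := fun a => by
    obtain ⟨a, rfl⟩ := Submodule.Quotient.mk_surjective _ a
    refine ⟨fun h => ?_, ?_⟩
    · obtain ⟨b, rfl⟩ := (Submodule.Quotient.mk_eq_zero _).1 h
      exact ⟨Submodule.Quotient.mk b, rfl⟩
    · rintro ⟨b, hb⟩
      obtain ⟨b, rfl⟩ := Submodule.Quotient.mk_surjective _ b
      rw [← hb]
      exact (Submodule.Quotient.mk_eq_zero _).2 ⟨b, rfl⟩
  have hjp : Function.Exact j p2 := fun a => by
    obtain ⟨a, rfl⟩ := Submodule.Quotient.mk_surjective _ a
    refine ⟨fun h => ?_, ?_⟩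
    · obtain ⟨b, rfl⟩ := (Submodule.Quotient.mk_eq_zero _).1 h
      exact ⟨Submodule.Quotient.mk b, rfl⟩
    · rintro ⟨b, hb⟩
      obtain ⟨b, rfl⟩ := Submodule.Quotient.mk_surjective _ b
      rw [← hb]
      exact (Submodule.Quotient.mk_eq_zero _).2 ⟨b, rfl⟩
  have h1 := Module.length_eq_add_of_exact i p hi (Submodule.factor_surjective _) hip
  have h2 := Module.length_eq_add_of_exact j p2 hj (Submodule.factor_surjective _) hjp
  -- the colength is finite
  have hfin' : Module.length O ((Fin n → B) ⧸ LinearMap.range f) ≠ ⊤ := by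
    obtain ⟨t, s, hs⟩ := Module.Finite.exists_fin (R := O) (M := (Fin n → B) ⧸ LinearMap.range f)
    have hkill : ∀ q : (Fin n → B) ⧸ LinearMap.range f, ∃ d : O, d ≠ 0 ∧ d • q = 0 := by
      intro q
      obtain ⟨v, rfl⟩ := Submodule.Quotient.mk_surjective _ q
      obtain ⟨d, hd⟩ := IsLocalization.exist_integer_multiples_of_finite (nonZeroDivisors O)
        (fun i => ((v i : B) : K))
      choose c hc using hd
      choose e he using hstd
      refine ⟨d, nonZeroDivisors.coe_ne_zero d, (Submodule.Quotient.mk_eq_zero _).2 ⟨∑ i, c i • e i, ?_⟩⟩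
      funext l
      refine Subtype.ext ?_
      show φ (∑ i, c i • e i) l = _
      rw [map_sum, Finset.sum_apply]
      simp only [map_smul, Pi.smul_apply, he, Pi.single_apply, smul_ite, smul_zero, Finset.sum_ite_eq,
        Finset.mem_univ, if_true]
      rw [← Algebra.algebraMap_eq_smul_one]
      exact hc l
    choose d hd0 hd using hkill
    let c := ∏ l, d (s l)
    have hc0 : c ≠ 0 := Finset.prod_ne_zero_iff.2 fun l _ => hd0 _
    have hcs : ∀ l, c • s l = 0 := fun l => by
      obtain ⟨e, he⟩ := Finset.dvd_prod_of_mem (fun l => d (s l)) (Finset.mem_univ l)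
      rw [show c = d (s l) * e from he, mul_comm, mul_smul, hd, smul_zero]
    let ψ : (Fin t → O ⧸ Ideal.span {c}) →ₗ[O] (Fin n → B) ⧸ LinearMap.range f :=
      ∑ l, (Submodule.liftQ (Ideal.span {c}) (LinearMap.toSpanSingleton O _ (s l)) (by
        rw [Ideal.span, Submodule.span_le, Set.singleton_subset_iff, SetLike.mem_coe, LinearMap.mem_ker,
          LinearMap.toSpanSingleton_apply, hcs])) ∘ₗ LinearMap.proj l
    have hψ : Function.Surjective ψ := by
      rw [← LinearMap.range_eq_top, eq_top_iff, ← hs, Submodule.span_le]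
      rintro _ ⟨l, rfl⟩
      refine ⟨Pi.single l (Submodule.Quotient.mk 1), ?_⟩
      simp only [ψ, LinearMap.coe_sum, Finset.sum_apply, LinearMap.comp_apply, LinearMap.proj_apply]
      rw [Finset.sum_eq_single l (fun b _ hb => by rw [Pi.single_eq_of_ne hb, map_zero])
        (fun h => absurd (Finset.mem_univ l) h), Pi.single_eq_same, Submodule.liftQ_apply,
        LinearMap.toSpanSingleton_apply, one_smul]
    refine ne_top_of_le_ne_top ?_ (Module.length_le_of_surjective ψ hψ)
    rw [Module.length_pi_of_fintype, Finset.sum_const, Finset.card_univ, nsmul_eq_mul]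
    refine WithTop.mul_ne_top (ENat.natCast_ne_top _) ?_
    exact Ring.ord_ne_top (mem_nonZeroDivisors_of_ne_zero hc0)
  -- reduction modulo `m B`
  let ψ : (Fin n → B) →ₗ[O] (Fin n → B ⧸ (IsLocalRing.maximalIdeal O • (⊤ : Submodule O B))) :=
    LinearMap.compLeft (Submodule.mkQ _) (Fin n)
  have hψ : Function.Surjective ψ := fun v => by
    choose w hw using fun l => Submodule.mkQ_surjective _ (v l)
    exact ⟨w, funext hw⟩
  have hmem : ∀ y : B, y ∈ IsLocalRing.maximalIdeal O • (⊤ : Submodule O B) ↔ ∃ z, x • z = y := fun y => by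
    rw [Ideal.smul_top_eq_map, Submodule.restrictScalars_mem, hxB, Ideal.mem_span_singleton']
    exact exists_congr fun z => by rw [Algebra.smul_def, mul_comm]
  have hker : LinearMap.range mx = LinearMap.ker ψ := by
    ext v
    rw [LinearMap.mem_ker]
    constructor
    · rintro ⟨w, rfl⟩
      funext l
      exact (Submodule.Quotient.mk_eq_zero _).2 ((hmem _).2 ⟨w l, rfl⟩)
    · intro hv
      choose w hw using fun l => (hmem (v l)).1 ((Submodule.Quotient.mk_eq_zero _).1 (congrFun hv l))
      exact ⟨w, funext hw⟩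
  have h3 : Module.length O ((Fin n → B) ⧸ LinearMap.range mx) =
      (n : ℕ∞) * Module.length O (B ⧸ (IsLocalRing.maximalIdeal O • (⊤ : Submodule O B))) := by
    rw [((Submodule.quotEquivOfEq _ _ hker).trans (ψ.quotKerEquivOfSurjective hψ)).length_eq,
      Module.length_pi_of_fintype, Finset.sum_const, Finset.card_univ, Fintype.card_fin, nsmul_eq_mul]
  have h4 : Module.length O (M ⧸ LinearMap.range mxM) =
      Module.length O ((Fin n → B) ⧸ LinearMap.range mx) := by
    have h5 := h1.symm.trans h2
    rw [add_comm (Module.length O (M ⧸ LinearMap.range mxM))] at h5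
    exact ((ENat.add_right_injective_of_ne_top hfin') h5).symm
  -- generators modulo the maximal ideal
  have h6 : Module.length O (M ⧸ (IsLocalRing.maximalIdeal O • (⊤ : Submodule O M))) ≤
      Module.length O (M ⧸ LinearMap.range mxM) :=
    Module.length_le_of_surjective (Submodule.factor (by
      rintro _ ⟨m, rfl⟩; exact Submodule.smul_mem_smul hx Submodule.mem_top))
      (Submodule.factor_surjective _)
  refine le_trans ?_ (le_of_le_of_eq h6 (h4.trans h3))
  letI : Field (O ⧸ IsLocalRing.maximalIdeal O) := Ideal.Quotient.field _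
  let bb := Module.finBasis (O ⧸ IsLocalRing.maximalIdeal O) (M ⧸ (IsLocalRing.maximalIdeal O • (⊤ : Submodule O M)))
  choose g hg using fun l => Submodule.mkQ_surjective _ (bb l)
  have hgen : Submodule.span O (Set.range g) = ⊤ := by
    refine eq_top_iff.2 (Submodule.le_of_le_smul_of_le_jacobson_bot Module.Finite.fg_top
      (IsLocalRing.maximalIdeal_le_jacobson _) fun m _ => ?_)
    have hm : Submodule.mkQ (IsLocalRing.maximalIdeal O • (⊤ : Submodule O M)) m ∈
        (Submodule.span O (Set.range g)).map (Submodule.mkQ _) := by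
      rw [Submodule.map_span, ← Set.range_comp]
      rw [← bb.sum_repr (Submodule.mkQ _ m)]
      refine Submodule.sum_mem _ fun l _ => ?_
      obtain ⟨c, hc⟩ := Ideal.Quotient.mk_surjective (bb.repr (Submodule.mkQ _ m) l)
      rw [← hc, ← Ideal.Quotient.algebraMap_eq, IsScalarTower.algebraMap_smul]
      exact Submodule.smul_mem _ _ (Submodule.subset_span ⟨l, hg l⟩)
    have hm' : m ∈ ((Submodule.span O (Set.range g)).map (Submodule.mkQ _)).comap (Submodule.mkQ _) := hm
    rwa [Submodule.comap_map_eq, Submodule.ker_mkQ] at hm'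
  conv_lhs => rw [← hgen]
  rw [Module.length_eq_of_surjective (S := O) (R := O ⧸ IsLocalRing.maximalIdeal O) Ideal.Quotient.mk_surjective,
    Module.length_eq_finrank]
  exact_mod_cast (Submodule.spanFinrank_span_le_ncard_of_finite (Set.finite_range g)).trans
    ((Finite.card_range_le g).trans (by rw [Nat.card_fin]))

end Groth.Agent.S15011
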