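-- statement TFCurv.GrothFrozen.S15013 (Groth/Statements/S15013.lean; the theorem TFCurv.ext_into_canonical_subsingleton_of_torsionFree);
import Groth.Statements.S15013
import Groth.Agent.ConeDim.Alg
import Mathlib

set_option autoImplicit false
universe u
open CategoryTheory
open TFCurv CategoryTheory

namespace Groth.Agent.S15013

/-- Let O be a one-dimensional Noetherian local domain with algebraically closed residue field whose
integral closure O~ in its fraction field K is a finite O-module, and let w be a canonical ideal of
O, taken here as a nonzero finitely generated O-submodule of K whose injective dimension as an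
O-module is at most one. Then Ext^i_O(M, w) vanishes for all i ≥ 1 and every finitely generated
torsion-free O-module M. -/
theorem result (O : Type u) [CommRing O] [IsDomain O] [IsNoetherianRing O] [IsLocalRing O] (hdim : ringKrullDim O = 1) [IsAlgClosed (IsLocalRing.ResidueField O)] (K : Type u) [Field K] [Algebra O K] [IsFractionRing O K] (hfin : Module.Finite O ↥(integralClosure O K)) (ω : Submodule O K) (hω0 : ω ≠ ⊥) (hωfg : ω.FG) (hωinj : HasInjectiveDimensionLT (ModuleCat.of O ↥ω) 2) (M : Type u) [AddCommGroup M] [Module O M] [Module.Finite O M] [NoZeroSMulDivisors O M] (i : ℕ) (hi : 1 ≤ i) : Subsingleton (Abelian.Ext (ModuleCat.of O M) (ModuleCat.of O ↥ω) i) := by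
  haveI := hωinj
  rcases Nat.lt_or_ge i 2 with hi2 | hi2
  · obtain rfl : i = 1 := by omega
    haveI : Module.IsTorsionFree O M := inferInstance
    obtain ⟨ι, _, φ, hφ⟩ := Groth.Agent.ConeDim.exists_injective_finite_free O M
    let S := ModuleCat.shortComplexOfCompEqZero φ (LinearMap.range φ).mkQ (by ext x; simp)
    have hS : S.ShortExact := ModuleCat.shortComplex_shortExact _ (LinearMap.exact_map_mkQ_range φ) hφ
      (Submodule.mkQ_surjective _)
    haveI : Module.Free O (ι →₀ O) := inferInstance
    haveI : Projective S.X₂ := (IsProjective.iff_projective (R := O) (ι →₀ O)).1 inferInstance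
    refine subsingleton_of_forall_eq 0 fun x => ?_
    obtain ⟨y, hy⟩ := Abelian.Ext.contravariant_sequence_exact₁ hS (ModuleCat.of O ↥ω) x (n₁ := 2) rfl
      (Abelian.Ext.eq_zero_of_hasInjectiveDimensionLT _ 2 le_rfl)
    rw [← hy, Abelian.Ext.eq_zero_of_projective y, Abelian.Ext.comp_zero]
  · exact HasInjectiveDimensionLT.subsingleton (ModuleCat.of O ↥ω) 2 i hi2 _

end Groth.Agent.S15013
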