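-- statement TFCurv.GrothFrozen.S15015 (Groth/Statements/S15015.lean; the theorem TFCurv.finrank_powerSeries_quot_eq_card_gaps);
import Groth.Statements.S15015
import Groth.Agent.TFCurvSG.Approx
import Mathlib.RingTheory.PowerSeries.NoZeroDivisors

set_option autoImplicit false
universe u
open TFCurv

namespace Groth.Agent.S15015

/-- Let k be an algebraically closed field and A ≠ k[[t]] a k-subalgebra of k[[t]] that is closed in the
t-adic topology, over which k[[t]] is a finite module, and such that every power series is carried
into A by multiplication with some nonzero element of A (so k[[t]] lies in the fraction field of A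
and is its normalisation, as for the complete local ring of a unibranch curve singularity), and let
Γ ⊆ ℕ be the set of t-orders of the nonzero elements of A (its value semigroup). Then ℕ ∖ Γ is
finite and the k-dimension of k[[t]]/A equals the number of gaps of Γ. -/
theorem result (k : Type u) [Field k] [IsAlgClosed k] (A : Subalgebra k (PowerSeries k)) (hA : Module.Finite ↥A (PowerSeries k)) (hcl : ∀ f : PowerSeries k, (∀ n : ℕ, ∃ g ∈ A, (n : ℕ∞) ≤ PowerSeries.order (f - g)) → f ∈ A) (hsing : A ≠ ⊤) (hbir : ∀ f : PowerSeries k, ∃ a ∈ A, a ≠ 0 ∧ a * f ∈ A) (Γ : Set ℕ) (hΓ : ∀ n : ℕ, n ∈ Γ ↔ ∃ f ∈ A, PowerSeries.order f = n) : Γᶜ.Finite ∧ Module.finrank k (PowerSeries k ⧸ Subalgebra.toSubmodule A) = Γᶜ.ncard := by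
  have hfin : Γᶜ.Finite := by
    classical
    obtain ⟨s, hs⟩ := hA
    choose a ha ha0 hmul using hbir
    let d := ∏ f ∈ s, a f
    have hd : d ∈ A := prod_mem fun f _ => ha f
    have hd0 : d ≠ 0 := Finset.prod_ne_zero_iff.2 fun f _ => ha0 f
    have hall : ∀ f : PowerSeries k, d * f ∈ A := by
      intro f
      have hf : f ∈ Submodule.span ↥A (s : Set (PowerSeries k)) := by rw [hs]; trivial
      induction hf using Submodule.span_induction with
      | mem x hx =>
        show (∏ g ∈ s, a g) * x ∈ A
        rw [← Finset.mul_prod_erase s a hx, mul_comm (a x), mul_assoc]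
        exact mul_mem (prod_mem fun g _ => ha g) (hmul x)
      | zero => simp [zero_mem]
      | add x y _ _ hx hy => rw [mul_add]; exact add_mem hx hy
      | smul r x _ hx =>
        rw [show r • x = (r : PowerSeries k) * x from rfl, mul_left_comm]
        exact mul_mem r.2 hx
    refine (Set.finite_lt_nat d.order.toNat).subset fun n hn => ?_
    by_contra hge
    simp only [Set.mem_setOf_eq, not_lt] at hge
    refine hn ((hΓ n).2 ⟨d * PowerSeries.X ^ (n - d.order.toNat), hall _, ?_⟩)
    rw [PowerSeries.order_mul, PowerSeries.order_X_pow, ← PowerSeries.coe_toNat_order hd0, ← Nat.cast_add]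
    congr 1
    simp only [ENat.toNat_natCast]
    omega
  exact ⟨hfin, TFCurvSG.finrank_quot_eq (Subalgebra.toSubmodule A) Γ hcl hΓ hfin⟩

end Groth.Agent.S15015
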