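-- statement TFCurv.GrothFrozen.S15017 (Groth/Statements/S15017.lean; the theorem TFCurv.numericalSemigroup_generated_below_conductor_of_symmetric);
import Groth.Statements.S15017
import Mathlib

set_option autoImplicit false
open TFCurv

namespace Groth.Agent.S15017

/-- Let Γ be a numerical semigroup (a submonoid of (ℕ, +) with finite complement), Γ ≠ ℕ, with conductor
c (every n ≥ c lies in Γ, c − 1 does not). If Γ is symmetric (for x < c, x is a gap exactly when c −
1 − x ∈ Γ) and has multiplicity greater than 2 (neither 1 nor 2 lies in Γ), then Γ is generated by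
its elements smaller than c: every minimal generator of Γ is less than the conductor. -/
theorem result (Γ : AddSubmonoid ℕ) (c : ℕ) (hc : ∀ n : ℕ, c ≤ n → n ∈ Γ) (hc0 : c ≠ 0) (hc1 : c - 1 ∉ Γ) (hsymm : ∀ x : ℕ, x < c → (x ∉ Γ ↔ c - 1 - x ∈ Γ)) (he : (1 : ℕ) ∉ Γ ∧ (2 : ℕ) ∉ Γ) : AddSubmonoid.closure {γ : ℕ | γ ∈ Γ ∧ γ < c} = Γ := by
  refine le_antisymm (AddSubmonoid.closure_le.2 fun γ hγ => hγ.1) ?_
  intro γ
  induction γ using Nat.strong_induction_on with
  | _ γ ih =>
    intro hγ
    by_cases hlt : γ < c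
    · exact AddSubmonoid.subset_closure ⟨hγ, hlt⟩
    by_cases h : ∃ a : ℕ, a ∈ Γ ∧ a ≠ 0 ∧ a < γ ∧ γ - a ∈ Γ
    · obtain ⟨a, ha, ha0, haγ, hb⟩ := h
      rw [show γ = a + (γ - a) by omega]
      exact add_mem (ih a haγ ha) (ih _ (by omega) hb)
    exfalso
    push Not at h
    have hc3 : 3 ≤ c := by
      by_contra hh
      exact he.2 (hc 2 (by omega))
    have h1 : c - 1 - 1 ∈ Γ := (hsymm 1 (by omega)).1 he.1
    have h2 : c - 1 - 2 ∈ Γ := (hsymm 2 (by omega)).1 he.2
    classical
    have hex : ∃ a : ℕ, a ∈ Γ ∧ a ≠ 0 := ⟨c, hc c le_rfl, hc0⟩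
    set e := Nat.find hex with hedef
    obtain ⟨hee, he0⟩ := Nat.find_spec hex
    rw [← hedef] at hee he0
    have hemin : ∀ a : ℕ, a ∈ Γ → a ≠ 0 → e ≤ a := fun a ha ha0 => Nat.find_min' hex ⟨ha, ha0⟩
    have hec : e ≤ c - 1 - 1 := hemin _ h1 (by omega)
    have hge : γ < c + e := by
      by_contra hh
      exact h e hee he0 (by omega) (hc _ (by omega))
    have key : ∀ a : ℕ, a ∈ Γ → a ≠ 0 → a < c → γ ≤ a + (c - 1) → a + (c - 1) - γ ∈ Γ := by
      intro a ha ha0 hac hle
      have hg := (hsymm (γ - a) (by omega)).1 (h a ha ha0 (by omega))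
      rwa [show c - 1 - (γ - a) = a + (c - 1) - γ by omega] at hg
    have hh : γ = c - 1 + e := by
      by_contra hne
      have := key e hee he0 (by omega) (by omega)
      have := hemin _ this (by omega)
      omega
    have hmul : ∀ a : ℕ, a < c → a ∈ Γ → e ∣ a := by
      intro a
      induction a using Nat.strong_induction_on with
      | _ a iha =>
        intro hac ha
        rcases Nat.eq_zero_or_pos a with rfl | hpos
        · exact dvd_zero e
        have hea := hemin a ha (by omega)
        have := key a ha (by omega) hac (by omega)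
        rw [show a + (c - 1) - γ = a - e by omega] at this
        rw [show a = (a - e) + e by omega]
        exact dvd_add (iha _ (by omega) (by omega) this) dvd_rfl
    have d1 := hmul _ (by omega) h1
    have d2 := hmul _ (by omega) h2
    have he1 : e = 1 := by
      have := Nat.dvd_sub d1 d2
      rwa [show c - 1 - 1 - (c - 1 - 2) = 1 by omega, Nat.dvd_one] at this
    exact he.1 (he1 ▸ hee)

end Groth.Agent.S15017
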