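-- statement TFCurv.GrothFrozen.S15018 (Groth/Statements/S15018.lean; the theorem TFCurv.symmetric_iff_existsUnique_gap_addable);
import Groth.Statements.S15018
import Mathlib

set_option autoImplicit false
open TFCurv

namespace Groth.Agent.S15018

/-- Let Γ be a numerical semigroup (a submonoid of (ℕ, +) with finite complement), Γ ≠ ℕ, with conductor
c (every n ≥ c lies in Γ, c − 1 does not). Then Γ is symmetric (for x < c, x is a gap exactly when c
− 1 − x ∈ Γ) if and only if there is exactly one gap n of Γ such that Γ ∪ {n} is again stable under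
adding elements of Γ, i.e. n + γ ∈ Γ for every nonzero γ ∈ Γ. -/
theorem result (Γ : AddSubmonoid ℕ) (c : ℕ) (hc : ∀ n : ℕ, c ≤ n → n ∈ Γ) (hc0 : c ≠ 0) (hc1 : c - 1 ∉ Γ) : (∀ x : ℕ, x < c → (x ∉ Γ ↔ c - 1 - x ∈ Γ)) ↔ ∃! n : ℕ, n ∉ Γ ∧ ∀ γ : ℕ, γ ∈ Γ → γ ≠ 0 → n + γ ∈ Γ := by
  classical
  have htop : c - 1 ∉ Γ ∧ ∀ γ : ℕ, γ ∈ Γ → γ ≠ 0 → c - 1 + γ ∈ Γ :=
    ⟨hc1, fun γ _ hγ => hc _ (by omega)⟩
  constructor
  · intro h
    refine ⟨c - 1, htop, fun n ⟨hn, hn'⟩ => ?_⟩
    by_contra hne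
    have hlt : n < c := by
      by_contra hge
      exact hn (hc n (by omega))
    have := hn' _ ((h n hlt).1 hn) (by omega)
    exact hc1 (by rwa [show n + (c - 1 - n) = c - 1 by omega] at this)
  · rintro ⟨m, -, huniq⟩ x hx
    have hm : m = c - 1 := (huniq _ htop).symm
    refine ⟨fun hxg => ?_, fun h1 h2 => hc1 ?_⟩
    · let P : ℕ → Prop := fun n => n ∉ Γ ∧ x ≤ n ∧ n - x ∈ Γ
      have hPx : P x := ⟨hxg, le_rfl, by simp [Γ.zero_mem]⟩
      have hspec := Nat.findGreatest_spec (P := P) (n := c) hx.le hPx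
      set n := Nat.findGreatest P c with hn
      have hprop : ∀ γ : ℕ, γ ∈ Γ → γ ≠ 0 → n + γ ∈ Γ := by
        intro γ hγ hγ0
        by_contra hnot
        have hlt : n + γ ≤ c := by
          by_contra hge
          exact hnot (hc _ (by omega))
        have := Nat.le_findGreatest (P := P) hlt ⟨hnot, by omega, by
          rw [show n + γ - x = (n - x) + γ by have := hspec.2.1; omega]
          exact Γ.add_mem hspec.2.2 hγ⟩
        omega
      have := huniq n ⟨hspec.1, hprop⟩
      rw [this, hm] at hspec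
      exact hspec.2.2
    · have := Γ.add_mem h2 h1
      rwa [show x + (c - 1 - x) = c - 1 by omega] at this

end Groth.Agent.S15018
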