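-- statement TFCurv.GrothFrozen.S15019 (Groth/Statements/S15019.lean; the theorem TFCurv.card_edges_moduleDiagram_le_multiplicity_sub_one);
import Groth.Statements.S15019
import Mathlib

set_option autoImplicit false
open TFCurv

namespace Groth.Agent.S15019

/-- Let Γ be a numerical semigroup (a submonoid of (ℕ, +) with finite complement), Γ ≠ ℕ, with conductor
c (every n ≥ c lies in Γ, c − 1 does not), let e be its multiplicity (the least nonzero element of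
Γ), and let S ⊆ ℕ be a Γ-module in normal form: 0 ∈ S and γ + s ∈ S for all γ ∈ Γ, s ∈ S. Then the
set of gaps n of S with S ∪ {n} again a Γ-module (n + γ ∈ S for every nonzero γ ∈ Γ) has at most e −
1 elements, and so does the set of nonzero s ∈ S with S ∖ {s} again a Γ-module (s − γ ∉ S for every
nonzero γ ∈ Γ with γ ≤ s). -/
theorem result (Γ : AddSubmonoid ℕ) (c : ℕ) (hc : ∀ n : ℕ, c ≤ n → n ∈ Γ) (hc0 : c ≠ 0) (hc1 : c - 1 ∉ Γ) (e : ℕ) (he : e ∈ Γ) (he0 : e ≠ 0) (hemin : ∀ γ : ℕ, γ ∈ Γ → γ ≠ 0 → e ≤ γ) (S : Set ℕ) (hS0 : (0 : ℕ) ∈ S) (hS : ∀ γ : ℕ, γ ∈ Γ → ∀ s : ℕ, s ∈ S → γ + s ∈ S) : {n : ℕ | n ∉ S ∧ ∀ γ : ℕ, γ ∈ Γ → γ ≠ 0 → n + γ ∈ S}.encard ≤ ((e - 1 : ℕ) : ℕ∞) ∧ {s : ℕ | s ∈ S ∧ s ≠ 0 ∧ ∀ γ : ℕ, γ ∈ Γ → γ ≠ 0 → γ ≤ s → s - γ ∉ S}.encard ≤ ((e - 1 : ℕ) : ℕ∞) := by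
  have hmul : ∀ j : ℕ, j * e ∈ Γ := fun j => by simpa using Γ.nsmul_mem he j
  have hcard : (Set.Ico 1 e : Set ℕ).encard = ((e - 1 : ℕ) : ℕ∞) := by
    rw [← Set.Finite.cast_ncard_eq (Set.finite_Ico 1 e)]
    simp
  have hmod : ∀ n : ℕ, n % e = 0 → n ∈ Γ := fun n h => by
    rw [← Nat.div_add_mod n e, h, add_zero, mul_comm]
    exact hmul _
  have hpos : ∀ a b : ℕ, a < b → a % e = b % e → ∃ j, j ≠ 0 ∧ b = a + j * e := fun a b hlt h => by
    obtain ⟨j, hj⟩ := (Nat.modEq_iff_dvd' hlt.le).1 h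
    refine ⟨j, ?_, by rw [mul_comm j e]; omega⟩
    rintro rfl
    omega
  constructor
  · rw [← hcard]
    refine Set.encard_le_encard_of_injOn (f := fun n => n % e) (fun n hn => ⟨?_, Nat.mod_lt _ (by omega)⟩) ?_
    · by_contra h0
      simp only [not_le, Nat.lt_one_iff] at h0
      exact hn.1 (by simpa using hS n (hmod n h0) 0 hS0)
    · intro a ha b hb hab
      by_contra hne
      rcases Nat.lt_or_gt_of_ne hne with hlt | hlt
      · obtain ⟨j, hj, rfl⟩ := hpos a b hlt hab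
        exact hb.1 (ha.2 _ (hmul j) (Nat.mul_ne_zero hj he0))
      · obtain ⟨j, hj, rfl⟩ := hpos b a hlt hab.symm
        exact ha.1 (hb.2 _ (hmul j) (Nat.mul_ne_zero hj he0))
  · rw [← hcard]
    refine Set.encard_le_encard_of_injOn (f := fun n => n % e) (fun n hn => ⟨?_, Nat.mod_lt _ (by omega)⟩) ?_
    · by_contra h0
      simp only [not_le, Nat.lt_one_iff] at h0
      exact hn.2.2 n (hmod n h0) hn.2.1 le_rfl (by simpa using hS0)
    · intro a ha b hb hab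
      by_contra hne
      rcases Nat.lt_or_gt_of_ne hne with hlt | hlt
      · obtain ⟨j, hj, rfl⟩ := hpos a b hlt hab
        exact hb.2.2 _ (hmul j) (Nat.mul_ne_zero hj he0) (Nat.le_add_left _ _) (by simpa using ha.1)
      · obtain ⟨j, hj, rfl⟩ := hpos b a hlt hab.symm
        exact ha.2.2 _ (hmul j) (Nat.mul_ne_zero hj he0) (Nat.le_add_left _ _) (by simpa using hb.1)

end Groth.Agent.S15019
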