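-- statement TFCurv.GrothFrozen.S15022 (Groth/Statements/S15022.lean; the theorem TFCurv.valueSet_canonicalIdeal_eq_dual_semigroup);
import Groth.Statements.S15022
import Groth.Agent.TFCurvSG.Canonical

set_option autoImplicit false
universe u
open CategoryTheory
open TFCurv Groth.Agent

namespace Groth.Agent.S15022

/-- Let k be an algebraically closed field and A ≠ k[[t]] a k-subalgebra of k[[t]] that is closed in the
t-adic topology and over which k[[t]] is a finite module (as for the complete local ring of a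
unibranch curve singularity inside its normalisation), and let Γ ⊆ ℕ be the set of t-orders of the
nonzero elements of A (its value semigroup); let c be the conductor of Γ (every n ≥ c lies in Γ, c −
1 does not) and suppose A is not Gorenstein. If w is an A-submodule of k[[t]] with 1 ∈ w whose
injective dimension as an A-module is at most one (a canonical ideal of A placed between A and
k[[t]]), then the value set of w is the dual of Γ: a natural number n is the t-order of some element
of w exactly when n ≥ c or c − 1 − n is a gap of Γ. (The published statement does not exclude the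
Gorenstein case; this row assumes that A is not Gorenstein.) -/
theorem result (k : Type u) [Field k] [IsAlgClosed k] (A : Subalgebra k (PowerSeries k)) (hA : Module.Finite ↥A (PowerSeries k)) (hcl : ∀ f : PowerSeries k, (∀ n : ℕ, ∃ g ∈ A, (n : ℕ∞) ≤ PowerSeries.order (f - g)) → f ∈ A) (hsing : A ≠ ⊤) (Γ : Set ℕ) (hΓ : ∀ n : ℕ, n ∈ Γ ↔ ∃ f ∈ A, PowerSeries.order f = n) (c : ℕ) (hc : ∀ n : ℕ, c ≤ n → n ∈ Γ) (hc0 : c ≠ 0) (hc1 : c - 1 ∉ Γ) (hG : ¬ LocCoh.IsGorensteinLocalRing ↥A) (ω : Submodule ↥A (PowerSeries k)) (hω1 : (1 : PowerSeries k) ∈ ω) (hωfg : ω.FG) (hωinj : HasInjectiveDimensionLT (ModuleCat.of ↥A ↥ω) 2) (n : ℕ) : (∃ f ∈ ω, PowerSeries.order f = n) ↔ (c ≤ n ∨ c - 1 - n ∉ Γ) := by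
  have hmem : ∀ {f : PowerSeries k}, f ∈ Submodule.span ↥A ({1} : Set (PowerSeries k)) ↔ f ∈ A := fun {f} => by
    rw [Submodule.mem_span_singleton]
    exact ⟨fun ⟨a, ha⟩ => by rw [← ha, show a • (1 : PowerSeries k) = a from mul_one _]; exact a.2,
      fun h => ⟨⟨f, h⟩, mul_one f⟩⟩
  have key := TFCurvSG.valueSet_dual A ω c
    (fun f hf => TFCurvSG.mem_of_le_order (Subalgebra.toSubmodule A) hcl c (fun j hj => (hΓ j).1 (hc j hj)) f hf)
    hc0 (fun h => hc1 ((hΓ _).2 h)) hω1 hωinj (Submodule.span ↥A {1}) (Submodule.mem_span_singleton_self _) n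
  rw [hΓ (c - 1 - n)]
  constructor
  · rintro ⟨f, hf, hfo⟩
    refine (key.1 ⟨f, hfo, fun m hm => ?_⟩).imp_right fun h ⟨g, hg, hgo⟩ => h ⟨g, hmem.2 hg, hgo⟩
    rw [mul_comm]
    exact ω.smul_mem ⟨m, hmem.1 hm⟩ hf
  · intro h
    obtain ⟨u, huo, hu⟩ := key.2 (h.imp_right fun h ⟨g, hg, hgo⟩ => h ⟨g, hmem.1 hg, hgo⟩)
    exact ⟨u, by simpa using hu 1 (Submodule.mem_span_singleton_self _), huo⟩

end Groth.Agent.S15022
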