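-- statement TFCurv.GrothFrozen.S15023 (Groth/Statements/S15023.lean; the theorem TFCurv.exists_rankOne_lattice_over_X_pow_two_delta);
import Groth.Statements.S15023
import Mathlib
import Groth.Agent.TFCurvSG.Approx

set_option autoImplicit false
set_option maxHeartbeats 1000000
set_option synthInstance.maxHeartbeats 400000
universe u
open TFCurv Groth.Agent

namespace Groth.Agent.S15023

/-- Let k be an algebraically closed field and A ≠ k[[t]] a k-subalgebra of k[[t]] that is closed in the
t-adic topology, over which k[[t]] is a finite module, and such that every power series is carried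
into A by multiplication with some nonzero element of A (so k[[t]] lies in the fraction field of A
and is its normalisation, as for the complete local ring of a unibranch curve singularity), and let
Γ ⊆ ℕ be the set of t-orders of the nonzero elements of A (its value semigroup); assume moreover
that A is the monomial ring of Γ (a power series lies in A exactly when all its exponents lie in Γ),
and let δ be the number of gaps of Γ. Then every finitely generated torsion-free A-module of rank
one is isomorphic to an A-submodule M' of k[[t]] with t^{2δ} k[[t]] ⊆ M' and dim_k(k[[t]]/M') = δ,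
equivalently dim_k(M'/t^{2δ}k[[t]]) = δ: every isomorphism class of rank-one torsion-free modules is
represented by a δ-dimensional A-stable subspace of k[[t]]/t^{2δ}k[[t]]. -/
theorem result (k : Type u) [Field k] [IsAlgClosed k] (A : Subalgebra k (PowerSeries k)) (hA : Module.Finite ↥A (PowerSeries k)) (hcl : ∀ f : PowerSeries k, (∀ n : ℕ, ∃ g ∈ A, (n : ℕ∞) ≤ PowerSeries.order (f - g)) → f ∈ A) (hsing : A ≠ ⊤) (hbir : ∀ f : PowerSeries k, ∃ a ∈ A, a ≠ 0 ∧ a * f ∈ A) (Γ : Set ℕ) (hΓ : ∀ n : ℕ, n ∈ Γ ↔ ∃ f ∈ A, PowerSeries.order f = n) (hmono : ∀ f : PowerSeries k, f ∈ A ↔ ∀ n : ℕ, PowerSeries.coeff n f ≠ 0 → n ∈ Γ) (M : Type u) [AddCommGroup M] [Module ↥A M] [Module.Finite ↥A M] [NoZeroSMulDivisors ↥A M] (hrk : Module.finrank (FractionRing ↥A) (TensorProduct ↥A (FractionRing ↥A) M) = 1) : ∃ M' : Submodule ↥A (PowerSeries k), (Ideal.span {(PowerSeries.X : PowerSeries k) ^ (2 * Γᶜ.ncard)}).restrictScalars ↥A ≤ M' ∧ Nonempty (M ≃ₗ[↥A] ↥M') ∧ Module.finrank k (PowerSeries k ⧸ M'.restrictScalars k) = Γᶜ.ncard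 := by
  classical
  -- the conductor degree
  obtain ⟨N, hN⟩ : ∃ N : ℕ, ∀ n, N ≤ n → n ∈ Γ := by
    obtain ⟨s, hs⟩ := hA
    choose a ha ha0 hmul using hbir
    let d := ∏ f ∈ s, a f
    have hd0 : d ≠ 0 := Finset.prod_ne_zero_iff.2 fun f _ => ha0 f
    have hall : ∀ f : PowerSeries k, d * f ∈ A := by
      intro f
      have hf : f ∈ Submodule.span ↥A (s : Set (PowerSeries k)) := by rw [hs]; trivial
      induction hf using Submodule.span_induction with
      | mem x hx =>
        show (∏ g ∈ s, a g) * x ∈ A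
        rw [← Finset.mul_prod_erase s a hx, mul_comm (a x), mul_assoc]
        exact mul_mem (prod_mem fun g _ => ha g) (hmul x)
      | zero => simp [zero_mem]
      | add x y _ _ hx hy => rw [mul_add]; exact add_mem hx hy
      | smul r x _ hx =>
        rw [show r • x = (r : PowerSeries k) * x from rfl, mul_left_comm]
        exact mul_mem r.2 hx
    refine ⟨d.order.toNat, fun n hge => (hΓ n).2 ⟨d * PowerSeries.X ^ (n - d.order.toNat), hall _, ?_⟩⟩
    rw [PowerSeries.order_mul, PowerSeries.order_X_pow, ← PowerSeries.coe_toNat_order hd0, ← Nat.cast_add]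
    congr 1
    simp only [ENat.toNat_natCast]
    omega
  have hXA : ∀ h : PowerSeries k, PowerSeries.X ^ N * h ∈ A := fun h => (hmono _).2 fun n hn => hN n (by
    by_contra hlt
    exact hn (by rw [PowerSeries.coeff_X_pow_mul', if_neg hlt]))
  have hfinΓ : Γᶜ.Finite := (Set.finite_lt_nat N).subset fun n hn => by
    by_contra h
    exact hn (hN n (by simpa using h))
  -- embed M in k[[X]]
  obtain ⟨ι, hι⟩ : ∃ ι : M →ₗ[↥A] PowerSeries k, Function.Injective ι := by
    let K := FractionRing ↥A
    let j : M →ₗ[↥A] TensorProduct ↥A K M := TensorProduct.mk ↥A K M 1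
    haveI : IsLocalizedModule (nonZeroDivisors ↥A) j :=
      (isLocalizedModule_iff_isBaseChange (nonZeroDivisors ↥A) K j).2 (TensorProduct.isBaseChange ↥A M K)
    have hj : Function.Injective j := by
      intro x y hxy
      obtain ⟨c, hc⟩ := (IsLocalizedModule.eq_iff_exists (nonZeroDivisors ↥A) j).1 hxy
      exact smul_right_injective M (nonZeroDivisors.ne_zero c.2) hc
    let e : TensorProduct ↥A K M ≃ₗ[K] K :=
      (LinearEquiv.ofFinrankEq (TensorProduct ↥A K M) K (by rw [hrk, Module.finrank_self]))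
    let f : M →ₗ[↥A] K := (e.toLinearMap.restrictScalars ↥A) ∘ₗ j
    have hf : Function.Injective f := e.injective.comp hj
    obtain ⟨s, hs⟩ := Module.Finite.fg_top (R := ↥A) (M := M)
    obtain ⟨b, hb⟩ := IsLocalization.exist_integer_multiples (nonZeroDivisors ↥A) s f
    have hint : ∀ x, ∃ r : ↥A, algebraMap ↥A K r = b.1 • f x := by
      intro x
      have hx : x ∈ Submodule.span ↥A (s : Set M) := by rw [hs]; trivial
      induction hx using Submodule.span_induction with
      | mem x hx => exact hb x hx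
      | zero => exact ⟨0, by simp⟩
      | add x y _ _ hx hy =>
        obtain ⟨r, hr⟩ := hx; obtain ⟨r', hr'⟩ := hy
        exact ⟨r + r', by rw [map_add, hr, hr', map_add, smul_add]⟩
      | smul c x _ hx =>
        obtain ⟨r, hr⟩ := hx
        exact ⟨c * r, by rw [map_smul, smul_comm, ← hr, map_mul, Algebra.smul_def]⟩
    choose g hg using hint
    have hginj : Function.Injective (algebraMap ↥A K) := IsFractionRing.injective ↥A K
    refine ⟨{ toFun := fun x => ((g x : ↥A) : PowerSeries k), map_add' := fun x y => ?_, map_smul' := fun c x => ?_ }, fun x y hxy => ?_⟩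
    · show ((g (x + y) : ↥A) : PowerSeries k) = ((g x + g y : ↥A) : PowerSeries k)
      refine congrArg _ (hginj ?_)
      rw [map_add, hg, hg, hg, map_add, smul_add]
    · show ((g (c • x) : ↥A) : PowerSeries k) = ((c * g x : ↥A) : PowerSeries k)
      refine congrArg _ (hginj ?_)
      rw [map_mul, hg, hg, map_smul, smul_comm, Algebra.smul_def c]
    · have h1 : g x = g y := Subtype.ext hxy
      have h2 : b.1 • f x = b.1 • f y := by rw [← hg, ← hg, h1]
      refine hf ?_
      rw [Algebra.smul_def, Algebra.smul_def] at h2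
      exact mul_left_cancel₀ ((map_ne_zero_iff _ hginj).2 (nonZeroDivisors.ne_zero b.2)) h2
  -- normalise
  have hntriv : Nontrivial M := by
    by_contra h
    rw [not_nontrivial_iff_subsingleton] at h
    haveI := h
    haveI : Subsingleton (TensorProduct ↥A (FractionRing ↥A) M) := inferInstance
    rw [Module.finrank_zero_of_subsingleton] at hrk
    exact zero_ne_one hrk
  obtain ⟨x₀, hx₀⟩ := exists_ne (0 : M)
  let Ω : Set ℕ := {n | ∃ x : M, (ι x).order = n}
  have hΩ : Ω.Nonempty := ⟨_, x₀, (PowerSeries.coe_toNat_order fun h => hx₀ (hι (h.trans (map_zero ι).symm))).symm⟩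
  let j₀ := sInf Ω
  obtain ⟨x₁, hx₁⟩ := Nat.sInf_mem hΩ
  have hdvd : ∀ x, PowerSeries.X ^ j₀ ∣ ι x := fun x => by
    rw [PowerSeries.X_pow_dvd_iff]
    intro m hm
    by_contra hc
    have h0 : ι x ≠ 0 := fun h => hc (by rw [h, map_zero])
    have h1 : j₀ ≤ (ι x).order.toNat := Nat.sInf_le ⟨x, (PowerSeries.coe_toNat_order h0).symm⟩
    have h2 := PowerSeries.order_le m hc
    rw [← PowerSeries.coe_toNat_order h0] at h2
    exact absurd (h1.trans (by exact_mod_cast h2)) (not_le.2 hm)
  let μ : ℕ → (PowerSeries k →ₗ[↥A] PowerSeries k) := fun t => LinearMap.mulLeft ↥A (PowerSeries.X ^ t)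
  have hμ : ∀ t, Function.Injective (μ t) := fun t a b h =>
    mul_left_cancel₀ (pow_ne_zero t PowerSeries.X_ne_zero) h
  let W : Submodule ↥A (PowerSeries k) := (LinearMap.range ι).comap (μ j₀)
  have hWmap : W.map (μ j₀) = LinearMap.range ι := by
    refine le_antisymm (Submodule.map_comap_le _ _) ?_
    rintro _ ⟨x, rfl⟩
    obtain ⟨q, hq⟩ := hdvd x
    exact ⟨q, ⟨x, hq⟩, hq.symm⟩
  obtain ⟨u, hu, hu0⟩ : ∃ u ∈ W, u.order = 0 := by
    obtain ⟨q, hq, hq'⟩ : ι x₁ ∈ W.map (μ j₀) := by rw [hWmap]; exact ⟨x₁, rfl⟩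
    refine ⟨q, hq, ?_⟩
    have h := congrArg PowerSeries.order hq'
    change (PowerSeries.X ^ j₀ * q).order = (ι x₁).order at h
    rw [PowerSeries.order_mul, PowerSeries.order_X_pow, hx₁] at h
    exact (ENat.add_right_injective_of_ne_top (ENat.natCast_ne_top j₀)) (h.trans (add_zero _).symm)
  have hXW : ∀ h : PowerSeries k, PowerSeries.X ^ N * h ∈ W := fun h => by
    have hunit : IsUnit u := PowerSeries.isUnit_iff_constantCoeff.2 (isUnit_iff_ne_zero.2 fun h0 => by
      have := (PowerSeries.order_eq_nat (n := 0)).1 (by simpa using hu0)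
      exact this.1 (by rwa [PowerSeries.coeff_zero_eq_constantCoeff_apply]))
    obtain ⟨v, hv⟩ := hunit.exists_left_inv
    have := W.smul_mem ⟨_, hXA (h * v)⟩ hu
    have e : PowerSeries.X ^ N * h = (⟨_, hXA (h * v)⟩ : ↥A) • u := by
      show _ = PowerSeries.X ^ N * (h * v) * u
      rw [mul_assoc, mul_assoc, hv, mul_one]
    rw [e]; exact this
  let Δ : Set ℕ := {n | ∃ f ∈ W, PowerSeries.order f = n}
  have hΓΔ : Γ ⊆ Δ := fun n hn => by
    obtain ⟨a, ha, hao⟩ := (hΓ n).1 hn
    exact ⟨(⟨a, ha⟩ : ↥A) • u, W.smul_mem _ hu, by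
      show (a * u).order = _; rw [PowerSeries.order_mul, hao, hu0, add_zero]⟩
  have hfin : Δᶜ.Finite := hfinΓ.subset (Set.compl_subset_compl.2 hΓΔ)
  set δ := Γᶜ.ncard with hδ
  set q := Δᶜ.ncard with hq
  have hqδ : q ≤ δ := Set.ncard_le_ncard (Set.compl_subset_compl.2 hΓΔ) hfinΓ
  have hbound : ∀ g ∈ Δᶜ, g < q + δ := by
    intro g hg
    have h1 : ((Finset.range (g + 1)).filter (· ∈ Γ)).card ≤ q := by
      rw [hq, ← Set.ncard_coe_finset]
      refine Set.ncard_le_ncard_of_injOn (fun i => g - i) ?_ ?_ hfin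
      · intro i hi
        simp only [Finset.coe_filter, Finset.mem_range, Set.mem_setOf_eq] at hi
        intro hgi
        obtain ⟨f, hf, hfo⟩ := hgi
        obtain ⟨a, ha, hao⟩ := (hΓ i).1 hi.2
        refine hg ⟨(⟨a, ha⟩ : ↥A) • f, W.smul_mem _ hf, ?_⟩
        show (a * f).order = _
        rw [PowerSeries.order_mul, hao, hfo, ← Nat.cast_add]
        congr 1; omega
      · intro a ha b hb hab
        simp only [Finset.coe_filter, Finset.mem_range, Set.mem_setOf_eq] at ha hb
        simp only at hab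
        omega
    have h2 : ((Finset.range (g + 1)).filter (· ∉ Γ)).card ≤ δ := by
      rw [hδ, ← Set.ncard_coe_finset]
      exact Set.ncard_le_ncard (fun i hi => (Finset.mem_filter.1 hi).2) hfinΓ
    have := Finset.card_filter_add_card_filter_not (s := Finset.range (g + 1)) (· ∈ Γ)
    rw [Finset.card_range] at this
    omega
  have hclW : ∀ f : PowerSeries k, (∀ n : ℕ, ∃ g ∈ W.restrictScalars k, (n : ℕ∞) ≤ PowerSeries.order (f - g)) →
      f ∈ W.restrictScalars k := by
    intro f hf
    obtain ⟨g, hg, hgo⟩ := hf N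
    obtain ⟨h, hh⟩ : PowerSeries.X ^ N ∣ f - g := PowerSeries.X_pow_dvd_iff.2 fun m hm =>
      PowerSeries.coeff_of_lt_order m (lt_of_lt_of_le (by exact_mod_cast hm) hgo)
    rw [← sub_add_cancel f g, hh]
    exact W.add_mem (hXW h) hg
  have hbig : ∀ h : PowerSeries k, PowerSeries.X ^ (q + δ) * h ∈ W := fun h =>
    TFCurvSG.mem_of_le_order (W.restrictScalars k) hclW (q + δ)
      (fun n hn => by_contra fun hne => absurd (hbound n hne) (not_lt.2 hn)) _
      (by rw [PowerSeries.order_mul, PowerSeries.order_X_pow]; exact le_self_add)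
  -- shift
  let t := δ - q
  let M' := W.map (μ t)
  refine ⟨M', ?_, ?_, ?_⟩
  · intro f hf
    rw [Submodule.restrictScalars_mem, Ideal.mem_span_singleton] at hf
    obtain ⟨h, rfl⟩ := hf
    refine ⟨PowerSeries.X ^ (q + δ) * h, hbig h, ?_⟩
    show PowerSeries.X ^ t * (PowerSeries.X ^ (q + δ) * h) = _
    rw [← mul_assoc, ← pow_add, show t + (q + δ) = 2 * δ by omega]
  · exact ⟨(LinearEquiv.ofInjective ι hι).trans ((LinearEquiv.ofEq _ _ hWmap.symm).trans
      ((W.equivMapOfInjective (μ j₀) (hμ j₀)).symm.trans (W.equivMapOfInjective (μ t) (hμ t))))⟩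
  · let Δ' : Set ℕ := (fun n => t + n) '' Δ
    have hgap : Δ'ᶜ = Set.Iio t ∪ (fun n => t + n) '' Δᶜ := by
      ext n
      simp only [Δ', Set.mem_compl_iff, Set.mem_image, Set.mem_union, Set.mem_Iio, not_exists, not_and]
      constructor
      · intro h
        by_cases hn : n < t
        · exact Or.inl hn
        · exact Or.inr ⟨n - t, fun hc => h (n - t) hc (by omega), by omega⟩
      · rintro (hn | ⟨m, hm, rfl⟩) x hx e
        · omega
        · exact hm (by have : x = m := by omega
                       rwa [this] at hx)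
    have hfin' : Δ'ᶜ.Finite := hgap ▸ (Set.finite_Iio t).union (hfin.image _)
    rw [TFCurvSG.finrank_quot_eq (M'.restrictScalars k) Δ' ?_ ?_ hfin', hgap,
      Set.ncard_union_eq ?_ (Set.finite_Iio t) (hfin.image _), Set.ncard_image_of_injective _ (add_right_injective t),
      Set.ncard_eq_toFinset_card _ (Set.finite_Iio t)]
    · rw [← Set.ncard_eq_toFinset_card _ (Set.finite_Iio t), show Set.Iio t = ↑(Finset.range t) by simp, Set.ncard_coe_finset, Finset.card_range]
      omega
    · rw [Set.disjoint_left]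
      rintro n hn ⟨m, -, rfl⟩
      simp only [Set.mem_Iio] at hn
      omega
    · intro f hf
      obtain ⟨g, hg, hgo⟩ := hf (t + N)
      obtain ⟨h, hh⟩ : PowerSeries.X ^ (t + N) ∣ f - g := PowerSeries.X_pow_dvd_iff.2 fun m hm =>
        PowerSeries.coeff_of_lt_order m (lt_of_lt_of_le (by exact_mod_cast hm) hgo)
      rw [← sub_add_cancel f g]
      refine M'.add_mem ⟨PowerSeries.X ^ N * h, hXW h, ?_⟩ hg
      show PowerSeries.X ^ t * (PowerSeries.X ^ N * h) = _
      rw [hh, ← mul_assoc, ← pow_add]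
    · intro n
      constructor
      · rintro ⟨m, ⟨f, hf, hfo⟩, rfl⟩
        refine ⟨μ t f, ⟨f, hf, rfl⟩, ?_⟩
        show (PowerSeries.X ^ t * f).order = _
        rw [PowerSeries.order_mul, PowerSeries.order_X_pow, hfo, Nat.cast_add]
      · rintro ⟨_, ⟨f, hf, rfl⟩, hfo⟩
        change (PowerSeries.X ^ t * f).order = _ at hfo
        rw [PowerSeries.order_mul, PowerSeries.order_X_pow] at hfo
        have hne : f.order ≠ ⊤ := fun h => by rw [h, add_top] at hfo; exact ENat.top_ne_natCast n hfo
        refine ⟨f.order.toNat, ⟨f, hf, (ENat.natCast_toNat hne).symm⟩, ?_⟩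
        rw [← ENat.natCast_toNat hne, ← Nat.cast_add] at hfo
        exact_mod_cast hfo

end Groth.Agent.S15023
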