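import Groth.Statements.S15028
import Groth.Agent.CurveDeg.DegTensor
import Groth.Agent.CurveDeg.Curve
import Groth.Agent.CurveDeg.H0
-- import your own Groth.Agent.* helpers here

set_option autoImplicit false
universe u
open CategoryTheory CategoryTheory.Limits AlgebraicGeometry
open TFCurv

namespace Groth.Agent.S15028

/-- Let X be an integral proper curve (integral, proper, of dimension one) over an algebraically closed
field k, and let f : E → F be a monomorphism of coherent torsion-free O_X-modules which is
generically an isomorphism (the stalk of its cokernel at the generic point vanishes), with E of rank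
n at the generic point. Then deg E ≤ deg F, degrees being taken as modules of rank n (Euler
characteristic minus n times that of O_X), and equality holds if and only if f is an isomorphism.
(The published statement covers in the same words bundles with parabolic structure and a weight α <
1; only the case without parabolic structure is stated here.) -/
theorem result (k : Type u) [Field k] [IsAlgClosed k] (X : Scheme.{u}) [X.Over (Spec (CommRingCat.of k))] [IsIntegral X] [IsProper (X ↘ Spec (CommRingCat.of k))] (hdim : topologicalKrullDim X = 1) (E F : X.Modules) (hEc : Coh.IsCoh E) (hFc : Coh.IsCoh F) (hEt : TorSh.IsTorsionFree E) (hFt : TorSh.IsTorsionFree F) (n : ℕ) (hn : Module.finrank (X.presheaf.stalk (genericPoint X)) (E.presheaf.stalk (genericPoint X)) = n) (f : E ⟶ F) [Mono f] (hgen : Subsingleton ((cokernel f).presheaf.stalk (genericPoint X))) : Curv2.deg k X E n ≤ Curv2.deg k X F n ∧ (Curv2.deg k X E n = Curv2.deg k X F n ↔ IsIso f) := by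
  have := Groth.Agent.CurveDeg.isNoetherian_of_proper (k := k) (X := X)
  have key : ∀ {A B : X.Modules} (g : A ⟶ B) [Mono g], Coh.IsCoh A → Coh.IsCoh B →
      genericPoint X ∉ CohB1.support (cokernel g) →
      Curv2.euler k X A ≤ Curv2.euler k X B ∧
        (Curv2.euler k X A = Curv2.euler k X B → IsIso g) := by
    intro A B g _ hA hB hη
    have hQ : Coh.IsCoh (cokernel g) := Groth.Agent.QCohBase.isCoh_cokernel g hA.1 hB
    let T := ShortComplex.mk g (cokernel.π g) (cokernel.condition g)
    have hT : T.ShortExact :=
      { exact := ShortComplex.exact_of_g_is_cokernel _ (cokernelIsCokernel g)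
        mono_f := inferInstanceAs (Mono g)
        epi_g := inferInstanceAs (Epi (cokernel.π g)) }
    obtain ⟨hfin, hcl⟩ := Groth.Agent.CurveDeg.finite_closed (k := k) hdim.le
      (Groth.Agent.QCohBase.isClosed_support _ hQ.2) hη
    have he := Groth.Agent.CurveDeg.euler_additive (k := k) T hT hA hB hQ
    change Curv2.euler k X B = Curv2.euler k X A + Curv2.euler k X (cokernel g) at he
    rw [Groth.Agent.CurveDeg.euler_of_finite_support (k := k) hQ hfin hcl subset_rfl] at he
    refine ⟨by omega, fun heq => ?_⟩
    have hempty : CohB1.support (cokernel g) = ∅ := by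
      by_contra hne
      have := Groth.Agent.CurveDeg.finrank_HH0_pos (k := k) hQ hfin hcl subset_rfl
        (Set.nonempty_iff_ne_empty.2 hne)
      omega
    have hz : IsZero (cokernel g) := by
      rw [IsZero.iff_id_eq_zero]
      refine Scheme.Modules.hom_ext _ _ fun U => ?_
      ext m
      exact Groth.Agent.CurveDeg.eq_zero_of_disjoint _ _ fun y _ hy => (hempty.le hy).elim
    haveI : Epi g := Abelian.epi_of_cokernel_π_eq_zero g (hz.eq_of_tgt _ _)
    exact isIso_of_mono_of_epi g
  obtain ⟨h1, h2⟩ := key f hEc hFc fun h => h hgen
  rw [Curv2.deg, Curv2.deg]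
  refine ⟨by omega, fun h => h2 (by omega), fun h => ?_⟩
  haveI := h
  have h3 := (key (inv f) hFc hEc fun h' => h' (ModuleCat.subsingleton_of_isZero
    ((DerSch.stalkFunctor X (genericPoint X)).map_isZero (isZero_cokernel_of_epi (inv f))))).1
  omega

end Groth.Agent.S15028
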