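-- statement TFCurv.GrothFrozen.S15030 (Groth/Statements/S15030.lean; the theorem TFCurv.length_ext_one_rankOne_modules_A_even);
import Groth.Statements.S15030
import Groth.Agent.TFCurvSG.MonExt

set_option autoImplicit false
set_option maxHeartbeats 2000000
universe u
open CategoryTheory
open TFCurv Groth.Agent

namespace Groth.Agent.S15030

/-- Let k be an algebraically closed field of characteristic zero, δ ≥ 1, and A ⊂ k[[t]] the complete
local ring of the A_{2δ} singularity, i.e. the k-subalgebra of power series all of whose exponents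
lie in the semigroup generated by 2 and 2δ + 1 (so A = k[[t², t^{2δ+1}]]). For 0 ≤ i ≤ δ let M_i ⊂
k[[t]] be the A-submodule generated by 1 and t^{2δ+1−2i} (these represent all rank-one torsion-free
A-modules). Then for 0 ≤ i, j ≤ δ the A-module Ext¹_A(M_i, M_j) has length 2·min(i, j) (length over
A equals k-dimension here). (The published statement also covers the two-branch case n = 2δ − 1 with
the same value; only the one-branch case is stated.) -/
theorem result (k : Type u) [Field k] [IsAlgClosed k] [CharZero k] (δ : ℕ) (hδ : 1 ≤ δ) (A : Subalgebra k (PowerSeries k)) (hmono : ∀ f : PowerSeries k, f ∈ A ↔ ∀ n : ℕ, PowerSeries.coeff n f ≠ 0 → n ∈ AddSubmonoid.closure ({2, 2 * δ + 1} : Set ℕ)) (i j : ℕ) (hi : i ≤ δ) (hj : j ≤ δ) : Module.length ↥A (Abelian.Ext (ModuleCat.of ↥A ↥(Submodule.span ↥A ({1, (PowerSeries.X : PowerSeries k) ^ (2 * δ + 1 - 2 * i)} : Set (PowerSeries k)))) (ModuleCat.of ↥A ↥(Submodule.span ↥A ({1, (PowerSeries.X : PowerSeries k) ^ (2 * δ + 1 - 2 * j)} : Set (PowerSeries k))))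 1) = ((2 * min i j : ℕ) : ℕ∞) := by
  classical
  have hP : ∀ m, m ∈ AddSubmonoid.closure ({2, 2 * δ + 1} : Set ℕ) ↔ m % 2 = 0 ∨ 2 * δ + 1 ≤ m := by
    intro m
    rw [AddSubmonoid.mem_closure_pair]
    constructor
    · rintro ⟨a, b, rfl⟩
      simp only [smul_eq_mul]
      rcases Nat.eq_zero_or_pos b with rfl | hb
      · left; omega
      · right; nlinarith
    · intro h
      by_cases he : m % 2 = 0
      · exact ⟨m / 2, 0, by simp only [smul_eq_mul]; omega⟩
      · exact ⟨(m - (2 * δ + 1)) / 2, 1, by simp only [smul_eq_mul]; omega⟩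
  let mn := min i j
  let D : Finset ℕ := (Finset.range mn).image (fun a => 2 * δ - 2 - 2 * a) ∪
    (Finset.range mn).image (fun a => 2 * δ + 2 * δ - 1 - 2 * max i j - 2 * a)
  have hmem : ∀ m, m ∈ D ↔ ((2 * δ ≤ m + 2 * mn ∧ m < 2 * δ ∧ m % 2 = 0) ∨
      (4 * δ + 1 ≤ m + 2 * (i + j) ∧ m + 2 * max i j < 4 * δ + 1 ∧ m % 2 = 1)) := by
    intro m
    simp only [D, Finset.mem_union, Finset.mem_image, Finset.mem_range]
    constructor
    · rintro (⟨a, ha, rfl⟩ | ⟨a, ha, rfl⟩) <;> omega
    · rintro (h | h)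
      · exact Or.inl ⟨(2 * δ - 2 - m) / 2, by omega, by omega⟩
      · exact Or.inr ⟨(2 * δ + 2 * δ - 1 - 2 * max i j - m) / 2, by omega, by omega⟩
  have hcard : D.card = 2 * mn := by
    rw [Finset.card_union_of_disjoint, Finset.card_image_of_injOn, Finset.card_image_of_injOn, Finset.card_range]
    · omega
    · intro a ha b hb h; simp only [Finset.coe_range, Set.mem_Iio] at ha hb; simp only at h; omega
    · intro a ha b hb h; simp only [Finset.coe_range, Set.mem_Iio] at ha hb; simp only at h; omega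
    · rw [Finset.disjoint_left]
      intro x hx hx'
      simp only [Finset.mem_image, Finset.mem_range] at hx hx'
      obtain ⟨a, ha, rfl⟩ := hx
      obtain ⟨b, hb, hb'⟩ := hx'
      omega
  rw [TFCurvSG.length_ext_pair A _ hmono (2 * δ) (fun m hm => (hP m).2 (by omega)) _ _ D, hcard]
  intro m
  simp only [TFCurvSG.vexp, hP, hmem]
  constructor
  · intro h
    refine ⟨fun s hs hsd => ?_, ?_⟩ <;> omega
  · rintro ⟨h1, h2⟩
    have a := h1 (2 * i) (by omega) (by omega)
    have b := h1 (2 * δ + 1) (by omega) (by omega)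
    omega

end Groth.Agent.S15030
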