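-- statement TFCurv.GrothFrozen.S15031 (Groth/Statements/S15031.lean; the theorem TFCurv.length_ext_one_monomialModule_cubical);
import Groth.Statements.S15031
import Groth.Agent.TFCurvSG.MonExt

set_option autoImplicit false
universe u
open CategoryTheory
open TFCurv Groth.Agent

namespace Groth.Agent.S15031

/-- Let k be an algebraically closed field, n ≥ 2, and A = R_n ⊂ k[[t]] the monomial ring of the cubical
semigroup ⟨n, n+1, …, 2n−1⟩, i.e. the k-subalgebra of power series with no terms of degree 1, …,
n−1. For 0 ≤ i ≤ n − 2 let M_i ⊂ k[[t]] be the A-submodule generated by 1, t, …, t^i (the monomial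
module whose value set is Γ_n together with 1, …, i). Then the A-module Ext¹_A(M_i, M_i) has length
i·(n − 2 − i); as the A-endomorphisms of M_i are the scalars, this number is the invariant χ₁(M_i) =
dim Ext¹(M_i, M_i) − dim(End(M_i)/A). (The published statement asserts the value for every module
with this value set; only the monomial module is stated here.) -/
theorem result (k : Type u) [Field k] [IsAlgClosed k] (n : ℕ) (hn : 2 ≤ n) (A : Subalgebra k (PowerSeries k)) (hmono : ∀ f : PowerSeries k, f ∈ A ↔ ∀ m : ℕ, PowerSeries.coeff m f ≠ 0 → (m = 0 ∨ n ≤ m)) (i : ℕ) (hi : i + 2 ≤ n) : Module.length ↥A (Abelian.Ext (ModuleCat.of ↥A ↥(Submodule.span ↥A ((fun a : ℕ => (PowerSeries.X : PowerSeries k) ^ a) '' Set.Iic i))) (ModuleCat.of ↥A ↥(Submodule.span ↥A ((fun a : ℕ => (PowerSeries.X : PowerSeries k) ^ a) '' Set.Iic i))) 1) = ((i * (n - 2 - i) : ℕ) : ℕ∞) := by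
  classical
  let G : Finset ℕ := Finset.Icc 1 i
  have hset : Set.Iic i = ↑(insert 0 G) := by ext a; simp [G]; omega
  rw [hset]
  let ι : Type u := ULift.{u} (↥G × ↥(Finset.Ico (i + 2) n))
  let ψ₀ : (↥G → PowerSeries k) →ₗ[k] (ι → k) :=
    { toFun := fun u p => PowerSeries.coeff (n + p.down.2.1) (u p.down.1) -
        (if h : p.down.2.1 ≤ p.down.1.1 + i then
          PowerSeries.coeff (n + (i + 1)) (u ⟨i + 1 - (p.down.2.1 - p.down.1.1), Finset.mem_Icc.2 (by
            have h1 := Finset.mem_Ico.1 p.down.2.2
            have h2 := Finset.mem_Icc.1 p.down.1.2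
            constructor <;> omega)⟩)
        else 0)
      map_add' := fun u v => funext fun p => by
        simp only [Pi.add_apply, map_add]
        split_ifs <;> ring
      map_smul' := fun c u => funext fun p => by
        simp only [Pi.smul_apply, map_smul, smul_eq_mul, RingHom.id_apply]
        split_ifs <;> ring }
  have hG : ∀ g ∈ G, 1 ≤ g ∧ g < n := fun g hg => by simp [G] at hg; omega
  have hcard : Fintype.card ι = i * (n - 2 - i) := by
    simp only [ι, Fintype.card_ulift, Fintype.card_prod, Fintype.card_coe, G, Nat.card_Icc, Nat.card_Ico]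
    rw [show i + 1 - 1 = i by omega, show n - (i + 2) = n - 2 - i by omega]
  rw [TFCurvSG.length_ext_cubical A n (by omega) hmono G hG n (fun m hm => Or.inr (Or.inl hm))
    (Or.inr (by simp [G]; omega)) ψ₀ ?_ ?_, hcard]
  · intro v
    refine ⟨fun g => PowerSeries.mk fun m => if h : m - n ∈ Finset.Ico (i + 2) n then
      (if n ≤ m then v ⟨(g, ⟨m - n, h⟩)⟩ else 0) else 0, fun g m hm => ?_, funext fun p => ?_⟩
    · simp only [PowerSeries.coeff_mk] at hm
      split_ifs at hm with h h'
      · exact h'
      · exact absurd rfl hm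
      · exact absurd rfl hm
    · simp only [ψ₀, LinearMap.coe_mk, AddHom.coe_mk, PowerSeries.coeff_mk]
      have h2 : ¬ (n + (i + 1) - n ∈ Finset.Ico (i + 2) n) := by simp
      rw [dif_pos (show n + p.down.2.1 - n ∈ Finset.Ico (i + 2) n by rw [Nat.add_sub_cancel_left]; exact p.down.2.2),
        if_pos (Nat.le_add_right _ _)]
      simp [h2]
      rfl
  · intro u hu
    constructor
    · intro h
      let c : ℕ → k := fun b => if hb : 1 ≤ b ∧ b ≤ i then
        PowerSeries.coeff (n + (i + 1)) (u ⟨i + 1 - b, Finset.mem_Icc.2 (by omega)⟩) else 0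
      let x₀ : PowerSeries k := PowerSeries.mk fun b => -c b
      refine ⟨x₀, fun g => PowerSeries.mk (fun j => PowerSeries.coeff (n + j) (u g) - (if g.1 ≤ j then c (j - g.1) else 0)),
        fun m hm => ?_, fun g m hm => ?_, fun g => ?_⟩
      · simp only [x₀, PowerSeries.coeff_mk, c] at hm
        split_ifs at hm with hb
        · exact Or.inr (Or.inr (Finset.mem_Icc.2 hb))
        · simp at hm
      · simp only [PowerSeries.coeff_mk] at hm
        by_contra hV
        simp only [G, Finset.mem_Icc, not_or] at hV
        obtain ⟨g, hg⟩ := g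
        have hg' := Finset.mem_Icc.1 hg
        refine hm ?_
        simp only [c]
        by_cases h1 : m = i + 1
        · subst h1
          rw [if_pos (show g ≤ i + 1 by omega), dif_pos (show 1 ≤ i + 1 - g ∧ i + 1 - g ≤ i by omega)]
          have e : (⟨i + 1 - (i + 1 - g), Finset.mem_Icc.2 (by omega)⟩ : ↥G) = ⟨g, hg⟩ := Subtype.ext (by simp only; omega)
          rw [e, sub_self]
        · have hp := congrFun h ⟨(⟨g, hg⟩, ⟨m, Finset.mem_Ico.2 (by omega)⟩)⟩
          simp only [ψ₀, LinearMap.coe_mk, AddHom.coe_mk, Pi.zero_apply] at hp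
          rw [if_pos (show g ≤ m by omega)]
          by_cases hmg : m ≤ g + i
          · rw [dif_pos hmg] at hp
            rw [dif_pos (show 1 ≤ m - g ∧ m - g ≤ i by omega)]
            exact hp
          · rw [dif_neg hmg] at hp
            rw [dif_neg (show ¬ (1 ≤ m - g ∧ m - g ≤ i) by omega)]
            exact hp
      · ext m
        rw [map_sub, PowerSeries.coeff_X_pow_mul', PowerSeries.coeff_X_pow_mul']
        simp only [x₀, PowerSeries.coeff_mk]
        by_cases hmn : n ≤ m
        · rw [if_pos hmn, Nat.add_sub_cancel' hmn]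
          by_cases hg : n + g.1 ≤ m
          · rw [if_pos hg, if_pos (show g.1 ≤ m - n by omega), show m - n - g.1 = m - (n + g.1) by omega]; ring
          · rw [if_neg hg, if_neg (show ¬ g.1 ≤ m - n by omega)]; ring
        · rw [if_neg hmn, if_neg (show ¬ n + g.1 ≤ m by omega), sub_zero]
          by_contra hne
          exact hmn (hu g m hne)
    · rintro ⟨x₀, x, hx₀, hx, hux⟩
      funext p
      obtain ⟨⟨⟨g, hg⟩, ⟨m, hm⟩⟩⟩ := p
      have hm' := Finset.mem_Ico.1 hm
      have hg' := Finset.mem_Icc.1 hg
      have hz : ∀ (y : PowerSeries k) (j : ℕ), (∀ m, PowerSeries.coeff m y ≠ 0 → (m = 0 ∨ n ≤ m ∨ m ∈ G)) →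
          i < j → j < n → PowerSeries.coeff j y = 0 := fun y j hy h1 h2 => by
        by_contra hne
        rcases hy j hne with h | h | h
        · omega
        · omega
        · simp [G] at h; omega
      simp only [ψ₀, LinearMap.coe_mk, AddHom.coe_mk, Pi.zero_apply, hux, map_sub,
        PowerSeries.coeff_X_pow_mul', if_pos (Nat.le_add_right n _), Nat.add_sub_cancel_left,
        hz _ m (hx _) (by omega) hm'.2]
      rw [if_pos (show n + g ≤ n + m by omega), show n + m - (n + g) = m - g by omega]
      by_cases hmg : m ≤ g + i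
      · rw [dif_pos hmg, hz _ (i + 1) (hx _) (by omega) (by omega),
          if_pos (show n + (i + 1 - (m - g)) ≤ n + (i + 1) by omega),
          show n + (i + 1) - (n + (i + 1 - (m - g))) = m - g by omega]
        ring
      · rw [dif_neg hmg, hz x₀ (m - g) hx₀ (by omega) (by omega)]
        ring

end Groth.Agent.S15031
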