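-- statement TFCurv.GrothFrozen.S15032 (Groth/Statements/S15032.lean; the theorem TFCurv.chiOne_normalization_cubical);
import Groth.Statements.S15032
import Groth.Agent.TFCurvSG.MonExt

set_option autoImplicit false
set_option maxHeartbeats 1000000
set_option synthInstance.maxHeartbeats 200000
universe u
open CategoryTheory
open TFCurv Groth.Agent CategoryTheory

namespace Groth.Agent.S15032

/-- Let k be an algebraically closed field, n ≥ 2, and A = R_n ⊂ k[[t]] the monomial ring of the cubical
semigroup ⟨n, n+1, …, 2n−1⟩, i.e. the k-subalgebra of power series with no terms of degree 1, …,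
n−1. For the normalisation R~ = k[[t]] viewed as an A-module, χ₁(R~) = (n − 1)², where χ₁(M) = dim_k
Ext¹_A(M, M) − dim_k(End_A(M)/A): the length of the A-module Ext¹_A(k[[t]], k[[t]]) equals (n − 1)²
plus the length of the A-linear endomorphisms of k[[t]] modulo multiplications by elements of A. -/
theorem result (k : Type u) [Field k] [IsAlgClosed k] (n : ℕ) (hn : 2 ≤ n) (A : Subalgebra k (PowerSeries k)) (hmono : ∀ f : PowerSeries k, f ∈ A ↔ ∀ m : ℕ, PowerSeries.coeff m f ≠ 0 → (m = 0 ∨ n ≤ m)) : Module.length ↥A (Abelian.Ext (ModuleCat.of ↥A (PowerSeries k)) (ModuleCat.of ↥A (PowerSeries k)) 1) = (((n - 1) ^ 2 : ℕ) : ℕ∞) + Module.length ↥A ((PowerSeries k →ₗ[↥A] PowerSeries k) ⧸ LinearMap.range (Algebra.lsmul ↥A ↥A (PowerSeries k) : ↥A →ₐ[↥A] Module.End ↥A (PowerSeries k)).toLinearMap) := by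
  classical
  let G : Finset ℕ := Finset.Icc 1 (n - 1)
  set M := Submodule.span ↥A ((fun a : ℕ => (PowerSeries.X : PowerSeries k) ^ a) '' ↑(insert 0 G)) with hM
  have hG : ∀ g ∈ G, 1 ≤ g ∧ g < n := fun g hg => by simp [G] at hg; omega
  have hall : ∀ m : ℕ, m = 0 ∨ n ≤ m ∨ m ∈ G := fun m => by simp [G]; omega
  have htop : M = ⊤ := eq_top_iff.2 fun f _ =>
    (TFCurvSG.mem_cub_span_iff A n (by omega) hmono G hG f).2 fun m _ => hall m
  -- length of `Ext¹`
  let ι : Type u := ULift.{u} (↥G × ↥(Finset.range n))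
  let ψ₀ : (↥G → PowerSeries k) →ₗ[k] (ι → k) :=
    { toFun := fun u p => PowerSeries.coeff p.down.2.1 (u p.down.1)
      map_add' := fun u v => funext fun p => by simp
      map_smul' := fun c u => funext fun p => by simp }
  have hcard : Fintype.card ι = (n - 1) * n := by
    simp only [ι, Fintype.card_ulift, Fintype.card_prod, Fintype.card_coe, G, Nat.card_Icc, Finset.card_range]
    rw [show n - 1 + 1 - 1 = n - 1 by omega]
  have hExt := TFCurvSG.length_ext_cubical A n (by omega) hmono G hG 0 (fun m _ => hall m) (Or.inl rfl) ψ₀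
    (fun v => ⟨fun g => PowerSeries.mk fun m => if h : m ∈ Finset.range n then v ⟨(g, ⟨m, h⟩)⟩ else 0,
      fun _ m _ => Nat.zero_le m, funext fun p => by
        simp only [ψ₀, LinearMap.coe_mk, AddHom.coe_mk, PowerSeries.coeff_mk]
        rw [dif_pos p.down.2.2]⟩)
    (fun u _ => by
      constructor
      · intro h
        refine ⟨0, fun g => PowerSeries.mk fun j => PowerSeries.coeff (n + j) (u g), fun m hm => by simp at hm,
          fun g m _ => hall m, fun g => ?_⟩
        ext m
        rw [mul_zero, sub_zero, PowerSeries.coeff_X_pow_mul']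
        simp only [PowerSeries.coeff_mk]
        split_ifs with hmn
        · rw [Nat.add_sub_cancel' hmn]
        · exact congrFun h ⟨(g, ⟨m, Finset.mem_range.2 (not_le.1 hmn)⟩)⟩
      · rintro ⟨x₀, x, -, -, hux⟩
        funext p
        obtain ⟨⟨⟨g, hg⟩, ⟨m, hm⟩⟩⟩ := p
        simp only [Finset.mem_range] at hm
        simp [ψ₀, hux, PowerSeries.coeff_X_pow_mul', show ¬ n ≤ m by omega, show ¬ n + g ≤ m by omega])
  rw [← hM, hcard] at hExt
  -- transport along `M = ⊤`
  let e : PowerSeries k ≃ₗ[↥A] ↥M := (Submodule.topEquiv.symm).trans (LinearEquiv.ofEq _ _ htop.symm)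
  let i : ModuleCat.of ↥A (PowerSeries k) ≅ ModuleCat.of ↥A ↥M := e.toModuleIso
  rw [(TFCurvSG.extLinearEquiv ↥A i i).length_eq, hExt]
  -- endomorphisms
  have hmem : ∀ s : PowerSeries k, PowerSeries.X ^ n * s ∈ A := fun s => (hmono _).2 fun m hm => Or.inr (by
    by_contra h; exact hm (by rw [PowerSeries.coeff_X_pow_mul', if_neg h]))
  have hmult : ∀ (f : PowerSeries k →ₗ[↥A] PowerSeries k) (s : PowerSeries k), f s = s * f 1 := fun f s => by
    refine mul_left_cancel₀ (pow_ne_zero n PowerSeries.X_ne_zero) ?_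
    have h1 := f.map_smul (⟨_, hmem s⟩ : ↥A) 1
    have h2 := f.map_smul (⟨_, hmem 1⟩ : ↥A) s
    simp only [TFCurvSG.smul_eq_mul', mul_one] at h1 h2
    rw [← mul_assoc, ← h1, ← h2]
  have hEnd := TFCurvSG.length_quot (TFCurvSG.eps A)
    (TFCurvSG.isUnit_of_mono A (TFCurvSG.cubP n) hmono) (PowerSeries k →ₗ[↥A] PowerSeries k)
    (LinearMap.range (Algebra.lsmul ↥A ↥A (PowerSeries k) : ↥A →ₐ[↥A] Module.End ↥A (PowerSeries k)).toLinearMap)
    ({ toFun := fun f p => PowerSeries.coeff (p.down.1 + 1) (f 1)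
       map_add' := fun f g => funext fun p => by simp
       map_smul' := fun c f => funext fun p => by simp } :
      (PowerSeries k →ₗ[↥A] PowerSeries k) →ₗ[k] (ULift.{u} (Fin (n - 1)) → k))
    (fun v => ⟨{ toFun := fun s => s * PowerSeries.mk (fun m => if h : 1 ≤ m ∧ m < n then v ⟨⟨m - 1, by omega⟩⟩ else 0)
                 map_add' := fun a b => add_mul a b _
                 map_smul' := fun a b => mul_assoc (a : PowerSeries k) b _ }, funext fun ⟨⟨j, hj⟩⟩ => by
      simp [show 1 ≤ j + 1 ∧ j + 1 < n from ⟨by omega, by omega⟩]⟩)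
    (fun f => by
      constructor
      · rintro ⟨a, rfl⟩
        funext ⟨⟨j, hj⟩⟩
        show PowerSeries.coeff (j + 1) ((a : PowerSeries k) * 1) = 0
        rw [mul_one]
        by_contra h
        rcases (hmono _).1 a.2 _ h with h' | h' <;> omega
      · intro h
        have ha : f 1 ∈ A := (hmono _).2 fun m hm => by
          by_contra hm'
          refine hm ?_
          have := congrFun h ⟨⟨m - 1, by omega⟩⟩
          simp only [LinearMap.coe_mk, AddHom.coe_mk, Pi.zero_apply, show m - 1 + 1 = m by omega] at this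
          exact this
        refine ⟨⟨_, ha⟩, LinearMap.ext fun s => ?_⟩
        show f 1 * s = f s
        rw [hmult f s, mul_comm])
  rw [hEnd, Fintype.card_ulift, Fintype.card_fin, ← Nat.cast_add]
  congr 1
  obtain ⟨m, rfl⟩ : ∃ m, n = m + 1 := ⟨n - 1, by omega⟩
  simp only [Nat.add_sub_cancel]
  ring

end Groth.Agent.S15032
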