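-- statement TFCurv.GrothFrozen.S15033 (Groth/Statements/S15033.lean; the theorem TFCurv.length_ext_one_partialNormalization_cubical);
import Groth.Statements.S15033
import Groth.Agent.TFCurvSG.MonExt

set_option autoImplicit false
universe u
open CategoryTheory
open TFCurv Groth.Agent

namespace Groth.Agent.S15033

/-- Let k be an algebraically closed field, n ≥ 2, and A = R_n ⊂ k[[t]] the monomial ring of the cubical
semigroup ⟨n, n+1, …, 2n−1⟩, i.e. the k-subalgebra of power series with no terms of degree 1, …,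
n−1. For 0 ≤ i < n − 1 let R_{n−i} ⊂ k[[t]] be the A-submodule generated by 1, t^{n−i}, t^{n−i+1},
…, t^{n−1}, i.e. the overring of A consisting of the power series with no terms of degree 1, …, n −
i − 1. Then the A-module Ext¹_A(R_{n−i}, R_{n−i}) has length i·(n − 1). Since the A-endomorphisms of
R_{n−i} are the multiplications by elements of R_{n−i}, of colength i over A, this is the published
value χ₁(R_{n−i}) = i·(n − 2) of χ₁(M) = dim Ext¹(M, M) − dim(End(M)/A). -/
theorem result (k : Type u) [Field k] [IsAlgClosed k] (n : ℕ) (hn : 2 ≤ n) (A : Subalgebra k (PowerSeries k)) (hmono : ∀ f : PowerSeries k, f ∈ A ↔ ∀ m : ℕ, PowerSeries.coeff m f ≠ 0 → (m = 0 ∨ n ≤ m)) (i : ℕ) (hi : i + 2 ≤ n) : Module.length ↥A (Abelian.Ext (ModuleCat.of ↥A ↥(Submodule.span ↥A ((fun a : ℕ => (PowerSeries.X : PowerSeries k) ^ a) '' ({0} ∪ Set.Icc (n - i) (n - 1))))) (ModuleCat.of ↥A ↥(Submodule.span ↥A ((fun a : ℕ => (PowerSeries.X : PowerSeries k) ^ a) '' ({0} ∪ Set.Icc (n - i) (n - 1))))) 1) = ((i * (n - 1) : ℕ) : ℕ∞) := by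
  classical
  let G : Finset ℕ := Finset.Icc (n - i) (n - 1)
  have hset : ({0} ∪ Set.Icc (n - i) (n - 1) : Set ℕ) = ↑(insert 0 G) := by ext a; simp [G]
  rw [hset]
  let E : Finset ℕ := Finset.Ico (n - i) n ∪ Finset.Ico (n + 1) (n + (n - i))
  let ι : Type u := ULift.{u} (↥G × ↥E)
  let ψ₀ : (↥G → PowerSeries k) →ₗ[k] (ι → k) :=
    { toFun := fun u p => PowerSeries.coeff p.down.2.1 (u p.down.1)
      map_add' := fun u v => funext fun p => by simp
      map_smul' := fun c u => funext fun p => by simp }
  have hG : ∀ g ∈ G, 1 ≤ g ∧ g < n := fun g hg => by simp [G] at hg; omega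
  have hcard : Fintype.card ι = i * (n - 1) := by
    simp only [ι, Fintype.card_ulift, Fintype.card_prod, Fintype.card_coe, G, E, Nat.card_Icc]
    rw [Finset.card_union_of_disjoint (by rw [Finset.disjoint_left]; intro a; simp; omega), Nat.card_Ico, Nat.card_Ico,
      show n - 1 + 1 - (n - i) = i by omega, show n - (n - i) + (n + (n - i) - (n + 1)) = n - 1 by omega]
  rw [TFCurvSG.length_ext_cubical A n (by omega) hmono G hG (n - i) (fun m hm => by simp [G]; omega)
    (Or.inr (by simp [G]; omega)) ψ₀ ?_ ?_, hcard]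
  · intro v
    refine ⟨fun g => PowerSeries.mk fun m => if h : m ∈ E then v ⟨(g, ⟨m, h⟩)⟩ else 0, fun g m hm => ?_, funext fun p => ?_⟩
    · simp only [PowerSeries.coeff_mk] at hm
      split_ifs at hm with h
      · simp [E] at h; omega
      · exact absurd rfl hm
    · simp only [ψ₀, LinearMap.coe_mk, AddHom.coe_mk, PowerSeries.coeff_mk]
      rw [dif_pos p.down.2.2]
  · intro u hu
    constructor
    · intro h
      refine ⟨0, fun g => PowerSeries.mk fun j => PowerSeries.coeff (n + j) (u g), fun m hm => by simp at hm,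
        fun g m hm => ?_, fun g => ?_⟩
      · simp only [PowerSeries.coeff_mk] at hm
        by_contra hV
        simp only [G, Finset.mem_Icc, not_or] at hV
        exact hm (congrFun h ⟨(g, ⟨n + m, by simp [E]; omega⟩)⟩)
      · ext m
        rw [mul_zero, sub_zero, PowerSeries.coeff_X_pow_mul']
        simp only [PowerSeries.coeff_mk]
        split_ifs with hmn
        · rw [Nat.add_sub_cancel' hmn]
        · by_contra hne
          have := hu g m hne
          exact hne (congrFun h ⟨(g, ⟨m, by simp [E]; omega⟩)⟩)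
    · rintro ⟨x₀, x, hx₀, hx, hux⟩
      funext p
      obtain ⟨⟨⟨g, hg⟩, ⟨m, hm⟩⟩⟩ := p
      simp only [ψ₀, LinearMap.coe_mk, AddHom.coe_mk, Pi.zero_apply, hux, map_sub, PowerSeries.coeff_X_pow_mul']
      simp only [E, Finset.mem_union, Finset.mem_Ico] at hm
      simp only [G, Finset.mem_Icc] at hg
      split_ifs with h1 h2
      · exfalso; omega
      · rw [sub_zero]
        by_contra hne
        rcases hx _ _ hne with h | h | h
        · omega
        · omega
        · simp [G] at h; omega
      · omega
      · simp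

end Groth.Agent.S15033
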