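import Groth.Statements.S15034
-- import your own Groth.Agent.* helpers here

set_option autoImplicit false
universe u
open TFCurv

namespace Groth.Agent.S15034

/-- Let k be an algebraically closed field and A ≠ k[[t]] a k-subalgebra of k[[t]] that is closed in the
t-adic topology and over which k[[t]] is a finite module (as for the complete local ring of a
unibranch curve singularity inside its normalisation), and let Γ ⊆ ℕ be the set of t-orders of the
nonzero elements of A (its value semigroup). Let M, N be finitely generated A-submodules of k[[t]]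
containing 1 (rank-one torsion-free modules in normal form), with value sets Γ(M), Γ(N) (orders of
their nonzero elements); the A-linear maps M → N are the multiplications by power series u with uM ⊆
N. Then the order of every such nonzero u satisfies n + Γ(M) ⊆ Γ(N), and although the set of these
orders can be smaller than S = {n | n + Γ(M) ⊆ Γ(N)}, the two sets have the same conductor: for
every c', all integers n ≥ c' are orders of multipliers exactly when all n ≥ c' lie in S. -/
theorem result (k : Type u) [Field k] [IsAlgClosed k] (A : Subalgebra k (PowerSeries k)) (hA : Module.Finite ↥A (PowerSeries k)) (hcl : ∀ f : PowerSeries k, (∀ n : ℕ, ∃ g ∈ A, (n : ℕ∞) ≤ PowerSeries.order (f - g)) → f ∈ A) (hsing : A ≠ ⊤) (Γ : Set ℕ) (hΓ : ∀ n : ℕ, n ∈ Γ ↔ ∃ f ∈ A, PowerSeries.order f = n) (M N : Submodule ↥A (PowerSeries k)) (hMfg : M.FG) (hNfg : N.FG) (hM1 : (1 : PowerSeries k) ∈ M) (hN1 : (1 : PowerSeries k) ∈ N) (ΓM ΓN : Set ℕ) (hΓM : ∀ n : ℕ, n ∈ ΓM ↔ ∃ f ∈ M, PowerSeries.order f = n) (hΓN : ∀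 n : ℕ, n ∈ ΓN ↔ ∃ f ∈ N, PowerSeries.order f = n) : (∀ n : ℕ, (∃ u : PowerSeries k, PowerSeries.order u = n ∧ ∀ m ∈ M, u * m ∈ N) → ∀ a ∈ ΓM, n + a ∈ ΓN) ∧ ∀ c' : ℕ, (∀ n : ℕ, c' ≤ n → ∃ u : PowerSeries k, PowerSeries.order u = n ∧ ∀ m ∈ M, u * m ∈ N) ↔ (∀ n : ℕ, c' ≤ n → ∀ a ∈ ΓM, n + a ∈ ΓN) := by
  classical
  have hfirst : ∀ n : ℕ, (∃ u : PowerSeries k, PowerSeries.order u = n ∧ ∀ m ∈ M, u * m ∈ N) →
      ∀ a ∈ ΓM, n + a ∈ ΓN := by
    rintro n ⟨u, hu, hum⟩ a ha
    obtain ⟨m, hm, hma⟩ := (hΓM a).1 ha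
    exact (hΓN _).2 ⟨u * m, hum m hm, by rw [PowerSeries.order_mul, hu, hma, Nat.cast_add]⟩
  refine ⟨hfirst, fun c' => ⟨fun h n hn => hfirst n (h n hn), fun h n hn => ?_⟩⟩
  obtain ⟨x, hxA, d, hd, hxd⟩ : ∃ x ∈ A, ∃ d : ℕ, 0 < d ∧ PowerSeries.order x = d := by
    by_contra hcon
    push Not at hcon
    have hconst : ∀ a : ↥A, ∃ c : k, algebraMap k ↥A c = a := by
      intro a
      refine ⟨PowerSeries.constantCoeff (a : PowerSeries k), Subtype.ext ?_⟩
      by_contra hne
      have hne' : (a : PowerSeries k) - algebraMap k (PowerSeries k) (PowerSeries.constantCoeff (a : PowerSeries k)) ≠ 0 :=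
        sub_ne_zero.2 fun e => hne e.symm
      have hmem : (a : PowerSeries k) - algebraMap k (PowerSeries k) (PowerSeries.constantCoeff (a : PowerSeries k)) ∈ A :=
        A.sub_mem a.2 (A.algebraMap_mem _)
      obtain ⟨e, he⟩ := ENat.ne_top_iff_exists.1 (fun e => hne' (PowerSeries.order_eq_top.1 e))
      refine hcon _ hmem e ?_ he.symm
      refine Nat.pos_of_ne_zero fun h0 => ?_
      subst h0
      have := (PowerSeries.order_eq_nat.1 he.symm).1
      simp at this
    haveI : Module.Finite k ↥A := Module.Finite.of_surjective (Algebra.linearMap k ↥A) hconst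
    haveI : Module.Finite k (PowerSeries k) := Module.Finite.trans ↥A _
    have hli : LinearIndependent k fun i : ℕ => (PowerSeries.X : PowerSeries k) ^ i := by
      rw [linearIndependent_iff']
      intro s g hg i hi
      have := congrArg (PowerSeries.coeff i) hg
      rw [map_sum, map_zero, Finset.sum_eq_single i] at this
      · simpa [PowerSeries.coeff_X_pow] using this
      · intro j _ hj
        simp [PowerSeries.coeff_X_pow, Ne.symm hj]
      · exact fun h => absurd hi h
    haveI := hli.finite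
    exact not_finite ℕ
  have hf : ∀ j : Fin d, ∃ g ∈ N, PowerSeries.order g = ((c' + j : ℕ) : ℕ∞) := fun j => by
    have h0 : 0 ∈ ΓM := (hΓM 0).2 ⟨1, hM1, by simp⟩
    exact (hΓN _).1 (by simpa using h (c' + j) (Nat.le_add_right _ _) 0 h0)
  choose g hgN hgo using hf
  have hmem : ∀ f : PowerSeries k, (c' : ℕ∞) ≤ PowerSeries.order f → f ∈ N := by
    intro f hfo
    have step : ∀ (q : ℕ) (G : Fin d → PowerSeries k), (∀ j, G j ∈ A) →
        ((c' + q : ℕ) : ℕ∞) ≤ (f - ∑ j, G j * g j).order → ∃ G' : Fin d → PowerSeries k, (∀ j, G' j ∈ A) ∧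
        ((c' + (q + 1) : ℕ) : ℕ∞) ≤ (f - ∑ j, G' j * g j).order ∧ ∀ j, ((q - d : ℕ) : ℕ∞) ≤ (G' j - G j).order := by
      intro q G hG hres
      obtain ⟨j₀, q', hq⟩ : ∃ (j₀ : Fin d) (q' : ℕ), q = q' * d + j₀ :=
        ⟨⟨q % d, Nat.mod_lt _ hd⟩, q / d, by rw [Nat.div_add_mod']⟩
      have ho : (x ^ q' * g j₀).order = ((c' + q : ℕ) : ℕ∞) := by
        rw [PowerSeries.order_mul, PowerSeries.order_pow, hxd, hgo, hq]
        push_cast; rw [nsmul_eq_mul]; ring
      have hlead := PowerSeries.order_eq_nat.1 ho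
      set r := f - ∑ j, G j * g j with hr
      set α := PowerSeries.coeff (c' + q) r / PowerSeries.coeff (c' + q) (x ^ q' * g j₀) with hα
      refine ⟨G + Pi.single j₀ (α • x ^ q'), fun j => ?_, ?_, fun j => ?_⟩
      · refine A.add_mem (hG j) ?_
        by_cases hj : j = j₀
        · subst hj; rw [Pi.single_eq_same]; exact A.smul_mem (A.pow_mem hxA _) _
        · rw [Pi.single_eq_of_ne hj]; exact A.zero_mem
      · have he : f - ∑ j, (G + Pi.single j₀ (α • x ^ q') : Fin d → PowerSeries k) j * g j = r - α • (x ^ q' * g j₀) := by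
          have hs : ∑ j, (Pi.single j₀ (α • x ^ q') : Fin d → PowerSeries k) j * g j = α • (x ^ q' * g j₀) := by
            rw [Finset.sum_eq_single j₀ (fun j _ hj => by rw [Pi.single_eq_of_ne hj, zero_mul])
              (fun hj => absurd (Finset.mem_univ _) hj), Pi.single_eq_same, smul_mul_assoc]
          simp only [Pi.add_apply, add_mul, Finset.sum_add_distrib]
          rw [hs, hr, sub_sub]
        rw [he]
        refine PowerSeries.nat_le_order _ _ fun i hi => ?_
        rw [map_sub, map_smul, smul_eq_mul]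
        rcases Nat.lt_succ_iff_lt_or_eq.1 (show i < (c' + q) + 1 by omega) with hi | rfl
        · rw [hlead.2 i hi, PowerSeries.coeff_of_lt_order i (lt_of_lt_of_le (by exact_mod_cast hi) hres),
            mul_zero, sub_zero]
        · rw [hα, div_mul_cancel₀ _ hlead.1, sub_self]
      · rw [Pi.add_apply, add_sub_cancel_left]
        by_cases hj : j = j₀
        · subst hj
          rw [Pi.single_eq_same]
          refine le_trans ?_ PowerSeries.le_order_smul
          rw [PowerSeries.order_pow, hxd, nsmul_eq_mul, ← Nat.cast_mul, Nat.cast_le]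
          have := j.2
          omega
        · rw [Pi.single_eq_of_ne hj]; simp
    choose S hSA hSres hSdiff using step
    let T : (q : ℕ) → {G : Fin d → PowerSeries k // (∀ j, G j ∈ A) ∧ ((c' + q : ℕ) : ℕ∞) ≤ (f - ∑ j, G j * g j).order} :=
      fun q => Nat.rec (motive := fun q => {G : Fin d → PowerSeries k // (∀ j, G j ∈ A) ∧ ((c' + q : ℕ) : ℕ∞) ≤ (f - ∑ j, G j * g j).order})
        ⟨0, fun _ => A.zero_mem, by simpa using hfo⟩
        (fun q p => ⟨S q p.1 p.2.1 p.2.2, hSA q p.1 p.2.1 p.2.2, hSres q p.1 p.2.1 p.2.2⟩) q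
    have hT : ∀ q, ∀ j, ((q - d : ℕ) : ℕ∞) ≤ ((T (q + 1)).1 j - (T q).1 j).order :=
      fun q j => hSdiff q _ _ _ j
    have hstab : ∀ (j : Fin d) (i q q' : ℕ), i + d + 1 ≤ q → q ≤ q' →
        PowerSeries.coeff i ((T q').1 j) = PowerSeries.coeff i ((T q).1 j) := by
      intro j i q q' hq hqq'
      induction q', hqq' using Nat.le_induction with
      | base => rfl
      | succ q' hq' ih =>
        have := PowerSeries.coeff_of_lt_order i (lt_of_lt_of_le (by exact_mod_cast (show i < q' - d by omega)) (hT q' j))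
        rw [map_sub, sub_eq_zero] at this
        rw [this, ih]
    let L : Fin d → PowerSeries k := fun j => PowerSeries.mk fun i => PowerSeries.coeff i ((T (i + d + 1)).1 j)
    have hL : ∀ (q : ℕ) (j : Fin d), ((q - (d + 1) : ℕ) : ℕ∞) ≤ (L j - (T q).1 j).order := by
      intro q j
      refine PowerSeries.nat_le_order _ _ fun i hi => ?_
      rw [map_sub, sub_eq_zero]
      simp only [L, PowerSeries.coeff_mk]
      exact (hstab j i _ q le_rfl (by omega)).symm
    have hLA : ∀ j, L j ∈ A := fun j => hcl _ fun m =>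
      ⟨(T (m + d + 1)).1 j, (T (m + d + 1)).2.1 j, le_trans (by rw [Nat.cast_le]; omega) (hL (m + d + 1) j)⟩
    have hfL : f = ∑ j, L j * g j := by
      ext m
      refine sub_eq_zero.1 ?_
      rw [← map_sub]
      have he : f - ∑ j, L j * g j = (f - ∑ j, (T (m + d + 2)).1 j * g j) - ∑ j, (L j - (T (m + d + 2)).1 j) * g j := by
        simp only [sub_mul, Finset.sum_sub_distrib]; abel
      rw [he, map_sub, PowerSeries.coeff_of_lt_order m (lt_of_lt_of_le (by exact_mod_cast (show m < c' + (m + d + 2) by omega))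
        (T (m + d + 2)).2.2), map_sum, zero_sub, neg_eq_zero]
      refine Finset.sum_eq_zero fun j _ => PowerSeries.coeff_of_lt_order m ?_
      rw [PowerSeries.order_mul]
      exact lt_of_lt_of_le (by exact_mod_cast (show m < (m + d + 2) - (d + 1) by omega))
        (le_trans (hL (m + d + 2) j) le_self_add)
    rw [hfL]
    exact N.sum_mem fun j _ => N.smul_mem ⟨L j, hLA j⟩ (hgN j)
  refine ⟨PowerSeries.X ^ n, PowerSeries.order_X_pow n, fun m _ => hmem _ ?_⟩
  rw [PowerSeries.order_mul, PowerSeries.order_X_pow]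
  exact le_trans (by exact_mod_cast hn) le_self_add

end Groth.Agent.S15034
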