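-- statement TFCurv.GrothFrozen.S15035 (Groth/Statements/S15035.lean; the theorem TFCurv.exists_submodule_between_conductor_and_free_of_gorenstein);
import Groth.Statements.S15035
import Groth.Agent.TFCurvSG.Normal
import Groth.Agent.LocDuality.Reflexive

set_option autoImplicit false
universe u
open TFCurv

namespace Groth.Agent.S15035

set_option maxHeartbeats 800000

/-- Let O be a one-dimensional Gorenstein local domain with algebraically closed residue field whose
integral closure O~ in its fraction field K is a finite O-module, and C ⊆ O the conductor of O in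
O~. Then every finitely generated torsion-free O-module of rank n is isomorphic to an O-submodule
M'' of K^n with C^n ⊆ M'' ⊆ O^n. (For a general O the published statement places M'' between (O~*)^n
and ω^n for the canonical ideal ω; only the Gorenstein case ω = O, O~* = C is stated.) -/
theorem result (O : Type u) [CommRing O] [IsDomain O] [LocCoh.IsGorensteinLocalRing O] (hdim : ringKrullDim O = 1) [IsAlgClosed (IsLocalRing.ResidueField O)] (K : Type u) [Field K] [Algebra O K] [IsFractionRing O K] (hfin : Module.Finite O ↥(integralClosure O K)) (M : Type u) [AddCommGroup M] [Module O M] [Module.Finite O M] [NoZeroSMulDivisors O M] (n : ℕ) (hn : Module.finrank K (TensorProduct O K M) = n) : ∃ M'' : Submodule O (Fin n → K), Submodule.pi Set.univ (fun _ : Fin n => (((1 : Submodule O K).colon (Subalgebra.toSubmodule (integralClosure O K))) • (1 : Submodule O K))) ≤ M'' ∧ M'' ≤ Submodule.pi Set.univ (fun _ : Fin n => (1 : Submodule O K)) ∧ Nonempty (M ≃ₗ[O] ↥M'') := by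
  classical
  haveI : IsNoetherianRing O := inferInstance
  haveI : IsLocalRing O := inferInstance
  haveI : Module.IsTorsionFree O M := inferInstance
  have hn1 : ringKrullDim O = ((1 : ℕ) : WithBot ℕ∞) := by rw [hdim, Nat.cast_one]
  -- torsion-free modules have positive depth
  have hdepth : ((1 : ℕ) : ℕ∞) ≤ LocCoh.depth O M := by
    obtain ⟨z, hz, hz0⟩ : ∃ z ∈ IsLocalRing.maximalIdeal O, z ≠ 0 :=
      Submodule.exists_mem_ne_zero_of_ne_bot fun h => by
        rw [ringKrullDim_eq_zero_of_isField (IsLocalRing.isField_iff_maximalIdeal_eq.2 h)] at hdim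
        exact zero_ne_one hdim
    unfold LocCoh.depth LocCoh.idealDepth
    split_ifs with h
    · exact le_top
    · refine le_trans (le_of_eq ?_) (le_iSup₂ (f := fun (rs : List O)
        (_ : RingTheory.Sequence.IsWeaklyRegular M rs ∧ ∀ r ∈ rs, r ∈ IsLocalRing.maximalIdeal O) => (rs.length : ℕ∞))
        [z] ⟨?_, fun r hr => by rw [List.mem_singleton.1 hr]; exact hz⟩)
      · simp
      · exact (RingTheory.Sequence.isWeaklyRegular_singleton_iff M z).2 (smul_right_injective M hz0)
  -- the dual in normal form
  haveI : Module.Finite O (M →ₗ[O] O) := inferInstance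
  haveI : Module.IsTorsionFree O (M →ₗ[O] O) := inferInstance
  obtain ⟨θ, hθ, hstd, hint⟩ := Groth.Agent.TFCurvSG.Normal.exists_normal_form (K := K) hdim (M →ₗ[O] O)
    (Module.finrank K (TensorProduct O K (M →ₗ[O] O))) rfl
  generalize Module.finrank K (TensorProduct O K (M →ₗ[O] O)) = n' at θ hθ hstd hint
  choose ψ hψ using hstd
  let Φ : M →ₗ[O] (Fin n' → K) := LinearMap.pi fun i => (Algebra.linearMap O K) ∘ₗ ψ i
  have hΦinj : Function.Injective Φ := by
    refine (injective_iff_map_eq_zero _).2 fun m hm => ?_
    refine Groth.Agent.LocDuality.eq_zero_of_forall_dual hn1 hdepth fun φ => ?_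
    obtain ⟨d, hd⟩ := IsLocalization.exist_integer_multiples_of_finite (nonZeroDivisors O) (θ φ)
    choose c hc using hd
    have hcomb : (d : O) • φ = ∑ i, c i • ψ i := hθ (by
      funext l
      simp [map_sum, hψ, Finset.sum_apply, Pi.single_apply, hc, Algebra.smul_def])
    have hzero : ∀ i, ψ i m = 0 := fun i =>
      IsFractionRing.injective O K ((congrFun hm i).trans (map_zero _).symm)
    have h := LinearMap.congr_fun hcomb m
    simp only [LinearMap.smul_apply, LinearMap.sum_apply, hzero, smul_zero, Finset.sum_const_zero] at h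
    exact (smul_eq_zero.1 h).resolve_left (nonZeroDivisors.coe_ne_zero d)
  let C := (((1 : Submodule O K).colon (Subalgebra.toSubmodule (integralClosure O K))) • (1 : Submodule O K))
  have hC : ∀ v : Fin n' → K, (∀ i, v i ∈ C) → v ∈ LinearMap.range Φ := by
    intro v hv
    have hmul : ∀ c ∈ C, ∀ b ∈ integralClosure O K, c * b ∈ (1 : Submodule O K) := by
      intro c hc b hb
      refine Submodule.smul_induction_on hc (fun r hr y hy => ?_) (fun x y hx hy => by rw [add_mul]; exact add_mem hx hy)
      obtain ⟨a, rfl⟩ := Submodule.mem_one.1 hy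
      rw [Algebra.smul_def, mul_assoc, mul_left_comm, ← Algebra.smul_def (R := O) (A := K) r b, ← Algebra.smul_def a]
      exact Submodule.smul_mem _ a (Submodule.mem_colon.1 hr b hb)
    have hval : ∀ φ, ∑ i, v i * θ φ i ∈ (1 : Submodule O K) := fun φ =>
      Submodule.sum_mem _ fun i _ => hmul _ (hv i) _ (hint φ i)
    choose σ hσ using fun φ => Submodule.mem_one.1 (hval φ)
    let Ψ : (M →ₗ[O] O) →ₗ[O] O :=
      { toFun := σ
        map_add' := fun a b => IsFractionRing.injective O K (by
          rw [map_add, hσ, hσ, hσ, map_add, ← Finset.sum_add_distrib]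
          exact Finset.sum_congr rfl fun i _ => by rw [Pi.add_apply, mul_add])
        map_smul' := fun a b => IsFractionRing.injective O K (by
          rw [RingHom.id_apply, smul_eq_mul, map_mul, hσ, hσ, map_smul, Finset.mul_sum]
          exact Finset.sum_congr rfl fun i _ => by rw [Pi.smul_apply, Algebra.smul_def]; ring) }
    obtain ⟨a, π, hπ⟩ := Module.Finite.exists_fin' O M
    obtain ⟨x, hx⟩ := Groth.Agent.LocDuality.exists_eval hn1 π hπ hdepth Ψ
    refine ⟨x, funext fun i => ?_⟩
    show algebraMap O K (ψ i x) = v i
    rw [← hx (ψ i)]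
    show algebraMap O K (σ (ψ i)) = v i
    rw [hσ, hψ, Finset.sum_eq_single i (fun b _ hb => by rw [Pi.single_eq_of_ne hb, mul_zero])
      (fun h => absurd (Finset.mem_univ i) h), Pi.single_eq_same, mul_one]
  have hle : ∀ m i, Φ m i ∈ (1 : Submodule O K) := fun m i => Submodule.mem_one.2 ⟨ψ i m, rfl⟩
  -- the rank
  obtain ⟨c, hc0, hc⟩ : ∃ c : O, c ≠ 0 ∧ c ∈ (1 : Submodule O K).colon (Subalgebra.toSubmodule (integralClosure O K)) := by
    obtain ⟨t, ht⟩ := hfin.fg_top
    obtain ⟨d, hd⟩ := IsLocalization.exist_integer_multiples (nonZeroDivisors O) t (fun b => (b : K))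
    refine ⟨d, nonZeroDivisors.coe_ne_zero d, Submodule.mem_colon.2 fun b hb => ?_⟩
    have hb' : (⟨b, hb⟩ : ↥(integralClosure O K)) ∈ Submodule.span O (t : Set ↥(integralClosure O K)) := ht ▸ Submodule.mem_top
    have key : ∀ y ∈ Submodule.span O (t : Set ↥(integralClosure O K)), (d : O) • (y : K) ∈ (1 : Submodule O K) := by
      intro y hy
      induction hy using Submodule.span_induction with
      | mem y hy => obtain ⟨e, he⟩ := hd y hy; exact Submodule.mem_one.2 ⟨e, he⟩
      | zero => simp
      | add a b _ _ ha hb => rw [Subalgebra.coe_add, smul_add]; exact add_mem ha hb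
      | smul r a _ ha => rw [Subalgebra.coe_smul, smul_comm]; exact Submodule.smul_mem _ r ha
    exact key _ hb'
  have hrank : n' = n := by
    rw [← hn, ← (TensorProduct.isBaseChange O M K).finrank_eq.symm]
    let g : (Fin n' → O) →ₗ[O] M :=
      (LinearEquiv.ofInjective Φ hΦinj).symm.toLinearMap ∘ₗ LinearMap.codRestrict (LinearMap.range Φ)
        (LinearMap.pi fun i => c • (Algebra.linearMap O K ∘ₗ LinearMap.proj i))
        (fun w => hC _ fun i => by
          show c • algebraMap O K (w i) ∈ _
          exact Submodule.smul_mem_smul hc (Submodule.mem_one.2 ⟨w i, rfl⟩))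
    have hg : Function.Injective g := by
      refine (LinearEquiv.ofInjective Φ hΦinj).symm.injective.comp fun a b h => funext fun i => ?_
      have h2 : c • algebraMap O K (a i) = c • algebraMap O K (b i) := congrFun (congrArg Subtype.val h) i
      rw [Algebra.smul_def, Algebra.smul_def] at h2
      exact IsFractionRing.injective O K (mul_left_cancel₀ (fun h0 => hc0 (IsFractionRing.injective O K (h0.trans (map_zero _).symm))) h2)
    let Φ₀ : M →ₗ[O] (Fin n' → O) := LinearMap.pi fun i => ψ i
    have hΦ₀ : Function.Injective Φ₀ := fun a b h => hΦinj (funext fun i => congrArg (algebraMap O K) (congrFun h i))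
    refine le_antisymm ?_ ?_
    · simpa using LinearMap.finrank_le_finrank_of_injective hg
    · simpa using LinearMap.finrank_le_finrank_of_injective hΦ₀
  subst hrank
  exact ⟨LinearMap.range Φ, fun v hv => hC v fun i => hv i (Set.mem_univ i),
    by rintro _ ⟨m, rfl⟩ i _; exact hle m i, ⟨LinearEquiv.ofInjective Φ hΦinj⟩⟩

end Groth.Agent.S15035
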