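-- statement TFCurv.GrothFrozen.S15036 (Groth/Statements/S15036.lean; the theorem TFCurv.tauLE_insert_gap_iff_top_gap);
import Groth.Statements.S15036
import Mathlib

set_option autoImplicit false
open TFCurv

namespace Groth.Agent.S15036

/-- Let Γ be a numerical semigroup (a submonoid of (ℕ, +) with finite complement), Γ ≠ ℕ, with conductor
c (every n ≥ c lies in Γ, c − 1 does not); let S ⊆ ℕ be a Γ-module in normal form (0 ∈ S, γ + s ∈ S
for γ ∈ Γ, s ∈ S) with conductor c(S) (all n ≥ c(S) in S, c(S) − 1 ∉ S), and let s be a gap of S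
such that S ∪ {s} is again a Γ-module. Enumerate S increasingly as s_0 < s_1 < ⋯ and put τ_i(S) =
s_i + ℓ(S), where ℓ counts the gaps of Γ filled; since ℓ(S ∪ {s}) = ℓ(S) + 1, the termwise
comparison τ(S) ≤ τ(S ∪ {s}) says that the i-th element of S is at most one more than the i-th
element of S ∪ {s} for every i. This holds if and only if s = c(S) − 1, the largest gap of S. -/
theorem result (Γ : AddSubmonoid ℕ) (c : ℕ) (hc : ∀ n : ℕ, c ≤ n → n ∈ Γ) (hc0 : c ≠ 0) (hc1 : c - 1 ∉ Γ) (S : Set ℕ) (hS0 : (0 : ℕ) ∈ S) (hS : ∀ γ : ℕ, γ ∈ Γ → ∀ s : ℕ, s ∈ S → γ + s ∈ S) (cS : ℕ) (hcS : ∀ n : ℕ, cS ≤ n → n ∈ S) (hcS0 : cS ≠ 0) (hcS1 : cS - 1 ∉ S) (s : ℕ) (hs : s ∉ S) (hs' : ∀ γ : ℕ, γ ∈ Γ → γ ≠ 0 → s + γ ∈ S) : (∀ i : ℕ, Nat.nth (fun m => m ∈ S) i ≤ Nat.nth (fun m => m ∈ insert s S) i + 1) ↔ s + 1 = cS := by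
  classical
  have hinf : {m | m ∈ S}.Infinite := Set.Infinite.mono (fun n (hn : cS ≤ n) => hcS n hn) (Set.Ici_infinite cS)
  have hinf' : {m | m ∈ insert s S}.Infinite := hinf.mono fun n hn => Or.inr hn
  have hslt : s < cS := by
    by_contra h
    exact hs (hcS s (by omega))
  have hcount : ∀ n, Nat.count (fun m => m ∈ insert s S) n = Nat.count (fun m => m ∈ S) n + if s < n then 1 else 0 := by
    intro n
    induction n with
    | zero => simp
    | succ n ih =>
      rw [Nat.count_succ, Nat.count_succ, ih]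
      rcases lt_trichotomy s n with h | h | h
      · simp [show n ≠ s by omega, h, show s < n + 1 by omega]; omega
      · subst h; simp [hs]
      · simp [show n ≠ s by omega, show ¬ s < n by omega, show ¬ s < n + 1 by omega]
  constructor
  · intro h
    by_contra hne
    let i := Nat.count (fun m => m ∈ S) (cS - 1)
    have h1 : cS ≤ Nat.nth (fun m => m ∈ S) i := by
      have hle := Nat.le_nth_count hinf (cS - 1)
      have hmem : Nat.nth (fun m => m ∈ S) i ∈ S := Nat.nth_mem_of_infinite hinf i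
      rcases Nat.eq_or_lt_of_le hle with e | e
      · exact absurd (show cS - 1 ∈ S from e.symm ▸ hmem) hcS1
      · show cS ≤ Nat.nth (fun m => m ∈ S) (Nat.count (fun m => m ∈ S) (cS - 1))
        omega
    have h2 : Nat.nth (fun m => m ∈ insert s S) i < cS - 1 := Nat.nth_lt_of_lt_count (by
      rw [hcount, if_pos (by omega)]; omega)
    have := h i
    omega
  · intro h i
    have hx : Nat.nth (fun m => m ∈ insert s S) i ∈ insert s S := Nat.nth_mem_of_infinite hinf' i
    have hxc := Nat.count_nth_of_infinite hinf' i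
    generalize Nat.nth (fun m => m ∈ insert s S) i = x at hx hxc
    refine Nat.lt_succ_iff.1 (Nat.nth_lt_of_lt_count ?_)
    rw [hcount] at hxc
    rw [Nat.count_succ, Nat.count_succ]
    by_cases hsx : x < s
    · have hxS : x ∈ S := by rcases hx with hx | hx; omega; exact hx
      rw [if_pos hxS]
      rw [if_neg (by omega)] at hxc
      omega
    · have h1 : x + 1 ∈ S := hcS _ (by omega)
      rw [if_pos h1]
      by_cases hxs : x = s
      · subst hxs; rw [if_neg (lt_irrefl _)] at hxc; omega
      · rw [if_pos (by omega)] at hxc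
        have hxS : x ∈ S := by rcases hx with hx | hx; omega; exact hx
        rw [if_pos hxS]; omega

end Groth.Agent.S15036
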