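-- statement TFCurv.GrothFrozen.S15037 (Groth/Statements/S15037.lean; the theorem TFCurv.tauLE_iff_rank_le_and_prefix);
import Groth.Statements.S15037
import Mathlib

set_option autoImplicit false
open TFCurv

namespace Groth.Agent.S15037

/-- Let Γ be a numerical semigroup (a submonoid of (ℕ, +) with finite complement), Γ ≠ ℕ, with conductor
c (every n ≥ c lies in Γ, c − 1 does not); let S and S' ⊆ ℕ be Γ-modules in normal form with
conductors c(S), c(S'), let δ(S), δ(S') be their numbers of gaps and r(S), r(S') their numbers of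
elements below the conductor, and enumerate them increasingly as s_i, s'_i (i ≥ 0). With τ_i(S) =
s_i + ℓ(S) and ℓ(S) = δ(Γ) − δ(S), the termwise order τ(S) ≤ τ(S') reads s_i + δ(S') ≤ s'_i + δ(S)
for all i. It holds if and only if r(S') ≤ r(S) and s_i + δ(S') ≤ s'_i + δ(S) for all i < r(S')
(beyond r(S) the entries τ_i(S) = i + δ(Γ) are the largest possible). -/
theorem result (Γ : AddSubmonoid ℕ) (c : ℕ) (hc : ∀ n : ℕ, c ≤ n → n ∈ Γ) (hc0 : c ≠ 0) (hc1 : c - 1 ∉ Γ) (S : Set ℕ) (hS0 : (0 : ℕ) ∈ S) (hS : ∀ γ : ℕ, γ ∈ Γ → ∀ s : ℕ, s ∈ S → γ + s ∈ S) (cS : ℕ) (hcS : ∀ n : ℕ, cS ≤ n → n ∈ S) (hcS1 : cS = 0 ∨ cS - 1 ∉ S) (S' : Set ℕ) (hS'0 : (0 : ℕ) ∈ S') (hS' : ∀ γ : ℕ, γ ∈ Γ → ∀ s : ℕ, s ∈ S' → γ + s ∈ S') (cS' : ℕ) (hcS' : ∀ n : ℕ, cS' ≤ n → n ∈ S') (hcS'1 : cS' = 0 ∨ cS' - 1 ∉ S') : (∀ i : ℕ, Nat.nth (fun m => m ∈ S) i + S'ᶜ.ncard ≤ Nat.nth (fun m => m ∈ S') i + Sᶜ.ncard) ↔ ((S' ∩ Set.Iio cS').ncard ≤ (S ∩ Set.Iio cS).ncard ∧ ∀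 i : ℕ, i < (S' ∩ Set.Iio cS').ncard → Nat.nth (fun m => m ∈ S) i + S'ᶜ.ncard ≤ Nat.nth (fun m => m ∈ S') i + Sᶜ.ncard) := by
  classical
  have key : ∀ (T : Set ℕ) (cT : ℕ), (∀ n, cT ≤ n → n ∈ T) →
      Nat.count (fun m => m ∈ T) cT = (T ∩ Set.Iio cT).ncard ∧ Nat.count (fun m => m ∈ T) cT + Tᶜ.ncard = cT ∧
      (∀ i, Nat.nth (fun m => m ∈ T) i ≤ i + Tᶜ.ncard) ∧
      (∀ i, Nat.count (fun m => m ∈ T) cT ≤ i → Nat.nth (fun m => m ∈ T) i = i + Tᶜ.ncard) ∧
      (cT - 1 ∉ T → ∀ i, i < Nat.count (fun m => m ∈ T) cT → Nat.nth (fun m => m ∈ T) i < i + Tᶜ.ncard) := by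
    intro T cT hT
    have hinf : {m | m ∈ T}.Infinite := Set.Infinite.mono (fun n (hn : cT ≤ n) => hT n hn) (Set.Ici_infinite cT)
    have hgap : ∀ n, Nat.count (fun m => m ∈ T) n + (Tᶜ ∩ Set.Iio n).ncard = n := fun n => by
      rw [Nat.count_eq_card_filter_range, ← Set.ncard_coe_finset, ← Set.ncard_union_eq]
      · have : (↑((Finset.range n).filter (fun m => m ∈ T)) : Set ℕ) ∪ Tᶜ ∩ Set.Iio n = Set.Iio n := by
          ext m; by_cases hm : m ∈ T <;> simp [hm]
        rw [this, Set.ncard_Iio_nat]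
      · exact Set.disjoint_left.2 fun m h h' => h'.1 (Finset.mem_filter.1 h).2
    have hfin : Tᶜ.Finite := (Set.finite_Iio cT).subset fun n hn => by
      by_contra h
      exact hn (hT n (by simpa using h))
    have heq : Tᶜ ∩ Set.Iio cT = Tᶜ := Set.inter_eq_left.2 fun n hn => by
      by_contra h
      exact hn (hT n (by simpa using h))
    refine ⟨?_, ?_, fun i => ?_, fun i hi => ?_, fun h1 i hi => ?_⟩
    · rw [Nat.count_eq_card_filter_range, ← Set.ncard_coe_finset]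
      congr 1; ext m; simp [and_comm]
    · have := hgap cT
      rwa [heq] at this
    · have h := hgap (Nat.nth (fun m => m ∈ T) i)
      rw [Nat.count_nth_of_infinite hinf] at h
      have := Set.ncard_le_ncard (s := Tᶜ ∩ Set.Iio (Nat.nth (fun m => m ∈ T) i)) Set.inter_subset_left hfin
      omega
    · have hge : cT ≤ Nat.nth (fun m => m ∈ T) i := by
        by_contra h
        have := Nat.count_strict_mono (p := fun m => m ∈ T) (Nat.nth_mem_of_infinite hinf i) (not_le.1 h)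
        rw [Nat.count_nth_of_infinite hinf] at this
        omega
      have h := hgap (Nat.nth (fun m => m ∈ T) i)
      rw [Nat.count_nth_of_infinite hinf] at h
      have h2 : Tᶜ ∩ Set.Iio (Nat.nth (fun m => m ∈ T) i) = Tᶜ := Set.inter_eq_left.2 fun n hn => by
        by_contra h'
        exact hn (hT n (le_trans hge (by simpa using h')))
      rw [h2] at h
      omega
    · have hlt : Nat.nth (fun m => m ∈ T) i < cT - 1 := by
        have h2 := Nat.nth_lt_of_lt_count hi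
        rcases Nat.lt_or_ge (Nat.nth (fun m => m ∈ T) i) (cT - 1) with h3 | h3
        · exact h3
        · exact absurd (show cT - 1 ∈ T by rw [show cT - 1 = Nat.nth (fun m => m ∈ T) i by omega]; exact Nat.nth_mem_of_infinite hinf i) h1
      have h := hgap (Nat.nth (fun m => m ∈ T) i)
      rw [Nat.count_nth_of_infinite hinf] at h
      have := Set.ncard_lt_ncard (s := Tᶜ ∩ Set.Iio (Nat.nth (fun m => m ∈ T) i)) (t := Tᶜ)
        ⟨Set.inter_subset_left, fun h' => absurd (h' (show cT - 1 ∈ Tᶜ from h1)).2 (by simp; omega)⟩ hfin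
      omega
  obtain ⟨a1, a2, a3, a4, a5⟩ := key S cS hcS
  obtain ⟨b1, b2, b3, b4, b5⟩ := key S' cS' hcS'
  rw [← a1, ← b1]
  constructor
  · intro h
    refine ⟨?_, fun i _ => h i⟩
    by_contra hlt
    rcases hcS'1 with h0 | h0
    · rw [h0, Nat.count_zero] at hlt; omega
    · have := h (Nat.count (fun m => m ∈ S) cS)
      rw [a4 _ le_rfl] at this
      have := b5 h0 (Nat.count (fun m => m ∈ S) cS) (by omega)
      omega
  · rintro ⟨_, h⟩ i
    rcases Nat.lt_or_ge i (Nat.count (fun m => m ∈ S') cS') with hi | hi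
    · exact h i hi
    · rw [b4 i hi]
      have := a3 i
      omega

end Groth.Agent.S15037
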