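-- statement TFCurv.GrothFrozen.S15038 (Groth/Statements/S15038.lean; the theorem TFCurv.exists_generators_card_le_multiplicity_sub_one_of_symmetric);
import Groth.Statements.S15038
import Mathlib

set_option autoImplicit false
open TFCurv

namespace Groth.Agent.S15038

/-- Let Γ be a numerical semigroup (a submonoid of (ℕ, +) with finite complement), Γ ≠ ℕ, with conductor
c (every n ≥ c lies in Γ, c − 1 does not). If Γ is symmetric (for x < c, x is a gap exactly when c −
1 − x ∈ Γ) and its multiplicity e, the least nonzero element of Γ, is greater than 2, then Γ is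
generated as an additive monoid by at most e − 1 elements. -/
theorem result (Γ : AddSubmonoid ℕ) (c : ℕ) (hc : ∀ n : ℕ, c ≤ n → n ∈ Γ) (hc0 : c ≠ 0) (hc1 : c - 1 ∉ Γ) (hsymm : ∀ x : ℕ, x < c → (x ∉ Γ ↔ c - 1 - x ∈ Γ)) (e : ℕ) (he : e ∈ Γ) (he0 : e ≠ 0) (hemin : ∀ γ : ℕ, γ ∈ Γ → γ ≠ 0 → e ≤ γ) (he2 : 2 < e) : ∃ G : Finset ℕ, G.card ≤ e - 1 ∧ AddSubmonoid.closure (↑G : Set ℕ) = Γ := by
  classical
  have hex : ∀ r : ℕ, r < e → ∃ γ, γ ∈ Γ ∧ γ % e = r := fun r hr =>
    ⟨r + e * c, hc _ (le_trans (Nat.le_mul_of_pos_left c (Nat.pos_of_ne_zero he0)) (Nat.le_add_left _ _)),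
      by rw [Nat.add_mul_mod_self_left, Nat.mod_eq_of_lt hr]⟩
  let ap : ℕ → ℕ := fun r => if h : r < e then Nat.find (hex r h) else 0
  have hap : ∀ r, r < e → ap r ∈ Γ ∧ ap r % e = r ∧ ∀ g ∈ Γ, g % e = r → ap r ≤ g := fun r hr => by
    simp only [ap, dif_pos hr]
    exact ⟨(Nat.find_spec (hex r hr)).1, (Nat.find_spec (hex r hr)).2, fun g hg hgr => Nat.find_le ⟨hg, hgr⟩⟩
  have hkey : ∀ g ∈ Γ, ∀ k : ℕ, g + k * e ∈ Γ := fun g hg k =>
    add_mem hg (by simpa using nsmul_mem he k)
  -- either we can subtract `e` or we are at the least element of the class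
  have hsplit : ∀ g ∈ Γ, (e ≤ g ∧ g - e ∈ Γ) ∨ g = ap (g % e) := fun g hg => by
    obtain ⟨h1, h2, h3⟩ := hap (g % e) (Nat.mod_lt _ (Nat.pos_of_ne_zero he0))
    rcases Nat.eq_or_lt_of_le (h3 g hg rfl) with h | h
    · exact Or.inr h.symm
    · obtain ⟨k, hk⟩ : e ∣ g - ap (g % e) := Nat.dvd_of_mod_eq_zero (Nat.sub_mod_eq_zero_of_mod_eq (by rw [h2]))
      obtain ⟨k, rfl⟩ : ∃ k', k = k' + 1 := ⟨k - 1, by
        rcases Nat.eq_zero_or_pos k with rfl | hk0
        · omega
        · omega⟩
      rw [Nat.mul_succ] at hk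
      refine Or.inl ⟨by omega, ?_⟩
      rw [show g - e = ap (g % e) + k * e by rw [Nat.mul_comm k e]; omega]
      exact hkey _ h1 k
  obtain ⟨F, hF⟩ : ∃ F, F = c - 1 + e := ⟨_, rfl⟩
  obtain ⟨r0, hr0⟩ : ∃ r0, r0 = F % e := ⟨_, rfl⟩
  have hr0e : r0 < e := hr0 ▸ Nat.mod_lt _ (Nat.pos_of_ne_zero he0)
  have hr0ne : r0 ≠ 0 := fun h => by
    rw [hr0, hF, Nat.add_mod_right] at h
    obtain ⟨k, hk⟩ := Nat.dvd_of_mod_eq_zero h
    refine hc1 (hk ▸ ?_)
    rw [Nat.mul_comm]
    simpa using hkey 0 (zero_mem _) k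
  let S : Finset ℕ := ((Finset.range e).erase 0).erase r0
  have hScard : S.card = e - 2 := by
    rw [Finset.card_erase_of_mem (Finset.mem_erase.2 ⟨hr0ne, Finset.mem_range.2 hr0e⟩),
      Finset.card_erase_of_mem (Finset.mem_range.2 (Nat.pos_of_ne_zero he0)), Finset.card_range]
    omega
  refine ⟨insert e (S.image ap), ?_, le_antisymm ?_ ?_⟩
  · refine le_trans (Finset.card_insert_le _ _) ?_
    have := Finset.card_image_le (s := S) (f := ap)
    omega
  · refine AddSubmonoid.closure_le.2 fun x hx => ?_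
    rcases Finset.mem_insert.1 hx with rfl | hx
    · exact he
    · obtain ⟨r, hr, rfl⟩ := Finset.mem_image.1 hx
      exact (hap r (Finset.mem_range.1 (Finset.mem_of_mem_erase (Finset.mem_of_mem_erase hr)))).1
  · intro g
    induction g using Nat.strong_induction_on with
    | _ g ih =>
      intro hg
      rcases hsplit g hg with ⟨heg, hge⟩ | hgap
      · rw [show g = (g - e) + e by omega]
        exact add_mem (ih _ (by omega) hge) (AddSubmonoid.subset_closure (Finset.mem_insert_self _ _))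
      · have hlt := Nat.mod_lt g (Nat.pos_of_ne_zero he0)
        by_cases h0 : g % e = 0
        · have h00 : ap 0 ≤ 0 := (hap 0 (Nat.pos_of_ne_zero he0)).2.2 0 (zero_mem _) (Nat.zero_mod _)
          rw [h0] at hgap
          rw [show g = 0 by omega]
          exact zero_mem _
        by_cases hr : g % e = r0
        · have hgF : g = F := by
            have hFm : F ∈ Γ := hc F (by omega)
            rcases hsplit F hFm with ⟨-, h⟩ | h
            · exact absurd (by rwa [show F - e = c - 1 by omega] at h) hc1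
            · rw [← hr0] at h
              rw [hr] at hgap
              omega
          obtain ⟨r1, hr1e, hr10, hr1r⟩ : ∃ r1, r1 < e ∧ r1 ≠ 0 ∧ r1 ≠ r0 := by
            rcases eq_or_ne r0 1 with h | h
            · exact ⟨2, by omega, by omega, by omega⟩
            · exact ⟨1, by omega, by omega, Ne.symm h⟩
          obtain ⟨w1, w2, w3⟩ := hap r1 hr1e
          have hw0 : ap r1 ≠ 0 := fun h => hr10 (by rw [← w2, h, Nat.zero_mod])
          have hwe : e ≤ ap r1 := hemin _ w1 hw0
          have hwn : ap r1 - e ∉ Γ := fun h => by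
            have := w3 _ h (by rw [← Nat.mod_eq_sub_mod hwe, w2])
            omega
          have hwlt : ap r1 - e < c := Nat.lt_of_not_le fun h => hwn (hc _ h)
          have hrest := (hsymm _ hwlt).1 hwn
          have hne : ap r1 ≠ F := fun h => hr1r (by rw [hr0, ← h, w2])
          rw [hgF, show F = ap r1 + (c - 1 - (ap r1 - e)) by omega]
          exact add_mem (ih _ (by omega) w1) (ih _ (by omega) hrest)
        · exact AddSubmonoid.subset_closure (Finset.mem_insert_of_mem (Finset.mem_image.2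
            ⟨g % e, Finset.mem_erase.2 ⟨hr, Finset.mem_erase.2 ⟨h0, Finset.mem_range.2 hlt⟩⟩, hgap.symm⟩))

end Groth.Agent.S15038
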