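-- statement TFCurv.GrothFrozen.S15041 (Groth/Statements/S15041.lean; the theorem TFCurv.length_ext_one_rankOne_modules_E6);
import Groth.Statements.S15041
import Groth.Agent.TFCurvSG.MonExt

set_option autoImplicit false
set_option maxHeartbeats 4000000
set_option synthInstance.maxHeartbeats 400000
universe u
open CategoryTheory
open TFCurv Groth.Agent

namespace Groth.Agent.S15041

/-- Let k be an algebraically closed field of characteristic zero and A ⊂ k[[t]] the complete local ring
of the E_6 singularity, i.e. the k-subalgebra of power series all of whose exponents lie in the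
semigroup generated by 3 and 4 (A = k[[t³, t⁴]]). Its rank-one torsion-free modules are A, M₁ = A +
A·t⁵, its dual M₁* = A + A·t, M₂ = A + A·t² and M₃ = A + A·t + A·t² = k[[t]], of index 0, 1, 1, 2,
3. Then Ext¹_A(M, M) has length 2·index(M): length 2 for M₁ and for M₁*, 4 for M₂ and 6 for M₃
(length over A equals k-dimension). As End_A(M₁) = End_A(M₁*) = M₁, End_A(M₂) = M₂, End_A(M₃) = M₃
have colength 1, 1, 2, 3 over A, this is the identity χ₁(M) = dim Ext¹(M, M) − dim(End(M)/A) =
index(M). -/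
theorem result (k : Type u) [Field k] [IsAlgClosed k] [CharZero k] (A : Subalgebra k (PowerSeries k)) (hmono : ∀ f : PowerSeries k, f ∈ A ↔ ∀ n : ℕ, PowerSeries.coeff n f ≠ 0 → n ∈ AddSubmonoid.closure ({3, 4} : Set ℕ)) : Module.length ↥A (Abelian.Ext (ModuleCat.of ↥A ↥(Submodule.span ↥A ({1, (PowerSeries.X : PowerSeries k) ^ 5} : Set (PowerSeries k)))) (ModuleCat.of ↥A ↥(Submodule.span ↥A ({1, (PowerSeries.X : PowerSeries k) ^ 5} : Set (PowerSeries k)))) 1) = 2 ∧ Module.length ↥A (Abelian.Ext (ModuleCat.of ↥A ↥(Submodule.span ↥A ({1, (PowerSeries.X : PowerSeries k)} : Set (PowerSeries k)))) (ModuleCat.of ↥A ↥(Submodule.span ↥A ({1, (PowerSeries.X : PowerSeries k)} : Set (PowerSeries k)))) 1) = 2 ∧ Module.length ↥A (Abelian.Ext (ModuleCat.of ↥A ↥(Submodule.span ↥A ({1, (PowerSeries.X : PowerSeries k) ^ 2} : Set (PowerSeries k)))) (ModuleCat.of ↥A ↥(Submodule.span ↥A ({1, (PowerSeries.X : PowerSeries k) ^ 2} : Set (PowerSeries k)))) 1) = 4 ∧ Module.length ↥A (Abelian.Ext (ModuleCat.of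 ↥A ↥(Submodule.span ↥A ({1, (PowerSeries.X : PowerSeries k), (PowerSeries.X : PowerSeries k) ^ 2} : Set (PowerSeries k)))) (ModuleCat.of ↥A ↥(Submodule.span ↥A ({1, (PowerSeries.X : PowerSeries k), (PowerSeries.X : PowerSeries k) ^ 2} : Set (PowerSeries k)))) 1) = 6 := by
  classical
  have hP : ∀ m, m ∈ AddSubmonoid.closure ({3, 4} : Set ℕ) ↔ (m ≠ 1 ∧ m ≠ 2 ∧ m ≠ 5) := by
    intro m
    rw [AddSubmonoid.mem_closure_pair]
    constructor
    · rintro ⟨a, b, rfl⟩
      simp only [smul_eq_mul]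
      omega
    · intro h
      exact ⟨(m - 4 * (m % 3)) / 3, m % 3, by simp only [smul_eq_mul]; omega⟩
  refine ⟨?_, ?_, ?_, ?_⟩
  · rw [TFCurvSG.length_ext_pair A _ hmono 6 (fun m hm => (hP m).2 (by omega)) _ _ {7, 8}]
    · rfl
    intro m
    simp only [TFCurvSG.vexp, hP, Finset.mem_insert, Finset.mem_singleton]
    constructor
    · intro h
      refine ⟨fun s hs hsd => ?_, ?_⟩ <;> omega
    · rintro ⟨h1, h2⟩
      have a := h1 3 (by omega) (by omega)
      have b := h1 4 (by omega) (by omega)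
      have c := h1 7 (by omega) (by omega)
      omega
  · rw [← pow_one (PowerSeries.X : PowerSeries k),
      TFCurvSG.length_ext_pair A _ hmono 6 (fun m hm => (hP m).2 (by omega)) 1 1 {3, 4}]
    · rfl
    intro m
    simp only [TFCurvSG.vexp, hP, Finset.mem_insert, Finset.mem_singleton]
    constructor
    · intro h
      refine ⟨fun s hs hsd => ?_, ?_⟩ <;> omega
    · rintro ⟨h1, h2⟩
      have a := h1 3 (by omega) (by omega)
      have b := h1 6 (by omega) (by omega)
      have c := h1 7 (by omega) (by omega)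
      have e := h1 8 (by omega) (by omega)
      omega
  · rw [TFCurvSG.length_ext_pair A _ hmono 6 (fun m hm => (hP m).2 (by omega)) _ _ {2, 4, 5, 7}]
    · rfl
    intro m
    simp only [TFCurvSG.vexp, hP, Finset.mem_insert, Finset.mem_singleton]
    constructor
    · intro h
      refine ⟨fun s hs hsd => ?_, ?_⟩ <;> omega
    · rintro ⟨h1, h2⟩
      have a := h1 4 (by omega) (by omega)
      have b := h1 6 (by omega) (by omega)
      have c := h1 7 (by omega) (by omega)
      have e := h1 8 (by omega) (by omega)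
      omega
  · -- the normalisation
    set M := Submodule.span ↥A ({1, (PowerSeries.X : PowerSeries k), (PowerSeries.X : PowerSeries k) ^ 2} : Set (PowerSeries k))
    have h0M : (1 : PowerSeries k) ∈ M := Submodule.subset_span (by simp)
    have h1M : (PowerSeries.X : PowerSeries k) ∈ M := Submodule.subset_span (by simp)
    have h2M : (PowerSeries.X : PowerSeries k) ^ 2 ∈ M := Submodule.subset_span (by simp)
    let π : (↥A × ↥A × ↥A) →ₗ[↥A] ↥M :=
      (LinearMap.toSpanSingleton ↥A ↥M ⟨1, h0M⟩).coprod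
        ((LinearMap.toSpanSingleton ↥A ↥M ⟨_, h1M⟩).coprod (LinearMap.toSpanSingleton ↥A ↥M ⟨_, h2M⟩))
    have hπv : ∀ x, (π x : PowerSeries k) =
        (x.1 : PowerSeries k) + ((x.2.1 : PowerSeries k) * PowerSeries.X + (x.2.2 : PowerSeries k) * PowerSeries.X ^ 2) :=
      fun x => by simp [π, TFCurvSG.smul_eq_mul']
    have hπ : Function.Surjective π := fun y => by
      obtain ⟨a, b, c, h⟩ := Submodule.mem_span_triple.1 y.2
      exact ⟨(a, b, c), Subtype.ext (by rw [hπv, ← h]; simp [TFCurvSG.smul_eq_mul', add_assoc])⟩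
    -- every power series lies in `M`
    have htop : ∀ f : PowerSeries k, f ∈ M := by
      intro f
      let co : ℕ → k := fun m => PowerSeries.coeff m f
      let a : PowerSeries k := PowerSeries.mk fun m => if m ∈ AddSubmonoid.closure ({3, 4} : Set ℕ) then co m else 0
      let b : PowerSeries k := PowerSeries.mk fun m => if m = 0 then co 1 else if m = 4 then co 5 else 0
      let c : PowerSeries k := PowerSeries.mk fun m => if m = 0 then co 2 else 0
      have ha : a ∈ A := (hmono a).2 fun m hm => by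
        simp only [a, PowerSeries.coeff_mk] at hm; split_ifs at hm with h
        · exact h
        · exact absurd rfl hm
      have hb : b ∈ A := (hmono b).2 fun m hm => by
        simp only [b, PowerSeries.coeff_mk] at hm; rw [hP]
        split_ifs at hm with h h'
        · omega
        · omega
        · exact absurd rfl hm
      have hc : c ∈ A := (hmono c).2 fun m hm => by
        simp only [c, PowerSeries.coeff_mk] at hm; rw [hP]
        split_ifs at hm with h
        · omega
        · exact absurd rfl hm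
      refine Submodule.mem_span_triple.2 ⟨⟨a, ha⟩, ⟨b, hb⟩, ⟨c, hc⟩, ?_⟩
      ext m
      simp only [TFCurvSG.smul_eq_mul', mul_one, map_add]
      rw [← pow_one (PowerSeries.X : PowerSeries k), ← pow_mul, PowerSeries.coeff_mul_X_pow', PowerSeries.coeff_mul_X_pow']
      simp only [a, b, c, PowerSeries.coeff_mk, co, hP]
      by_cases hm : m ≠ 1 ∧ m ≠ 2 ∧ m ≠ 5
      · rw [if_pos hm]
        split_ifs <;> first | omega | simp
      · rw [if_neg hm]
        obtain rfl | rfl | rfl : m = 1 ∨ m = 2 ∨ m = 5 := by omega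
        all_goals simp
    let K := LinearMap.ker π
    have hK : ∀ x : ↥K, ((x : ↥A × ↥A × ↥A).1 : PowerSeries k) =
        -(((x : ↥A × ↥A × ↥A).2.1 : PowerSeries k) * PowerSeries.X + ((x : ↥A × ↥A × ↥A).2.2 : PowerSeries k) * PowerSeries.X ^ 2) := fun x => by
      have h := congrArg (fun z : ↥M => (z : PowerSeries k)) (show π x = 0 from x.2)
      simp only [hπv, ZeroMemClass.coe_zero] at h
      linear_combination h
    have hA0 : ∀ (y : ↥A) (m : ℕ), (m = 1 ∨ m = 2 ∨ m = 5) → PowerSeries.coeff m (y : PowerSeries k) = 0 := fun y m hm => by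
      by_contra h
      have := (hP m).1 ((hmono _).1 y.2 m h)
      omega
    have hlow : ∀ (x : ↥K) (m : ℕ), m < 3 →
        PowerSeries.coeff m ((x : ↥A × ↥A × ↥A).2.1 : PowerSeries k) = 0 ∧
        PowerSeries.coeff m ((x : ↥A × ↥A × ↥A).2.2 : PowerSeries k) = 0 := by
      intro x m hm
      have e1 := congrArg (PowerSeries.coeff 1) (hK x)
      have e2 := congrArg (PowerSeries.coeff 2) (hK x)
      rw [← pow_one (PowerSeries.X : PowerSeries k), ← pow_mul, hA0 _ 1 (by simp)] at e1
      rw [← pow_one (PowerSeries.X : PowerSeries k), ← pow_mul, hA0 _ 2 (by simp)] at e2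
      simp only [map_neg, map_add, PowerSeries.coeff_mul_X_pow'] at e1 e2
      norm_num [hA0 _ 1 (by simp)] at e1 e2
      rcases (show m = 0 ∨ m = 1 ∨ m = 2 by omega) with rfl | rfl | rfl
      · rw [PowerSeries.coeff_zero_eq_constantCoeff_apply, PowerSeries.coeff_zero_eq_constantCoeff_apply]
        exact ⟨e1, e2⟩
      · exact ⟨hA0 _ 1 (by simp), hA0 _ 1 (by simp)⟩
      · exact ⟨hA0 _ 2 (by simp), hA0 _ 2 (by simp)⟩
    have hX : ∀ (j : ℕ), 6 ≤ j → ∀ s : PowerSeries k, PowerSeries.X ^ j * s ∈ A := fun j hj s => (hmono _).2 fun m hm => by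
      rw [PowerSeries.coeff_X_pow_mul'] at hm
      split_ifs at hm with h
      · rw [hP]; omega
      · exact absurd rfl hm
    have hmon : ∀ j : ℕ, (j ≠ 1 ∧ j ≠ 2 ∧ j ≠ 5) → (PowerSeries.X : PowerSeries k) ^ j ∈ A := fun j hj =>
      TFCurvSG.X_pow_mem A _ hmono ((hP j).2 hj)
    let c6 : ↥A := ⟨PowerSeries.X ^ 6, hmon 6 (by omega)⟩
    let κ₁ : ↥K := ⟨(⟨-(PowerSeries.X ^ 7), A.neg_mem (hmon 7 (by omega))⟩, c6, 0), Subtype.ext (by rw [hπv]; simp [c6]; ring)⟩
    let κ₂ : ↥K := ⟨(⟨-(PowerSeries.X ^ 8), A.neg_mem (hmon 8 (by omega))⟩, 0, c6), Subtype.ext (by rw [hπv]; simp [c6]; ring)⟩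
    have hcomm : ∀ x : ↥K, c6 • x = (x : ↥A × ↥A × ↥A).2.1 • κ₁ + (x : ↥A × ↥A × ↥A).2.2 • κ₂ := fun x => by
      apply Subtype.ext
      refine Prod.ext (Subtype.ext ?_) (Prod.ext (Subtype.ext ?_) (Subtype.ext ?_))
      · simp [c6, κ₁, κ₂, hK]; ring
      · simp [c6, κ₁, κ₂]; ring
      · simp [c6, κ₁, κ₂]; ring
    have hval : ∀ (f : ↥K →ₗ[↥A] ↥M) (x : ↥K), PowerSeries.X ^ 6 * (f x : PowerSeries k) =
        ((x : ↥A × ↥A × ↥A).2.1 : PowerSeries k) * (f κ₁ : PowerSeries k) +
        ((x : ↥A × ↥A × ↥A).2.2 : PowerSeries k) * (f κ₂ : PowerSeries k) := fun f x => by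
      have h := congrArg (fun z : ↥M => (z : PowerSeries k)) (congrArg f (hcomm x))
      simp only [map_smul, map_add, Submodule.coe_add, Submodule.coe_smul, TFCurvSG.smul_eq_mul'] at h
      exact h
    have hu : ∀ (f : ↥K →ₗ[↥A] ↥M) (m : ℕ), m < 3 →
        PowerSeries.coeff m (f κ₁ : PowerSeries k) = 0 ∧ PowerSeries.coeff m (f κ₂ : PowerSeries k) = 0 := by
      intro f m hm
      let x₁ : ↥K := ⟨(⟨-(PowerSeries.X ^ 4), A.neg_mem (hmon 4 (by omega))⟩, ⟨PowerSeries.X ^ 3, hmon 3 (by omega)⟩, 0),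
        Subtype.ext (by rw [hπv]; simp; ring)⟩
      let x₂ : ↥K := ⟨(0, ⟨-(PowerSeries.X ^ 4), A.neg_mem (hmon 4 (by omega))⟩, ⟨PowerSeries.X ^ 3, hmon 3 (by omega)⟩),
        Subtype.ext (by rw [hπv]; simp; ring)⟩
      have h1 : ∀ j, j < 3 → PowerSeries.coeff j (f κ₁ : PowerSeries k) = 0 := fun j hj => by
        have e := congrArg (PowerSeries.coeff (j + 3)) (hval f x₁)
        simp only [x₁, ZeroMemClass.coe_zero, zero_mul, add_zero, PowerSeries.coeff_X_pow_mul', if_neg (show ¬ 6 ≤ j + 3 by omega),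
          if_pos (Nat.le_add_left 3 j), Nat.add_sub_cancel] at e
        exact e.symm
      refine ⟨h1 m hm, ?_⟩
      have e := congrArg (PowerSeries.coeff (m + 3)) (hval f x₂)
      simp only [x₂, map_add, neg_mul, map_neg, PowerSeries.coeff_X_pow_mul', if_neg (show ¬ 6 ≤ m + 3 by omega),
        if_pos (Nat.le_add_left 3 m), Nat.add_sub_cancel] at e
      have hz : (if 4 ≤ m + 3 then PowerSeries.coeff (m + 3 - 4) (f κ₁ : PowerSeries k) else 0) = 0 := by
        split_ifs
        · exact h1 _ (by omega)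
        · rfl
      rw [hz, neg_zero, zero_add] at e
      exact e.symm
    let ψ : (↥K →ₗ[↥A] ↥M) →ₗ[k] (ULift.{u} (Fin 3 ⊕ Fin 3) → k) :=
      { toFun := fun f p => Sum.elim (fun j : Fin 3 => PowerSeries.coeff (3 + (j : ℕ)) (f κ₁ : PowerSeries k))
          (fun j : Fin 3 => PowerSeries.coeff (3 + (j : ℕ)) (f κ₂ : PowerSeries k)) p.down
        map_add' := fun f g => funext fun ⟨p⟩ => by cases p <;> simp
        map_smul' := fun c f => funext fun ⟨p⟩ => by cases p <;> simp }
    have hlen := TFCurvSG.length_ext_one_sub A (TFCurvSG.eps A) (TFCurvSG.isUnit_of_mono A _ hmono) M M π hπ ψ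
    rw [Fintype.card_ulift, Fintype.card_sum, Fintype.card_fin] at hlen
    refine hlen ?_ ?_
    · intro v
      let w : (Fin 3 → k) → PowerSeries k := fun a => PowerSeries.mk fun j => if h : j < 3 then a ⟨j, h⟩ else 0
      let q : PowerSeries k → PowerSeries k := fun g => PowerSeries.mk fun j => PowerSeries.coeff (j + 3) g
      have hq : ∀ g : PowerSeries k, (∀ j, j < 3 → PowerSeries.coeff j g = 0) → PowerSeries.X ^ 3 * q g = g := fun g hg => by
        ext j
        rw [PowerSeries.coeff_X_pow_mul']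
        split_ifs with h
        · simp only [q, PowerSeries.coeff_mk, Nat.sub_add_cancel h]
        · rw [hg j (not_le.1 h)]
      let v₁ := w fun j => v ⟨Sum.inl j⟩
      let v₂ := w fun j => v ⟨Sum.inr j⟩
      have hq1 : ∀ x : ↥K, PowerSeries.X ^ 3 * q ((x : ↥A × ↥A × ↥A).2.1 : PowerSeries k) = ((x : ↥A × ↥A × ↥A).2.1 : PowerSeries k) :=
        fun x => hq _ fun j hj => (hlow x j hj).1
      have hq2 : ∀ x : ↥K, PowerSeries.X ^ 3 * q ((x : ↥A × ↥A × ↥A).2.2 : PowerSeries k) = ((x : ↥A × ↥A × ↥A).2.2 : PowerSeries k) :=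
        fun x => hq _ fun j hj => (hlow x j hj).2
      have hqa : ∀ g g' : PowerSeries k, q (g + g') = q g + q g' := fun g g' => by ext j; simp [q]
      have hqs : ∀ (a g : PowerSeries k), PowerSeries.X ^ 3 * q g = g → q (a * g) = a * q g := fun a g hg => by
        conv_lhs => rw [← hg]
        ext j
        simp [q, mul_left_comm a, PowerSeries.coeff_X_pow_mul]
      let f : ↥K →ₗ[↥A] ↥M :=
        { toFun := fun x => ⟨q ((x : ↥A × ↥A × ↥A).2.1 : PowerSeries k) * v₁ + q ((x : ↥A × ↥A × ↥A).2.2 : PowerSeries k) * v₂, htop _⟩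
          map_add' := fun x y => Subtype.ext (by
            simp only [Submodule.coe_add, Prod.snd_add, Prod.fst_add, AddMemClass.coe_add, hqa]
            ring)
          map_smul' := fun a x => Subtype.ext (by
            show q ((a : PowerSeries k) * _) * v₁ + q ((a : PowerSeries k) * _) * v₂ = (a : PowerSeries k) * (_ + _)
            rw [hqs _ _ (hq1 x), hqs _ _ (hq2 x)]
            ring) }
      refine ⟨f, funext fun ⟨p⟩ => ?_⟩
      have hq6 : q (PowerSeries.X ^ 6) = PowerSeries.X ^ 3 := by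
        ext j; simp [q, PowerSeries.coeff_X_pow]
      have hq0 : q 0 = 0 := by ext j; simp [q]
      cases p with
      | inl j =>
        show PowerSeries.coeff (3 + (j : ℕ)) (q (c6 : PowerSeries k) * v₁ + q ((0 : ↥A) : PowerSeries k) * v₂) = _
        rw [show (c6 : PowerSeries k) = PowerSeries.X ^ 6 from rfl, hq6, ZeroMemClass.coe_zero, hq0, zero_mul, add_zero,
          PowerSeries.coeff_X_pow_mul', if_pos (Nat.le_add_right _ _), Nat.add_sub_cancel_left]
        simp [v₁, w]
      | inr j =>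
        show PowerSeries.coeff (3 + (j : ℕ)) (q ((0 : ↥A) : PowerSeries k) * v₁ + q (c6 : PowerSeries k) * v₂) = _
        rw [show (c6 : PowerSeries k) = PowerSeries.X ^ 6 from rfl, hq6, ZeroMemClass.coe_zero, hq0, zero_mul, zero_add,
          PowerSeries.coeff_X_pow_mul', if_pos (Nat.le_add_right _ _), Nat.add_sub_cancel_left]
        simp [v₂, w]
    · intro f
      constructor
      · intro h
        let y₁ : PowerSeries k := PowerSeries.mk fun j => PowerSeries.coeff (j + 6) (f κ₁ : PowerSeries k)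
        let y₂ : PowerSeries k := PowerSeries.mk fun j => PowerSeries.coeff (j + 6) (f κ₂ : PowerSeries k)
        have hy : (f κ₁ : PowerSeries k) = PowerSeries.X ^ 6 * y₁ ∧ (f κ₂ : PowerSeries k) = PowerSeries.X ^ 6 * y₂ := by
          refine ⟨?_, ?_⟩ <;> ext j <;> rw [PowerSeries.coeff_X_pow_mul']
          · split_ifs with hj
            · simp [y₁, Nat.sub_add_cancel hj]
            · by_cases h3 : j < 3
              · exact (hu f j h3).1
              · have := congrFun h ⟨Sum.inl ⟨j - 3, by omega⟩⟩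
                simpa [ψ, Nat.add_sub_cancel' (not_lt.1 h3)] using this
          · split_ifs with hj
            · simp [y₂, Nat.sub_add_cancel hj]
            · by_cases h3 : j < 3
              · exact (hu f j h3).2
              · have := congrFun h ⟨Sum.inr ⟨j - 3, by omega⟩⟩
                simpa [ψ, Nat.add_sub_cancel' (not_lt.1 h3)] using this
        refine ⟨(LinearMap.toSpanSingleton ↥A ↥M 0).coprod ((LinearMap.toSpanSingleton ↥A ↥M ⟨y₁, htop _⟩).coprod
          (LinearMap.toSpanSingleton ↥A ↥M ⟨y₂, htop _⟩)),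
          fun z => Subtype.ext (mul_left_cancel₀ (pow_ne_zero 6 PowerSeries.X_ne_zero) ?_)⟩
        rw [hval f z, hy.1, hy.2]
        simp [TFCurvSG.smul_eq_mul']
        ring
      · rintro ⟨g, hg⟩
        have hg' : ∀ a b c : ↥A, g (a, b, c) = a • g (1, 0, 0) + b • g (0, 1, 0) + c • g (0, 0, 1) := fun a b c => by
          have e : ((a, b, c) : ↥A × ↥A × ↥A) = a • ((1 : ↥A), (0 : ↥A), (0 : ↥A)) +
              b • ((0 : ↥A), (1 : ↥A), (0 : ↥A)) + c • ((0 : ↥A), (0 : ↥A), (1 : ↥A)) := by
            refine Prod.ext ?_ (Prod.ext ?_ ?_) <;> simp [smul_eq_mul]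
          rw [e, map_add, map_add, map_smul, map_smul, map_smul]
        funext p
        obtain ⟨p⟩ := p
        cases p with
        | inl j =>
          show PowerSeries.coeff (3 + (j : ℕ)) (f κ₁ : PowerSeries k) = 0
          rw [← hg κ₁, show (κ₁ : ↥A × ↥A × ↥A) = (⟨-(PowerSeries.X ^ 7), _⟩, c6, 0) from rfl, hg']
          simp [TFCurvSG.smul_eq_mul', c6, PowerSeries.coeff_X_pow_mul', show ¬ 7 ≤ 3 + (j : ℕ) by omega,
            show ¬ 6 ≤ 3 + (j : ℕ) by omega]
        | inr j =>
          show PowerSeries.coeff (3 + (j : ℕ)) (f κ₂ : PowerSeries k) = 0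
          rw [← hg κ₂, show (κ₂ : ↥A × ↥A × ↥A) = (⟨-(PowerSeries.X ^ 8), _⟩, 0, c6) from rfl, hg']
          simp [TFCurvSG.smul_eq_mul', c6, PowerSeries.coeff_X_pow_mul', show ¬ 8 ≤ 3 + (j : ℕ) by omega,
            show ¬ 6 ≤ 3 + (j : ℕ) by omega]

end Groth.Agent.S15041
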