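import Groth.Statements.S18934
import Groth.Agent.SyntLCI.Square


set_option autoImplicit false
universe u
open Synt

namespace Groth.Agent.S18934

open Polynomial in
/-- Let p be a prime, A a commutative ring and a an element of A. Then the A-algebra A[T]/(T^p − a) is
syntomic and faithfully flat over A. This is the step of the source's proof showing that adjoining a
p-th root of any element is a covering for the syntomic topology. -/
theorem result (p : ℕ) [Fact p.Prime]
    (A : Type u) [CommRing A] (a : A) :
    Synt.IsSyntomic A (AdjoinRoot (X ^ p - C a)) ∧ Module.FaithfullyFlat A (AdjoinRoot (X ^ p - C a)) := by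
  have hmon : (X ^ p - C a).Monic := monic_X_pow_sub_C a (Fact.out : p.Prime).ne_zero
  have := hmon.finite_adjoinRoot
  have := hmon.free_adjoinRoot
  let E : MvPolynomial (Fin 1) A ≃ₐ[A] A[X] := MvPolynomial.uniqueAlgEquiv A (Fin 1)
  let F : Fin 1 → MvPolynomial (Fin 1) A := fun _ => E.symm (X ^ p - C a)
  have e : AdjoinRoot (X ^ p - C a) ≃ₐ[A] Synt.RelGCIRing A 1 1 F :=
    Ideal.quotientEquivAlg _ _ E.symm (by
      rw [Ideal.map_span, Set.image_singleton, Set.range_const]
      rfl)
  refine ⟨SyntLCI.isSyntomic_of_square F e, ?_⟩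
  rcases subsingleton_or_nontrivial A with hA | hA
  · have : Subsingleton (AdjoinRoot (X ^ p - C a)) := Module.subsingleton A _
    exact ⟨fun m hm => absurd (Subsingleton.elim m ⊤) hm.ne_top⟩
  have : Nonempty (Fin (AdjoinRoot.powerBasis' hmon).dim) := ⟨⟨0, by
    rw [AdjoinRoot.powerBasis'_dim, natDegree_X_pow_sub_C]
    exact (Fact.out : p.Prime).pos⟩⟩
  exact Module.FaithfullyFlat.of_linearEquiv A _ (AdjoinRoot.powerBasis' hmon).basis.repr

end Groth.Agent.S18934
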