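import Groth.Statements.S15044
import Groth.Agent.SyntLCI.SmoothOver
import Groth.Agent.SyntLCI.Comp
import Groth.Agent.SyntLCI.Mor
import Groth.Agent.S18934
import Groth.Agent.S9699


set_option autoImplicit false
open CategoryTheory AlgebraicGeometry
universe u
open Quiet

namespace Groth.Agent.S15044

/-- Over a scheme `X` of prime characteristic `p`, a quasi-etale morphism `f : Y ⟶ X` (locally on the
source an extraction of `p`-th roots followed by an etale morphism) is syntomic: every point of `Y`
has an affine open neighbourhood mapping into an affine open of `X` such that the induced ring map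
is flat, finitely presented and has local complete intersection fibres. -/
theorem result (p : ℕ) [Fact p.Prime] {X Y : Scheme.{u}} [FrobSch.IsCharP X p]
    (f : Y ⟶ X) (hf : Quiet.IsQuiet p f) : Synt.IsSyntomicMor f := by
  have htower : ∀ (n : ℕ) (A B : Type u) [CommRing A] [CommRing B] [Algebra A B],
      Quiet.IsRootTower p n A B → Synt.IsSyntomic A B := by
    intro n
    induction n with
    | zero =>
      intro A B _ _ _ h
      obtain ⟨e⟩ := h
      exact Groth.Agent.SyntLCI.isSyntomic_congr A e.symm (Groth.Agent.SyntLCI.isSyntomic_of_smooth_over A A A)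
    | succ n ih =>
      intro A B _ _ _ h
      obtain ⟨a, _, _, h⟩ := h
      exact Groth.Agent.SyntLCI.isSyntomic_trans A (Quiet.RootRing p A a) B (Groth.Agent.S18934.result p A a).1 (ih _ _ h)
  have hcomp : RingHom.StableUnderComposition @Groth.Agent.SyntLCI.Syn := by
    intro A B C _ _ _ φ ψ hφ hψ
    let := φ.toAlgebra
    let := ψ.toAlgebra
    let := (ψ.comp φ).toAlgebra
    have : IsScalarTower A B C := .of_algebraMap_eq fun x => rfl
    exact Groth.Agent.SyntLCI.isSyntomic_trans A B C hφ hψ
  have := HasRingHomProperty.stableUnderComposition (P := Groth.Agent.SyntLCI.synMor.{u}) hcomp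
  have := AlgebraicGeometry.HasRingHomProperty.respects_isOpenImmersion (P := Groth.Agent.SyntLCI.synMor.{u})
    Groth.Agent.SyntLCI.syn_stableUnderCompositionWithLocalizationAwaySource
  rw [Groth.Agent.SyntLCI.isSyntomicMor_iff, IsZariskiLocalAtSource.iff_exists_resLE (P := Groth.Agent.SyntLCI.synMor.{u})]
  intro y
  obtain ⟨V, Y', r, e, hy, hr, he, hre⟩ := hf y
  refine ⟨⊤, V, hy, fun z _ => trivial, ?_⟩
  have hr' : Groth.Agent.SyntLCI.synMor r := by
    rw [← Groth.Agent.SyntLCI.isSyntomicMor_iff]
    intro v
    obtain ⟨U, hU, hA, hT⟩ := hr (r v)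
    obtain ⟨n, hT⟩ := hT
    refine ⟨⟨r ⁻¹ᵁ U.1, hA⟩, U, le_refl _, hU, ?_⟩
    let := (r.app U.1).hom.toAlgebra
    convert @htower n _ _ _ _ _ hT using 4
    exact (Scheme.Hom.app_eq_appLE r).symm
  have he' : Groth.Agent.SyntLCI.synMor e :=
    (Groth.Agent.SyntLCI.isSyntomicMor_iff e).1 (Groth.Agent.S9699.result e)
  have h := MorphismProperty.comp_mem Groth.Agent.SyntLCI.synMor r e hr' he'
  rw [hre] at h
  rwa [← MorphismProperty.cancel_right_of_respectsIso Groth.Agent.SyntLCI.synMor _ X.topIso.hom, Scheme.topIso_hom,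
    Scheme.Hom.resLE_comp_ι]

end Groth.Agent.S15044
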