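import Groth.Statements.S15049
import Groth.Agent.LubinTateLib.Main

set_option autoImplicit false
universe u
open LubinTate

namespace Groth.Agent.S15049

open MvPowerSeries Finsupp Groth.Agent.LubinTateLib in
theorem key (O : Type u) [CommRing O] [IsDomain O] [IsDiscreteValuationRing O]
    [Finite (IsLocalRing.ResidueField O)] (π : O) (hπ : Irreducible π) :
    ∃ F : FormalGroup O, F.IsComm ∧ IsLT π (Nat.card (IsLocalRing.ResidueField O)) F.toPowerSeries := by
  obtain ⟨G, h0, h1, hG⟩ := exists_isLT hπ (fun _ : Fin 2 => (1 : O))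
  have hq : Nat.card (IsLocalRing.ResidueField O) ≠ 0 := Nat.card_pos.ne'
  have hpair : ∀ {τ : Type} [Finite τ] {a b : MvPowerSeries τ O}, constantCoeff a = 0 → constantCoeff b = 0 →
      IsLT π (Nat.card (IsLocalRing.ResidueField O)) a → IsLT π (Nat.card (IsLocalRing.ResidueField O)) b →
      constantCoeff (subst ![a, b] G) = 0 ∧ IsLT π (Nat.card (IsLocalRing.ResidueField O)) (subst ![a, b] G) ∧
        ∀ j, coeff (single j 1) (subst ![a, b] G) = coeff (single j 1) a + coeff (single j 1) b := by
    intro τ _ a b ha hb hA hB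
    have hc : ∀ i, constantCoeff (![a, b] i) = 0 := fun i => by fin_cases i <;> simpa
    refine ⟨constantCoeff_subst_eq_zero (hasSubst_of_constantCoeff_zero hc) hc h0,
      hG.subst hq hc (fun i => by fin_cases i <;> simpa), fun j => ?_⟩
    rw [coeff_single_subst hc, Fin.sum_univ_two, h1, h1, one_mul, one_mul]
    rfl
  have hX : ∀ {τ : Type} [Finite τ] (i : τ), constantCoeff (X i : MvPowerSeries τ O) = 0 ∧
      IsLT π (Nat.card (IsLocalRing.ResidueField O)) (X i : MvPowerSeries τ O) :=
    fun i => ⟨constantCoeff_X i, isLT_X hq i⟩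
  have hassoc : subst ![subst ![(X 0 : MvPowerSeries (Fin 3) O), X 1] G, X 2] G =
      subst ![(X 0 : MvPowerSeries (Fin 3) O), subst ![(X 1 : MvPowerSeries (Fin 3) O), X 2] G] G := by
    obtain ⟨c01, e01, l01⟩ := hpair (hX (0 : Fin 3)).1 (hX (1 : Fin 3)).1 (hX _).2 (hX _).2
    obtain ⟨c12, e12, l12⟩ := hpair (hX (1 : Fin 3)).1 (hX (2 : Fin 3)).1 (hX _).2 (hX _).2
    obtain ⟨cl, el, ll⟩ := hpair c01 (hX (2 : Fin 3)).1 e01 (hX _).2
    obtain ⟨cr, er, lr⟩ := hpair (hX (0 : Fin 3)).1 c12 (hX _).2 e12
    refine eq_of_isLT hπ cl cr (fun j => ?_) el er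
    rw [ll, lr, l01, l12, add_assoc]
  refine ⟨⟨G, h0, h1 0, h1 1, hassoc⟩, ⟨?_⟩, hG⟩
  obtain ⟨c, e, l⟩ := hpair (hX (1 : Fin 2)).1 (hX (0 : Fin 2)).1 (hX _).2 (hX _).2
  refine eq_of_isLT hπ h0 c (fun j => ?_) hG e
  rw [h1, l, coeff_index_single_X, coeff_index_single_X]
  fin_cases j <;> simp


/-- Let O be a discrete valuation ring with finite residue field of cardinality q, π a uniformizer of O,
and f = πT + T^q ∈ O[[T]]. Then there is a one-dimensional commutative formal group law F(X,Y) over
O for which f is an endomorphism, f(F(X,Y)) = F(f(X), f(Y)); and F is the unique power series in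
O[[X,Y]] with zero constant term and linear part X + Y satisfying this identity. (The published
statement is for the ring of integers of a finite extension of ℚ_p or of 𝔽_q((X)); completeness is
not used and any discrete valuation ring with finite residue field is allowed here.) -/
theorem result (O : Type u) [CommRing O] [IsDomain O] [IsDiscreteValuationRing O]
    [Finite (IsLocalRing.ResidueField O)] (π : O) (hπ : Irreducible π) (f : PowerSeries O)
    (hf : f = π • PowerSeries.X + PowerSeries.X ^ Nat.card (IsLocalRing.ResidueField O)) :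
    ∃ F : FormalGroup O, F.IsComm ∧
      PowerSeries.subst F.toPowerSeries f =
        MvPowerSeries.subst (fun i : Fin 2 => PowerSeries.subst (MvPowerSeries.X i : MvPowerSeries (Fin 2) O) f) F.toPowerSeries ∧
      ∀ G : MvPowerSeries (Fin 2) O, G.constantCoeff = 0 → G.coeff (Finsupp.single 0 1) = 1 →
        G.coeff (Finsupp.single 1 1) = 1 →
        PowerSeries.subst G f =
        MvPowerSeries.subst (fun i : Fin 2 => PowerSeries.subst (MvPowerSeries.X i : MvPowerSeries (Fin 2) O) f) G →
        G = F.toPowerSeries := by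
  obtain ⟨F, hc, hF⟩ := key O π hπ
  open Groth.Agent.LubinTateLib in
  refine ⟨F, hc, (isLT_iff hf F.zero_constantCoeff).1 hF, fun G h0 h1 h2 hG => ?_⟩
  open Groth.Agent.LubinTateLib in
  refine eq_of_isLT hπ h0 F.zero_constantCoeff (fun i => ?_) ((isLT_iff hf h0).2 hG) hF
  fin_cases i
  · exact h1.trans F.lin_coeff_X.symm
  · exact h2.trans F.lin_coeff_Y.symm

end Groth.Agent.S15049
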