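import Groth.Statements.S15051
import Groth.Agent.LubinTateLib.Main

set_option autoImplicit false
universe u
open LubinTate

namespace Groth.Agent.S15051

/-- Let O be a discrete valuation ring with finite residue field of cardinality q, π a uniformizer of O,
and f = πT + T^q ∈ O[[T]]; let F be a one-dimensional formal group law over O for which f is an
endomorphism, f(F(X,Y)) = F(f(X), f(Y)), and g ∈ O[[T]] a power series with zero constant term which
commutes with f, g(f(T)) = f(g(T)). Then g is an endomorphism of F, that is g(F(X,Y)) = F(g(X),
g(Y)); so α ↦ [α] maps O into the endomorphisms of the Lubin–Tate formal group. (The published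
statement is for the ring of integers of a finite extension of ℚ_p or of 𝔽_q((X)); completeness is
not used and any discrete valuation ring with finite residue field is allowed here.) -/
theorem result (O : Type u) [CommRing O] [IsDomain O] [IsDiscreteValuationRing O]
    [Finite (IsLocalRing.ResidueField O)] (π : O) (hπ : Irreducible π) (f : PowerSeries O)
    (hf : f = π • PowerSeries.X + PowerSeries.X ^ Nat.card (IsLocalRing.ResidueField O))
    (F : FormalGroup O)
    (hF : PowerSeries.subst F.toPowerSeries f =
        MvPowerSeries.subst (fun i : Fin 2 => PowerSeries.subst (MvPowerSeries.X i : MvPowerSeries (Fin 2) O) f) F.toPowerSeries)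
    (g : PowerSeries O) (hg0 : g.constantCoeff = 0)
    (hgf : PowerSeries.subst g f = PowerSeries.subst f g) :
    PowerSeries.subst F.toPowerSeries g =
      MvPowerSeries.subst (fun i : Fin 2 => PowerSeries.subst (MvPowerSeries.X i : MvPowerSeries (Fin 2) O) g)
        F.toPowerSeries := by
  have hq : Nat.card (IsLocalRing.ResidueField O) ≠ 0 := Nat.card_pos.ne'
  open Groth.Agent.LubinTateLib in
  have hg := (isLT_iff_powerSeries hf hg0).2 hgf
  open Groth.Agent.LubinTateLib in
  have hFl := (isLT_iff hf F.zero_constantCoeff).2 hF
  have hcF : ∀ _ : Unit, MvPowerSeries.constantCoeff F.toPowerSeries = 0 := fun _ => F.zero_constantCoeff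
  have hcg : ∀ i : Fin 2, MvPowerSeries.constantCoeff
      (PowerSeries.subst (MvPowerSeries.X i : MvPowerSeries (Fin 2) O) g) = 0 :=
    fun i => MvPowerSeries.constantCoeff_subst_eq_zero
      (MvPowerSeries.hasSubst_of_constantCoeff_zero fun _ => MvPowerSeries.constantCoeff_X i)
      (fun _ => MvPowerSeries.constantCoeff_X i) hg0
  open MvPowerSeries Groth.Agent.LubinTateLib in
  refine eq_of_isLT hπ (constantCoeff_subst_eq_zero (hasSubst_of_constantCoeff_zero hcF) hcF hg0)
    (constantCoeff_subst_eq_zero (hasSubst_of_constantCoeff_zero hcg) hcg F.zero_constantCoeff) (fun j => ?_)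
    (hg.subst hq hcF fun _ => hFl)
    (hFl.subst hq hcg fun i => hg.subst hq (fun _ => constantCoeff_X i) fun _ => isLT_X hq i)
  open MvPowerSeries Groth.Agent.LubinTateLib in
  rw [PowerSeries.subst_def, coeff_single_subst hcF, coeff_single_subst hcg, Fin.sum_univ_two,
    F.lin_coeff_X, F.lin_coeff_Y]
  open MvPowerSeries Groth.Agent.LubinTateLib in
  rw [PowerSeries.subst_def, PowerSeries.subst_def, coeff_single_subst (fun _ => constantCoeff_X _),
    coeff_single_subst (fun _ => constantCoeff_X _)]
  open MvPowerSeries in
  simp only [Fintype.sum_unique, coeff_index_single_X, mul_ite, mul_one, mul_zero, one_mul]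
  fin_cases j <;> simp [F.lin_coeff_X, F.lin_coeff_Y]

end Groth.Agent.S15051
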