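import Groth.Statements.S15052
import Groth.Agent.LubinTateLib.Main

set_option autoImplicit false
universe u
open LubinTate

namespace Groth.Agent.S15052

open MvPowerSeries Groth.Agent.LubinTateLib in
theorem map_fX {R S : Type*} [CommRing R] [CommRing S] {σ : Type*} (h : R →+* S) (π : R) (q : ℕ) (i : σ) :
    MvPowerSeries.map h (fX π q i) = fX (h π) q i := by
  rw [fX, fX, smul_eq_C_mul, smul_eq_C_mul, map_add, map_mul, map_C, map_pow, map_X]


/-- Let O be a discrete valuation ring with finite residue field of cardinality q, π a uniformizer of O,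
and f = πT + T^q ∈ O[[T]]; let K be the fraction field of O and F a one-dimensional formal group law
over O for which f is an endomorphism, f(F(X,Y)) = F(f(X), f(Y)). Then there is a unique power
series ℓ ∈ K[[T]] with zero constant term and linear coefficient 1 such that ℓ(f(T)) = π·ℓ(T); this
logarithm is a homomorphism to the additive formal group, ℓ(F(T,S)) = ℓ(T) + ℓ(S), and it is
O-linear in the sense that ℓ(g(T)) = α·ℓ(T) for every α ∈ O and every series g ∈ O[[T]] with zero
constant term and linear coefficient α commuting with f. (The published statement is for the ring of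
integers of a finite extension of ℚ_p; completeness is not used and any discrete valuation ring with
finite residue field is allowed here.) -/
theorem result (O : Type u) [CommRing O] [IsDomain O] [IsDiscreteValuationRing O]
    [Finite (IsLocalRing.ResidueField O)] (K : Type u) [Field K] [Algebra O K] [IsFractionRing O K]
    (π : O) (hπ : Irreducible π) (f : PowerSeries O)
    (hf : f = π • PowerSeries.X + PowerSeries.X ^ Nat.card (IsLocalRing.ResidueField O))
    (F : FormalGroup O)
    (hF : PowerSeries.subst F.toPowerSeries f =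
        MvPowerSeries.subst (fun i : Fin 2 => PowerSeries.subst (MvPowerSeries.X i : MvPowerSeries (Fin 2) O) f) F.toPowerSeries) :
    ∃ ℓ : PowerSeries K, (ℓ.constantCoeff = 0 ∧ ℓ.coeff 1 = 1 ∧
      PowerSeries.subst (PowerSeries.map (algebraMap O K) f) ℓ = algebraMap O K π • ℓ) ∧
      (∀ ℓ' : PowerSeries K, ℓ'.constantCoeff = 0 → ℓ'.coeff 1 = 1 →
        PowerSeries.subst (PowerSeries.map (algebraMap O K) f) ℓ' = algebraMap O K π • ℓ' → ℓ' = ℓ) ∧
      PowerSeries.subst ((F.toPowerSeries).map (algebraMap O K)) ℓ =
        PowerSeries.subst (MvPowerSeries.X (0 : Fin 2) : MvPowerSeries (Fin 2) K) ℓ +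
          PowerSeries.subst (MvPowerSeries.X (1 : Fin 2) : MvPowerSeries (Fin 2) K) ℓ ∧
      (∀ (α : O) (g : PowerSeries O), g.constantCoeff = 0 → g.coeff 1 = α →
        PowerSeries.subst g f = PowerSeries.subst f g →
        PowerSeries.subst (PowerSeries.map (algebraMap O K) g) ℓ = algebraMap O K α • ℓ) := by
  have hq := Groth.Agent.LubinTateLib.two_le_card (O := O)
  have hq0 : Nat.card (IsLocalRing.ResidueField O) ≠ 0 := Nat.card_pos.ne'
  have hne : ∀ d, 2 ≤ d → algebraMap O K π - algebraMap O K π ^ d ≠ 0 := by
    intro d hd h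
    rw [← map_pow, ← map_sub, IsFractionRing.to_map_eq_zero_iff] at h
    have hm : π * (1 - π ^ (d - 1)) = 0 := by
      rw [mul_sub, mul_one, ← pow_succ', Nat.sub_add_cancel (by omega), h]
    exact (Groth.Agent.LubinTateLib.isUnit_one_sub_pow hπ (show d - 1 ≠ 0 by omega)).ne_zero
      ((mul_eq_zero.1 hm).resolve_left hπ.ne_zero)
  open Groth.Agent.LubinTateLib in
  obtain ⟨ℓ, h0, h1, hl⟩ := exists_subst_eq (σ := Unit) hq (fun d hd => isUnit_iff_ne_zero.2 (hne d hd))
    (fun _ => (1 : K))
  open Groth.Agent.LubinTateLib in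
  have hfK : (fX (algebraMap O K π) (Nat.card (IsLocalRing.ResidueField O)) : Unit → MvPowerSeries Unit K) =
      fun _ => PowerSeries.map (algebraMap O K) f := by
    funext i
    rw [← map_fX, hf]
    rfl
  have huniq : ∀ (ℓ' : PowerSeries K) (c : K), ℓ'.constantCoeff = 0 → ℓ'.coeff 1 = c →
      PowerSeries.subst (PowerSeries.map (algebraMap O K) f) ℓ' = algebraMap O K π • ℓ' → ℓ' = c • ℓ := by
    intro ℓ' c a0 a1 al
    refine Groth.Agent.LubinTateLib.eq_of_subst_eq hq hne a0 ?_ (fun i => ?_) (by rw [hfK]; exact al) ?_
    · show PowerSeries.constantCoeff (c • ℓ) = 0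
      rw [PowerSeries.smul_eq_C_mul, map_mul, show PowerSeries.constantCoeff ℓ = 0 from h0, mul_zero]
    · show PowerSeries.coeff 1 ℓ' = PowerSeries.coeff 1 (c • (ℓ : PowerSeries K))
      rw [a1, map_smul, show PowerSeries.coeff 1 ℓ = 1 from h1 (), smul_eq_mul, mul_one]
    · rw [MvPowerSeries.subst_smul (Groth.Agent.LubinTateLib.hasSubst_fX hq0), hl, smul_comm]
  refine ⟨ℓ, ⟨h0, h1 (), ?_⟩, fun ℓ' a0 a1 al => ?_, ?_, fun α g g0 g1 gf => ?_⟩
  · rw [hfK] at hl
    exact hl
  · rw [huniq ℓ' 1 a0 a1 al, one_smul]
  · open MvPowerSeries Groth.Agent.LubinTateLib in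
    have hFK : ∀ _ : Unit, constantCoeff (MvPowerSeries.map (algebraMap O K) F.toPowerSeries) = 0 :=
      fun _ => by rw [constantCoeff_map, F.zero_constantCoeff, map_zero]
    have hcX : ∀ i : Fin 2, ∀ _ : Unit, MvPowerSeries.constantCoeff (MvPowerSeries.X i : MvPowerSeries (Fin 2) K) = 0 :=
      fun i _ => MvPowerSeries.constantCoeff_X i
    open MvPowerSeries Groth.Agent.LubinTateLib in
    have hl' : ∀ {τ : Type} [Finite τ] (H : MvPowerSeries τ K), constantCoeff H = 0 →
        subst (fX (algebraMap O K π) (Nat.card (IsLocalRing.ResidueField O))) H =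
          subst (fun _ : Unit => H) (fX (algebraMap O K π) (Nat.card (IsLocalRing.ResidueField O)) ()) →
        subst (fX (algebraMap O K π) (Nat.card (IsLocalRing.ResidueField O))) (PowerSeries.subst H ℓ) =
          algebraMap O K π • PowerSeries.subst H ℓ := by
      intro τ _ H hH0 hH
      have hs := hasSubst_of_constantCoeff_zero (fun _ : Unit => hH0)
      rw [PowerSeries.subst_def, subst_comp_subst_apply hs (hasSubst_fX hq0)]
      rw [show (fun _ : Unit => subst (fX (algebraMap O K π) (Nat.card (IsLocalRing.ResidueField O))) H) =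
          fun i : Unit => subst (fun _ : Unit => H)
            (fX (algebraMap O K π) (Nat.card (IsLocalRing.ResidueField O)) i) from funext fun _ => hH,
        ← subst_comp_subst_apply (hasSubst_fX hq0) hs, hl, subst_smul hs]
    open MvPowerSeries Groth.Agent.LubinTateLib in
    have hfeq : ∀ {τ : Type} [Finite τ] (H : MvPowerSeries τ K), constantCoeff H = 0 →
        subst (fun _ : Unit => H) (fX (algebraMap O K π) (Nat.card (IsLocalRing.ResidueField O)) ()) =
          algebraMap O K π • H + H ^ Nat.card (IsLocalRing.ResidueField O) := by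
      intro τ _ H hH0
      have hs := hasSubst_of_constantCoeff_zero (fun _ : Unit => hH0)
      rw [fX, subst_add hs, subst_smul hs, subst_pow hs, subst_X hs]
    open MvPowerSeries Groth.Agent.LubinTateLib in
    refine eq_of_subst_eq hq hne (constantCoeff_subst_eq_zero (hasSubst_of_constantCoeff_zero hFK) hFK h0)
      (by rw [map_add, PowerSeries.subst_def, PowerSeries.subst_def,
        constantCoeff_subst_eq_zero (hasSubst_of_constantCoeff_zero (hcX 0)) (hcX 0) h0,
        constantCoeff_subst_eq_zero (hasSubst_of_constantCoeff_zero (hcX 1)) (hcX 1) h0, add_zero])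
      (fun j => ?_) (hl' _ (hFK ()) ?_) ?_
    · open MvPowerSeries Groth.Agent.LubinTateLib in
      rw [map_add, PowerSeries.subst_def, PowerSeries.subst_def, PowerSeries.subst_def, coeff_single_subst hFK,
        coeff_single_subst (hcX 0), coeff_single_subst (hcX 1)]
      open MvPowerSeries in
      simp only [Fintype.sum_unique, coeff_index_single_X, coeff_map, h1, one_mul]
      fin_cases j <;> simp [F.lin_coeff_X, F.lin_coeff_Y]
    · open MvPowerSeries Groth.Agent.LubinTateLib in
      have hFl := (isLT_iff hf F.zero_constantCoeff).2 hF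
      open MvPowerSeries Groth.Agent.LubinTateLib in
      rw [hfeq _ (hFK ())]
      open MvPowerSeries Groth.Agent.LubinTateLib in
      have h2 := congrArg (MvPowerSeries.map (algebraMap O K)) hFl
      open MvPowerSeries Groth.Agent.LubinTateLib in
      rw [map_subst (hasSubst_fX hq0), map_add, map_pow, smul_eq_C_mul, map_mul, map_C, ← smul_eq_C_mul] at h2
      rw [h2]
      congr 1
      exact funext fun i => (map_fX _ _ _ i).symm
    · open MvPowerSeries Groth.Agent.LubinTateLib in
      rw [subst_add (hasSubst_fX hq0), smul_add,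
        hl' _ (hcX 0 ()) (by rw [subst_X (hasSubst_fX hq0), hfeq _ (hcX 0 ())]; rfl),
        hl' _ (hcX 1 ()) (by rw [subst_X (hasSubst_fX hq0), hfeq _ (hcX 1 ())]; rfl)]
  · open MvPowerSeries Groth.Agent.LubinTateLib in
    have hcg : ∀ _ : Unit, constantCoeff (PowerSeries.map (algebraMap O K) g) = 0 := fun _ => by
      show constantCoeff (MvPowerSeries.map (algebraMap O K) g) = 0
      rw [constantCoeff_map, show constantCoeff g = 0 from g0, map_zero]
    open MvPowerSeries Groth.Agent.LubinTateLib in
    refine huniq _ (algebraMap O K α) (constantCoeff_subst_eq_zero (hasSubst_of_constantCoeff_zero hcg) hcg h0) ?_ ?_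
    · show MvPowerSeries.coeff (Finsupp.single () 1) (MvPowerSeries.subst (fun _ => PowerSeries.map (algebraMap O K) g) ℓ) = _
      rw [Groth.Agent.LubinTateLib.coeff_single_subst hcg, Fintype.sum_unique]
      show PowerSeries.coeff 1 ℓ * PowerSeries.coeff 1 (PowerSeries.map (algebraMap O K) g) = _
      rw [show PowerSeries.coeff 1 ℓ = 1 from h1 (), one_mul, PowerSeries.coeff_map, g1]
    · have hsg := PowerSeries.HasSubst.of_constantCoeff_zero' (hcg ())
      have hsfK : PowerSeries.HasSubst (PowerSeries.map (algebraMap O K) f) :=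
        PowerSeries.HasSubst.of_constantCoeff_zero' (by simp [hf, zero_pow hq0, PowerSeries.smul_eq_C_mul])
      have hsf : PowerSeries.HasSubst f := PowerSeries.HasSubst.of_constantCoeff_zero' (by simp [hf, zero_pow hq0, PowerSeries.smul_eq_C_mul])
      have hsg' : PowerSeries.HasSubst g := PowerSeries.HasSubst.of_constantCoeff_zero' g0
      rw [hfK] at hl
      have hmap : ∀ a b : PowerSeries O, PowerSeries.HasSubst a →
          PowerSeries.map (algebraMap O K) (PowerSeries.subst a b) =
            PowerSeries.subst (PowerSeries.map (algebraMap O K) a) (PowerSeries.map (algebraMap O K) b) :=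
        fun a b ha => PowerSeries.map_subst ha b
      rw [PowerSeries.subst_comp_subst_apply hsg hsfK,
        ← hmap f g hsf, ← gf, hmap g f hsg',
        ← PowerSeries.subst_comp_subst_apply hsfK hsg]
      rw [show PowerSeries.subst (PowerSeries.map (algebraMap O K) f) ℓ = algebraMap O K π • ℓ from hl,
        PowerSeries.subst_smul hsg]

end Groth.Agent.S15052
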