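import Groth.Statements.S15054
-- import your own Groth.Agent.* helpers here

set_option autoImplicit false
universe u
open CategoryTheory CategoryTheory.Limits MonoidalCategory CartesianMonoidalCategory MonObj GrpObj AlgebraicGeometry
open BTGrp

namespace Groth.Agent.S15054

/-- Let ℓ be a prime and G = (G_ν)_ν an ℓ-divisible (Barsotti–Tate) group of height h over a scheme S,
given as the system of its finite locally free layers G_ν of order ℓ^{νh} with inclusions G_ν →
G_{ν+1} exhibiting G_ν as the ℓ^ν-torsion of G_{ν+1} and projections G_{ν+1} → G_ν (multiplication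
by ℓ). Let i_t : G_1 → G_{t+1} denote the iterated inclusions, pinned by i_0 = id and i_{t+1} = i_t
followed by G_{t+1} → G_{t+2}. Then for every t, i_t identifies G_1 with the kernel of
multiplication by ℓ on G_{t+1}: the ℓ-torsion of every layer is the first layer. (The published
statement identifies G_v with the ℓ^v-torsion of G_{v+t} for all v; this row is its case v = 1. The
published base is the spectrum of a Noetherian ring; the argument is formal and any base scheme is
allowed here.) -/
theorem result {S : Scheme.{u}} (ℓ h : ℕ) [Fact ℓ.Prime] (G : BTGrp.ProBT ℓ S h)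
    (i : (t : ℕ) → (G.G 1 ⟶ G.G (t + 1))) (hi0 : i 0 = 𝟙 (G.G 1))
    (hi : ∀ t : ℕ, i (t + 1) = i t ≫ G.incl (t + 1)) (t : ℕ) :
    AlgGrp.IsKernel (i t) ((𝟙 (G.G (t + 1))) ^ ℓ) := by
  have pow_comp : ∀ {X A B : Over S} [GrpObj A] [GrpObj B] (f : A ⟶ B) [IsMonHom f] (g : X ⟶ A)
      (n : ℕ), (g ^ n) ≫ f = (g ≫ f) ^ n := by
    intro X A B _ _ f _ g n
    exact MonObj.pow_comp g n f
  have mono_incl : ∀ ν, Mono (G.incl ν) := fun ν =>
    ⟨fun a b e => (G.isKernel ν).hom_ext e (toUnit_unique _ _)⟩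
  have kill : (𝟙 (G.G 1)) ^ ℓ = 1 := by
    haveI := mono_incl 1
    have w := (G.isKernel 1).w
    rw [pow_one, MonObj.comp_pow, Category.comp_id] at w
    rw [← cancel_mono (G.incl 1), pow_comp, Category.id_comp, MonObj.one_comp, w, Hom.one_def]
  have main : ∀ n, Mono (i n) ∧ (i n) ^ ℓ = 1 ∧
      ∀ (T : Over S) (g : T ⟶ G.G (n + 1)), g ^ ℓ = 1 → ∃ l, l ≫ i n = g := by
    intro n
    induction n with
    | zero =>
      rw [hi0]
      exact ⟨inferInstance, kill, fun T g _ => ⟨g, Category.comp_id g⟩⟩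
    | succ n ih =>
      obtain ⟨hm, hk, hl⟩ := ih
      haveI := mono_incl (n + 1)
      rw [hi n]
      refine ⟨mono_comp _ _, ?_, ?_⟩
      · rw [← pow_comp, hk, MonObj.one_comp]
      · intro T g hg
        have h1 : g ^ (ℓ ^ (n + 1)) = 1 := by
          rw [pow_succ', pow_mul, hg, one_pow]
        obtain ⟨g', hg'⟩ : ∃ g', g' ≫ G.incl (n + 1) = g := by
          refine ⟨(G.isKernel (n + 1)).lift g (toUnit T) ?_, (G.isKernel (n + 1)).lift_fst _ _ _⟩
          rw [MonObj.comp_pow, Category.comp_id, h1, Hom.one_def]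
        have h2 : g' ^ ℓ = 1 := by
          rw [← cancel_mono (G.incl (n + 1)), pow_comp, hg', hg, MonObj.one_comp]
        obtain ⟨l, hl'⟩ := hl T g' h2
        exact ⟨l, by rw [← Category.assoc, hl', hg']⟩
  obtain ⟨hm, hk, hl⟩ := main t
  have w : i t ≫ (𝟙 (G.G (t + 1))) ^ ℓ = toUnit (G.G 1) ≫ η[G.G (t + 1)] := by
    rw [MonObj.comp_pow, Category.comp_id, hk, Hom.one_def]
  have key : ∀ s : Limits.PullbackCone ((𝟙 (G.G (t + 1))) ^ ℓ) η[G.G (t + 1)],
      ∃ l, l ≫ i t = s.fst := by
    intro s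
    refine hl _ s.fst ?_
    have e := s.condition
    rw [MonObj.comp_pow, Category.comp_id, toUnit_unique s.snd (toUnit _)] at e
    rw [e, Hom.one_def]
  exact ⟨⟨w⟩, ⟨Limits.PullbackCone.IsLimit.mk w (fun s => (key s).choose)
    (fun s => (key s).choose_spec) (fun s => toUnit_unique _ _)
    (fun s m hm1 _ => by rw [← cancel_mono (i t), hm1, (key s).choose_spec])⟩⟩

end Groth.Agent.S15054
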