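import Groth.Statements.S15056
import Mathlib

set_option autoImplicit false
set_option linter.style.haveILetI false
universe u
open scoped TensorProduct
open FrobAlg

namespace Groth.Agent.S15056

/-- Let p be a prime number, R a Noetherian ring of characteristic p and A a finitely generated
commutative Hopf algebra over R (an affine algebraic R-group G = Spec A). The n-fold relative
Frobenius of G is the trivial homomorphism exactly when a^(p^n) = 0 for every a in the augmentation
ideal; G has finite Frobenius height when this holds for some n. Then G has finite Frobenius height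
if and only if A is a finite R-module and, for every algebraically closed field K and every ring
homomorphism R → K, the base change K ⊗_R A is a local ring (G is finite over R with connected
geometric fibres). -/
theorem result (p : ℕ) [Fact p.Prime] (R : Type u) [CommRing R] [CharP R p]
    [IsNoetherianRing R] (A : Type u) [CommRing A] [HopfAlgebra R A] [Algebra.FiniteType R A] :
    (∃ n : ℕ, ∀ a : A, Bialgebra.counitAlgHom R A a = 0 → a ^ p ^ n = 0) ↔
      (Module.Finite R A ∧ ∀ (K : Type u) [Field K] [IsAlgClosed K] [Algebra R K], IsLocalRing (K ⊗[R] A)) := by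
  classical
  set ε := Bialgebra.counitAlgHom R A with hε
  have haug : ∀ a : A, ε (a - algebraMap R A (ε a)) = 0 := fun a => by
    rw [map_sub, AlgHom.commutes, Algebra.algebraMap_self, RingHom.id_apply, sub_self]
  constructor
  · rintro ⟨n, hn⟩
    have hint : Algebra.IsIntegral R A := ⟨fun a => by
      have h : IsIntegral R (a - algebraMap R A (ε a)) :=
        IsIntegral.of_pow (pow_pos (Fact.out : p.Prime).pos n) (by rw [hn _ (haug a)]; exact isIntegral_zero)
      simpa using h.add (isIntegral_algebraMap (x := ε a))⟩
    refine ⟨Algebra.IsIntegral.finite, fun K _ _ _ => ?_⟩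
    let χ : K ⊗[R] A →ₐ[K] K :=
      Algebra.TensorProduct.lift (AlgHom.id K K) ((Algebra.ofId R K).comp ε) fun _ _ => Commute.all _ _
    haveI : Nontrivial (K ⊗[R] A) := χ.toRingHom.domain_nontrivial
    have hdec : ∀ x : K ⊗[R] A, IsNilpotent (x - algebraMap K (K ⊗[R] A) (χ x)) := fun x => by
      induction x using TensorProduct.induction_on with
      | zero => simp
      | add x y hx hy =>
        rw [map_add, map_add, add_sub_add_comm]
        exact (Commute.all _ _).isNilpotent_add hx hy
      | tmul c a =>
        have h1 : c ⊗ₜ[R] a - algebraMap K (K ⊗[R] A) (χ (c ⊗ₜ a)) = c ⊗ₜ[R] (a - algebraMap R A (ε a)) := by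
          have hχ : χ (c ⊗ₜ a) = ε a • c := by
            rw [Algebra.smul_def, mul_comm]; rfl
          rw [hχ, TensorProduct.tmul_sub, ← mul_one (algebraMap R A (ε a)), ← Algebra.smul_def, TensorProduct.tmul_smul,
            TensorProduct.smul_tmul']
          rfl
        exact ⟨p ^ n, by rw [h1, Algebra.TensorProduct.tmul_pow, hn _ (haug a), TensorProduct.tmul_zero]⟩
    refine IsLocalRing.of_isUnit_or_isUnit_one_sub_self fun x => ?_
    by_cases hx : χ x = 0
    · exact Or.inr (IsNilpotent.isUnit_one_sub (by simpa [hx] using hdec x))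
    · exact Or.inl (by
        simpa using (hdec x).isUnit_add_left_of_commute ((Ne.isUnit hx).map (algebraMap K (K ⊗[R] A))) (Commute.all _ _))
  · rintro ⟨-, hloc⟩
    haveI : IsNoetherianRing A := Algebra.FiniteType.isNoetherianRing R A
    have hle : RingHom.ker ε ≤ nilradical A := fun a ha => by
      rw [nilradical_eq_sInf, Submodule.mem_sInf]
      intro (P : Ideal A) hP
      haveI : Ideal.IsPrime P := hP
      let F := FractionRing (A ⧸ P)
      let K := AlgebraicClosure F
      let g : A →+* K := ((algebraMap F K).comp (algebraMap (A ⧸ P) F)).comp (Ideal.Quotient.mk P)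
      letI : Algebra R K := (g.comp (algebraMap R A)).toAlgebra
      haveI := hloc K
      let gA : A →ₐ[R] K := { g with commutes' := fun _ => rfl }
      let χ₁ : K ⊗[R] A →ₐ[K] K := Algebra.TensorProduct.lift (AlgHom.id K K) gA fun _ _ => Commute.all _ _
      let χ₂ : K ⊗[R] A →ₐ[K] K :=
        Algebra.TensorProduct.lift (AlgHom.id K K) ((Algebra.ofId R K).comp ε) fun _ _ => Commute.all _ _
      have hmax : ∀ χ : K ⊗[R] A →ₐ[K] K, RingHom.ker χ.toRingHom = IsLocalRing.maximalIdeal (K ⊗[R] A) := fun χ =>
        IsLocalRing.eq_maximalIdeal (RingHom.ker_isMaximal_of_surjective χ.toRingHom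
          fun c => ⟨algebraMap K _ c, χ.commutes c⟩)
      have h2 : (1 : K) ⊗ₜ[R] a ∈ RingHom.ker χ₂.toRingHom := by
        have : ε a = 0 := ha
        simp [χ₂, RingHom.mem_ker, this]
      rw [hmax, ← hmax χ₁, RingHom.mem_ker] at h2
      have h3 : g a = 0 := by simpa [χ₁, gA] using h2
      exact Ideal.Quotient.eq_zero_iff_mem.1 (FaithfulSMul.algebraMap_injective (A ⧸ P) F
        ((algebraMap F K).injective (by rw [map_zero, map_zero]; exact h3)))
    obtain ⟨n, hn⟩ := IsNoetherianRing.isNilpotent_nilradical A
    refine ⟨n, fun a ha => pow_eq_zero_of_le (Nat.lt_pow_self (Fact.out : p.Prime).one_lt).le ?_⟩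
    have := Ideal.pow_mem_pow (hle (RingHom.mem_ker.2 ha)) n
    rwa [hn] at this

end Groth.Agent.S15056
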