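import Groth.Statements.S15057
import Mathlib


set_option autoImplicit false
set_option backward.isDefEq.respectTransparency false
universe u
open CategoryTheory CategoryTheory.Limits
open Desc

namespace Groth.Agent.S15057

section Pre

open Opposite Simplicial TensorProduct

variable (R A : Type u) [CommRing R] [CommRing A] [Algebra R A]

/-- Degree `n` of the conerve. -/
private noncomputable abbrev K (n : ℕ) : CommRingCat.{u} :=
  (Arrow.mk (CommRingCat.ofHom (algebraMap R A))).cechConerve.obj ⦋n⦌

private noncomputable abbrev hd (n : ℕ) : CommRingCat.of R ⟶ K R A n :=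
  WidePushout.head (fun _ : Fin (n + 1) => CommRingCat.ofHom (algebraMap R A))

private noncomputable abbrev ιK (n : ℕ) (j : Fin (n + 1)) : CommRingCat.of A ⟶ K R A n :=
  WidePushout.ι (fun _ : Fin (n + 1) => CommRingCat.ofHom (algebraMap R A)) j

private noncomputable instance (n : ℕ) : Algebra R (K R A n) := (hd R A n).hom.toAlgebra

private noncomputable abbrev face (n : ℕ) (i : Fin (n + 2)) : K R A n ⟶ K R A (n + 1) :=
  (Arrow.mk (CommRingCat.ofHom (algebraMap R A))).cechConerve.δ i

private lemma hd_face (n : ℕ) (i : Fin (n + 2)) : hd R A n ≫ face R A n i = hd R A (n + 1) :=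
  colimit.ι_desc _ _

private lemma ι_face (n : ℕ) (i : Fin (n + 2)) (j : Fin (n + 1)) :
    ιK R A n j ≫ face R A n i = ιK R A (n + 1) (i.succAbove j) :=
  colimit.ι_desc _ _

private noncomputable def faceAlg (n : ℕ) (i : Fin (n + 2)) : K R A n →ₐ[R] K R A (n + 1) :=
  AlgHom.mk' ((face R A n i).hom : (K R A n : Type u) →+* (K R A (n + 1) : Type u)) (fun c x => by
    simp only [Algebra.smul_def, map_mul]
    congr 1
    exact RingHom.congr_fun (congrArg CommRingCat.Hom.hom (hd_face R A n i)) c)

/-- `x₀ ⊗ x₁ ⊗ ⋯ ↦ x₀ ⊗ (x₁ ⊗ ⋯)`. -/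
private noncomputable def ψ (n : ℕ) : K R A (n + 1) ⟶ CommRingCat.of (A ⊗[R] K R A n) :=
  WidePushout.desc (CommRingCat.ofHom (algebraMap R (A ⊗[R] K R A n)))
    (fun j => Fin.cases
      (CommRingCat.ofHom (Algebra.TensorProduct.includeLeft : A →ₐ[R] A ⊗[R] K R A n).toRingHom)
      (fun i => ιK R A n i ≫ CommRingCat.ofHom
        (Algebra.TensorProduct.includeRight : K R A n →ₐ[R] A ⊗[R] K R A n).toRingHom) j)
    (fun j => by
      refine Fin.cases ?_ (fun i => ?_) j
      · refine CommRingCat.hom_ext (RingHom.ext fun (r : R) => ?_)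
        exact (Algebra.TensorProduct.includeLeft : A →ₐ[R] A ⊗[R] K R A n).commutes r
      · refine CommRingCat.hom_ext (RingHom.ext fun (r : R) => ?_)
        show Algebra.TensorProduct.includeRight ((ιK R A n i).hom (algebraMap R A r)) =
          algebraMap R (A ⊗[R] K R A n) r
        rw [show (ιK R A n i).hom (algebraMap R A r) = algebraMap R (K R A n) r from
          RingHom.congr_fun (congrArg CommRingCat.Hom.hom
            (WidePushout.arrow_ι (fun _ : Fin (n + 1) => CommRingCat.ofHom (algebraMap R A)) i)) r]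
        exact AlgHom.commutes _ r)

private lemma face_zero_ψ (n : ℕ) : face R A n 0 ≫ ψ R A n =
    CommRingCat.ofHom (Algebra.TensorProduct.includeRight : K R A n →ₐ[R] A ⊗[R] K R A n).toRingHom := by
  refine WidePushout.hom_ext _ _ _ (fun j => ?_) ?_
  · show ιK R A n j ≫ face R A n 0 ≫ ψ R A n = _
    rw [← Category.assoc, ι_face, Fin.succAbove_zero]
    exact (colimit.ι_desc _ _).trans rfl
  · show hd R A n ≫ face R A n 0 ≫ ψ R A n = _
    rw [← Category.assoc, hd_face]
    refine (colimit.ι_desc _ _).trans ?_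
    ext r
    exact ((Algebra.TensorProduct.includeRight : K R A n →ₐ[R] A ⊗[R] K R A n).commutes r).symm

private lemma face_succ_ψ (n : ℕ) (i : Fin (n + 2)) : face R A (n + 1) i.succ ≫ ψ R A (n + 1) =
    ψ R A n ≫ CommRingCat.ofHom (Algebra.TensorProduct.map (AlgHom.id R A) (faceAlg R A n i)).toRingHom := by
  refine WidePushout.hom_ext _ _ _ (fun j => ?_) ?_
  · show ιK R A (n + 1) j ≫ face R A (n + 1) i.succ ≫ ψ R A (n + 1) = _
    rw [← Category.assoc, ι_face]
    refine Fin.cases ?_ (fun j' => ?_) j
    · rw [Fin.succ_succAbove_zero]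
      simp only [ψ, WidePushout.ι_desc, WidePushout.ι_desc_assoc, Fin.cases_zero]
      ext x
      simp
    · rw [Fin.succ_succAbove_succ]
      simp only [ψ, WidePushout.ι_desc, WidePushout.ι_desc_assoc, Fin.cases_succ]
      rw [← ι_face, Category.assoc, Category.assoc]
      congr 1
  · show hd R A (n + 1) ≫ face R A (n + 1) i.succ ≫ ψ R A (n + 1) = _
    rw [← Category.assoc, hd_face]
    simp only [ψ, WidePushout.head_desc, WidePushout.head_desc_assoc]
    ext r
    exact ((Algebra.TensorProduct.map (AlgHom.id R A) (faceAlg R A n i)).commutes r).symm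

/-- The differential. -/
private noncomputable def D (n : ℕ) : K R A n →ₗ[R] K R A (n + 1) where
  toFun x := ∑ i : Fin (n + 2), (-1 : ℤ) ^ (i : ℕ) • faceAlg R A n i x
  map_add' x y := by simp only [map_add, smul_add, Finset.sum_add_distrib]
  map_smul' c x := by
    simp only [map_smul, Finset.smul_sum, RingHom.id_apply]
    exact Finset.sum_congr rfl fun i _ => smul_comm _ c _

variable [Module.FaithfullyFlat R A]

private lemma exact_D (n : ℕ) (x : K R A (n + 1)) (hx : D R A (n + 1) x = 0) :
    x ∈ LinearMap.range (D R A n) := by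
  have h1 : ∀ y, (ψ R A (n + 1)).hom (face R A (n + 1) 0 y) = (1 : A) ⊗ₜ[R] y := fun y =>
    RingHom.congr_fun (congrArg CommRingCat.Hom.hom (face_zero_ψ R A (n + 1))) y
  have h2 : ∀ i : Fin (n + 2), (ψ R A (n + 1)).hom (face R A (n + 1) i.succ x) =
      (faceAlg R A n i).toLinearMap.lTensor A ((ψ R A n).hom x) := fun i =>
    RingHom.congr_fun (congrArg CommRingCat.Hom.hom (face_succ_ψ R A n i)) x
  have h0 := congrArg (ψ R A (n + 1)).hom hx
  rw [map_zero, show D R A (n + 1) x = ∑ i : Fin (n + 3), (-1 : ℤ) ^ (i : ℕ) •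
    faceAlg R A (n + 1) i x from rfl, map_sum, Fin.sum_univ_succ] at h0
  simp only [map_neg, map_zsmul, Fin.val_zero, pow_zero,
    one_smul, Fin.val_succ, pow_succ, mul_neg, mul_one, neg_smul, Finset.sum_neg_distrib] at h0
  have h3 : (1 : A) ⊗ₜ[R] x = (D R A n).lTensor A ((ψ R A n).hom x) := by
    have hD : (D R A n).lTensor A ((ψ R A n).hom x) =
        ∑ i : Fin (n + 2), (-1 : ℤ) ^ (i : ℕ) •
          (faceAlg R A n i).toLinearMap.lTensor A ((ψ R A n).hom x) := by
      generalize (ψ R A n).hom x = z
      induction z using TensorProduct.induction_on with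
      | zero => simp
      | add p q hp hq => simp only [map_add, hp, hq, smul_add, Finset.sum_add_distrib]
      | tmul a y =>
        rw [LinearMap.lTensor_tmul]
        show a ⊗ₜ[R] (∑ i : Fin (n + 2), (-1 : ℤ) ^ (i : ℕ) • faceAlg R A n i y) = _
        rw [TensorProduct.tmul_sum]
        exact Finset.sum_congr rfl fun i _ => by rw [TensorProduct.tmul_smul]; rfl
    rw [hD, ← sub_eq_zero, sub_eq_add_neg, ← h1 x]
    simp only [← h2]
    exact h0
  have hq : (1 : A) ⊗ₜ[R] (LinearMap.range (D R A n)).mkQ x = 0 := by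
    have := congrArg ((LinearMap.range (D R A n)).mkQ.lTensor A) h3
    rw [LinearMap.lTensor_tmul, ← LinearMap.comp_apply, ← LinearMap.lTensor_comp,
      LinearMap.range_mkQ_comp, LinearMap.lTensor_zero, LinearMap.zero_apply] at this
    exact this
  rw [Module.FaithfullyFlat.one_tmul_eq_zero_iff, Submodule.mkQ_apply,
    Submodule.Quotient.mk_eq_zero] at hq
  exact hq

end Pre

/-- Let R → A be a faithfully flat homomorphism of commutative rings. The Amitsur complex A → A ⊗_R A →
A ⊗_R A ⊗_R A → ⋯, whose differential is the alternating sum of the maps inserting a unit in each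
tensor slot, is realised here as the alternating coface complex (of underlying abelian groups) of
the Čech conerve of R → A in the category of commutative rings, whose degree-n term is the
(n+1)-fold coproduct of A under R, i.e. the (n+1)-fold tensor power over R. Then this complex is
exact in every degree n ≥ 1. (Exactness at the start, namely that R → A is injective with image the
equaliser of the two maps A → A ⊗_R A, is the degree-0 statement and is not part of this row.) -/
theorem result (R A : Type u) [CommRing R] [CommRing A] [Algebra R A] [Module.FaithfullyFlat R A]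
    (n : ℕ) (hn : 0 < n) :
    (AlgebraicTopology.AlternatingCofaceMapComplex.obj
      ((Arrow.mk (CommRingCat.ofHom (algebraMap R A))).cechConerve ⋙ forget₂ CommRingCat RingCat ⋙
        forget₂ RingCat AddCommGrpCat)).ExactAt n := by
  obtain ⟨m, rfl⟩ : ∃ m, n = m + 1 := ⟨n - 1, by omega⟩
  rw [HomologicalComplex.exactAt_iff' _ m (m + 1) (m + 2) (by simp) (by simp), ShortComplex.ab_exact_iff]
  intro x hx
  have hd : ∀ k (y : K R A k),
      ((AlgebraicTopology.AlternatingCofaceMapComplex.obj
      ((Arrow.mk (CommRingCat.ofHom (algebraMap R A))).cechConerve ⋙ forget₂ CommRingCat RingCat ⋙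
        forget₂ RingCat AddCommGrpCat)).d k (k + 1)).hom y = D R A k y := by
    intro k y
    simp only [AlgebraicTopology.AlternatingCofaceMapComplex.obj, CochainComplex.of_d,
      AlgebraicTopology.AlternatingCofaceMapComplex.objD]
    have key : ∀ {X Y : AddCommGrpCat.{u}} (F : Fin (k + 2) → (X ⟶ Y)) (z : X),
        (∑ i, F i).hom z = ∑ i, (F i).hom z := fun F z => by
      show AddCommGrpCat.homAddEquiv (∑ i, F i) z = _
      rw [map_sum, AddMonoidHom.finsetSum_apply]
      rfl
    refine (key (X := ((Arrow.mk (CommRingCat.ofHom (algebraMap R A))).cechConerve ⋙ forget₂ CommRingCat RingCat ⋙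
      forget₂ RingCat AddCommGrpCat).obj (SimplexCategory.mk k)) _ y).trans (Finset.sum_congr rfl fun i _ => rfl)
  have h : D R A (m + 1) x = 0 := by rw [← hd]; exact hx
  obtain ⟨w, hw⟩ := exact_D R A m x h
  exact ⟨w, by rw [← hw]; exact hd m w⟩

end Groth.Agent.S15057
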