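import Groth.Statements.S15058
-- import your own Groth.Agent.* helpers here

set_option autoImplicit false
universe u
open FmlGrp

namespace Groth.Agent.S15058


open PowerSeries in
lemma pow_dvd_pow_sub {S : Type u} [CommRing S] {x a a' : S} {n : ℕ} (ha : x ∣ a) (ha' : x ∣ a')
    (h : x ^ n ∣ a - a') (i : ℕ) : x ^ (n + i) ∣ a ^ (i + 1) - a' ^ (i + 1) := by
  induction i with
  | zero => simpa using h
  | succ i ih =>
    have e : a ^ (i + 1 + 1) - a' ^ (i + 1 + 1) =
        a * (a ^ (i + 1) - a' ^ (i + 1)) + (a - a') * a' ^ (i + 1) := by ring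
    rw [e]
    refine dvd_add ?_ ?_
    · rw [show n + (i + 1) = 1 + (n + i) by omega, pow_add, pow_one]
      exact mul_dvd_mul ha ih
    · rw [pow_add]
      exact mul_dvd_mul h (pow_dvd_pow_of_dvd ha' _)

lemma monomial_diff {S : Type u} [CommRing S] {x a a' b b' : S} {n : ℕ} (ha : x ∣ a) (ha' : x ∣ a')
    (hb : x ∣ b) (hb' : x ∣ b') (h : x ^ n ∣ a - a') (h' : x ^ n ∣ b - b') (i j : ℕ)
    (hij : i + j ≠ 1) : x ^ (n + 1) ∣ a ^ i * b ^ j - a' ^ i * b' ^ j := by
  rcases i with _ | i
  · rcases j with _ | _ | j
    · simp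
    · simp at hij
    · simpa using dvd_trans (pow_dvd_pow x (by omega)) (pow_dvd_pow_sub hb hb' h' (j + 1))
  · rcases j with _ | j
    · rcases i with _ | i
      · simp at hij
      · simpa using dvd_trans (pow_dvd_pow x (by omega)) (pow_dvd_pow_sub ha ha' h (i + 1))
    · have e : a ^ (i + 1) * b ^ (j + 1) - a' ^ (i + 1) * b' ^ (j + 1) =
          (a ^ (i + 1) - a' ^ (i + 1)) * b ^ (j + 1) + a' ^ (i + 1) * (b ^ (j + 1) - b' ^ (j + 1)) := by
        ring
      rw [e]
      refine dvd_add ?_ ?_
      · rw [pow_succ]
        exact mul_dvd_mul (dvd_trans (pow_dvd_pow x (by omega)) (pow_dvd_pow_sub ha ha' h i))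
          (dvd_pow hb (by omega))
      · rw [pow_succ']
        exact mul_dvd_mul (dvd_pow ha' (by omega))
          (dvd_trans (pow_dvd_pow x (by omega)) (pow_dvd_pow_sub hb hb' h' j))

variable {R : Type u} [CommRing R] (F : FormalGroup R)

lemma hasSubst_pair {a b : PowerSeries R} (ha : a.constantCoeff = 0) (hb : b.constantCoeff = 0) :
    MvPowerSeries.HasSubst ![a, b] :=
  MvPowerSeries.hasSubst_of_constantCoeff_zero (fun s => by fin_cases s <;> assumption)

lemma constantCoeff_pair {a b : PowerSeries R} (ha : a.constantCoeff = 0)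
    (hb : b.constantCoeff = 0) :
    PowerSeries.constantCoeff (F.toPowerSeries.subst ![a, b] : PowerSeries R) = 0 :=
  MvPowerSeries.constantCoeff_subst_eq_zero (hasSubst_pair ha hb)
    (fun s => by fin_cases s <;> assumption) F.zero_constantCoeff

/-- Contraction: modulo one more power of `X`, `F` is addition. -/
lemma contraction {a a' b b' : PowerSeries R} (ha : a.constantCoeff = 0)
    (ha' : a'.constantCoeff = 0) (hb : b.constantCoeff = 0) (hb' : b'.constantCoeff = 0) {n : ℕ}
    (h : PowerSeries.X ^ n ∣ a - a') (h' : PowerSeries.X ^ n ∣ b - b') :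
    PowerSeries.X ^ (n + 1) ∣ (F.toPowerSeries.subst ![a, b] : PowerSeries R) -
      F.toPowerSeries.subst ![a', b'] - ((a - a') + (b - b')) := by
  rw [PowerSeries.X_pow_dvd_iff]
  intro m hm
  rw [map_sub, map_sub, map_add, sub_eq_zero]
  simp only [PowerSeries.coeff]
  rw [MvPowerSeries.coeff_subst (hasSubst_pair ha hb),
    MvPowerSeries.coeff_subst (hasSubst_pair ha' hb'),
    ← finsum_sub_distrib (MvPowerSeries.coeff_subst_finite (hasSubst_pair ha hb) _ _)
      (MvPowerSeries.coeff_subst_finite (hasSubst_pair ha' hb') _ _)]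
  rw [finsum_eq_sum_of_support_subset (s := {Finsupp.single 0 1, Finsupp.single 1 1})]
  · rw [Finset.sum_pair (by simp [Finsupp.single_left_inj])]
    simp [F.lin_coeff_X, F.lin_coeff_Y]
  · intro d hd
    rw [Function.mem_support] at hd
    by_contra hd'
    apply hd
    have hij : d 0 + d 1 ≠ 1 := by
      intro e
      apply hd'
      simp only [Finset.coe_insert, Finset.coe_singleton, Set.mem_insert_iff,
        Set.mem_singleton_iff]
      rcases Nat.eq_zero_or_pos (d 0) with h0 | h0
      · right
        ext k; fin_cases k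
        · simpa using h0
        · simp; omega
      · left
        ext k; fin_cases k
        · simp; omega
        · simp; omega
    have key := monomial_diff (PowerSeries.X_dvd_iff.mpr ha) (PowerSeries.X_dvd_iff.mpr ha')
      (PowerSeries.X_dvd_iff.mpr hb) (PowerSeries.X_dvd_iff.mpr hb') h h' (d 0) (d 1) hij
    rw [PowerSeries.X_pow_dvd_iff] at key
    have := key m hm
    rw [map_sub] at this
    simp only [PowerSeries.coeff] at this
    rw [← smul_sub]
    have hp : ∀ u v : PowerSeries R, (d.prod fun s e => ![u, v] s ^ e) = u ^ d 0 * v ^ d 1 := by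
      intro u v
      rw [Finsupp.prod_fintype _ _ (fun i => pow_zero _), Fin.prod_univ_two]
      rfl
    rw [hp, hp, this, smul_zero]

/-- A series `g` with `E g = 0`, for `E` contracting towards the identity. -/
lemma exists_root (E : PowerSeries R → PowerSeries R)
    (h0 : ∀ g, g.constantCoeff = 0 → (E g).constantCoeff = 0)
    (hE : ∀ g g', g.constantCoeff = 0 → g'.constantCoeff = 0 → ∀ n, PowerSeries.X ^ n ∣ g - g' →
      PowerSeries.X ^ (n + 1) ∣ E g - E g' - (g - g')) :
    ∃ g : PowerSeries R, g.constantCoeff = 0 ∧ E g = 0 := by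
  let s : ℕ → PowerSeries R := fun k => Nat.rec 0 (fun _ g => g - E g) k
  have hs0 : ∀ k, (s k).constantCoeff = 0 := by
    intro k
    induction k with
    | zero => simp [s]
    | succ k ih => show (s k - E (s k)).constantCoeff = 0; simp [ih, h0 _ ih]
  have hsE : ∀ k, PowerSeries.X ^ (k + 1) ∣ E (s k) := by
    intro k
    induction k with
    | zero => simpa using PowerSeries.X_dvd_iff.mpr (h0 _ (hs0 0))
    | succ k ih =>
      have hd : PowerSeries.X ^ (k + 1) ∣ s (k + 1) - s k := by
        show _ ∣ s k - E (s k) - s k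
        simpa using ih
      have := hE _ _ (hs0 (k + 1)) (hs0 k) (k + 1) hd
      have e : E (s (k + 1)) - E (s k) - (s (k + 1) - s k) = E (s (k + 1)) := by
        show _ - (s k - E (s k) - s k) = _
        ring
      rwa [e] at this
  have hsd : ∀ k j, PowerSeries.X ^ (k + 1) ∣ s (k + j) - s k := by
    intro k j
    induction j with
    | zero => simp
    | succ j ih =>
      have e : s (k + (j + 1)) - s k = (s (k + j) - s k) - E (s (k + j)) := by
        show s (k + j) - E (s (k + j)) - s k = _
        ring
      rw [e]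
      exact dvd_sub ih (dvd_trans (pow_dvd_pow _ (by omega)) (hsE (k + j)))
  let g : PowerSeries R := PowerSeries.mk fun n => (s n).coeff n
  have hg : ∀ k, PowerSeries.X ^ (k + 1) ∣ g - s k := by
    intro k
    rw [PowerSeries.X_pow_dvd_iff]
    intro m hm
    obtain ⟨j, rfl⟩ : ∃ j, k = m + j := ⟨k - m, by omega⟩
    have := PowerSeries.X_pow_dvd_iff.mp (hsd m j) m (by omega)
    rw [map_sub, sub_eq_zero] at this
    simp [g, this]
  have hg0 : g.constantCoeff = 0 := by
    have := PowerSeries.X_pow_dvd_iff.mp (hg 0) 0 (by omega)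
    simpa [hs0] using this
  refine ⟨g, hg0, ?_⟩
  ext m
  rw [map_zero]
  have h1 := hE _ _ hg0 (hs0 m) (m + 1) (hg m)
  have h2 : PowerSeries.X ^ (m + 1) ∣ E g := by
    have h3 := dvd_add (dvd_add (dvd_trans (pow_dvd_pow _ (by omega)) h1) (hg m)) (hsE m)
    convert h3 using 1
    ring
  exact PowerSeries.X_pow_dvd_iff.mp h2 m (by omega)

lemma exists_right_inv (a : PowerSeries R) (ha : a.constantCoeff = 0) :
    ∃ g : PowerSeries R, g.constantCoeff = 0 ∧ F.toPowerSeries.subst ![a, g] = (0 : PowerSeries R) :=
  exists_root _ (fun _ hg => constantCoeff_pair F ha hg) fun g g' hg hg' n h => by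
    simpa using contraction F ha ha hg hg' (n := n) (by simp) h

lemma exists_left_inv (a : PowerSeries R) (ha : a.constantCoeff = 0) :
    ∃ g : PowerSeries R, g.constantCoeff = 0 ∧ F.toPowerSeries.subst ![g, a] = (0 : PowerSeries R) :=
  exists_root _ (fun _ hg => constantCoeff_pair F hg ha) fun g g' hg hg' n h => by
    simpa using contraction F hg hg' ha ha (n := n) h (by simp)

/-- A left inverse equals a right inverse. -/
lemma left_eq_right {a g k : PowerSeries R} (ha : a.constantCoeff = 0) (hg : g.constantCoeff = 0)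
    (hk : k.constantCoeff = 0) (h1 : F.toPowerSeries.subst ![g, a] = (0 : PowerSeries R))
    (h2 : F.toPowerSeries.subst ![a, k] = (0 : PowerSeries R)) : g = k := by
  have H : ∀ {f : PowerSeries R}, f.constantCoeff = 0 → PowerSeries.HasSubst f :=
    fun hf => PowerSeries.HasSubst.of_constantCoeff_zero' hf
  calc g = F.toPowerSeries.subst ![g, (0 : PowerSeries R)] := (F.add_zero (H hg)).symm
    _ = F.toPowerSeries.subst ![g, (F.toPowerSeries.subst ![a, k] : PowerSeries R)] := by rw [h2]
    _ = F.toPowerSeries.subst ![(F.toPowerSeries.subst ![g, a] : PowerSeries R), k] :=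
      (F.assoc' (H hg) (H ha) (H hk)).symm
    _ = F.toPowerSeries.subst ![(0 : PowerSeries R), k] := by rw [h1]
    _ = k := F.zero_add (H hk)

/-- Let R be a commutative ring and F(X,Y) ∈ R[[X,Y]] a one-dimensional formal group law (zero constant
term, linear part X + Y, associative). Then there is a power series g(X) ∈ R[[X]] with zero constant
term which is a two-sided inverse for F, F(X, g(X)) = 0 = F(g(X), X), and it is unique: every power
series with zero constant term which is a right inverse or a left inverse equals g. (The published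
text proves this for formal group laws of any finite dimension with coefficients in a complete
Noetherian local ring; the argument is a formal degree-by-degree construction, and this row states
the one-dimensional case over an arbitrary commutative ring.) -/
theorem result (R : Type u) [CommRing R] (F : FormalGroup R) :
    ∃ g : PowerSeries R, g.constantCoeff = 0 ∧
      F.toPowerSeries.subst ![PowerSeries.X, g] = (0 : PowerSeries R) ∧
      F.toPowerSeries.subst ![g, PowerSeries.X] = (0 : PowerSeries R) ∧
      ∀ k : PowerSeries R, k.constantCoeff = 0 →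
        (F.toPowerSeries.subst ![PowerSeries.X, k] = (0 : PowerSeries R) ∨
          F.toPowerSeries.subst ![k, PowerSeries.X] = (0 : PowerSeries R)) → k = g := by
  have hX : (PowerSeries.X : PowerSeries R).constantCoeff = 0 := PowerSeries.constantCoeff_X
  obtain ⟨g, hg, hr⟩ := exists_right_inv F _ hX
  obtain ⟨g', hg', hl⟩ := exists_left_inv F _ hX
  obtain rfl := left_eq_right F hX hg' hg hl hr
  refine ⟨g', hg, hr, hl, ?_⟩
  rintro k hk (h | h)
  · exact (left_eq_right F hX hg hk hl h).symm
  · exact left_eq_right F hX hk hg h hr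

end Groth.Agent.S15058
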