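import Groth.Statements.S15060
import Groth.Agent.LubinTateLib.Main

set_option autoImplicit false
universe u
open LubinTate

namespace Groth.Agent.S15060

/-- Let O be a discrete valuation ring with finite residue field of cardinality q, π a uniformizer of O,
f = πT + T^q ∈ O[[T]], and F a one-dimensional formal group law over O for which f is an
endomorphism, f(F(X,Y)) = F(f(X), f(Y)). For α ∈ O write [α] for a power series with zero constant
term and linear coefficient α commuting with f (it is unique). Then for all α, β ∈ O and all such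
series [α], [β], [αβ], [α+β] one has [α]([β](T)) = [αβ](T) and F([α](T), [β](T)) = [α+β](T): the map
α ↦ [α] is a ring homomorphism from O to the endomorphisms of F with their formal-group addition and
composition. (The published statement is for the ring of integers of a finite extension of ℚ_p or of
𝔽_q((X)); completeness is not used and any discrete valuation ring with finite residue field is
allowed here.) -/
theorem result (O : Type u) [CommRing O] [IsDomain O] [IsDiscreteValuationRing O]
    [Finite (IsLocalRing.ResidueField O)] (π : O) (hπ : Irreducible π) (f : PowerSeries O)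
    (hf : f = π • PowerSeries.X + PowerSeries.X ^ Nat.card (IsLocalRing.ResidueField O))
    (F : FormalGroup O)
    (hF : PowerSeries.subst F.toPowerSeries f =
        MvPowerSeries.subst (fun i : Fin 2 => PowerSeries.subst (MvPowerSeries.X i : MvPowerSeries (Fin 2) O) f)
          F.toPowerSeries)
    (α β : O) (gα gβ gαβ gs : PowerSeries O)
    (hα0 : gα.constantCoeff = 0) (hα1 : gα.coeff 1 = α) (hαf : PowerSeries.subst gα f = PowerSeries.subst f gα)
    (hβ0 : gβ.constantCoeff = 0) (hβ1 : gβ.coeff 1 = β) (hβf : PowerSeries.subst gβ f = PowerSeries.subst f gβ)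
    (hαβ0 : gαβ.constantCoeff = 0) (hαβ1 : gαβ.coeff 1 = α * β)
    (hαβf : PowerSeries.subst gαβ f = PowerSeries.subst f gαβ)
    (hs0 : gs.constantCoeff = 0) (hs1 : gs.coeff 1 = α + β) (hsf : PowerSeries.subst gs f = PowerSeries.subst f gs) :
    PowerSeries.subst gβ gα = gαβ ∧ F.toPowerSeries.subst ![gα, gβ] = gs := by
  have hq : Nat.card (IsLocalRing.ResidueField O) ≠ 0 := Nat.card_pos.ne'
  open Groth.Agent.LubinTateLib in
  have hA := (isLT_iff_powerSeries hf hα0).2 hαf
  open Groth.Agent.LubinTateLib in
  have hB := (isLT_iff_powerSeries hf hβ0).2 hβf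
  open Groth.Agent.LubinTateLib in
  have hAB := (isLT_iff_powerSeries hf hαβ0).2 hαβf
  open Groth.Agent.LubinTateLib in
  have hS := (isLT_iff_powerSeries hf hs0).2 hsf
  open Groth.Agent.LubinTateLib in
  have hFl := (isLT_iff hf F.zero_constantCoeff).2 hF
  have hcb : ∀ _ : Unit, MvPowerSeries.constantCoeff gβ = 0 := fun _ => hβ0
  have hc2 : ∀ i, MvPowerSeries.constantCoeff ((![gα, gβ] : Fin 2 → PowerSeries O) i) = 0 :=
    fun i => by fin_cases i <;> assumption
  constructor
  · open MvPowerSeries Groth.Agent.LubinTateLib in
    refine eq_of_isLT hπ (constantCoeff_subst_eq_zero (hasSubst_of_constantCoeff_zero hcb) hcb hα0) hαβ0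
      (fun j => ?_) (hA.subst hq hcb fun _ => hB) hAB
    open MvPowerSeries Groth.Agent.LubinTateLib in
    rw [PowerSeries.subst_def, coeff_single_subst hcb, Fintype.sum_unique]
    show gα.coeff 1 * gβ.coeff 1 = gαβ.coeff 1
    rw [hα1, hβ1, hαβ1]
  · open MvPowerSeries Groth.Agent.LubinTateLib in
    refine eq_of_isLT hπ (constantCoeff_subst_eq_zero (hasSubst_of_constantCoeff_zero hc2) hc2 F.zero_constantCoeff)
      hs0 (fun j => ?_) (hFl.subst hq hc2 fun i => by fin_cases i <;> assumption) hS
    open MvPowerSeries Groth.Agent.LubinTateLib in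
    rw [coeff_single_subst hc2, Fin.sum_univ_two, F.lin_coeff_X, F.lin_coeff_Y, one_mul, one_mul]
    show gα.coeff 1 + gβ.coeff 1 = gs.coeff 1
    rw [hα1, hβ1, hs1]

end Groth.Agent.S15060
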