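import Groth.Statements.S15062
import Mathlib

set_option autoImplicit false
universe u
open scoped TensorProduct
open Hopf

namespace Groth.Agent.S15062

theorem idem_local {B : Type u} [CommRing B] [IsLocalRing B] {x : B} (h : IsIdempotentElem x) : x = 0 ∨ x = 1 := by
  rcases IsLocalRing.isUnit_or_isUnit_one_sub_self x with hu | hu
  · exact Or.inr (hu.mul_left_cancel (h.eq.trans (mul_one x).symm))
  · exact Or.inl (hu.mul_right_eq_zero.1 (by rw [sub_mul, one_mul, h.eq, sub_self]))

theorem counit_factor {R : Type u} [CommRing R] {C B : Type u} [CommRing C] [HopfAlgebra R C] [Module.Finite R C]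
    [Algebra.Etale R C] [CommRing B] [Algebra R B] [IsLocalRing B] (χ : C →ₐ[R] B) (δ : B →ₐ[R] R)
    (hδ : δ.comp χ = Bialgebra.counitAlgHom R C) : χ = (Algebra.ofId R B).comp (Bialgebra.counitAlgHom R C) := by
  haveI : Nontrivial R := (algebraMap R B).domain_nontrivial
  let ε := Bialgebra.counitAlgHom R C
  let I : Ideal C := RingHom.ker ε
  haveI : Algebra.FinitePresentation R C := inferInstance
  have hfg : I.FG := Algebra.FinitePresentation.ker_fG_of_surjective ε fun r => ⟨algebraMap R C r, ε.commutes r⟩
  have hI : IsIdempotentElem I := by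
    have h1 : Ideal.Quotient.mkₐ R (I ^ 2) = (Algebra.ofId R (C ⧸ I ^ 2)).comp ε := by
      refine Algebra.FormallyUnramified.lift_unique (I.map (Ideal.Quotient.mk (I ^ 2))) ⟨2, ?_⟩ _ _ (AlgHom.ext fun c => ?_)
      · rw [← Ideal.map_pow, Ideal.map_quotient_self]; rfl
      · show Ideal.Quotient.mk _ (Ideal.Quotient.mk (I ^ 2) c) = Ideal.Quotient.mk _ (algebraMap R (C ⧸ I ^ 2) (ε c))
        rw [Ideal.Quotient.eq]
        have hmem : c - algebraMap R C (ε c) ∈ I := by simp [I, RingHom.mem_ker, ε]
        have := Ideal.mem_map_of_mem (Ideal.Quotient.mk (I ^ 2)) hmem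
        rwa [map_sub] at this
    refine le_antisymm Ideal.mul_le_left fun c hc => ?_
    have h2 := AlgHom.congr_fun h1 c
    rw [AlgHom.comp_apply, show ε c = 0 from hc, map_zero, Ideal.Quotient.mkₐ_eq_mk, Ideal.Quotient.eq_zero_iff_mem, pow_two] at h2
    exact h2
  obtain ⟨f, hf, hfI⟩ := (Ideal.isIdempotentElem_iff_of_fg I hfg).1 hI
  have hf0 : ε f = 0 := show f ∈ I from hfI ▸ Submodule.mem_span_singleton_self f
  have hf' : χ f = 0 := by
    have h1 : IsIdempotentElem (χ f) := hf.map χ
    rcases idem_local h1 with h | h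
    · exact h
    · have h2 := AlgHom.congr_fun hδ f
      rw [AlgHom.comp_apply, h, map_one] at h2
      exact absurd (h2.trans hf0) (one_ne_zero (α := R))
  refine AlgHom.ext fun c => ?_
  have hc : c - algebraMap R C (ε c) ∈ I := by simp [I, ε, RingHom.mem_ker]
  rw [hfI, Submodule.mem_span_singleton] at hc
  obtain ⟨u, hu⟩ := hc
  have := congrArg χ hu
  rw [smul_eq_mul, map_mul, hf', mul_zero, map_sub, AlgHom.commutes, eq_comm, sub_eq_zero] at this
  exact this


/-- Let R be a henselian Noetherian local ring and A a commutative Hopf algebra over R which is finite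
and flat as an R-module (a finite flat R-group G = Spec A, not assumed commutative); let e ∈ A be an
idempotent with ε(e) = 1 such that A/(1 − e) is a local ring, so that G⁰ = Spec A/(1 − e) is the
connected component of the unit section, and let B ⊆ A be the subalgebra of functions invariant
under right translation by G⁰: the equaliser of a ↦ (id ⊗ π)(Δ a) and a ↦ a ⊗ 1 into A ⊗_R A/(1 − e)
(so Spec B = G^ét). Then: (2) for every commutative Hopf algebra C over R which is finite étale over
R (a finite étale R-group H) and every bialgebra homomorphism φ : C → A (a homomorphism G → H), the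
image of φ lies in B — the homomorphism factors (necessarily uniquely, A being faithfully flat over
B) through G → G^ét; (3) for every commutative Hopf algebra D over R which is finite and flat over R
and a local ring (a connected finite flat R-group H) and every bialgebra homomorphism ψ : A → D (a
homomorphism H → G), ψ(e) = 1, i.e. ψ kills the ideal (1 − e) and the homomorphism factors
(uniquely) through G⁰ → G. -/
theorem result (R : Type u) [CommRing R] [HenselianLocalRing R] [IsNoetherianRing R]
    (A : Type u) [CommRing A] [HopfAlgebra R A] [Module.Finite R A] [Module.Flat R A]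
    (e : A) (he : IsIdempotentElem e) (hε : Bialgebra.counitAlgHom R A e = 1)
    [IsLocalRing (A ⧸ Ideal.span ({1 - e} : Set A))] :
    (∀ (C : Type u) [CommRing C] [HopfAlgebra R C] [Module.Finite R C] [Algebra.Etale R C] (φ : C →ₐc[R] A) (c : C),
        φ c ∈ (AlgHom.equalizer
          ((Algebra.TensorProduct.map (AlgHom.id R A) (Ideal.Quotient.mkₐ R (Ideal.span ({1 - e} : Set A)))).comp
            (Bialgebra.comulAlgHom R A))
          (Algebra.TensorProduct.includeLeft : A →ₐ[R] A ⊗[R] (A ⧸ Ideal.span ({1 - e} : Set A))))) ∧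
      ∀ (D : Type u) [CommRing D] [HopfAlgebra R D] [Module.Finite R D] [Module.Flat R D] [IsLocalRing D]
        (ψ : A →ₐc[R] D), ψ e = 1 := by
  refine ⟨fun C _ _ _ _ φ c => ?_, fun D _ _ _ _ _ ψ => ?_⟩
  · let I := Ideal.span ({1 - e} : Set A)
    have hle : I ≤ RingHom.ker (Bialgebra.counitAlgHom R A) := by
      rw [Ideal.span_le, Set.singleton_subset_iff, SetLike.mem_coe, RingHom.mem_ker, map_sub, map_one, hε, sub_self]
    let δ : A ⧸ I →ₐ[R] R := Ideal.Quotient.liftₐ I (Bialgebra.counitAlgHom R A) hle
    have hq := counit_factor ((Ideal.Quotient.mkₐ R I).comp (φ : C →ₐ[R] A)) δ (AlgHom.ext fun x => by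
      show Coalgebra.counit (R := R) (φ x) = Coalgebra.counit (R := R) x
      rw [CoalgHomClass.counit_comp_apply])
    rw [AlgHom.mem_equalizer]
    show TensorProduct.map LinearMap.id (Ideal.Quotient.mkₐ R I).toLinearMap (Coalgebra.comul (φ c)) = φ c ⊗ₜ[R] (1 : A ⧸ I)
    rw [← CoalgHomClass.map_comp_comul_apply φ c, ← (Coalgebra.Repr.arbitrary R c).eq]
    simp only [map_sum, TensorProduct.map_tmul, LinearMap.id_apply]
    have h2 : ∀ x, (Ideal.Quotient.mkₐ R I).toLinearMap (φ x) = algebraMap R (A ⧸ I) (Coalgebra.counit x) :=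
      fun x => AlgHom.congr_fun hq x
    have h3 : ∑ i ∈ (Coalgebra.Repr.arbitrary R c).index, Coalgebra.counit (R := R) ((Coalgebra.Repr.arbitrary R c).right i) •
        (Coalgebra.Repr.arbitrary R c).left i = c := by
      have := congrArg (TensorProduct.rid R C) (Coalgebra.sum_tmul_counit_eq (Coalgebra.Repr.arbitrary R c))
      simp only [map_sum, TensorProduct.rid_tmul, one_smul] at this
      exact this
    conv_rhs => rw [← h3, map_sum, TensorProduct.sum_tmul]
    refine Finset.sum_congr rfl fun i _ => ?_
    show φ _ ⊗ₜ[R] (Ideal.Quotient.mkₐ R I).toLinearMap (φ _) = _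
    rw [h2, map_smul, TensorProduct.smul_tmul, Algebra.algebraMap_eq_smul_one]
  · have h1 : IsIdempotentElem (ψ e) := he.map ψ
    rcases idem_local h1 with h | h
    · exfalso
      have h2 : Bialgebra.counitAlgHom R D (ψ e) = Bialgebra.counitAlgHom R A e := CoalgHomClass.counit_comp_apply ψ e
      rw [h, map_zero, hε] at h2
      exact one_ne_zero h2.symm
    · exact h

end Groth.Agent.S15062
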