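import Groth.Statements.S15064
import Groth.Agent.HopfUnip.PrimPow
import Groth.Agent.Comod.Module
import Mathlib.RingTheory.Artinian.Module

set_option autoImplicit false
universe u
open scoped TensorProduct
open Hopf

namespace Groth.Agent.S15064

open scoped TensorProduct
open WithConv in
open Groth.Agent.Comod Groth.Agent.HopfUnip in
theorem isUnipotent_of_dual {k : Type u} [Field k] {A : Type u} [CommRing A] [HopfAlgebra k A]
    (hdual : IsLocalRing (WithConv (A →ₗ[k] k))) : HopfRep.IsUnipotent k A := by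
  intro V _ _ cV hV hnt hb
  obtain ⟨S, hS0, hfin, hS, hmin⟩ := exists_minimal_subcomod (k := k) (A := A) (V := V)
  obtain ⟨x, hx, hx0⟩ := S.ne_bot_iff.1 hS0
  have key : ∀ φ : A →ₗ[k] k, φ 1 = 0 → actL φ x = 0 := by
    intro φ hφ
    by_contra hne
    have hor : orbitSub k A (actL φ x) = S := by
      refine (hmin _ (isSubcomod_orbitSub _) fun y hy => ?_).resolve_left fun h => hne ((Submodule.eq_bot_iff _).1 h _ (self_mem_orbitSub _))
      obtain ⟨θ, rfl⟩ := mem_orbitSub_iff.1 hy
      exact IsSubcomod.actL_mem hS θ (IsSubcomod.actL_mem hS φ hx)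
    obtain ⟨ψ, hψ⟩ := mem_orbitSub_iff.1 (hor.symm ▸ hx : x ∈ orbitSub k A (actL φ x))
    have h1 : (conv ψ φ) 1 = 0 := by
      simp [conv, Bialgebra.comul_one, Algebra.TensorProduct.one_def, hφ]
    have hnu : ¬ IsUnit (toConv (conv ψ φ) : DualAlg k A) := by
      rintro ⟨u, hu⟩
      have h2 := congrArg (fun f : DualAlg k A => f.ofConv (1 : A)) u.mul_inv
      simp only [conv_eq_mul, hu, ofConv_one', Bialgebra.counit_one] at h2
      simp [conv, Bialgebra.comul_one, Algebra.TensorProduct.one_def, h1, hφ] at h2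
    obtain ⟨u, hu⟩ := (IsLocalRing.isUnit_or_isUnit_of_isUnit_add (a := (toConv (conv ψ φ) : DualAlg k A))
      (b := 1 - toConv (conv ψ φ)) (by rw [add_sub_cancel]; exact isUnit_one)).resolve_left hnu
    have h3 : (u : DualAlg k A) • x = 0 := by
      rw [hu, sub_smul, one_smul, dual_smul_def, ofConv_toConv, ← actL_actL, hψ, sub_self]
    exact hx0 (by rw [← one_smul (DualAlg k A) x, ← u.inv_mul, mul_smul, h3, smul_zero])
  refine hx0 ((Submodule.eq_bot_iff _).1 hb x ?_)
  refine ext_slR fun φ => ?_
  have h := key (φ - φ 1 • Coalgebra.counit (R := k)) (by simp)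
  rw [show φ - φ 1 • Coalgebra.counit (R := k) = φ + (-φ 1) • Coalgebra.counit (R := k) from (sub_eq_add_neg _ _).trans (congrArg (φ + ·) (neg_smul (φ 1) _).symm),
    actL_map_add, actL_map_smul, actL_counit, neg_smul, ← sub_eq_add_neg, sub_eq_zero] at h
  rw [← actL_apply, h, slR_tmul]

open Groth.Agent.HopfUnip Groth.Agent.NormalQuot in
theorem adjoin_eq_top {k : Type u} [Field k] {A : Type u} [CommRing A] [HopfAlgebra k A] [IsNoetherianRing A]
    (hsimple : ∀ I : Ideal A, I.IsHopfIdeal k → I = ⊥ ∨ I = RingHom.ker (Bialgebra.counitAlgHom k A))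
    {y : A} (hy : Coalgebra.comul (R := k) y = y ⊗ₜ[k] (1 : A) + (1 : A) ⊗ₜ[k] y) (hy0 : y ≠ 0) :
    Algebra.adjoin k {y} = ⊤ := by
  have hB := isHopfSubalgebra_adjoin_primitive hy
  letI := hopfSub (Algebra.adjoin k {y}) hB
  let ψ := valHom (Algebra.adjoin k {y}) hB
  haveI := isHopfIdeal_kerIdeal ψ
  have hmem : y ∈ kerIdeal ψ := by
    refine Ideal.mem_map_of_mem _ (x := (⟨y, Algebra.self_mem_adjoin_singleton k y⟩ : Algebra.adjoin k {y})) ?_
    exact (CoalgHomClass.counit_comp_apply ψ _).symm.trans (counit_primitive hy)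
  have hJ := (hsimple _ (isHopfIdeal_kerIdeal ψ)).resolve_left fun h => hy0 ((Submodule.mem_bot A).1 (h ▸ hmem))
  refine eq_top_iff.2 fun a _ => ?_
  have h : a ∈ (ψ : Algebra.adjoin k {y} →ₐ[k] A).range := by
    rw [range_eq_invQ, mem_invQ, mem_semi, coactR_apply]
    have hπ : ∀ b, Ideal.Quotient.mkₐ k (kerIdeal ψ) b = algebraMap k _ (Coalgebra.counit (R := k) b) := fun b => by
      show Ideal.Quotient.mk _ b = _
      rw [← Ideal.Quotient.mk_algebraMap, Ideal.Quotient.eq, hJ, RingHom.mem_ker, map_sub, AlgHom.commutes]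
      exact sub_self _
    have e : ∀ z : A ⊗[k] A, (Ideal.Quotient.mkₐ k (kerIdeal ψ)).toLinearMap.lTensor A z =
        (TensorProduct.rid k A ((Coalgebra.counit (R := k) (A := A)).lTensor A z)) ⊗ₜ[k] (1 : A ⧸ kerIdeal ψ) := by
      intro z
      induction z with
      | zero => simp
      | tmul p q => simp [hπ, Algebra.algebraMap_eq_smul_one, TensorProduct.smul_tmul]
      | add y z hy hz => simp only [map_add, TensorProduct.add_tmul, hy, hz]
    rw [e, Coalgebra.lTensor_counit_comul]
    simp
  obtain ⟨b, rfl⟩ := h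
  exact b.2


/-- Let k be a field of characteristic p > 0 and A a finite-dimensional commutative and cocommutative
Hopf algebra over k (a finite commutative k-group G = Spec A) which is bi-infinitesimal — A is a
local ring and so is the dual algebra Hom_k(A, k) with the convolution product (G and its Cartier
dual are connected) — with dim_k A > 1, and assume G is simple: every Hopf ideal of A is either zero
or the augmentation ideal (G has no closed subgroup schemes other than G and 1). Then G is
isomorphic to α_p: A has a primitive element x (Δ(x) = x ⊗ 1 + 1 ⊗ x) with x^p = 0 whose powers 1,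
x, …, x^(p−1) are linearly independent over k, and dim_k A = p (so A = k[x]/(x^p) with x primitive). -/
theorem result (k : Type u) [Field k] (p : ℕ) [Fact p.Prime] [CharP k p]
    (A : Type u) [CommRing A] [HopfAlgebra k A] [Coalgebra.IsCocomm k A] [FiniteDimensional k A] [IsLocalRing A]
    (hdual : IsLocalRing (WithConv (A →ₗ[k] k))) (hA : 1 < Module.finrank k A)
    (hsimple : ∀ I : Ideal A, I.IsHopfIdeal k → I = ⊥ ∨ I = RingHom.ker (Bialgebra.counitAlgHom k A)) :
    ∃ x : A, Coalgebra.comul x = x ⊗ₜ[k] (1 : A) + (1 : A) ⊗ₜ[k] x ∧ x ^ p = 0 ∧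
      LinearIndependent k (fun i : Fin p => x ^ (i : ℕ)) ∧ Module.finrank k A = p := by
  haveI : Nontrivial A := (Bialgebra.counitAlgHom k A).toRingHom.domain_nontrivial
  haveI : IsArtinianRing A := IsArtinianRing.of_finite k A
  have hU := isUnipotent_of_dual hdual
  obtain ⟨a, ha⟩ : ∃ a : A, a ≠ Coalgebra.counit (R := k) a • 1 := by
    by_contra hcon
    push Not at hcon
    have hle : (⊤ : Submodule k A) ≤ Submodule.span k {1} := fun a _ => by
      rw [hcon a]; exact Submodule.smul_mem _ _ (Submodule.mem_span_singleton_self 1)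
    have := (Submodule.finrank_mono hle).trans (finrank_span_le_card ({1} : Set A))
    simp only [finrank_top, Set.toFinset_singleton, Finset.card_singleton] at this
    omega
  obtain ⟨x, hx0, hx⟩ := Groth.Agent.HopfUnip.exists_primitive_of_isUnipotent hU ha
  have hxnil : IsNilpotent x := by
    have hmax : (RingHom.ker (Bialgebra.counitAlgHom k A)).IsMaximal :=
      RingHom.ker_isMaximal_of_surjective _ fun r => ⟨algebraMap k A r, AlgHom.commutes _ r⟩
    exact mem_nilradical.1 (by
      rw [Ring.KrullDimLE.nilradical_eq_maximalIdeal, ← IsLocalRing.eq_maximalIdeal hmax]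
      exact Groth.Agent.HopfUnip.counit_primitive hx)
  have hp : Nat.Prime p := Fact.out
  have hxp : x ^ p = 0 := by
    by_contra hne
    have hy : Coalgebra.comul (R := k) (x ^ p) = (x ^ p) ⊗ₜ[k] (1 : A) + (1 : A) ⊗ₜ[k] (x ^ p) := by
      haveI : Nontrivial (A ⊗[k] A) :=
        (Algebra.TensorProduct.lift (Bialgebra.counitAlgHom k A) (Bialgebra.counitAlgHom k A) fun _ _ => Commute.all _ _).toRingHom.domain_nontrivial
      haveI : CharP (A ⊗[k] A) p := charP_of_injective_algebraMap (algebraMap k (A ⊗[k] A)).injective p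
      rw [Bialgebra.comul_pow, hx, add_pow_char, Algebra.TensorProduct.tmul_pow, Algebra.TensorProduct.tmul_pow,
        one_pow]
    have htop := adjoin_eq_top hsimple hy hne
    obtain ⟨P, hP⟩ : x ∈ (Polynomial.aeval (R := k) (x ^ p)).range := by
      rw [← Algebra.adjoin_singleton_eq_range_aeval, htop]; trivial
    have hP0 : P.coeff 0 = 0 := by
      have h : Coalgebra.counit (R := k) (Polynomial.aeval (x ^ p) P) = 0 :=
        (congrArg _ hP).trans (Groth.Agent.HopfUnip.counit_primitive hx)
      rw [show Coalgebra.counit (R := k) (Polynomial.aeval (x ^ p) P) = Bialgebra.counitAlgHom k A (Polynomial.aeval (x ^ p) P) from rfl,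
        ← Polynomial.aeval_algHom_apply, show Bialgebra.counitAlgHom k A (x ^ p) = 0 by
          rw [map_pow, show Bialgebra.counitAlgHom k A x = 0 from Groth.Agent.HopfUnip.counit_primitive hx, zero_pow hp.ne_zero],
        Polynomial.coe_aeval_eq_eval] at h
      rw [Polynomial.coeff_zero_eq_eval_zero]; exact h
    obtain ⟨Q, rfl⟩ := Polynomial.X_dvd_iff.2 hP0
    have hP' : x ^ p * Polynomial.aeval (x ^ p) Q = x := by
      refine Eq.trans ?_ hP
      show _ = Polynomial.aeval (x ^ p) (Polynomial.X * Q)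
      rw [map_mul, Polynomial.aeval_X]
    have e : x * (1 - x ^ (p - 1) * Polynomial.aeval (x ^ p) Q) = 0 := by
      rw [mul_sub, mul_one, ← mul_assoc, ← pow_succ', show p - 1 + 1 = p by have := hp.two_le; omega, hP', sub_self]
    have hu : IsUnit (1 - x ^ (p - 1) * Polynomial.aeval (x ^ p) Q) :=
      IsNilpotent.isUnit_one_sub (Commute.isNilpotent_mul_right (Commute.all _ _) (hxnil.pow_of_pos (by have := hp.two_le; omega)))
    exact hx0 (hu.mul_left_eq_zero.1 e)
  have hli := Groth.Agent.HopfUnip.linearIndependent_pow_primitive hx hx0 p fun d hd hdp h0 => by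
    have := Nat.le_of_dvd (by omega) ((CharP.cast_eq_zero_iff k p d).1 h0)
    omega
  refine ⟨x, hx, hxp, hli, ?_⟩
  have hspan : Submodule.span k (Set.range fun i : Fin p => x ^ (i : ℕ)) = ⊤ := by
    refine eq_top_iff.2 fun a _ => ?_
    obtain ⟨P, rfl⟩ : a ∈ (Polynomial.aeval (R := k) x).range := by
      rw [← Algebra.adjoin_singleton_eq_range_aeval, adjoin_eq_top hsimple hx hx0]; trivial
    show Polynomial.aeval x P ∈ _
    rw [Polynomial.aeval_eq_sum_range]
    refine Submodule.sum_mem _ fun i _ => Submodule.smul_mem _ _ ?_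
    by_cases hi : i < p
    · exact Submodule.subset_span ⟨⟨i, hi⟩, rfl⟩
    · rw [show x ^ i = 0 from pow_eq_zero_of_le (not_lt.1 hi) hxp]
      exact Submodule.zero_mem _
  rw [← finrank_top, ← hspan, finrank_span_eq_card hli, Fintype.card_fin]

end Groth.Agent.S15064
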