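import Groth.Statements.S15066
import Groth.Agent.HopfUnip.PrimPow
import Groth.Agent.S11930
import Groth.Agent.S3308
import Groth.Agent.HopfUnip.Primitive
import Mathlib.RingTheory.Artinian.Module

set_option autoImplicit false
universe u
open Hopf

namespace Groth.Agent.S15066

open scoped TensorProduct
open Groth.Agent.HopfUnip Groth.Agent.NormalQuot in
theorem adjoin_eq_top {k : Type u} [Field k] {A : Type u} [CommRing A] [HopfAlgebra k A] [IsNoetherianRing A]
    (hsimple : ∀ I : Ideal A, I.IsHopfIdeal k → I = ⊥ ∨ I = RingHom.ker (Bialgebra.counitAlgHom k A))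
    (B : Subalgebra k A) (hB : SGA3.IsHopfSubalgebra k A B)
    {y : A} (hyB : y ∈ B) (hyε : Coalgebra.counit (R := k) y = 0) (hy0 : y ≠ 0) :
    B = ⊤ := by
  letI := hopfSub B hB
  let ψ := valHom B hB
  haveI := isHopfIdeal_kerIdeal ψ
  have hmem : y ∈ kerIdeal ψ := by
    refine Ideal.mem_map_of_mem _ (x := (⟨y, hyB⟩ : B)) ?_
    exact (CoalgHomClass.counit_comp_apply ψ _).symm.trans hyε
  have hJ := (hsimple _ (isHopfIdeal_kerIdeal ψ)).resolve_left fun h => hy0 ((Submodule.mem_bot A).1 (h ▸ hmem))
  refine eq_top_iff.2 fun a _ => ?_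
  have h : a ∈ (ψ : B →ₐ[k] A).range := by
    rw [range_eq_invQ, mem_invQ, mem_semi, coactR_apply]
    have hπ : ∀ b, Ideal.Quotient.mkₐ k (kerIdeal ψ) b = algebraMap k _ (Coalgebra.counit (R := k) b) := fun b => by
      show Ideal.Quotient.mk _ b = _
      rw [← Ideal.Quotient.mk_algebraMap, Ideal.Quotient.eq, hJ, RingHom.mem_ker, map_sub, AlgHom.commutes]
      exact sub_self _
    have e : ∀ z : A ⊗[k] A, (Ideal.Quotient.mkₐ k (kerIdeal ψ)).toLinearMap.lTensor A z =
        (TensorProduct.rid k A ((Coalgebra.counit (R := k) (A := A)).lTensor A z)) ⊗ₜ[k] (1 : A ⧸ kerIdeal ψ) := by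
      intro z
      induction z with
      | zero => simp
      | tmul p q => simp [hπ, Algebra.algebraMap_eq_smul_one, TensorProduct.smul_tmul]
      | add y z hy hz => simp only [map_add, TensorProduct.add_tmul, hy, hz]
    rw [e, Coalgebra.lTensor_counit_comul]
    simp
  obtain ⟨b, rfl⟩ := h
  exact b.2

open Groth.Agent.NormalQuot in
theorem adjoin_pow_groupLike {k : Type u} [Field k] {A : Type u} [CommRing A] [HopfAlgebra k A]
    {g : A} (hg : IsGroupLikeElem k g) {N : ℕ} (hN : 0 < N) (hgN : g ^ N = 1) :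
    SGA3.IsHopfSubalgebra k A (Algebra.adjoin k {g}) := by
  let B := Algebra.adjoin k {g}
  have hanti : HopfAlgebraStruct.antipode k g = g ^ (N - 1) := by
    calc HopfAlgebraStruct.antipode k g = HopfAlgebraStruct.antipode k g * (g * g ^ (N - 1)) := by
          rw [← pow_succ', show N - 1 + 1 = N by omega, hgN, mul_one]
      _ = g ^ (N - 1) := by rw [← mul_assoc, hg.antipode_mul_cancel, one_mul]
  refine ⟨fun b hb => ?_, fun b hb => ?_⟩
  · induction hb using Algebra.adjoin_induction with
    | mem y hy =>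
      rw [Set.mem_singleton_iff.1 hy, hg.comul_eq_tmul_self]
      exact ⟨(⟨g, Algebra.self_mem_adjoin_singleton k g⟩ : B) ⊗ₜ[k] ⟨g, Algebra.self_mem_adjoin_singleton k g⟩, by simp [B]⟩
    | algebraMap r => exact ⟨algebraMap k (B ⊗[k] B) r, by simp [Algebra.TensorProduct.algebraMap_apply, B]⟩
    | add y z _ _ hy hz => rw [map_add]; exact add_mem hy hz
    | mul y z _ _ hy hz =>
      obtain ⟨u, hu⟩ := hy
      obtain ⟨v, hv⟩ := hz
      refine ⟨u * v, ?_⟩
      show Algebra.TensorProduct.map B.val B.val (u * v) = _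
      rw [map_mul, Bialgebra.comul_mul, ← hu, ← hv]
      rfl
  · induction hb using Algebra.adjoin_induction with
    | mem y hy =>
      rw [Set.mem_singleton_iff.1 hy, hanti]
      exact pow_mem (Algebra.self_mem_adjoin_singleton k g) _
    | algebraMap r => simp [Algebra.algebraMap_eq_smul_one, Subalgebra.smul_mem]
    | add y z _ _ hy hz => simpa using add_mem hy hz
    | mul y z _ _ hy hz =>
      rw [show HopfAlgebraStruct.antipode k (y * z) = HopfAlgebraStruct.antipode k y * HopfAlgebraStruct.antipode k z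
        from map_mul (HopfAlgebra.antipodeAlgHom k A) y z]
      exact mul_mem hy hz


/-- Let k be an algebraically closed field of characteristic p > 0 and A a finite-dimensional
commutative and cocommutative Hopf algebra over k (a finite commutative k-group G = Spec A) which is
a local ring (G connected) and whose dual algebra Hom_k(A, k) with the convolution product is
reduced (the Cartier dual of G is étale, i.e. G is multiplicative), with dim_k A > 1, and assume G
is simple: every Hopf ideal of A is either zero or the augmentation ideal (no closed subgroup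
schemes other than G and 1). Then G is isomorphic to μ_p: A has a group-like element g (Δ(g) = g ⊗
g, ε(g) = 1) with g^p = 1 whose powers 1, g, …, g^(p−1) are linearly independent over k, and dim_k A
= p (so A = k[g]/(g^p − 1)). -/
theorem result (k : Type u) [Field k] [IsAlgClosed k] (p : ℕ) [Fact p.Prime]
    [CharP k p] (A : Type u) [CommRing A] [HopfAlgebra k A] [Coalgebra.IsCocomm k A] [FiniteDimensional k A]
    [IsLocalRing A] (hdual : IsReduced (WithConv (A →ₗ[k] k))) (hA : 1 < Module.finrank k A)
    (hsimple : ∀ I : Ideal A, I.IsHopfIdeal k → I = ⊥ ∨ I = RingHom.ker (Bialgebra.counitAlgHom k A)) :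
    ∃ g : A, IsGroupLikeElem k g ∧ g ^ p = 1 ∧ LinearIndependent k (fun i : Fin p => g ^ (i : ℕ)) ∧
      Module.finrank k A = p := by
  haveI : Nontrivial A := (Bialgebra.counitAlgHom k A).toRingHom.domain_nontrivial
  haveI : IsArtinianRing A := IsArtinianRing.of_finite k A
  have hp : Nat.Prime p := Fact.out
  have hD := Groth.Agent.HopfUnip.isDiagonalizable_of_forall_primitive (Groth.Agent.S3308.result k A)
    fun f hf => Groth.Agent.S11930.result k A hdual f hf
  obtain ⟨g, hg, hg1⟩ : ∃ g : A, IsGroupLikeElem k g ∧ g ≠ 1 := by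
    by_contra hcon
    push Not at hcon
    have hle : (⊤ : Submodule k A) ≤ Submodule.span k {1} := hD.symm.le.trans (Submodule.span_le.2 fun a ha => by
      rw [hcon a ha]; exact Submodule.mem_span_singleton_self 1)
    have := (Submodule.finrank_mono hle).trans (finrank_span_le_card ({1} : Set A))
    simp only [finrank_top, Set.toFinset_singleton, Finset.card_singleton] at this
    omega
  have hmax : (RingHom.ker (Bialgebra.counitAlgHom k A)).IsMaximal :=
    RingHom.ker_isMaximal_of_surjective _ fun r => ⟨algebraMap k A r, AlgHom.commutes _ r⟩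
  have hnil : ∀ a : A, Coalgebra.counit (R := k) a = 0 → IsNilpotent a := fun a ha => mem_nilradical.1 (by
    rw [Ring.KrullDimLE.nilradical_eq_maximalIdeal, ← IsLocalRing.eq_maximalIdeal hmax]; exact ha)
  haveI : CharP A p := charP_of_injective_algebraMap (algebraMap k A).injective p
  have horder : ∀ h : A, IsGroupLikeElem k h → ∃ N, h ^ (p ^ N) = 1 := fun h hh => by
    obtain ⟨n, hn⟩ := hnil (h - 1) (by simp [hh.counit_eq_one])
    refine ⟨n, sub_eq_zero.1 ?_⟩
    rw [← one_pow (p ^ n), ← sub_pow_char_pow]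
    exact pow_eq_zero_of_le (Nat.lt_pow_self hp.one_lt).le hn
  obtain ⟨N, hN⟩ := horder g hg
  have htop : ∀ h : A, IsGroupLikeElem k h → h ≠ 1 → Algebra.adjoin k {h} = ⊤ := fun h hh hh1 => by
    obtain ⟨M, hM⟩ := horder h hh
    exact adjoin_eq_top hsimple _ (adjoin_pow_groupLike hh (pow_pos hp.pos M) hM)
      (y := h - 1) (sub_mem (Algebra.self_mem_adjoin_singleton k h) (one_mem _)) (by simp [hh.counit_eq_one]) (sub_ne_zero.2 hh1)
  have hspan : ∀ h : A, IsGroupLikeElem k h → Subalgebra.toSubmodule (Algebra.adjoin k {h}) ≤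
      Submodule.span k (Set.range fun i : ℕ => h ^ i) := by
    intro h hh
    rw [Algebra.adjoin_eq_span]
    refine Submodule.span_le.2 fun x hx => ?_
    obtain ⟨i, rfl⟩ := Submonoid.mem_closure_singleton.1 hx
    exact Submodule.subset_span ⟨i, rfl⟩
  have hgp : g ^ p = 1 := by
    by_contra hne
    have hmem : g ∈ Submodule.span k (Set.range fun i : ℕ => (g ^ p) ^ i) :=
      hspan _ hg.pow (show g ∈ Algebra.adjoin k {g ^ p} by rw [htop _ hg.pow hne]; exact Algebra.mem_top)
    obtain ⟨i, hi⟩ : ∃ i : ℕ, (g ^ p) ^ i = g := by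
      by_contra hno
      have hli := (linearIndepOn_isGroupLikeElem (R := k) (A := A)).linearIndependent
      refine hli.notMem_span_image (s := {a : {a : A | IsGroupLikeElem k a} | (a : A) ≠ g})
        (x := ⟨g, hg⟩) (fun h => h rfl) ?_
      refine Submodule.span_mono ?_ hmem
      rintro _ ⟨i, rfl⟩
      exact ⟨⟨_, hg.pow.pow⟩, fun h => hno ⟨i, h⟩, rfl⟩
    have h1 : ∀ m, g ^ ((p * i) ^ m) = g := by
      intro m
      induction m with
      | zero => simp
      | succ m ih => rw [pow_succ', pow_mul, pow_mul, hi, ih]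
    obtain ⟨c, hc⟩ : p ^ N ∣ (p * i) ^ N := pow_dvd_pow_of_dvd (dvd_mul_right p i) N
    have := h1 N
    rw [hc, pow_mul, hN, one_pow] at this
    exact hg1 this.symm
  have hli : LinearIndependent k (fun i : Fin p => g ^ (i : ℕ)) := by
    have hinj : Function.Injective (fun i : Fin p => g ^ (i : ℕ)) := by
      intro i j hij
      have hord : orderOf g = p := orderOf_eq_prime hgp hg1
      exact Fin.ext (pow_injOn_Iio_orderOf (by simp [hord, i.2]) (by simp [hord, j.2]) hij)
    exact (linearIndepOn_isGroupLikeElem (R := k) (A := A)).linearIndependent.comp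
      (fun i : Fin p => (⟨g ^ (i : ℕ), hg.pow⟩ : {a : A | IsGroupLikeElem k a})) fun i j hij => hinj (congrArg Subtype.val hij)
  refine ⟨g, hg, hgp, hli, ?_⟩
  have hs : Submodule.span k (Set.range fun i : Fin p => g ^ (i : ℕ)) = ⊤ := by
    refine eq_top_iff.2 fun a _ => ?_
    refine Submodule.span_mono ?_ (hspan g hg (show a ∈ Algebra.adjoin k {g} by rw [htop g hg hg1]; exact Algebra.mem_top))
    rintro _ ⟨i, rfl⟩
    exact ⟨⟨i % p, Nat.mod_lt _ hp.pos⟩, by simp only; rw [← pow_mod_orderOf g i, orderOf_eq_prime hgp hg1]⟩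
  rw [← finrank_top, ← hs, finrank_span_eq_card hli, Fintype.card_fin]

end Groth.Agent.S15066
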