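import Groth.Statements.S15068
import Groth.Agent.UnitComp.Basic
import Mathlib.RingTheory.Etale.Basic
import Mathlib.RingTheory.Ideal.IdempotentFG
import Mathlib.RingTheory.Nakayama

set_option autoImplicit false
universe u
open scoped TensorProduct
open Hopf

namespace Groth.Agent.S15068

/-- Let R be a henselian Noetherian local ring, A and A'' commutative Hopf algebras over R which are
finite and flat as R-modules, and A'' → A an R-algebra homomorphism compatible with
comultiplications and counits making A faithfully flat over A'' (a faithfully flat homomorphism π :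
G → G'' of finite flat R-groups); let J ⊆ A be the ideal generated by the image of the augmentation
ideal of A'' (G' = Spec A/J = ker π, so 1 → G' → G → G'' → 1 is exact). Assume A'' is a local ring
(G'' connected) and A/J is étale over R (G' finite étale), and let e ∈ A be an idempotent with ε(e)
= 1 such that A/(1 − e) is local (G⁰ = Spec A/(1 − e), the unit component of G). Then the composite
A'' → A → A/(1 − e) is bijective: the restriction G⁰ → G'' of π is an isomorphism, whose inverse
splits the extension, G ≅ G' × G''. -/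
theorem result (R : Type u) [CommRing R] [HenselianLocalRing R]
    [IsNoetherianRing R] (A A'' : Type u) [CommRing A] [HopfAlgebra R A] [Module.Finite R A] [Module.Flat R A]
    [CommRing A''] [HopfAlgebra R A''] [Module.Finite R A''] [Module.Flat R A'']
    [Algebra A'' A] [IsScalarTower R A'' A] [Module.FaithfullyFlat A'' A]
    (hΔ : (Bialgebra.comulAlgHom R A).comp (IsScalarTower.toAlgHom R A'' A) =
      (Algebra.TensorProduct.map (IsScalarTower.toAlgHom R A'' A) (IsScalarTower.toAlgHom R A'' A)).comp
        (Bialgebra.comulAlgHom R A''))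
    (hε : (Bialgebra.counitAlgHom R A).comp (IsScalarTower.toAlgHom R A'' A) = Bialgebra.counitAlgHom R A'')
    [IsLocalRing A''] [Algebra.Etale R (A ⧸ (RingHom.ker (Bialgebra.counitAlgHom R A'')).map (algebraMap A'' A))]
    (e : A) (he : IsIdempotentElem e) (heε : Bialgebra.counitAlgHom R A e = 1)
    [IsLocalRing (A ⧸ Ideal.span ({1 - e} : Set A))] :
    Function.Bijective ((Ideal.Quotient.mkₐ R (Ideal.span ({1 - e} : Set A))).comp (IsScalarTower.toAlgHom R A'' A)) := by
  let I : Ideal A := Ideal.span ({1 - e} : Set A)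
  let K : Ideal A := (RingHom.ker (Bialgebra.counitAlgHom R A'')).map (algebraMap A'' A)
  haveI : Module.Finite A'' A := Module.Finite.of_restrictScalars_finite R A'' A
  have hεI : I ≤ RingHom.ker (Bialgebra.counitAlgHom R A) := Groth.Agent.UnitComp.le_ker_counit heε
  have hεK : K ≤ RingHom.ker (Bialgebra.counitAlgHom R A) := Ideal.map_le_iff_le_comap.2 fun c hc => by
    show Bialgebra.counitAlgHom R A (IsScalarTower.toAlgHom R A'' A c) = 0
    rw [← AlgHom.comp_apply, hε]; exact hc
  have hmax'' : RingHom.ker (Bialgebra.counitAlgHom R A'') ≤ IsLocalRing.maximalIdeal A'' :=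
    IsLocalRing.le_maximalIdeal (RingHom.ker_ne_top _)
  have hker : RingHom.ker (Bialgebra.counitAlgHom R A) ≤ K ⊔ I := by
    let εQ : A ⧸ K →ₐ[R] R := Ideal.Quotient.liftₐ K (Bialgebra.counitAlgHom R A) fun a ha => hεK ha
    letI : Algebra (A ⧸ K) R := εQ.toRingHom.toAlgebra
    haveI : IsScalarTower R (A ⧸ K) R := IsScalarTower.of_algebraMap_eq fun r => (AlgHom.commutes εQ r).symm
    have hidem : IsIdempotentElem (RingHom.ker (algebraMap (A ⧸ K) R)) :=
      (Algebra.FormallyEtale.iff_of_surjective (fun r => ⟨algebraMap R _ r, AlgHom.commutes εQ r⟩)).1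
        (.of_restrictScalars (R := R))
    haveI : IsNoetherianRing (A ⧸ K) := IsNoetherianRing.of_finite R (A ⧸ K)
    obtain ⟨q, hq, hq'⟩ := (Ideal.isIdempotentElem_iff_of_fg _ (IsNoetherian.noetherian _)).1 hidem
    obtain ⟨a, rfl⟩ := Ideal.Quotient.mk_surjective q
    have haε : Bialgebra.counitAlgHom R A a = 0 := by
      have : Ideal.Quotient.mk K a ∈ RingHom.ker (algebraMap (A ⧸ K) R) := hq' ▸ Submodule.mem_span_singleton_self _
      exact this
    have ha : a ∈ K ⊔ I := by
      let J := K ⊔ I
      haveI : Nontrivial R := inferInstance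
      haveI : Nontrivial (A ⧸ J) := Ideal.Quotient.nontrivial_iff.2 fun h => RingHom.ker_ne_top
        (Bialgebra.counitAlgHom R A) (top_le_iff.1 (h.ge.trans (sup_le hεK hεI)))
      haveI : IsLocalRing (A ⧸ J) := IsLocalRing.of_surjective' (Ideal.Quotient.factor (show I ≤ J from le_sup_right))
        (Ideal.Quotient.factor_surjective _)
      have hidem' : IsIdempotentElem (Ideal.Quotient.mk J a) := by
        have := hq.map (Ideal.Quotient.factor (show K ≤ J from le_sup_left))
        rwa [Ideal.Quotient.factor_mk] at this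
      rw [← Ideal.Quotient.eq_zero_iff_mem]
      rcases IsLocalRing.isUnit_or_isUnit_one_sub_self (Ideal.Quotient.mk J a) with hu | hu
      · exfalso
        let εJ : A ⧸ J →ₐ[R] R := Ideal.Quotient.liftₐ J (Bialgebra.counitAlgHom R A) fun x hx => sup_le hεK hεI hx
        have h0 : εJ (Ideal.Quotient.mk J a) = 0 := haε
        exact not_isUnit_zero (h0 ▸ hu.map εJ)
      · exact hu.mul_left_eq_zero.1 (by rw [mul_sub, mul_one, hidem'.eq, sub_self])
    intro x hx
    have hxq : Ideal.Quotient.mk K x ∈ RingHom.ker (algebraMap (A ⧸ K) R) := hx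
    rw [hq', Submodule.mem_span_singleton] at hxq
    obtain ⟨c, hc⟩ := hxq
    obtain ⟨c, rfl⟩ := Ideal.Quotient.mk_surjective c
    rw [smul_eq_mul, ← map_mul, Ideal.Quotient.eq] at hc
    have : x = c * a - (c * a - x) := by ring
    rw [this]
    exact sub_mem (Ideal.mul_mem_left _ _ ha) (Submodule.mem_sup_left hc)
  haveI : Module.Flat A'' (A ⧸ I) := by
    let r : A →ₗ[A''] A ⧸ I := (Ideal.Quotient.mkₐ A'' I).toLinearMap
    have hk : I.restrictScalars A'' ≤ LinearMap.ker (LinearMap.mulLeft A'' e) := fun x hx => by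
      obtain ⟨c, rfl⟩ := Ideal.mem_span_singleton'.1 hx
      show e * (c * (1 - e)) = 0
      rw [mul_left_comm, mul_sub, mul_one, he.eq, sub_self, mul_zero]
    let i : (A ⧸ I) →ₗ[A''] A := (I.restrictScalars A'').liftQ (LinearMap.mulLeft A'' e) hk ∘ₗ
      (Submodule.Quotient.restrictScalarsEquiv A'' I).symm.toLinearMap
    refine Module.Flat.of_retract i r (LinearMap.ext fun x => ?_)
    obtain ⟨a, rfl⟩ := Ideal.Quotient.mk_surjective x
    show Ideal.Quotient.mk I (e * a) = Ideal.Quotient.mk I a
    rw [map_mul, Groth.Agent.UnitComp.mk_eq_one, one_mul]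
  have hεc : ∀ c, Groth.Agent.UnitComp.counitBar heε (algebraMap A'' (A ⧸ I) c) = Bialgebra.counitAlgHom R A'' c :=
    fun c => DFunLike.congr_fun hε c
  haveI : IsLocalHom (algebraMap A'' (A ⧸ I)) := ⟨fun c hc => by
    by_contra hn
    have h1 : IsUnit (Bialgebra.counitAlgHom R A'' c) := (hεc c) ▸ hc.map (Groth.Agent.UnitComp.counitBar heε)
    have h2 : c - algebraMap R A'' (Bialgebra.counitAlgHom R A'' c) ∈ IsLocalRing.maximalIdeal A'' :=
      hmax'' (by simp [RingHom.mem_ker])
    have h3 := sub_mem ((IsLocalRing.mem_maximalIdeal c).2 hn) h2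
    rw [sub_sub_cancel] at h3
    exact (IsLocalRing.mem_maximalIdeal _).1 h3 (h1.map _)⟩
  haveI : Module.FaithfullyFlat A'' (A ⧸ I) := Module.FaithfullyFlat.of_flat_of_isLocalHom
  refine ⟨(FaithfulSMul.algebraMap_injective A'' (A ⧸ I) : _), fun y => ?_⟩
  have htop : (⊤ : Submodule A'' (A ⧸ I)) ≤ LinearMap.range (Algebra.linearMap A'' (A ⧸ I)) := by
    refine Submodule.le_of_le_smul_of_le_jacobson_bot (I := RingHom.ker (Bialgebra.counitAlgHom R A''))
      Module.Finite.fg_top ?_ ?_
    · rw [IsLocalRing.jacobson_eq_maximalIdeal _ bot_ne_top]; exact hmax''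
    · rintro y -
      obtain ⟨a, rfl⟩ := Ideal.Quotient.mk_surjective y
      have ha : Ideal.Quotient.mk I (a - algebraMap R A (Bialgebra.counitAlgHom R A a)) ∈
          (RingHom.ker (Bialgebra.counitAlgHom R A'') • ⊤ : Submodule A'' (A ⧸ I)) := by
        rw [Ideal.smul_top_eq_map, Submodule.restrictScalars_mem,
          show algebraMap A'' (A ⧸ I) = (Ideal.Quotient.mk I).comp (algebraMap A'' A) from rfl, ← Ideal.map_map]
        obtain ⟨k, hk, i, hi, hki⟩ := Submodule.mem_sup.1 (hker (by simp [RingHom.mem_ker] : a - algebraMap R A (Bialgebra.counitAlgHom R A a) ∈ RingHom.ker (Bialgebra.counitAlgHom R A)))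
        rw [← hki, map_add, Ideal.Quotient.eq_zero_iff_mem.2 hi, add_zero]
        exact Ideal.mem_map_of_mem _ hk
      have : Ideal.Quotient.mk I a = algebraMap A'' (A ⧸ I) (algebraMap R A'' (Bialgebra.counitAlgHom R A a)) +
          Ideal.Quotient.mk I (a - algebraMap R A (Bialgebra.counitAlgHom R A a)) := by
        rw [map_sub, ← IsScalarTower.algebraMap_apply, Ideal.Quotient.mk_algebraMap]; ring
      rw [this]
      exact Submodule.add_mem_sup ⟨_, rfl⟩ ha
  obtain ⟨c, hc⟩ := htop (Submodule.mem_top (x := y))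
  exact ⟨c, hc⟩

end Groth.Agent.S15068
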