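import Groth.Statements.S1507
import Groth.Agent.PCHom.Basic
import Groth.Agent.DRingTorAmp.Triangle
-- import your own Groth.Agent.* helpers here

set_option autoImplicit false
universe u
attribute [local instance] HasDerivedCategory.standard
open FlatMor


attribute [local instance] HasDerivedCategory.standard
open CategoryTheory Groth.Agent

theorem pc_quotient {R : Type u} [CommRing R] (I : Ideal R) :
    DRing.IsPseudoCoherentModule' R (R ⧸ I) ↔ DRing.IsPseudoCoherentModule' R ↥I := by
  let f : (Fin 1 → R) →ₗ[R] R ⧸ I :=
    I.mkQ.comp (LinearEquiv.funUnique (Fin 1) R R).toLinearMap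
  have hf : Function.Surjective f := (Submodule.mkQ_surjective I).comp (LinearEquiv.funUnique (Fin 1) R R).surjective
  have e : LinearMap.ker f ≃ₗ[R] ↥I :=
    ((LinearEquiv.funUnique (Fin 1) R R).ofSubmodules _ I (by
      ext x
      simp only [Submodule.mem_map, LinearMap.mem_ker, f, LinearMap.comp_apply, LinearEquiv.coe_coe,
        Submodule.mkQ_apply, Submodule.Quotient.mk_eq_zero]
      constructor
      · rintro ⟨y, hy, rfl⟩
        exact hy
      · intro hx
        exact ⟨(LinearEquiv.funUnique (Fin 1) R R).symm x, by rw [LinearEquiv.apply_symm_apply]; exact hx,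
          LinearEquiv.apply_symm_apply _ _⟩))
  constructor
  · intro h
    exact PCHom.pcModule_congr e (PerfHom.isPseudoCoherentModule_ker f hf h)
  · intro h
    refine DRingKProj.pseudoCoherent'_of_forall fun m => ?_
    have hF := ((DRingTorAmp.isPerfect_iff _).1 (DRingAmp.isPerfectModule_projective (R := R) (Fin 1 → R))).1
    exact DRingKProj.isPseudoCoherent_obj₃ (PerfHom.shortExact f hf).singleTriangle
      (PerfHom.shortExact f hf).singleTriangle_distinguished m
      (DRingKProj.isPseudoCoherent_of_pseudoCoherent' (PCHom.pcModule_congr e.symm h) _)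
      (DRingKProj.isPseudoCoherent_of_pseudoCoherent' hF _)

namespace Groth.Agent.S1507

/-- Let A → B be flat and of finite presentation and I an ideal of B. Then A → B/I is a pseudo-coherent
ring map if and only if I is a pseudo-coherent B-module. -/
theorem result {A B : Type u} [CommRing A] [CommRing B] [Algebra A B] [Module.Flat A B] [Algebra.FinitePresentation A B] (I : Ideal B) :
    MoreMor.IsPseudoCoherentHom A (B ⧸ I) ↔ DRing.IsPseudoCoherentModule' B ↥I := by
  refine ⟨fun h => (pc_quotient I).1 (PCHom.pc_of_flat h B (Ideal.Quotient.mkₐ A I) Ideal.Quotient.mk_surjective),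
    fun h => PCHom.isPseudoCoherentHom_of_flat B (Ideal.Quotient.mkₐ A I) Ideal.Quotient.mk_surjective
      ((pc_quotient I).2 h)⟩

end Groth.Agent.S1507
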