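import Groth.Statements.S15079
import Groth.Agent.TwistTranslate.Lead

set_option autoImplicit false
universe u v
open MovLem

namespace Groth.Agent.S15079

/-- Let k be an infinite perfect field, r, m ≥ 1, and let f be an irreducible polynomial in t over
k[x_1, …, x_r] whose constant term in t is a unit of k[x_1, …, x_r], so that the hypersurface Z : f
= 0 in affine (r+1)-space with coordinates x_1, …, x_r, t is integral and does not meet the divisor
t = 0 (the modulus condition in cubical degree one). Then there are a nonzero polynomial h in k[x_1,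
…, x_r] and an integer s₀ such that for every s ≥ s₀, every field K over k and every point g of K^r
with h(g) ≠ 0, the translate of Z_K by the automorphism x_i ↦ x_i + t^{s(m+1)} g_i, t ↦ t is finite
and surjective over affine r-space over K: the quotient of K[x_1, …, x_r][t] by the translated
equation is a finitely generated K[x_1, …, x_r]-module and K[x_1, …, x_r] maps injectively into it.
(The published statement allows every nonzero point g of affine r-space; for r = 2 and f = x_1 t − 1
the point g = (0, 1) translates Z to itself, which is not finite over the affine plane, so the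
conclusion is stated here for g in a nonempty open subset h ≠ 0, which is what the published proof
establishes.) -/
theorem result
    {k : Type u} [Field k] [Infinite k] [PerfectField k] (r m : ℕ) (hr : 1 ≤ r) (hm : 1 ≤ m)
    (f : Polynomial (MvPolynomial (Fin r) k)) (hirr : Irreducible f) (h0 : IsUnit (f.coeff 0)) :
    ∃ h : MvPolynomial (Fin r) k, h ≠ 0 ∧ ∃ s₀ : ℕ, ∀ s : ℕ, s₀ ≤ s →
      ∀ (K : Type v) [Field K] [Algebra k K] (g : Fin r → K), MvPolynomial.aeval g h ≠ 0 →
        ∀ F : Polynomial (MvPolynomial (Fin r) K),
          F = Polynomial.eval₂ (MvPolynomial.aeval (fun i : Fin r => Polynomial.C (MvPolynomial.X i) + Polynomial.C (MvPolynomial.C (g i)) * Polynomial.X ^ (s * (m + 1))) : MvPolynomial (Fin r) k →ₐ[k] Polynomial (MvPolynomial (Fin r) K)).toRingHom Polynomial.X f →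
          Module.Finite (MvPolynomial (Fin r) K) (Polynomial (MvPolynomial (Fin r) K) ⧸ Ideal.span {F}) ∧
          Function.Injective ((Ideal.Quotient.mk (Ideal.span {F})).comp (algebraMap (MvPolynomial (Fin r) K) (Polynomial (MvPolynomial (Fin r) K)))) := by
  obtain ⟨h, hne, D, J, hdeg0, hmain⟩ := Groth.Agent.TwistTranslate.main.{u, v} f hirr.ne_zero
  refine ⟨h, hne, f.natDegree + 1, fun s hs K _ _ g hg F hF => ?_⟩
  obtain ⟨hd, hl⟩ := hmain (s * (m + 1)) (lt_of_lt_of_le (Nat.lt_of_succ_le hs) (Nat.le_mul_of_pos_right s (Nat.succ_pos m))) K g hg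
  have hd' : F.natDegree = D * (s * (m + 1)) + J := by rw [hF]; exact hd
  refine Groth.Agent.TwistTranslate.finite_injective F ?_ ?_
  · rw [hF]
    exact (congrArg IsUnit hl).mpr ((IsUnit.mk0 _ hg).map MvPolynomial.C)
  · intro hzero
    rw [hd'] at hzero
    have hs0 : 0 < s * (m + 1) := Nat.mul_pos (lt_of_lt_of_le (Nat.succ_pos _) hs) (Nat.succ_pos m)
    obtain ⟨hDM, hJ⟩ := Nat.add_eq_zero_iff.1 hzero
    have hD : D = 0 := (Nat.mul_eq_zero.1 hDM).resolve_right hs0.ne'
    apply hirr.not_isUnit
    rw [hdeg0 ⟨hD, hJ⟩]
    exact Polynomial.isUnit_C.2 h0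

end Groth.Agent.S15079
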