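-- statement W4c2movlemaddchow.GrothFrozen.S15080 (Groth/Statements/S15080.lean; the theorem W4c2movlemaddchow.bijOn_shuffle_mul_extRight);
import Groth.Statements.S15080
import Mathlib

set_option autoImplicit false
open W4c2movlemaddchow

namespace Groth.Agent.S15080

/-- Let r, s, t ≥ 1. For an (r+s, t)-shuffle τ of r+s+t letters and an (r, s)-shuffle σ of the first r+s
letters, the composite τ ∘ (σ × id), where σ × id acts as σ on the first r+s letters and fixes the
last t, is an (r, s, t)-shuffle, and (τ, σ) ↦ τ ∘ (σ × id) is a bijection from such pairs onto the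
set of all (r, s, t)-shuffles. (A (p₁, …, p_s)-shuffle is a permutation that is monotone on each of
the consecutive blocks of sizes p₁, …, p_s; composites apply the right-hand factor first.) -/
theorem result (r s t : ℕ) (hr : 1 ≤ r) (hs : 1 ≤ s) (ht : 1 ≤ t) :
    Set.BijOn
      (fun p : Equiv.Perm (Fin (r + s + t)) × Equiv.Perm (Fin (r + s)) =>
        p.1 * W4c2movlemaddchow.extRight (r + s) t p.2)
      ({τ | W4c2movlemaddchow.IsShuffle₂ (r + s) t τ} ×ˢ {σ | W4c2movlemaddchow.IsShuffle₂ r s σ})
      {ν | W4c2movlemaddchow.IsShuffle₃ r s t ν} := by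
  have hval : ∀ (σ : Equiv.Perm (Fin (r + s))) (i : Fin (r + s)),
      W4c2movlemaddchow.extRight (r + s) t σ (Fin.castAdd t i) = Fin.castAdd t (σ i) := fun σ i => by
    simp [W4c2movlemaddchow.extRight]
  have hvr : ∀ (σ : Equiv.Perm (Fin (r + s))) (i : Fin t),
      W4c2movlemaddchow.extRight (r + s) t σ (Fin.natAdd (r + s) i) = Fin.natAdd (r + s) i := fun σ i => by
    simp [W4c2movlemaddchow.extRight]
  refine ⟨?_, ?_, ?_⟩
  · rintro ⟨τ, σ⟩ ⟨hτ, hσ⟩
    refine ⟨fun a b h => ?_, fun a b h => ?_, fun a b h => ?_⟩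
    · simpa [hval] using hτ.1 (hσ.1 h)
    · simpa [hval] using hτ.1 (hσ.2 h)
    · simpa [hvr] using hτ.2 h
  · rintro ⟨τ, σ⟩ ⟨hτ, hσ⟩ ⟨τ', σ'⟩ ⟨hτ', hσ'⟩ h
    simp only at h
    have e1 : (fun i => τ (Fin.castAdd t i)) = fun i => τ' (Fin.castAdd t i) := by
      apply StrictMono.range_inj (hτ.1.strictMono_of_injective (τ.injective.comp (Fin.castAdd_injective _ _)))
        (hτ'.1.strictMono_of_injective (τ'.injective.comp (Fin.castAdd_injective _ _))) |>.1
      ext x
      constructor
      · rintro ⟨i, rfl⟩
        refine ⟨σ' (σ.symm i), ?_⟩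
        have := congrArg (fun p : Equiv.Perm _ => p (Fin.castAdd t (σ.symm i))) h
        simpa [hval] using this.symm
      · rintro ⟨i, rfl⟩
        refine ⟨σ (σ'.symm i), ?_⟩
        have := congrArg (fun p : Equiv.Perm _ => p (Fin.castAdd t (σ'.symm i))) h
        simpa [hval] using this
    have hττ : τ = τ' := by
      ext x
      induction x using Fin.addCases with
      | left i => exact congrArg Fin.val (congrFun e1 i)
      | right i =>
        have := congrArg (fun p : Equiv.Perm _ => p (Fin.natAdd (r + s) i)) h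
        exact congrArg Fin.val (by simpa [hvr] using this)
    subst hττ
    refine Prod.ext rfl (Equiv.ext fun i => ?_)
    have := congrArg (fun p : Equiv.Perm _ => p (Fin.castAdd t i)) h
    exact Fin.castAdd_injective _ t (τ.injective (by simpa [hval] using this))
  · intro ν hν
    let f := fun i : Fin (r + s) => ν (Fin.castAdd t i)
    have hg : StrictMono (f ∘ Tuple.sort f) := (Tuple.monotone_sort f).strictMono_of_injective
      ((ν.injective.comp (Fin.castAdd_injective _ _)).comp (Equiv.injective _))
    refine ⟨(ν * W4c2movlemaddchow.extRight (r + s) t (Tuple.sort f), (Tuple.sort f)⁻¹), ⟨⟨fun a b h => ?_, fun a b h => ?_⟩,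
      ⟨fun a b h => hg.le_iff_le.1 ?_, fun a b h => hg.le_iff_le.1 ?_⟩⟩, ?_⟩
    · simpa [hval, f] using Tuple.monotone_sort f h
    · simpa [hvr] using hν.2.2 h
    · simpa [f] using hν.1 h
    · simpa [f] using hν.2.1 h
    · ext x
      induction x using Fin.addCases with
      | left i => simp [hval]
      | right i => simp [hvr]

end Groth.Agent.S15080
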