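-- statement W4c2movlemaddchow.GrothFrozen.S15081 (Groth/Statements/S15081.lean; the theorem W4c2movlemaddchow.bijOn_shuffle_mul_extLeft);
import Groth.Statements.S15081
import Mathlib

set_option autoImplicit false
open W4c2movlemaddchow

namespace Groth.Agent.S15081

/-- Let r, s, t ≥ 1. For an (r, s+t)-shuffle τ' of r+s+t letters and an (s, t)-shuffle σ' of the last
s+t letters, the composite τ' ∘ (id × σ'), where id × σ' fixes the first r letters and acts as σ' on
the last s+t, is an (r, s, t)-shuffle, and (τ', σ') ↦ τ' ∘ (id × σ') is a bijection from such pairs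
onto the set of all (r, s, t)-shuffles. (Shuffles are permutations monotone on each consecutive
block; composites apply the right-hand factor first.) -/
theorem result (r s t : ℕ) (hr : 1 ≤ r) (hs : 1 ≤ s) (ht : 1 ≤ t) :
    Set.BijOn
      (fun p : Equiv.Perm (Fin (r + s + t)) × Equiv.Perm (Fin (s + t)) =>
        p.1 * W4c2movlemaddchow.extLeft r s t p.2)
      ({τ | W4c2movlemaddchow.IsShuffle₂ r (s + t) ((finCongr (Nat.add_assoc r s t)).permCongr τ)} ×ˢ
        {σ | W4c2movlemaddchow.IsShuffle₂ s t σ})
      {ν | W4c2movlemaddchow.IsShuffle₃ r s t ν} := by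
  set e := finCongr (Nat.add_assoc r s t) with he
  have hl : ∀ (σ : Equiv.Perm (Fin (s + t))) (i : Fin r),
      W4c2movlemaddchow.extLeft r s t σ (e.symm (Fin.castAdd (s + t) i)) = e.symm (Fin.castAdd (s + t) i) := fun σ i => by
    simp [W4c2movlemaddchow.extLeft, he, Equiv.permCongr_apply]
  have hr' : ∀ (σ : Equiv.Perm (Fin (s + t))) (i : Fin (s + t)),
      W4c2movlemaddchow.extLeft r s t σ (e.symm (Fin.natAdd r i)) = e.symm (Fin.natAdd r (σ i)) := fun σ i => by
    simp [W4c2movlemaddchow.extLeft, he, Equiv.permCongr_apply]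
  have b1 : ∀ i : Fin r, Fin.castAdd t (Fin.castAdd s i) = e.symm (Fin.castAdd (s + t) i) := fun i => Fin.ext (by simp [he])
  have b2 : ∀ j : Fin s, Fin.castAdd t (Fin.natAdd r j) = e.symm (Fin.natAdd r (Fin.castAdd t j)) := fun j => Fin.ext (by simp [he])
  have b3 : ∀ l : Fin t, Fin.natAdd (r + s) l = e.symm (Fin.natAdd r (Fin.natAdd s l)) := fun l => Fin.ext (by simp [he]; omega)
  have hmono : Monotone e := fun a b h => h
  have hmono' : Monotone e.symm := fun a b h => h
  refine ⟨?_, ?_, ?_⟩
  · rintro ⟨τ, σ⟩ ⟨hτ, hσ⟩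
    refine ⟨fun a b h => ?_, fun a b h => ?_, fun a b h => ?_⟩
    · have := hmono' (hτ.1 h)
      simpa [b1, hl, Equiv.permCongr_apply] using this
    · have := hmono' (hτ.2 (hσ.1 h))
      simpa [b2, hr', Equiv.permCongr_apply] using this
    · have := hmono' (hτ.2 (hσ.2 h))
      simpa [b3, hr', Equiv.permCongr_apply] using this
  · rintro ⟨τ, σ⟩ ⟨hτ, hσ⟩ ⟨τ', σ'⟩ ⟨hτ', hσ'⟩ h
    simp only at h
    have e1 : (fun i => e.permCongr τ (Fin.natAdd r i)) = fun i => e.permCongr τ' (Fin.natAdd r i) := by
      apply StrictMono.range_inj (hτ.2.strictMono_of_injective ((Equiv.injective _).comp (Fin.natAdd_injective _ _)))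
        (hτ'.2.strictMono_of_injective ((Equiv.injective _).comp (Fin.natAdd_injective _ _))) |>.1
      ext x
      constructor
      · rintro ⟨i, rfl⟩
        refine ⟨σ' (σ.symm i), ?_⟩
        have := congrArg (fun p : Equiv.Perm _ => e (p (e.symm (Fin.natAdd r (σ.symm i))))) h
        simpa [hr', Equiv.permCongr_apply] using this.symm
      · rintro ⟨i, rfl⟩
        refine ⟨σ (σ'.symm i), ?_⟩
        have := congrArg (fun p : Equiv.Perm _ => e (p (e.symm (Fin.natAdd r (σ'.symm i))))) h
        simpa [hr', Equiv.permCongr_apply] using this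
    have hττ : τ = τ' := by
      apply Equiv.ext; intro x
      obtain ⟨y, rfl⟩ := e.symm.surjective x
      induction y using Fin.addCases with
      | left i =>
        have := congrArg (fun p : Equiv.Perm _ => p (e.symm (Fin.castAdd (s + t) i))) h
        simpa [hl] using this
      | right i => exact e.injective (by simpa [Equiv.permCongr_apply] using congrFun e1 i)
    subst hττ
    refine Prod.ext rfl (Equiv.ext fun i => ?_)
    have := congrArg (fun p : Equiv.Perm _ => p (e.symm (Fin.natAdd r i))) h
    simp only [Equiv.Perm.mul_apply, hr'] at this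
    exact Fin.natAdd_injective _ r (e.symm.injective (τ.injective this))
  · intro ν hν
    let f := fun i : Fin (s + t) => e (ν (e.symm (Fin.natAdd r i)))
    have hg : StrictMono (f ∘ Tuple.sort f) := (Tuple.monotone_sort f).strictMono_of_injective
      ((((e.injective.comp ν.injective).comp e.symm.injective).comp (Fin.natAdd_injective _ _)).comp (Equiv.injective _))
    refine ⟨(ν * W4c2movlemaddchow.extLeft r s t (Tuple.sort f), (Tuple.sort f)⁻¹), ⟨⟨fun a b h => ?_, fun a b h => ?_⟩,
      ⟨fun a b h => hg.le_iff_le.1 ?_, fun a b h => hg.le_iff_le.1 ?_⟩⟩, ?_⟩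
    · have := hmono (hν.1 h)
      simpa [hl, b1, Equiv.permCongr_apply] using this
    · simpa [hr', f, Equiv.permCongr_apply] using Tuple.monotone_sort f h
    · have := hmono (hν.2.1 h)
      simpa [f, b2] using this
    · have := hmono (hν.2.2 h)
      simpa [f, b3] using this
    · apply Equiv.ext; intro x
      obtain ⟨y, rfl⟩ := e.symm.surjective x
      induction y using Fin.addCases with
      | left i => simp [hl]
      | right i => simp [hr']

end Groth.Agent.S15081
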