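import Groth.Statements.S15084
import Mathlib

set_option autoImplicit false
universe u
open MovLem

namespace Groth.Agent.S15084

/-- Let A be a Noetherian integrally closed domain with fraction field K, let B be a domain with
fraction field L, and let A → B be an injective ring homomorphism, with K → L the induced map of
fraction fields, such that Spec B → Spec A is surjective (every prime ideal of A is the contraction
of a prime ideal of B). If a ∈ K is such that its image in L lies in B, then a ∈ A. (The published
statement: for a surjective morphism f : Y → X of normal integral separated schemes of finite type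
over a perfect field and a Cartier divisor D on X, if f^*D is effective then D is effective; a
Cartier divisor is locally the divisor of a nonzero rational function a, effectivity of div(a) on a
normal scheme means that a is a regular function, and this row is that local statement, which is
what the published proof establishes.) -/
theorem result
    (A B K L : Type u) [CommRing A] [IsDomain A] [IsNoetherianRing A] [IsIntegrallyClosed A]
    [CommRing B] [IsDomain B] [Field K] [Field L]
    [Algebra A B] [Algebra A K] [IsFractionRing A K] [Algebra B L] [IsFractionRing B L]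
    [Algebra K L] [Algebra A L] [IsScalarTower A K L] [IsScalarTower A B L]
    (hinj : Function.Injective (algebraMap A B))
    (hsurj : ∀ p : Ideal A, p.IsPrime → ∃ q : Ideal B, q.IsPrime ∧ q.comap (algebraMap A B) = p)
    (a : K) (ha : algebraMap K L a ∈ (algebraMap B L).range) :
    a ∈ (algebraMap A K).range := by
  classical
  by_contra ha'
  obtain ⟨c, hc⟩ := ha
  -- denominator ideals of elements of A[a]-translates
  let den : K → Ideal A := fun x =>
    { carrier := {z | algebraMap A K z * x ∈ (algebraMap A K).range}
      add_mem' := fun {z w} hz hw => by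
        show algebraMap A K (z + w) * x ∈ (algebraMap A K).range
        rw [map_add, add_mul]; exact add_mem hz hw
      zero_mem' := by show algebraMap A K 0 * x ∈ (algebraMap A K).range; rw [map_zero, zero_mul]; exact zero_mem _
      smul_mem' := fun z w hw => by
        show algebraMap A K (z * w) * x ∈ (algebraMap A K).range
        rw [map_mul, mul_assoc]; exact mul_mem ⟨z, rfl⟩ hw }
  have hmem : ∀ x z, z ∈ den x ↔ algebraMap A K z * x ∈ (algebraMap A K).range := fun x z => Iff.rfl
  let S : Set (Ideal A) := {I | ∃ x : K, x ∉ (algebraMap A K).range ∧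
    algebraMap K L x ∈ (algebraMap B L).range ∧ den x = I}
  obtain ⟨_, ⟨x, hx, hxB, rfl⟩, hmax⟩ := set_has_maximal_iff_noetherian.2 inferInstance S ⟨_, a, ha', ⟨c, hc⟩, rfl⟩
  have hp : (den x).IsPrime := by
    refine Ideal.isPrime_iff.2 ⟨fun h => hx ?_, fun {z w} hzw => ?_⟩
    · have := (hmem x 1).1 (h ▸ Submodule.mem_top)
      rwa [map_one, one_mul] at this
    · by_contra hcon
      push Not at hcon
      have h' : den (algebraMap A K z * x) ∈ S := ⟨_, hcon.1, by
        rw [map_mul, ← IsScalarTower.algebraMap_apply, IsScalarTower.algebraMap_apply A B L]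
        exact mul_mem ⟨_, rfl⟩ hxB, rfl⟩
      have hlt : den x < den (algebraMap A K z * x) := by
        refine lt_of_le_of_ne (fun t ht => ?_) fun he => hcon.2 ?_
        · rw [hmem, mul_left_comm]; exact mul_mem ⟨z, rfl⟩ ht
        · rw [he, hmem, ← mul_assoc, ← map_mul, mul_comm w z]; exact hzw
      exact hmax _ h' hlt
  obtain ⟨b, hb⟩ := hxB
  obtain ⟨q, hq, hqp⟩ := hsurj (den x) hp
  have hbad : ∀ z ∈ den x, ∀ w, algebraMap A K z * x = algebraMap A K w → w ∈ den x := by
    intro z hz w hw
    have h1 : algebraMap A B z * b = algebraMap A B w := by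
      refine IsFractionRing.injective B L ?_
      rw [map_mul, hb, ← IsScalarTower.algebraMap_apply, ← IsScalarTower.algebraMap_apply,
        IsScalarTower.algebraMap_apply A K L, IsScalarTower.algebraMap_apply A K L, ← map_mul, hw]
    rw [← hqp, Ideal.mem_comap, ← h1]
    exact q.mul_mem_right _ (show algebraMap A B z ∈ q by rw [← Ideal.mem_comap, hqp]; exact hz)
  have hint : IsIntegral A x := by
    obtain ⟨n, hn⟩ : ∃ n : A, n ∈ den x ∧ n ≠ 0 := by
      obtain ⟨⟨u, s⟩, hus⟩ := IsLocalization.surj (nonZeroDivisors A) x
      exact ⟨s, (hmem x s).2 ⟨u, by rw [← hus, mul_comm]⟩, nonZeroDivisors.coe_ne_zero s⟩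
    let N : Submodule A K := Submodule.map (Algebra.linearMap A K) (den x)
    refine isIntegral_of_smul_mem_submodule N ?_ ((IsNoetherian.noetherian _).map _) x ?_
    · rw [Ne, Submodule.eq_bot_iff]
      push Not
      exact ⟨_, ⟨n, hn.1, rfl⟩, (map_ne_zero_iff _ (IsFractionRing.injective A K)).2 hn.2⟩
    · rintro _ ⟨z, hz, rfl⟩
      obtain ⟨w, hw⟩ := (hmem x z).1 hz
      exact ⟨w, hbad z hz w hw.symm, by rw [Algebra.linearMap_apply, Algebra.linearMap_apply, hw, smul_eq_mul, mul_comm]⟩
  obtain ⟨y, hy⟩ := IsIntegrallyClosed.isIntegral_iff.1 hint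
  exact hx ⟨y, hy⟩

end Groth.Agent.S15084
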