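import Groth.Statements.S1510
import Groth.Agent.LCIPres.PerfectCancel

set_option autoImplicit false
universe u
attribute [local instance] HasDerivedCategory.standard
open FlatMor

namespace Groth.Agent.S1510

open AlgebraicGeometry CategoryTheory Limits in
/-- Let f : X → Y and g : Y → S with g smooth and f ≫ g perfect. Then f is perfect. -/
theorem result {X Y S : Scheme.{u}} (f : X ⟶ Y) (g : Y ⟶ S) [Smooth g] (h : MoreMor.IsPerfectMor (f ≫ g)) :
    MoreMor.IsPerfectMor f := by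
  refine (HasRingHomProperty.iff_exists_appLE (P := Groth.Agent.PCHom.pfMor.{u}) (Q := Groth.Agent.PCHom.PfQ)
    Groth.Agent.PCHom.pfQ_sourceAway).2 fun x => ?_
  obtain ⟨V, hV, hxV, -⟩ := exists_isAffineOpen_mem_and_subset (x := g (f x)) (U := ⊤) trivial
  obtain ⟨W, hW, hxW, eW⟩ := exists_isAffineOpen_mem_and_subset (x := f x) (U := g ⁻¹ᵁ V) hxV
  obtain ⟨U, hU, hxU, eU⟩ := exists_isAffineOpen_mem_and_subset (x := x) (U := f ⁻¹ᵁ W) hxW
  refine ⟨⟨W, hW⟩, ⟨U, hU⟩, hxU, eU, ?_⟩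
  have e : U ≤ (f ≫ g) ⁻¹ᵁ V := fun y hy => eW (eU hy)
  letI := (g.appLE V W eW).hom.toAlgebra
  letI := (f.appLE W U eU).hom.toAlgebra
  letI := ((f ≫ g).appLE V U e).hom.toAlgebra
  haveI : IsScalarTower Γ(S, V) Γ(Y, W) Γ(X, U) := IsScalarTower.of_algebraMap_eq' (by
    show ((f ≫ g).appLE V U e).hom = (g.appLE V W eW ≫ f.appLE W U eU).hom
    rw [Scheme.Hom.appLE_comp_appLE])
  haveI : Algebra.Smooth Γ(S, V) Γ(Y, W) := g.smooth_appLE hV hW eW
  exact Groth.Agent.LCIPres.isPerfectHom_cancel_smooth (A := Γ(S, V)) (B := Γ(Y, W)) (h U V hU hV e)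

end Groth.Agent.S1510
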