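import Groth.Statements.S15115
import Groth.Agent.LinRed.Integral

set_option autoImplicit false
universe u
open HopfRep

namespace Groth.Agent.S15115

open TensorProduct


open TensorProduct in
/-- Let k be an algebraically closed field, H a finite-dimensional commutative Hopf algebra over k all
of whose finite-dimensional comodules are semisimple (a finite linearly reductive group scheme G
over k), A a commutative k-algebra, and M an A-module with an H-coaction that is A-linear (G acts on
M by A-module maps, A carrying the trivial action). Let A' be a commutative A-algebra and N = A' ⊗_A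
M its base change, exhibited by an A-linear map φ : M → N, with the induced coaction: A'-linear and
compatible with φ. Then invariants commute with this base change: writing M^G for the A-submodule of
coinvariant elements of M, the natural map A' ⊗_A M^G → N, a' ⊗ m ↦ a' φ(m), is injective and its
image is exactly the set of coinvariant elements of N. (The published statement is the isomorphism
ρ^* π_* F → π'_* σ^* F for a tame Deligne–Mumford stack with coarse moduli space π and any base
change ρ of the coarse space; this row is the statement about invariants to which its proof reduces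
it, for modules that need not be finitely generated.) -/
theorem result (k : Type u) [Field k] [IsAlgClosed k]
    (H : Type u) [CommRing H] [HopfAlgebra k H] [Module.Finite k H] (hred : HopfRep.IsLinearlyReductive k H)
    (A : Type u) [CommRing A] [Algebra k A]
    (M : Type u) [AddCommGroup M] [Module k M] [Module A M] [IsScalarTower k A M] [HopfRep.Comod k H M]
    (hlin : ∀ (a : A) (m : M), HopfRep.Comod.coact (k := k) (A := H) (a • m) = a • HopfRep.Comod.coact (k := k) (A := H) m)
    (A' : Type u) [CommRing A'] [Algebra k A'] [Algebra A A'] [IsScalarTower k A A']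
    (N : Type u) [AddCommGroup N] [Module k N] [Module A N] [Module A' N]
    [IsScalarTower k A N] [IsScalarTower A A' N] [IsScalarTower k A' N] [HopfRep.Comod k H N]
    (φ : M →ₗ[A] N) (hφ : IsBaseChange A' φ)
    (hcomp : ∀ m : M, HopfRep.Comod.coact (k := k) (A := H) (φ m) =
      LinearMap.rTensor H (φ.restrictScalars k) (HopfRep.Comod.coact (k := k) (A := H) m))
    (hlinN : ∀ (a' : A') (n : N), HopfRep.Comod.coact (k := k) (A := H) (a' • n) = a' • HopfRep.Comod.coact (k := k) (A := H) n)
    (P : Submodule A M) (hP : (P : Set M) = (HopfRep.fixedPts k H M : Set M)) :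
    Function.Injective (TensorProduct.lift (((Algebra.lsmul A A N : A' →ₐ[A] Module.End A N).toLinearMap).compl₂ (φ ∘ₗ P.subtype))) ∧
      Set.range (TensorProduct.lift (((Algebra.lsmul A A N : A' →ₐ[A] Module.End A N).toLinearMap).compl₂ (φ ∘ₗ P.subtype))) =
        (HopfRep.fixedPts k H N : Set N) := by
  obtain ⟨α, hα⟩ := Groth.Agent.LinRed.exists_isNormIntegral hred
  have hsm : ∀ (a : A) (m : M), Groth.Agent.Comod.actL α (a • m) = a • Groth.Agent.Comod.actL (A := H) α m := by
    intro a m
    simp only [Groth.Agent.Comod.actL_apply, hlin]
    generalize HopfRep.Comod.coact (k := k) (A := H) m = z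
    induction z with
    | zero => simp
    | tmul p q => simp [TensorProduct.smul_tmul', smul_comm a]
    | add y z hy hz => simp only [smul_add, map_add, hy, hz]
  have hsmN : ∀ (a : A') (n : N), Groth.Agent.Comod.actL α (a • n) = a • Groth.Agent.Comod.actL (A := H) α n := by
    intro a n
    simp only [Groth.Agent.Comod.actL_apply, hlinN]
    generalize HopfRep.Comod.coact (k := k) (A := H) n = z
    induction z with
    | zero => simp
    | tmul p q => simp [TensorProduct.smul_tmul', smul_comm a]
    | add y z hy hz => simp only [smul_add, map_add, hy, hz]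
  have hφ' : ∀ m : M, Groth.Agent.Comod.actL (A := H) α (φ m) = φ (Groth.Agent.Comod.actL (A := H) α m) := by
    intro m
    simp only [Groth.Agent.Comod.actL_apply, hcomp, Groth.Agent.Comod.slR_rTensor]
    rfl
  have hmem : ∀ m, Groth.Agent.Comod.actL (A := H) α m ∈ P := fun m => by
    rw [← SetLike.mem_coe, hP]; exact Groth.Agent.LinRed.actL_mem_fixedPts hα m
  have hfix : ∀ p ∈ P, Groth.Agent.Comod.actL (A := H) α p = p := fun p hp =>
    Groth.Agent.LinRed.actL_eq_self hα (by rw [← SetLike.mem_coe, ← hP]; exact hp)
  let r : M →ₗ[A] P :=
    { toFun := fun m => ⟨Groth.Agent.Comod.actL (A := H) α m, hmem m⟩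
      map_add' := fun x y => Subtype.ext (map_add _ x y)
      map_smul' := fun a x => Subtype.ext (hsm a x) }
  set μ := TensorProduct.lift (((Algebra.lsmul A A N : A' →ₐ[A] Module.End A N).toLinearMap).compl₂ (φ ∘ₗ P.subtype))
  have hμ : ∀ z, μ z = hφ.equiv (P.subtype.lTensor A' z) := by
    intro z
    induction z with
    | zero => simp
    | tmul a p => simp [μ, IsBaseChange.equiv_tmul]
    | add y z hy hz => simp only [map_add, hy, hz]
  refine ⟨?_, ?_⟩
  · intro x y hxy
    rw [hμ, hμ] at hxy
    have h1 := hφ.equiv.injective hxy
    have h2 := congrArg (r.lTensor A') h1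
    have hr : r ∘ₗ P.subtype = LinearMap.id := LinearMap.ext fun p => Subtype.ext (hfix p p.2)
    rwa [← LinearMap.comp_apply, ← LinearMap.comp_apply, ← LinearMap.lTensor_comp, hr, LinearMap.lTensor_id] at h2
  · ext n
    constructor
    · rintro ⟨z, rfl⟩
      show μ z ∈ HopfRep.fixedPts k H N
      induction z with
      | zero => simp
      | tmul a p =>
        have : μ (a ⊗ₜ p) = a • φ (p : M) := by simp [μ]
        rw [this, ← hfix p p.2, ← hφ', ← hsmN]
        exact Groth.Agent.LinRed.actL_mem_fixedPts hα _
      | add y z hy hz => rw [map_add]; exact add_mem hy hz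
    · intro hn
      rw [← Groth.Agent.LinRed.actL_eq_self hα hn]
      obtain ⟨z, rfl⟩ := hφ.equiv.surjective n
      clear hn
      induction z with
      | zero => exact ⟨0, by simp⟩
      | tmul a m =>
        refine ⟨a ⊗ₜ r m, ?_⟩
        rw [IsBaseChange.equiv_tmul, hsmN, hφ']
        simp [μ, r]
      | add y z hy hz =>
        obtain ⟨a, ha⟩ := hy
        obtain ⟨b, hb⟩ := hz
        exact ⟨a + b, by rw [map_add, map_add, map_add, ha, hb]⟩

end Groth.Agent.S15115
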