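import Groth.Statements.S15116
import Mathlib

set_option autoImplicit false
universe u v
open NRGIT

namespace Groth.Agent.S15116

/-- Let k be a characteristic-zero field and A a commutative k-algebra, graded by the integers with all
pieces of positive degree zero, and D a k-derivation of A that raises degrees by a fixed positive
integer l. If no maximal ideal of A contains both every piece of negative degree and the image of D,
then there is f with D f = 1. (The published statement is for an affine variety with an action of
the semidirect product of the additive and multiplicative groups, the multiplicative group acting on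
the coordinate ring with non-positive weights and on the Lie algebra of the additive group with
positive weight: the derivation is a generator of that Lie algebra, the maximal ideals containing
the pieces of negative degree are the limit points under the multiplicative group, and a limit point
has trivial additive stabiliser exactly when the image of D is not contained in its ideal; this row
keeps only this algebraic content, for any such graded algebra. The first assertion of the published
lemma, that every point has a limit in the variety under the multiplicative group as t → 0, is not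
part of this row.) -/
theorem result (k : Type u) [Field k] [CharZero k]
    (A : Type v) [CommRing A] [Algebra k A] (𝒜 : ℤ → Submodule k A) [GradedAlgebra 𝒜]
    (hpos : ∀ i : ℤ, 0 < i → 𝒜 i = ⊥)
    (D : Derivation k A A) (l : ℤ) (hl : 0 < l)
    (hD : ∀ (i : ℤ) (a : A), a ∈ 𝒜 i → D a ∈ 𝒜 (i + l))
    (hfree : ∀ m : Ideal A, m.IsMaximal → (∀ i : ℤ, i < 0 → (𝒜 i : Set A) ⊆ m) → ∃ a : A, D a ∉ m) :
    ∃ f : A, D f = 1 := by
  classical
  have hd : ∀ (x : A) (i : ℤ), 0 < i → ((DirectSum.decompose 𝒜 x i : 𝒜 i) : A) = 0 := by
    intro x i hi
    have := (DirectSum.decompose 𝒜 x i).2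
    simp only [hpos i hi, Submodule.mem_bot] at this
    exact this
  let pr : A → A := fun x => ((DirectSum.decompose 𝒜 x 0 : 𝒜 0) : A)
  have hadd : ∀ x y, pr (x + y) = pr x + pr y := fun x y => by simp [pr]
  have hzero : pr 0 = 0 := by simp [pr]
  let T : Submodule k A := (𝒜 (-l)).map (D : A →ₗ[k] A)
  have hT : ∀ c ∈ 𝒜 0, ∀ t ∈ T, c * t ∈ T := by
    rintro c hc _ ⟨f, hf, rfl⟩
    have hDc : D c = 0 := by
      have := hD 0 c hc
      rwa [zero_add, hpos l hl, Submodule.mem_bot] at this
    refine ⟨c * f, ?_, ?_⟩
    · have := SetLike.mul_mem_graded hc hf
      rwa [zero_add] at this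
    · simp [hDc]
  let N : Ideal A :=
    { carrier := {x | pr x ∈ T}
      zero_mem' := by simp only [Set.mem_setOf_eq, hzero]; exact T.zero_mem
      add_mem' := fun {x y} hx hy => by simp only [Set.mem_setOf_eq, hadd]; exact T.add_mem hx hy
      smul_mem' := fun c x hx => by
        show pr (c * x) ∈ T
        induction c using DirectSum.Decomposition.inductionOn 𝒜 with
        | zero => rw [zero_mul, hzero]; exact T.zero_mem
        | add a b ha hb => rw [add_mul, hadd]; exact T.add_mem ha hb
        | @homogeneous i a =>
          have h1 : pr ((a : A) * x) = (a : A) * (DirectSum.decompose 𝒜 x (-i) : A) := by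
            have := DirectSum.coe_decompose_mul_add_of_left_mem 𝒜 (i := i) (j := -i) (b := x) a.2
            rwa [add_neg_cancel] at this
          rw [h1]
          rcases lt_trichotomy i 0 with hi | hi | hi
          · rw [hd x (-i) (by omega), mul_zero]; exact T.zero_mem
          · subst hi
            rw [neg_zero]; exact hT _ a.2 _ hx
          · have := a.2
            simp only [hpos i hi, Submodule.mem_bot] at this
            rw [this, zero_mul]; exact T.zero_mem }
  by_cases hN : N = ⊤
  · have h1 : pr 1 ∈ T := by
      have : (1 : A) ∈ N := hN ▸ Submodule.mem_top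
      exact this
    have h2 : pr 1 = 1 := DirectSum.decompose_of_mem_same 𝒜 SetLike.GradedOne.one_mem
    rw [h2] at h1
    obtain ⟨f, -, hf⟩ := h1
    exact ⟨f, hf⟩
  · obtain ⟨m, hm, hle⟩ := Ideal.exists_le_maximal N hN
    obtain ⟨a, ha⟩ := hfree m hm (fun i hi x hx => hle (by
      show pr x ∈ T
      rw [show pr x = 0 from DirectSum.decompose_of_mem_ne 𝒜 hx (by omega)]; exact T.zero_mem))
    refine absurd ?_ ha
    apply hle
    show pr (D a) ∈ T
    clear ha
    induction a using DirectSum.Decomposition.inductionOn 𝒜 with
    | zero => rw [map_zero, hzero]; exact T.zero_mem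
    | add a b ha hb => rw [map_add, hadd]; exact T.add_mem ha hb
    | @homogeneous i a =>
      by_cases hi : i + l = 0
      · have hm' := hD i a a.2
        rw [hi] at hm'
        rw [show pr (D a) = D a from DirectSum.decompose_of_mem_same 𝒜 hm']
        exact ⟨a, (show i = -l by omega) ▸ a.2, rfl⟩
      · rw [show pr (D a) = 0 from DirectSum.decompose_of_mem_ne 𝒜 (hD i a a.2) hi]
        exact T.zero_mem

end Groth.Agent.S15116
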