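import Groth.Statements.S15117
import Mathlib.LinearAlgebra.Basis.VectorSpace

set_option autoImplicit false
universe u v w
open TensorProduct
open NRGIT

namespace Groth.Agent.S15117

open scoped TensorProduct


/-- Let k be a field, π : A → B a map of commutative bialgebras over k, W a right A-comodule and V ⊆ W a
subcomodule all of whose elements are coinvariant for the B-coaction induced through π. Then the
coaction of every v ∈ V lies in V ⊗ A' ⊆ W ⊗ A, where A' ⊆ A is the set of elements a with (π ⊗
id)(Δ a) = 1 ⊗ a, i.e. coinvariant for the coaction of B on A through π on the left factor; the row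
states membership in the span of the pure tensors w ⊗ a with w ∈ V and a ∈ A'. (The published
statement is for a linear algebraic group H over an algebraically closed field of characteristic
zero, a normal subgroup N and an H-stable space V of N-invariant sections of a linearised line
bundle, with the coaction landing in O(H)^N ⊗ V, where O(H)^N is the ring of functions on H
invariant under N acting by right multiplication; this row is the comodule form, for any bialgebra
map over a field, where normality of N is not needed.) -/
theorem result (k : Type u) [Field k]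
    (A B : Type v) [CommRing A] [CommRing B] [Bialgebra k A] [Bialgebra k B] (π : A →ₐc[k] B)
    (W : Type w) [AddCommGroup W] [Module k W] [HopfRep.Comod k A W]
    (V : Submodule k W) (hV : HopfRep.IsSubcomod (k := k) (A := A) V)
    (hfix : ∀ v ∈ V, (π.toLinearMap.lTensor W) (HopfRep.Comod.coact (k := k) (A := A) v) = v ⊗ₜ[k] (1 : B))
    (v : W) (hv : v ∈ V) :
    HopfRep.Comod.coact (k := k) (A := A) v ∈
      Submodule.span k {x : W ⊗[k] A | ∃ w ∈ V, ∃ a : A,
        (π.toLinearMap.rTensor A) (Coalgebra.comul (R := k) a) = (1 : B) ⊗ₜ[k] a ∧ x = w ⊗ₜ[k] a} := by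
  obtain ⟨x, hx⟩ := hV v hv
  let b := Module.Basis.ofVectorSpace k V
  obtain ⟨c, hc⟩ := TensorProduct.eq_repr_basis_left b x
  have hcoass := LinearMap.congr_fun (HopfRep.Comod.coassoc (k := k) (A := A) (V := W)) v
  simp only [LinearMap.comp_apply, LinearEquiv.coe_coe] at hcoass
  have hρ : HopfRep.Comod.coact (k := k) (A := A) v = c.sum fun i a => (b i : W) ⊗ₜ[k] a := by
    rw [← hx, ← hc, map_finsuppSum]
    rfl
  let ψ : W ⊗[k] (A ⊗[k] A) →ₗ[k] W ⊗[k] (B ⊗[k] A) := (π.toLinearMap.rTensor A).lTensor W
  have key : ψ ((CoalgebraStruct.comul (R := k) (A := A)).lTensor W (HopfRep.Comod.coact (k := k) (A := A) v)) =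
      c.sum fun i a => (b i : W) ⊗ₜ[k] ((1 : B) ⊗ₜ[k] a) := by
    rw [← hcoass]
    conv_lhs => rw [hρ]
    rw [map_finsuppSum, map_finsuppSum, map_finsuppSum]
    refine Finsupp.sum_congr fun i _ => ?_
    rw [LinearMap.rTensor_tmul]
    have e : ∀ z : W ⊗[k] A, ψ ((TensorProduct.assoc k W A A) (z ⊗ₜ[k] c i)) =
        (TensorProduct.assoc k W B A) ((π.toLinearMap.lTensor W z) ⊗ₜ[k] c i) := by
      intro z
      induction z with
      | zero => simp
      | tmul p q => simp [ψ]
      | add y z hy hz => simp only [TensorProduct.add_tmul, map_add, hy, hz]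
    rw [e, hfix _ (b i).2]
    simp
  have key2 : ∀ i, (π.toLinearMap.rTensor A) (Coalgebra.comul (R := k) (c i)) = (1 : B) ⊗ₜ[k] c i := by
    intro i
    obtain ⟨φ, hφ⟩ := LinearMap.exists_extend (b.coord i)
    let sl : ∀ (N : Type v) [AddCommGroup N] [Module k N], W ⊗[k] N →ₗ[k] N := fun N _ _ =>
      (TensorProduct.lid k N).toLinearMap ∘ₗ φ.rTensor N
    have hφb : ∀ j, φ (b j : W) = Finsupp.single j (1 : k) i := by
      intro j
      have := LinearMap.congr_fun hφ (b j)
      simpa [Module.Basis.repr_self] using this
    have h2 := congrArg (sl (B ⊗[k] A)) key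
    rw [hρ, map_finsuppSum, map_finsuppSum, map_finsuppSum, map_finsuppSum] at h2
    simp only [ψ, sl, LinearMap.lTensor_tmul, LinearMap.comp_apply, LinearMap.rTensor_tmul, LinearEquiv.coe_coe,
      TensorProduct.lid_tmul, hφb, Finsupp.single_apply, ite_smul, one_smul, zero_smul, Finsupp.sum_ite_eq',
      Finsupp.mem_support_iff, ne_eq] at h2
    by_cases hi : c i = 0
    · simp [hi]
    · rw [Finsupp.sum_eq_single i (fun j _ hj => by simp [hj]) (by simp),
        Finsupp.sum_eq_single i (fun j _ hj => by simp [hj]) (by simp)] at h2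
      simpa using h2
  rw [hρ]
  exact Submodule.sum_mem _ fun i _ => Submodule.subset_span ⟨(b i : W), (b i).2, c i, key2 i, rfl⟩

end Groth.Agent.S15117
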