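import Groth.Statements.S15122

set_option autoImplicit false
universe u v w
open GIT

namespace Groth.Agent.S15122

/-- Let R be a commutative ring, A a commutative R-algebra graded by the natural numbers, σ a
homogeneous element of degree zero, and B the localisation of A away from σ, equipped with a grading
by the natural numbers for which the localisation map ι : A → B is a graded ring homomorphism (such
a grading is necessarily the one induced from A). Then the homogeneous ideal of B generated by the
image of the irrelevant ideal of A is the whole irrelevant ideal of B; in other words the induced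
rational map from Proj B to Proj A is defined everywhere. (The published statement also assumes σ a
non-zero-divisor, which this step does not use, and goes on to conclude that Proj B → Proj A is an
open immersion onto the basic open set of σ.) -/
theorem result
    (R : Type u) (A : Type v) (B : Type w) [CommRing R] [CommRing A] [CommRing B] [Algebra R A] [Algebra R B]
    [Algebra A B] [IsScalarTower R A B]
    (𝒜 : ℕ → Submodule R A) [GradedAlgebra 𝒜] (ℬ : ℕ → Submodule R B) [GradedAlgebra ℬ]
    (σ : A) (hσ0 : σ ∈ 𝒜 0) [IsLocalization.Away σ B]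
    (ι : 𝒜 →+*ᵍ ℬ) (hι : ∀ a : A, ι a = algebraMap A B a) :
    (HomogeneousIdeal.irrelevant 𝒜).map ι = HomogeneousIdeal.irrelevant ℬ := by
  classical
  apply le_antisymm
  · refine (HomogeneousIdeal.map_le_iff_le_comap ..).2 ((HomogeneousIdeal.irrelevant_le 𝒜).2 fun i hi a ha => ?_)
    exact HomogeneousIdeal.mem_irrelevant_of_mem ℬ hi (Graded.map_mem ι ha)
  · refine (HomogeneousIdeal.irrelevant_le ℬ).2 fun i hi b hb => ?_
    obtain ⟨⟨a, m, hm⟩, h⟩ := IsLocalization.surj (Submonoid.powers σ) b
    obtain ⟨n, rfl⟩ := hm
    have hsn : algebraMap A B (σ ^ n) ∈ ℬ 0 := by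
      rw [← hι]
      exact Graded.map_mem ι (by simpa using SetLike.pow_mem_graded n hσ0)
    replace hb : b ∈ ℬ i := hb
    have hbn : b * algebraMap A B (σ ^ n) ∈ ℬ i := by
      have h0 := SetLike.GradedMul.mul_mem (A := ℬ) hb hsn
      rwa [add_zero] at h0
    have key : b * algebraMap A B (σ ^ n) = algebraMap A B (DirectSum.decompose 𝒜 a i : A) := by
      rw [← hι (DirectSum.decompose 𝒜 a i : A), GradedRingHom.map_directSumDecompose, hι a, ← h,
        DirectSum.decompose_of_mem_same ℬ hbn]
    have hu : IsUnit (algebraMap A B (σ ^ n)) :=
      IsLocalization.map_units (M := Submonoid.powers σ) B ⟨σ ^ n, n, rfl⟩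
    change b ∈ ((HomogeneousIdeal.irrelevant 𝒜).map ι).toIdeal
    rw [← Ideal.mul_unit_mem_iff_mem _ hu, key, ← hι]
    exact Ideal.mem_map_of_mem _ (HomogeneousIdeal.mem_irrelevant_of_mem 𝒜 hi (SetLike.coe_mem _))

end Groth.Agent.S15122
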