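import Groth.Statements.S15128
import Mathlib.RingTheory.Flat.EquationalCriterion
import Mathlib.RingTheory.Artinian.Module
import Mathlib.RingTheory.HopkinsLevitzki
import Mathlib.LinearAlgebra.TensorProduct.Quotient
import Mathlib.RingTheory.LocalRing.ResidueField.Basic

set_option autoImplicit false
universe u v
open CAlg

namespace Groth.Agent.S15128

/-- Over an Artinian local ring A with residue field k, a linear map h between flat A-modules (of any
size) is injective, resp. surjective, as soon as its reduction k ⊗_A h is. (The published statement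
is for local Artinian algebras over an algebraically closed field of characteristic zero having that
field as residue field; this row allows any Artinian local ring.) -/
theorem result
    (A : Type u) [CommRing A] [IsLocalRing A] [IsArtinianRing A]
    (P L : Type v) [AddCommGroup P] [Module A P] [AddCommGroup L] [Module A L]
    [Module.Flat A P] [Module.Flat A L] (h : P →ₗ[A] L) :
    (Function.Injective (h.lTensor (IsLocalRing.ResidueField A)) → Function.Injective h) ∧
    (Function.Surjective (h.lTensor (IsLocalRing.ResidueField A)) → Function.Surjective h) := by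
  classical
  set m := IsLocalRing.maximalIdeal A with hm
  obtain ⟨N, hN⟩ := IsArtinianRing.isNilpotent_jacobson_bot (R := A)
  rw [IsLocalRing.jacobson_eq_maximalIdeal ⊥ bot_ne_top, ← hm] at hN
  let eP := TensorProduct.quotTensorEquivQuotSMul P m
  let eL := TensorProduct.quotTensorEquivQuotSMul L m
  have hcomm : ∀ x : P, eL (h.lTensor (A ⧸ m) (eP.symm (Submodule.Quotient.mk x))) = Submodule.Quotient.mk (h x) := by
    intro x
    rw [TensorProduct.quotTensorEquivQuotSMul_symm_mk]
    show eL ((Ideal.Quotient.mk m 1) ⊗ₜ[A] h x) = _
    exact (TensorProduct.quotTensorEquivQuotSMul_mk_tmul m 1 (h x)).trans (by rw [one_smul])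
  refine ⟨fun hinj => ?_, fun hsurj => ?_⟩
  · have hinj : Function.Injective (h.lTensor (A ⧸ m)) := hinj
    have hmod : ∀ p : P, h p ∈ m • (⊤ : Submodule A L) → p ∈ m • (⊤ : Submodule A P) := by
      intro p hp
      rw [← Submodule.Quotient.mk_eq_zero] at hp ⊢
      rw [← hcomm, LinearEquiv.map_eq_zero_iff, map_eq_zero_iff _ hinj, LinearEquiv.map_eq_zero_iff] at hp
      exact hp
    have key : ∀ j : ℕ, ∀ x, h x = 0 → x ∈ m ^ j • (⊤ : Submodule A P) := by
      intro j
      induction j with
      | zero => intro x _; simp
      | succ j ih =>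
        intro x hx
        have hxj := ih x hx
        have hfg : (m ^ j).FG := IsNoetherian.noetherian _
        obtain ⟨s, hs, hcard⟩ : ∃ s : Finset A, Ideal.span (s : Set A) = m ^ j ∧
            ∀ t : Finset A, Ideal.span (t : Set A) = m ^ j → s.card ≤ t.card := by
          have hex : ∃ n, ∃ t : Finset A, Ideal.span (t : Set A) = m ^ j ∧ t.card = n := by
            obtain ⟨t, ht⟩ := hfg; exact ⟨_, t, ht, rfl⟩
          obtain ⟨t, ht, htc⟩ := Nat.find_spec hex
          exact ⟨t, ht, fun u hu => htc ▸ Nat.find_min' hex ⟨u, hu, rfl⟩⟩
        have hindep : ∀ (a : s → A), ∑ c, a c * (c : A) = 0 → ∀ c, a c ∈ m := by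
          intro a ha c₀
          by_contra hc
          have hu : IsUnit (a c₀) := by
            rw [hm, IsLocalRing.mem_maximalIdeal, mem_nonunits_iff, not_not] at hc; exact hc
          have hmem : (c₀ : A) ∈ Ideal.span ((s.erase c₀.1 : Finset A) : Set A) := by
            have : a c₀ * (c₀ : A) ∈ Ideal.span ((s.erase c₀.1 : Finset A) : Set A) := by
              rw [← Finset.add_sum_erase Finset.univ _ (Finset.mem_univ c₀), add_eq_zero_iff_eq_neg] at ha
              rw [ha]
              refine neg_mem (Submodule.sum_mem _ fun c hc => Ideal.mul_mem_left _ _ (Ideal.subset_span ?_))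
              exact Finset.mem_erase.mpr ⟨fun e => (Finset.mem_erase.mp hc).1 (Subtype.ext e), c.2⟩
            exact (Ideal.unit_mul_mem_iff_mem _ hu).mp this
          have hspan : Ideal.span ((s.erase c₀.1 : Finset A) : Set A) = m ^ j := by
            refine le_antisymm (hs ▸ Ideal.span_mono (by simp)) (hs ▸ Ideal.span_le.mpr fun z hz => ?_)
            by_cases e : z = c₀.1
            · exact e ▸ hmem
            · exact Ideal.subset_span (Finset.mem_erase.mpr ⟨e, hz⟩)
          have := hcard _ hspan
          rw [Finset.card_erase_of_mem c₀.2] at this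
          have : 0 < s.card := Finset.card_pos.mpr ⟨_, c₀.2⟩
          omega
        obtain ⟨p, hp⟩ : ∃ p : s → P, ∑ c : s, (c : A) • p c = x := by
          rw [← hs] at hxj
          clear hindep hcard hs hx
          induction hxj using Submodule.smul_induction_on' with
          | smul r hr n _ =>
            obtain ⟨a, rfl⟩ : ∃ a : s → A, ∑ c, a c * (c : A) = r := by
              rw [show (s : Set A) = Set.range ((↑) : s → A) from Subtype.range_coe.symm] at hr
              exact (Submodule.mem_span_range_iff_exists_fun A).mp hr
            exact ⟨fun c => a c • n, by rw [Finset.sum_smul]; simp [smul_smul, mul_comm]⟩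
          | add u _ v _ hu hv =>
            obtain ⟨p, rfl⟩ := hu
            obtain ⟨q, rfl⟩ := hv
            exact ⟨p + q, by simp [Finset.sum_add_distrib]⟩
        have h0 : ∑ c : s, (c : A) • h (p c) = 0 := by rw [← hx, ← hp, map_sum]; simp only [map_smul]
        obtain ⟨k, a, y, hy, ha⟩ := Module.Flat.isTrivialRelation_of_sum_smul_eq_zero h0
        rw [← hp, pow_succ, Submodule.mul_smul]
        refine Submodule.sum_mem _ fun c _ => Submodule.smul_mem_smul (hs ▸ Ideal.subset_span c.2) (hmod _ ?_)
        rw [show h (p c) = _ from hy c]
        refine Submodule.sum_mem _ fun l _ => Submodule.smul_mem_smul (hindep (fun c => a c l) ?_ c) Submodule.mem_top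
        rw [← ha l]; exact Finset.sum_congr rfl fun c _ => mul_comm _ _
    rw [injective_iff_map_eq_zero]
    intro x hx
    have := key N x hx
    rwa [hN, Submodule.zero_eq_bot, Submodule.bot_smul, Submodule.mem_bot] at this
  · have hsurj : Function.Surjective (h.lTensor (A ⧸ m)) := hsurj
    intro y
    have hdec : ∀ (j : ℕ) (y : L), ∃ x, y - h x ∈ m ^ j • (⊤ : Submodule A L) := by
      intro j
      induction j with
      | zero => intro y; exact ⟨0, by simp⟩
      | succ j ih =>
        intro y
        have hstep : ∀ z ∈ m ^ j • (⊤ : Submodule A L), ∃ x, z - h x ∈ m ^ (j + 1) • (⊤ : Submodule A L) := by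
          intro z hz
          induction hz using Submodule.smul_induction_on' with
          | smul r hr n _ =>
            obtain ⟨t, ht⟩ := hsurj (eL.symm (Submodule.Quotient.mk n))
            obtain ⟨w, hw⟩ := Submodule.Quotient.mk_surjective _ (eP t)
            have : (Submodule.Quotient.mk (h w) : L ⧸ m • (⊤ : Submodule A L)) = Submodule.Quotient.mk n := by
              rw [← hcomm, hw, LinearEquiv.symm_apply_apply, ht, LinearEquiv.apply_symm_apply]
            rw [Submodule.Quotient.eq] at this
            refine ⟨r • w, ?_⟩
            rw [map_smul, ← smul_sub, pow_succ, Submodule.mul_smul]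
            exact Submodule.smul_mem_smul hr (by simpa using neg_mem this)
          | add u _ v _ hu hv =>
            obtain ⟨a, ha⟩ := hu
            obtain ⟨b, hb⟩ := hv
            exact ⟨a + b, by rw [map_add, add_sub_add_comm]; exact add_mem ha hb⟩
        obtain ⟨x, hx⟩ := ih y
        obtain ⟨x', hx'⟩ := hstep _ hx
        exact ⟨x + x', by rw [map_add, ← sub_sub]; exact hx'⟩
    obtain ⟨x, hx⟩ := hdec N y
    rw [hN, Submodule.zero_eq_bot, Submodule.bot_smul, Submodule.mem_bot, sub_eq_zero] at hx
    exact ⟨x, hx.symm⟩

end Groth.Agent.S15128
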