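import Groth.Statements.S15130
import Groth.Agent.CAlgH.ArtFlat

set_option autoImplicit false
universe u v
open CAlg

namespace Groth.Agent.S15130

/-- Let A be an Artinian local ring with residue field k and P → Q → R → M → 0 a complex of A-modules
with P, Q, R flat which is exact at R and at M. If the reduced complex k ⊗ P → k ⊗ Q → k ⊗ R is
exact (the rest of the reduced sequence is then automatically exact), then M is flat and the
original complex is exact at Q as well. (The published statement is for local Artinian algebras over
an algebraically closed field of characteristic zero having that field as residue field; this row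
allows any Artinian local ring.) -/
theorem result
    (A : Type u) [CommRing A] [IsLocalRing A] [IsArtinianRing A]
    (P Q R M : Type v) [AddCommGroup P] [Module A P] [AddCommGroup Q] [Module A Q]
    [AddCommGroup R] [Module A R] [AddCommGroup M] [Module A M]
    [Module.Flat A P] [Module.Flat A Q] [Module.Flat A R]
    (f : P →ₗ[A] Q) (g : Q →ₗ[A] R) (h : R →ₗ[A] M)
    (hfg : g ∘ₗ f = 0) (hgh : Function.Exact g h) (hh : Function.Surjective h)
    (hred : Function.Exact (f.lTensor (IsLocalRing.ResidueField A)) (g.lTensor (IsLocalRing.ResidueField A))) :
    Module.Flat A M ∧ Function.Exact f g := by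
  have hgf : LinearMap.range f ≤ LinearMap.ker g := LinearMap.range_le_ker_iff.2 hfg
  have h1 := CAlgH.ArtFlat.injMod_liftQ f g hgf hred
  have hinj := CAlgH.ArtFlat.injective_of_injMod h1
  refine ⟨?_, ?_⟩
  · have hker : LinearMap.range ((LinearMap.range f).liftQ g hgf) = LinearMap.ker h := by
      rw [Submodule.range_liftQ, LinearMap.exact_iff.1 hgh]
    haveI := CAlgH.ArtFlat.flat_quotient h1
    exact Module.Flat.of_linearEquiv
      (((Submodule.quotEquivOfEq _ _ hker).trans (h.quotKerEquivOfSurjective hh)).symm)
  · rw [LinearMap.exact_iff]
    refine le_antisymm (fun x hx => ?_) hgf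
    rw [← Submodule.Quotient.mk_eq_zero]
    exact (injective_iff_map_eq_zero _).1 hinj _ (by simpa using hx)

end Groth.Agent.S15130
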