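import Groth.Statements.S15131
import Groth.Agent.ArtHull.Deform
import Groth.Prelude.Def_ArtFun4
-- import your own Groth.Agent.* helpers here

set_option autoImplicit false
universe u v
open CategoryTheory
open ArtFun

namespace Groth.Agent.S15131

/-- Let k be a field and F a functor on local Artinian k-algebras with residue field k with F(k) a
single point, satisfying (H1) (the comparison map of A₁ ×_A A₂ is surjective when A₂ → A is a small
extension) and (H2) (it is bijective when A = k and A₂ = k[ε]). If the tangent space F(k[ε]) is a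
single point then F is the one-point functor: every F(A) has exactly one element. (The converse is
clear.) -/
theorem result
    {k : Type u} [Field k] (F : ArtFun.Art k k ⥤ Type v)
    (h0 : ArtFun.H0 F) (h1 : ArtFun.Hbar F) (h2 : ArtFun.Heps F)
    (ht : Subsingleton (ArtFun.TangentSpace F)) (A : ArtFun.Art k k) :
    Nonempty (F.obj A) ∧ Subsingleton (F.obj A) := by
  have htd : Subsingleton (F.obj (ArtFun.Art.dual k k)) := ht
  have := h0.2
  refine ⟨h0.1.map (F.map (ArtFun.Art.ofBase A)), ⟨?_⟩⟩
  refine Groth.Agent.ArtHull.surjective_induction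
    (fun {B A} f => Subsingleton (F.obj A) → ∀ y y' : F.obj B, y = y')
    ?_ ?_ (ArtFun.Art.toBase A) A.res_surjective h0.2
  · intro B A f hf _ y y'
    obtain ⟨g, hg, -⟩ := Groth.Agent.ArtHull.exists_inv_of_bijective f hf
    have := congrArg (F.map g) (Subsingleton.elim (F.map f y) (F.map f y'))
    rwa [Groth.Agent.ArtHull.map_map_apply, Groth.Agent.ArtHull.map_map_apply, hg,
      Groth.Agent.ArtHull.map_id_elt, Groth.Agent.ArtHull.map_id_elt] at this
  
  intro B C A g t _ hg ht hA y y'
  have hC : F.map g y = F.map g y' := ht hA _ _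
  rcases hg with hg | hg
  · obtain ⟨g', hg', -⟩ := Groth.Agent.ArtHull.exists_inv_of_bijective g hg
    have := congrArg (F.map g') hC
    rwa [Groth.Agent.ArtHull.map_map_apply, Groth.Agent.ArtHull.map_map_apply, hg',
      Groth.Agent.ArtHull.map_id_elt, Groth.Agent.ArtHull.map_id_elt] at this
  obtain ⟨E, p, q, Θ, hE, hsq, -⟩ := Groth.Agent.ArtHull.exists_dual_square' g hg
  obtain ⟨Δ, hΔ₁, hΔ₂⟩ := Groth.Agent.ArtHull.fibreProd_liftHom hsq (𝟙 B) (𝟙 B) rfl
  obtain ⟨z, hz₁, hz₂⟩ := Groth.Agent.ArtHull.exists_of_cmp_surjective (h1 _ _ _ _ hsq hg) y y' hC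
  have hz : z = F.map Δ y := (h2 _ _ hE).1 ((Groth.Agent.ArtHull.cmp_eq_iff hE).mpr ⟨by
    rw [hz₁, Groth.Agent.ArtHull.map_map_apply, hΔ₁, Groth.Agent.ArtHull.map_id_elt],
    (htd.elim _ _)⟩)
  rw [← hz₂, hz, Groth.Agent.ArtHull.map_map_apply, hΔ₂, Groth.Agent.ArtHull.map_id_elt]

end Groth.Agent.S15131
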