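import Groth.Statements.S15134
import Groth.Agent.ArtHull.Deform
-- import your own Groth.Agent.* helpers here

set_option autoImplicit false
universe u v
open CategoryTheory
open ArtFun

namespace Groth.Agent.S15134

/-- Let k be a field and F a functor on local Artinian k-algebras with residue field k with F(k) a
point. If F satisfies (H2') — the comparison map F(A₁ ×_k A₂) → F(A₁) × F(A₂) is bijective for every
pair of objects — then F satisfies condition (L): for every small extension f : B → A with kernel J,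
writing P = B ×_k B, Q = A ×_k A, r : P → Q for the map induced by f, and C = P/K with K the ideal
of P consisting of the pairs (b, b) with b ∈ J, every element of F(Q) whose two images in F(A) agree
lifts along F(C) → F(Q). Here P and Q are pinned as fibre products over k, K is described through
the two projections, and the two inequalities on K (it lies in the maximal ideal of P and is killed
by r), which always hold, are taken as hypotheses so that the quotient object and the factored map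
can be named. -/
theorem result
    {k : Type u} [Field k] (F : ArtFun.Art k k ⥤ Type v) (h0 : ArtFun.H0 F)
    (h2' : ∀ ⦃P A' A'' : ArtFun.Art k k⦄ (p' : P ⟶ A') (p'' : P ⟶ A'')
      (h : ArtFun.Art.IsFibreProd p' p'' (ArtFun.Art.toBase A') (ArtFun.Art.toBase A'')),
      Function.Bijective (ArtFun.cmp F h))
    ⦃B A : ArtFun.Art k k⦄ (f : B ⟶ A) (hf : ArtFun.Art.IsSmallExt f)
    ⦃P : ArtFun.Art k k⦄ (p₁ p₂ : P ⟶ B)
    (hP : ArtFun.Art.IsFibreProd p₁ p₂ (ArtFun.Art.toBase B) (ArtFun.Art.toBase B))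
    ⦃Q : ArtFun.Art k k⦄ (q₁ q₂ : Q ⟶ A)
    (hQ : ArtFun.Art.IsFibreProd q₁ q₂ (ArtFun.Art.toBase A) (ArtFun.Art.toBase A))
    (r : P ⟶ Q) (hr₁ : r ≫ q₁ = p₁ ≫ f) (hr₂ : r ≫ q₂ = p₂ ≫ f)
    (hK : Ideal.span {z : P | p₁ z = p₂ z ∧ f (p₁ z) = 0} ≤ IsLocalRing.maximalIdeal P)
    (hKr : Ideal.span {z : P | p₁ z = p₂ z ∧ f (p₁ z) = 0} ≤ RingHom.ker r.toAlgHom)
    (y : F.obj Q) (hy : F.map q₁ y = F.map q₂ y) :
    ∃ z : F.obj (ArtFun.Art.quot P (Ideal.span {z : P | p₁ z = p₂ z ∧ f (p₁ z) = 0}) hK),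
      F.map (ArtFun.Art.quotFactor hK r hKr) z = y := by
  obtain ⟨ΔQ, hΔ₁, hΔ₂⟩ := Groth.Agent.ArtHull.fibreProd_liftHom hQ (𝟙 A) (𝟙 A) rfl
  obtain ⟨ΔP, hP₁, hP₂⟩ := Groth.Agent.ArtHull.fibreProd_liftHom hP (𝟙 B) (𝟙 B) rfl
  have hy' : F.map ΔQ (F.map q₁ y) = y := (h2' q₁ q₂ hQ).1 ((Groth.Agent.ArtHull.cmp_eq_iff hQ).mpr ⟨by
      rw [Groth.Agent.ArtHull.map_map_apply, hΔ₁, Groth.Agent.ArtHull.map_id_elt], by
      rw [Groth.Agent.ArtHull.map_map_apply, hΔ₂, Groth.Agent.ArtHull.map_id_elt, hy]⟩)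
  obtain ⟨t, ht⟩ := Groth.Agent.ArtHull.exists_desc f hf.1 (ΔP ≫ ArtFun.Art.quotMk P _ hK) (fun b hb => by
    change Ideal.Quotient.mk _ (ΔP b) = 0
    refine Ideal.Quotient.eq_zero_iff_mem.2 (Ideal.subset_span ⟨?_, ?_⟩)
    · change (ΔP ≫ p₁) b = (ΔP ≫ p₂) b
      rw [hP₁, hP₂]
    · change f ((ΔP ≫ p₁) b) = 0
      rw [hP₁]
      exact hb)
  have htr : t ≫ ArtFun.Art.quotFactor hK r hKr = ΔQ := ArtFun.Art.hom_ext (AlgHom.ext fun a => by
    obtain ⟨b, rfl⟩ := hf.1 a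
    have e1 : f ≫ t ≫ ArtFun.Art.quotFactor hK r hKr = ΔP ≫ r := by
      rw [← Category.assoc, ht, Category.assoc, ArtFun.Art.quotMk_quotFactor]
    refine (congrArg (fun φ : B ⟶ Q => φ b) e1).trans (hQ.inj _ _ ?_ ?_)
    · change ((ΔP ≫ r) ≫ q₁) b = ((f ≫ ΔQ) ≫ q₁) b
      rw [Category.assoc, hr₁, ← Category.assoc, hP₁, Category.id_comp, Category.assoc, hΔ₁, Category.comp_id]
    · change ((ΔP ≫ r) ≫ q₂) b = ((f ≫ ΔQ) ≫ q₂) b
      rw [Category.assoc, hr₂, ← Category.assoc, hP₂, Category.id_comp, Category.assoc, hΔ₂, Category.comp_id])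
  exact ⟨F.map t (F.map q₁ y), by rw [Groth.Agent.ArtHull.map_map_apply, htr, hy']⟩

end Groth.Agent.S15134
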