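import Groth.Statements.S15135


set_option autoImplicit false
universe u v
open Deform

namespace Groth.Agent.S15135

/-- For R-modules M ⊆ N, the first-order embedded deformations of M in N are in canonical bijection with
Hom_R(M, N/M). Writing N ⊗ k[ε] = N ⊕ εN as N × N (the pair (x, y) standing for x + εy), such a
deformation is an R-submodule L of N × N which is stable under multiplication by ε (if (x, y) ∈ L
then (0, x) ∈ L), reduces to M (x ∈ M exactly when (x, y) ∈ L for some y) and is flat over the dual
numbers, flatness being stated elementwise as: (0, y) ∈ L only if y ∈ M (for a submodule reducing to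
M this is the equality of the kernel and the image of ε on L, i.e. flatness over k[ε] when R is an
algebra over a field k). To φ : M → N/M corresponds the submodule of all (x, y) with x ∈ M and y ≡
φ(x) mod M. The first clause says this rule defines exactly one submodule for each φ; the second
says that a submodule has the three properties precisely when its membership is given by this rule
for some φ. (The published statement is a linear isomorphism t_G ≅ Hom_R(M, N/M) for the functor G
of flat deformations of M inside N ⊗ A over local Artinian algebras A; this row states only the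
underlying bijection, and the obstruction half is not stated here.) -/
theorem result
    (R : Type u) [CommRing R] (N : Type v) [AddCommGroup N] [Module R N] (M : Submodule R N) :
    (∀ φ : M →ₗ[R] (N ⧸ M), ∃! L : Submodule R (N × N),
        ∀ x y : N, (x, y) ∈ L ↔ ∃ h : x ∈ M, Submodule.Quotient.mk y = φ ⟨x, h⟩) ∧
    (∀ L : Submodule R (N × N),
      ((∀ x y : N, (x, y) ∈ L → ((0 : N), x) ∈ L) ∧
        (∀ x : N, x ∈ M ↔ ∃ y : N, (x, y) ∈ L) ∧
        (∀ y : N, ((0 : N), y) ∈ L → y ∈ M)) ↔
      ∃ φ : M →ₗ[R] (N ⧸ M), ∀ x y : N, (x, y) ∈ L ↔ ∃ h : x ∈ M, Submodule.Quotient.mk y = φ ⟨x, h⟩) := by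
  constructor
  · intro φ
    refine ⟨{ carrier := {p | ∃ h : p.1 ∈ M, Submodule.Quotient.mk p.2 = φ ⟨p.1, h⟩}
              zero_mem' := ⟨M.zero_mem, (map_zero φ).symm⟩
              add_mem' := ?_
              smul_mem' := ?_ }, fun x y => Iff.rfl, fun L hL => ?_⟩
    · rintro a b ⟨ha, ha'⟩ ⟨hb, hb'⟩
      exact ⟨M.add_mem ha hb, (congrArg₂ (· + ·) ha' hb').trans (map_add φ ⟨a.1, ha⟩ ⟨b.1, hb⟩).symm⟩
    · rintro r a ⟨ha, ha'⟩
      exact ⟨M.smul_mem r ha, (congrArg (r • ·) ha').trans (map_smul φ r ⟨a.1, ha⟩).symm⟩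
    · ext ⟨x, y⟩
      exact hL x y
  · intro L
    constructor
    · rintro ⟨h1, h2, h3⟩
      choose y hy using fun x : M => (h2 x).1 x.2
      have huniq : ∀ (x : M) (z : N), ((x : N), z) ∈ L →
          (Submodule.Quotient.mk z : N ⧸ M) = Submodule.Quotient.mk (y x) := fun x z hz =>
        (Submodule.Quotient.eq M).2 (h3 _ (by simpa using L.sub_mem hz (hy x)))
      refine ⟨{ toFun := fun x => Submodule.Quotient.mk (y x)
                map_add' := fun a b => by
                  rw [← Submodule.Quotient.mk_add]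
                  exact (huniq _ _ (L.add_mem (hy a) (hy b))).symm
                map_smul' := fun r a => by
                  rw [RingHom.id_apply, ← Submodule.Quotient.mk_smul]
                  exact (huniq _ _ (L.smul_mem r (hy a))).symm }, fun x z => ⟨fun h => ?_, ?_⟩⟩
      · exact ⟨(h2 x).2 ⟨z, h⟩, huniq ⟨x, _⟩ z h⟩
      · rintro ⟨hx, hz⟩
        have h := h1 _ _ (hy ⟨x, hx⟩)
        have hm : z - y ⟨x, hx⟩ ∈ M := (Submodule.Quotient.eq M).1 hz
        have h' := h1 _ _ (hy ⟨_, hm⟩)
        simpa using L.add_mem (hy ⟨x, hx⟩) h'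
    · rintro ⟨φ, hφ⟩
      refine ⟨fun x y h => ?_, fun x => ⟨fun hx => ?_, fun ⟨y, hy⟩ => ((hφ x y).1 hy).1⟩, fun y hy => ?_⟩
      · obtain ⟨hx, -⟩ := (hφ x y).1 h
        exact (hφ 0 x).2 ⟨M.zero_mem, by rw [(Submodule.Quotient.mk_eq_zero M).2 hx]; exact (map_zero φ).symm⟩
      · obtain ⟨y, hy⟩ := Submodule.Quotient.mk_surjective _ (φ ⟨x, hx⟩)
        exact ⟨y, (hφ x y).2 ⟨hx, hy⟩⟩
      · obtain ⟨h0, hy'⟩ := (hφ 0 y).1 hy
        exact (Submodule.Quotient.mk_eq_zero M).1 (hy'.trans (map_zero φ))

end Groth.Agent.S15135
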