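import Groth.Statements.S15146
import Mathlib.RingTheory.PowerSeries.Inverse
import Mathlib.Tactic.LinearCombination


set_option autoImplicit false
universe u
open HilbZeta

namespace Groth.Agent.S15146

/-- Let k be a field, s a natural number and R a k-subalgebra of the product of s copies of the power
series ring k[[x]], of finite codimension δ over k and local with residue field k (all components of
an element of R have the same constant term); write v_i for the x-adic order of the i-th component
of an s-tuple, and let c = (c_1, …, c_s) be the conductor exponents, so that an s-tuple f satisfies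
f·g ∈ R for every s-tuple g exactly when v_i(f) ≥ c_i for all i (over an algebraically closed field
such an R is precisely the completed local ring of a reduced curve singularity having s branches
sitting inside its normalisation, δ is its delta invariant and the conductor ideal is generated by
the x_i^{c_i}). If J is an ideal of R of finite colength which contains, for each i, an element f_i
with v_i(f_i) = l_i, then every s-tuple g with v_i(g) ≥ l_i + c_i for all i lies in R and belongs to
J. (The published statement is over an algebraically closed field; this row allows any field.) -/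
theorem result (k : Type u) [Field k] (s : ℕ)
    (R : Subalgebra k (Fin s → PowerSeries k))
    (hfin : Module.Finite k ((Fin s → PowerSeries k) ⧸ Subalgebra.toSubmodule R))
    (hloc : ∀ f ∈ R, ∀ i j : Fin s, PowerSeries.constantCoeff (f i) = PowerSeries.constantCoeff (f j))
    (c : Fin s → ℕ)
    (hc : ∀ f : Fin s → PowerSeries k,
      (∀ g : Fin s → PowerSeries k, g * f ∈ R) ↔ ∀ i, ((c i : ℕ) : ℕ∞) ≤ (f i).order)
    (J : Ideal ↥R) (hJ : Module.Finite k (↥R ⧸ J))
    (l : Fin s → ℕ) (hl : ∀ i : Fin s, ∃ f ∈ J, ((f : Fin s → PowerSeries k) i).order = ((l i : ℕ) : ℕ∞))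
    (g : Fin s → PowerSeries k) (hg : ∀ i : Fin s, ((l i + c i : ℕ) : ℕ∞) ≤ (g i).order) :
    ∃ hgR : g ∈ R, (⟨g, hgR⟩ : ↥R) ∈ J := by
  classical
  have hmul : ∀ {n : ℕ} {φ : PowerSeries k}, (n : ℕ∞) ≤ φ.order → PowerSeries.X ^ n ∣ φ := by
    intro n φ h
    rw [PowerSeries.X_pow_dvd_iff]
    intro m hm
    exact PowerSeries.coeff_of_lt_order _ (lt_of_lt_of_le (by exact_mod_cast hm) h)
  have hle : ∀ {n : ℕ} (φ : PowerSeries k), (n : ℕ∞) ≤ (PowerSeries.X ^ n * φ).order := by
    intro n φ
    refine PowerSeries.le_order _ _ fun m hm => ?_
    rw [PowerSeries.coeff_X_pow_mul', if_neg (by have : m < n := by exact_mod_cast hm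
                                                 omega)]
  have hmem : ∀ {φ : Fin s → PowerSeries k}, (∀ i, ((c i : ℕ) : ℕ∞) ≤ (φ i).order) → φ ∈ R := fun h => by
    simpa using (hc _).2 h 1
  choose f hf hord using hl
  choose q hq using fun i => hmul (hg i)
  have hunit : ∀ i, IsUnit (PowerSeries.divXPowOrder ((f i : Fin s → PowerSeries k) i)) := by
    intro i
    rw [PowerSeries.isUnit_iff_constantCoeff, isUnit_iff_ne_zero, Ne, PowerSeries.constantCoeff_divXPowOrder_eq_zero_iff]
    intro h0
    have := hord i
    rw [h0, PowerSeries.order_zero] at this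
    exact ENat.top_ne_coe _ this
  let h : Fin s → Fin s → PowerSeries k := fun i =>
    Pi.single i (PowerSeries.X ^ (c i) * (q i * (((hunit i).unit⁻¹ : (PowerSeries k)ˣ) : PowerSeries k)))
  have hh : ∀ i, h i ∈ R := by
    intro i
    refine hmem fun j => ?_
    by_cases hij : j = i
    · subst hij; simp only [h, Pi.single_eq_same]; exact hle _
    · simp [h, Pi.single_eq_of_ne hij]
  let z : ↥R := ∑ i, f i * ⟨h i, hh i⟩
  have hz : (z : Fin s → PowerSeries k) = g := by
    funext j
    rw [show (z : Fin s → PowerSeries k) = ∑ i, (f i : Fin s → PowerSeries k) * h i by simp [z]]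
    rw [Finset.sum_apply, Finset.sum_eq_single j]
    · simp only [Pi.mul_apply, h, Pi.single_eq_same]
      conv_lhs => arg 1; rw [← PowerSeries.X_pow_order_mul_divXPowOrder (f := (f j : Fin s → PowerSeries k) j)]
      rw [hord j, ENat.toNat_natCast, hq j, pow_add]
      have := (hunit j).mul_val_inv
      linear_combination (PowerSeries.X ^ (l j) * PowerSeries.X ^ (c j) * q j) * this
    · intro i _ hij
      simp [h, Pi.single_eq_of_ne (Ne.symm hij)]
    · simp
  refine ⟨hz ▸ z.2, ?_⟩
  have : (⟨g, hz ▸ z.2⟩ : ↥R) = z := Subtype.ext hz.symm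
  rw [this]
  exact J.sum_mem fun i _ => J.mul_mem_right _ (hf i)

end Groth.Agent.S15146
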