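import Groth.Statements.S1515
import Groth.Agent.PCHom.DiagRegular
import Groth.Agent.PCHom.PerfectDiag
import Groth.Agent.PCHom.RegImm

set_option autoImplicit false
universe u
set_option linter.style.haveILetI false
attribute [local instance] HasDerivedCategory.standard
open FlatMor

namespace Groth.Agent.S1515
set_option linter.style.haveILetI false

set_option linter.style.haveILetI false
attribute [local instance] HasDerivedCategory.standard

open AlgebraicGeometry CategoryTheory Limits TensorProduct Groth.Agent in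
theorem smooth_of_perfect_diagonal {X Y : Scheme.{u}} (f : X ⟶ Y) [Flat f] [LocallyOfFiniteType f]
    [IsLocallyNoetherian Y] (h : MoreMor.IsPerfectMor (pullback.diagonal f)) : Smooth f := by
  refine ⟨fun {V} hV {U} hU e => ?_⟩
  have hflat := f.flat_appLE hV hU e
  have hft := f.finiteType_appLE hV hU e
  letI : Algebra Γ(Y, V) Γ(X, U) := (f.appLE V U e).hom.toAlgebra
  haveI : Module.Flat Γ(Y, V) Γ(X, U) := hflat
  haveI : Algebra.FiniteType Γ(Y, V) Γ(X, U) := hft
  haveI : IsNoetherianRing Γ(Y, V) := IsLocallyNoetherian.component_noetherian ⟨V, hV⟩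
  refine PCHom.smooth_of_perfect_lmul ?_
  let A := Γ(Y, V)
  let B := Γ(X, U)
  let φ : Spec B ⟶ Spec A := Spec.map (CommRingCat.ofHom (algebraMap A B))
  have hcomm : φ ≫ hV.fromSpec = hU.fromSpec ≫ f := hV.SpecMap_appLE_fromSpec f hU e
  let q : Spec (.of (B ⊗[A] B)) ⟶ pullback f f :=
    (pullbackSpecIso A B B).inv ≫ pullback.map φ φ f f hU.fromSpec hU.fromSpec hV.fromSpec hcomm hcomm
  let δ : Spec B ⟶ Spec (.of (B ⊗[A] B)) :=
    Spec.map (CommRingCat.ofHom (Algebra.TensorProduct.lmul' (S := B) A).toRingHom)
  have hfac : δ ≫ q = hU.fromSpec ≫ pullback.diagonal f := by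
    apply pullback.hom_ext
    · simp only [δ, q, Category.assoc, pullback.diagonal_fst, Category.comp_id, pullback.lift_fst]
      rw [pullbackSpecIso_inv_fst_assoc, ← Spec.map_comp_assoc]
      convert! Category.id_comp hU.fromSpec using 2
      rw [← Spec.map_id]
      exact congrArg Spec.map (CommRingCat.hom_ext (RingHom.ext fun b => by simp [B]; rfl))
    · simp only [δ, q, Category.assoc, pullback.diagonal_snd, Category.comp_id, pullback.lift_snd]
      rw [pullbackSpecIso_inv_snd_assoc, ← Spec.map_comp_assoc]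
      convert! Category.id_comp hU.fromSpec using 2
      rw [← Spec.map_id]
      exact congrArg Spec.map (CommRingCat.hom_ext (RingHom.ext fun b => by simp [B]; rfl))
  have h1 : PCHom.pfMor (δ ≫ q) := hfac ▸ IsZariskiLocalAtSource.comp (P := PCHom.pfMor) h hU.fromSpec
  have h2 : PCHom.pfMor δ := by
    refine IsZariskiLocalAtTarget.of_isPullback (P := PCHom.pfMor) (iY := q)
      (IsPullback.mk ⟨Category.id_comp (δ ≫ q)⟩
        ⟨PullbackCone.IsLimit.mk _ (fun s => s.fst) (fun s => Category.comp_id _)
          (fun s => (cancel_mono q).1 ?_) (fun s m hm _ => by simpa using hm)⟩) h1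
    rw [Category.assoc]
    exact s.condition
  exact (HasRingHomProperty.Spec_iff (P := PCHom.pfMor)).1 h2

open AlgebraicGeometry CategoryTheory Limits in
/-- (1) ⇔ (2) ⇔ (4): let f : X → Y be separated and of finite type between locally Noetherian schemes,
with diagonal Δ (a closed immersion). Then f is smooth iff f is flat and Δ is a regular closed
immersion, iff f is flat and Δ is a perfect morphism. -/
theorem result {X Y : Scheme.{u}} (f : X ⟶ Y) [IsSeparated f] [LocallyOfFiniteType f] [QuasiCompact f] [IsLocallyNoetherian X] [IsLocallyNoetherian Y] :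
    (Smooth f ↔ Flat f ∧ Mor2.IsRegularClosedImmersion (pullback.diagonal f)) ∧
    (Smooth f ↔ Flat f ∧ MoreMor.IsPerfectMor (pullback.diagonal f)) := by
  refine ⟨⟨fun _ => ⟨inferInstance, Groth.Agent.PCHom.isRegularClosedImmersion_diagonal f⟩, fun ⟨h1, h2⟩ => ?_⟩,
    ⟨fun _ => ⟨inferInstance, Groth.Agent.PCHom.isPerfectMor_of_isRegularClosedImmersion _
      (Groth.Agent.PCHom.isRegularClosedImmersion_diagonal f)⟩, fun ⟨h1, h2⟩ => ?_⟩⟩
  · exact smooth_of_perfect_diagonal f (Groth.Agent.PCHom.isPerfectMor_of_isRegularClosedImmersion _ h2)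
  · exact smooth_of_perfect_diagonal f h2

end Groth.Agent.S1515
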