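import Groth.Statements.S15150
import Mathlib.RingTheory.Finiteness.Ideal
import Mathlib.LinearAlgebra.FiniteDimensional.Lemmas
import Mathlib.LinearAlgebra.Dual.Lemmas


set_option autoImplicit false
universe u
open HilbZeta

open scoped TensorProduct

namespace Groth.Agent.S15150

/-- Let A be a reduced commutative ring, S an A-algebra together with an A-algebra homomorphism π : S →
A (a section of Spec S → Spec A), with kernel m, and I an ideal of S such that S/I is a finite
projective A-module of constant rank d and m is contained in the radical of I (the finite flat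
subscheme Spec S/I of degree d lies, as a set, on the section). Then m^d ⊆ I: the subscheme lies in
the (d−1)-st infinitesimal neighbourhood of the section. (The published statement is for a closed
subscheme, flat and proper of degree d over a Noetherian base, of a family of reduced curve
singularities with a section, with no reducedness assumption on the base; over the dual numbers k[ε]
the ideal (x − ε) of k[ε][x] has quotient free of rank one and radical containing x but does not
contain x, so the base is taken reduced here, and the statement is given in its affine form, to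
which the argument reduces at once; the curve hypotheses play no role and are dropped; the condition
that Spec S/I lies set-theoretically on the section, which the published argument deduces from
properness of Z inside the germ, is a hypothesis here.) -/
theorem result (A : Type u) [CommRing A] [IsReduced A]
    (S : Type u) [CommRing S] [Algebra A S] (π : S →ₐ[A] A) (I : Ideal S) (d : ℕ)
    [Module.Finite A (S ⧸ I)] [Module.Projective A (S ⧸ I)]
    (hrank : ∀ p : PrimeSpectrum A, Module.rankAtStalk (R := A) (S ⧸ I) p = d)
    (hsupp : RingHom.ker π ≤ I.radical) :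
    RingHom.ker π ^ d ≤ I := by
  classical
  set m := RingHom.ker π
  have hzero : ∀ v : S ⧸ I, (∀ p : PrimeSpectrum A,
      (1 : p.asIdeal.ResidueField) ⊗ₜ[A] v = 0) → v = 0 := by
    intro v hv
    apply Module.eval_apply_injective A
    ext f
    rw [map_zero, Module.Dual.eval_apply, LinearMap.zero_apply]
    have hnil : IsNilpotent (f v) := by
      rw [nilpotent_iff_mem_prime]
      intro P hP
      have h := congrArg (f.baseChange (⟨P, hP⟩ : PrimeSpectrum A).asIdeal.ResidueField) (hv ⟨P, hP⟩)
      rw [LinearMap.baseChange_tmul, map_zero] at h
      have h' := congrArg (TensorProduct.AlgebraTensorModule.rid A (P.ResidueField) (P.ResidueField)) h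
      rw [TensorProduct.AlgebraTensorModule.rid_tmul, map_zero, Algebra.smul_def, mul_one] at h'
      exact (Ideal.algebraMap_residueField_eq_zero).1 h'
    exact hnil.eq_zero
  intro y hy
  rw [← Ideal.Quotient.eq_zero_iff_mem]
  apply hzero
  intro p
  let K := p.asIdeal.ResidueField
  have hd : Module.finrank K (K ⊗[A] (S ⧸ I)) = d := by
    rw [← hrank p, Module.rankAtStalk_eq]
  let φ : S →+* K ⊗[A] (S ⧸ I) :=
    (Algebra.TensorProduct.includeRight : (S ⧸ I) →ₐ[A] K ⊗[A] (S ⧸ I)).toRingHom.comp (Ideal.Quotient.mk I)
  let J := m.map φ
  have : IsNoetherianRing (K ⊗[A] (S ⧸ I)) := IsNoetherianRing.of_finite K _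
  have hJnil : J ≤ (⊥ : Ideal (K ⊗[A] (S ⧸ I))).radical := by
    rw [Ideal.map_le_iff_le_comap]
    intro x hx
    obtain ⟨n, hn⟩ := hsupp hx
    refine ⟨n, ?_⟩
    rw [Ideal.mem_bot, ← map_pow, RingHom.comp_apply, Ideal.Quotient.eq_zero_iff_mem.2 hn, map_zero]
  obtain ⟨N, hN⟩ := Ideal.exists_pow_le_of_le_radical_of_fg hJnil (IsNoetherian.noetherian J)
  have key : ∀ i, Module.finrank K ((J ^ i).restrictScalars K) ≤ d - i := by
    intro i
    induction i with
    | zero => exact (Submodule.finrank_le _).trans (by omega)
    | succ i ih =>
      have hle : J ^ (i + 1) ≤ J ^ i := Ideal.pow_le_pow_right (Nat.le_succ i)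
      rcases eq_or_lt_of_le hle with he | hlt
      · have hst : ∀ k, J ^ (i + k) = J ^ i := by
          intro k
          induction k with
          | zero => rfl
          | succ k ihk => rw [← add_assoc, Submodule.pow_succ, ihk, ← Submodule.pow_succ, he]
        have h0 : J ^ (i + 1) = ⊥ := by
          rw [he, ← hst N]
          exact le_bot_iff.1 ((Ideal.pow_le_pow_right (Nat.le_add_left _ _)).trans hN)
        rw [h0, Submodule.restrictScalars_bot, finrank_bot]
        exact Nat.zero_le _
      · have hlt' : (J ^ (i + 1)).restrictScalars K < (J ^ i).restrictScalars K :=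
          lt_of_le_of_ne hle (fun h => hlt.ne (Submodule.restrictScalars_injective K _ _ h))
        have := Submodule.finrank_lt_finrank_of_lt hlt'
        omega
  have hbot : J ^ d = ⊥ := by
    have h := key d
    rw [Nat.sub_self, Nat.le_zero, Submodule.finrank_eq_zero, Submodule.restrictScalars_eq_bot_iff] at h
    exact h
  have hmem : φ y ∈ J ^ d := by
    show φ y ∈ (m.map φ) ^ d
    rw [← Ideal.map_pow]
    exact Ideal.mem_map_of_mem _ hy
  rw [hbot, Ideal.mem_bot] at hmem
  exact hmem

end Groth.Agent.S15150
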