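import Groth.Statements.S15151
import Mathlib.RingTheory.Flat.TorsionFree
import Mathlib.RingTheory.Polynomial.Basic
import Mathlib.Algebra.Polynomial.FieldDivision


set_option autoImplicit false
universe u
open CategoryTheory AlgebraicGeometry
open HilbZeta

namespace Groth.Agent.S15151

/-- Let k be a field, and let f : X → Y and g : Y → Spec k[t] be morphisms of schemes with f
quasi-compact and with zero kernel ideal sheaf (Y is the scheme-theoretic image of f), such that the
composite X → Spec k[t] is flat. Then g is flat; in particular a k[t]-subalgebra of a flat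
k[t]-algebra is flat. (The published statement has no quasi-compactness hypothesis on f and is over
an algebraically closed field; this row assumes f quasi-compact and allows any field.) -/
theorem result (k : Type u) [Field k]
    (X Y : Scheme.{u}) (f : X ⟶ Y) (g : Y ⟶ Spec (CommRingCat.of (Polynomial k)))
    [QuasiCompact f] (hker : f.ker = ⊥) [Flat (f ≫ g)] : Flat g := by
  rw [HasRingHomProperty.iff_of_iSup_eq_top (P := @Flat) (f := g) (fun U : Y.affineOpens => U) (iSup_affineOpens_eq_top Y)]
  intro V
  set S0 := (Scheme.ΓSpecIso (CommRingCat.of (Polynomial k)))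
  have hbij : Function.Bijective S0.hom.hom := (ConcreteCategory.bijective_of_isIso S0.hom)
  have hbij' : Function.Bijective S0.inv.hom := (ConcreteCategory.bijective_of_isIso S0.inv)
  set φ := (g.appLE ⊤ V.1 le_top).hom with hφ
  have hfl : (φ.comp S0.inv.hom).Flat := by
    letI : Algebra (Polynomial k) Γ(Y, V.1) := (φ.comp S0.inv.hom).toAlgebra
    show Module.Flat (Polynomial k) Γ(Y, V.1)
    rw [Module.Flat.flat_iff_torsion_eq_bot_of_isBezout, Submodule.eq_bot_iff]
    intro r hr
    obtain ⟨⟨p, hp⟩, hpr : p • r = 0⟩ := (Submodule.mem_torsion_iff r).1 hr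
    have hkey : (f.app V.1).hom r = 0 := by
      apply X.IsSheaf.section_ext
      intro x hxV
      obtain ⟨_, ⟨W, hW, rfl⟩, hxW, hWV⟩ :=
        X.isBasis_affineOpens.exists_subset_of_mem_open hxV (f ⁻¹ᵁ V.1).2
      refine ⟨W, hWV, hxW, ?_⟩
      rw [map_zero]
      have hF : ((f ≫ g).appLE ⊤ W le_top).hom.Flat :=
        HasRingHomProperty.appLE (P := @Flat) (f ≫ g) inferInstance ⟨_, isAffineOpen_top _⟩ ⟨W, hW⟩ le_top
      have hF' := (RingHom.Flat.of_bijective hbij').comp hF
      letI : Algebra (Polynomial k) Γ(X, W) := (((f ≫ g).appLE ⊤ W le_top).hom.comp S0.inv.hom).toAlgebra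
      have : Module.Flat (Polynomial k) Γ(X, W) := hF'
      have hreg : IsSMulRegular Γ(X, W) p := Module.Flat.isSMulRegular_of_nonZeroDivisors hp
      apply hreg
      show p • _ = p • (0 : Γ(X, W))
      rw [smul_zero, Algebra.smul_def]
      have hc : (f ≫ g).appLE ⊤ W le_top = g.appLE ⊤ V.1 le_top ≫ f.appLE V.1 W hWV := (Scheme.Hom.appLE_comp_appLE f g _ _ _ _ _).symm
      show ((f ≫ g).appLE ⊤ W le_top).hom (S0.inv.hom p) * (f.appLE V.1 W hWV).hom r = 0
      rw [hc, CommRingCat.hom_comp, RingHom.comp_apply, ← map_mul]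
      rw [show (g.appLE ⊤ V.1 le_top).hom (S0.inv.hom p) * r = 0 from hpr, map_zero]
    have hmem : r ∈ f.ker.ideal V := by rw [Scheme.Hom.ker_apply]; exact hkey
    rw [hker] at hmem
    simpa using hmem
  have heq : φ = (φ.comp S0.inv.hom).comp S0.hom.hom := by
    rw [RingHom.comp_assoc, ← CommRingCat.hom_comp, Iso.hom_inv_id, CommRingCat.hom_id, RingHom.comp_id]
  rw [heq]
  exact (RingHom.Flat.of_bijective hbij).comp hfl

end Groth.Agent.S15151
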