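import Groth.Statements.S15153
import Mathlib.Algebra.Module.FinitePresentation
import Mathlib.RingTheory.Flat.EquationalCriterion
import Mathlib.RingTheory.Finiteness.Projective
import Mathlib.LinearAlgebra.TensorProduct.Pi
import Mathlib.RingTheory.Localization.Integer
import Mathlib.RingTheory.Spectrum.Prime.Topology
import Mathlib.LinearAlgebra.Matrix.ToLin
import Mathlib.LinearAlgebra.Matrix.NonsingularInverse
import Mathlib.Topology.Constructible
import Mathlib.RingTheory.Spectrum.Prime.Noetherian


set_option autoImplicit false
universe u
open TensorProduct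
open HilbZeta

namespace Groth.Agent.S15153

/-- Let A be a Noetherian commutative ring, S a commutative A-algebra and Q an S-module which is finite
and flat as an A-module. For a prime p of A with residue field κ(p), multiplication by an element of
S induces a κ(p)-linear endomorphism of the fibre κ(p) ⊗_A Q; let φ(p) be the κ(p)-dimension of the
span of these endomorphisms, which is the colength of the annihilator of the fibre module κ(p) ⊗_A Q
in the fibre algebra κ(p) ⊗_A S (the length of the smallest subscheme of the fibre carrying it).
Then p ↦ φ(p) is a constructible function: for every n the primes with φ(p) = n form a constructible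
subset of Spec A. (The published statement is for a coherent sheaf, flat and finite over a
Noetherian base, on a family of reduced curve singularities with a section, and its function of the
base point is this colength; the curve hypotheses play no role and the row is the affine form over
any Noetherian ring.) -/
theorem result (A : Type u) [CommRing A] [IsNoetherianRing A]
    (S : Type u) [CommRing S] [Algebra A S]
    (Q : Type u) [AddCommGroup Q] [Module A Q] [Module S Q] [IsScalarTower A S Q]
    [Module.Finite A Q] [Module.Flat A Q] (n : ℕ) :
    Topology.IsConstructible {p : PrimeSpectrum A |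
      Module.finrank p.asIdeal.ResidueField
        (Submodule.span p.asIdeal.ResidueField
          (Set.range fun s : S =>
            LinearMap.baseChange p.asIdeal.ResidueField (DistribSMul.toLinearMap A Q s))) = n} := by
  classical
  have : Module.FinitePresentation A Q := Module.finitePresentation_of_finite A Q
  have : Module.Projective A Q := Module.Flat.projective_of_finitePresentation
  obtain ⟨N, r, i, hr, -, hri⟩ := Module.Finite.exists_comp_eq_id_of_projective A Q
  let W : S → Fin N × Fin N → A := fun s ab => i (s • r (Pi.single ab.1 1)) ab.2
  let φ : PrimeSpectrum A → ℕ := fun p =>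
    Module.finrank p.asIdeal.ResidueField (Submodule.span p.asIdeal.ResidueField
      (Set.range fun s : S => algebraMap A p.asIdeal.ResidueField ∘ W s))
  have heq : ∀ p : PrimeSpectrum A, Module.finrank p.asIdeal.ResidueField
        (Submodule.span p.asIdeal.ResidueField
          (Set.range fun s : S => LinearMap.baseChange p.asIdeal.ResidueField (DistribSMul.toLinearMap A Q s))) = φ p := by
    intro p
    let κ := p.asIdeal.ResidueField
    let ε : κ ⊗[A] (Fin N → A) ≃ₗ[κ] (Fin N → κ) := TensorProduct.piScalarRight A κ κ (Fin N)
    let F : (κ ⊗[A] Q →ₗ[κ] κ ⊗[A] Q) →ₗ[κ] (Fin N × Fin N → κ) :=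
      { toFun := fun f ab => ε (i.baseChange κ (f (r.baseChange κ (1 ⊗ₜ[A] Pi.single ab.1 1)))) ab.2
        map_add' := fun f g => by ext ab; simp
        map_smul' := fun c f => by ext ab; simp }
    have hri' : ∀ x, r.baseChange κ (i.baseChange κ x) = x := fun x => by
      rw [← LinearMap.comp_apply, ← LinearMap.baseChange_comp, hri, LinearMap.baseChange_id, LinearMap.id_apply]
    have hF : Function.Injective F := by
      intro f g hfg
      have h1 : f.comp (r.baseChange κ) = g.comp (r.baseChange κ) := by
        ext a
        refine Function.LeftInverse.injective hri' (ε.injective ?_)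
        funext c
        simpa [F] using congrFun hfg (a, c)
      exact LinearMap.ext fun x => by
        have h2 := LinearMap.congr_fun h1 (i.baseChange κ x)
        rwa [LinearMap.comp_apply, LinearMap.comp_apply, hri'] at h2
    have hFg : ∀ s : S, F (LinearMap.baseChange κ (DistribSMul.toLinearMap A Q s)) = algebraMap A κ ∘ W s := by
      intro s
      ext ab
      simp [F, ε, W, Algebra.algebraMap_eq_smul_one]
    rw [(Submodule.equivMapOfInjective F hF _).finrank_eq, Submodule.map_span, ← Set.range_comp]
    exact congrArg (fun v => Module.finrank κ (Submodule.span κ (Set.range v))) (funext hFg)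
  have hge : ∀ m, IsOpen {p | m ≤ φ p} := by
    intro m
    refine isOpen_iff_forall_mem_open.2 fun p hp => ?_
    let κ := p.asIdeal.ResidueField
    obtain ⟨B, hB, hBspan, hBli⟩ := exists_linearIndependent κ (Set.range fun s : S => algebraMap A κ ∘ W s)
    have : Fintype B := (hBli.setFinite).fintype
    have hcard : m ≤ Fintype.card B := by
      refine hp.trans (le_of_eq ?_)
      show Module.finrank κ (Submodule.span κ _) = _
      rw [← hBspan, finrank_span_set_eq_card hBli, Set.toFinset_card]
    obtain ⟨e⟩ : Nonempty (Fin m ↪ B) := Function.Embedding.nonempty_of_card_le (by simpa using hcard)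
    choose c hc using fun j : Fin m => hB (e j).2
    let V : Matrix (Fin N × Fin N) (Fin m) A := fun ab j => W (c j) ab
    have hli : LinearIndependent κ fun j => algebraMap A κ ∘ W (c j) := by
      rw [show (fun j => algebraMap A κ ∘ W (c j)) = (fun x : B => (x : Fin N × Fin N → κ)) ∘ e from funext hc]
      exact hBli.comp _ e.injective
    obtain ⟨L, hL⟩ : ∃ L : Matrix (Fin m) (Fin N × Fin N) κ, L * V.map (algebraMap A κ) = 1 :=
      by
      obtain ⟨g, hg⟩ := LinearMap.exists_leftInverse_of_injective (Matrix.toLin' (V.map (algebraMap A κ)))
        (LinearMap.ker_eq_bot.2 (Matrix.mulVec_injective_iff.2 hli))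
      exact ⟨LinearMap.toMatrix' g, by
        have h := congrArg LinearMap.toMatrix' hg
        rwa [LinearMap.toMatrix'_comp, LinearMap.toMatrix'_toLin', LinearMap.toMatrix'_id] at h⟩
    obtain ⟨b, hb⟩ := IsLocalization.exist_integer_multiples_of_finite (nonZeroDivisors (A ⧸ p.asIdeal))
      (S := κ) fun x : Fin m × Fin N × Fin N => L x.1 x.2
    choose L₀ hL₀ using hb
    choose L₁ hL₁ using fun x => Ideal.Quotient.mk_surjective (L₀ x)
    let M : Matrix (Fin m) (Fin N × Fin N) A := fun j ab => L₁ (j, ab)
    have hM : M.map (algebraMap A κ) = algebraMap (A ⧸ p.asIdeal) κ b • L := by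
      ext j ab
      show algebraMap A κ (L₁ (j, ab)) = _
      rw [IsScalarTower.algebraMap_apply A (A ⧸ p.asIdeal) κ, Ideal.Quotient.algebraMap_eq, hL₁]
      exact (hL₀ (j, ab)).trans (Algebra.smul_def _ _)
    refine ⟨PrimeSpectrum.basicOpen (M * V).det, fun q hq => ?_, (PrimeSpectrum.basicOpen _).2, ?_⟩
    · show m ≤ Module.finrank q.asIdeal.ResidueField (Submodule.span q.asIdeal.ResidueField _)
      let κq := q.asIdeal.ResidueField
      have hdet : IsUnit ((M * V).map (algebraMap A κq)).det := by
        rw [← RingHom.mapMatrix_apply, ← RingHom.map_det, isUnit_iff_ne_zero, ne_eq, Ideal.algebraMap_residueField_eq_zero]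
        exact hq
      have hinj : Function.Injective (V.map (algebraMap A κq)).mulVec := by
        intro x y h
        have h2 : ((M * V).map (algebraMap A κq)).mulVec x = ((M * V).map (algebraMap A κq)).mulVec y := by
          simp only [Matrix.map_mul, ← Matrix.mulVec_mulVec]
          rw [h]
        exact Matrix.mulVec_injective_iff_isUnit.2 ((Matrix.isUnit_iff_isUnit_det _).2 hdet) h2
      have hli' : LinearIndependent κq fun j => algebraMap A κq ∘ W (c j) := Matrix.mulVec_injective_iff.1 hinj
      have h3 := finrank_span_eq_card hli'
      rw [Fintype.card_fin] at h3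
      exact h3.ge.trans (Submodule.finrank_mono (Submodule.span_mono (Set.range_subset_iff.2 fun j => ⟨c j, rfl⟩)))
    · show (M * V).det ∉ p.asIdeal
      rw [← Ideal.algebraMap_residueField_eq_zero, RingHom.map_det, RingHom.mapMatrix_apply, Matrix.map_mul, hM,
        Matrix.smul_mul, hL, Matrix.det_smul, Matrix.det_one, mul_one]
      exact pow_ne_zero _ ((map_ne_zero_iff _ p.asIdeal.injective_algebraMap_quotient_residueField).2
        (nonZeroDivisors.coe_ne_zero b))
  have hcons : ∀ m, Topology.IsConstructible {p | m ≤ φ p} := fun m =>
    (((TopologicalSpace.NoetherianSpace.isCompact _)).isRetrocompact (hge m)).isConstructible (hge m)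
  convert (hcons n).sdiff (hcons (n + 1)) using 1
  ext p
  simp only [Set.mem_setOf_eq, heq, Set.mem_sdiff]
  omega

end Groth.Agent.S15153
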