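import Groth.Statements.S15159
import Mathlib

set_option autoImplicit false
open CAlg

namespace Groth.Agent.S15159

section
variable {W H : Type} [AddCommGroup W] [Module ℂ W] [AddCommGroup H] [Module ℂ H] [FiniteDimensional ℂ H]

theorem finrank_biSup {ι : Type} [DecidableEq ι] (Hs : ι → Submodule ℂ H) (hi : iSupIndep Hs) (S : Finset ι) :
    Module.finrank ℂ ↥(⨆ i ∈ S, Hs i) = ∑ i ∈ S, Module.finrank ℂ (Hs i) := by
  induction S using Finset.induction with
  | empty => simp
  | @insert a S ha ih =>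
    have hd : Disjoint (Hs a) (⨆ i ∈ S, Hs i) := hi.disjoint_biSup (by simpa using ha)
    have := Submodule.finrank_sup_add_finrank_inf_eq (Hs a) (⨆ i ∈ S, Hs i)
    rw [hd.eq_bot, finrank_bot, add_zero] at this
    rw [Finset.iSup_insert, this, Finset.sum_insert ha, ih]

def perp (q : H →ₗ[ℂ] H →ₗ[ℂ] W) (V : Submodule ℂ H) : Submodule ℂ H := ⨅ (y : H) (_ : y ∈ V), LinearMap.ker (q.flip y)

theorem mem_perp {q : H →ₗ[ℂ] H →ₗ[ℂ] W} {V : Submodule ℂ H} {x : H} : x ∈ perp q V ↔ ∀ y ∈ V, q x y = 0 := by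
  simp [perp]

theorem count (M : ℕ) (m : ℤ) :
    ∑ t ∈ Finset.range M, ((if m ≤ -((t : ℤ) + 1) then (1 : ℤ) else 0) + (if m ≤ (t : ℤ) then 1 else 0)) =
      M - max (-(M : ℤ)) (min m M) := by
  induction M with
  | zero => simp
  | succ M ih => rw [Finset.sum_range_succ, ih]; push_cast; split_ifs <;> omega

theorem perp_zero {q : H →ₗ[ℂ] H →ₗ[ℂ] W} {ι : Type} (Hs : ι → Submodule ℂ H) (S T : ι → Prop)
    (h : ∀ i j, S i → T j → ∀ x ∈ Hs i, ∀ y ∈ Hs j, q x y = 0) :
    (⨆ i, ⨆ (_ : S i), Hs i) ≤ perp q (⨆ j, ⨆ (_ : T j), Hs j) := by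
  refine iSup₂_le fun i hi x hx => mem_perp.mpr fun y hy => ?_
  have : (⨆ j, ⨆ (_ : T j), Hs j) ≤ LinearMap.ker (q x) := iSup₂_le fun j hj y hy => h i j hi hj x hx y hy
  exact this hy

/-- numerical part: no bad one-parameter subgroup. -/
theorem forward (q : H →ₗ[ℂ] H →ₗ[ℂ] W) (hq0 : q ≠ 0) (strict : Bool)
    (hV : ∀ V : Submodule ℂ H, V ≠ ⊥ → (∀ x ∈ V, ∀ y ∈ V, q x y = 0) →
      Module.finrank ℂ V + Module.finrank ℂ (perp q V) + (if strict then 1 else 0) ≤ Module.finrank ℂ H)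
    (ι : Type) [Fintype ι] [DecidableEq ι] (Hs : ι → Submodule ℂ H) (m : ι → ℤ) (hint : DirectSum.IsInternal Hs)
    (hsum : (∑ i, m i * (Module.finrank ℂ (Hs i) : ℤ)) = 0) (hne : ∃ i, m i ≠ 0 ∧ Hs i ≠ ⊥) :
    ∃ i j, (∃ x ∈ Hs i, ∃ y ∈ Hs j, q x y ≠ 0) ∧ m i + m j + (if strict then 1 else 0) ≤ 0 := by
  by_contra hbad
  push Not at hbad
  have hz : ∀ i j, m i + m j + (if strict then (1 : ℤ) else 0) ≤ 0 → ∀ x ∈ Hs i, ∀ y ∈ Hs j, q x y = 0 := by
    intro i j hij x hx y hy
    by_contra h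
    exact absurd hij (not_le.mpr (hbad i j ⟨x, hx, y, hy, h⟩))
  set n := Module.finrank ℂ H with hn
  let d : ι → ℤ := fun i => Module.finrank ℂ (Hs i)
  let f : ℤ → ℤ := fun t => ∑ i, if m i ≤ t then d i else 0
  have hF : ∀ t, (Module.finrank ℂ ↥(⨆ i, ⨆ (_ : m i ≤ t), Hs i) : ℤ) = f t := fun t => by
    have : (⨆ i, ⨆ (_ : m i ≤ t), Hs i) = ⨆ i ∈ Finset.univ.filter (fun i => m i ≤ t), Hs i := by simp
    rw [this, finrank_biSup Hs hint.submodule_iSupIndep, Nat.cast_sum, Finset.sum_filter]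
  have htot : ∑ i, d i = n := by
    have h1 := finrank_biSup Hs hint.submodule_iSupIndep Finset.univ
    rw [show (⨆ i ∈ Finset.univ, Hs i) = ⊤ by simpa using hint.submodule_iSup_eq_top, finrank_top] at h1
    rw [hn, h1, Nat.cast_sum]
  have hle : ∀ t, f t ≤ n := fun t => by rw [← hF]; exact_mod_cast Submodule.finrank_le _
  have hb : ∀ (u v : ℤ), 2 * u + (if strict then 1 else 0) ≤ 0 → u + v + (if strict then 1 else 0) ≤ 0 →
      f u + f v + (if strict = true ∧ f u ≠ 0 then 1 else 0) ≤ n := by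
    intro u v h1 h2
    rcases eq_or_ne (⨆ i, ⨆ (_ : m i ≤ u), Hs i) ⊥ with h | h
    · have : f u = 0 := by rw [← hF, h, finrank_bot]; rfl
      simpa [this] using hle v
    have hVi : ∀ x ∈ (⨆ i, ⨆ (_ : m i ≤ u), Hs i), ∀ y ∈ (⨆ i, ⨆ (_ : m i ≤ u), Hs i), q x y = 0 := fun x hx =>
      mem_perp.mp (perp_zero Hs _ _ (fun i j hi hj => hz i j (by omega)) hx)
    have hp := Submodule.finrank_mono (perp_zero Hs (fun i => m i ≤ v) (fun i => m i ≤ u) (fun i j hi hj => hz i j (by omega)))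
    have := hV _ h hVi
    rw [← hF, ← hF]
    cases strict <;> simp only [Bool.false_eq_true, if_false, if_true, false_and, true_and] at this ⊢ <;>
      (try split_ifs) <;> omega
  obtain ⟨M, hM⟩ : ∃ M : ℕ, ∀ i, (m i).natAbs < M :=
    ⟨Finset.univ.sup (fun i => (m i).natAbs) + 1, fun i => Nat.lt_succ_of_le (Finset.le_sup (f := fun i => (m i).natAbs) (Finset.mem_univ i))⟩
  have hS : ∑ t ∈ Finset.range M, (f (-((t : ℤ) + 1)) + f t) = n * M := by
    have : ∀ i, ∑ t ∈ Finset.range M, ((if m i ≤ -((t : ℤ) + 1) then d i else 0) + (if m i ≤ (t : ℤ) then d i else 0)) =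
        d i * ((M : ℤ) - m i) := fun i => by
      have h1 := count M (m i)
      rw [show max (-(M : ℤ)) (min (m i) M) = m i by have := hM i; omega] at h1
      rw [← h1, Finset.mul_sum]
      refine Finset.sum_congr rfl fun t _ => ?_
      split_ifs <;> ring
    simp only [f, ← Finset.sum_add_distrib]
    rw [Finset.sum_comm, Finset.sum_congr rfl fun i _ => this i]
    simp only [mul_sub, Finset.sum_sub_distrib, ← Finset.sum_mul]
    rw [htot, show ∑ i, d i * m i = 0 by rw [← hsum]; simp [d, mul_comm], sub_zero]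
  have hterm : ∀ t : ℕ, f (-((t : ℤ) + 1)) + f t ≤ n := fun t => by
    have := hb (-((t : ℤ) + 1)) t (by split_ifs <;> omega) (by split_ifs <;> omega)
    have h0 : (0 : ℤ) ≤ if strict = true ∧ f (-((t : ℤ) + 1)) ≠ 0 then 1 else 0 := by split_ifs <;> omega
    linarith
  have hlt : ∀ t : ℕ, t < M → f (-((t : ℤ) + 1)) + f t < n → False := fun t ht h => by
    have h1 : ∑ s ∈ Finset.range M, (f (-((s : ℤ) + 1)) + f s) < ∑ _s ∈ Finset.range M, (n : ℤ) :=
      Finset.sum_lt_sum (fun s _ => hterm s) ⟨t, Finset.mem_range.mpr ht, h⟩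
    rw [hS, Finset.sum_const, Finset.card_range, nsmul_eq_mul, mul_comm] at h1
    exact lt_irrefl _ h1
  have hpos : ∀ i, Hs i ≠ ⊥ → 0 < d i := fun i hi => by
    have : Module.finrank ℂ (Hs i) ≠ 0 := fun h => hi (Submodule.finrank_eq_zero.mp h)
    show (0 : ℤ) < (Module.finrank ℂ (Hs i) : ℤ); omega
  have hdn : ∀ i, 0 ≤ d i := fun i => Int.natCast_nonneg _
  obtain ⟨i₀, hi₀, hH₀⟩ := hne
  cases strict with
  | false =>
    -- some weight is positive
    obtain ⟨i, hi, hHi⟩ : ∃ i, 0 < m i ∧ Hs i ≠ ⊥ := by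
      by_contra h
      push Not at h
      have h0 : ∑ i, m i * d i < 0 := by
        refine Finset.sum_neg' (fun i _ => ?_) ⟨i₀, Finset.mem_univ _, ?_⟩
        · rcases lt_or_ge 0 (m i) with h' | h'
          · simp [show d i = 0 from by show (Module.finrank ℂ (Hs i) : ℤ) = 0; rw [h i h', finrank_bot]; rfl]
          · exact mul_nonpos_of_nonpos_of_nonneg h' (hdn i)
        · refine mul_neg_of_neg_of_pos ?_ (hpos _ hH₀)
          rcases lt_or_ge 0 (m i₀) with h' | h'
          · exact absurd (h _ h') hH₀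
          · omega
      exact (ne_of_lt h0) hsum
    obtain ⟨k, hk⟩ := Int.eq_ofNat_of_zero_le (show 0 ≤ m i - 1 by omega)
    refine hlt k (by have := hM i; omega) ?_
    have h1 := hb (-((k : ℤ) + 1)) (k + 1) (by simp; omega) (by simp)
    have h2 : f k < f ((k : ℤ) + 1) := by
      refine Finset.sum_lt_sum (fun j _ => ?_) ⟨i, Finset.mem_univ _, ?_⟩
      · have := hdn j; split_ifs <;> omega
      · have := hpos i hHi; split_ifs <;> omega
    simp only [Bool.false_eq_true, false_and, if_false, add_zero] at h1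
    linarith
  | true =>
    obtain ⟨i, hi, hHi⟩ : ∃ i, m i < 0 ∧ Hs i ≠ ⊥ := by
      by_contra h
      push Not at h
      have h0 : 0 < ∑ i, m i * d i := by
        refine Finset.sum_pos' (fun i _ => ?_) ⟨i₀, Finset.mem_univ _, ?_⟩
        · rcases lt_or_ge (m i) 0 with h' | h'
          · simp [show d i = 0 from by show (Module.finrank ℂ (Hs i) : ℤ) = 0; rw [h i h', finrank_bot]; rfl]
          · exact mul_nonneg h' (hdn i)
        · refine mul_pos ?_ (hpos _ hH₀)
          rcases lt_or_ge (m i₀) 0 with h' | h'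
          · exact absurd (h _ h') hH₀
          · omega
      exact (ne_of_gt h0) hsum
    refine hlt 0 (by have := hM i; omega) ?_
    have h1 := hb (-1) 0 (by simp) (by simp)
    have h2 : f (-1) ≠ 0 := by
      refine ne_of_gt (Finset.sum_pos' (fun j _ => ?_) ⟨i, Finset.mem_univ _, ?_⟩)
      · have := hdn j; split_ifs <;> omega
      · have := hpos i hHi; split_ifs <;> omega
    simp only [h2, ne_eq, not_false_eq_true, and_true, if_true] at h1
    simp only [Nat.cast_zero, zero_add]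
    omega

theorem backward (s : W →ₗ[ℂ] W) (q : H →ₗ[ℂ] H →ₗ[ℂ] W) (hq : ∀ x y : H, q x y = s (q y x)) (hq0 : q ≠ 0)
    (strict : Bool)
    (h : ∀ (ι : Type) [Fintype ι] [DecidableEq ι] (Hs : ι → Submodule ℂ H) (m : ι → ℤ),
        DirectSum.IsInternal Hs → (∑ i, m i * (Module.finrank ℂ (Hs i) : ℤ)) = 0 →
        (∃ i, m i ≠ 0 ∧ Hs i ≠ ⊥) →
        ∃ i j, (∃ x ∈ Hs i, ∃ y ∈ Hs j, q x y ≠ 0) ∧ m i + m j + (if strict then 1 else 0) ≤ 0)
    (V : Submodule ℂ H) (hV : V ≠ ⊥) (hVi : ∀ x ∈ V, ∀ y ∈ V, q x y = 0) :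
    Module.finrank ℂ V + Module.finrank ℂ (perp q V) + (if strict then 1 else 0) ≤ Module.finrank ℂ H := by
  by_contra hgt
  have hVp : V ≤ perp q V := fun x hx => mem_perp.mpr fun y hy => hVi x hx y hy
  obtain ⟨C₃, hC₃⟩ := Submodule.exists_isCompl (perp q V)
  obtain ⟨C', hC'⟩ := Submodule.exists_isCompl V
  set C₂ := C' ⊓ perp q V
  have h12 : V ⊔ C₂ = perp q V := by
    rw [← sup_inf_assoc_of_le C' hVp, hC'.sup_eq_top, top_inf_eq]
  have hd12 : Module.finrank ℂ V + Module.finrank ℂ C₂ = Module.finrank ℂ (perp q V) := by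
    have := Submodule.finrank_sup_add_finrank_inf_eq V C₂
    rw [h12, (hC'.disjoint.mono_right inf_le_left).eq_bot, finrank_bot, add_zero] at this
    omega
  have hd3 : Module.finrank ℂ (perp q V) + Module.finrank ℂ C₃ = Module.finrank ℂ H :=
    Submodule.finrank_add_eq_of_isCompl hC₃
  let Hs : Fin 3 → Submodule ℂ H := ![V, C₂, C₃]
  have hint : DirectSum.IsInternal Hs := by
    have hsurj : Function.Surjective (DirectSum.coeLinearMap Hs) := by
      rw [← LinearMap.range_eq_top, DirectSum.range_coeLinearMap, eq_top_iff, ← hC₃.sup_eq_top, ← h12]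
      exact sup_le (sup_le (le_iSup Hs 0) (le_iSup Hs 1)) (le_iSup Hs 2)
    refine ⟨(LinearMap.injective_iff_surjective_of_finrank_eq_finrank ?_).mpr hsurj, hsurj⟩
    rw [Module.finrank_directSum, Fin.sum_univ_three]
    show Module.finrank ℂ V + Module.finrank ℂ C₂ + Module.finrank ℂ C₃ = _
    omega
  set a : ℤ := (Module.finrank ℂ V : ℤ) - Module.finrank ℂ C₃
  set n : ℤ := (Module.finrank ℂ H : ℤ)
  have hVtop : Module.finrank ℂ V < Module.finrank ℂ H := by
    refine Submodule.finrank_lt (fun hT => hq0 (LinearMap.ext fun x => LinearMap.ext fun y => ?_))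
    exact hVi x (hT ▸ trivial) y (hT ▸ trivial)
  let m : Fin 3 → ℤ := ![a - n, a, a + n]
  obtain ⟨i, j, ⟨x, hx, y, hy, hxy⟩, hm⟩ := h (Fin 3) Hs m hint (by
      rw [Fin.sum_univ_three]
      show (a - n) * (Module.finrank ℂ V : ℤ) + a * Module.finrank ℂ C₂ + (a + n) * Module.finrank ℂ C₃ = 0
      have e1 : n = (Module.finrank ℂ V : ℤ) + Module.finrank ℂ C₂ + Module.finrank ℂ C₃ := by simp only [n]; omega
      rw [e1]; simp only [a]; ring)
    ⟨0, show a - n ≠ 0 by simp only [a, n]; omega, hV⟩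
  have hs : ∀ x y : H, q x y = 0 → q y x = 0 := fun x y hxy => by rw [hq, hxy, map_zero]
  have z11 : ∀ x ∈ V, ∀ y ∈ V, q x y = 0 := hVi
  have z21 : ∀ x ∈ C₂, ∀ y ∈ V, q x y = 0 := fun x hx => mem_perp.mp hx.2
  fin_cases i <;> fin_cases j
  · exact hxy (hVi x hx y hy)
  · exact hxy (hs _ _ (z21 y hy x hx))
  all_goals first
    | exact hxy (z21 x hx y hy)
    | (change _ + _ + _ ≤ (0 : ℤ) at hm
       simp only [m, Matrix.cons_val, Fin.zero_eta, Fin.mk_one, Fin.reduceFinMk] at hm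
       simp only [a, n] at hm
       cases strict <;> simp only [Bool.false_eq_true, if_false, if_true] at hm hgt <;> omega)

end

/-- Let W be a finite-dimensional complex vector space with an involution s, H a finite-dimensional
complex vector space and q : H → H → W a nonzero bilinear map with q(x)(y) = s(q(y)(x)). Write V^⊥ =
{x | q(x)(y) = 0 for all y ∈ V} and call V totally isotropic when q vanishes on V × V. The pair (H,
q) is semistable (dim V + dim V^⊥ ≤ dim H for every nonzero totally isotropic subspace V),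
respectively stable (strict inequality), if and only if the line of q is semistable, respectively
stable, for the action of SL(H), the latter being expressed through one-parameter subgroups: for
every decomposition H = ⊕_i H_i into subspaces with integer weights m_i such that Σ_i m_i dim H_i =
0 and some nonzero H_i has nonzero weight, there are indices i, j with q(H_i, H_j) ≠ 0 and m_i + m_j
≤ 0, respectively m_i + m_j < 0. (The published statement speaks of semistability and stability of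
the point of the projective space of such forms under SL(H); this row states the numerical condition
on one-parameter subgroups to which that is equivalent and which the published argument verifies.) -/
theorem result
    (W : Type) [AddCommGroup W] [Module ℂ W] [FiniteDimensional ℂ W]
    (s : W →ₗ[ℂ] W) (hs : s ∘ₗ s = LinearMap.id)
    (H : Type) [AddCommGroup H] [Module ℂ H] [FiniteDimensional ℂ H]
    (q : H →ₗ[ℂ] H →ₗ[ℂ] W) (hq : ∀ x y : H, q x y = s (q y x)) (hq0 : q ≠ 0) :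
    ((∀ V : Submodule ℂ H, V ≠ ⊥ → (∀ x ∈ V, ∀ y ∈ V, q x y = 0) →
        Module.finrank ℂ V + Module.finrank ℂ ↥(⨅ (y : H) (_ : y ∈ V), LinearMap.ker (q.flip y) : Submodule ℂ H) ≤ Module.finrank ℂ H) ↔
      (∀ (ι : Type) [Fintype ι] [DecidableEq ι] (Hs : ι → Submodule ℂ H) (m : ι → ℤ),
        DirectSum.IsInternal Hs → (∑ i, m i * (Module.finrank ℂ (Hs i) : ℤ)) = 0 →
        (∃ i, m i ≠ 0 ∧ Hs i ≠ ⊥) →
        ∃ i j, (∃ x ∈ Hs i, ∃ y ∈ Hs j, q x y ≠ 0) ∧ m i + m j ≤ 0)) ∧
    ((∀ V : Submodule ℂ H, V ≠ ⊥ → (∀ x ∈ V, ∀ y ∈ V, q x y = 0) →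
        Module.finrank ℂ V + Module.finrank ℂ ↥(⨅ (y : H) (_ : y ∈ V), LinearMap.ker (q.flip y) : Submodule ℂ H) < Module.finrank ℂ H) ↔
      (∀ (ι : Type) [Fintype ι] [DecidableEq ι] (Hs : ι → Submodule ℂ H) (m : ι → ℤ),
        DirectSum.IsInternal Hs → (∑ i, m i * (Module.finrank ℂ (Hs i) : ℤ)) = 0 →
        (∃ i, m i ≠ 0 ∧ Hs i ≠ ⊥) →
        ∃ i j, (∃ x ∈ Hs i, ∃ y ∈ Hs j, q x y ≠ 0) ∧ m i + m j < 0)) := by
  constructor
  · constructor
    · intro hV ι _ _ Hs m h1 h2 h3
      obtain ⟨i, j, h4, h5⟩ := forward q hq0 false (fun V a b => by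
        simp only [Bool.false_eq_true, if_false, add_zero]; exact hV V a b) ι Hs m h1 h2 h3
      exact ⟨i, j, h4, by simpa using h5⟩
    · intro h V hV hVi
      exact backward s q hq hq0 false (fun ι _ _ Hs m h1 h2 h3 => by
        obtain ⟨i, j, h4, h5⟩ := h ι Hs m h1 h2 h3
        exact ⟨i, j, h4, by simpa using h5⟩) V hV hVi
  · constructor
    · intro hV ι _ _ Hs m h1 h2 h3
      obtain ⟨i, j, h4, h5⟩ := forward q hq0 true (fun V a b => by
        simp only [if_true]; exact Nat.succ_le_of_lt (hV V a b)) ι Hs m h1 h2 h3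
      exact ⟨i, j, h4, by simp only [if_true] at h5; omega⟩
    · intro h V hV hVi
      exact Nat.lt_of_succ_le (backward s q hq hq0 true (fun ι _ _ Hs m h1 h2 h3 => by
        obtain ⟨i, j, h4, h5⟩ := h ι Hs m h1 h2 h3
        exact ⟨i, j, h4, by simp only [if_true]; omega⟩) V hV hVi)

end Groth.Agent.S15159
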