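import Groth.Statements.S15163
import Groth.Agent.BddFinLib.GLInt

set_option autoImplicit false
open Matrix
open BddFin

namespace Groth.Agent.S15163

/-- Let Γ be a finite subgroup of GL_2(ℤ) and d > 6 an integer. Suppose some vector w of (ℤ/dℤ)², with
m·w ≠ 0 for all 0 < m < d, is fixed by the reduction modulo d of every element of Γ. Then some
non-zero vector of ℤ² is fixed by all of Γ. -/
theorem result
    (Γ : Subgroup (Matrix.GeneralLinearGroup (Fin 2) ℤ)) [Finite Γ] (d : ℕ) (hd : 6 < d)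
    (w : Fin 2 → ZMod d) (hw : ∀ m : ℕ, 0 < m → m < d → m • w ≠ 0)
    (hfix : ∀ γ ∈ Γ, ((γ : Matrix (Fin 2) (Fin 2) ℤ).map (Int.castRingHom (ZMod d))) *ᵥ w = w) :
    ∃ v : Fin 2 → ℤ, v ≠ 0 ∧ ∀ γ ∈ Γ, (γ : Matrix (Fin 2) (Fin 2) ℤ) *ᵥ v = v := by
  refine Groth.Agent.BddFinLib.exists_common_fixed Γ fun γ hγ => ?_
  obtain ⟨m, hm, hpow⟩ : ∃ m, 0 < m ∧ (γ : Matrix (Fin 2) (Fin 2) ℤ) ^ m = 1 := by
    refine ⟨orderOf (⟨γ, hγ⟩ : Γ), orderOf_pos _, ?_⟩
    rw [← Units.val_pow_eq_pow_val, ← Units.val_one]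
    exact congrArg Units.val (congrArg Subtype.val (pow_orderOf_eq_one (⟨γ, hγ⟩ : Γ)))
  set g : Matrix (Fin 2) (Fin 2) ℤ := ↑γ with hgdef
  obtain ⟨hdet, htr, htr0⟩ := Groth.Agent.BddFinLib.two_by_two hm hpow
  obtain ⟨v, hv0, hv⟩ : ∃ v : Fin 2 → ℤ, v ≠ 0 ∧ (g - 1) *ᵥ v = 0 := by
    refine Matrix.exists_mulVec_eq_zero_iff.2 ?_
    have hz : (Int.castRingHom (ZMod d)) (g - 1).det • w = 0 := by
      rw [RingHom.map_det, map_sub, map_one]
      set M := (Int.castRingHom (ZMod d)).mapMatrix g - 1 with hM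
      have hMw : M *ᵥ w = 0 := by
        rw [hM, Matrix.sub_mulVec, Matrix.one_mulVec, RingHom.mapMatrix_apply, hfix γ hγ, sub_self]
      have := congrArg (fun N => N *ᵥ w) (Matrix.adjugate_mul M)
      simpa [← Matrix.mulVec_mulVec, hMw, Matrix.smul_mulVec] using this.symm
    by_contra hne
    set D := (g - 1).det with hD
    have hb : D.natAbs < d := by
      rw [hD, Groth.Agent.BddFinLib.det_sub_one_fin_two]
      rw [abs_le] at htr
      rcases hdet with h | h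
      · rw [h]; omega
      · rw [h, htr0 h]; omega
    refine hw D.natAbs (Int.natAbs_pos.2 hne) hb ?_
    rw [eq_intCast, Int.cast_smul_eq_zsmul] at hz
    rcases Int.natAbs_eq D with h | h <;> rw [h] at hz
    · rwa [natCast_zsmul] at hz
    · rwa [neg_smul, neg_eq_zero, natCast_zsmul] at hz
  exact ⟨v, hv0, by rwa [Matrix.sub_mulVec, Matrix.one_mulVec, sub_eq_zero] at hv⟩

end Groth.Agent.S15163
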