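import Groth.Statements.S15164
import Groth.Agent.BddFinLib.Anisotropic

set_option autoImplicit false
universe u v
open BddFin

namespace Groth.Agent.S15164

/-- Let K be a field of characteristic p > 2, V a finite-dimensional K-vector space and q a quadratic
form on V that does not represent zero (q x = 0 only for x = 0). Then the group of K-linear
automorphisms of V preserving q has no element of order p: if g preserves q and g ^ p = 1 then g =
1. (Non-degeneracy of q, also assumed in the published statement, follows from anisotropy since 2 is
invertible, so it is not repeated here.) -/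
theorem result
    (K : Type u) [Field K] (p : ℕ) [Fact p.Prime] [CharP K p] (hp : p ≠ 2)
    (V : Type v) [AddCommGroup V] [Module K V] [FiniteDimensional K V]
    (q : QuadraticForm K V) (hq : q.Anisotropic)
    (g : V ≃ₗ[K] V) (hg : ∀ x : V, q (g x) = q x) (hgp : g ^ p = 1) : g = 1 := by
  have h2 : (2 : K) ≠ 0 := fun h => hp (by
    have : ((2 : ℕ) : K) = 0 := by exact_mod_cast h
    exact (Nat.prime_dvd_prime_iff_eq (Fact.out) Nat.prime_two).1 ((CharP.cast_eq_zero_iff K p 2).1 this))
  have hf : ∀ k : ℕ, ((g ^ k : V ≃ₗ[K] V) : Module.End K V) = (g : Module.End K V) ^ k := by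
    intro k
    induction k with
    | zero => rfl
    | succ k ih => rw [pow_succ, pow_succ, ← ih]; rfl
  refine Groth.Agent.BddFinLib.unipotent_isometry q hq h2 g hg p ?_
  have h : ((Polynomial.X - 1 : Polynomial K)) ^ p = Polynomial.X ^ p - 1 := by
    rw [sub_pow_char, one_pow]
  have := congrArg (Polynomial.aeval (g : Module.End K V)) h
  simp only [map_pow, map_sub, Polynomial.aeval_X, map_one, ← hf, hgp] at this
  rw [this]
  exact sub_self _

end Groth.Agent.S15164
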