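import Groth.Statements.S15166
import Groth.Agent.BddFinLib.Anisotropic

set_option autoImplicit false
universe u v
open Polynomial
open BddFin

namespace Groth.Agent.S15166

/-- Let K be a field of characteristic different from 2 such that K contains all roots of unity (for
every n ≥ 1 the polynomial X^n − 1 splits into linear factors over K), V a finite-dimensional
K-vector space and q a quadratic form on V that does not represent zero. Then every finite subgroup
of the group of K-linear automorphisms of V preserving q is abelian and has order at most 2 ^ (dim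
V). (The published statement also covers perfect fields of characteristic 2; this row is the case of
characteristic ≠ 2.) -/
theorem result
    (K : Type u) [Field K] (hK : ∀ n : ℕ, 0 < n → (X ^ n - 1 : K[X]).Splits) (h2 : (2 : K) ≠ 0)
    (V : Type v) [AddCommGroup V] [Module K V] [FiniteDimensional K V]
    (q : QuadraticForm K V) (hq : q.Anisotropic)
    (G : Subgroup (V ≃ₗ[K] V)) [Finite G] (hG : ∀ g ∈ G, ∀ x : V, q (g x) = q x) :
    (∀ g ∈ G, ∀ h ∈ G, g * h = h * g) ∧ Nat.card G ≤ 2 ^ Module.finrank K V := by
  have hsq : ∀ g ∈ G, g ^ 2 = 1 := fun g hg =>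
    Groth.Agent.BddFinLib.sq_eq_one_of_finite_order q hK hq h2 g (hG g hg)
      (orderOf (⟨g, hg⟩ : G)) (orderOf_pos _) (congrArg Subtype.val (pow_orderOf_eq_one (⟨g, hg⟩ : G)))
  refine ⟨fun a ha b hb => ?_, (Groth.Agent.BddFinLib.card_le_two_pow h2 G hsq).2⟩
  have e1 : ∀ x ∈ G, x⁻¹ = x := fun x hx => inv_eq_of_mul_eq_one_right (by rw [← pow_two, hsq x hx])
  rw [← e1 _ (G.mul_mem ha hb), mul_inv_rev, e1 a ha, e1 b hb]

end Groth.Agent.S15166
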