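import Groth.Statements.S15168
import Groth.Agent.BddFinLib.RootsOfUnity

set_option autoImplicit false
universe u v
open Polynomial
open BddFin

namespace Groth.Agent.S15168

/-- Let K be a field such that K contains all roots of unity (for every n ≥ 1 the polynomial X^n − 1
splits into linear factors over K), A a central division algebra of dimension n ^ 2 over K, and x an
element of A some power x ^ m (m ≥ 1) of which lies in K. Then x ^ n lies in K; that is, the order
of the class of x in the quotient of the unit group of A by that of K divides n. -/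
theorem result
    (K : Type u) [Field K] (hK : ∀ n : ℕ, 0 < n → (X ^ n - 1 : K[X]).Splits)
    (A : Type v) [DivisionRing A] [Algebra K A] [Algebra.IsCentral K A] [FiniteDimensional K A]
    (n : ℕ) (hn : Module.finrank K A = n ^ 2)
    (x : A) (hxm : ∃ m : ℕ, 0 < m ∧ x ^ m ∈ (algebraMap K A).range) :
    x ^ n ∈ (algebraMap K A).range := by
  classical
  obtain ⟨m, hm, hmc⟩ := hxm
  have hnpos : 0 < n := by
    rcases Nat.eq_zero_or_pos n with h | h
    · rw [h] at hn; have := Module.finrank_pos (R := K) (M := A); omega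
    · exact h
  by_cases hx0 : x = 0
  · exact ⟨0, by rw [hx0, map_zero, zero_pow hnpos.ne']⟩
  obtain ⟨r, hr, ⟨d, hd⟩, s, hs⟩ := Groth.Agent.BddFinLib.exists_rth_form hK n hn x (isUnit_iff_ne_zero.2 hx0) ⟨m, hm, hmc⟩
  have hirr := minpoly.irreducible (IsIntegral.of_finite K x)
  obtain ⟨a, ha⟩ : ∃ a, minpoly K x = X ^ r - C a := by
    rcases s.empty_or_exists_mem with h | ⟨a, ha⟩
    · exact absurd (by rw [hs, h]; simp) hirr.ne_one
    · refine ⟨a, (eq_of_monic_of_associated (monic_X_pow_sub_C a hr.ne') (minpoly.monic (IsIntegral.of_finite K x)) ?_).symm⟩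
      refine associated_of_dvd_dvd ?_ ?_
      · rw [hs]; exact Multiset.dvd_prod (Multiset.mem_map_of_mem _ ha)
      · exact (hirr.dvd_iff.1 (by rw [hs]; exact Multiset.dvd_prod (Multiset.mem_map_of_mem _ ha))).resolve_left
          (fun hu => absurd (natDegree_eq_zero_of_isUnit hu) (by rw [natDegree_X_pow_sub_C]; exact hr.ne')) |>.dvd
  refine ⟨a ^ d, ?_⟩
  have h := minpoly.aeval K x
  rw [ha] at h
  simp [sub_eq_zero] at h
  rw [hd, pow_mul, h, map_pow]

end Groth.Agent.S15168
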