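import Groth.Statements.S1517
import Groth.Agent.CSA.Basic

set_option autoImplicit false
universe u
open Brauer

namespace Groth.Agent.S1517

/-- Let A be a ring with no nontrivial two-sided ideals and M a nonzero right ideal, viewed as a right
A-module with endomorphism ring A'. Then every A'-linear endomorphism of M is right multiplication
by exactly one element of A; that is, the natural map from A to the bicommutant of M is a bijection. -/
theorem result (A : Type u) [Ring A] [IsSimpleRing A]
    (M : Submodule Aᵐᵒᵖ A) (hM : M ≠ ⊥)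
    (g : Module.End (Module.End Aᵐᵒᵖ M) M) :
    ∃! a : A, ∀ m : M, (g m : A) = (m : A) * a := by
  classical
  obtain ⟨m₀, hm₀, hne⟩ := Submodule.exists_mem_ne_zero_of_ne_bot hM
  have hr : ∀ (m : A), m ∈ M → ∀ a, m * a ∈ M := fun m hm a => by
    simpa using M.smul_mem (MulOpposite.op a) hm
  let I : Submodule A A := Submodule.span A (M : Set A)
  have hI : ∀ z ∈ I, ∀ a, z * a ∈ I := fun z hz => by
    refine Submodule.span_induction ?_ ?_ ?_ ?_ hz
    · exact fun x hx a => Submodule.subset_span (hr x hx a)
    · simp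
    · intro x y _ _ h h' a; rw [add_mul]; exact I.add_mem (h a) (h' a)
    · intro b x _ h a; rw [smul_eq_mul, mul_assoc]; exact I.smul_mem b (h a)
  have hone : (1 : A) ∈ I := by
    let J : TwoSidedIdeal A := TwoSidedIdeal.mk' (I : Set A) I.zero_mem (fun h h' => I.add_mem h h')
      (fun h => I.neg_mem h) (fun {x y} hy => I.smul_mem x hy) (fun {x y} hx => hI x hx y)
    have hmem : m₀ ∈ J := by
      rw [TwoSidedIdeal.mem_mk']; exact Submodule.subset_span hm₀
    have := IsSimpleRing.one_mem_of_ne_zero_mem J hne hmem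
    rwa [TwoSidedIdeal.mem_mk'] at this
  obtain ⟨c, hc, hsum⟩ := Submodule.mem_span_set.1 hone
  let a : A := ∑ m ∈ c.support.attach, c m.1 * (g ⟨m.1, hc m.2⟩ : A)
  have hg : ∀ (m : M), (g m : A) = (m : A) * a := by
    intro m
    have hm : (m : A) = ∑ x ∈ c.support.attach, (m : A) * (c x.1 * x.1) := by
      conv_lhs => rw [← mul_one (m : A), ← hsum, Finsupp.sum]
      rw [Finset.mul_sum, ← Finset.sum_attach]
      rfl
    let F : c.support → Module.End Aᵐᵒᵖ M := fun x =>
      { toFun := fun n => ⟨(m : A) * c x.1 * n, by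
          rw [mul_assoc]; exact hr _ m.2 _⟩
        map_add' := fun n n' => Subtype.ext (by simp [mul_add])
        map_smul' := fun r n => Subtype.ext (by simp [mul_assoc]) }
    have hm' : m = ∑ x ∈ c.support.attach, F x • (⟨x.1, hc x.2⟩ : M) := Subtype.ext (by
      rw [hm]; simp [F, mul_assoc])
    conv_lhs => rw [hm', map_sum]
    simp only [map_smul, Finset.mul_sum, a]
    simp [F, mul_assoc]
  refine ⟨a, hg, fun b hb => ?_⟩
  have : ∀ x ∈ I, x * b = x * a := fun x hx => by
    refine Submodule.span_induction ?_ ?_ ?_ ?_ hx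
    · intro y hy; rw [← hg ⟨y, hy⟩, ← hb ⟨y, hy⟩]
    · simp
    · intro x y _ _ h h'; rw [add_mul, add_mul, h, h']
    · intro r x _ h; rw [smul_eq_mul, mul_assoc, h, mul_assoc]
  simpa using this 1 hone

end Groth.Agent.S1517
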