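import Groth.Statements.S15172
import Mathlib

set_option autoImplicit false
universe u v
open Polynomial
open BddFin

namespace Groth.Agent.S15172

/-- Let L be a field of characteristic p > 0 and s a finite subset of L containing 0 and closed under
addition (a finite additive subgroup). Then the polynomial f = ∏_{a ∈ s} (X - a) is additive: f (x +
y) = f x + f y for all x, y in any commutative L-algebra (equivalently, as an identity of
polynomials in two variables). -/
theorem result
    (L : Type u) [Field L] (p : ℕ) [Fact p.Prime] [CharP L p] (s : Finset L) (h0 : (0 : L) ∈ s)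
    (hadd : ∀ a ∈ s, ∀ b ∈ s, a + b ∈ s) (R : Type v) [CommRing R] [Algebra L R] (x y : R) :
    aeval (x + y) (∏ a ∈ s, (X - C a)) = aeval x (∏ a ∈ s, (X - C a)) + aeval y (∏ a ∈ s, (X - C a)) := by
  classical
  set f : L[X] := ∏ a ∈ s, (X - C a) with hf
  -- translation invariance
  have himg : ∀ a ∈ s, s.image (fun b => b - a) = s := by
    intro a ha
    have h1 : s.image (fun b => b + a) = s := by
      apply Finset.eq_of_subset_of_card_le
      · intro z hz
        obtain ⟨b, hb, rfl⟩ := Finset.mem_image.1 hz
        exact hadd b hb a ha
      · rw [Finset.card_image_of_injective _ (add_left_injective a)]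
    conv_lhs => rw [← h1]
    rw [Finset.image_image]
    convert Finset.image_id (s := s) using 2
    funext b
    simp
  -- work in L[Y][X]
  have hfmon : f.Monic := monic_prod_of_monic _ _ fun a _ => monic_X_sub_C a
  let g : L[X][X] := f.map C
  have hg : g = ∏ a ∈ s, (X - C (C a)) := by simp [g, f, Polynomial.map_prod]
  let D : L[X][X] := g.comp (X + C X) - g - C f
  have hdeg : D.degree < s.card := by
    have hgd : g.degree = s.card := by
      rw [hg, degree_prod]; simp
    have hcomp : (g.comp (X + C X)).degree = s.card := by
      rw [hg, prod_comp, degree_prod]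
      have : ∀ a ∈ s, ((X - C (C a) : L[X][X]).comp (X + C X)).degree = 1 := by
        intro a _
        have : (X - C (C a) : L[X][X]).comp (X + C X) = X - C (C a - X) := by
          simp [map_sub]; ring
        rw [this, degree_X_sub_C]
      rw [Finset.sum_congr rfl this]; simp
    have h1 : (g.comp (X + C X) - g).degree < s.card := by
      rw [← hcomp]
      refine degree_sub_lt_left (hcomp.trans hgd.symm) ?_ ?_
      · intro h; rw [h, degree_zero] at hcomp; simp at hcomp
      · rw [(hfmon.map C).leadingCoeff, ((hfmon.map C).comp_X_add_C X).leadingCoeff]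
    refine (degree_sub_le _ _).trans_lt (max_lt h1 ?_)
    refine degree_C_le.trans_lt ?_
    exact_mod_cast Finset.card_pos.2 ⟨0, h0⟩
  have hD : D = 0 := by
    apply eq_zero_of_natDegree_lt_card_of_eval_eq_zero' D (s.image C)
    · intro z hz
      obtain ⟨a, ha, rfl⟩ := Finset.mem_image.1 hz
      have he : g.eval (C a) = 0 := by
        rw [hg, eval_prod]; exact Finset.prod_eq_zero ha (by simp)
      simp only [D, eval_sub, eval_comp, eval_add, eval_X, eval_C, he, sub_zero]
      rw [hg, eval_prod, sub_eq_zero, hf]
      conv_rhs => rw [← himg a ha]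
      rw [Finset.prod_image (fun _ _ _ _ h => sub_left_injective h)]
      refine Finset.prod_congr rfl fun b _ => ?_
      simp only [eval_sub, eval_X, eval_C, map_sub]; ring
    · rw [Finset.card_image_of_injective _ C_injective]
      by_cases h : D = 0
      · simp [h, Finset.card_pos.2 ⟨0, h0⟩]
      · exact (natDegree_lt_iff_degree_lt h).2 hdeg
  have := congrArg (eval₂ (eval₂RingHom (algebraMap L R) y) x) hD
  simp only [D, g, eval₂_sub, eval₂_comp, eval₂_zero, eval₂_C, eval₂_add, eval₂_X,
    eval₂_map, coe_eval₂RingHom] at this
  have hcomp : (eval₂RingHom (algebraMap L R) y).comp C = algebraMap L R := by ext; simp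
  rw [hcomp, sub_sub, sub_eq_zero] at this
  simpa [aeval_def] using this

end Groth.Agent.S15172
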