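import Groth.Statements.S15173
import Mathlib

set_option autoImplicit false
universe u v
open Polynomial
open BddFin

namespace Groth.Agent.S15173

/-- Let K be a field of characteristic p > 0 such that K contains all roots of unity (for every n ≥ 1
the polynomial X^n − 1 splits into linear factors over K), and A a finite-dimensional central
division algebra over K. If A contains an element w not in K with w ^ p in K, then the quotient of
the unit group of A by that of K has unbounded finite subgroups: for every N there is a subgroup H
of the units of A containing the units of K as a subgroup of finite index greater than N. (The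
published statement assumes only that some element of A is inseparable over K and passes at once to
a purely inseparable subfield of degree p; this row assumes an element generating such a subfield
directly, which is what the rest of the printed argument uses.) -/
theorem result
    (K : Type u) [Field K] (p : ℕ) [Fact p.Prime] [CharP K p] (hK : ∀ n : ℕ, 0 < n → (X ^ n - 1 : K[X]).Splits)
    (A : Type v) [DivisionRing A] [Algebra K A] [Algebra.IsCentral K A] [FiniteDimensional K A]
    (w : A) (hw : w ^ p ∈ (algebraMap K A).range) (hwK : w ∉ (algebraMap K A).range) (N : ℕ) :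
    ∃ H : Subgroup Aˣ, (Units.map (algebraMap K A : K →* A)).range ≤ H ∧
      N < ((Units.map (algebraMap K A : K →* A)).range).relIndex H := by
  classical
  have hp := (Fact.out : p.Prime)
  obtain ⟨c, hc⟩ := hw
  haveI : CharP A p := charP_of_injective_algebraMap (algebraMap K A).injective p
  haveI : ExpChar A p := ExpChar.prime hp
  -- `K` is infinite
  haveI : Infinite K := by
    by_contra hfin
    haveI : Finite K := not_infinite_iff_finite.1 hfin
    haveI : ExpChar K p := ExpChar.prime hp
    obtain ⟨d, hd⟩ := (PerfectRing.bijective_frobenius (R := K) (p := p)).2 c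
    simp only at hd
    apply hwK
    refine ⟨d, ?_⟩
    have hcm : Commute w (algebraMap K A d) := (Algebra.commutes d w).symm
    have h0 : (w - algebraMap K A d) ^ p = 0 := by
      rw [sub_pow_expChar_of_commute p hcm, ← map_pow, hd, hc, sub_self]
    exact (sub_eq_zero.1 (eq_zero_of_pow_eq_zero h0)).symm
  obtain ⟨S, hS⟩ := Infinite.exists_subset_card_eq K (N + 1)
  have hne : ∀ t : K, w + algebraMap K A t ≠ 0 := fun t h => hwK ⟨-t, by rw [map_neg]; exact (eq_neg_of_add_eq_zero_left h).symm⟩
  let L := Algebra.adjoin K ({w} : Set A)
  have hcomm : ∀ a b : L, a * b = b * a := fun a b => by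
    have h1 : ∀ z : L, (z : A) ∈ (Polynomial.aeval (R := K) w).range := fun z => by
      rw [← Algebra.adjoin_singleton_eq_range_aeval]; exact z.2
    obtain ⟨q, hq⟩ := h1 a
    obtain ⟨q', hq'⟩ := h1 b
    exact Subtype.ext (by
      change (a : A) * b = b * a
      rw [← hq, ← hq']; exact ((Commute.all q q').map (Polynomial.aeval w)).eq)
  letI : CommRing L := { (inferInstance : Ring L) with mul_comm := hcomm }
  let N0 : Subgroup Lˣ := (Units.map (algebraMap K L : K →* L)).range
  have hp' : ∀ t : K, ((⟨w, Algebra.subset_adjoin rfl⟩ : L) + algebraMap K L t) ^ p = algebraMap K L (c + t ^ p) := by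
    intro t
    apply Subtype.ext
    push_cast
    have hcm : Commute w (algebraMap K A t) := (Algebra.commutes t w).symm
    rw [add_pow_expChar_of_commute p hcm, ← hc]
  have hK0 : ∀ t : K, c + t ^ p ≠ 0 := fun t h => by
    have := congrArg (fun z : L => (z : A)) (hp' t)
    rw [h] at this
    simp at this
    exact hne t this.1
  have hu : ∀ t : K, IsUnit ((⟨w, Algebra.subset_adjoin rfl⟩ : L) + algebraMap K L t) := fun t =>
    (isUnit_pow_iff hp.ne_zero).1 (hp' t ▸ (isUnit_iff_ne_zero.2 (hK0 t)).map (algebraMap K L))
  let u : K → Lˣ := fun t => (hu t).unit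
  let H : Subgroup Lˣ := N0 ⊔ Subgroup.closure (u '' S)
  have hfin : Finite (H.map (QuotientGroup.mk' N0)) := by
    have h1 : H.map (QuotientGroup.mk' N0) = Subgroup.closure (QuotientGroup.mk' N0 '' (u '' S)) := by
      rw [Subgroup.map_sup, MonoidHom.map_closure, QuotientGroup.map_mk'_self, bot_sup_eq]
    rw [h1]
    haveI : Group.FG (Subgroup.closure (QuotientGroup.mk' N0 '' (u '' (S : Set K)))) :=
      Group.closure_finite_fg _
    refine CommGroup.finite_of_fg_torsion _ fun g => isOfFinOrder_iff_pow_eq_one.2 ⟨p, hp.pos, ?_⟩
    refine Subtype.ext ?_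
    obtain ⟨g, hg⟩ := g
    change g ^ p = 1
    induction hg using Subgroup.closure_induction with
    | mem x hx =>
      obtain ⟨_, ⟨t, -, rfl⟩, rfl⟩ := hx
      rw [← map_pow]
      exact (QuotientGroup.eq_one_iff _).2 ⟨Units.mk0 _ (hK0 t), Units.ext (hp' t).symm⟩
    | one => exact one_pow p
    | mul x y _ _ hx hy => exact (mul_pow x y p).trans (by rw [hx, hy]; exact mul_one (1 : Lˣ ⧸ N0))
    | inv x _ hx => rw [inv_pow, hx, inv_one]
  have hrel : N0.relIndex H = Nat.card (H.map (QuotientGroup.mk' N0)) := by
    have hk : ((QuotientGroup.mk' N0).comp H.subtype).ker = N0.subgroupOf H := by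
      ext z; simp [Subgroup.mem_subgroupOf]
    rw [Subgroup.relIndex, ← hk, Subgroup.index_ker, MonoidHom.range_comp, Subgroup.range_subtype]
  refine ⟨H.map (Units.map (L.val : L →* A)), ?_, ?_⟩
  · rintro _ ⟨a, rfl⟩
    exact ⟨Units.map (algebraMap K L : K →* L) a, Subgroup.mem_sup_left ⟨a, rfl⟩, Units.ext rfl⟩
  · have hinj : Function.Injective (Units.map (L.val : L →* A)) := Units.map_injective Subtype.val_injective
    have hKmap : (Units.map (algebraMap K A : K →* A)).range = N0.map (Units.map (L.val : L →* A)) := by
      rw [MonoidHom.map_range, ← Units.map_comp]; rfl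
    rw [hKmap, Subgroup.relIndex_map_map_of_injective _ _ hinj, hrel]
    let ι : S → H.map (QuotientGroup.mk' N0) := fun t =>
      ⟨QuotientGroup.mk' N0 (u t), Subgroup.mem_map_of_mem _ (Subgroup.mem_sup_right (Subgroup.subset_closure ⟨t, t.2, rfl⟩))⟩
    have hι : Function.Injective ι := by
      intro a b hab
      have h := QuotientGroup.eq.1 (congrArg Subtype.val hab)
      obtain ⟨z, hz⟩ := h
      have hz' : (u (a : K) : L) * algebraMap K L (z : K) = (u (b : K) : L) := by
        have := congrArg Units.val hz
        change algebraMap K L (z : K) = _ at this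
        rw [this, Units.val_mul, ← mul_assoc, Units.mul_inv, one_mul]
      have hA : (w + algebraMap K A (a : K)) * algebraMap K A (z : K) = w + algebraMap K A (b : K) :=
        congrArg Subtype.val hz'
      by_contra hab'
      apply hwK
      by_cases hz1 : (z : K) = 1
      · exfalso
        rw [hz1, map_one, mul_one, add_right_inj] at hA
        exact hab' (Subtype.ext ((algebraMap K A).injective hA))
      · refine ⟨((b : K) - (a : K) * z) / ((z : K) - 1), ?_⟩
        have hz1' : (z : K) - 1 ≠ 0 := sub_ne_zero.2 hz1
        rw [← sub_eq_zero]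
        have key : (algebraMap K A (((b : K) - (a : K) * z) / ((z : K) - 1)) - w) * algebraMap K A ((z : K) - 1) = 0 := by
          rw [sub_mul, ← map_mul, div_mul_cancel₀ _ hz1', map_sub, map_sub, map_mul, map_one, mul_sub, mul_one]
          rw [add_mul] at hA
          rw [← sub_eq_zero] at hA
          rw [← neg_eq_zero, ← hA]
          abel
        exact (mul_eq_zero.1 key).resolve_right ((_root_.map_ne_zero _).2 hz1')
    have hcard := Nat.card_le_card_of_injective ι hι
    rw [Nat.card_eq_fintype_card, Fintype.card_coe, hS] at hcard
    omega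

end Groth.Agent.S15173
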