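import Groth.Statements.S15176
import Groth.Agent.TorusPts.Scheme

set_option autoImplicit false
universe u
open CategoryTheory MonoidalCategory CartesianMonoidalCategory MonObj GrpObj AlgebraicGeometry
open Polynomial
open BddFin

namespace Groth.Agent.S15176

/-- Let K be a field such that K contains all roots of unity (for every n ≥ 1 the polynomial X^n − 1
splits into linear factors over K), and T a K-group scheme that is a 2-dimensional torus (it becomes
isomorphic, as a group scheme, to the split torus D(ℤ^2) = 𝔾_m^2 after some field extension L of K)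
and is anisotropic (no homomorphism 𝔾_m → T of K-group schemes is a monomorphism, i.e. T contains no
subtorus isomorphic to 𝔾_m); T(K) is the group of sections Spec K → T. Then torsion elements of T(K)
have order ≤ 6, and finite subgroups of T(K) have at most 36 elements. -/
theorem result
    (K : Type u) [Field K] (hK : ∀ n : ℕ, 0 < n → (X ^ n - 1 : K[X]).Splits)
    (T : Over (Spec (CommRingCat.of K))) [GrpObj T]
    (hT : ∃ (L : Type u) (_ : Field L) (_ : Algebra K L),
      Red.IsSplitTorusWith (Fin 2 → ℤ) (Red.bc (Spec.map (CommRingCat.ofHom (algebraMap K L))) T))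
    (haniso : ∀ i : Red.Gm (Spec (CommRingCat.of K)) ⟶ T, IsMonHom i → Mono i → False) :
    (∀ x : 𝟙_ (Over (Spec (CommRingCat.of K))) ⟶ T, IsOfFinOrder x → orderOf x ≤ 6) ∧
    (∀ G : Subgroup (𝟙_ (Over (Spec (CommRingCat.of K))) ⟶ T), Finite G → Nat.card G ≤ 36) := by
  obtain ⟨D⟩ := Groth.Agent.TorusPts.exists_torusData T hT
  obtain ⟨m, hm, hm4, key0⟩ := Groth.Agent.TorusPts.exists_small_exponent D.galImage (D.no_fixed haniso)
  have key : ∀ x : 𝟙_ (Over (Spec (CommRingCat.of K))) ⟶ T, IsOfFinOrder x → x ^ m = 1 :=
    fun x hx => D.pow_eq_one_of_psi (key0 _ (D.psi x) (D.psi_invariant fun g =>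
      Groth.Agent.TorusPts.mem_range_of_pow_eq_one hK hx.orderOf_pos
        (D.charOf_pow_eq_one (pow_orderOf_eq_one x) g)))
  refine ⟨fun x hx => (orderOf_le_of_pow_eq_one hm (key x hx)).trans (by omega),
    fun G hG => (D.card_le hm G fun x hx => key x ?_).trans ?_⟩
  · exact Groth.Agent.TorusPts.isOfFinOrder_of_mem hx
  · exact (Nat.pow_le_pow_left hm4 2).trans (by norm_num)

end Groth.Agent.S15176
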