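import Groth.Statements.S15177
import Groth.Agent.HopfUnip.Basic
import Mathlib.RingTheory.Bialgebra.Convolution

set_option autoImplicit false
universe u v
open BddFin

namespace Groth.Agent.S15177

/-- Let K be a field and Γ a unipotent linear algebraic group over K, given here by its coordinate Hopf
algebra A (a finitely generated, formally smooth commutative Hopf algebra over K all of whose
non-zero finite-dimensional comodules have a non-zero fixed vector). Then the group Γ(K) of K-points
(K-algebra maps A → K under convolution) has no non-trivial element of finite order coprime to the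
characteristic of K: an element of finite order whose order is non-zero in K is the identity. -/
theorem result
    (K : Type u) [Field K] (A : Type v) [CommRing A] [HopfAlgebra K A] [Algebra.FiniteType K A]
    [Algebra.FormallySmooth K A] (hU : HopfRep.IsUnipotent K A)
    (g : WithConv (A →ₐ[K] K)) (hg : IsOfFinOrder g) (hcop : ((orderOf g : ℕ) : K) ≠ 0) : g = 1 := by
  classical
  let T : A →ₗ[K] A := Comod.actL (g.ofConv : A →ₐ[K] K).toLinearMap
  have hpow : ∀ j : ℕ, ∀ v, (T ^ j) v = Comod.actL ((g ^ j).ofConv : A →ₐ[K] K).toLinearMap v := by
    intro j
    induction j with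
    | zero =>
      intro v
      rw [pow_zero, pow_zero, Module.End.one_apply]
      exact (Comod.actL_counit v).symm
    | succ j ih =>
      intro v
      rw [pow_succ, pow_succ, Module.End.mul_apply, ih, Comod.actL_actL]
      congr 2
  have hm : ∀ v, (T ^ orderOf g) v = v := fun v => by
    rw [hpow, pow_orderOf_eq_one]
    exact Comod.actL_counit v
  have hfix : ∀ n, ∀ v ∈ HopfUnip.fil K A ({1} : Set A) n, T v = v := by
    intro n
    induction n with
    | zero =>
      intro v hv
      rw [show v = 0 from hv, map_zero]
    | succ n ih =>
      intro v hv
      have hle : HopfUnip.fil K A ({1} : Set A) (n + 1) ≤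
          HopfUnip.wtSub K (1 : A) (HopfUnip.fil K A ({1} : Set A) n) := by
        refine iSup_le fun x => ?_
        rw [Set.mem_singleton_iff.1 x.2]
      have hv' := hle hv
      have hN : T v - v ∈ HopfUnip.fil K A ({1} : Set A) n := by
        have := HopfUnip.mem_wtSub_iff_slR.1 hv' (g.ofConv : A →ₐ[K] K).toLinearMap
        simpa [T] using this
      have hTN : T (T v - v) = T v - v := ih _ hN
      have hj : ∀ j : ℕ, (T ^ j) v = v + j • (T v - v) := by
        intro j
        induction j with
        | zero => simp
        | succ j ihj =>
          rw [pow_succ', Module.End.mul_apply, ihj, map_add, map_nsmul, hTN, succ_nsmul]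
          abel
      have h0 : (orderOf g) • (T v - v) = 0 := by
        have := hj (orderOf g)
        rw [hm] at this
        simpa using this.symm
      rw [← Nat.cast_smul_eq_nsmul K, smul_eq_zero] at h0
      exact sub_eq_zero.1 (h0.resolve_left hcop)
  have hall : ∀ v, T v = v := fun v => by
    have hw := HopfUnip.isUnipotent_iff_isWeighted.1 hU
    obtain ⟨n, hn⟩ := HopfUnip.exists_le_fil (Submodule.fg_span_singleton v)
      (show Submodule.span K {v} ≤ ⨆ n, HopfUnip.fil K A ({1} : Set A) n by rw [hw]; exact le_top)
    exact hfix n v (hn (Submodule.mem_span_singleton_self v))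
  apply WithConv.ofConv_injective
  refine AlgHom.ext fun a => ?_
  have h1 : ∀ z : TensorProduct K A A, Coalgebra.counit (R := K)
      (Comod.slR (g.ofConv : A →ₐ[K] K).toLinearMap z) =
        (g.ofConv : A →ₐ[K] K) (TensorProduct.lid K A ((Coalgebra.counit (R := K)).rTensor A z)) := by
    intro z
    induction z using TensorProduct.induction_on with
    | zero => simp
    | tmul x y => simp [mul_comm]
    | add x y hx hy => simp only [map_add, hx, hy]
  have h2 := congrArg (Coalgebra.counit (R := K)) (hall a)
  rw [show T a = Comod.slR (g.ofConv : A →ₐ[K] K).toLinearMap (Coalgebra.comul a) from rfl, h1,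
    Coalgebra.rTensor_counit_comul, TensorProduct.lid_tmul, one_smul] at h2
  exact h2

end Groth.Agent.S15177
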