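import Groth.Statements.S15179
import Mathlib

set_option autoImplicit false
universe u
attribute [local instance] MvPolynomial.gradedAlgebra

namespace Groth.Agent.S15179

open Polynomial

variable {K : Type u} [Field K]

/-- the dehomogenisation into rational functions -/
noncomputable def deh : MvPolynomial (Fin 2) K →ₐ[K] RatFunc K :=
  MvPolynomial.aeval ![RatFunc.X, 1]

noncomputable def dehP : MvPolynomial (Fin 2) K →ₐ[K] K[X] :=
  MvPolynomial.aeval ![(Polynomial.X : K[X]), 1]

theorem deh_eq (p : MvPolynomial (Fin 2) K) : deh p = algebraMap K[X] (RatFunc K) (dehP p) := by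
  have : deh (K := K) = (IsScalarTower.toAlgHom K K[X] (RatFunc K)).comp dehP := by
    refine MvPolynomial.algHom_ext fun i => ?_
    fin_cases i <;> simp [deh, dehP, RatFunc.algebraMap_X]
  rw [this]; rfl

theorem dehP_natDegree {n : ℕ} {p : MvPolynomial (Fin 2) K} (hp : p.IsHomogeneous n) : (dehP p).natDegree ≤ n := by
  rw [p.as_sum, map_sum]
  refine Polynomial.natDegree_sum_le_of_forall_le _ _ fun d hd => ?_
  rw [dehP, MvPolynomial.aeval_monomial, Finsupp.prod_fintype _ _ (fun i => pow_zero _), Fin.prod_univ_two]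
  simp only [Matrix.cons_val_zero, Matrix.cons_val_one, one_pow, mul_one, Polynomial.algebraMap_eq]
  refine (Polynomial.natDegree_C_mul_X_pow_le _ _).trans ?_
  rw [MvPolynomial.mem_support_iff] at hd
  have := hp hd
  simp [Finsupp.weight_apply, Finsupp.sum_fintype, Fin.sum_univ_two] at this
  omega

theorem dehP_homogenize (P : K[X]) {n : ℕ} (h : P.natDegree ≤ n) : dehP (P.homogenize n) = P := by
  exact Polynomial.aeval_homogenize_X_one P h

theorem dehP_inj {n : ℕ} {p : MvPolynomial (Fin 2) K} (hp : p.IsHomogeneous n) (h : dehP p = 0) : p = 0 := by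
  by_contra hne
  obtain ⟨d, hd⟩ := MvPolynomial.ne_zero_iff.1 hne
  have h1 := congrArg (fun P : K[X] => P.coeff (d 0)) h
  rw [p.as_sum, map_sum] at h1
  simp only [Polynomial.finsetSum_coeff, Polynomial.coeff_zero] at h1
  rw [Finset.sum_eq_single d] at h1
  · refine hd ?_
    rw [dehP, MvPolynomial.aeval_monomial, Finsupp.prod_fintype _ _ (fun i => pow_zero _), Fin.prod_univ_two] at h1
    simpa using h1
  · intro e he hed
    rw [dehP, MvPolynomial.aeval_monomial, Finsupp.prod_fintype _ _ (fun i => pow_zero _), Fin.prod_univ_two]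
    simp only [Matrix.cons_val_zero, Matrix.cons_val_one, one_pow, mul_one, Polynomial.algebraMap_eq, Polynomial.coeff_C_mul_X_pow]
    refine if_neg fun h0 => hed ?_
    have w1 := hp (MvPolynomial.mem_support_iff.1 he)
    have w2 := hp hd
    simp [Finsupp.weight_apply, Finsupp.sum_fintype, Fin.sum_univ_two] at w1 w2
    ext i
    fin_cases i <;> simp <;> omega
  · intro h0
    exact absurd (MvPolynomial.mem_support_iff.2 hd) h0

/-- `σ` sends `X` to the Möbius transform of the matrix `M` -/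
def Rep (σ : RatFunc K →ₐ[K] RatFunc K) (M : Matrix (Fin 2) (Fin 2) K) : Prop :=
  RatFunc.C (M 1 0) * RatFunc.X + RatFunc.C (M 1 1) ≠ 0 ∧
    σ RatFunc.X * (RatFunc.C (M 1 0) * RatFunc.X + RatFunc.C (M 1 1)) = RatFunc.C (M 0 0) * RatFunc.X + RatFunc.C (M 0 1)

theorem rep_C (σ : RatFunc K →ₐ[K] RatFunc K) (c : K) : σ (RatFunc.C c) = RatFunc.C c := by
  rw [← RatFunc.algebraMap_eq_C]; exact σ.commutes c

theorem Rep.comp {σ τ : RatFunc K →ₐ[K] RatFunc K} {M N : Matrix (Fin 2) (Fin 2) K} (h : Rep σ M) (h' : Rep τ N) :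
    Rep (σ.comp τ) (N * M) := by
  obtain ⟨h1, h2⟩ := h
  obtain ⟨h1', h2'⟩ := h'
  set d := RatFunc.C (M 1 0) * RatFunc.X + RatFunc.C (M 1 1) with hd
  have h3 := congrArg σ h2'
  simp only [map_mul, map_add, rep_C] at h3
  have hne : RatFunc.C (N 1 0) * σ RatFunc.X + RatFunc.C (N 1 1) ≠ 0 := by
    have := (map_ne_zero_iff _ σ.toRingHom.injective).2 h1'
    simpa [map_mul, map_add, rep_C] using this
  have e : RatFunc.C ((N * M) 1 0) * RatFunc.X + RatFunc.C ((N * M) 1 1) =
      (RatFunc.C (N 1 0) * σ RatFunc.X + RatFunc.C (N 1 1)) * d := by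
    simp only [Matrix.mul_apply, Fin.sum_univ_two, map_add, map_mul]
    linear_combination (-RatFunc.C (N 1 0)) * h2
  refine ⟨e ▸ mul_ne_zero hne h1, ?_⟩
  rw [e, AlgHom.comp_apply]
  simp only [Matrix.mul_apply, Fin.sum_univ_two, map_add, map_mul]
  linear_combination d * h3 + RatFunc.C (N 0 0) * h2

theorem Rep.scalar {M : Matrix (Fin 2) (Fin 2) K} (h : Rep (AlgHom.id K (RatFunc K)) M) :
    M 0 1 = 0 ∧ M 1 0 = 0 ∧ M 0 0 = M 1 1 := by
  obtain ⟨-, h2⟩ := h
  have h3 : algebraMap K[X] (RatFunc K) (X * (C (M 1 0) * X + C (M 1 1))) =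
      algebraMap K[X] (RatFunc K) (C (M 0 0) * X + C (M 0 1)) := by
    simpa [RatFunc.algebraMap_X, RatFunc.algebraMap_C] using h2
  have h4 := RatFunc.algebraMap_injective K h3
  have c0 := congrArg (fun P : K[X] => P.coeff 0) h4
  have c1 := congrArg (fun P : K[X] => P.coeff 1) h4
  have c2 := congrArg (fun P : K[X] => P.coeff 2) h4
  simp [Polynomial.coeff_X] at c0 c1 c2
  exact ⟨c0.symm, c2, c1.symm⟩

theorem Rep.eq_id {σ : RatFunc K →ₐ[K] RatFunc K} {M : Matrix (Fin 2) (Fin 2) K} (h : Rep σ M)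
    (h01 : M 0 1 = 0) (h10 : M 1 0 = 0) (h00 : M 0 0 = M 1 1) : σ = AlgHom.id K (RatFunc K) := by
  obtain ⟨h1, h2⟩ := h
  rw [h01, h10, h00, map_zero, zero_mul, zero_add, add_zero, mul_comm] at h2
  rw [h10, map_zero, zero_mul, zero_add] at h1
  have hX : σ RatFunc.X = RatFunc.X := mul_left_cancel₀ h1 h2
  have hP : ∀ P : K[X], σ (algebraMap K[X] (RatFunc K) P) = algebraMap K[X] (RatFunc K) P := by
    have : σ.comp (IsScalarTower.toAlgHom K K[X] (RatFunc K)) = IsScalarTower.toAlgHom K K[X] (RatFunc K) :=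
      Polynomial.algHom_ext (by simp [RatFunc.algebraMap_X, hX])
    exact fun P => DFunLike.congr_fun this P
  refine AlgHom.ext fun z => ?_
  rw [← RatFunc.num_div_denom z, map_div₀, hP, hP]
  rfl

theorem exists_rep (σ : RatFunc K ≃ₐ[K] RatFunc K) : ∃ M, Rep σ.toAlgHom M ∧ M.det ≠ 0 := by
  set R := σ RatFunc.X with hR
  have htop : IntermediateField.adjoin K ({R} : Set (RatFunc K)) = ⊤ := by
    rw [hR, show σ RatFunc.X = σ.toAlgHom RatFunc.X from rfl, ← Set.image_singleton, ← IntermediateField.adjoin_map,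
      RatFunc.adjoin_X, ← AlgHom.fieldRange_eq_map, AlgHom.fieldRange_eq_top]
    exact σ.surjective
  have hdeg : max R.num.natDegree R.denom.natDegree = 1 := by
    rw [← RatFunc.finrank_eq_max_natDegree, htop, IntermediateField.finrank_top]
  have hn : R.num.natDegree ≤ 1 := hdeg ▸ le_max_left _ _
  have hd : R.denom.natDegree ≤ 1 := hdeg ▸ le_max_right _ _
  obtain ⟨α, β, hα⟩ := Polynomial.exists_eq_X_add_C_of_natDegree_le_one hn
  obtain ⟨γ, δ, hγ⟩ := Polynomial.exists_eq_X_add_C_of_natDegree_le_one hd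
  refine ⟨!![α, β; γ, δ], ⟨?_, ?_⟩, ?_⟩
  · have := (map_ne_zero_iff _ (RatFunc.algebraMap_injective K)).2 R.denom_ne_zero
    rw [hγ] at this
    simpa [RatFunc.algebraMap_X, RatFunc.algebraMap_C] using this
  · have h := RatFunc.num_div_denom R
    rw [div_eq_iff ((map_ne_zero_iff _ (RatFunc.algebraMap_injective K)).2 R.denom_ne_zero), hα, hγ] at h
    simpa [RatFunc.algebraMap_X, RatFunc.algebraMap_C, hR] using h.symm
  · intro hdet
    rw [Matrix.det_fin_two_of, sub_eq_zero] at hdet
    have hco := RatFunc.isCoprime_num_denom R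
    rw [hα, hγ] at hco
    obtain ⟨u, v, huv⟩ := hco
    rcases eq_or_ne γ 0 with rfl | hγ0
    · rw [mul_zero, mul_eq_zero] at hdet
      rcases hdet with rfl | rfl
      · rw [hα, hγ] at hdeg; simp at hdeg
      · exact R.denom_ne_zero (by rw [hγ]; simp)
    · have hz : ∀ P : K[X], P = C α * X + C β ∨ P = C γ * X + C δ → P.eval (-δ / γ) = 0 := by
        rintro P (rfl | rfl)
        · rw [Polynomial.eval_add, Polynomial.eval_C_mul, Polynomial.eval_X, Polynomial.eval_C]
          field_simp
          linear_combination -hdet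
        · rw [Polynomial.eval_add, Polynomial.eval_C_mul, Polynomial.eval_X, Polynomial.eval_C]
          field_simp
          ring
      have := congrArg (Polynomial.eval (-δ / γ)) huv
      simp [hz _ (Or.inl rfl), hz _ (Or.inr rfl)] at this

theorem cases_of_preserves {a b c : K} (ha : a ≠ 0) (hroot : ∀ r : K, a * r ^ 2 + b * r + c ≠ 0)
    {σ : RatFunc K →ₐ[K] RatFunc K} {M : Matrix (Fin 2) (Fin 2) K} (hM : Rep σ M) (hdet : M.det ≠ 0)
    (hS : ∃ (P : K[X]) (n : ℕ), σ (algebraMap K[X] (RatFunc K) (C a * X ^ 2 + C b * X + C c))⁻¹ *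
      algebraMap K[X] (RatFunc K) (C a * X ^ 2 + C b * X + C c) ^ n = algebraMap K[X] (RatFunc K) P) :
    (∃ κ, M 1 0 = κ * a ∧ M 1 1 = M 0 0 + κ * b ∧ M 0 1 = -(κ * c)) ∨
      (M 0 0 = -M 1 1 ∧ a * M 0 1 = M 1 0 * c - M 1 1 * b) := by
  obtain ⟨h1, h2⟩ := hM
  obtain ⟨P, n, hP⟩ := hS
  set α := M 0 0; set β := M 0 1; set γ := M 1 0; set δ := M 1 1
  set Q : K[X] := C a * X ^ 2 + C b * X + C c with hQ
  set num : K[X] := C α * X + C β with hnum
  set den : K[X] := C γ * X + C δ with hden
  have hden' : algebraMap K[X] (RatFunc K) den = RatFunc.C γ * RatFunc.X + RatFunc.C δ := by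
    simp [hden, RatFunc.algebraMap_X, RatFunc.algebraMap_C]
  have hnum' : algebraMap K[X] (RatFunc K) num = RatFunc.C α * RatFunc.X + RatFunc.C β := by
    simp [hnum, RatFunc.algebraMap_X, RatFunc.algebraMap_C]
  rw [← hden', ← hnum'] at h2
  rw [← hden'] at h1
  set Q' : K[X] := C a * num ^ 2 + C b * num * den + C c * den ^ 2 with hQ'
  have hσQ : σ (algebraMap K[X] (RatFunc K) Q) * algebraMap K[X] (RatFunc K) den ^ 2 = algebraMap K[X] (RatFunc K) Q' := by
    simp only [hQ, hQ', map_add, map_mul, map_pow, RatFunc.algebraMap_C, RatFunc.algebraMap_X, rep_C]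
    rw [← h2]; ring
  have hQirr : Irreducible Q := by
    have hd : Q.natDegree = 2 := Polynomial.natDegree_quadratic ha
    refine Polynomial.irreducible_of_degree_le_three_of_not_isRoot (by rw [hd]; decide) fun r hr => hroot r ?_
    simpa [hQ, Polynomial.IsRoot] using hr
  have hQ0 : σ (algebraMap K[X] (RatFunc K) Q) ≠ 0 :=
    (map_ne_zero_iff _ σ.toRingHom.injective).2 ((map_ne_zero_iff _ (RatFunc.algebraMap_injective K)).2 hQirr.ne_zero)
  rw [map_inv₀, inv_mul_eq_iff_eq_mul₀ hQ0] at hP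
  have hdvd : Q' ∣ den ^ 2 * Q ^ n := ⟨P, RatFunc.algebraMap_injective K (by
    rw [map_mul, map_mul, map_pow, map_pow, hP, ← hσQ]; ring)⟩
  have hc2 : Q'.coeff 2 = a * α ^ 2 + b * α * γ + c * γ ^ 2 := by
    have : Q' = C (a * α ^ 2 + b * α * γ + c * γ ^ 2) * X ^ 2 + C (2 * a * α * β + b * (α * δ + β * γ) + 2 * c * γ * δ) * X +
        C (a * β ^ 2 + b * β * δ + c * δ ^ 2) := by
      simp only [hQ', hnum, hden, map_add, map_mul, map_pow, Polynomial.C_ofNat]; ring
    rw [this, Polynomial.coeff_add, Polynomial.coeff_add, Polynomial.coeff_C_mul_X_pow, Polynomial.coeff_C_mul_X,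
      Polynomial.coeff_C_ne_zero (by decide), if_pos rfl, if_neg (by decide), add_zero, add_zero]
  have hanis : ∀ u v : K, a * u ^ 2 + b * u * v + c * v ^ 2 = 0 → u = 0 ∧ v = 0 := by
    intro u v h
    rcases eq_or_ne v 0 with rfl | hv
    · simp [ha] at h; exact ⟨h, rfl⟩
    · exact absurd (by field_simp; linear_combination h) (hroot (u / v))
  have hd' : Q'.natDegree = 2 := by
    refine le_antisymm ?_ (Polynomial.le_natDegree_of_ne_zero ?_)
    · rw [hQ', hnum, hden]; compute_degree
    · rw [hc2]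
      intro h
      obtain ⟨hα, hγ⟩ := hanis α γ h
      exact hdet (by rw [Matrix.det_fin_two]; simp [α, γ] at hα hγ; simp [hα, hγ])
  have hQ'irr : Irreducible Q' := by
    refine Polynomial.irreducible_of_degree_le_three_of_not_isRoot (by rw [hd']; decide) fun r hr => ?_
    have : a * (α * r + β) ^ 2 + b * (α * r + β) * (γ * r + δ) + c * (γ * r + δ) ^ 2 = 0 := by
      simpa [hQ', hnum, hden, Polynomial.IsRoot] using hr
    obtain ⟨e1, e2⟩ := hanis _ _ this
    refine hdet ?_
    rw [Matrix.det_fin_two]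
    change α * δ - β * γ = 0
    linear_combination -γ * e1 + α * e2
  have hassoc : Associated Q' Q := by
    rcases hQ'irr.prime.dvd_mul.1 hdvd with h | h
    · exfalso
      have hden0 : den ≠ 0 := fun h0 => h1 (by rw [h0, map_zero])
      have := Polynomial.natDegree_le_of_dvd (hQ'irr.prime.dvd_of_dvd_pow h) hden0
      have hle : den.natDegree ≤ 1 := by rw [hden]; compute_degree
      omega
    · exact hQ'irr.associated_of_dvd hQirr (hQ'irr.prime.dvd_of_dvd_pow h)
  obtain ⟨ω, hω⟩ := IsAlgClosed.exists_root (Q.map (algebraMap K (AlgebraicClosure K))) (by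
    rw [Polynomial.degree_map, Polynomial.degree_quadratic ha]; decide)
  rw [Polynomial.IsRoot, Polynomial.eval_map, ← Polynomial.aeval_def] at hω
  have hω' : Polynomial.aeval ω Q' = 0 := Polynomial.aeval_eq_zero_of_dvd_aeval_eq_zero hassoc.symm.dvd hω
  simp only [hQ, map_add, map_mul, map_pow, Polynomial.aeval_C, Polynomial.aeval_X] at hω
  simp only [hQ', hnum, hden, map_add, map_mul, map_pow, Polynomial.aeval_C, Polynomial.aeval_X] at hω'
  set i := algebraMap K (AlgebraicClosure K) with hi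
  have hlin : ∀ u v : K, i u * ω + i v = 0 → u = 0 ∧ v = 0 := by
    intro u v h
    rcases eq_or_ne u 0 with rfl | hu
    · rw [map_zero, zero_mul, zero_add, map_eq_zero] at h; exact ⟨rfl, h⟩
    · exfalso
      refine hroot (-v / u) (i.injective ?_)
      have : ω = i (-v / u) := by
        rw [map_div₀, map_neg, eq_div_iff ((map_ne_zero i).2 hu)]; linear_combination h
      rw [map_zero, ← hω, this]; simp
  -- `(αω+β, γω+δ)` is again isotropic
  have hprod : (i α * ω + i β - ω * (i γ * ω + i δ)) * (i a * (i α * ω + i β) + (i a * ω + i b) * (i γ * ω + i δ)) = 0 := by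
    linear_combination hω' - (i γ * ω + i δ) ^ 2 * hω
  rcases mul_eq_zero.1 hprod with h | h
  · left
    refine ⟨γ / a, by field_simp, ?_, ?_⟩
    all_goals
      have h' : i (a * (α - δ) + γ * b) * ω + i (a * β + γ * c) = 0 := by
        simp only [map_add, map_sub, map_mul]; linear_combination i a * h + i γ * hω
      obtain ⟨e1, e2⟩ := hlin _ _ h'
      field_simp
      first | linear_combination -e1 | linear_combination e2
  · right
    have h' : i (a * (α + δ)) * ω + i (a * β + b * δ - γ * c) = 0 := by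
      simp only [map_add, map_sub, map_mul]; linear_combination h - i γ * hω
    obtain ⟨e1, e2⟩ := hlin _ _ h'
    exact ⟨by linear_combination (mul_eq_zero.1 e1).resolve_left ha, by linear_combination e2⟩

/-- a rotation of finite order is scalar or has trace zero -/
theorem rotation_order (hK : ∀ n : ℕ, 0 < n → (Polynomial.X ^ n - 1 : Polynomial K).Splits)
    {a b c : K} (ha : a ≠ 0) (hroot : ∀ r : K, a * r ^ 2 + b * r + c ≠ 0)
    {M : Matrix (Fin 2) (Fin 2) K} {κ : K} (hM : M 1 0 = κ * a ∧ M 1 1 = M 0 0 + κ * b ∧ M 0 1 = -(κ * c))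
    (hdet : M.det ≠ 0) {n : ℕ} (hn : 0 < n) {s : K}
    (hs : (M ^ n) 0 1 = 0 ∧ (M ^ n) 1 0 = 0 ∧ (M ^ n) 0 0 = s ∧ (M ^ n) 1 1 = s) :
    κ = 0 ∨ M 0 0 = -M 1 1 := by
  obtain ⟨h10, h11, h01⟩ := hM
  obtain ⟨ω, hω⟩ := IsAlgClosed.exists_root ((C a * X ^ 2 + C b * X + C c : K[X]).map (algebraMap K (AlgebraicClosure K))) (by
    rw [Polynomial.degree_map, Polynomial.degree_quadratic ha]; decide)
  rw [Polynomial.IsRoot, Polynomial.eval_map, ← Polynomial.aeval_def] at hω
  simp only [map_add, map_mul, map_pow, Polynomial.aeval_C, Polynomial.aeval_X] at hω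
  set i := algebraMap K (AlgebraicClosure K) with hi
  let θ : AlgebraicClosure K := -i b / i a - ω
  have hia : i a ≠ 0 := (map_ne_zero i).2 ha
  have hθ : i a * θ ^ 2 + i b * θ + i c = 0 := by simp only [θ]; field_simp; linear_combination (i a) * hω
  -- eigenvectors
  have heig : ∀ z : AlgebraicClosure K, i a * z ^ 2 + i b * z + i c = 0 → (i κ * i a * z + i (M 1 1)) ^ n = i s := by
    intro z hz
    have key : ∀ j : ℕ, i ((M ^ j) 1 0) * z + i ((M ^ j) 1 1) = (i κ * i a * z + i (M 1 1)) ^ j ∧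
        i ((M ^ j) 0 0) * z + i ((M ^ j) 0 1) = (i κ * i a * z + i (M 1 1)) ^ j * z := by
      intro j
      induction j with
      | zero => simp
      | succ j ih =>
        have e : i (M 0 0) * z + i (M 0 1) = (i κ * i a * z + i (M 1 1)) * z := by
          rw [h11, h01, map_add, map_mul, map_neg, map_mul]; linear_combination (-i κ) * hz
        have e' : i (M 1 0) * z + i (M 1 1) = i κ * i a * z + i (M 1 1) := by rw [h10, map_mul]
        rw [pow_succ', Matrix.mul_apply, Matrix.mul_apply, Matrix.mul_apply, Matrix.mul_apply]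
        simp only [Fin.sum_univ_two, map_add, map_mul]
        constructor
        · linear_combination i (M 1 0) * ih.2 + i (M 1 1) * ih.1 + (i κ * i a * z + i (M 1 1)) ^ j * e'
        · linear_combination i (M 0 0) * ih.2 + i (M 0 1) * ih.1 + (i κ * i a * z + i (M 1 1)) ^ j * e
    have := (key n).1
    rw [hs.2.1, hs.2.2.2, map_zero, zero_mul, zero_add] at this
    exact this.symm
  set l := i κ * i a * ω + i (M 1 1) with hl
  set m := i κ * i a * θ + i (M 1 1) with hm
  have hlm : l * m = i M.det := by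
    rw [Matrix.det_fin_two, hl, hm, h10, h11, h01, map_sub, map_mul, map_mul, map_add, map_neg, map_mul, map_mul]
    simp only [θ, map_mul]; field_simp
    linear_combination (-(i κ ^ 2) * i a) * hω
  have hl0 : l ≠ 0 := fun h => hdet ((map_eq_zero i).1 (by rw [← hlm, h, zero_mul]))
  have hζ : Polynomial.aeval (m / l) (X ^ n - 1 : K[X]) = 0 := by
    rw [map_sub, map_pow, Polynomial.aeval_X, map_one, div_pow, heig θ hθ, ← heig ω hω, div_self (pow_ne_zero _ hl0), sub_self]
  obtain ⟨ζ, hζ'⟩ := (Polynomial.Splits.mem_range_of_isRoot (hK n hn) (by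
    simp only [ne_eq, sub_eq_zero]; intro h
    have := congrArg Polynomial.natDegree h
    simp at this; omega) (by rw [Polynomial.IsRoot, Polynomial.eval_map, ← Polynomial.aeval_def]; exact hζ) : m / l ∈ i.range)
  by_cases hκ : κ = 0
  · exact Or.inl hκ
  refine Or.inr ?_
  have h' : i (κ * a * (1 + ζ)) * ω + i (κ * b + (ζ - 1) * M 1 1) = 0 := by
    have e : m = i ζ * l := by rw [hζ', div_mul_cancel₀ _ hl0]
    rw [hl, hm] at e
    simp only [θ] at e
    simp only [map_add, map_mul, map_sub, map_one]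
    field_simp at e
    linear_combination -e
  by_cases h1 : κ * a * (1 + ζ) = 0
  · rw [h1, map_zero, zero_mul, zero_add, map_eq_zero] at h'
    rw [mul_eq_zero] at h1
    have hζ1 : 1 + ζ = 0 := h1.resolve_left (mul_ne_zero hκ ha)
    rw [h11] at h' ⊢
    linear_combination -h' + (M 0 0 + κ * b) * hζ1
  · exfalso
    refine hroot (-(κ * b + (ζ - 1) * M 1 1) / (κ * a * (1 + ζ))) (i.injective ?_)
    have e : ω = i (-(κ * b + (ζ - 1) * M 1 1) / (κ * a * (1 + ζ))) := by
      rw [map_div₀, map_neg, eq_div_iff ((map_ne_zero i).2 h1)]; linear_combination h'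
    rw [map_zero, ← hω, e]; simp

theorem group_bound {G : Type*} [Group G] [Finite G] (φ : G → RatFunc K ≃ₐ[K] RatFunc K) (hφ : Function.Injective φ)
    (hmul : ∀ g h, φ (g * h) = φ g * φ h)
    (hK : ∀ n : ℕ, 0 < n → (Polynomial.X ^ n - 1 : Polynomial K).Splits)
    {a b c : K} (ha : a ≠ 0) (hroot : ∀ r : K, a * r ^ 2 + b * r + c ≠ 0) (hdisc : b ^ 2 - 4 * a * c ≠ 0)
    (hS : ∀ g, ∃ (P : K[X]) (n : ℕ), φ g (algebraMap K[X] (RatFunc K) (C a * X ^ 2 + C b * X + C c))⁻¹ *
      algebraMap K[X] (RatFunc K) (C a * X ^ 2 + C b * X + C c) ^ n = algebraMap K[X] (RatFunc K) P) :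
    (∀ g : G, g ^ 2 = 1) ∧ Nat.card G ≤ 4 := by
  classical
  have hone : φ 1 = 1 := by
    have := hmul 1 1
    rw [mul_one] at this
    exact mul_left_cancel (this.symm.trans (mul_one _).symm)
  choose M hM hdet using fun g => exists_rep (φ g)
  have hcomp : ∀ g h {A B}, Rep (φ g).toAlgHom A → Rep (φ h).toAlgHom B → Rep (φ (g * h)).toAlgHom (B * A) := by
    intro g h A B hA hB
    rw [hmul]; exact hA.comp hB
  have hid : Rep (φ 1).toAlgHom (1 : Matrix (Fin 2) (Fin 2) K) := by
    rw [hone]
    refine ⟨?_, ?_⟩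
    · simp
    · simp
  have hpow : ∀ g {A}, Rep (φ g).toAlgHom A → ∀ n : ℕ, Rep (φ (g ^ n)).toAlgHom (A ^ n) := by
    intro g A hA n
    induction n with
    | zero => simpa using hid
    | succ n ih => rw [pow_succ', pow_succ]; exact hcomp _ _ hA ih
  have heq1 : ∀ g {A}, Rep (φ g).toAlgHom A → A 0 1 = 0 → A 1 0 = 0 → A 0 0 = A 1 1 → g = 1 := by
    intro g A hA h1 h2 h3
    refine hφ (AlgEquiv.ext fun z => ?_)
    rw [hone]
    exact DFunLike.congr_fun (hA.eq_id h1 h2 h3) z
  -- every element is an involution with trace zero, or trivial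
  have hkey : ∀ g, g = 1 ∨ M g 0 0 = -M g 1 1 := by
    intro g
    rcases cases_of_preserves ha hroot (hM g) (hdet g) (hS g) with ⟨κ, hκ⟩ | h
    swap
    · exact Or.inr h.1
    have hn := orderOf_pos g
    have h1 := hpow g (hM g) (orderOf g)
    rw [pow_orderOf_eq_one] at h1
    obtain ⟨e1, e2, e3⟩ := Rep.scalar (by rw [hone] at h1; exact h1)
    rcases rotation_order hK ha hroot hκ (hdet g) hn ⟨e1, e2, e3, rfl⟩ with rfl | h
    · refine Or.inl (heq1 g (hM g) ?_ ?_ ?_)
      · rw [hκ.2.2, zero_mul, neg_zero]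
      · rw [hκ.1, zero_mul]
      · rw [hκ.2.1, zero_mul, add_zero]
    · exact Or.inr h
  have hinv : ∀ g : G, g ^ 2 = 1 := by
    intro g
    rcases hkey g with rfl | h
    · exact one_pow 2
    · refine heq1 _ (hpow g (hM g) 2) ?_ ?_ ?_ <;> simp only [pow_two, Matrix.mul_apply, Fin.sum_univ_two, h] <;> ring
  refine ⟨hinv, ?_⟩
  let Rot : G → Prop := fun g => ∃ A, Rep (φ g).toAlgHom A ∧ A.det ≠ 0 ∧
    ∃ κ, A 1 0 = κ * a ∧ A 1 1 = A 0 0 + κ * b ∧ A 0 1 = -(κ * c)
  have hRot : ∀ g, Rot g ∨ (M g 0 0 = -M g 1 1 ∧ a * M g 0 1 = M g 1 0 * c - M g 1 1 * b) := fun g => by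
    rcases cases_of_preserves ha hroot (hM g) (hdet g) (hS g) with h | h
    · exact Or.inl ⟨M g, hM g, hdet g, h⟩
    · exact Or.inr h
  have htr : ∀ g, g ≠ 1 → ∀ A : Matrix (Fin 2) (Fin 2) K, Rep (φ g).toAlgHom A → A.det ≠ 0 → ∀ κ : K,
      A 1 0 = κ * a → A 1 1 = A 0 0 + κ * b → A 0 1 = -(κ * c) → κ ≠ 0 ∧ 2 * A 0 0 + κ * b = 0 := by
    intro g hg A hA hAd κ e1 e2 e3
    have hκ : κ ≠ 0 := by
      rintro rfl
      exact hg (heq1 g hA (by rw [e3, zero_mul, neg_zero]) (by rw [e1, zero_mul]) (by rw [e2, zero_mul, add_zero]))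
    have h1 := hpow g hA (orderOf g)
    rw [pow_orderOf_eq_one] at h1
    obtain ⟨f1, f2, f3⟩ := Rep.scalar (by rw [hone] at h1; exact h1)
    have := (rotation_order hK ha hroot ⟨e1, e2, e3⟩ hAd (orderOf_pos g) ⟨f1, f2, f3, rfl⟩).resolve_left hκ
    exact ⟨hκ, by linear_combination this - e2⟩
  have hrot : ∀ g h, Rot g → Rot h → g ≠ 1 → h ≠ 1 → g = h := by
    rintro g h ⟨A, hA, hAd, κ, e1, e2, e3⟩ ⟨B, hB, hBd, κ', e1', e2', e3'⟩ hg hh
    obtain ⟨hκ, t⟩ := htr g hg A hA hAd κ e1 e2 e3
    obtain ⟨hκ', t'⟩ := htr h hh B hB hBd κ' e1' e2' e3'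
    have hcross : B 0 0 * κ = A 0 0 * κ' := by
      have h2 : (2 : K) * (B 0 0 * κ - A 0 0 * κ') = 0 := by linear_combination κ * t' - κ' * t
      rcases mul_eq_zero.1 h2 with h2 | h2
      · exfalso
        have : κ * b = 0 := by linear_combination t - A 0 0 * h2
        rw [(mul_eq_zero.1 this).resolve_left hκ] at hdisc
        refine hdisc ?_
        linear_combination (-2 * a * c) * h2
      · exact sub_eq_zero.1 h2
    have hz : B 0 0 * κ + A 0 0 * κ' + κ * κ' * b = 0 := by linear_combination hcross + κ' * t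
    have hgh : g * h = 1 := by
      refine heq1 _ (hcomp g h hA hB) ?_ ?_ ?_ <;>
        simp only [Matrix.mul_apply, Fin.sum_univ_two, e1, e2, e3, e1', e2', e3']
      · linear_combination (-c) * hz
      · linear_combination a * hz
      · linear_combination (-b) * hz
    calc g = g * (h * h) := by rw [← pow_two, hinv, mul_one]
      _ = h := by rw [← mul_assoc, hgh, one_mul]
  obtain ⟨s, hs⟩ : ∃ s : G, ¬ Rot s ∨ (s = 1 ∧ ∀ g, Rot g) := by
    by_cases h : ∃ s, ¬ Rot s
    · obtain ⟨s, hs⟩ := h; exact ⟨s, Or.inl hs⟩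
    · exact ⟨1, Or.inr ⟨rfl, fun g => not_not.1 fun hg => h ⟨g, hg⟩⟩⟩
  have h1rot : Rot 1 := ⟨1, hid, by simp, 0, by simp, by simp, by simp⟩
  have hmulrot : ∀ g h, ¬ Rot g → ¬ Rot h → Rot (g * h) := by
    intro g h hg hh
    obtain ⟨t1, t2⟩ := (hRot g).resolve_left hg
    obtain ⟨t1', t2'⟩ := (hRot h).resolve_left hh
    refine ⟨M h * M g, hcomp g h (hM g) (hM h), by rw [Matrix.det_mul]; exact mul_ne_zero (hdet h) (hdet g),
      (M h 1 1 * M g 1 0 - M h 1 0 * M g 1 1) / a, ?_, ?_, ?_⟩
    all_goals simp only [Matrix.mul_apply, Fin.sum_univ_two, t1, t1']; field_simp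
    · ring
    · linear_combination M h 1 0 * t2 - M g 1 0 * t2'
    · linear_combination (-M h 1 1) * t2 + M g 1 1 * t2'
  refine le_of_le_of_eq (Nat.card_le_card_of_injective (fun g => (decide (Rot g), decide (g = 1 ∨ g = s))) ?_) ?_
  · intro g h hgh
    simp only [Prod.mk.injEq, decide_eq_decide] at hgh
    obtain ⟨hr, hcl⟩ := hgh
    by_cases hg : Rot g
    · have hh := hr.1 hg
      have key : ∀ x, Rot x → (x = 1 ∨ x = s) → x = 1 := by
        rintro x hx (rfl | rfl)
        · rfl
        · exact hs.elim (fun h => absurd hx h) fun h => h.1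
      by_cases hc : g = 1 ∨ g = s
      · rw [key g hg hc, key h hh (hcl.1 hc)]
      · have hc' : ¬ (h = 1 ∨ h = s) := fun h' => hc (hcl.2 h')
        exact hrot g h hg hh (fun e => hc (Or.inl e)) fun e => hc' (Or.inl e)
    · have hh : ¬ Rot h := fun h' => hg (hr.2 h')
      have hs' : ¬ Rot s := hs.elim id fun h' => absurd (h'.2 g) hg
      have key : ∀ x, ¬ Rot x → (x = 1 ∨ x = s) → x = s := by
        rintro x hx (rfl | rfl)
        · exact absurd h1rot hx
        · rfl
      by_cases hc : g = 1 ∨ g = s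
      · rw [key g hg hc, key h hh (hcl.1 hc)]
      · have hc' : ¬ (h = 1 ∨ h = s) := fun h' => hc (hcl.2 h')
        have hne : ∀ x, ¬ (x = 1 ∨ x = s) → s * x ≠ 1 := fun x hx e => hx (Or.inr (by
          calc x = (s * s) * x := by rw [← pow_two, hinv, one_mul]
            _ = s := by rw [mul_assoc, e, mul_one]))
        exact mul_left_cancel (hrot (s * g) (s * h) (hmulrot s g hs' hg) (hmulrot s h hs' hh) (hne g hc) (hne h hc'))
  · simp

/-- Let K be a field such that K contains all roots of unity (for every n ≥ 1 the polynomial X^n − 1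
splits into linear factors over K). Let q be an irreducible binary quadratic form over K with
non-zero discriminant, so that its zero locus in the projective line over K is a single closed point
with separable quadratic residue field over K (a pair of distinct conjugate geometric points), and
let U be the complement of that point: the affine curve whose coordinate ring is the ring of
degree-0 fractions f / q ^ k (f a binary form of degree 2k). Then for every finite group G of
K-automorphisms of U (K-linear ring automorphisms of its coordinate ring), every g ∈ G satisfies g ^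
2 = 1 and G has at most 4 elements. -/
theorem result
    (K : Type u) [Field K] (hK : ∀ n : ℕ, 0 < n → (Polynomial.X ^ n - 1 : Polynomial K).Splits)
    (q : MvPolynomial (Fin 2) K) (hq : q.IsHomogeneous 2) (hirr : Irreducible q)
    (hdisc : (q.coeff (Finsupp.single 0 1 + Finsupp.single 1 1)) ^ 2 -
      4 * q.coeff (Finsupp.single 0 2) * q.coeff (Finsupp.single 1 2) ≠ 0)
    (G : Subgroup (HomogeneousLocalization.Away (MvPolynomial.homogeneousSubmodule (Fin 2) K) q ≃+* HomogeneousLocalization.Away (MvPolynomial.homogeneousSubmodule (Fin 2) K) q)) [Finite G]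
    (hG : ∀ g ∈ G, ∀ (k : K) (z : HomogeneousLocalization.Away (MvPolynomial.homogeneousSubmodule (Fin 2) K) q), g (k • z) = k • g z) :
    (∀ g ∈ G, g ^ 2 = 1) ∧ Nat.card G ≤ 4 := by
  classical
  set 𝒜 := MvPolynomial.homogeneousSubmodule (Fin 2) K
  set a := q.coeff (Finsupp.single 0 2) with hadef
  set b := q.coeff (Finsupp.single 0 1 + Finsupp.single 1 1) with hbdef
  set c := q.coeff (Finsupp.single 1 2) with hcdef
  have hqform : q = MvPolynomial.C a * MvPolynomial.X 0 ^ 2 + MvPolynomial.C b * (MvPolynomial.X 0 * MvPolynomial.X 1) +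
      MvPolynomial.C c * MvPolynomial.X 1 ^ 2 := by
    ext d
    simp only [pow_two, MvPolynomial.coeff_add, MvPolynomial.coeff_C_mul, MvPolynomial.X,
      MvPolynomial.monomial_mul, one_mul, MvPolynomial.coeff_monomial, ← Finsupp.single_add]
    by_cases hd : d 0 + d 1 = 2
    · have h3 : d = Finsupp.single 0 2 ∨ d = Finsupp.single 0 1 + Finsupp.single 1 1 ∨ d = Finsupp.single 1 2 := by
        have : d 0 = 2 ∨ d 0 = 1 ∨ d 0 = 0 := by omega
        rcases this with h | h | h
        · left; ext i; fin_cases i <;> simp <;> omega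
        · right; left; ext i; fin_cases i <;> simp <;> omega
        · right; right; ext i; fin_cases i <;> simp <;> omega
      rcases h3 with rfl | rfl | rfl <;> simp [a, b, c, Finsupp.ext_iff]
    · have h0 : q.coeff d = 0 := hq.coeff_eq_zero (by
        simpa [Finsupp.degree_eq_sum, Fin.sum_univ_two] using hd)
      rw [h0]
      symm
      have : ∀ e : Fin 2 →₀ ℕ, e 0 + e 1 = 2 → e ≠ d := fun e he h => hd (h ▸ he)
      rw [if_neg (this _ (by simp)), if_neg (this _ (by simp)), if_neg (this _ (by simp))]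
      simp
  have hcc : ∀ p : MvPolynomial (Fin 2) K, MvPolynomial.constantCoeff p = 0 → ¬ IsUnit p := fun p h hu =>
    not_isUnit_zero (h ▸ hu.map MvPolynomial.constantCoeff)
  have ha : a ≠ 0 := by
    intro ha0
    rw [ha0, map_zero, zero_mul, zero_add] at hqform
    replace hqform : q = (MvPolynomial.C b * MvPolynomial.X 0 + MvPolynomial.C c * MvPolynomial.X 1) *
        MvPolynomial.X 1 := hqform.trans (by ring)
    exact (hirr.isUnit_or_isUnit hqform).elim (hcc _ (by simp)) (hcc _ (by simp))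
  have hroot : ∀ r : K, a * r ^ 2 + b * r + c ≠ 0 := by
    intro r hr
    have : q = (MvPolynomial.X 0 - MvPolynomial.C r * MvPolynomial.X 1) *
        (MvPolynomial.C a * MvPolynomial.X 0 + MvPolynomial.C (b + a * r) * MvPolynomial.X 1) := by
      rw [hqform, show c = -(a * r ^ 2 + b * r) by linear_combination hr]
      simp only [map_add, map_mul, map_neg, map_pow]; ring
    exact (hirr.isUnit_or_isUnit this).elim (hcc _ (by simp)) (hcc _ (by simp))
  set Q : K[X] := C a * X ^ 2 + C b * X + C c with hQ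
  have hdehq : dehP q = Q := by
    rw [hqform]; simp [dehP, hQ]
  have hQ0 : algebraMap K[X] (RatFunc K) Q ≠ 0 := by
    refine (map_ne_zero_iff _ (RatFunc.algebraMap_injective K)).2 ?_
    rw [hQ]; intro h
    have := congrArg (fun P : K[X] => P.natDegree) h
    simp [Polynomial.natDegree_quadratic ha] at this
  have hq2 : q ∈ 𝒜 2 := hq
  have hu : IsUnit ((deh (K := K)).toRingHom q) := by
    rw [AlgHom.toRingHom_eq_coe, RingHom.coe_coe, deh_eq, hdehq]; exact hQ0.isUnit
  let ι : HomogeneousLocalization.Away 𝒜 q →+* RatFunc K :=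
    (Localization.awayLift (deh (K := K)).toRingHom q hu).comp (algebraMap _ (Localization.Away q))
  have hι : ∀ n p (hp : p ∈ 𝒜 (n • 2)), ι (HomogeneousLocalization.Away.mk 𝒜 hq2 n p hp) *
      algebraMap K[X] (RatFunc K) Q ^ n = algebraMap K[X] (RatFunc K) (dehP p) := by
    intro n p hp
    rw [← hdehq, ← deh_eq, ← deh_eq]
    change Localization.awayLift (deh (K := K)).toRingHom q hu (Localization.mk p ⟨q ^ n, n, rfl⟩) * _ = _
    rw [Localization.mk_eq_mk', Localization.awayLift, IsLocalization.Away.lift, IsLocalization.lift_mk', mul_assoc]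
    simp only [RingHom.toMonoidHom_eq_coe, MonoidHom.coe_coe, AlgHom.toRingHom_eq_coe, RingHom.coe_coe]
    have : deh (K := K) q ^ n = deh (K := K) (q ^ n) := (map_pow _ _ _).symm
    rw [this]
    convert mul_one _
    exact Units.inv_mul _
  have hinj : Function.Injective ι := by
    rw [injective_iff_map_eq_zero]
    intro z hz
    obtain ⟨n, p, hp, rfl⟩ := HomogeneousLocalization.Away.mk_surjective 𝒜 hq2 z
    have h := hι n p hp
    rw [hz, zero_mul, eq_comm, map_eq_zero_iff _ (RatFunc.algebraMap_injective K)] at h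
    obtain rfl := dehP_inj hp h
    refine HomogeneousLocalization.val_injective _ ?_
    rw [HomogeneousLocalization.Away.val_mk, Localization.mk_zero, HomogeneousLocalization.val_zero]
  have hrange : ∀ (n : ℕ) (P : K[X]), P.natDegree ≤ 2 * n → ∃ z, ι z * algebraMap K[X] (RatFunc K) Q ^ n =
      algebraMap K[X] (RatFunc K) P := by
    intro n P hP
    have hp : P.homogenize (n • 2) ∈ 𝒜 (n • 2) := Polynomial.isHomogeneous_homogenize P
    exact ⟨_, by rw [hι n _ hp, dehP_homogenize P (by rw [smul_eq_mul]; omega)]⟩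
  letI : Algebra (HomogeneousLocalization.Away 𝒜 q) (RatFunc K) := ι.toAlgebra
  haveI : IsDomain (HomogeneousLocalization.Away 𝒜 q) := hinj.isDomain ι
  haveI : FaithfulSMul (HomogeneousLocalization.Away 𝒜 q) (RatFunc K) := (faithfulSMul_iff_algebraMap_injective _ _).2 hinj
  haveI : IsFractionRing (HomogeneousLocalization.Away 𝒜 q) (RatFunc K) := IsFractionRing.of_field _ _ fun z => by
    set N := max z.num.natDegree z.denom.natDegree
    obtain ⟨x, hx⟩ := hrange N z.num (by omega)
    obtain ⟨y, hy⟩ := hrange N z.denom (by omega)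
    refine ⟨x, y, ?_⟩
    rw [← mul_div_mul_right (algebraMap _ (RatFunc K) x) (algebraMap _ (RatFunc K) y) (pow_ne_zero N hQ0)]
    change z = (ι x * _) / (ι y * _)
    rw [hx, hy, RatFunc.num_div_denom]
  have hC : ∀ k : K, ι (k • (1 : HomogeneousLocalization.Away 𝒜 q)) = algebraMap K (RatFunc K) k := by
    intro k
    change Localization.awayLift (deh (K := K)).toRingHom q hu
      ((k • (1 : HomogeneousLocalization.Away 𝒜 q)).val) = _
    rw [HomogeneousLocalization.val_smul, HomogeneousLocalization.val_one, ← Localization.mk_one,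
      Localization.smul_mk, Localization.mk_one_eq_algebraMap, Localization.awayLift, IsLocalization.Away.lift,
      IsLocalization.lift_eq]
    change deh (k • (1 : MvPolynomial (Fin 2) K)) = _
    rw [map_smul, map_one, Algebra.algebraMap_eq_smul_one]
  let ext' : G → RatFunc K ≃ₐ[K] RatFunc K := fun g =>
    AlgEquiv.ofRingEquiv (f := IsFractionRing.ringEquivOfRingEquiv g.1) fun k => by
      rw [← hC]
      change IsFractionRing.ringEquivOfRingEquiv g.1 (algebraMap _ (RatFunc K) _) = _
      rw [IsFractionRing.ringEquivOfRingEquiv_algebraMap, hG g.1 g.2, map_one]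
      rfl
  have hext : ∀ (g : G) z, ext' g (ι z) = ι (g.1 z) := fun g z =>
    IsFractionRing.ringEquivOfRingEquiv_algebraMap _ _
  have hinj' : Function.Injective ext' := fun g h e => Subtype.ext (RingEquiv.ext fun z => hinj (by
    rw [← hext, ← hext, e]))
  have hmul : ∀ g h, ext' (g * h) = ext' g * ext' h := by
    intro g h
    refine AlgEquiv.ext fun z => ?_
    obtain ⟨x, y, hy, rfl⟩ := IsFractionRing.div_surjective (A := HomogeneousLocalization.Away 𝒜 q) z
    rw [map_div₀, map_div₀]
    change _ = ext' g (ext' h (ι x)) / ext' g (ext' h (ι y))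
    change ext' (g * h) (ι x) / ext' (g * h) (ι y) = _
    simp only [hext]
    rfl
  have hS : ∀ g, ∃ (P : K[X]) (n : ℕ), ext' g (algebraMap K[X] (RatFunc K) Q)⁻¹ *
      algebraMap K[X] (RatFunc K) Q ^ n = algebraMap K[X] (RatFunc K) P := by
    intro g
    obtain ⟨z, hz⟩ := hrange 1 1 (by simp)
    rw [pow_one, map_one] at hz
    obtain ⟨n, p, hp, he⟩ := HomogeneousLocalization.Away.mk_surjective 𝒜 hq2 (g.1 z)
    refine ⟨dehP p, n, ?_⟩
    rw [← eq_inv_of_mul_eq_one_left hz, hext, ← he, hι]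
  obtain ⟨h1, h2⟩ := group_bound ext' hinj' hmul hK ha hroot hdisc hS
  exact ⟨fun g hg => congrArg Subtype.val (h1 ⟨g, hg⟩), h2⟩

end Groth.Agent.S15179
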