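import Groth.Statements.S15183
import Mathlib

set_option autoImplicit false
universe u v
open Polynomial
open BddFin

namespace Groth.Agent.S15183

/-- Let K be a field such that K contains all roots of unity (for every n ≥ 1 the polynomial X^n − 1
splits into linear factors over K), and A a finite-dimensional central simple K-algebra which is not
a division algebra (some non-zero element is not a unit). Then the quotient of the unit group of A
by that of K has elements of every finite order invertible in K: for every d ≥ 1 with d ≠ 0 in K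
there is a unit x of A with x ^ d in K and x ^ k not in K for 0 < k < d. (The published assertion is
phrased for the automorphism group of the Severi–Brauer variety of A, which is isomorphic to the
units of A modulo those of K; this row is the algebra-side statement its proof establishes.) -/
theorem result
    (K : Type u) [Field K] (hK : ∀ n : ℕ, 0 < n → (X ^ n - 1 : K[X]).Splits)
    (A : Type v) [Ring A] [Algebra K A] [Algebra.IsCentral K A] [IsSimpleRing A] [FiniteDimensional K A]
    (hA : ∃ y : A, y ≠ 0 ∧ ¬ IsUnit y) (d : ℕ) (hd : 0 < d) (hdK : (d : K) ≠ 0) :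
    ∃ x : A, IsUnit x ∧ x ^ d ∈ (algebraMap K A).range ∧
      ∀ k : ℕ, 0 < k → k < d → x ^ k ∉ (algebraMap K A).range := by
  classical
  haveI : IsArtinianRing A := IsArtinianRing.of_finite K A
  obtain ⟨k, hk, D, _, _, _, ⟨e⟩⟩ := IsSimpleRing.exists_algEquiv_matrix_divisionRing_finite K A
  obtain ⟨y, hy0, hyu⟩ := hA
  have hk2 : ∃ i j : Fin k, i ≠ j := by
    by_contra h
    push Not at h
    haveI : Subsingleton (Fin k) := ⟨h⟩
    set o : Fin k := ⟨0, Nat.pos_of_ne_zero hk.out⟩
    have hM : e y = Matrix.scalar (Fin k) (e y o o) := by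
      ext a b; rw [Subsingleton.elim a o, Subsingleton.elim b o]; simp
    refine hyu ((isUnit_map_iff e y).1 ?_)
    rw [hM]
    refine IsUnit.map (Matrix.scalar (Fin k)) (isUnit_iff_ne_zero.2 fun h0 => hy0 ?_)
    refine e.injective ?_
    rw [hM, h0, map_zero, map_zero]
  obtain ⟨i, j, hij⟩ := hk2
  obtain ⟨ζ, hζ⟩ : ∃ ζ : K, IsPrimitiveRoot ζ d := by
    haveI : NeZero (d : K) := ⟨hdK⟩
    have hdeg : (cyclotomic d K).degree ≠ 0 := by rw [degree_cyclotomic]; exact_mod_cast (Nat.totient_pos.2 hd).ne'
    obtain ⟨ζ, h⟩ := Polynomial.Splits.exists_eval_eq_zero ((hK d hd).of_dvd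
      (by simpa using X_pow_sub_C_ne_zero hd (1 : K)) (cyclotomic.dvd_X_pow_sub_one d K)) hdeg
    exact ⟨ζ, isRoot_cyclotomic_iff.1 h⟩
  set M : Matrix (Fin k) (Fin k) D := Matrix.diagonal fun l => if l = i then algebraMap K D ζ else 1
  have hMd : M ^ d = 1 := by
    rw [Matrix.diagonal_pow]
    convert Matrix.diagonal_one using 2
    funext l
    simp only [Pi.pow_apply]
    split_ifs
    · rw [← map_pow, hζ.pow_eq_one, map_one]
    · exact one_pow d
  have hxd : e.symm M ^ d = 1 := by rw [← map_pow, hMd, map_one]
  refine ⟨e.symm M, IsUnit.of_pow_eq_one hxd hd.ne', ⟨1, by rw [hxd, map_one]⟩, fun t ht htd => ?_⟩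
  rintro ⟨c, hc⟩
  have hM : M ^ t = algebraMap K _ c := by
    have h := congrArg e hc
    rw [AlgEquiv.commutes, map_pow, e.apply_symm_apply] at h
    exact h.symm
  rw [Matrix.diagonal_pow, Matrix.algebraMap_eq_diagonal] at hM
  have hi := congrFun (Matrix.diagonal_injective hM) i
  have hj := congrFun (Matrix.diagonal_injective hM) j
  simp only [Pi.pow_apply, if_true, if_neg hij.symm, one_pow, Pi.algebraMap_apply] at hi hj
  rw [← hj, ← map_pow, ← map_one (algebraMap K D)] at hi
  exact hζ.pow_ne_one_of_pos_of_lt ht.ne' htd ((algebraMap K D).injective hi)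

end Groth.Agent.S15183
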