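import Groth.Statements.S15185
import Mathlib

set_option autoImplicit false
universe u v
open Polynomial
open BddFin

namespace Groth.Agent.S15185

/-- Let K be a field of characteristic p > 0 such that K contains all roots of unity (for every n ≥ 1
the polynomial X^n − 1 splits into linear factors over K), A a central division algebra of dimension
n ^ 2 over K, and write n = n' · p ^ m with n' prime to p; let N be the reduced norm of A. Consider
the kernel of the homomorphism from the units of A modulo those of K to Kˣ/(Kˣ)^(p^m) induced by N.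
Every element of finite order of that kernel has order dividing n': if x ≠ 0 in A has x ^ r in K for
some r ≥ 1 and N x is a (p ^ m)-th power of a non-zero element of K, then x ^ n' lies in K. -/
theorem result
    (K : Type u) [Field K] (p : ℕ) [Fact p.Prime] [CharP K p] (hK : ∀ n : ℕ, 0 < n → (X ^ n - 1 : K[X]).Splits)
    (A : Type v) [DivisionRing A] [Algebra K A] [Algebra.IsCentral K A] [FiniteDimensional K A]
    (n n' m : ℕ) (hA : Module.finrank K A = n ^ 2) (hn : n = n' * p ^ m) (hn' : ¬ p ∣ n')
    (N : A →* K) (hN : CSAGal.IsRedNorm K A N)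
    (x : A) (hx : x ≠ 0) (hxr : ∃ r : ℕ, 0 < r ∧ x ^ r ∈ (algebraMap K A).range)
    (hNx : ∃ b : K, b ≠ 0 ∧ N x = b ^ (p ^ m)) :
    x ^ n' ∈ (algebraMap K A).range := by
  classical
  obtain ⟨r, hr, a, ha⟩ := hxr
  obtain ⟨b, hb, hNb⟩ := hNx
  obtain ⟨F, _, _, _, d, φ, hφ⟩ := hN
  have hd : d = n := by
    have h1 := φ.toLinearEquiv.finrank_eq
    rw [Module.finrank_baseChange, Module.finrank_matrix, hA, Module.finrank_self, mul_one,
      Fintype.card_fin] at h1
    have h3 : n ^ 2 = d ^ 2 := by rw [pow_two d]; linarith
    exact (Nat.pow_left_injective two_ne_zero h3).symm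
  have hNa : ∀ c : K, N (algebraMap K A c) = c ^ n := fun c => (algebraMap K F).injective (by
    rw [hφ, map_pow, show TensorProduct.tmul K (1 : F) (algebraMap K A c) = algebraMap F (TensorProduct K F A) (algebraMap K F c) by
      rw [Algebra.TensorProduct.algebraMap_apply, Algebra.algebraMap_self, RingHom.id_apply,
        Algebra.algebraMap_eq_smul_one, Algebra.algebraMap_eq_smul_one, TensorProduct.smul_tmul],
      φ.commutes, Matrix.algebraMap_eq_diagonal, Matrix.det_diagonal]
    simp [hd])
  have h2 : a ^ n' = b ^ r := by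
    have hpow : (a ^ n') ^ p ^ m = (b ^ r) ^ p ^ m := by
      rw [← pow_mul, ← hn, ← hNa, ha, map_pow, hNb, ← pow_mul, ← pow_mul, mul_comm]
    exact iterateFrobenius_inj K p m (by rwa [iterateFrobenius_def, iterateFrobenius_def])
  set y : A := x ^ n' * algebraMap K A b⁻¹ with hy
  have hyr : y ^ r = 1 := by
    rw [hy, ((Algebra.commute_algebraMap_right _ _)).mul_pow, ← pow_mul, mul_comm, pow_mul, ← ha,
      ← map_pow, ← map_pow, ← map_mul, h2, ← mul_pow, mul_inv_cancel₀ hb, one_pow, map_one]
  have hroot : ∃ z : K, y = algebraMap K A z := by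
    have h0 : Polynomial.aeval y (X ^ r - 1 : K[X]) = 0 := by simp [hyr]
    have hsp := Polynomial.Splits.eq_prod_roots_of_monic (hK r hr)
      (by simpa using Polynomial.monic_X_pow_sub_C (1 : K) hr.ne')
    rw [hsp] at h0
    generalize (X ^ r - 1 : K[X]).roots = s at h0
    induction s using Multiset.induction_on with
    | empty => simp at h0
    | cons z s ih =>
      rw [Multiset.map_cons, Multiset.prod_cons, map_mul, mul_eq_zero] at h0
      rcases h0 with h | h
      · refine ⟨z, ?_⟩
        simpa [sub_eq_zero] using h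
      · exact ih h
  obtain ⟨z, hz⟩ := hroot
  refine ⟨z * b, ?_⟩
  rw [map_mul, ← hz, hy, mul_assoc, ← map_mul, inv_mul_cancel₀ hb, map_one, mul_one]

end Groth.Agent.S15185
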