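import Groth.Statements.S15188
import Groth.Agent.SBAut.FiniteOrder

set_option autoImplicit false
universe u
open CategoryTheory CategoryTheory.Limits AlgebraicGeometry Polynomial
open BddFin

namespace Groth.Agent.S15188

/-- Let k be a field such that k contains all roots of unity (for every m ≥ 1 the polynomial X^m − 1
splits into linear factors over k), A a central division algebra of dimension n² over k with the
characteristic of k not dividing n, and X → Spec k the Severi–Brauer variety of A (X represents the
functor of left ideals of A with projective quotient of corank n² − n). Then every automorphism g of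
X over k of finite order satisfies g ^ n = 1. -/
theorem result
    (k : Type u) [Field k] (hk : ∀ m : ℕ, 0 < m → (X ^ m - 1 : k[X]).Splits)
    (A : Type u) [DivisionRing A] [Algebra k A] [Algebra.IsCentral k A]
    (n : ℕ) (hn : 0 < n) (hnk : (n : k) ≠ 0) (hA : Module.finrank k A = n * n)
    {X : Scheme.{u}} (f : X ⟶ Spec (CommRingCat.of k)) (hX : BrSev.IsSBOf k A (n * n - n) f)
    (g : Aut (Over.mk f)) (hg : IsOfFinOrder g) : g ^ n = 1 := by
  obtain ⟨σ⟩ := hX
  exact Groth.Agent.SBAut.pow_eq_one_of_isOfFinOrder hk (Groth.Agent.SBAut.xi σ)
    (Groth.Agent.SBAut.xi_surjective σ hn hA) (Groth.Agent.SBAut.ker_xi σ hn hA) hn hA g hg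

end Groth.Agent.S15188
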