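import Groth.Statements.S15190
import Groth.Agent.SBAut.FiniteOrder

set_option autoImplicit false
universe u
open CategoryTheory CategoryTheory.Limits AlgebraicGeometry Polynomial
open BddFin

namespace Groth.Agent.S15190

/-- Let k be a field of characteristic p > 0 such that k contains all roots of unity (for every r ≥ 1
the polynomial X^r − 1 splits into linear factors over k), A a central division algebra of dimension
n² over k with n = n' · p ^ m and n' prime to p, and X → Spec k the Severi–Brauer variety of A (X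
represents the functor of left ideals of A with projective quotient of corank n² − n). Then every
finite subgroup G of the group of automorphisms of X over k is a semidirect product: there are
subgroups H and S of G with H normal in G, H ∩ S trivial and H S = G, such that every element of H
has order prime to p and S is abelian with s ^ (p ^ m) = 1 for all s in S. (The published statement
also bounds the order of H; that bound is not part of this row.) -/
theorem result
    (k : Type u) [Field k] (p : ℕ) [Fact p.Prime] [CharP k p]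
    (hk : ∀ r : ℕ, 0 < r → (X ^ r - 1 : k[X]).Splits)
    (A : Type u) [DivisionRing A] [Algebra k A] [Algebra.IsCentral k A]
    (n n' m : ℕ) (hn0 : 0 < n) (hA : Module.finrank k A = n * n) (hn : n = n' * p ^ m) (hn' : ¬ p ∣ n')
    {X : Scheme.{u}} (f : X ⟶ Spec (CommRingCat.of k)) (hX : BrSev.IsSBOf k A (n * n - n) f)
    (G : Subgroup (Aut (Over.mk f))) [Finite G] :
    ∃ H S : Subgroup (Aut (Over.mk f)), H ≤ G ∧ S ≤ G ∧
      (∀ g ∈ G, ∀ h ∈ H, g * h * g⁻¹ ∈ H) ∧ H ⊓ S = ⊥ ∧ H ⊔ S = G ∧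
      (∀ h ∈ H, ((orderOf h : ℕ) : k) ≠ 0) ∧
      (∀ s ∈ S, ∀ t ∈ S, s * t = t * s) ∧ (∀ s ∈ S, s ^ (p ^ m) = 1) := by
  obtain ⟨σ⟩ := hX
  have hs := Groth.Agent.SBAut.xi_surjective σ hn0 hA
  have hk' := Groth.Agent.SBAut.ker_xi σ hn0 hA
  have hcomm : ∀ x ∈ G, ∀ y ∈ G, x * y = y * x := fun x hx y hy =>
    Groth.Agent.SBAut.comm_of_finite hk _ hs hk' G hx hy
  have hpow : ∀ x ∈ G, x ^ n = 1 := fun x hx => by
    refine Groth.Agent.SBAut.pow_eq_one_of_isOfFinOrder hk _ hs hk' hn0 hA x ?_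
    exact MonoidHom.isOfFinOrder G.subtype (isOfFinOrder_of_finite (⟨x, hx⟩ : G))
  have hcp : Nat.Coprime n' (p ^ m) :=
    Nat.Coprime.pow_right m (Nat.coprime_comm.mp ((Fact.out : p.Prime).coprime_iff_not_dvd.mpr hn'))
  let T : ℕ → Subgroup (Aut (Over.mk f)) := fun e =>
    { carrier := {x | x ∈ G ∧ x ^ e = 1}
      one_mem' := ⟨G.one_mem, one_pow e⟩
      mul_mem' := fun {x y} hx hy => ⟨G.mul_mem hx.1 hy.1, by
        rw [(Commute.mul_pow (hcomm x hx.1 y hy.1) e : (x * y) ^ e = _), hx.2, hy.2, one_mul]⟩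
      inv_mem' := fun {x} hx => ⟨G.inv_mem hx.1, by rw [inv_pow, hx.2, inv_one]⟩ }
  refine ⟨T n', T (p ^ m), fun x hx => hx.1, fun x hx => hx.1, ?_, ?_, ?_, ?_, ?_, fun s hs => hs.2⟩
  · intro g hg h hh
    rwa [hcomm g hg h hh.1, mul_inv_cancel_right]
  · rw [eq_bot_iff]
    rintro x ⟨hx, hx'⟩
    rw [Subgroup.mem_bot, ← orderOf_eq_one_iff]
    exact Nat.eq_one_of_dvd_coprimes hcp (orderOf_dvd_of_pow_eq_one hx.2)
      (orderOf_dvd_of_pow_eq_one hx'.2)
  · refine le_antisymm (sup_le (fun x hx => hx.1) (fun x hx => hx.1)) fun x hx => ?_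
    have hb := Nat.gcd_eq_gcd_ab n' (p ^ m)
    rw [hcp.gcd_eq_one] at hb
    have hx1 : x = x ^ (((p ^ m : ℕ) : ℤ) * Nat.gcdB n' (p ^ m)) * x ^ ((n' : ℤ) * Nat.gcdA n' (p ^ m)) := by
      rw [← zpow_add, add_comm, ← hb]
      simp
    rw [hx1]
    refine Subgroup.mul_mem_sup ⟨G.zpow_mem hx _, ?_⟩ ⟨G.zpow_mem hx _, ?_⟩
    · rw [← zpow_natCast, ← zpow_mul, mul_comm, ← mul_assoc, zpow_mul, ← Nat.cast_mul, zpow_natCast,
        ← hn, hpow x hx, one_zpow]
    · rw [← zpow_natCast, ← zpow_mul, mul_comm, ← mul_assoc, zpow_mul, ← Nat.cast_mul, zpow_natCast,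
        mul_comm, ← hn, hpow x hx, one_zpow]
  · intro h hh h0
    rw [CharP.cast_eq_zero_iff k p] at h0
    exact hn' (h0.trans (orderOf_dvd_of_pow_eq_one hh.2))
  · exact fun s hs t ht => hcomm s hs.1 t ht.1

end Groth.Agent.S15190
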