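import Groth.Statements.S15224
import Mathlib.Data.Nat.Choose.Sum
import Mathlib.Algebra.Module.BigOperators
import Mathlib.Data.Nat.Choose.Cast
import Mathlib.Tactic.Ring
import Mathlib.Tactic.FieldSimp
import Mathlib.Tactic.LinearCombination

set_option autoImplicit false
open Finset
open W4c2rk2extmaps

namespace Groth.Agent.S15224

/-- In a commutative ℚ-algebra R let y be an element and put c_k = y^k / k! for every k. Then for k ≥ 2,
Σ_{i=1}^{k-1} (-1)^(i-1) c_i c_(k-i) + (-1)^(k-1) c_k = c_k. (The published statement concerns the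
Chern classes of a specific vector bundle on a Jacobian, which are of the form c_k = (4θ)^k / k!;
the printed argument establishes the identity for every sequence of this form in a commutative
ℚ-algebra, which is the form stated here.) -/
theorem result (R : Type*) [CommRing R] [Algebra ℚ R] (y : R)
    (c : ℕ → R) (hc : ∀ k : ℕ, c k = ((Nat.factorial k : ℚ)⁻¹) • y ^ k)
    (k : ℕ) (hk : 2 ≤ k) :
    (∑ i ∈ Finset.Ico 1 k, (-1 : R) ^ (i - 1) * c i * c (k - i)) + (-1 : R) ^ (k - 1) * c k = c k := by
  have key : ∑ i ∈ Finset.range (k + 1), (-1 : R) ^ i * c i * c (k - i) = 0 := by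
    have hsum : ∀ i ∈ Finset.range (k + 1), (-1 : R) ^ i * c i * c (k - i) =
        ((k.factorial : ℚ)⁻¹ * ((-1 : ℚ) ^ i * (k.choose i : ℚ))) • y ^ k := by
      intro i hi
      rw [Finset.mem_range, Nat.lt_succ_iff] at hi
      rw [hc, hc, Nat.cast_choose ℚ hi]
      have h1 : ((-1 : R) ^ i) = algebraMap ℚ R ((-1 : ℚ) ^ i) := by simp
      rw [h1, Algebra.smul_def, Algebra.smul_def, Algebra.smul_def]
      rw [show ((k.factorial : ℚ)⁻¹ * ((-1 : ℚ) ^ i * ((k.factorial : ℚ) / ((i.factorial : ℚ) * ((k - i).factorial : ℚ))))) =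
        (-1 : ℚ) ^ i * (i.factorial : ℚ)⁻¹ * ((k - i).factorial : ℚ)⁻¹ by
          have : (k.factorial : ℚ) ≠ 0 := by exact_mod_cast k.factorial_ne_zero
          field_simp]
      rw [map_mul, map_mul]
      conv_rhs => rw [show y ^ k = y ^ i * y ^ (k - i) by rw [← pow_add]; congr 1; omega]
      ring
    rw [Finset.sum_congr rfl hsum, ← Finset.sum_smul, ← Finset.mul_sum]
    have h : ∑ i ∈ Finset.range (k + 1), (-1 : ℚ) ^ i * (k.choose i : ℚ) = 0 := by
      have := congrArg (fun z : ℤ => (z : ℚ)) (Int.alternating_sum_range_choose_of_ne (n := k) (by omega))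
      push_cast at this
      simpa using this
    rw [h, mul_zero, zero_smul]
  rw [Finset.range_eq_Ico, Finset.sum_eq_sum_Ico_succ_bot (Nat.succ_pos k),
    Finset.sum_Ico_succ_top (by omega : 0 + 1 ≤ k)] at key
  have h0 : c 0 = 1 := by simp [hc]
  have hneg : ∀ i, 1 ≤ i → (-1 : R) ^ i = -(-1 : R) ^ (i - 1) := fun i hi => by
    conv_lhs => rw [show i = i - 1 + 1 by omega, pow_succ]
    ring
  simp only [Nat.sub_zero, pow_zero, one_mul, h0, zero_add, Nat.sub_self, mul_one] at key
  rw [hneg k (by omega), Finset.sum_congr rfl (fun i hi => by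
    rw [hneg i (Finset.mem_Ico.mp hi).1])] at key
  simp only [neg_mul, Finset.sum_neg_distrib] at key
  linear_combination -key

end Groth.Agent.S15224
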