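import Groth.Statements.S15229
import Mathlib.Algebra.BigOperators.Ring.Finset
import Mathlib.Algebra.BigOperators.Intervals
import Mathlib.Algebra.Module.BigOperators
import Mathlib.Data.Nat.Choose.Sum
import Mathlib.Data.Nat.Choose.Cast
import Mathlib.Tactic.Linarith
import Mathlib.Tactic.Ring
import Mathlib.Tactic.FieldSimp

set_option autoImplicit false
open Finset
open W4c2rk2extmaps

namespace Groth.Agent.S15229

/-- In a commutative ℚ-algebra R let θ, η be elements and g a natural number, and put c_k = (4θ)^k / k!.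
Suppose θ^(g+1) = 0 and that η satisfies the relation η^(g+1) = Σ_{i=1}^{g+1} (-1)^(i-1) c_i
η^(g+1-i). Then η^(g+k) θ^(g-k) = c_k η^g θ^(g-k) for every 1 ≤ k ≤ g. (The published statement
concerns the first Chern class η of the tautological line bundle on a projective bundle P(U) over a
g-dimensional Jacobian, with c_k the Chern classes of U, which are (4θ)^k / k!; there θ^(g+1)
vanishes for dimension reasons and the displayed relation is the projective-bundle relation, and the
printed argument derives the identity from exactly these three inputs, which is the form stated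
here.) -/
theorem result (R : Type*) [CommRing R] [Algebra ℚ R]
    (θ η : R) (g : ℕ) (c : ℕ → R) (hc : ∀ k : ℕ, c k = ((Nat.factorial k : ℚ)⁻¹) • ((4 : R) * θ) ^ k)
    (hθ : θ ^ (g + 1) = 0)
    (hrel : η ^ (g + 1) = ∑ i ∈ Finset.Ico 1 (g + 2), (-1 : R) ^ (i - 1) * c i * η ^ (g + 1 - i))
    (k : ℕ) (hk1 : 1 ≤ k) (hkg : k ≤ g) :
    η ^ (g + k) * θ ^ (g - k) = c k * η ^ g * θ ^ (g - k) := by
  classical
  -- scalar coefficients
  let a : ℕ → ℚ := fun n => (4 : ℚ) ^ n / (n.factorial : ℚ)
  have hc' : ∀ n, c n = a n • θ ^ n := by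
    intro n
    rw [hc n, mul_pow, show (4 : R) = algebraMap ℚ R 4 from (map_ofNat _ 4).symm, ← map_pow,
      ← Algebra.smul_def, smul_smul]
    congr 1
    simp only [a]
    rw [div_eq_mul_inv, mul_comm]
  have hθ' : ∀ n, g < n → θ ^ n = 0 := by
    intro n hn
    obtain ⟨d, rfl⟩ := Nat.exists_eq_add_of_le hn
    rw [pow_add, hθ, zero_mul]
  have key : ∀ n, ∀ m, g ≤ n + m → η ^ (g + n) * θ ^ m = a n • (θ ^ (n + m) * η ^ g) := by
    intro n
    induction n using Nat.strong_induction_on with
    | _ n ih =>
      intro m hm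
      rcases Nat.eq_zero_or_pos n with rfl | hn
      · simp [a, mul_comm]
      have hstep : η ^ (g + n) * θ ^ m =
          ∑ i ∈ Finset.Ico 1 (g + 2),
            η ^ (n - 1) * ((-1 : R) ^ (i - 1) * c i * η ^ (g + 1 - i)) * θ ^ m := by
        rw [show g + n = (n - 1) + (g + 1) by omega, pow_add, hrel, Finset.mul_sum, Finset.sum_mul]
      rw [hstep]
      have hterm : ∀ i ∈ Finset.Ico 1 (g + 2),
          η ^ (n - 1) * ((-1 : R) ^ (i - 1) * c i * η ^ (g + 1 - i)) * θ ^ m =
            (if i ≤ n then ((-1 : ℚ) ^ (i - 1) * a i * a (n - i)) else 0) •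
              (θ ^ (n + m) * η ^ g) := by
        intro i hi
        rw [Finset.mem_Ico] at hi
        have h1 : η ^ (n - 1) * ((-1 : R) ^ (i - 1) * c i * η ^ (g + 1 - i)) * θ ^ m =
            ((-1 : ℚ) ^ (i - 1) * a i) • (η ^ ((n - 1) + (g + 1 - i)) * θ ^ (i + m)) := by
          rw [hc' i, pow_add, pow_add, Algebra.smul_def, Algebra.smul_def, map_mul, map_pow,
            map_neg, map_one]
          ring
        rw [h1]
        split_ifs with hin
        · rw [show (n - 1) + (g + 1 - i) = g + (n - i) by omega,
            ih (n - i) (by omega) (i + m) (by omega), smul_smul,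
            show n - i + (i + m) = n + m by omega]
        · rw [hθ' (i + m) (by omega), mul_zero, smul_zero, zero_smul]
      rw [Finset.sum_congr rfl hterm, ← Finset.sum_smul]
      by_cases hng : n ≤ g + 1
      rotate_left
      · rw [hθ' (n + m) (by omega), zero_mul, smul_zero, smul_zero]
      congr 1
      rw [← Finset.sum_filter]
      have hset : (Finset.Ico 1 (g + 2)).filter (fun i => i ≤ n) = Finset.Ico 1 (n + 1) := by
        ext i; simp only [Finset.mem_filter, Finset.mem_Ico]; omega
      rw [hset]
      -- binomial identity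
      have h0 : ∑ i ∈ Finset.range (n + 1), (-1 : ℚ) ^ i * a i * a (n - i) = 0 := by
        have hb := add_pow (-4 : ℚ) 4 n
        rw [neg_add_cancel, zero_pow (by omega)] at hb
        have : ∀ i ∈ Finset.range (n + 1), (-1 : ℚ) ^ i * a i * a (n - i) =
            ((-4 : ℚ) ^ i * 4 ^ (n - i) * (n.choose i : ℚ)) / (n.factorial : ℚ) := by
          intro i hi
          rw [Finset.mem_range] at hi
          simp only [a]
          rw [Nat.cast_choose ℚ (by omega : i ≤ n), neg_pow (4 : ℚ) i]
          have f1 : (i.factorial : ℚ) ≠ 0 := Nat.cast_ne_zero.2 i.factorial_ne_zero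
          have f2 : ((n - i).factorial : ℚ) ≠ 0 := Nat.cast_ne_zero.2 (n - i).factorial_ne_zero
          have f3 : (n.factorial : ℚ) ≠ 0 := Nat.cast_ne_zero.2 n.factorial_ne_zero
          field_simp
        rw [Finset.sum_congr rfl this]
        simp only [div_eq_mul_inv]
        rw [← Finset.sum_mul, ← hb, zero_mul]
      rw [Finset.range_eq_Ico, Finset.sum_eq_sum_Ico_succ_bot (by omega : 0 < n + 1)] at h0
      have hneg : ∑ i ∈ Finset.Ico 1 (n + 1), (-1 : ℚ) ^ (i - 1) * a i * a (n - i) =
          - ∑ i ∈ Finset.Ico 1 (n + 1), (-1 : ℚ) ^ i * a i * a (n - i) := by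
        rw [← Finset.sum_neg_distrib]
        refine Finset.sum_congr rfl fun i hi => ?_
        rw [Finset.mem_Ico] at hi
        obtain ⟨j, rfl⟩ : ∃ j, i = j + 1 := ⟨i - 1, by omega⟩
        rw [Nat.add_sub_cancel, pow_succ]
        ring
      rw [hneg]
      have ha0 : a 0 = 1 := by simp [a]
      simp only [pow_zero, one_mul, ha0, Nat.sub_zero, zero_add] at h0
      linarith
  rw [key k (g - k) (by omega), show k + (g - k) = g by omega, hc' k, smul_mul_assoc,
    smul_mul_assoc]
  congr 1
  rw [mul_comm (θ ^ k), mul_assoc, ← pow_add, show k + (g - k) = g by omega, mul_comm]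

end Groth.Agent.S15229
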