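import Groth.Statements.S15232
import Groth.Agent.DRingAmp.MaxIdeal
import Groth.Agent.DRingTorAmp.Restrict

set_option autoImplicit false
set_option linter.style.haveILetI false
universe u
open CategoryTheory CategoryTheory.Limits
attribute [local instance] HasDerivedCategory.standard
open DRing

namespace Groth.Agent.S15232

/-- Let R be a Noetherian commutative ring and I an ideal contained in the Jacobson radical of R, and
assume the derived base change D(R) → D(R/I) exists. Let P be a pseudo-coherent object of D(R) and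
a, b integers. If P ⊗^L_R R/I has tor amplitude in [a, b] as an object of D(R/I), then P has tor
amplitude in [a, b] as an object of D(R). Tor amplitude is taken in the flat-representative form
(isomorphic in the derived category to a complex of flat modules vanishing outside [a, b]). -/
theorem result (R : Type u) [CommRing R] [IsNoetherianRing R]
    (I : Ideal R) (hI : I ≤ Ideal.jacobson (⊥ : Ideal R)) [DRing.HasLBaseChange (Ideal.Quotient.mk I)]
    (P : Dual.D R) (hP : DRing.IsPseudoCoherent' R P) (a b : ℤ)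
    (h : DRing.HasTorAmplitudeIn (R ⧸ I) a b ((DRing.LBaseChange (Ideal.Quotient.mk I)).obj P)) :
    DRing.HasTorAmplitudeIn R a b P := by
  refine (DRingAmp.isPerfect_of_maximal hP a b fun E c hc hE e m hm i hi hic => ?_).2
  have hIm : I ≤ m := hI.trans (sInf_le ⟨bot_le, hm⟩)
  have hE' : DRingKFlat.IsKFl E :=
    DRingTorAmp.isKFl_of_flat hc fun j => haveI := (hE j).2; inferInstance
  obtain ⟨e'⟩ := DRingTorAmp.exists_lBaseChange_iso (Ideal.Quotient.mk I) hE'
  let q : (R ⧸ I) →+* R ⧸ m := Ideal.Quotient.factor hIm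
  haveI : DRing.HasLBaseChange q := DRingKProj.hasLBaseChange q
  have h1 : DRing.HasTorAmplitudeIn (R ⧸ I) a b (DRing.toD ((DRingTorAmp.escCx (Ideal.Quotient.mk I)).obj E)) := by
    obtain ⟨F, hF, hFf, ⟨f⟩⟩ := h
    exact ⟨F, hF, hFf, ⟨f ≪≫ (DRing.LBaseChange (Ideal.Quotient.mk I)).mapIso e.symm ≪≫ e'⟩⟩
  have hE'' := DCohBridge.isKFlat_baseChange (Ideal.Quotient.mk I) hE'
  obtain ⟨e''⟩ := DRingTorAmp.exists_lBaseChange_iso q hE''
  have h2 := DRingTorAmp.hasTorAmplitudeIn_lBaseChange q h1
  have h3 := (DRingTorAmp.exactAt_tensor_unit_iff _ i).1 (DRingTorAmp.exactAt_of_hasTorAmplitudeIn h2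
    (DCohBridge.isKFlat_baseChange q hE'') e''.symm (ModuleCat.of (R ⧸ m) (R ⧸ m)) i hi)
  have key : DRingTorAmp.escCx (q.comp (Ideal.Quotient.mk I)) = DRingTorAmp.escCx (Ideal.Quotient.mk m) := by
    rw [Ideal.Quotient.factor_comp_mk]
  rw [← key]
  exact (DRingTorAmp.exactAt_congr ((NatIso.mapHomologicalComplex
    (ModuleCat.extendScalarsComp.{u} (Ideal.Quotient.mk I) q) (ComplexShape.up ℤ)).app E) i).2 h3

end Groth.Agent.S15232
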