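import Mathlib.Algebra.Category.Grp.Zero
import Groth.Statements.S15233

set_option autoImplicit false
universe u
open CategoryTheory CategoryTheory.Limits Opposite
open CohSite

namespace Groth.Agent.S15233

/-- Let C be a small category with a Grothendieck topology J, and let B be a class of objects forming a
prebasis: for every object V and every covering sieve S of V, the arrows of S whose domain lies in B
generate a covering sieve of V. If F is a presheaf of abelian groups on C such that F(U) = 0 for
every object U in B, then the sheafification of F is zero. -/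
theorem result {C : Type u} [SmallCategory C] (J : GrothendieckTopology C)
    (B : ObjectProperty C)
    (hB : ∀ (V : C) (S : Sieve V), S ∈ J V →
      Sieve.generate (fun (U : C) => {g : U ⟶ V | S.arrows g ∧ B U}) ∈ J V)
    (F : Cᵒᵖ ⥤ AddCommGrpCat.{u}) (hF : ∀ U : C, B U → IsZero (F.obj (op U))) :
    IsZero ((presheafToSheaf J AddCommGrpCat.{u}).obj F) := by
  rw [IsZero.iff_id_eq_zero]
  apply ((sheafificationAdjunction J AddCommGrpCat.{u}).homEquiv _ _).injective
  simp only [Adjunction.homEquiv_unit, Functor.map_zero, comp_zero, Functor.map_id, Category.comp_id]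
  generalize ((sheafificationAdjunction J AddCommGrpCat.{u}).unit.app F) = φ
  apply NatTrans.ext; funext V; ext s
  apply (((presheafToSheaf J AddCommGrpCat.{u}).obj F).2.isSeparated) V.unop _ (hB V.unop ⊤ (J.top_mem _))
  rintro Y g ⟨U, a, b, ⟨-, hbU⟩, rfl⟩
  have h0 : Subsingleton (F.obj (op U)) := AddCommGrpCat.isZero_iff_subsingleton.mp (hF U hbU)
  have hs : F.map (a ≫ b).op s = 0 := by
    rw [op_comp, Functor.map_comp, ConcreteCategory.comp_apply, Subsingleton.elim (F.map b.op s) 0, map_zero]
  have := NatTrans.naturality_apply φ (a ≫ b).op s
  erw [hs, map_zero] at this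
  simpa using this.symm

end Groth.Agent.S15233
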