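import Groth.Statements.S15235
import Groth.Agent.TowerLib.Basic
-- import your own Groth.Agent.* helpers here

set_option autoImplicit false
universe u
open CategoryTheory Opposite
open HomAlg3

namespace Groth.Agent.S15235

/-- Let (G_j) be an inverse system of abelian groups indexed by the natural numbers, with transition
maps G_{j+1} → G_j, and let j₀ be a natural number such that the transition map G_{j+1} → G_j is
surjective for every j ≥ j₀. Then: (a) the system satisfies the Mittag-Leffler condition; (b) the
evaluation map from the inverse limit (realised as the set of compatible families) to G_{j₀} is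
surjective; (c) if in addition the transition maps G_{j+1} → G_j are injective for every j ≥ j₀,
that evaluation map is bijective. (The published statement indexes the system by the negative
integers and assumes j₀ ≥ 1; this row indexes it by the natural numbers and allows j₀ = 0, which
changes nothing.) -/
theorem result (G : ℕᵒᵖ ⥤ AddCommGrpCat.{u})
    (j₀ : ℕ) (hs : ∀ j : ℕ, j₀ ≤ j → Function.Surjective (G.map (homOfLE (Nat.le_succ j)).op).hom) :
    (G ⋙ forget AddCommGrpCat.{u}).IsMittagLeffler ∧
      Function.Surjective (fun s : (G ⋙ forget AddCommGrpCat.{u}).sections => s.1 (op j₀)) ∧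
      ((∀ j : ℕ, j₀ ≤ j → Function.Injective (G.map (homOfLE (Nat.le_succ j)).op).hom) →
        Function.Bijective (fun s : (G ⋙ forget AddCommGrpCat.{u}).sections => s.1 (op j₀))) := by

  have surjk : ∀ (j k : ℕ) (hj : j₀ ≤ j) (h : j ≤ k), Function.Surjective (Groth.Agent.TowerLib.tr G h) := by
    intro j k hj h
    induction h with
    | refl => exact fun x => ⟨x, Groth.Agent.TowerLib.tr_self G x⟩
    | @step m hm ih =>
      intro x
      obtain ⟨y, rfl⟩ := ih x
      obtain ⟨z, rfl⟩ := hs m (hj.trans hm) y
      exact ⟨z, (Groth.Agent.TowerLib.tr_tr G hm (Nat.le_succ m) z).symm⟩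
  have hML : (G ⋙ forget AddCommGrpCat.{u}).IsMittagLeffler := by
    rw [Groth.Agent.TowerLib.isMittagLeffler_iff]
    intro i
    refine ⟨max i j₀, le_max_left _ _, fun k hjk z => ?_⟩
    obtain ⟨w, rfl⟩ := surjk _ k (le_max_right _ _) hjk z
    exact ⟨w, (Groth.Agent.TowerLib.tr_tr G _ _ w).symm⟩
  have hsurj : Function.Surjective (fun s : (G ⋙ forget AddCommGrpCat.{u}).sections => s.1 (op j₀)) := by
    intro y
    obtain ⟨x, hx, hxy⟩ := Groth.Agent.TowerLib.exists_compatible G hML j₀ y ((Groth.Agent.TowerLib.mem_S G).2 fun k hk => surjk j₀ k le_rfl hk y)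
    refine ⟨⟨fun n => x n.unop, ?_⟩, hxy⟩
    intro a b f
    exact hx.tr_eq G (leOfHom f.unop)
  refine ⟨hML, hsurj, fun hi => ⟨?_, hsurj⟩⟩
  have injk : ∀ (k : ℕ) (h : j₀ ≤ k), Function.Injective (Groth.Agent.TowerLib.tr G h) := by
    intro k h
    induction h with
    | refl => intro a b hab; rwa [Groth.Agent.TowerLib.tr_self, Groth.Agent.TowerLib.tr_self] at hab
    | @step m hm ih =>
      intro a b hab
      rw [← Groth.Agent.TowerLib.tr_tr G hm (Nat.le_succ m), ← Groth.Agent.TowerLib.tr_tr G hm (Nat.le_succ m)] at hab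
      exact hi m hm (ih hab)
  intro s t hst
  apply Subtype.ext
  funext ⟨n⟩
  have hb : ∀ k (h : j₀ ≤ k), s.1 (op k) = t.1 (op k) := fun k h => injk k h
    ((s.2 (homOfLE h).op).trans (hst.trans (t.2 (homOfLE h).op).symm))
  rcases le_total j₀ n with h | h
  · exact hb n h
  · exact (s.2 (homOfLE h).op).symm.trans ((congrArg _ hst).trans (t.2 (homOfLE h).op))

end Groth.Agent.S15235
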