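import Groth.Statements.S15240
import Groth.Agent.GrpSch.Action
import Groth.Agent.GrpSch.Neutral
import Groth.Agent.GrpSch.Points
import Mathlib.AlgebraicGeometry.AlgClosed.Basic

set_option backward.isDefEq.respectTransparency.types false

set_option autoImplicit false
universe u
open CategoryTheory CategoryTheory.Limits MonoidalCategory CartesianMonoidalCategory MonObj GrpObj AlgebraicGeometry
open AGF

namespace Groth.Agent.S15240

/-- Let k be an algebraically closed field, B a connected solvable affine algebraic group over k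
(affine, smooth, connected, solvable k-group scheme) acting on a complete k-scheme X (separated, of
finite type and proper over k) with finitely many orbits (finitely many subsets of X arise as images
of orbit maps of k-points), and Y a separated k-scheme of finite type on which B acts trivially.
Then every closed irreducible subset Z of X ×_k Y which is stable under the translations by all
k-points of B (acting on the first factor) is of the form V × W: there are a B-stable closed
irreducible subset V of X and a closed irreducible subset W of Y with Z equal to the set of points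
whose two projections lie in V and in W. -/
theorem result (k : Type u) [Field k] [IsAlgClosed k]
    (B X Y : Over (Spec (CommRingCat.of k))) [GrpObj B] [IsAffine B.left] [Smooth B.hom] [ConnectedSpace ↥B.left]
    (hsolv : Red.IsSolvableGrp B)
    [IsProper X.hom]
    [IsSeparated Y.hom] [LocallyOfFiniteType Y.hom] [QuasiCompact Y.hom]
    (a : AlgGrp.Action B X)
    (hfin : Set.Finite {S : Set ↥X.left | ∃ x : 𝟙_ (Over (Spec (CommRingCat.of k))) ⟶ X, S = Set.range ⇑(a.orbitMap x).left.base})
    (Z : Set ↥(X ⊗ Y).left) (hZc : IsClosed Z) (hZi : IsIrreducible Z)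
    (hZs : ∀ b : 𝟙_ (Over (Spec (CommRingCat.of k))) ⟶ B,
      ⇑(CartesianMonoidalCategory.lift (CartesianMonoidalCategory.toUnit (X ⊗ Y) ≫ b) (𝟙 (X ⊗ Y)) ≫
          (α_ B X Y).inv ≫ (a.act ▷ Y)).left.base '' Z ⊆ Z) :
    ∃ (V : Set ↥X.left) (W : Set ↥Y.left), IsClosed V ∧ IsIrreducible V ∧ IsClosed W ∧ IsIrreducible W ∧
      (∀ b : 𝟙_ (Over (Spec (CommRingCat.of k))) ⟶ B,
        ⇑(CartesianMonoidalCategory.lift (CartesianMonoidalCategory.toUnit X ≫ b) (𝟙 X) ≫ a.act).left.base '' V ⊆ V) ∧
      Z = ⇑(CartesianMonoidalCategory.fst X Y).left.base ⁻¹' V ∩ ⇑(CartesianMonoidalCategory.snd X Y).left.base ⁻¹' W := by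
  let K0 := 𝟙_ (Over (Spec (CommRingCat.of k)))
  let c0 : K0.left := IsLocalRing.closedPoint k
  have hpt : ∀ s : K0.left, s = c0 := fun s => Subsingleton.elim (α := PrimeSpectrum k) _ _
  have hJB : JacobsonSpace B.left := LocallyOfFiniteType.jacobsonSpace B.hom
  have hXY : LocallyOfFiniteType (X ⊗ Y).hom :=
    MorphismProperty.comp_mem _ _ _ (MorphismProperty.pullback_fst _ _ inferInstance) inferInstance
  have hJ : JacobsonSpace (X ⊗ Y).left := LocallyOfFiniteType.jacobsonSpace (X ⊗ Y).hom
  have : IrreducibleSpace B.left := GrpSch.irreducibleSpace_of_connectedSpace B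
  -- closed subsets containing all rational points are everything
  have dense : ∀ (M : Over (Spec (CommRingCat.of k))) [LocallyOfFiniteType M.hom] (C Z' : Set M.left),
      IsClosed C → IsClosed Z' → (∀ p : K0 ⟶ M, p.left c0 ∈ C → p.left c0 ∈ Z') → C ⊆ Z' := by
    intro M _ C Z' hC hZ' h
    have : JacobsonSpace M.left := LocallyOfFiniteType.jacobsonSpace M.hom
    rw [← closure_inter_closedPoints hC, hZ'.closure_subset_iff]
    rintro m ⟨hm, hmc⟩
    obtain ⟨p, rfl⟩ := GrpSch.exists_ratPoint M hmc
    exact h p hm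
  have hmove : ∀ (b : K0 ⟶ B) (x : K0 ⟶ X) (y : K0 ⟶ Y),
      (lift x y).left c0 ∈ Z → (lift (lift b x ≫ a.act) y).left c0 ∈ Z := by
    intro b x y h
    refine hZs b ⟨_, h, ?_⟩
    have e : lift x y ≫ lift (toUnit (X ⊗ Y) ≫ b) (𝟙 (X ⊗ Y)) ≫ (α_ B X Y).inv ≫ (a.act ▷ Y) =
        lift (lift b x ≫ a.act) y := by
      rw [comp_lift_assoc, comp_toUnit_assoc, toUnit_unique (toUnit K0) (𝟙 K0), Category.id_comp,
        Category.comp_id]
      apply CartesianMonoidalCategory.hom_ext <;> simp
    change (_ : (X ⊗ Y) ⟶ (X ⊗ Y)).left ((lift x y).left c0) = _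
    rw [← Scheme.Hom.comp_apply, ← Over.comp_left, e]
  let orb : (K0 ⟶ X) → Set X.left := fun x => Set.range ⇑(a.orbitMap x).left.base
  have orbPt : ∀ (x : K0 ⟶ X) (b : K0 ⟶ B), b ≫ a.orbitMap x = lift b x ≫ a.act := by
    intro x b
    rw [AlgGrp.Action.orbitMap, comp_lift_assoc, Category.comp_id, comp_toUnit_assoc,
      toUnit_unique (toUnit K0) (𝟙 K0), Category.id_comp]
  let secY : (K0 ⟶ X) → (Y ⟶ X ⊗ Y) := fun x => lift (toUnit Y ≫ x) (𝟙 Y)
  let secX : (K0 ⟶ Y) → (X ⟶ X ⊗ Y) := fun y => lift (𝟙 X) (toUnit X ≫ y)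
  have hsecY : ∀ (x : K0 ⟶ X) (y : K0 ⟶ Y), y ≫ secY x = lift x y := by
    intro x y
    simp only [secY, comp_lift, Category.comp_id, comp_toUnit_assoc, toUnit_unique (toUnit K0) (𝟙 K0),
      Category.id_comp]
  have hsecX : ∀ (x : K0 ⟶ X) (y : K0 ⟶ Y), x ≫ secX y = lift x y := by
    intro x y
    simp only [secX, comp_lift, Category.comp_id, comp_toUnit_assoc, toUnit_unique (toUnit K0) (𝟙 K0),
      Category.id_comp]
  let W : (K0 ⟶ X) → Set Y.left := fun x => (secY x).left ⁻¹' Z
  let P : (K0 ⟶ X) → Set (X ⊗ Y).left := fun x =>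
    (fst X Y).left ⁻¹' closure (orb x) ∩ (snd X Y).left ⁻¹' W x
  have hPc : ∀ x, IsClosed (P x) := fun x =>
    (isClosed_closure.preimage (fst X Y).left.continuous).inter
      ((hZc.preimage (secY x).left.continuous).preimage (snd X Y).left.continuous)
  have hPZ : ∀ x, P x ⊆ Z := by
    intro x
    refine dense (X ⊗ Y) _ _ (hPc x) hZc fun p hp => ?_
    obtain ⟨hp1, hp2⟩ := hp
    set px := p ≫ fst X Y
    set py := p ≫ snd X Y
    have hp' : p = lift px py := by apply CartesianMonoidalCategory.hom_ext <;> simp [px, py]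
    have hy : (lift x py).left c0 ∈ Z := by
      rw [← hsecY]; exact hp2
    have hV : closure (orb x) ⊆ (secX py).left ⁻¹' Z := by
      refine closure_minimal ?_ (hZc.preimage (secX py).left.continuous)
      rintro - ⟨g, rfl⟩
      refine dense B Set.univ ((a.orbitMap x ≫ secX py).left ⁻¹' Z) isClosed_univ
        (hZc.preimage (a.orbitMap x ≫ secX py).left.continuous) (fun b _ => ?_) (Set.mem_univ g)
      change (a.orbitMap x ≫ secX py).left (b.left c0) ∈ Z
      rw [← Scheme.Hom.comp_apply, ← Over.comp_left, ← Category.assoc, orbPt, hsecX]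
      exact hmove b x py hy
    rw [hp', ← hsecX]
    exact hV hp1
  -- finitely many representatives
  have : Finite {S : Set X.left | ∃ x, S = orb x} := hfin
  choose rep hrep using fun S : {S : Set X.left | ∃ x, S = orb x} => S.2
  have hcov : Z = ⋃ S, P (rep S) := by
    refine subset_antisymm (dense (X ⊗ Y) _ _ hZc (isClosed_iUnion_of_finite fun S => hPc _) fun p hp => ?_)
      (Set.iUnion_subset fun S => hPZ _)
    set px := p ≫ fst X Y
    set py := p ≫ snd X Y
    have hp' : p = lift px py := by apply CartesianMonoidalCategory.hom_ext <;> simp [px, py]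
    let S : {S : Set X.left | ∃ x, S = orb x} := ⟨orb px, px, rfl⟩
    refine Set.mem_iUnion.2 ⟨S, ?_, ?_⟩
    · change (p ≫ fst X Y).left c0 ∈ closure (orb (rep S))
      rw [← hrep S]
      refine subset_closure ⟨η[B].left c0, ?_⟩
      change (a.orbitMap px).left _ = _
      rw [← Scheme.Hom.comp_apply, ← Over.comp_left, orbPt,
        show η[B] = (1 : K0 ⟶ B) from GrpSch.eq_one_unit, GrpSch.act_one]
    · change (secY (rep S)).left ((p ≫ snd X Y).left c0) ∈ Z
      have hx : (rep S).left c0 ∈ orb px := by
        change _ ∈ S.1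
        rw [hrep S]
        refine ⟨η[B].left c0, ?_⟩
        change (a.orbitMap (rep S)).left _ = _
        rw [← Scheme.Hom.comp_apply, ← Over.comp_left, orbPt,
          show η[B] = (1 : K0 ⟶ B) from GrpSch.eq_one_unit, GrpSch.act_one]
      obtain ⟨g, hg⟩ := hx
      have hclosed : IsClosed ({(rep S).left c0} : Set X.left) := by
        have : IsClosedImmersion (rep S).left :=
          isClosedImmersion_of_comp_eq_id X.hom (rep S).left (Over.w (rep S))
        have heq : Set.range (rep S).left = {(rep S).left c0} := by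
          refine Set.eq_singleton_iff_unique_mem.2 ⟨⟨_, rfl⟩, ?_⟩
          rintro - ⟨z, rfl⟩
          exact congrArg _ (hpt z)
        exact heq ▸ (rep S).left.isClosedEmbedding.isClosed_range
      obtain ⟨g', hg', hg'c⟩ := nonempty_inter_closedPoints (X := B.left)
        (Z := (a.orbitMap px).left ⁻¹' {(rep S).left c0}) ⟨g, hg⟩
        (hclosed.preimage (a.orbitMap px).left.continuous).isLocallyClosed
      obtain ⟨b, rfl⟩ := GrpSch.exists_ratPoint B hg'c
      have hb : lift b px ≫ a.act = rep S := by
        rw [← orbPt]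
        apply Over.OverMorphism.ext
        exact ext_of_apply_closedPoint_eq X.hom (Over.w (b ≫ a.orbitMap px)) (Over.w (rep S)) hg'
      rw [← Scheme.Hom.comp_apply, ← Over.comp_left, hsecY, ← hb]
      exact hmove b px py (hp' ▸ hp)
  obtain ⟨S, hS⟩ : ∃ S, Z ⊆ P (rep S) := by
    have hfin' : (Set.range fun S => P (rep S)).Finite := Set.finite_range _
    obtain ⟨z, hz, hsub⟩ := isIrreducible_iff_sUnion_isClosed.1 hZi hfin'.toFinset
      (fun z hz => by obtain ⟨S, rfl⟩ := hfin'.mem_toFinset.1 hz; exact hPc _)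
      (by rw [hfin'.coe_toFinset, Set.sUnion_range, ← hcov])
    obtain ⟨S, rfl⟩ := hfin'.mem_toFinset.1 hz
    exact ⟨S, hsub⟩
  have hZP : Z = P (rep S) := subset_antisymm hS (hPZ _)
  refine ⟨closure (orb (rep S)), W (rep S), isClosed_closure, ?_, hZc.preimage (secY _).left.continuous,
    ?_, fun b => ?_, hZP⟩
  · exact ((irreducibleSpace_def _).1 ‹_› |>.image _ (a.orbitMap (rep S)).left.continuous.continuousOn).closure
      |> fun h => by rwa [Set.top_eq_univ, Set.image_univ] at h
  · have : W (rep S) = (snd X Y).left '' Z := by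
      refine Set.Subset.antisymm ?_ ?_
      · intro w hw
        refine ⟨(secY (rep S)).left w, hw, ?_⟩
        rw [← Scheme.Hom.comp_apply, ← Over.comp_left, lift_snd]
        rfl
      · rintro - ⟨z, hz, rfl⟩
        exact (hS hz).2
    rw [this]
    exact hZi.image _ (snd X Y).left.continuous.continuousOn
  · refine (image_closure_subset_closure_image (Scheme.Hom.continuous _)).trans (closure_mono ?_)
    rintro - ⟨-, ⟨g, rfl⟩, rfl⟩
    refine ⟨((toUnit B ≫ b) * 𝟙 B).left g, ?_⟩
    change (a.orbitMap (rep S)).left _ = (_ : X ⟶ X).left ((a.orbitMap (rep S)).left g)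
    rw [← Scheme.Hom.comp_apply, ← Over.comp_left, ← Scheme.Hom.comp_apply, ← Over.comp_left]
    congr 2
    simp only [AlgGrp.Action.orbitMap, comp_lift_assoc, Category.comp_id, Category.assoc,
      comp_toUnit_assoc]
    rw [GrpSch.act_mul]

end Groth.Agent.S15240
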