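import Groth.Statements.S15245
import Groth.Agent.RootSys.Inversion


set_option autoImplicit false
universe u
open CategoryTheory AlgebraicGeometry
open RedSub

namespace Groth.Agent.S15245

/-- Let Φ be a finite reduced root system (a reduced root pairing over ℤ on a finite index set) with a
base b, w an element of its Weyl group, given as the product of the reflections along a word l and
acting on the roots, and γ a positive root. Writing ℓ(u) for the number of positive roots a with
u(a) negative, one has ℓ(w) < ℓ(σ_γ w) if and only if w⁻¹(γ) is positive. (Here the length is taken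
as the number of inverted positive roots.) -/
theorem result {idx M N : Type}
    [AddCommGroup M] [AddCommGroup N] [Finite idx]
    (P : RootPairing idx ℤ M N) [P.IsReduced] (b : P.Base) (l : List idx) (c : idx)
    (hc : c ∈ RedSub.posRoots P b) :
    Set.ncard {a : idx | a ∈ RedSub.posRoots P b ∧ RedSub.wordPerm P l a ∈ RedSub.negRoots P b} <
        Set.ncard {a : idx | a ∈ RedSub.posRoots P b ∧
          (P.reflectionPerm c * RedSub.wordPerm P l) a ∈ RedSub.negRoots P b} ↔
      (RedSub.wordPerm P l)⁻¹ c ∈ RedSub.posRoots P b := by
  obtain ⟨f, hf⟩ := RootSys.Inversion.exists_pos_functional P b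
  constructor
  · intro h
    by_contra hn
    have hw : RedSub.wordPerm P (c :: l) = P.reflectionPerm c * RedSub.wordPerm P l := by simp [RedSub.wordPerm]
    obtain ⟨L, hL⟩ := RootSys.Inversion.word_spec P l
    have h1 : (RedSub.wordPerm P (c :: l)).symm c ∈ RedSub.posRoots P b := by
      rw [hw, ← Equiv.Perm.inv_def, mul_inv_rev, P.reflectionPerm_inv, Equiv.Perm.mul_apply]
      have e1 := (hL ((RedSub.wordPerm P l)⁻¹ c)).1
      have e2 := (hL ((RedSub.wordPerm P l)⁻¹ (P.reflectionPerm c c))).1
      rw [← Equiv.Perm.mul_apply, mul_inv_cancel, Equiv.Perm.one_apply] at e1 e2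
      rw [RootSys.root_neg, e1, ← map_neg] at e2
      have e3 := L.injective e2
      rw [(hf _).1, ← e3, map_neg]
      rcases b.root_mem_or_neg_mem ((RedSub.wordPerm P l)⁻¹ c) with h' | h'
      · exact absurd h' hn
      · have := (hf _).2.1 h'
        omega
    have h2 := RootSys.Inversion.length_lt_of_pos P b (c :: l) c hc h1
    rw [hw, ← mul_assoc,
      show P.reflectionPerm c * P.reflectionPerm c = 1 by rw [← mul_inv_cancel (P.reflectionPerm c), P.reflectionPerm_inv],
      one_mul] at h2
    omega
  · exact fun h => RootSys.Inversion.length_lt_of_pos P b l c hc h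

end Groth.Agent.S15245
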