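import Mathlib
import Groth.Statements.S15258
-- import your own Groth.Agent.* helpers here

set_option autoImplicit false
set_option backward.isDefEq.respectTransparency false
set_option backward.isDefEq.respectTransparency.types false
universe u
open CategoryTheory CategoryTheory.Limits AlgebraicGeometry TopologicalSpace
open W4c2seshadripos

namespace Groth.Agent.S15258

/-- Call f : X → Y locally essentially of finite type when Y has a cover by affine opens U = Spec A such
that each f⁻¹(U) has a cover by affine opens Spec B with A → B essentially of finite type (a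
localization of a finite-type A-algebra; Mathlib's RingHom.EssFiniteType), and essentially of finite
type when moreover f is quasi-compact. Then f is locally essentially of finite type exactly when
every affine open U = Spec A of Y has f⁻¹(U) covered by affine opens V = Spec B of X with A → B
essentially of finite type. -/
theorem result {X Y : Scheme.{u}} (f : X ⟶ Y) :
    (∃ S : Set Y.affineOpens, (⋃ U ∈ S, ((U : Y.Opens) : Set ↥Y)) = Set.univ ∧
      ∀ U ∈ S, ∃ T : Set X.affineOpens, (⋃ V ∈ T, ((V : X.Opens) : Set ↥X)) = ((f ⁻¹ᵁ (U : Y.Opens)) : Set ↥X) ∧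
        ∀ V ∈ T, ∃ e : (V : X.Opens) ≤ f ⁻¹ᵁ (U : Y.Opens), (f.appLE (U : Y.Opens) (V : X.Opens) e).hom.EssFiniteType) ↔
    ∀ U : Y.affineOpens, ∃ T : Set X.affineOpens, (⋃ V ∈ T, ((V : X.Opens) : Set ↥X)) = ((f ⁻¹ᵁ (U : Y.Opens)) : Set ↥X) ∧
        ∀ V ∈ T, ∃ e : (V : X.Opens) ≤ f ⁻¹ᵁ (U : Y.Opens), (f.appLE (U : Y.Opens) (V : X.Opens) e).hom.EssFiniteType := by
  refine ⟨fun ⟨S, hS, hS'⟩ U => ?_, fun h => ⟨Set.univ, ?_, fun U _ => h U⟩⟩
  swap
  · rw [Set.eq_univ_iff_forall]
    intro y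
    obtain ⟨W, hW, hy, -⟩ := (Scheme.isBasis_affineOpens Y).exists_subset_of_mem_open (Set.mem_univ y) isOpen_univ
    exact Set.mem_iUnion₂.2 ⟨⟨hW.choose, hW.choose_spec.1⟩, trivial, by rw [show ((hW.choose : Y.Opens) : Set Y) = W from hW.choose_spec.2]; exact hy⟩
  induction U using of_affine_open_cover (U := fun W : S => W.1) with
  | iSup_U =>
    apply TopologicalSpace.Opens.ext
    rw [TopologicalSpace.Opens.coe_iSup, TopologicalSpace.Opens.coe_top, ← hS, Set.biUnion_eq_iUnion]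
  | hU W => exact hS' W.1 W.2
  | basicOpen U r hU =>
    obtain ⟨T, hT, hT'⟩ := hU
    refine ⟨{W | ∃ V ∈ T, (W : X.Opens) = (V : X.Opens) ⊓ f ⁻¹ᵁ Y.basicOpen r}, ?_, ?_⟩
    · have hle : Y.basicOpen r ≤ (U : Y.Opens) := Y.basicOpen_le r
      ext x
      constructor
      · intro hx
        obtain ⟨W, ⟨V, -, hWV⟩, hxW⟩ := Set.mem_iUnion₂.1 hx
        rw [hWV] at hxW
        exact hxW.2
      · intro hx
        have : x ∈ ⋃ V ∈ T, ((V : X.Opens) : Set X) := by rw [hT]; exact hle hx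
        obtain ⟨V, hV, hxV⟩ := Set.mem_iUnion₂.1 this
        obtain ⟨e, -⟩ := hT' V hV
        refine Set.mem_iUnion₂.2 ⟨⟨(V : X.Opens) ⊓ f ⁻¹ᵁ Y.basicOpen r, ?_⟩, ⟨V, hV, rfl⟩, hxV, hx⟩
        rw [show (V : X.Opens) ⊓ f ⁻¹ᵁ Y.basicOpen r = X.basicOpen (f.appLE U V e r) by simp [Scheme.Hom.appLE, Scheme.preimage_basicOpen]]
        exact V.2.basicOpen _
    · rintro ⟨W, hWa⟩ ⟨V, hV, hWV⟩
      obtain ⟨e, h⟩ := hT' V hV
      have hW : W = X.basicOpen (f.appLE U V e r) := by
        rw [show W = _ from hWV]; simp [Scheme.Hom.appLE, Scheme.preimage_basicOpen]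
      have hWV' : W ≤ (V : X.Opens) := by rw [show W = _ from hWV]; exact inf_le_left
      have hWr : W ≤ f ⁻¹ᵁ Y.basicOpen r := by rw [show W = _ from hWV]; exact inf_le_right
      refine ⟨hWr, ?_⟩
      letI := ((f.appLE (Y.basicOpen r) W hWr).hom).toAlgebra
      letI a1 : Algebra Γ(Y, U) Γ(X, W) := (f.appLE U W (hWV'.trans e)).hom.toAlgebra
      haveI : IsScalarTower Γ(Y, U) Γ(Y, Y.basicOpen r) Γ(X, W) := .of_algebraMap_eq fun a => by
        show f.appLE U W _ a = f.appLE (Y.basicOpen r) W hWr (Y.presheaf.map (homOfLE (Y.basicOpen_le r)).op a)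
        rw [← CommRingCat.comp_apply, Scheme.Hom.map_appLE]
      letI := (f.appLE U V e).hom.toAlgebra
      subst hW
      haveI : IsScalarTower Γ(Y, U) Γ(X, V) Γ(X, X.basicOpen (f.appLE U V e r)) := .of_algebraMap_eq fun a => by
        show f.appLE U _ _ a = X.presheaf.map (homOfLE (X.basicOpen_le _)).op (f.appLE U V e a)
        rw [← CommRingCat.comp_apply, Scheme.Hom.appLE_map]
      haveI : Algebra.EssFiniteType Γ(Y, U) Γ(X, V) := h
      haveI := V.2.isLocalization_basicOpen (f.appLE U V e r)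
      haveI : Algebra.EssFiniteType Γ(X, V) Γ(X, X.basicOpen (f.appLE U V e r)) :=
        Algebra.EssFiniteType.of_isLocalization _ (Submonoid.powers (f.appLE U V e r))
      haveI : Algebra.EssFiniteType Γ(Y, U) Γ(X, X.basicOpen (f.appLE U V e r)) :=
        Algebra.EssFiniteType.comp _ Γ(X, V) _
      exact Algebra.EssFiniteType.of_comp Γ(Y, U) Γ(Y, Y.basicOpen r) Γ(X, X.basicOpen (f.appLE U V e r))
  | openCover U s hs hU =>
    choose T hT hT' using hU
    refine ⟨⋃ r : s, T r, ?_, ?_⟩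
    · ext x
      constructor
      · intro hx
        obtain ⟨W, hW, hxW⟩ := Set.mem_iUnion₂.1 hx
        obtain ⟨r, hW⟩ := Set.mem_iUnion.1 hW
        obtain ⟨e, -⟩ := hT' r W hW
        exact Y.basicOpen_le r.1 (e hxW)
      · intro hx
        have h1 : f x ∈ ⨆ r : (s : Set Γ(Y, U)), Y.basicOpen r.1 := by
          rw [(U.2.iSup_basicOpen_eq_self_iff).2 hs]; exact hx
        obtain ⟨r, hr⟩ := TopologicalSpace.Opens.mem_iSup.1 h1
        have : x ∈ ⋃ W ∈ T ⟨r.1, r.2⟩, ((W : X.Opens) : Set X) := by rw [hT]; exact hr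
        obtain ⟨W, hW, hxW⟩ := Set.mem_iUnion₂.1 this
        exact Set.mem_iUnion₂.2 ⟨W, Set.mem_iUnion.2 ⟨_, hW⟩, hxW⟩
    · intro W hW
      obtain ⟨r, hW⟩ := Set.mem_iUnion.1 hW
      obtain ⟨e, h⟩ := hT' r W hW
      refine ⟨fun x hx => Y.basicOpen_le r.1 (e hx), ?_⟩
      rw [← Scheme.Hom.map_appLE f e (homOfLE (Y.basicOpen_le r.1)).op, CommRingCat.hom_comp]
      refine RingHom.EssFiniteType.comp ?_ h
      haveI := U.2.isLocalization_basicOpen r.1
      show RingHom.EssFiniteType (algebraMap Γ(Y, U) Γ(Y, Y.basicOpen r.1))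
      rw [RingHom.essFiniteType_algebraMap]
      exact Algebra.EssFiniteType.of_isLocalization _ (Submonoid.powers r.1)

end Groth.Agent.S15258
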