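import Mathlib
import Groth.Statements.S15260
-- import your own Groth.Agent.* helpers here

set_option autoImplicit false
set_option backward.isDefEq.respectTransparency false
set_option backward.isDefEq.respectTransparency.types false
universe u
open CategoryTheory CategoryTheory.Limits AlgebraicGeometry TopologicalSpace
open W4c2seshadripos

namespace Groth.Agent.S15260

/-- Say a morphism of schemes h : S → T is locally essentially of finite type when for every affine open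
U = Spec A of T the preimage h⁻¹(U) is covered by affine opens V = Spec B of S with A → B
essentially of finite type (a localization of a finite-type A-algebra; this is the every-affine-open
form of the notion). If f : X → Y and g : Y → Z are locally essentially of finite type then so is f
≫ g. (The published statement also covers the quasi-compact variant, essentially of finite type;
that case follows since quasi-compact morphisms are stable under composition.) -/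
theorem result {X Y Z : Scheme.{u}} (f : X ⟶ Y) (g : Y ⟶ Z)
    (hf : ∀ U : Y.affineOpens, ∃ T : Set X.affineOpens, (⋃ V ∈ T, ((V : X.Opens) : Set ↥X)) = ((f ⁻¹ᵁ (U : Y.Opens)) : Set ↥X) ∧
        ∀ V ∈ T, ∃ e : (V : X.Opens) ≤ f ⁻¹ᵁ (U : Y.Opens), (f.appLE (U : Y.Opens) (V : X.Opens) e).hom.EssFiniteType)
    (hg : ∀ U : Z.affineOpens, ∃ T : Set Y.affineOpens, (⋃ V ∈ T, ((V : Y.Opens) : Set ↥Y)) = ((g ⁻¹ᵁ (U : Z.Opens)) : Set ↥Y) ∧
        ∀ V ∈ T, ∃ e : (V : Y.Opens) ≤ g ⁻¹ᵁ (U : Z.Opens), (g.appLE (U : Z.Opens) (V : Y.Opens) e).hom.EssFiniteType)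
    (U : Z.affineOpens) :
    ∃ T : Set X.affineOpens, (⋃ V ∈ T, ((V : X.Opens) : Set ↥X)) = (((f ≫ g) ⁻¹ᵁ (U : Z.Opens)) : Set ↥X) ∧
        ∀ V ∈ T, ∃ e : (V : X.Opens) ≤ (f ≫ g) ⁻¹ᵁ (U : Z.Opens), ((f ≫ g).appLE (U : Z.Opens) (V : X.Opens) e).hom.EssFiniteType := by
  obtain ⟨Tg, hTg, hTg'⟩ := hg U
  choose Tf hTf hTf' using fun V : Tg => hf V.1
  refine ⟨⋃ V : Tg, Tf V, ?_, ?_⟩
  · ext x
    have h : g (f x) ∈ (U : Z.Opens) ↔ f x ∈ ⋃ V ∈ Tg, ((V : Y.Opens) : Set Y) := by rw [hTg]; rfl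
    constructor
    · intro hx
      simp only [Set.mem_iUnion] at hx
      obtain ⟨W, ⟨V, hW⟩, hxW⟩ := hx
      have : x ∈ ⋃ W ∈ Tf V, ((W : X.Opens) : Set X) := Set.mem_iUnion₂.2 ⟨W, hW, hxW⟩
      rw [hTf V] at this
      exact h.2 (Set.mem_iUnion₂.2 ⟨V.1, V.2, this⟩)
    · intro hx
      obtain ⟨V, hV, hxV⟩ := Set.mem_iUnion₂.1 (h.1 hx)
      have : x ∈ ⋃ W ∈ Tf ⟨V, hV⟩, ((W : X.Opens) : Set X) := by rw [hTf ⟨V, hV⟩]; exact hxV
      obtain ⟨W, hW, hxW⟩ := Set.mem_iUnion₂.1 this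
      exact Set.mem_iUnion₂.2 ⟨W, Set.mem_iUnion.2 ⟨_, hW⟩, hxW⟩
  · intro W hW
    obtain ⟨V, hW⟩ := Set.mem_iUnion.1 hW
    obtain ⟨e₁, h₁⟩ := hTf' V W hW
    obtain ⟨e₂, h₂⟩ := hTg' V.1 V.2
    refine ⟨e₁.trans (fun x hx => e₂ hx), ?_⟩
    rw [← Scheme.Hom.appLE_comp_appLE f g U V.1 W e₂ e₁, CommRingCat.hom_comp]
    exact h₂.comp h₁

end Groth.Agent.S15260
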