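import Mathlib
import Groth.Statements.S15261
-- import your own Groth.Agent.* helpers here

set_option autoImplicit false
set_option backward.isDefEq.respectTransparency false
set_option backward.isDefEq.respectTransparency.types false
universe u
open CategoryTheory CategoryTheory.Limits AlgebraicGeometry TopologicalSpace
open W4c2seshadripos

namespace Groth.Agent.S15261

/-- Say a morphism of schemes h : S → T is locally essentially of finite type when for every affine open
U = Spec A of T the preimage h⁻¹(U) is covered by affine opens V = Spec B of S with A → B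
essentially of finite type (the every-affine-open form of the notion). If f : X → Y is locally
essentially of finite type and g : Y' → Y is any morphism of schemes, then the base change X ×_Y Y'
→ Y' is locally essentially of finite type. (The quasi-compact variant, essentially of finite type,
follows since quasi-compactness is stable under base change.) -/
theorem result {X Y Y' : Scheme.{u}} (f : X ⟶ Y) (g : Y' ⟶ Y)
    (hf : ∀ U : Y.affineOpens, ∃ T : Set X.affineOpens, (⋃ V ∈ T, ((V : X.Opens) : Set ↥X)) = ((f ⁻¹ᵁ (U : Y.Opens)) : Set ↥X) ∧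
        ∀ V ∈ T, ∃ e : (V : X.Opens) ≤ f ⁻¹ᵁ (U : Y.Opens), (f.appLE (U : Y.Opens) (V : X.Opens) e).hom.EssFiniteType)
    (U : Y'.affineOpens) :
    ∃ T : Set (pullback f g).affineOpens, (⋃ V ∈ T, ((V : (pullback f g).Opens) : Set ↥(pullback f g))) = (((pullback.snd f g) ⁻¹ᵁ (U : Y'.Opens)) : Set ↥(pullback f g)) ∧
        ∀ V ∈ T, ∃ e : (V : (pullback f g).Opens) ≤ (pullback.snd f g) ⁻¹ᵁ (U : Y'.Opens), ((pullback.snd f g).appLE (U : Y'.Opens) (V : (pullback f g).Opens) e).hom.EssFiniteType := by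
  refine ⟨{W | ∃ e : (W : (pullback f g).Opens) ≤ (pullback.snd f g) ⁻¹ᵁ (U : Y'.Opens),
    ((pullback.snd f g).appLE U W e).hom.EssFiniteType}, ?_, fun W hW => hW⟩
  refine subset_antisymm (Set.iUnion₂_subset fun W hW => hW.choose) fun x hx => ?_
  obtain ⟨_, ⟨V, hV, rfl⟩, hxV, -⟩ : ∃ W ∈ (fun V : Y.Opens => (V : Set Y)) '' {V : Y.Opens | IsAffineOpen V}, f (pullback.fst f g x) ∈ W ∧ W ⊆ Set.univ := (Scheme.isBasis_affineOpens Y).exists_subset_of_mem_open
    (Set.mem_univ (f (pullback.fst f g x))) isOpen_univ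
  obtain ⟨T, hT, hT'⟩ := hf ⟨V, hV⟩
  obtain ⟨V₀, hV₀, hxV₀⟩ := Set.mem_iUnion₂.1 (show pullback.fst f g x ∈ ⋃ W ∈ T, ((W : X.Opens) : Set X) by rw [hT]; exact hxV)
  obtain ⟨e₀, h₀⟩ := hT' V₀ hV₀
  have hgx : pullback.snd f g x ∈ g ⁻¹ᵁ V := by
    show g _ ∈ V
    rw [← Scheme.Hom.comp_apply, ← pullback.condition, Scheme.Hom.comp_apply]; exact hxV
  obtain ⟨r, hrV, hxr⟩ := U.2.exists_basicOpen_le (⟨_, hgx⟩ : (g ⁻¹ᵁ V : Y'.Opens)) hx
  let U' := Y'.basicOpen r
  haveI : IsAffine (V₀ : X.Opens).toScheme := V₀.2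
  haveI : IsAffine (V : Y.Opens).toScheme := hV
  haveI : IsAffine U'.toScheme := U.2.basicOpen r
  let a := f.resLE V (V₀ : X.Opens) e₀
  let b := g.resLE V U' hrV
  let k : pullback a b ⟶ pullback f g := pullback.map a b f g (V₀ : X.Opens).ι U'.ι (V : Y.Opens).ι
    (by simp [a]) (by simp [b])
  have ha : a.appTop.hom.EssFiniteType := by
    have : a.appTop = (V : Y.Opens).topIso.hom ≫ f.appLE V V₀ e₀ ≫ (V₀ : X.Opens).topIso.inv := by
      simp only [a, Scheme.Hom.appTop, ← Scheme.Hom.appLE_eq_app]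
      rw [Scheme.Hom.resLE_appLE]
      simp [Scheme.Opens.topIso]
    rw [this, CommRingCat.hom_comp, CommRingCat.hom_comp]
    refine RingHom.EssFiniteType.comp ?_ (RingHom.EssFiniteType.comp h₀ ?_) <;>
      exact RingHom.FiniteType.essFiniteType (RingHom.FiniteType.of_surjective _ (ConcreteCategory.bijective_of_isIso _).2)
  have hsnd : (pullback.snd a b).appTop.hom.EssFiniteType := by
    haveI : (RingHom.toMorphismProperty RingHom.EssFiniteType).IsStableUnderCobaseChange := by
      rw [RingHom.isStableUnderCobaseChange_toMorphismProperty_iff]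
      exact RingHom.EssFiniteType.isStableUnderBaseChange
    exact MorphismProperty.of_isPushout (P := RingHom.toMorphismProperty RingHom.EssFiniteType)
      (isPushout_appTop_of_isPullback (IsPullback.of_hasPullback a b)).flip ha
  have hW : IsAffineOpen k.opensRange := isAffineOpen_opensRange k
  have hxk : x ∈ k.opensRange := by
    show x ∈ Set.range k
    rw [Scheme.Pullback.range_map]
    exact ⟨by rw [Set.mem_preimage, Scheme.Opens.range_ι]; exact hxV₀, by rw [Set.mem_preimage, Scheme.Opens.range_ι]; exact hxr⟩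
  have eW : k.opensRange ≤ (pullback.snd f g) ⁻¹ᵁ (U : Y'.Opens) := by
    rintro _ ⟨z, rfl⟩
    show pullback.snd f g (k z) ∈ (U : Y'.Opens)
    rw [← Scheme.Hom.comp_apply, pullback.lift_snd, Scheme.Hom.comp_apply]
    exact Y'.basicOpen_le r (pullback.snd a b z).2
  refine Set.mem_iUnion₂.2 ⟨⟨k.opensRange, hW⟩, ⟨eW, ?_⟩, hxk⟩
  have ek : (⊤ : (pullback a b).Opens) ≤ k ⁻¹ᵁ k.opensRange := fun z _ => ⟨z, rfl⟩
  have eι : (⊤ : U'.toScheme.Opens) ≤ U'.ι ⁻¹ᵁ (U : Y'.Opens) := fun z _ => Y'.basicOpen_le r z.2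
  have h1 : (pullback.snd f g).appLE U k.opensRange eW ≫ k.appLE k.opensRange ⊤ ek =
      U'.ι.appLE U ⊤ eι ≫ (pullback.snd a b).appTop := by
    rw [Scheme.Hom.appLE_comp_appLE, Scheme.Hom.appTop, ← Scheme.Hom.appLE_eq_app,
      Scheme.Hom.appLE_comp_appLE]
    congr 1
    exact pullback.lift_snd _ _ _
  have h2 : IsIso (k.appLE k.opensRange ⊤ ek) := by
    have : k ⁻¹ᵁ k.opensRange = ⊤ := top_le_iff.1 ek
    rw [Scheme.Hom.appLE]
    haveI : IsIso (homOfLE ek) := ⟨homOfLE this.le, rfl, rfl⟩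
    haveI : IsIso (k.app k.opensRange) := k.isIso_app _ le_rfl
    infer_instance
  rw [show (pullback.snd f g).appLE U k.opensRange eW = (U'.ι.appLE U ⊤ eι ≫ (pullback.snd a b).appTop) ≫ inv (k.appLE k.opensRange ⊤ ek) by rw [← h1]; simp,
    CommRingCat.hom_comp, CommRingCat.hom_comp]
  refine RingHom.EssFiniteType.comp (RingHom.EssFiniteType.comp ?_ hsnd)
    (RingHom.FiniteType.essFiniteType (RingHom.FiniteType.of_surjective _ (ConcreteCategory.bijective_of_isIso _).2))
  haveI := U.2.isLocalization_basicOpen r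
  have h3 : U'.ι.appLE U ⊤ eι = Y'.presheaf.map (homOfLE (Y'.basicOpen_le r)).op ≫ U'.topIso.inv := by
    rw [Scheme.Opens.ι_appLE]; simp only [Scheme.Opens.topIso]; rw [Functor.mapIso_inv, ← Functor.map_comp]; rfl
  rw [h3, CommRingCat.hom_comp]
  refine RingHom.EssFiniteType.comp ?_
    (RingHom.FiniteType.essFiniteType (RingHom.FiniteType.of_surjective _ (ConcreteCategory.bijective_of_isIso _).2))
  show RingHom.EssFiniteType (algebraMap Γ(Y', U) Γ(Y', Y'.basicOpen r))
  rw [RingHom.essFiniteType_algebraMap]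
  exact Algebra.EssFiniteType.of_isLocalization _ (Submonoid.powers r)

end Groth.Agent.S15261
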