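import Groth.Statements.S15287
import Groth.Agent.ProjUPLib.AmpleTwist
import Groth.Agent.GenLocus.Ample

set_option autoImplicit false
universe u
open CategoryTheory AlgebraicGeometry
open PicF

namespace Groth.Agent.S15287

open CategoryTheory CategoryTheory.Limits AlgebraicGeometry Opposite TopologicalSpace
open Groth.Agent Groth.Agent.QCohBase Groth.Agent.GenLocus

theorem main {Y S : Scheme.{u}} (f : Y ⟶ S) [LocallyOfFiniteType f] {A L : Y.Modules}
    (hA : CohB1.IsAmple A) (hL : PicF.IsInvertible L) {ι : Type} [Finite ι] (y : ι → Y) :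
    ∃ N₀ : ℕ, ∀ N : ℕ, N₀ ≤ N →
      ∃ s : Coh.structureModule Y ⟶ CohB1.tensorMod L (CohB1.tensorPow A N),
        ∀ i : ι, y i ∈ CohB1.genLocus (CohB1.tensorMod L (CohB1.tensorPow A N)) s := by
  classical
  haveI := hA.2.1
  haveI := isSeparated_of_isAmple hA
  obtain ⟨Z', hZ'Z, hgen, hsep⟩ := exists_separating (Set.finite_range y) ⊤ (fun _ _ => trivial)
  choose V hzV _ hV using fun z : Z' ↦ hsep z.1 z.2
  choose n a hza haV haff using fun z : Z' ↦ exists_affine_genLocus_le hA (hzV z)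
  haveI := ((Set.finite_range y).subset hZ'Z).fintype
  let D := ∏ w : Z', (n w + 1)
  have hD : 0 < D := Finset.prod_pos fun w _ ↦ Nat.succ_pos _
  choose b hb using fun z ↦ exists_same_genLocus hA.1 hD
    (Finset.dvd_prod_of_mem (fun w : Z' ↦ n w + 1) (Finset.mem_univ z)) (a z)
  obtain ⟨m₀, hm₀⟩ := Filter.eventually_atTop.1 (ProjUPLib.eventually_good f hA hL)
  refine ⟨m₀ + D, fun N hN ↦ ?_⟩
  obtain ⟨m, rfl, hm⟩ : ∃ m, N = m + D ∧ m₀ ≤ m := ⟨N - D, by omega, by omega⟩
  obtain ⟨Q, hQ, φ, κ, _, t, ht⟩ := hm₀ m hm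
  choose j hj _ using fun z : Z' ↦ ht z.1
  have hAD := TensorMod.isInvertible_tensorPow hA.1 D
  have hP := TensorMod.isInvertible_tensorMod hL (TensorMod.isInvertible_tensorPow hA.1 (m + D))
  let e : CohB1.tensorMod Q (CohB1.tensorPow A D) ≅ CohB1.tensorMod L (CohB1.tensorPow A (m + D)) :=
    TensorMod.tensorIso (φ ≪≫ TensorMod.commIso _ _) (Iso.refl _) ≪≫ TensorMod.assocIso _ _ _ ≪≫
      TensorMod.tensorIso (Iso.refl _) (TensorMod.tensorPowAddIso A m D).symm
  let c := fun z : Z' ↦ SecTwist.tmulHom (homOfSection Q (t (j z))) (b z) ≫ e.hom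
  have hc : ∀ z, CohB1.genLocus _ (c z) = ProjUPLib.loc Q (t (j z)) ⊓ CohB1.genLocus _ (a z) := fun z ↦
    (genLocus_comp_iso e _).trans ((genLocus_tmulHom hQ hAD _ _).trans (by rw [hb z]))
  obtain ⟨s, -, hzs, -⟩ := exists_affine_genLocus_of_family hP c
    (fun z ↦ by rw [hc z]; exact isAffineOpen_genLocus_inf hQ _ (haff z))
    (fun z ↦ z.1) (fun z ↦ by rw [hc z]; exact ⟨hj z, hza z⟩)
    (fun z w hwz hmem ↦ by
      rw [hc w] at hmem
      exact hV w z.1 z.2 (fun h ↦ hwz (Subtype.ext h.symm)) (haV w hmem.2))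
  exact ⟨s, fun i ↦ hgen _ (fun z hz ↦ hzs ⟨z, hz⟩) ⟨i, rfl⟩⟩

/-- Let Y be a scheme proper over a field k carrying an ample invertible O_Y-module A, let L be an
invertible O_Y-module and y_1, …, y_m finitely many points of Y. Then there is N₀ such that for
every N ≥ N₀ the module L ⊗ A^{⊗ N} has a global section generating it at every y_i (each y_i lies
in the largest open over which the section is a basis). (The published statement takes Y projective
over k and A very ample; this row takes Y proper over k and A ample.) -/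
theorem result
    (k : Type u) [Field k] (Y : Scheme.{u}) (f : Y ⟶ Spec (CommRingCat.of k)) [IsProper f]
    (A : Y.Modules) (hA : CohB1.IsAmple A) (L : Y.Modules) (hL : PicF.IsInvertible L)
    (ι : Type) [Finite ι] (y : ι → ↥Y) :
    ∃ N₀ : ℕ, ∀ N : ℕ, N₀ ≤ N →
      ∃ s : Coh.structureModule Y ⟶ CohB1.tensorMod L (CohB1.tensorPow A N),
        ∀ i : ι, y i ∈ CohB1.genLocus (CohB1.tensorMod L (CohB1.tensorPow A N)) s := by
  exact Groth.Agent.S15287.main f hA hL y

end Groth.Agent.S15287
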