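import Groth.Statements.S6786
import Groth.Agent.TowerLib.Basic
-- import your own Groth.Agent.* helpers here

set_option autoImplicit false
open CategoryTheory CategoryTheory.Limits
universe u
open HomAlg3

namespace Groth.Agent.S6786

/-- For a sequence `(A_i) ⟶ (B_i) ⟶ (C_i) ⟶ (D_i)` of inverse systems of abelian groups over `ℕ` that is
exact levelwise at the two middle places, if `(A_i)` is Mittag-Leffler then `lim B_i ⟶ lim C_i ⟶ lim
D_i` is exact. -/
theorem result {A B C D : ℕᵒᵖ ⥤ AddCommGrpCat.{u}} (a : A ⟶ B) (b : B ⟶ C) (c : C ⟶ D) (hB : ∀ i, (b.app i).hom.ker = (a.app i).hom.range) (hC : ∀ i, (c.app i).hom.ker = (b.app i).hom.range) (hA : (A ⋙ forget AddCommGrpCat).IsMittagLeffler) : (limMap c).hom.ker = (limMap b).hom.range := by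
  have nat : ∀ {P Q : ℕᵒᵖ ⥤ AddCommGrpCat.{u}} (f : P ⟶ Q) {i j : ℕ} (h : i ≤ j) (x : P.obj (Opposite.op j)),
      (f.app (Opposite.op i)).hom (TowerLib.tr P h x) = TowerLib.tr Q h ((f.app (Opposite.op j)).hom x) := fun f _ _ h x =>
    ConcreteCategory.congr_hom (f.naturality (homOfLE h).op) x
  have proj : ∀ {P Q : ℕᵒᵖ ⥤ AddCommGrpCat.{u}} (f : P ⟶ Q) (n : ℕ) (l : (limit P : AddCommGrpCat.{u})),
      (limit.π Q (Opposite.op n)).hom ((limMap f).hom l) = (f.app (Opposite.op n)).hom ((limit.π P (Opposite.op n)).hom l) := fun f n l =>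
    ConcreteCategory.congr_hom (limMap_π f (Opposite.op n)) l
  apply le_antisymm
  · intro l hl
    have hl' : ∀ n, (limit.π C (Opposite.op n)).hom l ∈ (b.app (Opposite.op n)).hom.range := fun n => by
      rw [← hC, AddMonoidHom.mem_ker, ← proj, AddMonoidHom.mem_ker.1 hl, map_zero]
    choose β hβ using hl'
    have hd : ∀ n, β n - TowerLib.tr B (Nat.le_succ n) (β (n + 1)) ∈ (a.app (Opposite.op n)).hom.range := fun n => by
      rw [← hB, AddMonoidHom.mem_ker, map_sub, nat, hβ, hβ, sub_eq_zero]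
      exact (ConcreteCategory.congr_hom (limit.w C (homOfLE (Nat.le_succ n)).op) l).symm
    choose y hy using hd
    obtain ⟨x, hx⟩ := TowerLib.exists_sub_tr_eq A hA y
    have hcomp : TowerLib.Compatible B fun n => β n - (a.app (Opposite.op n)).hom (x n) := fun n => by
      have := hy n
      rw [← hx n, map_sub, nat] at this
      rw [map_sub]
      rw [eq_sub_iff_add_eq] at this
      rw [eq_sub_iff_add_eq]
      rw [← this]
      abel
    obtain ⟨m, hm⟩ := hcomp.exists_lift B
    refine ⟨m, Concrete.limit_ext _ _ _ fun j => ?_⟩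
    obtain ⟨n⟩ := j
    rw [proj, hm, map_sub, hβ]
    have h0 : (b.app (Opposite.op n)).hom ((a.app (Opposite.op n)).hom (x n)) = 0 := by
      rw [← AddMonoidHom.mem_ker, hB]; exact ⟨_, rfl⟩
    rw [h0, sub_zero]
  · rintro _ ⟨l, rfl⟩
    refine Concrete.limit_ext _ _ _ fun j => ?_
    obtain ⟨n⟩ := j
    rw [proj, proj, map_zero, ← AddMonoidHom.mem_ker, hC]
    exact ⟨_, rfl⟩

end Groth.Agent.S6786
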