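import Groth.Statements.S15307
import Groth.Agent.S6786
import Groth.Agent.TowerLib.Basic
import Mathlib.CategoryTheory.Abelian.RightDerived
import Mathlib.CategoryTheory.Abelian.FunctorCategory
import Mathlib.Algebra.Homology.ShortComplex.Ab
-- import your own Groth.Agent.* helpers here

set_option autoImplicit false
universe u
open HomAlg3

namespace Groth.Agent.S15307

open CategoryTheory CategoryTheory.Limits in
/-- For abelian groups, for an inverse system (A_n) of abelian groups indexed by the natural numbers,
the right derived functors lim^(i) A_n of the inverse limit vanish for every i ≥ 2. (The two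
instance hypotheses, enough injectives in the category of towers of abelian groups and additivity of
the limit functor, always hold. The published statement is made in an axiomatic setting that also
covers quasi-coherent sheaves; this row is the case of abelian groups.) -/
theorem result
    [EnoughInjectives (ℕᵒᵖ ⥤ AddCommGrpCat.{u})]
    [(lim : (ℕᵒᵖ ⥤ AddCommGrpCat.{u}) ⥤ AddCommGrpCat.{u}).Additive]
    (A : ℕᵒᵖ ⥤ AddCommGrpCat.{u}) (i : ℕ) (hi : 2 ≤ i) :
    IsZero (((lim : (ℕᵒᵖ ⥤ AddCommGrpCat.{u}) ⥤ AddCommGrpCat.{u}).rightDerived i).obj A) := by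
  classical
  let P : InjectiveResolution A := injectiveResolution A
  have hsurj : ∀ (I : ℕᵒᵖ ⥤ AddCommGrpCat.{u}), Injective I → (I ⋙ forget AddCommGrpCat).IsMittagLeffler := by
    intro I hI
    let T : ℕᵒᵖ ⥤ AddCommGrpCat.{u} :=
      { obj := fun m => AddCommGrpCat.of (∀ k : Fin (m.unop + 1), I.obj (Opposite.op k.1))
        map := fun {m m'} g => AddCommGrpCat.ofHom
          { toFun := fun f k => f ⟨k.1, lt_of_lt_of_le k.2 (Nat.succ_le_succ (leOfHom g.unop))⟩
            map_zero' := rfl
            map_add' := fun _ _ => rfl }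
        map_id := fun _ => rfl
        map_comp := fun _ _ => rfl }
    let s : I ⟶ T :=
      { app := fun m => AddCommGrpCat.ofHom (AddMonoidHom.mk' (fun x k => Groth.Agent.TowerLib.tr I (Nat.lt_succ_iff.1 k.2) x)
          (fun x y => funext fun k => map_add _ x y))
        naturality := fun {m m'} g => by
          obtain ⟨m⟩ := m
          obtain ⟨m'⟩ := m'
          refine AddCommGrpCat.hom_ext (AddMonoidHom.ext fun x => funext fun k => ?_)
          exact Groth.Agent.TowerLib.tr_tr I (Nat.lt_succ_iff.1 k.2) (leOfHom g.unop) x }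
    haveI : ∀ m, Mono (s.app m) := fun m => by
      obtain ⟨m⟩ := m
      rw [AddCommGrpCat.mono_iff_injective]
      intro x y hxy
      have := congrFun (show (fun k : Fin (m + 1) => Groth.Agent.TowerLib.tr I (Nat.lt_succ_iff.1 k.2) x) =
        fun k => Groth.Agent.TowerLib.tr I (Nat.lt_succ_iff.1 k.2) y from hxy) ⟨m, Nat.lt_succ_self m⟩
      simpa only [Groth.Agent.TowerLib.tr_self] using this
    haveI : Mono s := NatTrans.mono_of_mono_app s
    haveI := hI
    let r : T ⟶ I := Injective.factorThru (𝟙 I) s
    have hr : s ≫ r = 𝟙 I := Injective.comp_factorThru _ _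
    rw [Groth.Agent.TowerLib.isMittagLeffler_iff]
    intro i
    refine ⟨i, le_rfl, fun k hik z => ?_⟩
    rw [Groth.Agent.TowerLib.tr_self]
    let e : ∀ l : Fin (k + 1), I.obj (Opposite.op l.1) := fun l =>
      if h : l.1 ≤ i then Groth.Agent.TowerLib.tr I h z else 0
    refine ⟨(r.app (Opposite.op k)).hom e, ?_⟩
    show (I.map (homOfLE hik).op).hom ((r.app (Opposite.op k)).hom e) = z
    refine (ConcreteCategory.congr_hom (r.naturality (homOfLE hik).op) e).symm.trans ?_
    have h2 : (T.map (homOfLE hik).op).hom e = (s.app (Opposite.op i)).hom z :=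
      funext fun l => dif_pos (Nat.lt_succ_iff.1 l.2)
    show (r.app (Opposite.op i)).hom ((T.map (homOfLE hik).op).hom e) = z
    rw [h2]
    exact ConcreteCategory.congr_hom (NatTrans.congr_app hr (Opposite.op i)) z
  refine IsZero.of_iso ?_ (P.isoRightDerivedObj lim i)
  obtain ⟨j, rfl⟩ : ∃ j, i = j + 2 := ⟨i - 2, by omega⟩
  change IsZero (HomologicalComplex.homology _ (j + 2))
  rw [← HomologicalComplex.exactAt_iff_isZero_homology,
    HomologicalComplex.exactAt_iff' _ (j + 1) (j + 2) (j + 3) (by simp) (by simp),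
    ShortComplex.ab_exact_iff_ker_le_range]
  have hex : ∀ (n : ℕ) (m : ℕᵒᵖ), ((P.cocomplex.d (n + 1) (n + 2)).app m).hom.ker =
      ((P.cocomplex.d n (n + 1)).app m).hom.range := fun n m =>
    (ShortComplex.ab_exact_iff_range_eq_ker.1 ((P.exact_succ n).map ((evaluation ℕᵒᵖ AddCommGrpCat.{u}).obj m))).symm
  exact (Groth.Agent.S6786.result (P.cocomplex.d j (j + 1)) (P.cocomplex.d (j + 1) (j + 2)) (P.cocomplex.d (j + 2) (j + 3))
    (hex j) (hex (j + 1)) (hsurj _ (P.injective j))).le

end Groth.Agent.S15307
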