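import Groth.Statements.S15315
import Mathlib

set_option autoImplicit false
universe u
open ArLef

namespace Groth.Agent.S15315

lemma aux {A : Type u} [CommRing A] (a b : A) (I : Ideal A)
    (ha : IsSMulRegular (A ⧸ Ideal.span ({b} : Set A)) a) :
    Module.length A (A ⧸ (Ideal.span {a} * I ⊔ Ideal.span {b})) =
      Module.length A (A ⧸ Ideal.span ({a, b} : Set A)) + Module.length A (A ⧸ (I ⊔ Ideal.span {b})) := by
  set K := Ideal.span {a} * I ⊔ Ideal.span {b} with hK
  have hle : K ≤ Ideal.span ({a, b} : Set A) := sup_le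
    (Ideal.mul_le_left.trans (Ideal.span_mono (Set.singleton_subset_iff.2 (Set.mem_insert a {b})))) (Ideal.span_mono (Set.subset_insert a {b}))
  have hker : I ⊔ Ideal.span {b} ≤ LinearMap.ker ((Submodule.mkQ K).comp (LinearMap.mul A A a)) := by
    intro x hx
    obtain ⟨i, hi, c, hc, rfl⟩ := Submodule.mem_sup.1 hx
    refine LinearMap.mem_ker.2 ((Submodule.Quotient.mk_eq_zero _).2 ?_)
    show a * (i + c) ∈ K
    rw [mul_add]
    exact add_mem (Submodule.mem_sup_left (Ideal.mul_mem_mul (Ideal.mem_span_singleton_self a) hi))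
      (Submodule.mem_sup_right (Ideal.mul_mem_left _ a hc))
  let f : (A ⧸ (I ⊔ Ideal.span {b})) →ₗ[A] (A ⧸ K) :=
    Submodule.liftQ (I ⊔ Ideal.span {b}) ((Submodule.mkQ K).comp (LinearMap.mul A A a)) hker
  let g : (A ⧸ K) →ₗ[A] (A ⧸ Ideal.span ({a, b} : Set A)) := Submodule.factor hle
  have hg : Function.Surjective g := Submodule.factor_surjective hle
  have hf : Function.Injective f := by
    rw [injective_iff_map_eq_zero]
    intro x hx
    obtain ⟨x, rfl⟩ := Submodule.Quotient.mk_surjective _ x
    have hx' : a * x ∈ K := (Submodule.Quotient.mk_eq_zero _).1 hx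
    obtain ⟨y, hy, c, hc, e⟩ := Submodule.mem_sup.1 hx'
    obtain ⟨i, hi, rfl⟩ := Ideal.mem_span_singleton_mul.1 hy
    have h0 : a • (Submodule.Quotient.mk (x - i) : A ⧸ Ideal.span ({b} : Set A)) = 0 := by
      rw [← Submodule.Quotient.mk_smul, Submodule.Quotient.mk_eq_zero]
      have : a • (x - i) = c := by rw [smul_eq_mul]; linear_combination -e
      rw [this]; exact hc
    have h1 := ha (a₁ := Submodule.Quotient.mk (x - i)) (a₂ := 0) (h0.trans (smul_zero a).symm)
    rw [Submodule.Quotient.mk_eq_zero] at h1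
    refine (Submodule.Quotient.mk_eq_zero _).2 ?_
    have : x = i + (x - i) := by ring
    rw [this]
    exact add_mem (Submodule.mem_sup_left hi) (Submodule.mem_sup_right h1)
  have hex : Function.Exact f g := by
    intro y
    obtain ⟨y, rfl⟩ := Submodule.Quotient.mk_surjective _ y
    refine ⟨fun hy => ?_, ?_⟩
    · have hy' : y ∈ Ideal.span ({a, b} : Set A) := (Submodule.Quotient.mk_eq_zero _).1 hy
      obtain ⟨u, v, rfl⟩ := Ideal.mem_span_pair.1 hy'
      refine ⟨Submodule.Quotient.mk u, (Submodule.Quotient.eq _).2 ?_⟩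
      show a * u - (u * a + v * b) ∈ K
      rw [show a * u - (u * a + v * b) = -(v * b) by ring]
      exact neg_mem (Submodule.mem_sup_right (Ideal.mul_mem_left _ v (Ideal.mem_span_singleton_self b)))
    · rintro ⟨z, hz⟩
      obtain ⟨z, rfl⟩ := Submodule.Quotient.mk_surjective _ z
      rw [← hz]
      exact (Submodule.Quotient.mk_eq_zero _).2 (Ideal.mul_mem_right z _ (Ideal.subset_span (by simp)))
  rw [Module.length_eq_add_of_exact f g hf hg hex, add_comm]

/-- For a Noetherian commutative ring A, elements a, b with a a non-zero-divisor on A/(b), and an ideal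
I, one has length(A/(aI + bA)) = length(A/(a, b)) + length(A/(I + bA)) as extended natural numbers;
in particular when two of the three quotients have finite length so does the third. -/
theorem result (A : Type u) [CommRing A] [IsNoetherianRing A] (a b : A) (I : Ideal A)
    (ha : IsSMulRegular (A ⧸ Ideal.span ({b} : Set A)) a) :
    Module.length A (A ⧸ (Ideal.span {a} * I ⊔ Ideal.span {b})) =
      Module.length A (A ⧸ Ideal.span ({a, b} : Set A)) + Module.length A (A ⧸ (I ⊔ Ideal.span {b})) := by
  exact aux a b I ha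

end Groth.Agent.S15315
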