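import Groth.Statements.S15316
import Mathlib
import Groth.Agent.NodeAlgLib.Basic

set_option autoImplicit false
universe u
open ArLef ArLef.NodeAlg

namespace Groth.Agent.S15316

/-- Let B be a discrete valuation ring with uniformizer π and N = B[[t, e]]/(te - π) the complete local
ring of a semi-stable arithmetic surface at a singular point of the closed fibre. A ring
automorphism σ of N with σ(π) associated to π (for instance a B-algebra automorphism, or one lying
over an automorphism of B) either stabilizes the two branches, σ(t) = α t and σ(e) = β e for units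
α, β, or switches them, σ(t) = α e and σ(e) = β t for units α, β. (The published setting has B
complete with algebraically closed residue field and σ linear over B or over an automorphism of B;
the argument uses only that σ(π) generates (π).) -/
theorem result (B : Type u) [CommRing B] [IsDomain B] [IsDiscreteValuationRing B] (π : B) (hπ : Irreducible π)
    (σ : ArLef.NodeAlg B π ≃+* ArLef.NodeAlg B π)
    (hσ : Associated (σ (algebraMap B (ArLef.NodeAlg B π) π)) (algebraMap B (ArLef.NodeAlg B π) π)) :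
    (∃ α β : (ArLef.NodeAlg B π)ˣ, σ (ArLef.NodeAlg.t π) = (α : ArLef.NodeAlg B π) * ArLef.NodeAlg.t π ∧ σ (ArLef.NodeAlg.e π) = (β : ArLef.NodeAlg B π) * ArLef.NodeAlg.e π) ∨
      (∃ α β : (ArLef.NodeAlg B π)ˣ, σ (ArLef.NodeAlg.t π) = (α : ArLef.NodeAlg B π) * ArLef.NodeAlg.e π ∧ σ (ArLef.NodeAlg.e π) = (β : ArLef.NodeAlg B π) * ArLef.NodeAlg.t π) := by
  classical
  haveI := NodeAlgLib.isLocalRing hπ
  have hpt := NodeAlgLib.prime_t hπ
  have hpe := NodeAlgLib.prime_e hπ
  have hσt : Prime (σ (ArLef.NodeAlg.t π)) := (MulEquiv.prime_iff σ.toMulEquiv).mpr hpt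
  have hσe : Prime (σ (ArLef.NodeAlg.e π)) := (MulEquiv.prime_iff σ.toMulEquiv).mpr hpe
  have hd : ArLef.NodeAlg.t π * ArLef.NodeAlg.e π ∣ σ (ArLef.NodeAlg.t π) * σ (ArLef.NodeAlg.e π) := by
    rw [← map_mul σ, NodeAlgLib.te]; exact hσ.symm.dvd
  have hne : ¬ Associated (σ (ArLef.NodeAlg.t π)) (σ (ArLef.NodeAlg.e π)) := fun h => by
    have h' := h.map σ.symm.toRingHom
    simp only [RingEquiv.toRingHom_eq_coe, RingHom.coe_coe, RingEquiv.symm_apply_apply] at h'
    exact NodeAlgLib.not_t_dvd_e hπ h'.dvd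
  have mk : ∀ {x y : ArLef.NodeAlg B π}, Associated y x → ∃ α : (ArLef.NodeAlg B π)ˣ, x = α * y := fun {x y} h =>
    ⟨h.choose, by rw [mul_comm]; exact h.choose_spec.symm⟩
  rcases hpt.dvd_or_dvd ((dvd_mul_right _ _).trans hd) with h | h
  · have hA := NodeAlgLib.associated_of_prime_dvd hπ hσt hpt h
    have hB : Associated (ArLef.NodeAlg.e π) (σ (ArLef.NodeAlg.e π)) := by
      refine NodeAlgLib.associated_of_prime_dvd hπ hσe hpe ((hpe.dvd_or_dvd ((dvd_mul_left _ _).trans hd)).resolve_left fun h' => ?_)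
      exact NodeAlgLib.not_e_dvd_t hπ (h'.trans hA.symm.dvd)
    obtain ⟨α, hα⟩ := mk hA
    obtain ⟨β, hβ⟩ := mk hB
    exact Or.inl ⟨α, β, hα, hβ⟩
  · have hA := NodeAlgLib.associated_of_prime_dvd hπ hσe hpt h
    have hB : Associated (ArLef.NodeAlg.e π) (σ (ArLef.NodeAlg.t π)) := by
      refine NodeAlgLib.associated_of_prime_dvd hπ hσt hpe ((hpe.dvd_or_dvd ((dvd_mul_left _ _).trans hd)).resolve_right fun h' => ?_)
      exact NodeAlgLib.not_e_dvd_t hπ (h'.trans hA.symm.dvd)
    obtain ⟨α, hα⟩ := mk hB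
    obtain ⟨β, hβ⟩ := mk hA
    exact Or.inr ⟨α, β, hα, hβ⟩

end Groth.Agent.S15316
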