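import Groth.Statements.S15317
import Mathlib
import Groth.Agent.NodeAlgLib.Basic

set_option autoImplicit false
universe u
open ArLef ArLef.NodeAlg

namespace Groth.Agent.S15317

/-- Let B be a discrete valuation ring with uniformizer π, N = B[[t, e]]/(te - π), and σ a non-trivial
B-algebra automorphism of N stabilizing both branches of the closed fibre (σ(t) associated to t,
σ(e) associated to e). Then the fixed-point ideal of σ, generated by all σ(r) - r, is g·(t, e) for a
non-zero g: the divisorial part of the fixed locus is cut out by g and its residual part is the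
reduced closed point, of multiplicity one. (Stated in the complete local ring, where the published
argument takes place; the published setting has B complete with algebraically closed residue field.) -/
theorem result (B : Type u) [CommRing B] [IsDomain B] [IsDiscreteValuationRing B] (π : B) (hπ : Irreducible π)
    (σ : ArLef.NodeAlg B π ≃ₐ[B] ArLef.NodeAlg B π) (hσ : σ ≠ AlgEquiv.refl)
    (ht : Associated (σ (ArLef.NodeAlg.t π)) (ArLef.NodeAlg.t π))
    (he : Associated (σ (ArLef.NodeAlg.e π)) (ArLef.NodeAlg.e π)) :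
    ∃ g : ArLef.NodeAlg B π, g ≠ 0 ∧
      ArLef.fixIdeal σ = Ideal.span {g} * Ideal.span ({ArLef.NodeAlg.t π, ArLef.NodeAlg.e π} : Set (ArLef.NodeAlg B π)) := by
  classical
  obtain ⟨α, hα⟩ := ht.symm
  obtain ⟨β, hβ⟩ := he.symm
  have hprod : σ (ArLef.NodeAlg.t π) * σ (ArLef.NodeAlg.e π) = ArLef.NodeAlg.t π * ArLef.NodeAlg.e π := by
    rw [← map_mul, NodeAlgLib.te, σ.commutes]
  have hab : (α : ArLef.NodeAlg B π) * β = 1 := sub_eq_zero.mp (NodeAlgLib.regular_pi hπ (by
    rw [← NodeAlgLib.te]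
    linear_combination hprod + (σ (ArLef.NodeAlg.e π)) * hα + (ArLef.NodeAlg.t π * α) * hβ))
  have h1 : ∀ b : B, σ (algebraMap B _ b) - algebraMap B _ b = 0 := fun b => by rw [σ.commutes, sub_self]
  refine ⟨(α : ArLef.NodeAlg B π) - 1, fun h0 => hσ (AlgEquiv.ext fun r => ?_), ?_⟩
  · have hb : (β : ArLef.NodeAlg B π) = 1 := by linear_combination hab - (β : ArLef.NodeAlg B π) * h0
    have ha : (α : ArLef.NodeAlg B π) = 1 := sub_eq_zero.mp h0
    have := NodeAlgLib.sub_mem_of_gens hπ (σ : ArLef.NodeAlg B π →+* ArLef.NodeAlg B π) ⊥ (fun b => (Submodule.mem_bot _).mpr (h1 b))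
      ((Submodule.mem_bot _).mpr (by show σ (ArLef.NodeAlg.t π) - _ = 0; rw [← hα, ha, mul_one, sub_self]))
      ((Submodule.mem_bot _).mpr (by show σ (ArLef.NodeAlg.e π) - _ = 0; rw [← hβ, hb, mul_one, sub_self])) r
    exact sub_eq_zero.mp ((Submodule.mem_bot _).mp this)
  · rw [Ideal.span_mul_span', Set.singleton_mul, Set.image_pair]
    refine le_antisymm (NodeAlgLib.fixIdeal_le hπ (σ : ArLef.NodeAlg B π →+* ArLef.NodeAlg B π) _ (fun b => (h1 b).symm ▸ zero_mem _) ?_ ?_) (Ideal.span_le.mpr ?_)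
    · show σ (ArLef.NodeAlg.t π) - _ ∈ _
      exact Ideal.mem_span_pair.mpr ⟨1, 0, by rw [← hα]; ring⟩
    · show σ (ArLef.NodeAlg.e π) - _ ∈ _
      exact Ideal.mem_span_pair.mpr ⟨0, -β, by rw [← hβ]; linear_combination (-ArLef.NodeAlg.e π) * hab⟩
    · rintro x (rfl | rfl)
      · exact Ideal.subset_span ⟨ArLef.NodeAlg.t π, by dsimp only; rw [← hα]; ring⟩
      · have h : σ (ArLef.NodeAlg.e π) - ArLef.NodeAlg.e π ∈ ArLef.fixIdeal σ := Ideal.subset_span ⟨_, rfl⟩
        rw [show ((α : ArLef.NodeAlg B π) - 1) * ArLef.NodeAlg.e π = (-α) * (σ (ArLef.NodeAlg.e π) - ArLef.NodeAlg.e π) by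
          rw [← hβ]; linear_combination ArLef.NodeAlg.e π * hab]
        exact Ideal.mul_mem_left _ _ h

end Groth.Agent.S15317
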