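import Groth.Statements.S15318
import Mathlib
import Groth.Agent.NodeAlgLib.Basic

set_option autoImplicit false
universe u
open ArLef ArLef.NodeAlg

namespace Groth.Agent.S15318

/-- Let B be a discrete valuation ring with uniformizer π, N = B[[t, e]]/(te - π), and σ a B-algebra
automorphism of N switching the two branches of the closed fibre (σ(t) associated to e, σ(e)
associated to t). Then the fixed-point ideal of σ is principal, generated by an element h of order
one (h is not in (t, e)²), and π is a non-zero-divisor modulo h: the fixed locus is a horizontal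
regular divisor through the point with empty residual part. (Stated in the complete local ring,
where the published argument takes place; the published setting has B complete with algebraically
closed residue field.) -/
theorem result (B : Type u) [CommRing B] [IsDomain B] [IsDiscreteValuationRing B] (π : B) (hπ : Irreducible π)
    (σ : ArLef.NodeAlg B π ≃ₐ[B] ArLef.NodeAlg B π)
    (ht : Associated (σ (ArLef.NodeAlg.t π)) (ArLef.NodeAlg.e π))
    (he : Associated (σ (ArLef.NodeAlg.e π)) (ArLef.NodeAlg.t π)) :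
    ∃ h : ArLef.NodeAlg B π, ArLef.fixIdeal σ = Ideal.span {h} ∧
      h ∉ (Ideal.span ({ArLef.NodeAlg.t π, ArLef.NodeAlg.e π} : Set (ArLef.NodeAlg B π))) ^ 2 ∧
      IsSMulRegular (ArLef.NodeAlg B π ⧸ Ideal.span ({h} : Set (ArLef.NodeAlg B π))) π := by
  classical
  haveI := NodeAlgLib.isDomain_quot hπ
  obtain ⟨α, hα⟩ := ht.symm
  obtain ⟨β, hβ⟩ := he.symm
  have hte := NodeAlgLib.te π
  have hprod : σ (ArLef.NodeAlg.t π) * σ (ArLef.NodeAlg.e π) = ArLef.NodeAlg.t π * ArLef.NodeAlg.e π := by
    rw [← map_mul, hte, σ.commutes]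
  have hab : (α : ArLef.NodeAlg B π) * β = 1 := sub_eq_zero.mp (NodeAlgLib.regular_pi hπ (by
    rw [← NodeAlgLib.te]
    linear_combination hprod + (σ (ArLef.NodeAlg.e π)) * hα + (ArLef.NodeAlg.e π * α) * hβ))
  let h : ArLef.NodeAlg B π := α * ArLef.NodeAlg.e π - ArLef.NodeAlg.t π
  have hh : σ (ArLef.NodeAlg.t π) - ArLef.NodeAlg.t π = h := by rw [← hα]; simp only [h]; ring
  refine ⟨h, le_antisymm (NodeAlgLib.fixIdeal_le hπ (σ : ArLef.NodeAlg B π →+* ArLef.NodeAlg B π) _ (fun b => ?_) ?_ ?_)
    ((Ideal.span_singleton_le_iff_mem _).mpr (Ideal.subset_span ⟨_, hh⟩)), fun hmem => ?_, ?_⟩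
  · show σ (algebraMap B _ b) - _ ∈ _
    rw [σ.commutes, sub_self]; exact zero_mem _
  · show σ (ArLef.NodeAlg.t π) - _ ∈ _
    rw [hh]; exact Ideal.subset_span rfl
  · show σ (ArLef.NodeAlg.e π) - _ ∈ _
    exact Ideal.mem_span_singleton'.mpr ⟨-β, by rw [← hβ]; simp only [h]; linear_combination (-ArLef.NodeAlg.e π) * hab⟩
  · have h2 := Ideal.mem_map_of_mem (NodeAlgLib.branch π 1) hmem
    rw [Ideal.map_pow, Ideal.map_span, Set.image_pair, NodeAlgLib.branch_t1, NodeAlgLib.branch_e1, Ideal.span_insert_zero,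
      Ideal.span_singleton_pow, Ideal.mem_span_singleton] at h2
    obtain ⟨c, hc⟩ := h2
    simp only [h, map_sub, map_mul, NodeAlgLib.branch_t1, NodeAlgLib.branch_e1, sub_zero] at hc
    have hu : IsUnit (PowerSeries.constantCoeff (NodeAlgLib.branch π 1 (α : ArLef.NodeAlg B π))) :=
      (α.isUnit.map (NodeAlgLib.branch π 1)).map PowerSeries.constantCoeff
    have e : NodeAlgLib.branch π 1 (α : ArLef.NodeAlg B π) = PowerSeries.X * c :=
      mul_right_cancel₀ (PowerSeries.X_ne_zero) (hc.trans (by ring))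
    rw [e] at hu
    simp at hu
  · intro x y hxy
    replace hxy := (Algebra.smul_def π x).symm.trans (hxy.trans (Algebra.smul_def π y))
    obtain ⟨x, rfl⟩ := Ideal.Quotient.mk_surjective x
    obtain ⟨y, rfl⟩ := Ideal.Quotient.mk_surjective y
    rw [show algebraMap B (ArLef.NodeAlg B π ⧸ Ideal.span {h}) π = Ideal.Quotient.mk _ (algebraMap B _ π) from rfl,
      ← map_mul (Ideal.Quotient.mk (Ideal.span {h})), ← map_mul (Ideal.Quotient.mk (Ideal.span {h})), Ideal.Quotient.eq, Ideal.mem_span_singleton', ← hte] at hxy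
    obtain ⟨q, hq⟩ := hxy
    have hreg : ∀ z, h ∣ ArLef.NodeAlg.e π * z → h ∣ z := fun z ⟨w, hw⟩ => by
      obtain ⟨w', rfl⟩ := ((NodeAlgLib.prime_e hπ).dvd_or_dvd ⟨z, hw.symm⟩).resolve_left fun hd => NodeAlgLib.not_e_dvd_t hπ (by
        have := dvd_sub (dvd_mul_left (ArLef.NodeAlg.e π) (α : ArLef.NodeAlg B π)) hd
        simpa [h] using this)
      exact ⟨w', sub_eq_zero.mp (NodeAlgLib.regular_e hπ (by linear_combination hw))⟩
    rw [Ideal.Quotient.eq, Ideal.mem_span_singleton]
    refine hreg _ (hreg _ ?_)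
    refine (α.isUnit.dvd_mul_left).mp ⟨q + ArLef.NodeAlg.e π * (x - y), ?_⟩
    simp only [h] at hq ⊢
    linear_combination -hq

end Groth.Agent.S15318
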