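import Groth.Statements.S15319
import Mathlib
import Groth.Agent.NodeAlgLib.Basic

set_option autoImplicit false
universe u
open ArLef ArLef.NodeAlg

namespace Groth.Agent.S15319

/-- Let B be a discrete valuation ring with uniformizer π, N = B[[t, e]]/(te - π) the complete local
ring of a semi-stable arithmetic surface over B at a singular point of the closed fibre, and σ a
ring automorphism of N sending π to π + γ π^j with γ a unit of B and j ≥ 1 (σ lies over an
automorphism τ of B with v(τ(π) - π) = j). Then the fixed-point ideal of σ is not contained in (π^j)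
= (t^j e^j): the two branches through the point cannot both occur with multiplicity j in the
divisorial part of the fixed locus. (The published setting has B complete with algebraically closed
residue field.) -/
theorem result (B : Type u) [CommRing B] [IsDomain B] [IsDiscreteValuationRing B] (π : B) (hπ : Irreducible π)
    (j : ℕ) (hj : 1 ≤ j) (γ : B) (hγ : IsUnit γ)
    (σ : ArLef.NodeAlg B π ≃+* ArLef.NodeAlg B π)
    (hσ : σ (algebraMap B (ArLef.NodeAlg B π) π) = algebraMap B (ArLef.NodeAlg B π) (π + γ * π ^ j)) :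
    ¬ ArLef.fixIdeal σ ≤ Ideal.span ({algebraMap B (ArLef.NodeAlg B π) (π ^ j)} : Set (ArLef.NodeAlg B π)) := by
  classical
  intro hI
  haveI := NodeAlgLib.isLocalRing hπ
  let p := algebraMap B (ArLef.NodeAlg B π)
  obtain ⟨a, ha⟩ := Ideal.mem_span_singleton.mp (hI (Ideal.subset_span ⟨ArLef.NodeAlg.t π, rfl⟩))
  obtain ⟨b, hb⟩ := Ideal.mem_span_singleton.mp (hI (Ideal.subset_span ⟨ArLef.NodeAlg.e π, rfl⟩))
  have h0 : σ (ArLef.NodeAlg.t π) * σ (ArLef.NodeAlg.e π) = p (π + γ * π ^ j) := by
    rw [← map_mul, NodeAlgLib.te, hσ]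
  have h1 : p π ^ j * (ArLef.NodeAlg.t π * b + ArLef.NodeAlg.e π * a + p π ^ j * (a * b) - p γ) = 0 := by
    simp only [map_pow] at ha hb
    simp only [p, map_add, map_mul, map_pow] at h0 ⊢
    have hte := NodeAlgLib.te π
    linear_combination h0 - hte - σ (ArLef.NodeAlg.e π) * ha - (ArLef.NodeAlg.t π + algebraMap B _ π ^ j * a) * hb
  have hreg : ∀ (n : ℕ) (x : ArLef.NodeAlg B π), p π ^ n * x = 0 → x = 0 := fun n => by
    induction n with
    | zero => intro x hx; simpa using hx
    | succ n ih => intro x hx; exact NodeAlgLib.regular_pi hπ (ih _ (by rw [pow_succ, mul_assoc] at hx; exact hx))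
  have h2 := sub_eq_zero.mp (hreg _ _ h1)
  refine (NodeAlgLib.isUnit_iff hπ).mp (hγ.map p) ?_
  rw [← h2]
  refine add_mem (add_mem (Ideal.mul_mem_right _ _ (Ideal.subset_span (by simp))) (Ideal.mul_mem_right _ _ (Ideal.subset_span (by simp)))) (Ideal.mul_mem_right _ _ ?_)
  refine Ideal.pow_mem_of_mem _ ?_ j (by omega)
  rw [← NodeAlgLib.te]
  exact Ideal.mul_mem_right _ _ (Ideal.subset_span (by simp))

end Groth.Agent.S15319
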