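import Groth.Statements.S15320
import Mathlib
import Groth.Agent.NodeAlgLib.Basic

set_option autoImplicit false
universe u
open ArLef ArLef.NodeAlg

namespace Groth.Agent.S15320

/-- Let B be a discrete valuation ring with uniformizer π, N = B[[t, e]]/(te - π) the complete local
ring of a semi-stable arithmetic surface over B at a singular point x of the closed fibre, and σ a
ring automorphism of N over an automorphism τ of B with v(τ(π) - π) = j ≥ 1, that is σ(π) = π + γ
π^j with γ a unit of B, and with σ(b) - b ∈ π^j N for every b ∈ B (automatic when B is totally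
ramified over the fixed ring of τ, as in the published setting, where the residue field is
algebraically closed). If σ switches the two branches through x (σ(t) associated to e and σ(e) to
t), then the fixed-point ideal I of σ is contained in no proper principal ideal (x is not on the
divisorial part of the fixed locus) and N/I has length 2j - 1 (the multiplicity of x in the residual
fixed-point scheme). -/
theorem result (B : Type u) [CommRing B] [IsDomain B] [IsDiscreteValuationRing B] (π : B) (hπ : Irreducible π)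
    (j : ℕ) (hj : 1 ≤ j) (γ : B) (hγ : IsUnit γ)
    (σ : ArLef.NodeAlg B π ≃+* ArLef.NodeAlg B π)
    (hσB : ∀ b : B, σ (algebraMap B (ArLef.NodeAlg B π) b) - algebraMap B (ArLef.NodeAlg B π) b ∈
      Ideal.span ({algebraMap B (ArLef.NodeAlg B π) (π ^ j)} : Set (ArLef.NodeAlg B π)))
    (hσπ : σ (algebraMap B (ArLef.NodeAlg B π) π) = algebraMap B (ArLef.NodeAlg B π) (π + γ * π ^ j))
    (ht : Associated (σ (ArLef.NodeAlg.t π)) (ArLef.NodeAlg.e π)) (he : Associated (σ (ArLef.NodeAlg.e π)) (ArLef.NodeAlg.t π)) :
    (∀ g : ArLef.NodeAlg B π, ArLef.fixIdeal σ ≤ Ideal.span ({g} : Set (ArLef.NodeAlg B π)) → IsUnit g) ∧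
      Module.length (ArLef.NodeAlg B π) (ArLef.NodeAlg B π ⧸ ArLef.fixIdeal σ) = ((2 * j - 1 : ℕ) : ℕ∞) := by
  classical
  haveI := NodeAlgLib.isDomain_quot hπ
  haveI := NodeAlgLib.isLocalRing hπ
  obtain ⟨α, hα⟩ := ht.symm
  obtain ⟨β, hβ⟩ := he.symm
  let p := algebraMap B (ArLef.NodeAlg B π)
  let t := ArLef.NodeAlg.t π
  let e := ArLef.NodeAlg.e π
  let h : ArLef.NodeAlg B π := α * e - t
  have hte : t * e = p π := NodeAlgLib.te π
  obtain ⟨i, rfl⟩ : ∃ i, j = i + 1 := ⟨j - 1, by omega⟩
  have hab : (α : ArLef.NodeAlg B π) * β = 1 + p γ * p π ^ i := by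
    refine sub_eq_zero.mp (NodeAlgLib.regular_pi hπ ?_)
    have h0 : σ t * σ e = p (π + γ * π ^ (i + 1)) := by rw [← map_mul, hte, hσπ]
    simp only [p, map_add, map_mul, map_pow] at h0 hte ⊢
    rw [← hα, ← hβ] at h0
    linear_combination h0 - ((α : ArLef.NodeAlg B π) * β) * hte
  let J : Ideal (ArLef.NodeAlg B π) := Ideal.span {h, e ^ (2 * i + 1)}
  have hJt : ∀ m : ℕ, 2 * i + 1 ≤ m → e ^ m ∈ J := fun m hm => by
    obtain ⟨l, rfl⟩ := Nat.exists_eq_add_of_le hm
    rw [pow_add]; exact Ideal.mul_mem_right _ _ (Ideal.subset_span (by simp))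
  have hpi : ∀ n : ℕ, p π ^ n - (α : ArLef.NodeAlg B π) ^ n * e ^ (2 * n) ∈ Ideal.span {h} := fun n => by
    rw [← hte, pow_mul, ← mul_pow, Ideal.mem_span_singleton]
    refine dvd_trans ?_ (sub_dvd_pow_sub_pow (t * e) ((α : ArLef.NodeAlg B π) * e ^ 2) n)
    exact ⟨-e, by simp only [h]; ring⟩
  have hle1 : Ideal.span {h} ≤ J := Ideal.span_mono (by simp)
  have hpiJ : p π ^ i * e ∈ J := by
    have := add_mem (Ideal.mul_mem_right e _ (hle1 (hpi i))) (Ideal.mul_mem_left J ((α : ArLef.NodeAlg B π) ^ i) (hJt _ le_rfl))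
    convert this using 1; ring
  have hI : ArLef.fixIdeal σ = J := by
    refine le_antisymm (NodeAlgLib.fixIdeal_le hπ (σ : ArLef.NodeAlg B π →+* ArLef.NodeAlg B π) _ (fun b => ?_) ?_ ?_) ?_
    · show σ (p b) - p b ∈ J
      refine Ideal.span_le.mpr ?_ (hσB b)
      rintro x rfl
      show p (π ^ (i + 1)) ∈ J
      have := Ideal.mul_mem_right t J hpiJ
      convert this using 1
      rw [map_pow, pow_succ]; linear_combination (-(p π ^ i)) * hte
    · show σ t - t ∈ J
      rw [← hα]; exact Ideal.subset_span (Or.inl (by show e * (α : ArLef.NodeAlg B π) - t = α * e - t; ring))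
    · show σ e - e ∈ J
      rw [← hβ, show t * (β : ArLef.NodeAlg B π) - e = (-β) * h + p γ * (p π ^ i * e) by simp only [h]; linear_combination e * hab]
      exact add_mem (Ideal.mul_mem_left _ _ (Ideal.subset_span (by simp))) (Ideal.mul_mem_left _ _ hpiJ)
    · have hh : h ∈ ArLef.fixIdeal σ := Ideal.subset_span ⟨t, by simp only [h, t, e]; rw [← hα]; ring⟩
      refine Ideal.span_le.mpr ?_
      rintro x (rfl | rfl)
      · exact hh
      · have he' : σ e - e ∈ ArLef.fixIdeal σ := Ideal.subset_span ⟨e, rfl⟩
        have h1 : p γ * (p π ^ i * e) ∈ ArLef.fixIdeal σ := by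
          rw [show p γ * (p π ^ i * e) = (σ e - e) + (β : ArLef.NodeAlg B π) * h by rw [← hβ]; simp only [h]; linear_combination (-e) * hab]
          exact add_mem he' (Ideal.mul_mem_left _ _ hh)
        rw [Ideal.unit_mul_mem_iff_mem _ (hγ.map p)] at h1
        have h2 := sub_mem h1 (Ideal.mul_mem_right e _ ((Ideal.span_singleton_le_iff_mem _).mpr hh (hpi i)))
        rw [show p π ^ i * e - (p π ^ i - (α : ArLef.NodeAlg B π) ^ i * e ^ (2 * i)) * e = (α : ArLef.NodeAlg B π) ^ i * e ^ (2 * i + 1) by ring,
          Ideal.unit_mul_mem_iff_mem _ (α.isUnit.pow i)] at h2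
        exact h2
  have hnd : ¬ e ∣ h := fun hd => NodeAlgLib.not_e_dvd_t hπ (by
    have := dvd_sub (dvd_mul_left e (α : ArLef.NodeAlg B π)) hd
    simpa [h] using this)
  refine ⟨fun g hg => ?_, ?_⟩
  · rw [hI, Ideal.span_le] at hg
    obtain ⟨a, ha⟩ := Ideal.mem_span_singleton.mp (hg (Or.inl rfl : h ∈ ({h, e ^ (2 * i + 1)} : Set _)))
    obtain ⟨c, hc⟩ := Ideal.mem_span_singleton.mp (hg (Or.inr rfl : e ^ (2 * i + 1) ∈ ({h, e ^ (2 * i + 1)} : Set _)))
    have key : ∀ m c, g * c = e ^ m → IsUnit g := by
      intro m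
      induction m with
      | zero => intro c hc; exact IsUnit.of_mul_eq_one _ (by simpa using hc)
      | succ m ih =>
        intro c hc
        obtain ⟨c', rfl⟩ := ((NodeAlgLib.prime_e hπ).dvd_or_dvd ⟨e ^ m, by rw [hc, pow_succ']⟩).resolve_left fun hd =>
          hnd (ha ▸ hd.mul_right a)
        exact ih c' (sub_eq_zero.mp (NodeAlgLib.regular_e hπ (by linear_combination hc)))
    exact key _ c hc.symm
  · rw [hI]
    let Q := ArLef.NodeAlg B π ⧸ Ideal.span {h}
    have key : ∀ m : ℕ, Module.length (ArLef.NodeAlg B π) (ArLef.NodeAlg B π ⧸ Ideal.span {h, e ^ m}) = (m : ℕ∞) := by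
      intro m
      induction m with
      | zero =>
        rw [Nat.cast_zero, Module.length_eq_zero_iff, Ideal.Quotient.subsingleton_iff, Ideal.eq_top_iff_one]
        exact Ideal.subset_span (by simp)
      | succ m ih =>
        let K : ℕ → Ideal (ArLef.NodeAlg B π) := fun n => Ideal.span {h, e ^ n}
        have hle : K (m + 1) ≤ K m := Ideal.span_le.mpr (by
          rintro x (rfl | rfl)
          · exact Ideal.subset_span (by simp)
          · rw [pow_succ]; exact Ideal.mul_mem_right _ _ (Ideal.subset_span (by simp)))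
        have hmap : K 1 ≤ LinearMap.ker (((K (m + 1)).mkQ : ArLef.NodeAlg B π →ₗ[ArLef.NodeAlg B π] _) ∘ₗ LinearMap.mulLeft _ (e ^ m)) := by
          refine Ideal.span_le.mpr ?_
          rintro x (rfl | rfl) <;> refine (Submodule.Quotient.mk_eq_zero _).mpr ?_ <;> rw [LinearMap.mulLeft_apply]
          · exact Ideal.mul_mem_left _ _ (Ideal.subset_span (by simp))
          · rw [pow_one, ← pow_succ]; exact Ideal.subset_span (by simp)
        let f : (ArLef.NodeAlg B π ⧸ K 1) →ₗ[ArLef.NodeAlg B π] (ArLef.NodeAlg B π ⧸ K (m + 1)) := (K 1).liftQ _ hmap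
        let g : (ArLef.NodeAlg B π ⧸ K (m + 1)) →ₗ[ArLef.NodeAlg B π] (ArLef.NodeAlg B π ⧸ K m) := Submodule.factor hle
        have hf : Function.Injective f := by
          rw [injective_iff_map_eq_zero]
          intro z hz
          obtain ⟨z, rfl⟩ := Submodule.Quotient.mk_surjective _ z
          replace hz : e ^ m * z ∈ K (m + 1) := (Submodule.Quotient.mk_eq_zero _).mp hz
          obtain ⟨a, b, hab⟩ := Ideal.mem_span_pair.mp hz
          rw [Submodule.Quotient.mk_eq_zero, Ideal.mem_span_pair]
          have aux : ∀ l a, a * h = e ^ l * (z - b * e) → ∃ a', a' * h + b * e ^ 1 = z := by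
            intro l
            induction l with
            | zero => intro a h1; exact ⟨a, by linear_combination h1⟩
            | succ l ihl =>
              intro a h1
              obtain ⟨a', rfl⟩ := ((NodeAlgLib.prime_e hπ).dvd_or_dvd ⟨e ^ l * (z - b * e), by rw [h1, pow_succ']; ring⟩).resolve_right hnd
              exact ihl a' (sub_eq_zero.mp (NodeAlgLib.regular_e hπ (by linear_combination h1)))
          obtain ⟨a', ha'⟩ := aux m a (by linear_combination hab)
          exact ⟨a', b, ha'⟩
        have hg : Function.Surjective g := Submodule.factor_surjective hle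
        have hex : Function.Exact f g := fun z => by
          obtain ⟨z, rfl⟩ := Submodule.Quotient.mk_surjective _ z
          constructor
          · intro hz
            replace hz : z ∈ K m := (Submodule.Quotient.mk_eq_zero _).mp hz
            obtain ⟨a, b, hab⟩ := Ideal.mem_span_pair.mp hz
            refine ⟨Submodule.Quotient.mk b, ?_⟩
            show Submodule.Quotient.mk (e ^ m * b) = Submodule.Quotient.mk z
            rw [Submodule.Quotient.eq]
            exact Ideal.mem_span_pair.mpr ⟨-a, 0, by linear_combination -hab⟩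
          · rintro ⟨w, hw⟩
            obtain ⟨w, rfl⟩ := Submodule.Quotient.mk_surjective _ w
            rw [← hw]
            show Submodule.Quotient.mk (e ^ m * w) = 0
            exact (Submodule.Quotient.mk_eq_zero _).mpr (Ideal.mul_mem_right _ _ (Ideal.subset_span (by simp)))
        rw [Module.length_eq_add_of_exact f g hf hg hex, ih]
        have hK1 : K 1 = IsLocalRing.maximalIdeal _ := by
          ext z
          rw [IsLocalRing.mem_maximalIdeal, mem_nonunits_iff, NodeAlgLib.isUnit_iff hπ, not_not]
          suffices hs : K 1 = Ideal.span {t, e} by rw [hs]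
          refine le_antisymm (Ideal.span_le.mpr ?_) (Ideal.span_le.mpr ?_)
          · rintro x (rfl | rfl)
            · exact Ideal.mem_span_pair.mpr ⟨-1, α, by simp only [h]; ring⟩
            · rw [pow_one]; exact Ideal.subset_span (by simp)
          · rintro x (rfl | rfl)
            · exact Ideal.mem_span_pair.mpr ⟨-1, α, by simp only [h]; ring⟩
            · exact Ideal.subset_span (by simp)
        rw [show Module.length (ArLef.NodeAlg B π) (ArLef.NodeAlg B π ⧸ K 1) = 1 from Module.length_eq_one_iff.mpr (by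
          rw [hK1]; exact isSimpleModule_iff_isCoatom.mpr (Ideal.isMaximal_def.mp (IsLocalRing.maximalIdeal.isMaximal _)))]
        push_cast; ring
    rw [key]
    congr 1

end Groth.Agent.S15320
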