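import Groth.Statements.S15322
import Mathlib

set_option autoImplicit false
universe u
open CategoryTheory AlgebraicGeometry
open ArLef

namespace Groth.Agent.S15322

open AlgebraicGeometry CategoryTheory

/-- Let f : D → C be a morphism, τ an automorphism of C and σ an automorphism of D with σ f = f τ; call
σ a good lifting of τ when the fixed-point scheme of σ is the full preimage of that of τ, i.e. every
morphism z : Z → D with z f τ = z f has z σ = z. If f is etale, separated and surjective with D
connected and the fixed-point scheme of τ is non-empty (some point of C, with its residue field, is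
fixed by τ), then τ has at most one good lifting. (The published statement is for a finite etale
cover of smooth projective irreducible curves over a field and a non-trivial τ; the argument uses
only the hypotheses stated here.) -/
theorem result {C D : Scheme.{u}} (f : D ⟶ C) [Etale f] [IsSeparated f] [Surjective f]
    [ConnectedSpace D] (τ : C ≅ C) (σ σ' : D ≅ D)
    (hσ : σ.hom ≫ f = f ≫ τ.hom) (hσ' : σ'.hom ≫ f = f ≫ τ.hom)
    (good : ∀ (Z : Scheme.{u}) (z : Z ⟶ D), z ≫ f ≫ τ.hom = z ≫ f → z ≫ σ.hom = z)
    (good' : ∀ (Z : Scheme.{u}) (z : Z ⟶ D), z ≫ f ≫ τ.hom = z ≫ f → z ≫ σ'.hom = z)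
    (x : C) (hx : C.fromSpecResidueField x ≫ τ.hom = C.fromSpecResidueField x) :
    σ = σ' := by
  obtain ⟨d, hd⟩ := f.surjective x
  have hz : D.fromSpecResidueField d ≫ f ≫ τ.hom = D.fromSpecResidueField d ≫ f := by
    subst hd
    rw [← Category.assoc, ← Scheme.Hom.SpecMap_residueFieldMap_fromSpecResidueField, Category.assoc, hx]
  have h1 := good _ _ hz
  have h2 := good' _ _ hz
  let l : D ⟶ Limits.pullback f f := Limits.pullback.lift σ.hom σ'.hom (hσ.trans hσ'.symm)
  haveI : IsOpenImmersion (Limits.pullback.diagonal f) := inferInstance
  haveI : IsClosedImmersion (Limits.pullback.diagonal f) := inferInstance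
  let E := Limits.pullback l (Limits.pullback.diagonal f)
  let ι : E ⟶ D := Limits.pullback.fst l (Limits.pullback.diagonal f)
  haveI : IsOpenImmersion ι := inferInstance
  haveI : IsClosedImmersion ι := inferInstance
  have heq : ι ≫ σ.hom = ι ≫ σ'.hom := by
    have h := Limits.pullback.condition (f := l) (g := Limits.pullback.diagonal f)
    have e1 := congrArg (fun q => q ≫ Limits.pullback.fst f f) h
    have e2 := congrArg (fun q => q ≫ Limits.pullback.snd f f) h
    simp only [Category.assoc, l, Limits.pullback.lift_fst, Limits.pullback.lift_snd, Limits.pullback.diagonal_fst, Limits.pullback.diagonal_snd, Category.comp_id] at e1 e2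
    exact e1.trans e2.symm
  let s : Spec (D.residueField d) ⟶ E := Limits.pullback.lift (D.fromSpecResidueField d) (D.fromSpecResidueField d) (by
    apply Limits.pullback.hom_ext
    · rw [Category.assoc, Category.assoc, show l ≫ Limits.pullback.fst f f = σ.hom from Limits.pullback.lift_fst _ _ _, Limits.pullback.diagonal_fst, Category.comp_id, h1]
    · rw [Category.assoc, Category.assoc, show l ≫ Limits.pullback.snd f f = σ'.hom from Limits.pullback.lift_snd _ _ _, Limits.pullback.diagonal_snd, Category.comp_id, h2])
  have hsι : s ≫ ι = D.fromSpecResidueField d := Limits.pullback.lift_fst _ _ _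
  have hrange : Set.range ι = Set.univ := by
    refine IsClopen.eq_univ ⟨ι.isClosedEmbedding.isClosed_range, ι.isOpenEmbedding.isOpen_range⟩ ?_
    obtain ⟨pt⟩ : Nonempty (Spec (D.residueField d)) := inferInstance
    exact ⟨_, s pt, rfl⟩
  haveI : Surjective ι := ⟨Set.range_eq_univ.1 hrange⟩
  haveI : IsIso ι := (IsOpenImmersion.isIso ι)
  exact Iso.ext ((cancel_epi ι).1 heq)

end Groth.Agent.S15322
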