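import Groth.Statements.S15323
import Mathlib
import Groth.Agent.NodeAlgLib.Basic

set_option autoImplicit false
universe u
open ArLef ArLef.NodeAlg

namespace Groth.Agent.S15323

theorem prime_regular_mod {N : Type u} [CommRing N] {p f : N} (hp : Prime p) (hreg : ∀ x, p * x = 0 → x = 0) (h : ¬ p ∣ f)
    (x : N) (hx : f ∣ p * x) : f ∣ x := by
  obtain ⟨y, hy⟩ := hx
  obtain ⟨y', rfl⟩ := (hp.dvd_or_dvd ⟨x, hy.symm⟩).resolve_left h
  exact ⟨y', sub_eq_zero.mp (hreg _ (by linear_combination hy))⟩

theorem length_pair_mul {N : Type u} [CommRing N] (f g h : N) (hg : ∀ x, f ∣ g * x → f ∣ x) :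
    Module.length N (N ⧸ Ideal.span {f, g * h}) = Module.length N (N ⧸ Ideal.span {f, g}) + Module.length N (N ⧸ Ideal.span {f, h}) := by
  have hle : Ideal.span {f, g * h} ≤ Ideal.span {f, g} := Ideal.span_le.mpr (by
    rintro x (rfl | rfl)
    · exact Ideal.subset_span (by simp)
    · exact Ideal.mul_mem_right _ _ (Ideal.subset_span (by simp)))
  have hmap : Ideal.span {f, h} ≤ LinearMap.ker (((Ideal.span {f, g * h}).mkQ : N →ₗ[N] _) ∘ₗ LinearMap.mulLeft _ g) := by
    refine Ideal.span_le.mpr ?_
    rintro x (rfl | rfl) <;> refine (Submodule.Quotient.mk_eq_zero _).mpr ?_ <;> rw [LinearMap.mulLeft_apply]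
    · exact Ideal.mul_mem_left _ _ (Ideal.subset_span (by simp))
    · exact Ideal.subset_span (by simp)
  rw [add_comm]
  refine Module.length_eq_add_of_exact ((Ideal.span {f, h}).liftQ _ hmap) (Submodule.factor hle) ?_ (Submodule.factor_surjective hle) fun z => ?_
  · rw [injective_iff_map_eq_zero]
    intro z hz
    obtain ⟨z, rfl⟩ := Submodule.Quotient.mk_surjective _ z
    replace hz : g * z ∈ Ideal.span {f, g * h} := (Submodule.Quotient.mk_eq_zero _).mp hz
    obtain ⟨a, b, hab⟩ := Ideal.mem_span_pair.mp hz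
    obtain ⟨c, hc⟩ := hg (z - b * h) ⟨a, by linear_combination -hab⟩
    exact (Submodule.Quotient.mk_eq_zero _).mpr (Ideal.mem_span_pair.mpr ⟨c, b, by linear_combination -hc⟩)
  · obtain ⟨z, rfl⟩ := Submodule.Quotient.mk_surjective _ z
    constructor
    · intro hz
      replace hz : z ∈ Ideal.span {f, g} := (Submodule.Quotient.mk_eq_zero _).mp hz
      obtain ⟨a, b, hab⟩ := Ideal.mem_span_pair.mp hz
      refine ⟨Submodule.Quotient.mk b, ?_⟩
      show Submodule.Quotient.mk (g * b) = Submodule.Quotient.mk z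
      rw [Submodule.Quotient.eq]
      exact Ideal.mem_span_pair.mpr ⟨-a, 0, by linear_combination -hab⟩
    · rintro ⟨w, hw⟩
      obtain ⟨w, rfl⟩ := Submodule.Quotient.mk_surjective _ w
      rw [← hw]
      show Submodule.Quotient.mk (g * w) = 0
      exact (Submodule.Quotient.mk_eq_zero _).mpr (Ideal.mul_mem_right _ _ (Ideal.subset_span (by simp)))


/-- In the cases where the branches through the point do not lie in the divisorial part of the fixed
locus, let B be a discrete valuation ring with uniformizer π, N = B[[t, e]]/(te - π) the complete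
local ring of a semi-stable arithmetic surface over B at a singular point x of the closed fibre, and
σ a ring automorphism of N with σ(π) = π + γ π^j (γ a unit of B, j ≥ 1) and σ(b) - b ∈ π^j N for all
b ∈ B (σ lies over an automorphism τ of B with v(τ(π) - π) = j, B totally ramified over the fixed
ring as in the published setting). Suppose σ fixes the branches, σ(t) = α t and σ(e) = β e with
units α, β, and that t does not divide β - 1 and e does not divide α - 1. Then the length of N
modulo the fixed-point ideal of σ (the multiplicity of x in the residual fixed-point scheme) is j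
(s₁ + s₂) + 1, where s₁ = length N/(t, β - 1) and s₂ = length N/(e, α - 1) are the fixed-point
multiplicities of σ at x along the two branches, each lowered by one. -/
theorem result (B : Type u) [CommRing B] [IsDomain B] [IsDiscreteValuationRing B] (π : B) (hπ : Irreducible π)
    (j : ℕ) (hj : 1 ≤ j) (γ : B) (hγ : IsUnit γ)
    (σ : ArLef.NodeAlg B π ≃+* ArLef.NodeAlg B π)
    (hσB : ∀ b : B, σ (algebraMap B (ArLef.NodeAlg B π) b) - algebraMap B (ArLef.NodeAlg B π) b ∈
      Ideal.span ({algebraMap B (ArLef.NodeAlg B π) (π ^ j)} : Set (ArLef.NodeAlg B π)))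
    (hσπ : σ (algebraMap B (ArLef.NodeAlg B π) π) = algebraMap B (ArLef.NodeAlg B π) (π + γ * π ^ j))
    (α β : (ArLef.NodeAlg B π)ˣ) (ht : σ (ArLef.NodeAlg.t π) = (α : ArLef.NodeAlg B π) * ArLef.NodeAlg.t π) (he : σ (ArLef.NodeAlg.e π) = (β : ArLef.NodeAlg B π) * ArLef.NodeAlg.e π)
    (htb : ¬ (ArLef.NodeAlg.t π ∣ (β : ArLef.NodeAlg B π) - 1)) (hea : ¬ (ArLef.NodeAlg.e π ∣ (α : ArLef.NodeAlg B π) - 1)) :
    Module.length (ArLef.NodeAlg B π) (ArLef.NodeAlg B π ⧸ ArLef.fixIdeal σ) =
      (j : ℕ∞) * (Module.length (ArLef.NodeAlg B π) (ArLef.NodeAlg B π ⧸ Ideal.span ({ArLef.NodeAlg.t π, (β : ArLef.NodeAlg B π) - 1} : Set (ArLef.NodeAlg B π))) +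
        Module.length (ArLef.NodeAlg B π) (ArLef.NodeAlg B π ⧸ Ideal.span ({ArLef.NodeAlg.e π, (α : ArLef.NodeAlg B π) - 1} : Set (ArLef.NodeAlg B π)))) + 1 := by
  classical
  haveI := NodeAlgLib.isDomain_quot hπ
  haveI := NodeAlgLib.isLocalRing hπ
  let p := algebraMap B (ArLef.NodeAlg B π)
  let t := ArLef.NodeAlg.t π
  let e := ArLef.NodeAlg.e π
  let a : ArLef.NodeAlg B π := α - 1
  let b : ArLef.NodeAlg B π := β - 1
  have hte : t * e = p π := NodeAlgLib.te π
  obtain ⟨i, rfl⟩ : ∃ i, j = i + 1 := ⟨j - 1, by omega⟩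
  have hab : (α : ArLef.NodeAlg B π) * b = p γ * p π ^ i - a := by
    refine sub_eq_zero.mp (NodeAlgLib.regular_pi hπ ?_)
    have h0 : σ t * σ e = p (π + γ * π ^ (i + 1)) := by rw [← map_mul σ, hte, hσπ]
    simp only [p, t, e, map_add, map_mul, map_pow] at h0 hte ⊢
    rw [ht, he] at h0
    simp only [a, b]
    linear_combination h0 - ((α : ArLef.NodeAlg B π) * β) * hte
  let J : Ideal (ArLef.NodeAlg B π) := Ideal.span {e * b, t * a}
  have hJ1 : e * b ∈ J := Ideal.subset_span (by simp)
  have hJ2 : t * a ∈ J := Ideal.subset_span (by simp)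
  have hpJ : p π ^ (i + 1) ∈ J := by
    rw [← Ideal.unit_mul_mem_iff_mem _ (hγ.map p)]
    have h := add_mem (Ideal.mul_mem_left J ((α : ArLef.NodeAlg B π) * t) hJ1) (Ideal.mul_mem_left J e hJ2)
    convert h using 1
    rw [pow_succ]
    linear_combination (-(t * e)) * hab + (-(p γ * p π ^ i)) * hte
  have hI : ArLef.fixIdeal σ = J := by
    refine le_antisymm (NodeAlgLib.fixIdeal_le hπ (σ : ArLef.NodeAlg B π →+* ArLef.NodeAlg B π) _ (fun c => ?_) ?_ ?_) ?_
    · show σ (p c) - p c ∈ J
      refine Ideal.span_le.mpr ?_ (hσB c)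
      rintro x rfl
      show p (π ^ (i + 1)) ∈ J
      rw [map_pow]; exact hpJ
    · show σ t - t ∈ J
      convert hJ2 using 1
      simp only [t, a]; rw [ht]; ring
    · show σ e - e ∈ J
      convert hJ1 using 1
      simp only [e, b]; rw [he]; ring
    · refine Ideal.span_le.mpr ?_
      rintro x (rfl | rfl)
      · exact Ideal.subset_span ⟨e, by simp only [e, b]; rw [he]; ring⟩
      · exact Ideal.subset_span ⟨t, by simp only [t, a]; rw [ht]; ring⟩
  have rt := fun f (h : ¬ t ∣ f) => prime_regular_mod (NodeAlgLib.prime_t hπ) (fun x => NodeAlgLib.regular_t hπ (x := x)) h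
  have re := fun f (h : ¬ e ∣ f) => prime_regular_mod (NodeAlgLib.prime_e hπ) (fun x => NodeAlgLib.regular_e hπ (x := x)) h
  have swap : ∀ u v : ArLef.NodeAlg B π, Ideal.span ({u, v} : Set _) = Ideal.span {v, u} := fun u v => by rw [Set.pair_comm]
  let L := fun u v : ArLef.NodeAlg B π => Module.length (ArLef.NodeAlg B π) (ArLef.NodeAlg B π ⧸ Ideal.span {u, v})
  have Lc : ∀ u v, L u v = L v u := fun u v => by simp only [L]; rw [swap]
  have h1 : L (e * b) (t * a) = L (e * b) t + L (e * b) a :=
    length_pair_mul _ _ _ (rt _ fun h => ((NodeAlgLib.prime_t hπ).dvd_or_dvd h).elim (NodeAlgLib.not_t_dvd_e hπ) htb)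
  have h2 : L t (e * b) = L t e + L t b := length_pair_mul _ _ _ (re _ (NodeAlgLib.not_e_dvd_t hπ))
  have h3 : L a (e * b) = L a e + L a b := length_pair_mul _ _ _ (re _ hea)
  have h4 : L t e = 1 := by
    refine Module.length_eq_one_iff.mpr (isSimpleModule_iff_isCoatom.mpr (Ideal.isMaximal_def.mp ?_))
    rw [show Ideal.span {t, e} = IsLocalRing.maximalIdeal (ArLef.NodeAlg B π) from Ideal.ext fun z => by
      rw [IsLocalRing.mem_maximalIdeal, mem_nonunits_iff, NodeAlgLib.isUnit_iff hπ, not_not]]
    exact IsLocalRing.maximalIdeal.isMaximal _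
  have h5 : L a b = L a (p π ^ i) := by
    have e5 : Ideal.span {a, b} = Ideal.span {a, p π ^ i} := by
      refine le_antisymm (Ideal.span_le.mpr ?_) (Ideal.span_le.mpr ?_)
      · rintro x (rfl | rfl)
        · exact Ideal.subset_span (by simp)
        · rw [SetLike.mem_coe, ← Ideal.unit_mul_mem_iff_mem _ α.isUnit, hab]
          exact sub_mem (Ideal.mul_mem_left _ _ (Ideal.subset_span (by simp))) (Ideal.subset_span (by simp))
      · rintro x (rfl | rfl)
        · exact Ideal.subset_span (by simp)
        · rw [SetLike.mem_coe, ← Ideal.unit_mul_mem_iff_mem _ (hγ.map p), show p γ * p π ^ i = (α : ArLef.NodeAlg B π) * b + a by rw [hab]; ring]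
          exact add_mem (Ideal.mul_mem_left _ _ (Ideal.subset_span (by simp))) (Ideal.subset_span (by simp))
    simp only [L]; rw [e5]
  have h6 : L a (p π ^ i) = (i : ℕ∞) * (L t b + L a e) := by
    rcases Nat.eq_zero_or_pos i with hi | hi
    · subst hi
      simp only [pow_zero, Nat.cast_zero, zero_mul, L]
      rw [Module.length_eq_zero_iff, Ideal.Quotient.subsingleton_iff, Ideal.eq_top_iff_one]
      exact Ideal.subset_span (by simp)
    · have hpt : t ∣ p π ^ i := (dvd_mul_right t e).trans (hte ▸ dvd_pow_self _ (by omega))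
      have hta : ¬ t ∣ a := fun h => by
        have : t ∣ (α : ArLef.NodeAlg B π) * b := hab ▸ dvd_sub (hpt.mul_left _) h
        exact htb ((IsUnit.dvd_mul_left α.isUnit).mp this)
      have eab : L a t = L t b := by
        have e6 : Ideal.span {a, t} = Ideal.span {t, b} := by
          obtain ⟨w, hw⟩ := hpt
          refine le_antisymm (Ideal.span_le.mpr ?_) (Ideal.span_le.mpr ?_)
          · rintro x (rfl | rfl)
            · exact Ideal.mem_span_pair.mpr ⟨p γ * w, -α, by linear_combination (-1 : ArLef.NodeAlg B π) * hab - p γ * hw⟩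
            · exact Ideal.subset_span (by simp)
          · rintro x (rfl | rfl)
            · exact Ideal.subset_span (by simp)
            · rw [SetLike.mem_coe, ← Ideal.unit_mul_mem_iff_mem _ α.isUnit]
              exact Ideal.mem_span_pair.mpr ⟨-1, p γ * w, by linear_combination -hab - p γ * hw⟩
        simp only [L]; rw [e6]
      have key : ∀ n : ℕ, L a (p π ^ n) = (n : ℕ∞) * (L t b + L a e) := by
        intro n
        induction n with
        | zero =>
          simp only [pow_zero, Nat.cast_zero, zero_mul, L]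
          rw [Module.length_eq_zero_iff, Ideal.Quotient.subsingleton_iff, Ideal.eq_top_iff_one]
          exact Ideal.subset_span (by simp)
        | succ n ih =>
          rw [pow_succ', ← hte, mul_assoc, show L a (t * (e * (t * e) ^ n)) = L a t + L a (e * (t * e) ^ n) from length_pair_mul _ _ _ (rt _ hta),
            show L a (e * (t * e) ^ n) = L a e + L a ((t * e) ^ n) from length_pair_mul _ _ _ (re _ hea), hte, ih, eab]
          push_cast; ring
      exact key i
  rw [hI]
  show L (e * b) (t * a) = ((i + 1 : ℕ) : ℕ∞) * (L t b + L e a) + 1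
  rw [h1, Lc _ t, h2, Lc _ a, h3, h4, h5, h6, Lc e a]
  push_cast; ring

end Groth.Agent.S15323
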