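import Groth.Statements.S15325
import Mathlib
import Groth.Agent.NodeAlgLib.Basic

set_option autoImplicit false
universe u
open ArLef ArLef.NodeAlg

namespace Groth.Agent.S15325

/-- Let k be a field, A = k[[t, e]]/(te) the complete local ring of a nodal curve at a node x, and σ a
k-algebra automorphism of A fixing the two branches, σ(t) = α t and σ(e) = β e with units α, β.
Writing I for the fixed-point ideal of σ (generated by all σ(r) - r), the fixed-point multiplicity
length(A/I) of σ at x and the fixed-point multiplicities length(A/(I + (t))), length(A/(I + (e))) of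
the automorphisms induced on the two branches satisfy length(A/I) + 1 = length(A/(I + (t))) +
length(A/(I + (e))), as extended natural numbers (both sides are infinite when σ fixes a branch
pointwise). (The published setting has k algebraically closed.) -/
theorem result (k : Type u) [Field k]
    (σ : ArLef.NodeAlg k 0 ≃ₐ[k] ArLef.NodeAlg k 0) (α β : (ArLef.NodeAlg k 0)ˣ)
    (ht : σ (ArLef.NodeAlg.t (0 : k)) = (α : ArLef.NodeAlg k 0) * ArLef.NodeAlg.t (0 : k)) (he : σ (ArLef.NodeAlg.e (0 : k)) = (β : ArLef.NodeAlg k 0) * ArLef.NodeAlg.e (0 : k)) :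
    Module.length (ArLef.NodeAlg k 0) (ArLef.NodeAlg k 0 ⧸ ArLef.fixIdeal σ) + 1 =
      Module.length (ArLef.NodeAlg k 0) (ArLef.NodeAlg k 0 ⧸ (ArLef.fixIdeal σ ⊔ Ideal.span ({ArLef.NodeAlg.t (0 : k)} : Set (ArLef.NodeAlg k 0)))) +
        Module.length (ArLef.NodeAlg k 0) (ArLef.NodeAlg k 0 ⧸ (ArLef.fixIdeal σ ⊔ Ideal.span ({ArLef.NodeAlg.e (0 : k)} : Set (ArLef.NodeAlg k 0)))) := by
  classical
  let t := ArLef.NodeAlg.t (0 : k)
  let e := ArLef.NodeAlg.e (0 : k)
  have hte : t * e = 0 := (NodeAlgLib.te (0 : k)).trans (map_zero _)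
  haveI : IsDomain (k ⧸ Ideal.span {(0 : k)}) :=
    Ideal.Quotient.isDomain_iff_prime _ |>.mpr (by rw [Ideal.span_singleton_eq_bot.mpr rfl]; exact Ideal.isPrime_bot)
  haveI : Nontrivial (ArLef.NodeAlg k (0 : k)) := (NodeAlgLib.branch (0 : k) 0).domain_nontrivial
  haveI : IsLocalRing (ArLef.NodeAlg k (0 : k)) := IsLocalRing.of_surjective' (Ideal.Quotient.mk _) Ideal.Quotient.mk_surjective
  have htm : t ∈ IsLocalRing.maximalIdeal (ArLef.NodeAlg k (0 : k)) := fun h => by
    have := ((h.map (NodeAlgLib.branch (0 : k) 0)).map PowerSeries.constantCoeff)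
    simp [t, NodeAlgLib.branch_t0] at this
  have hem : e ∈ IsLocalRing.maximalIdeal (ArLef.NodeAlg k (0 : k)) := fun h => by
    have := ((h.map (NodeAlgLib.branch (0 : k) 1)).map PowerSeries.constantCoeff)
    simp [e, NodeAlgLib.branch_e1] at this
  let a' : ArLef.NodeAlg k (0 : k) := α - 1
  let b' : ArLef.NodeAlg k (0 : k) := β - 1
  let I : Ideal (ArLef.NodeAlg k (0 : k)) := Ideal.span {t * a', e * b'}
  have hIm : I ≤ IsLocalRing.maximalIdeal _ := Ideal.span_le.mpr (by
    rintro x (rfl | rfl); exacts [Ideal.mul_mem_right _ _ htm, Ideal.mul_mem_right _ _ hem])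
  have hI : ArLef.fixIdeal σ = I := by
    refine le_antisymm (Ideal.span_le.mpr ?_) (Ideal.span_le.mpr ?_)
    · rintro _ ⟨r, rfl⟩
      show σ r - r ∈ I
      refine NodeLift.mem_of_forall_sup_pow I hIm _ fun n => ?_
      induction n generalizing r with
      | zero => simp
      | succ n ih =>
        obtain ⟨b, u, v, rfl⟩ := NodeAlgLib.decomp (0 : k) r
        rw [show σ (algebraMap k _ b + t * u + e * v) - (algebraMap k _ b + t * u + e * v) =
          (t * a') * σ u + (e * b') * σ v + (t * (σ u - u) + e * (σ v - v)) by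
            simp only [map_add, map_mul, σ.commutes]; simp only [t, e, a', b'] at ht he ⊢; rw [ht, he]; ring]
        refine add_mem (Submodule.mem_sup_left (add_mem (I.mul_mem_right _ (Ideal.subset_span (by simp))) (I.mul_mem_right _ (Ideal.subset_span (by simp))))) ?_
        have hle : IsLocalRing.maximalIdeal _ * (I ⊔ IsLocalRing.maximalIdeal _ ^ n) ≤ I ⊔ IsLocalRing.maximalIdeal _ ^ (n + 1) := by
          rw [Ideal.mul_sup, pow_succ']; exact sup_le_sup_right Ideal.mul_le_right _
        exact add_mem (hle (Ideal.mul_mem_mul htm (ih u))) (hle (Ideal.mul_mem_mul hem (ih v)))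
    · rintro x (rfl | rfl)
      · exact Ideal.subset_span ⟨t, by simp only [t, a']; rw [ht]; ring⟩
      · exact Ideal.subset_span ⟨e, by simp only [e, b']; rw [he]; ring⟩
  rw [hI]
  let It := I ⊔ Ideal.span {t}
  let Ie := I ⊔ Ideal.span {e}
  let M := IsLocalRing.maximalIdeal (ArLef.NodeAlg k (0 : k))
  have hMgen : ∀ z ∈ M, ∃ p q, z = t * p + e * q := fun z hz => by
    obtain ⟨b, u, v, rfl⟩ := NodeAlgLib.decomp (0 : k) z
    by_cases hb : b = 0
    · subst hb
      exact ⟨u, v, by linear_combination map_zero (algebraMap k (ArLef.NodeAlg k (0 : k)))⟩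
    · exfalso
      have h1 := sub_mem (sub_mem hz (Ideal.mul_mem_right u M htm)) (Ideal.mul_mem_right v M hem)
      rw [show algebraMap k _ b + t * u + e * v - t * u - e * v = algebraMap k (ArLef.NodeAlg k (0 : k)) b by ring] at h1
      exact h1 ((isUnit_iff_ne_zero.mpr hb).map _)
  have hle1 : It ≤ M := sup_le hIm ((Ideal.span_singleton_le_iff_mem _).mpr htm)
  have hle2 : Ie ≤ M := sup_le hIm ((Ideal.span_singleton_le_iff_mem _).mpr hem)
  let f : (ArLef.NodeAlg k (0 : k) ⧸ I) →ₗ[ArLef.NodeAlg k (0 : k)] (ArLef.NodeAlg k (0 : k) ⧸ It) × (ArLef.NodeAlg k (0 : k) ⧸ Ie) :=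
    (Submodule.factor (le_sup_left : I ≤ It)).prod (Submodule.factor (le_sup_left : I ≤ Ie))
  let g : (ArLef.NodeAlg k (0 : k) ⧸ It) × (ArLef.NodeAlg k (0 : k) ⧸ Ie) →ₗ[ArLef.NodeAlg k (0 : k)] (ArLef.NodeAlg k (0 : k) ⧸ M) :=
    (Submodule.factor hle1).comp (LinearMap.fst _ _ _) - (Submodule.factor hle2).comp (LinearMap.snd _ _ _)
  have hg : Function.Surjective g := fun z => by
    obtain ⟨z, rfl⟩ := Submodule.Quotient.mk_surjective _ z
    exact ⟨(Submodule.Quotient.mk z, 0), by simp [g]⟩
  have hf : Function.Injective f := by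
    rw [injective_iff_map_eq_zero]
    intro z hz
    obtain ⟨z, rfl⟩ := Submodule.Quotient.mk_surjective _ z
    obtain ⟨h1, h2⟩ := Prod.ext_iff.mp hz
    replace h1 : z ∈ It := (Submodule.Quotient.mk_eq_zero _).mp h1
    replace h2 : z ∈ Ie := (Submodule.Quotient.mk_eq_zero _).mp h2
    obtain ⟨i, hi, _, hy, rfl⟩ := Submodule.mem_sup.mp h1
    obtain ⟨a, rfl⟩ := Ideal.mem_span_singleton.mp hy
    obtain ⟨i', hi', _, hy', hz'⟩ := Submodule.mem_sup.mp h2
    obtain ⟨b, rfl⟩ := Ideal.mem_span_singleton.mp hy'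
    obtain ⟨u, v, huv⟩ := Ideal.mem_span_pair.mp (sub_mem hi' hi)
    refine (Submodule.Quotient.mk_eq_zero _).mpr (add_mem hi ?_)
    have h0 : e * (b + v * b') = t * (a - u * a') := by linear_combination hz' + huv
    obtain ⟨c, hc⟩ : t ∣ b + v * b' := by
      have h' := congrArg (NodeAlgLib.branch (0 : k) 1) h0
      simp only [map_mul, t, e, NodeAlgLib.branch_t1, NodeAlgLib.branch_e1, zero_mul] at h'
      exact (NodeAlgLib.t_dvd_iff (0 : k)).mpr ((mul_eq_zero.mp h').resolve_left PowerSeries.X_ne_zero)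
    rw [hc] at h0
    rw [show t * a = u * (t * a') by linear_combination c * hte - h0]
    exact Ideal.mul_mem_left _ _ (Ideal.subset_span (by simp))
  have hex : Function.Exact f g := fun z => by
    obtain ⟨x, y⟩ := z
    obtain ⟨x, rfl⟩ := Submodule.Quotient.mk_surjective _ x
    obtain ⟨y, rfl⟩ := Submodule.Quotient.mk_surjective _ y
    constructor
    · intro hz
      have hz' : x - y ∈ M := (Submodule.Quotient.mk_eq_zero _).mp hz
      obtain ⟨p, q, hpq⟩ := hMgen _ hz'
      refine ⟨Submodule.Quotient.mk (x - t * p), Prod.ext ?_ ?_⟩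
      · show Submodule.Quotient.mk _ = Submodule.Quotient.mk x
        rw [Submodule.Quotient.eq]
        exact Submodule.mem_sup_right (Ideal.mem_span_singleton.mpr ⟨-p, by rw [LinearMap.id_apply]; ring⟩)
      · show Submodule.Quotient.mk _ = Submodule.Quotient.mk y
        rw [Submodule.Quotient.eq]
        exact Submodule.mem_sup_right (Ideal.mem_span_singleton.mpr ⟨q, by rw [LinearMap.id_apply]; linear_combination hpq⟩)
    · rintro ⟨w, hw⟩
      obtain ⟨w, rfl⟩ := Submodule.Quotient.mk_surjective _ w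
      rw [← hw]
      exact sub_self (Submodule.Quotient.mk (p := M) w)
  have h := Module.length_eq_add_of_exact f g hf hg hex
  rw [Module.length_prod, show Module.length (ArLef.NodeAlg k (0 : k)) (ArLef.NodeAlg k (0 : k) ⧸ M) = 1 from
    Module.length_eq_one_iff.mpr (isSimpleModule_iff_isCoatom.mpr (Ideal.isMaximal_def.mp (IsLocalRing.maximalIdeal.isMaximal _)))] at h
  exact h.symm

end Groth.Agent.S15325
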