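import Groth.Statements.S15326
import Mathlib
import Groth.Agent.NodeAlgLib.Length

set_option autoImplicit false
universe u
open ArLef

namespace Groth.Agent.S15326

/-- Let A be a commutative ring, t an element generating a prime ideal (a local equation of an
irreducible component C of the closed fibre), v an element outside (t) with π = vt the uniformizer,
and σ a ring automorphism of A with σ(vt) = vt whose fixed-point ideal is contained in (t^i) for
some i ≥ 1 (C has multiplicity at least i in the fixed locus). Then σ(t) - t lies in t^(i+1) A_(t),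
the localization at the prime (t): σ - 1 vanishes on (t)/(t^(i+1)) at the generic point of C. -/
theorem result (A : Type u) [CommRing A] (t v : A)
    [ht : (Ideal.span ({t} : Set A)).IsPrime] (hv : v ∉ Ideal.span ({t} : Set A))
    (σ : A ≃+* A) (hσ : σ (v * t) = v * t) (i : ℕ) (hi : 1 ≤ i)
    (hI : ArLef.fixIdeal σ ≤ Ideal.span ({t ^ i} : Set A)) :
    algebraMap A (Localization.AtPrime (Ideal.span ({t} : Set A))) (σ t - t) ∈
      Ideal.span ({algebraMap A (Localization.AtPrime (Ideal.span ({t} : Set A))) (t ^ (i + 1))} :
        Set (Localization.AtPrime (Ideal.span ({t} : Set A)))) := by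
  classical
  obtain ⟨a, ha⟩ := Ideal.mem_span_singleton.mp (hI (Ideal.subset_span ⟨v, rfl⟩))
  obtain ⟨b, hb⟩ := Ideal.mem_span_singleton.mp (hI (Ideal.subset_span ⟨t, rfl⟩))
  have h1 : t ^ i * (a * t + b * (v + t ^ i * a)) = 0 := by
    simp only at ha hb
    rw [map_mul] at hσ
    linear_combination hσ - σ t * ha - (v + t ^ i * a) * hb
  have hmem : v + t ^ i * a ∈ (Ideal.span ({t} : Set A)).primeCompl := fun h => hv (by
    have h' := sub_mem h (Ideal.mul_mem_right a _ (Ideal.pow_mem_of_mem (Ideal.span ({t} : Set A)) (Ideal.subset_span rfl) i (by omega)))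
    rwa [add_sub_cancel_right] at h')
  have hu : IsUnit (algebraMap A (Localization.AtPrime (Ideal.span ({t} : Set A))) (v + t ^ i * a)) :=
    IsLocalization.map_units (M := (Ideal.span ({t} : Set A)).primeCompl) (Localization.AtPrime (Ideal.span ({t} : Set A))) ⟨v + t ^ i * a, hmem⟩
  rw [← Ideal.unit_mul_mem_iff_mem _ hu, ← map_mul, Ideal.mem_span_singleton]
  exact map_dvd _ ⟨-a, by simp only at hb; linear_combination (v + t ^ i * a) * hb + h1⟩

end Groth.Agent.S15326
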