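import Groth.Statements.S15327
import Mathlib.LinearAlgebra.Matrix.ToLinearEquiv
import Mathlib.Tactic.Ring

set_option autoImplicit false
open ArLef ArLef.BlowupGraph

namespace Groth.Agent.S15327

open ArLef ArLef.BlowupGraph

variable {n : ℕ} (G : BlowupGraph n)

/-- Strict transforms in terms of total transforms. -/
def strictMat : Matrix (Fin n) (Fin n) ℚ :=
  fun i k => (if i = k then 1 else 0) - (if i ∈ G.par k then 1 else 0)

def totalMat : Matrix (Fin n) (Fin n) ℚ := fun k i => (G.tt k i : ℚ)

theorem tt_eq (k m : Fin n) :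
    G.tt k m = if m < k then 0 else if m = k then 1 else ∑ p ∈ G.par m, G.tt k p := by
  have hpar : G.parN m.1 = (G.par m).map Fin.valEmbedding := by
    rw [parN, dif_pos m.2]
  rw [tt, ttN]
  simp only [Fin.lt_def, Fin.ext_iff]
  split_ifs
  · rfl
  · rfl
  · rw [Finset.sum_attach (G.parN m.1) (fun p => G.ttN k.1 p), hpar, Finset.sum_map]
    rfl

theorem tt_of_lt {k m : Fin n} (h : m < k) : G.tt k m = 0 := by
  rw [tt_eq, if_pos h]

theorem total_mul_strict : totalMat G * strictMat G = 1 := by
  ext k m
  simp only [Matrix.mul_apply, totalMat, strictMat, mul_sub, mul_ite, mul_one, mul_zero,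
    Finset.sum_sub_distrib, Finset.sum_ite_eq', Finset.mem_univ, if_true]
  rw [← Finset.sum_filter, Finset.filter_mem_eq_inter, Finset.univ_inter, Matrix.one_apply]
  rcases lt_trichotomy m k with h | h | h
  · rw [if_neg h.ne', tt_of_lt G h, Finset.sum_eq_zero fun p hp => by
      rw [tt_of_lt G ((G.par_lt m p hp).trans h)]; rfl]
    simp
  · subst h
    rw [if_pos rfl, tt_eq, if_neg (lt_irrefl _), if_pos rfl, Finset.sum_eq_zero fun p hp => by
      rw [tt_of_lt G (G.par_lt m p hp)]; rfl]
    simp
  · rw [if_neg h.ne, tt_eq, if_neg (not_lt.mpr h.le), if_neg h.ne']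
    simp

theorem eq_pair_of_mem {i j m : Fin n} (hij : i ≠ j) (hi : i ∈ G.par m) (hj : j ∈ G.par m) :
    G.par m = {i, j} := by
  refine (Finset.eq_of_subset_of_card_le ?_ ?_).symm
  · intro x hx
    simp only [Finset.mem_insert, Finset.mem_singleton] at hx
    rcases hx with rfl | rfl <;> assumption
  · rw [Finset.card_pair hij]
    exact G.card_le_two m

theorem card_meet {i j : Fin n} (hij : i < j) :
    ((Finset.univ.filter fun m => i ∈ G.par m ∧ j ∈ G.par m).card : ℚ) =
      (if i ∈ G.par j then 1 else 0) - (if G.Adj i j then 1 else 0) := by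
  have hnot : j ∉ G.par i := fun h => lt_asymm hij (G.par_lt i j h)
  have hA : G.Adj i j ↔ i ∈ G.par j ∧ ∀ m, j < m → G.par m ≠ {i, j} := by
    simp [Adj, hnot]
  have huniq : ∀ m m', (i ∈ G.par m ∧ j ∈ G.par m) → (i ∈ G.par m' ∧ j ∈ G.par m') → m ≤ m' := by
    intro m m' hm hm'
    by_contra hlt
    exact (G.meet_of_two m i j hm.1 hm.2 hij).2 m' (G.par_lt m' j hm'.2) (not_le.mp hlt)
      (eq_pair_of_mem G hij.ne hm'.1 hm'.2)
  by_cases h : ∃ m, i ∈ G.par m ∧ j ∈ G.par m
  · obtain ⟨m, hm⟩ := h
    have h1 := (G.meet_of_two m i j hm.1 hm.2 hij).1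
    have h2 : ¬ G.Adj i j := fun ha =>
      (hA.mp ha).2 m (G.par_lt m j hm.2) (eq_pair_of_mem G hij.ne hm.1 hm.2)
    have h3 : (Finset.univ.filter fun m => i ∈ G.par m ∧ j ∈ G.par m) = {m} := by
      ext m'
      simp only [Finset.mem_filter, Finset.mem_univ, true_and, Finset.mem_singleton]
      exact ⟨fun hm' => le_antisymm (huniq _ _ hm' hm) (huniq _ _ hm hm'), fun e => e ▸ hm⟩
    rw [h3, if_pos h1, if_neg h2]
    simp
  · have h3 : (Finset.univ.filter fun m => i ∈ G.par m ∧ j ∈ G.par m) = ∅ :=
      Finset.filter_eq_empty_iff.mpr fun m _ hm => h ⟨m, hm⟩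
    rw [h3]
    by_cases h1 : i ∈ G.par j
    · rw [if_pos h1, if_pos (hA.mpr ⟨h1, fun m _ he => h ⟨m, by simp [he], by simp [he]⟩⟩)]
      simp
    · rw [if_neg h1, if_neg fun ha => h1 (hA.mp ha).1]
      simp

theorem adj_comm (i j : Fin n) : G.Adj i j ↔ G.Adj j i := Or.comm

theorem mat_eq : G.mat = -(strictMat G * (strictMat G).transpose) := by
  ext i j
  have expand : (strictMat G * (strictMat G).transpose) i j =
      (if i = j then 1 else 0) - (if i ∈ G.par j then 1 else 0) - (if j ∈ G.par i then 1 else 0)
        + ((Finset.univ.filter fun m => i ∈ G.par m ∧ j ∈ G.par m).card : ℚ) := by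
    simp only [Matrix.mul_apply, Matrix.transpose_apply, strictMat]
    rw [Finset.sum_congr rfl fun x _ => show
      ((if i = x then (1:ℚ) else 0) - (if i ∈ G.par x then 1 else 0)) *
        ((if j = x then (1:ℚ) else 0) - (if j ∈ G.par x then 1 else 0)) =
      (if i = x then (if j = x then (1:ℚ) else 0) else 0) -
        (if i = x then (if j ∈ G.par x then (1:ℚ) else 0) else 0) -
        (if j = x then (if i ∈ G.par x then (1:ℚ) else 0) else 0) +
        (if i ∈ G.par x ∧ j ∈ G.par x then (1:ℚ) else 0) by split_ifs <;> simp_all]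
    simp only [Finset.sum_add_distrib, Finset.sum_sub_distrib, Finset.sum_ite_eq, Finset.mem_univ,
      if_true, Finset.sum_boole]
    simp only [eq_comm]
    ring
  rw [Matrix.neg_apply, expand, mat]
  rcases lt_trichotomy i j with h | h | h
  · have hnot : j ∉ G.par i := fun h' => lt_asymm h (G.par_lt i j h')
    rw [if_neg h.ne, if_neg h.ne, card_meet G h, if_neg hnot]
    ring
  · subst h
    have hnot : i ∉ G.par i := fun h' => lt_irrefl _ (G.par_lt i i h')
    rw [if_pos rfl, if_pos rfl, if_neg hnot, selfInt]
    simp only [and_self]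
    push_cast
    ring
  · have hnot : i ∉ G.par j := fun h' => lt_asymm h (G.par_lt j i h')
    have hc : (Finset.univ.filter fun m => i ∈ G.par m ∧ j ∈ G.par m) =
        (Finset.univ.filter fun m => j ∈ G.par m ∧ i ∈ G.par m) := by
      simp only [and_comm]
    rw [if_neg h.ne', if_neg h.ne', hc, card_meet G h, if_neg hnot]
    simp only [adj_comm G i j]
    ring

theorem mult_matrix : (Matrix.of fun i j => (G.mult i j : ℚ)) = (totalMat G).transpose * totalMat G := by
  ext i j
  simp [Matrix.mul_apply, mult, totalMat]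

theorem mat_mul_mult : G.mat * (Matrix.of fun i j => (G.mult i j : ℚ)) = -1 := by
  have h1 : (strictMat G).transpose * (totalMat G).transpose = 1 := by
    rw [← Matrix.transpose_mul, total_mul_strict, Matrix.transpose_one]
  rw [mult_matrix, mat_eq, Matrix.neg_mul, Matrix.mul_assoc, ← Matrix.mul_assoc (strictMat G).transpose,
    h1, Matrix.one_mul, mul_eq_one_comm.mp (total_mul_strict G)]

theorem isUnit_det_sub (I : Finset (Fin n)) :
    IsUnit (G.mat.submatrix (fun x : I => x.1) (fun x : I => x.1)).det := by
  rw [isUnit_iff_ne_zero]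
  intro hdet
  obtain ⟨x, hx0, hx⟩ := Matrix.exists_mulVec_eq_zero_iff.mpr hdet
  apply hx0
  let y : Fin n → ℚ := fun k => ∑ a : I, x a * strictMat G a.1 k
  have hyy : ∑ k, y k * y k = 0 := by
    have : ∑ a : I, x a * ((G.mat.submatrix (fun x : I => x.1) (fun x : I => x.1)).mulVec x) a = 0 := by
      simp [hx]
    rw [← neg_eq_zero]
    refine Eq.trans ?_ this
    simp only [y, Matrix.mulVec, dotProduct, Matrix.submatrix_apply, mat_eq, Matrix.neg_apply,
      Matrix.mul_apply, Matrix.transpose_apply, neg_mul, Finset.sum_neg_distrib, mul_neg,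
      Finset.sum_mul, Finset.mul_sum]
    congr 1
    rw [Finset.sum_comm]
    refine Finset.sum_congr rfl fun a _ => ?_
    rw [Finset.sum_comm]
    refine Finset.sum_congr rfl fun b _ => Finset.sum_congr rfl fun k _ => ?_
    ring
  have hy : ∀ k, y k = 0 := fun k => by
    have := (Finset.sum_eq_zero_iff_of_nonneg fun k _ => mul_self_nonneg (y k)).mp hyy k (Finset.mem_univ _)
    exact mul_self_eq_zero.mp this
  funext b
  have h2 : ∑ k, y k * totalMat G k b.1 = x b := by
    simp only [y, Finset.sum_mul]
    rw [Finset.sum_comm]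
    simp only [mul_assoc, ← Finset.mul_sum, ← Matrix.mul_apply,
      mul_eq_one_comm.mp (total_mul_strict G), Matrix.one_apply]
    rw [Finset.sum_eq_single b]
    · simp
    · intro a _ ha
      simp [Subtype.coe_injective.ne ha]
    · simp
  rw [← h2]
  simp [hy]

theorem sum_pairing_mult (I : Finset (Fin n)) (a i : Fin n) (ha : a ∉ I) (hi : i ∉ I) :
    ∑ j ∈ Finset.univ.filter (fun j => j ∉ I), G.pairing I a j * (G.mult j i : ℚ) =
      -(if a = i then 1 else 0) := by
  let μ : Fin n → ℚ := fun j => (G.mult j i : ℚ)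
  let K := G.mat.submatrix (fun x : I => x.1) (fun x : I => x.1)
  have key : ∀ r : Fin n, ∑ j ∈ Finset.univ.filter (fun j => j ∉ I), G.mat r j * μ j =
      -(if r = i then 1 else 0) - ∑ c : I, G.mat r c.1 * μ c.1 := by
    intro r
    have h := congrFun (congrFun (mat_mul_mult G) r) i
    simp only [Matrix.mul_apply, Matrix.of_apply, Matrix.neg_apply, Matrix.one_apply] at h
    rw [eq_sub_iff_add_eq, ← h, Finset.univ_eq_attach, Finset.sum_attach I (fun c => G.mat r c * μ c)]
    rw [show Finset.univ.filter (fun j => j ∉ I) = Iᶜ by ext; simp]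
    exact Finset.sum_compl_add_sum I _
  have hK : K⁻¹ * K = 1 := Matrix.nonsing_inv_mul _ (isUnit_det_sub G I)
  have expand : ∑ j ∈ Finset.univ.filter (fun j => j ∉ I), G.pairing I a j * (G.mult j i : ℚ) =
      (∑ j ∈ Finset.univ.filter (fun j => j ∉ I), G.mat a j * μ j) -
        ∑ a' : I, ∑ b : I, G.mat a a'.1 * K⁻¹ a' b *
          ∑ j ∈ Finset.univ.filter (fun j => j ∉ I), G.mat b.1 j * μ j := by
    simp only [pairing, sub_mul, Finset.sum_sub_distrib, Finset.sum_mul, Finset.mul_sum, μ, K]
    congr 1
    rw [Finset.sum_comm]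
    refine Finset.sum_congr rfl fun a' _ => ?_
    rw [Finset.sum_comm]
    exact Finset.sum_congr rfl fun b _ => Finset.sum_congr rfl fun j _ => by ring
  rw [expand, key]
  have h2 : ∀ a' : I, ∑ b : I, G.mat a a'.1 * K⁻¹ a' b *
      ∑ j ∈ Finset.univ.filter (fun j => j ∉ I), G.mat b.1 j * μ j = -(G.mat a a'.1 * μ a'.1) := by
    intro a'
    calc _ = ∑ b : I, ∑ c : I, -(G.mat a a'.1 * (K⁻¹ a' b * K b c) * μ c.1) := by
          refine Finset.sum_congr rfl fun b _ => ?_
          rw [key, if_neg (fun e : b.1 = i => hi (e ▸ b.2)), neg_zero, zero_sub, mul_neg,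
            Finset.mul_sum, Finset.sum_neg_distrib]
          exact congrArg Neg.neg (Finset.sum_congr rfl fun c _ => by simp only [K, Matrix.submatrix_apply]; ring)
      _ = -∑ c : I, G.mat a a'.1 * (K⁻¹ * K) a' c * μ c.1 := by
          rw [Finset.sum_comm, ← Finset.sum_neg_distrib]
          refine Finset.sum_congr rfl fun c _ => ?_
          rw [Matrix.mul_apply, Finset.mul_sum, Finset.sum_mul, Finset.sum_neg_distrib]
      _ = _ := by
          rw [hK]
          simp [Matrix.one_apply]
  rw [Finset.sum_congr rfl fun a' _ => h2 a', Finset.sum_neg_distrib]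
  ring

/-- Let Φ be the labelled dual graph of the exceptional curves of n successive blow-ups of closed points
starting from a regular surface with algebraically closed residue fields (vertices = exceptional
curves in order of creation, labels = intersection numbers), I any set of vertices (the curves
contracted to a normal surface) and σ a permutation of the vertices preserving all intersection
numbers and the set I. Let e_{ij} be the multiplicity of E_i × E_j in the fibre square of the
composite blow-down (the sum over k of c^k_i c^k_j, c^k the total transform of the k-th exceptional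
curve) and (E_i · E_j)_I Mumford's rational intersection number of the images after contracting I.
Then the sum over i, j outside I of e_{ij} (σ E_i · E_j)_I equals minus the number of σ-fixed
vertices outside I. (Stated for the dual graphs realized with all residue fields equal to the base
field, which is the case the published argument realizes geometrically.) -/
theorem result (n : ℕ) (G : ArLef.BlowupGraph n) (I : Finset (Fin n))
    (σ : Equiv.Perm (Fin n)) (hσ : ∀ i j : Fin n, G.mat (σ i) (σ j) = G.mat i j)
    (hσI : ∀ i : Fin n, σ i ∈ I ↔ i ∈ I) :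
    G.lNum I σ = ArLef.BlowupGraph.rNum I σ := by
  rw [lNum, rNum]
  have hmult : ∀ i j, G.mult i j = G.mult j i := fun i j =>
    Finset.sum_congr rfl fun k _ => mul_comm _ _
  trans ∑ i ∈ Finset.univ.filter (fun i => i ∉ I), -(if σ i = i then (1:ℚ) else 0)
  · refine Finset.sum_congr rfl fun i hi => ?_
    have hi' : i ∉ I := (Finset.mem_filter.mp hi).2
    rw [← sum_pairing_mult G I (σ i) i (fun h => hi' ((hσI i).mp h)) hi']
    exact Finset.sum_congr rfl fun j _ => by rw [hmult i j, mul_comm]
  rw [Finset.sum_neg_distrib, Finset.sum_boole, Finset.filter_filter]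

end Groth.Agent.S15327
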