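import Groth.Statements.S15329
import Mathlib
-- import your own Groth.Agent.* helpers here

set_option autoImplicit false
open TensorProduct LaurentPolynomial
universe u v
open CAlg

namespace Groth.Agent.S15329

/-- Let k be a field, E a k-vector space and F an increasing ℤ-indexed filtration of E by subspaces. In
E[T, T⁻¹] = k[T, T⁻¹] ⊗ E the Rees module of (E, F) is the k-span of the elements T^n ⊗ v with v ∈ F
n; it is the module of global sections of the equivariant bundle on the affine line attached to (E,
F), and E[T, T⁻¹] that of its sections away from the origin. For a linear form α on E and an integer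
p, the k[T, T⁻¹]-linear form m ↦ T^p · (id ⊗ α)(m) is the invariant section α of the dual bundle
away from the origin multiplied by T^p, and it extends over the origin exactly when it maps the Rees
module into the polynomial subring k[T]. This happens if and only if α vanishes on F(−p − 1); so the
dual equivariant bundle corresponds to the dual space filtered by the annihilators of the F(−p − 1).
(The published statement has the annihilator of F(−p + 1), over the complex numbers; for E = k with
F n = 0 for n < 0 and F n = E for n ≥ 0 the form with p = 0 and α ≠ 0 maps the Rees module into k[T]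
although α does not vanish on F(1) = E, and the published argument gives the index −p − 1, which
this row states, over any field.) -/
theorem result
    (k : Type u) [Field k] (E : Type v) [AddCommGroup E] [Module k E]
    (F : ℤ → Submodule k E) (hF : Monotone F)
    (α : Module.Dual k E) (p : ℤ) :
    (∀ m ∈ Submodule.span k {x : k[T;T⁻¹] ⊗[k] E | ∃ (n : ℤ) (v : E), v ∈ F n ∧ x = T n ⊗ₜ[k] v},
      T p * (TensorProduct.AlgebraTensorModule.rid k k[T;T⁻¹] k[T;T⁻¹]) (LinearMap.baseChange k[T;T⁻¹] α m)
        ∈ (Polynomial.toLaurent : Polynomial k →+* k[T;T⁻¹]).range) ↔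
    ∀ v ∈ F (-p - 1), α v = 0 := by
  let L : k[T;T⁻¹] ⊗[k] E → k[T;T⁻¹] := fun m =>
    T p * (TensorProduct.AlgebraTensorModule.rid k k[T;T⁻¹] k[T;T⁻¹]) (LinearMap.baseChange k[T;T⁻¹] α m)
  have hL : ∀ (n : ℤ) (v : E), L (T n ⊗ₜ[k] v) = α v • T (p + n) := fun n v => by
    simp only [L, LinearMap.baseChange_tmul, TensorProduct.AlgebraTensorModule.rid_tmul, mul_smul_comm]
    rw [← T_add]
  constructor
  · intro h v hv
    obtain ⟨f, hf⟩ := h (T (-p - 1) ⊗ₜ[k] v) (Submodule.subset_span ⟨-p - 1, v, hv, rfl⟩)
    rw [show T p * _ = L (T (-p - 1) ⊗ₜ[k] v) from rfl, hL, show p + (-p - 1) = -1 by omega] at hf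
    by_contra hne
    have hmem : (-1 : ℤ) ∈ (Polynomial.toLaurent f).coeff.support := by
      rw [hf, smul_eq_C_mul, ← single_eq_C_mul_T, AddMonoidAlgebra.coeff_single,
        Finsupp.support_single_ne_zero _ hne, Finset.mem_singleton]
    obtain ⟨n, -, hn⟩ := Finset.mem_map.1 (toLaurent_support f ▸ hmem)
    simp at hn
  · intro h m hm
    induction hm using Submodule.span_induction with
    | mem x hx =>
      obtain ⟨n, v, hv, rfl⟩ := hx
      rw [show T p * _ = L (T n ⊗ₜ[k] v) from rfl, hL]
      rcases le_or_gt 0 (p + n) with hpos | hneg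
      · obtain ⟨j, hj⟩ := Int.eq_ofNat_of_zero_le hpos
        exact ⟨Polynomial.C (α v) * Polynomial.X ^ j, by
          rw [hj, smul_eq_C_mul]; simp⟩
      · rw [h v (hF (by omega) hv), zero_smul]
        exact zero_mem _
    | zero => simp
    | add x y _ _ hx hy =>
      rw [map_add, map_add, mul_add]
      exact add_mem hx hy
    | smul c x _ hx =>
      rw [LinearMap.map_smul_of_tower, ← LinearEquiv.coe_toLinearMap, LinearMap.map_smul_of_tower, LinearEquiv.coe_toLinearMap, mul_smul_comm]
      obtain ⟨f, hf⟩ := hx
      refine ⟨Polynomial.C c * f, ?_⟩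
      rw [map_mul, hf, Polynomial.toLaurent_C, ← smul_eq_C_mul]

end Groth.Agent.S15329
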