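import Groth.Statements.S15333
import Groth.Agent.CurveSub.Basic
-- import your own Groth.Agent.* helpers here

set_option autoImplicit false
universe u
open CategoryTheory CategoryTheory.Limits AlgebraicGeometry
open VBCurve

namespace Groth.Agent.S15333

/-- Let X be a smooth proper integral curve (integral, smooth and proper of dimension one) over an
algebraically closed field k. Let E and F be finite locally free O_X-modules of ranks r ≥ 1 and s ≥
1 which are slope-semistable and slope-stable (deg G · r ≤ deg E · r' for every finite locally free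
submodule G ⊂ E of rank r' ≥ 1, with strict inequality when r' < r, and likewise for F; degree = χ −
rank·χ(O_X)) and which have the same slope, deg E · s = deg F · r. Then either there is no nonzero
homomorphism E → F or E ≅ F; precisely, every nonzero homomorphism E → F is an isomorphism. -/
theorem result (k : Type u) [Field k] [IsAlgClosed k] (X : Scheme.{u}) [X.Over (Spec (CommRingCat.of k))]
    [IsIntegral X] [IsProper (X ↘ Spec (CommRingCat.of k))] [Smooth (X ↘ Spec (CommRingCat.of k))]
    (hdim : topologicalKrullDim X = 1)
    (r s : ℕ) (hr : 0 < r) (hs : 0 < s) (E F : X.Modules)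
    (hE : FlatMod.IsFinLocFreeOfRank r E) (hF : FlatMod.IsFinLocFreeOfRank s F)
    (hEss : ModFun.IsSlopeSemistable k X E r) (hEst : ModFun.IsSlopeStable k X E r)
    (hFss : ModFun.IsSlopeSemistable k X F s) (hFst : ModFun.IsSlopeStable k X F s)
    (hμ : Curv2.deg k X E r * (s : ℤ) = Curv2.deg k X F s * (r : ℤ))
    (f : E ⟶ F) (hf : f ≠ 0) : IsIso f := by
  obtain ⟨a, b, hK, hI, hab, hb, hd, hb0, ha0⟩ := Groth.Agent.CurveSub.exists_image_data (k := k) hdim hE hF f
  have hbpos : 0 < b := Nat.pos_of_ne_zero fun h => hf (hb0 h)
  rcases Nat.eq_zero_or_pos a with ha | ha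
  · haveI := ha0 ha
    rcases lt_or_eq_of_le (show r ≤ s by omega) with h | h
    · have := hFst E r f inferInstance hr h hE
      omega
    · subst h
      exact (Groth.Agent.CurveSub.isIso_of_mono (k := k) hdim hE hF f).2
        (mul_right_cancel₀ (by exact_mod_cast hr.ne') hμ)
  · exfalso
    have h1 := hEst _ a (kernel.ι f) inferInstance ha (by omega) hK
    have h2 := hFss _ b (Abelian.image.ι f) inferInstance hbpos hI
    have hr' : (r : ℤ) = a + b := by exact_mod_cast hab.symm
    have hs' : (0 : ℤ) < s := by exact_mod_cast hs
    have h3 : Curv2.deg k X (Abelian.image f) b * (r : ℤ) ≤ Curv2.deg k X E r * (b : ℤ) :=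
      le_of_mul_le_mul_right (by nlinarith [mul_le_mul_of_nonneg_right h2 (Int.natCast_nonneg r)]) hs'
    rw [hr', hd] at h1 h3
    nlinarith

end Groth.Agent.S15333
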