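import Groth.Statements.S15335
import Groth.Agent.CurveSub.Basic
-- import your own Groth.Agent.* helpers here

set_option autoImplicit false
universe u
open CategoryTheory CategoryTheory.Limits AlgebraicGeometry
open VBCurve

namespace Groth.Agent.S15335

/-- Let X be a smooth proper integral curve (integral, smooth and proper of dimension one) over an
algebraically closed field k, and E₁, E₂ finite locally free O_X-modules of ranks r₁ ≥ 1, r₂ ≥ 1.
The maximal slope of E₁ ⊕ E₂ is at most the larger of the maximal slopes of E₁ and E₂: if m₁, m₂ are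
rational numbers such that every finite locally free submodule of positive rank of E₁ (resp. E₂) has
slope deg/rank ≤ m₁ (resp. ≤ m₂), degree meaning χ − rank·χ(O_X), then every finite locally free
submodule F of the biproduct E₁ ⊞ E₂ of rank r' ≥ 1 has slope deg F / r' ≤ max(m₁, m₂). -/
theorem result (k : Type u) [Field k] [IsAlgClosed k] (X : Scheme.{u}) [X.Over (Spec (CommRingCat.of k))]
    [IsIntegral X] [IsProper (X ↘ Spec (CommRingCat.of k))] [Smooth (X ↘ Spec (CommRingCat.of k))]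
    (hdim : topologicalKrullDim X = 1)
    (r₁ r₂ : ℕ) (hr₁ : 0 < r₁) (hr₂ : 0 < r₂) (E₁ E₂ : X.Modules)
    (hE₁ : FlatMod.IsFinLocFreeOfRank r₁ E₁) (hE₂ : FlatMod.IsFinLocFreeOfRank r₂ E₂) (m₁ m₂ : ℚ)
    (h₁ : ∀ (G : X.Modules) (r' : ℕ) (i : G ⟶ E₁), Mono i → 0 < r' → FlatMod.IsFinLocFreeOfRank r' G →
      (Curv2.deg k X G r' : ℚ) / r' ≤ m₁)
    (h₂ : ∀ (G : X.Modules) (r' : ℕ) (i : G ⟶ E₂), Mono i → 0 < r' → FlatMod.IsFinLocFreeOfRank r' G →
      (Curv2.deg k X G r' : ℚ) / r' ≤ m₂)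
    (F : X.Modules) (r' : ℕ) (i : F ⟶ E₁ ⊞ E₂) (hi : Mono i) (hr' : 0 < r')
    (hF : FlatMod.IsFinLocFreeOfRank r' F) :
    (Curv2.deg k X F r' : ℚ) / r' ≤ max m₁ m₂ := by
  haveI := hi
  let f : F ⟶ E₂ := i ≫ biprod.snd
  let g : kernel f ⟶ E₁ := kernel.ι f ≫ i ≫ biprod.fst
  have hg : Mono g := Preadditive.mono_of_cancel_zero g fun {W} t ht => by
    rw [← cancel_mono (kernel.ι f), ← cancel_mono i, zero_comp, zero_comp]
    apply biprod.hom_ext
    · simpa [g, Category.assoc] using ht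
    · have : kernel.ι f ≫ i ≫ biprod.snd = 0 := kernel.condition f
      simp [Category.assoc, this]
  obtain ⟨a, b, hK, hI, hab, -, hdeg, hb0, ha0⟩ := Groth.Agent.CurveSub.exists_image_data (k := k) hdim hF hE₂ f
  rcases Nat.eq_zero_or_pos a with ha | ha
  · exact (h₂ F r' f (ha0 ha) hr' hF).trans (le_max_right _ _)
  rcases Nat.eq_zero_or_pos b with hb | hb
  · refine (h₁ F r' (i ≫ biprod.fst) ?_ hr' hF).trans (le_max_left _ _)
    refine Preadditive.mono_of_cancel_zero _ fun {W} t ht => ?_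
    rw [← cancel_mono i, zero_comp]
    apply biprod.hom_ext
    · simpa [Category.assoc] using ht
    · have : i ≫ biprod.snd = 0 := hb0 hb
      simp [Category.assoc, this]
  have e1 := (h₁ _ a g hg ha hK).trans (le_max_left m₁ m₂)
  have e2 := (h₂ _ b (Abelian.image.ι f) inferInstance hb hI).trans (le_max_right m₁ m₂)
  rw [div_le_iff₀ (by exact_mod_cast ha)] at e1
  rw [div_le_iff₀ (by exact_mod_cast hb)] at e2
  rw [div_le_iff₀ (by exact_mod_cast hr'), hdeg, ← hab]
  push_cast
  linarith [mul_add (max m₁ m₂) (a : ℚ) (b : ℚ)]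

end Groth.Agent.S15335
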