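import Groth.Statements.S15340
import Groth.Agent.CurveSub.Stable
-- import your own Groth.Agent.* helpers here

set_option autoImplicit false
universe u
open CategoryTheory CategoryTheory.Limits AlgebraicGeometry
open VBCurve

namespace Groth.Agent.S15340

/-- Let X be a smooth proper integral curve (integral, smooth and proper of dimension one) over an
algebraically closed field k and E a finite locally free O_X-module of rank r ≥ 1 which is
slope-semistable and slope-stable (deg G · r ≤ deg E · r' for finite locally free submodules G of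
rank r' ≥ 1, strictly when r' < r; degree = χ − rank·χ(O_X)). Then E is indecomposable: it is
nonzero and whenever E ≅ E₁ ⊞ E₂ as O_X-modules, one of E₁, E₂ is zero. -/
theorem result (k : Type u) [Field k] [IsAlgClosed k] (X : Scheme.{u}) [X.Over (Spec (CommRingCat.of k))]
    [IsIntegral X] [IsProper (X ↘ Spec (CommRingCat.of k))] [Smooth (X ↘ Spec (CommRingCat.of k))]
    (hdim : topologicalKrullDim X = 1)
    (r : ℕ) (hr : 0 < r) (E : X.Modules) (hE : FlatMod.IsFinLocFreeOfRank r E)
    (hEss : ModFun.IsSlopeSemistable k X E r) (hEst : ModFun.IsSlopeStable k X E r) :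
    ¬ IsZero E ∧ ∀ (E₁ E₂ : X.Modules), Nonempty (E ≅ E₁ ⊞ E₂) → IsZero E₁ ∨ IsZero E₂ := by
  refine ⟨fun hz => ?_, fun E₁ E₂ ⟨e⟩ => ?_⟩
  · let η := genericPoint X
    haveI : Subsingleton (E.presheaf.stalk η) :=
      ModuleCat.subsingleton_of_isZero ((DerSch.stalkFunctor X η).map_isZero hz)
    have h1 := Groth.Agent.CurveDeg.finrank_stalk hE η
    rw [Module.finrank_zero_of_subsingleton] at h1
    omega
  · let p : E ⟶ E := e.hom ≫ biprod.fst ≫ biprod.inl ≫ e.inv
    by_cases hp : p = 0
    · left
      rw [IsZero.iff_id_eq_zero]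
      simpa [p] using congrArg (fun t => biprod.inl ≫ e.inv ≫ t ≫ e.hom ≫ biprod.fst) hp
    · right
      haveI := Groth.Agent.CurveSub.isIso_endo (k := k) hdim hE hEst p hp
      have h0 : (biprod.inr ≫ e.inv : E₂ ⟶ E) ≫ p = 0 := by simp [p]
      have h1 : (biprod.inr ≫ e.inv : E₂ ⟶ E) = 0 := (cancel_mono p).1 (h0.trans zero_comp.symm)
      rw [IsZero.iff_id_eq_zero]
      simpa using h1 =≫ (e.hom ≫ biprod.snd)

end Groth.Agent.S15340
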