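import Groth.Statements.S15352
import Groth.Agent.GrpSch.Neutral
import Groth.Agent.GrpSch.DenseMul
import Groth.Agent.GrpSch.Points

set_option autoImplicit false
universe u
open CategoryTheory CategoryTheory.Limits MonoidalCategory CartesianMonoidalCategory MonObj GrpObj AlgebraicGeometry
open GrpSch

namespace Groth.Agent.S15352

/-- Let k be an algebraically closed field, G a group scheme locally of finite type over k, G⁰ ⊆ G the
connected component of the unit point, and U a nonempty open subscheme of G contained in G⁰. Then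
every point of G⁰ is in the image of the morphism U ×_k U ⟶ G, (g, h) ↦ g·h⁻¹. (The published
statement writes U as an open of G mapping to G⁰ × G⁰; this row makes the containment U ⊆ G⁰
explicit.) -/
theorem result (k : Type u) [Field k] [IsAlgClosed k]
    (G : Over (Spec (CommRingCat.of k))) [GrpObj G] [LocallyOfFiniteType G.hom] (U : G.left.Opens)
    (hne : (U : Set ↥G.left).Nonempty)
    (hU : (U : Set ↥G.left) ⊆ connectedComponent (η[G].left.base (IsLocalRing.closedPoint k))) :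
    connectedComponent (η[G].left.base (IsLocalRing.closedPoint k)) ⊆ Set.range
      ((((Over.homMk U.ι rfl : Over.mk (U.ι ≫ G.hom) ⟶ G) ⊗ₘ
          ((Over.homMk U.ι rfl : Over.mk (U.ι ≫ G.hom) ⟶ G) ≫ ι[G])) ≫ μ[G]).left.base) := by
  obtain ⟨G₀, _, i, _, _, _, hr, _, _, _⟩ := Groth.Agent.GrpSch.exists_neutralComponent G
  intro y hy
  obtain ⟨y₀, rfl⟩ := hr.ge hy
  set V : Set G₀.left := i.left ⁻¹' U
  have hVo : IsOpen V := U.2.preimage i.left.continuous
  have hVne : V.Nonempty := by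
    obtain ⟨x, hx⟩ := hne
    obtain ⟨x₀, rfl⟩ := hr.ge (hU hx)
    exact ⟨x₀, hx⟩
  have : IsIso ι[G₀] := ⟨ι[G₀], GrpObj.inv_comp_inv G₀, GrpObj.inv_comp_inv G₀⟩
  have hW : Dense (ι[G₀].left ⁻¹' V) :=
    (hVo.dense hVne).preimage (Groth.Agent.GrpSch.isOpenMap_iso (asIso ι[G₀]))
  obtain ⟨w, ⟨hw₁, hw₂⟩, rfl⟩ :=
    (Groth.Agent.GrpSch.mul_image_dense_eq_univ G₀ hVo (hVo.dense hVne) hW).ge (Set.mem_univ y₀)
  -- move to a one point test scheme
  set P := Groth.Agent.GrpSch.ptOver (G₀ ⊗ G₀) w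
  set pt := Groth.Agent.GrpSch.ptHom (G₀ ⊗ G₀) w
  set j : Over.mk (U.ι ≫ G.hom) ⟶ G := Over.homMk U.ι rfl
  have fac : ∀ c : P ⟶ G, (∀ p, c.left p ∈ (U : Set G.left)) →
      ∃ d : P ⟶ Over.mk (U.ι ≫ G.hom), d ≫ j = c := by
    intro c hc
    refine ⟨Over.homMk (IsOpenImmersion.lift U.ι c.left (by
      rw [Scheme.Opens.range_ι]; rintro - ⟨p, rfl⟩; exact hc p)) ?_, ?_⟩
    · simp only [Over.mk_hom]
      rw [IsOpenImmersion.lift_fac_assoc]
      exact Over.w c
    · ext1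
      exact IsOpenImmersion.lift_fac _ _ _
  obtain ⟨a, ha⟩ := fac (pt ≫ fst G₀ G₀ ≫ i) (fun p => by
    rw [Groth.Agent.GrpSch.comp_left_apply, Groth.Agent.GrpSch.comp_left_apply,
      Groth.Agent.GrpSch.ptHom_apply]
    exact hw₁)
  obtain ⟨b, hb⟩ := fac (pt ≫ snd G₀ G₀ ≫ ι[G₀] ≫ i) (fun p => by
    rw [Groth.Agent.GrpSch.comp_left_apply, Groth.Agent.GrpSch.comp_left_apply,
      Groth.Agent.GrpSch.comp_left_apply, Groth.Agent.GrpSch.ptHom_apply]
    exact hw₂)
  obtain ⟨p₀⟩ : Nonempty P.left := inferInstanceAs (Nonempty (PrimeSpectrum _))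
  refine ⟨(lift a b).left p₀, ?_⟩
  have key : lift a b ≫ (j ⊗ₘ (j ≫ ι[G])) ≫ μ[G] = pt ≫ μ[G₀] ≫ i := by
    have hb' : b ≫ j ≫ ι[G] = pt ≫ snd G₀ G₀ ≫ i := by
      rw [reassoc_of% hb, ← GrpObj.inv_hom i, ← Category.assoc ι[G₀], GrpObj.inv_comp_inv,
        Category.id_comp]
    rw [lift_map_assoc, ← Groth.Agent.GrpSch.mul_eq_lift, ha, hb', IsMonHom.mul_hom,
      ← MonObj.comp_mul, Groth.Agent.GrpSch.mul_eq_lift]
    congr 2
  have := congrArg (fun t : P ⟶ G => t.left p₀) key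
  refine this.trans ?_
  simp only [Groth.Agent.GrpSch.comp_left_apply]
  rw [Groth.Agent.GrpSch.ptHom_apply]

end Groth.Agent.S15352
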