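import Groth.Statements.S15353
import Mathlib.RingTheory.PicardGroup
import Mathlib.RingTheory.Idempotents
import Mathlib.RingTheory.Finiteness.Projective
import Mathlib.LinearAlgebra.TensorProduct.Quotient
import Mathlib.RingTheory.Ideal.Quotient.Operations
import Mathlib.LinearAlgebra.TensorProduct.Pi
import Mathlib.LinearAlgebra.Matrix.ToLin

set_option autoImplicit false
universe u
open CAlg

namespace Groth.Agent.S15353

open TensorProduct in
theorem subsingleton_of_nil {A' A : Type u} [CommRing A'] [CommRing A] [Algebra A' A]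
    (hf : Function.Surjective (algebraMap A' A)) (hker : IsNilpotent (RingHom.ker (algebraMap A' A)))
    (Q : Type*) [AddCommGroup Q] [Module A' Q] (h : ∀ q : Q, (1 : A) ⊗ₜ[A'] q = 0) : Subsingleton Q := by
  set I := RingHom.ker (algebraMap A' A)
  obtain ⟨n, hn⟩ := hker
  have hI : I • (⊤ : Submodule A' Q) = ⊤ := by
    refine eq_top_iff.mpr fun q _ => ?_
    let e : A ≃ₐ[A'] A' ⧸ I :=
      (Ideal.quotientKerAlgEquivOfSurjective (f := Algebra.ofId A' A) hf).symm
    have := congrArg (fun t => TensorProduct.quotTensorEquivQuotSMul Q I (TensorProduct.map e.toLinearMap LinearMap.id t)) (h q)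
    simp only [map_tmul, map_zero, LinearMap.id_coe, id_eq, AlgEquiv.toLinearMap_apply, map_one] at this
    rw [← Submodule.Quotient.mk_eq_zero]
    exact ((TensorProduct.quotTensorEquivQuotSMul_mk_tmul I (1 : A') q).trans (by rw [one_smul])).symm.trans this
  have hpow : ∀ k, I ^ k • (⊤ : Submodule A' Q) = ⊤ := by
    intro k
    induction k with
    | zero => simp
    | succ k ih => rw [pow_succ, Submodule.mul_smul, hI, ih]
  have := hpow n
  rw [hn, Submodule.zero_eq_bot, Submodule.bot_smul] at this
  exact (Submodule.subsingleton_iff A').mp (subsingleton_of_bot_eq_top this)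

open TensorProduct in
theorem equiv_of_baseChange {A' A : Type u} [CommRing A'] [CommRing A] [Algebra A' A]
    (hf : Function.Surjective (algebraMap A' A)) (hker : IsNilpotent (RingHom.ker (algebraMap A' A)))
    (L : Type*) [AddCommGroup L] [Module A' L] [Module.Projective A' L]
    (e : A ⊗[A'] L ≃ₗ[A] A) : Nonempty (L ≃ₗ[A'] A') := by
  obtain ⟨m, hm⟩ := TensorProduct.mk_surjective A' L A hf (e.symm 1)
  let g : A' →ₗ[A'] L := LinearMap.toSpanSingleton A' L m
  have hg : Function.Surjective g := by
    rw [← LinearMap.range_eq_top, ← Submodule.Quotient.subsingleton_iff]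
    refine subsingleton_of_nil hf hker _ fun q => ?_
    obtain ⟨l, rfl⟩ := Submodule.Quotient.mk_surjective _ q
    obtain ⟨a, ha⟩ := hf (e ((1 : A) ⊗ₜ[A'] l))
    have hl : (1 : A) ⊗ₜ[A'] l = (1 : A) ⊗ₜ[A'] g a := by
      apply e.injective
      have : (1 : A) ⊗ₜ[A'] g a = algebraMap A' A a • e.symm 1 := by
        rw [← hm]; simp [g, algebraMap_smul, TensorProduct.tmul_smul]
      rw [this, map_smul, e.apply_symm_apply, ha, smul_eq_mul, mul_one]
    have := congrArg ((Submodule.mkQ (LinearMap.range g)).lTensor A) hl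
    simp only [LinearMap.lTensor_tmul, Submodule.mkQ_apply] at this
    rw [this, (Submodule.Quotient.mk_eq_zero _).mpr (LinearMap.mem_range_self g a), TensorProduct.tmul_zero]
  obtain ⟨s, hs⟩ := Module.projective_lifting_property g LinearMap.id hg
  have hK : Subsingleton (LinearMap.ker g) := by
    refine subsingleton_of_nil hf hker _ fun k => ?_
    let pr : A' →ₗ[A'] LinearMap.ker g := LinearMap.codRestrict _ (LinearMap.id - s ∘ₗ g) fun x => by
      rw [LinearMap.mem_ker, LinearMap.sub_apply, map_sub, LinearMap.comp_apply, show g (s (g x)) = g x from LinearMap.congr_fun hs _]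
      exact sub_self _
    have hpr : pr k.1 = k := by
      apply Subtype.ext
      simp [pr, LinearMap.mem_ker.mp k.2]
    have h0 : algebraMap A' A k.1 = 0 := by
      have h2 : (1 : A) ⊗ₜ[A'] g k.1 = 0 := by rw [LinearMap.mem_ker.mp k.2, TensorProduct.tmul_zero]
      have h3 : (1 : A) ⊗ₜ[A'] g k.1 = algebraMap A' A k.1 • e.symm 1 := by
        rw [← hm, algebraMap_smul, show g k.1 = k.1 • m from rfl]; exact TensorProduct.tmul_smul _ _ _
      rw [h2, ← map_smul, eq_comm, map_eq_zero_iff _ e.symm.injective, smul_eq_mul, mul_one] at h3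
      exact h3
    rw [← hpr, show k.1 = k.1 • (1 : A') by simp, map_smul, TensorProduct.tmul_smul, ← algebraMap_smul A, h0, zero_smul]
  refine ⟨(LinearEquiv.ofBijective g ⟨?_, hg⟩).symm⟩
  rw [← LinearMap.ker_eq_bot]
  exact (Submodule.subsingleton_iff_eq_bot).mp hK

open TensorProduct in
theorem exists_lift {A' A : Type u} [CommRing A'] [CommRing A] [Algebra A' A]
    (hf : Function.Surjective (algebraMap A' A)) (hker : IsNilpotent (RingHom.ker (algebraMap A' A)))
    (M : Type u) [AddCommGroup M] [Module A M] [Module.Finite A M] [Module.Projective A M] :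
    ∃ (P : Type u) (_ : AddCommGroup P) (_ : Module A' P),
      Module.Finite A' P ∧ Module.Projective A' P ∧ Nonempty (A ⊗[A'] P ≃ₗ[A] M) := by
  classical
  obtain ⟨n, p, i, hp, hi, hpi⟩ := Module.Finite.exists_comp_eq_id_of_projective A M
  let E : Matrix (Fin n) (Fin n) A := LinearMap.toMatrix' (i ∘ₗ p)
  have hE : IsIdempotentElem E := by
    show LinearMap.toMatrix' (i ∘ₗ p) * LinearMap.toMatrix' (i ∘ₗ p) = _
    rw [← LinearMap.toMatrix'_comp, LinearMap.comp_assoc, ← LinearMap.comp_assoc p i p, hpi, LinearMap.id_comp]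
  obtain ⟨E', hE', hEE⟩ := exists_isIdempotentElem_eq_of_ker_isNilpotent (algebraMap A' A).mapMatrix
    (fun x hx => by
      obtain ⟨k, hk⟩ := hker
      refine ⟨k, ?_⟩
      have hmem : ∀ j : ℕ, ∀ a b, (x ^ j) a b ∈ RingHom.ker (algebraMap A' A) ^ j := by
        intro j
        induction j with
        | zero => simp
        | succ j ih =>
          intro a b
          rw [pow_succ x, Matrix.mul_apply, pow_succ]
          refine Submodule.sum_mem _ fun c _ => Ideal.mul_mem_mul (ih a c) ?_
          rw [RingHom.mem_ker]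
          simpa using congrArg (fun N : Matrix (Fin n) (Fin n) A => N c b) (RingHom.mem_ker.mp hx)
      ext a b
      have := hmem k a b
      rw [hk, Submodule.zero_eq_bot, Submodule.mem_bot] at this
      simpa using this)
    E (RingHom.mem_range.mpr ⟨E.map (Function.surjInv hf), by ext a b; simp [Function.surjInv_eq hf]⟩) hE
  let e' : (Fin n → A') →ₗ[A'] (Fin n → A') := Matrix.toLin' E'
  let P := LinearMap.range e'
  let π : (Fin n → A') →ₗ[A'] P := e'.rangeRestrict
  have hee : ∀ x, e' (e' x) = e' x := fun x => by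
    rw [← LinearMap.comp_apply, ← Matrix.toLin'_mul, hE'.eq]
  have hπι : π ∘ₗ P.subtype = LinearMap.id := by
    ext ⟨x, y, rfl⟩ j
    exact congrFun (hee y) j
  refine ⟨P, inferInstance, inferInstance, inferInstance, Module.Projective.of_split P.subtype π hπι, ?_⟩
  let ε : A ⊗[A'] (Fin n → A') ≃ₗ[A] (Fin n → A) := TensorProduct.piScalarRight A' A A (Fin n)
  have key : ∀ t, ε ((P.subtype.baseChange A) (π.baseChange A t)) = i (p (ε t)) := by
    intro t
    induction t with
    | zero => simp
    | add x y hx hy => simp only [map_add, hx, hy]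
    | tmul a v =>
      have h1 : Matrix.toLin' E = i ∘ₗ p := Matrix.toLin'_toMatrix' _
      rw [← LinearMap.comp_apply i, ← h1, LinearMap.baseChange_tmul, LinearMap.baseChange_tmul]
      ext j
      show (TensorProduct.piScalarRight A' A A (Fin n) (a ⊗ₜ e' v)) j = Matrix.toLin' E (TensorProduct.piScalarRight A' A A (Fin n) (a ⊗ₜ v)) j
      simp [e', Matrix.toLin'_apply, Matrix.mulVec, dotProduct, ← hEE, Algebra.smul_def, Finset.mul_sum, mul_comm, mul_left_comm]
  have hinj : Function.Injective (P.subtype.baseChange A) := by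
    have : ∀ x, π.baseChange A (P.subtype.baseChange A x) = x := fun x => by
      rw [← LinearMap.comp_apply, ← LinearMap.baseChange_comp, hπι, LinearMap.baseChange_id]; rfl
    intro x y h
    rw [← this x, h, this]
  have hπ : Function.Surjective (π.baseChange A) := by
    rw [LinearMap.baseChange_eq_ltensor]
    exact LinearMap.lTensor_surjective A (LinearMap.surjective_rangeRestrict e')
  have hiT : Function.Injective i := hi
  refine ⟨LinearEquiv.ofBijective (p ∘ₗ ε.toLinearMap ∘ₗ P.subtype.baseChange A) ⟨?_, ?_⟩⟩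
  · intro x y h
    obtain ⟨x, rfl⟩ := hπ x
    obtain ⟨y, rfl⟩ := hπ y
    have h2 := congrArg i h
    simp only [LinearMap.comp_apply, LinearEquiv.coe_coe, key] at h2
    have hpi' : ∀ m, p (i m) = m := LinearMap.congr_fun hpi
    rw [hpi', hpi', ← key, ← key] at h2
    exact hinj (ε.injective h2)
  · intro m
    refine ⟨π.baseChange A (ε.symm (i m)), ?_⟩
    have hpi' : ∀ m, p (i m) = m := LinearMap.congr_fun hpi
    simp [key, hpi']

/-- Let f : A' → A be a surjective ring homomorphism whose kernel is a nilpotent ideal. Then the induced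
homomorphism of Picard groups Pic(A') → Pic(A), base change of invertible modules along f, is
bijective. -/
theorem result {A' A : Type u} [CommRing A'] [CommRing A]
    (f : A' →+* A) (hf : Function.Surjective f) (hker : IsNilpotent (RingHom.ker f)) :
    Function.Bijective (CommRing.Pic.mapRingHom f) := by
  algebraize [f]
  have hker' : IsNilpotent (RingHom.ker (algebraMap A' A)) := hker
  open CommRing TensorProduct in
  refine ⟨(injective_iff_map_eq_one _).mpr fun M hM => ?_, fun M => ?_⟩
  · change Pic.mapAlgebra A' A M = 1 at hM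
    rw [Pic.mapAlgebra_apply, Pic.mk_eq_one_iff] at hM
    obtain ⟨e⟩ := equiv_of_baseChange hf hker' M hM.some
    rw [← Pic.mk_eq_self (M := M), Pic.mk_eq_one_iff]
    exact ⟨e⟩
  · obtain ⟨P, _, _, _, _, ⟨eP⟩⟩ := exists_lift hf hker' M
    obtain ⟨Q, _, _, _, _, ⟨eQ⟩⟩ := exists_lift hf hker' (Module.Dual A M)
    let e1 : A ⊗[A'] (Q ⊗[A'] P) ≃ₗ[A] A :=
      TensorProduct.AlgebraTensorModule.distribBaseChange A' A Q P ≪≫ₗ TensorProduct.congr eQ eP ≪≫ₗ Module.Invertible.linearEquiv A M
    obtain ⟨e⟩ := equiv_of_baseChange hf hker' (Q ⊗[A'] P) e1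
    have : Module.Invertible A' P := Module.Invertible.right e
    refine ⟨Pic.mk A' P, ?_⟩
    show Pic.mapAlgebra A' A (Pic.mk A' P) = M
    rw [Pic.mapAlgebra_apply, Pic.mk_eq_iff]
    exact ⟨TensorProduct.AlgebraTensorModule.congr (LinearEquiv.refl A A) (Pic.mk.linearEquiv A' P) ≪≫ₗ eP⟩

end Groth.Agent.S15353
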