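import Groth.Statements.S15354
import Mathlib


set_option autoImplicit false
universe u
open CategoryTheory CategoryTheory.Limits AlgebraicGeometry
open Mor

namespace Groth.Agent.S15354

/-- Let f : Y ⟶ X be a morphism of schemes, A a valuation ring with fraction field K and residue field
k, and ξ, η : Spec A ⟶ Y two A-points of Y over the same A-point of X. If ξ and η restrict to the
same K-point and to the same k-point of Y, then ξ = η. (The published statement is an equivalence,
for algebraic spaces locally of finite presentation over a Noetherian scheme, between local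
separatedness of f and conditions (a), (b); this row is the necessity of (a) in the case of schemes,
where no hypothesis on f is needed.) -/
theorem result {X Y : Scheme.{u}} (f : Y ⟶ X)
    (A : Type u) [CommRing A] [IsDomain A] [ValuationRing A] (K : Type u) [Field K] [Algebra A K]
    [IsFractionRing A K] (ξ η : Spec (CommRingCat.of A) ⟶ Y) (hf : ξ ≫ f = η ≫ f)
    (hK : Spec.map (CommRingCat.ofHom (algebraMap A K)) ≫ ξ = Spec.map (CommRingCat.ofHom (algebraMap A K)) ≫ η)
    (hk : Spec.map (CommRingCat.ofHom (IsLocalRing.residue A)) ≫ ξ =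
      Spec.map (CommRingCat.ofHom (IsLocalRing.residue A)) ≫ η) :
    ξ = η := by
  have hpt : ξ (IsLocalRing.closedPoint A) = η (IsLocalRing.closedPoint A) := by
    have hc : (Spec.map (CommRingCat.ofHom (IsLocalRing.residue A))) (IsLocalRing.closedPoint _) =
        IsLocalRing.closedPoint A := IsLocalRing.comap_closedPoint (IsLocalRing.residue A)
    rw [← hc, ← Scheme.Hom.comp_apply, ← Scheme.Hom.comp_apply, hk]
  obtain ⟨_, ⟨U', hU, rfl⟩, hyU, -⟩ :=
    Y.isBasis_affineOpens.exists_subset_of_mem_open (Set.mem_univ (ξ (IsLocalRing.closedPoint A))) isOpen_univ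
  have hrange : ∀ g : Spec (CommRingCat.of A) ⟶ Y, g (IsLocalRing.closedPoint A) ∈ (U' : Y.Opens) →
      Set.range g.base ⊆ Set.range (Scheme.Opens.ι U').base := by
    intro g hg
    rw [Scheme.Opens.range_ι]
    rintro _ ⟨p, rfl⟩
    exact ((IsLocalRing.specializes_closedPoint p).map g.continuous).mem_open U'.2 hg
  let a := IsOpenImmersion.lift (Scheme.Opens.ι U') ξ (hrange ξ hyU) ≫ (IsAffineOpen.isoSpec hU).hom
  let b := IsOpenImmersion.lift (Scheme.Opens.ι U') η (hrange η (hpt ▸ hyU)) ≫ (IsAffineOpen.isoSpec hU).hom
  have hab : Spec.map (CommRingCat.ofHom (algebraMap A K)) ≫ a = Spec.map (CommRingCat.ofHom (algebraMap A K)) ≫ b := by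
    simp only [a, b, ← Category.assoc]
    congr 1
    rw [← cancel_mono (Scheme.Opens.ι U')]
    simp only [Category.assoc, IsOpenImmersion.lift_fac]
    exact hK
  have hab' : Spec.preimage a = Spec.preimage b := by
    haveI : Mono (CommRingCat.ofHom (algebraMap A K)) :=
      ConcreteCategory.mono_of_injective _ (IsFractionRing.injective A K)
    rw [← cancel_mono (CommRingCat.ofHom (algebraMap A K))]
    apply Spec.map_injective
    rw [Spec.map_comp, Spec.map_comp, Spec.map_preimage, Spec.map_preimage]
    exact hab
  have h2 : a = b := by rw [← Spec.map_preimage a, hab', Spec.map_preimage]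
  calc ξ = a ≫ (IsAffineOpen.isoSpec hU).inv ≫ (Scheme.Opens.ι U') := by simp [a]
    _ = b ≫ (IsAffineOpen.isoSpec hU).inv ≫ (Scheme.Opens.ι U') := by rw [h2]
    _ = η := by simp [b]

end Groth.Agent.S15354
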