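import Groth.Statements.S15355
import Mathlib


set_option autoImplicit false
set_option backward.isDefEq.respectTransparency.types false
universe u
open CategoryTheory CategoryTheory.Limits AlgebraicGeometry
open Mor

namespace Groth.Agent.S15355

/-- Let f : Y ⟶ X be a morphism of schemes, A an integral domain and ξ, η : Spec A ⟶ Y two A-points of Y
over the same A-point of X. If ξ and η induce the same κ(p)-point of Y at every point p of some
dense subset of Spec A, then ξ and η agree on a nonempty open subscheme of Spec A. (The published
statement is an equivalence, for algebraic spaces locally of finite presentation over a Noetherian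
scheme, between local separatedness of f and conditions (a), (b); this row is the necessity of (b)
in the case of schemes, where no hypothesis on f is needed.) -/
theorem result {X Y : Scheme.{u}} (f : Y ⟶ X)
    (A : Type u) [CommRing A] [IsDomain A] (ξ η : Spec (CommRingCat.of A) ⟶ Y) (hf : ξ ≫ f = η ≫ f)
    (D : Set ↥(Spec (CommRingCat.of A))) (hD : Dense D)
    (hpt : ∀ p ∈ D, (Spec (CommRingCat.of A)).fromSpecResidueField p ≫ ξ =
      (Spec (CommRingCat.of A)).fromSpecResidueField p ≫ η) :
    ∃ U : (Spec (CommRingCat.of A)).Opens, (U : Set ↥(Spec (CommRingCat.of A))).Nonempty ∧ U.ι ≫ ξ = U.ι ≫ η := by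
  let c : Spec (CommRingCat.of A) ⟶ pullback f f := pullback.lift ξ η hf
  let E := pullback c (pullback.diagonal f)
  let d : E ⟶ Spec (CommRingCat.of A) := pullback.fst c (pullback.diagonal f)
  haveI : IsImmersion d := inferInstance
  have hd : d ≫ ξ = d ≫ η := by
    have h1 := congrArg (· ≫ pullback.fst f f) (pullback.condition (f := c) (g := pullback.diagonal f))
    have h2 := congrArg (· ≫ pullback.snd f f) (pullback.condition (f := c) (g := pullback.diagonal f))
    simp only [c, Category.assoc, pullback.lift_fst, pullback.diagonal_fst, Category.comp_id] at h1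
    simp only [c, Category.assoc, pullback.lift_snd, pullback.diagonal_snd, Category.comp_id] at h2
    exact h1.trans h2.symm
  have hsub : D ⊆ Set.range d := fun p hp => by
    let m := (Spec (CommRingCat.of A)).fromSpecResidueField p
    let l : Spec ((Spec (CommRingCat.of A)).residueField p) ⟶ E :=
      pullback.lift m (m ≫ ξ) (pullback.hom_ext (by simp only [c, Category.assoc, pullback.lift_fst, pullback.diagonal_fst, Category.comp_id]) (by simp only [c, m, Category.assoc, pullback.lift_snd, pullback.diagonal_snd, Category.comp_id]; exact (hpt p hp).symm))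
    refine ⟨l (IsLocalRing.closedPoint _), ?_⟩
    rw [← Scheme.Hom.comp_apply, show l ≫ d = m from pullback.lift_fst _ _ _]
    exact Scheme.fromSpecResidueField_apply _ _
  -- the range of an immersion is open in its closure
  obtain ⟨U, hU⟩ : ∃ U : (Spec (CommRingCat.of A)).Opens, Set.range d = U := by
    have hlc : IsLocallyClosed (Set.range d) := d.isLocallyClosed_range
    obtain ⟨O, C, hO, hC, hOC⟩ := hlc
    have hCu : C = Set.univ := by
      have h1 : closure D ⊆ C := hC.closure_subset_iff.2 (hsub.trans (hOC ▸ Set.inter_subset_right))
      rw [hD.closure_eq] at h1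
      exact Set.univ_subset_iff.1 h1
    exact ⟨⟨O, hO⟩, by rw [hOC, hCu, Set.inter_univ]; rfl⟩
  have hne : (U : Set ↥(Spec (CommRingCat.of A))).Nonempty := hU ▸ hD.nonempty.mono hsub
  haveI : IsReduced (Spec (CommRingCat.of A)) := inferInstance
  haveI : IsReduced U.toScheme := inferInstance
  let E' := pullback d U.ι
  let d' : E' ⟶ U.toScheme := pullback.snd d U.ι
  haveI : Surjective d' := ⟨fun x => by
    obtain ⟨e, he⟩ : x.1 ∈ Set.range d := hU.symm ▸ x.2
    obtain ⟨z, -, hz⟩ := Scheme.Pullback.exists_preimage_pullback (f := d) (g := U.ι) e x he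
    exact ⟨z, hz⟩⟩
  haveI : IsClosedImmersion d' := .of_isPreimmersion d' (by rw [d'.surjective.range_eq]; exact isClosed_univ)
  haveI : IsIso d' := isIso_of_isClosedImmersion_of_surjective d'
  refine ⟨U, hne, ?_⟩
  rw [← cancel_epi d', ← Category.assoc, ← Category.assoc, ← pullback.condition, Category.assoc, hd,
    Category.assoc]

end Groth.Agent.S15355
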