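import Groth.Statements.S1536
import Groth.Agent.S7639
import Groth.Agent.BCModel.FlatBC
import Groth.Agent.GenLocus.PullTensor
import Mathlib.AlgebraicGeometry.Geometrically.Reduced
import Mathlib.AlgebraicGeometry.Geometrically.Connected
import Mathlib.FieldTheory.IsAlgClosed.AlgebraicClosure

set_option autoImplicit false
set_option backward.isDefEq.respectTransparency false
universe u
open CategoryTheory CategoryTheory.Limits AlgebraicGeometry
open Variety
open scoped TensorProduct

namespace Groth.Agent.S1536

theorem finrank_of_algClosed (K : Type u) [Field K] [IsAlgClosed K] (Y : Scheme.{u})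
    [Y.Over (Spec (CommRingCat.of K))] [IsProper (Y ↘ (Spec (CommRingCat.of K)))] [IsReduced Y]
    [ConnectedSpace Y] : Module.finrank K (Coh.HH Y (Coh.structureModule Y) 0) = 1 := by
  obtain ⟨hF, hfin, -⟩ := Groth.Agent.S7639.result K Y
  let _ : Algebra K Γ(Y, ⊤) := ((Y ↘ (Spec (CommRingCat.of K))).appTop.hom.comp
    (Scheme.ΓSpecIso (CommRingCat.of K)).inv.hom).toAlgebra
  have := hfin
  have : IsDomain Γ(Y, ⊤) := hF.isDomain
  have hb : Function.Bijective (algebraMap K Γ(Y, ⊤)) :=
    IsAlgClosed.algebraMap_bijective_of_isIntegral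
  have h1 : Module.finrank K Γ(Y, ⊤) = 1 :=
    ((LinearEquiv.ofBijective (Algebra.linearMap K Γ(Y, ⊤)) hb).finrank_eq).symm.trans (Module.finrank_self K)
  let e : Coh.HH Y (Coh.structureModule Y) 0 ≃ₗ[K] Γ(Y, ⊤) :=
    { Groth.Agent.CurveDeg.secEquiv (Coh.structureModule Y) with
      map_smul' := fun c x => Groth.Agent.S7639.secEquiv_smul
        (Coh.toGlobal (Y ↘ Spec (CommRingCat.of K)) c) x }
  exact e.finrank_eq.trans h1

/-- For a proper scheme X over a field k which is geometrically reduced and geometrically connected,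
H^0(X, O_X) is one-dimensional over k, i.e. the global functions are the constants. -/
theorem result (k : Type u) [Field k] (X : Scheme.{u}) [X.Over (Spec (CommRingCat.of k))] [IsProper (X ↘ (Spec (CommRingCat.of k)))]
    [GeometricallyReduced (X ↘ (Spec (CommRingCat.of k)))] [GeometricallyConnected (X ↘ (Spec (CommRingCat.of k)))] :
    Module.finrank k (Coh.HH X (Coh.structureModule X) 0) = 1 := by
  let K := AlgebraicClosure k
  let Y := Curv2.bc k X K
  let _ : Y.Over (Spec (CommRingCat.of K)) := ⟨Curv2.bcSnd k X K⟩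
  have hpb : IsPullback (Curv2.bcFst k X K) (Y ↘ Spec (CommRingCat.of K))
      (X ↘ Spec (CommRingCat.of k)) (Spec.map (CommRingCat.ofHom (algebraMap k K))) :=
    IsPullback.of_hasPullback _ _
  have : IsProper (Y ↘ Spec (CommRingCat.of K)) := MorphismProperty.of_isPullback hpb inferInstance
  have : IsReduced Y := GeometricallyReduced.geometrically_isReduced (f := X ↘ Spec (CommRingCat.of k)) _ _ _ hpb
  have : ConnectedSpace Y :=
    GeometricallyConnected.geometrically_connectedSpace (f := X ↘ Spec (CommRingCat.of k)) _ _ _ hpb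
  have := Groth.Agent.CurveDeg.isSeparated_of_proper (k := k) (X := X)
  have := Groth.Agent.CurveDeg.isNoetherian_of_proper (k := k) (X := X)
  obtain ⟨e⟩ := Groth.Agent.BCModel.nonempty_HH_baseChange (A := k) (B := K) (X := X)
    (algebraMap k K) (RingHom.flat_algebraMap_iff.2 inferInstance) (Curv2.bcFst k X K)
    hpb (Coh.structureModule X) (Groth.Agent.TensorMod.isQCoh_structureModule X) 0
  have halg : (algebraMap k K).toAlgebra = (inferInstance : Algebra k K) :=
    Algebra.algebra_ext _ _ fun _ => rfl
  revert e; rw [halg]; intro e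
  have h := (Module.finrank_baseChange (R := K) (S := k) (M' := Coh.HH X (Coh.structureModule X) 0))
  rw [← h, e.finrank_eq,
    Groth.Agent.CurveDeg.finrank_HH_congr (k := K) (Groth.Agent.GenLocus.pullUnitIso (Curv2.bcFst k X K)) 0]
  exact finrank_of_algClosed K Y

end Groth.Agent.S1536
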