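import Groth.Statements.S15360
import Mathlib

set_option autoImplicit false
universe u
open GalCoh

namespace Groth.Agent.S15360

open Matrix in
lemma map_coe {p : ℕ} [Fact p.Prime] (M : Matrix (Fin 2) (Fin 2) ℤ_[p]) (x : Matrix (Fin 2) (Fin 2) ℤ_[p])
    (h : (PadicInt.toZMod (p := p)).mapMatrix x = (PadicInt.toZMod (p := p)).mapMatrix M) :
    ∃ Z : Matrix (Fin 2) (Fin 2) ℤ_[p], x = M + (p : ℤ_[p]) • Z := by
  have : ∀ i j, ∃ z : ℤ_[p], x i j = M i j + (p : ℤ_[p]) * z := by
    intro i j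
    have h' := congrFun (congrFun h i) j
    simp only [RingHom.mapMatrix_apply, Matrix.map_apply] at h'
    have hm : x i j - M i j ∈ RingHom.ker (PadicInt.toZMod (p := p)) := by
      simp [RingHom.mem_ker, h']
    rw [PadicInt.ker_toZMod, PadicInt.maximalIdeal_eq_span_p, Ideal.mem_span_singleton] at hm
    obtain ⟨z, hz⟩ := hm
    exact ⟨z, by rw [← hz]; ring⟩
  choose z hz using this
  exact ⟨Matrix.of z, by ext i j; simp [hz]⟩

/-- Let 𝔊 be a profinite group and ϕ : 𝔊 → GL₂(ℤ_p) a continuous homomorphism. Then ϕ is surjective if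
and only if (i) the composite of ϕ with reduction modulo p, 𝔊 → GL₂(𝔽_p), is surjective, and (ii)
for every integer n ≥ 1 there is g ∈ 𝔊 such that ϕ(g) has the form [[1 + pⁿa, pⁿ⁺¹b], [pⁿ⁺¹c, 1 +
pⁿ⁺¹d]] with a, b, c, d ∈ ℤ_p and a not divisible by p (equivalently: the image of ϕ⁻¹(1 +
pⁿM₂(ℤ_p)) in M₂(𝔽_p) under g ↦ (ϕ(g) − 1)/pⁿ contains a matrix [[x, 0], [0, 0]] with x ≠ 0).
Continuity of ϕ is expressed through its matrix entries. -/
theorem result (p : ℕ) [Fact p.Prime]
    (𝔊 : Type u) [Group 𝔊] [TopologicalSpace 𝔊] [IsTopologicalGroup 𝔊] [CompactSpace 𝔊] [T2Space 𝔊]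
    [TotallyDisconnectedSpace 𝔊]
    (ϕ : 𝔊 →* GL (Fin 2) ℤ_[p])
    (hϕ : Continuous fun g => ((ϕ g : GL (Fin 2) ℤ_[p]) : Matrix (Fin 2) (Fin 2) ℤ_[p])) :
    Function.Surjective ϕ ↔
      (Function.Surjective ((Matrix.GeneralLinearGroup.map (n := Fin 2) (PadicInt.toZMod (p := p))).comp ϕ) ∧
        ∀ n : ℕ, 1 ≤ n → ∃ (g : 𝔊) (a b c d : ℤ_[p]), ¬ ((p : ℤ_[p]) ∣ a) ∧
          ((ϕ g : GL (Fin 2) ℤ_[p]) : Matrix (Fin 2) (Fin 2) ℤ_[p]) =
            !![1 + (p : ℤ_[p]) ^ n * a, (p : ℤ_[p]) ^ (n + 1) * b;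
               (p : ℤ_[p]) ^ (n + 1) * c, 1 + (p : ℤ_[p]) ^ (n + 1) * d]) := by
  classical
  let f := (PadicInt.toZMod (p := p)).mapMatrix (m := Fin 2)
  let V : 𝔊 → Matrix (Fin 2) (Fin 2) ℤ_[p] := fun g => (ϕ g : GL (Fin 2) ℤ_[p])
  have Vmul : ∀ g h, V (g * h) = V g * V h := fun g h => by simp [V]
  have V1 : V 1 = 1 := by simp [V]
  have p0 : PadicInt.toZMod (p : ℤ_[p]) = (0 : ZMod p) := by simp
  have fsmul : ∀ (n : ℕ), 1 ≤ n → ∀ Y : Matrix (Fin 2) (Fin 2) ℤ_[p], f ((p : ℤ_[p]) ^ n • Y) = 0 := by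
    intro n hn Y
    ext i j
    simp [f, zero_pow (Nat.one_le_iff_ne_zero.mp hn)]
  have fsurj : ∀ u : Matrix (Fin 2) (Fin 2) (ZMod p), ∃ X, f X = u := by
    intro u
    choose z hz using fun i j => (ZMod.ringHom_surjective (PadicInt.toZMod (p := p))) (u i j)
    exact ⟨Matrix.of z, by ext i j; simp [f, hz]⟩
  constructor
  · intro hs
    refine ⟨?_, ?_⟩
    · intro u
      obtain ⟨X, hX⟩ := fsurj u
      have hu : IsUnit X.det := by
        have h0 : IsUnit ((u : Matrix (Fin 2) (Fin 2) (ZMod p)).det) :=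
          (Matrix.isUnit_iff_isUnit_det _).mp u.isUnit
        rw [← hX] at h0
        simp only [f] at h0
        rw [← RingHom.map_det] at h0
        by_contra hc
        have hm : X.det ∈ RingHom.ker (PadicInt.toZMod (p := p)) := by
          rw [PadicInt.ker_toZMod, IsLocalRing.mem_maximalIdeal]; exact hc
        rw [RingHom.mem_ker] at hm
        exact h0.ne_zero hm
      obtain ⟨g, hg⟩ := hs ((Matrix.isUnit_iff_isUnit_det X).mpr hu).unit
      refine ⟨g, Units.ext ?_⟩
      have : V g = X := by simp [V, hg]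
      rw [← hX, ← this]
      ext i j
      simp [f, V]
    · intro n hn
      have hu : IsUnit (1 + (p : ℤ_[p]) ^ n) := by
        by_contra hc
        have hm : (1 + (p : ℤ_[p]) ^ n) ∈ RingHom.ker (PadicInt.toZMod (p := p)) := by
          rw [PadicInt.ker_toZMod, IsLocalRing.mem_maximalIdeal]; exact hc
        simp [RingHom.mem_ker, zero_pow (Nat.one_le_iff_ne_zero.mp hn)] at hm
      let X : Matrix (Fin 2) (Fin 2) ℤ_[p] := !![1 + (p : ℤ_[p]) ^ n * 1, (p : ℤ_[p]) ^ (n + 1) * 0;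
        (p : ℤ_[p]) ^ (n + 1) * 0, 1 + (p : ℤ_[p]) ^ (n + 1) * 0]
      have hX : IsUnit X.det := by simpa [X, Matrix.det_fin_two] using hu
      obtain ⟨g, hg⟩ := hs ((Matrix.isUnit_iff_isUnit_det X).mpr hX).unit
      refine ⟨g, 1, 0, 0, 0, ?_, by rw [hg]; rfl⟩
      intro hd
      exact PadicInt.prime_p.not_unit (isUnit_of_dvd_one hd)
  · rintro ⟨h1, h2⟩ M
    have hbase : ∀ u : GL (Fin 2) (ZMod p), ∃ g, f (V g) = u := by
      intro u
      obtain ⟨g, hg⟩ := h1 u
      refine ⟨g, ?_⟩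
      rw [← hg]
      ext i j
      simp [f, V]
    have step : ∀ n, 1 ≤ n → ∀ x : Matrix (Fin 2) (Fin 2) (ZMod p),
        ∃ g X, f X = x ∧ V g = 1 + (p : ℤ_[p]) ^ n • X := by
      intro n hn
      let Q := fun x : Matrix (Fin 2) (Fin 2) (ZMod p) =>
        ∃ g X, f X = x ∧ V g = 1 + (p : ℤ_[p]) ^ n • X
      have Qadd : ∀ x y, Q x → Q y → Q (x + y) := by
        rintro x y ⟨g, X, rfl, hg⟩ ⟨h, Y, rfl, hh⟩
        refine ⟨g * h, X + Y + (p : ℤ_[p]) ^ n • (X * Y), ?_, ?_⟩
        · rw [map_add, map_add, fsmul n hn, add_zero]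
        · rw [Vmul, hg, hh]
          simp only [add_mul, mul_add, one_mul, mul_one, Matrix.smul_mul, Matrix.mul_smul,
            smul_add, smul_smul]
          abel
      have Q0 : Q 0 := ⟨1, 0, by simp, by simp [V1]⟩
      have Qnsmul : ∀ (k : ℕ) x, Q x → Q (k • x) := by
        intro k x hx
        induction k with
        | zero => simpa using Q0
        | succ k ih => rw [succ_nsmul]; exact Qadd _ _ ih hx
      have Qconj : ∀ x (u u' : Matrix (Fin 2) (Fin 2) (ZMod p)), u * u' = 1 → u' * u = 1 →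
          Q x → Q (u * x * u') := by
        rintro x u u' e1 e2 ⟨g, X, rfl, hg⟩
        obtain ⟨h, hh⟩ := hbase ⟨u, u', e1, e2⟩
        have hh' : f (V h⁻¹) = u' := by
          have : f (V h⁻¹) * u = 1 := by
            have hh0 : f (V h) = u := hh
            rw [← hh0, ← map_mul, ← Vmul, inv_mul_cancel, V1, map_one]
          calc f (V h⁻¹) = f (V h⁻¹) * (u * u') := by rw [e1, mul_one]
            _ = u' := by rw [← mul_assoc, this, one_mul]
        refine ⟨h * g * h⁻¹, V h * X * V h⁻¹, ?_, ?_⟩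
        · rw [map_mul, map_mul, hh, hh']
        · rw [Vmul, Vmul, hg, mul_add, add_mul, mul_one, ← Vmul, mul_inv_cancel, V1,
            Matrix.mul_smul, Matrix.smul_mul]
      have Q11 : ∀ t : ZMod p, Q !![t, 0; 0, 0] := by
        obtain ⟨g, a, b, c, d, ha, hg⟩ := h2 n hn
        have hQ : Q !![PadicInt.toZMod a, 0; 0, 0] := by
          refine ⟨g, !![a, (p : ℤ_[p]) * b; (p : ℤ_[p]) * c, (p : ℤ_[p]) * d], ?_, ?_⟩
          · ext i j; fin_cases i <;> fin_cases j <;> simp [f]
          · show ((ϕ g : GL (Fin 2) ℤ_[p]) : Matrix (Fin 2) (Fin 2) ℤ_[p]) = _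
            rw [hg]
            ext i j; fin_cases i <;> fin_cases j <;> simp [pow_succ, mul_assoc]
        have ha' : PadicInt.toZMod a ≠ (0 : ZMod p) := by
          intro h0
          apply ha
          have hm : a ∈ RingHom.ker (PadicInt.toZMod (p := p)) := h0
          rwa [PadicInt.ker_toZMod, PadicInt.maximalIdeal_eq_span_p, Ideal.mem_span_singleton] at hm
        intro t
        have := Qnsmul (t * (PadicInt.toZMod a)⁻¹).val _ hQ
        convert this using 1
        ext i j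
        fin_cases i <;> fin_cases j <;>
          simp [ZMod.natCast_val, nsmul_eq_mul, inv_mul_cancel_right₀ ha']
      have Q12 : ∀ t : ZMod p, Q !![0, t; 0, 0] := by
        intro t
        have h := Qadd _ _ (Qconj _ !![1, 1; 0, 1] !![1, -1; 0, 1] (by simp [Matrix.one_fin_two])
          (by simp [Matrix.one_fin_two]) (Q11 (-t))) (Q11 t)
        simpa using h
      have Q21 : ∀ t : ZMod p, Q !![0, 0; t, 0] := by
        intro t
        have h := Qadd _ _ (Qconj _ !![1, 0; 1, 1] !![1, 0; -1, 1] (by simp [Matrix.one_fin_two])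
          (by simp [Matrix.one_fin_two]) (Q11 t)) (Q11 (-t))
        simpa using h
      have Q22 : ∀ t : ZMod p, Q !![0, 0; 0, t] := by
        intro t
        have h := Qconj _ !![0, 1; 1, 0] !![0, 1; 1, 0] (by simp [Matrix.one_fin_two])
          (by simp [Matrix.one_fin_two]) (Q11 t)
        convert h using 1
        ext i j; fin_cases i <;> fin_cases j <;> simp
      intro x
      have h := Qadd _ _ (Qadd _ _ (Qadd _ _ (Q11 (x 0 0)) (Q12 (x 0 1))) (Q21 (x 1 0))) (Q22 (x 1 1))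
      show Q x
      convert h using 1
      ext i j; fin_cases i <;> fin_cases j <;> simp
    have approx : ∀ n : ℕ, ∃ g Z, V g = (M : Matrix (Fin 2) (Fin 2) ℤ_[p]) + (p : ℤ_[p]) ^ (n + 1) • Z := by
      intro n
      induction n with
      | zero =>
        obtain ⟨g, hg⟩ := hbase (Matrix.GeneralLinearGroup.map (n := Fin 2) (PadicInt.toZMod (p := p)) M)
        obtain ⟨Z, hZ⟩ := map_coe (M : Matrix (Fin 2) (Fin 2) ℤ_[p]) (V g) (by
          show f (V g) = f _
          rw [hg]; ext i j; simp [f])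
        exact ⟨g, Z, by simpa using hZ⟩
      | succ n ih =>
        obtain ⟨g, Z, hZ⟩ := ih
        let W := -(V g⁻¹ * Z)
        obtain ⟨g', X, hX, hg'⟩ := step (n + 1) (Nat.succ_le_succ (Nat.zero_le n)) (f W)
        obtain ⟨T, hT⟩ := map_coe W X hX
        have e : V g * W = -Z := by
          simp only [W, mul_neg, ← mul_assoc, ← Vmul, mul_inv_cancel, V1, one_mul]
        refine ⟨g * g', V g * T, ?_⟩
        rw [Vmul, hg', hT, mul_add, mul_one, smul_add, mul_add, Matrix.mul_smul, e, Matrix.mul_smul,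
          Matrix.mul_smul, smul_smul, ← pow_succ, smul_neg]
        rw [hZ]; abel
    choose g Z hZ using approx
    have hlim : Filter.Tendsto (fun n => V (g n)) Filter.atTop (nhds (M : Matrix (Fin 2) (Fin 2) ℤ_[p])) := by
      refine tendsto_pi_nhds.mpr fun i => tendsto_pi_nhds.mpr fun j => ?_
      have hz : Filter.Tendsto (fun n => (p : ℤ_[p]) ^ (n + 1) * Z n i j) Filter.atTop (nhds 0) := by
        refine squeeze_zero_norm (a := fun n => ‖(p : ℤ_[p])‖ ^ (n + 1)) (fun n => ?_) ?_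
        · rw [norm_mul, norm_pow]
          exact mul_le_of_le_one_right (by positivity) (PadicInt.norm_le_one _)
        · have h1 : ‖(p : ℤ_[p])‖ < 1 := by
            rw [PadicInt.norm_p]
            exact inv_lt_one_of_one_lt₀ (by exact_mod_cast (Fact.out : p.Prime).one_lt)
          exact (tendsto_pow_atTop_nhds_zero_of_lt_one (norm_nonneg _) h1).comp (Filter.tendsto_add_atTop_nat 1)
      have hc : (fun n => V (g n) i j) =
          fun n => (M : Matrix (Fin 2) (Fin 2) ℤ_[p]) i j + (p : ℤ_[p]) ^ (n + 1) * Z n i j := by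
        funext n; rw [hZ n]; simp
      rw [hc]
      simpa using hz.const_add ((M : Matrix (Fin 2) (Fin 2) ℤ_[p]) i j)
    have hmem : (M : Matrix (Fin 2) (Fin 2) ℤ_[p]) ∈ Set.range V :=
      (isCompact_range hϕ).isClosed.mem_of_tendsto hlim (Filter.Eventually.of_forall fun n => ⟨g n, rfl⟩)
    obtain ⟨g₀, hg₀⟩ := hmem
    exact ⟨g₀, Units.ext hg₀⟩

end Groth.Agent.S15360
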