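import Groth.Statements.S15361
import Mathlib

set_option autoImplicit false
open GalCoh

namespace Groth.Agent.S15361

/-- Let p be a prime and H a subgroup of GL₂(𝔽_p). Then H = GL₂(𝔽_p) if and only if (i) some non-split
Cartan subgroup lies in H, i.e. some subgroup C ≤ H such that C ∪ {0} is a subfield of the matrix
algebra M₂(𝔽_p) with p² elements, and (ii) p divides the order of H. -/
theorem result (p : ℕ) [Fact p.Prime]
    (H : Subgroup (GL (Fin 2) (ZMod p))) :
    H = ⊤ ↔
      (∃ (C : Subgroup (GL (Fin 2) (ZMod p))) (E : Subring (Matrix (Fin 2) (Fin 2) (ZMod p))),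
          C ≤ H ∧ IsField E ∧ Nat.card E = p ^ 2 ∧
            (E : Set (Matrix (Fin 2) (Fin 2) (ZMod p))) =
              insert 0 ((fun g : GL (Fin 2) (ZMod p) => (g : Matrix (Fin 2) (Fin 2) (ZMod p))) ''
                (C : Set (GL (Fin 2) (ZMod p))))) ∧
        p ∣ Nat.card H := by
  classical
  constructor
  · rintro rfl
    have hcard : p ∣ Nat.card (⊤ : Subgroup (GL (Fin 2) (ZMod p))) := by
      rw [Subgroup.card_top, Matrix.card_GL_field, Fin.prod_univ_two]
      simp only [ZMod.card, Fin.val_zero, Fin.val_one, pow_zero, pow_one]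
      exact Dvd.dvd.mul_left (Nat.dvd_sub (dvd_pow_self p two_ne_zero) (dvd_refl p)) _
    let L := GaloisField p 2
    have hL : Module.finrank (ZMod p) L = 2 := GaloisField.finrank p two_ne_zero
    let b : Module.Basis (Fin 2) (ZMod p) L := Module.finBasisOfFinrankEq _ _ hL
    let φ : L →ₐ[ZMod p] Matrix (Fin 2) (Fin 2) (ZMod p) := Algebra.leftMulMatrix b
    have hφ : Function.Injective φ := Algebra.leftMulMatrix_injective b
    refine ⟨⟨(Units.map (φ : L →* Matrix (Fin 2) (Fin 2) (ZMod p))).range, φ.toRingHom.range, le_top,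
      ?_, ?_, ?_⟩, hcard⟩
    · exact ((RingEquiv.ofBijective φ.toRingHom.rangeRestrict
        ⟨fun x y h => hφ (congrArg Subtype.val h), φ.toRingHom.rangeRestrict_surjective⟩).symm.toMulEquiv).isField
          (Field.toIsField L)
    · rw [← Nat.card_congr (RingEquiv.ofBijective φ.toRingHom.rangeRestrict
        ⟨fun x y h => hφ (congrArg Subtype.val h), φ.toRingHom.rangeRestrict_surjective⟩).toEquiv]
      exact GaloisField.card p 2 two_ne_zero
    · ext x
      constructor
      · rintro ⟨l, rfl⟩
        rcases eq_or_ne l 0 with rfl | h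
        · exact Or.inl (map_zero _)
        · exact Or.inr ⟨_, ⟨Units.mk0 l h, rfl⟩, rfl⟩
      · rintro (rfl | ⟨_, ⟨l, rfl⟩, rfl⟩)
        · exact zero_mem _
        · exact ⟨l, rfl⟩
  · rintro ⟨⟨C, E, hCH, hE, hcardE, hEC⟩, hdvd⟩
    let M := Matrix (Fin 2) (Fin 2) (ZMod p)
    let E' : Subalgebra (ZMod p) M :=
      { E with
        algebraMap_mem' := fun r => by
          rw [← ZMod.natCast_zmod_val r, map_natCast]
          exact natCast_mem E _ }
    letI : Field E' := hE.toField
    have hCE : ∀ g ∈ C, (g : M) ∈ E' := fun g hg =>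
      (Set.ext_iff.1 hEC _).2 (Or.inr ⟨g, hg, rfl⟩)
    have hEC' : ∀ e : E', e ≠ 0 → ∃ g ∈ C, (g : M) = (e : M) := fun e he => by
      rcases (Set.ext_iff.1 hEC (e : M)).1 e.2 with h | ⟨g, hg, h⟩
      · exact absurd (Subtype.ext h) he
      · exact ⟨g, hg, h⟩
    haveI : Finite E' := Finite.of_injective (fun e : E' => (e : M)) Subtype.val_injective
    have key : ∀ v : Fin 2 → ZMod p, v ≠ 0 →
        Function.Bijective (fun e : E' => (e : M).mulVec v) := by
      intro v hv
      have hinj : Function.Injective (fun e : E' => (e : M).mulVec v) := by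
        intro e e' h
        by_contra hne
        obtain ⟨g, -, hg⟩ := hEC' (e - e') (sub_ne_zero.2 hne)
        have h0 : (g : M).mulVec v = 0 := by
          rw [hg, AddSubgroupClass.coe_sub, Matrix.sub_mulVec]
          exact sub_eq_zero.2 h
        apply hv
        have h1 := congrArg ((g⁻¹ : GL (Fin 2) (ZMod p)) : M).mulVec h0
        rwa [Matrix.mulVec_mulVec, Units.inv_mul, Matrix.one_mulVec, Matrix.mulVec_zero] at h1
      refine hinj.bijective_of_nat_card_le ?_
      rw [show Nat.card E' = p ^ 2 from hcardE, Nat.card_fun, Nat.card_zmod, Nat.card_fin]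
    have htrans : ∀ v w : Fin 2 → ZMod p, v ≠ 0 → w ≠ 0 → ∃ g ∈ C, (g : M).mulVec v = w := by
      intro v w hv hw
      obtain ⟨e, he⟩ := (key v hv).2 w
      obtain ⟨g, hg, hge⟩ := hEC' e (fun h => hw (by rw [← he, h]; simp))
      exact ⟨g, hg, by rw [hge]; exact he⟩
    let e₁ : Fin 2 → ZMod p := ![1, 0]
    have he₁ : e₁ ≠ 0 := fun h => by simpa [e₁] using congrFun h 0
    have hdet : ∀ t : ZMod p, t ≠ 0 → ∃ g ∈ C, (g : M).det = t := by
      intro t ht
      obtain ⟨e, he⟩ := FiniteField.norm_surjective (ZMod p) E' t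
      let Φ : E' ≃ₗ[ZMod p] (Fin 2 → ZMod p) := LinearEquiv.ofBijective
        ({ toFun := fun e => (e : M).mulVec e₁
           map_add' := fun x y => Matrix.add_mulVec _ _ _
           map_smul' := fun r x => Matrix.smul_mulVec _ _ _ } : E' →ₗ[ZMod p] (Fin 2 → ZMod p))
        (key e₁ he₁)
      have hconj : (Φ : E' →ₗ[ZMod p] (Fin 2 → ZMod p)) ∘ₗ (Algebra.lmul (ZMod p) E' e) ∘ₗ
          (Φ.symm : (Fin 2 → ZMod p) →ₗ[ZMod p] E') = Matrix.toLin' (e : M) := by
        refine LinearMap.ext fun w => ?_
        obtain ⟨f, rfl⟩ := Φ.surjective w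
        simp only [LinearMap.comp_apply, LinearEquiv.coe_coe, Φ.symm_apply_apply, Matrix.toLin'_apply]
        show ((e * f : E') : M).mulVec e₁ = (e : M).mulVec ((f : M).mulVec e₁)
        rw [Matrix.mulVec_mulVec]
        rfl
      have h1 : (e : M).det = t := by
        rw [← LinearMap.det_toLin', ← hconj, LinearMap.det_conj, ← he, Algebra.norm_apply]
      obtain ⟨g, hg, hge⟩ := hEC' e (fun h => ht (by rw [← he, h, Algebra.norm_zero]))
      exact ⟨g, hg, by rw [hge, h1]⟩
    -- a nontrivial unipotent element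
    haveI : Finite H := inferInstance
    obtain ⟨⟨u, huH⟩, hu⟩ := exists_prime_orderOf_dvd_card' p hdvd
    have hup : u ^ p = 1 := by
      have h := pow_orderOf_eq_one (⟨u, huH⟩ : H)
      rw [hu] at h
      exact congrArg Subtype.val h
    have hune : u ≠ 1 := by
      rintro rfl
      rw [show (⟨1, huH⟩ : H) = 1 from rfl, orderOf_one] at hu
      exact (Fact.out : p.Prime).ne_one hu.symm
    have hupM : (u : M) ^ p = 1 := by rw [← Units.val_pow_eq_pow_val, hup, Units.val_one]
    have hud : (u : M).det = 1 := by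
      apply frobenius_inj (ZMod p) p
      rw [frobenius_def, frobenius_def, ← Matrix.det_pow, hupM, Matrix.det_one, one_pow]
    obtain ⟨v, hv, hvu⟩ : ∃ v : Fin 2 → ZMod p, v ≠ 0 ∧ ((u : M) - 1).mulVec v = 0 := by
      rw [Matrix.exists_mulVec_eq_zero_iff]
      have h : ((u : M) - 1) ^ p = 0 := by
        rw [sub_pow_char_of_commute (p := p) (Commute.one_right _), hupM, one_pow, sub_self]
      have := congrArg Matrix.det h
      rw [Matrix.det_pow, Matrix.det_zero] at this
      exact (pow_eq_zero_iff (Fact.out : p.Prime).ne_zero).1 this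
    rw [Matrix.sub_mulVec, Matrix.one_mulVec, sub_eq_zero] at hvu
    -- conjugates fix every line
    have hconj : ∀ w : Fin 2 → ZMod p, w ≠ 0 →
        ∃ T ∈ H, T ≠ 1 ∧ (T : M).det = 1 ∧ (T : M).mulVec w = w := by
      intro w hw
      obtain ⟨g, hg, hgv⟩ := htrans v w hv hw
      refine ⟨g * u * g⁻¹, H.mul_mem (H.mul_mem (hCH hg) huH) (H.inv_mem (hCH hg)), ?_, ?_, ?_⟩
      · exact fun h => hune (by
          have := congrArg (fun z => g⁻¹ * z * g) h
          simpa [mul_assoc] using this)
      · rw [Units.val_mul, Units.val_mul, Matrix.det_mul, Matrix.det_mul, hud, mul_one,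
          ← Matrix.det_mul, Units.mul_inv, Matrix.det_one]
      · rw [← hgv, Units.val_mul, Units.val_mul, Matrix.mulVec_mulVec, mul_assoc, Units.inv_mul,
          mul_one, ← Matrix.mulVec_mulVec, hvu]
    have up : ∀ s : ZMod p, ∃ T ∈ H, (T : M) = !![1, s; 0, 1] := by
      obtain ⟨T, hT, hT1, hTd, hTw⟩ := hconj e₁ he₁
      have h00 : (T : M) 0 0 = 1 := by simpa [e₁, Matrix.mulVec, dotProduct] using congrFun hTw 0
      have h10 : (T : M) 1 0 = 0 := by simpa [e₁, Matrix.mulVec, dotProduct] using congrFun hTw 1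
      rw [Matrix.det_fin_two, h00, h10, one_mul, mul_zero, sub_zero] at hTd
      have hTa : (T : M) = !![1, (T : M) 0 1; 0, 1] := by
        ext i j; fin_cases i <;> fin_cases j <;> simp [h00, h10, hTd]
      have ha : (T : M) 0 1 ≠ 0 := fun h => hT1 (Units.ext (by rw [hTa, h, Units.val_one, Matrix.one_fin_two]))
      intro s
      have hk : ∀ j : ℕ, ((T ^ j : GL (Fin 2) (ZMod p)) : M) = !![1, j * (T : M) 0 1; 0, 1] := by
        intro j
        induction j with
        | zero => simp [Matrix.one_fin_two]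
        | succ j ih =>
          rw [pow_succ, Units.val_mul, ih]
          conv_lhs => rw [hTa]
          rw [Matrix.mul_fin_two]
          simp; ring
      exact ⟨T ^ (s / (T : M) 0 1).val, H.pow_mem hT _, by
        rw [hk, ZMod.natCast_zmod_val, div_mul_cancel₀ _ ha]⟩
    have down : ∀ s : ZMod p, ∃ T ∈ H, (T : M) = !![1, 0; s, 1] := by
      obtain ⟨T, hT, hT1, hTd, hTw⟩ := hconj ![0, 1] (fun h => by simpa using congrFun h 1)
      have h01 : (T : M) 0 1 = 0 := by simpa [Matrix.mulVec, dotProduct] using congrFun hTw 0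
      have h11 : (T : M) 1 1 = 1 := by simpa [Matrix.mulVec, dotProduct] using congrFun hTw 1
      rw [Matrix.det_fin_two, h01, h11, mul_one, zero_mul, sub_zero] at hTd
      have hTa : (T : M) = !![1, 0; (T : M) 1 0, 1] := by
        ext i j; fin_cases i <;> fin_cases j <;> simp [h01, h11, hTd]
      have ha : (T : M) 1 0 ≠ 0 := fun h => hT1 (Units.ext (by rw [hTa, h, Units.val_one, Matrix.one_fin_two]))
      intro s
      have hk : ∀ j : ℕ, ((T ^ j : GL (Fin 2) (ZMod p)) : M) = !![1, 0; j * (T : M) 1 0, 1] := by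
        intro j
        induction j with
        | zero => simp [Matrix.one_fin_two]
        | succ j ih =>
          rw [pow_succ, Units.val_mul, ih]
          conv_lhs => rw [hTa]
          rw [Matrix.mul_fin_two]
          simp; ring
      exact ⟨T ^ (s / (T : M) 1 0).val, H.pow_mem hT _, by
        rw [hk, ZMod.natCast_zmod_val, div_mul_cancel₀ _ ha]⟩
    have hnz : ∀ g : GL (Fin 2) (ZMod p), (g : M).det = 1 → (g : M) 1 0 ≠ 0 → g ∈ H := by
      intro g hd hc
      obtain ⟨T₁, hT₁, h₁⟩ := up (((g : M) 0 0 - 1) / (g : M) 1 0)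
      obtain ⟨T₂, hT₂, h₂⟩ := down ((g : M) 1 0)
      obtain ⟨T₃, hT₃, h₃⟩ := up (((g : M) 1 1 - 1) / (g : M) 1 0)
      have : g = T₁ * T₂ * T₃ := by
        refine Units.ext ?_
        rw [Units.val_mul, Units.val_mul, h₁, h₂, h₃, Matrix.mul_fin_two, Matrix.mul_fin_two]
        rw [Matrix.det_fin_two] at hd
        ext i j
        fin_cases i <;> fin_cases j <;> simp <;> field_simp <;>
          first
            | linear_combination -hd
            | linear_combination hd
            | ring
      rw [this]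
      exact H.mul_mem (H.mul_mem hT₁ hT₂) hT₃
    have hSL : ∀ g : GL (Fin 2) (ZMod p), (g : M).det = 1 → g ∈ H := by
      intro g hd
      by_cases hc : (g : M) 1 0 = 0
      · obtain ⟨T, hT, hTM⟩ := down 1
        have h00 : (g : M) 0 0 ≠ 0 := by
          intro h
          rw [Matrix.det_fin_two, h, hc, zero_mul, mul_zero, sub_zero] at hd
          exact zero_ne_one hd
        have h2 : T * g ∈ H := by
          refine hnz _ ?_ ?_
          · rw [Units.val_mul, Matrix.det_mul, hd, mul_one, hTM, Matrix.det_fin_two]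
            simp
          · rw [Units.val_mul, hTM]
            simpa [Matrix.mul_apply, Fin.sum_univ_two, hc] using h00
        exact (H.mul_mem_cancel_left hT).1 h2
      · exact hnz g hd hc
    refine eq_top_iff.2 fun g _ => ?_
    have hgd : (g : M).det ≠ 0 := (((Matrix.isUnit_iff_isUnit_det _).1 g.isUnit)).ne_zero
    obtain ⟨c, hc, hcd⟩ := hdet _ hgd
    have h2 : c⁻¹ * g ∈ H := hSL _ (by
      rw [Units.val_mul, Matrix.det_mul, ← hcd, ← Matrix.det_mul, Units.inv_mul, Matrix.det_one])
    exact (H.mul_mem_cancel_left (H.inv_mem (hCH hc))).1 h2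

end Groth.Agent.S15361
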