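import Groth.Statements.S15363
import Mathlib.RingTheory.Flat.TorsionFree
-- import your own Groth.Agent.* helpers here

set_option autoImplicit false
universe u
open CategoryTheory AlgebraicGeometry
open SekSuwa

namespace Groth.Agent.S15363

private theorem app_comp_spec {B C : Type u} [CommRing B] [CommRing C] {X : Scheme.{u}} (α : B →+* C)
    (f : X ⟶ Spec (CommRingCat.of C)) :
    (Scheme.ΓSpecIso (.of B)).inv ≫ (f ≫ Spec.map (CommRingCat.ofHom α)).appTop =
      CommRingCat.ofHom α ≫ (Scheme.ΓSpecIso (.of C)).inv ≫ f.appTop := by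
  rw [Scheme.Hom.comp_appTop, ← Scheme.ΓSpecIso_inv_naturality_assoc]

private theorem comp_spec_congr {B C : Type u} [CommRing B] [CommRing C] {X : Scheme.{u}} (α : B →+* C)
    (f g : X ⟶ Spec (CommRingCat.of C))
    (e : f ≫ Spec.map (CommRingCat.ofHom α) = g ≫ Spec.map (CommRingCat.ofHom α)) (b : B) :
    ((Scheme.ΓSpecIso (.of C)).inv ≫ f.appTop) (α b) = ((Scheme.ΓSpecIso (.of C)).inv ≫ g.appTop) (α b) := by
  have e2 := congrArg (fun φ => (Scheme.ΓSpecIso (.of B)).inv ≫ Scheme.Hom.appTop φ) e
  simp only [Scheme.Hom.comp_appTop, ← Scheme.ΓSpecIso_inv_naturality_assoc] at e2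
  exact ConcreteCategory.congr_hom e2 b

/-- Let R be an integral domain, p a prime and λ ∈ R a non-zero element with λ^p dividing (1 + λX)^p −
1, so that the congruence group scheme G_λ = Spec R[T]/(P_λ(T)) of level λ and its homomorphism θ_λ
: G_λ → μ_p, X ↦ 1 + λT, are defined. For every scheme G flat over Spec R, composition with θ_λ is
injective on R-morphisms G → G_λ; in particular θ_λ induces an injective map from the homomorphisms
G → G_λ of a flat R-group scheme G to its homomorphisms G → μ_p. (The published statement is over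
the ring of integers of an algebraic closure of a complete discretely valued field of mixed
characteristic, for finite flat commutative group schemes killed by p; the published argument, that
θ_λ is an isomorphism on the generic fibre and G is flat, gives the form stated here.) -/
theorem result (R : Type u) [CommRing R] [IsDomain R]
    (p : ℕ) [Fact p.Prime] (lam : R) (h : SekSuwa.DivCond lam p)
    (G : Over (Spec (CommRingCat.of R))) [Flat G.hom]
    (f g : G ⟶ SekSuwa.GK R lam p h)
    (hfg : f ≫ SekSuwa.alphaN R lam p h = g ≫ SekSuwa.alphaN R lam p h) : f = g := by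
  let A := SekSuwa.AK R lam p h
  let Φ (m : G ⟶ SekSuwa.GK R lam p h) : CommRingCat.of A ⟶ Γ(G.left, ⊤) :=
    (Scheme.ΓSpecIso (.of A)).inv ≫ m.left.appTop
  let ρ : CommRingCat.of R ⟶ Γ(G.left, ⊤) := (Scheme.ΓSpecIso (.of R)).inv ≫ G.hom.appTop
  have hR : ∀ m : G ⟶ SekSuwa.GK R lam p h, CommRingCat.ofHom (algebraMap R A) ≫ Φ m = ρ := by
    intro m
    have e : m.left ≫ Spec.map (CommRingCat.ofHom (algebraMap R A)) = G.hom := Over.w m
    exact (app_comp_spec (algebraMap R A) m.left).symm.trans
      (congrArg (fun φ => (Scheme.ΓSpecIso (.of R)).inv ≫ Scheme.Hom.appTop φ) e)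
  have key : ∀ x, ρ lam * x = 0 → x = 0 := by
    intro x hx
    refine TopCat.Sheaf.eq_of_locally_eq' G.left.sheaf (fun U : G.left.affineOpens => (U : G.left.Opens)) ⊤
      (fun U => homOfLE le_top) (fun y _ => ?_) x 0 fun U => ?_
    · obtain ⟨U, hU, hyU, -⟩ := exists_isAffineOpen_mem_and_subset (U := ⊤) (x := y) trivial
      exact TopologicalSpace.Opens.mem_iSup.mpr ⟨⟨U, hU⟩, hyU⟩
    · change G.left.presheaf.map _ x = G.left.presheaf.map _ 0
      rw [map_zero]
      have hflat := G.hom.flat_appLE (isAffineOpen_top _) U.2 (le_top : (U : G.left.Opens) ≤ G.hom ⁻¹ᵁ ⊤)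
      let ψ : R →+* Γ(G.left, (U : G.left.Opens)) :=
        ((Scheme.ΓSpecIso (.of R)).inv ≫ G.hom.appLE ⊤ U le_top).hom
      have hψ : ψ.Flat :=
        (RingHom.Flat.of_bijective (ConcreteCategory.bijective_of_isIso (Scheme.ΓSpecIso (.of R)).inv)).comp hflat
      letI := ψ.toAlgebra
      have : Module.Flat R Γ(G.left, (U : G.left.Opens)) := hψ
      have h0 : lam ≠ 0 := nonZeroDivisors.ne_zero h.1
      have hψlam : ψ lam = G.left.presheaf.map (homOfLE (le_top : (U : G.left.Opens) ≤ ⊤)).op (ρ lam) := rfl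
      refine (smul_eq_zero (R := R).mp ?_).resolve_left h0
      rw [Algebra.smul_def, RingHom.algebraMap_toAlgebra, hψlam]
      rw [← map_mul, hx, map_zero]
  have hα : ∀ x : SekSuwa.AK R lam p h, x = (1 + lam • SekSuwa.AK.t) → Φ f x = Φ g x := by
    rintro x rfl
    rw [← SekSuwa.alphaNHom_single_one]
    exact comp_spec_congr (SekSuwa.alphaNHom R lam p h : MonoidAlgebra R (Multiplicative (ZMod p)) →+* A)
      f.left g.left (congrArg (fun φ => φ.left) hfg) _
  have hsm : ∀ m, Φ m (1 + lam • SekSuwa.AK.t) = 1 + ρ lam * Φ m SekSuwa.AK.t := by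
    intro m
    rw [Algebra.smul_def, map_add, map_one, map_mul, ← hR m]
    rfl
  have ht : Φ f SekSuwa.AK.t = Φ g SekSuwa.AK.t := by
    refine sub_eq_zero.mp (key _ ?_)
    rw [mul_sub, sub_eq_zero]
    have := hα _ rfl
    rwa [hsm, hsm, add_right_inj] at this
  have hu : (1 + lam • (SekSuwa.AK.t : A)) * SekSuwa.AK.inv = 1 := by
    have := congrArg (SekSuwa.AK.mkHom R lam p h) (SekSuwa.A.u_mul_inv (R := R) (lam := lam))
    rw [map_mul, map_one, SekSuwa.A.u, map_add, map_one, map_smul] at this
    exact this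
  have hi : Φ f SekSuwa.AK.inv = Φ g SekSuwa.AK.inv := by
    refine (IsUnit.of_mul_eq_one _ (by rw [← map_mul, hu, map_one] :
      Φ f (1 + lam • SekSuwa.AK.t) * Φ f SekSuwa.AK.inv = 1)).mul_left_cancel ?_
    rw [← map_mul, hu, map_one, hα _ rfl, ← map_mul, hu, map_one]
  apply Over.OverMorphism.ext
  haveI : IsAffine (SekSuwa.GK R lam p h).left := isAffine_Spec _
  apply ext_of_isAffine
  have hΦ : Φ f = Φ g := by
    letI := ρ.hom.toAlgebra
    let Fa (m : G ⟶ SekSuwa.GK R lam p h) : A →ₐ[R] Γ(G.left, ⊤) :=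
      { (Φ m).hom with commutes' := fun r => ConcreteCategory.congr_hom (hR m) r }
    ext x
    exact DFunLike.congr_fun (SekSuwa.AK.algHom_ext (f := Fa f) (g := Fa g) ht hi) x
  exact (cancel_epi (Scheme.ΓSpecIso (.of A)).inv).mp hΦ

end Groth.Agent.S15363
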