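import Groth.Statements.S15364
import Groth.Agent.GrpSch.RigidityBase
import Groth.Agent.GrpSch.SmoothGeomRed

set_option autoImplicit false
universe u
open CategoryTheory CategoryTheory.Limits MonoidalCategory CartesianMonoidalCategory AlgebraicGeometry
open AbSch

namespace Groth.Agent.S15364

/-- For an abelian scheme f : A → T (a commutative T-group scheme, proper and smooth over T with
geometrically connected fibres) and a commutative group scheme H finite and locally free over T, the
adjunction map H → f_* f^* H of fppf sheaves on T is an isomorphism, i.e. for every T-scheme U the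
map H(U) → H(A ×_T U), s ↦ s ∘ pr, is bijective. This row states the case U = T, to which the
general case reduces by base change: composition with the structure morphism A → T is a bijection
from the sections of H over T onto the T-morphisms A → H. The group structure of H plays no role and
is not assumed. (The published statement has an arbitrary base T; the published argument rests on
the rigidity lemma in its form for Noetherian schemes, so T is taken locally Noetherian here.) -/
theorem result {T : Scheme.{u}} [IsLocallyNoetherian T]
    (A : Over T) [GrpObj A] [IsCommMonObj A] [IsProper A.hom] [Smooth A.hom] [GeometricallyConnected A.hom]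
    (H : Over T) [IsFinite H.hom] [Flat H.hom] [LocallyOfFinitePresentation H.hom] :
    Function.Bijective fun s : (𝟙_ (Over T) ⟶ H) => toUnit A ≫ s := by
  haveI : GeometricallyReduced A.hom := inferInstance
  constructor
  · intro s t h
    have h1 := congrArg (fun z => (MonObj.one : 𝟙_ (Over T) ⟶ A) ≫ z) h
    simp only [← Category.assoc, toUnit_unique ((MonObj.one : 𝟙_ (Over T) ⟶ A) ≫ toUnit A) (𝟙 _), Category.id_comp] at h1
    exact h1
  · intro f
    refine ⟨(MonObj.one : 𝟙_ (Over T) ⟶ A) ≫ f, ?_⟩
    apply Over.OverMorphism.ext
    have hσ : (MonObj.one : 𝟙_ (Over T) ⟶ A).left ≫ A.hom = 𝟙 T := Over.w (MonObj.one : 𝟙_ (Over T) ⟶ A)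
    have := Groth.Agent.GrpSch.RigidityBase.eq_of_forall_constant (π := A.hom) (MonObj.one : 𝟙_ (Over T) ⟶ A).left hσ f.left fun t => ?_
    · exact this.symm
    intro x hx
    have hdisc : _root_.IsDiscrete (H.hom ⁻¹' {t}) := H.hom.isDiscrete_preimage_singleton _
    have himg : f.left '' (A.hom ⁻¹' {t}) ⊆ H.hom ⁻¹' {t} := by
      rintro _ ⟨w, hw, rfl⟩
      change H.hom (f.left w) = t
      rw [← Scheme.Hom.comp_apply, Over.w f]; exact hw
    have hpre : _root_.IsPreconnected (f.left '' (A.hom ⁻¹' {t})) :=
      (A.hom.isConnected_preimage_singleton t).isPreconnected.image _ f.left.continuous.continuousOn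
    refine (hpre.isDiscrete_iff_subsingleton.mp (hdisc.mono himg)) ⟨x, hx, rfl⟩ ⟨(MonObj.one : 𝟙_ (Over T) ⟶ A).left t, ?_, rfl⟩
    change A.hom ((MonObj.one : 𝟙_ (Over T) ⟶ A).left t) = t
    rw [← Scheme.Hom.comp_apply, hσ]
    rfl

end Groth.Agent.S15364
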