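import Groth.Statements.S15365
import Mathlib

set_option autoImplicit false
universe u
open scoped BigOperators
open CAlg

namespace Groth.Agent.S15365

/-- Let A be a commutative ring of characteristic p > 0 and (h_{ij})_{1 ≤ i,j ≤ n} a square matrix over
A, the matrix of a commutative p-Lie algebra (L, φ) with L free with basis e_1, …, e_n and φ(e_j) =
Σ_i h_{ij} e_i. The associated finite group scheme Spec A[X_1, …, X_n]/(X_j^p − Σ_i h_{ij} X_i)_{1 ≤
j ≤ n} is étale over A if and only if the matrix (h_{ij}) is invertible, i.e. its determinant is a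
unit of A. Only the algebra structure enters this assertion. -/
theorem result (p : ℕ) [Fact p.Prime]
    (A : Type u) [CommRing A] [CharP A p] (n : ℕ) (h : Matrix (Fin n) (Fin n) A) :
    Algebra.Etale A (MvPolynomial (Fin n) A ⧸ Ideal.span (Set.range fun j : Fin n =>
        (MvPolynomial.X j : MvPolynomial (Fin n) A) ^ p -
          ∑ i : Fin n, MvPolynomial.C (h i j) * MvPolynomial.X i)) ↔
      IsUnit h.det := by
  classical
  let v : Fin n → MvPolynomial (Fin n) A := fun j =>
    (MvPolynomial.X j : MvPolynomial (Fin n) A) ^ p - ∑ i : Fin n, MvPolynomial.C (h i j) * MvPolynomial.X i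
  change Algebra.Etale A (MvPolynomial (Fin n) A ⧸ Ideal.span (Set.range v)) ↔ IsUnit h.det
  constructor
  · intro het
    by_contra hu
    obtain ⟨m, hm, hmem⟩ := exists_max_ideal_of_mem_nonunits hu
    let k := A ⧸ m
    letI : Field k := Ideal.Quotient.field m
    haveI : CharP k p := (CharP.charP_iff_prime_eq_zero Fact.out).2 (by
      rw [← map_natCast (Ideal.Quotient.mk m), CharP.cast_eq_zero, map_zero])
    let hb : Matrix (Fin n) (Fin n) k := h.map (Ideal.Quotient.mk m)
    have hdet : hb.det = 0 := by
      rw [show hb = (Ideal.Quotient.mk m).mapMatrix h from rfl, ← RingHom.map_det, Ideal.Quotient.eq_zero_iff_mem]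
      exact hmem
    obtain ⟨w, hw, hwh⟩ := Matrix.exists_vecMul_eq_zero_iff.2 hdet
    let D := TrivSqZeroExt k k
    let B := MvPolynomial (Fin n) A ⧸ Ideal.span (Set.range v)
    have hkill : ∀ u : Fin n → k, Matrix.vecMul u hb = 0 →
        ∀ a ∈ Ideal.span (Set.range v), MvPolynomial.aeval (R := A) (fun i => (TrivSqZeroExt.inr (u i) : D)) a = 0 := by
      intro u hu' a ha
      refine (Ideal.span_le.2 ?_ : Ideal.span (Set.range v) ≤ RingHom.ker (MvPolynomial.aeval (R := A) (fun i => (TrivSqZeroExt.inr (u i) : D)))) ha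
      rintro _ ⟨j, rfl⟩
      rw [SetLike.mem_coe, RingHom.mem_ker]
      simp only [v, map_sub, map_sum, map_pow, map_mul, MvPolynomial.aeval_X, MvPolynomial.aeval_C]
      obtain ⟨q, hq⟩ := Nat.exists_eq_add_of_le (Fact.out : p.Prime).two_le
      rw [hq, pow_add, pow_two, TrivSqZeroExt.inr_mul_inr, zero_mul, zero_sub, neg_eq_zero]
      have e : ∀ i, algebraMap A D (h i j) * TrivSqZeroExt.inr (u i) = TrivSqZeroExt.inr (u i * hb i j) := by
        intro i
        rw [← Algebra.smul_def, ← TrivSqZeroExt.inr_smul, Algebra.smul_def, mul_comm]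
        rfl
      rw [Finset.sum_congr rfl fun i _ => e i]
      ext
      · rw [TrivSqZeroExt.fst_sum, TrivSqZeroExt.fst_zero]
        exact Finset.sum_eq_zero fun i _ => TrivSqZeroExt.fst_inr _ _
      · rw [TrivSqZeroExt.snd_sum, TrivSqZeroExt.snd_zero]
        simpa [Matrix.vecMul, dotProduct] using congrFun hu' j
    let g : ∀ u : Fin n → k, Matrix.vecMul u hb = 0 → (B →ₐ[A] D) := fun u hu' =>
      Ideal.Quotient.liftₐ _ (MvPolynomial.aeval (fun i => (TrivSqZeroExt.inr (u i) : D))) (hkill u hu')
    have hnil : IsNilpotent (RingHom.ker (TrivSqZeroExt.fstHom A k k)) := by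
      refine ⟨2, ?_⟩
      rw [show RingHom.ker (TrivSqZeroExt.fstHom A k k) ^ 2 = RingHom.ker (TrivSqZeroExt.fstHom A k k) * RingHom.ker (TrivSqZeroExt.fstHom A k k) from pow_two _, Ideal.zero_eq_bot, eq_bot_iff, Ideal.mul_le]
      intro a ha b hb'
      rw [Ideal.mem_bot]
      have ha' : a.fst = 0 := ha
      have hb'' : b.fst = 0 := hb'
      ext <;> simp [ha', hb'']
    have heq : g w hwh = g 0 (Matrix.zero_vecMul _) := by
      refine Algebra.FormallyUnramified.ext _ hnil fun x => ?_
      rw [Ideal.Quotient.eq, RingHom.mem_ker, map_sub, sub_eq_zero]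
      have e : (TrivSqZeroExt.fstHom A k k).comp (g w hwh) = (TrivSqZeroExt.fstHom A k k).comp (g 0 (Matrix.zero_vecMul _)) :=
        Ideal.Quotient.algHom_ext A (MvPolynomial.algHom_ext fun i => by
          show TrivSqZeroExt.fst (MvPolynomial.aeval (fun i => (TrivSqZeroExt.inr (w i) : D)) (MvPolynomial.X i : MvPolynomial (Fin n) A)) = TrivSqZeroExt.fst (MvPolynomial.aeval (fun i => (TrivSqZeroExt.inr ((0 : Fin n → k) i) : D)) (MvPolynomial.X i : MvPolynomial (Fin n) A))
          rw [MvPolynomial.aeval_X, MvPolynomial.aeval_X, TrivSqZeroExt.fst_inr, TrivSqZeroExt.fst_inr])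
      exact AlgHom.congr_fun e x
    refine hw (funext fun i => ?_)
    have := congrArg (fun f : B →ₐ[A] D => (f (Ideal.Quotient.mk _ (MvPolynomial.X i))).snd) heq
    have e1 : ∀ (u : Fin n → k) (hu'), (g u hu') (Ideal.Quotient.mk _ (MvPolynomial.X i)) = TrivSqZeroExt.inr (u i) :=
      fun u hu' => MvPolynomial.aeval_X _ _
    simp only [e1, TrivSqZeroExt.snd_inr] at this
    exact this
  · intro hu
    let P := Algebra.PreSubmersivePresentation.naive (v := v) (id : Fin n → Fin n) Function.injective_id
    have hJ : P.jacobiMatrix = -(h.map (algebraMap A P.Ring)) := by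
      ext i j : 1
      rw [Algebra.PreSubmersivePresentation.jacobiMatrix_naive]
      change MvPolynomial.pderiv i (v j) = _
      simp only [v, map_sub, map_sum, Derivation.leibniz_pow, MvPolynomial.pderiv_C_mul, MvPolynomial.pderiv_X,
        Matrix.neg_apply, Matrix.map_apply, MvPolynomial.algebraMap_eq, smul_eq_mul]
      rw [show ((p : ℕ) • ((MvPolynomial.X j : MvPolynomial (Fin n) A) ^ (p - 1) * Pi.single (M := fun _ : Fin n => MvPolynomial (Fin n) A) i (1 : MvPolynomial (Fin n) A) j)) = 0 by
        rw [nsmul_eq_mul, CharP.cast_eq_zero, zero_mul], zero_sub]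
      congr 1
      rw [Finset.sum_eq_single i]
      · simp
      · intro b _ hb; simp [hb]
      · simp
    let P' : Algebra.SubmersivePresentation A (MvPolynomial (Fin n) A ⧸ Ideal.span (Set.range v)) (Fin n) (Fin n) :=
      { P with
        jacobian_isUnit := by
          rw [Algebra.PreSubmersivePresentation.jacobian_eq_jacobiMatrix_det, hJ, Matrix.det_neg]
          refine IsUnit.map _ ?_
          refine IsUnit.mul (IsUnit.pow _ (isUnit_one.neg)) ?_
          rw [← RingHom.mapMatrix_apply, ← RingHom.map_det]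
          exact hu.map _ }
    haveI : Algebra.IsStandardSmoothOfRelativeDimension 0 A (MvPolynomial (Fin n) A ⧸ Ideal.span (Set.range v)) :=
      ⟨_, _, _, inferInstance, P', by simp [Algebra.Presentation.dimension]⟩
    infer_instance

end Groth.Agent.S15365
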