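import Groth.Statements.S15367
import Mathlib
import Groth.Agent.DvrTorsion.Basic

set_option autoImplicit false
universe u v
open TensorProduct
open CAlg

namespace Groth.Agent.S15367

theorem exists_ne_zero {R : Type u} [CommRing R] [IsDomain R] [IsDiscreteValuationRing R] {ϖ : R} (hϖ : Irreducible ϖ)
    {n : ℕ} {M : Type v} [AddCommGroup M] [Module R M] [Module.Finite R M] (hM : ∀ m : M, ϖ ^ n • m = 0)
    {m : M} (hm : m ≠ 0) : ∃ φ : M →ₗ[R] (R ⧸ Ideal.span {ϖ ^ n}), φ m ≠ 0 := by
  classical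
  have htor : Module.IsTorsion R M := fun {x} =>
    ⟨⟨ϖ ^ n, mem_nonZeroDivisors_of_ne_zero (pow_ne_zero _ hϖ.ne_zero)⟩, hM x⟩
  obtain ⟨ι, _, p, hp, e, ⟨E⟩⟩ := Module.equiv_directSum_of_isTorsion htor
  obtain ⟨i, hi⟩ : ∃ i, E m i ≠ 0 := by
    by_contra h
    push Not at h
    exact hm (E.map_eq_zero_iff.1 (DFinsupp.ext h))
  have hassoc : Associated (p i) ϖ := IsDiscreteValuationRing.associated_of_irreducible R (hp i) hϖ
  have hspan : (R ∙ p i ^ e i) = Ideal.span {ϖ ^ e i} :=
    Ideal.span_singleton_eq_span_singleton.2 hassoc.pow_pow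
  have he : e i ≤ n := by
    have h1 : ϖ ^ n • DirectSum.lof R ι (fun i => R ⧸ R ∙ p i ^ e i) i (Submodule.Quotient.mk (1 : R)) = 0 :=
      E.symm.injective (by rw [map_smul, hM, map_zero])
    have h2 := congrArg (DirectSum.component R ι (fun i => R ⧸ R ∙ p i ^ e i) i) h1
    rw [map_smul, DirectSum.component.lof_self, map_zero, ← Submodule.Quotient.mk_smul,
      Submodule.Quotient.mk_eq_zero, smul_eq_mul, mul_one, hspan, Ideal.mem_span_singleton] at h2
    exact (pow_dvd_pow_iff hϖ.ne_zero hϖ.not_isUnit).1 h2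
  let ψ : (R ⧸ R ∙ p i ^ e i) →ₗ[R] (R ⧸ Ideal.span {ϖ ^ n}) :=
    Submodule.liftQ _ (LinearMap.toSpanSingleton R (R ⧸ Ideal.span {ϖ ^ n})
      (Submodule.Quotient.mk (ϖ ^ (n - e i)))) (by
      rw [hspan]
      intro r hr
      obtain ⟨c, rfl⟩ := Ideal.mem_span_singleton.1 hr
      rw [LinearMap.mem_ker, LinearMap.toSpanSingleton_apply, ← Submodule.Quotient.mk_smul,
        Submodule.Quotient.mk_eq_zero, Ideal.mem_span_singleton, smul_eq_mul, mul_right_comm, ← pow_add,
        Nat.add_sub_cancel' he]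
      exact dvd_mul_right _ _)
  have hψ : ∀ x, ψ x = 0 → x = 0 := by
    intro x hx
    obtain ⟨r, rfl⟩ := Submodule.Quotient.mk_surjective _ x
    rw [Submodule.liftQ_apply, LinearMap.toSpanSingleton_apply, ← Submodule.Quotient.mk_smul,
      Submodule.Quotient.mk_eq_zero, Ideal.mem_span_singleton, smul_eq_mul, mul_comm r] at hx
    rw [Submodule.Quotient.mk_eq_zero, hspan, Ideal.mem_span_singleton]
    rw [show ϖ ^ n = ϖ ^ (n - e i) * ϖ ^ e i by rw [← pow_add, Nat.sub_add_cancel he]] at hx
    exact (mul_dvd_mul_iff_left (pow_ne_zero _ hϖ.ne_zero)).1 hx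
  exact ⟨ψ ∘ₗ DirectSum.component R ι (fun i => R ⧸ R ∙ p i ^ e i) i ∘ₗ E.toLinearMap,
    fun h => hi (hψ _ h)⟩


/-- Let R be a discrete valuation ring with uniformizer π and residue field k, n ≥ 0, and M₀ a finitely
generated module over R/πⁿR, viewed as an R-module killed by πⁿ; put M₀* = Hom_R(M₀, R/πⁿR). Then
dim_k(M₀*/πM₀*) = dim_k(M₀/πM₀). The published lemma is stated for a finitely presented module over
the quotient of the ring of integers of an algebraic closure of K by the elements of valuation ≥ t,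
with its dual into that quotient ring, and the published proof reduces it by descent to exactly this
statement over the valuation ring of a finite extension of K; the row states that step. -/
theorem result
    (R : Type u) [CommRing R] [IsDomain R] [IsDiscreteValuationRing R] (ϖ : R) (hϖ : Irreducible ϖ) (n : ℕ)
    (M : Type v) [AddCommGroup M] [Module R M] [Module.Finite R M] (hM : ∀ m : M, ϖ ^ n • m = 0) :
    Module.finrank (IsLocalRing.ResidueField R)
        (IsLocalRing.ResidueField R ⊗[R] (M →ₗ[R] (R ⧸ Ideal.span {ϖ ^ n}))) =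
      Module.finrank (IsLocalRing.ResidueField R) (IsLocalRing.ResidueField R ⊗[R] M) := by
  obtain ⟨f, hf⟩ := Groth.Agent.DvrTorsion.exists_surjective (R := R) M
  obtain ⟨g, hg⟩ := Groth.Agent.DvrTorsion.exists_surjective (R := R) (M →ₗ[R] (R ⧸ Ideal.span {ϖ ^ n}))
  refine le_antisymm ?_ ?_
  · refine Groth.Agent.DvrTorsion.finrank_le_of_injective (I := Ideal.span {ϖ ^ n})
      (LinearMap.pi fun i => LinearMap.applyₗ (f (Pi.single i 1))) fun φ φ' h => ?_
    rw [← LinearMap.cancel_right hf]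
    refine LinearMap.pi_ext' fun i => LinearMap.ext_ring ?_
    exact congrFun h i
  · refine Groth.Agent.DvrTorsion.finrank_le_of_injective (I := Ideal.span {ϖ ^ n})
      (LinearMap.pi fun j => g (Pi.single j 1)) ((injective_iff_map_eq_zero _).2 fun m hm => ?_)
    by_contra hne
    obtain ⟨φ, hφ⟩ := exists_ne_zero hϖ hM hne
    obtain ⟨c, rfl⟩ := hg φ
    refine hφ ?_
    have h : (LinearMap.applyₗ m) ∘ₗ g = 0 := LinearMap.pi_ext' fun j => LinearMap.ext_ring (congrFun hm j)
    exact LinearMap.congr_fun h c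

end Groth.Agent.S15367
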