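import Groth.Statements.S15391
import Mathlib.RingTheory.Localization.BaseChange
import Mathlib.RingTheory.LocalProperties.Reduced
import Mathlib.RingTheory.Spectrum.Prime.Topology
import Mathlib.RingTheory.Ideal.MinimalPrime.Noetherian
import Mathlib.RingTheory.Ideal.MinimalPrime.Localization
import Mathlib.RingTheory.LocalRing.ResidueField.Ideal

set_option autoImplicit false
universe u
open TensorProduct
open TorFree

namespace Groth.Agent.S15391

/-- Let R be a reduced Noetherian commutative ring, M a finitely generated torsion-free R-module (no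
non-zero element of M is annihilated by a non-zero-divisor of R), and t an element of M whose image
1 ⊗ t in the fibre κ(p) ⊗_R M vanishes for every prime ideal p of R, κ(p) being the residue field at
p. Then t = 0. This is the affine form of the claim that a global section of a coherent torsion-free
module on a reduced Noetherian scheme which vanishes in every fibre is zero. -/
theorem result (R : Type u) [CommRing R] [IsReduced R] [IsNoetherianRing R]
    (M : Type u) [AddCommGroup M] [Module R M] [Module.Finite R M] [Module.IsTorsionFree R M]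
    (t : M) (ht : ∀ p : PrimeSpectrum R, (1 : p.asIdeal.ResidueField) ⊗ₜ[R] t = (0 : p.asIdeal.ResidueField ⊗[R] M)) :
    t = 0 := by
  have hfin := minimalPrimes.finite_of_isNoetherianRing R
  have hk : ∀ P ∈ minimalPrimes R, ∃ s ∈ LinearMap.ker (LinearMap.toSpanSingleton R M t), s ∉ P := by
    intro P hP
    haveI : Ideal.IsPrime P := hP.1.1
    let S := P.primeCompl
    have hb : Function.Injective (algebraMap (Localization.AtPrime P) P.ResidueField) := by
      refine (injective_iff_map_eq_zero _).mpr fun z hz => ?_
      replace hz : IsLocalRing.residue _ z = 0 := hz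
      rw [IsLocalRing.residue_eq_zero_iff] at hz
      haveI := IsLocalization.subsingleton_primeSpectrum_of_mem_minimalPrimes P hP (Localization.AtPrime P)
      have hn : IsNilpotent z := by
        rw [← mem_nilradical, nilradical_eq_sInf, Submodule.mem_sInf]
        intro Q hQ
        have := congrArg PrimeSpectrum.asIdeal (Subsingleton.elim
          (⟨Q, hQ⟩ : PrimeSpectrum (Localization.AtPrime P)) (IsLocalRing.closedPoint _))
        change Q = _ at this
        rw [this]
        exact hz
      exact hn.eq_zero
    let φ : Localization.AtPrime P →ₗ[R] P.ResidueField :=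
      (IsScalarTower.toAlgHom R (Localization.AtPrime P) P.ResidueField).toLinearMap
    have hsur : Function.Surjective φ := IsLocalRing.residue_surjective
    let e : Localization.AtPrime P ≃ₗ[R] P.ResidueField := LinearEquiv.ofBijective φ ⟨hb, hsur⟩
    have h1 : (1 : Localization.AtPrime P) ⊗ₜ[R] t = (0 : Localization.AtPrime P ⊗[R] M) := by
      apply (LinearEquiv.rTensor M e).injective
      rw [LinearEquiv.rTensor_tmul, map_zero, show e 1 = 1 from map_one (IsScalarTower.toAlgHom R (Localization.AtPrime P) P.ResidueField)]
      exact ht ⟨P, inferInstance⟩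
    have hl : IsBaseChange (Localization.AtPrime P) (LocalizedModule.mkLinearMap S M) :=
      IsLocalizedModule.isBaseChange S _ _
    have h2 := congrArg hl.equiv h1
    rw [hl.equiv_tmul, one_smul, map_zero, IsLocalizedModule.eq_zero_iff S] at h2
    obtain ⟨s, hs⟩ := h2
    exact ⟨s.1, by simpa [Submonoid.smul_def] using hs, s.2⟩
  obtain ⟨s, hs, hsP⟩ : ∃ s ∈ LinearMap.ker (LinearMap.toSpanSingleton R M t),
      ∀ P ∈ minimalPrimes R, s ∉ P := by
    by_contra! hcon
    have hsub : ((LinearMap.ker (LinearMap.toSpanSingleton R M t) : Ideal R) : Set R) ⊆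
        ⋃ P ∈ (hfin.toFinset : Set (Ideal R)), (P : Set R) := fun x hx => by
      obtain ⟨P, hP, hxP⟩ := hcon x hx
      exact Set.mem_biUnion (hfin.mem_toFinset.mpr hP) hxP
    rw [Ideal.subset_union_prime ⊥ ⊥ (fun P hP _ _ => ((hfin.mem_toFinset.mp hP).1.1 : Ideal.IsPrime P))] at hsub
    obtain ⟨P, hP, hle⟩ := hsub
    obtain ⟨s, hs, hsP⟩ := hk P (hfin.mem_toFinset.mp hP)
    exact hsP (hle hs)
  have hreg : IsRegular s := by
    rw [isRegular_iff_mem_nonZeroDivisors, mem_nonZeroDivisors_iff_right]
    intro x hx
    have : x ∈ sInf (minimalPrimes R) := Submodule.mem_sInf.mpr fun P hP => by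
      haveI : Ideal.IsPrime P := hP.1.1
      exact ((Ideal.IsPrime.mem_or_mem ‹_› (hx ▸ P.zero_mem : x * s ∈ P))).resolve_right (hsP P hP)
    rw [minimalPrimes, Ideal.sInf_minimalPrimes] at this
    exact IsReduced.eq_zero x this
  exact (Module.IsTorsionFree.isSMulRegular hreg) (hs.trans (smul_zero s).symm)

end Groth.Agent.S15391
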