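import Mathlib
import Groth.Agent.GeomRedAt.Basic
import Groth.Statements.S1541
-- import your own Groth.Agent.* helpers here

set_option autoImplicit false
set_option backward.isDefEq.respectTransparency false
set_option backward.isDefEq.respectTransparency.types false
universe u
open CategoryTheory CategoryTheory.Limits AlgebraicGeometry
attribute [local instance] Curv2.resAlgebra Curv2.stalkAlgebra
open Variety

namespace Groth.Agent.S1541

/-- Let X be a scheme over a field k and x a point of X. Then X is geometrically reduced at x (all local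
rings of all base changes X_{k'} at points over x are reduced) if and only if the local ring 𝒪_{X,x}
is geometrically reduced as a k-algebra. -/
theorem result (k : Type u) [Field k] (X : Scheme.{u}) [X.Over (Spec (CommRingCat.of k))] (x : X) :
    Curv2.IsGeomReducedAt k X x ↔ Algebra.IsGeometricallyReduced k (X.presheaf.stalk x) := by
  obtain ⟨A, _, j, _, hj, p, rfl⟩ := Groth.Agent.GeomRedAt.exists_chart (X ↘ Spec (CommRingCat.of k)) x
  refine (Groth.Agent.GeomRedAt.isGeomReducedAt_iff (X ↘ Spec (CommRingCat.of k)) j hj p).trans ?_
  let S := (Spec.structureSheaf A).presheaf.stalk p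
  haveI : IsLocalization.AtPrime S p.asIdeal := inferInstance
  let e : X.presheaf.stalk (j p) ≃+* Localization.AtPrime p.asIdeal :=
    (asIso (j.stalkMap p)).commRingCatIsoToRingEquiv.trans
      (IsLocalization.algEquiv p.asIdeal.primeCompl S (Localization.AtPrime p.asIdeal)).toRingEquiv
  have hc : ∀ c : k, e (algebraMap k (X.presheaf.stalk (j p)) c) = algebraMap k (Localization.AtPrime p.asIdeal) c := by
    intro c
    have h1 : j.stalkMap p (X.presheaf.germ ⊤ (j p) trivial (Coh.toGlobal (X ↘ Spec (CommRingCat.of k)) c)) =
        algebraMap A S (algebraMap k A c) := by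
      rw [Scheme.Hom.germ_stalkMap_apply]
      have h2 : ((X ↘ Spec (CommRingCat.of k)).appTop ≫ j.appTop) ((Scheme.ΓSpecIso (CommRingCat.of k)).inv c) =
          (Scheme.ΓSpecIso A).inv (algebraMap k A c) := by
        rw [← Scheme.Hom.comp_appTop, hj, ← CommRingCat.comp_apply, ← Scheme.ΓSpecIso_inv_naturality]
        rfl
      refine (congrArg ((Spec A).presheaf.germ (j ⁻¹ᵁ ⊤) p trivial) h2).trans ?_
      exact StructureSheaf.algebraMap_germ_apply (R := A) ⊤ p trivial (algebraMap k A c)
    show IsLocalization.algEquiv p.asIdeal.primeCompl S (Localization.AtPrime p.asIdeal) (j.stalkMap p _) = _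
    erw [h1]
    rw [IsScalarTower.algebraMap_apply k A (Localization.AtPrime p.asIdeal)]
    exact (IsLocalization.algEquiv p.asIdeal.primeCompl S (Localization.AtPrime p.asIdeal)).commutes _
  let eA : X.presheaf.stalk (j p) ≃ₐ[k] Localization.AtPrime p.asIdeal := AlgEquiv.ofRingEquiv (f := e) hc
  exact ⟨fun h => Algebra.IsGeometricallyReduced.of_injective eA.toAlgHom eA.injective,
    fun h => Algebra.IsGeometricallyReduced.of_injective eA.symm.toAlgHom eA.symm.injective⟩

end Groth.Agent.S1541
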