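import Groth.Statements.S15411
import Mathlib.RingTheory.Flat.FaithfullyFlat.Basic
import Mathlib.LinearAlgebra.Basis.VectorSpace
import Mathlib.RingTheory.TensorProduct.Free
import Mathlib.RingTheory.Bialgebra.Equiv

set_option autoImplicit false
universe u
open scoped TensorProduct
open Hopf

namespace Groth.Agent.S15411

/-- Let K be a field and let finitely many commutative K-algebras be given in two layers, K_i for each
vertex i and K_k for each edge k, with K-algebra maps from K_{l k} and from K_{r k} into K_k for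
every edge k, such that K is the equalizer of the system: every family (x_i) whose two images in K_k
agree for every k comes from exactly one element of K. Let A and B be commutative K-bialgebras
(coordinate rings of affine group or monoid schemes over K) and let u_i : K_i ⊗ B ≅ K_i ⊗ A be
isomorphisms of K_i-bialgebras such that, for every edge k, the base changes of u_{l k} and u_{r k}
to K_k agree. Then there is exactly one isomorphism of K-bialgebras v : B ≅ A inducing every u_i,
that is with u_i (1 ⊗ b) = 1 ⊗ v b. (The published statement is for the system obtained from a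
finite inverse factorization system of fields by base change to a finite separable extension K, and
for linear algebraic groups; this row keeps from that setting only what the argument uses: K is a
field and is the equalizer of the finite system, and the group schemes are affine.) -/
theorem result
    (K : Type u) [Field K] (ιv ιe : Type u) [Finite ιv] [Finite ιe]
    (Kv : ιv → Type u) [∀ i, CommRing (Kv i)] [∀ i, Algebra K (Kv i)]
    (Ke : ιe → Type u) [∀ k, CommRing (Ke k)] [∀ k, Algebra K (Ke k)]
    (l r : ιe → ιv) (ρl : ∀ k, Kv (l k) →ₐ[K] Ke k) (ρr : ∀ k, Kv (r k) →ₐ[K] Ke k)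
    (hlim : ∀ x : (∀ i, Kv i), (∀ k, ρl k (x (l k)) = ρr k (x (r k))) →
      ∃! a : K, ∀ i, algebraMap K (Kv i) a = x i)
    (A B : Type u) [CommRing A] [CommRing B] [Bialgebra K A] [Bialgebra K B]
    (u : ∀ i, (Kv i ⊗[K] B) ≃ₐc[Kv i] (Kv i ⊗[K] A))
    (hu : ∀ (k : ιe) (b : B),
      Algebra.TensorProduct.map (ρl k) (AlgHom.id K A) (u (l k) (1 ⊗ₜ[K] b)) =
        Algebra.TensorProduct.map (ρr k) (AlgHom.id K A) (u (r k) (1 ⊗ₜ[K] b))) :
    ∃! v : B ≃ₐc[K] A, ∀ (i : ιv) (b : B), u i (1 ⊗ₜ[K] b) = 1 ⊗ₜ[K] v b := by
  classical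
  have hinjK : ∀ a : K, (∀ i, algebraMap K (Kv i) a = 0) → a = 0 := fun a ha => by
    obtain ⟨z, -, hz⟩ := hlim 0 (fun k => by simp)
    exact (hz a (fun i => ha i)).trans (hz 0 (fun i => map_zero _)).symm
  have hinj : ∀ (M : Type u) [AddCommGroup M] [Module K M] (a a' : M),
      (∀ i, (1 : Kv i) ⊗ₜ[K] a = 1 ⊗ₜ a') → a = a' := by
    intro M _ _ a a' h
    let e := Module.Basis.ofVectorSpace K M
    refine e.ext_elem fun j => sub_eq_zero.1 (hinjK _ fun i => ?_)
    have := congrArg (fun z => (Algebra.TensorProduct.basis (Kv i) e).repr z j) (h i)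
    simp only [Algebra.TensorProduct.basis_repr_tmul, Finsupp.smul_apply, Finsupp.mapRange_apply, one_smul] at this
    rw [map_sub, this, sub_self]
  have hmap : ∀ (i : ιv) (k : ιe) (ρ : Kv i →ₐ[K] Ke k) (z : Kv i ⊗[K] A) j,
      (Algebra.TensorProduct.basis (Ke k) (Module.Basis.ofVectorSpace K A)).repr
        (Algebra.TensorProduct.map ρ (AlgHom.id K A) z) j =
        ρ ((Algebra.TensorProduct.basis (Kv i) (Module.Basis.ofVectorSpace K A)).repr z j) := by
    intro i k ρ z j
    induction z using TensorProduct.induction_on with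
    | zero => simp
    | add x y hx hy => simp only [map_add, Finsupp.add_apply, hx, hy]
    | tmul c a => simp [Algebra.TensorProduct.basis_repr_tmul, Algebra.smul_def, mul_comm]
  have hex : ∀ b : B, ∃ a : A, ∀ i, u i (1 ⊗ₜ[K] b) = 1 ⊗ₜ[K] a := by
    intro b
    let e := Module.Basis.ofVectorSpace K A
    let x := fun i j => (Algebra.TensorProduct.basis (Kv i) e).repr (u i (1 ⊗ₜ[K] b)) j
    have hc : ∀ j, ∃ c : K, ∀ i, algebraMap K (Kv i) c = x i j := fun j =>
      (hlim (fun i => x i j) fun k => by rw [← hmap, ← hmap, hu]).exists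
    choose c hc using hc
    haveI : Fintype ιv := Fintype.ofFinite ιv
    let s := Finset.univ.biUnion fun i => ((Algebra.TensorProduct.basis (Kv i) e).repr (u i (1 ⊗ₜ[K] b))).support
    have h0 : ∀ j, j ∉ s → c j = 0 := fun j hj => hinjK _ fun i => by
      rw [hc]
      simp only [s, Finset.mem_biUnion, Finset.mem_univ, true_and, not_exists] at hj
      exact Finsupp.notMem_support_iff.1 (hj i)
    refine ⟨e.repr.symm (Finsupp.onFinset s c fun j hj => by by_contra h; exact hj (h0 j h)), fun i => ?_⟩
    refine (Algebra.TensorProduct.basis (Kv i) e).ext_elem fun j => ?_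
    rw [Algebra.TensorProduct.basis_repr_tmul]
    simp only [LinearEquiv.apply_symm_apply, Finsupp.smul_apply, Finsupp.mapRange_apply, one_smul,
      Finsupp.onFinset_apply, hc]
    rfl
  choose f hf using hex
  let fa : B →ₐ[K] A :=
    { toFun := f
      map_one' := hinj A _ _ fun i => by rw [← hf, ← Algebra.TensorProduct.one_def, map_one, Algebra.TensorProduct.one_def]
      map_mul' := fun x y => hinj A _ _ fun i => by
        rw [← hf, ← mul_one (1 : Kv i), ← Algebra.TensorProduct.tmul_mul_tmul, map_mul, hf, hf,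
          Algebra.TensorProduct.tmul_mul_tmul]
      map_zero' := hinj A _ _ fun i => by rw [← hf]; simp
      map_add' := fun x y => hinj A _ _ fun i => by
        rw [← hf, TensorProduct.tmul_add, TensorProduct.tmul_add, map_add, hf, hf]
      commutes' := fun c => hinj A _ _ fun i => by
        rw [← hf, Algebra.algebraMap_eq_smul_one, Algebra.algebraMap_eq_smul_one, TensorProduct.tmul_smul,
          TensorProduct.tmul_smul, ← algebraMap_smul (Kv i) c ((1 : Kv i) ⊗ₜ[K] (1 : B)), map_smul,
          ← Algebra.TensorProduct.one_def, map_one, algebraMap_smul]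
        rfl }
  have hfa : ∀ i b, u i (1 ⊗ₜ[K] b) = 1 ⊗ₜ[K] fa b := fun i b => hf b i
  have hne : ∃ i, Nontrivial (Kv i) := by
    by_contra h
    simp only [not_exists, not_nontrivial_iff_subsingleton] at h
    exact one_ne_zero (hinjK 1 fun i => @Subsingleton.elim _ (h i) _ _)
  obtain ⟨i₀, hi₀⟩ := hne
  have hlT : ∀ z, u i₀ z = fa.toLinearMap.lTensor (Kv i₀) z := by
    intro z
    induction z using TensorProduct.induction_on with
    | zero => simp
    | add x y hx hy => simp only [map_add, hx, hy]
    | tmul c b =>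
      rw [show c ⊗ₜ[K] b = c • ((1 : Kv i₀) ⊗ₜ[K] b) by rw [TensorProduct.smul_tmul', smul_eq_mul, mul_one], map_smul, hfa]
      simp [TensorProduct.smul_tmul']
  haveI : Module.FaithfullyFlat K (Kv i₀) := inferInstance
  have hbij : Function.Bijective fa := by
    refine ⟨fun x y hxy => hinj B x y fun i => (u i).toMulEquiv.injective (show u i _ = u i _ by rw [hfa, hfa, hxy]), ?_⟩
    refine (Module.FaithfullyFlat.lTensor_surjective_iff_surjective K (Kv i₀) fa.toLinearMap).1 fun z => ?_
    obtain ⟨w, hw⟩ := (u i₀).surjective z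
    exact ⟨w, (hlT w).symm.trans hw⟩
  have hcounit : ∀ b, Coalgebra.counit (R := K) (fa b) = Coalgebra.counit (R := K) b := fun b =>
    sub_eq_zero.1 (hinjK _ fun i => by
      have := CoalgHomClass.counit_comp_apply (u i) ((1 : Kv i) ⊗ₜ[K] b)
      rw [hfa] at this
      simp only [TensorProduct.counit_tmul, CommSemiring.counit_apply, Algebra.smul_def, mul_one] at this
      rw [map_sub, this, sub_self])
  have hcomul : ∀ b, TensorProduct.map fa.toLinearMap fa.toLinearMap (Coalgebra.comul (R := K) b) =
      Coalgebra.comul (R := K) (fa b) := fun b => hinj (A ⊗[K] A) _ _ fun i => by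
    let Θ : (Kv i ⊗[K] A) ⊗[Kv i] (Kv i ⊗[K] A) →ₐ[Kv i] Kv i ⊗[K] (A ⊗[K] A) :=
      Algebra.TensorProduct.lift (Algebra.TensorProduct.map (AlgHom.id (Kv i) (Kv i)) Algebra.TensorProduct.includeLeft)
        (Algebra.TensorProduct.map (AlgHom.id (Kv i) (Kv i)) Algebra.TensorProduct.includeRight) fun _ _ => Commute.all _ _
    have h : Θ (TensorProduct.map (u i).toCoalgEquiv.toCoalgHom.toLinearMap (u i).toCoalgEquiv.toCoalgHom.toLinearMap
        (Coalgebra.comul (R := Kv i) ((1 : Kv i) ⊗ₜ[K] b))) = Θ (Coalgebra.comul (R := Kv i) (u i (1 ⊗ₜ b))) :=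
      congrArg Θ (LinearMap.congr_fun (u i).toCoalgEquiv.toCoalgHom.map_comp_comul _)
    refine Eq.trans ?_ (h.trans ?_)
    · simp only [TensorProduct.comul_tmul, CommSemiring.comul_apply]
      induction Coalgebra.comul (R := K) b using TensorProduct.induction_on with
      | zero => simp
      | add x y hx hy => simp only [TensorProduct.tmul_add, map_add, hx, hy]
      | tmul x y =>
        simp only [TensorProduct.AlgebraTensorModule.tensorTensorTensorComm_tmul, TensorProduct.map_tmul]
        show (1 : Kv i) ⊗ₜ[K] (fa x ⊗ₜ[K] fa y) = Θ (u i (1 ⊗ₜ x) ⊗ₜ[Kv i] u i (1 ⊗ₜ y))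
        rw [hfa, hfa]
        simp [Θ]
    · rw [hfa]
      simp only [TensorProduct.comul_tmul, CommSemiring.comul_apply]
      generalize fa b = a
      induction Coalgebra.comul (R := K) a using TensorProduct.induction_on with
      | zero => simp
      | add x y hx hy => simp only [TensorProduct.tmul_add, map_add, hx, hy]
      | tmul x y => simp [Θ, TensorProduct.AlgebraTensorModule.tensorTensorTensorComm_tmul]
  let fb : B →ₐc[K] A := BialgHom.ofAlgHom fa (AlgHom.ext hcounit) (AlgHom.ext hcomul)
  refine ⟨BialgEquiv.ofBijective fb hbij, fun i b => hfa i b, fun w hw => DFunLike.ext _ _ fun b =>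
    hinj A _ _ fun i => (hw i b).symm.trans (hfa i b)⟩

end Groth.Agent.S15411
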