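import Mathlib
import Groth.Agent.GeomRedAt.Basic
import Groth.Statements.S1542
-- import your own Groth.Agent.* helpers here

set_option autoImplicit false
set_option backward.isDefEq.respectTransparency false
set_option backward.isDefEq.respectTransparency.types false
universe u
open CategoryTheory CategoryTheory.Limits AlgebraicGeometry
open Variety

namespace Groth.Agent.S1542

/-- Geometric reducedness at a point passes to every generisation of that point. -/
theorem result (k : Type u) [Field k] (X : Scheme.{u}) [X.Over (Spec (CommRingCat.of k))] (x x' : X) (h : x' ⤳ x)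
    (hx : Curv2.IsGeomReducedAt k X x) : Curv2.IsGeomReducedAt k X x' := by
  obtain ⟨A, hA, j, hjo, hj, p, rfl⟩ := Groth.Agent.GeomRedAt.exists_chart (X ↘ Spec (CommRingCat.of k)) x
  obtain ⟨q, rfl⟩ : x' ∈ Set.range j := j.isOpenEmbedding.isOpen_range.stableUnderGeneralization h ⟨p, rfl⟩
  have hle : q.asIdeal ≤ p.asIdeal := (PrimeSpectrum.le_iff_specializes q p).2 (j.isOpenEmbedding.isInducing.specializes_iff.1 h)
  refine (Groth.Agent.GeomRedAt.isGeomReducedAt_iff (X ↘ Spec (CommRingCat.of k)) j hj q).2 ?_
  haveI h1 := (Groth.Agent.GeomRedAt.isGeomReducedAt_iff (X ↘ Spec (CommRingCat.of k)) j hj p).1 hx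
  let L := Localization.AtPrime p.asIdeal
  let L' := Localization.AtPrime q.asIdeal
  have hunit : ∀ y : p.asIdeal.primeCompl, IsUnit (algebraMap A L' y) := fun y =>
    IsLocalization.map_units L' (⟨y, fun hy => y.2 (hle hy)⟩ : q.asIdeal.primeCompl)
  letI : Algebra L L' := (IsLocalization.lift (S := L) hunit).toAlgebra
  haveI : IsScalarTower A L L' := .of_algebraMap_eq fun a => (IsLocalization.lift_eq _ a).symm
  haveI : IsScalarTower k L L' := .of_algebraMap_eq fun a => by
    rw [IsScalarTower.algebraMap_apply k A L, ← IsScalarTower.algebraMap_apply A L L', ← IsScalarTower.algebraMap_apply k A L']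
  haveI : IsLocalization (q.asIdeal.primeCompl.map (algebraMap A L)) L' :=
    IsLocalization.isLocalization_of_submonoid_le L L' p.asIdeal.primeCompl q.asIdeal.primeCompl (fun y hy hy' => hy (hle hy'))
  rw [Algebra.isGeometricallyReduced_field_iff] at h1 ⊢
  letI := (Algebra.TensorProduct.map (AlgHom.id (AlgebraicClosure k) (AlgebraicClosure k)) (IsScalarTower.toAlgHom k L L')).toRingHom.toAlgebra
  haveI := Groth.Agent.GeomRedStrata.isLocalization_baseChange k (AlgebraicClosure k) (q.asIdeal.primeCompl.map (algebraMap A L)) L'
  exact isReduced_localizationPreserves ((q.asIdeal.primeCompl.map (algebraMap A L)).map (Algebra.TensorProduct.includeRight (R := k) (A := AlgebraicClosure k))) _ h1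

end Groth.Agent.S1542
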