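-- statement GrSyz.GrothFrozen.S15427 (Groth/Statements/S15427.lean; the theorem GrSyz.isMinimal_iff_irredundant);
import Groth.Statements.S15427
import Groth.Agent.GrSyzLib.Std

set_option autoImplicit false
universe u
open GrSyz

namespace Groth.Agent.S15427

/-- Let k be a field, S = k[x_0, …, x_r] graded by degree, 𝔪 = (x_0, …, x_r), M a finitely generated
ℤ-graded S-module and F a graded free resolution of M by free modules of finite rank with chosen
homogeneous bases, written as matrices d_i : F_{i+1} → F_i together with the images aug b ∈ M of the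
basis of F_0. Then F is a minimal complex (every matrix entry lies in 𝔪) if and only if every map of
the resolution carries its basis to an irredundant (minimal) family of generators of its image: for
each b, aug b is not in the S-span of the remaining aug b', and for each i and each column of d_i,
that column is not in the S-span of the remaining columns. -/
theorem result (k : Type u) [Field k] (r : ℕ)
    (M : Type u) [AddCommGroup M] [Module k M] [Module (MvPolynomial (Fin (r + 1)) k) M]
    [IsScalarTower k (MvPolynomial (Fin (r + 1)) k) M] [Module.Finite (MvPolynomial (Fin (r + 1)) k) M]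
    (ℳ : ℤ → Submodule k M) [DirectSum.Decomposition ℳ] [SetLike.GradedSMul (GrSyz.stdGr k (Fin (r + 1))) ℳ]
    (F : GrSyz.FreeRes (GrSyz.stdGr k (Fin (r + 1))) ℳ) :
    F.IsMinimal (GrSyz.irrel (GrSyz.stdGr k (Fin (r + 1)))).toIdeal ↔
      ((∀ b : Fin (F.rk 0), F.aug b ∉ Submodule.span (MvPolynomial (Fin (r + 1)) k) (F.aug '' {b' | b' ≠ b})) ∧
        ∀ (i : ℕ) (b : Fin (F.rk (i + 1))),
          (fun a => F.d i a b) ∉ Submodule.span (MvPolynomial (Fin (r + 1)) k) ((fun b' a => F.d i a b') '' {b' | b' ≠ b})) := by
  classical
  rw [Groth.Agent.GrSyzLib.isMinimal_iff_ker,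
    ← Groth.Agent.GrSyzLib.forall_mem_mm_iff (F.deg 0) _
      (fun j v hv => Groth.Agent.GrSyzLib.ker_lincomb_closed (GrSyz.stdGr k (Fin (r + 1))) ℳ F.aug_mem j v hv)]
  have hcol : ∀ i, F.dLin i = Fintype.linearCombination (MvPolynomial (Fin (r + 1)) k) (fun b a => F.d i a b) :=
    fun i => LinearMap.ext fun v => funext fun a => by
      simp [Matrix.mulVec, dotProduct, Fintype.linearCombination_apply, Finset.sum_apply, mul_comm]
  refine and_congr ?_ (forall_congr' fun i => ?_)
  · simp only [Groth.Agent.GrSyzLib.mem_span_others_iff, not_exists, not_and]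
    exact ⟨fun h b v hv => h v hv b, fun h v hv b => h b v hv⟩
  · rw [← Groth.Agent.GrSyzLib.forall_mem_mm_iff (F.deg (i + 1)) _
      (fun j v hv => Groth.Agent.GrSyzLib.ker_mulVec_closed (GrSyz.stdGr k (Fin (r + 1))) (F.d_mem i) j v hv)]
    simp only [Groth.Agent.GrSyzLib.mem_span_others_iff, not_exists, not_and, hcol]
    exact ⟨fun h b v hv => h v hv b, fun h v hv b => h b v hv⟩

end Groth.Agent.S15427
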