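-- statement GrSyz.GrothFrozen.S15429 (Groth/Statements/S15429.lean; the theorem GrSyz.exists_polynomial_eval_eq_finrank_piece);
import Groth.Statements.S15429
import Groth.Agent.GrSyzLib.Hilbert

set_option autoImplicit false
universe u
open GrSyz

namespace Groth.Agent.S15429

/-- Let k be a field, S = k[x_0, …, x_r] graded by degree and M a ℤ-graded S-module with a finite graded
free resolution 0 → F_m → … → F_0 → M → 0 by free modules of finite rank with homogeneous bases, the
basis vectors of F_i having degrees a_{i,b}. Then there is a polynomial P with rational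
coefficients, the Hilbert polynomial of M, with dim_k M_d = P(d) for every integer d such that d ≥
a_{i,b} − r for all i and b. -/
theorem result (k : Type u) [Field k] (r : ℕ)
    (M : Type u) [AddCommGroup M] [Module k M] [Module (MvPolynomial (Fin (r + 1)) k) M]
    [IsScalarTower k (MvPolynomial (Fin (r + 1)) k) M] [Module.Finite (MvPolynomial (Fin (r + 1)) k) M]
    (ℳ : ℤ → Submodule k M) [DirectSum.Decomposition ℳ] [SetLike.GradedSMul (GrSyz.stdGr k (Fin (r + 1))) ℳ]
    (F : GrSyz.FreeRes (GrSyz.stdGr k (Fin (r + 1))) ℳ) (m : ℕ) (hF : F.HasLengthLE m) :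
    ∃ P : Polynomial ℚ, ∀ d : ℤ, (∀ (i : ℕ) (b : Fin (F.rk i)), F.deg i b - (r : ℤ) ≤ d) →
      ((Module.finrank k ↥(ℳ d) : ℤ) : ℚ) = P.eval (d : ℚ) := by
  classical
  let C : ℤ → Polynomial ℚ := fun a => Polynomial.C ((r.factorial : ℚ)⁻¹) *
    ∏ l ∈ Finset.range r, (Polynomial.X + Polynomial.C ((r : ℚ) - (l : ℚ) - (a : ℚ)))
  refine ⟨∑ i ∈ Finset.range (m + 1), Polynomial.C ((-1 : ℚ) ^ i) * ∑ b : Fin (F.rk i), C (F.deg i b), fun d hd => ?_⟩
  rw [Groth.Agent.GrSyzLib.finrank_piece F d hF, Polynomial.eval_finsetSum, Int.cast_sum]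
  refine Finset.sum_congr rfl fun i _ => ?_
  rw [Polynomial.eval_mul, Polynomial.eval_C, Polynomial.eval_finsetSum, Int.cast_mul, Int.cast_pow, Int.cast_neg,
    Int.cast_one, Int.cast_sum]
  congr 1
  refine Finset.sum_congr rfl fun b _ => ?_
  have key : ∀ l : ℕ, ((d : ℚ) + ((r : ℚ) - (l : ℚ) - (F.deg i b : ℚ))) = (((d - F.deg i b + r) - l : ℤ) : ℚ) := fun l => by
    push_cast; ring
  simp only [C, Polynomial.eval_mul, Polynomial.eval_C, Polynomial.eval_prod, Polynomial.eval_add, Polynomial.eval_X, key]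
  obtain ⟨t, ht⟩ : ∃ t : ℕ, d - F.deg i b + r = t := ⟨(d - F.deg i b + r).toNat, (Int.toNat_of_nonneg (by have := hd i b; omega)).symm⟩
  have hprod : (∏ l ∈ Finset.range r, (((t : ℤ) - l : ℤ) : ℚ)) = (r.factorial : ℚ) * (t.choose r : ℚ) := by
    rw [← Nat.cast_mul, ← Nat.descFactorial_eq_factorial_mul_choose]
    by_cases htr : r ≤ t
    · rw [Nat.descFactorial_eq_prod_range, Nat.cast_prod]
      refine Finset.prod_congr rfl fun l hl => ?_
      rw [Finset.mem_range] at hl
      rw [← Nat.cast_sub (by omega), Int.cast_natCast]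
    · rw [Nat.descFactorial_eq_zero_iff_lt.2 (not_le.1 htr), Nat.cast_zero]
      exact Finset.prod_eq_zero (Finset.mem_range.2 (not_le.1 htr)) (by simp)
  rw [ht, hprod, ← mul_assoc, inv_mul_cancel₀ (by exact_mod_cast r.factorial_ne_zero), one_mul]
  split_ifs with h
  · rw [show r + (d - F.deg i b).toNat = t by omega]; norm_cast
  · rw [Nat.choose_eq_zero_of_lt (show t < r by omega)]; simp

end Groth.Agent.S15429
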