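import Mathlib
import Groth.Agent.GeomRedAt.Basic
import Groth.Statements.S1610
-- import your own Groth.Agent.* helpers here

set_option autoImplicit false
set_option backward.isDefEq.respectTransparency false
set_option backward.isDefEq.respectTransparency.types false
universe u
open TensorProduct
open CategoryTheory CategoryTheory.Limits AlgebraicGeometry
open Variety

namespace Groth.Agent.S1610

/-- Let k have characteristic p > 0, X a scheme over k and x a point. Then X is geometrically reduced at
x if and only if for every finite purely inseparable extension k' of k and every point x' of X_{k'}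
over x, the local ring of X_{k'} at x' is reduced. -/
theorem result (k : Type u) [Field k] (p : ℕ) [Fact p.Prime] [CharP k p]
    (X : Scheme.{u}) [X.Over (Spec (CommRingCat.of k))] (x : X) :
    Curv2.IsGeomReducedAt k X x ↔
      ∀ (k' : Type u) [Field k'] [Algebra k k'] [FiniteDimensional k k'] [IsPurelyInseparable k k']
        (x' : Curv2.bc k X k'), Curv2.bcFst k X k' x' = x → IsReduced ((Curv2.bc k X k').presheaf.stalk x') := by
  constructor
  · intro h k' _ _ _ _ x' hx'
    exact h k' x' hx'
  intro h
  obtain ⟨A, _, j, _, hj, q, rfl⟩ := Groth.Agent.GeomRedAt.exists_chart (X ↘ Spec (CommRingCat.of k)) x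
  refine (Groth.Agent.GeomRedAt.isGeomReducedAt_iff (X ↘ Spec (CommRingCat.of k)) j hj q).2 ?_
  let L := Localization.AtPrime q.asIdeal
  have hP : ∀ {R S : Type u} [CommRing R] [CommRing S], (R ≃+* S) → _root_.IsReduced R → _root_.IsReduced S :=
    fun e h => isReduced_of_injective e.symm e.symm.injective
  let kp := perfectClosure k (AlgebraicClosure k)
  have hfin : ∀ E : IntermediateField k kp, FiniteDimensional k E → _root_.IsReduced (E ⊗[k] L) := by
    intro E hE
    haveI : IsPurelyInseparable k E := IsPurelyInseparable.tower_bot k E kp
    exact Groth.Agent.GeomRedAt.isReduced_tensor_atPrime A q E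
      ((Groth.Agent.GeomRedAt.forall_stalk_iff _ hP (X ↘ Spec (CommRingCat.of k)) j hj q E).1 fun x' hx' => h E x' hx')
  haveI : _root_.IsReduced (L ⊗[k] kp) := by
    refine IsReduced.tensorProduct_of_flat_of_forall_fg fun B hB => ?_
    obtain ⟨s, hs⟩ := hB
    let E := IntermediateField.adjoin k (s : Set kp)
    haveI : FiniteDimensional k E := IntermediateField.finiteDimensional_adjoin fun z _ => (Algebra.IsAlgebraic.isAlgebraic (R := k) z).isIntegral
    haveI := hfin E inferInstance
    have hle : B ≤ E.toSubalgebra := hs ▸ IntermediateField.algebra_adjoin_le_adjoin k _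
    let φ : L ⊗[k] B →ₐ[k] E ⊗[k] L :=
      (Algebra.TensorProduct.comm k L E).toAlgHom.comp (Algebra.TensorProduct.map (AlgHom.id k L) (Subalgebra.inclusion hle))
    refine @isReduced_of_injective _ _ _ _ _ _ _ φ.toRingHom ((Algebra.TensorProduct.comm k L E).injective.comp ?_) (hfin E inferInstance)
    exact Module.Flat.lTensor_preserves_injective_linearMap _ (Subalgebra.inclusion_injective hle)
  haveI : _root_.IsReduced (kp ⊗[k] L) :=
    isReduced_of_injective (Algebra.TensorProduct.comm k kp L) (Algebra.TensorProduct.comm k kp L).injective
  exact Groth.Agent.RegLocus.geomReduced_of_perfect k kp L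

end Groth.Agent.S1610
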