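import Groth.Statements.S15432
import Groth.Agent.GrSyzLib.Hilbert
import Groth.Agent.GrSyzLib.Unique

set_option autoImplicit false
universe u
open GrSyz

open Groth.Agent

namespace Groth.Agent.S15432

set_option maxHeartbeats 1000000 in
/-- Let k be a field, Z a nonempty finite set of nonzero vectors of k^3, regarded as points of the
projective plane, I ⊆ S = k[x_0, x_1, x_2] the homogeneous vanishing ideal of Z (a polynomial lies
in I exactly when each of its homogeneous components vanishes at every vector of Z), M = S/I given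
as a ℤ-graded S-module with a surjective degree-preserving S-linear map π : S → M with kernel I, and
F a minimal graded free resolution of M of length at most 2 whose terms F_1 and F_2 have ranks t + 1
and t, with basis degrees a_1 ≥ … ≥ a_{t+1} for F_1 and b_1 ≥ … ≥ b_t for F_2 (non-increasing along
the chosen bases), so that the (i, j) entry of the matrix F_2 → F_1 has degree b_j − a_i. Put e_i =
b_i − a_i and f_i = b_i − a_{i+1}. Then e_i ≥ 1 and f_i ≥ 1 for every i, and Σ_i a_i = Σ_j b_j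
(equivalently a_i = Σ_{j < i} e_j + Σ_{j ≥ i} f_j for every i). (The ordering of both bases is the
standing assumption under which the published statement is made; this row carries it as the
hypotheses on the basis degrees. The further inequalities f_i ≥ e_i and f_i ≥ e_{i+1} follow at once
from the ordering and are not restated.) -/
theorem result (k : Type u) [Field k]
    (Z : Finset (Fin 3 → k)) (hZ : ∀ p ∈ Z, p ≠ 0) (hZne : Z.Nonempty) (I : Ideal (MvPolynomial (Fin 3) k))
    (hI : ∀ f : MvPolynomial (Fin 3) k, f ∈ I ↔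
      ∀ p ∈ Z, ∀ j : ℕ, MvPolynomial.eval p (MvPolynomial.homogeneousComponent j f) = 0)
    (M : Type u) [AddCommGroup M] [Module k M] [Module (MvPolynomial (Fin 3) k) M] [IsScalarTower k (MvPolynomial (Fin 3) k) M]
    (ℳ : ℤ → Submodule k M) [DirectSum.Decomposition ℳ] [SetLike.GradedSMul (GrSyz.stdGr k (Fin 3)) ℳ]
    (π : MvPolynomial (Fin 3) k →ₗ[MvPolynomial (Fin 3) k] M) (hπ : Function.Surjective π)
    (hπg : GrLC.IsGrHom (GrSyz.stdGr k (Fin 3)) ℳ π) (hker : LinearMap.ker π = I)
    (F : GrSyz.FreeRes (GrSyz.stdGr k (Fin 3)) ℳ) (hF : F.IsMinimal (GrSyz.irrel (GrSyz.stdGr k (Fin 3))).toIdeal) (hlen : F.HasLengthLE 2)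
    (t : ℕ) (h1 : F.rk 1 = t + 1) (h2 : F.rk 2 = t)
    (ha : ∀ i j : Fin (t + 1), i ≤ j → F.deg 1 (Fin.cast h1.symm j) ≤ F.deg 1 (Fin.cast h1.symm i))
    (hb : ∀ i j : Fin t, i ≤ j → F.deg 2 (Fin.cast h2.symm j) ≤ F.deg 2 (Fin.cast h2.symm i)) :
    (∀ i : Fin t, 1 ≤ F.deg 2 (Fin.cast h2.symm i) - F.deg 1 (Fin.cast h1.symm i.castSucc) ∧
        1 ≤ F.deg 2 (Fin.cast h2.symm i) - F.deg 1 (Fin.cast h1.symm i.succ)) ∧
      ∑ i : Fin (t + 1), F.deg 1 (Fin.cast h1.symm i) = ∑ j : Fin t, F.deg 2 (Fin.cast h2.symm j) := by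
  classical
  set Dm : Matrix (Fin (t + 1)) (Fin t) (MvPolynomial (Fin 3) k) :=
    fun a b => F.d 1 (Fin.cast h1.symm a) (Fin.cast h2.symm b) with hDm
  have hzero : ∀ a b, F.deg 2 (Fin.cast h2.symm b) ≤ F.deg 1 (Fin.cast h1.symm a) → Dm a b = 0 := fun a b hle =>
    GrSyzLib.eq_zero_of_mem_mm (F.d_mem 1 _ _) (hF 1 _ _) (by
      show F.deg 2 (Fin.cast h2.symm b) - F.deg 1 (Fin.cast h1.symm a) ≤ 0
      omega)
  have hker1 : ∀ v : Fin (F.rk 2) → MvPolynomial (Fin 3) k, (F.d 1).mulVec v = 0 → v = 0 := by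
    intro v hv
    obtain ⟨w, hw⟩ := (F.exact_succ 1).le (show v ∈ LinearMap.ker (F.dLin 1) from hv)
    haveI : IsEmpty (Fin (F.rk (1 + 2))) := by rw [show F.rk (1 + 2) = 0 from hlen 3 (by norm_num)]; infer_instance
    rw [← hw, show w = 0 from Subsingleton.elim _ _, map_zero]
  have hinj : ∀ v : Fin t → MvPolynomial (Fin 3) k, Dm.mulVec v = 0 → v = 0 := by
    intro v hv
    have h := hker1 (fun b => v (Fin.cast h2 b)) (funext fun a => by
      have h' := congrFun hv (Fin.cast h1 a)
      simp only [Matrix.mulVec, dotProduct, hDm, Pi.zero_apply] at h' ⊢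
      rw [← h']
      exact Fintype.sum_equiv (finCongr h2) _ _ (fun b => rfl))
    funext b
    simpa using congrFun h (Fin.cast h2.symm b)
  have hpad : ∀ (i p : ℕ) (hip : i + p = t), ∀ v : Fin p → MvPolynomial (Fin 3) k,
      ∀ a, Dm.mulVec (fun b => if h : i ≤ b.1 ∧ b.1 - i < p then v ⟨b.1 - i, h.2⟩ else 0) a =
        ∑ c : Fin p, Dm a ⟨i + c.1, by omega⟩ * v c := by
    intro i p hip v a
    let emb : Fin p ↪ Fin t := ⟨fun c => ⟨i + c.1, by omega⟩, fun c c' h => by
      simp only [Fin.mk.injEq] at h; exact Fin.ext (by omega)⟩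
    rw [Matrix.mulVec, dotProduct, ← Finset.sum_subset (Finset.subset_univ (Finset.univ.map emb)), Finset.sum_map]
    · refine Finset.sum_congr rfl fun c _ => ?_
      show Dm a ⟨i + c.1, by omega⟩ * (if h : i ≤ i + c.1 ∧ i + c.1 - i < p then v ⟨i + c.1 - i, h.2⟩ else 0) = _
      rw [dif_pos ⟨Nat.le_add_right _ _, by omega⟩]
      simp only [add_tsub_cancel_left]
    · intro b _ hb
      rw [dif_neg, mul_zero]
      rintro ⟨h, h'⟩
      exact hb (Finset.mem_map.2 ⟨⟨b.1 - i, h'⟩, Finset.mem_univ _, Fin.ext (show i + (b.1 - i) = b.1 by omega)⟩)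
  refine ⟨fun i => ⟨?_, ?_⟩, ?_⟩
  · by_contra hlt
    obtain ⟨p, hp⟩ : ∃ p, i.1 + p = t ∧ 0 < p := ⟨t - i.1, by omega, by omega⟩
    obtain ⟨hp, hppos⟩ := hp
    let B : Matrix (Fin p) (Fin p) (MvPolynomial (Fin 3) k) := fun r c => Dm ⟨i.1 + 1 + r.1, by omega⟩ ⟨i.1 + c.1, by omega⟩
    have hz : ∀ (a : Fin (t + 1)) (c : Fin p), a.1 ≤ i.1 → Dm a ⟨i.1 + c.1, by omega⟩ = 0 := fun a c ha' => by
      refine hzero _ _ ?_
      have h3 := ha a i.castSucc (by simpa [Fin.le_def] using ha')
      have h4 := hb i ⟨i.1 + c.1, by omega⟩ (by simp [Fin.le_def])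
      omega
    have hdet : B.det ≠ 0 := by
      intro h
      obtain ⟨v, hv0, hv⟩ := Matrix.exists_mulVec_eq_zero_iff.2 h
      have h3 := hinj (fun b => if h : i.1 ≤ b.1 ∧ b.1 - i.1 < p then v ⟨b.1 - i.1, h.2⟩ else 0) (funext fun a => by
        rw [hpad i.1 p hp v a, Pi.zero_apply]
        by_cases ha' : a.1 ≤ i.1
        · exact Finset.sum_eq_zero fun c _ => by rw [hz a c ha', zero_mul]
        · have h4 := congrFun hv ⟨a.1 - (i.1 + 1), by omega⟩
          simp only [Matrix.mulVec, dotProduct, Pi.zero_apply] at h4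
          rw [← h4]
          refine Finset.sum_congr rfl fun c _ => ?_
          simp only [B]
          congr 2
          exact Fin.ext (by simp only [Fin.val_mk]; omega))
      refine hv0 (funext fun c => ?_)
      have h5 := congrFun h3 ⟨i.1 + c.1, by omega⟩
      simp only [Pi.zero_apply, Nat.le_add_right, true_and, add_tsub_cancel_left, Fin.is_lt, dite_true, Fin.eta] at h5
      exact h5
    obtain ⟨a0, ha0⟩ := GrSyzLib.column_ne_zero F hF 0 (Fin.cast h1.symm ⟨i.1 + 1, by omega⟩)
    have hvec : Matrix.vecMul (fun r : Fin p => F.d 0 a0 (Fin.cast h1.symm ⟨i.1 + 1 + r.1, by omega⟩)) B = 0 := by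
      funext c
      have h3 := congrFun (congrFun (GrSyzLib.d_mul_d F 0) a0) (Fin.cast h2.symm ⟨i.1 + c.1, by omega⟩)
      rw [Matrix.mul_apply, Matrix.zero_apply] at h3
      rw [Matrix.vecMul, dotProduct, Pi.zero_apply]
      let emb : Fin p ↪ Fin (F.rk 1) := ⟨fun r => Fin.cast h1.symm ⟨i.1 + 1 + r.1, by omega⟩, fun c c' h => by
        simp only [Fin.ext_iff, Fin.val_cast] at h; exact Fin.ext (by omega)⟩
      refine Eq.trans ?_ h3
      refine Eq.trans ?_ (Finset.sum_subset (Finset.subset_univ (Finset.univ.map emb)) ?_)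
      · rw [Finset.sum_map]
        rfl
      · intro a _ hna
        have : (Fin.cast h1 a).1 ≤ i.1 := by
          by_contra hgt
          exact hna (Finset.mem_map.2 ⟨⟨a.1 - (i.1 + 1), by simp at hgt; omega⟩, Finset.mem_univ _,
            Fin.ext (show i.1 + 1 + (a.1 - (i.1 + 1)) = a.1 by simp at hgt; omega)⟩)
        have h4 := hz (Fin.cast h1 a) c this
        rw [show F.d (0 + 1) a (Fin.cast h2.symm ⟨i.1 + c.1, by omega⟩) = 0 from h4, mul_zero]
    have hw := Matrix.eq_zero_of_vecMul_eq_zero hdet hvec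
    exact ha0 (by simpa using congrFun hw ⟨0, hppos⟩)
  · by_contra hlt
    obtain ⟨p, hp⟩ : ∃ p, i.1 + (p + 1) = t := ⟨t - i.1 - 1, by omega⟩
    let L : (Fin (p + 1) → MvPolynomial (Fin 3) k) →ₗ[MvPolynomial (Fin 3) k] (Fin p → MvPolynomial (Fin 3) k) :=
      Matrix.mulVecLin (fun r c => Dm ⟨i.1 + 2 + r.1, by omega⟩ ⟨i.1 + c.1, by omega⟩)
    have hL : Function.Injective L := by
      refine (injective_iff_map_eq_zero L).2 fun v hv => ?_
      have h3 := hinj (fun b => if h : i.1 ≤ b.1 ∧ b.1 - i.1 < p + 1 then v ⟨b.1 - i.1, h.2⟩ else 0) (funext fun a => by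
        rw [hpad i.1 (p + 1) hp v a, Pi.zero_apply]
        by_cases ha' : a.1 ≤ i.1 + 1
        · refine Finset.sum_eq_zero fun c _ => ?_
          rw [hzero a ⟨i.1 + c.1, by omega⟩ ?_, zero_mul]
          have h3 := ha a i.succ (by simpa [Fin.le_def] using ha')
          have h4 := hb i ⟨i.1 + c.1, by omega⟩ (by simp [Fin.le_def])
          omega
        · have h4 := congrFun hv ⟨a.1 - (i.1 + 2), by omega⟩
          simp only [L, Matrix.mulVecLin_apply, Matrix.mulVec, dotProduct, Pi.zero_apply] at h4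
          rw [← h4]
          refine Finset.sum_congr rfl fun c _ => ?_
          congr 2
          exact Fin.ext (by simp only [Fin.val_mk]; omega))
      funext c
      have h5 := congrFun h3 ⟨i.1 + c.1, by omega⟩
      simp only [Pi.zero_apply, Nat.le_add_right, true_and, add_tsub_cancel_left, Fin.is_lt, dite_true, Fin.eta] at h5
      exact h5
    have := LinearMap.finrank_le_finrank_of_injective hL
    simp at this
  · -- the Hilbert function is bounded
    have hbd : ∀ d : ℤ, Module.finrank k (ℳ d) ≤ Z.card := by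
      intro d
      let g : GrSyz.stdGr k (Fin 3) d →ₗ[k] M := (π.restrictScalars k) ∘ₗ (GrSyz.stdGr k (Fin 3) d).subtype
      let ev : GrSyz.stdGr k (Fin 3) d →ₗ[k] (Z → k) :=
        (LinearMap.pi fun p : Z => (MvPolynomial.aeval (R := k) (p : Fin 3 → k)).toLinearMap) ∘ₗ (GrSyz.stdGr k (Fin 3) d).subtype
      have hle : LinearMap.ker ev ≤ LinearMap.ker g := by
        intro f hf
        show π f.1 = 0
        rw [← LinearMap.mem_ker, hker, hI]
        intro p hp j
        have hev : MvPolynomial.eval p f.1 = 0 := by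
          have := congrFun (LinearMap.mem_ker.1 hf) ⟨p, hp⟩
          simpa [ev, MvPolynomial.aeval_eq_eval] using this
        by_cases hd : 0 ≤ d
        · have hh : f.1 ∈ MvPolynomial.homogeneousSubmodule (Fin 3) k d.toNat := by
            rw [← GrSyzLib.stdGr_eq_homogeneous hd]; exact f.2
          rw [MvPolynomial.homogeneousComponent_of_mem hh]
          split_ifs <;> simp [hev]
        · rw [GrSyzLib.eq_zero_of_mem_neg f.2 (by omega)]; simp
      have hrange : ℳ d ≤ LinearMap.range g := by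
        intro y hy
        obtain ⟨f, rfl⟩ := hπ y
        refine ⟨⟨(DirectSum.decompose (GrSyz.stdGr k (Fin 3)) f d : MvPolynomial (Fin 3) k), SetLike.coe_mem _⟩, ?_⟩
        show π (DirectSum.decompose (GrSyz.stdGr k (Fin 3)) f d : MvPolynomial (Fin 3) k) = π f
        conv_rhs => rw [← (show GrSyzLib.compM ℳ _ (π f) = π f by rw [GrSyzLib.compM_of_mem ℳ hy, if_pos rfl]), ← DirectSum.sum_support_decompose (GrSyz.stdGr k (Fin 3)) f, map_sum, map_sum]
        rw [Finset.sum_eq_single d]
        · rw [GrSyzLib.compM_of_mem ℳ (hπg _ _ (SetLike.coe_mem _)), if_pos rfl]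
        · intro j _ hj
          rw [GrSyzLib.compM_of_mem ℳ (hπg _ _ (SetLike.coe_mem _)), if_neg (Ne.symm hj)]
        · intro hd
          rw [GrSyzLib.compM_of_mem ℳ (hπg _ _ (SetLike.coe_mem _)), if_pos rfl, DFinsupp.notMem_support_iff.1 hd,
            ZeroMemClass.coe_zero, map_zero]
      haveI : FiniteDimensional k (LinearMap.range g) := inferInstance
      refine (Submodule.finrank_mono hrange).trans ?_
      have e1 := LinearMap.finrank_range_add_finrank_ker g
      have e2 := LinearMap.finrank_range_add_finrank_ker ev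
      have e3 := Submodule.finrank_mono hle
      have e4 : Module.finrank k (LinearMap.range ev) ≤ Z.card := (Submodule.finrank_le _).trans (by simp)
      omega
    obtain ⟨N, hN⟩ : ∃ N : ℤ, ∀ i : Fin 3, ∀ b : Fin (F.rk i), F.deg i b ≤ N := by
      obtain ⟨N, hN⟩ := (Set.finite_range fun x : Σ i : Fin 3, Fin (F.rk i) => F.deg x.1 x.2).bddAbove
      exact ⟨N, fun i b => hN ⟨⟨i, b⟩, rfl⟩⟩
    let sd : ℕ → ℤ := fun i => ∑ b : Fin (F.rk i), F.deg i b
    let sq : ℕ → ℤ := fun i => ∑ b : Fin (F.rk i), (F.deg i b) ^ 2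
    have hsum : ∀ (i : ℕ), i < 3 → ∀ d : ℤ, N ≤ d → 2 * ∑ b : Fin (F.rk i),
        (if F.deg i b ≤ d then ((Nat.choose (2 + (d - F.deg i b).toNat) 2 : ℕ) : ℤ) else 0) =
        (F.rk i : ℤ) * (d ^ 2 + 3 * d + 2) - (2 * d + 3) * sd i + sq i := by
      intro i hi d hd
      have hc : ∀ b : Fin (F.rk i), 2 * (if F.deg i b ≤ d then ((Nat.choose (2 + (d - F.deg i b).toNat) 2 : ℕ) : ℤ) else 0) =
          (d ^ 2 + 3 * d + 2) - (2 * d + 3) * F.deg i b + F.deg i b ^ 2 := by
        intro b
        have hle : F.deg i b ≤ d := (hN ⟨i, hi⟩ b).trans hd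
        rw [if_pos hle]
        obtain ⟨m, hm⟩ : ∃ m : ℕ, d - F.deg i b = m := ⟨(d - F.deg i b).toNat, by omega⟩
        rw [hm, Int.toNat_natCast]
        have h2m : 2 * Nat.choose (2 + m) 2 = (m + 2) * (m + 1) := by
          rw [Nat.choose_two_right, show (2 + m) * (2 + m - 1) = (m + 2) * (m + 1) by
            rw [show 2 + m - 1 = m + 1 by omega, add_comm 2 m]]
          exact Nat.mul_div_cancel' (Nat.even_mul_pred_self (m + 2)).two_dvd
        have h2m' : (2 : ℤ) * (Nat.choose (2 + m) 2 : ℕ) = ((m : ℤ) + 2) * ((m : ℤ) + 1) := by exact_mod_cast h2m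
        rw [h2m', ← hm]
        ring
      rw [Finset.mul_sum, Finset.sum_congr rfl fun b _ => hc b, Finset.sum_add_distrib, Finset.sum_sub_distrib,
        Finset.sum_const, Finset.card_univ, Fintype.card_fin, nsmul_eq_mul, ← Finset.mul_sum]
    let A : ℤ := (F.rk 0 : ℤ) - 1
    let B : ℤ := 3 * A - 2 * (sd 0 - sd 1 + sd 2)
    let C : ℤ := 2 * A - 3 * (sd 0 - sd 1 + sd 2) + (sq 0 - sq 1 + sq 2)
    have hP : ∀ d : ℤ, N ≤ d → 0 ≤ A * d ^ 2 + B * d + C ∧ A * d ^ 2 + B * d + C ≤ 2 * (Z.card : ℤ) := by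
      intro d hd
      have h := GrSyzLib.finrank_piece F d hlen
      have e0 := hsum 0 (by norm_num) d hd
      have e1 := hsum 1 (by norm_num) d hd
      have e2 := hsum 2 (by norm_num) d hd
      rw [Finset.sum_range_succ, Finset.sum_range_succ, Finset.sum_range_one] at h
      have c1 : (F.rk 1 : ℤ) = (t : ℤ) + 1 := by exact_mod_cast h1
      have c2 : (F.rk 2 : ℤ) = (t : ℤ) := by exact_mod_cast h2
      rw [c1] at e1
      rw [c2] at e2
      have hrw : A * d ^ 2 + B * d + C = 2 * (Module.finrank k (ℳ d) : ℤ) := by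
        simp only [A, B, C]
        rw [h]
        linear_combination (-1 : ℤ) * e0 + e1 - e2
      rw [hrw]
      exact ⟨by positivity, by have := hbd d; omega⟩
    set K : ℤ := 2 * (Z.card : ℤ) with hK
    have hA : A = 0 := by
      obtain ⟨D, hD1, hD2⟩ : ∃ D : ℤ, N ≤ D ∧ |B| + |C| + K + 1 ≤ D := ⟨max N (|B| + |C| + K + 1), le_max_left _ _, le_max_right _ _⟩
      have h0 := hP D hD1
      have hKn : 0 ≤ K := by positivity
      have := abs_nonneg B; have := abs_nonneg C
      rcases lt_trichotomy A 0 with h | h | h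
      · nlinarith [le_abs_self B, le_abs_self C, neg_abs_le B, neg_abs_le C]
      · exact h
      · nlinarith [le_abs_self B, le_abs_self C, neg_abs_le B, neg_abs_le C]
    have hB : B = 0 := by
      obtain ⟨D, hD1, hD2⟩ : ∃ D : ℤ, N ≤ D ∧ |C| + K + 1 ≤ D := ⟨max N (|C| + K + 1), le_max_left _ _, le_max_right _ _⟩
      have h0 := hP D hD1
      rw [hA] at h0
      have hKn : 0 ≤ K := by positivity
      have := abs_nonneg C
      rcases lt_trichotomy B 0 with h | h | h
      · nlinarith [le_abs_self C, neg_abs_le C]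
      · exact h
      · nlinarith [le_abs_self C, neg_abs_le C]
    have hrk : F.rk 0 = 1 := by simp only [A] at hA; omega
    have hdeg0 : sd 0 = 0 := by
      have h1Z : π 1 ≠ 0 := by
        intro h
        rw [← LinearMap.mem_ker, hker, hI] at h
        obtain ⟨p, hp⟩ := hZne
        have := h p hp 0
        simp at this
      obtain ⟨v, hv⟩ := F.aug_surjective (π 1)
      haveI : Unique (Fin (F.rk 0)) := hrk ▸ (inferInstance : Unique (Fin 1))
      have hs : sd 0 = F.deg 0 default := by simp [sd, Fintype.sum_unique]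
      rw [hs]
      set e := F.deg 0 default
      rw [Fintype.linearCombination_apply, Fintype.sum_unique] at hv
      apply le_antisymm
      · by_contra hpos
        apply h1Z
        have hm1 : π 1 ∈ ℳ 0 := hπg _ _ SetLike.GradedOne.one_mem
        have h3 : GrSyzLib.compM ℳ 0 (π 1) = π 1 := by rw [GrSyzLib.compM_of_mem ℳ hm1, if_pos rfl]
        rw [← h3, ← hv, GrSyzLib.compM_smul (GrSyz.stdGr k (Fin 3)) ℳ (F.aug_mem default),
          GrSyzLib.eq_zero_of_mem_neg (GrSyzLib.pr_mem (GrSyz.stdGr k (Fin 3)) _ _) (by show (0 : ℤ) - e < 0; omega), zero_smul]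
      · by_contra hneg
        apply h1Z
        have h3 : ℳ e = ⊥ := by
          rw [Submodule.eq_bot_iff]
          intro y hy
          obtain ⟨f, rfl⟩ := hπ y
          rw [← (show GrSyzLib.compM ℳ _ (π f) = π f by rw [GrSyzLib.compM_of_mem ℳ hy, if_pos rfl]), ← DirectSum.sum_support_decompose (GrSyz.stdGr k (Fin 3)) f, map_sum, map_sum]
          refine Finset.sum_eq_zero fun j _ => ?_
          rw [GrSyzLib.compM_of_mem ℳ (hπg _ _ (SetLike.coe_mem _))]
          split_ifs with hj
          · rw [GrSyzLib.eq_zero_of_mem_neg (SetLike.coe_mem _) (by omega), map_zero]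
          · exact rfl
        rw [← hv, (Submodule.eq_bot_iff _).1 h3 _ (F.aug_mem default), smul_zero]
    have hfin : sd 1 = sd 2 := by simp only [B, hA] at hB; omega
    simp only [sd] at hfin
    have e1 : ∑ i : Fin (t + 1), F.deg 1 (Fin.cast h1.symm i) = ∑ b : Fin (F.rk 1), F.deg 1 b :=
      Fintype.sum_equiv (finCongr h1.symm) _ _ fun b => rfl
    have e2 : ∑ i : Fin t, F.deg 2 (Fin.cast h2.symm i) = ∑ b : Fin (F.rk 2), F.deg 2 b :=
      Fintype.sum_equiv (finCongr h2.symm) _ _ fun b => rfl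
    rw [e1, e2, hfin]

end Groth.Agent.S15432
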