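import Mathlib
import Groth.Agent.GeomRedGlobal.Basic
import Groth.Agent.S1610
import Groth.Agent.S1541
import Groth.Statements.S1544
-- import your own Groth.Agent.* helpers here

set_option autoImplicit false
set_option backward.isDefEq.respectTransparency false
set_option backward.isDefEq.respectTransparency.types false
universe u
open CategoryTheory CategoryTheory.Limits AlgebraicGeometry
attribute [local instance] Curv2.resAlgebra Curv2.stalkAlgebra
open Variety

namespace Groth.Agent.S1544

/-- For an integral scheme over k, geometric reducedness of the scheme is equivalent to geometric
reducedness over k of the function field (the local ring at the generic point), i.e. a separable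
extension of k in the sense of commutative algebra. The source states this for varieties;
integrality is what the proof uses. -/
theorem result (k : Type u) [Field k] (X : Scheme.{u}) [X.Over (Spec (CommRingCat.of k))] [IsIntegral X] :
    GeometricallyReduced (X ↘ (Spec (CommRingCat.of k))) ↔ Algebra.IsGeometricallyReduced k X.functionField := by
  constructor
  · intro h
    exact (Groth.Agent.S1541.result k X (genericPoint X)).1
      ((Groth.Agent.GeomRedGlobal.geometricallyReduced_iff_forall _).1 h (genericPoint X))
  · intro h
    refine (Groth.Agent.GeomRedGlobal.geometricallyReduced_iff_forall _).2
      (Groth.Agent.GeomRedGlobal.forall_of_generic _ fun Z hZ η hη => ?_)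
    have hZu : Z = Set.univ := by
      rw [irreducibleComponents_eq_singleton] at hZ
      exact hZ
    subst hZu
    obtain rfl : η = genericPoint X := hη.eq (genericPoint_spec X)
    exact (Groth.Agent.S1541.result k X (genericPoint X)).2 h

end Groth.Agent.S1544
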