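import Mathlib
import Groth.Statements.S15465
-- import your own Groth.Agent.* helpers here

set_option autoImplicit false
set_option backward.isDefEq.respectTransparency false
set_option backward.isDefEq.respectTransparency.types false
universe v u
open HomAlg

namespace Groth.Agent.S15465

open CategoryTheory CategoryTheory.Limits in
/-- In an abelian category let 0 → A₂ → B₂ → C₂ → 0 (maps i₂, π₂), 0 → A₁ → A₂ → A₃ → 0 (maps i₁, p₁)
and 0 → C₁ → C₂ → C₃ → 0 (maps j, q) be short exact sequences, let α = i₁ ≫ i₂ : A₁ → B₂ and β = π₂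
≫ q : B₂ → C₃, and let K = ker β / im α be the homology object of the complex A₁ → B₂ → C₃. Let f :
A₃ → K be the map induced by i₂ (the unique map whose composite with p₁ is the homology class of the
cycle i₂) and g : K → C₁ the map induced by π₂ (the unique map whose composite with j is the map K →
C₂ induced by π₂). Then 0 → A₃ → K → C₁ → 0, with maps f and g, is a short exact sequence. (The
hypotheses w, h₂, h₃ are consequences of i₂ ≫ π₂ = 0, carried so that the maps can be named; the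
published statement assumes in addition that the category has enough injective objects, which plays
no role in this assertion.) -/
theorem result
    {C : Type u} [Category.{v} C] [Abelian C] {A₁ A₂ A₃ B₂ C₁ C₂ C₃ : C}
    (i₁ : A₁ ⟶ A₂) (p₁ : A₂ ⟶ A₃) (wA : i₁ ≫ p₁ = 0) (hA : (ShortComplex.mk i₁ p₁ wA).ShortExact)
    (i₂ : A₂ ⟶ B₂) (π₂ : B₂ ⟶ C₂) (wB : i₂ ≫ π₂ = 0) (hB : (ShortComplex.mk i₂ π₂ wB).ShortExact)
    (j : C₁ ⟶ C₂) (q : C₂ ⟶ C₃) (wC : j ≫ q = 0) (hC : (ShortComplex.mk j q wC).ShortExact)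
    (w : (i₁ ≫ i₂) ≫ (π₂ ≫ q) = 0) (h₂ : i₂ ≫ (π₂ ≫ q) = 0) (h₃ : (i₁ ≫ i₂) ≫ π₂ = 0)
    (f : A₃ ⟶ (CategoryTheory.ShortComplex.mk (i₁ ≫ i₂) (π₂ ≫ q) w).homology)
    (g : (CategoryTheory.ShortComplex.mk (i₁ ≫ i₂) (π₂ ≫ q) w).homology ⟶ C₁)
    (hf : p₁ ≫ f = (CategoryTheory.ShortComplex.mk (i₁ ≫ i₂) (π₂ ≫ q) w).liftCycles i₂ h₂ ≫ (CategoryTheory.ShortComplex.mk (i₁ ≫ i₂) (π₂ ≫ q) w).homologyπ)
    (hg : g ≫ j = (CategoryTheory.ShortComplex.mk (i₁ ≫ i₂) (π₂ ≫ q) w).homologyι ≫ (CategoryTheory.ShortComplex.mk (i₁ ≫ i₂) (π₂ ≫ q) w).descOpcycles π₂ h₃) :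
    ∃ wfg : f ≫ g = 0, (ShortComplex.mk f g wfg).ShortExact := by
  let S := ShortComplex.mk (i₁ ≫ i₂) (π₂ ≫ q) w
  haveI := hA.mono_f; haveI := hA.epi_g; haveI := hB.mono_f; haveI := hB.epi_g; haveI := hC.mono_f
  have key : ∀ {A : C} (b : A ⟶ B₂) (hb : b ≫ π₂ ≫ q = 0),
      S.liftCycles b hb ≫ S.homologyπ ≫ g ≫ j = b ≫ π₂ := by
    intro A b hb
    rw [hg, ShortComplex.homology_π_ι_assoc, ShortComplex.p_descOpcycles, ShortComplex.liftCycles_i_assoc]
  have wfg : f ≫ g = 0 := by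
    rw [← cancel_epi p₁, comp_zero, reassoc_of% hf, ← cancel_mono j, zero_comp]
    simp only [Category.assoc]
    rw [key i₂ h₂, wB]
  refine ⟨wfg, ?_⟩
  haveI : Mono f := by
    refine Preadditive.mono_of_cancel_zero f (fun {A} x hx => ?_)
    obtain ⟨A', π, _, x', hx'⟩ := surjective_up_to_refinements_of_epi p₁ x
    have h0 : S.liftCycles (x' ≫ i₂) (by simp [S, reassoc_of% wB]) ≫ S.homologyπ = 0 := by
      rw [← ShortComplex.comp_liftCycles S i₂ h₂, Category.assoc, ← hf, ← reassoc_of% hx', hx, comp_zero]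
    obtain ⟨A'', π', _, y, hy⟩ := (S.liftCycles_comp_homologyπ_eq_zero_iff_up_to_refinements _ _).1 h0
    have hy' : π' ≫ x' = y ≫ i₁ := by
      rw [← cancel_mono i₂]; simpa [S] using hy
    rw [← cancel_epi π, comp_zero, hx', ← cancel_epi π', comp_zero, reassoc_of% hy', wA, comp_zero]
  haveI : Epi g := by
    rw [epi_iff_surjective_up_to_refinements]
    intro A c
    obtain ⟨A', π, hπ, b, hb⟩ := surjective_up_to_refinements_of_epi π₂ (c ≫ j)
    have hb0 : b ≫ π₂ ≫ q = 0 := by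
      rw [← Category.assoc, ← hb]; simp [wC]
    refine ⟨A', π, hπ, S.liftCycles b hb0 ≫ S.homologyπ, ?_⟩
    rw [← cancel_mono j]
    simp only [Category.assoc]
    rw [key b hb0, hb]
  refine ShortComplex.ShortExact.mk ?_
  rw [ShortComplex.exact_iff_exact_up_to_refinements]
  intro A z hz
  obtain ⟨A', π, _, b, hb0, hb⟩ := S.eq_liftCycles_homologyπ_up_to_refinements z
  have hb1 : b ≫ π₂ = 0 := by
    rw [← key b hb0, ← reassoc_of% hb]
    simp [show z ≫ g = 0 from hz, reassoc_of% (show z ≫ g = 0 from hz)]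
  obtain ⟨A'', π', _, a, ha⟩ := hB.exact.exact_up_to_refinements b hb1
  refine ⟨A'', π' ≫ π, inferInstance, a ≫ p₁, ?_⟩
  show (π' ≫ π) ≫ z = (a ≫ p₁) ≫ f
  rw [Category.assoc, hb, Category.assoc, hf, ← Category.assoc, ← Category.assoc, ShortComplex.comp_liftCycles, ShortComplex.comp_liftCycles]
  congr 1
  rw [← cancel_mono S.iCycles]
  simp only [Category.assoc]
  erw [ShortComplex.liftCycles_i, ShortComplex.liftCycles_i]
  exact ha

end Groth.Agent.S15465
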