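import Groth.Statements.S15468
import Groth.Agent.IsoNatSm.Clean

set_option autoImplicit false
universe u
open CategoryTheory AlgebraicGeometry
open IsoNat

namespace Groth.Agent.S15468

/-- Being an algebraic space is detected by the presheaf of isomorphism classes. If 𝒳 and 𝒴 are
algebraic stacks over a quasi-separated scheme S whose presheaves of isomorphism classes are
isomorphic, and 𝒳 is (equivalent to) an algebraic space, then so is 𝒴. Here an algebraic stack over
a quasi-separated scheme S means a stack in groupoids for the fppf topology with a smooth surjective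
atlas from a scheme, whose diagonal is representable by separated quasi-compact morphisms of
algebraic spaces and whose inertia is locally of finite presentation over it. (The published
statement compares within the wider class of quasi-algebraic stacks, which need not have an atlas;
this row compares algebraic stacks only.) -/
theorem result
    (S : Scheme.{u}) [QuasiSeparatedSpace S]
    (𝒳 𝒴 : AlgSt.Cat S)
    (h𝒳 : AlgSt.IsAlgStack Scheme.fppfPrecoverage 𝒳)
    (h𝒳d : AlgSt.RepByAlgSpWith (AlgSp.IsSeparatedMor ⊓ AlgSp.IsQuasiCompactMor)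
      (FibCat.diag (FibCat.toSelf 𝒳)))
    (h𝒳i : AlgSt.RepByAlgSpWith (AlgSp.LocP @LocallyOfFinitePresentation)
      (FibCat.inertiaToBase (FibCat.toSelf 𝒳)))
    (h𝒴 : AlgSt.IsAlgStack Scheme.fppfPrecoverage 𝒴)
    (h𝒴d : AlgSt.RepByAlgSpWith (AlgSp.IsSeparatedMor ⊓ AlgSp.IsQuasiCompactMor)
      (FibCat.diag (FibCat.toSelf 𝒴)))
    (h𝒴i : AlgSt.RepByAlgSpWith (AlgSp.LocP @LocallyOfFinitePresentation)
      (FibCat.inertiaToBase (FibCat.toSelf 𝒴)))
    (φ : IsoNat.FIso 𝒳 𝒴)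
    (hsp : AlgSt.RepByAlgSp 𝒳) :
    AlgSt.RepByAlgSp 𝒴 := by
  refine Groth.Agent.IsoNatSm.repByAlgSp_of_sepHyp h𝒴 h𝒴d h𝒴i
    (Groth.Agent.IsoNatSm.sepHyp_of_separated h𝒴 ?_)
  refine fun T T' π _ _ _ => Groth.Agent.IsoNatSm.separated_of_fIso h𝒳 h𝒴 φ (fun η ξ _ σ hσ => ?_) T T' π
  haveI := ((Groth.Agent.S12761.result h𝒳).2 hsp).2 (𝒳.p.obj ξ)
  haveI h₁ : 𝒳.p.IsHomLift (𝟙 (𝒳.p.obj ξ)) σ :=
    IsHomLift.of_fac' _ _ _ rfl rfl (by simp [hσ])
  let a : 𝒳.p.Fiber (𝒳.p.obj ξ) := ⟨ξ, rfl⟩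
  exact congrArg Subtype.val (Subsingleton.elim (⟨σ, h₁⟩ : a ⟶ a) (⟨𝟙 ξ, IsHomLift.id rfl⟩ : a ⟶ a))

end Groth.Agent.S15468
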