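import Groth.Statements.S15470
import Groth.Agent.IsoNatSm.Charts

set_option autoImplicit false
universe u
open CategoryTheory AlgebraicGeometry
open IsoNat

namespace Groth.Agent.S15470

/-- A property of morphisms of algebraic stacks read on one square of smooth scheme charts is detected
by the induced map of presheaves of isomorphism classes. Let f : 𝒳 → 𝒴 and f' : 𝒳' → 𝒴' be morphisms
of algebraic stacks over a quasi-separated scheme S, and suppose given isomorphisms of the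
presheaves of isomorphism classes of 𝒳 with 𝒳' and of 𝒴 with 𝒴' under which the maps induced by f
and f' correspond. If there are smooth scheme charts x : U → 𝒳 (surjective) and y : V → 𝒴 and h : U
→ V with x followed by f 2-isomorphic to h followed by y and h having P, then the same holds for f'.
For P smooth local on the source-and-target, containing the smooth surjections and stable under
composition and base change, this is the statement that f has P if and only if f' has P (flat,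
locally of finite type, locally of finite presentation, smooth); the transfer itself holds for every
P. Here an algebraic stack over a quasi-separated scheme S means a stack in groupoids for the fppf
topology with a smooth surjective atlas from a scheme, whose diagonal is representable by separated
quasi-compact morphisms of algebraic spaces and whose inertia is locally of finite presentation over
it. -/
theorem result
    (S : Scheme.{u}) [QuasiSeparatedSpace S]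
    (𝒳 𝒴 : AlgSt.Cat S)
    (h𝒳 : AlgSt.IsAlgStack Scheme.fppfPrecoverage 𝒳)
    (h𝒳d : AlgSt.RepByAlgSpWith (AlgSp.IsSeparatedMor ⊓ AlgSp.IsQuasiCompactMor)
      (FibCat.diag (FibCat.toSelf 𝒳)))
    (h𝒳i : AlgSt.RepByAlgSpWith (AlgSp.LocP @LocallyOfFinitePresentation)
      (FibCat.inertiaToBase (FibCat.toSelf 𝒳)))
    (h𝒴 : AlgSt.IsAlgStack Scheme.fppfPrecoverage 𝒴)
    (h𝒴d : AlgSt.RepByAlgSpWith (AlgSp.IsSeparatedMor ⊓ AlgSp.IsQuasiCompactMor)
      (FibCat.diag (FibCat.toSelf 𝒴)))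
    (h𝒴i : AlgSt.RepByAlgSpWith (AlgSp.LocP @LocallyOfFinitePresentation)
      (FibCat.inertiaToBase (FibCat.toSelf 𝒴)))
    (𝒳' 𝒴' : AlgSt.Cat S)
    (h𝒳' : AlgSt.IsAlgStack Scheme.fppfPrecoverage 𝒳')
    (h𝒳'd : AlgSt.RepByAlgSpWith (AlgSp.IsSeparatedMor ⊓ AlgSp.IsQuasiCompactMor)
      (FibCat.diag (FibCat.toSelf 𝒳')))
    (h𝒳'i : AlgSt.RepByAlgSpWith (AlgSp.LocP @LocallyOfFinitePresentation)
      (FibCat.inertiaToBase (FibCat.toSelf 𝒳')))
    (h𝒴' : AlgSt.IsAlgStack Scheme.fppfPrecoverage 𝒴')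
    (h𝒴'd : AlgSt.RepByAlgSpWith (AlgSp.IsSeparatedMor ⊓ AlgSp.IsQuasiCompactMor)
      (FibCat.diag (FibCat.toSelf 𝒴')))
    (h𝒴'i : AlgSt.RepByAlgSpWith (AlgSp.LocP @LocallyOfFinitePresentation)
      (FibCat.inertiaToBase (FibCat.toSelf 𝒴')))
    (f : 𝒳 ⥤ᵇ 𝒴) (f' : 𝒳' ⥤ᵇ 𝒴') (φ : IsoNat.FIsoSq f f')
    (P : MorphismProperty (AlgSp.Sp S))
    (hf : AlgSt.LocQ P f) :
    AlgSt.LocQ P f' := by
  obtain ⟨U, V, x, y, h, α, hx, hxs, hy, hP⟩ := hf
  obtain ⟨x', hx'⟩ := Groth.Agent.IsoNatSm.exists_chart_of_fIso h𝒳' φ.src x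
  obtain ⟨y', hy'⟩ := Groth.Agent.IsoNatSm.exists_chart_of_fIso h𝒴' φ.tgt y
  let o₁ : 𝒳.p.Fiber U := ⟨x.obj (Over.mk (𝟙 U)), x.w_obj _⟩
  let o₁' : 𝒳'.p.Fiber U := ⟨x'.obj (Over.mk (𝟙 U)), x'.w_obj _⟩
  let o₂ : 𝒴.p.Fiber U := ⟨y.obj (Over.mk (𝟙 U ≫ h)), y.w_obj _⟩
  let o₂' : 𝒴'.p.Fiber U := ⟨y'.obj (Over.mk (𝟙 U ≫ h)), y'.w_obj _⟩
  have hA : 𝒴.p.IsHomLift (𝟙 U) (Groth.Agent.Fib.appIso α (Over.mk (𝟙 U))).hom :=
    Groth.Agent.Fib.appIso_isHomLift α (Over.mk (𝟙 U))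
  have e₀ : IsoNat.cls ((IsoNat.fibFun f U).obj o₁) = IsoNat.cls o₂ :=
    Quotient.sound ⟨{
      hom := ⟨(Groth.Agent.Fib.appIso α (Over.mk (𝟙 U))).hom, hA⟩
      inv := ⟨(Groth.Agent.Fib.appIso α (Over.mk (𝟙 U))).inv, by
        exact IsHomLift.lift_id_inv 𝒴.p U (Groth.Agent.Fib.appIso α (Over.mk (𝟙 U)))⟩
      hom_inv_id := Subtype.ext (Groth.Agent.Fib.appIso α (Over.mk (𝟙 U))).hom_inv_id
      inv_hom_id := Subtype.ext (Groth.Agent.Fib.appIso α (Over.mk (𝟙 U))).inv_hom_id }⟩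
  have e₁ : φ.tgt.toEquiv U (IsoNat.cls o₂) = IsoNat.cls o₂' :=
    Groth.Agent.IsoNatSm.cls_ob_of_objCls h𝒴'.isStack.1 φ.tgt y y' hy' (𝟙 U ≫ h)
  have e₂ : IsoNat.cls ((IsoNat.fibFun f' U).obj o₁') = IsoNat.cls o₂' := by
    rw [← e₁, ← e₀]
    exact ((φ.comm U (IsoNat.cls o₁)).trans (congrArg (IsoNat.mapCls f' U) hx')).symm
  obtain ⟨i⟩ := (Quotient.exact e₂ : IsIsomorphic ((IsoNat.fibFun f' U).obj o₁') o₂')
  obtain ⟨β, -⟩ := Groth.Agent.Fib.exists_iso_app_id h𝒴'.isStack.1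
    (G := BasedFunctor.comp x' f') (H := BasedFunctor.comp (AlgSt.overMap h) y')
    ⟨i.hom.1, i.inv.1, congrArg Subtype.val i.hom_inv_id, congrArg Subtype.val i.inv_hom_id⟩ i.hom.2
  exact ⟨U, V, x', y', h, β,
    Groth.Agent.IsoNatSm.repByAlgSpWith_smooth_transfer h𝒳 h𝒳' φ.src h𝒳'i x x' hx' hx,
    Groth.Agent.IsoNatSm.repByAlgSpWith_surjective_transfer h𝒳 h𝒳' φ.src x x' hx' hxs,
    Groth.Agent.IsoNatSm.repByAlgSpWith_smooth_transfer h𝒴 h𝒴' φ.tgt h𝒴'i y y' hy' hy, hP⟩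

end Groth.Agent.S15470
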