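import Groth.Statements.S15487
import Groth.Agent.AlgStB.Mono

set_option autoImplicit false
universe u
open CategoryTheory AlgebraicGeometry
open IsoNat

namespace Groth.Agent.S15487

/-- Surjectivity of a morphism of algebraic stacks is detected by the induced map of presheaves of
isomorphism classes. Let f : 𝒳 → 𝒴 and f' : 𝒳' → 𝒴' be morphisms of algebraic stacks over a
quasi-separated scheme S with isomorphisms of the presheaves of isomorphism classes of 𝒳 with 𝒳' and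
of 𝒴 with 𝒴' under which the induced maps correspond. If f induces a surjective map on spaces of
points, so does f'. Here an algebraic stack over a quasi-separated scheme S means a stack in
groupoids for the fppf topology with a smooth surjective atlas from a scheme, whose diagonal is
representable by separated quasi-compact morphisms of algebraic spaces and whose inertia is locally
of finite presentation over it. -/
theorem result
    (S : Scheme.{u}) [QuasiSeparatedSpace S]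
    (𝒳 𝒴 : AlgSt.Cat S)
    (h𝒳 : AlgSt.IsAlgStack Scheme.fppfPrecoverage 𝒳)
    (h𝒳d : AlgSt.RepByAlgSpWith (AlgSp.IsSeparatedMor ⊓ AlgSp.IsQuasiCompactMor)
      (FibCat.diag (FibCat.toSelf 𝒳)))
    (h𝒳i : AlgSt.RepByAlgSpWith (AlgSp.LocP @LocallyOfFinitePresentation)
      (FibCat.inertiaToBase (FibCat.toSelf 𝒳)))
    (h𝒴 : AlgSt.IsAlgStack Scheme.fppfPrecoverage 𝒴)
    (h𝒴d : AlgSt.RepByAlgSpWith (AlgSp.IsSeparatedMor ⊓ AlgSp.IsQuasiCompactMor)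
      (FibCat.diag (FibCat.toSelf 𝒴)))
    (h𝒴i : AlgSt.RepByAlgSpWith (AlgSp.LocP @LocallyOfFinitePresentation)
      (FibCat.inertiaToBase (FibCat.toSelf 𝒴)))
    (𝒳' 𝒴' : AlgSt.Cat S)
    (h𝒳' : AlgSt.IsAlgStack Scheme.fppfPrecoverage 𝒳')
    (h𝒳'd : AlgSt.RepByAlgSpWith (AlgSp.IsSeparatedMor ⊓ AlgSp.IsQuasiCompactMor)
      (FibCat.diag (FibCat.toSelf 𝒳')))
    (h𝒳'i : AlgSt.RepByAlgSpWith (AlgSp.LocP @LocallyOfFinitePresentation)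
      (FibCat.inertiaToBase (FibCat.toSelf 𝒳')))
    (h𝒴' : AlgSt.IsAlgStack Scheme.fppfPrecoverage 𝒴')
    (h𝒴'd : AlgSt.RepByAlgSpWith (AlgSp.IsSeparatedMor ⊓ AlgSp.IsQuasiCompactMor)
      (FibCat.diag (FibCat.toSelf 𝒴')))
    (h𝒴'i : AlgSt.RepByAlgSpWith (AlgSp.LocP @LocallyOfFinitePresentation)
      (FibCat.inertiaToBase (FibCat.toSelf 𝒴')))
    (f : 𝒳 ⥤ᵇ 𝒴) (f' : 𝒳' ⥤ᵇ 𝒴') (φ : IsoNat.FIsoSq f f')
    (hf : AlgSt.IsSurjective f) :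
    AlgSt.IsSurjective f' := by
  let Ψ : ∀ {𝒜 ℬ : AlgSt.Cat S} (φ : IsoNat.FIso 𝒜 ℬ), AlgSt.FPt 𝒜 → AlgSt.FPt ℬ := fun {𝒜 ℬ} φ p =>
    { K := p.K, str := p.str
      obj := (Quotient.out (φ.toEquiv (Over.mk p.str) (IsoNat.cls ⟨p.obj, p.lies⟩))).1
      lies := (Quotient.out (φ.toEquiv (Over.mk p.str) (IsoNat.cls ⟨p.obj, p.lies⟩))).2 }
  have hrel : ∀ {𝒜 ℬ : AlgSt.Cat S} (φ : IsoNat.FIso 𝒜 ℬ) (r p : AlgSt.FPt 𝒜) (a : r.obj ⟶ p.obj),
      Nonempty ((Ψ φ r).obj ⟶ (Ψ φ p).obj) := by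
    intro 𝒜 ℬ φ r p a
    obtain ⟨y', y, b, -, h', h⟩ := φ.natural (eqToHom r.lies.symm ≫ 𝒜.p.map a ≫ eqToHom p.lies)
      ⟨r.obj, r.lies⟩ ⟨p.obj, p.lies⟩ a (IsHomLift.of_fac' _ _ _ r.lies p.lies (by simp))
    obtain ⟨e'⟩ := (Quotient.exact ((Quotient.out_eq _).trans h') :
      IsIsomorphic (Quotient.out (φ.toEquiv (Over.mk r.str) (IsoNat.cls ⟨r.obj, r.lies⟩))) y')
    obtain ⟨e⟩ := (Quotient.exact ((Quotient.out_eq _).trans h) :
      IsIsomorphic (Quotient.out (φ.toEquiv (Over.mk p.str) (IsoNat.cls ⟨p.obj, p.lies⟩))) y)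
    exact ⟨e'.hom.1 ≫ b ≫ e.inv.1⟩
  have hiso : ∀ {𝒜 : AlgSt.Cat S} {K : Type u} [Field K] (str : Spec (CommRingCat.of K) ⟶ S)
      (x y : 𝒜.p.Fiber (Over.mk str)), IsoNat.cls x = IsoNat.cls y →
      (AlgSt.Points.mk ⟨K, str, x.1, x.2⟩ : AlgSt.Points 𝒜) = AlgSt.Points.mk ⟨K, str, y.1, y.2⟩ := by
    intro 𝒜 K _ str x y h
    obtain ⟨e⟩ := (Quotient.exact h : IsIsomorphic x y)
    exact AlgSt.Points.sound ⟨⟨K, str, x.1, x.2⟩, 𝟙 _, e.hom.1, trivial⟩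
  let Φ : ∀ {𝒜 ℬ : AlgSt.Cat S} (φ : IsoNat.FIso 𝒜 ℬ), AlgSt.Points 𝒜 → AlgSt.Points ℬ := fun {𝒜 ℬ} φ =>
    Quot.lift (fun p => AlgSt.Points.mk (Ψ φ p)) (fun p q h => by
      obtain ⟨r, a, b, -⟩ := h
      exact AlgSt.Points.sound ⟨Ψ φ r, (hrel φ r p a).some, (hrel φ r q b).some, trivial⟩)
  intro P'
  obtain ⟨p', rfl⟩ := AlgSt.Points.mk_surjective P'
  obtain ⟨c, hc⟩ := (φ.tgt.toEquiv (Over.mk p'.str)).surjective (IsoNat.cls ⟨p'.obj, p'.lies⟩)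
  obtain ⟨y, rfl⟩ := Quotient.exists_rep c
  let p : AlgSt.FPt 𝒴 := ⟨p'.K, p'.str, y.1, y.2⟩
  have hp : Φ φ.tgt (AlgSt.Points.mk p) = AlgSt.Points.mk p' :=
    hiso p'.str _ ⟨p'.obj, p'.lies⟩ ((Quotient.out_eq _).trans hc)
  obtain ⟨Q, hQ⟩ := hf (AlgSt.Points.mk p)
  obtain ⟨q, rfl⟩ := AlgSt.Points.mk_surjective Q
  refine ⟨Φ φ.src (AlgSt.Points.mk q), ?_⟩
  rw [← hp, ← hQ]
  refine hiso q.str ((IsoNat.fibFun f' (Over.mk q.str)).obj (Quotient.out _)) (Quotient.out _)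
    (Eq.trans ?_ (Quotient.out_eq _).symm)
  exact (congrArg (IsoNat.mapCls f' _) (Quotient.out_eq _)).trans (φ.comm _ _).symm

end Groth.Agent.S15487
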