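import Groth.Statements.S15485
import Groth.Agent.IsoNatSm.CleanOpen

set_option autoImplicit false
universe u
open CategoryTheory AlgebraicGeometry
open IsoNat

namespace Groth.Agent.S15485

/-- If the inertia of an algebraic stack 𝒳 over a quasi-separated scheme S is proper over 𝒳, then the
clean locus of 𝒳 — the full subcategory of objects η such that every object with a morphism to η has
only the identity as endomorphism over the identity of its base — is an open substack of 𝒳, and its
inclusion is (representable and) quasi-compact. Here an algebraic stack over a quasi-separated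
scheme S means a stack in groupoids for the fppf topology with a smooth surjective atlas from a
scheme, whose diagonal is representable by separated quasi-compact morphisms of algebraic spaces and
whose inertia is locally of finite presentation over it. -/
theorem result
    (S : Scheme.{u}) [QuasiSeparatedSpace S]
    (𝒳 : AlgSt.Cat S)
    (h𝒳 : AlgSt.IsAlgStack Scheme.fppfPrecoverage 𝒳)
    (h𝒳d : AlgSt.RepByAlgSpWith (AlgSp.IsSeparatedMor ⊓ AlgSp.IsQuasiCompactMor)
      (FibCat.diag (FibCat.toSelf 𝒳)))
    (h𝒳i : AlgSt.RepByAlgSpWith (AlgSp.LocP @LocallyOfFinitePresentation)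
      (FibCat.inertiaToBase (FibCat.toSelf 𝒳)))
    (hpr : AlgSt.RepByAlgSpWith AlgSp.IsProperMor (FibCat.inertiaToBase (FibCat.toSelf 𝒳))) :
    AlgSt.IsOpenSubstack 𝒳 (fun η => IsoNat.IsClean η) Scheme.fppfPrecoverage ∧
      AlgSt.RepByAlgSpWith AlgSp.IsQuasiCompactMor (AlgSt.subIncl 𝒳 (fun η => IsoNat.IsClean η)) := by
  have hY := h𝒳.isStack.1
  have hpull : ∀ {a b : 𝒳.obj} (_ : a ⟶ b), IsoNat.IsClean b → IsoNat.IsClean a :=
    fun φ hb x m σ hσ => hb x (m ≫ φ) σ hσ
  refine ⟨Groth.Agent.AlgStB.isOpenSubstack_of_open h𝒳 _ hpull fun b => ?_,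
    Groth.Agent.IsoNatSm.repByAlgSpWith_qc_subIncl _ hpull
      (Groth.Agent.IsoNatSm.exists_clean_open h𝒳 h𝒳i hpr)⟩
  obtain ⟨V, -, hV⟩ := Groth.Agent.IsoNatSm.exists_clean_open h𝒳 h𝒳i hpr b
  exact ⟨V, hV⟩

end Groth.Agent.S15485
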