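import Mathlib.Data.ZMod.QuotientGroup
import Mathlib.RingTheory.FiniteType
import Mathlib.GroupTheory.Complement
import Mathlib.GroupTheory.OrderOfElement
import Mathlib.Tactic.Abel
import Mathlib.LinearAlgebra.Dimension.Constructions
import Groth.Statements.S15488

set_option autoImplicit false
universe u
open IsoNat

namespace Groth.Agent.S15488

/-- Let A be a nontrivial commutative ring, G a finite group, g an element of G of order ν and l an
element of A with l ^ ν = 1. In the free A-module of functions G → A (the regular representation, g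
acting by translation v ↦ v(g·)), the submodule of v with v(g h) = l v(h) for all h is a direct
summand, free of rank |G| / ν (stated as: free, rank · ν = |G|, and a complementary submodule
exists). (The published statement is over an arbitrary ring and also covers Hom(A^N, −) of the
regular representation, which follows; nontriviality of A is needed for the rank to be meaningful.) -/
theorem result
    (A : Type u) [CommRing A] [Nontrivial A] (G : Type u) [Group G] [Finite G]
    (g : G) (l : A) (hl : l ^ orderOf g = 1) :
    Module.Free A (LinearMap.ker (LinearMap.funLeft A A (fun h : G => g * h) - l • LinearMap.id)) ∧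
      Module.finrank A (LinearMap.ker (LinearMap.funLeft A A (fun h : G => g * h) - l • LinearMap.id)) * orderOf g = Nat.card G ∧
      ∃ E' : Submodule A (G → A), IsCompl (LinearMap.ker (LinearMap.funLeft A A (fun h : G => g * h) - l • LinearMap.id)) E' := by
  classical
  haveI : Fintype G := Fintype.ofFinite G
  set H := Subgroup.zpowers g with hH
  obtain ⟨T, hT, -⟩ := H.exists_isComplement_right 1
  have hex : ∀ a : H, ∃ k : ℕ, g ^ k = (a : G) := fun a =>
    (mem_powers_iff_mem_zpowers.mpr a.2)
  choose k hk using hex
  have hpow : ∀ i j : ℕ, g ^ i = g ^ j → l ^ i = l ^ j := by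
    intro i j h
    rw [pow_eq_pow_iff_modEq] at h
    rw [← Nat.div_add_mod i (orderOf g), ← Nat.div_add_mod j (orderOf g), pow_add, pow_add, pow_mul,
      pow_mul, hl, one_pow, one_pow, show i % orderOf g = j % orderOf g from h]
  let gH : H := ⟨g, Subgroup.mem_zpowers g⟩
  have hchi : ∀ a : H, l ^ k (gH * a) = l * l ^ k a := by
    intro a
    rw [← pow_succ']
    refine hpow _ _ ?_
    rw [hk, pow_succ', hk]
    rfl
  have hone : l ^ k 1 = 1 := by
    rw [hpow (k 1) 0 (by rw [hk, pow_zero]; rfl), pow_zero]
  let d := hT.equiv
  have hd : ∀ h : G, d (g * h) = (gH * (d h).1, (d h).2) := fun h => hT.equiv_mul_left gH h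
  set φ := LinearMap.funLeft A A (fun h : G => g * h) - l • LinearMap.id with hφ
  have hmem : ∀ v : G → A, v ∈ LinearMap.ker φ ↔ ∀ h, v (g * h) = l * v h := fun v => by
    rw [LinearMap.mem_ker, funext_iff]
    exact forall_congr' fun h => sub_eq_zero
  let ext : (T → A) →ₗ[A] (G → A) :=
    { toFun := fun w h => l ^ k (d h).1 * w (d h).2
      map_add' := fun w w' => by funext h; simp [mul_add]
      map_smul' := fun c w => by funext h; simp [mul_left_comm] }
  let res : (G → A) →ₗ[A] (T → A) := LinearMap.funLeft A A (fun t : T => (t : G))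
  have hext : ∀ w, ext w ∈ LinearMap.ker φ := fun w => (hmem _).mpr fun h => by
    show l ^ k (d (g * h)).1 * w (d (g * h)).2 = l * (l ^ k (d h).1 * w (d h).2)
    rw [hd, hchi, mul_assoc]
  have hdT : ∀ t : T, d (t : G) = (1, t) := fun t => by
    apply d.symm.injective
    rw [Equiv.symm_apply_apply]
    show (t : G) = ((1 : H) : G) * (t : G)
    simp
  have hre : ∀ w, res (ext w) = w := fun w => funext fun t => by
    show l ^ k (d (t : G)).1 * w (d (t : G)).2 = w t
    rw [hdT, hone, one_mul]
  have hrec : ∀ v ∈ LinearMap.ker φ, ∀ (i : ℕ) (t : G), v (g ^ i * t) = l ^ i * v t := by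
    intro v hv i t
    induction i with
    | zero => simp
    | succ i ih => rw [pow_succ', mul_assoc, (hmem v).mp hv, ih, pow_succ', mul_assoc]
  have her : ∀ v ∈ LinearMap.ker φ, ext (res v) = v := fun v hv => funext fun h => by
    show l ^ k (d h).1 * v ((d h).2 : G) = v h
    rw [← hrec v hv, hk, hT.equiv_fst_mul_equiv_snd]
  let e : LinearMap.ker φ ≃ₗ[A] (T → A) := LinearEquiv.ofLinear (res ∘ₗ (LinearMap.ker φ).subtype)
    (ext.codRestrict _ hext) (LinearMap.ext fun w => hre w)
    (LinearMap.ext fun v => Subtype.ext (her v.1 v.2))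
  haveI : Finite T := Subtype.finite
  refine ⟨Module.Free.of_equiv e.symm, ?_, ⟨LinearMap.ker res, ?_⟩⟩
  · rw [e.finrank_eq, Module.finrank_pi_fintype, Nat.card_congr d, Nat.card_prod]
    rw [show Nat.card (H : Set G) = orderOf g from Nat.card_zpowers g, Nat.card_eq_fintype_card (α := T), mul_comm]
    simp [Module.finrank_self]
  · constructor
    · rw [disjoint_iff]
      refine (Submodule.eq_bot_iff _).mpr fun v hv => ?_
      rw [← her v hv.1, show res v = 0 from hv.2, map_zero]
    · rw [codisjoint_iff]
      refine (Submodule.eq_top_iff').mpr fun v => Submodule.mem_sup.mpr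
        ⟨ext (res v), hext _, v - ext (res v), ?_, by abel⟩
      rw [LinearMap.mem_ker, map_sub, hre, sub_self]

end Groth.Agent.S15488
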