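import Groth.Statements.S15490

set_option autoImplicit false
universe u
open IsoNat

namespace Groth.Agent.S15490

/-- Let f : G → G' be a group homomorphism, A a commutative ring and α an element of the regular
representation of G over A (a finitely supported function G → A). If the pushforward β = f_*α
(summing coefficients along f) is nonzero and is an eigenvector for the translation action of an
element g' of G' — β(g'⁻¹ k) = l β(k) for all k and some scalar l — then g' lies in the image of f
(and hence β comes from the regular representation of the image). (The published statement asks only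
α ≠ 0; when f is not injective the pushforward of a nonzero α can vanish, and the zero vector lies
in every eigen-submodule, so the hypothesis is placed on f_*α, which is how the result is used.) -/
theorem result
    {G G' : Type u} [Group G] [Group G'] (f : G →* G')
    (A : Type u) [CommRing A] (α : G →₀ A) (g' : G') (l : A)
    (hne : Finsupp.mapDomain f α ≠ 0)
    (he : ∀ k : G', Finsupp.mapDomain f α (g'⁻¹ * k) = l * Finsupp.mapDomain f α k) :
    g' ∈ f.range := by
  classical
  obtain ⟨k, hk⟩ := Finsupp.ne_iff.1 hne
  rw [Finsupp.zero_apply] at hk
  have hsupp : ∀ z, Finsupp.mapDomain f α z ≠ 0 → z ∈ f.range := fun z hz => by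
    obtain ⟨a, -, ha⟩ := Finset.mem_image.1 (Finsupp.mapDomain_support (Finsupp.mem_support_iff.2 hz))
    exact ⟨a, ha⟩
  have h2 := he (g' * k)
  rw [inv_mul_cancel_left] at h2
  have h3 : Finsupp.mapDomain f α (g' * k) ≠ 0 := fun h0 => hk (by rw [h2, h0, mul_zero])
  have := f.range.mul_mem (hsupp _ h3) (f.range.inv_mem (hsupp _ hk))
  rwa [mul_inv_cancel_right] at this

end Groth.Agent.S15490
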