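import Groth.Statements.S15491

set_option autoImplicit false
universe v u
open CategoryTheory CategoryTheory.Functor
open IsoNat

namespace Groth.Agent.S15491

/-- Pasting of 2-cartesian squares, stated in the 2-category of categories. Consider functors t : A → B,
t' : A' → B', t'' : A'' → B'' and l : A → A', r : B → B', l' : A' → A'', r' : B' → B'' with natural
isomorphisms e₁ : t ⋙ r ≅ l ⋙ t' and e₂ : t' ⋙ r' ≅ l' ⋙ t''. If the lower square (t', l', r', t'',
e₂) is 2-cartesian (its comparison functor to the 2-fibre product is an equivalence), then the upper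
square (t, l, r, t', e₁) is 2-cartesian if and only if the outer rectangle (t, l ⋙ l', r ⋙ r', t'')
with the pasted isomorphism is. (The published statement is for an arbitrary 2-category whose
2-morphisms are invertible; this row is the case of categories, functors and natural isomorphisms.) -/
theorem result
    {A B A' B' A'' B'' : Type u} [Category.{v} A] [Category.{v} B] [Category.{v} A'] [Category.{v} B']
    [Category.{v} A''] [Category.{v} B'']
    (t : A ⥤ B) (l : A ⥤ A') (r : B ⥤ B') (t' : A' ⥤ B') (l' : A' ⥤ A'') (r' : B' ⥤ B'') (t'' : A'' ⥤ B'')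
    (e₁ : t ⋙ r ≅ l ⋙ t') (e₂ : t' ⋙ r' ≅ l' ⋙ t'')
    (h₂ : FibCat.IsTwoCart t' l' r' t'' e₂) :
    FibCat.IsTwoCart t l r t' e₁ ↔
      FibCat.IsTwoCart t (l ⋙ l') (r ⋙ r') t''
        ((Functor.associator t r r').symm ≪≫ isoWhiskerRight e₁ r' ≪≫ Functor.associator l t' r' ≪≫
          isoWhiskerLeft l e₂ ≪≫ (Functor.associator l l' t'').symm) := by
  open CategoryTheory.Limits in
  let Φ₁ := (CategoricalPullback.CatCommSqOver.toFunctorToCategoricalPullback r t' A).obj ⟨t, l, e₁⟩
  let Φ₂ := (CategoricalPullback.CatCommSqOver.toFunctorToCategoricalPullback r' t'' A').obj ⟨t', l', e₂⟩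
  have : Φ₂.IsEquivalence := h₂
  let Θ : CategoricalPullback r t' ⥤ CategoricalPullback (r ⋙ r') t'' :=
    { obj := fun x => ⟨x.fst, l'.obj x.snd, r'.mapIso x.iso ≪≫ e₂.app x.snd⟩
      map := fun {x y} f => ⟨f.fst, l'.map f.snd, by
        have h := e₂.hom.naturality f.snd
        dsimp at h ⊢
        rw [Category.assoc, ← h, ← Functor.map_comp_assoc, f.w, Functor.map_comp_assoc]⟩
      map_id := fun x => CategoricalPullback.hom_ext rfl (l'.map_id _)
      map_comp := fun f g => CategoricalPullback.hom_ext rfl (l'.map_comp _ _) }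
  have hfaith : Θ.Faithful := ⟨fun {x y} f g h => by
    have h1 : f.fst = g.fst := congrArg (fun (m : Θ.obj x ⟶ Θ.obj y) => CategoricalPullback.Hom.fst m) h
    have h2 : l'.map f.snd = l'.map g.snd := congrArg (fun (m : Θ.obj x ⟶ Θ.obj y) => CategoricalPullback.Hom.snd m) h
    refine CategoricalPullback.hom_ext h1 (Φ₂.map_injective (CategoricalPullback.hom_ext ?_ h2))
    change t'.map f.snd = t'.map g.snd
    rw [← cancel_epi x.iso.hom, ← f.w, ← g.w, h1]⟩
  have hfull : Θ.Full := ⟨fun {x y} m => by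
    obtain ⟨u, w, hm⟩ := m
    dsimp [Θ] at u w hm
    let n : Φ₂.obj x.snd ⟶ Φ₂.obj y.snd :=
      ⟨x.iso.inv ≫ r.map u ≫ y.iso.hom, w, by
        change r'.map (x.iso.inv ≫ r.map u ≫ y.iso.hom) ≫ e₂.hom.app y.snd = e₂.hom.app x.snd ≫ t''.map w
        simp only [Functor.map_comp, Category.assoc] at hm ⊢
        rw [hm, ← Functor.map_comp_assoc, Iso.inv_hom_id, Functor.map_id, Category.id_comp]⟩
    obtain ⟨v, hv⟩ := Φ₂.map_surjective n
    have h1 : t'.map v = x.iso.inv ≫ r.map u ≫ y.iso.hom :=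
      congrArg (fun q => CategoricalPullback.Hom.fst q) hv
    have h2 : l'.map v = w := congrArg (fun q => CategoricalPullback.Hom.snd q) hv
    exact ⟨⟨u, v, by rw [h1, Iso.hom_inv_id_assoc]⟩, CategoricalPullback.hom_ext rfl h2⟩⟩
  have hess : Θ.EssSurj := ⟨fun z => by
    let z' : CategoricalPullback r' t'' := ⟨r.obj z.fst, z.snd, z.iso⟩
    let i := Φ₂.objObjPreimageIso z'
    let a := Φ₂.objPreimage z'
    let θ : t'.obj a ≅ r.obj z.fst := (CategoricalPullback.π₁ r' t'').mapIso i
    let ρ : l'.obj a ≅ z.snd := (CategoricalPullback.π₂ r' t'').mapIso i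
    have hi : r'.map θ.hom ≫ z.iso.hom = e₂.hom.app a ≫ t''.map ρ.hom := i.hom.w
    refine ⟨⟨z.fst, a, θ.symm⟩, ⟨CategoricalPullback.mkIso (Iso.refl _) ρ ?_⟩⟩
    change (r ⋙ r').map (𝟙 z.fst) ≫ z.iso.hom = (r'.map θ.inv ≫ e₂.hom.app a) ≫ t''.map ρ.hom
    rw [Functor.map_id, Category.id_comp, Category.assoc, ← hi, ← Functor.map_comp_assoc,
      Iso.inv_hom_id, Functor.map_id, Category.id_comp]⟩
  have : Θ.IsEquivalence := { }
  let η : Φ₁ ⋙ Θ ≅ (CategoricalPullback.CatCommSqOver.toFunctorToCategoricalPullback (r ⋙ r') t'' A).obj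
      ⟨t, l ⋙ l', (Functor.associator t r r').symm ≪≫ Functor.isoWhiskerRight e₁ r' ≪≫ Functor.associator l t' r' ≪≫
            Functor.isoWhiskerLeft l e₂ ≪≫ (Functor.associator l l' t'').symm⟩ :=
    NatIso.ofComponents (fun a => CategoricalPullback.mkIso (Iso.refl _) (Iso.refl _) (by
      change r'.map (r.map (𝟙 (t.obj a))) ≫ _ = _ ≫ t''.map (𝟙 (l'.obj (l.obj a)))
      rw [Functor.map_id, Functor.map_id, Functor.map_id]
      refine (Category.id_comp _).trans (Eq.trans ?_ (Category.comp_id _).symm)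
      simp [Φ₁, Θ]
      try rfl))
      (fun f => CategoricalPullback.hom_ext ((Category.comp_id _).trans (Category.id_comp _).symm) ((Category.comp_id _).trans (Category.id_comp _).symm))
  constructor
  · intro h
    have : Φ₁.IsEquivalence := h
    exact Functor.isEquivalence_of_iso η
  · intro h
    have : (Φ₁ ⋙ Θ).IsEquivalence := by
      have h' : ((CategoricalPullback.CatCommSqOver.toFunctorToCategoricalPullback (r ⋙ r') t'' A).obj _).IsEquivalence := h
      exact @Functor.isEquivalence_of_iso _ _ _ _ _ _ η.symm h'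
    exact Functor.isEquivalence_of_comp_right Φ₁ Θ

end Groth.Agent.S15491
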