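import Groth.Statements.S15494
import Mathlib

set_option autoImplicit false
universe u v
open Dieud

namespace Groth.Agent.S15494

/-- Let W be a commutative ring with a ring endomorphism σ, p a natural number, M a W-module and F an
additive self-map of M with F (w • m) = σ w • F m. Let d ≥ 1, c ≥ 1, h = d + c, and let e_1, …, e_h,
… be vectors of M on which F acts through a display matrix in normal form: F e_i = e_{i+1} for 1 ≤ i
< d; F e_d = Σ_{i=1}^{d} a_{i,d} e_i + e_{d+1}; F e_j = Σ_{i=1}^{d} p a_{i,j} e_i + p e_{j+1} for d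
< j < h; F e_h = Σ_{i=1}^{d} p a_{i,h} e_i. Then F^h e_1 = Σ_{i=1}^{d} Σ_{j=d}^{h} p^{j-d}
σ^{h-j}(a_{i,j}) F^{h+i-j-1} e_1. (The published statement is for the Dieudonné module of a
p-divisible group of dimension d and height h over the Witt ring of a field of characteristic p,
with σ the Frobenius and e_1, …, e_h a basis; this row keeps only the relations which the printed
computation uses, so W, σ, p and the vectors are arbitrary.) -/
theorem result
    (W : Type u) [CommRing W] (σ : W →+* W) (p : ℕ)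
    (M : Type v) [AddCommGroup M] [Module W M]
    (F : M →+ M) (hF : ∀ (w : W) (m : M), F (w • m) = σ w • F m)
    (d c : ℕ) (hd : 0 < d) (hc : 0 < c)
    (a : ℕ → ℕ → W) (e : ℕ → M)
    (h1 : ∀ i : ℕ, 1 ≤ i → i < d → F (e i) = e (i + 1))
    (h2 : F (e d) = (∑ i ∈ Finset.Icc 1 d, a i d • e i) + e (d + 1))
    (h3 : ∀ j : ℕ, d < j → j < d + c →
      F (e j) = (∑ i ∈ Finset.Icc 1 d, ((p : W) * a i j) • e i) + (p : W) • e (j + 1))
    (h4 : F (e (d + c)) = ∑ i ∈ Finset.Icc 1 d, ((p : W) * a i (d + c)) • e i) :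
    (⇑F)^[d + c] (e 1) = ∑ i ∈ Finset.Icc 1 d, ∑ j ∈ Finset.Icc d (d + c),
      ((p : W) ^ (j - d) * (⇑σ)^[d + c - j] (a i j)) • (⇑F)^[d + c + i - j - 1] (e 1) := by
  have hlow : ∀ i, 1 ≤ i → i ≤ d → e i = (⇑F)^[i - 1] (e 1) := by
    intro i hi1
    induction i, hi1 using Nat.le_induction with
    | base => intro _; rfl
    | succ i hi ih =>
      intro hid
      rw [← h1 i hi (by omega), ih (by omega), ← Function.iterate_succ_apply' (⇑F)]
      congr 1
      omega
  have hFp : ∀ (r : ℕ) (w : W) (m : M), F (((p : W) ^ r * w) • m) = ((p : W) ^ r * σ w) • F m := by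
    intro r w m; rw [hF, map_mul, map_pow, map_natCast]
  have hshift : ∀ j, d ≤ j →
      F (∑ i ∈ Finset.Icc 1 d, ∑ l ∈ Finset.Icc d j,
          ((p : W) ^ (l - d) * (⇑σ)^[j - l] (a i l)) • (⇑F)^[j + i - l - 1] (e 1)) =
        ∑ i ∈ Finset.Icc 1 d, ∑ l ∈ Finset.Icc d j,
          ((p : W) ^ (l - d) * (⇑σ)^[j + 1 - l] (a i l)) • (⇑F)^[j + 1 + i - l - 1] (e 1) := by
    intro j _
    simp only [map_sum]
    refine Finset.sum_congr rfl fun i hi => Finset.sum_congr rfl fun l hl => ?_
    rw [Finset.mem_Icc] at hi hl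
    rw [hFp, ← Function.iterate_succ_apply' (⇑σ), ← Function.iterate_succ_apply' (⇑F),
      show (j - l).succ = j + 1 - l by omega, show (j + i - l - 1).succ = j + 1 + i - l - 1 by omega]
  have hlast : ∀ j, d ≤ j → ∀ f : ℕ → ℕ → M,
      ∑ i ∈ Finset.Icc 1 d, ∑ l ∈ Finset.Icc d (j + 1), f i l =
        (∑ i ∈ Finset.Icc 1 d, ∑ l ∈ Finset.Icc d j, f i l) + ∑ i ∈ Finset.Icc 1 d, f i (j + 1) := by
    intro j hj f
    rw [← Finset.sum_add_distrib]
    exact Finset.sum_congr rfl fun i _ => Finset.sum_Icc_succ_top (by omega) _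
  have main : ∀ j, d ≤ j → j < d + c →
      (⇑F)^[j] (e 1) = (∑ i ∈ Finset.Icc 1 d, ∑ l ∈ Finset.Icc d j,
        ((p : W) ^ (l - d) * (⇑σ)^[j - l] (a i l)) • (⇑F)^[j + i - l - 1] (e 1)) + (p : W) ^ (j - d) • e (j + 1) := by
    intro j hj
    induction j, hj using Nat.le_induction with
    | base =>
      intro _
      have hFd : (⇑F)^[d] (e 1) = F (e d) := by
        rw [hlow d hd le_rfl, ← Function.iterate_succ_apply' (⇑F), show (d - 1).succ = d by omega]
      rw [hFd, h2, Finset.Icc_self, Nat.sub_self, pow_zero, one_smul]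
      refine congrArg (· + _) (Finset.sum_congr rfl fun i hi => ?_)
      rw [Finset.mem_Icc] at hi
      rw [Finset.sum_singleton, Nat.sub_self, pow_zero, one_mul, show d + i - d - 1 = i - 1 by omega,
        ← hlow i hi.1 hi.2]
      rfl
    | succ j hj ih =>
      intro hjc
      rw [Function.iterate_succ_apply', ih (by omega), map_add, hshift j hj, hlast j hj]
      rw [← mul_one ((p : W) ^ (j - d)), hFp, map_one, mul_one, h3 (j + 1) (by omega) hjc, smul_add, smul_smul,
        Finset.smul_sum, ← add_assoc, show j + 1 - d = (j - d) + 1 by omega, pow_succ]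
      refine congrArg (· + _) (congrArg (_ + ·) (Finset.sum_congr rfl fun i hi => ?_))
      rw [Finset.mem_Icc] at hi
      rw [smul_smul, Nat.sub_self, show j + 1 + i - (j + 1) - 1 = i - 1 by omega, ← hlow i hi.1 hi.2,
        Function.iterate_zero_apply, mul_assoc]
  obtain ⟨j, hj, hjc, hdc⟩ : ∃ j, d ≤ j ∧ j < d + c ∧ d + c = j + 1 := ⟨d + c - 1, by omega, by omega, by omega⟩
  rw [hdc] at h4 ⊢
  rw [Function.iterate_succ_apply', main j hj hjc, map_add, hshift j hj, hlast j hj]
  rw [← mul_one ((p : W) ^ (j - d)), hFp, map_one, mul_one, h4, Finset.smul_sum]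
  refine congrArg (_ + ·) (Finset.sum_congr rfl fun i hi => ?_)
  rw [Finset.mem_Icc] at hi
  rw [smul_smul, Nat.sub_self, show j + 1 + i - (j + 1) - 1 = i - 1 by omega, ← hlow i hi.1 hi.2,
    Function.iterate_zero_apply, show j + 1 - d = (j - d) + 1 by omega, pow_succ, mul_assoc]

end Groth.Agent.S15494
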