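import Groth.Statements.S15495
import Mathlib.RingTheory.Artinian.Module
import Mathlib.Algebra.CharP.Lemmas

set_option autoImplicit false
universe u
open CAlg

namespace Groth.Agent.S15495

/-- In an Artinian local ring R whose maximal ideal m contains the prime number p, the multiplicative
group 1 + m is annihilated under some power of p: there is n with (1 + x)^(p^n) = 1 for every x in
m. (The published text makes this assertion inside a proof, for Artinian local algebras over the
Witt ring of a perfect field of characteristic p; only p ∈ m and the nilpotence of m are used.) -/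
theorem result
    (R : Type u) [CommRing R] [IsLocalRing R] [IsArtinianRing R]
    (p : ℕ) (hp : p.Prime) (hpm : (p : R) ∈ IsLocalRing.maximalIdeal R) :
    ∃ n : ℕ, ∀ x ∈ IsLocalRing.maximalIdeal R, (1 + x) ^ (p ^ n) = 1 := by
  obtain ⟨N, hN⟩ := IsArtinianRing.isNilpotent_jacobson_bot (R := R)
  rw [IsLocalRing.jacobson_eq_maximalIdeal ⊥ bot_ne_top] at hN
  refine ⟨N, fun x hx => ?_⟩
  have key : ∀ k : ℕ, (1 + x) ^ (p ^ k) - 1 ∈ IsLocalRing.maximalIdeal R ^ (k + 1) := by
    intro k
    induction k with
    | zero => simpa using hx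
    | succ k ih =>
      set z := (1 + x) ^ (p ^ k) - 1 with hz
      have hzm : z ∈ IsLocalRing.maximalIdeal R := Ideal.pow_le_self (by omega) ih
      have : (1 + x) ^ (p ^ (k + 1)) = (z + 1) ^ p := by rw [pow_succ, pow_mul, hz, sub_add_cancel]
      rw [this]
      obtain ⟨c, hc⟩ := exists_add_pow_prime_eq hp z 1
      rw [hc, one_pow, show z ^ p + 1 + p * z * 1 * c - 1 = z ^ (p - 1) * z + c * ((p : R) * z) by
        rw [← pow_succ, Nat.sub_add_cancel hp.pos]; ring]
      rw [pow_succ']
      refine Ideal.add_mem _ ?_ (Ideal.mul_mem_left _ _ (Ideal.mul_mem_mul hpm ih))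
      exact Ideal.mul_mem_mul (Ideal.pow_mem_of_mem _ hzm _ (by have := hp.two_le; omega)) ih
  have := Ideal.pow_le_pow_right (Nat.le_succ N) (key N)
  rw [hN, Submodule.zero_eq_bot, Submodule.mem_bot] at this
  exact sub_eq_zero.mp this

end Groth.Agent.S15495
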