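import Groth.Statements.S15498
import Mathlib.Order.Interval.Finset.Nat
import Mathlib.Algebra.BigOperators.Intervals
import Mathlib.Tactic.Linarith
import Mathlib.Tactic.Ring
import Mathlib.Algebra.BigOperators.Ring.Finset
import Mathlib.Data.Fintype.BigOperators

set_option autoImplicit false
open NewtonPoly

namespace Groth.Agent.S15498

/-- Let m, n ≥ 1 be coprime, h = m + n, δ the segment from (0,0) to (h,m) (the isoclinic Newton polygon
of slope m/h) and ρ the ordinary polygon with n slopes 0 followed with m slopes 1, so ρ(i) = max(0,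
i − n). The integer points (i,j), 0 ≤ i ≤ h, on or above ρ and strictly below δ — that is max(0, i −
n) ≤ j and j·h < i·m — are (m−1)(n−1)/2 + (m+n−1) in number (which equals mn − r for r =
(m−1)(n−1)/2). (The published text works under m ≥ n > 0 coprime; the inequality m ≥ n is not used
and not assumed.) -/
theorem result
    (m n : ℕ) (hm : 0 < m) (hn : 0 < n) (hmn : Nat.Coprime m n) :
    ((Finset.range (m + n + 1) ×ˢ Finset.range (m + 1)).filter
      (fun ij : ℕ × ℕ => ij.1 ≤ ij.2 + n ∧ ij.2 * (m + n) < ij.1 * m)).card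
      = (m - 1) * (n - 1) / 2 + (m + n - 1) := by
  classical
  let c : ℕ → ℕ := fun i => (i * m + (m + n - 1)) / (m + n)
  have hlt : ∀ i j : ℕ, j * (m + n) < i * m ↔ j < c i := by
    intro i j
    rw [Nat.lt_div_iff_mul_lt (by omega)]
    omega
  have hfib : ∀ i ∈ Finset.range (m + n + 1), (Finset.range (m + 1)).filter
      (fun j => i ≤ j + n ∧ j * (m + n) < i * m) = Finset.Ico (i - n) (c i) := by
    intro i hi
    ext j
    simp only [Finset.mem_range] at hi
    have hc : c i ≤ m := by
      apply Nat.le_of_lt_succ
      rw [Nat.div_lt_iff_lt_mul (by omega)]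
      have : i * m ≤ (m + n) * m := Nat.mul_le_mul_right m (by omega)
      rw [Nat.succ_mul, Nat.mul_comm m (m + n)]
      omega
    simp only [Finset.mem_filter, Finset.mem_range, Finset.mem_Ico, hlt]
    omega
  have hge : ∀ i ∈ Finset.range (m + n + 1), i - n ≤ c i := by
    intro i hi
    simp only [Finset.mem_range] at hi
    rcases Nat.eq_zero_or_pos (i - n) with h | h
    · omega
    · rw [Nat.le_div_iff_mul_le (by omega)]
      have hk : i - n ≤ m := by omega
      have hi' : i = (i - n) + n := by omega
      nlinarith [Nat.mul_le_mul_right n hk]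
  have hcount : ((Finset.range (m + n + 1) ×ˢ Finset.range (m + 1)).filter
      (fun ij : ℕ × ℕ => ij.1 ≤ ij.2 + n ∧ ij.2 * (m + n) < ij.1 * m)).card
      = ∑ i ∈ Finset.range (m + n + 1), (c i - (i - n)) := by
    rw [Finset.card_filter, Finset.sum_product]
    refine Finset.sum_congr rfl fun i hi => ?_
    rw [← Finset.card_filter, hfib i hi, Nat.card_Ico]
  have hsum : ∑ i ∈ Finset.range (m + n + 1), (c i - (i - n)) +
      ∑ i ∈ Finset.range (m + n + 1), (i - n) = ∑ i ∈ Finset.range (m + n + 1), c i := by
    rw [← Finset.sum_add_distrib]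
    exact Finset.sum_congr rfl fun i hi => Nat.sub_add_cancel (hge i hi)
  have hT : (∑ i ∈ Finset.range (m + n + 1), (i - n)) * 2 = m * (m + 1) := by
    rw [show m + n + 1 = n + (m + 1) by omega, Finset.sum_range_add]
    have h0 : ∑ i ∈ Finset.range n, (i - n) = 0 := Finset.sum_eq_zero fun i hi => by
      simp at hi; omega
    rw [h0, zero_add]
    simp only [Nat.add_sub_cancel_left]
    rw [Finset.sum_range_id_mul_two]
    rw [Nat.add_sub_cancel, Nat.mul_comm]
  have hpair : ∀ i ∈ Finset.range (m + n + 1), c i + c (m + n - i) =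
      m + if 0 < i ∧ i < m + n then 1 else 0 := by
    intro i hi
    simp only [Finset.mem_range] at hi
    by_cases hb : 0 < i ∧ i < m + n
    · rw [if_pos hb]
      have h1 : (i * m) % (m + n) ≠ 0 := by
        intro h0
        have hcop : Nat.Coprime (m + n) m := by
          rw [Nat.coprime_self_add_left]; exact hmn.symm
        have := Nat.le_of_dvd hb.1 (hcop.dvd_of_dvd_mul_right (Nat.dvd_of_mod_eq_zero h0))
        omega
      have hd := Nat.div_add_mod (i * m) (m + n)
      have hr := Nat.mod_lt (i * m) (show m + n > 0 by omega)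
      have hqlt : i * m / (m + n) < m := by
        rw [Nat.div_lt_iff_lt_mul (by omega), Nat.mul_comm m (m + n)]
        exact Nat.mul_lt_mul_of_pos_right hb.2 hm
      have e1 : c i = i * m / (m + n) + 1 := by
        apply Nat.div_eq_of_lt_le
        · rw [Nat.succ_mul, Nat.mul_comm (i * m / (m + n))]; omega
        · rw [Nat.succ_mul, Nat.succ_mul, Nat.mul_comm (i * m / (m + n))]; omega
      have e2 : c (m + n - i) = m - i * m / (m + n) := by
        have hw : (m + n - i) * m + i * m = (m + n) * m := by
          rw [← Nat.add_mul, Nat.sub_add_cancel (by omega)]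
        have hs : (m - i * m / (m + n)) * (m + n) + (m + n) * (i * m / (m + n)) = (m + n) * m := by
          rw [Nat.mul_comm (m - i * m / (m + n)), ← Nat.mul_add, Nat.sub_add_cancel hqlt.le]
        apply Nat.div_eq_of_lt_le
        · omega
        · rw [Nat.succ_mul]; omega
      omega
    · rw [if_neg hb]
      have hz : c 0 = 0 := by
        apply Nat.div_eq_of_lt; omega
      have hh : c (m + n) = m := by
        apply Nat.div_eq_of_lt_le
        · rw [Nat.mul_comm m (m + n)]; omega
        · rw [Nat.succ_mul, Nat.mul_comm m (m + n)]; omega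
      rcases (show i = 0 ∨ i = m + n by omega) with rfl | rfl <;> simp [hz, hh]
  have hS : 2 * (∑ i ∈ Finset.range (m + n + 1), c i) = (m + n + 1) * m + (m + n - 1) := by
    have hr := Finset.sum_range_reflect c (m + n + 1)
    have he : ((Finset.range (m + n + 1)).filter (fun i => 0 < i ∧ i < m + n)) =
        Finset.Ioo 0 (m + n) := by
      ext i; simp; omega
    rw [two_mul]
    conv_lhs => arg 2; rw [← hr]
    rw [← Finset.sum_add_distrib]
    simp only [Nat.add_sub_cancel]
    rw [Finset.sum_congr rfl hpair, Finset.sum_add_distrib, Finset.sum_boole, he]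
    simp
  have heven : ((m - 1) * (n - 1)) % 2 = 0 := by
    rw [Nat.mul_mod]
    rcases Nat.mod_two_eq_zero_or_one (m - 1) with h | h
    · simp [h]
    · rcases Nat.mod_two_eq_zero_or_one (n - 1) with h' | h'
      · simp [h']
      · have h2m : 2 ∣ m := by omega
        have h2n : 2 ∣ n := by omega
        have h1 := Nat.dvd_gcd h2m h2n
        rw [hmn] at h1
        omega
  have hexp : (m + n + 1) * m = m * n + m * (m + 1) := by ring
  have hexp2 : (m - 1) * (n - 1) + (m + n) = m * n + 1 := by
    obtain ⟨a, rfl⟩ : ∃ a, m = a + 1 := ⟨m - 1, by omega⟩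
    obtain ⟨b, rfl⟩ : ∃ b, n = b + 1 := ⟨n - 1, by omega⟩
    simp; ring
  rw [hcount]
  omega

end Groth.Agent.S15498
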