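import Groth.Statements.S15501
import Mathlib
-- import your own Groth.Agent.* helpers here

set_option autoImplicit false
open CategoryTheory CategoryTheory.Limits AlgebraicGeometry
open An

namespace Groth.Agent.S15501

/-- The base change of an elementary fibration f : X → S of smooth complex varieties along any morphism
u : S' → S of smooth complex varieties is an elementary fibration X ×_S S' → S', elementary
fibration being taken in the following sense: f factors as an open immersion j : X → X̄ followed by
f̄ : X̄ → S, where f̄ is smooth and is a closed subscheme of some projective space over S with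
geometrically irreducible fibres of dimension one, the complement of j(X) is the image of a closed
immersion Y → X̄ with Y finite, etale and surjective over S, and j(X) is dense in every fibre of f̄
(for smooth complex varieties the last clause is automatic, and this is the usual notion: a smooth
projective family of irreducible curves minus a finite etale multisection). (The published statement
also treats rational and coordinatised elementary fibrations; this row states only the plain case.) -/
theorem result (X S S' : Scheme.{0})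
    [X.Over An.SC] [Smooth (X ↘ An.SC)] [IsSeparated (X ↘ An.SC)] [QuasiCompact (X ↘ An.SC)]
    [S.Over An.SC] [Smooth (S ↘ An.SC)] [IsSeparated (S ↘ An.SC)] [QuasiCompact (S ↘ An.SC)]
    [S'.Over An.SC] [Smooth (S' ↘ An.SC)] [IsSeparated (S' ↘ An.SC)] [QuasiCompact (S' ↘ An.SC)]
    (f : X ⟶ S) [f.IsOver An.SC] (u : S' ⟶ S) [u.IsOver An.SC]
    (hf : An.IsElementaryFibration f) :
    An.IsElementaryFibration (pullback.snd f u) := by
  obtain ⟨Xb, Y, j, fb, i, hjf, hj, hi, hrange, hdense, hsm, ⟨n, c, hc, hcb⟩, hgeom, hfin, het, hsurj⟩ := hf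
  subst hjf
  let π := pullback.fst fb u
  have Hb : IsPullback π (pullback.snd fb u) fb u := IsPullback.of_hasPullback _ _
  let j' : pullback (j ≫ fb) u ⟶ pullback fb u :=
    pullback.lift (pullback.fst (j ≫ fb) u ≫ j) (pullback.snd (j ≫ fb) u) (by rw [Category.assoc, pullback.condition])
  have hj'1 : j' ≫ π = pullback.fst (j ≫ fb) u ≫ j := pullback.lift_fst _ _ _
  have hj'2 : j' ≫ pullback.snd fb u = pullback.snd (j ≫ fb) u := pullback.lift_snd _ _ _
  have Hj : IsPullback (pullback.fst (j ≫ fb) u) j' j π :=
    IsPullback.of_bot (by rw [hj'2]; exact IsPullback.of_hasPullback _ _) hj'1.symm Hb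
  haveI : IsOpenImmersion j' := MorphismProperty.of_isPullback Hj hj
  let i' := pullback.snd i π
  have Hi : IsPullback (pullback.fst i π) i' i π := IsPullback.of_hasPullback _ _
  have Hi' : IsPullback (pullback.fst i π) (i' ≫ pullback.snd fb u) (i ≫ fb) u := Hi.paste_vert Hb
  let P := CohB1.ProjSpaceOver n S
  let P' := CohB1.ProjSpaceOver n S'
  let m : P' ⟶ P := pullback.lift (pullback.fst _ _) (CohB1.ProjSpaceOver.toBase n S' ≫ u) (by
    rw [Category.assoc]
    exact pullback.condition.trans (congrArg (CohB1.ProjSpaceOver.toBase n S' ≫ ·) (specULiftZIsTerminal.hom_ext _ _)))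
  have hm1 : m ≫ CohB1.ProjSpaceOver.toBase n S = CohB1.ProjSpaceOver.toBase n S' ≫ u := pullback.lift_snd _ _ _
  have Hm : IsPullback m (CohB1.ProjSpaceOver.toBase n S') (CohB1.ProjSpaceOver.toBase n S) u := by
    refine IsPullback.of_right ?_ hm1 (IsPullback.of_hasPullback (CohB1.ProjSpace.toSpec n (ULift.{0} ℤ)) (specULiftZIsTerminal.from S))
    rw [show m ≫ pullback.fst (CohB1.ProjSpace.toSpec n (ULift.{0} ℤ)) (specULiftZIsTerminal.from S) = pullback.fst _ _
      from pullback.lift_fst _ _ _, specULiftZIsTerminal.hom_ext (u ≫ specULiftZIsTerminal.from S) (specULiftZIsTerminal.from S')]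
    exact IsPullback.of_hasPullback _ _
  let c' : pullback fb u ⟶ P' := Hm.lift (π ≫ c) (pullback.snd fb u) (by rw [Category.assoc, hcb, pullback.condition])
  have Hc : IsPullback π c' c m :=
    IsPullback.of_bot (by rw [Hm.lift_snd, hcb]; exact Hb) (Hm.lift_fst _ _ _).symm Hm
  refine ⟨pullback fb u, pullback i π, j', pullback.snd fb u, i', hj'2, inferInstance,
    (by haveI := hi; exact (inferInstance : IsClosedImmersion (pullback.snd i π))), ?_, ?_, (by haveI := hsm; exact (inferInstance : Smooth (pullback.snd fb u))),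
    ⟨n, c', MorphismProperty.of_isPullback Hc hc, Hm.lift_snd _ _ _⟩, ?_,
    MorphismProperty.of_isPullback Hi' hfin, MorphismProperty.of_isPullback Hi' het, ?_⟩
  · have h1 : Set.range j' = π ⁻¹' Set.range j := by
      rw [← Hj.flip.isoPullback_hom_fst, Scheme.Hom.comp_base, TopCat.coe_comp, Set.range_comp,
        Function.Surjective.range_eq (Hj.flip.isoPullback.hom.surjective), Set.image_univ, Scheme.Pullback.range_fst]
    rw [h1, Scheme.Pullback.range_snd, ← Set.preimage_compl, ← hrange]
  · intro s' x hx
    rw [mem_closure_iff]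
    intro O hO hxO
    let s := u s'
    have H' := isPullback_fiberToSpecResidueField_of_isPullback Hb s'
    let φ : (pullback.snd fb u).fiber s' ⟶ fb.fiber (u s') := pullback.map (pullback.snd fb u) (S'.fromSpecResidueField s') fb (S.fromSpecResidueField (u s')) π (Spec.map (u.residueFieldMap s')) u Hb.w.symm (by simp)
    haveI : UniversallyOpen φ := MorphismProperty.of_isPullback H'.flip (inferInstance : UniversallyOpen (Spec.map (u.residueFieldMap s')))
    obtain ⟨w, hw⟩ : x ∈ Set.range ((pullback.snd fb u).fiberι s') := by rw [Scheme.Hom.range_fiberι]; exact hx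
    have hop : IsOpen (φ '' ((pullback.snd fb u).fiberι s' ⁻¹' O)) :=
      φ.isOpenMap _ (hO.preimage (Scheme.Hom.continuous _))
    obtain ⟨O₀, hO₀, hO₀e⟩ := (fb.fiberι (u s')).isEmbedding.isInducing.isOpen_iff.mp hop
    have hwm : φ w ∈ φ '' ((pullback.snd fb u).fiberι s' ⁻¹' O) := ⟨w, show _ ∈ O by rw [hw]; exact hxO, rfl⟩
    have hmem : fb.fiberι (u s') (φ w) ∈ fb.base ⁻¹' {u s'} := by
      have : fb.fiberι (u s') (φ w) ∈ Set.range (fb.fiberι (u s')) := ⟨_, rfl⟩
      rwa [Scheme.Hom.range_fiberι] at this
    obtain ⟨z, hzO, hzj, hzf⟩ := mem_closure_iff.mp (hdense _ hmem) O₀ hO₀ (by rw [← hO₀e] at hwm; exact hwm)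
    obtain ⟨v, rfl⟩ : z ∈ Set.range (fb.fiberι (u s')) := by rw [Scheme.Hom.range_fiberι]; exact hzf
    have hv : v ∈ φ '' ((pullback.snd fb u).fiberι s' ⁻¹' O) := by rw [← hO₀e]; exact hzO
    obtain ⟨v', hv', rfl⟩ := hv
    refine ⟨(pullback.snd fb u).fiberι s' v', hv', ?_, ?_⟩
    · have h1 : Set.range j' = π ⁻¹' Set.range j := by
        rw [← Hj.flip.isoPullback_hom_fst, Scheme.Hom.comp_base, TopCat.coe_comp, Set.range_comp,
          Function.Surjective.range_eq (Hj.flip.isoPullback.hom.surjective), Set.image_univ, Scheme.Pullback.range_fst]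
      rw [h1, Set.mem_preimage]
      have e : φ ≫ fb.fiberι (u s') = (pullback.snd fb u).fiberι s' ≫ π := pullback.lift_fst _ _ _
      rw [← Scheme.Hom.comp_apply, ← e, Scheme.Hom.comp_apply]
      exact hzj
    · have : (pullback.snd fb u).fiberι s' v' ∈ Set.range ((pullback.snd fb u).fiberι s') := ⟨_, rfl⟩
      rwa [Scheme.Hom.range_fiberι] at this
  · intro Ω _ _ σ
    obtain ⟨h1, h2⟩ := hgeom Ω (σ ≫ u)
    let e := (pullbackLeftPullbackSndIso fb u σ).hom.homeomorph
    refine ⟨(irreducibleSpace_def _).mpr ?_, by rw [e.isHomeomorph.topologicalKrullDim_eq]; exact h2⟩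
    show IsIrreducible Set.univ
    rw [← e.symm.surjective.range_eq, ← Set.image_univ]
    exact (IrreducibleSpace.isIrreducible_univ _).image _ e.symm.continuous.continuousOn
  · haveI : Surjective (i ≫ fb) := ⟨hsurj⟩
    exact (MorphismProperty.of_isPullback Hi' (inferInstance : Surjective (i ≫ fb))).surj

end Groth.Agent.S15501
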