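import Groth.Statements.S15502
import Mathlib
import Groth.Agent.CAlgH.LogConn

set_option autoImplicit false
open Polynomial
universe u
open CAlg

namespace Groth.Agent.S15502

/-- Let S = Spec R be a smooth connected affine complex variety (R a finitely generated smooth ℂ-algebra
and a domain), θ_1, …, θ_r ∈ R pairwise disjoint sections of the affine line over S (θ_i − θ_k a
unit for i ≠ k), Θ = ∏ (X − θ_i) ∈ R[X], and M = R^d. Suppose given an additive operator D₀ on M[X]
= R[X]^d with D₀(p v) = Θ p′ v + p D₀(v) (the action of the logarithmic vector field Θ ∂/∂X for a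
connection on the trivial bundle of rank d on the affine line over S with logarithmic poles along
the θ_i), its extension D to M[X, 1/Θ] = (R[X][1/Θ])^d with the same Leibniz rule, and for each i
the residue endomorphism Res_i of M, characterised by D₀(m)(θ_i) = (∏_{k ≠ i} (θ_i − θ_k)) ·
Res_i(m) for constant m ∈ M, whose characteristic polynomial has complex coefficients and no nonzero
integer root. Then M[X, 1/Θ] = D(M[X, 1/Θ]) + M[X]: every element of (R[X][1/Θ])^d is D of some
element plus an element coming from R[X]^d. (The published claim is made for residues whose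
characteristic roots all lie in the image of a right inverse τ of the quotient map ℂ → ℂ/ℤ with τ(0)
= 0, so that no root is a nonzero integer and no two roots differ by a nonzero integer; this row
assumes only that no nonzero integer is a root, which is all the argument uses.) -/
theorem result
    (R : Type u) [CommRing R] [IsDomain R] [Algebra ℂ R] [Algebra.FiniteType ℂ R]
    [Algebra.Smooth ℂ R] (d r : ℕ) (θ : Fin r → R)
    (hθ : ∀ i k, i ≠ k → IsUnit (θ i - θ k))
    (Θ : R[X]) (hΘ : Θ = ∏ i, (X - Polynomial.C (θ i)))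
    (D₀ : (Fin d → R[X]) →+ (Fin d → R[X]))
    (hD₀ : ∀ (p : R[X]) (v : Fin d → R[X]),
      D₀ (p • v) = (Θ * Polynomial.derivative p) • v + p • D₀ v)
    (D : (Fin d → Localization.Away Θ) →+ (Fin d → Localization.Away Θ))
    (hD : ∀ (p : R[X]) (w : Fin d → Localization.Away Θ),
      D (p • w) = (Θ * Polynomial.derivative p) • w + p • D w)
    (hDD₀ : ∀ v : Fin d → R[X],
      D (fun j => algebraMap R[X] (Localization.Away Θ) (v j)) =
        fun j => algebraMap R[X] (Localization.Away Θ) (D₀ v j))
    (Res : Fin r → ((Fin d → R) →ₗ[R] (Fin d → R)))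
    (hRes : ∀ (i : Fin r) (m : Fin d → R) (j : Fin d),
      (D₀ (fun j => Polynomial.C (m j)) j).eval (θ i) =
        (∏ k ∈ Finset.univ.erase i, (θ i - θ k)) * Res i m j)
    (hχ : ∀ i : Fin r, ∃ χ : ℂ[X], (Res i).charpoly = χ.map (algebraMap ℂ R) ∧
      ∀ n : ℤ, n ≠ 0 → χ.eval (n : ℂ) ≠ 0)
    (w : Fin d → Localization.Away Θ) :
    ∃ (w' : Fin d → Localization.Away Θ) (v : Fin d → R[X]),
      w = D w' + fun j => algebraMap R[X] (Localization.Away Θ) (v j) := by
  have hD₀' : ∀ (p : R[X]) (v : Fin d → R[X]),
      D₀ (p • v) = ((∏ i, (X - Polynomial.C (θ i))) * derivative p) • v + p • D₀ v := fun p v => by rw [← hΘ]; exact hD₀ p v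
  have hbij : ∀ (i : Fin r) (N : ℕ), 0 < N →
      Function.Bijective (Res i - (N : R) • (LinearMap.id : (Fin d → R) →ₗ[R] (Fin d → R))) := fun i N hN => by
    obtain ⟨χ, h1, h2⟩ := hχ i
    exact CAlgH.LogConn.bijective_res _ χ h1 h2 N hN
  set s : Localization.Away Θ := IsLocalization.Away.invSelf Θ
  have key : ∀ (N : ℕ) (u : Fin d → R[X]), ∃ (w' : Fin d → Localization.Away Θ) (v : Fin d → R[X]),
      (fun j => algebraMap R[X] (Localization.Away Θ) (u j) * s ^ N) = D w' + fun j => algebraMap R[X] (Localization.Away Θ) (v j) := by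
    intro N
    induction N with
    | zero => exact fun u => ⟨0, u, by simp⟩
    | succ N ih =>
      intro u
      choose m hm using fun i : Fin r => (hbij i (N + 1) (Nat.succ_pos N)).2
        ((↑(IsUnit.prod_iff.mpr fun k hk => hθ i k (Ne.symm (Finset.ne_of_mem_erase hk)) :
          IsUnit (∏ k ∈ Finset.univ.erase i, (θ i - θ k))).unit⁻¹ : R) • fun j => (u j).eval (θ i))
      choose v hv using fun j => CAlgH.LogConn.exists_eval hθ (fun i => m i j)
      have hz : ∀ j, Θ ∣ u j - (D₀ v j - ((N + 1 : ℕ) : R[X]) * derivative Θ * v j) := fun j =>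
        hΘ ▸ CAlgH.LogConn.dvd_of_eval_eq_zero hθ _ fun i => by
          rw [eval_sub, CAlgH.LogConn.eval_key D₀ Res hD₀' hRes v (N + 1) i j, sub_eq_zero,
            show (fun k => (v k).eval (θ i)) = m i from funext fun k => hv k i, hm, Pi.smul_apply, smul_eq_mul,
            ← mul_assoc, IsUnit.mul_val_inv, one_mul]
      choose z hz using hz
      obtain ⟨w', v', h'⟩ := ih z
      refine ⟨(fun j => algebraMap R[X] _ (v j) * s ^ (N + 1)) + w', v', ?_⟩
      rw [map_add, CAlgH.LogConn.D_frac D₀ Θ D hD hDD₀, add_assoc, ← h']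
      funext j
      rw [Pi.add_apply]
      have : algebraMap R[X] (Localization.Away Θ) (z j) * s ^ N = algebraMap R[X] _ (Θ * z j) * s ^ (N + 1) := by
        rw [map_mul, pow_succ', ← mul_assoc, mul_right_comm (algebraMap R[X] (Localization.Away Θ) Θ),
          IsLocalization.Away.mul_invSelf, one_mul]
      rw [this, ← hz, ← add_mul, ← map_add, add_sub_cancel]
  choose n u hu using fun j => IsLocalization.Away.surj Θ (w j)
  have hw : w = fun j => algebraMap R[X] _ (u j * Θ ^ (Finset.univ.sum n - n j)) * s ^ Finset.univ.sum n := by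
    funext j
    rw [map_mul, map_pow, ← hu, mul_assoc (w j), ← pow_add, Nat.add_sub_cancel' (Finset.single_le_sum (fun _ _ => Nat.zero_le _) (Finset.mem_univ j)),
      mul_assoc, ← mul_pow, IsLocalization.Away.mul_invSelf, one_pow, mul_one]
  rw [hw]
  exact key _ _

end Groth.Agent.S15502
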