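import Groth.Statements.S15503
import Mathlib
import Groth.Agent.CAlgH.LogConn

set_option autoImplicit false
open Polynomial
universe u
open CAlg

namespace Groth.Agent.S15503

/-- Let S = Spec R be a smooth connected affine complex variety (R a finitely generated smooth ℂ-algebra
and a domain), θ_1, …, θ_r ∈ R pairwise disjoint sections of the affine line over S (θ_i − θ_k a
unit for i ≠ k), Θ = ∏ (X − θ_i) ∈ R[X], and M = R^d. Suppose given an additive operator D₀ on M[X]
= R[X]^d with D₀(p v) = Θ p′ v + p D₀(v) (the action of the logarithmic vector field Θ ∂/∂X for a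
connection on the trivial bundle of rank d on the affine line over S with logarithmic poles along
the θ_i), its extension D to M[X, 1/Θ] = (R[X][1/Θ])^d with the same Leibniz rule, and for each i
the residue endomorphism Res_i of M, characterised by D₀(m)(θ_i) = (∏_{k ≠ i} (θ_i − θ_k)) ·
Res_i(m) for constant m ∈ M, whose characteristic polynomial has complex coefficients and no nonzero
integer root. Then an element f of M[X, 1/Θ] = (R[X][1/Θ])^d with D(f) ∈ M[X] = R[X]^d lies in
R[X]^d. (The published claim is made for residues whose characteristic roots all lie in the image of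
a right inverse τ of the quotient map ℂ → ℂ/ℤ with τ(0) = 0, so that no root is a nonzero integer
and no two roots differ by a nonzero integer; this row assumes only that no nonzero integer is a
root, which is all the argument uses.) -/
theorem result
    (R : Type u) [CommRing R] [IsDomain R] [Algebra ℂ R] [Algebra.FiniteType ℂ R]
    [Algebra.Smooth ℂ R] (d r : ℕ) (θ : Fin r → R)
    (hθ : ∀ i k, i ≠ k → IsUnit (θ i - θ k))
    (Θ : R[X]) (hΘ : Θ = ∏ i, (X - Polynomial.C (θ i)))
    (D₀ : (Fin d → R[X]) →+ (Fin d → R[X]))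
    (hD₀ : ∀ (p : R[X]) (v : Fin d → R[X]),
      D₀ (p • v) = (Θ * Polynomial.derivative p) • v + p • D₀ v)
    (D : (Fin d → Localization.Away Θ) →+ (Fin d → Localization.Away Θ))
    (hD : ∀ (p : R[X]) (w : Fin d → Localization.Away Θ),
      D (p • w) = (Θ * Polynomial.derivative p) • w + p • D w)
    (hDD₀ : ∀ v : Fin d → R[X],
      D (fun j => algebraMap R[X] (Localization.Away Θ) (v j)) =
        fun j => algebraMap R[X] (Localization.Away Θ) (D₀ v j))
    (Res : Fin r → ((Fin d → R) →ₗ[R] (Fin d → R)))
    (hRes : ∀ (i : Fin r) (m : Fin d → R) (j : Fin d),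
      (D₀ (fun j => Polynomial.C (m j)) j).eval (θ i) =
        (∏ k ∈ Finset.univ.erase i, (θ i - θ k)) * Res i m j)
    (hχ : ∀ i : Fin r, ∃ χ : ℂ[X], (Res i).charpoly = χ.map (algebraMap ℂ R) ∧
      ∀ n : ℤ, n ≠ 0 → χ.eval (n : ℂ) ≠ 0)
    (f : Fin d → Localization.Away Θ)
    (hf : ∃ v : Fin d → R[X], D f = fun j => algebraMap R[X] (Localization.Away Θ) (v j)) :
    ∃ v : Fin d → R[X], f = fun j => algebraMap R[X] (Localization.Away Θ) (v j) := by
  have hD₀' : ∀ (p : R[X]) (v : Fin d → R[X]),
      D₀ (p • v) = ((∏ i, (X - Polynomial.C (θ i))) * derivative p) • v + p • D₀ v := fun p v => by rw [← hΘ]; exact hD₀ p v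
  have hbij : ∀ (i : Fin r) (N : ℕ), 0 < N →
      Function.Bijective (Res i - (N : R) • (LinearMap.id : (Fin d → R) →ₗ[R] (Fin d → R))) := fun i N hN => by
    obtain ⟨χ, h1, h2⟩ := hχ i
    exact CAlgH.LogConn.bijective_res _ χ h1 h2 N hN
  set s : Localization.Away Θ := IsLocalization.Away.invSelf Θ
  have hΘ0 : Θ ≠ 0 := hΘ ▸ (monic_prod_of_monic _ _ fun i _ => monic_X_sub_C (θ i)).ne_zero
  have hinj : Function.Injective (algebraMap R[X] (Localization.Away Θ)) :=
    IsLocalization.injective _ (powers_le_nonZeroDivisors_of_noZeroDivisors hΘ0)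
  obtain ⟨a, ha⟩ := hf
  have key : ∀ (N : ℕ) (u : Fin d → R[X]),
      D (fun j => algebraMap R[X] (Localization.Away Θ) (u j) * s ^ N) = (fun j => algebraMap R[X] _ (a j)) →
      ∃ v : Fin d → R[X],
        (fun j => algebraMap R[X] (Localization.Away Θ) (u j) * s ^ N) = fun j => algebraMap R[X] _ (v j) := by
    intro N
    induction N with
    | zero => exact fun u _ => ⟨u, by simp⟩
    | succ N ih =>
      intro u hu
      have hu' := hu
      rw [CAlgH.LogConn.D_frac D₀ Θ D hD hDD₀] at hu
      have hz : ∀ j, Θ ∣ D₀ u j - ((N + 1 : ℕ) : R[X]) * derivative Θ * u j := fun j => by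
        refine (dvd_pow_self Θ N.succ_ne_zero).trans ⟨a j, hinj ?_⟩
        rw [map_mul, ← congrFun hu j, map_pow, mul_left_comm, ← mul_pow, IsLocalization.Away.mul_invSelf, one_pow,
          mul_one]
      have h0 : ∀ i, (fun k => (u k).eval (θ i)) = 0 := fun i => by
        refine (hbij i (N + 1) (Nat.succ_pos N)).1 ((funext fun j => ?_).trans (map_zero _).symm)
        have h1 := CAlgH.LogConn.eval_key D₀ Res hD₀' hRes u (N + 1) i j
        obtain ⟨z, hz⟩ := hz j
        rw [← hΘ, hz, hΘ, eval_mul, eval_prod, Finset.prod_eq_zero (Finset.mem_univ i) (by simp), zero_mul] at h1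
        exact (IsUnit.mul_right_eq_zero (IsUnit.prod_iff.mpr fun k hk => hθ i k (Ne.symm (Finset.ne_of_mem_erase hk)))).mp h1.symm
      choose z hz using fun j => hΘ ▸ CAlgH.LogConn.dvd_of_eval_eq_zero hθ (u j) fun i => congrFun (h0 i) j
      have he : (fun j => algebraMap R[X] (Localization.Away Θ) (u j) * s ^ (N + 1)) =
          fun j => algebraMap R[X] _ (z j) * s ^ N := by
        funext j
        rw [hz j, map_mul, pow_succ', ← mul_assoc, mul_right_comm (algebraMap R[X] (Localization.Away Θ) Θ),
          IsLocalization.Away.mul_invSelf, one_mul]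
      rw [he] at hu' ⊢
      exact ih z hu'
  choose n u hu using fun j => IsLocalization.Away.surj Θ (f j)
  have hw : f = fun j => algebraMap R[X] _ (u j * Θ ^ (Finset.univ.sum n - n j)) * s ^ Finset.univ.sum n := by
    funext j
    rw [map_mul, map_pow, ← hu, mul_assoc (f j), ← pow_add, Nat.add_sub_cancel' (Finset.single_le_sum (fun _ _ => Nat.zero_le _) (Finset.mem_univ j)),
      mul_assoc, ← mul_pow, IsLocalization.Away.mul_invSelf, one_pow, mul_one]
  rw [hw] at ha ⊢
  exact key _ _ ha

end Groth.Agent.S15503
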