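import Groth.Statements.S15504
import Mathlib.RingTheory.OrderOfVanishing.Basic
import Mathlib.RingTheory.WittVector.DiscreteValuationRing
import Mathlib.RingTheory.Artinian.Module
import Mathlib.Algebra.Module.Torsion.Basic
import Mathlib.RingTheory.DedekindDomain.Basic
import Mathlib.RingTheory.DiscreteValuationRing.TFAE

set_option autoImplicit false
universe u v
open FrobAlg

namespace Groth.Agent.S15504

/-- Let k be an algebraically closed field of characteristic p, W = W(k) the ring of p-typical Witt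
vectors, M a finitely generated torsion W-module and φ a p⁻¹-linear endomorphism of M (additive,
with φ(a·m) = σ⁻¹(a)·φ(m) for the Frobenius automorphism σ of W). Then M = M_s ⊕ M_n for two
φ-stable submodules, with φ bijective on M_s and nilpotent on M_n (one iterate of φ kills M_n). -/
theorem result (p : ℕ) [Fact p.Prime]
    (k : Type u) [Field k] [CharP k p] [IsAlgClosed k]
    (M : Type v) [AddCommGroup M] [Module (WittVector p k) M] [Module.Finite (WittVector p k) M]
    (hM : Module.IsTorsion (WittVector p k) M)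
    (φ : M →ₛₗ[((WittVector.frobeniusEquiv p k).symm : WittVector p k →+* WittVector p k)] M) :
    ∃ Ms Mn : Submodule (WittVector p k) M, IsCompl Ms Mn ∧
      Set.MapsTo φ Ms Ms ∧ Set.MapsTo φ Mn Mn ∧ Set.BijOn φ Ms Ms ∧
      ∃ r : ℕ, ∀ x ∈ Mn, (⇑φ)^[r] x = 0 := by
  classical
  let R := WittVector p k
  have hArt : IsArtinian R M := by
    obtain ⟨x, hx0, hx⟩ : ∃ x ∈ nonZeroDivisors R, ∀ m : M, x • m = 0 := by
      obtain ⟨x, hx, hx'⟩ := Set.nonempty_def.mp (Submodule.annihilator_top_inter_nonZeroDivisors hM)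
      exact ⟨x, hx', fun m => Submodule.mem_annihilator.mp hx m trivial⟩
    have hA : IsArtinian R (R ⧸ Ideal.span {x}) :=
      (isFiniteLength_iff_isNoetherian_isArtinian.mp (isFiniteLength_quotient_span_singleton R hx0)).2
    obtain ⟨n, s, hs⟩ := Module.Finite.exists_fin (R := R) (M := M)
    let g : (Fin n → R ⧸ Ideal.span {x}) →ₗ[R] M :=
      ∑ i, (Submodule.liftQ (Ideal.span {x}) (LinearMap.toSpanSingleton R M (s i)) (by
        rw [Submodule.span_le]; rintro y rfl; simpa using hx (s i))) ∘ₗ LinearMap.proj i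
    refine isArtinian_of_surjective _ g fun m => ?_
    obtain ⟨c, hc⟩ := (Submodule.mem_span_range_iff_exists_fun R).mp (hs ▸ Submodule.mem_top : m ∈ Submodule.span R (Set.range s))
    refine ⟨fun i => Ideal.Quotient.mk _ (c i), ?_⟩
    rw [← hc]
    simp only [g, LinearMap.sum_apply, LinearMap.comp_apply, LinearMap.proj_apply]
    exact Finset.sum_congr rfl fun i _ => (Submodule.liftQ_apply (Ideal.span {x}) _ (c i)).trans
      (LinearMap.toSpanSingleton_apply R M (s i) (c i))
  have hNoe : IsNoetherian R M := isNoetherian_of_isNoetherianRing_of_finite R M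
  let σ := (WittVector.frobeniusEquiv p k).symm
  have hit : ∀ (r : ℕ) (c : R) (y : M), (⇑φ)^[r] (c • y) = ((⇑σ)^[r] c) • (⇑φ)^[r] y := by
    intro r
    induction r with
    | zero => simp
    | succ r ih =>
      intro c y
      rw [Function.iterate_succ_apply', Function.iterate_succ_apply', Function.iterate_succ_apply', ih,
        LinearMap.map_smulₛₗ]
      rfl
  have hadd : ∀ (r : ℕ) (a b : M), (⇑φ)^[r] (a + b) = (⇑φ)^[r] a + (⇑φ)^[r] b :=
    iterate_map_add φ
  have hsurj : ∀ r, Function.Surjective ((⇑σ)^[r]) := fun r => σ.surjective.iterate r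
  let Im : ℕ → Submodule R M := fun r =>
    { carrier := Set.range (⇑φ)^[r]
      add_mem' := by rintro _ _ ⟨a, rfl⟩ ⟨b, rfl⟩; exact ⟨a + b, hadd r a b⟩
      zero_mem' := ⟨0, iterate_map_zero φ r⟩
      smul_mem' := by
        rintro c _ ⟨a, rfl⟩
        obtain ⟨d, rfl⟩ := hsurj r c
        exact ⟨d • a, hit r d a⟩ }
  let Ker : ℕ → Submodule R M := fun r =>
    { carrier := {x | (⇑φ)^[r] x = 0}
      add_mem' := fun {a b} (ha : (⇑φ)^[r] a = 0) (hb : (⇑φ)^[r] b = 0) =>
        (show (⇑φ)^[r] (a + b) = 0 by rw [hadd, ha, hb, add_zero])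
      zero_mem' := iterate_map_zero φ r
      smul_mem' := fun c a (ha : (⇑φ)^[r] a = 0) =>
        (show (⇑φ)^[r] (c • a) = 0 by rw [hit, ha, smul_zero]) }
  have hIm : Antitone Im := antitone_nat_of_succ_le fun r x hx => by
    obtain ⟨a, rfl⟩ := hx
    exact ⟨φ a, (Function.iterate_succ_apply φ r a).symm⟩
  have hKer : Monotone Ker := monotone_nat_of_le_succ fun r x (hx : (⇑φ)^[r] x = 0) =>
    show (⇑φ)^[r + 1] x = 0 by rw [Function.iterate_succ_apply', hx, map_zero]
  obtain ⟨r1, h1⟩ := IsArtinian.monotone_stabilizes ⟨fun r => OrderDual.toDual (Im r), hIm⟩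
  obtain ⟨r2, h2⟩ := monotone_stabilizes_iff_noetherian.mpr hNoe ⟨Ker, hKer⟩
  let r := max r1 r2
  have e1 : ∀ s, r ≤ s → Im s = Im r := fun s hs => by
    have a := h1 s (le_trans (le_max_left _ _) hs)
    have b := h1 r (le_max_left _ _)
    exact OrderDual.toDual.injective (a.symm.trans b)
  have e2 : ∀ s, r ≤ s → Ker s = Ker r := fun s hs =>
    (h2 s (le_trans (le_max_right _ _) hs)).symm.trans (h2 r (le_max_right _ _))
  refine ⟨Im r, Ker r, ⟨?_, ?_⟩, ?_, ?_, ⟨?_, ?_, ?_⟩, r, fun x hx => hx⟩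
  · rw [Submodule.disjoint_def]
    rintro x ⟨a, rfl⟩ (hx : (⇑φ)^[r] ((⇑φ)^[r] a) = 0)
    rw [← Function.iterate_add_apply] at hx
    have : a ∈ Ker (r + r) := hx
    rw [e2 _ (Nat.le_add_right r r)] at this
    exact this
  · rw [codisjoint_iff, eq_top_iff]
    intro x _
    have : (⇑φ)^[r] x ∈ Im (r + r) := by rw [e1 _ (Nat.le_add_right r r)]; exact ⟨x, rfl⟩
    obtain ⟨a, ha⟩ := this
    rw [Function.iterate_add_apply] at ha
    refine Submodule.mem_sup.mpr ⟨(⇑φ)^[r] a, ⟨a, rfl⟩, x - (⇑φ)^[r] a, ?_, add_sub_cancel _ _⟩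
    show (⇑φ)^[r] _ = 0
    rw [iterate_map_sub, ha, sub_self]
  · rintro x ⟨a, rfl⟩
    exact ⟨φ a, by rw [← Function.iterate_succ_apply, Function.iterate_succ_apply']⟩
  · intro x (hx : (⇑φ)^[r] x = 0)
    show (⇑φ)^[r] (φ x) = 0
    rw [← Function.iterate_succ_apply, Function.iterate_succ_apply', hx, map_zero]
  · rintro x ⟨a, rfl⟩
    exact ⟨φ a, by rw [← Function.iterate_succ_apply, Function.iterate_succ_apply']⟩
  · rintro x ⟨a, rfl⟩ y ⟨b, rfl⟩ hxy
    rw [← Function.iterate_succ_apply' φ, ← Function.iterate_succ_apply' φ] at hxy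
    have : a - b ∈ Ker (r + 1) := by
      show (⇑φ)^[r + 1] (a - b) = 0
      rw [iterate_map_sub, hxy, sub_self]
    rw [e2 _ (Nat.le_succ r)] at this
    have h3 : (⇑φ)^[r] (a - b) = 0 := this
    rwa [iterate_map_sub, sub_eq_zero] at h3
  · intro x hx
    rw [SetLike.mem_coe, ← e1 (r + 1) (Nat.le_succ r)] at hx
    obtain ⟨a, rfl⟩ := hx
    exact ⟨(⇑φ)^[r] a, ⟨a, rfl⟩, (Function.iterate_succ_apply' φ r a).symm⟩

end Groth.Agent.S15504
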