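import Groth.Statements.S15505
import Mathlib

set_option autoImplicit false
universe u v w
open FrobAlg

namespace Groth.Agent.S15505

/-- Let k be an algebraically closed field of characteristic p, V a k-vector space, φ a p⁻¹-linear
endomorphism of V (additive, φ(a·v) = a^{1/p}·φ(v)) and b a finite basis of V consisting of vectors
fixed by φ. Then the vectors fixed by φ are exactly the combinations of the b_i with coefficients in
the prime field: v is fixed if and only if v = Σ c_i·b_i with all c_i in the image of ℤ/p. -/
theorem result (p : ℕ) [Fact p.Prime]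
    (k : Type u) [Field k] [CharP k p] [IsAlgClosed k]
    (V : Type v) [AddCommGroup V] [Module k V]
    (φ : V →ₛₗ[((frobeniusEquiv k p).symm : k →+* k)] V)
    {ι : Type w} [Fintype ι] (b : Module.Basis ι k V) (hb : ∀ i, φ (b i) = b i) (v : V) :
    φ v = v ↔ ∃ c : ι → ZMod p, v = ∑ i, (ZMod.castHom (dvd_refl p) k (c i)) • b i := by
  have hv : φ v = ∑ i, (frobeniusEquiv k p).symm (b.repr v i) • b i := by
    conv_lhs => rw [← b.sum_repr v]
    simp only [map_sum, LinearMap.map_smulₛₗ, hb]
    rfl
  constructor
  · intro h
    have hc : ∀ i, ∃ c : ZMod p, ZMod.castHom (dvd_refl p) k c = b.repr v i := fun i => by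
      have h1 : (frobeniusEquiv k p).symm (b.repr v i) = b.repr v i := by
        have := congrArg (fun w => b.repr w i) (hv.symm.trans h)
        simpa only [b.repr_sum_self] using this
      have h2 : b.repr v i ^ p = b.repr v i := by
        conv_rhs => rw [← (frobeniusEquiv k p).apply_symm_apply (b.repr v i), h1]
        rfl
      obtain ⟨m, hm⟩ : b.repr v i ∈ (ZMod.castHom (dvd_refl p) k).range := by
        letI := ZMod.algebra k p
        have h4 := (Subfield.mem_bot_iff_pow_eq_self (F := k) p).mpr h2
        rw [Subfield.bot_eq_of_zMod_algebra (K := k) p] at h4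
        obtain ⟨m, hm⟩ := h4
        exact ⟨m, hm⟩
      exact ⟨m, hm⟩
    choose c hc using hc
    exact ⟨c, by simp only [hc, b.sum_repr]⟩
  · rintro ⟨c, rfl⟩
    simp only [map_sum, LinearMap.map_smulₛₗ, hb]
    refine Finset.sum_congr rfl fun i _ => ?_
    congr 1
    show (frobeniusEquiv k p).symm _ = _
    rw [RingEquiv.symm_apply_eq]
    rw [frobeniusEquiv_apply, frobenius_def, ← map_pow, ZMod.pow_card]

end Groth.Agent.S15505
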