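import Mathlib
import Groth.Statements.S15506
-- import your own Groth.Agent.* helpers here

set_option autoImplicit false
set_option backward.isDefEq.respectTransparency false
set_option backward.isDefEq.respectTransparency.types false
universe u
open CategoryTheory AlgebraicGeometry
open EtBase

namespace Groth.Agent.S15506

/-- Let k be a field, K an algebraic closure of k (an algebraically closed field algebraic over k), Ω a
field containing K, and Z a scheme étale over Spec k. Composition with Spec Ω → Spec K is a
bijection from the k-morphisms Spec K → Z onto the k-morphisms Spec Ω → Z: two k-morphisms Spec K →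
Z that agree on Spec Ω are equal, and every k-morphism Spec Ω → Z factors through Spec K. (The
published statement is the case where k has characteristic zero with a chosen embedding of its
algebraic closure into the complex numbers, Ω = ℂ, and Z is the scheme of isomorphisms between two
K3 surfaces over k, known there to be étale over k; this row states the fact about an arbitrary
étale k-scheme that the argument establishes.) -/
theorem result
    (k K Ω : Type u) [Field k] [Field K] [Field Ω] [Algebra k K] [IsAlgClosed K] [Algebra.IsAlgebraic k K]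
    [Algebra K Ω] [Algebra k Ω] [IsScalarTower k K Ω]
    (Z : Scheme.{u}) (f : Z ⟶ Spec (CommRingCat.of k)) [AlgebraicGeometry.Etale f] :
    (∀ g₁ g₂ : Spec (CommRingCat.of K) ⟶ Z,
        g₁ ≫ f = Spec.map (CommRingCat.ofHom (algebraMap k K)) →
        g₂ ≫ f = Spec.map (CommRingCat.ofHom (algebraMap k K)) →
        Spec.map (CommRingCat.ofHom (algebraMap K Ω)) ≫ g₁ = Spec.map (CommRingCat.ofHom (algebraMap K Ω)) ≫ g₂ →
        g₁ = g₂) ∧
    (∀ h : Spec (CommRingCat.of Ω) ⟶ Z, h ≫ f = Spec.map (CommRingCat.ofHom (algebraMap k Ω)) →
        ∃ g : Spec (CommRingCat.of K) ⟶ Z, g ≫ f = Spec.map (CommRingCat.ofHom (algebraMap k K)) ∧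
          Spec.map (CommRingCat.ofHom (algebraMap K Ω)) ≫ g = h) := by
  refine ⟨?_, fun h hh => ?_⟩
  · intro g₁ g₂ h₁ h₂ hg
    obtain ⟨⟨z₁, a₁⟩, rfl⟩ := (Scheme.SpecToEquivOfField K Z).symm.surjective g₁
    obtain ⟨⟨z₂, a₂⟩, rfl⟩ := (Scheme.SpecToEquivOfField K Z).symm.surjective g₂
    simp only [Scheme.SpecToEquivOfField, Equiv.coe_fn_symm_mk] at hg ⊢
    have hz : z₁ = z₂ := by
      have := congrArg (fun g => g (IsLocalRing.closedPoint Ω)) hg
      simpa [Scheme.fromSpecResidueField_apply] using this
    subst hz
    rw [← Spec.map_comp_assoc, ← Spec.map_comp_assoc, cancel_mono, Spec.map_inj] at hg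
    rw [cancel_mono, Spec.map_inj]
    ext a
    exact (algebraMap K Ω).injective (congrArg (fun g => g.hom a) hg)
  · obtain ⟨⟨z, ψ⟩, rfl⟩ := (Scheme.SpecToEquivOfField Ω Z).symm.surjective h
    simp only [Scheme.SpecToEquivOfField, Equiv.coe_fn_symm_mk] at hh ⊢
    let ρ : CommRingCat.of k ⟶ (Spec (CommRingCat.of k)).residueField (f z) :=
      CommRingCat.ofHom (algebraMap k _) ≫ (Scheme.Spec.residueFieldIso _ (f z)).inv
    have hρ : Spec.map ρ = (Spec (CommRingCat.of k)).fromSpecResidueField (f z) :=
      (Spec.map_comp _ _).trans (Scheme.Spec.map_residueFieldIso_inv_eq_fromSpecResidueField _ _)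
    have hρs : Function.Surjective ρ.hom := by
      haveI : (f z).asIdeal.IsMaximal :=
        ((Ideal.eq_bot_or_top (f z).asIdeal).resolve_right (f z).2.ne_top).symm ▸ Ideal.bot_isMaximal
      exact (ConcreteCategory.bijective_of_isIso (Scheme.Spec.residueFieldIso _ (f z)).inv).2.comp
        (Ideal.algebraMap_residueField_surjective (f z).asIdeal)
    let φ := ρ ≫ f.residueFieldMap z
    have hφ : Spec.map φ = Z.fromSpecResidueField z ≫ f := by
      rw [Spec.map_comp, hρ, Scheme.Hom.SpecMap_residueFieldMap_fromSpecResidueField]
    have hψ : φ ≫ ψ = CommRingCat.ofHom (algebraMap k Ω) := by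
      apply Spec.map_injective
      rw [Spec.map_comp, hφ, ← Category.assoc, hh]
    have hint : φ.hom.IsIntegral := by
      refine RingHom.IsIntegral.trans ρ.hom (f.residueFieldMap z).hom (RingHom.isIntegral_of_surjective _ hρs) ?_
      letI : Algebra ((Spec (CommRingCat.of k)).residueField (f z)) (Z.residueField z) :=
        (f.residueFieldMap z).hom.toAlgebra
      haveI : Algebra.IsSeparable ((Spec (CommRingCat.of k)).residueField (f z)) (Z.residueField z) := inferInstance
      exact fun a => Algebra.IsIntegral.isIntegral a
    have hmem : ∀ a, ψ.hom a ∈ (algebraMap K Ω).range := by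
      intro a
      obtain ⟨P, hP, hPa⟩ := hint a
      have h1 : IsIntegral K (ψ.hom a) := by
        refine ⟨P.map (algebraMap k K), hP.map _, ?_⟩
        rw [Polynomial.eval₂_map, ← IsScalarTower.algebraMap_eq]
        have hcomp : algebraMap k Ω = ψ.hom.comp φ.hom := congrArg CommRingCat.Hom.hom hψ.symm
        rw [hcomp, ← Polynomial.hom_eval₂, hPa, map_zero]
      exact minpoly.mem_range_of_degree_eq_one K (ψ.hom a)
        (IsAlgClosed.degree_eq_one_of_irreducible K (minpoly.irreducible h1))
    choose l hl using fun a => hmem a
    let χ : Z.residueField z →+* K :=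
      { toFun := l
        map_zero' := (algebraMap K Ω).injective (by rw [hl, map_zero, map_zero])
        map_one' := (algebraMap K Ω).injective (by rw [hl, map_one, map_one])
        map_add' := fun a b => (algebraMap K Ω).injective (by rw [hl, map_add, map_add, hl, hl])
        map_mul' := fun a b => (algebraMap K Ω).injective (by rw [hl, map_mul, map_mul, hl, hl]) }
    refine ⟨Spec.map (CommRingCat.ofHom χ) ≫ Z.fromSpecResidueField z, ?_, ?_⟩
    · rw [Category.assoc, ← hφ, ← Spec.map_comp]
      congr 1
      ext a
      apply (algebraMap K Ω).injective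
      refine (hl _).trans ?_
      exact (congrArg (fun g => g.hom a) hψ).trans (IsScalarTower.algebraMap_apply k K Ω a)
    · rw [← Spec.map_comp_assoc]
      congr 2
      ext a
      exact hl a

end Groth.Agent.S15506
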