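import Groth.Statements.S15509
import Groth.Agent.GrpSch.AbMul
import Groth.Agent.RegNormal.Basic

set_option autoImplicit false
universe u
open CategoryTheory CategoryTheory.Limits MonoidalCategory CartesianMonoidalCategory MonObj AlgebraicGeometry
open AbSch
open scoped TensorProduct

namespace Groth.Agent.S15509

/-- two sections of an unramified algebra over a local ring agreeing modulo the maximal ideal agree -/
lemma section_ext {R B : Type u} [CommRing R] [IsLocalRing R] [CommRing B] [Algebra R B]
    [Algebra.FormallyUnramified R B] [Algebra.FiniteType R B] (f g : B →ₐ[R] R)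
    (h : ∀ b, IsLocalRing.residue R (f b) = IsLocalRing.residue R (g b)) : f = g := by
  let J : Ideal R := (KaehlerDifferential.ideal R B).map (Algebra.TensorProduct.productMap f g)
  have hI : IsIdempotentElem (KaehlerDifferential.ideal R B) :=
    (Ideal.cotangent_subsingleton_iff _).mp <| inferInstanceAs <| Subsingleton Ω[B⁄R]
  have hJ : IsIdempotentElem J := by
    change J * J = J
    rw [← Ideal.map_mul, hI.eq]
  have hle : J ≤ IsLocalRing.maximalIdeal R := by
    rw [Ideal.map_le_iff_le_comap, ← KaehlerDifferential.span_range_eq_ideal, Ideal.span_le]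
    rintro _ ⟨b, rfl⟩
    rw [SetLike.mem_coe, Ideal.mem_comap, map_sub]
    simp only [Algebra.TensorProduct.productMap_apply_tmul, map_one]
    rw [← IsLocalRing.residue_eq_zero_iff, map_sub, _root_.one_mul, _root_.mul_one, h, sub_self]
  have h0 : J = ⊥ := Submodule.eq_bot_of_le_smul_of_le_jacobson_bot (IsLocalRing.maximalIdeal R) J
    ((KaehlerDifferential.ideal_fg R B).map _)
    (by rw [smul_eq_mul]; calc J = J * J := hJ.eq.symm
        _ ≤ _ := Ideal.mul_mono_left hle)
    (IsLocalRing.maximalIdeal_le_jacobson ⊥)
  refine AlgHom.ext fun b => ?_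
  have : Algebra.TensorProduct.productMap f g (1 ⊗ₜ[R] b - b ⊗ₜ[R] 1) ∈ J := by
    refine Ideal.mem_map_of_mem _ ?_
    rw [← KaehlerDifferential.span_range_eq_ideal]
    exact Ideal.subset_span ⟨b, rfl⟩
  rw [h0, Ideal.mem_bot, map_sub] at this
  simp only [Algebra.TensorProduct.productMap_apply_tmul, map_one, _root_.one_mul, _root_.mul_one] at this
  exact (sub_eq_zero.mp this).symm

/-- residue field points of a finite algebra over a local ring form a finite set -/
lemma finite_points {R B : Type u} [CommRing R] [IsLocalRing R] [CommRing B] (ψ : R →+* B)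
    (hψ : ψ.Finite) :
    Finite {φ : B →+* IsLocalRing.ResidueField R // φ.comp ψ = IsLocalRing.residue R} := by
  letI := ψ.toAlgebra
  haveI : Module.Finite R B := hψ
  have hfin : ((IsLocalRing.maximalIdeal R).primesOver B).Finite := Algebra.QuasiFinite.finite_primesOver _
  haveI := hfin.to_subtype
  refine Finite.of_injective (β := (IsLocalRing.maximalIdeal R).primesOver B)
    (fun φ => ⟨RingHom.ker φ.1, RingHom.ker_isPrime φ.1, ⟨?_⟩⟩) ?_
  · ext r
    change r ∈ _ ↔ φ.1 (ψ r) = 0
    rw [← IsLocalRing.residue_eq_zero_iff, show φ.1 (ψ r) = IsLocalRing.residue R r from DFunLike.congr_fun φ.2 r]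
  · intro φ φ' h
    apply Subtype.ext
    ext b
    obtain ⟨r, hr⟩ := IsLocalRing.residue_surjective (φ.1 b)
    have h1 : φ.1 (ψ r) = IsLocalRing.residue R r := DFunLike.congr_fun φ.2 r
    have h2 : φ'.1 (ψ r) = IsLocalRing.residue R r := DFunLike.congr_fun φ'.2 r
    have : b - ψ r ∈ RingHom.ker φ.1 := by rw [RingHom.mem_ker, map_sub, h1, hr, sub_self]
    rw [show RingHom.ker φ.1 = RingHom.ker φ'.1 from congrArg Subtype.val h, RingHom.mem_ker, map_sub,
      h2, hr, sub_eq_zero] at this
    exact this.symm

/-- `m`-torsion points are the points of the kernel of multiplication by `m` -/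
noncomputable def torsEquiv {S : Scheme.{u}} (A : Over S) [GrpObj A] [IsCommMonObj A] (m : ℕ) (T : Over S) :
    AbDual.torsPts A m T ≃
      {z : T.left ⟶ pullback (𝟙 A ^ (m : ℤ)).left η[A].left //
        z ≫ pullback.snd (𝟙 A ^ (m : ℤ)).left η[A].left = T.hom} where
  toFun x := ⟨pullback.lift x.1.left T.hom (by
      have h : x.1 ≫ (𝟙 A ^ (m : ℤ)) = toUnit T ≫ η[A] := by
        rw [zpow_natCast, MonObj.comp_pow, Category.comp_id]
        exact x.2
      simpa using congrArg CommaMorphism.left h), pullback.lift_snd _ _ _⟩
  invFun z := ⟨Over.homMk (z.1 ≫ pullback.fst _ _) (by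
      have h1 : η[A].left ≫ A.hom = 𝟙 S := Over.w η[A]
      rw [Category.assoc, ← Over.w (𝟙 A ^ (m : ℤ)), pullback.condition_assoc, h1]
      simpa using z.2), by
      rw [AbDual.mem_torsPts, ← Category.comp_id (Over.homMk _ _ : T ⟶ A), ← MonObj.comp_pow,
        ← zpow_natCast]
      conv_rhs => rw [Hom.one_def]
      refine Over.OverMorphism.ext ?_
      simp only [Over.comp_left, Over.homMk_left, Category.assoc, pullback.condition]
      exact (reassoc_of% z.2) η[A].left⟩
  left_inv x := by
    refine Subtype.ext (Over.OverMorphism.ext ?_)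
    exact pullback.lift_fst _ _ _
  right_inv z := by
    refine Subtype.ext (pullback.hom_ext ?_ ?_)
    · exact pullback.lift_fst _ _ _
    · exact (pullback.lift_snd _ _ _).trans z.2.symm


/-- Let R be a regular local ring which is a domain and contains the rational numbers, with fraction
field K and residue field k, and let A be an abelian scheme over Spec R of relative dimension g (a
commutative group scheme which is smooth and proper with geometrically connected fibres of dimension
g). Then for every integer m ≥ 1 the number of K-valued points of A over Spec R killed by m is at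
most the number of k-valued points of A over Spec R killed by m: the m-torsion of the rational
points of the generic fibre is no larger than the m-torsion of the rational points of the closed
fibre. (The published statement is for an arbitrary Noetherian regular local ring R inside a paper
whose standing setting is schemes over the complex numbers; this row keeps from that setting only
that R contains the rationals, which is what the printed argument uses to make the m-torsion
subgroup scheme étale over the base.) -/
theorem result
    (R : Type u) [CommRing R] [IsDomain R] [IsRegularLocalRing R] [Algebra ℚ R]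
    (A : Over (Spec (CommRingCat.of R))) [GrpObj A] [IsCommMonObj A] (g : ℕ) (hA : AgPol.IsAbSch A g)
    (m : ℕ) (hm : 1 ≤ m) :
    Nat.card (AbDual.torsPts A m (Over.mk (Spec.map (CommRingCat.ofHom (algebraMap R (FractionRing R)))))) ≤
      Nat.card (AbDual.torsPts A m (Over.mk (Spec.map (CommRingCat.ofHom (IsLocalRing.residue R))))) := by
  haveI := hA.smooth
  haveI := hA.proper
  haveI := hA.geomConnected
  have hmR : IsUnit ((m : ℤ) : R) := by
    have : IsUnit ((m : ℚ)) := (Nat.cast_ne_zero.mpr (by omega)).isUnit
    simpa using this.map (algebraMap ℚ R)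
  have hmΓ : IsUnit ((m : ℤ) : Γ(Spec (CommRingCat.of R), ⊤)) := by
    simpa using hmR.map (Scheme.ΓSpecIso (CommRingCat.of R)).inv.hom
  haveI := GrpSch.AbMul.etale_zpow A (m : ℤ) hmΓ
  haveI := GrpSch.AbMul.isFinite_zpow A (m : ℤ) hmΓ
  let pr : pullback (𝟙 A ^ (m : ℤ)).left η[A].left ⟶ Spec (CommRingCat.of R) :=
    pullback.snd (𝟙 A ^ (m : ℤ)).left η[A].left
  haveI : IsFinite pr := MorphismProperty.pullback_snd _ _ inferInstance
  haveI : Etale pr := MorphismProperty.pullback_snd _ _ inferInstance
  haveI : IsAffine (pullback (𝟙 A ^ (m : ℤ)).left η[A].left) := isAffine_of_isAffineHom pr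
  let i := (pullback (𝟙 A ^ (m : ℤ)).left η[A].left).isoSpec
  let B := Γ(pullback (𝟙 A ^ (m : ℤ)).left η[A].left, ⊤)
  let ψ : CommRingCat.of R ⟶ B := Spec.preimage (i.inv ≫ pr)
  have hψ : Spec.map ψ = i.inv ≫ pr := Spec.map_preimage _
  have hfin : ψ.hom.Finite := by
    rw [← IsFinite.SpecMap_iff, hψ]; infer_instance
  have hunr : ψ.hom.FormallyUnramified := by
    rw [← HasRingHomProperty.Spec_iff (P := @FormallyUnramified), hψ]; infer_instance
  letI : Algebra R B := ψ.hom.toAlgebra
  haveI : Module.Finite R B := hfin
  haveI : Algebra.FormallyUnramified R B := hunr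
  have eqv : ∀ (C : Type u) [CommRing C] (α : R →+* C),
      Nonempty (AbDual.torsPts A m (Over.mk (Spec.map (CommRingCat.ofHom α))) ≃
        {φ : B →+* C // φ.comp ψ.hom = α}) := fun C _ α =>
    ⟨(torsEquiv A m _).trans
      { toFun := fun z => ⟨(Spec.preimage (z.1 ≫ i.hom)).hom, by
          suffices h : ψ ≫ Spec.preimage (z.1 ≫ i.hom) = CommRingCat.ofHom α from congrArg (·.hom) h
          apply Spec.map_injective
          rw [Spec.map_comp, hψ, Spec.map_preimage, Category.assoc, Iso.hom_inv_id_assoc]
          exact z.2⟩
        invFun := fun φ => ⟨Spec.map (CommRingCat.ofHom φ.1) ≫ i.inv, by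
          change _ ≫ pr = Spec.map (CommRingCat.ofHom α)
          rw [Category.assoc, ← hψ, ← Spec.map_comp]
          congr 1
          exact CommRingCat.hom_ext φ.2⟩
        left_inv := fun z => by
          apply Subtype.ext
          change Spec.map (CommRingCat.ofHom (Spec.preimage (z.1 ≫ i.hom)).hom) ≫ i.inv = z.1
          rw [CommRingCat.ofHom_hom, Spec.map_preimage, Category.assoc, Iso.hom_inv_id, Category.comp_id]
        right_inv := fun φ => by
          apply Subtype.ext
          change (Spec.preimage ((Spec.map (CommRingCat.ofHom φ.1) ≫ i.inv) ≫ i.hom)).hom = φ.1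
          rw [Category.assoc, Iso.inv_hom_id, Category.comp_id, Spec.preimage_map, CommRingCat.hom_ofHom] }⟩
  obtain ⟨e₁⟩ := eqv (FractionRing R) (algebraMap R (FractionRing R))
  obtain ⟨e₂⟩ := eqv (IsLocalRing.ResidueField R) (IsLocalRing.residue R)
  rw [Nat.card_congr e₁, Nat.card_congr e₂]
  haveI := finite_points ψ.hom hfin
  haveI := RegNormal.isIntegrallyClosed R
  -- the integral extension of a generic point
  have ext : ∀ φ : {φ : B →+* FractionRing R // φ.comp ψ.hom = algebraMap R (FractionRing R)},
      ∃ s : B →ₐ[R] R, ∀ b, algebraMap R (FractionRing R) (s b) = φ.1 b := by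
    intro φ
    let φa : B →ₐ[R] FractionRing R := { φ.1 with commutes' := fun r => DFunLike.congr_fun φ.2 r }
    have hint : ∀ b, φa b ∈ (Algebra.ofId R (FractionRing R)).range := fun b => by
      obtain ⟨r, hr⟩ := IsIntegrallyClosed.isIntegral_iff.mp ((Algebra.IsIntegral.isIntegral (R := R) b).map φa)
      exact ⟨r, hr⟩
    let e := AlgEquiv.ofInjective (Algebra.ofId R (FractionRing R)) (IsFractionRing.injective R _)
    refine ⟨e.symm.toAlgHom.comp (φa.codRestrict _ hint), fun b => ?_⟩
    exact congrArg Subtype.val (e.apply_symm_apply (φa.codRestrict _ hint b))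
  choose s hs using ext
  refine Nat.card_le_card_of_injective
    (fun φ => ⟨(IsLocalRing.residue R).comp (s φ).toRingHom,
      RingHom.ext fun r => congrArg (IsLocalRing.residue R) ((s φ).commutes r)⟩) ?_
  intro φ φ' h
  have : s φ = s φ' := section_ext _ _ fun b => DFunLike.congr_fun (congrArg Subtype.val h) b
  apply Subtype.ext
  ext b
  rw [← hs, ← hs, this]

end Groth.Agent.S15509
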