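import Groth.Statements.S15512
import Groth.Agent.CAlgReg.GlobalDim
import Mathlib

set_option autoImplicit false
universe u
open CategoryTheory
open CAlg

namespace Groth.Agent.S15512

open CategoryTheory CAlgReg in
theorem proj_of_pdLT_one {R : Type u} [CommRing R] {M : Type u} [AddCommGroup M] [Module R M]
    (h : PdLT R M 1) : Module.Projective R M :=
  (IsProjective.iff_projective (R := R) M).2 (projective_iff_hasProjectiveDimensionLT_one.2 h)

open CAlgReg in
theorem pdLT_of_local {R : Type u} [CommRing R] [IsNoetherianRing R] : ∀ (n : ℕ) (M : Type u) [AddCommGroup M]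
    [Module R M] [Module.Finite R M],
    (∀ (m : Ideal R) (_ : m.IsMaximal), PdLT (Localization.AtPrime m) (LocalizedModule m.primeCompl M) (n + 1)) →
      PdLT R M (n + 1) := by
  intro n
  induction n with
  | zero =>
    intro M _ _ _ h
    haveI : Module.FinitePresentation R M := Module.finitePresentation_of_finite R M
    haveI : Module.Projective R M :=
      Module.projective_of_localization_maximal (fun m hm => proj_of_pdLT_one (h m hm))
    exact pdLT_one
  | succ n ih =>
    intro M _ _ _ h
    obtain ⟨k, g, hg⟩ := Module.Finite.exists_fin' R M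
    refine pdLT_right (LinearMap.ker g).subtype g Subtype.val_injective (LinearMap.exact_subtype_ker_map g) hg
      (ih _ fun m hm => ?_)
    exact pdLT_left (LocalizedModule.map m.primeCompl (LinearMap.ker g).subtype) (LocalizedModule.map m.primeCompl g)
      (LocalizedModule.map_injective _ _ Subtype.val_injective)
      (LocalizedModule.map_exact _ _ _ (LinearMap.exact_subtype_ker_map g))
      (LocalizedModule.map_surjective _ _ hg) (h m hm)

open CategoryTheory Abelian CAlgReg in
theorem descend {R : Type u} [CommRing R] [IsNoetherianRing R] : ∀ (d : ℕ) (n : ℕ) (M : Type u) [AddCommGroup M]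
    [Module R M] [Module.Finite R M], PdLT R M (n + 1) →
    (∀ i : ℕ, d < i → Subsingleton (Ext (ModuleCat.of R M) (ModuleCat.of R R) i)) → PdLT R M (d + 1) := by
  intro d n
  induction n generalizing d with
  | zero => intro M _ _ _ h _; exact pdLT_mono (by omega) h
  | succ n ih =>
    intro M _ _ _ h hext
    obtain ⟨k, g, hg⟩ := Module.Finite.exists_fin' R M
    set K := LinearMap.ker g
    have hex := LinearMap.exact_subtype_ker_map g
    have hK : PdLT R K (n + 1) := pdLT_left K.subtype g Subtype.val_injective hex hg h
    let S : ShortComplex (ModuleCat.{u} R) :=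
      ModuleCat.shortComplexOfCompEqZero K.subtype g hex.linearMap_comp_eq_zero
    have hS : S.ShortExact := ModuleCat.shortComplex_shortExact S hex Subtype.val_injective hg
    haveI : Projective S.X₂ := (IsProjective.iff_projective (R := R) (Fin k → R)).1 inferInstance
    have hKext : ∀ i : ℕ, 0 < i → d < i + 1 → Subsingleton (Ext (ModuleCat.of R K) (ModuleCat.of R R) i) := by
      intro i hi0 hi
      refine subsingleton_of_forall_eq 0 fun y => ?_
      obtain ⟨x₂, hx₂⟩ := Ext.contravariant_sequence_exact₁ hS (ModuleCat.of R R) y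
        (add_comm 1 i) (@Subsingleton.elim _ (hext (i + 1) hi) _ _)
      obtain ⟨l, rfl⟩ : ∃ l, i = l + 1 := ⟨i - 1, by omega⟩
      rw [← hx₂, Ext.eq_zero_of_projective x₂, Ext.comp_zero]
    rcases d with _ | d
    · have hK1 : PdLT R K 1 := ih 0 K hK (fun i hi => hKext i hi (by omega))
      haveI : Module.Projective R K := proj_of_pdLT_one hK1
      obtain ⟨j, p, hp⟩ := Module.Finite.exists_fin' R K
      obtain ⟨s, hs⟩ := Module.projective_lifting_property p LinearMap.id hp
      have hextend : ∀ φ : K →ₗ[R] R, ∃ ψ : (Fin k → R) →ₗ[R] R, ψ ∘ₗ K.subtype = φ := by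
        intro φ
        obtain ⟨x₂, hx₂⟩ := Ext.contravariant_sequence_exact₁ hS (ModuleCat.of R R) (Ext.mk₀ (ModuleCat.ofHom φ))
          (add_zero 1) (@Subsingleton.elim _ (hext 1 one_pos) _ _)
        obtain ⟨ψ, rfl⟩ := Ext.homEquiv₀.symm.surjective x₂
        refine ⟨ψ.hom, ?_⟩
        rw [Ext.homEquiv₀_symm_apply, Ext.mk₀_comp_mk₀] at hx₂
        exact congrArg ModuleCat.Hom.hom ((Ext.mk₀_bijective _ _).1 hx₂)
      choose ψ hψ using fun l : Fin j => hextend ((LinearMap.proj l).comp s)
      let r : (Fin k → R) →ₗ[R] K := p.comp (LinearMap.pi ψ)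
      have hr : ∀ x : K, r x = x := fun x => by
        have : LinearMap.pi ψ (x : Fin k → R) = s x := funext fun l => LinearMap.congr_fun (hψ l) x
        show p (LinearMap.pi ψ (x : Fin k → R)) = x
        rw [this]; exact LinearMap.congr_fun hs x
      let e : (Fin k → R) →ₗ[R] (Fin k → R) := LinearMap.id - K.subtype.comp r
      have he : K ≤ LinearMap.ker e := fun x hx => by
        show x - (r x : Fin k → R) = 0
        rw [hr ⟨x, hx⟩]; exact sub_self _
      let σ : M →ₗ[R] (Fin k → R) := (K.liftQ e he).comp (g.quotKerEquivOfSurjective hg).symm.toLinearMap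
      have hσ : g.comp σ = LinearMap.id := LinearMap.ext fun y => by
        obtain ⟨x, rfl⟩ := hg y
        have : (g.quotKerEquivOfSurjective hg).symm (g x) = Submodule.Quotient.mk x :=
          (LinearEquiv.symm_apply_eq _).2 rfl
        simp only [σ, LinearMap.comp_apply, LinearEquiv.coe_coe, this, LinearMap.id_apply]
        show g (x - (r x : Fin k → R)) = g x
        rw [map_sub, LinearMap.mem_ker.1 (r x).2, sub_zero]
      haveI : Module.Projective R M := Module.Projective.of_split σ g hσ
      exact pdLT_one
    · exact pdLT_right K.subtype g Subtype.val_injective hex hg (ih d K hK (fun i hi => hKext i (by omega) (by omega)))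

/-- Let A be a Noetherian ring which is regular (its localization at every maximal ideal is a regular
local ring) and of finite Krull dimension, M a finitely generated A-module and d a natural number.
If Ext^i_A(M, A) vanishes for every i > d, then the projective dimension of M is at most d. -/
theorem result (A : Type u) [CommRing A]
    [IsNoetherianRing A] (hreg : ∀ m : MaximalSpectrum A, IsRegularLocalRing (Localization.AtPrime m.asIdeal))
    (hdim : ringKrullDim A < ⊤) (M : Type u) [AddCommGroup M] [Module A M] [Module.Finite A M] (d : ℕ)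
    (h : ∀ i : ℕ, d < i → Subsingleton (Abelian.Ext (ModuleCat.of A M) (ModuleCat.of A A) i)) :
    HasProjectiveDimensionLT (ModuleCat.of A M) (d + 1) := by
  obtain ⟨D, hD⟩ : ∃ D : ℕ, ringKrullDim A ≤ (D : WithBot ℕ∞) := by
    rcases h0 : ringKrullDim A with _ | x
    · exact ⟨0, bot_le⟩
    · rcases x with _ | D
      · exact absurd hdim (by rw [h0]; exact lt_irrefl _)
      · exact ⟨D, le_rfl⟩
  refine descend d D M (pdLT_of_local D M fun m hm => ?_) h
  haveI := hreg ⟨m, hm⟩
  obtain ⟨e, he⟩ : ∃ e : ℕ, ringKrullDim (Localization.AtPrime m) = e := by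
    have h1' : ringKrullDim (Localization.AtPrime m) ≤ (D : WithBot ℕ∞) := by
      rw [IsLocalization.AtPrime.ringKrullDim_eq_height m]
      exact (Ideal.height_le_ringKrullDim_of_ne_top hm.ne_top).trans hD
    rcases h0 : ringKrullDim (Localization.AtPrime m) with _ | x
    · exact absurd h0 ringKrullDim_ne_bot
    · rcases x with _ | e
      · rw [h0] at h1'; exact absurd (WithBot.coe_le_coe.1 h1') (not_le.2 (ENat.natCast_lt_top D))
      · exact ⟨e, rfl⟩
  refine CAlgReg.pdLT_mono ?_ (CAlgReg.pdLT_of_isRegularLocalRing he _)
  have h1 : ringKrullDim (Localization.AtPrime m) ≤ ringKrullDim A := by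
    rw [IsLocalization.AtPrime.ringKrullDim_eq_height m]
    exact Ideal.height_le_ringKrullDim_of_ne_top hm.ne_top
  have h2 := (he ▸ h1).trans hD
  have : e ≤ D := by exact_mod_cast h2
  omega

end Groth.Agent.S15512
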