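import Groth.Statements.S15524
import Groth.Agent.FunFldLib.RH

set_option autoImplicit false
open Finset
open Zeta

namespace Groth.Agent.S15524

/-- Let q ≥ 1 and let α_1, …, α_{2g} be complex numbers permuted by α ↦ q/α, i.e. α_{σ(i)} α_i = q for a
permutation σ of the indices; these play the role of the inverse roots of the numerator of the zeta
function of a curve over a field with q elements, for which #X(F_{q^N}) = q^N + 1 − Σ_i α_i^N. If
for some d ≥ 1 and real C one has |Σ_i α_i^{dN}| ≤ C q^{dN/2} for every N ≥ 1, then |α_i|^2 = q for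
every i (the Riemann hypothesis for the curve). -/
theorem result {g : ℕ} (q : ℕ) (hq : 0 < q)
    (α : Fin (2 * g) → ℂ) (σ : Equiv.Perm (Fin (2 * g))) (hσ : ∀ i, α (σ i) * α i = q)
    (d : ℕ) (hd : 0 < d) (C : ℝ)
    (hC : ∀ N : ℕ, 1 ≤ N → ‖∑ i, α i ^ (d * N)‖ ≤ C * (q : ℝ) ^ ((d : ℝ) * N / 2))
    (i : Fin (2 * g)) : ‖α i‖ ^ 2 = q := by
  set s : ℝ := Real.sqrt q ^ d with hs
  have hq0 : (0 : ℝ) < q := Nat.cast_pos.2 hq
  have hs0 : 0 < s := pow_pos (Real.sqrt_pos.2 hq0) d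
  have hN : ∀ N : ℕ, ((q : ℝ) ^ ((d : ℝ) * N / 2)) = s ^ N := fun N => by
    rw [hs, ← pow_mul, Real.sqrt_eq_rpow, ← Real.rpow_natCast, ← Real.rpow_mul hq0.le]
    push_cast
    ring_nf
  have hb : ∀ j, ‖α j ^ d / (s : ℂ)‖ ≤ 1 := by
    refine FunFldLib.norm_le_one_of_bounded_powerSums (fun j => α j ^ d / (s : ℂ)) C fun N hN1 => ?_
    have e : ∑ j, (α j ^ d / (s : ℂ)) ^ N = (∑ j, α j ^ (d * N)) / (s : ℂ) ^ N := by
      rw [Finset.sum_div]
      exact Finset.sum_congr rfl fun j _ => by rw [div_pow, pow_mul]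
    rw [e, norm_div, norm_pow, Complex.norm_real, Real.norm_of_nonneg hs0.le, div_le_iff₀ (pow_pos hs0 N)]
    exact (hC N hN1).trans_eq (by rw [hN])
  have hle : ∀ j, ‖α j‖ ≤ Real.sqrt q := fun j => by
    have h := hb j
    rw [norm_div, norm_pow, Complex.norm_real, Real.norm_of_nonneg hs0.le, div_le_one hs0, hs] at h
    exact (pow_le_pow_iff_left₀ (norm_nonneg _) (Real.sqrt_nonneg _) hd.ne').1 h
  have h1 := congrArg norm (hσ i)
  rw [norm_mul, Complex.norm_natCast] at h1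
  have hsq : Real.sqrt q * Real.sqrt q = q := Real.mul_self_sqrt hq0.le
  nlinarith [hle i, hle (σ i), norm_nonneg (α i), norm_nonneg (α (σ i)), Real.sqrt_pos.2 hq0]

end Groth.Agent.S15524
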