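import Groth.Statements.S15525
import Mathlib

set_option autoImplicit false
universe u
open Zeta

namespace Groth.Agent.S15525

/-- Let L be a field with a ring embedding ι into ℂ and M an r × r matrix over L all of whose
eigenvalues, the complex roots of its characteristic polynomial mapped along ι, have absolute value
1. Then every coefficient of the characteristic polynomial of the block-diagonal matrix with blocks
M and the inverse transpose of M is mapped by ι into ℝ. This is the pointwise content of the
assertion that for a lisse sheaf F pure of weight 0 the sum of F and its dual is real, the Frobenius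
of the dual acting by the inverse transpose. -/
theorem result (L : Type u) [Field L] (ι : L →+* ℂ)
    {r : ℕ} (M : Matrix (Fin r) (Fin r) L)
    (hM : ∀ z ∈ ((Matrix.charpoly M).map ι).roots, ‖z‖ = 1) (n : ℕ) :
    (ι ((Matrix.fromBlocks M 0 0 (M⁻¹).transpose).charpoly.coeff n)).im = 0 := by
  classical
  set Mc := M.map ι with hMc
  have hmap : ((Matrix.fromBlocks M 0 0 (M⁻¹).transpose).charpoly).map ι =
      Mc.charpoly * (Mc⁻¹).charpoly := by
    rw [Matrix.charpoly_fromBlocks_zero₁₂, Matrix.charpoly_transpose,
      Polynomial.map_mul, ← Matrix.charpoly_map, ← Matrix.charpoly_map, hMc, Matrix.nonsing_inv_eq_ringInverse,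
      Matrix.nonsing_inv_eq_ringInverse]
    congr 2
    by_cases hu : IsUnit M
    · obtain ⟨u, rfl⟩ := hu
      rw [Ring.inverse_unit]
      exact (Ring.inverse_unit (Units.map (RingHom.mapMatrix ι).toMonoidHom u)).symm
    · have hu' : ¬ IsUnit (M.map ι) := by
        rw [Matrix.isUnit_iff_isUnit_det] at hu ⊢
        rw [← RingHom.mapMatrix_apply, ← RingHom.map_det]
        simpa [isUnit_iff_ne_zero] using hu
      rw [Ring.inverse_non_unit _ hu, Ring.inverse_non_unit _ hu']; simp
  rw [← Polynomial.coeff_map, hmap]
  have hM' : ∀ z ∈ Mc.charpoly.roots, ‖z‖ = 1 := by rw [hMc, Matrix.charpoly_map]; exact hM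
  clear hmap hM
  generalize Mc = A at hM' ⊢
  set s := A.charpoly.roots with hs
  have hsplit : A.charpoly = (s.map fun z => Polynomial.X - Polynomial.C z).prod :=
    (IsAlgClosed.splits _).eq_prod_roots_of_monic A.charpoly_monic
  have hdet : A.det ≠ 0 := by
    rw [Matrix.det_eq_prod_roots_charpoly, ← hs]
    exact Multiset.prod_ne_zero fun h => by have := hM' 0 h; simp at this
  have hA : IsUnit A := (Matrix.isUnit_iff_isUnit_det A).2 hdet.isUnit
  have hcard : Multiset.card s = r := by
    rw [hs, ← (IsAlgClosed.splits A.charpoly).natDegree_eq_card_roots, Matrix.charpoly_natDegree_eq_dim,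
      Fintype.card_fin]
  have hrev : A.charpolyRev = (s.map fun z => 1 - Polynomial.C z * Polynomial.X).prod := by
    rw [← Matrix.reverse_charpoly, hsplit]
    clear hsplit hs hdet hcard hM'
    induction s using Multiset.induction_on with
    | empty => simp [Polynomial.reverse]
    | cons a t ih =>
      simp only [Multiset.map_cons, Multiset.prod_cons, Polynomial.reverse_mul_of_domain, ih]
      congr 1
      ext k
      rcases k with _ | _ | k <;>
        simp [Polynomial.coeff_reverse, Polynomial.natDegree_X_sub_C, Polynomial.revAt, Polynomial.coeff_one, Polynomial.coeff_X]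
  have hconj : ∀ z ∈ s, Polynomial.C (-z) * (Polynomial.X - Polynomial.C ((starRingEnd ℂ) z)) =
      1 - Polynomial.C z * Polynomial.X := by
    intro z hz
    have : z * (starRingEnd ℂ) z = 1 := by rw [Complex.mul_conj, Complex.normSq_eq_norm_sq, hM' z hz]; simp
    rw [mul_sub, ← Polynomial.C_mul, neg_mul, this]
    simp; ring
  have hinv : A⁻¹.charpoly = (s.map fun z => Polynomial.X - Polynomial.C ((starRingEnd ℂ) z)).prod := by
    rw [Matrix.charpoly_inv A hA, hrev, ← Multiset.map_congr rfl hconj, Multiset.prod_map_mul,
      Matrix.det_eq_prod_roots_charpoly, ← hs, ← mul_assoc]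
    convert one_mul _
    rw [show (s.map fun z => Polynomial.C (-z)) = (s.map Neg.neg).map Polynomial.C by rw [Multiset.map_map]; rfl,
      ← map_multiset_prod, Multiset.prod_map_neg, map_mul, Fintype.card_fin, hcard, map_pow, map_neg, map_one,
      Ring.inverse_eq_inv']
    have hp : s.prod ≠ 0 := Multiset.prod_ne_zero fun h => by have := hM' 0 h; simp at this
    calc (-1 : Polynomial ℂ) ^ r * Polynomial.C s.prod⁻¹ * ((-1) ^ r * Polynomial.C s.prod)
        = ((-1 : Polynomial ℂ) ^ r * (-1) ^ r) * (Polynomial.C s.prod⁻¹ * Polynomial.C s.prod) := by ring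
      _ = 1 := by rw [← mul_pow, ← Polynomial.C_mul, inv_mul_cancel₀ hp]; simp
  rw [hsplit, hinv, ← Complex.conj_eq_iff_im, ← Polynomial.coeff_map]
  congr 1
  simp only [Polynomial.map_mul, Polynomial.map_multiset_prod, Multiset.map_map, Function.comp_def,
    Polynomial.map_sub, Polynomial.map_X, Polynomial.map_C, Complex.conj_conj]
  exact mul_comm _ _

end Groth.Agent.S15525
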