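import Groth.Statements.S15526
import Mathlib

set_option autoImplicit false
universe u
open MvPolynomial
open CAlg

namespace Groth.Agent.S15526

/-- Let R be a commutative ring, P ∈ R[x] a monic polynomial of degree 2g + 1, and A = R[x, y, z]/(y^2 −
P(x), yz − 1). Then every element of A is a finite sum Σ_n Q_n(x) y^n over integers n, negative
powers of y meaning powers of z, with each Q_n ∈ R[x] of degree at most 2g: the R-submodule of A
spanned by the classes of x^i y^n and x^i z^n with i ≤ 2g and n ≥ 0 is all of A. (The published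
statement takes for R the ring of Witt vectors of a finite field and for P a lift of a separable
polynomial; the argument uses only that P is monic of degree 2g + 1.) -/
theorem result (R : Type u) [CommRing R] (g : ℕ)
    (P : Polynomial R) (hP : P.Monic) (hdeg : P.natDegree = 2 * g + 1) :
    Submodule.span R {a : MvPolynomial (Fin 3) R ⧸
        Ideal.span ({X 1 ^ 2 - Polynomial.aeval (X 0 : MvPolynomial (Fin 3) R) P, X 1 * X 2 - 1} :
          Set (MvPolynomial (Fin 3) R)) |
        ∃ i n : ℕ, i ≤ 2 * g ∧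
          (a = Ideal.Quotient.mk _ (X 0 ^ i * X 1 ^ n) ∨ a = Ideal.Quotient.mk _ (X 0 ^ i * X 2 ^ n))} =
      ⊤ := by
  classical
  let I := Ideal.span ({X 1 ^ 2 - Polynomial.aeval (X 0 : MvPolynomial (Fin 3) R) P, X 1 * X 2 - 1} :
          Set (MvPolynomial (Fin 3) R))
  let x := Ideal.Quotient.mk I (X 0)
  let y := Ideal.Quotient.mk I (X 1)
  let z := Ideal.Quotient.mk I (X 2)
  have hyz : y * z = 1 := by
    rw [← map_mul, ← (Ideal.Quotient.mk I).map_one, Ideal.Quotient.eq]
    exact Ideal.subset_span (by simp)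
  have hy2 : y ^ 2 = Ideal.Quotient.mk I (Polynomial.aeval (X 0 : MvPolynomial (Fin 3) R) P) := by
    rw [← map_pow, Ideal.Quotient.eq]
    exact Ideal.subset_span (by simp)
  set S := Submodule.span R {a : MvPolynomial (Fin 3) R ⧸ I |
        ∃ i n : ℕ, i ≤ 2 * g ∧
          (a = Ideal.Quotient.mk _ (X 0 ^ i * X 1 ^ n) ∨ a = Ideal.Quotient.mk _ (X 0 ^ i * X 2 ^ n))} with hS
  have gy : ∀ i n, i ≤ 2 * g → x ^ i * y ^ n ∈ S := fun i n hi =>
    Submodule.subset_span ⟨i, n, hi, Or.inl (by simp [x, y])⟩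
  have gz : ∀ i n, i ≤ 2 * g → x ^ i * z ^ n ∈ S := fun i n hi =>
    Submodule.subset_span ⟨i, n, hi, Or.inr (by simp [x, z])⟩
  have closed : ∀ u, (∀ i n, i ≤ 2 * g → u * (x ^ i * y ^ n) ∈ S ∧ u * (x ^ i * z ^ n) ∈ S) → ∀ w ∈ S, u * w ∈ S := by
    intro u hu w hw
    induction hw using Submodule.span_induction with
    | mem a ha =>
      obtain ⟨i, n, hi, rfl | rfl⟩ := ha
      · simpa [x, y] using (hu i n hi).1
      · simpa [x, z] using (hu i n hi).2
    | zero => rw [mul_zero]; exact zero_mem _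
    | add a b _ _ ha hb => rw [mul_add]; exact add_mem ha hb
    | smul r a _ ha => rw [mul_smul_comm]; exact Submodule.smul_mem _ r ha
  have cy : ∀ w ∈ S, y * w ∈ S := closed y fun i n hi => by
    refine ⟨?_, ?_⟩
    · have := gy i (n + 1) hi; rwa [mul_left_comm, ← pow_succ']
    · cases n with
      | zero => rw [pow_zero, mul_one, mul_comm]; simpa using gy i 1 hi
      | succ n => rw [pow_succ', mul_left_comm, ← mul_assoc y, hyz, one_mul]; exact gz i n hi
  have cz : ∀ w ∈ S, z * w ∈ S := closed z fun i n hi => by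
    refine ⟨?_, ?_⟩
    · cases n with
      | zero => rw [pow_zero, mul_one, mul_comm]; simpa using gz i 1 hi
      | succ n => rw [pow_succ', mul_left_comm, ← mul_assoc z, mul_comm z, hyz, one_mul]; exact gy i n hi
    · have := gz i (n + 1) hi; rwa [mul_left_comm, ← pow_succ']
  have hx : x ^ (2 * g + 1) = y ^ 2 - ∑ j ∈ Finset.range (2 * g + 1), P.coeff j • x ^ j := by
    have h : Ideal.Quotient.mk I (Polynomial.aeval (X 0 : MvPolynomial (Fin 3) R) P) = Polynomial.aeval x P :=
      (Polynomial.aeval_algHom_apply (Ideal.Quotient.mkₐ R I) (X 0) P).symm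
    rw [hy2, h, Polynomial.aeval_eq_sum_range, Finset.sum_range_succ, hdeg]
    have hc : P.coeff (2 * g + 1) = 1 := hdeg ▸ hP
    rw [Finset.sum_range_succ, hc, one_smul, add_sub_cancel_left]
  have cx : ∀ w ∈ S, x * w ∈ S := closed x fun i n hi => by
    rw [← mul_assoc, ← mul_assoc, ← pow_succ']
    rcases Nat.lt_or_ge i (2 * g) with h | h
    · exact ⟨gy _ n h, gz _ n h⟩
    obtain rfl : i = 2 * g := le_antisymm hi h
    rw [hx, sub_mul, sub_mul, Finset.sum_mul, Finset.sum_mul]
    refine ⟨sub_mem ?_ (sum_mem fun j hj => ?_), sub_mem ?_ (sum_mem fun j hj => ?_)⟩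
    · rw [pow_two, mul_assoc]
      exact cy _ (cy _ (by simpa using gy 0 n (Nat.zero_le _)))
    · rw [smul_mul_assoc]; exact Submodule.smul_mem _ _ (gy j n (Nat.lt_succ_iff.1 (Finset.mem_range.1 hj)))
    · rw [pow_two, mul_assoc]
      exact cy _ (cy _ (by simpa using gz 0 n (Nat.zero_le _)))
    · rw [smul_mul_assoc]; exact Submodule.smul_mem _ _ (gz j n (Nat.lt_succ_iff.1 (Finset.mem_range.1 hj)))
  rw [eq_top_iff]
  intro a ha
  clear ha
  obtain ⟨f, rfl⟩ := Ideal.Quotient.mk_surjective a
  change Ideal.Quotient.mk I f ∈ S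
  induction f using MvPolynomial.induction_on with
  | C c =>
    have h : Ideal.Quotient.mk I (C c) = c • (x ^ 0 * y ^ 0) := by
      rw [pow_zero, pow_zero, mul_one]; exact (Algebra.algebraMap_eq_smul_one (A := MvPolynomial (Fin 3) R ⧸ I) c)
    rw [h]; exact Submodule.smul_mem _ _ (gy 0 0 (Nat.zero_le _))
  | add p q hp hq => rw [map_add]; exact add_mem hp hq
  | mul_X p i hp =>
    rw [map_mul, mul_comm]
    fin_cases i
    · exact cx _ hp
    · exact cy _ hp
    · exact cz _ hp

end Groth.Agent.S15526
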