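import Groth.Statements.S15541
import Groth.Agent.RelFrobSmooth.Main
import Groth.Agent.SyntLCI.SmoothOver
import Groth.Agent.QuotSch.Basic

set_option autoImplicit false
universe u
open FrobSch

namespace Groth.Agent.S15541

open CategoryTheory AlgebraicGeometry TensorProduct in
private theorem isSyntomic_of_pushout (p : ℕ) [Fact p.Prime] {A B : Type u} {R : CommRingCat.{u}} [CommRing A]
    [CommRing B] [Algebra A B] [CharP A p] [CharP B p] [Algebra.Smooth A B]
    (α : CommRingCat.of B ⟶ R) (β : CommRingCat.of A ⟶ R) (φ : R →+* B)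
    (h : IsPushout (CommRingCat.ofHom (algebraMap A B)) (CommRingCat.ofHom (frobenius A p)) α β)
    (hα : ∀ b, φ (α b) = b ^ p) (hβ : ∀ a, φ (β a) = algebraMap A B a) :
    letI := φ.toAlgebra
    Synt.IsSyntomic R B := by
  let A' := FrobAlg.Twist p A
  let τ : A ≃+* A' := FrobAlg.toTwist p A
  let β' : A' →+* R := β.hom.comp τ.symm.toRingHom
  have h' : IsPushout (CommRingCat.ofHom (algebraMap A B)) (CommRingCat.ofHom (algebraMap A A')) α
      (CommRingCat.ofHom β') := by
    refine h.of_iso (Iso.refl _) (Iso.refl _) τ.toCommRingCatIso (Iso.refl _) (by simp) ?_ (by simp) ?_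
    · ext a; rfl
    · ext a
      show β a = β.hom (τ.symm (τ a))
      rw [RingEquiv.symm_apply_apply]
  letI : Algebra B R := α.hom.toAlgebra
  letI iA' : Algebra A' R := β'.toAlgebra
  letI : Algebra A R := (α.hom.comp (algebraMap A B)).toAlgebra
  haveI : IsScalarTower A B R := IsScalarTower.of_algebraMap_eq fun _ => rfl
  haveI : IsScalarTower A A' R := IsScalarTower.of_algebraMap_eq fun a => ConcreteCategory.congr_hom h'.w a
  haveI : Algebra.IsPushout A B A' R := CommRingCat.isPushout_iff_isPushout.mp h'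
  let e : B ⊗[A] A' ≃+* R := (Algebra.IsPushout.equiv A B A' R).toRingEquiv
  have he : ∀ b a, e (b ⊗ₜ a) = α b * β (τ.symm a) := fun b a => Algebra.IsPushout.equiv_tmul ..
  have hfac : φ = (FrobAlg.relFrob p A B).comp e.symm.toRingHom := by
    refine RingHom.ext fun r => ?_
    obtain ⟨z, rfl⟩ := e.surjective r
    show φ (e z) = FrobAlg.relFrob p A B (e.symm (e z))
    rw [RingEquiv.symm_apply_apply]
    induction z using TensorProduct.induction_on with
    | zero => simp
    | tmul b a =>
      rw [he, map_mul, hα, hβ, Groth.Agent.RelFrobSmooth.relFrob_tmul]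
    | add x y hx hy => rw [map_add, map_add, map_add, hx, hy]
  have hflat : φ.Flat := hfac ▸
    (RingHom.Flat.of_bijective e.symm.bijective).comp (Groth.Agent.RelFrobSmooth.flat_of_smooth p A B)
  letI : Algebra R B := φ.toAlgebra
  letI : Algebra A' B := ((algebraMap A B).comp τ.symm.toRingHom).toAlgebra
  haveI : IsScalarTower A' R B := IsScalarTower.of_algebraMap_eq fun a => (hβ (τ.symm a)).symm
  haveI : Algebra.Smooth A' B := RingHom.smooth_algebraMap.mp
    (RingHom.Smooth.comp (RingHom.Smooth.of_bijective τ.symm.bijective) (RingHom.smooth_algebraMap.mpr inferInstance))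
  haveI : Algebra.Smooth A' R :=
    Algebra.Smooth.of_equiv (AlgEquiv.ofRingEquiv (R := A')
      (f := (Algebra.TensorProduct.comm A A' B).toRingEquiv.trans e) fun a => by
        show e (Algebra.TensorProduct.comm A A' B (a ⊗ₜ (1 : B))) = β' a
        rw [Algebra.TensorProduct.comm_tmul, he, map_one, one_mul]; rfl)
  haveI : Module.Flat R B := hflat
  exact Groth.Agent.SyntLCI.isSyntomic_of_smooth_over A' R B



open CategoryTheory AlgebraicGeometry in
/-- For a prime p, a scheme S of characteristic p and a morphism f : X → S which is smooth of relative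
dimension d, the relative Frobenius F_{X/S} : X → X^{(p)} is syntomic (the published assertion is
'finite syntomic'; finiteness of the relative Frobenius of a morphism locally of finite type is a
separate known result and is not restated; the assertion about the trace maps Θ on de Rham complexes
is not stated here). -/
theorem result (p : ℕ) [Fact p.Prime] (S X : Scheme.{u})
    [FrobSch.IsCharP S p] (f : X ⟶ S) (d : ℕ) [SmoothOfRelativeDimension d f] :
    Synt.IsSyntomicMor (FrobSch.relFrob f p) := by
  haveI : Smooth f := SmoothOfRelativeDimension.smooth d f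
  intro x
  haveI : FrobSch.IsCharP X p := FrobSch.IsCharP.of_hom f p
  obtain ⟨V, hV, hxV, -⟩ := exists_isAffineOpen_mem_and_subset (U := (⊤ : S.Opens)) (x := f x) trivial
  obtain ⟨U, hU, hxU, hUV⟩ := exists_isAffineOpen_mem_and_subset (U := f ⁻¹ᵁ V) (x := x) hxV
  let F := FrobSch.relFrob f p
  let fst := Limits.pullback.fst f (FrobSch.frob S p)
  let snd := Limits.pullback.snd f (FrobSch.frob S p)
  have H : IsPullback fst snd f (FrobSch.frob S p) := IsPullback.of_hasPullback _ _
  let W : (FrobSch.frobTwist f p).Opens := fst ⁻¹ᵁ U ⊓ snd ⁻¹ᵁ V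
  have hVV : V ≤ FrobSch.frob S p ⁻¹ᵁ V := le_rfl
  have hW : IsAffineOpen W := by
    haveI : IsAffine U := hU
    haveI : IsAffine V := hV
    exact .of_isIso (Scheme.Hom.isPullback_resLE H hVV (UX := U) hUV (UY := W) rfl).isoPullback.hom
  have hUW : U ≤ F ⁻¹ᵁ W := fun y hy => by
    refine ⟨?_, ?_⟩
    · show fst (F y) ∈ U
      rw [← Scheme.Hom.comp_apply, FrobSch.relFrob_fst]; exact hy
    · show snd (F y) ∈ V
      rw [← Scheme.Hom.comp_apply, FrobSch.relFrob_snd]; exact hUV hy
  refine ⟨⟨U, hU⟩, ⟨W, hW⟩, hUW, hxU, ?_⟩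
  haveI : Nontrivial Γ(X, U) := (X.presheaf.germ U x hxU).hom.domain_nontrivial
  haveI : Nontrivial Γ(S, V) := (S.presheaf.germ V (f x) hxV).hom.domain_nontrivial
  haveI : CharP Γ(X, U) p := (CharP.charP_iff_prime_eq_zero Fact.out).mpr (FrobSch.natCast_eq_zero_app X p U)
  haveI : CharP Γ(S, V) p := (CharP.charP_iff_prime_eq_zero Fact.out).mpr (FrobSch.natCast_eq_zero_app S p V)
  letI : Algebra Γ(S, V) Γ(X, U) := (f.appLE V U hUV).hom.toAlgebra
  haveI : Algebra.Smooth Γ(S, V) Γ(X, U) := f.smooth_appLE hV hU hUV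
  have hpo : IsPushout (f.appLE V U hUV) ((FrobSch.frob S p).appLE V V hVV)
      (fst.appLE U W inf_le_left) (snd.appLE V W inf_le_right) :=
    (isIso_pushoutSection_iff H hVV hUV rfl).mp (isIso_pushoutSection_of_isAffineOpen H hVV hUV rfl hV hV hU)
  have hfr : (FrobSch.frob S p).appLE V V hVV = CommRingCat.ofHom (frobenius Γ(S, V) p) := by
    refine CommRingCat.hom_ext (RingHom.ext fun a => ?_)
    show S.presheaf.map _ ((FrobSch.frob S p).app V a) = a ^ p
    rw [FrobSch.frob_app]
    exact DFunLike.congr_fun (congrArg CommRingCat.Hom.hom (S.presheaf.map_id _)) _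
  rw [hfr] at hpo
  refine isSyntomic_of_pushout p _ _ (F.appLE W U hUW).hom hpo (fun b => ?_) (fun a => ?_)
  · rw [← CommRingCat.comp_apply, Scheme.Hom.appLE_comp_appLE,
      Groth.Agent.QuotSch.appLE_congr_hom (FrobSch.relFrob_fst f p)]
    show X.presheaf.map _ ((FrobSch.frob X p).app U b) = b ^ p
    rw [FrobSch.frob_app]
    exact DFunLike.congr_fun (congrArg CommRingCat.Hom.hom (X.presheaf.map_id _)) _
  · rw [← CommRingCat.comp_apply, Scheme.Hom.appLE_comp_appLE,
      Groth.Agent.QuotSch.appLE_congr_hom (FrobSch.relFrob_snd f p)]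
    rfl

end Groth.Agent.S15541
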