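import Groth.Statements.S15546
import Groth.Agent.Unram.Discriminant


set_option autoImplicit false
open scoped TensorProduct
universe u
open Unram

namespace Groth.Agent.S15546

/-- Let E be a finite extension of a field k which is not separable over k, and K an algebraic closure
of k. Then E ⊗_k K has a nonzero nilpotent element. -/
theorem result (k E K : Type u) [Field k] [Field E]
    [Algebra k E] [FiniteDimensional k E] [Field K] [Algebra k K] [IsAlgClosure k K]
    (h : ¬ Algebra.IsSeparable k E) : ∃ x : E ⊗[k] K, x ≠ 0 ∧ IsNilpotent x := by
  by_contra hno
  push Not at hno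
  have : IsAlgClosed K := IsAlgClosure.isAlgClosed k
  have : IsReduced (K ⊗[k] E) := ⟨fun y hy => by
    have := fun h => hno (Algebra.TensorProduct.comm k K E y) h
      (hy.map (Algebra.TensorProduct.comm k K E))
    by_contra hne
    exact this (by simpa using hne)⟩
  have := Groth.Agent.Unram.formallyEtale_of_isReduced K (K ⊗[k] E)
  have : Algebra.FormallyUnramified k E :=
    Algebra.FormallyUnramified.of_formallyUnramified_tensorProduct_of_faithfullyFlat K
  exact h ((Algebra.FormallyUnramified.iff_isSeparable (K := k) E).mp this)

end Groth.Agent.S15546
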