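import Groth.Statements.S15548
import Mathlib
import Groth.Agent.TorElem.Basic

set_option autoImplicit false
universe u
open CategoryTheory
open CAlg

namespace Groth.Agent.S15548

open scoped TensorProduct

theorem one_tmul_eq_zero_iff {R : Type u} [CommRing R] (J : Ideal R) {K : Type u} [AddCommGroup K] [Module R K] (k : K) :
    (Ideal.Quotient.mk J 1) ⊗ₜ[R] k = 0 ↔ k ∈ J • (⊤ : Submodule R K) := by
  rw [← Submodule.Quotient.mk_eq_zero, ← (TensorProduct.quotTensorEquivQuotSMul K J).map_eq_zero_iff]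
  have h : TensorProduct.quotTensorEquivQuotSMul K J ((Ideal.Quotient.mk J 1) ⊗ₜ[R] k) = Submodule.Quotient.mk k := by
    rw [TensorProduct.quotTensorEquivQuotSMul_mk_tmul, one_smul]
  rw [h]


/-- Let R be a Noetherian commutative ring, I an ideal of R and M a finitely generated R-module. Then
for every natural number n there is m ≥ n such that the map Tor_1^R(M, R/I^m) → Tor_1^R(M, R/I^n)
induced by the projection R/I^m → R/I^n is the zero map. Here Tor_1^R(M, -) is the first left
derived functor of M ⊗_R - (derived in the second variable). -/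
theorem result (R : Type u) [CommRing R] [IsNoetherianRing R] (I : Ideal R)
    (M : Type u) [AddCommGroup M] [Module R M] [Module.Finite R M] (n : ℕ) :
    ∃ m : ℕ, n ≤ m ∧ ∀ h : I ^ m ≤ I ^ n,
      ((CategoryTheory.Tor (ModuleCat.{u} R) 1).obj (ModuleCat.of R M)).map
        (ModuleCat.ofHom (Submodule.factor h)) = 0 := by
  obtain ⟨d, π, hπ⟩ := Module.Finite.exists_fin' R M
  obtain ⟨θ, hθinj, hθrange, hθnat⟩ := Groth.Agent.TorElem.exists_natural_ker (LinearMap.ker π).subtype π
    Subtype.val_injective (LinearMap.exact_subtype_ker_map π) hπ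
  obtain ⟨c, hc⟩ := Ideal.exists_pow_inf_eq_pow_smul I (LinearMap.ker π)
  refine ⟨n + c, Nat.le_add_right n c, fun h => ?_⟩
  refine ModuleCat.hom_ext (LinearMap.ext fun a => hθinj _ ?_)
  rw [hθnat]
  simp only [ModuleCat.hom_zero, LinearMap.zero_apply, map_zero]
  have hz : θ (ModuleCat.of R (R ⧸ I ^ (n + c))) a ∈ LinearMap.ker ((LinearMap.ker π).subtype.lTensor (R ⧸ I ^ (n + c))) := by
    have := hθrange (ModuleCat.of R (R ⧸ I ^ (n + c)))
    exact this ▸ LinearMap.mem_range_self _ a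
  obtain ⟨k, hk⟩ := TensorProduct.mk_surjective R (LinearMap.ker π) (R ⧸ I ^ (n + c)) Ideal.Quotient.mk_surjective
    (θ (ModuleCat.of R (R ⧸ I ^ (n + c))) a)
  have hk' : (Ideal.Quotient.mk (I ^ (n + c)) 1) ⊗ₜ[R] k = θ (ModuleCat.of R (R ⧸ I ^ (n + c))) a := hk
  rw [← hk'] at hz ⊢
  rw [LinearMap.mem_ker, LinearMap.lTensor_tmul, one_tmul_eq_zero_iff, Submodule.coe_subtype] at hz
  have hmem : (k : Fin d → R) ∈ I ^ n • LinearMap.ker π := by
    have h1 : (k : Fin d → R) ∈ I ^ (n + c) • ⊤ ⊓ LinearMap.ker π := ⟨hz, k.2⟩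
    rw [hc (n + c) (Nat.le_add_left c n), Nat.add_sub_cancel] at h1
    exact Submodule.smul_mono le_rfl inf_le_right h1
  have hk0 : k ∈ I ^ n • (⊤ : Submodule R (LinearMap.ker π)) :=
    (Submodule.mem_smul_top_iff (I ^ n) (LinearMap.ker π) k).2 hmem
  show ((Submodule.factor h).rTensor _) ((Ideal.Quotient.mk (I ^ (n + c)) 1) ⊗ₜ[R] k) = 0
  rw [LinearMap.rTensor_tmul]
  exact (one_tmul_eq_zero_iff (I ^ n) k).2 hk0

end Groth.Agent.S15548
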