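import Groth.Statements.S15549
import Mathlib.RingTheory.GradedAlgebra.Radical
-- import your own Groth.Agent.* helpers here

set_option autoImplicit false
universe u
open CategoryTheory AlgebraicGeometry
open LocCoh

namespace Groth.Agent.S15549

/-- Let R be a Noetherian commutative ring, positively graded by additive subgroups R_d, with irrelevant
ideal R_+ and X = Proj R, and let M be a graded R-module which is the direct sum of its pieces M_i,
i ≥ 0 (non-negatively graded here). For every i and every m ∈ M_i, the global section of M(i)~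
defined by m (the value m/1 at every point) is zero if and only if some power of R_+ annihilates m.
Equivalently, degree by degree, the kernel of the canonical map from M to the direct sum over all n
of Γ(X, M(n)~) is the R_+-power-torsion submodule H^0_{R_+}(M). -/
theorem result {R σ : Type u} [CommRing R] [IsNoetherianRing R] [SetLike σ R] [AddSubgroupClass σ R]
    (𝒜 : ℕ → σ) [GradedRing 𝒜] {M τ : Type u} [AddCommGroup M] [Module R M] [SetLike τ M] [AddSubgroupClass τ M]
    (ℳ : ℕ → τ) [SetLike.GradedSMul 𝒜 ℳ] [DirectSum.Decomposition ℳ]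
    (i : ℕ) (m : ℳ i) :
    GrMod.alpha 𝒜 ℳ i m = 0 ↔
      ∃ k : ℕ, ∀ r : R, r ∈ (HomogeneousIdeal.irrelevant 𝒜).toIdeal ^ k → r • (m : M) = 0 := by
  classical
  have hcomp : ∀ (s : R), s • (m : M) = 0 → ∀ j, ((DirectSum.decompose 𝒜 s j : 𝒜 j) : R) • (m : M) = 0 := by
    intro s hs j
    let c : ℕ → R := fun j => ((DirectSum.decompose 𝒜 s j : 𝒜 j) : R)
    let D := (DirectSum.decompose 𝒜 s).support
    have hmem : ∀ t, c t • (m : M) ∈ ℳ (t + i) := fun t =>
      SetLike.GradedSMul.smul_mem (DirectSum.decompose 𝒜 s t).2 m.2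
    have hsum : ∑ t ∈ D, c t • (m : M) = 0 := by
      rw [← Finset.sum_smul, DirectSum.sum_support_decompose, hs]
    have h := congrArg (fun z => ((DirectSum.decompose ℳ z (j + i) : ℳ (j + i)) : M)) hsum
    simp only [DirectSum.decompose_sum, DirectSum.decompose_zero, DirectSum.zero_apply,
      ZeroMemClass.coe_zero, DirectSum.sum_apply, AddSubmonoidClass.coe_finsetSum] at h
    by_cases hj : j ∈ D
    · rw [Finset.sum_eq_single_of_mem j hj (fun t _ ht =>
        DirectSum.decompose_of_mem_ne ℳ (hmem t) (by omega)),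
        DirectSum.decompose_of_mem_same ℳ (hmem j)] at h
      exact h
    · have h0 : DirectSum.decompose 𝒜 s j = 0 := DFinsupp.notMem_support_iff.mp hj
      rw [h0, ZeroMemClass.coe_zero, zero_smul]
  constructor
  · intro h
    let J : Ideal R := LinearMap.ker (LinearMap.toSpanSingleton R M (m : M))
    have hJ : ∀ r, r ∈ J ↔ r • (m : M) = 0 := fun r => LinearMap.mem_ker
    have hrad : (HomogeneousIdeal.irrelevant 𝒜).toIdeal ≤ J.radical := by
      rw [Ideal.radical_eq_sInf]
      refine le_sInf fun P ⟨hJP, hP⟩ => ?_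
      by_contra hirr
      have hq : (P.homogeneousCore 𝒜).toIdeal.IsPrime := hP.homogeneousCore
      let x : ProjectiveSpectrum 𝒜 := ⟨P.homogeneousCore 𝒜, hq, fun hle =>
        hirr (le_trans (toIdeal_le_toIdeal_iff.mpr hle) (Ideal.toIdeal_homogeneousCore_le 𝒜 P))⟩
      have hx : LocalizedModule.mk (m : M) (1 : x.asHomogeneousIdeal.toIdeal.primeCompl) = 0 :=
        congrArg (fun f : GrMod.sect 𝒜 ℳ (i : ℤ) (Opposite.op ⊤) =>
          ((f.1 ⟨x, trivial⟩ : GrMod.tildeAt 𝒜 ℳ i x) : GrMod.LocMod 𝒜 (M := M) x)) h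
      rw [← LocalizedModule.zero_mk (1 : x.asHomogeneousIdeal.toIdeal.primeCompl), LocalizedModule.mk_eq] at hx
      obtain ⟨⟨s, hs⟩, hsm⟩ := hx
      simp only [Submonoid.smul_def, smul_zero, OneMemClass.coe_one, one_smul] at hsm
      refine hs ?_
      show s ∈ (P.homogeneousCore 𝒜).toIdeal
      rw [← DirectSum.sum_support_decompose 𝒜 s]
      refine sum_mem fun j _ => ?_
      exact Ideal.mem_homogeneousCore_of_homogeneous_of_mem ⟨j, (DirectSum.decompose 𝒜 s j).2⟩
        (hJP ((hJ _).mpr (hcomp s hsm j)))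
    obtain ⟨k, hk⟩ := Ideal.exists_pow_le_of_le_radical_of_fg hrad (Ideal.fg_of_isNoetherianRing _)
    exact ⟨k, fun r hr => (hJ r).mp (hk hr)⟩
  · rintro ⟨k, hk⟩
    refine Subtype.ext (funext fun x => Subtype.ext ?_)
    show LocalizedModule.mk (m : M) (1 : x.1.asHomogeneousIdeal.toIdeal.primeCompl) = 0
    obtain ⟨r, hr, hrx⟩ := SetLike.not_le_iff_exists.mp (show ¬ (HomogeneousIdeal.irrelevant 𝒜).toIdeal ≤ x.1.asHomogeneousIdeal.toIdeal from
      fun hle => x.1.not_irrelevant_le (toIdeal_le_toIdeal_iff.mp hle))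
    rw [← LocalizedModule.zero_mk (1 : x.1.asHomogeneousIdeal.toIdeal.primeCompl), LocalizedModule.mk_eq]
    refine ⟨⟨r ^ k, fun hmem => hrx (x.1.isPrime.mem_of_pow_mem k hmem)⟩, ?_⟩
    simp only [Submonoid.smul_def, smul_zero, OneMemClass.coe_one, one_smul]
    exact hk _ (Ideal.pow_mem_pow hr k)

end Groth.Agent.S15549
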