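import Groth.Statements.S15555
import Mathlib

set_option autoImplicit false
universe u
open CategoryTheory AlgebraicGeometry
open Zeta

namespace Groth.Agent.S15555

set_option maxHeartbeats 2000000 in
set_option backward.isDefEq.respectTransparency.types false in
open Polynomial in
lemma not_smooth_aux (k : Type u) [Field k] [Fintype k] (n : ℕ) (hn : 1 ≤ n)
    (c : Fin (n + 1) ⊕ Fin (n + 1) → k) (hc : c ≠ 0)
    (F L : MvPolynomial (Fin (n + 1) ⊕ Fin (n + 1)) k)
    (hF : F = ∑ i : Fin (n + 1), (MvPolynomial.X (Sum.inl i) * MvPolynomial.X (Sum.inr i) ^ Fintype.card k -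
      MvPolynomial.X (Sum.inr i) * MvPolynomial.X (Sum.inl i) ^ Fintype.card k))
    (hL : L = ∑ v, MvPolynomial.C (c v) * MvPolynomial.X v) :
    ∃ w, ¬ Algebra.FormallySmooth k
      (Localization.Away (Ideal.Quotient.mk (Ideal.span {F, L}) (MvPolynomial.X w))) := by
  classical
  let ι := Fin (n + 1) ⊕ Fin (n + 1)
  let q := Fintype.card k
  let P : ι → k := Sum.elim (fun i => - c (Sum.inr i)) (fun i => c (Sum.inl i))
  obtain ⟨w0, hw0⟩ : ∃ w, P w ≠ 0 := by
    obtain ⟨j, hj⟩ := Function.ne_iff.mp hc
    rcases j with i | i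
    · exact ⟨Sum.inr i, by simpa [P] using hj⟩
    · exact ⟨Sum.inl i, by simpa [P] using hj⟩
  refine ⟨w0, fun hsm => ?_⟩
  -- two vectors of the hyperplane which are not orthogonal
  obtain ⟨v, w, hv, hw, hvw⟩ : ∃ v w : ι → k, ∑ j, c j * v j = 0 ∧ ∑ j, c j * w j = 0 ∧
      ∑ i, (v (Sum.inl i) * w (Sum.inr i) - v (Sum.inr i) * w (Sum.inl i)) ≠ 0 := by
    obtain ⟨j, hj⟩ := Function.ne_iff.mp hc
    let i0 : Fin (n + 1) := Sum.elim id id j
    haveI : Nontrivial (Fin (n + 1)) := Fin.nontrivial_iff_two_le.mpr (by omega)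
    obtain ⟨i, hi⟩ := exists_ne i0
    have hjl : j ≠ Sum.inl i := fun h => hi (by simp [i0, h])
    have hjr : j ≠ Sum.inr i := fun h => hi (by simp [i0, h])
    refine ⟨Pi.single (Sum.inl i) (c j) - Pi.single j (c (Sum.inl i)),
      Pi.single (Sum.inr i) (c j) - Pi.single j (c (Sum.inr i)), ?_, ?_, ?_⟩
    · simp [mul_sub, Finset.sum_sub_distrib, Pi.single_apply, mul_comm]
    · simp [mul_sub, Finset.sum_sub_distrib, Pi.single_apply, mul_comm]
    · rw [Finset.sum_eq_single i]
      · simpa [Pi.single_apply, hjl.symm, hjr.symm] using mul_ne_zero hj hj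
      · intro l _ hl
        rcases j with a | a <;> simp [Pi.single_apply, hl] <;>
          split_ifs <;> simp_all [i0]
      · simp
  let K := AlgebraicClosure k
  obtain ⟨s, hs⟩ : ∃ s : K, s ^ q ≠ s := by
    by_contra h
    push Not at h
    have hne : (Polynomial.X ^ q - Polynomial.X : K[X]) ≠ 0 :=
      FiniteField.X_pow_card_sub_X_ne_zero K (Fintype.one_lt_card)
    exact hne (Polynomial.funext fun x => by simp [h x])
  -- the form on an algebra
  let fr := fun (R : Type u) [CommRing R] [Algebra k R] (x : R) => FiniteField.frobeniusAlgHom k R x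
  have hfr : ∀ (R : Type u) [CommRing R] [Algebra k R] (x : R),
      FiniteField.frobeniusAlgHom k R x = x ^ q := fun R _ _ x => by
    rw [FiniteField.coe_frobeniusAlgHom]
  have hFv : ∀ (R : Type u) [CommRing R] [Algebra k R] (x : ι → R), MvPolynomial.aeval x F =
      ∑ i, (x (Sum.inl i) * x (Sum.inr i) ^ q - x (Sum.inr i) * x (Sum.inl i) ^ q) := by
    intro R _ _ x; simp [hF, q]
  have hLv : ∀ (R : Type u) [CommRing R] [Algebra k R] (x : ι → R),
      MvPolynomial.aeval x L = ∑ j, algebraMap k R (c j) * x j := by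
    intro R _ _ x; simp [hL]
  have key : ∀ (R : Type u) [CommRing R] [Algebra k R] (d : ι → R), MvPolynomial.aeval d L = 0 →
      MvPolynomial.aeval (fun j => algebraMap k R (P j) + d j) F = MvPolynomial.aeval d F := by
    intro R _ _ d hd
    rw [hFv, hFv]
    have h0 : ∑ j, algebraMap k R (c j) * d j ^ q = 0 := by
      have := congrArg (FiniteField.frobeniusAlgHom k R) ((hLv R d).symm.trans hd)
      simp only [map_sum, map_mul, map_zero, AlgHom.commutes] at this
      simpa [hfr] using this
    have hadd : ∀ j, (algebraMap k R (P j) + d j) ^ q = algebraMap k R (P j) + d j ^ q := fun j => by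
      rw [← hfr, map_add, AlgHom.commutes, hfr]
    have h1 := (hLv R d).symm.trans hd
    rw [Fintype.sum_sum_type, ← Finset.sum_add_distrib] at h0 h1
    calc _ = ∑ i, ((d (Sum.inl i) * d (Sum.inr i) ^ q - d (Sum.inr i) * d (Sum.inl i) ^ q) +
          (algebraMap k R (c (Sum.inl i)) * d (Sum.inl i) + algebraMap k R (c (Sum.inr i)) * d (Sum.inr i)) -
          (algebraMap k R (c (Sum.inl i)) * d (Sum.inl i) ^ q +
            algebraMap k R (c (Sum.inr i)) * d (Sum.inr i) ^ q)) :=
          Finset.sum_congr rfl fun i _ => by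
            rw [hadd, hadd]
            simp only [P, Sum.elim_inl, Sum.elim_inr, map_neg]; ring
      _ = _ := by rw [Finset.sum_sub_distrib, Finset.sum_add_distrib, h1, h0, add_zero, sub_zero]
  let u : ι → K := fun j => algebraMap k K (v j) + s * algebraMap k K (w j)
  have hFu : MvPolynomial.aeval u F ≠ 0 := by
    have hpow : ∀ j, u j ^ q = algebraMap k K (v j) + s ^ q * algebraMap k K (w j) := fun j => by
      rw [← hfr, map_add, map_mul, AlgHom.commutes, AlgHom.commutes, hfr]
    rw [hFv]
    simp only [hpow]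
    rw [show ∑ i, (u (Sum.inl i) * (algebraMap k K (v (Sum.inr i)) + s ^ q * algebraMap k K (w (Sum.inr i))) -
        u (Sum.inr i) * (algebraMap k K (v (Sum.inl i)) + s ^ q * algebraMap k K (w (Sum.inl i)))) =
        (s ^ q - s) * algebraMap k K (∑ i, (v (Sum.inl i) * w (Sum.inr i) - v (Sum.inr i) * w (Sum.inl i))) by
      rw [map_sum, Finset.mul_sum]
      exact Finset.sum_congr rfl fun i _ => by simp [u]; ring]
    exact mul_ne_zero (sub_ne_zero.mpr hs) ((_root_.map_ne_zero _).mpr hvw)
  have hLu : MvPolynomial.aeval u L = 0 := by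
    rw [hLv]
    simp only [u, mul_add, Finset.sum_add_distrib]
    have h1 := congrArg (algebraMap k K) hv
    have h2 := congrArg (algebraMap k K) hw
    simp only [map_sum, map_mul, map_zero] at h1 h2
    have e : ∀ j, algebraMap k K (c j) * (s * algebraMap k K (w j)) =
        s * (algebraMap k K (c j) * algebraMap k K (w j)) := fun j => by ring
    simp only [e, ← Finset.mul_sum, h1, h2, mul_zero, add_zero]
  -- the infinitesimal arc
  let B := K[X] ⧸ Ideal.span {(Polynomial.X : K[X]) ^ (q + 2)}
  let t : B := Ideal.Quotient.mk _ Polynomial.X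
  let κ : K →ₐ[k] B := IsScalarTower.toAlgHom k K B
  let I : Ideal B := Ideal.span {t ^ 2}
  have htq : t ^ (q + 2) = 0 := by
    rw [← map_pow]; exact Ideal.Quotient.eq_zero_iff_mem.mpr (Ideal.mem_span_singleton_self _)
  have hI : IsNilpotent I := ⟨q + 2, by
    rw [Ideal.span_singleton_pow, ← pow_mul, mul_comm, pow_mul, htq, zero_pow two_ne_zero]; simp⟩
  let π := Ideal.Quotient.mkₐ k I
  let x : ι → B := fun j => algebraMap k B (P j) + t * κ (u j)
  have hdL : MvPolynomial.aeval (fun j => t * κ (u j)) L = 0 := by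
    have h := congrArg κ hLu
    rw [hLv] at h ⊢
    simp only [map_sum, map_mul, AlgHom.commutes, map_zero] at h
    have e : ∀ j, algebraMap k B (c j) * (t * κ (u j)) = t * (algebraMap k B (c j) * κ (u j)) :=
      fun j => by ring
    simp only [e, ← Finset.mul_sum, h, mul_zero]
  have hscale : ∀ (R : Type u) [CommRing R] [Algebra k R] (a : R) (z : ι → R),
      MvPolynomial.aeval (fun j => a * z j) F = a ^ (q + 1) * MvPolynomial.aeval z F := by
    intro R _ _ a z
    rw [hFv, hFv, Finset.mul_sum]
    exact Finset.sum_congr rfl fun i _ => by ring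
  have hxL : MvPolynomial.aeval x L = 0 := by
    rw [hLv] at hdL ⊢
    simp only [x, mul_add, Finset.sum_add_distrib, hdL, add_zero]
    rw [Fintype.sum_sum_type]
    rw [← Finset.sum_add_distrib]
    refine Finset.sum_eq_zero fun i _ => ?_
    simp only [P, Sum.elim_inl, Sum.elim_inr, map_neg]; ring
  have hxF : π (MvPolynomial.aeval x F) = 0 := by
    rw [show MvPolynomial.aeval x F = MvPolynomial.aeval (fun j => t * κ (u j)) F from key B _ hdL,
      hscale]
    exact Ideal.Quotient.eq_zero_iff_mem.mpr (Ideal.mul_mem_right _ _ (Ideal.mem_span_singleton.mpr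
      (pow_dvd_pow t (by have := Fintype.one_lt_card (α := k); omega))))
  let ev : MvPolynomial ι k ⧸ Ideal.span {F, L} →ₐ[k] B ⧸ I :=
    Ideal.Quotient.liftₐ _ (π.comp (MvPolynomial.aeval x)) fun a ha => by
      induction ha using Submodule.span_induction with
      | mem y hy =>
        rcases hy with rfl | rfl
        · exact hxF
        · simp [hxL]
      | zero => simp
      | add y z _ _ h1 h2 => rw [map_add, h1, h2, add_zero]
      | smul r y _ h => rw [smul_eq_mul, map_mul, h, mul_zero]
  have hunit : IsUnit (ev (Ideal.Quotient.mk _ (MvPolynomial.X w0))) := by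
    have : IsUnit (x w0) := by
      refine IsNilpotent.isUnit_add_left_of_commute ?_ ((isUnit_iff_ne_zero.mpr hw0).map _) (Commute.all _ _)
      exact (Commute.all t (κ (u w0))).isNilpotent_mul_right ⟨q + 2, htq⟩
    simpa [ev] using this.map π
  have hpow : ∀ y : Submonoid.powers (Ideal.Quotient.mk (Ideal.span {F, L}) (MvPolynomial.X w0)),
      IsUnit (ev y) := by
    rintro ⟨_, m, rfl⟩
    show IsUnit (ev (_ ^ m))
    rw [map_pow]; exact hunit.pow m
  let A' := MvPolynomial ι k ⧸ Ideal.span {F, L}
  let S' := Localization.Away (Ideal.Quotient.mk (Ideal.span {F, L}) (MvPolynomial.X w0))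
  let φr : S' →+* B ⧸ I := IsLocalization.lift
    (M := Submonoid.powers (Ideal.Quotient.mk (Ideal.span {F, L}) (MvPolynomial.X w0))) (S := S') (P := B ⧸ I) (g := ev.toRingHom) hpow
  let φ : S' →ₐ[k] B ⧸ I :=
    { φr with
      commutes' := fun r => by
        show φr (algebraMap k S' r) = _
        rw [IsScalarTower.algebraMap_apply k A' S' r]
        exact (IsLocalization.lift_eq _ _).trans (ev.commutes r) }
  let ψ := Algebra.FormallySmooth.lift I hI φ
  let z : ι → B := fun j => ψ (algebraMap _ _ (Ideal.Quotient.mk (Ideal.span {F, L}) (MvPolynomial.X j)))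
  have hz : ∀ G : MvPolynomial ι k, G ∈ Ideal.span {F, L} → MvPolynomial.aeval z G = 0 := by
    intro G hG
    have : MvPolynomial.aeval z = ψ.comp ((IsScalarTower.toAlgHom k _ _).comp (Ideal.Quotient.mkₐ k (Ideal.span {F, L}))) :=
      MvPolynomial.algHom_ext fun j => by simp [z]
    rw [this]
    simp [Ideal.Quotient.eq_zero_iff_mem.mpr hG]
  have hzx : ∀ j, ∃ e : B, z j = x j + t ^ 2 * e := fun j => by
    have h := Algebra.FormallySmooth.mk_lift I hI φ
      (algebraMap _ _ (Ideal.Quotient.mk (Ideal.span {F, L}) (MvPolynomial.X j)))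
    rw [show φ (algebraMap _ _ (Ideal.Quotient.mk (Ideal.span {F, L}) (MvPolynomial.X j))) = π (x j) from
      (IsLocalization.lift_eq _ _).trans (by simp [ev])] at h
    obtain ⟨e, he⟩ := Ideal.mem_span_singleton'.mp (Ideal.Quotient.eq.mp h)
    exact ⟨e, by linear_combination -he⟩
  choose e he using hzx
  have hzd : z = fun j => algebraMap k B (P j) + t * (κ (u j) + t * e j) := by
    funext j; rw [he]; simp only [x]; ring
  have hLz : MvPolynomial.aeval (fun j => t * (κ (u j) + t * e j)) L = 0 := by
    have h := hz L (Ideal.subset_span (by simp))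
    rw [hzd, hLv] at h
    rw [hLv]
    simp only [mul_add, Finset.sum_add_distrib] at h ⊢
    have h0 : ∑ j, algebraMap k B (c j) * algebraMap k B (P j) = 0 := by
      rw [Fintype.sum_sum_type]
      rw [← Finset.sum_add_distrib]
      refine Finset.sum_eq_zero fun i _ => ?_
      simp only [P, Sum.elim_inl, Sum.elim_inr, map_neg]; ring
    rw [h0, zero_add] at h
    exact h
  have hFz : t ^ (q + 1) * MvPolynomial.aeval (fun j => κ (u j) + t * e j) F = 0 := by
    rw [← hscale, ← key B _ hLz, ← hzd]
    exact hz F (Ideal.subset_span (by simp))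
  -- descend to polynomials
  choose e' he' using fun j => Ideal.Quotient.mk_surjective (e j)
  let Y : ι → K[X] := fun j => Polynomial.C (u j) + Polynomial.X * e' j
  have hY : (fun j => κ (u j) + t * e j) = fun j => Ideal.Quotient.mkₐ k _ (Y j) := by
    funext j
    simp only [Y, Ideal.Quotient.mkₐ_eq_mk, map_add, map_mul, he']
    rfl
  have hcomp : MvPolynomial.aeval (fun j => Ideal.Quotient.mkₐ k (Ideal.span {(Polynomial.X : K[X]) ^ (q + 2)}) (Y j)) =
      (Ideal.Quotient.mkₐ k _).comp (MvPolynomial.aeval Y) :=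
    MvPolynomial.algHom_ext fun j => by simp
  rw [hY, hcomp, AlgHom.comp_apply, Ideal.Quotient.mkₐ_eq_mk, ← map_pow, ← map_mul,
    Ideal.Quotient.eq_zero_iff_mem, Ideal.mem_span_singleton, pow_succ Polynomial.X (q + 1),
    mul_dvd_mul_iff_left (pow_ne_zero _ Polynomial.X_ne_zero)] at hFz
  apply hFu
  have h0 := Polynomial.X_dvd_iff.mp hFz
  rw [Polynomial.coeff_zero_eq_eval_zero] at h0
  have hev : AlgHom.comp ((Polynomial.aeval (0 : K)).restrictScalars k) (MvPolynomial.aeval Y) = MvPolynomial.aeval u :=
    MvPolynomial.algHom_ext fun j => by simp [Y]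
  rw [← hev]
  simpa [Polynomial.coe_aeval_eq_eval] using h0

/-- Let k be a finite field with q elements and n ≥ 1 a natural number; in the 2n + 2 variables X_0, …,
X_n, Y_0, …, Y_n (indexed by Fin (n+1) ⊕ Fin (n+1), the left summand carrying the X_i) let F = Σ_i
(X_i Y_i^q − Y_i X_i^q), a form of degree q + 1 defining the hypersurface Hyp ⊂ P^{2n+1}_k. Then no
hyperplane of P^{2n+1}_k defined over k meets Hyp transversally: for every linear form L = Σ_v c_v
x_v with a nonzero coefficient vector c over k, the scheme-theoretic intersection Hyp ∩ (L = 0) ⊂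
P^{2n+1}_k is not smooth over k. The intersection is presented through the standard open pieces of
its affine cone: with R = k[X, Y]/(F, L), the piece x_w ≠ 0 of the cone Spec R is (Hyp ∩ (L = 0) ∩
D₊(x_w)) × 𝔾_m, so Hyp ∩ (L = 0) is smooth over k exactly when every localisation R[1/x_w] is a
smooth k-algebra, and the row states that not all of them are. (The published example is stated for
every n ≥ 0; for n = 0 the hypersurface is the set of the q + 1 rational points of P^1_k, it
contains every rational point H, and Hyp ∩ H = H is a reduced point, smooth over k; so this row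
takes n ≥ 1, where no rational hyperplane is contained in Hyp and each one is tangent to Hyp at a
rational point, at which the intersection is singular.) -/
theorem result (k : Type u) [Field k] [Fintype k] (n : ℕ) (hn : 1 ≤ n)
    (F L : MvPolynomial (Fin (n + 1) ⊕ Fin (n + 1)) k)
    (hF : F = ∑ i : Fin (n + 1), (MvPolynomial.X (Sum.inl i) * MvPolynomial.X (Sum.inr i) ^ Fintype.card k -
      MvPolynomial.X (Sum.inr i) * MvPolynomial.X (Sum.inl i) ^ Fintype.card k))
    (c : Fin (n + 1) ⊕ Fin (n + 1) → k) (hc : c ≠ 0)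
    (hL : L = ∑ v, MvPolynomial.C (c v) * MvPolynomial.X v) :
    ¬ ∀ w : Fin (n + 1) ⊕ Fin (n + 1),
      Smooth (Spec.map (CommRingCat.ofHom (algebraMap k
        (Localization.Away (Ideal.Quotient.mk (Ideal.span {F, L}) (MvPolynomial.X w)))))) := by
  obtain ⟨w, hw⟩ := not_smooth_aux k n hn c hc F L hF hL
  intro h
  apply hw
  have h1 := (HasRingHomProperty.Spec_iff (P := @Smooth)).mp (h w)
  have h2 : Algebra.Smooth k _ := RingHom.smooth_algebraMap.mp h1
  exact h2.formallySmooth

end Groth.Agent.S15555
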