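import Groth.Statements.S15557


set_option autoImplicit false
set_option backward.isDefEq.respectTransparency false
set_option backward.defeqAttrib.useBackward true
universe v u
open CategoryTheory
open CohDer

namespace Groth.Agent.S15557

open CategoryTheory.Pretriangulated in
/-- Let T = (X, Y, Z) and T' = (X', Y', Z') be distinguished triangles in a pretriangulated category and
assume that every morphism X → Z' and every morphism X → Z'[-1] is zero. Then composing with the
first map X' → Y' of T' is a bijection Hom(X, X') → Hom(X, Y'), and composing with the second map Y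
→ Z of T is a bijection Hom(Z, Z') → Hom(Y, Z'). (The published lemma is for triangulated
categories; the octahedral axiom plays no role.) -/
theorem result {D : Type u} [Category.{v} D] [Preadditive D]
    [Limits.HasZeroObject D] [HasShift D ℤ] [∀ n : ℤ, (shiftFunctor D n).Additive] [Pretriangulated D]
    (T T' : Triangle D) (hT : T ∈ distinguishedTriangles) (hT' : T' ∈ distinguishedTriangles)
    (hXZ : ∀ u : T.obj₁ ⟶ T'.obj₃, u = 0)
    (hXZ' : ∀ u : T.obj₁ ⟶ (shiftFunctor D (-1 : ℤ)).obj T'.obj₃, u = 0) :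
    Function.Bijective (fun u : T.obj₁ ⟶ T'.obj₁ => u ≫ T'.mor₁) ∧
      Function.Bijective (fun w : T.obj₃ ⟶ T'.obj₃ => T.mor₂ ≫ w) := by
  refine ⟨⟨fun u₁ u₂ hu => ?_, fun g => ?_⟩, ⟨fun w₁ w₂ hw => ?_, fun g => ?_⟩⟩
  · rw [← sub_eq_zero]
    obtain ⟨v, hv⟩ := T'.invRotate.coyoneda_exact₂ (inv_rot_of_distTriang _ hT') (u₁ - u₂)
      (by simpa [sub_eq_zero] using hu)
    rw [hv, hXZ' v]
    simp
  · obtain ⟨u, hu⟩ := T'.coyoneda_exact₂ hT' g (hXZ (g ≫ T'.mor₂))
    exact ⟨u, hu.symm⟩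
  · rw [← sub_eq_zero]
    obtain ⟨v, hv⟩ := T.yoneda_exact₃ hT (w₁ - w₂) (by simpa [sub_eq_zero] using hw)
    let e := (shiftFunctorCompIsoId D (1 : ℤ) (-1) (by simp)).app T.obj₁
    have : v⟦(-1 : ℤ)⟧' = 0 := by
      rw [← cancel_epi e.inv, hXZ' (e.inv ≫ v⟦(-1 : ℤ)⟧'), Limits.comp_zero]
    rw [Functor.map_eq_zero_iff] at this
    rw [hv, this, Limits.comp_zero]
  · obtain ⟨u, hu⟩ := T.yoneda_exact₂ hT g (hXZ (T.mor₁ ≫ g))
    exact ⟨u, hu.symm⟩

end Groth.Agent.S15557
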