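-- statement KronMod.GrothFrozen.S15562 (Groth/Statements/S15562.lean; the theorem KronMod.exists_isSemistable_and_areIso_of_dim_eq_mul);
import Groth.Statements.S15562
import Groth.Agent.KronModLib.Basic

set_option autoImplicit false
universe u v w
open KronMod

namespace Groth.Agent.S15562

/-- Over a field K, for V of dimension d₋₁ > 0 and W of dimension n·d₋₁, semistable Kronecker modules
with n arrows from V to W exist, and any two of them are isomorphic as Kronecker modules; in other
words the moduli space K(n; d₋₁, n·d₋₁) of semistable Kronecker modules is a single point. (The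
published statement assumes K algebraically closed of characteristic zero and n ≥ 2; this row allows
any field K and any number n of arrows.) -/
theorem result (K : Type u) [Field K] (V : Type v) (W : Type w)
    [AddCommGroup V] [Module K V] [FiniteDimensional K V]
    [AddCommGroup W] [Module K W] [FiniteDimensional K W]
    (n : ℕ) (hV : 0 < Module.finrank K V) (hW : Module.finrank K W = n * Module.finrank K V) :
    (∃ f : Fin n → (V →ₗ[K] W), KronMod.IsSemistable f) ∧
    ∀ f f' : Fin n → (V →ₗ[K] W), KronMod.IsSemistable f → KronMod.IsSemistable f' →
      KronMod.AreIso f f' := by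
  have hd : Module.finrank K (Fin n → V) = Module.finrank K W := by rw [Groth.Agent.KronModLib.finrank_pi, hW]
  let e := LinearEquiv.ofFinrankEq (Fin n → V) W hd
  refine ⟨⟨fun j => e.toLinearMap ∘ₗ LinearMap.single K (fun _ => V) j, ?_⟩, fun f f' hf hf' => ?_⟩
  · rw [Groth.Agent.KronModLib.isSemistable_iff_bijective _ hV hW]
    convert e.bijective
    funext v
    rw [Groth.Agent.KronModLib.Φ_apply]
    simp [← map_sum, Finset.univ_sum_single]
  · let a := LinearEquiv.ofBijective _ ((Groth.Agent.KronModLib.isSemistable_iff_bijective f hV hW).1 hf)
    let b := LinearEquiv.ofBijective _ ((Groth.Agent.KronModLib.isSemistable_iff_bijective f' hV hW).1 hf')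
    refine ⟨LinearEquiv.refl K V, a.symm.trans b, fun j => LinearMap.ext fun v => ?_⟩
    show b (a.symm (f j v)) = f' j v
    rw [← Groth.Agent.KronModLib.Φ_single f j v, show a.symm (Groth.Agent.KronModLib.Φ f (Pi.single j v)) = _ from a.symm_apply_apply _]
    exact Groth.Agent.KronModLib.Φ_single f' j v

end Groth.Agent.S15562
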