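-- statement KronMod.GrothFrozen.S15564 (Groth/Statements/S15564.lean; the theorem KronMod.isSemistable_iff_ne_zero_of_dim_one);
import Groth.Statements.S15564
import Groth.Agent.KronModLib.Basic

set_option autoImplicit false
universe u v w
open KronMod

namespace Groth.Agent.S15564

/-- For a Kronecker module f with n arrows over a field K between one-dimensional spaces V and W,
semistability, stability and f ≠ 0 are equivalent: the semistable locus and the stable locus of
dimension vector (1, 1) are both the complement of the zero module. (The published statement assumes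
K algebraically closed of characteristic zero and n ≥ 2; this row allows any field K and any n.) -/
theorem result (K : Type u) [Field K] (V : Type v) (W : Type w)
    [AddCommGroup V] [Module K V] [FiniteDimensional K V]
    [AddCommGroup W] [Module K W] [FiniteDimensional K W]
    (n : ℕ) (f : Fin n → (V →ₗ[K] W))
    (hV : Module.finrank K V = 1) (hW : Module.finrank K W = 1) :
    (KronMod.IsSemistable f ↔ f ≠ 0) ∧ (KronMod.IsStable f ↔ f ≠ 0) := by
  haveI : Nontrivial V := Module.nontrivial_of_finrank_pos (R := K) (by omega)
  haveI : Nontrivial W := Module.nontrivial_of_finrank_pos (R := K) (by omega)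
  have h1 : KronMod.IsSemistable f → f ≠ 0 := fun hs h0 => by
    have := hs.2 ⊤ ⊥ (fun j => by subst h0; simp) (fun h => top_ne_bot h.1) (fun h => bot_ne_top h.2)
    rw [finrank_top, finrank_bot, hV, hW] at this; omega
  have h2 : f ≠ 0 → KronMod.IsStable f := fun hne => by
    refine ⟨by omega, fun V' W' hr h0 hT => ?_⟩
    rw [hV, hW, one_mul, one_mul]
    rcases Nat.eq_zero_or_pos (Module.finrank K V') with hz | hz
    · rw [hz]; exact Nat.pos_of_ne_zero fun h => h0 ⟨Submodule.finrank_eq_zero.1 hz, Submodule.finrank_eq_zero.1 h⟩
    · have hVt : V' = ⊤ := Submodule.eq_top_of_finrank_eq (by have := Submodule.finrank_le V'; omega)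
      obtain ⟨j, hj⟩ := Function.ne_iff.1 hne
      obtain ⟨v, hv⟩ : ∃ v, f j v ≠ 0 := by
        by_contra hc; push_neg at hc; exact hj (LinearMap.ext hc)
      have hW' : Module.finrank K W' ≠ 0 := fun h => by
        have := hr j ⟨v, hVt ▸ trivial, rfl⟩
        rw [Submodule.finrank_eq_zero.1 h, Submodule.mem_bot] at this
        exact hv this
      exact absurd ⟨hVt, Submodule.eq_top_of_finrank_eq (by have := Submodule.finrank_le W'; omega)⟩ hT
  exact ⟨⟨h1, fun h => Groth.Agent.KronModLib.isSemistable_of_isStable f (h2 h)⟩, fun h => h1 (Groth.Agent.KronModLib.isSemistable_of_isStable f h), h2⟩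

end Groth.Agent.S15564
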