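import Groth.Statements.S15568
import Mathlib.Analysis.Convex.Basic
import Mathlib.Topology.Connected.PathConnected
import Mathlib.Analysis.Normed.Module.Connected

set_option autoImplicit false
universe u
open QuiverStab

namespace Groth.Agent.S15568

/-- Walls and chambers for stability weights of a quiver. Let I be the finite vertex set, d ∈ ℕ^I a
dimension vector, and call two weights θ₁, θ₂ ∈ ℝ^I orthogonal to d numerically equivalent when, for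
every d′ ≤ d in ℕ^I, the numbers θ₁·d′ and θ₂·d′ are both positive, both negative or both zero. The
walls are the hyperplanes W(d′) = {θ ⊥ d : θ·d′ = 0} of d^⊥ for d′ ≤ d such that d is not a multiple
of d′. Then θ₁ and θ₂ are numerically equivalent if and only if there is a set J₁ of such d′ for
which θ₁ and θ₂ lie in the same connected component of the locally closed subset of d^⊥ consisting
of the weights lying on W(d₁) for every d₁ ∈ J₁ and off W(d₂) for every other wall W(d₂). (Only the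
quiver's vertex set enters; multiples are taken with natural-number factors.) -/
theorem result
    (I : Type u) [Fintype I] (d : I → ℕ) (θ₁ θ₂ : I → ℝ)
    (h₁ : ∑ i, θ₁ i * (d i : ℝ) = 0) (h₂ : ∑ i, θ₂ i * (d i : ℝ) = 0) :
    (∀ d' : I → ℕ, d' ≤ d →
        SignType.sign (∑ i, θ₁ i * (d' i : ℝ)) = SignType.sign (∑ i, θ₂ i * (d' i : ℝ))) ↔
    ∃ J₁ : Set (I → ℕ), J₁ ⊆ {d' | d' ≤ d ∧ ¬ ∃ m : ℕ, d = m • d'} ∧
      θ₂ ∈ connectedComponentIn
        {θ : I → ℝ | ∑ i, θ i * (d i : ℝ) = 0 ∧ (∀ d₁ ∈ J₁, ∑ i, θ i * (d₁ i : ℝ) = 0) ∧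
          ∀ d₂ : I → ℕ, d₂ ≤ d → (¬ ∃ m : ℕ, d = m • d₂) → d₂ ∉ J₁ →
            ∑ i, θ i * (d₂ i : ℝ) ≠ 0} θ₁ := by
    have hmul : ∀ (θ : I → ℝ), ∑ i, θ i * (d i : ℝ) = 0 → ∀ d' : I → ℕ, d' ≤ d → (∃ m : ℕ, d = m • d') →
        ∑ i, θ i * (d' i : ℝ) = 0 := by
      rintro θ hθ d' hle ⟨m, hm⟩
      rcases Nat.eq_zero_or_pos m with rfl | hpos
      · refine Finset.sum_eq_zero fun i _ => ?_
        have : d' i = 0 := Nat.le_zero.1 (by simpa [hm] using hle i)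
        simp [this]
      · have hθ' : (m : ℝ) * ∑ i, θ i * (d' i : ℝ) = 0 := by
          rw [Finset.mul_sum, ← hθ]
          refine Finset.sum_congr rfl fun i _ => ?_
          simp [hm]; ring
        exact (mul_eq_zero.1 hθ').resolve_left (by exact_mod_cast hpos.ne')
    constructor
    · intro h
      refine ⟨{d' | d' ≤ d ∧ (¬ ∃ m : ℕ, d = m • d') ∧ ∑ i, θ₁ i * (d' i : ℝ) = 0}, fun x hx => ⟨hx.1, hx.2.1⟩, ?_⟩
      have hseg : segment ℝ θ₁ θ₂ ⊆ {θ : I → ℝ | ∑ i, θ i * (d i : ℝ) = 0 ∧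
          (∀ d₁ ∈ ({d' | d' ≤ d ∧ (¬ ∃ m : ℕ, d = m • d') ∧ ∑ i, θ₁ i * (d' i : ℝ) = 0} : Set (I → ℕ)),
            ∑ i, θ i * (d₁ i : ℝ) = 0) ∧
          ∀ d₂ : I → ℕ, d₂ ≤ d → (¬ ∃ m : ℕ, d = m • d₂) →
            d₂ ∉ ({d' | d' ≤ d ∧ (¬ ∃ m : ℕ, d = m • d') ∧ ∑ i, θ₁ i * (d' i : ℝ) = 0} : Set (I → ℕ)) →
              ∑ i, θ i * (d₂ i : ℝ) ≠ 0} := by
        rintro _ ⟨u, v, hu, hv, huv, rfl⟩
        have e : ∀ e' : I → ℕ, ∑ i, (u • θ₁ + v • θ₂) i * (e' i : ℝ) =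
            u * (∑ i, θ₁ i * (e' i : ℝ)) + v * (∑ i, θ₂ i * (e' i : ℝ)) := fun e' => by
          rw [Finset.mul_sum, Finset.mul_sum, ← Finset.sum_add_distrib]
          exact Finset.sum_congr rfl fun i _ => by simp; ring
        refine ⟨by rw [e, h₁, h₂]; simp, fun d₁ hd₁ => ?_, fun d₂ hd₂ hm hn => ?_⟩
        · have hs := h d₁ hd₁.1
          rw [hd₁.2.2, sign_zero, eq_comm, sign_eq_zero_iff] at hs
          rw [e, hd₁.2.2, hs]; simp
        · have hne : ∑ i, θ₁ i * (d₂ i : ℝ) ≠ 0 := fun he => hn ⟨hd₂, hm, he⟩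
          have hs := h d₂ hd₂
          rw [e]
          rcases lt_or_gt_of_ne hne with hl | hg
          · rw [sign_neg hl, eq_comm, sign_eq_neg_one_iff] at hs
            rcases hu.lt_or_eq with hu' | hu'
            · nlinarith [mul_neg_of_pos_of_neg hu' hl, mul_nonpos_of_nonneg_of_nonpos hv hs.le]
            · subst hu'; simp at huv; subst huv; simpa using hs.ne
          · rw [sign_pos hg, eq_comm, sign_eq_one_iff] at hs
            rcases hu.lt_or_eq with hu' | hu'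
            · nlinarith [mul_pos hu' hg, mul_nonneg hv hs.le]
            · subst hu'; simp at huv; subst huv; simpa using hs.ne'
      exact (convex_segment θ₁ θ₂).isPreconnected.subset_connectedComponentIn (left_mem_segment ℝ θ₁ θ₂) hseg
        (right_mem_segment ℝ θ₁ θ₂)
    · rintro ⟨J, -, hmem⟩ d' hd'
      obtain ⟨hx⟩ : Nonempty (θ₂ ∈ connectedComponentIn _ θ₁) := ⟨hmem⟩
      have hsub := connectedComponentIn_subset
        {θ : I → ℝ | ∑ i, θ i * (d i : ℝ) = 0 ∧ (∀ d₁ ∈ J, ∑ i, θ i * (d₁ i : ℝ) = 0) ∧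
          ∀ d₂ : I → ℕ, d₂ ≤ d → (¬ ∃ m : ℕ, d = m • d₂) → d₂ ∉ J → ∑ i, θ i * (d₂ i : ℝ) ≠ 0} θ₁
      have h₁' : θ₁ ∈ connectedComponentIn _ θ₁ :=
        mem_connectedComponentIn ((connectedComponentIn_nonempty_iff.1 ⟨θ₂, hmem⟩))
      by_cases hm : ∃ m : ℕ, d = m • d'
      · rw [hmul θ₁ h₁ d' hd' hm, hmul θ₂ h₂ d' hd' hm]
      by_cases hJ : d' ∈ J
      · rw [(hsub h₁').2.1 d' hJ, (hsub hmem).2.1 d' hJ]
      by_contra hne
      have hc : Continuous fun θ : I → ℝ => ∑ i, θ i * (d' i : ℝ) := by fun_prop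
      have himg := ((isPreconnected_connectedComponentIn (x := θ₁) (F := {θ : I → ℝ | ∑ i, θ i * (d i : ℝ) = 0 ∧ (∀ d₁ ∈ J, ∑ i, θ i * (d₁ i : ℝ) = 0) ∧ ∀ d₂ : I → ℕ, d₂ ≤ d → (¬ ∃ m : ℕ, d = m • d₂) → d₂ ∉ J → ∑ i, θ i * (d₂ i : ℝ) ≠ 0})).image _ hc.continuousOn).ordConnected
      have n₁ := (hsub h₁').2.2 d' hd' hm hJ
      have n₂ := (hsub hmem).2.2 d' hd' hm hJ
      have h0 : (0 : ℝ) ∈ (fun θ : I → ℝ => ∑ i, θ i * (d' i : ℝ)) '' connectedComponentIn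
          {θ : I → ℝ | ∑ i, θ i * (d i : ℝ) = 0 ∧ (∀ d₁ ∈ J, ∑ i, θ i * (d₁ i : ℝ) = 0) ∧
            ∀ d₂ : I → ℕ, d₂ ≤ d → (¬ ∃ m : ℕ, d = m • d₂) → d₂ ∉ J → ∑ i, θ i * (d₂ i : ℝ) ≠ 0} θ₁ := by
        rcases lt_or_gt_of_ne n₁ with hl | hg <;> rcases lt_or_gt_of_ne n₂ with hl' | hg'
        · exact absurd (by rw [sign_neg hl, sign_neg hl']) hne
        · exact himg.out ⟨θ₁, h₁', rfl⟩ ⟨θ₂, hmem, rfl⟩ ⟨hl.le, hg'.le⟩
        · exact himg.out ⟨θ₂, hmem, rfl⟩ ⟨θ₁, h₁', rfl⟩ ⟨hl'.le, hg.le⟩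
        · exact absurd (by rw [sign_pos hg, sign_pos hg']) hne
      obtain ⟨θ, hθ, hz⟩ := h0
      exact (hsub hθ).2.2 d' hd' hm hJ hz

end Groth.Agent.S15568
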