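-- statement RInv.GrothFrozen.S15574 (Groth/Statements/S15574.lean; the theorem RInv.exists_sub_isUnit_of_isQuadEtale_of_isLocalRing);
import Groth.Statements.S15574
import Groth.Agent.RInvQ.Basic

set_option autoImplicit false
universe u v
open RInv

namespace Groth.Agent.S15574

/-- Let `R` be a commutative ring with an involution `lam` whose fixed ring `S` is local, and suppose
`R` is a quadratic etale `S`-algebra. Then some `r` in `R` has `r - lam r` invertible. -/
theorem result (S : Type u) (R : Type v) [CommRing S] [CommRing R]
    [Algebra S R] (lam : R ≃+* R) (hlam : Function.Involutive lam) (hS : RInv.IsFixedRing S R lam)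
    [IsLocalRing S] (hq : RInv.IsQuadEtale S R) : ∃ r : R, IsUnit (r - lam r) := by
  exact Groth.Agent.RInvQ.exists_unit_diff_of_quadEtale hlam hS hq

end Groth.Agent.S15574
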