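-- statement RInv.GrothFrozen.S15579 (Groth/Statements/S15579.lean; the theorem RInv.jacobson_eq_map_maximalIdeal_of_isQuadEtale);
import Groth.Statements.S15579
import Groth.Agent.RInvQ.Basic

set_option autoImplicit false
universe u v
open RInv

namespace Groth.Agent.S15579

/-- For a local ring `S` with maximal ideal `m` and a quadratic etale `S`-algebra `R`, the Jacobson
radical of `R` is `mR`. -/
theorem result (S : Type u) (R : Type v) [CommRing S]
    [CommRing R] [Algebra S R] [IsLocalRing S] (hq : RInv.IsQuadEtale S R) :
    Ring.jacobson R = (IsLocalRing.maximalIdeal S).map (algebraMap S R) := by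
  obtain ⟨hfin, hproj, hunr, -⟩ := hq
  exact Groth.Agent.RInvQ.jacobson_eq

end Groth.Agent.S15579
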