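-- statement RInv.GrothFrozen.S15581 (Groth/Statements/S15581.lean; the theorem RInv.jacobson_sq_le_map_maximalIdeal_of_two_isUnit);
import Groth.Statements.S15581
import Groth.Agent.RInvQ.Basic

set_option autoImplicit false
universe u v
open RInv

namespace Groth.Agent.S15581

/-- Let `A` be a commutative ring with an involution `lam` whose fixed ring `B` is local with `2`
invertible. Then `Jac(A)^2 ⊆ Jac(B) A`. -/
theorem result (B : Type u) (A : Type v) [CommRing B]
    [CommRing A] [Algebra B A] (lam : A ≃+* A) (hlam : Function.Involutive lam)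
    (hB : RInv.IsFixedRing B A lam) [IsLocalRing B] (h2 : IsUnit (2 : B)) :
    (Ring.jacobson A) ^ 2 ≤ (IsLocalRing.maximalIdeal B).map (algebraMap B A) := by
  exact Groth.Agent.RInvQ.jacobson_sq_le hlam hB h2

end Groth.Agent.S15581
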