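import Groth.Statements.S15582
import Mathlib

set_option autoImplicit false
universe u
open CategoryTheory TopologicalSpace
open CohTop

set_option backward.isDefEq.respectTransparency false

namespace Groth.Agent.S15582


/-- Let `π : X → Y` be a continuous map such that every open set containing a fibre `π⁻¹(y)` contains
the preimage of an open neighbourhood of `y`, and such that every fibre is finite with its points
separated by pairwise disjoint open sets of `X`. Then the direct image of sheaves of sets along `π`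
preserves epimorphisms. -/
theorem result
    {X Y : TopCat.{u}} (π : X ⟶ Y)
    (h1 : ∀ (y : Y) (U : Set X), IsOpen U → π ⁻¹' {y} ⊆ U →
      ∃ V : Set Y, IsOpen V ∧ y ∈ V ∧ π ⁻¹' V ⊆ U)
    (h2 : ∀ y : Y, (π ⁻¹' {y}).Finite ∧ ∃ U : X → Set X,
      (∀ x ∈ π ⁻¹' {y}, IsOpen (U x) ∧ x ∈ U x) ∧ (π ⁻¹' {y}).PairwiseDisjoint U) :
    (TopCat.Sheaf.pushforward (Type u) π).PreservesEpimorphisms := by
  classical
  refine ⟨fun {F G} φ hφ => ?_⟩
  have hls := (TopCat.Presheaf.isLocallySurjective_iff φ.hom).1 ((TopCat.Sheaf.isLocallySurjective_iff_epi φ).2 hφ)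
  rw [← TopCat.Sheaf.isLocallySurjective_iff_epi, TopCat.Presheaf.isLocallySurjective_iff]
  intro U t y hy
  obtain ⟨hfin, D, hD, hdisj⟩ := h2 y
  have hloc : ∀ x : ↥(π ⁻¹' {y}), ∃ (V : TopologicalSpace.Opens X) (hV : V ≤ (TopologicalSpace.Opens.map π).obj U),
      x.1 ∈ V ∧ (V : Set X) ⊆ D x.1 ∧ ∃ s, φ.hom.app (Opposite.op V) s = G.1.map (homOfLE hV).op t := fun x => by
    have hxy : π x.1 = y := x.2
    obtain ⟨V, hVU, ⟨s, hs⟩, hxV⟩ := hls ((TopologicalSpace.Opens.map π).obj U) t x.1 (by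
      show π x.1 ∈ U; rw [hxy]; exact hy)
    let D' : TopologicalSpace.Opens X := ⟨D x.1, (hD x.1 x.2).1⟩
    refine ⟨V ⊓ D', inf_le_left.trans hVU, ⟨hxV, (hD x.1 x.2).2⟩, fun z hz => hz.2,
      F.1.map (homOfLE (inf_le_left : V ⊓ D' ≤ V)).op s, ?_⟩
    have hn := ConcreteCategory.congr_hom (φ.hom.naturality (homOfLE (inf_le_left : V ⊓ D' ≤ V)).op) s
    rw [ConcreteCategory.comp_apply, ConcreteCategory.comp_apply, hs] at hn
    rw [hn]
    show G.1.map _ (G.1.map (homOfLE hVU).op t) = _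
    rw [← ConcreteCategory.comp_apply, ← G.1.map_comp]
    rfl
  choose V hVU hxV hVD s hs using hloc
  have hsub : ∀ a b, a ≠ b → V a ⊓ V b = ⊥ := fun a b hab => by
    refine le_antisymm (fun z hz => ?_) bot_le
    exact (Set.disjoint_left.1 (hdisj a.2 b.2 fun h => hab (Subtype.ext h)) (hVD a hz.1) (hVD b hz.2)).elim
  have hcompat : TopCat.Presheaf.IsCompatible F.1 V s := fun a b => by
    rcases eq_or_ne a b with rfl | hab
    · rfl
    · have hT := TopCat.Sheaf.isTerminalOfEqEmpty F (hsub a b hab)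
      obtain ⟨uu⟩ : Nonempty (Unique (F.1.obj (Opposite.op (V a ⊓ V b)))) := ⟨(Limits.Types.isTerminalEquivUnique _ hT :)⟩
      exact (uu.uniq _).trans (uu.uniq _).symm
  obtain ⟨g, hg, -⟩ := F.existsUnique_gluing V s hcompat
  obtain ⟨W, hW, hyW, hWV⟩ := h1 y ((iSup V : TopologicalSpace.Opens X) : Set X) (iSup V).2 fun x hx =>
    TopologicalSpace.Opens.mem_iSup.2 ⟨⟨x, hx⟩, hxV _⟩
  let W' : TopologicalSpace.Opens Y := U ⊓ ⟨W, hW⟩
  have hle : (TopologicalSpace.Opens.map π).obj W' ≤ iSup V := fun x hx => hWV hx.2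
  refine ⟨W', inf_le_left, ⟨F.1.map (homOfLE hle).op g, ?_⟩, hy, hyW⟩
  show φ.hom.app (Opposite.op ((TopologicalSpace.Opens.map π).obj W')) (F.1.map (homOfLE hle).op g) =
    G.1.map (homOfLE (fun x hx => hx.1 : (TopologicalSpace.Opens.map π).obj W' ≤ (TopologicalSpace.Opens.map π).obj U)).op t
  have hgl : φ.hom.app (Opposite.op (iSup V)) g = G.1.map (homOfLE (iSup_le hVU)).op t := by
    refine G.eq_of_locally_eq V _ _ fun a => ?_
    have hn := ConcreteCategory.congr_hom (φ.hom.naturality (TopologicalSpace.Opens.leSupr V a).op) g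
    rw [ConcreteCategory.comp_apply, ConcreteCategory.comp_apply, hg a, hs a] at hn
    refine hn.symm.trans ?_
    rw [← ConcreteCategory.comp_apply, ← G.1.map_comp]
    rfl
  have hn := ConcreteCategory.congr_hom (φ.hom.naturality (homOfLE hle).op) g
  rw [ConcreteCategory.comp_apply, ConcreteCategory.comp_apply, hgl] at hn
  refine hn.trans ?_
  rw [← ConcreteCategory.comp_apply, ← G.1.map_comp]
  rfl

end Groth.Agent.S15582
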