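import Groth.Statements.S15585
import Mathlib.RingTheory.Unramified.Field
import Mathlib.RingTheory.LocalRing.Quotient
-- import your own Groth.Agent.* helpers here

set_option autoImplicit false
universe u v
open RInv

namespace Groth.Agent.S15585

theorem dichotomy (k : Type*) (A : Type*) [Field k] [CommRing A] [Algebra k A] (h2 : Module.finrank k A = 2)
    [Algebra.FormallyUnramified k A] :
    (IsField A ∧ Module.finrank k A = 2 ∧ Algebra.IsSeparable k A) ∨ Nonempty (A ≃ₐ[k] (k × k)) := by
  classical
  haveI : Module.Finite k A := Module.finite_of_finrank_eq_succ h2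
  haveI : IsReduced A := Algebra.FormallyUnramified.isReduced_of_field k A
  haveI : Nontrivial A := Module.nontrivial_of_finrank_eq_succ h2
  by_cases hA : IsField A
  · refine Or.inl ⟨hA, h2, ?_⟩
    letI := hA.toField
    exact Algebra.FormallyUnramified.isSeparable k A
  · right
    obtain ⟨m, hbot, hmax⟩ := Ring.not_isField_iff_exists_prime.1 hA
    let mk : Submodule k A := m.restrictScalars k
    have hlt : Module.finrank k mk < 2 := h2 ▸ Submodule.finrank_lt (fun h => hmax.ne_top
      ((Submodule.restrictScalars_eq_top_iff k A A).1 h))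
    obtain ⟨x, hxm, hx0⟩ := Submodule.exists_mem_ne_zero_of_ne_bot hbot
    have h1 : Module.finrank k mk = 1 := by
      have : 0 < Module.finrank k mk := Module.finrank_pos_iff_exists_ne_zero.2
        ⟨⟨x, hxm⟩, fun h => hx0 (congrArg Subtype.val h)⟩
      omega
    obtain ⟨c, hc⟩ := exists_smul_eq_of_finrank_eq_one h1 (x := (⟨x, hxm⟩ : mk))
      (fun h => hx0 (congrArg Subtype.val h)) ⟨x * x, Ideal.mul_mem_left m x hxm⟩
    have hc' : c • x = x * x := congrArg Subtype.val hc
    have hc0 : c ≠ 0 := fun h => hx0 (IsReduced.eq_zero x ⟨2, by rw [pow_two, ← hc', h, zero_smul]⟩)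
    let e : A := c⁻¹ • x
    have he : e * e = e := by
      simp only [e, smul_mul_smul_comm, ← hc', smul_smul]
      congr 1; field_simp
    have he0 : e ≠ 0 := fun h => hx0 (by
      have := congrArg (c • ·) h; simpa [e, smul_smul, hc0] using this)
    have he1 : e ≠ 1 := fun h => hmax.ne_top ((Ideal.eq_top_iff_one m).2 (h ▸ by
      simp only [e, Algebra.smul_def]; exact Ideal.mul_mem_left m _ hxm))
    let f : (k × k) →ₐ[k] A :=
      { toFun := fun p => p.1 • e + p.2 • (1 - e)
        map_one' := by simp
        map_mul' := fun p q => by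
          simp only [Prod.fst_mul, Prod.snd_mul, Algebra.smul_def, map_mul]
          linear_combination (algebraMap k A p.1 * algebraMap k A q.2 + algebraMap k A p.2 * algebraMap k A q.1 -
            algebraMap k A p.1 * algebraMap k A q.1 - algebraMap k A p.2 * algebraMap k A q.2) * he
        map_zero' := by simp
        map_add' := fun p q => by simp only [Prod.fst_add, Prod.snd_add, add_smul]; abel
        commutes' := fun r => by simp [Algebra.smul_def, mul_sub] }
    have hinj : Function.Injective f.toLinearMap := by
      refine (injective_iff_map_eq_zero _).2 fun p hp => ?_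
      have hp' : p.1 • e + p.2 • (1 - e) = 0 := hp
      have a1 : p.1 • e = 0 := by
        have := congrArg (fun y => y * e) hp'
        simpa [add_mul, sub_mul, he] using this
      have a2 : p.2 • (1 - e) = 0 := by rwa [a1, zero_add] at hp'
      exact Prod.ext ((smul_eq_zero.1 a1).resolve_right he0)
        ((smul_eq_zero.1 a2).resolve_right (sub_ne_zero.2 he1.symm))
    have hdim : Module.finrank k (k × k) = Module.finrank k A := by simp [h2]
    exact ⟨(AlgEquiv.ofBijective f
      ⟨hinj, (LinearMap.injective_iff_surjective_of_finrank_eq_finrank hdim).1 hinj⟩).symm⟩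

/-- For a local ring `S` (maximal ideal `m`, residue field `k`) and a quadratic etale `S`-algebra `R`,
the ring `R/mR` is a field that is a separable extension of `k` of degree 2, or else it is
isomorphic as a `k`-algebra to `k × k`. -/
theorem result (S : Type u) (R : Type v) [CommRing S]
    [CommRing R] [Algebra S R] [IsLocalRing S] (hq : RInv.IsQuadEtale S R) :
    (IsField (R ⧸ (IsLocalRing.maximalIdeal S).map (algebraMap S R)) ∧
      Module.finrank (S ⧸ IsLocalRing.maximalIdeal S)
        (R ⧸ (IsLocalRing.maximalIdeal S).map (algebraMap S R)) = 2 ∧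
      Algebra.IsSeparable (S ⧸ IsLocalRing.maximalIdeal S)
        (R ⧸ (IsLocalRing.maximalIdeal S).map (algebraMap S R))) ∨
    Nonempty ((R ⧸ (IsLocalRing.maximalIdeal S).map (algebraMap S R)) ≃ₐ[S ⧸ IsLocalRing.maximalIdeal S]
      ((S ⧸ IsLocalRing.maximalIdeal S) × (S ⧸ IsLocalRing.maximalIdeal S))) := by
  obtain ⟨hfin, hproj, hunr, hrank⟩ := hq
  haveI := hfin
  haveI := hproj
  haveI := hunr
  haveI : Module.Free S R := Module.free_of_flat_of_isLocalRing
  letI : Field (S ⧸ IsLocalRing.maximalIdeal S) := Ideal.Quotient.field _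
  have h2 : Module.finrank (S ⧸ IsLocalRing.maximalIdeal S)
      (R ⧸ (IsLocalRing.maximalIdeal S).map (algebraMap S R)) = 2 := by
    rw [IsLocalRing.finrank_quotient_map]
    have h := hrank ⟨IsLocalRing.maximalIdeal S, inferInstance⟩
    rw [Module.rankAtStalk_eq_finrank_of_free] at h
    simpa using h
  haveI : Algebra.FormallyUnramified S (R ⧸ (IsLocalRing.maximalIdeal S).map (algebraMap S R)) :=
    Algebra.FormallyUnramified.comp S R _
  haveI : Algebra.FormallyUnramified (S ⧸ IsLocalRing.maximalIdeal S)
      (R ⧸ (IsLocalRing.maximalIdeal S).map (algebraMap S R)) :=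
    Algebra.FormallyUnramified.of_restrictScalars S _ _
  exact dichotomy _ _ h2

end Groth.Agent.S15585
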