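-- statement RInv.GrothFrozen.S15589 (Groth/Statements/S15589.lean; the theorem RInv.isHomeomorph_comap_branch_quotientMap_and_bijective);
import Groth.Statements.S15589
import Groth.Agent.RInvQ.Basic

set_option autoImplicit false
universe u v
open scoped TensorProduct
open RInv

namespace Groth.Agent.S15589

/-- Let `R` be a commutative ring with an involution `lam` and fixed ring `S`, `W ⊆ Spec S` the branch
locus (primes `p` with `S_p ⊗_S R` not quadratic etale over `S_p`), `I` its vanishing ideal and `J =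
rad(IR)`. Then `Spec(R/J) → Spec(S/I)` is a homeomorphism; if `2` is a unit of `S`, the ring map
`S/I → R/J` is moreover bijective, so the reduced preimage of the branch locus maps isomorphically
onto it. Affine-local form of the statement for a good quotient of schemes by an involution (the
hypothesis `I ≤ J ∩ S` holds automatically and only serves to write down the map). -/
theorem result (S : Type u) (R : Type v) [CommRing S] [CommRing R]
    [Algebra S R] (lam : R ≃+* R) (hlam : Function.Involutive lam) (hS : RInv.IsFixedRing S R lam)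
    (W : Set (PrimeSpectrum S))
    (hW : W = {p : PrimeSpectrum S | ¬ RInv.IsQuadEtale (Localization.AtPrime p.asIdeal) (Localization.AtPrime p.asIdeal ⊗[S] R)})
    (J : Ideal R) (hJ : J = ((PrimeSpectrum.vanishingIdeal W).map (algebraMap S R)).radical)
    (hIJ : PrimeSpectrum.vanishingIdeal W ≤ J.comap (algebraMap S R)) :
    IsHomeomorph (PrimeSpectrum.comap (Ideal.quotientMap J (algebraMap S R) hIJ)) ∧
      (IsUnit (2 : S) → Function.Bijective (Ideal.quotientMap J (algebraMap S R) hIJ)) := by
  haveI := Groth.Agent.RInvQ.isIntegral hlam hS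
  have hrad : (PrimeSpectrum.vanishingIdeal W).IsRadical := PrimeSpectrum.isRadical_vanishingIdeal W
  have hker : (⊥ : Ideal R).comap (algebraMap S R) = ⊥ :=
    (RingHom.ker_eq_comap_bot (algebraMap S R)).symm.trans ((RingHom.injective_iff_ker_eq_bot _).1 hS.1)
  have hJI : J.comap (algebraMap S R) ≤ PrimeSpectrum.vanishingIdeal W := by
    intro s hs
    rw [← hrad.radical, Ideal.radical_eq_sInf, Submodule.mem_sInf]
    rintro (p : Ideal S) ⟨hp, hpp⟩
    haveI : Ideal.IsPrime p := hpp
    obtain ⟨q, -, hq, hqp⟩ := Ideal.exists_ideal_over_prime_of_isIntegral (S := R) p (⊥ : Ideal R)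
      (by rw [hker]; exact bot_le)
    have hJq : J ≤ q := by
      rw [hJ]
      exact hq.radical_le_iff.2 (Ideal.map_le_iff_le_comap.2 (hqp.symm ▸ hp))
    rw [← hqp]
    exact hJq hs
  have hlamJ : ∀ r : R, lam r - r ∈ J := fun r => hJ ▸ Groth.Agent.RInvQ.map_sub_mem_radical hlam hS W hW r
  have hint : (Ideal.quotientMap J (algebraMap S R) hIJ).IsIntegral := by
    intro y
    obtain ⟨r, rfl⟩ := Ideal.Quotient.mk_surjective y
    obtain ⟨f, hf, hfe⟩ := Algebra.IsIntegral.isIntegral (R := S) r
    refine ⟨f.map (Ideal.Quotient.mk _), hf.map _, ?_⟩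
    rw [Polynomial.eval₂_map, Ideal.quotientMap_comp_mk, ← Polynomial.hom_eval₂, hfe, map_zero]
  have hinj : Function.Injective (Ideal.quotientMap J (algebraMap S R) hIJ) :=
    Ideal.quotientMap_injective' hJI
  refine ⟨isHomeomorph_iff_continuous_isClosedMap_bijective.2 ⟨PrimeSpectrum.continuous_comap _,
    PrimeSpectrum.isClosedMap_comap_of_isIntegral _ hint, ⟨?_, ?_⟩⟩, fun h2 => ⟨hinj, ?_⟩⟩
  · intro q q' h
    refine PrimeSpectrum.ext (Ideal.comap_injective_of_surjective _ Ideal.Quotient.mk_surjective ?_)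
    have h' : (q.asIdeal.comap (Ideal.Quotient.mk J)).comap (algebraMap S R) =
        (q'.asIdeal.comap (Ideal.Quotient.mk J)).comap (algebraMap S R) := by
      ext s
      have := Ideal.ext_iff.1 (congrArg PrimeSpectrum.asIdeal h)
        (Ideal.Quotient.mk (PrimeSpectrum.vanishingIdeal W) s)
      simpa [Ideal.quotientMap_mk] using this
    have hJq : ∀ P : PrimeSpectrum (R ⧸ J), J ≤ P.asIdeal.comap (Ideal.Quotient.mk J) := fun P x hx => by
      rw [Ideal.mem_comap, Ideal.Quotient.eq_zero_iff_mem.2 hx]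
      exact zero_mem _
    rcases Groth.Agent.RInvQ.eq_or_eq hlam hS (q.asIdeal.comap (Ideal.Quotient.mk J))
      (q'.asIdeal.comap (Ideal.Quotient.mk J)) h' with e | e
    · exact e.symm
    · refine (Ideal.ext fun x => ?_).trans e.symm
      rw [Ideal.mem_comap (f := lam)]
      exact ⟨fun hx => by simpa using (q.asIdeal.comap (Ideal.Quotient.mk J)).add_mem (hJq q (hlamJ x)) hx,
        fun hx => by simpa using (q.asIdeal.comap (Ideal.Quotient.mk J)).sub_mem hx (hJq q (hlamJ x))⟩
  · intro p
    letI : Algebra (S ⧸ PrimeSpectrum.vanishingIdeal W) (R ⧸ J) :=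
      (Ideal.quotientMap J (algebraMap S R) hIJ).toAlgebra
    haveI : Algebra.IsIntegral (S ⧸ PrimeSpectrum.vanishingIdeal W) (R ⧸ J) := ⟨hint⟩
    obtain ⟨Q, -, hQ, hQp⟩ := Ideal.exists_ideal_over_prime_of_isIntegral (S := R ⧸ J) p.asIdeal ⊥
      (by
        show Ideal.comap (Ideal.quotientMap J (algebraMap S R) hIJ) ⊥ ≤ _
        rw [← RingHom.ker_eq_comap_bot, (RingHom.injective_iff_ker_eq_bot _).1 hinj]
        exact bot_le)
    exact ⟨⟨Q, hQ⟩, PrimeSpectrum.ext hQp⟩
  · intro y
    obtain ⟨x, rfl⟩ := Ideal.Quotient.mk_surjective y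
    obtain ⟨t, ht⟩ := Groth.Agent.RInvQ.exists_sum hlam hS x
    obtain ⟨w, hw⟩ := (h2.map (algebraMap S R)).exists_left_inv
    obtain ⟨c, hc⟩ := h2.exists_left_inv
    refine ⟨Ideal.Quotient.mk _ (c * t), ?_⟩
    rw [Ideal.quotientMap_mk, Ideal.Quotient.eq, map_mul, ht]
    have h1 : algebraMap S R c * 2 = 1 := by rw [← map_ofNat (algebraMap S R) 2, ← map_mul, hc, map_one]
    rw [show algebraMap S R c * (x + lam x) - x = algebraMap S R c * (lam x - x) by linear_combination x * h1]
    exact J.mul_mem_left _ (hlamJ x)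

end Groth.Agent.S15589
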