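import Groth.Statements.S15590
import Mathlib.RingTheory.Flat.FaithfullyFlat.Algebra
import Mathlib.RingTheory.Ideal.GoingUp
import Mathlib.RingTheory.DedekindDomain.Basic

set_option autoImplicit false
universe u v
open CAlg

namespace Groth.Agent.S15590

/-- Let A → B be an injective homomorphism of commutative rings which makes B a finite flat A-module,
and suppose B is a Dedekind domain (Noetherian, integrally closed, of Krull dimension at most one; a
field is allowed). Then A is a Dedekind domain. -/
theorem result (A : Type u) (B : Type v)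
    [CommRing A] [CommRing B] [Algebra A B] [IsDedekindDomain B]
    (hinj : Function.Injective (algebraMap A B)) [Module.Finite A B] [Module.Flat A B] :
    IsDedekindDomain A := by
  have : IsDomain A := hinj.isDomain
  have : FaithfulSMul A B := (faithfulSMul_iff_algebraMap_injective A B).mpr hinj
  have hff : Module.FaithfullyFlat A B := by
    refine Module.FaithfullyFlat.of_comap_surjective fun p => ?_
    obtain ⟨Q, hQ, hQp⟩ := Ideal.exists_ideal_over_prime_of_isIntegral p.asIdeal (⊥ : Ideal B)
      (by rw [← RingHom.ker_eq_comap_bot, (RingHom.injective_iff_ker_eq_bot _).mp hinj]; exact bot_le)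
    exact ⟨⟨Q, hQp.1⟩, PrimeSpectrum.ext hQp.2⟩
  have hN : IsNoetherianRing A := by
    rw [isNoetherianRing_iff, isNoetherian_iff]
    exact InvImage.wf (fun I : Ideal A => I.map (algebraMap A B)) (IsWellFounded.wf (r := (· > ·))) |>.mono
      fun I J (h : J < I) => lt_of_le_of_ne (Ideal.map_mono h.le) fun he => h.ne
        (by rw [← Ideal.comap_map_eq_self_of_faithfullyFlat (B := B) J, show J.map (algebraMap A B) = I.map (algebraMap A B) from he, Ideal.comap_map_eq_self_of_faithfullyFlat])
  rw [isDedekindDomain_iff A (FractionRing A)]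
  refine ⟨inferInstance, hN, ⟨fun {p} hp0 hp => ?_⟩, fun {x} hx => ?_⟩
  · obtain ⟨⟨Q, hQp⟩, hQ⟩ := PrimeSpectrum.comap_surjective_of_faithfullyFlat (A := A) (B := B) ⟨p, hp⟩
    have hQ' : Q.comap (algebraMap A B) = p := congrArg PrimeSpectrum.asIdeal hQ
    have hQ0 : Q ≠ ⊥ := by
      rintro rfl
      rw [← RingHom.ker_eq_comap_bot, (RingHom.injective_iff_ker_eq_bot _).mp hinj] at hQ'
      exact hp0 hQ'.symm
    have := hQp.isMaximal hQ0
    rw [← hQ']
    exact Ideal.isMaximal_comap_of_isIntegral_of_isMaximal Q
  · obtain ⟨⟨a, s⟩, hs⟩ := IsLocalization.surj (nonZeroDivisors A) x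
    let f : FractionRing A →ₐ[A] FractionRing B :=
      IsLocalization.liftAlgHom (M := nonZeroDivisors A) (f := Algebra.ofId A (FractionRing B))
        (fun y => by
          rw [Algebra.ofId_apply, IsScalarTower.algebraMap_apply A B (FractionRing B)]
          exact (isUnit_iff_ne_zero).mpr ((map_ne_zero_iff _ (IsFractionRing.injective B (FractionRing B))).mpr
            ((map_ne_zero_iff _ hinj).mpr (nonZeroDivisors.coe_ne_zero y))))
    obtain ⟨y, hy⟩ := IsIntegrallyClosed.isIntegral_iff.mp ((hx.map f).tower_top (A := B))
    have h1 : a ∈ ((Ideal.span {(s : A)}).map (algebraMap A B)).comap (algebraMap A B) := by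
      rw [Ideal.mem_comap, Ideal.map_span, Set.image_singleton, Ideal.mem_span_singleton]
      refine ⟨y, IsFractionRing.injective B (FractionRing B) ?_⟩
      have := congrArg f hs
      rw [map_mul, AlgHom.commutes, AlgHom.commutes, ← hy, IsScalarTower.algebraMap_apply A B (FractionRing B),
        IsScalarTower.algebraMap_apply A B (FractionRing B) a] at this
      rw [map_mul, mul_comm, this]
    rw [Ideal.comap_map_eq_self_of_faithfullyFlat, Ideal.mem_span_singleton] at h1
    obtain ⟨c, rfl⟩ := h1
    refine ⟨c, (IsLocalization.map_units (FractionRing A) s).mul_left_inj.mp ?_⟩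
    rw [hs, map_mul, mul_comm]

end Groth.Agent.S15590
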