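import Groth.Statements.S15592
import Groth.Agent.GrpSch.FixedLine
import Groth.Agent.GaPts.Basic
import Groth.Prelude.Def_GmPts

set_option autoImplicit false
universe u
open CategoryTheory MonoidalCategory CartesianMonoidalCategory MonObj GrpObj AlgebraicGeometry
open AlgGrp

namespace Groth.Agent.S15592

/-- The case of a one-dimensional group. Let k be a field, X a proper k-scheme having a k-rational
point, and G a k-group scheme isomorphic, as a k-group scheme, to the additive group or to the
multiplicative group over k. Then every action of G on X fixes some k-rational point of X: there is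
a k-point x with g · x = x for all points g of G with values in any k-scheme. (This is the
one-dimensional case of the fixed point property of k-split solvable groups acting on proper
k-schemes with a rational point, to which the general case reduces by induction along a composition
series.) -/
theorem result (k : Type u) [Field k]
    (G X : Over (Spec (CommRingCat.of k))) [GrpObj G]
    (hG : Nonempty (Grp.mk G ≅ Grp.mk (Red.Ga (Spec (CommRingCat.of k)))) ∨ Nonempty (Grp.mk G ≅ Grp.mk (Red.Gm (Spec (CommRingCat.of k)))))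
    [IsProper X.hom] (x₀ : 𝟙_ (Over (Spec (CommRingCat.of k))) ⟶ X) (a : AlgGrp.Action G X) :
    ∃ x : 𝟙_ (Over (Spec (CommRingCat.of k))) ⟶ X, a.IsFixedPt x := by
  rcases hG with ⟨⟨e⟩⟩ | ⟨⟨e⟩⟩
  · let f : G ⟶ Red.Ga (Spec (CommRingCat.of k)) := e.hom.hom.hom
    let f' : Red.Ga (Spec (CommRingCat.of k)) ⟶ G := e.inv.hom.hom
    haveI : IsMonHom f := e.hom.hom.isMonHom_hom
    have h1 : f ≫ f' = 𝟙 G := congrArg (fun q => q.hom.hom) e.hom_inv_id
    have h2 : f' ≫ f = 𝟙 _ := congrArg (fun q => q.hom.hom) e.inv_hom_id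
    refine Groth.Agent.GrpSch.FixedLine.exists_fixed_additive x₀ a (fun T g => Red.gaFn (g ≫ f))
      (fun t g => by simp only [Category.assoc]; exact Groth.Agent.GaPts.gaFn_comp t (g ≫ f))
      (fun T g h e' => ?_) (fun T v => ?_) (fun T g h => ?_)
    · have := congrArg (· ≫ f') (Groth.Agent.GaPts.gaFn_injective T e')
      simpa [h1] using this
    · obtain ⟨w, hw⟩ := Groth.Agent.GaPts.gaFn_surjective T v
      exact ⟨w ≫ f', by simp [h2, hw]⟩
    · simp only [MonObj.mul_comp, Groth.Agent.GaPts.gaFn_mul]
  · let f : G ⟶ Red.Gm (Spec (CommRingCat.of k)) := e.hom.hom.hom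
    let f' : Red.Gm (Spec (CommRingCat.of k)) ⟶ G := e.inv.hom.hom
    haveI : IsMonHom f := e.hom.hom.isMonHom_hom
    have h1 : f ≫ f' = 𝟙 G := congrArg (fun q => q.hom.hom) e.hom_inv_id
    have h2 : f' ≫ f = 𝟙 _ := congrArg (fun q => q.hom.hom) e.inv_hom_id
    refine Groth.Agent.GrpSch.FixedLine.exists_fixed_multiplicative x₀ a (fun T g => Red.gmFn (g ≫ f))
      (fun t g => by simp only [Category.assoc]; exact GmPts.gmFn_comp t (g ≫ f))
      (fun T g h e' => ?_) (fun T g => GmPts.isUnit_gmFn (g ≫ f)) (fun T v hv => ?_) (fun T g h => ?_)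
    · have := congrArg (· ≫ f') (GmPts.gmFn_injective e')
      simpa [h1] using this
    · obtain ⟨v, rfl⟩ := hv
      exact ⟨GmPts.ptOfUnit v ≫ f', by simp [h2, GmPts.gmFn_ptOfUnit]⟩
    · simp only [MonObj.mul_comp, GmPts.gmFn_mul]

end Groth.Agent.S15592
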