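import Groth.Statements.S15594
import Groth.Agent.GeomRed.Alg

set_option autoImplicit false
universe u
open TensorProduct
open AGF

namespace Groth.Agent.S15594

/-- Affine form. Let k ⊆ K be a field extension, A a commutative k-algebra and S a set of k-algebra
homomorphisms A → k (rational points of Spec A). The ideal ⋂_{σ ∈ S} ker σ cuts out the Zariski
closure of S with its reduced structure, and its extension to K ⊗_k A equals ⋂_{σ ∈ S} ker σ_K,
where σ_K : K ⊗_k A → K is the K-algebra map induced by σ. In words: the closure of a set of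
rational points is formed compatibly with extension of the ground field. (The published statement is
for schemes locally of finite type; this affine row assumes no finiteness, which the argument does
not use.) -/
theorem result (k K A : Type u) [Field k] [Field K] [Algebra k K]
    [CommRing A] [Algebra k A] (S : Set (A →ₐ[k] k)) :
    Ideal.map (Algebra.TensorProduct.includeRight : A →ₐ[k] K ⊗[k] A) (⨅ σ ∈ S, RingHom.ker σ) =
      ⨅ σ ∈ S, RingHom.ker ((Algebra.TensorProduct.rid k K K).toAlgHom.comp
        (Algebra.TensorProduct.map (AlgHom.id K K) σ)) := by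
  apply le_antisymm
  · rw [Ideal.map_le_iff_le_comap]
    intro a ha
    simp only [Ideal.mem_comap, Ideal.mem_iInf, RingHom.mem_ker] at ha ⊢
    intro σ hσ
    simp [ha σ hσ]
  · intro z hz
    simp only [Ideal.mem_iInf, RingHom.mem_ker] at hz
    set I : Ideal A := ⨅ σ ∈ S, RingHom.ker σ
    let F : ↥S → Type u := fun _ => k
    let τ : ∀ i : ↥S, (A ⧸ I) →ₐ[k] F i := fun i => Ideal.Quotient.liftₐ I i.1 fun a ha => by
      simp only [I, Ideal.mem_iInf, RingHom.mem_ker] at ha
      exact ha i.1 i.2
    have hinj : ∀ a, (∀ i, τ i a = 0) → a = 0 := by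
      intro a ha
      obtain ⟨a, rfl⟩ := Ideal.Quotient.mk_surjective a
      rw [Ideal.Quotient.eq_zero_iff_mem]
      simp only [I, Ideal.mem_iInf, RingHom.mem_ker]
      exact fun σ hσ => ha ⟨σ, hσ⟩
    have h0 : Algebra.TensorProduct.map (AlgHom.id k K) (Ideal.Quotient.mkₐ k I) z = 0 := by
      apply Groth.Agent.GeomRed.baseChange_jointly_injective τ hinj
      intro i
      apply (Algebra.TensorProduct.rid k K K).injective
      rw [map_zero, ← hz i.1 i.2]
      rw [← AlgHom.comp_apply, ← Algebra.TensorProduct.map_comp]
      have e : (τ i).comp (Ideal.Quotient.mkₐ k I) = i.1 := AlgHom.ext fun a => rfl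
      rw [e]
      rfl
    have hker := Algebra.TensorProduct.lTensor_ker (A := K) (Ideal.Quotient.mkₐ k I)
      (Ideal.Quotient.mkₐ_surjective k I)
    have : z ∈ RingHom.ker (Algebra.TensorProduct.map (AlgHom.id k K) (Ideal.Quotient.mkₐ k I)) := h0
    rw [hker] at this
    rwa [show RingHom.ker (Ideal.Quotient.mkₐ k I) = I from Ideal.ext fun a =>
      Ideal.Quotient.eq_zero_iff_mem] at this

end Groth.Agent.S15594
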