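import Groth.Statements.S15595
import Mathlib
import Groth.Agent.S0565
import Groth.Agent.FlatLocalDepth.Basic

set_option autoImplicit false
universe u
open TensorProduct
attribute [local instance] RingHom.ker_isPrime
open CAlg

namespace Groth.Agent.S15595

/-- Let k ⊆ K be a field extension and A a Noetherian local k-algebra with residue field k, recorded by
a k-algebra map π : A → k whose kernel is the maximal ideal. Let π_K : K ⊗_k A → K be the induced
K-algebra map, m' its kernel, and A' the localization of K ⊗_k A at m'. Assume A' is Noetherian.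
Then A is a regular local ring if and only if A' is a regular local ring. -/
theorem result (k K A : Type u) [Field k] [Field K]
    [Algebra k K] [CommRing A] [Algebra k A] [IsLocalRing A] [IsNoetherianRing A]
    (π : A →ₐ[k] k) (hπ : RingHom.ker π = IsLocalRing.maximalIdeal A)
    [IsNoetherianRing (Localization.AtPrime (RingHom.ker
      ((Algebra.TensorProduct.rid k K K).toAlgHom.comp (Algebra.TensorProduct.map (AlgHom.id K K) π))))] :
    IsRegularLocalRing A ↔ IsRegularLocalRing (Localization.AtPrime (RingHom.ker
      ((Algebra.TensorProduct.rid k K K).toAlgHom.comp (Algebra.TensorProduct.map (AlgHom.id K K) π)))) := by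
  let τ : K ⊗[k] A →ₐ[K] K := (Algebra.TensorProduct.rid k K K).toAlgHom.comp (Algebra.TensorProduct.map (AlgHom.id K K) π)
  let P : Ideal (K ⊗[k] A) := RingHom.ker τ
  let L := Localization.AtPrime P
  show IsRegularLocalRing A ↔ IsRegularLocalRing L
  haveI : IsNoetherianRing L := ‹_›
  letI : Algebra A (K ⊗[k] A) := Algebra.TensorProduct.rightAlgebra
  haveI : Module.Flat A (K ⊗[k] A) := by
    refine Module.Flat.of_linearEquiv (R := A) (M := A ⊗[k] K) (AddEquiv.toLinearEquiv (TensorProduct.comm k A K).toAddEquiv ?_).symm
    intro a x
    induction x using TensorProduct.induction_on with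
    | zero => simp
    | tmul b c =>
      show c ⊗ₜ[k] (a * b) = ((1 : K) ⊗ₜ[k] a) * (c ⊗ₜ[k] b)
      rw [Algebra.TensorProduct.tmul_mul_tmul, one_mul]
    | add u v hu hv => rw [smul_add, map_add, map_add, smul_add, hu, hv]
  haveI : IsScalarTower A (K ⊗[k] A) L := inferInstance
  haveI : Module.Flat A L := by
    haveI : Module.Flat (K ⊗[k] A) L := IsLocalization.flat L P.primeCompl
    exact Module.Flat.trans A (K ⊗[k] A) L
  let m := IsLocalRing.maximalIdeal A
  have hkerP : P = m.map (algebraMap A (K ⊗[k] A)) := by
    refine le_antisymm (fun x hx => ?_) ?_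
    · have hsurj : Function.Surjective π := fun c => ⟨algebraMap k A c, π.commutes c⟩
      have hexact : Function.Exact (m.restrictScalars k).subtype π.toLinearMap := by
        intro y
        rw [Submodule.coe_subtype, Subtype.range_coe]
        show π y = 0 ↔ y ∈ m
        rw [show m = RingHom.ker π from hπ.symm]
        exact Iff.rfl
      have h0 : LinearMap.lTensor K π.toLinearMap x = 0 := by
        refine (Algebra.TensorProduct.rid k K K).injective ?_
        rw [map_zero]
        exact hx
      obtain ⟨w, hw⟩ := (lTensor_exact K hexact hsurj x).1 h0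
      rw [← hw]
      clear hw h0 hx
      induction w using TensorProduct.induction_on with
      | zero => rw [map_zero]; exact zero_mem _
      | tmul c y =>
        rw [LinearMap.lTensor_tmul, Submodule.coe_subtype,
          show c ⊗ₜ[k] (y : A) = (c ⊗ₜ[k] (1 : A)) * algebraMap A (K ⊗[k] A) y by
            show _ = _ * ((1 : K) ⊗ₜ[k] (y : A))
            rw [Algebra.TensorProduct.tmul_mul_tmul, mul_one, one_mul]]
        exact Ideal.mul_mem_left _ _ (Ideal.mem_map_of_mem _ y.2)
      | add u v hu hv => rw [map_add]; exact add_mem hu hv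
    · refine Ideal.map_le_iff_le_comap.2 fun y hy => ?_
      have hy' : π y = 0 := by rw [← RingHom.mem_ker, hπ]; exact hy
      show τ ((1 : K) ⊗ₜ[k] y) = 0
      simp [τ, hy']
  have hmax : IsLocalRing.maximalIdeal L = m.map (algebraMap A L) := by
    rw [IsScalarTower.algebraMap_eq A (K ⊗[k] A) L, ← Ideal.map_map, ← hkerP, IsLocalization.AtPrime.map_eq_maximalIdeal]
  haveI : IsLocalHom (algebraMap A L) := ⟨fun a ha => by
    by_contra h
    have : algebraMap A L a ∈ IsLocalRing.maximalIdeal L := hmax ▸ Ideal.mem_map_of_mem _ h
    exact this ha⟩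
  constructor
  · intro hreg
    haveI := hreg
    refine IsRegularLocalRing.of_spanFinrank_maximalIdeal_le L ?_
    have h1 := Groth.Agent.FlatLocalDepth.ringKrullDim_eq_add A L
    rw [show (IsLocalRing.maximalIdeal A).map (algebraMap A L) = IsLocalRing.maximalIdeal L from hmax.symm,
      ringKrullDim_eq_zero_of_isField (Ideal.Quotient.maximal_ideal_iff_isField_quotient _ |>.1 inferInstance), add_zero] at h1
    rw [h1, ← (isRegularLocalRing_iff A).1 hreg, Nat.cast_le]
    rw [hmax]
    exact Ideal.spanFinrank_map_le_of_fg (algebraMap A L) (Ideal.fg_of_isNoetherianRing _)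
  · intro hreg
    haveI := hreg
    exact Groth.Agent.S0565.result A L

end Groth.Agent.S15595
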