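import Groth.Statements.S15596
import Groth.Agent.GrpSch.Points

set_option autoImplicit false
universe u
open CategoryTheory MonoidalCategory CartesianMonoidalCategory MonObj GrpObj AlgebraicGeometry
open AlgGrp

namespace Groth.Agent.S15596

/-- Let k be an algebraically closed field, H a smooth k-group scheme of finite type, and U a dense open
subset of H. Then every k-rational point h of H is of the form u₂ · u₁⁻¹ for k-rational points u₁,
u₂ of H whose underlying points lie in U. -/
theorem result (k : Type u) [Field k] [IsAlgClosed k]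
    (H : Over (Spec (CommRingCat.of k))) [GrpObj H] [Smooth H.hom] [QuasiCompact H.hom]
    (U : H.left.Opens) (hU : Dense (U : Set ↥H.left)) (h : 𝟙_ (Over (Spec (CommRingCat.of k))) ⟶ H) :
    ∃ u₁ u₂ : 𝟙_ (Over (Spec (CommRingCat.of k))) ⟶ H,
      u₁.left.base (IsLocalRing.closedPoint k) ∈ U ∧ u₂.left.base (IsLocalRing.closedPoint k) ∈ U ∧
        h = u₂ * u₁⁻¹ := by
  obtain ⟨u, hu₂, hu₁⟩ : ∃ u : 𝟙_ _ ⟶ H, u.left (IsLocalRing.closedPoint k) ∈ (U : Set H.left) ∧
      (u ≫ (Groth.Agent.GrpSch.translate h).inv).left (IsLocalRing.closedPoint k) ∈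
        (U : Set H.left) := by
    set e := Groth.Agent.GrpSch.translate h
    have hne : ((U : Set H.left) ∩ e.inv.left ⁻¹' U).Nonempty :=
      (hU.preimage (Groth.Agent.GrpSch.isOpenMap_iso e.symm)).inter_open_nonempty _ U.2
        (have : Nonempty H.left := ⟨η[H].left (IsLocalRing.closedPoint k)⟩; hU.nonempty)
    obtain ⟨p, hp⟩ := Groth.Agent.GrpSch.exists_ratPoint_mem H
      (U.2.inter (U.2.preimage e.inv.left.continuous)) hne
    exact ⟨p, hp.1, hp.2⟩
  refine ⟨u ≫ (Groth.Agent.GrpSch.translate h).inv, u, hu₁, hu₂, ?_⟩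
  rw [Groth.Agent.GrpSch.comp_translate_inv, toUnit_unique (toUnit (𝟙_ _)) (𝟙 _), Category.id_comp]
  simp

end Groth.Agent.S15596
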