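import Mathlib
import Groth.Agent.GeomRedAt.Basic
import Groth.Statements.S1560
-- import your own Groth.Agent.* helpers here

set_option autoImplicit false
set_option backward.isDefEq.respectTransparency false
set_option backward.isDefEq.respectTransparency.types false
universe u
open TensorProduct
open CategoryTheory CategoryTheory.Limits AlgebraicGeometry
open Variety

namespace Groth.Agent.S1560

theorem chart (k : Type u) [Field k] (X : Scheme.{u}) [X.Over (Spec (CommRingCat.of k))] (x : X) :
    ∃ (A : CommRingCat.{u}) (_ : Algebra k A) (j : Spec A ⟶ X) (p : PrimeSpectrum A), IsOpenImmersion j ∧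
      j ≫ (X ↘ Spec (CommRingCat.of k)) = Spec.map (CommRingCat.ofHom (algebraMap k A)) ∧ j p = x ∧
      (Curv2.IsGeomReducedAt k X x ↔ Algebra.IsGeometricallyReduced k (Localization.AtPrime p.asIdeal)) := by
  obtain ⟨A, hA, j, hjo, hj, p, rfl⟩ := Groth.Agent.GeomRedAt.exists_chart (X ↘ Spec (CommRingCat.of k)) x
  exact ⟨A, hA, j, p, hjo, hj, rfl, Groth.Agent.GeomRedAt.isGeomReducedAt_iff (X ↘ Spec (CommRingCat.of k)) j hj p⟩

/-- Let X be a scheme over a perfect field k and x a point whose local ring is reduced. Then X is
geometrically reduced at x. -/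
theorem result (k : Type u) [Field k] (X : Scheme.{u}) [X.Over (Spec (CommRingCat.of k))] [PerfectField k] (x : X)
    [IsReduced (X.presheaf.stalk x)] : Curv2.IsGeomReducedAt k X x := by
  obtain ⟨A, _, j, p, _, hj, hp, hiff⟩ := chart k X x
  rw [hiff]
  obtain ⟨e⟩ := Groth.Agent.GeomRedAt.exists_stalkEquiv j p
  haveI : _root_.IsReduced (Localization.AtPrime p.asIdeal) := by
    haveI : _root_.IsReduced (X.presheaf.stalk (j p)) := hp.symm ▸ ‹_root_.IsReduced (X.presheaf.stalk x)›
    exact isReduced_of_injective e.symm e.symm.injective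
  haveI : _root_.IsReduced (k ⊗[k] Localization.AtPrime p.asIdeal) :=
    isReduced_of_injective (Algebra.TensorProduct.lid k _) (Algebra.TensorProduct.lid k _).injective
  exact Groth.Agent.RegLocus.geomReduced_of_perfect k k (Localization.AtPrime p.asIdeal)

end Groth.Agent.S1560
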