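import Groth.Statements.S15602
import Groth.Agent.GrpSch.AffineLine

set_option autoImplicit false
universe u
open CategoryTheory MonoidalCategory CartesianMonoidalCategory MonObj GrpObj AlgebraicGeometry
open AlgGrp

namespace Groth.Agent.S15602

/-- Additive case. Let k be a field and consider the affine line over k, taken here as the underlying
k-scheme of the additive group. Any two structures of k-group scheme on it with the same unit
section have the same multiplication; in particular a group law on the affine line whose identity is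
the origin is the usual addition. -/
theorem result (k : Type u) [Field k]
    (h₁ h₂ : GrpObj (Red.Ga (Spec (CommRingCat.of k)))) (e : h₁.one = h₂.one) : h₁.mul = h₂.mul := by
  letI : Algebra (ULift.{u} ℤ) k := ((Int.castRingHom k).comp ULift.ringEquiv.toRingHom).toAlgebra
  letI : Module (ULift.{u} ℤ) k := Algebra.toModule
  let q : Spec (CommRingCat.of k) ⟶ Spec (CommRingCat.of (ULift.{u} ℤ)) := Spec.map (CommRingCat.ofHom (algebraMap (ULift.{u} ℤ) k))
  have hq : Limits.IsTerminal.from specULiftZIsTerminal (Spec (CommRingCat.of k)) = q :=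
    specULiftZIsTerminal.hom_ext _ _
  let ψ : SymmetricAlgebra (ULift.{u} ℤ) (ULift.{u} ℤ) ≃ₐ[ULift.{u} ℤ] Polynomial (ULift.{u} ℤ) :=
    (SymmetricAlgebra.equivMvPolynomial (Module.Basis.singleton PUnit.{u+1} (ULift.{u} ℤ))).trans
      (MvPolynomial.uniqueAlgEquiv (ULift.{u} ℤ) PUnit.{u+1})
  let i0 : Spec (CommRingCat.of (SymmetricAlgebra (ULift.{u} ℤ) (ULift.{u} ℤ))) ≅ Spec (CommRingCat.of (Polynomial (ULift.{u} ℤ))) :=
    Scheme.Spec.mapIso ψ.toRingEquiv.toCommRingCatIso.symm.op
  let f₂ : Spec (CommRingCat.of (Polynomial (ULift.{u} ℤ))) ⟶ Spec (CommRingCat.of (ULift.{u} ℤ)) :=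
    Spec.map (CommRingCat.ofHom (algebraMap (ULift.{u} ℤ) (Polynomial (ULift.{u} ℤ))))
  have hf : Spec.map (CommRingCat.ofHom (algebraMap (ULift.{u} ℤ) (SymmetricAlgebra (ULift.{u} ℤ) (ULift.{u} ℤ)))) = i0.hom ≫ f₂ :=
    specULiftZIsTerminal.hom_ext _ _
  let m : (Red.Ga (Spec (CommRingCat.of k))).left ⟶ Limits.pullback f₂ q :=
    Limits.pullback.map _ _ _ _ i0.hom (𝟙 _) (𝟙 _) (by rw [Category.comp_id]; exact hf) (by rw [Category.comp_id, Category.id_comp]; exact hq)
  haveI : IsIso m := Limits.pullback.map_isIso _ _ _ _ _ _ _ _ _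
  let φ : TensorProduct (ULift.{u} ℤ) k (Polynomial (ULift.{u} ℤ)) ≃ₐ[k] Polynomial k :=
    (polyEquivTensor' (ULift.{u} ℤ) k).symm
  let eI : (Red.Ga (Spec (CommRingCat.of k))).left ≅ Spec (CommRingCat.of (Polynomial k)) :=
    asIso m ≪≫ Limits.pullbackSymmetry _ _ ≪≫ pullbackSpecIso (ULift.{u} ℤ) k (Polynomial (ULift.{u} ℤ)) ≪≫
      Scheme.Spec.mapIso φ.toRingEquiv.toCommRingCatIso.symm.op
  have he : eI.hom ≫ Spec.map (CommRingCat.ofHom (algebraMap k (Polynomial k))) =
      (Red.Ga (Spec (CommRingCat.of k))).hom := by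
    have h1 : Spec.map φ.toRingEquiv.toCommRingCatIso.inv ≫ Spec.map (CommRingCat.ofHom (algebraMap k (Polynomial k))) =
        Spec.map (CommRingCat.ofHom (R := k) (S := TensorProduct (ULift.{u} ℤ) k (Polynomial (ULift.{u} ℤ))) (algebraMap k (TensorProduct (ULift.{u} ℤ) k (Polynomial (ULift.{u} ℤ))))) := by
      rw [← Spec.map_comp]
      congr 1
      ext r
      exact φ.symm.commutes r
    simp only [eI, Iso.trans_hom, Category.assoc, Functor.mapIso_hom, Iso.op_hom, Iso.symm_hom, asIso_hom]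
    erw [h1, pullbackSpecIso_hom_fst', Limits.pullbackSymmetry_hom_comp_fst, Limits.pullback.lift_snd]
    exact Category.comp_id _
  exact Groth.Agent.GrpSch.AffineLine.mul_eq _ eI he h₁ h₂ e

end Groth.Agent.S15602
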