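import Groth.Statements.S15603
import Groth.Agent.GrpSch.Punctured

set_option autoImplicit false
universe u
open CategoryTheory MonoidalCategory CartesianMonoidalCategory MonObj GrpObj AlgebraicGeometry
open AlgGrp

namespace Groth.Agent.S15603

/-- Multiplicative case. Let k be a field and consider the affine line minus the origin over k, taken
here as the underlying k-scheme of the multiplicative group. Any two structures of k-group scheme on
it with the same unit section have the same multiplication; in particular a group law on the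
punctured line whose identity is the point 1 is the usual multiplication. -/
theorem result (k : Type u) [Field k]
    (h₁ h₂ : GrpObj (Red.Gm (Spec (CommRingCat.of k)))) (e : h₁.one = h₂.one) : h₁.mul = h₂.mul := by
  letI : Algebra (ULift.{u} ℤ) k := ((Int.castRingHom k).comp ULift.ringEquiv.toRingHom).toAlgebra
  letI : Module (ULift.{u} ℤ) k := Algebra.toModule
  let q : Spec (CommRingCat.of k) ⟶ Spec (CommRingCat.of (ULift.{u} ℤ)) := Spec.map (CommRingCat.ofHom (algebraMap (ULift.{u} ℤ) k))
  have hq : Limits.IsTerminal.from specULiftZIsTerminal (Spec (CommRingCat.of k)) = q :=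
    specULiftZIsTerminal.hom_ext _ _
  let φ : TensorProduct (ULift.{u} ℤ) k (MonoidAlgebra (ULift.{u} ℤ) (Multiplicative ℤ)) ≃ₐ[k] LaurentPolynomial k :=
    (MonoidAlgebra.scalarTensorEquiv (ULift.{u} ℤ) k).trans (AddMonoidAlgebra.toMultiplicativeAlgEquiv k k ℤ).symm
  let eI : (Red.Gm (Spec (CommRingCat.of k))).left ≅ Spec (CommRingCat.of (LaurentPolynomial k)) :=
    Limits.pullback.congrHom (f₂ := Spec.map (CommRingCat.ofHom (algebraMap (ULift.{u} ℤ) (MonoidAlgebra (ULift.{u} ℤ) (Multiplicative ℤ))))) (g₂ := q) rfl hq ≪≫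
      Limits.pullbackSymmetry _ _ ≪≫ pullbackSpecIso (ULift.{u} ℤ) k (MonoidAlgebra (ULift.{u} ℤ) (Multiplicative ℤ)) ≪≫
      Scheme.Spec.mapIso φ.toRingEquiv.toCommRingCatIso.symm.op
  have he : eI.hom ≫ Spec.map (CommRingCat.ofHom (algebraMap k (LaurentPolynomial k))) =
      (Red.Gm (Spec (CommRingCat.of k))).hom := by
    have h1 : Spec.map φ.toRingEquiv.toCommRingCatIso.inv ≫ Spec.map (CommRingCat.ofHom (algebraMap k (LaurentPolynomial k))) =
        Spec.map (CommRingCat.ofHom (R := k) (S := TensorProduct (ULift.{u} ℤ) k (MonoidAlgebra (ULift.{u} ℤ) (Multiplicative ℤ))) (algebraMap k (TensorProduct (ULift.{u} ℤ) k (MonoidAlgebra (ULift.{u} ℤ) (Multiplicative ℤ))))) := by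
      rw [← Spec.map_comp]
      congr 1
      ext r
      exact φ.symm.commutes r
    simp only [eI, Iso.trans_hom, Category.assoc, Functor.mapIso_hom, Iso.op_hom, Iso.symm_hom]
    erw [h1, pullbackSpecIso_hom_fst', Limits.pullbackSymmetry_hom_comp_fst, Limits.pullback.lift_snd]
    exact Category.comp_id _
  exact Groth.Agent.GrpSch.Punctured.mul_eq _ eI he h₁ h₂ e

end Groth.Agent.S15603
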