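import Groth.Statements.S15605
import Mathlib

set_option autoImplicit false
universe u
open TensorProduct
open AGF

namespace Groth.Agent.S15605

open scoped TensorProduct

/-- Affine form. Let k be a field, A and A' finitely generated commutative k-algebras and S, S' sets of
k-algebra homomorphisms A → k, A' → k. The closure of a set of rational points of Spec A is cut out
by the intersection of their kernels. Compatibility of these closures with products: in A ⊗_k A',
the intersection over (σ, σ') ∈ S × S' of the kernels of σ ⊗ σ' : A ⊗_k A' → k equals the ideal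
generated by the images of ⋂_{σ} ker σ and of ⋂_{σ'} ker σ'. -/
theorem result (k A A' : Type u) [Field k] [CommRing A] [Algebra k A]
    [Algebra.FiniteType k A] [CommRing A'] [Algebra k A'] [Algebra.FiniteType k A']
    (S : Set (A →ₐ[k] k)) (S' : Set (A' →ₐ[k] k)) :
    (⨅ σ ∈ S, ⨅ σ' ∈ S', RingHom.ker ((Algebra.TensorProduct.lmul' (S := k) k).comp
        (Algebra.TensorProduct.map σ σ'))) =
      Ideal.map (Algebra.TensorProduct.includeLeft : A →ₐ[k] A ⊗[k] A') (⨅ σ ∈ S, RingHom.ker σ) ⊔
        Ideal.map (Algebra.TensorProduct.includeRight : A' →ₐ[k] A ⊗[k] A') (⨅ σ' ∈ S', RingHom.ker σ') := by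
  classical
  set I : Ideal A := ⨅ σ ∈ S, RingHom.ker σ with hI
  set I' : Ideal A' := ⨅ σ' ∈ S', RingHom.ker σ' with hI'
  let π : A →ₐ[k] A ⧸ I := Ideal.Quotient.mkₐ k I
  let π' : A' →ₐ[k] A' ⧸ I' := Ideal.Quotient.mkₐ k I'
  have hk : RingHom.ker π = I := Ideal.Quotient.mkₐ_ker k I
  have hk' : RingHom.ker π' = I' := Ideal.Quotient.mkₐ_ker k I'
  have hT := Algebra.TensorProduct.map_ker π π' (Ideal.Quotient.mkₐ_surjective k I) (Ideal.Quotient.mkₐ_surjective k I')
  rw [hk, hk'] at hT
  rw [← hT]
  have hle : ∀ σ ∈ S, ∀ a ∈ I, σ a = 0 := fun σ hσ a ha => by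
    simp only [hI, Submodule.mem_iInf] at ha
    exact ha σ hσ
  have hle' : ∀ σ ∈ S', ∀ a ∈ I', σ a = 0 := fun σ hσ a ha => by
    simp only [hI', Submodule.mem_iInf] at ha
    exact ha σ hσ
  apply le_antisymm
  · intro x hx
    rw [RingHom.mem_ker]
    simp only [Submodule.mem_iInf, RingHom.mem_ker] at hx
    let b := Module.Basis.ofVectorSpace k (A ⧸ I)
    set z := Algebra.TensorProduct.map π π' x with hz
    obtain ⟨c, hc⟩ := (TensorProduct.equivFinsuppOfBasisLeft b (N := A' ⧸ I')).symm.surjective z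
    rw [TensorProduct.equivFinsuppOfBasisLeft_symm_apply] at hc
    suffices hc0 : c = 0 by rw [← hc, hc0, Finsupp.sum_zero_index]
    ext i
    obtain ⟨a', ha'⟩ := Ideal.Quotient.mkₐ_surjective k I' (c i)
    rw [Finsupp.zero_apply, ← ha', Ideal.Quotient.mkₐ_eq_mk, Ideal.Quotient.eq_zero_iff_mem, hI']
    simp only [Submodule.mem_iInf, RingHom.mem_ker]
    intro σ' hσ'
    let s' : A' ⧸ I' →ₐ[k] k := Ideal.Quotient.liftₐ I' σ' (hle' σ' hσ')
    have key : ∑ j ∈ c.support, s' (c j) • b j = 0 := by
      obtain ⟨a, ha⟩ := Ideal.Quotient.mkₐ_surjective k I (∑ j ∈ c.support, s' (c j) • b j)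
      rw [← ha, Ideal.Quotient.mkₐ_eq_mk, Ideal.Quotient.eq_zero_iff_mem, hI]
      simp only [Submodule.mem_iInf, RingHom.mem_ker]
      intro σ hσ
      let s : A ⧸ I →ₐ[k] k := Ideal.Quotient.liftₐ I σ (hle σ hσ)
      have h1 : σ a = s (∑ j ∈ c.support, s' (c j) • b j) := by rw [← ha]; rfl
      have h2 : ((Algebra.TensorProduct.lmul' (S := k) k).comp (Algebra.TensorProduct.map s s')) z = 0 := by
        rw [hz]
        have h3 := hx σ hσ σ' hσ'
        have e : ((Algebra.TensorProduct.lmul' (S := k) k).comp (Algebra.TensorProduct.map s s')).comp (Algebra.TensorProduct.map π π') =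
            (Algebra.TensorProduct.lmul' (S := k) k).comp (Algebra.TensorProduct.map σ σ') := by
          ext u <;> simp [s, s', π, π']
        rw [← e] at h3
        exact h3
      rw [h1, ← h2, ← hc, Finsupp.sum, map_sum, map_sum]
      refine Finset.sum_congr rfl fun j _ => ?_
      rw [map_smul, smul_eq_mul, AlgHom.comp_apply, Algebra.TensorProduct.map_tmul, Algebra.TensorProduct.lmul'_apply_tmul, mul_comm]
    have hli := linearIndependent_iff'.1 b.linearIndependent c.support _ key
    have hgoal : s' (c i) = 0 := by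
      by_cases hi : i ∈ c.support
      · exact hli i hi
      · rw [Finsupp.notMem_support_iff.1 hi, map_zero]
    rw [← ha'] at hgoal
    exact hgoal
  · rw [hT]
    refine sup_le ?_ ?_
    · rw [Ideal.map_le_iff_le_comap]
      intro a ha
      simp only [Ideal.mem_comap, Submodule.mem_iInf, RingHom.mem_ker]
      intro σ hσ σ' hσ'
      simp [hle σ hσ a ha]
    · rw [Ideal.map_le_iff_le_comap]
      intro a ha
      simp only [Ideal.mem_comap, Submodule.mem_iInf, RingHom.mem_ker]
      intro σ hσ σ' hσ'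
      simp [hle' σ' hσ' a ha]

end Groth.Agent.S15605
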