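import Groth.Statements.S15606
import Groth.Agent.S15180
import Groth.Agent.GrpSch.AffineQuot
import Groth.Agent.GrpSch.FlatHom
import Groth.Agent.SmoothReduced.Basic

set_option autoImplicit false
universe u
open CategoryTheory MonoidalCategory CartesianMonoidalCategory MonObj GrpObj AlgebraicGeometry
open AlgGrp

namespace Groth.Agent.S15606

/-- Additive case. Let k be a field, H an affine smooth connected k-group scheme, and f a homomorphism
from the additive group over k to H which is finite and surjective (an isogeny onto H). Then H is
isomorphic, as a k-group scheme, to the additive group. In particular every quotient of the additive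
group by a finite k-subgroup scheme is isomorphic to the additive group over k itself, for any field
k. -/
theorem result (k : Type u) [Field k]
    (H : Over (Spec (CommRingCat.of k))) [GrpObj H] [IsAffine H.left] [Smooth H.hom] [ConnectedSpace ↥H.left]
    (f : Red.Ga (Spec (CommRingCat.of k)) ⟶ H) [IsMonHom f] [IsFinite f.left] [Surjective f.left] :
    Nonempty (Grp.mk H ≅ Grp.mk (Red.Ga (Spec (CommRingCat.of k)))) := by
  haveI : IsReduced H.left := Groth.Agent.SmoothReduced.isReduced_of_smooth_scheme H.hom
  haveI : IsSeparated H.hom := Groth.Agent.GrpSch.SepPoints.isSeparated_grp H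
  haveI : IsClosedImmersion η[H].left := isClosedImmersion_of_comp_eq_id H.hom η[H].left (Over.w η[H])
  haveI : Flat f.left := Groth.Agent.GrpSch.flat_hom_of_isReduced f
  have h0 : IsPullback (Limits.pullback.fst f η[H]) (toUnit _) f η[H] := by
    have h := IsPullback.of_hasPullback f η[H]
    rwa [toUnit_unique (Limits.pullback.snd f η[H]) (toUnit _)] at h
  haveI : IsClosedImmersion (Limits.pullback.fst f η[H]).left :=
    MorphismProperty.of_isPullback (P := @IsClosedImmersion) (Groth.Agent.GrpSch.isPullback_left h0).flip inferInstance
  haveI : Mono (Limits.pullback.fst f η[H]) := (Over.forget _).mono_of_mono_map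
    (show Mono (Limits.pullback.fst f η[H]).left from inferInstance)
  haveI : IsFinite (Limits.pullback f η[H]).hom := by
    have h1 : IsFinite (toUnit (Limits.pullback f η[H])).left :=
      MorphismProperty.of_isPullback (P := @IsFinite) (Groth.Agent.GrpSch.isPullback_left h0) ‹IsFinite f.left›
    rwa [show (toUnit (Limits.pullback f η[H])).left = (Limits.pullback f η[H]).hom from
      (Category.comp_id _).symm.trans (Over.w _)] at h1
  obtain ⟨hg, hn⟩ := Groth.Agent.GrpSch.exists_grpObj_of_isKernel h0
  obtain ⟨φ, hφ, hker, hφf, hφs⟩ := Groth.Agent.S15180.result k (Red.Ga (Spec (CommRingCat.of k))) _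
    (Or.inl ⟨Iso.refl _⟩) (Limits.pullback.fst f η[H])
  haveI := hφ; haveI := hφf; haveI := hφs
  let A := Red.Ga (Spec (CommRingCat.of k))
  haveI : LocallyOfFiniteType (f.left ≫ H.hom) := inferInstance
  haveI : LocallyOfFiniteType A.hom := by rw [← Over.w f]; infer_instance
  haveI : IsLocallyNoetherian A.left := LocallyOfFiniteType.isLocallyNoetherian A.hom
  haveI : IsLocallyNoetherian H.left := LocallyOfFiniteType.isLocallyNoetherian H.hom
  haveI : LocallyOfFiniteType (φ.left ≫ A.hom) := by rw [Over.w φ]; infer_instance
  haveI : LocallyOfFiniteType φ.left := locallyOfFiniteType_of_comp φ.left A.hom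
  haveI : LocallyOfFiniteType f.left := locallyOfFiniteType_of_comp f.left H.hom
  obtain ⟨e, he⟩ := Groth.Agent.GrpSch.AffineQuot.exists_iso_of_isKernel _ f φ h0 hker
  haveI : IsMonHom (f ≫ e.hom) := by rw [he]; infer_instance
  haveI : QuasiCompact f.left := inferInstance
  haveI : Epi (f ⊗ₘ f) := Groth.Agent.GrpSch.Desc.epi_tensor_of_flat f
  haveI : IsMonHom e.hom := Groth.Agent.GrpSch.Desc.isMonHom_of_epi f e.hom
  exact ⟨Grp.mkIso' e⟩

end Groth.Agent.S15606
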