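import Groth.Statements.S15607
import Groth.Agent.S15180
import Groth.Agent.GrpSch.AffineQuot
import Groth.Agent.GrpSch.FlatHom
import Groth.Agent.GrpSch.GmIsogeny
import Groth.Agent.GrpSch.Neutral
import Groth.Agent.HopfLib.DeligneScheme

set_option backward.isDefEq.respectTransparency.types false

set_option autoImplicit false
universe u
open CategoryTheory MonoidalCategory CartesianMonoidalCategory MonObj GrpObj AlgebraicGeometry
open AlgGrp

namespace Groth.Agent.S15607

/-- Multiplicative case. Let k be a field, H a smooth connected k-group scheme, and f a homomorphism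
from H to the multiplicative group over k which is finite and surjective (an isogeny). Then H is
isomorphic, as a k-group scheme, to the multiplicative group: a smooth connected k-group isogenous
to the multiplicative group over k is the split one-dimensional torus. -/
theorem result (k : Type u) [Field k]
    (H : Over (Spec (CommRingCat.of k))) [GrpObj H] [Smooth H.hom] [ConnectedSpace ↥H.left]
    (f : H ⟶ Red.Gm (Spec (CommRingCat.of k))) [IsMonHom f] [IsFinite f.left] [Surjective f.left] :
    Nonempty (Grp.mk H ≅ Grp.mk (Red.Gm (Spec (CommRingCat.of k)))) := by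
  let A := Red.Gm (Spec (CommRingCat.of k))
  have : IsCommMonObj H := GrpSch.GmIsogeny.isCommMonObj_of_isFinite H A f
  have : AlgebraicGeometry.IsReduced H.left := GrpSch.isReduced_of_smooth H
  have : IsAffine (Red.diag (ULift.{u} ℤ) ℤ).left := inferInstanceAs (IsAffine (Spec _))
  have : IsAffineHom A.hom := MorphismProperty.pullback_snd (P := @IsAffineHom) _ _ (isAffineHom_of_isAffine _)
  have : LocallyOfFiniteType A.hom := by
    refine MorphismProperty.pullback_snd (P := @LocallyOfFiniteType) _ _ ?_
    change LocallyOfFiniteType (Spec.map _)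
    exact (HasRingHomProperty.Spec_iff (P := @LocallyOfFiniteType)).2
      (RingHom.finiteType_algebraMap.2 inferInstance)
  have : QuasiCompact H.hom := by rw [← Over.w f]; infer_instance
  have : QuasiCompact A.hom := inferInstance
  have : AlgebraicGeometry.IsReduced A.left := GrpSch.GmIsogeny.isReduced_gm k
  have : IsClosedImmersion η[A].left := isClosedImmersion_of_comp_eq_id A.hom η[A].left (Over.w η[A])
  have : IsClosedImmersion η[H].left := isClosedImmersion_of_comp_eq_id H.hom η[H].left (Over.w η[H])
  let N := Limits.pullback f η[A]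
  let i : N ⟶ H := Limits.pullback.fst f η[A]
  have h0 : IsPullback i (toUnit N) f η[A] := by
    have h := IsPullback.of_hasPullback f η[A]
    rwa [toUnit_unique (Limits.pullback.snd f η[A]) (toUnit _)] at h
  have : IsClosedImmersion i.left :=
    MorphismProperty.of_isPullback (P := @IsClosedImmersion) (GrpSch.isPullback_left h0).flip inferInstance
  have : Mono i := (Over.forget _).mono_of_mono_map (inferInstanceAs (Mono i.left))
  have : IsFinite N.hom := by
    have h1 : IsFinite (toUnit N).left :=
      MorphismProperty.of_isPullback (P := @IsFinite) (GrpSch.isPullback_left h0) ‹IsFinite f.left›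
    rwa [show (toUnit N).left = N.hom from (Category.comp_id _).symm.trans (Over.w _)] at h1
  obtain ⟨hgN, hiN⟩ := GrpSch.exists_grpObj_of_isKernel h0
  have : IsCommMonObj N := ⟨by
    rw [← cancel_mono i, Category.assoc, IsMonHom.mul_hom, ← Category.assoc,
      show (β_ N N).hom ≫ (i ⊗ₘ i) = (i ⊗ₘ i) ≫ (β_ H H).hom from (BraidedCategory.braiding_naturality i i).symm,
      Category.assoc, IsCommMonObj.mul_comm]⟩
  have : IsLocallyNoetherian (Spec (CommRingCat.of k)) := inferInstance
  have : Flat N.hom := inferInstance
  have : LocallyOfFinitePresentation N.hom := inferInstance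
  let p : Spec (CommRingCat.of k) := IsLocalRing.closedPoint k
  let n := N.hom.finrank p
  have hn : ∀ y, N.hom.finrank y = n := fun y => by
    rw [Subsingleton.elim (α := PrimeSpectrum k) y p]
  have hsN : Surjective N.hom := ⟨fun y => ⟨η[N].left y, by
    rw [← Scheme.Hom.comp_apply, Over.w η[N]]; rfl⟩⟩
  have hn0 : n ≠ 0 := Nat.one_le_iff_ne_zero.1 ((Scheme.Hom.one_le_finrank_iff_surjective N.hom).2 hsN p)
  have hkill : i ^ n = 1 := by
    have := map_pow (IsMonHom.monoidHom i N) (𝟙 N) n
    simp only [HopfLib.pow_rank_eq_one N n hn, map_one] at this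
    simpa using this.symm
  have : Flat f.left := GrpSch.flat_hom_of_isReduced f
  have : QuasiCompact f.left := inferInstance
  have hker : ∀ (T : Over (Spec (CommRingCat.of k))) (x y : T ⟶ H),
      x ≫ f = y ≫ f → x ≫ (𝟙 H : H ⟶ H) ^ n = y ≫ (𝟙 H : H ⟶ H) ^ n := by
    intro T x y hxy
    obtain ⟨c, hc⟩ : ∃ c : T ⟶ N, c ≫ i = x⁻¹ * y := (GrpSch.isKernel_factors_iff h0 _).2 (by
      rw [MonObj.mul_comp (g := f), GrpSch.inv_comp_of_isMonHom x f, hxy, inv_mul_cancel])
    have h1 : (x⁻¹ * y) ^ n = 1 := by rw [← hc, ← MonObj.comp_pow, hkill, MonObj.comp_one]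
    rw [_root_.mul_pow, inv_pow, inv_mul_eq_one] at h1
    simpa [MonObj.comp_pow] using h1
  obtain ⟨g, hg, -⟩ := GrpSch.Desc.exists_desc f ((𝟙 H : H ⟶ H) ^ n) hker
  have hmon : ∀ (M : Over (Spec (CommRingCat.of k))) [GrpObj M] [IsCommMonObj M],
      IsMonHom ((𝟙 M : M ⟶ M) ^ n) := fun M _ _ => by
    rw [← zpow_natCast]
    exact GrpSch.TangentMul.isMonHom_zpow M n
  have : Epi (f ⊗ₘ f) := GrpSch.Desc.epi_tensor_of_flat f
  have : IsMonHom (f ≫ g) := hg ▸ hmon H
  have : IsMonHom g := GrpSch.Desc.isMonHom_of_epi f g
  have : Epi f := GrpSch.Desc.epi_of_effectiveEpi_left f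
  have hgf : g ≫ f = (𝟙 A : A ⟶ A) ^ n := by
    rw [← cancel_epi f, ← Category.assoc, hg, MonObj.comp_pow, Category.comp_id]
    have := map_pow (IsMonHom.monoidHom f H) (𝟙 H) n
    simpa using this
  obtain ⟨hpf, hps⟩ := GrpSch.GmIsogeny.isFinite_surjective_pow k n hn0
  have hgff : IsFinite (g.left ≫ f.left) := by rw [← Over.comp_left, hgf]; exact hpf
  have hgfs : Surjective (g.left ≫ f.left) := by rw [← Over.comp_left, hgf]; exact hps
  have : IsFinite g.left := IsFinite.of_comp g.left f.left
  have : IrreducibleSpace H.left := GrpSch.irreducibleSpace_of_connectedSpace H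
  have : Surjective g.left := by
    refine ⟨Set.range_eq_univ.1 (Set.eq_univ_of_univ_subset ?_)⟩
    obtain ⟨a, ha⟩ := hgfs.surj (f.left (genericPoint H.left))
    rw [Scheme.Hom.comp_apply] at ha
    have hxi : genericPoint H.left = g.left a :=
      (f.left.isDiscrete_preimage_singleton _).eq_of_specializes (genericPoint_specializes _)
        (show f.left (genericPoint H.left) ∈ ({f.left (genericPoint H.left)} : Set _) from rfl)
        (show f.left (g.left a) ∈ ({f.left (genericPoint H.left)} : Set _) from ha)
    rw [← genericPoint_closure]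
    exact g.left.isClosedMap.isClosed_range.closure_subset_iff.2
      (Set.singleton_subset_iff.2 ⟨a, hxi.symm⟩)
  have : Flat g.left := GrpSch.flat_hom_of_isReduced g
  have h1 : IsPullback (Limits.pullback.fst g η[H]) (toUnit _) g η[H] := by
    have h := IsPullback.of_hasPullback g η[H]
    rwa [toUnit_unique (Limits.pullback.snd g η[H]) (toUnit _)] at h
  have : IsClosedImmersion (Limits.pullback.fst g η[H]).left :=
    MorphismProperty.of_isPullback (P := @IsClosedImmersion) (GrpSch.isPullback_left h1).flip inferInstance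
  have : Mono (Limits.pullback.fst g η[H]) := (Over.forget _).mono_of_mono_map
    (inferInstanceAs (Mono (Limits.pullback.fst g η[H]).left))
  have : IsFinite (Limits.pullback g η[H]).hom := by
    have h2 : IsFinite (toUnit (Limits.pullback g η[H])).left :=
      MorphismProperty.of_isPullback (P := @IsFinite) (GrpSch.isPullback_left h1) ‹IsFinite g.left›
    rwa [show (toUnit (Limits.pullback g η[H])).left = (Limits.pullback g η[H]).hom from
      (Category.comp_id _).symm.trans (Over.w _)] at h2
  obtain ⟨hgK, hiK⟩ := GrpSch.exists_grpObj_of_isKernel h1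
  obtain ⟨φ, hφ, hkφ, hφf, hφs⟩ := S15180.result k A _ (Or.inr ⟨Iso.refl _⟩) (Limits.pullback.fst g η[H])
  have : QuasiCompact g.left := inferInstance
  have : IsLocallyNoetherian A.left := LocallyOfFiniteType.isLocallyNoetherian A.hom
  have : QuasiCompact φ.left := by
    have : QuasiCompact (φ.left ≫ A.hom) := by rw [Over.w φ]; infer_instance
    exact QuasiCompact.of_comp φ.left A.hom
  obtain ⟨e, he⟩ := GrpSch.AffineQuot.exists_iso_of_isKernel _ g φ h1 hkφ
  have : IsMonHom (g ≫ e.hom) := by rw [he]; infer_instance
  have : Epi (g ⊗ₘ g) := GrpSch.Desc.epi_tensor_of_flat g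
  have : IsMonHom e.hom := GrpSch.Desc.isMonHom_of_epi g e.hom
  exact ⟨Grp.mkIso' e⟩

end Groth.Agent.S15607
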