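import Groth.Statements.S15608
import Groth.Agent.GrpSch.DenseRational
import Groth.Agent.GrpSch.Smooth
import Groth.Agent.GrpSch.Cat
import Groth.Agent.GrpSch.FieldTop

set_option autoImplicit false
universe u
open CategoryTheory MonoidalCategory CartesianMonoidalCategory MonObj GrpObj AlgebraicGeometry
open AlgGrp

namespace Groth.Agent.S15608

/-- Let k be a field, G a smooth k-group scheme of finite type and Σ a subgroup of the abstract group
G(k) of k-rational points. Then the Zariski closure of Σ in G, with its reduced structure, is a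
smooth closed k-subgroup: there are a smooth k-group scheme H and a homomorphism H ⟶ G which is a
closed immersion whose image is the closure of the set of points of G underlying the elements of Σ.
(The published statement also asserts that forming this closure commutes with extension of the
ground field; that clause is not stated here, its affine form being stated separately.) -/
theorem result (k : Type u) [Field k]
    (G : Over (Spec (CommRingCat.of k))) [GrpObj G] [Smooth G.hom] [QuasiCompact G.hom]
    (S : Subgroup (𝟙_ (Over (Spec (CommRingCat.of k))) ⟶ G)) :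
    ∃ (H : Over (Spec (CommRingCat.of k))) (_ : GrpObj H) (i : H ⟶ G), IsMonHom i ∧ IsClosedImmersion i.left ∧ Smooth H.hom ∧
      Set.range i.left.base =
        closure ((fun s : (𝟙_ (Over (Spec (CommRingCat.of k))) ⟶ G) => s.left.base (IsLocalRing.closedPoint k)) '' (S : Set _)) := by
  classical
  let pt : (𝟙_ (Over (Spec (CommRingCat.of k))) ⟶ G) → G.left := fun s => s.left (IsLocalRing.closedPoint k)
  let C : TopologicalSpace.Closeds G.left := ⟨closure (pt '' (S : Set _)), isClosed_closure⟩
  let ι₀ := (Scheme.IdealSheafData.vanishingIdeal C).subschemeι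
  let H : Over (Spec (CommRingCat.of k)) := Over.mk (ι₀ ≫ G.hom)
  let i : H ⟶ G := Over.homMk ι₀ rfl
  haveI hci : IsClosedImmersion i.left := inferInstanceAs (IsClosedImmersion ι₀)
  haveI : Mono i := Over.mono_of_mono_left i
  haveI : AlgebraicGeometry.IsReduced H.left := RedSepLib.isReduced_vanishingIdeal C
  have hrange : Set.range i.left = closure (pt '' (S : Set _)) :=
    RedSepLib.range_vanishingIdeal_subschemeι C
  -- a morphism from a reduced scheme with image in `C` factors through `H`
  have hfac : ∀ {T : Over (Spec (CommRingCat.of k))} [AlgebraicGeometry.IsReduced T.left] (f : T ⟶ G),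
      Set.range f.left ⊆ Set.range i.left → ∃ g : T ⟶ H, g ≫ i = f := fun {T} _ f hf => by
    obtain ⟨g, hg⟩ := RedSepLib.exists_lift_of_range_subset f.left i.left hf
    exact ⟨Over.homMk g (by change g ≫ i.left ≫ G.hom = T.hom; rw [reassoc_of% hg]; exact Over.w f),
      Over.OverMorphism.ext hg⟩
  have hC : ∀ φ : G ⟶ G, (∀ t ∈ S, t ≫ φ ∈ S) → Set.MapsTo φ.left (Set.range i.left) (Set.range i.left) := by
    intro φ hφ
    rw [hrange]
    refine (Set.MapsTo.closure ?_ φ.left.continuous)
    rintro _ ⟨t, ht, rfl⟩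
    exact ⟨t ≫ φ, hφ t ht, rfl⟩
  haveI : AlgebraicGeometry.IsReduced (𝟙_ (Over (Spec (CommRingCat.of k)))).left :=
    inferInstanceAs (AlgebraicGeometry.IsReduced (Spec (CommRingCat.of k)))
  haveI : Subsingleton (𝟙_ (Over (Spec (CommRingCat.of k)))).left :=
    inferInstanceAs (Subsingleton (Spec (CommRingCat.of k)))
  have hlift : ∀ s ∈ S, ∃ sH : 𝟙_ (Over (Spec (CommRingCat.of k))) ⟶ H, sH ≫ i = s := fun s hs =>
    hfac s (by
      rintro _ ⟨w, rfl⟩
      rw [Subsingleton.elim w (IsLocalRing.closedPoint k), hrange]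
      exact subset_closure ⟨s, hs, rfl⟩)
  -- the lifted points are dense
  let D : Set H.left := {x | ∃ s ∈ S, ∃ sH : 𝟙_ _ ⟶ H, sH ≫ i = s ∧ sH.left (IsLocalRing.closedPoint k) = x}
  have hD : Dense D := by
    intro x
    rw [i.left.isClosedEmbedding.isInducing.closure_eq_preimage_closure_image, Set.mem_preimage]
    have hx : i.left x ∈ closure (pt '' (S : Set _)) := hrange ▸ Set.mem_range_self x
    refine closure_mono ?_ hx
    rintro _ ⟨s, hs, rfl⟩
    obtain ⟨sH, hsH⟩ := hlift s hs
    exact ⟨_, ⟨s, hs, sH, hsH, rfl⟩, by rw [← GrpSch.comp_left_apply, hsH]⟩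
  haveI : LocallyOfFiniteType H.hom := inferInstanceAs (LocallyOfFiniteType (ι₀ ≫ G.hom))
  haveI : GeometricallyReduced H.hom := GrpSch.DenseRational.geometricallyReduced H.hom
    (hD.mono (by rintro x ⟨s, -, sH, -, hx⟩; exact ⟨sH.left, Over.w sH, hx⟩))
  haveI : IsLocallyNoetherian H.left := LocallyOfFiniteType.isLocallyNoetherian H.hom
  haveI : AlgebraicGeometry.IsReduced (H ⊗ H).left :=
    inferInstanceAs (AlgebraicGeometry.IsReduced (Limits.pullback H.hom H.hom))
  obtain ⟨e, he⟩ := hlift 1 S.one_mem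
  rw [Hom.one_def, toUnit_unique (toUnit (𝟙_ (Over (Spec (CommRingCat.of k))))) (𝟙 _), Category.id_comp] at he
  have hmul : Set.range ((fst H H ≫ i) * (snd H H ≫ i)).left ⊆ Set.range i.left := by
    have hclosed : IsClosed (((fst H H ≫ i) * (snd H H ≫ i)).left ⁻¹' Set.range i.left) :=
      (i.left.isClosedEmbedding.isClosed_range).preimage (Scheme.Hom.continuous _)
    have hdense : Dense (((fst H H ≫ i) * (snd H H ≫ i)).left ⁻¹' Set.range i.left) := by
      rw [dense_iff_inter_open]
      intro V hV hVne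
      obtain ⟨y, ⟨v, hv, hvy⟩, s, hs, sH, hsH, hy⟩ :=
        hD.inter_open_nonempty _ (GrpSch.isOpenMap_snd H H V hV) (hVne.image _)
      obtain ⟨w, hw⟩ : v ∈ Set.range (H ◁ sH).left := by
        rw [GrpSch.range_whiskerLeft]
        exact ⟨_, hy.trans hvy.symm⟩
      refine ⟨v, hv, ?_⟩
      have hcomp : (H ◁ sH) ≫ ((fst H H ≫ i) * (snd H H ≫ i)) =
          fst H (𝟙_ _) ≫ i ≫ (𝟙 G * (toUnit G ≫ s)) := by
        simp [MonObj.comp_mul, hsH, toUnit_unique (snd H (𝟙_ (Over (Spec (CommRingCat.of k))))) (toUnit _)]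
      rw [Set.mem_preimage, ← hw, ← GrpSch.comp_left_apply, hcomp, GrpSch.comp_left_apply, GrpSch.comp_left_apply]
      refine hC _ (fun t ht => ?_) (Set.mem_range_self _)
      have : t ≫ (𝟙 G * (toUnit G ≫ s)) = t * s := by
        rw [MonObj.comp_mul, Category.comp_id, ← Category.assoc, toUnit_unique (t ≫ toUnit G) (𝟙 _), Category.id_comp]
      rw [this]
      exact S.mul_mem ht hs
    rintro _ ⟨v, rfl⟩
    have := hdense v
    rwa [hclosed.closure_eq] at this
  obtain ⟨m, hm⟩ := hfac _ hmul
  have hinv : Set.range (i⁻¹ : H ⟶ G).left ⊆ Set.range i.left := by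
    rintro _ ⟨x, rfl⟩
    rw [show (i⁻¹ : H ⟶ G) = i ≫ (𝟙 G)⁻¹ by rw [GrpObj.comp_inv, Category.comp_id], GrpSch.comp_left_apply]
    refine hC _ (fun t ht => ?_) (Set.mem_range_self _)
    rw [GrpObj.comp_inv, Category.comp_id]
    exact S.inv_mem ht
  obtain ⟨n, hn⟩ := hfac _ hinv
  letI grp : GrpObj H := GrpSch.grpObjOfMono i e he m hm n hn
  haveI hmon : IsMonHom i := by
    refine ⟨he, ?_⟩
    change m ≫ i = _
    rw [hm, Hom.mul_def]
    simp
  haveI : LocallyOfFinitePresentation H.hom := LocallyOfFinitePresentation.iff_locallyOfFiniteType.mpr inferInstance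
  haveI : Smooth H.hom := GrpSch.smooth_of_flat_geometricallyReduced H
  exact ⟨H, grp, i, hmon, hci, inferInstance, hrange⟩

end Groth.Agent.S15608
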