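import Groth.Statements.S15610
import Groth.Agent.SchFinLib.Rank


set_option autoImplicit false
universe u
open SchFin SchFin.RSpace

namespace Groth.Agent.S15610

open SchFin in
/-- A schematic finite space is well-connected (the prime spectrum of its ring of global sections is
connected and the prime spectrum of the ring of each point is connected) if and only if its poset of
points is non-empty and connected and the prime spectrum of the ring of each point is connected. -/
theorem result (X : RSpace.{u})
    (hX : X.IsSchematic) : X.IsWellConnected ↔ (X.IsTopConnected ∧ X.IsPwConnected) := by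
  refine ⟨fun hwc => ⟨⟨?_, SchFinLib.topConnected hwc⟩, hwc.2⟩, fun h => ⟨?_, h.2⟩⟩
  · obtain ⟨P⟩ := hwc.1.toNonempty
    by_contra hemp
    refine P.2.ne_top ((Ideal.eq_top_iff_one _).mpr ?_)
    have : (1 : X.sectRing Set.univ) = 0 :=
      Subtype.ext (funext fun q => absurd ⟨q.1⟩ hemp)
    rw [this]
    exact P.asIdeal.zero_mem
  · obtain ⟨⟨⟨x₀⟩, hconn⟩, hpw⟩ := h
    have : Nonempty (PrimeSpectrum (X.sectRing Set.univ)) := by
      obtain ⟨P⟩ := (hpw x₀).toNonempty
      exact ⟨P.comap (X.evalRing Set.univ ⟨x₀, Set.mem_univ x₀⟩)⟩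
    refine connectedSpace_iff_clopen.mpr ⟨this, fun s hs => ?_⟩
    obtain ⟨e, he, rfl⟩ := PrimeSpectrum.isClopen_iff.mp hs
    have h01 : ∀ q : (Set.univ : Set X.pt), e.1 q = 0 ∨ e.1 q = 1 := fun q =>
      SchFinLib.idem_trivial (hpw q.1) (show e.1 q * e.1 q = e.1 q from
        congrFun (congrArg Subtype.val he.eq) q)
    have hcst : ∀ x y : X.pt, Relation.EqvGen (fun a b : X.pt => a ≤ b) x y →
        (e.1 ⟨x, trivial⟩ = 0 ↔ e.1 ⟨y, trivial⟩ = 0) := by
      intro x y hxy
      induction hxy with
      | rel a b hab =>
          have h2 := e.2 ⟨a, trivial⟩ ⟨b, trivial⟩ hab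
          constructor
          · intro ha
            rw [← h2, ha, map_zero]
          · intro hb
            rcases h01 ⟨a, trivial⟩ with h' | h'
            · exact h'
            · obtain ⟨P⟩ := (hpw b).toNonempty
              rw [h', map_one, hb] at h2
              exact absurd ((Ideal.eq_top_iff_one _).mpr (h2 ▸ P.asIdeal.zero_mem)) P.2.ne_top
      | refl a => rfl
      | symm a b _ ih => exact ih.symm
      | trans a b c _ _ ih1 ih2 => exact ih1.trans ih2
    by_cases h0 : e.1 ⟨x₀, trivial⟩ = 0
    · left
      have : e = 0 := Subtype.ext (funext fun q => (hcst x₀ q.1 (hconn x₀ q.1)).mp h0)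
      rw [this]
      simp
    · right
      have : e = 1 := Subtype.ext (funext fun q => (h01 q).resolve_left
        fun hq => h0 ((hcst x₀ q.1 (hconn x₀ q.1)).mpr hq))
      rw [this]
      simp

end Groth.Agent.S15610
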