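import Groth.Agent.SchFinLib.SchPts
import Groth.Agent.SchFinLib.Wedge
import Mathlib
import Groth.Statements.S15613
-- import your own Groth.Agent.* helpers here

set_option autoImplicit false
set_option backward.isDefEq.respectTransparency false
set_option backward.isDefEq.respectTransparency.types false
set_option synthInstance.maxHeartbeats 400000
set_option maxHeartbeats 800000
universe u
open SchFin SchFin.GeomPt

open scoped TensorProduct
namespace Groth.Agent.S15613

open SchFin in
/-- For a geometric point of a schematic finite space with values in an algebraically closed field,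
hitting the point x with ring map from the ring of x to the field, the kernel of that ring map does
not lift to any point strictly above x: no prime of the ring of such a point contracts to it along
the restriction map. -/
theorem result (X : RSpace.{u}) (hX : X.IsSchematic) {Ω : Type u} [Field Ω]
    [IsAlgClosed Ω] (ξ : GeomPt X Ω) {x' : X.pt} (hx : ξ.base < x') (P : Ideal (X.ring x')) [P.IsPrime] :
    P.comap (X.res hx.le) ≠ RingHom.ker ξ.toField := by
  intro hP
  let φ0 := Coef.ofHom ξ.hom ξ.base (ξ.hom.wedge PUnit.unit ξ.base) (ξ.hom.wedge_subset_pre PUnit.unit ξ.base)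
  let φ1 := Coef.ofHom ξ.hom x' (ξ.hom.wedge PUnit.unit x') (ξ.hom.wedge_subset_pre PUnit.unit x')
  letI : Algebra (X.ring ξ.base) (X.ring x') := (X.res hx.le).toAlgebra
  letI : Algebra (X.ring ξ.base) Ω := ξ.toField.toAlgebra
  letI : Module (X.ring ξ.base) (H φ1 (RSpace.point Ω).str 0) := Module.compHom _ (X.res hx.le)
  haveI : IsScalarTower (X.ring ξ.base) (X.ring x') (H φ1 (RSpace.point Ω).str 0) :=
    .of_algebraMap_smul fun _ _ => rfl
  have hbc := (ξ.isSchematic.2.2 0 PUnit.unit PUnit.unit le_rfl ξ.base x' hx.le).2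
  haveI : Subsingleton (H φ1 (RSpace.point Ω).str 0) := by
    refine subsingleton_of_forall_eq 0 fun c => ?_
    obtain ⟨s, rfl⟩ := Groth.Agent.SchFinLib.sectToH_surjective φ1 c
    have hs : s = 0 := Subtype.ext (funext fun q => absurd (le_antisymm hx.le q.2.2) hx.ne)
    rw [hs, Groth.Agent.SchFinLib.sectToH_zero]
  have hsub : Subsingleton (X.ring x' ⊗[X.ring ξ.base] H φ0 (RSpace.point Ω).str 0) :=
    (IsBaseChange.equiv hbc).toEquiv.subsingleton
  let cst : Ω → (RSpace.point Ω).sectRing (ξ.hom.wedge PUnit.unit ξ.base) :=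
    fun ω => ⟨fun _ => ω, fun _ _ _ => rfl⟩
  let σ : Ω →ₗ[X.ring ξ.base] H φ0 (RSpace.point Ω).str 0 :=
    { toFun := fun ω => Groth.Agent.SchFinLib.sectToH φ0 (cst ω)
      map_add' := fun a c => Groth.Agent.SchFinLib.sectToH_add φ0 (cst a) (cst c)
      map_smul' := fun r ω => by
        rw [RingHom.id_apply]
        show H.mk φ0 _ 0 _ = r • H.mk φ0 _ 0 _
        rw [← LinearMap.map_smul]
        refine congrArg _ (Subtype.ext (funext fun c => ?_))
        show ξ.toField r * ω = (show Ω from ξ.hom.app PUnit.unit (X.res (le_refl ξ.base) r)) * ω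
        rw [X.res_self]
        rfl }
  have hσ : Function.Injective σ := fun a c h => by
    have := Groth.Agent.SchFinLib.sectToH_injective φ0 h
    exact congrFun (congrArg Subtype.val this) ⟨PUnit.unit, le_rfl, le_rfl⟩
  haveI : Module.Flat (X.ring ξ.base) (X.ring x') := hX.1.2 ξ.base x' hx.le
  haveI := (Module.Flat.lTensor_preserves_injective_linearMap (M := X.ring x') σ hσ).subsingleton
  haveI := RingHom.ker_isPrime ξ.toField
  have hcomap : (⟨P, inferInstance⟩ : PrimeSpectrum (X.ring x')).comap (algebraMap (X.ring ξ.base) (X.ring x')) =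
      (⊥ : PrimeSpectrum Ω).comap (algebraMap (X.ring ξ.base) Ω) := by
    refine PrimeSpectrum.ext (hP.trans ?_)
    exact RingHom.ker_eq_comap_bot _
  obtain ⟨Z, -, -⟩ := Groth.Agent.SchFinLib.exists_prime_over_pair (R := X.ring ξ.base) _ _ hcomap
  exact Z.2.ne_top (Subsingleton.elim _ _)

end Groth.Agent.S15613
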