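import Groth.Statements.S1562
import Groth.Agent.RectDepth.GeomReg
import Groth.Agent.AlgStB.FieldCoverRegular
-- import your own Groth.Agent.* helpers here

set_option autoImplicit false
universe u
open CategoryTheory CategoryTheory.Limits AlgebraicGeometry
open Variety

namespace Groth.Agent.S1562

/-- Let X be locally of finite type over a field k and x a point of X. Then X is geometrically regular
at x (regular local rings at all points over x after every finitely generated field extension) if
and only if x lies in the smooth locus of X → Spec k. -/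
theorem result (k : Type u) [Field k] (X : Scheme.{u}) [X.Over (Spec (CommRingCat.of k))] [LocallyOfFinitePresentation (X ↘ (Spec (CommRingCat.of k)))] (x : X) :
    Curv2.IsGeomRegularAt k X x ↔ x ∈ (X ↘ (Spec (CommRingCat.of k))).smoothLocus := by
  let f := X ↘ Spec (CommRingCat.of k)
  constructor
  · intro h
    refine (RectDepth.geomRegular_iff_smooth f x).1 fun K _ _ hK x' hx' => ?_
    haveI := hK
    exact h K (IntermediateField.fg_top k K) x' hx'
  · intro hx K _ _ _ x' hx'
    let U : X.Opens := f.smoothLocus
    haveI : Smooth (U.ι ≫ f) := Scheme.Hom.smoothLocus_eq_top_iff.1 (by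
      rw [← Scheme.Hom.preimage_smoothLocus_eq]
      exact Scheme.Opens.ι_preimage_self U)
    let W : (Curv2.bc k X K).Opens := (Curv2.bcFst k X K) ⁻¹ᵁ U
    have hpb : IsPullback (Curv2.bcFst k X K) (Curv2.bcSnd k X K)
        f (Spec.map (CommRingCat.ofHom (algebraMap k K))) := IsPullback.of_hasPullback _ _
    haveI : Smooth (W.ι ≫ Curv2.bcSnd k X K) :=
      MorphismProperty.of_isPullback ((isPullback_morphismRestrict (Curv2.bcFst k X K) U).paste_vert hpb) inferInstance
    have hxW : x' ∈ W := show Curv2.bcFst k X K x' ∈ U from hx'.symm ▸ hx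
    haveI := AlgStB.isRegularLocalRing_stalk_of_smooth_field (W.ι ≫ Curv2.bcSnd k X K) ⟨x', hxW⟩
    exact IsRegularLocalRing.of_ringEquiv (W.stalkIso ⟨x', hxW⟩).commRingCatIsoToRingEquiv

end Groth.Agent.S1562
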