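import Groth.Statements.S15627
import Groth.Agent.SchFinLib.SchPts
import Mathlib.RingTheory.Flat.FaithfullyFlat.Algebra
import Mathlib.RingTheory.RingHom.Flat
import Mathlib.RingTheory.TensorProduct.IsBaseChangeHom


set_option autoImplicit false
set_option backward.isDefEq.respectTransparency false
set_option backward.isDefEq.respectTransparency.types false
universe u
open SchFin SchFin.GeomPt

namespace Groth.Agent.S15627
section Pre
open SchFin TensorProduct Groth.Agent.SchFinLib

theorem isBC_of_bijective {R S M N : Type u} [CommRing R] [CommRing S] (g : R →+* S) [AddCommGroup M]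
    [AddCommGroup N] [Module R M] [Module S N] (f : M →ₛₗ[g] N) (hf : Function.Bijective f)
    (hg : letI := g.toAlgebra; ∀ s : S, s ⊗ₜ[R] (1 : S) = (1 : S) ⊗ₜ[R] s) : IsBCAlong g f := by
  letI : Algebra R S := g.toAlgebra
  letI : Module R N := Module.compHom N g
  haveI : IsScalarTower R S N := IsScalarTower.of_algebraMap_smul fun _ _ => rfl
  let l : M →ₗ[R] N := { toFun := f, map_add' := f.map_add, map_smul' := f.map_smulₛₗ }
  let e : M ≃ₗ[R] N := LinearEquiv.ofBijective l hf
  have key : ∀ (s : S) (m : M), s ⊗ₜ[R] m = (1 : S) ⊗ₜ[R] e.symm (s • e m) := fun s m => by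
    let ψ : S →ₗ[R] M := e.symm.toLinearMap.comp ((LinearMap.toSpanSingleton S N (e m)).restrictScalars R)
    have h := congrArg (LinearMap.lTensor S ψ) (hg s)
    rw [LinearMap.lTensor_tmul, LinearMap.lTensor_tmul] at h
    simpa [ψ] using h
  have hbij : Function.Bijective (l.liftBaseChange S) := by
    refine ⟨?_, fun n => ⟨1 ⊗ₜ e.symm n, ?_⟩⟩
    · have h1 : ∀ t : S ⊗[R] M, t = 1 ⊗ₜ e.symm (l.liftBaseChange S t) := by
        intro t
        induction t using TensorProduct.induction_on with
        | zero => simp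
        | tmul s m => rw [LinearMap.liftBaseChange_tmul]; exact key s m
        | add a b ha hb => rw [map_add, map_add, TensorProduct.tmul_add, ← ha, ← hb]
      intro a b h
      rw [h1 a, h1 b, h]
    · rw [LinearMap.liftBaseChange_tmul, one_smul]
      exact e.apply_symm_apply n
  exact IsBaseChange.of_equiv (LinearEquiv.ofBijective (l.liftBaseChange S) hbij) fun m => by
    rw [LinearEquiv.ofBijective_apply, LinearMap.liftBaseChange_tmul, one_smul]

theorem isBC_of_subsingleton {R S M N : Type u} [CommRing R] [CommRing S] (g : R →+* S) [AddCommGroup M]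
    [AddCommGroup N] [Module R M] [Module S N] (f : M →ₛₗ[g] N) [Subsingleton N]
    (hM : letI := g.toAlgebra; Subsingleton (S ⊗[R] M)) : IsBCAlong g f := by
  letI : Algebra R S := g.toAlgebra
  letI : Module R N := Module.compHom N g
  haveI : IsScalarTower R S N := IsScalarTower.of_algebraMap_smul fun _ _ => rfl
  have := hM
  exact IsBaseChange.of_equiv (LinearEquiv.ofSubsingleton (S ⊗[R] M) N) fun m => Subsingleton.elim _ _

theorem subsingleton_H {X : RSpace.{u}} [Subsingleton X.pt] {U : Set X.pt} {R : Type u} [CommRing R]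
    (φ : Coef X U R) (n : ℕ) : Subsingleton (H φ X.str (n + 1)) := by
  have hC : IsEmpty (Chain U (n + 1)) := ⟨fun σ => absurd
    (σ.injective (Subtype.ext (Subsingleton.elim (σ 0).1 (σ 1).1))) (by simp)⟩
  haveI : Subsingleton (Cochain φ X.str (n + 1)) := ⟨fun c d => funext fun σ => hC.elim σ⟩
  exact Submodule.Quotient.mk_surjective _ |>.subsingleton

theorem subsingleton_H_empty {X : RSpace.{u}} {U : Set X.pt} {R : Type u} [CommRing R]
    (φ : Coef X U R) (n : ℕ) (hU : U = ∅) : Subsingleton (H φ X.str n) := by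
  haveI : Subsingleton (Cochain φ X.str n) := ⟨fun c d => funext fun σ =>
    absurd (σ 0).2 (Set.eq_empty_iff_forall_notMem.1 hU _)⟩
  exact Submodule.Quotient.mk_surjective _ |>.subsingleton

/-- restriction is bijective between equal subsets -/
theorem resH_bijective {X : RSpace.{u}} [Subsingleton X.pt] {U U' : Set X.pt} {R R' : Type u} [CommRing R]
    [CommRing R'] {φ : Coef X U R} {φ' : Coef X U' R'} (s : Coef.Sub φ φ') (hle : U ⊆ U') (n : ℕ) :
    Function.Bijective (resH X.str s n) := by
  cases n with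
  | succ n =>
    haveI := subsingleton_H φ n
    haveI := subsingleton_H φ' n
    exact ⟨fun a b _ => Subsingleton.elim _ _, fun b => ⟨0, Subsingleton.elim _ _⟩⟩
  | zero =>
    constructor
    · intro a b h
      obtain ⟨a, rfl⟩ := sectToH_surjective φ a
      obtain ⟨b, rfl⟩ := sectToH_surjective φ b
      have h' := sectToH_injective φ' (s := ⟨fun q => a.1 ⟨q.1, s.le q.2⟩, fun q q' hq => a.2 ⟨q.1, s.le q.2⟩ ⟨q'.1, s.le q'.2⟩ hq⟩)
        (t := ⟨fun q => b.1 ⟨q.1, s.le q.2⟩, fun q q' hq => b.2 ⟨q.1, s.le q.2⟩ ⟨q'.1, s.le q'.2⟩ hq⟩) h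
      exact congrArg _ (Subtype.ext (funext fun q =>
        congrFun (congrArg Subtype.val h') ⟨q.1, hle q.2⟩))
    · intro b
      obtain ⟨b, rfl⟩ := sectToH_surjective φ' b
      exact ⟨sectToH φ ⟨fun q => b.1 ⟨q.1, hle q.2⟩, fun q q' hq => b.2 ⟨q.1, hle q.2⟩ ⟨q'.1, hle q'.2⟩ hq⟩, rfl⟩

theorem res_epi {X : RSpace.{u}} (hX : X.IsSchematic) {y y' : X.pt} (h : y ≤ y') :
    letI := (X.res h).toAlgebra
    ∀ s : X.ring y', s ⊗ₜ[X.ring y] (1 : X.ring y') = (1 : X.ring y') ⊗ₜ[X.ring y] s := by
  letI := (X.res h).toAlgebra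
  intro s
  refine (pairMap_bijective h h hX).1 ?_
  simp [pairMap, Algebra.TensorProduct.lift_tmul]

theorem isFinSp_point (Ω : Type u) [Field Ω] : (RSpace.point Ω).IsFinSp :=
  ⟨fun _ => inferInstanceAs (IsNoetherianRing Ω),
    fun _ _ _ => show (RingHom.id Ω).Flat from RingHom.Flat.id Ω⟩

/-- the point -/
abbrev pt0 (Ω : Type u) [CommRing Ω] : (RSpace.point Ω).pt := PUnit.unit

theorem hom_isSchematic {X : RSpace.{u}} (hX : X.IsSchematic) (hff : HFF X)
    (Ω : Type u) [Field Ω] (a : X.Pair) (ha : ∀ b : X.Pair, X.PairRel a b → b.1 ≤ a.1)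
    (f : SchFin.Hom (RSpace.point Ω) X) (hfn : f.fn (pt0 Ω) = a.1)
    (hker : ∀ t : X.ring (f.fn (pt0 Ω)), f.app (pt0 Ω) t = 0 ↔
      X.res (le_of_eq hfn) t ∈ a.2.asIdeal) : f.IsSchematic := by
  haveI : Subsingleton (RSpace.point Ω).pt := inferInstanceAs (Subsingleton PUnit)
  refine ⟨isFinSp_point Ω, hX.1, fun n x x' hx y y' hy => ?_⟩
  obtain rfl : x = (pt0 Ω) := Subsingleton.elim _ _
  obtain rfl : x' = (pt0 Ω) := Subsingleton.elim _ _
  refine ⟨isBC_of_bijective _ _ (resH_bijective (f.subSrc hx y) (fun q hq => ⟨hx.trans hq.1, hq.2⟩) n) ?_, ?_⟩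
  · intro s
    exact (Algebra.TensorProduct.tmul_one_eq_one_tmul (R := (RSpace.point Ω).ring (pt0 Ω)) (A := (RSpace.point Ω).ring (pt0 Ω)) (B := (RSpace.point Ω).ring (pt0 Ω)) s)
  by_cases hy' : y' ≤ f.fn (pt0 Ω)
  · exact isBC_of_bijective _ _ (resH_bijective (f.subTgt (pt0 Ω) hy) (fun q hq => ⟨hq.1,
      (Subsingleton.elim (pt0 Ω) q) ▸ hy'⟩) n) (res_epi hX hy)
  have hU' : f.wedge (pt0 Ω) y' = ∅ := Set.eq_empty_of_forall_notMem fun q hq =>
    hy' ((Subsingleton.elim q (pt0 Ω)) ▸ hq.2)
  haveI := subsingleton_H_empty (Coef.ofHom f y' (f.wedge (pt0 Ω) y') (f.wedge_subset_pre _ y')) n hU'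
  refine isBC_of_subsingleton _ _ ?_
  letI := (X.res hy).toAlgebra
  let φ := Coef.ofHom f y (f.wedge (pt0 Ω) y) (f.wedge_subset_pre _ y)
  by_cases hyu : y ≤ f.fn (pt0 Ω)
  swap
  · haveI := subsingleton_H_empty φ n (Set.eq_empty_of_forall_notMem fun q hq =>
      hyu ((Subsingleton.elim q (pt0 Ω)) ▸ hq.2))
    infer_instance
  cases n with
  | succ n =>
    haveI := subsingleton_H φ n
    infer_instance
  | zero =>
  -- `1 = 0` in `O_{y'} ⊗ Ω`
  letI : Algebra (X.ring y) Ω := ((f.app (pt0 Ω)).comp (X.res hyu)).toAlgebra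
  have hzero : Subsingleton (X.ring y' ⊗[X.ring y] Ω) := by
    by_contra hne
    rw [not_subsingleton_iff_nontrivial] at hne
    obtain ⟨M, hM⟩ := Ideal.exists_maximal (X.ring y' ⊗[X.ring y] Ω)
    let Q : PrimeSpectrum (X.ring y') :=
      ⟨M.comap Algebra.TensorProduct.includeLeftRingHom, inferInstance⟩
    have hrel : X.PairRel a ⟨y', Q⟩ := by
      refine pairRel_of_comap_eq hX hff (hyu.trans_eq hfn) hy a.2 Q ?_
      refine PrimeSpectrum.ext (Ideal.ext fun t => ?_)
      show X.res _ t ∈ a.2.asIdeal ↔ algebraMap (X.ring y) (X.ring y') t ⊗ₜ[X.ring y] (1 : Ω) ∈ M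
      have hk : algebraMap (X.ring y) Ω t = 0 ↔ X.res (hyu.trans_eq hfn) t ∈ a.2.asIdeal := by
        rw [← X.res_comp hyu (le_of_eq hfn)]
        exact hker _
      rw [Algebra.TensorProduct.tmul_one_eq_one_tmul (R := X.ring y) (A := X.ring y') (B := Ω) t, ← hk]
      constructor
      · intro h
        rw [h, TensorProduct.tmul_zero]
        exact M.zero_mem
      · intro h
        by_contra h0
        have hu : IsUnit (Algebra.TensorProduct.includeRight (R := X.ring y) (A := X.ring y')
          (algebraMap (X.ring y) Ω t)) := ((isUnit_iff_ne_zero).2 h0).map _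
        exact hM.ne_top (M.eq_top_of_isUnit_mem h hu)
    exact hy' (hfn ▸ ha _ hrel)
  let c : Ω →ₗ[X.ring y] ↥(cocycles φ (RSpace.point Ω).str 0) :=
    { toFun := fun w => ⟨sectCochain φ ⟨fun _ => w, fun _ _ _ => rfl⟩, sectCochain_mem φ _⟩
      map_add' := fun _ _ => rfl
      map_smul' := fun r w => Subtype.ext (funext fun σ => by
        obtain ⟨q, rfl⟩ := exists_eq_chainOne σ
        obtain ⟨⟨⟩, hq⟩ := q
        rfl) }
  let ι : Ω →ₗ[X.ring y] H φ (RSpace.point Ω).str 0 := (H.mk φ _ 0).comp c
  have hι : Function.Surjective ι := fun c => by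
    obtain ⟨z, rfl⟩ := sectToH_surjective φ c
    refine ⟨z.1 ⟨(pt0 Ω), le_rfl, hyu⟩, congrArg (sectToH φ) (Subtype.ext (funext fun q => ?_))⟩
    obtain ⟨⟨⟩, hq⟩ := q
    rfl
  exact (LinearMap.lTensor_surjective (X.ring y') hι).subsingleton

end Pre

open SchFin in
/-- Let X be a schematic finite space and Ω an algebraically closed field. Given a pair (x, P) of a
point and a prime of its ring which is the maximal representative of its class (every related pair
sits at a point below x) and a ring map φ from the residue field of P to Ω, there is exactly one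
geometric point of X with values in Ω that hits x and whose ring map from the ring of x to Ω is φ
composed with the passage to the residue field. (The published statement is the resulting bijection
between geometric points with values in Ω and schematic points equipped with an embedding of their
residue field into Ω.) (The published statement does not carry the hypothesis that, for every two
points that lie above a common point and whose minimal open sets meet, the product of the rings over
the intersection of these minimal open sets is faithfully flat over the ring of sections on it; the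
published proof obtains this fact from properties of affine schematic spaces recalled there without
proof, and this row carries it explicitly.) -/
theorem result (X : RSpace.{u}) (hX : X.IsSchematic)
    (hff : ∀ s a b : X.pt, s ≤ a → s ≤ b → (X.up a ∩ X.up b).Nonempty →
      Module.FaithfullyFlat (X.sectRing (X.up a ∩ X.up b)) ((q : ↥(X.up a ∩ X.up b)) → X.ring q.1))
    (Ω : Type u) [Field Ω] [IsAlgClosed Ω] (a : X.Pair) (ha : ∀ b : X.Pair, X.PairRel a b → b.1 ≤ a.1)
    (φ : a.κ →+* Ω) :
    ∃! ξ : GeomPt X Ω, (⟨ξ.base, ξ.toField⟩ : Σ x : X.pt, (X.ring x →+* Ω)) =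
      ⟨a.1, φ.comp (algebraMap (X.ring a.1) a.κ)⟩ := by
  let f : SchFin.Hom (RSpace.point Ω) X :=
    { fn := fun _ => a.1
      mono := fun _ _ _ => le_rfl
      app := fun _ => φ.comp (algebraMap (X.ring a.1) a.κ)
      compat := fun {q q'} h b => (congrArg (fun t => φ (algebraMap (X.ring a.1) a.κ t)) (X.res_self a.1 b)).symm }
  have hf : f.IsSchematic := hom_isSchematic hX hff Ω a ha f rfl fun t => by
    change φ (algebraMap (X.ring a.1) a.κ t) = 0 ↔ X.res le_rfl t ∈ a.2.asIdeal
    rw [X.res_self]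
    exact (map_eq_zero φ).trans (Ideal.algebraMap_residueField_eq_zero)
  refine ⟨⟨f, hf⟩, rfl, ?_⟩
  rintro ⟨⟨fn, mono, app, compat⟩, h⟩ hξ
  obtain ⟨e1, e2⟩ := Sigma.mk.inj_iff.1 hξ
  change fn PUnit.unit = a.1 at e1
  have hfn : fn = fun _ => a.1 := funext fun q => e1
  subst hfn
  change HEq (app PUnit.unit) _ at e2
  have happ : app = f.app := funext fun q => eq_of_heq e2
  subst happ
  rfl

end Groth.Agent.S15627
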