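import Groth.Statements.S15702
import Groth.Agent.LinRed.Units
import Groth.Agent.LinRed.OrbitStab
import Mathlib.RingTheory.UniqueFactorizationDomain.GCDMonoid

set_option autoImplicit false
universe u
open GLin

namespace Groth.Agent.S15702

open TensorProduct WithConv
open Groth.Agent.LinRed Groth.Agent.Comod


/-- Let k be algebraically closed of characteristic zero, let G be a connected linear algebraic group
over k without non-trivial characters acting on an integral affine k-variety Spec B of finite type
with B a unique factorisation domain; then the field of G-invariant rational functions is the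
fraction field of the ring of invariants B^G. In coordinate-ring form: A is a commutative Hopf
algebra of finite type over k, a domain, whose only group-like element is 1; B is a k-algebra of
finite type, a domain and a unique factorisation monoid, with a coaction of A that is an algebra
map; k-points φ : A →ₐ[k] k act on B through the coaction. If f, g ∈ B, g ≠ 0, satisfy (φ·f) g = f
(φ·g) for all φ, then f g' = f' g for some f', g' ∈ B fixed by all φ with g' ≠ 0. (The published
lemma allows G disconnected with character-free identity component; this row is the connected case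
treated first in its proof.) -/
theorem result (k : Type u) [Field k] [IsAlgClosed k] [CharZero k]
    (A : Type u) [CommRing A] [HopfAlgebra k A] [Algebra.FiniteType k A] [IsDomain A]
    (hchar : ∀ a : A, IsGroupLikeElem k a → a = 1)
    (B : Type u) [CommRing B] [Algebra k B] [Algebra.FiniteType k B] [IsDomain B] [UniqueFactorizationMonoid B]
    [HopfRep.Comod k A B] [GLin.IsCoactAlg k A B]
    (f g : B) (hg : g ≠ 0)
    (hinv : ∀ φ : A →ₐ[k] k, HopfRep.Comod.act k A B φ f * g = f * HopfRep.Comod.act k A B φ g) :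
    ∃ f' g' : B, (∀ φ : A →ₐ[k] k, HopfRep.Comod.act k A B φ f' = f') ∧
      (∀ φ : A →ₐ[k] k, HopfRep.Comod.act k A B φ g' = g') ∧ g' ≠ 0 ∧ f * g' = f' * g := by
  classical
  have hact : ∀ (φ : A →ₐ[k] k) (b : B), HopfRep.Comod.act k A B φ b = actL φ.toLinearMap b := fun φ b => rfl
  simp only [hact] at hinv ⊢
  obtain ⟨g', f', c, hrel, hcg, hcf⟩ := UniqueFactorizationMonoid.exists_reduced_factors g hg f
  have hc : c ≠ 0 := fun h => hg (by rw [← hcg, h, zero_mul])
  have hg' : g' ≠ 0 := fun h => hg (by rw [← hcg, h, mul_zero])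
  have hinvt : ∀ (φ : A →ₐ[k] k) (b : B), actL φ.toLinearMap (actL (toConv φ)⁻¹.ofConv.toLinearMap b) = b :=
    fun φ b => actL_point_inv (toConv φ) b
  have hinj0 : ∀ (φ : A →ₐ[k] k) (b : B), actL φ.toLinearMap b = 0 → b = 0 := fun φ b hb => by
    have e := actL_point_inv (toConv φ)⁻¹ b
    rw [inv_inv] at e
    rw [← e]
    show actL _ (actL φ.toLinearMap b) = 0
    rw [hb, map_zero]
  have hrw : ∀ φ : A →ₐ[k] k, actL φ.toLinearMap f' * g' = f' * actL φ.toLinearMap g' := by
    intro φ
    have h := hinv φ
    rw [← hcf, ← hcg, actL_point_mul, actL_point_mul] at h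
    have hcc : actL φ.toLinearMap c * c ≠ 0 := mul_ne_zero (fun h0 => hc (hinj0 φ c h0)) hc
    refine mul_left_cancel₀ hcc ?_
    linear_combination h
  have hdvd : ∀ φ : A →ₐ[k] k, g' ∣ actL φ.toLinearMap g' := fun φ =>
    hrel.dvd_of_dvd_mul_left ⟨actL φ.toLinearMap f', by rw [← hrw φ, mul_comm]⟩
  have hu : ∀ φ : A →ₐ[k] k, ∃ u : Bˣ, actL φ.toLinearMap g' = g' * u := by
    intro φ
    have h2 : actL φ.toLinearMap g' ∣ g' := by
      obtain ⟨d, hd⟩ := hdvd (toConv φ)⁻¹.ofConv
      refine ⟨actL φ.toLinearMap d, ?_⟩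
      conv_lhs => rw [← hinvt φ g', hd, actL_point_mul]
    obtain ⟨u, hu⟩ := associated_of_dvd_dvd (hdvd φ) h2
    exact ⟨u, hu.symm⟩
  choose u hu using hu
  -- the cocycle as an element of `B ⊗ A`
  let P : Submodule k B := (Ideal.span {g'}).restrictScalars k
  obtain ⟨w₀, hw₀⟩ := mem_range_rTensor_of_slR_mem (M := P)
    (slR_mem_of_forall_point (z := HopfRep.Comod.coact (k := k) (A := A) g') fun φ =>
      Ideal.mem_span_singleton.2 (hdvd φ))
  obtain ⟨w, hw⟩ : ∃ w : B ⊗[k] A, HopfRep.Comod.coact (k := k) (A := A) g' = (g' ⊗ₜ[k] (1 : A)) * w := by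
    rw [← hw₀]
    clear hw₀
    induction w₀ with
    | zero => exact ⟨0, by simp⟩
    | tmul p q =>
      obtain ⟨d, hd⟩ := Ideal.mem_span_singleton.1 p.2
      refine ⟨d ⊗ₜ q, ?_⟩
      rw [LinearMap.rTensor_tmul, Algebra.TensorProduct.tmul_mul_tmul, one_mul, ← hd]
      rfl
    | add y z hy hz =>
      obtain ⟨a, ha⟩ := hy
      obtain ⟨b, hb⟩ := hz
      exact ⟨a + b, by rw [map_add, ha, hb, mul_add]⟩
  have hslR : ∀ ψ : A →ₗ[k] k, actL ψ g' = g' * slR ψ w := by
    intro ψ
    rw [actL_apply, hw]
    clear hw hw₀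
    induction w with
    | zero => simp
    | tmul p q => simp [mul_smul_comm]
    | add y z hy hz => simp only [mul_add, map_add, hy, hz]
  have huw : ∀ φ : A →ₐ[k] k, slR φ.toLinearMap w = u φ := fun φ =>
    mul_left_cancel₀ hg' ((hslR _).symm.trans (hu φ))
  have hε : slR (Coalgebra.counit (R := k) (A := A)) w = 1 :=
    mul_left_cancel₀ hg' (by rw [← hslR, actL_counit, mul_one])
  have hone : ∀ φ : A →ₐ[k] k, actL φ.toLinearMap g' = g' := by
    intro φ
    rw [hu φ]
    suffices (u φ : B) = 1 by rw [this, mul_one]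
    by_contra hne
    obtain ⟨x, hx⟩ := exists_point_apply_ne_zero (k := k) (sub_ne_zero.2 hne)
    have e : ∀ ψ : A →ₗ[k] k, ψ (slL x.toLinearMap w) = x (slR ψ w) := by
      intro ψ
      clear hw hw₀ hslR huw hε
      induction w with
      | zero => simp
      | tmul p q => simp [mul_comm]
      | add y z hy hz => simp only [map_add, hy, hz]
    have ha : IsUnit (slL x.toLinearMap w) := by
      by_contra hna
      obtain ⟨M, hM, hmem⟩ := exists_max_ideal_of_mem_nonunits hna
      obtain ⟨t, ht⟩ := exists_point_of_ne_top (k := k) (R := A) M hM.ne_top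
      have h0 : t.toLinearMap (slL x.toLinearMap w) = 0 := ht hmem
      rw [e, huw] at h0
      exact ((u t).isUnit.map x).ne_zero h0
    obtain ⟨χ, hχ, hχ'⟩ := exists_groupLike_smul_eq (k := k) ha
    rw [hchar χ hχ] at hχ'
    refine hx ?_
    rw [map_sub, ← huw, ← e, hχ', map_smul, show φ.toLinearMap 1 = 1 from map_one φ,
      e, hε, map_one, smul_eq_mul, mul_one, sub_self]
  refine ⟨f', g', fun φ => ?_, hone, hg', by rw [← hcf, ← hcg]; ring⟩
  have h := hrw φ
  rw [hone] at h
  exact mul_right_cancel₀ hg' h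

end Groth.Agent.S15702
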