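import Groth.Statements.S15705
import Groth.Agent.LinRed.Units
import Groth.Agent.LinRed.OrbitStab
import Mathlib.RingTheory.UniqueFactorizationDomain.GCDMonoid

set_option autoImplicit false
universe u
open GLin

namespace Groth.Agent.S15705

open TensorProduct WithConv
open Groth.Agent.LinRed Groth.Agent.Comod


/-- Let k be algebraically closed of characteristic zero, G a linear algebraic group and X a factorial
affine G-variety with k[X]* = k*; then there is a G-invariant affine open U of X such that the field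
of G-invariant rational functions is the fraction field of k[U]^G. In coordinate-ring form: A is a
commutative Hopf algebra of finite type over k coacting by an algebra map on B, a finitely generated
k-algebra which is a domain and a unique factorisation monoid all of whose units are scalars;
k-points φ : A →ₐ[k] k of G act on B through the coaction. Conclusion: there is h ≠ 0 in B with D(h)
stable under every φ (φ·h divides a power of h) such that whenever a, b ∈ B, b ≠ 0, satisfy (φ·a) b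
= a (φ·b) for all φ (the fraction a/b is invariant), there are c, d ∈ B and exponents r, t with d ≠
0, with c/h^r and d/h^t invariant in B[1/h] — that is (φ·c) h^r = c (φ·h)^r and (φ·d) h^t = d
(φ·h)^t for all φ — and a d h^r = b c h^t (so a/b = (c/h^r)/(d/h^t)). -/
theorem result (k : Type u) [Field k] [IsAlgClosed k] [CharZero k]
    (A : Type u) [CommRing A] [HopfAlgebra k A] [Algebra.FiniteType k A]
    (B : Type u) [CommRing B] [Algebra k B] [Algebra.FiniteType k B] [IsDomain B] [UniqueFactorizationMonoid B]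
    (hunits : ∀ u : Bˣ, ∃ c : k, algebraMap k B c = u)
    [HopfRep.Comod k A B] [GLin.IsCoactAlg k A B] :
    ∃ h : B, h ≠ 0 ∧ (∀ φ : A →ₐ[k] k, ∃ (N : ℕ) (u : B), HopfRep.Comod.act k A B φ h * u = h ^ N) ∧
      ∀ a b : B, b ≠ 0 → (∀ φ : A →ₐ[k] k, HopfRep.Comod.act k A B φ a * b = a * HopfRep.Comod.act k A B φ b) →
        ∃ (c d : B) (r t : ℕ), d ≠ 0 ∧
          (∀ φ : A →ₐ[k] k, HopfRep.Comod.act k A B φ c * h ^ r = c * (HopfRep.Comod.act k A B φ h) ^ r) ∧
          (∀ φ : A →ₐ[k] k, HopfRep.Comod.act k A B φ d * h ^ t = d * (HopfRep.Comod.act k A B φ h) ^ t) ∧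
          a * d * h ^ r = b * c * h ^ t := by
  classical
  haveI := isReduced_of_hopfAlgebra_charZero k A
  have hact : ∀ (φ : A →ₐ[k] k) (b : B), HopfRep.Comod.act k A B φ b = actL φ.toLinearMap b := fun φ b => rfl
  simp only [hact]
  let Wt : B → Aˣ → Prop := fun b χ => b ≠ 0 ∧ ∀ φ : A →ₐ[k] k, actL φ.toLinearMap b = φ (χ : A) • b
  have hone : Wt 1 1 := ⟨one_ne_zero, fun φ => by
    rw [Units.val_one, map_one φ, one_smul, actL_apply, GLin.IsCoactAlg.coact_one (k := k),
      Algebra.TensorProduct.one_def, slR_tmul, show φ.toLinearMap 1 = 1 from map_one φ, one_smul]⟩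
  have hmul : ∀ {a b χ χ'}, Wt a χ → Wt b χ' → Wt (a * b) (χ * χ') := fun ha hb =>
    ⟨mul_ne_zero ha.1 hb.1, fun φ => by
      rw [actL_point_mul, ha.2, hb.2, smul_mul_smul_comm, Units.val_mul, map_mul]⟩
  let Γ : Set Aˣ := {χ | IsGroupLikeElem k (χ : A) ∧ ∃ b, Wt b χ}
  -- finitely many weights generate all
  obtain ⟨s, hs, hs'⟩ := exists_finset_characters (k := k) A
  let X : AddSubgroup (Additive Aˣ) := (Subgroup.closure (s : Set Aˣ)).toAddSubgroup
  haveI : Module.Finite ℤ X :=
    Module.Finite.iff_addGroup_fg.2 ((AddGroup.fg_iff_addSubgroup_fg X).2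
      ((Subgroup.fg_iff_add_fg _).1 ⟨s, rfl⟩))
  let Γ' : Set X := {x | Additive.toMul (x : Additive Aˣ) ∈ Γ}
  obtain ⟨t, ht, htspan⟩ := (Submodule.fg_span_iff_fg_span_finset_subset (R := ℤ) Γ').1 (IsNoetherian.noetherian _)
  have htw : ∀ x ∈ t, ∃ b, Wt b (Additive.toMul (x : Additive Aˣ)) := fun x hx => (ht hx).2
  choose bx hbx using htw
  let h : B := ∏ x ∈ t.attach, bx x.1 x.2
  let χh : Aˣ := ∏ x ∈ t.attach, Additive.toMul (x.1 : Additive Aˣ)
  have hprod : ∀ S : Finset {x // x ∈ t}, Wt (∏ x ∈ S, bx x.1 x.2) (∏ x ∈ S, Additive.toMul (x.1 : Additive Aˣ)) := by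
    intro S
    induction S using Finset.induction_on with
    | empty => simpa using hone
    | insert a S ha ih => rw [Finset.prod_insert ha, Finset.prod_insert ha]; exact hmul (hbx _ _) ih
  have hh : Wt h χh := hprod _
  have hpow : ∀ N : ℕ, Wt (h ^ N) (χh ^ N) := fun N => by
    induction N with
    | zero => simpa using hone
    | succ N ih => rw [pow_succ, pow_succ]; exact hmul ih hh
  let Q : Subgroup Aˣ :=
    { carrier := {χ | (∃ (N : ℕ) (b : B), Wt b (χ * χh ^ N)) ∧ ∃ (N : ℕ) (b : B), Wt b (χ⁻¹ * χh ^ N)}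
      mul_mem' := by
        rintro a b ⟨⟨N, x, hx⟩, M, y, hy⟩ ⟨⟨N', x', hx'⟩, M', y', hy'⟩
        refine ⟨⟨N + N', x * x', ?_⟩, M + M', y * y', ?_⟩
        · have := hmul hx hx'; rwa [mul_mul_mul_comm, ← pow_add] at this
        · have := hmul hy hy'; rwa [mul_mul_mul_comm, ← pow_add, ← mul_inv] at this
      one_mem' := ⟨⟨0, 1, by simpa using hone⟩, 0, 1, by simpa using hone⟩
      inv_mem' := fun {a} ha => ⟨ha.2, by simpa using ha.1⟩ }
  have hgen : ∀ x, ∀ hx : x ∈ t, Additive.toMul (x : Additive Aˣ) ∈ Q := fun x hx => by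
    refine ⟨⟨0, bx x hx, by simpa using hbx x hx⟩, 1, ∏ y ∈ t.attach.erase ⟨x, hx⟩, bx y.1 y.2, ?_⟩
    rw [pow_one]
    convert hprod (t.attach.erase ⟨x, hx⟩) using 1
    rw [inv_mul_eq_iff_eq_mul]
    exact (Finset.mul_prod_erase t.attach (fun y => Additive.toMul (y.1 : Additive Aˣ)) (Finset.mem_attach t ⟨x, hx⟩)).symm
  have hQ : ∀ χ ∈ Γ, χ ∈ Q := by
    intro χ hχ
    let x : X := ⟨Additive.ofMul χ, hs' χ hχ.1⟩
    have hx : x ∈ Submodule.span ℤ (t : Set X) := htspan ▸ Submodule.subset_span (show x ∈ Γ' from hχ)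
    have key : ∀ y ∈ Submodule.span ℤ (t : Set X), Additive.toMul (y : Additive Aˣ) ∈ Q := by
      intro y hy
      induction hy using Submodule.span_induction with
      | mem z hz => exact hgen z hz
      | zero => exact Q.one_mem
      | add a b _ _ ha hb => exact Q.mul_mem ha hb
      | smul n a _ ha => exact Q.zpow_mem ha n
    exact key x hx
  refine ⟨h, hh.1, fun φ => ⟨1, algebraMap k B (φ (χh : A))⁻¹, ?_⟩, fun a b hb hab => ?_⟩
  · rw [hh.2, pow_one, Algebra.smul_def, mul_assoc, mul_left_comm, ← map_mul,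
      mul_inv_cancel₀ (χh.isUnit.map φ).ne_zero, map_one, mul_one]
  obtain ⟨g', f', c, hrel, hcb, hca⟩ := UniqueFactorizationMonoid.exists_reduced_factors b hb a
  have hc : c ≠ 0 := fun h0 => hb (by rw [← hcb, h0, zero_mul])
  have hg' : g' ≠ 0 := fun h0 => hb (by rw [← hcb, h0, mul_zero])
  have hinj0 : ∀ (φ : A →ₐ[k] k) (z : B), actL φ.toLinearMap z = 0 → z = 0 := fun φ z hz => by
    have e := actL_point_inv (toConv φ)⁻¹ z
    rw [inv_inv] at e
    rw [← e]
    show actL _ (actL φ.toLinearMap z) = 0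
    rw [hz, map_zero]
  have hrw : ∀ φ : A →ₐ[k] k, actL φ.toLinearMap f' * g' = f' * actL φ.toLinearMap g' := by
    intro φ
    have h := hab φ
    rw [← hca, ← hcb, actL_point_mul, actL_point_mul] at h
    refine mul_left_cancel₀ (mul_ne_zero (fun h0 => hc (hinj0 φ c h0)) hc : actL φ.toLinearMap c * c ≠ 0) ?_
    linear_combination h
  have hdvd : ∀ φ : A →ₐ[k] k, g' ∣ actL φ.toLinearMap g' := fun φ =>
    hrel.dvd_of_dvd_mul_left ⟨actL φ.toLinearMap f', by rw [← hrw φ, mul_comm]⟩
  have hscal : ∀ φ : A →ₐ[k] k, actL φ.toLinearMap g' ∈ Submodule.span k {g'} := by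
    intro φ
    have h2 : actL φ.toLinearMap g' ∣ g' := by
      obtain ⟨d, hd⟩ := hdvd (toConv φ)⁻¹.ofConv
      refine ⟨actL φ.toLinearMap d, ?_⟩
      conv_lhs => rw [← actL_point_inv (toConv φ) g', hd]
      rw [actL_point_mul]
    obtain ⟨u, hu⟩ := associated_of_dvd_dvd (hdvd φ) h2
    obtain ⟨e, he⟩ := hunits u
    exact Submodule.mem_span_singleton.2 ⟨e, by rw [← hu, ← he, Algebra.smul_def, mul_comm]⟩
  obtain ⟨w₀, hw₀⟩ := mem_range_rTensor_of_slR_mem
    (slR_mem_of_forall_point (z := HopfRep.Comod.coact (k := k) (A := A) g') hscal)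
  obtain ⟨χ, hχ⟩ : ∃ χ : A, HopfRep.Comod.coact (k := k) (A := A) g' = g' ⊗ₜ[k] χ := by
    rw [← hw₀]
    clear hw₀
    induction w₀ with
    | zero => exact ⟨0, by simp⟩
    | tmul p q =>
      obtain ⟨e, he⟩ := Submodule.mem_span_singleton.1 p.2
      exact ⟨e • q, by rw [LinearMap.rTensor_tmul, tmul_smul, smul_tmul', he]; rfl⟩
    | add y z hy hz =>
      obtain ⟨a, ha⟩ := hy
      obtain ⟨b, hb⟩ := hz
      exact ⟨a + b, by rw [map_add, ha, hb, tmul_add]⟩
  obtain ⟨L, hL⟩ := Module.Projective.exists_dual_ne_zero k hg'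
  have hεχ : Coalgebra.counit (R := k) χ = 1 := by
    have h1 := actL_counit (k := k) (A := A) g'
    rw [actL_apply, hχ, slR_tmul] at h1
    have h2 : (Coalgebra.counit (R := k) χ - 1) • g' = 0 := by rw [sub_smul, h1, one_smul, sub_self]
    exact sub_eq_zero.1 ((smul_eq_zero.1 h2).resolve_right hg')
  have hgl : IsGroupLikeElem k χ := ⟨hεχ, by
    have hco := LinearMap.congr_fun (HopfRep.Comod.coassoc (k := k) (A := A) (V := B)) g'
    simp only [LinearMap.comp_apply, LinearEquiv.coe_coe, hχ, LinearMap.rTensor_tmul, LinearMap.lTensor_tmul,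
      TensorProduct.assoc_tmul] at hco
    have h1 := congrArg (fun z => TensorProduct.lid k (A ⊗[k] A) (L.rTensor (A ⊗[k] A) z)) hco
    simp only [LinearMap.rTensor_tmul, TensorProduct.lid_tmul] at h1
    exact (smul_right_injective _ hL h1).symm⟩
  have hχu : IsUnit χ := IsGroupLikeElem.isUnit hgl
  have hwg : Wt g' hχu.unit := ⟨hg', fun φ => by rw [actL_apply, hχ, slR_tmul]; rfl⟩
  obtain ⟨N, e, he⟩ := (hQ hχu.unit ⟨hgl, g', hwg⟩).2
  have hd : Wt (g' * e) (χh ^ N) := by
    have := hmul hwg he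
    rwa [mul_inv_cancel_left] at this
  have hc' : ∀ φ : A →ₐ[k] k, actL φ.toLinearMap (f' * e) = φ ((χh ^ N : Aˣ) : A) • (f' * e) := by
    intro φ
    refine mul_left_cancel₀ hg' ?_
    have h1 := hd.2 φ
    rw [actL_point_mul] at h1
    rw [actL_point_mul, mul_smul_comm]
    calc g' * (actL φ.toLinearMap f' * actL φ.toLinearMap e)
        = (actL φ.toLinearMap f' * g') * actL φ.toLinearMap e := by ring
      _ = f' * (actL φ.toLinearMap g' * actL φ.toLinearMap e) := by rw [hrw]; ring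
      _ = φ ((χh ^ N : Aˣ) : A) • (g' * (f' * e)) := by rw [h1, mul_smul_comm]; congr 1; ring
  refine ⟨f' * e, g' * e, N, N, hd.1, fun φ => ?_, fun φ => ?_, by rw [← hca, ← hcb]; ring⟩
  · rw [hc' φ, hh.2, smul_pow, Units.val_pow_eq_pow_val, map_pow, mul_smul_comm, smul_mul_assoc]
  · rw [hd.2 φ, hh.2, smul_pow, Units.val_pow_eq_pow_val, map_pow, mul_smul_comm, smul_mul_assoc]

end Groth.Agent.S15705
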