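import Groth.Statements.S15706
import Mathlib.RingTheory.Ideal.AssociatedPrime.Localization
import Mathlib.RingTheory.Ideal.MinimalPrime.Noetherian
import Mathlib.RingTheory.Ideal.AssociatedPrime.Finiteness

set_option autoImplicit false
universe u
open CAlg

namespace Groth.Agent.S15706

theorem exists_lift (A : Type u) [CommRing A]
    [IsNoetherianRing A] (hS1 : ∀ p ∈ associatedPrimes A A, p ∈ minimalPrimes A) (I : Ideal A)
    (b : A ⧸ I) (hb : b ∈ nonZeroDivisors (A ⧸ I)) :
    ∃ a : A, a ∈ nonZeroDivisors A ∧ Ideal.Quotient.mk I a = b := by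
  classical
  obtain ⟨a, rfl⟩ := Ideal.Quotient.mk_surjective b
  set P := (minimalPrimes.finite_of_isNoetherianRing A).toFinset with hP
  have hPp : ∀ p ∈ P, p.IsPrime := fun p hp => (((minimalPrimes.finite_of_isNoetherianRing A).mem_toFinset).mp hp).1.1
  have hnot : ∀ p ∈ P, a ∈ p → ¬ I ≤ p := by
    intro p hp hap hIp
    have hp' := ((minimalPrimes.finite_of_isNoetherianRing A).mem_toFinset).mp hp
    have hpI : p ∈ I.minimalPrimes :=
      ⟨⟨hPp p hp, hIp⟩, fun q hq hqp => hp'.2 ⟨hq.1, bot_le⟩ hqp⟩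
    have hass : p ∈ associatedPrimes A (A ⧸ I) :=
      Module.associatedPrimes.minimalPrimes_annihilator_subset_associatedPrimes A (A ⧸ I) (by rwa [Ideal.annihilator_quotient])
    obtain ⟨-, x, hx⟩ := isAssociatedPrime_iff.mp hass
    have : a • x = 0 := by
      have : a ∈ Submodule.colon (⊥ : Submodule A (A ⧸ I)) {x} := hx ▸ hap
      simpa [Submodule.mem_colon] using this
    have hx0 : x = 0 := (mem_nonZeroDivisors_iff_left.mp hb) x (by rw [← this]; rfl)
    subst hx0
    exact (hPp p hp).ne_top (by rw [hx]; ext; simp [Submodule.mem_colon])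
  set J : Ideal A := I ⊓ (P.filter (fun p => a ∉ p)).inf id with hJ
  have hJp : ∀ p ∈ P, a ∈ p → ¬ J ≤ p := by
    intro p hp hap hle
    rcases (hPp p hp).inf_le.mp hle with h | h
    · exact hnot p hp hap h
    · obtain ⟨q, hq, hqp⟩ := (hPp p hp).inf_le'.mp h
      rw [Finset.mem_filter] at hq
      have h1 := ((minimalPrimes.finite_of_isNoetherianRing A).mem_toFinset).mp hp
      exact hq.2 (h1.2 ⟨hPp q hq.1, bot_le⟩ hqp hap)
  obtain ⟨i, hiJ, hi⟩ : ∃ i ∈ J, ∀ p ∈ P, a ∈ p → i ∉ p := by
    by_contra hc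
    push Not at hc
    have hsub : (J : Set A) ⊆ ⋃ p ∈ (↑(P.filter (fun p => a ∈ p)) : Set (Ideal A)), (p : Set A) := by
      intro i hi
      obtain ⟨p, hp, hap, hip⟩ := hc i hi
      exact Set.mem_biUnion (Finset.mem_filter.mpr ⟨hp, hap⟩) hip
    obtain ⟨p, hp, hle⟩ := (Ideal.subset_union_prime (f := fun p => p) ⊥ ⊥
      (fun p hp _ _ => hPp p (Finset.mem_filter.mp hp).1)).mp hsub
    rw [Finset.mem_filter] at hp
    exact hJp p hp.1 hp.2 hle
  refine ⟨a + i, ?_, by rw [map_add, Ideal.Quotient.eq_zero_iff_mem.mpr hiJ.1, add_zero]⟩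
  have key : a + i ∉ ⋃ p ∈ associatedPrimes A A, (p : Set A) := by
    simp only [Set.mem_iUnion, SetLike.mem_coe, not_exists]
    intro p hp hmem
    have hpP : p ∈ P := ((minimalPrimes.finite_of_isNoetherianRing A).mem_toFinset).mpr (hS1 p hp)
    by_cases hap : a ∈ p
    · exact hi p hpP hap ((Ideal.add_mem_iff_right p hap).mp hmem)
    · have : i ∈ p := (Finset.inf_le (f := id) (Finset.mem_filter.mpr ⟨hpP, hap⟩)) hiJ.2
      exact hap ((Ideal.add_mem_iff_left p this).mp hmem)
  rw [biUnion_associatedPrimes_eq_compl_nonZeroDivisors] at key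
  simpa using key

/-- Let A be a Noetherian ring with Serre's property (S_1), stated here in the equivalent form that
every associated prime of A is a minimal prime of A. Let I be an ideal of A and b an element of A/I
which is regular (a non-zero-divisor) in A/I. Then b is the image of a regular element of A. -/
theorem result (A : Type u) [CommRing A]
    [IsNoetherianRing A] (hS1 : ∀ p ∈ associatedPrimes A A, p ∈ minimalPrimes A) (I : Ideal A)
    (b : A ⧸ I) (hb : b ∈ nonZeroDivisors (A ⧸ I)) :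
    ∃ a : A, a ∈ nonZeroDivisors A ∧ Ideal.Quotient.mk I a = b := by
  exact exists_lift A hS1 I b hb

end Groth.Agent.S15706
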