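import Groth.Statements.S15708
import Mathlib

set_option autoImplicit false
universe u v
open CAlg

namespace Groth.Agent.S15708

/-- Let A be a Noetherian commutative ring graded by the natural numbers, J a homogeneous ideal, and
p_1, ..., p_r finitely many prime ideals such that no p_i contains the irrelevant ideal A_+ and no
p_i contains J. Then there is a homogeneous element z of positive degree with z in J and z in no
p_i. -/
theorem result {R : Type u} {A : Type v} [CommRing R] [CommRing A]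
    [Algebra R A] [IsNoetherianRing A] (𝒜 : ℕ → Submodule R A) [GradedRing 𝒜]
    (J : Ideal A) (hJ : J.IsHomogeneous 𝒜) (P : Finset (Ideal A))
    (hP : ∀ p ∈ P, p.IsPrime ∧ ¬ (HomogeneousIdeal.irrelevant 𝒜).toIdeal ≤ p ∧ ¬ J ≤ p) :
    ∃ (z : A) (n : ℕ), 0 < n ∧ z ∈ 𝒜 n ∧ z ∈ J ∧ ∀ p ∈ P, z ∉ p := by
  classical
  have ne : ∀ (I : Ideal A), I.IsHomogeneous 𝒜 → ∀ p : Ideal A, ¬ I ≤ p → ∃ (a : A) (i : ℕ), a ∈ 𝒜 i ∧ a ∈ I ∧ a ∉ p := by
    intro I hI p hle
    obtain ⟨x, hx, hxp⟩ := SetLike.not_le_iff_exists.1 hle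
    by_contra hc
    push Not at hc
    refine hxp ?_
    rw [← DirectSum.sum_support_decompose 𝒜 x]
    exact sum_mem fun i _ => hc _ i (SetLike.coe_mem _) (hI i hx)
  induction P using Finset.strongInduction with
  | H P ih =>
    rcases P.eq_empty_or_nonempty with rfl | hne
    · exact ⟨0, 1, one_pos, zero_mem _, zero_mem _, fun p hp => absurd hp (Finset.notMem_empty p)⟩
    let H : Ideal A → Ideal A := fun p => (p.homogeneousCore 𝒜).toIdeal
    obtain ⟨p, hp⟩ := hne
    obtain ⟨hpp, hpA, hpJ⟩ := hP p hp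
    let P' := P.filter fun q => ¬ H q ≤ H p
    have hss : P' ⊂ P := Finset.filter_ssubset.2 ⟨p, hp, by simp⟩
    obtain ⟨z, dz, hdz, hz, hzJ, hzP⟩ := ih P' hss fun q hq => hP q (Finset.mem_of_mem_filter q hq)
    have heqH : ∀ q, H q ≤ H p → ∀ (a : A) (i : ℕ), a ∈ 𝒜 i → a ∈ q → a ∈ p := by
      intro q h a i ha haq
      have : a ∈ H q := Ideal.mem_homogeneousCore_of_homogeneous_of_mem ⟨i, ha⟩ haq
      exact Ideal.toIdeal_homogeneousCore_le 𝒜 p (h this)
    by_cases hzp : z ∈ p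
    swap
    · exact ⟨z, dz, hdz, hz, hzJ, fun q hq hzq => by
        by_cases h : H q ≤ H p
        · exact hzp (heqH q h z dz hz hzq)
        · exact hzP q (Finset.mem_filter.2 ⟨hq, h⟩) hzq⟩
    obtain ⟨a, i, ha, haJ, hap⟩ := ne J hJ p hpJ
    obtain ⟨b, j, hb, hbA, hbp⟩ := ne _ (HomogeneousIdeal.isHomogeneous _) p hpA
    have hj : 0 < j := by
      rcases Nat.eq_zero_or_pos j with rfl | h
      · refine absurd ?_ hbp
        have : b = 0 := by
          have h1 := (HomogeneousIdeal.mem_irrelevant_iff 𝒜 b).1 hbA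
          rwa [GradedRing.proj_apply, DirectSum.decompose_of_mem_same 𝒜 hb] at h1
        rw [this]; exact zero_mem _
      · exact h
    have hc : ∀ q : P', ∃ (c : A) (k : ℕ), c ∈ 𝒜 k ∧ c ∈ H q ∧ c ∉ p := fun q => by
      refine ne _ (HomogeneousIdeal.isHomogeneous _) p fun hle => ?_
      refine (Finset.mem_filter.1 q.2).2 fun x hx => ?_
      rw [← DirectSum.sum_support_decompose 𝒜 x]
      exact sum_mem fun i _ => Ideal.mem_homogeneousCore_of_homogeneous_of_mem ⟨i, SetLike.coe_mem _⟩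
        (hle (HomogeneousIdeal.isHomogeneous ((q : Ideal A).homogeneousCore 𝒜) i hx))
    choose c k hck hcH hcp using hc
    let y := a * b * ∏ q, c q
    let dy := i + j + ∑ q, k q
    have hy : y ∈ 𝒜 dy := SetLike.mul_mem_graded (SetLike.mul_mem_graded ha hb) (SetLike.prod_mem_graded 𝒜 k c fun q _ => hck q)
    have hyp : y ∉ p := fun h => by
      rcases hpp.mem_or_mem h with h | h
      · exact (hpp.mem_or_mem h).elim hap hbp
      · obtain ⟨q, -, hq⟩ := hpp.prod_mem_iff.1 h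
        exact hcp q hq
    have hyJ : y ∈ J := J.mul_mem_right _ (J.mul_mem_right _ haJ)
    have hdy : 0 < dy := by omega
    refine ⟨z ^ dy + y ^ dz, dz * dy, Nat.mul_pos hdz hdy, add_mem ?_ ?_,
      add_mem (Ideal.pow_mem_of_mem _ hzJ _ hdy) (Ideal.pow_mem_of_mem _ hyJ _ hdz), fun q hq hmem => ?_⟩
    · simpa [mul_comm] using SetLike.pow_mem_graded dy hz
    · simpa [mul_comm] using SetLike.pow_mem_graded dz hy
    have hw : z ^ dy + y ^ dz ∈ 𝒜 (dz * dy) := add_mem (by simpa [mul_comm] using SetLike.pow_mem_graded dy hz)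
      (by simpa [mul_comm] using SetLike.pow_mem_graded dz hy)
    by_cases h : H q ≤ H p
    · have := heqH q h _ _ hw hmem
      exact hyp (hpp.mem_of_pow_mem dz ((add_mem_cancel_left (Ideal.pow_mem_of_mem _ hzp _ hdy)).1 this))
    · have hq' : q ∈ P' := Finset.mem_filter.2 ⟨hq, h⟩
      have hyq : y ∈ q := Ideal.mul_mem_left _ _
        (Ideal.mem_of_dvd _ (Finset.dvd_prod_of_mem c (Finset.mem_univ ⟨q, hq'⟩))
          (Ideal.toIdeal_homogeneousCore_le 𝒜 q (hcH ⟨q, hq'⟩)))
      exact hzP q hq' ((hP q hq).1.mem_of_pow_mem dy ((add_mem_cancel_right (Ideal.pow_mem_of_mem _ hyq _ hdz)).1 hmem))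

end Groth.Agent.S15708
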