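import Groth.Statements.S15712
import Groth.Agent.FlatMorLib.MaxPoints
import Groth.Agent.Depth.Basic
import Mathlib.AlgebraicGeometry.Properties
import Mathlib.RingTheory.Ideal.MinimalPrime.Basic
import Mathlib.RingTheory.Ideal.Height
-- import your own Groth.Agent.* helpers here

set_option autoImplicit false
set_option linter.style.haveILetI false
universe u
open CategoryTheory AlgebraicGeometry TopologicalSpace
open RatSing

namespace Groth.Agent.S15712

/-- Let X be a locally Noetherian scheme with Serre's property (S_1), i.e. every local ring O_{X,x} has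
depth at least min(1, dim O_{X,x}) (for instance X Cohen–Macaulay), and let U ⊆ X be open. Then
scheme-theoretic density of U in X is equivalent to U being dense as a subset. (The published
statement assumes every scheme excellent, in particular locally Noetherian.) -/
theorem result (X : Scheme.{u}) [IsLocallyNoetherian X]
    (hS1 : ∀ x : X, min (1 : WithBot ℕ∞) (ringKrullDim (X.presheaf.stalk x)) ≤
      ((LocCoh.depth (X.presheaf.stalk x) (X.presheaf.stalk x) : ℕ∞) : WithBot ℕ∞))
    (U : X.Opens) : CInt.IsSchematicallyDense U ↔ Dense (U : Set X) := by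
  constructor
  · intro h
    rw [dense_iff_inter_open]
    rintro W hW ⟨x, hx⟩
    by_contra hc
    let W' : X.Opens := ⟨W, hW⟩
    have hb : W' ⊓ U = ⊥ := TopologicalSpace.Opens.ext (Set.not_nonempty_iff_eq_empty.1 hc)
    have hsub : Subsingleton Γ(X, W' ⊓ U) := by rw [hb]; infer_instance
    have h1 : (1 : Γ(X, W')) = 0 := h W' (Subsingleton.elim (h := hsub) _ _)
    have h2 := congrArg (X.presheaf.germ W' x hx).hom h1
    rw [map_one, map_zero] at h2
    exact one_ne_zero h2
  · intro hd V
    refine (injective_iff_map_eq_zero (X.presheaf.map (homOfLE (inf_le_left : V ⊓ U ≤ V)).op).hom).2 ?_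
    intro s hs
    apply TopCat.Presheaf.section_ext X.sheaf
    intro x hx
    refine Eq.trans ?_ (map_zero (X.presheaf.germ V x hx).hom).symm
    show (X.presheaf.germ V x hx).hom s = 0
    obtain ⟨_, ⟨W, hW, rfl⟩, hxW, hWV⟩ :=
      X.isBasis_affineOpens.exists_subset_of_mem_open hx V.2
    rw [show (X.presheaf.germ V x hx).hom s = (X.presheaf.germ W x hxW).hom ((X.presheaf.map (homOfLE (show W ≤ V from hWV)).op).hom s) from
      (X.presheaf.germ_res_apply (homOfLE (show W ≤ V from hWV)) x hxW s).symm]
    set a := (X.presheaf.map (homOfLE (show W ≤ V from hWV)).op).hom s with ha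
    by_contra hne
    have key : ∀ (y : X) (hy : y ∈ W), y ∈ U → (X.presheaf.germ W y hy).hom a = 0 := by
      intro y hy hyU
      rw [ha, X.presheaf.germ_res_apply (homOfLE (show W ≤ V from hWV)) y hy,
        ← X.presheaf.germ_res_apply (homOfLE (inf_le_left : V ⊓ U ≤ V)) y ⟨hWV hy, hyU⟩]
      exact (congrArg (X.presheaf.germ (V ⊓ U) y ⟨hWV hy, hyU⟩).hom hs).trans (map_zero _)
    let px := hW.primeIdealOf ⟨x, hxW⟩
    have hann : Ideal.torsionOf Γ(X, W) Γ(X, W) a ≤ px.asIdeal := by
      intro r hr
      by_contra hrp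
      apply hne
      letI := TopCat.Presheaf.algebra_section_stalk X.presheaf (⟨x, hxW⟩ : W)
      haveI := hW.isLocalization_stalk ⟨x, hxW⟩
      show algebraMap Γ(X, W) (X.presheaf.stalk x) a = 0
      exact (IsLocalization.map_eq_zero_iff px.asIdeal.primeCompl _ _).2 ⟨⟨r, hrp⟩, hr⟩
    obtain ⟨p, hp, hpx⟩ := Ideal.exists_minimalPrimes_le hann
    have hpp : p.IsPrime := hp.1.1
    let y := hW.fromSpec ⟨p, hpp⟩
    have hy : y ∈ W := hW.range_fromSpec.le (Set.mem_range_self _)
    letI := TopCat.Presheaf.algebra_section_stalk X.presheaf (⟨y, hy⟩ : W)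
    haveI hloc : IsLocalization.AtPrime (X.presheaf.stalk y) p := hW.isLocalization_stalk' ⟨p, hpp⟩ hy
    set z := algebraMap Γ(X, W) (X.presheaf.stalk y) a with hz
    have hz0 : z ≠ 0 := fun h0 => by
      obtain ⟨⟨r, hr⟩, hra⟩ := (IsLocalization.map_eq_zero_iff p.primeCompl _ _).1 h0
      exact hr (hp.1.2 hra)
    have hdepth : LocCoh.depth (X.presheaf.stalk y) (X.presheaf.stalk y) = 0 := by
      by_contra h0
      have h1 : ((1 : ℕ) : ℕ∞) ≤ LocCoh.depth (X.presheaf.stalk y) (X.presheaf.stalk y) :=
        ENat.one_le_iff_ne_zero.2 h0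
      obtain ⟨rs, hlen, hmem, hreg⟩ := (Groth.Agent.Depth.le_idealDepth_iff_exists
        (I := IsLocalRing.maximalIdeal (X.presheaf.stalk y)) (M := X.presheaf.stalk y)
        (Groth.Agent.Depth.smul_top_ne_top_self (IsLocalRing.maximalIdeal.isMaximal (X.presheaf.stalk y)).ne_top)).1 h1
      obtain ⟨r, rfl⟩ := List.length_eq_one_iff.1 hlen
      have hr : IsSMulRegular (X.presheaf.stalk y) r :=
        ((RingTheory.Sequence.isWeaklyRegular_cons_iff (X.presheaf.stalk y) r []).1 hreg).1
      have hrad : r ∈ (Ideal.map (algebraMap Γ(X, W) (X.presheaf.stalk y))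
          (Ideal.torsionOf Γ(X, W) Γ(X, W) a)).radical := by
        rw [Ideal.radical_eq_sInf, Submodule.mem_sInf]
        rintro q ⟨hq, hqp⟩
        have hle : Ideal.comap (algebraMap Γ(X, W) (X.presheaf.stalk y)) q ≤ p := fun t ht => by
          by_contra htp
          exact hqp.ne_top (Ideal.eq_top_of_isUnit_mem _ (Ideal.mem_comap.1 ht)
            (IsLocalization.map_units (X.presheaf.stalk y) (⟨t, htp⟩ : p.primeCompl)))
        have hge : p ≤ Ideal.comap (algebraMap Γ(X, W) (X.presheaf.stalk y)) q :=
          hp.2 ⟨Ideal.comap_isPrime _ _, Ideal.map_le_iff_le_comap.1 hq⟩ hle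
        obtain ⟨⟨t, u⟩, htu⟩ := IsLocalization.surj p.primeCompl r
        have hrmax : r ∈ IsLocalRing.maximalIdeal (X.presheaf.stalk y) := hmem r (List.mem_singleton_self r)
        have htp : t ∈ p := by
          by_contra htp
          have hu := IsLocalization.map_units (X.presheaf.stalk y) (⟨t, htp⟩ : p.primeCompl)
          rw [← htu] at hu
          exact (IsLocalRing.mem_maximalIdeal _).1 hrmax (isUnit_of_mul_isUnit_left hu)
        have : r * algebraMap Γ(X, W) (X.presheaf.stalk y) u ∈ q := htu ▸ hge htp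
        exact (hqp.mem_or_mem this).resolve_right fun hu =>
          hqp.ne_top (Ideal.eq_top_of_isUnit_mem _ hu (IsLocalization.map_units (X.presheaf.stalk y) u))
      obtain ⟨N, hN⟩ := hrad
      have hzN : r ^ N * z = 0 := by
        have hle : Ideal.map (algebraMap Γ(X, W) (X.presheaf.stalk y)) (Ideal.torsionOf Γ(X, W) Γ(X, W) a) ≤
            Ideal.torsionOf _ _ z := Ideal.map_le_iff_le_comap.2 fun t ht => by
          refine Ideal.mem_comap.2 ?_
          show algebraMap Γ(X, W) (X.presheaf.stalk y) t • z = 0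
          rw [smul_eq_mul, hz, ← map_mul]
          exact (congrArg _ ht).trans (map_zero _)
        exact hle hN
      exact hz0 ((hr.pow N).right_eq_zero_of_smul hzN)
    have hdim : ringKrullDim (X.presheaf.stalk y) ≤ 0 := by
      have h1 := hS1 y
      rw [hdepth] at h1
      rcases min_le_iff.1 h1 with h | h
      · exact absurd h (by simp)
      · simpa using h
    have hyU : y ∈ U := by
      refine Groth.Agent.FlatMorLib.mem_of_dense_of_maximal hd fun w hw => ?_
      obtain ⟨Q, rfl⟩ : w ∈ Set.range (X.fromSpecStalk y) := by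
        rw [AlgebraicGeometry.Scheme.range_fromSpecStalk]; exact hw
      have : Ring.KrullDimLE 0 (X.presheaf.stalk y) := by
        rw [Ring.krullDimLE_iff]; exact_mod_cast hdim
      have hQ : Q = IsLocalRing.closedPoint (X.presheaf.stalk y) :=
        PrimeSpectrum.ext (IsLocalRing.eq_maximalIdeal (Ring.krullDimLE_zero_iff.1 this Q.asIdeal Q.isPrime))
      rw [hQ, AlgebraicGeometry.Scheme.fromSpecStalk_closedPoint]
    exact hz0 (key y hy hyU)

end Groth.Agent.S15712
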