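import Groth.Statements.S15715
import Groth.Agent.QCohBase.Localization
import Mathlib.RingTheory.Ideal.AssociatedPrime.Finiteness
import Mathlib.RingTheory.Ideal.AssociatedPrime.Basic
import Mathlib.AlgebraicGeometry.Noetherian
import Mathlib.Algebra.Module.Torsion.Basic
-- import your own Groth.Agent.* helpers here

set_option autoImplicit false
set_option linter.style.haveILetI false
universe u
open CategoryTheory AlgebraicGeometry TopologicalSpace
open RatSing

namespace Groth.Agent.S15715

/-- Let X be a locally Noetherian scheme, φ : F → G a homomorphism of O_X-modules with F quasi-coherent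
and torsion-free (over every affine open V, no nonzero section of F is killed by a regular element
of O_X(V)), and U a scheme-theoretically dense open subset of X such that the restriction of φ to U
is injective. Then φ is injective. (The published statement allows an arbitrary O_X-module F; for
the skyscraper sheaf on the affine line over a field, placed at a closed point with value the local
ring at that point, which is torsion-free in this sense, the zero map to the zero module is
injective over the dense open complement of the point but not injective. This row takes F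
quasi-coherent.) -/
theorem result (X : Scheme.{u})
    [IsLocallyNoetherian X] (F G : X.Modules) (hF : Coh.IsQCoh F)
    (htf : ∀ V : X.affineOpens, Submodule.torsion Γ(X, V.1) (F.val.obj (Opposite.op V.1)) = ⊥)
    (φ : F ⟶ G) (U : X.Opens) (hU : CInt.IsSchematicallyDense U)
    (hφU : ∀ V : X.Opens, V ≤ U → Function.Injective ⇑(ConcreteCategory.hom (φ.val.app (Opposite.op V)))) (V : X.Opens) :
    Function.Injective ⇑(ConcreteCategory.hom (φ.val.app (Opposite.op V))) := by
  haveI : F.IsQuasicoherent := hF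
  refine (injective_iff_map_eq_zero (ConcreteCategory.hom (φ.val.app (Opposite.op V)))).2 fun s hs => ?_
  have hU0 : Groth.Agent.QCohBase.mres F (inf_le_left : V ⊓ U ≤ V) s = 0 := by
    refine hφU (V ⊓ U) inf_le_right ?_
    refine (PresheafOfModules.naturality_apply φ.val (homOfLE (inf_le_left : V ⊓ U ≤ V)).op s).trans ?_
    rw [hs, map_zero]
    exact (map_zero _).symm
  let ι := {W : X.Opens // IsAffineOpen W ∧ W ≤ V}
  refine TopCat.Sheaf.eq_of_locally_eq' ⟨F.presheaf, F.isSheaf⟩ (fun W : ι => W.1) V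
    (fun W => homOfLE W.2.2) ?_ s 0 fun W => ?_
  · intro x hx
    obtain ⟨_, ⟨W, hW, rfl⟩, hxW, hWV⟩ := X.isBasis_affineOpens.exists_subset_of_mem_open hx V.2
    exact TopologicalSpace.Opens.mem_iSup.2 ⟨⟨W, hW, hWV⟩, hxW⟩
  obtain ⟨W, hW, hWV⟩ := W
  refine Eq.trans ?_ (map_zero (Groth.Agent.QCohBase.mres F hWV)).symm
  show Groth.Agent.QCohBase.mres F hWV s = 0
  haveI : IsNoetherianRing Γ(X, W) := IsLocallyNoetherian.component_noetherian ⟨W, hW⟩
  let C : Set (PrimeSpectrum Γ(X, W)) := (hW.fromSpec ⁻¹' (U : Set X))ᶜ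
  let I : Ideal Γ(X, W) := PrimeSpectrum.vanishingIdeal C
  have hC : IsClosed C := (U.2.preimage hW.fromSpec.continuous).isClosed_compl
  have hD : ∀ g ∈ I, X.basicOpen g ≤ W ⊓ U := by
    intro g hg
    refine le_inf (X.basicOpen_le g) ?_
    rw [← hW.fromSpec_image_basicOpen g]
    rintro _ ⟨q, hq, rfl⟩
    by_contra hqU
    exact hq ((PrimeSpectrum.mem_vanishingIdeal C g).1 hg q hqU)
  have hcov : W ⊓ U ≤ ⨆ g : I, X.basicOpen g.1 := by
    rintro x ⟨hxW, hxU⟩
    have hnot : hW.primeIdealOf ⟨x, hxW⟩ ∉ C := fun h => h (by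
      show hW.fromSpec (hW.primeIdealOf ⟨x, hxW⟩) ∈ (U : Set X)
      rw [hW.fromSpec_primeIdealOf]
      exact hxU)
    rw [← hC.closure_eq, ← PrimeSpectrum.zeroLocus_vanishingIdeal_eq_closure, PrimeSpectrum.mem_zeroLocus,
      Set.not_subset] at hnot
    obtain ⟨g, hg, hgx⟩ := hnot
    refine TopologicalSpace.Opens.mem_iSup.2 ⟨⟨g, hg⟩, ?_⟩
    show x ∈ X.basicOpen g
    rw [← hW.fromSpec_image_basicOpen g]
    exact ⟨hW.primeIdealOf ⟨x, hxW⟩, hgx, hW.fromSpec_primeIdealOf ⟨x, hxW⟩⟩
  obtain ⟨f, hfI, hf⟩ : ∃ f ∈ I, f ∈ nonZeroDivisors Γ(X, W) := by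
    by_contra hc
    push Not at hc
    have hsub : (I : Set Γ(X, W)) ⊆ ⋃ p ∈ associatedPrimes Γ(X, W) Γ(X, W), (p : Set Γ(X, W)) := by
      intro g hg
      rw [biUnion_associatedPrimes_eq_zero_divisors]
      have := hc g hg
      rw [mem_nonZeroDivisors_iff_right] at this
      push Not at this
      obtain ⟨b, hb, hb0⟩ := this
      exact ⟨b, hb0, by rw [smul_eq_mul, mul_comm]; exact hb⟩
    obtain ⟨p, hp, hIp⟩ := (Ideal.subset_union_prime_finite (associatedPrimes.finite Γ(X, W) Γ(X, W)) ⊤ ⊤
      (fun p hp _ _ => hp.isPrime)).1 hsub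
    obtain ⟨hpp, a, ha⟩ := isAssociatedPrime_iff.1 hp
    have ha0 : a = 0 := by
      apply hU W
      refine Eq.trans ?_ (map_zero (X.presheaf.map (homOfLE (inf_le_left : W ⊓ U ≤ W)).op).hom).symm
      refine TopCat.Sheaf.eq_of_locally_eq' X.sheaf (fun g : I => X.basicOpen g.1) (W ⊓ U)
        (fun g => homOfLE (hD g.1 g.2)) hcov _ 0 fun g => ?_
      refine Eq.trans ?_ (map_zero (X.presheaf.map (homOfLE (hD g.1 g.2)).op).hom).symm
      show (X.presheaf.map (homOfLE (hD g.1 g.2)).op).hom ((X.presheaf.map (homOfLE _).op).hom a) = 0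
      refine (Groth.Agent.QCohBase.ores_ores (inf_le_left : W ⊓ U ≤ W) (hD g.1 g.2) a).trans ?_
      have hu := RingedSpace.isUnit_res_basicOpen X.toRingedSpace g.1
      refine hu.mul_right_eq_zero.1 ?_
      have hga : g.1 * a = 0 := by
        have := hIp g.2
        rw [ha, Submodule.mem_colon_singleton, Submodule.mem_bot] at this
        exact this
      exact ((map_mul (Groth.Agent.QCohBase.ores (X.basicOpen_le g.1)) g.1 a).symm.trans
        ((congrArg _ hga).trans (map_zero _)))
    subst ha0
    apply hpp.ne_top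
    rw [ha, eq_top_iff]
    intro r _
    rw [Submodule.mem_colon_singleton, smul_zero]
    exact Submodule.zero_mem _
  have hz : Groth.Agent.QCohBase.mres F (X.basicOpen_le f) (Groth.Agent.QCohBase.mres F hWV s) = 0 := by
    rw [Groth.Agent.QCohBase.mres_mres]
    have hle : X.basicOpen f ≤ V ⊓ U := le_inf ((X.basicOpen_le f).trans hWV) ((hD f hfI).trans inf_le_right)
    rw [← Groth.Agent.QCohBase.mres_mres F (inf_le_left : V ⊓ U ≤ V) hle, hU0, map_zero]
  obtain ⟨n, hn⟩ := Groth.Agent.QCohBase.exists_pow_smul_eq_zero F hW f rfl (X.basicOpen_le f) _ hz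
  have hmem : Groth.Agent.QCohBase.mres F hWV s ∈ Submodule.torsion Γ(X, W) (F.val.obj (Opposite.op W)) :=
    (Submodule.mem_torsion_iff (R := Γ(X, W)) (M := F.val.obj (Opposite.op W)) _).2 ⟨⟨f ^ n, pow_mem hf n⟩, hn⟩
  rw [htf ⟨W, hW⟩] at hmem
  exact hmem

end Groth.Agent.S15715
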