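import Groth.Statements.S15717
import Mathlib
import Groth.Agent.Depth.CM
import Groth.Agent.Depth.SeqDepth

set_option autoImplicit false
universe u
open CAlg

namespace Groth.Agent.S15717

open RingTheory.Sequence IsLocalRing LocCoh Groth.Agent

/-- Let R be a Cohen–Macaulay local ring and I an ideal of R with R/I equidimensional (all minimal
primes p over I have the same dim R/p). Then there is a regular sequence r_1, ..., r_n in I such
that the closed subscheme V(r_1, ..., r_n) of Spec R, a local complete intersection, contains V(I),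
has the same dimension as V(I), and has the irreducible components of V(I) among its irreducible
components: dim R/(r_1, ..., r_n) = dim R/I and every minimal prime over I is a minimal prime over
(r_1, ..., r_n). The sequence is asked to be weakly regular (each r_i a non-zero-divisor modulo the
previous ones), which for I proper is the same as regular and which also covers I = R with the
sequence (1). -/
theorem result (R : Type u) [CommRing R]
    [LocCoh.IsCohenMacaulayLocalRing R] (I : Ideal R)
    (hI : ∀ p ∈ I.minimalPrimes, ringKrullDim (R ⧸ p) = ringKrullDim (R ⧸ I)) :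
    ∃ rs : List R, RingTheory.Sequence.IsWeaklyRegular R rs ∧ Ideal.ofList rs ≤ I ∧
      ringKrullDim (R ⧸ Ideal.ofList rs) = ringKrullDim (R ⧸ I) ∧
      I.minimalPrimes ⊆ (Ideal.ofList rs).minimalPrimes := by
  open RingTheory.Sequence IsLocalRing LocCoh in
  rcases eq_or_ne I ⊤ with rfl | hne
  · refine ⟨[(1 : R)], ?_, by simp, (by rw [show Ideal.ofList [(1 : R)] = ⊤ from by rw [Ideal.ofList_singleton, Ideal.span_singleton_one]]), ?_⟩
    · exact (isWeaklyRegular_singleton_iff R (1 : R)).mpr (IsSMulRegular.one R)
    · intro p hp; exact absurd (top_le_iff.mp hp.1.2) hp.1.1.ne_top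
  have hIm : I ≤ maximalIdeal R := le_maximalIdeal hne
  have hIM : I • (⊤ : Submodule R R) ≠ ⊤ := by simpa using hne
  obtain ⟨n, hn⟩ := Depth.exists_natCast_eq_idealDepth hIM
  obtain ⟨rs, hlen, hmem, hreg⟩ := (Depth.le_idealDepth_iff_exists hIM).1 hn.ge
  have hJI : Ideal.ofList rs ≤ I := Depth.ofList_le hmem
  have hJ : idealDepth (Ideal.ofList rs) R = n := hlen ▸
    (Depth.idealDepth_ofList_eq_length_iff (M := R) rs fun r hr => hIm (hmem r hr)).2 hreg
  have hdim : ∀ J : Ideal R, J ≤ maximalIdeal R → idealDepth J R = n →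
      ringKrullDim R = ringKrullDim (R ⧸ J) + ((n : ℕ∞) : WithBot ℕ∞) := by
    intro J hJ hJn
    have h := Depth.supportDim_eq_quotient_add_idealDepth R Depth.isCohenMacaulayModule_self hJ
    rwa [hJn, Module.supportDim_self_eq_ringKrullDim, smul_eq_mul, Ideal.mul_top,
      Module.supportDim_quotient_eq_ringKrullDim] at h
  have hfinI := hdim I hIm hn
  have hfinJ := hdim _ (hJI.trans hIm) hJ
  have : Nontrivial (R ⧸ I) := Ideal.Quotient.nontrivial_iff.mpr hne
  have : IsLocalRing (R ⧸ I) := .of_surjective' (Ideal.Quotient.mk I) Ideal.Quotient.mk_surjective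
  have heq : ringKrullDim (R ⧸ Ideal.ofList rs) = ringKrullDim (R ⧸ I) := by
    have h := hfinJ.symm.trans hfinI
    revert h
    generalize ringKrullDim (R ⧸ Ideal.ofList rs) = a
    generalize ringKrullDim (R ⧸ I) = b
    intro h
    induction a with
    | bot => induction b with
      | bot => rfl
      | coe b => simp at h; exact absurd h.symm (WithBot.coe_ne_bot (a := b + (n : ℕ∞)))
    | coe a => induction b with
      | bot => simp at h
      | coe b => exact congrArg _ (ENat.add_left_injective_of_ne_top (ENat.natCast_ne_top n) (WithBot.coe_injective h))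
  refine ⟨rs, hreg, hJI, heq, fun p hp => ?_⟩
  have := hp.1.1
  obtain ⟨q, hq, hqp⟩ := Ideal.exists_minimalPrimes_le (hJI.trans hp.1.2)
  have := hq.1.1
  rcases hqp.eq_or_lt with rfl | hlt
  · exact hq
  exfalso
  obtain ⟨x, hxp, hxq⟩ := SetLike.exists_of_lt hlt
  have hxnz : Ideal.Quotient.mk q x ∈ nonZeroDivisors (R ⧸ q) :=
    mem_nonZeroDivisors_of_ne_zero (by rwa [ne_eq, Ideal.Quotient.eq_zero_iff_mem])
  have h1 := ringKrullDim_quotient_succ_le_of_nonZeroDivisor hxnz
  have h2 : ringKrullDim (R ⧸ p) ≤ ringKrullDim ((R ⧸ q) ⧸ Ideal.span {Ideal.Quotient.mk q x}) := by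
    refine ringKrullDim_le_of_surjective
      (Ideal.Quotient.lift _ (Ideal.Quotient.factor hqp) fun a ha => ?_) ?_
    · obtain ⟨c, rfl⟩ := Ideal.mem_span_singleton.mp ha
      rw [map_mul, Ideal.Quotient.factor_mk, Ideal.Quotient.eq_zero_iff_mem.mpr hxp, zero_mul]
    · exact Ideal.Quotient.lift_surjective_of_surjective _ _ (Ideal.Quotient.factor_surjective hqp)
  have h3 : ringKrullDim (R ⧸ q) ≤ ringKrullDim (R ⧸ I) :=
    heq ▸ ringKrullDim_le_of_surjective _ (Ideal.Quotient.factor_surjective hq.1.2)
  rw [← hI p hp] at h3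
  have : Nontrivial (R ⧸ p) := Ideal.Quotient.nontrivial_iff.mpr hp.1.1.ne_top
  have h4 := (add_le_add h2 le_rfl).trans (h1.trans h3)
  have : IsLocalRing (R ⧸ p) := .of_surjective' (Ideal.Quotient.mk p) Ideal.Quotient.mk_surjective
  have hlt : ringKrullDim (R ⧸ p) < ⊤ := ringKrullDim_lt_top
  have hbot := ringKrullDim_nonneg_of_nontrivial (R := R ⧸ p)
  revert h4 hlt hbot
  generalize ringKrullDim (R ⧸ p) = d
  intro h4 hlt hbot
  induction d with
  | bot => simp at hbot
  | coe d =>
    induction d with
    | top => exact lt_irrefl _ hlt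
    | coe m =>
      have : m + 1 ≤ m := by exact_mod_cast h4
      omega

end Groth.Agent.S15717
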