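import Groth.Statements.S15743
import Groth.Agent.GenLocus.Extend

set_option autoImplicit false
universe u
open QCohSup

namespace Groth.Agent.S15743

open AlgebraicGeometry CategoryTheory Opposite TopologicalSpace
open Groth.Agent.QCohBase Groth.Agent.GenLocus

theorem tmul_zero_left {X : Scheme.{u}} (M N : X.Modules) (U : X.Opens) (n : Γ(N, U)) :
    SecTwist.tmul M N U 0 n = 0 := by
  refine (congrArg (fun q => ((SecTwist.toTensor M N).app (op U)).hom q) (TensorProduct.zero_tmul _ _)).trans ?_
  exact map_zero ((SecTwist.toTensor M N).app (op U)).hom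

theorem pow_eq_framePow {X : Scheme.{u}} {L : X.Modules} (s : Coh.structureModule X ⟶ L) (U : X.Opens) :
    ∀ n : ℕ, SecTwist.pow s n U = GenLocus.framePow (SecTwist.val s U) n
  | 0 => rfl
  | n + 1 => congrArg (fun q => SecTwist.tmul (CohB1.tensorPow L n) L U q (SecTwist.val s U))
      (pow_eq_framePow s U n)

theorem main (X : Scheme.{u}) [CompactSpace X] (L : X.Modules) (hL : PicF.IsInvertible L)
    (s : Coh.structureModule X ⟶ L) (F : X.Modules) (hF : Coh.IsQCoh F) (t : Γ(F, ⊤))
    (ht : mres F (le_top : CohB1.genLocus L s ≤ ⊤) t = 0) :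
    ∃ n : ℕ, 0 < n ∧ SecTwist.twist s n F ⊤ t = 0 := by
  classical
  haveI : F.IsQuasicoherent := hF
  choose A hA hxA _ e he using fun x : X ↦ exists_isFrame hL (W := ⊤) (x := x) trivial
  obtain ⟨T, hT⟩ := CompactSpace.elim_nhds_subcover (fun x ↦ (A x : Set X))
    (fun x ↦ (A x).2.mem_nhds (hxA x))
  choose f hf using fun x : X => (he x).bijective.2 (sect s (A x))
  replace hf : ∀ x, f x • e x = sect s (A x) := hf
  have hk : ∀ x : X, ∃ n : ℕ, f x ^ n • mres F (le_top : A x ≤ ⊤) t = 0 := fun x => by
    refine exists_pow_smul_eq_zero F (hA x) (f x) rfl (X.basicOpen_le _) _ ?_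
    have hle : X.basicOpen (f x) ≤ CohB1.genLocus L s :=
      (genLocus_inf_eq_basicOpen s (he x) (hf x)).ge.trans inf_le_left
    rw [mres_mres, ← mres_mres F (le_top : CohB1.genLocus L s ≤ ⊤) hle, ht, map_zero]
  choose n hn using hk
  let N := T.sup n + 1
  have hzero : ∀ x ∈ T, SecTwist.twist s N F (A x) (mres F (le_top : A x ≤ ⊤) t) = 0 := fun x hx => by
    obtain ⟨j, hj⟩ := Nat.le.dest (show n x ≤ N from Nat.le_succ_of_le (Finset.le_sup (f := n) hx))
    have h0 : f x ^ N • mres F (le_top : A x ≤ ⊤) t = 0 := by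
      rw [show f x ^ N = f x ^ j * f x ^ n x by rw [← pow_add, add_comm, hj], mul_smul, hn, smul_zero]
    show SecTwist.tmul F (CohB1.tensorPow L N) (A x) _ (SecTwist.pow s N (A x)) = 0
    rw [pow_eq_framePow, show SecTwist.val s (A x) = f x • e x from (hf x).symm, framePow_smul,
      ← one_smul Γ(X, A x) (mres F (le_top : A x ≤ ⊤) t), tmul_smul_smul, one_mul,
      ← mul_one (f x ^ N), ← tmul_smul_smul, h0, one_smul]
    exact tmul_zero_left _ _ _ _
  refine ⟨N, Nat.succ_pos _, eq_of_iSup_le (CohB1.tensorMod F (CohB1.tensorPow L N))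
    (fun i : T => A i.1) (fun i => le_top) ?_ _ _ fun i => ?_⟩
  · intro x _
    have : x ∈ ⋃ i ∈ T, (A i : Set X) := by rw [hT]; trivial
    obtain ⟨i, hi, hxi⟩ := Set.mem_iUnion₂.mp this
    exact Opens.mem_iSup.mpr ⟨⟨i, hi⟩, hxi⟩
  · exact ((SecTwist.map_twist s N F (homOfLE le_top) t).trans (hzero i.1 i.2)).trans
      (map_zero (mres (CohB1.tensorMod F (CohB1.tensorPow L N)) (le_top : A i.1 ≤ ⊤))).symm

open AlgebraicGeometry in
open CategoryTheory in
open Opposite in
/-- Let `X` be a scheme whose underlying space is quasi-compact, `L` an invertible `O_X`-module, `s` a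
global section of `L` and `X_s` the open where `s` generates `L`, `F` a quasi-coherent `O_X`-module
and `t` a global section of `F` whose restriction to `X_s` is zero. Then `t ⊗ s^{⊗ n} = 0` in `Γ(X,
F ⊗ L^{⊗ n})` for some integer `n > 0`. (The published statement assumes the underlying space
Noetherian, or the scheme separated with quasi-compact underlying space; the published proof of this
part uses only quasi-compactness, so only that is assumed here.) -/
theorem result
    (X : Scheme.{u}) [CompactSpace X] (L : X.Modules) (hL : PicF.IsInvertible L)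
    (s : Coh.structureModule X ⟶ L) (F : X.Modules) [Coh.IsQCoh F]
    (t : F.val.obj (op ⊤))
    (ht : F.val.map (homOfLE (le_top : CohB1.genLocus L s ≤ ⊤)).op t = 0) :
    ∃ n : ℕ, 0 < n ∧ SecTwist.twist s n F ⊤ t = 0 := by
  exact Groth.Agent.S15743.main X L hL s F ‹_› t ht

end Groth.Agent.S15743
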