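import Groth.Statements.S15744
import Groth.Agent.ProjUPLib.ExtendQCoh
import Groth.Agent.S15743

set_option autoImplicit false
universe u
open QCohSup

namespace Groth.Agent.S15744

open AlgebraicGeometry CategoryTheory Opposite TopologicalSpace Filter
open Groth.Agent.QCohBase Groth.Agent.GenLocus

theorem main (X : Scheme.{u}) [CompactSpace X] [QuasiSeparatedSpace X] (L : X.Modules)
    (hL : PicF.IsInvertible L) (s : Coh.structureModule X ⟶ L) (F : X.Modules) (hF : Coh.IsQCoh F)
    (t : Γ(F, CohB1.genLocus L s)) :
    ∃ n : ℕ, 0 < n ∧ ∃ t' : Γ(CohB1.tensorMod F (CohB1.tensorPow L n), ⊤),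
      mres _ (le_top : CohB1.genLocus L s ≤ ⊤) t' = SecTwist.twist s n F (CohB1.genLocus L s) t := by
  haveI : F.IsQuasicoherent := hF
  have hs : homOfSection L (sect s ⊤) = s := by
    refine L.unitHomEquiv.injective (Subtype.ext (funext fun V => ?_))
    show sect (homOfSection L (sect s ⊤)) V.unop = sect s V.unop
    rw [sect_homOfSection, mres_sect]
  have key : ∀ s' : Coh.structureModule X ⟶ L, s' = s → ∀ t' : Γ(F, CohB1.genLocus L s'),
      (∀ᶠ N in atTop, ∃ c : Γ(CohB1.tensorMod F (CohB1.tensorPow L N), ⊤),
        mres _ (le_top : CohB1.genLocus L s' ≤ ⊤) c =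
          SecTwist.tmul _ _ _ t' (GenLocus.framePow (mres L le_top (sect s ⊤)) N)) →
      ∃ n : ℕ, 0 < n ∧ ∃ c : Γ(CohB1.tensorMod F (CohB1.tensorPow L n), ⊤),
        mres _ (le_top : CohB1.genLocus L s' ≤ ⊤) c = SecTwist.twist s' n F (CohB1.genLocus L s') t' := by
    rintro _ rfl t' h
    obtain ⟨n, ⟨c, hc⟩, hn⟩ := (h.and (eventually_gt_atTop 0)).exists
    refine ⟨n, hn, c, hc.trans ?_⟩
    show SecTwist.tmul _ _ _ t' _ = SecTwist.tmul _ _ _ t' _
    rw [Groth.Agent.S15743.pow_eq_framePow, mres_sect]
  revert t
  rw [← hs]
  intro t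
  exact key _ hs t (ProjUPLib.eventually_extend_qcoh hL (sect s ⊤) t)

open AlgebraicGeometry in
open CategoryTheory in
open Opposite in
/-- Let `X` be a scheme whose underlying space is quasi-compact and quasi-separated, `L` an invertible
`O_X`-module, `s` a global section of `L` and `X_s` the open where `s` generates `L`, `F` a
quasi-coherent `O_X`-module and `t` a section of `F` over `X_s`. Then for some integer `n > 0` there
is a global section of `F ⊗ L^{⊗ n}` whose restriction to `X_s` is `t ⊗ s^{⊗ n}`. (The published
statement assumes the underlying space Noetherian, or the scheme separated with quasi-compact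
underlying space; the published proof uses a finite affine open cover with quasi-compact pairwise
intersections, which is what quasi-compactness and quasi-separatedness provide, and both published
cases have them.) -/
theorem result
    (X : Scheme.{u}) [CompactSpace X] [QuasiSeparatedSpace X] (L : X.Modules)
    (hL : PicF.IsInvertible L) (s : Coh.structureModule X ⟶ L) (F : X.Modules) [Coh.IsQCoh F]
    (t : F.val.obj (op (CohB1.genLocus L s))) :
    ∃ n : ℕ, 0 < n ∧ ∃ t' : (CohB1.tensorMod F (CohB1.tensorPow L n)).val.obj (op ⊤),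
      (CohB1.tensorMod F (CohB1.tensorPow L n)).val.map
          (homOfLE (le_top : CohB1.genLocus L s ≤ ⊤)).op t' =
        SecTwist.twist s n F (CohB1.genLocus L s) t := by
  exact Groth.Agent.S15744.main X L hL s F ‹_› t

end Groth.Agent.S15744
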