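import Groth.Statements.S15749
import Mathlib.RingTheory.Idempotents
import Mathlib.RingTheory.Nilpotent.Lemmas
import Mathlib.RingTheory.Ideal.Quotient.Operations
import Mathlib.Data.Finset.Union

set_option autoImplicit false
universe u
open CAlg

namespace Groth.Agent.S15749

/-- For an arbitrary commutative ring R, every idempotent of the ring of formal Laurent series R((t)) is
the constant series attached to a unique idempotent of R. Equivalently, the structure map R → R((t))
induces a bijection on idempotents, so that the spectrum of R((t)) is connected if and only if the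
spectrum of R is. No reducedness is assumed. -/
theorem result (R : Type u) [CommRing R]
    (e : LaurentSeries R) (he : IsIdempotentElem e) :
    ∃! r : R, IsIdempotentElem r ∧ HahnSeries.C r = e := by
  classical
  have hee : ∀ n, ∑ ij ∈ Finset.antidiagonal e.isPWO_support e.isPWO_support n, e.coeff ij.1 * e.coeff ij.2 = e.coeff n := by
    intro n; rw [← HahnSeries.coeff_mul, he.eq]
  have hp : ∀ (p : Ideal R), p.IsPrime → ∀ n : ℤ, n ≠ 0 → e.coeff n ∈ p := by
    intro p hp
    let q := Ideal.Quotient.mk p
    have hq : ∀ n, ∑ ij ∈ Finset.antidiagonal e.isPWO_support e.isPWO_support n, q (e.coeff ij.1) * q (e.coeff ij.2) = q (e.coeff n) := by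
      intro n; rw [← hee n, map_sum]; simp [q]
    have hneg : ∀ n < 0, e.coeff n ∈ p := by
      by_contra hc
      push Not at hc
      obtain ⟨n₀, hn₀, hn₀p⟩ := hc
      let T : Set ℤ := {n | n < 0 ∧ e.coeff n ∉ p}
      have hT : T.IsWF := e.isWF_support.mono (fun n hn h0 => hn.2 (h0 ▸ p.zero_mem))
      have hne : T.Nonempty := ⟨n₀, hn₀, hn₀p⟩
      set v := hT.min hne
      have hv : v < 0 ∧ e.coeff v ∉ p := hT.min_mem hne
      have hlt : ∀ i < v, q (e.coeff i) = 0 := fun i hi => by
        rw [Ideal.Quotient.eq_zero_iff_mem]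
        by_contra hi'
        exact hT.not_lt_min hne (show i ∈ T from ⟨by omega, hi'⟩) hi
      have h2 := hq (v + v)
      rw [Finset.sum_eq_single (v, v), hlt (v + v) (by omega)] at h2
      · rw [← map_mul, Ideal.Quotient.eq_zero_iff_mem] at h2
        exact hv.2 ((hp.mem_or_mem h2).elim id id)
      · rintro ⟨i, j⟩ hij hne'
        rw [Finset.mem_antidiagonal] at hij
        have h : i + j = v + v := hij.2.2
        rcases lt_trichotomy i v with hi | rfl | hi
        · simp [hlt i hi]
        · exact absurd (show (v, j) = (v, v) by rw [show j = v by omega]) hne'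
        · simp [hlt j (by omega)]
      · intro hmem
        rw [Finset.mem_antidiagonal] at hmem
        push Not at hmem
        have : e.coeff v = 0 := by
          by_contra h; exact hmem h h rfl
        simp [this]
    intro n hn
    rcases lt_or_gt_of_ne hn with h | h
    · exact hneg n h
    obtain ⟨m, rfl⟩ := Int.eq_ofNat_of_zero_le h.le
    induction m using Nat.strong_induction_on with
    | _ m ih =>
      have hz : ∀ i : ℤ, i ≠ 0 → i < (m : ℤ) → q (e.coeff i) = 0 := by
        intro i hi0 him
        rw [Ideal.Quotient.eq_zero_iff_mem]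
        rcases lt_or_gt_of_ne hi0 with h' | h'
        · exact hneg i h'
        · obtain ⟨i', rfl⟩ := Int.eq_ofNat_of_zero_le h'.le
          exact ih i' (by omega) hi0 h'
      have h0 := hq 0
      rw [Finset.sum_eq_single ((0 : ℤ), (0 : ℤ))] at h0
      rotate_left
      · rintro ⟨i, j⟩ hij hne'
        rw [Finset.mem_antidiagonal] at hij
        have hs : i + j = 0 := hij.2.2
        rcases lt_trichotomy i 0 with hi | rfl | hi
        · simp [hz i hi.ne (by omega)]
        · exact absurd (show ((0:ℤ), j) = (0, 0) by rw [show j = 0 by omega]) hne'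
        · simp [hz j (by omega) (by omega)]
      · intro hmem
        rw [Finset.mem_antidiagonal] at hmem
        push Not at hmem
        have : e.coeff 0 = 0 := by
          by_contra h; exact hmem h h rfl
        simp [this]
      have hm := hq (m : ℤ)
      rw [Finset.sum_eq_add ((0 : ℤ), (m : ℤ)) ((m : ℤ), (0 : ℤ)) (by simp; omega)] at hm
      rotate_left
      · rintro ⟨i, j⟩ hij ⟨h1, h2⟩
        rw [Finset.mem_antidiagonal] at hij
        have hs : i + j = (m : ℤ) := hij.2.2
        have hi0 : i ≠ 0 := fun h' => h1 (by simp [h', show j = (m : ℤ) by omega])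
        have him : i ≠ (m : ℤ) := fun h' => h2 (by simp [h', show j = 0 by omega])
        rcases lt_or_gt_of_ne him with h' | h'
        · simp [hz i hi0 h']
        · simp [hz j (by omega) (by omega)]
      · intro hmem
        rw [Finset.mem_antidiagonal] at hmem
        push Not at hmem
        by_cases h1 : e.coeff 0 = 0
        · simp [h1]
        · have : e.coeff m = 0 := by by_contra h; exact hmem h1 h (by simp)
          simp [this]
      · intro hmem
        rw [Finset.mem_antidiagonal] at hmem
        push Not at hmem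
        by_cases h1 : e.coeff 0 = 0
        · simp [h1]
        · have : e.coeff m = 0 := by by_contra h; exact hmem h h1 (by simp)
          simp [this]
      rw [← Ideal.Quotient.eq_zero_iff_mem]
      have hdom : IsDomain (R ⧸ p) := Ideal.Quotient.isDomain p
      rcases eq_or_ne (q (e.coeff 0)) 0 with hc | hc
      · rw [hc] at hm; simpa using hm.symm
      · have : q (e.coeff 0) = 1 := mul_left_cancel₀ hc (h0.trans (mul_one _).symm)
        rw [this] at hm; linear_combination hm
  let N := nilradical R
  have hN : ∀ n : ℤ, n ≠ 0 → e.coeff n ∈ N := fun n hn =>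
    mem_nilradical.mpr (nilpotent_iff_mem_prime.mpr fun p hp' => hp p hp' n hn)
  have hc0 : IsIdempotentElem (Ideal.Quotient.mk N (e.coeff 0)) := by
    show _ * _ = _
    have h := congrArg (Ideal.Quotient.mk N) (hee 0)
    rw [map_sum, Finset.sum_eq_single ((0 : ℤ), (0 : ℤ))] at h
    · rw [← map_mul]; exact h
    · rintro ⟨i, j⟩ hij hne'
      rw [Finset.mem_antidiagonal] at hij
      have hs : i + j = 0 := hij.2.2
      rcases eq_or_ne i 0 with rfl | hi
      · exact absurd (show ((0:ℤ), j) = (0, 0) by rw [show j = 0 by omega]) hne'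
      · simp [map_mul, Ideal.Quotient.eq_zero_iff_mem.mpr (hN i hi)]
    · intro hmem
      rw [Finset.mem_antidiagonal] at hmem
      push Not at hmem
      have : e.coeff 0 = 0 := by
        by_contra h; exact hmem h h rfl
      simp [this]
  obtain ⟨r, hr, hrc⟩ := exists_isIdempotentElem_eq_of_ker_isNilpotent (Ideal.Quotient.mk N)
    (fun x hx => by rw [Ideal.mk_ker] at hx; exact mem_nilradical.mp hx) _ ⟨_, rfl⟩ hc0
  have hCr : IsIdempotentElem (HahnSeries.C r : LaurentSeries R) := hr.map _
  set d := e - HahnSeries.C r with hd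
  have hd3 : d * (d * d) = d := by
    rw [hd]; linear_combination (e + 1 - 3 * HahnSeries.C r) * he.eq + (3 * e - HahnSeries.C r - 1) * hCr.eq
  have hdnil : ∀ n, d.coeff n ∈ N := by
    intro n
    rcases eq_or_ne n 0 with rfl | hn
    · rw [hd, HahnSeries.coeff_sub, ← Ideal.Quotient.eq]
      simp [HahnSeries.C_apply, hrc]
    · rw [hd, HahnSeries.coeff_sub]
      simpa [HahnSeries.C_apply, hn] using hN n hn
  obtain ⟨K, hKfg, hKle, hK⟩ : ∃ K : Ideal R, K.FG ∧ K ≤ N ∧ ∀ n ≤ (0 : ℤ), d.coeff n ∈ K := by
    rcases d.support.eq_empty_or_nonempty with h | h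
    · exact ⟨⊥, Submodule.fg_bot, bot_le, fun n _ => by
        rw [Ideal.mem_bot]; by_contra hn; exact Set.notMem_empty n (h ▸ hn)⟩
    · let v := d.isWF_support.min h
      refine ⟨Ideal.span ((Finset.Icc v 0).image d.coeff : Finset R), ⟨_, rfl⟩, ?_, fun n hn => ?_⟩
      · rw [Ideal.span_le]
        intro x hx
        obtain ⟨i, -, rfl⟩ := Finset.mem_image.mp hx
        exact hdnil i
      · by_cases hs : d.coeff n = 0
        · rw [hs]; exact Ideal.zero_mem _
        · exact Ideal.subset_span (Finset.mem_image.mpr ⟨n, Finset.mem_Icc.mpr ⟨not_lt.mp (d.isWF_support.not_lt_min h hs), hn⟩, rfl⟩)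
  have hmulmem : ∀ (I J : Ideal R) (x y : LaurentSeries R), (∀ n, x.coeff n ∈ I) → (∀ n, y.coeff n ∈ J) → ∀ n, (x * y).coeff n ∈ I * J := by
    intro I J x y hx hy n
    rw [HahnSeries.coeff_mul]
    exact Submodule.sum_mem _ fun ij _ => Ideal.mul_mem_mul (hx _) (hy _)
  have hd2 : ∀ n ≤ (0 : ℤ), (d * d).coeff n ∈ K := by
    intro n hn
    rw [HahnSeries.coeff_mul]
    refine Submodule.sum_mem _ fun ij hij => ?_
    rw [Finset.mem_antidiagonal] at hij
    have hs : ij.1 + ij.2 = n := hij.2.2
    by_cases h : ij.1 ≤ 0
    · exact Ideal.mul_mem_right _ _ (hK _ h)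
    · exact Ideal.mul_mem_left _ _ (hK _ (by omega))
  have hall : ∀ n, d.coeff n ∈ K := by
    intro n
    rcases le_or_gt n 0 with h | h
    · exact hK n h
    obtain ⟨m, rfl⟩ := Int.eq_ofNat_of_zero_le h.le
    induction m using Nat.strong_induction_on with
    | _ m ih =>
      rw [← hd3, HahnSeries.coeff_mul]
      refine Submodule.sum_mem _ fun ij hij => ?_
      rw [Finset.mem_antidiagonal] at hij
      have hs : ij.1 + ij.2 = (m : ℤ) := hij.2.2
      by_cases h2 : ij.2 ≤ 0
      · exact Ideal.mul_mem_left _ _ (hd2 _ h2)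
      · refine Ideal.mul_mem_right _ _ ?_
        by_cases h1 : ij.1 ≤ 0
        · exact hK _ h1
        · obtain ⟨i', hi'⟩ := Int.eq_ofNat_of_zero_le (show 0 ≤ ij.1 by omega)
          rw [hi']; exact ih i' (by omega) (by omega)
  have hpow : ∀ k : ℕ, ∀ n, d.coeff n ∈ K ^ k := by
    intro k
    induction k with
    | zero => intro n; simp
    | succ k ih =>
      intro n
      rw [← hd3, pow_succ']
      refine Ideal.mul_mono_right ?_ (hmulmem K (K ^ k * K) d (d * d) hall (hmulmem _ _ d d ih hall) n)
      exact Ideal.mul_le_left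
  obtain ⟨k, hk⟩ := Ideal.exists_pow_le_of_le_radical_of_fg (I := K) (J := (⊥ : Ideal R)) hKle hKfg
  replace hk : K ^ k = 0 := le_bot_iff.mp hk
  have hd0 : d = 0 := by
    ext n
    have := hpow k n
    rw [hk, Submodule.zero_eq_bot, Submodule.mem_bot] at this
    simpa using this
  refine ⟨r, ⟨hr, (sub_eq_zero.mp hd0).symm⟩, fun r' ⟨_, h'⟩ => ?_⟩
  exact HahnSeries.C_injective (h'.trans (sub_eq_zero.mp hd0))

end Groth.Agent.S15749
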