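import Groth.Statements.S15750
import Mathlib

set_option autoImplicit false
universe u
open CAlg

namespace Groth.Agent.S15750

/-- Let R be a nonzero reduced commutative ring with no idempotents other than 0 and 1. Then every unit
of the Laurent series ring R((t)) is t^n · u for a unique integer n and a unique unit u of the power
series ring R[[t]]. (The published statement is for an arbitrary torus T over a reduced ring R, with
n replaced by a locally constant integer-valued function on Spec R, i.e. a point of the cocharacter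
lattice; this row is the case where T is the multiplicative group and Spec R is connected, to which
the published proof reduces.) -/
theorem result (R : Type u) [CommRing R]
    [IsReduced R] [Nontrivial R] (hconn : ∀ e : R, IsIdempotentElem e → e = 0 ∨ e = 1)
    (f : (LaurentSeries R)ˣ) :
    ∃! p : ℤ × (PowerSeries R)ˣ,
      (f : LaurentSeries R) = HahnSeries.single p.1 (1 : R) * HahnSeries.ofPowerSeries ℤ R (p.2 : PowerSeries R) := by
  classical
  let F : LaurentSeries R := f
  let G : LaurentSeries R := (f⁻¹ : (LaurentSeries R)ˣ)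
  have hFG : F * G = 1 := f.mul_inv
  let e : ℤ → R := fun n => F.coeff n * G.coeff (-n)
  -- at each prime
  have hP : ∀ P : PrimeSpectrum R, ∃ n : ℤ, (∀ i < n, F.coeff i ∈ P.asIdeal) ∧ e n - 1 ∈ P.asIdeal ∧
      ∀ i, i ≠ n → e i ∈ P.asIdeal := by
    intro P
    let π : R →+* R ⧸ P.asIdeal := Ideal.Quotient.mk _
    let F' : HahnSeries ℤ (R ⧸ P.asIdeal) := F.map π.toNonUnitalRingHom
    let G' : HahnSeries ℤ (R ⧸ P.asIdeal) := G.map π.toNonUnitalRingHom
    have h1 : F' * G' = 1 := by
      rw [← HahnSeries.map_mul, hFG]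
      ext i
      by_cases hi : i = 0 <;> simp [HahnSeries.coeff_one, hi]; all_goals rfl
    have hF0 : F' ≠ 0 := left_ne_zero_of_mul_eq_one h1
    have hG0 : G' ≠ 0 := right_ne_zero_of_mul_eq_one h1
    have ho : F'.order + G'.order = 0 := by rw [← HahnSeries.order_mul hF0 hG0, h1, HahnSeries.order_one]
    have hlead : F'.coeff F'.order * G'.coeff G'.order = 1 := by
      have := HahnSeries.coeff_mul_order_add_order F' G'
      rw [h1, ho, HahnSeries.coeff_one] at this
      simpa [HahnSeries.leadingCoeff_eq] using this.symm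
    refine ⟨F'.order, fun i hi => ?_, ?_, fun i hi => ?_⟩
    · exact Ideal.Quotient.eq_zero_iff_mem.1 (HahnSeries.coeff_eq_zero_of_lt_order (x := F') hi)
    · rw [← Ideal.Quotient.eq_zero_iff_mem, map_sub, map_one, sub_eq_zero, map_mul, show -F'.order = G'.order by omega]
      exact hlead
    · rw [← Ideal.Quotient.eq_zero_iff_mem, map_mul]
      rcases lt_or_gt_of_ne hi with h | h
      · exact mul_eq_zero_of_left (HahnSeries.coeff_eq_zero_of_lt_order (x := F') h) _
      · exact mul_eq_zero_of_right _ (HahnSeries.coeff_eq_zero_of_lt_order (x := G') (by omega))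
  have hnil : ∀ a : R, (∀ P : PrimeSpectrum R, a ∈ P.asIdeal) → a = 0 := fun a ha =>
    (IsReduced.eq_zero a (mem_nilradical.1 (by rw [nilradical_eq_sInf]; exact Ideal.mem_sInf.2 fun {J} hJ => ha ⟨J, hJ⟩)))
  have hidem : ∀ n, e n = 0 ∨ e n = 1 := fun n => hconn _ (sub_eq_zero.1 (hnil _ fun P => by
    obtain ⟨m, -, h1, h2⟩ := hP P
    rw [show e n * e n - e n = e n * (e n - 1) by ring]
    rcases eq_or_ne n m with rfl | h
    · exact P.asIdeal.mul_mem_left _ h1
    · exact P.asIdeal.mul_mem_right _ (h2 n h)))
  obtain ⟨P0⟩ := (inferInstance : Nonempty (PrimeSpectrum R))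
  obtain ⟨n, -, hn1, -⟩ := hP P0
  have hn : e n = 1 := (hidem n).resolve_left fun h => by
    rw [h, zero_sub, neg_mem_iff] at hn1
    exact P0.2.ne_top ((Ideal.eq_top_iff_one _).2 hn1)
  have hlow : ∀ i < n, F.coeff i = 0 := fun i hi => hnil _ fun P => by
    obtain ⟨m, h0, -, h2⟩ := hP P
    rcases eq_or_ne n m with rfl | h
    · exact h0 i hi
    · have := h2 n h
      rw [hn] at this
      exact absurd ((Ideal.eq_top_iff_one _).2 this) P.2.ne_top
  let u : PowerSeries R := PowerSeries.mk fun k => F.coeff (n + k)
  have hu : IsUnit u := by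
    rw [PowerSeries.isUnit_iff_constantCoeff]
    simpa [u] using IsUnit.of_mul_eq_one _ hn
  have heq : ∀ (a : ℤ) (v : PowerSeries R) (k : ℤ), (HahnSeries.single a (1 : R) * HahnSeries.ofPowerSeries ℤ R v).coeff k =
      if a ≤ k then PowerSeries.coeff (k - a).toNat v else 0 := by
    intro a v k
    rw [← sub_add_cancel k a, HahnSeries.coeff_single_mul_add, one_mul, sub_add_cancel]
    by_cases h : a ≤ k
    · rw [if_pos h]
      obtain ⟨j, hj⟩ : ∃ j : ℕ, k - a = j := ⟨(k - a).toNat, by omega⟩
      rw [hj, HahnSeries.ofPowerSeries_apply_coeff, Int.toNat_natCast]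
    · rw [if_neg h, HahnSeries.ofPowerSeries_apply, HahnSeries.embDomain_of_notMem_range]
      rintro ⟨j, hj⟩
      simp at hj
      omega
  refine ⟨(n, hu.unit), ?_, ?_⟩
  · show F = _
    ext k
    rw [heq]
    split_ifs with h
    · rw [IsUnit.unit_spec, PowerSeries.coeff_mk]; congr 1; omega
    · exact hlow k (by omega)
  · rintro ⟨m, v⟩ hv
    have hco : ∀ k, F.coeff k = if m ≤ k then PowerSeries.coeff (k - m).toNat (v : PowerSeries R) else 0 := fun k => by
      rw [← heq]; exact congrArg (fun x : LaurentSeries R => x.coeff k) hv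
    have hm : IsUnit (F.coeff m) := by
      rw [hco, if_pos le_rfl, sub_self, Int.toNat_zero, PowerSeries.coeff_zero_eq_constantCoeff_apply]
      exact PowerSeries.isUnit_iff_constantCoeff.1 v.isUnit
    have hmn : m = n := by
      rcases lt_trichotomy m n with h | h | h
      · rw [hlow m h] at hm; exact absurd hm not_isUnit_zero
      · exact h
      · have := hco n
        rw [if_neg (by omega)] at this
        have hh : e n = 0 := mul_eq_zero_of_left this _
        rw [hn] at hh
        exact absurd hh one_ne_zero
    subst hmn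
    refine Prod.ext rfl (Units.ext (PowerSeries.ext fun j => ?_))
    rw [IsUnit.unit_spec, PowerSeries.coeff_mk, hco, if_pos (by omega)]
    congr 2
    omega

end Groth.Agent.S15750
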