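import Groth.Statements.S15770
import Mathlib

set_option autoImplicit false
universe u
open CAlg

namespace Groth.Agent.S15770

/-- Let B be a topological ring with Bˣ ⊂ B open and M, M' finitely generated projective B-modules, and
endow Hom_B(M, M') with the module topology (the canonical topology of a finite module). Then the
set of surjective B-linear maps M → M' is open. -/
theorem result (B : Type u) [CommRing B] [TopologicalSpace B]
    [IsTopologicalRing B] (hB : IsOpen {b : B | IsUnit b})
    (M M' : Type u) [AddCommGroup M] [Module B M] [Module.Finite B M] [Module.Projective B M]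
    [AddCommGroup M'] [Module B M'] [Module.Finite B M'] [Module.Projective B M']
    [TopologicalSpace (M →ₗ[B] M')] [IsModuleTopology B (M →ₗ[B] M')] :
    IsOpen {f : M →ₗ[B] M' | Function.Surjective f} := by
  classical
  obtain ⟨n, π, hπ⟩ := Module.Finite.exists_fin' B M'
  obtain ⟨i, hi⟩ := Module.projective_lifting_property π LinearMap.id hπ
  rw [isOpen_iff_forall_mem_open]
  intro f hf
  obtain ⟨s, hs⟩ := Module.projective_lifting_property f LinearMap.id hf
  haveI : ContinuousAdd (M →ₗ[B] M') := IsModuleTopology.toContinuousAdd B _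
  let Φ : (M →ₗ[B] M') →ₗ[B] Matrix (Fin n) (Fin n) B :=
    LinearMap.toMatrix'.toLinearMap ∘ₗ
      { toFun := fun g => i ∘ₗ g ∘ₗ s ∘ₗ π
        map_add' := fun a b => by ext; simp
        map_smul' := fun c a => by ext; simp }
  let c : Matrix (Fin n) (Fin n) B := LinearMap.toMatrix' (LinearMap.id - i ∘ₗ π)
  have hΦ : Continuous Φ := IsModuleTopology.continuous_of_linearMap Φ
  refine ⟨(fun g => (Φ g + c).det) ⁻¹' {b | IsUnit b}, ?_, hB.preimage ((hΦ.add continuous_const).matrix_det), ?_⟩
  · intro g hg
    have hu : IsUnit (LinearMap.toMatrix' (i ∘ₗ g ∘ₗ s ∘ₗ π + (LinearMap.id - i ∘ₗ π))) := by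
      rw [map_add]
      exact (Matrix.isUnit_iff_isUnit_det _).2 hg
    obtain ⟨v, hv⟩ := hu.exists_right_inv
    intro y
    let H := i ∘ₗ g ∘ₗ s ∘ₗ π + (LinearMap.id - i ∘ₗ π)
    have hH : H (Matrix.toLin' v (i y)) = i y := by
      have e : H ∘ₗ Matrix.toLin' v = LinearMap.id := by
        rw [← Matrix.toLin'_toMatrix' H, ← Matrix.toLin'_mul, hv, Matrix.toLin'_one]
      exact LinearMap.congr_fun e (i y)
    have hπi : ∀ z, π (i z) = z := fun z => LinearMap.congr_fun hi z
    refine ⟨s (π (Matrix.toLin' v (i y))), ?_⟩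
    have := congrArg π hH
    simp only [H, LinearMap.add_apply, LinearMap.sub_apply, LinearMap.comp_apply, LinearMap.id_apply,
      map_add, map_sub, hπi, sub_self, add_zero] at this
    exact this
  · show IsUnit (Φ f + c).det
    have e : i ∘ₗ f ∘ₗ s ∘ₗ π + (LinearMap.id - i ∘ₗ π) = LinearMap.id := by
      rw [← LinearMap.comp_assoc π s f, hs, LinearMap.id_comp, add_sub_cancel]
    have : Φ f + c = 1 := by
      have := congrArg LinearMap.toMatrix' e
      rwa [map_add, LinearMap.toMatrix'_id] at this
    rw [this, Matrix.det_one]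
    exact isUnit_one

end Groth.Agent.S15770
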