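import Groth.Statements.S15771
import Mathlib

set_option autoImplicit false
universe u
open TensorProduct
open CAlg

namespace Groth.Agent.S15771

/-- For a ring map B₀ → B with dense image into a topological ring B, a finitely generated B₀-module M₀
and any topological B-module structure on M = B ⊗_{B₀} M₀, the natural map M₀ → M has dense image. -/
theorem result (B₀ B : Type u) [CommRing B₀] [CommRing B] [Algebra B₀ B]
    [TopologicalSpace B] [IsTopologicalRing B] (hφ : DenseRange (algebraMap B₀ B))
    (M₀ : Type u) [AddCommGroup M₀] [Module B₀ M₀] [Module.Finite B₀ M₀]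
    [TopologicalSpace (B ⊗[B₀] M₀)] [IsTopologicalAddGroup (B ⊗[B₀] M₀)] [ContinuousSMul B (B ⊗[B₀] M₀)] :
    DenseRange (fun m : M₀ => (1 : B) ⊗ₜ[B₀] m) := by
  let T : Submodule B₀ (B ⊗[B₀] M₀) := LinearMap.range (TensorProduct.mk B₀ B M₀ 1)
  intro z
  induction z using TensorProduct.induction_on with
  | zero => exact subset_closure ⟨0, by simp⟩
  | add a b ha hb =>
    refine map_mem_closure₂ (f := fun x y => x + y) continuous_add ha hb ?_
    rintro _ ⟨x, rfl⟩ _ ⟨y, rfl⟩
    exact ⟨x + y, TensorProduct.tmul_add _ _ _⟩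
  | tmul b m =>
    have h : Continuous fun r : B => r • ((1 : B) ⊗ₜ[B₀] m) := continuous_smul.comp (continuous_id.prodMk continuous_const)
    have h1 := map_mem_closure h (hφ b) (t := Set.range fun m : M₀ => (1 : B) ⊗ₜ[B₀] m) (by
      rintro _ ⟨c, rfl⟩
      refine ⟨c • m, ?_⟩
      show (1 : B) ⊗ₜ[B₀] (c • m) = algebraMap B₀ B c • ((1 : B) ⊗ₜ[B₀] m)
      rw [algebraMap_smul, TensorProduct.tmul_smul])
    simpa [TensorProduct.smul_tmul'] using h1

end Groth.Agent.S15771
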