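import Groth.Statements.S1578
import Groth.Agent.AssTilde.Basic
-- import your own Groth.Agent.* helpers here

set_option autoImplicit false
universe u
open CategoryTheory CategoryTheory.Limits AlgebraicGeometry
open Divisors

namespace Groth.Agent.S1578

/-- Let M be a module over a ring A, F the associated quasi-coherent module on Spec A, and p a prime of
A. If p is an associated prime of M then p is an associated point of F; the converse holds when p is
finitely generated. -/
theorem result (A : CommRingCat.{u}) (M : ModuleCat.{u} A)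
    (p : Spec A) :
    (p.asIdeal ∈ associatedPrimes A M → Curv2.IsAssPoint (tilde M) p) ∧
    (p.asIdeal.FG → Curv2.IsAssPoint (tilde M) p → p.asIdeal ∈ associatedPrimes A M) := by
  rw [AssPts.isAssPoint_iff_isWeakAssPoint, ← AssTilde.mem_weakAss_iff_isWeakAssPoint]
  refine ⟨fun h => ?_, fun hfg h => ?_⟩
  · obtain ⟨hp, m, hm⟩ := h
    refine WeakAss.mem_weakAss_iff.2 ⟨hp, m, fun r hr => ?_, fun a ha => ?_⟩
    · rw [hm]
      exact Ideal.le_radical (Submodule.mem_colon_singleton.2 ((Submodule.mem_bot A).2 hr))
    · rw [hm] at ha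
      obtain ⟨n, hn⟩ := ha
      exact ⟨1, (Ideal.ne_top_iff_one _).1 hp.ne_top, n, by rw [one_mul]; exact (Submodule.mem_bot A).1 (Submodule.mem_colon_singleton.1 hn)⟩
  · obtain ⟨hp, m, hm⟩ := WeakAss.mem_ass_of_fg hfg h
    refine ⟨hp, m, ?_⟩
    rw [show (⊥ : Submodule A M).colon {m} = p.asIdeal from ?_, Ideal.IsPrime.radical hp]
    ext r
    rw [hm]
    rw [Submodule.mem_colon_singleton, Submodule.mem_bot, Submodule.mem_annihilator_span_singleton]

end Groth.Agent.S1578
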