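import Groth.Statements.S15784
import Mathlib
-- import your own Groth.Agent.* helpers here

set_option autoImplicit false
set_option backward.isDefEq.respectTransparency.types false
universe u
open Neron

namespace Groth.Agent.S15784

lemma units_zpow_map (O L : Type u) [CommRing O] [Field L] [Algebra O L] (d : Oˣ) (i : ℤ) :
    algebraMap O L ((d ^ i : Oˣ) : O) = algebraMap O L (d : O) ^ i := by
  cases i <;> simp [map_units_inv, zpow_negSucc]

/-- Let O be a discrete valuation ring with fraction field L and uniformizer ϖ', let ϖ be an element of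
the maximal ideal of O, let q = u·ϖ'^n with u a unit of O and n ≥ 1, and let m ≥ 1 be a divisor of
n. Then the following are equivalent: (i) there is a nonzero element z = w·ϖ'^a of L, with w a unit
of O and a an integer congruent to n/m modulo n, and an integer j such that z^m·q^j lies in 1 + ϖO;
(ii) ϖ'^n/q is an m-th power in the group of units of O/ϖO, that is, u·(y^m + ϖ·r) = 1 for some y, r
∈ O. (The published statement phrases (i) geometrically, as the existence of a point of order m in
the special fibre of the Néron model of the Weil restriction of the Tate curve with parameter q from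
L down to a subfield over which L is totally ramified with ϖ a uniformizer of the subfield, whose
image in the component group also has order m; this row states the equivalence between (i) and (ii)
that the printed argument establishes.) -/
theorem result
    (O : Type u) [CommRing O] [IsDomain O] [IsDiscreteValuationRing O]
    (L : Type u) [Field L] [Algebra O L] [IsFractionRing O L]
    (ϖ' : O) (hϖ' : Irreducible ϖ') (ϖ : O) (hϖ : ϖ ∈ IsLocalRing.maximalIdeal O)
    (n : ℕ) (hn : 1 ≤ n) (u : Oˣ) (q : O) (hq : q = u * ϖ' ^ n)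
    (m : ℕ) (hm : 1 ≤ m) (hmn : m ∣ n) :
    (∃ (w : Oˣ) (a j t : ℤ) (r : O), a = (n / m : ℕ) + t * n ∧
        (algebraMap O L w * algebraMap O L ϖ' ^ a) ^ m * algebraMap O L q ^ j = algebraMap O L (1 + ϖ * r)) ↔
      ∃ y r : O, (u : O) * (y ^ m + ϖ * r) = 1 := by
  set π := algebraMap O L ϖ' with hπ
  have hπ0 : π ≠ 0 := fun h => hϖ'.ne_zero ((IsFractionRing.injective O L) (h.trans (map_zero _).symm))
  have hinj := IsFractionRing.injective O L
  have hu0 : algebraMap O L (u : O) ≠ 0 := (u.isUnit.map _).ne_zero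
  have hone : ∀ r : O, IsUnit (1 + ϖ * r) := fun r => by
    have h : -(ϖ * r) ∈ IsLocalRing.maximalIdeal O :=
      neg_mem (Ideal.mul_mem_right _ _ hϖ)
    have := IsLocalRing.isUnit_one_sub_self_of_mem_nonunits _ h
    rwa [sub_neg_eq_add] at this
  have hqL : algebraMap O L q = algebraMap O L (u : O) * π ^ (n : ℤ) := by
    rw [hq, map_mul, map_pow, zpow_natCast]
  obtain ⟨k, hk⟩ := hmn
  have hdiv : n / m = k := by rw [hk, Nat.mul_div_cancel_left _ (by omega)]
  -- unit part
  constructor
  · rintro ⟨w, a, j, t, r, ha, he⟩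
    obtain ⟨c, hc⟩ := hone r
    have key : algebraMap O L (w : O) ^ m * algebraMap O L (u : O) ^ j * π ^ (a * (m : ℤ) + n * j) =
        algebraMap O L (c : O) := by
      rw [hc, ← he, hqL, mul_pow, mul_zpow, ← zpow_natCast (π ^ a) m, ← zpow_mul, ← zpow_mul,
        zpow_add₀ hπ0]
      ring
    -- valuation
    have hexp : a * (m : ℤ) + n * j = 0 := by
      have hv : ∀ (z : ℤ) (d : Oˣ), π ^ z = algebraMap O L (d : O) → z = 0 := by
        intro z d hd
        obtain ⟨N, rfl | rfl⟩ := z.eq_nat_or_neg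
        · by_contra h0
          rw [zpow_natCast, hπ, ← map_pow] at hd
          apply hϖ'.not_isUnit
          exact (isUnit_pow_iff (by omega : N ≠ 0)).mp (hinj hd ▸ d.isUnit)
        · by_contra h0
          rw [zpow_neg, zpow_natCast, hπ, ← map_pow, inv_eq_iff_eq_inv, ← map_units_inv] at hd
          apply hϖ'.not_isUnit
          exact (isUnit_pow_iff (by omega : N ≠ 0)).mp (hinj hd ▸ (d⁻¹).isUnit)
      refine hv _ (c * (w⁻¹) ^ m * (u ^ j)⁻¹) ?_
      have hw0 : algebraMap O L (w : O) ≠ 0 := (w.isUnit.map _).ne_zero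
      have huz : ∀ (d : Oˣ) (i : ℤ), algebraMap O L ((d ^ i : Oˣ) : O) = algebraMap O L (d : O) ^ i :=
        units_zpow_map O L
      rw [Units.val_mul, Units.val_mul, Units.val_pow_eq_pow_val, map_mul, map_mul, map_pow, map_units_inv, map_units_inv, huz, ← key]
      field_simp
      rw [← mul_pow, mul_one_div_cancel hw0, one_pow]
    have hj : j = -1 - t * m := by
      rw [ha, hdiv] at hexp
      have hn' : (n : ℤ) = m * k := by exact_mod_cast hk
      have hn0 : (n : ℤ) ≠ 0 := by omega
      have hprod : (n : ℤ) * (1 + t * m + j) = 0 := by rw [← hexp, hn']; ring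
      have := (mul_eq_zero.mp hprod).resolve_left hn0
      omega
    rw [hexp, zpow_zero, mul_one] at key
    have hzc : ((w * (u ^ t)⁻¹) ^ m : Oˣ) = u * c := by
      apply Units.ext
      apply hinj
      have huz : ∀ (d : Oˣ) (i : ℤ), algebraMap O L ((d ^ i : Oˣ) : O) = algebraMap O L (d : O) ^ i :=
        units_zpow_map O L
      rw [Units.val_pow_eq_pow_val, Units.val_mul, Units.val_mul, map_pow, map_mul, map_units_inv, huz, map_mul, ← key, hj, mul_pow, inv_pow, ← zpow_natCast
        ((algebraMap O L (u : O)) ^ t) m, ← zpow_mul]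
      rw [show (-1 : ℤ) - t * m = -1 + -(t * (m : ℤ)) by ring, zpow_add₀ hu0, zpow_neg, zpow_neg,
        zpow_one]
      field_simp
    refine ⟨(((w * (u ^ t)⁻¹)⁻¹ : Oˣ) : O), ((u⁻¹ * c⁻¹ : Oˣ) : O) * r, ?_⟩
    have h1 : (((w * (u ^ t)⁻¹)⁻¹ : Oˣ) : O) ^ m = ((u⁻¹ * c⁻¹ : Oˣ) : O) := by
      rw [← Units.val_pow_eq_pow_val, inv_pow, hzc, mul_inv]
    rw [h1]
    have h2 : (u : O) * ((u⁻¹ * c⁻¹ : Oˣ) : O) = ((c⁻¹ : Oˣ) : O) := by simp
    have h3 : ((c⁻¹ : Oˣ) : O) * (1 + ϖ * r) = 1 := by rw [← hc, Units.inv_mul]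
    linear_combination (1 + ϖ * r) * h2 + h3
  · rintro ⟨y, r, he⟩
    obtain ⟨c, hc⟩ := hone (-((u : O) * r))
    have hy : (u : O) * y ^ m = c := by rw [hc]; linear_combination he
    have hyu : IsUnit y := by
      have : IsUnit ((u : O) * y ^ m) := hy ▸ c.isUnit
      exact (isUnit_pow_iff (by omega : m ≠ 0)).mp (isUnit_of_mul_isUnit_right this)
    obtain ⟨y, rfl⟩ := hyu
    refine ⟨y⁻¹, ((n / m : ℕ) : ℤ), -1, 0, ((c⁻¹ : Oˣ) : O) * ((u : O) * r), by simp, ?_⟩
    have h3 : 1 + ϖ * (((c⁻¹ : Oˣ) : O) * ((u : O) * r)) = ((c⁻¹ : Oˣ) : O) := by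
      have : ((c⁻¹ : Oˣ) : O) * (c : O) = 1 := Units.inv_mul c
      rw [hc] at this
      linear_combination -this
    rw [h3, map_units_inv, map_units_inv, ← hy, hqL, hdiv, zpow_natCast, zpow_natCast, zpow_neg_one,
      map_mul, map_pow, hk, mul_pow, inv_pow, pow_mul']
    field_simp

end Groth.Agent.S15784
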