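import Groth.Statements.S4610
import Mathlib

set_option autoImplicit false
universe u
open EGA41

namespace Groth.Agent.S4610

/-- Let A be a nonzero ring and F_1, …, F_r monic one-variable polynomials of degrees d_1, …, d_r; then
A[T_1, …, T_r]/(F_1(T_1), …, F_r(T_r)) is a free A-module of rank ∏ d_i. (The published statement
assumes A local with maximal ideal of square zero and A' local, which this assertion does not use;
its bound [K' : K] ≤ d and part (ii) are not stated.) -/
theorem result {A : Type u} [CommRing A] [Nontrivial A]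
    {r : ℕ} (F : Fin r → Polynomial A) (hF : ∀ i, (F i).Monic) :
    Module.Free A (MvPolynomial (Fin r) A ⧸ Ideal.span (Set.range fun i => Polynomial.aeval (MvPolynomial.X i : MvPolynomial (Fin r) A) (F i))) ∧
      Module.finrank A (MvPolynomial (Fin r) A ⧸ Ideal.span (Set.range fun i => Polynomial.aeval (MvPolynomial.X i : MvPolynomial (Fin r) A) (F i))) =
        Finset.univ.prod fun i => (F i).natDegree := by
  induction r with
  | zero =>
    haveI : IsEmpty (Fin 0) := inferInstance
    have h0 : Ideal.span (Set.range fun i => Polynomial.aeval (MvPolynomial.X i : MvPolynomial (Fin 0) A) (F i)) = ⊥ := by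
      rw [Set.range_eq_empty, Ideal.span_empty]
    let e := (Ideal.quotientEquivAlgOfEq A h0).trans
      ((AlgEquiv.quotientBot A (MvPolynomial (Fin 0) A)).trans (MvPolynomial.isEmptyAlgEquiv A (Fin 0)))
    refine ⟨Module.Free.of_equiv e.toLinearEquiv.symm, ?_⟩
    rw [e.toLinearEquiv.finrank_eq, Module.finrank_self]
    simp
  | succ r ih =>
    obtain ⟨hfree, hrank⟩ := ih (fun i => F i.succ) (fun i => hF _)
    set J := Ideal.span (Set.range fun i => Polynomial.aeval (MvPolynomial.X i : MvPolynomial (Fin r) A) (F i.succ)) with hJ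
    set K := Ideal.span (Set.range fun i => Polynomial.aeval (MvPolynomial.X i : MvPolynomial (Fin (r + 1)) A) (F i)) with hK
    let G : Polynomial (MvPolynomial (Fin r) A ⧸ J) := (F 0).map (algebraMap A _)
    have hG : G.Monic := (hF 0).map _
    have hroot : Polynomial.aeval (AdjoinRoot.root G) (F 0) = 0 := by
      have h1 := AdjoinRoot.eval₂_root G
      rw [Polynomial.eval₂_map] at h1
      rw [Polynomial.aeval_def]
      exact h1
    let v : Fin (r + 1) → AdjoinRoot G :=
      Fin.cons (AdjoinRoot.root G) fun j => AdjoinRoot.ofAlgHom A G (Ideal.Quotient.mk J (MvPolynomial.X j))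
    have hKv : ∀ x ∈ K, MvPolynomial.aeval v x = 0 := by
      intro x hx
      suffices K ≤ RingHom.ker (MvPolynomial.aeval v) from this hx
      rw [hK, Ideal.span_le]
      rintro _ ⟨i, rfl⟩
      show MvPolynomial.aeval v (Polynomial.aeval _ (F i)) = 0
      rw [← Polynomial.aeval_algHom_apply, MvPolynomial.aeval_X]
      refine Fin.cases ?_ (fun j => ?_) i
      · simpa [v] using hroot
      · simp only [v, Fin.cons_succ]
        rw [← Ideal.Quotient.mkₐ_eq_mk A, Polynomial.aeval_algHom_apply, Polynomial.aeval_algHom_apply,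
          Ideal.Quotient.mkₐ_eq_mk, (Ideal.Quotient.eq_zero_iff_mem (I := J)).mpr (Ideal.subset_span ⟨j, rfl⟩), map_zero]
    let φ : (MvPolynomial (Fin (r + 1)) A ⧸ K) →ₐ[A] AdjoinRoot G := Ideal.Quotient.liftₐ K _ hKv
    let w : Fin r → MvPolynomial (Fin (r + 1)) A ⧸ K := fun j => Ideal.Quotient.mkₐ A K (MvPolynomial.X j.succ)
    have hKX : ∀ i, Polynomial.aeval (Ideal.Quotient.mkₐ A K (MvPolynomial.X i)) (F i) = 0 := fun i => by
      rw [Polynomial.aeval_algHom_apply, Ideal.Quotient.mkₐ_eq_mk]
      exact Ideal.Quotient.eq_zero_iff_mem.mpr (Ideal.subset_span ⟨i, rfl⟩)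
    have hJw : ∀ x ∈ J, MvPolynomial.aeval w x = 0 := by
      intro x hx
      suffices J ≤ RingHom.ker (MvPolynomial.aeval w) from this hx
      rw [hJ, Ideal.span_le]
      rintro _ ⟨j, rfl⟩
      show MvPolynomial.aeval w (Polynomial.aeval _ (F j.succ)) = 0
      rw [← Polynomial.aeval_algHom_apply, MvPolynomial.aeval_X]
      exact hKX j.succ
    let i₀ : (MvPolynomial (Fin r) A ⧸ J) →ₐ[A] MvPolynomial (Fin (r + 1)) A ⧸ K := Ideal.Quotient.liftₐ J _ hJw
    have hx0 : G.eval₂ i₀ (Ideal.Quotient.mkₐ A K (MvPolynomial.X 0)) = 0 := by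
      rw [Polynomial.eval₂_map, AlgHom.comp_algebraMap]
      exact hKX 0
    let ψ := AdjoinRoot.liftAlgHom G i₀ _ hx0
    let e : (MvPolynomial (Fin (r + 1)) A ⧸ K) ≃ₐ[A] AdjoinRoot G := AlgEquiv.ofAlgHom φ ψ (by
      refine AdjoinRoot.algHom_ext' ?_ ?_
      · refine Ideal.Quotient.algHom_ext A ?_
        refine MvPolynomial.algHom_ext fun j => ?_
        simp [φ, ψ, i₀, w, v]
      · simp [φ, ψ, v]) (by
      refine Ideal.Quotient.algHom_ext A ?_
      refine MvPolynomial.algHom_ext fun i => ?_
      refine Fin.cases ?_ (fun j => ?_) i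
      · simp [φ, ψ, v]
      · simp [φ, ψ, v, i₀, w])
    haveI := hG.free_adjoinRoot
    haveI : Module.Free A (AdjoinRoot G) := Module.Free.trans (S := MvPolynomial (Fin r) A ⧸ J)
    refine ⟨Module.Free.of_equiv e.toLinearEquiv.symm, ?_⟩
    rcases subsingleton_or_nontrivial (MvPolynomial (Fin r) A ⧸ J) with hs | hs
    · haveI : Subsingleton (AdjoinRoot G) := Module.subsingleton (MvPolynomial (Fin r) A ⧸ J) _
      rw [e.toLinearEquiv.finrank_eq, Module.finrank_zero_of_subsingleton, Fin.prod_univ_succ, ← hrank,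
        Module.finrank_zero_of_subsingleton, mul_zero]
    · rw [e.toLinearEquiv.finrank_eq, ← Module.finrank_mul_finrank A (MvPolynomial (Fin r) A ⧸ J), hrank,
        Fin.prod_univ_succ, mul_comm, (AdjoinRoot.powerBasis' hG).finrank, AdjoinRoot.powerBasis'_dim,
        (hF 0).natDegree_map]

end Groth.Agent.S4610
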