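import Groth.Statements.S1579
import Groth.Agent.AssPts.Scheme
import Groth.Agent.WeakAssPush.Alg
import Mathlib.AlgebraicGeometry.Morphisms.Finite
-- import your own Groth.Agent.* helpers here

set_option autoImplicit false
universe u
open CategoryTheory CategoryTheory.Limits AlgebraicGeometry
open Divisors

namespace Groth.Agent.S1579

/-- Let f : X → S be finite and F quasi-coherent on X. Then the weakly associated points of f_* F are
precisely the images under f of the weakly associated points of F. -/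
theorem result {X S : Scheme.{u}} (f : X ⟶ S) [IsFinite f] (F : X.Modules) (hF : Coh.IsQCoh F) :
    {s : S | Curv2.IsWeakAssPoint ((Coh.push f).obj F) s} = f.base '' {x : X | Curv2.IsWeakAssPoint F x} := by
  haveI : F.IsQuasicoherent := hF
  haveI := QCohBase.isQuasicoherent_pushforward F f
  ext y
  obtain ⟨V, hV, hyV, -⟩ := exists_isAffineOpen_mem_and_subset (U := (⊤ : S.Opens)) (x := y) trivial
  have hU : IsAffineOpen (f ⁻¹ᵁ V) := hV.preimage f
  show Curv2.IsWeakAssPoint ((Coh.push f).obj F) y ↔ _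
  rw [AssPts.isWeakAssPoint_iff _ hV y hyV]
  letI := (f.app V).hom.toAlgebra
  haveI : Module.Finite Γ(S, V) Γ(X, f ⁻¹ᵁ V) := RingHom.finite_algebraMap.1 (f.finite_app V hV)
  letI : Module Γ(S, V) Γ(F, f ⁻¹ᵁ V) := Module.compHom _ (f.app V).hom
  haveI : IsScalarTower Γ(S, V) Γ(X, f ⁻¹ᵁ V) Γ(F, f ⁻¹ᵁ V) := IsScalarTower.of_algebraMap_smul fun r x => rfl
  change (hV.primeIdealOf ⟨y, hyV⟩).asIdeal ∈ FlatCA.weakAss Γ(S, V) Γ(F, f ⁻¹ᵁ V) ↔ _
  have hmap : ∀ x (hx : x ∈ f ⁻¹ᵁ V), (hU.primeIdealOf ⟨x, hx⟩).asIdeal.comap (algebraMap Γ(S, V) Γ(X, f ⁻¹ᵁ V))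
      = (hV.primeIdealOf ⟨f x, hx⟩).asIdeal := by
    intro x hx
    rw [AssPts.primeIdealOf_map f hU hV le_rfl x hx]
    change Ideal.comap (f.app V).hom _ = _
    simp only [Scheme.Hom.app_eq_appLE]
  constructor
  · intro h
    obtain ⟨q, hq, hqy⟩ := WeakAssPush.exists_comap_eq (B := Γ(X, f ⁻¹ᵁ V)) h
    haveI : q.IsPrime := (WeakAss.mem_weakAss_iff.1 hq).1
    obtain ⟨x, hx, rfl⟩ := AssPts.exists_point hU q
    refine ⟨x, (AssPts.isWeakAssPoint_iff F hU x hx).2 hq, ?_⟩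
    rw [hmap x hx] at hqy
    have := congrArg hV.fromSpec (PrimeSpectrum.ext hqy)
    rwa [hV.fromSpec_primeIdealOf, hV.fromSpec_primeIdealOf] at this
  · rintro ⟨x, hx, rfl⟩
    rw [← hmap x hyV]
    exact WeakAssPush.comap_mem_weakAss ((AssPts.isWeakAssPoint_iff F hU x hyV).1 hx)

end Groth.Agent.S1579
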