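import Groth.Statements.S15790


set_option autoImplicit false
universe u v
open WildQuot

namespace Groth.Agent.S15790

/-- Let `A` be a local ring with maximal ideal `m`, let a finite group `G` act on `A` by ring
automorphisms, and let `u_1, …, u_n` generate `m`. Let `x_i = ∏_{σ ∈ G} σ u_i` be the norm of `u_i`.
Then `(x_1, …, x_n)` is `m`-primary (its radical contains `m`) if and only if, for every choice of
`σ_1, …, σ_n ∈ G`, the ideal `(σ_1 u_1, …, σ_n u_n)` is `m`-primary, i.e. the system `u` is weakly
admissible. (The published statement is for a complete regular local ring of dimension `n`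
containing a field of representatives fixed by `G`; this row assumes only that `A` is local.) -/
theorem result
    (A : Type u) [CommRing A] [IsLocalRing A]
    (G : Type v) [Group G] [Fintype G] [MulSemiringAction G A]
    (n : ℕ) (u : Fin n → A) (hu : Ideal.span (Set.range u) = IsLocalRing.maximalIdeal A) :
    IsLocalRing.maximalIdeal A ≤ (Ideal.span (Set.range fun i => ∏ σ : G, σ • u i)).radical ↔
      ∀ τ : Fin n → G,
        IsLocalRing.maximalIdeal A ≤ (Ideal.span (Set.range fun i => τ i • u i)).radical := by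
  have hprime : ∀ P : Ideal A, P.IsPrime → ((∀ i, ∏ σ : G, σ • u i ∈ P) ↔ ∃ τ : Fin n → G, ∀ i, τ i • u i ∈ P) := by
    intro P hP
    classical
    refine ⟨fun h => ?_, fun ⟨τ, hτ⟩ i => by
      rw [← Finset.prod_erase_mul _ _ (Finset.mem_univ (τ i))]
      exact Ideal.mul_mem_left _ _ (hτ i)⟩
    choose τ _ hτ using fun i => (Ideal.IsPrime.prod_mem_iff (p := P)).1 (h i)
    exact ⟨τ, hτ⟩
  simp only [Ideal.radical_eq_sInf, le_sInf_iff, Set.mem_setOf_eq, Ideal.span_le, Set.range_subset_iff,
    SetLike.mem_coe]
  constructor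
  · intro h τ P hP
    exact h P ⟨(hprime P hP.2).2 ⟨τ, hP.1⟩, hP.2⟩
  · intro h P hP
    obtain ⟨τ, hτ⟩ := (hprime P hP.2).1 hP.1
    exact h τ P ⟨hτ, hP.2⟩

end Groth.Agent.S15790
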