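import Groth.Statements.S15793
import Groth.Agent.WildQuotGal.Admissible

set_option autoImplicit false
universe u v w
open WildQuot

namespace Groth.Agent.S15793

/-- Let `A` be a complete regular local ring of Krull dimension at least `2` and prime characteristic
`p`, with maximal ideal `m`; let `k` be a field with a ring map `k → A` whose composite with `A →
A/m` is onto (a field of representatives); let `G` be a group of order `p` acting on `A` by ring
automorphisms that fix the image of `k`, ramified precisely at the origin: for every prime `P ≠ m`,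
the inertia subgroup of `P` (the elements of `G` fixing every element of `A` modulo `P`) is trivial.
Then no element of `m` outside `m ^ 2` is fixed by every element of `G`; in particular the action is
not linear in any regular system of parameters. -/
theorem result
    (p : ℕ) [Fact p.Prime] (A : Type u) [CommRing A] [IsRegularLocalRing A] [CharP A p]
    [IsAdicComplete (IsLocalRing.maximalIdeal A) A] (hdim : 2 ≤ ringKrullDim A)
    (k : Type v) [Field k] [Algebra k A]
    (hk : Function.Surjective (IsLocalRing.residue A ∘ algebraMap k A))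
    (G : Type w) [Group G] [Finite G] [MulSemiringAction G A] (hcard : Nat.card G = p)
    (hGk : ∀ (σ : G) (c : k), σ • algebraMap k A c = algebraMap k A c)
    (hram : ∀ P : Ideal A, P.IsPrime → P ≠ IsLocalRing.maximalIdeal A → P.inertia G = ⊥)
    (v : A) (hv : v ∈ IsLocalRing.maximalIdeal A) (hv2 : v ∉ IsLocalRing.maximalIdeal A ^ 2) :
    ∃ σ : G, σ • v ≠ v := by
  classical
  by_contra hall
  push Not at hall
  obtain ⟨n, hn⟩ := Groth.Agent.CAlgReg.exists_dim (R := A)
  obtain ⟨t, ht, hspan⟩ := Groth.Agent.WildQuotGal.exists_generators_cons hn hv hv2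
  haveI : Fact p.Prime := inferInstance
  obtain ⟨σ, hσ⟩ : ∃ σ : G, σ ≠ 1 := by
    have hc : 1 < Nat.card G := hcard ▸ (Fact.out : p.Prime).one_lt
    haveI := Finite.one_lt_card_iff_nontrivial.1 hc
    exact exists_ne 1
  set K := Ideal.span ((fun y => σ • y - y) '' (↑t : Set A)) with hK
  have hx : ∀ x : A, σ • x - x ∈ K := by
    intro x
    refine Ideal.span_le.2 ?_ (Groth.Agent.WildQuotGal.smul_sub_mem_span hk σ (hGk σ) _ hspan x)
    rintro _ ⟨y, rfl | hy, rfl⟩
    · show σ • y - y ∈ K
      rw [hall σ, sub_self]
      exact K.zero_mem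
    · exact Ideal.subset_span ⟨y, hy, rfl⟩
  have hKm : K ≤ IsLocalRing.maximalIdeal A := by
    rw [hK, Ideal.span_le]
    rintro _ ⟨y, -, rfl⟩
    obtain ⟨c, hc⟩ := hk (IsLocalRing.residue A y)
    have h1 : y - algebraMap k A c ∈ IsLocalRing.maximalIdeal A := by
      rw [← IsLocalRing.residue_eq_zero_iff, map_sub, sub_eq_zero]; exact hc.symm
    have e : σ • y - y = σ • (y - algebraMap k A c) - (y - algebraMap k A c) := by
      rw [smul_sub, hGk]; ring
    show σ • y - y ∈ IsLocalRing.maximalIdeal A
    rw [e]
    exact Ideal.sub_mem _ (Groth.Agent.WildQuotGal.smul_mem_maximalIdeal σ h1) h1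
  have hmin : IsLocalRing.maximalIdeal A ∈ K.minimalPrimes := by
    refine ⟨⟨(IsLocalRing.maximalIdeal.isMaximal A).isPrime, hKm⟩, fun P hP hPm => ?_⟩
    by_contra hne
    have hPne : P ≠ IsLocalRing.maximalIdeal A := fun h => hne (h ▸ le_rfl)
    have hσP : σ ∈ P.inertia G := fun x => hP.2 (hx x)
    rw [hram P hP.1 hPne] at hσP
    exact hσ (Subgroup.mem_bot.1 hσP)
  have h3 := Ideal.height_le_card_of_mem_minimalPrimes_span_finset (s := t.image fun y => σ • y - y) (by
    rw [Finset.coe_image]; exact hmin)
  rw [← WithBot.coe_le_coe, IsLocalRing.maximalIdeal_height_eq_ringKrullDim, hn] at h3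
  have h4 : n ≤ (t.image fun y => σ • y - y).card := by exact_mod_cast h3
  have := h4.trans Finset.card_image_le
  omega

end Groth.Agent.S15793
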