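import Groth.Statements.S15796
import Mathlib

set_option autoImplicit false
universe u v
open WildQuot

namespace Groth.Agent.S15796

/-- Let `A` be a Noetherian local ring of Krull dimension `n` whose maximal ideal `m` is generated by
`u_1, …, u_n`, and let a finite group `G` act on `A` by ring automorphisms. If some `σ ∈ G` maps
some `u_i` into the ideal generated by the `u_j` with `j ≠ i`, then the system `u` is not weakly
admissible: for some choice `σ_1, …, σ_n ∈ G` the radical of `(σ_1 u_1, …, σ_n u_n)` does not
contain `m`. (The published statement is for a linear action on `k[[u_1, …, u_n]]` whose matrix has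
a zero diagonal entry; this row assumes instead that some `σ u_i` lies in the ideal generated by the
other `u_j`.) -/
theorem result
    (A : Type u) [CommRing A] [IsLocalRing A] [IsNoetherianRing A]
    (G : Type v) [Group G] [Finite G] [MulSemiringAction G A]
    (n : ℕ) (hn : ringKrullDim A = n) (u : Fin n → A)
    (hu : Ideal.span (Set.range u) = IsLocalRing.maximalIdeal A)
    (σ : G) (i : Fin n) (hσ : σ • u i ∈ Ideal.span (u '' {j | j ≠ i})) :
    ∃ τ : Fin n → G,
      ¬ IsLocalRing.maximalIdeal A ≤ (Ideal.span (Set.range fun j => τ j • u j)).radical := by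
  classical
  refine ⟨Function.update (fun _ => (1 : G)) i σ, fun hle => ?_⟩
  set m := IsLocalRing.maximalIdeal A
  have hn0 := i.pos
  set O := Ideal.span (u '' {j | j ≠ i}) with hO
  have hJ : Ideal.span (Set.range fun j => Function.update (fun _ => (1 : G)) i σ j • u j) ≤ O := by
    rw [Ideal.span_le]
    rintro _ ⟨j, rfl⟩
    by_cases hj : j = i
    · subst hj
      simpa using hσ
    · simp only [Function.update_of_ne hj, one_smul]
      exact Ideal.subset_span ⟨j, hj, rfl⟩
  have h1 : m ≤ O.radical := hle.trans (Ideal.radical_mono hJ)
  have h2 : O ≤ m := hu ▸ Ideal.span_mono (Set.image_subset_range _ _)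
  have hmin : m ∈ O.minimalPrimes := by
    refine ⟨⟨(IsLocalRing.maximalIdeal.isMaximal A).isPrime, h2⟩, fun P hP _ => ?_⟩
    exact h1.trans (hP.1.radical_le_iff.2 hP.2)
  have h3 := Ideal.height_le_card_of_mem_minimalPrimes_span_finset (s := (Finset.univ.erase i).image u) (by
    convert hmin using 2
    rw [hO]
    congr 1
    ext z
    simp)
  rw [← WithBot.coe_le_coe, hu, show (m.height : WithBot ℕ∞) = n from IsLocalRing.maximalIdeal_height_eq_ringKrullDim.trans hn] at h3
  have h5 : ((Finset.univ.erase i).image u).card ≤ n - 1 := by
    refine Finset.card_image_le.trans ?_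
    simp
  have h6 : n ≤ ((Finset.univ.erase i).image u).card := by exact_mod_cast h3
  omega

end Groth.Agent.S15796
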