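import Groth.Statements.S15797
import Groth.Agent.WildQuotGal.Length

set_option autoImplicit false
universe u v
open WildQuot

namespace Groth.Agent.S15797

/-- Let `A` be a regular local ring of Krull dimension `n` with maximal ideal `m` generated by `u_1, …,
u_n`, let a finite group `G` of order `g` act on `A` by ring automorphisms, and suppose `u` is
weakly admissible: for every choice `σ_1, …, σ_n ∈ G` the radical of `(σ_1 u_1, …, σ_n u_n)`
contains `m`. With `x_i = ∏_{σ ∈ G} σ u_i` the norms, the length of `A / (x_1, …, x_n)` is at least
`g ^ n` (so the finite flat map from `k[[x_1, …, x_n]]` has degree at least `g ^ n`). (The published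
statement is for a complete regular local ring containing a `G`-fixed field of representatives; this
row does not assume those.) -/
theorem result
    (A : Type u) [CommRing A] [IsRegularLocalRing A]
    (G : Type v) [Group G] [Fintype G] [MulSemiringAction G A]
    (n : ℕ) (hn : ringKrullDim A = n) (u : Fin n → A)
    (hu : Ideal.span (Set.range u) = IsLocalRing.maximalIdeal A)
    (hwa : ∀ τ : Fin n → G,
      IsLocalRing.maximalIdeal A ≤ (Ideal.span (Set.range fun i => τ i • u i)).radical) :
    ((Fintype.card G ^ n : ℕ) : ℕ∞) ≤
      Module.length A (A ⧸ Ideal.span (Set.range fun i => ∏ σ : G, σ • u i)) := by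
  have hm : ∀ (σ : G) (i : Fin n), σ • u i ∈ IsLocalRing.maximalIdeal A := fun σ i => by
    have hui : u i ∈ IsLocalRing.maximalIdeal A := hu ▸ Ideal.subset_span ⟨i, rfl⟩
    rw [IsLocalRing.mem_maximalIdeal, mem_nonunits_iff] at hui ⊢
    exact fun h => hui (by simpa using h.map (MulSemiringAction.toRingHom G A σ⁻¹))
  have h := Groth.Agent.WildQuotGal.le_length_mixed u hn hm hwa Finset.univ fun _ => (1 : G)
  rw [Groth.Agent.WildQuotGal.mixed_univ, Finset.card_univ, Fintype.card_fin] at h
  exact h

end Groth.Agent.S15797
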