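import Groth.Statements.S15798
import Groth.Agent.WildQuotGal.Invariants
import Groth.Agent.RegNormal.Basic
import Groth.Agent.DimTheory.Algebra

set_option autoImplicit false
universe u v w
open WildQuot

namespace Groth.Agent.S15798

/-- Let `A` be a complete regular local ring of Krull dimension at least `2` and prime characteristic
`p`, with maximal ideal `m`; let `k` be a field with a ring map `k → A` whose composite with `A →
A/m` is onto; let `G` be a group of order `p` acting on `A` by ring automorphisms fixing the image
of `k` and ramified precisely at the origin (for every prime `P ≠ m`, the inertia subgroup of `P`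
(the elements of `G` fixing every element modulo `P`) is trivial). Then the invariant ring `A^G` is
Noetherian, `A` is a finite `A^G`-module, `A^G` is an integrally closed domain of the same Krull
dimension as `A`, `A^G` is complete and separated for the adic topology of `m ∩ A^G`, and `A^G` is
not a regular local ring. (The published statement also asserts that `A^G` has depth `2`, that the
extension has degree `p`, and that the singular locus of `Spec A^G` is the closed point; this row
omits those clauses.) -/
theorem result
    (p : ℕ) [Fact p.Prime] (A : Type u) [CommRing A] [IsRegularLocalRing A] [CharP A p]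
    [IsAdicComplete (IsLocalRing.maximalIdeal A) A] (hdim : 2 ≤ ringKrullDim A)
    (k : Type v) [Field k] [Algebra k A]
    (hk : Function.Surjective (IsLocalRing.residue A ∘ algebraMap k A))
    (G : Type w) [Group G] [Finite G] [MulSemiringAction G A] (hcard : Nat.card G = p)
    (hGk : ∀ (σ : G) (c : k), σ • algebraMap k A c = algebraMap k A c)
    (hram : ∀ P : Ideal A, P.IsPrime → P ≠ IsLocalRing.maximalIdeal A → P.inertia G = ⊥) :
    IsNoetherianRing (FixedPoints.subring A G) ∧ Module.Finite (FixedPoints.subring A G) A ∧
      IsIntegrallyClosed (FixedPoints.subring A G) ∧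
      ringKrullDim (FixedPoints.subring A G) = ringKrullDim A ∧
      IsAdicComplete (Ideal.comap (FixedPoints.subring A G).subtype (IsLocalRing.maximalIdeal A))
        (FixedPoints.subring A G) ∧
      ¬ IsRegularLocalRing (FixedPoints.subring A G) := by
  haveI : IsDomain A := Groth.Agent.CAlgReg.isDomain
  haveI : IsIntegrallyClosed A := Groth.Agent.RegNormal.isIntegrallyClosed A
  have hG : Nontrivial G := Finite.one_lt_card_iff_nontrivial.1 (hcard ▸ (Fact.out : p.Prime).one_lt)
  obtain ⟨h1, h2, hloc, hmax, hcomp⟩ := Groth.Agent.WildQuotGal.invariants_finite (G := G) k hk hGk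
  haveI := h1
  haveI := h2
  haveI := hloc
  haveI : FaithfulSMul (FixedPoints.subring A G) A :=
    (faithfulSMul_iff_algebraMap_injective _ A).2 Subtype.val_injective
  refine ⟨h1, h2, Groth.Agent.WildQuotGal.fixedSubring_isIntegrallyClosed,
    (Groth.Agent.DimTheory.ringKrullDim_eq_of_integral (FixedPoints.subring A G) A).symm, ?_, ?_⟩
  · rw [hmax]; exact hcomp
  · intro hreg
    haveI := hreg
    haveI : Module.Free (FixedPoints.subring A G) A :=
      Groth.Agent.WildQuotGal.free_of_regular Subtype.val_injective
    exact Groth.Agent.WildQuotGal.not_flat hdim k hk hGk hG hram inferInstance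

end Groth.Agent.S15798
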