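import Groth.Statements.S1580
import Groth.Agent.AssPts.Scheme
import Groth.Agent.FpqcDescent.Specialization
-- import your own Groth.Agent.* helpers here

set_option autoImplicit false
universe u
open CategoryTheory CategoryTheory.Limits AlgebraicGeometry
open Divisors

namespace Groth.Agent.S1580

/-- Let f : X → S be quasi-compact and quasi-separated and F quasi-coherent on X. A point of S not in
the image of f is not weakly associated to f_* F. -/
theorem result {X S : Scheme.{u}} (f : X ⟶ S) [QuasiCompact f] [QuasiSeparated f]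
    (F : X.Modules) (hF : Coh.IsQCoh F) (s : S) (hs : s ∉ Set.range f.base) :
    ¬ Curv2.IsWeakAssPoint ((Coh.push f).obj F) s := by
  intro h
  haveI : F.IsQuasicoherent := hF
  haveI := QCohBase.isQuasicoherent_pushforward F f
  obtain ⟨V, hV, hsV, -⟩ := exists_isAffineOpen_mem_and_subset (U := (⊤ : S.Opens)) (x := s) trivial
  obtain ⟨-, m, h1, h2⟩ := WeakAss.mem_weakAss_iff.1 ((AssPts.isWeakAssPoint_iff _ hV s hsV).1 h)
  change Γ(F, f ⁻¹ᵁ V) at m
  let p := (hV.primeIdealOf ⟨s, hsV⟩).asIdeal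
  -- the section vanishes at points over generalizations of `s`
  have hgen : ∀ x (hx : x ∈ f ⁻¹ᵁ V), f x ⤳ s → F.presheaf.germ (f ⁻¹ᵁ V) x hx m = 0 := by
    intro x hx hxs
    have hle := (AssPts.specializes_iff hV s hsV (y := f x) hx).1 hxs
    have hne : ¬ p ≤ (hV.primeIdealOf ⟨f x, hx⟩).asIdeal := fun hle' => hs ⟨x, by
      have := congrArg hV.fromSpec (PrimeSpectrum.ext (le_antisymm hle hle'))
      rwa [hV.fromSpec_primeIdealOf, hV.fromSpec_primeIdealOf] at this⟩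
    obtain ⟨g, hg, hg'⟩ := SetLike.not_le_iff_exists.1 hne
    obtain ⟨c, hc, n, hn⟩ := h2 g hg
    have hn' : (f.app V).hom (c * g ^ n) • m = 0 := hn
    have h0 := congrArg (F.presheaf.germ (f ⁻¹ᵁ V) x hx) hn'
    rw [AssPts.germ_smul', map_zero] at h0
    refine (IsUnit.smul_eq_zero ?_).1 h0
    refine (X.mem_basicOpen _ x hx).1 ?_
    rw [← Scheme.preimage_basicOpen]
    refine (S.mem_basicOpen _ (f x) hx).2 ((AssPts.notMem_prime_iff hV (f x) hx _).1 ?_)
    exact fun hmem => ((inferInstance : (hV.primeIdealOf ⟨f x, hx⟩).asIdeal.IsPrime).mem_or_mem hmem).elim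
        (fun h => hc (hle h)) (fun h => hg' ((inferInstance : (hV.primeIdealOf ⟨f x, hx⟩).asIdeal.IsPrime).mem_of_pow_mem n h))
  -- the non-vanishing locus is closed in a quasi-compact open
  let K : Set ↥(f ⁻¹ᵁ V : X.Opens) := {x | F.presheaf.germ (f ⁻¹ᵁ V) x.1 x.2 m ≠ 0}
  have hK : IsClosed K := by
    rw [← isOpen_compl_iff, isOpen_iff_forall_mem_open]
    intro x hx
    have hx' : F.presheaf.germ (f ⁻¹ᵁ V) x.1 x.2 m = 0 := not_not.1 hx
    obtain ⟨W, hxW, i₁, i₂, he⟩ := TopCat.Presheaf.germ_eq F.presheaf x.1 x.2 x.2 m 0 (hx'.trans (map_zero _).symm)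
    refine ⟨Subtype.val ⁻¹' (W : Set X), fun z hz hzK => hzK ?_, W.isOpen.preimage continuous_subtype_val, hxW⟩
    rw [← TopCat.Presheaf.germ_res_apply F.presheaf i₁ z.1 hz m, he, map_zero, map_zero]
  let Kc : TopologicalSpace.Closeds ((f ⁻¹ᵁ V : X.Opens) : Scheme.{u}) := ⟨K, hK⟩
  let I := Scheme.IdealSheafData.vanishingIdeal Kc
  let g := I.subschemeι ≫ (f ∣_ V)
  have hrange : Set.range I.subschemeι.base = K := by
    rw [Scheme.IdealSheafData.range_subschemeι]
    exact Scheme.IdealSheafData.coe_support_vanishingIdeal _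
  have hcl : (⟨s, hsV⟩ : ↥(V : S.Opens)) ∉ closure (Set.range g.base) := fun hc => by
    obtain ⟨z, hz⟩ := FpqcDescent.exists_specializes_of_mem_closure_range g hc
    have hzK : I.subschemeι z ∈ K := hrange ▸ ⟨z, rfl⟩
    have hz' : V.ι (g z) ⤳ s := hz.map continuous_subtype_val
    rw [show V.ι (g z) = f (I.subschemeι z).1 from ?_] at hz'
    · exact hzK (hgen _ _ hz')
    · show (I.subschemeι ≫ (f ∣_ V) ≫ V.ι) z = _
      rw [morphismRestrict_ι]
      rfl
  obtain ⟨W', hW', hsW', hdisj⟩ : ∃ W' : S.Opens, W' ≤ V ∧ s ∈ W' ∧ ∀ x (hx : x ∈ f ⁻¹ᵁ V), f x ∈ W' →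
      F.presheaf.germ (f ⁻¹ᵁ V) x hx m = 0 := by
    refine ⟨V.ι ''ᵁ ⟨(closure (Set.range g.base))ᶜ, isClosed_closure.isOpen_compl⟩, V.ι_image_le _,
      ⟨⟨s, hsV⟩, hcl, rfl⟩, fun x hx hxW => ?_⟩
    by_contra hne
    obtain ⟨w, hw, hwx⟩ := hxW
    refine hw (subset_closure ?_)
    obtain ⟨z, hz⟩ : (⟨x, hx⟩ : ↥(f ⁻¹ᵁ V : X.Opens)) ∈ Set.range I.subschemeι.base := hrange.symm ▸ hne
    refine ⟨z, ?_⟩
    refine Subtype.ext ?_
    show (I.subschemeι ≫ (f ∣_ V) ≫ V.ι) z = w.1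
    rw [morphismRestrict_ι]
    show f (I.subschemeι z).1 = _
    rw [show (I.subschemeι z).1 = x from congrArg Subtype.val hz]
    exact hwx.symm
  obtain ⟨c, hcW, hsc⟩ := hV.exists_basicOpen_le ⟨s, hsW'⟩ hsV
  have hc : c ∉ p := (QCohBase.mem_basicOpen_iff_notMem_prime hV s hsV c).1 hsc
  have hres : ((Coh.push f).obj F).presheaf.germ V s hsV m = 0 := by
    rw [← AssPts.germ_mres ((Coh.push f).obj F) s (hcW.trans hW') hsc m]
    have h0 : QCohBase.mres ((Coh.push f).obj F) (hcW.trans hW') m = 0 := by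
      show F.presheaf.map _ m = 0
      refine TopCat.Presheaf.section_ext (⟨F.presheaf, F.isSheaf⟩ : TopCat.Sheaf AddCommGrpCat X.toTopCat) _ _ _ fun x hx => ?_
      rw [map_zero]
      exact (TopCat.Presheaf.germ_res_apply F.presheaf _ x hx m).trans (hdisj x _ (hcW hx))
    rw [h0, map_zero]
  obtain ⟨t, ht, htm⟩ := (AssPts.germ_eq_zero_iff ((Coh.push f).obj F) hV s hsV m).1 hres
  exact ht (h1 t htm)

end Groth.Agent.S1580
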