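import Groth.Statements.S15801
import Groth.Agent.WildQuotGal.ASFamily
import Groth.Agent.CAlgCohen.Structure

set_option autoImplicit false
universe u v
open WildQuot

namespace Groth.Agent.S15801

/-- Let `A` be a complete regular local ring of Krull dimension `n`, `k` a field with `k → A` mapping
onto the residue field, `x_1, …, x_n ∈ A` a system of parameters (the radical of `(x_1, …, x_n)` is
the maximal ideal), and `φ : k[[X_1, …, X_n]] → A` the `k`-algebra map with `φ X_i = x_i`. Then `A`
is a finite free module over `k[[X_1, …, X_n]]` through `φ`, of rank the length `d` of `A / (x_1, …,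
x_n)`: there are `b_1, …, b_d ∈ A` such that `(r_1, …, r_d) ↦ Σ φ(r_i) b_i` is a bijection from
`d`-tuples of power series onto `A`. -/
theorem result
    (A : Type u) [CommRing A] [IsRegularLocalRing A]
    [IsAdicComplete (IsLocalRing.maximalIdeal A) A] (n : ℕ) (hn : ringKrullDim A = n)
    (k : Type v) [Field k] [Algebra k A]
    (hk : Function.Surjective (IsLocalRing.residue A ∘ algebraMap k A))
    (x : Fin n → A) (hx : (Ideal.span (Set.range x)).radical = IsLocalRing.maximalIdeal A)
    (φ : MvPowerSeries (Fin n) k →ₐ[k] A) (hφ : ∀ i, φ (MvPowerSeries.X i) = x i) :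
    ∃ (d : ℕ) (b : Fin d → A), (d : ℕ∞) = Module.length A (A ⧸ Ideal.span (Set.range x)) ∧
      Function.Bijective (fun r : Fin d → MvPowerSeries (Fin n) k => ∑ i, φ (r i) * b i) := by
  classical
  let k' := IsLocalRing.ResidueField A
  have heb : Function.Bijective ((IsLocalRing.residue A).comp (algebraMap k A)) :=
    ⟨RingHom.injective _, hk⟩
  let e : k ≃+* k' := RingEquiv.ofBijective _ heb
  let E : MvPowerSeries (Fin n) k ≃+* MvPowerSeries (Fin n) k' :=
    RingEquiv.ofRingHom (MvPowerSeries.map e.toRingHom) (MvPowerSeries.map e.symm.toRingHom)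
      (by ext f d; simp [MvPowerSeries.coeff_map]) (by ext f d; simp [MvPowerSeries.coeff_map])
  let f : MvPowerSeries (Fin n) k' →+* A := φ.toRingHom.comp E.symm.toRingHom
  have hEX : ∀ i, E.symm (MvPowerSeries.X i) = MvPowerSeries.X i := fun i => by
    show MvPowerSeries.map e.symm.toRingHom (MvPowerSeries.X i) = _
    rw [MvPowerSeries.map_X]
  have hfX : ∀ i, f (MvPowerSeries.X i) = x i := fun i => by
    show φ (E.symm (MvPowerSeries.X i)) = _
    rw [hEX, hφ]
  have hmap : (IsLocalRing.maximalIdeal (MvPowerSeries (Fin n) k')).map f = Ideal.span (Set.range x) := by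
    rw [Groth.Agent.MvPSLib.maximalIdeal_eq, Groth.Agent.FSAdic.augIdeal_eq_span, Ideal.map_span, ← Set.range_comp]
    congr 2
    ext1 i
    exact hfX i
  have hxm : Ideal.span (Set.range x) ≤ IsLocalRing.maximalIdeal A := hx ▸ Ideal.le_radical
  obtain ⟨N, hN⟩ := Ideal.exists_pow_le_of_le_radical_of_fg hx.ge (IsNoetherian.noetherian _)
  haveI : IsAdicComplete (IsLocalRing.maximalIdeal (MvPowerSeries (Fin n) k')) (MvPowerSeries (Fin n) k') := by
    rw [Groth.Agent.MvPSLib.maximalIdeal_eq]; infer_instance
  have hsurj : Function.Surjective ((IsLocalRing.residue A).comp f) := fun t => by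
    obtain ⟨c, hc⟩ := hk t
    refine ⟨E (algebraMap k _ c), ?_⟩
    show IsLocalRing.residue A (φ (E.symm (E _))) = t
    rw [E.symm_apply_apply, AlgHom.commutes]
    exact hc
  have hfin : f.Finite := Groth.Agent.CAlgCohen.finite_eval f hsurj (hmap ▸ hxm) ⟨N, hmap ▸ hN⟩
  haveI : IsDomain (MvPowerSeries (Fin n) k') := Groth.Agent.CAlgReg.isDomain
  have hinj : Function.Injective f :=
    Groth.Agent.CAlgCohen.injective_of_finite f hfin (Groth.Agent.MvPSLib.ringKrullDim_eq k' n).le hn
  letI : Algebra (MvPowerSeries (Fin n) k') A := f.toAlgebra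
  haveI : Module.Finite (MvPowerSeries (Fin n) k') A := hfin
  haveI : Module.Free (MvPowerSeries (Fin n) k') A := Groth.Agent.WildQuotGal.free_of_regular hinj
  let B := Module.finBasis (MvPowerSeries (Fin n) k') A
  refine ⟨_, B, ?_, ?_⟩
  · let J : Ideal A := (IsLocalRing.maximalIdeal (MvPowerSeries (Fin n) k')).map (algebraMap _ A)
    have hJ : J = Ideal.span (Set.range x) := hmap
    rw [← hJ, ← Groth.Agent.ASFamily.length_eq_of_residue (R := MvPowerSeries (Fin n) k') hsurj]
    let e' : (A ⧸ J) ≃ₗ[MvPowerSeries (Fin n) k'] (Fin (Module.finrank (MvPowerSeries (Fin n) k') A) →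
        MvPowerSeries (Fin n) k' ⧸ IsLocalRing.maximalIdeal (MvPowerSeries (Fin n) k')) :=
      (Submodule.Quotient.restrictScalarsEquiv (MvPowerSeries (Fin n) k') J).symm ≪≫ₗ
        Submodule.quotEquivOfEq _ _
          (Ideal.smul_top_eq_map (S := A) (IsLocalRing.maximalIdeal (MvPowerSeries (Fin n) k'))).symm ≪≫ₗ
        (TensorProduct.quotTensorEquivQuotSMul A _).symm ≪≫ₗ
        TensorProduct.congr (LinearEquiv.refl _ _) B.equivFun ≪≫ₗ
        TensorProduct.piScalarRight _ (MvPowerSeries (Fin n) k') _ _
    haveI : IsSimpleModule (MvPowerSeries (Fin n) k')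
        (MvPowerSeries (Fin n) k' ⧸ IsLocalRing.maximalIdeal (MvPowerSeries (Fin n) k')) :=
      isSimpleModule_iff_isCoatom.2 (IsLocalRing.maximalIdeal.isMaximal _).out
    rw [e'.length_eq, Module.length_pi_of_fintype, Finset.sum_const, Finset.card_univ, Fintype.card_fin,
      Module.length_eq_one, nsmul_one]
  · have : (fun r : Fin (Module.finrank (MvPowerSeries (Fin n) k') A) → MvPowerSeries (Fin n) k =>
        ∑ i, φ (r i) * B i) = B.equivFun.symm ∘ (fun r i => E (r i)) := by
      funext r
      rw [Function.comp_apply, Module.Basis.equivFun_symm_apply]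
      refine Finset.sum_congr rfl fun i _ => ?_
      show φ (r i) * B i = f (E (r i)) * B i
      show φ (r i) * B i = φ (E.symm (E (r i))) * B i
      rw [E.symm_apply_apply]
    rw [this]
    exact B.equivFun.symm.bijective.comp
      ⟨fun r s h => funext fun i => E.injective (congrFun h i),
        fun r => ⟨fun i => E.symm (r i), funext fun i => E.apply_symm_apply _⟩⟩

end Groth.Agent.S15801
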