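import Groth.Statements.S15803
import Groth.Agent.GaloisPurity.Generation

set_option autoImplicit false
universe u v w
open WildQuot

namespace Groth.Agent.S15803

/-- Let `R` be a regular local ring and `A` a normal local domain, finite over `R` (with `R → A`
injective) and with the same residue field; let a finite group `H` act faithfully on `A` by
`R`-algebra automorphisms with ring of invariants exactly `R` (so `Frac(A)/Frac(R)` is Galois with
group `H`); let `p` be a prime and suppose that every nontrivial inertia subgroup of a height-one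
prime of `A` has order `p` and is normal in `H`. Then `H` is commutative and every element satisfies
`h ^ p = 1`: `H` is an elementary abelian `p`-group (of order the degree of `Frac(A)` over
`Frac(R)`). (The published statement is for `A` a complete regular local ring with an action
ramified precisely at the origin, `R = k[[x_1, …, x_n]]` a norm subring and `H` the Galois group of
`Frac(A)/Frac(R)`, when that extension is Galois; this row assumes only the hypotheses listed
above.) -/
theorem result
    (p : ℕ) [Fact p.Prime] (R : Type u) [CommRing R] [IsRegularLocalRing R]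
    (A : Type v) [CommRing A] [IsDomain A] [IsIntegrallyClosed A] [IsLocalRing A]
    [Algebra R A] [Module.Finite R A] (hinj : Function.Injective (algebraMap R A))
    (hres : Function.Surjective (IsLocalRing.residue A ∘ algebraMap R A))
    (H : Type w) [Group H] [Finite H] [MulSemiringAction H A] [SMulCommClass H R A] [FaithfulSMul H A]
    (hfix : ∀ a : A, (∀ h : H, h • a = a) → a ∈ Set.range (algebraMap R A))
    (hMR2 : ∀ P : Ideal A, P.IsPrime → P.height = 1 → P.inertia H ≠ ⊥ →
      Nat.card (P.inertia H) = p ∧ (P.inertia H).Normal) :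
    (∀ g h : H, g * h = h * g) ∧ ∀ h : H, h ^ p = 1 := by
  have htop := Groth.Agent.GaloisPurity.iSup_inertia_eq_top' hinj hres hfix
  let S : Set H := {h | ∃ P : Ideal A, P.IsPrime ∧ P.height = 1 ∧ h ∈ P.inertia H}
  have hgen : ∀ T : Subgroup H, S ⊆ T → T = ⊤ := fun T hT =>
    eq_top_iff.2 (htop ▸ iSup_le fun P x hx => hT ⟨P.1, P.2.1, P.2.2, hx⟩)
  have hpow : ∀ x ∈ S, x ^ p = 1 := by
    rintro x ⟨P, hP, hP1, hx⟩
    rcases eq_or_ne (P.inertia H) ⊥ with h | h
    · rw [h, Subgroup.mem_bot] at hx; rw [hx, one_pow]
    · have := pow_card_eq_one' (x := (⟨x, hx⟩ : P.inertia H))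
      rw [(hMR2 P hP hP1 h).1] at this
      simpa [Subtype.ext_iff] using this
  have hcomm : ∀ x ∈ S, ∀ y ∈ S, Commute x y := by
    rintro x ⟨P, hP, hP1, hx⟩ y ⟨Q, hQ, hQ1, hy⟩
    rcases eq_or_ne (P.inertia H) ⊥ with h | h
    · rw [h, Subgroup.mem_bot] at hx; rw [hx]; exact Commute.one_left y
    rcases eq_or_ne (Q.inertia H) ⊥ with h' | h'
    · rw [h', Subgroup.mem_bot] at hy; rw [hy]; exact Commute.one_right x
    obtain ⟨hPc, hPn⟩ := hMR2 P hP hP1 h
    obtain ⟨hQc, hQn⟩ := hMR2 Q hQ hQ1 h'
    haveI : Fact (Nat.card (P.inertia H)).Prime := ⟨hPc ▸ Fact.out⟩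
    rcases (Subgroup.subgroupOf (Q.inertia H) (P.inertia H)).eq_bot_or_eq_top_of_prime_card with h0 | h0
    · exact Subgroup.commute_of_normal_of_disjoint _ _ hPn hQn (Subgroup.subgroupOf_eq_bot.1 h0).symm x y hx hy
    · rw [Subgroup.subgroupOf_eq_top] at h0
      haveI : Fact (Nat.card (Q.inertia H)).Prime := ⟨hQc ▸ Fact.out⟩
      haveI : IsCyclic (Q.inertia H) := isCyclic_of_prime_card (p := p) hQc
      have := (IsCyclic.commutative (α := Q.inertia H)).is_comm.comm ⟨x, h0 hx⟩ ⟨y, hy⟩
      exact congrArg Subtype.val this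
  have hc : ∀ g h : H, g * h = h * g := by
    have h1 : ∀ x ∈ S, ∀ h : H, Commute x h := fun x hx h => by
      have := hgen (Subgroup.centralizer {x}) fun y hy => Subgroup.mem_centralizer_singleton_iff.2 (hcomm y hy x hx).eq
      have hh : h ∈ Subgroup.centralizer {x} := this ▸ Subgroup.mem_top h
      exact (Subgroup.mem_centralizer_singleton_iff.1 hh).symm
    intro g h
    have := hgen (Subgroup.centralizer {h}) fun y hy => Subgroup.mem_centralizer_singleton_iff.2 (h1 y hy h).eq
    exact Subgroup.mem_centralizer_singleton_iff.1 (this ▸ Subgroup.mem_top g)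
  refine ⟨hc, fun h => ?_⟩
  let T : Subgroup H :=
    { carrier := {h | h ^ p = 1}
      one_mem' := one_pow p
      mul_mem' := fun {a b} ha hb => by
        show (a * b) ^ p = 1
        rw [Commute.mul_pow (hc a b), ha, hb, mul_one]
      inv_mem' := fun {a} ha => by
        show a⁻¹ ^ p = 1
        rw [inv_pow, ha, inv_one] }
  exact (hgen T hpow).ge (Subgroup.mem_top h)

end Groth.Agent.S15803
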