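import Groth.Statements.S15804
import Groth.Agent.WildQuotGal.Invariants
import Groth.Agent.RegNormal.Basic
import Groth.Agent.DimTheory.Algebra
import Mathlib.GroupTheory.PGroup
import Mathlib.GroupTheory.SpecificGroups.Cyclic

set_option autoImplicit false
universe u v w
open WildQuot

namespace Groth.Agent.S15804

/-- Let `R` be a regular local ring and `A` a normal local domain, finite over `R` (with `R → A`
injective) and with the same residue field; let a finite group `H` act faithfully on `A` by
`R`-algebra automorphisms with ring of invariants exactly `R` (so `Frac(A)/Frac(R)` is Galois with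
group `H`); assume `A` has Krull dimension `2`, `H` has order `p ^ 2` for a prime `p`, and `Γ ≤ H`
is a subgroup of order `p` whose intersection with the inertia subgroup of every non-maximal prime
of `A` is trivial (the action of `Γ` is ramified precisely at the origin). Then every nontrivial
inertia subgroup of a height-one prime of `A` has order `p`, and `H` is commutative with every
element satisfying `h ^ p = 1`, i.e. elementary abelian of order `p ^ 2`. (The published statement
is for `A` a complete regular local ring with an action ramified precisely at the origin, `R =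
k[[x_1, …, x_n]]` a norm subring and `H` the Galois group of `Frac(A)/Frac(R)`, when that extension
is Galois; this row assumes only the hypotheses listed above.) -/
theorem result
    (p : ℕ) [Fact p.Prime] (R : Type u) [CommRing R] [IsRegularLocalRing R]
    (A : Type v) [CommRing A] [IsDomain A] [IsIntegrallyClosed A] [IsLocalRing A]
    [Algebra R A] [Module.Finite R A] (hinj : Function.Injective (algebraMap R A))
    (hres : Function.Surjective (IsLocalRing.residue A ∘ algebraMap R A))
    (H : Type w) [Group H] [Finite H] [MulSemiringAction H A] [SMulCommClass H R A] [FaithfulSMul H A]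
    (hfix : ∀ a : A, (∀ h : H, h • a = a) → a ∈ Set.range (algebraMap R A))
    (hdim : ringKrullDim A = 2) (hcard : Nat.card H = p ^ 2)
    (Γ : Subgroup H) (hΓ : Nat.card Γ = p)
    (hram : ∀ P : Ideal A, P.IsPrime → P ≠ IsLocalRing.maximalIdeal A → P.inertia H ⊓ Γ = ⊥) :
    (∀ P : Ideal A, P.IsPrime → P.height = 1 → P.inertia H ≠ ⊥ → Nat.card (P.inertia H) = p) ∧
      (∀ g h : H, g * h = h * g) ∧ ∀ h : H, h ^ p = 1 := by
  classical
  haveI : IsDomain R := Groth.Agent.CAlgReg.isDomain
  haveI : FaithfulSMul R A := (faithfulSMul_iff_algebraMap_injective R A).2 hinj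
  haveI : IsNoetherianRing A := IsNoetherianRing.of_finite R A
  have hp : p.Prime := Fact.out
  have hne : ∀ P : Ideal A, P.height ≤ 1 → P ≠ IsLocalRing.maximalIdeal A := fun P h1 h => by
    subst h
    have h2 := WithBot.coe_le_coe.2 h1
    rw [IsLocalRing.maximalIdeal_height_eq_ringKrullDim, hdim] at h2
    exact absurd h2 (by decide)
  have horder : ∀ P : Ideal A, P.IsPrime → P.height = 1 → P.inertia H ≠ ⊥ → Nat.card (P.inertia H) = p := by
    intro P hP h1 h2
    obtain ⟨i, hi, hi'⟩ := (Nat.dvd_prime_pow hp).1 (hcard ▸ Subgroup.card_subgroup_dvd_card (P.inertia H))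
    interval_cases i
    · exact absurd (Subgroup.card_eq_one.1 (by simpa using hi')) h2
    · simpa using hi'
    · have htop : P.inertia H = ⊤ := Subgroup.eq_top_of_card_eq _ (hi'.trans hcard.symm)
      have hb := hram P hP (hne P h1.le)
      rw [htop, top_inf_eq] at hb
      rw [hb, Subgroup.card_bot] at hΓ
      exact absurd hΓ hp.one_lt.ne
  have hcomm : ∀ g h : H, g * h = h * g := IsPGroup.commutative_of_card_eq_prime_sq hcard
  refine ⟨horder, hcomm, fun h => ?_⟩
  by_contra hh
  have hord : orderOf h = p ^ 2 := by
    obtain ⟨i, hi, hi'⟩ := (Nat.dvd_prime_pow hp).1 (hcard ▸ orderOf_dvd_natCard h)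
    interval_cases i
    · have h1 : h = 1 := orderOf_eq_one_iff.1 (by simpa using hi')
      exact absurd (by rw [h1, one_pow]) hh
    · exact absurd (orderOf_dvd_iff_pow_eq_one.1 (by rw [hi', pow_one])) hh
    · exact hi'
  haveI hcyc : IsCyclic H := isCyclic_of_orderOf_eq_card h (hord.trans hcard.symm)
  have huniq : ∀ S : Subgroup H, Nat.card S = p → S = Γ := by
    intro S hS
    haveI := Fintype.ofFinite H
    have hsub : ∀ T : Subgroup H, Nat.card T = p →
        (Finset.univ.filter (· ∈ T)) = Finset.univ.filter fun x : H => x ^ p = 1 := by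
      intro T hT
      refine Finset.eq_of_subset_of_card_le (fun x hx => ?_) ?_
      · rw [Finset.mem_filter] at hx ⊢
        refine ⟨hx.1, ?_⟩
        have := congrArg Subtype.val (pow_card_eq_one' (x := (⟨x, hx.2⟩ : T)))
        rwa [hT] at this
      · refine (IsCyclic.card_pow_eq_one_le hp.pos).trans (le_of_eq ?_)
        rw [← Fintype.card_subtype, ← Nat.card_eq_fintype_card]
        exact hT.symm
    ext x
    have := congrArg (x ∈ ·) ((hsub S hS).trans (hsub Γ hΓ).symm)
    simpa using this
  have hall : ∀ P : Ideal A, P.IsPrime → P.height ≤ 1 → P.inertia H = ⊥ := by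
    intro P hP h1
    by_contra h2
    rcases eq_or_ne P ⊥ with rfl | hP0
    · refine h2 (eq_bot_iff.2 fun σ hσ => ?_)
      rw [Subgroup.mem_bot]
      refine FaithfulSMul.eq_of_smul_eq_smul (α := A) fun a => ?_
      rw [one_smul]
      exact sub_eq_zero.1 (Ideal.mem_bot.1 (hσ a))
    have h1' : P.height = 1 := le_antisymm h1 (Order.one_le_iff_ne_zero.2 (mt Ideal.height_eq_zero_iff_eq_bot.1 hP0))
    have hb := hram P hP (hne P h1)
    rw [huniq _ (horder P hP h1' h2), inf_idem] at hb
    rw [hb, Subgroup.card_bot] at hΓ
    exact hp.one_lt.ne hΓ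
  haveI : IsGaloisGroup H R A := ⟨inferInstance, inferInstance, ⟨hfix⟩⟩
  have hdR : ringKrullDim R = (2 : ℕ) := by
    rw [← Groth.Agent.DimTheory.ringKrullDim_eq_of_integral R A, hdim]; rfl
  have hdep : LocCoh.depth A A = (2 : ℕ) := by
    refine le_antisymm ?_ ?_
    · have h := Groth.Agent.Depth.depth_le_ringKrullDim (R := A) (M := A)
      rw [hdim] at h
      exact WithBot.coe_le_coe.1 h
    · exact Groth.Agent.CAlgSerre.two_le_depth (le_of_eq hdim.symm)
  haveI := Groth.Agent.WildQuotGal.free_of_depth hinj hdR hdep
  haveI := Groth.Agent.WildQuotGal.subsingleton_group_of_free (B := R) H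
    (Groth.Agent.WildQuotGal.smul_sub_mem (k := R) hres fun σ c => smul_algebraMap σ c) hall
  exact hh (Subsingleton.elim _ _)

end Groth.Agent.S15804
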