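import Groth.Statements.S15808
import Groth.Agent.WildQuotGal.ASFamilyMinor

set_option autoImplicit false
universe u
open WildQuot

namespace Groth.Agent.S15808

open MvPolynomial in
/-- Let `k` be a field of characteristic `p > 0`, `n ≥ 2`, `R = k[[x_1, …, x_n]]`, `a_1, …, a_n ∈ R`
with zero constant term and pairwise coprime, `μ ∈ R` nonzero and coprime to each `a_i`; fix an
index `i₀` and let `B = R[Z_j : j ≠ i₀] / (Z_j ^ p - (μ a_{i₀} a_j) ^ (p-1) Z_j - (a_{i₀} ^ p x_j -
a_j ^ p x_{i₀}) : j ≠ i₀)`, the complete-intersection ring of the minor elements through `u_{i₀}`.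
Then `B` is a free `R`-module of rank `p ^ (n-1)`, `B` is an integral domain, and the localisation
`B[1/(μ a_{i₀})]` is integrally closed. (The published statement uses the first index for `i₀`; this
row allows any index.) -/
theorem result
    (p : ℕ) [Fact p.Prime] (k : Type u) [Field k] [CharP k p] (n : ℕ) (hn : 2 ≤ n)
    (a : Fin n → MvPowerSeries (Fin n) k) (μ : MvPowerSeries (Fin n) k)
    (ham : ∀ i, MvPowerSeries.constantCoeff (a i) = 0) (hcop : ∀ i j, i ≠ j → IsRelPrime (a i) (a j))
    (hμ : μ ≠ 0) (hμa : ∀ i, IsRelPrime μ (a i)) (i₀ : Fin n) :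
    let R := MvPowerSeries (Fin n) k
    let r : {j : Fin n // j ≠ i₀} → MvPolynomial {j : Fin n // j ≠ i₀} R := fun j =>
      X j ^ p - C ((μ * a i₀ * a j.1) ^ (p - 1)) * X j
        - C (a i₀ ^ p * MvPowerSeries.X j.1 - a j.1 ^ p * MvPowerSeries.X i₀)
    let B := MvPolynomial {j : Fin n // j ≠ i₀} R ⧸ Ideal.span (Set.range r)
    Module.Free R B ∧ Module.finrank R B = p ^ (n - 1) ∧ IsDomain B ∧
      IsIntegrallyClosed (Localization.Away (algebraMap R B (μ * a i₀))) := by
  intro R r B
  haveI : CharP R p := charP_of_injective_ringHom (f := MvPowerSeries.C (σ := Fin n) (R := k))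
    (fun x y h => by simpa using congrArg MvPowerSeries.constantCoeff h) p
  haveI : IsDomain R := Groth.Agent.CAlgReg.isDomain
  have ha : a i₀ ≠ 0 := fun h => by
    obtain ⟨j, hj⟩ : ∃ j, j ≠ i₀ := by
      haveI : Nontrivial (Fin n) := Fin.nontrivial_iff_two_le.2 hn
      exact exists_ne i₀
    have hu : IsUnit (a j) := by
      refine hcop i₀ j (Ne.symm hj) ?_ (dvd_refl _)
      rw [h]; exact dvd_zero _
    rw [MvPowerSeries.isUnit_iff_constantCoeff, ham] at hu
    exact not_isUnit_zero hu
  have hc : ∀ i, MvPowerSeries.constantCoeff ((μ * a i) ^ (p - 1)) = 0 := fun i => by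
    rw [map_pow, map_mul, ham, mul_zero, zero_pow (Nat.sub_ne_zero_of_lt (Fact.out (p := p.Prime)).one_lt)]
  haveI := Groth.Agent.ASFamily.isDomain p k n _ hc
  haveI := Groth.Agent.ASFamily.isRegularLocalRing p k n _ hc
  haveI : IsIntegrallyClosed (MvPolynomial (Fin n) R ⧸
      Groth.Agent.ASFamily.eqs p (fun i => (μ * a i) ^ (p - 1)) (MvPowerSeries.X : Fin n → R)) :=
    Groth.Agent.RegNormal.isIntegrallyClosed _
  exact Groth.Agent.ASFamily.minor_spec p μ a (MvPowerSeries.X : Fin n → R) i₀ ha hμ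

end Groth.Agent.S15808
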