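import Groth.Statements.S15811
import Mathlib

set_option autoImplicit false
universe u
open WildQuot

namespace Groth.Agent.S15811

/-- Let `R` be an integrally closed domain of prime characteristic `p` with fraction field `K`, and `α ∈
R`. Then `α ≠ 0` and the polynomial `T ^ p - α T` splits into linear factors over `K` — which says
that the finite flat group scheme `Spec R[T]/(T ^ p - α T)` of order `p` has constant generic fibre
(its `p` roots are then distinct) — if and only if `α = a ^ (p-1)` for some nonzero `a ∈ R`. (The
published statement is that the generic fibre of the finite flat group scheme of order `p` with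
parameters `α, β` satisfying `α β = 0`, whose underlying scheme is `Spec R[T]/(T ^ p - α T)`, is
constant if and only if `β = 0` and `α` is the `(p-1)`-th power of a nonzero element of `R`; this
row states the polynomial condition, in which `α ≠ 0` already forces `β = 0` over a domain.) -/
theorem result
    (p : ℕ) [Fact p.Prime] (R : Type u) [CommRing R] [IsDomain R] [IsIntegrallyClosed R]
    [CharP R p] (α : R) :
    (α ≠ 0 ∧ (Polynomial.map (algebraMap R (FractionRing R))
        (Polynomial.X ^ p - Polynomial.C α * Polynomial.X)).Splits) ↔
      ∃ a : R, a ≠ 0 ∧ α = a ^ (p - 1) := by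
  classical
  have hp := (Fact.out : p.Prime).two_le
  haveI : CharP (FractionRing R) p := charP_of_injective_algebraMap (IsFractionRing.injective R _) p
  have hmap : Polynomial.map (algebraMap R (FractionRing R)) (Polynomial.X ^ p - Polynomial.C α * Polynomial.X)
      = Polynomial.X ^ p - Polynomial.C (algebraMap R (FractionRing R) α) * Polynomial.X := by simp
  rw [hmap]
  constructor
  · rintro ⟨hα, hs⟩
    have hb : algebraMap R (FractionRing R) α ≠ 0 := by simpa using hα
    have hfac : Polynomial.X ^ p - Polynomial.C (algebraMap R (FractionRing R) α) * Polynomial.X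
        = Polynomial.X * (Polynomial.X ^ (p - 1) - Polynomial.C (algebraMap R (FractionRing R) α)) := by
      rw [mul_sub, ← pow_succ', Nat.sub_add_cancel (by omega), mul_comm Polynomial.X]
    have hne : Polynomial.X ^ (p - 1) - Polynomial.C (algebraMap R (FractionRing R) α) ≠ 0 :=
      Polynomial.X_pow_sub_C_ne_zero (by omega) _
    have hs' : (Polynomial.X ^ (p - 1) - Polynomial.C (algebraMap R (FractionRing R) α)).Splits :=
      hs.of_dvd (by rw [hfac]; exact mul_ne_zero Polynomial.X_ne_zero hne) (hfac ▸ dvd_mul_left _ _)
    obtain ⟨r, hr⟩ := hs'.exists_eval_eq_zero (by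
      rw [Polynomial.degree_X_pow_sub_C (by omega)]
      exact_mod_cast (by omega : p - 1 ≠ 0))
    simp only [Polynomial.eval_sub, Polynomial.eval_pow, Polynomial.eval_X, Polynomial.eval_C, sub_eq_zero] at hr
    obtain ⟨a, rfl⟩ := IsIntegrallyClosed.exists_algebraMap_eq_of_isIntegral_pow (R := R) (n := p - 1) (by omega)
      (x := r) (by rw [hr]; exact isIntegral_algebraMap)
    rw [← map_pow] at hr
    refine ⟨a, ?_, (IsFractionRing.injective R _ hr).symm⟩
    rintro rfl
    rw [zero_pow (by omega)] at hr
    exact hb (by rw [← hr, map_zero])
  · rintro ⟨a, ha, rfl⟩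
    refine ⟨pow_ne_zero _ ha, ?_⟩
    set b := algebraMap R (FractionRing R) a
    have hb : b ≠ 0 := by simpa [b] using ha
    set f := Polynomial.X ^ p - Polynomial.C (algebraMap R (FractionRing R) (a ^ (p - 1))) * Polynomial.X with hf
    have hdeg : f.natDegree = p := by
      rw [hf, Polynomial.natDegree_sub_eq_left_of_natDegree_lt]
      · exact Polynomial.natDegree_X_pow p
      · refine lt_of_le_of_lt (Polynomial.natDegree_C_mul_le _ _) ?_
        rw [Polynomial.natDegree_X, Polynomial.natDegree_X_pow]
        omega
    have hf0 : f ≠ 0 := fun h => by rw [h, Polynomial.natDegree_zero] at hdeg; omega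
    let g : ZMod p → FractionRing R := fun c => ZMod.castHom dvd_rfl (FractionRing R) c * b
    have hg : Function.Injective g := fun c d h => (ZMod.castHom dvd_rfl (FractionRing R)).injective (mul_right_cancel₀ hb h)
    rw [Polynomial.splits_iff_card_roots, hdeg]
    refine le_antisymm (hdeg ▸ Polynomial.card_roots' f) ?_
    have h1 : Finset.univ.image g ⊆ f.roots.toFinset := by
      intro x hx
      obtain ⟨c, -, rfl⟩ := Finset.mem_image.1 hx
      rw [Multiset.mem_toFinset, Polynomial.mem_roots hf0, Polynomial.IsRoot.def, hf]
      simp only [Polynomial.eval_sub, Polynomial.eval_pow, Polynomial.eval_X, Polynomial.eval_C, Polynomial.eval_mul, g]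
      rw [mul_pow, ← map_pow (ZMod.castHom dvd_rfl (FractionRing R)), ZMod.pow_card, map_pow, show algebraMap R _ a = b from rfl,
        mul_left_comm, ← pow_succ, Nat.sub_add_cancel (by omega), sub_self]
    have h2 := (Finset.card_le_card h1).trans (Multiset.toFinset_card_le _)
    rwa [Finset.card_image_of_injective _ hg, Finset.card_univ, ZMod.card] at h2

end Groth.Agent.S15811
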