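import Groth.Statements.S15813
import Groth.Agent.RamBreak.Basic
import Mathlib.RingTheory.Localization.FractionRing

set_option autoImplicit false
universe u
open WildQuot

namespace Groth.Agent.S15813

/-- Let `k` be a field of characteristic `p > 0`, `A = k[[u]]`, and `σ` a `k`-algebra automorphism of
`A` of order exactly `p`, with ramification break `m`: `σ u - u` has order `m + 1`. Let `x = ∏_{i <
p} σ^i u` be the norm of `u`, let `f ∈ A` be `σ`-invariant with nonzero constant term (a unit of the
invariant ring `k[[x]]`), let `μ > 0` be prime to `p`, and let `z ∈ Frac(A)` satisfy the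
Artin–Schreier equation `z ^ p - z = f / x ^ μ`. Then `μ = m`. (The published statement also records
that `Frac(A) = Frac(A^σ)(z)`; that follows from the equation since `p` does not divide `μ`, so it
is not repeated as a hypothesis.) -/
theorem result
    (p : ℕ) [Fact p.Prime] (k : Type u) [Field k] [CharP k p]
    (σ : PowerSeries k ≃ₐ[k] PowerSeries k) (hσp : σ ^ p = 1) (hσ1 : σ ≠ 1)
    (m : ℕ) (hm : (σ PowerSeries.X - PowerSeries.X).order = ((m + 1 : ℕ) : ℕ∞))
    (f : PowerSeries k) (hfσ : σ f = f) (hf0 : PowerSeries.constantCoeff f ≠ 0)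
    (μ : ℕ) (hμ : 0 < μ) (hpμ : ¬ p ∣ μ)
    (z : FractionRing (PowerSeries k))
    (hz : z ^ p - z = algebraMap (PowerSeries k) (FractionRing (PowerSeries k)) f /
      algebraMap (PowerSeries k) (FractionRing (PowerSeries k))
        (∏ i ∈ Finset.range p, (σ ^ i) PowerSeries.X) ^ μ) :
    μ = m := by
  obtain ⟨⟨a, ⟨b, hb⟩⟩, rfl⟩ : ∃ x : PowerSeries k × nonZeroDivisors (PowerSeries k),
      IsLocalization.mk' (FractionRing (PowerSeries k)) x.1 x.2 = z := by
    obtain ⟨a, b, h⟩ := IsLocalization.exists_mk'_eq (nonZeroDivisors (PowerSeries k)) z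
    exact ⟨(a, b), h⟩
  have hb0 : b ≠ 0 := nonZeroDivisors.ne_zero hb
  refine RamBreak.conductor_eq p hσp hm f hfσ hf0 μ hμ hpμ a b hb0 ?_
  obtain ⟨δ, hd, hδ⟩ := RamBreak.ord_iff.mpr hm
  have hN : RamBreak.norm p σ ≠ 0 :=
    (RamBreak.ord_norm p hd (RamBreak.one_le_break p hσp hd hδ)).ne_zero
  apply IsFractionRing.injective (PowerSeries k) (FractionRing (PowerSeries k))
  have hb' : algebraMap (PowerSeries k) (FractionRing (PowerSeries k)) b ≠ 0 :=
    IsFractionRing.to_map_ne_zero_of_mem_nonZeroDivisors hb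
  rw [IsFractionRing.mk'_eq_div] at hz
  simp only [map_mul, map_sub, map_pow]
  have hN' : algebraMap (PowerSeries k) (FractionRing (PowerSeries k)) (RamBreak.norm p σ) ≠ 0 :=
    fun h => hN (IsFractionRing.injective (PowerSeries k) (FractionRing (PowerSeries k)) (by rw [h, map_zero]))
  rw [div_pow] at hz
  obtain ⟨r, rfl⟩ : ∃ r, p = r + 1 := ⟨p - 1, by have := (Fact.out : p.Prime).pos; omega⟩
  simp only [Nat.add_sub_cancel]
  change _ = algebraMap _ _ f / algebraMap _ _ (RamBreak.norm (r + 1) σ) ^ μ at hz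
  field_simp at hz
  refine mul_left_cancel₀ hb' ?_
  linear_combination hz

end Groth.Agent.S15813
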