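import Groth.Statements.S15815
import Mathlib

set_option autoImplicit false
universe u
open CategoryTheory
open Koszul

namespace Groth.Agent.S15815

open CategoryTheory CategoryTheory.Limits CochainComplex
open scoped Pointwise

noncomputable def coneXIso {A : Type u} [CommRing A] {K K' : CochainComplex (ModuleCat.{u} A) ℤ}
    (φ : K ⟶ K) (φ' : K' ⟶ K') (e : ∀ i, K'.X i ≅ K.X i) (i : ℤ) :
    (mappingCone φ').X i ≅ (mappingCone φ).X i where
  hom := (mappingCone.fst φ').1.v i (i + 1) rfl ≫ (e (i + 1)).hom ≫ (mappingCone.inl φ).v (i + 1) i (by omega) +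
    (mappingCone.snd φ').v i i (add_zero i) ≫ (e i).hom ≫ (mappingCone.inr φ).f i
  inv := (mappingCone.fst φ).1.v i (i + 1) rfl ≫ (e (i + 1)).inv ≫ (mappingCone.inl φ').v (i + 1) i (by omega) +
    (mappingCone.snd φ).v i i (add_zero i) ≫ (e i).inv ≫ (mappingCone.inr φ').f i
  hom_inv_id := by
    simp [Preadditive.add_comp, Preadditive.comp_add, mappingCone.id_X]
  inv_hom_id := by
    simp [Preadditive.add_comp, Preadditive.comp_add, mappingCone.id_X]

theorem exists_twist {A : Type u} [CommRing A] (x : A) (hx : x ∈ nonZeroDivisors A) : ∀ l : List A,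
    (∀ i, IsSMulRegular ((Koszul.koszul A l).X i) x) ∧
    ∃ e : ∀ i, (Koszul.koszul A (l.map (fun f => x * f))).X i ≅ (Koszul.koszul A l).X i,
      ∀ i j, (Koszul.koszul A (l.map (fun f => x * f))).d i j ≫ (e j).hom =
        (e i).hom ≫ (x • (Koszul.koszul A l).d i j)
  | [] => by
    refine ⟨fun i => ?_, fun i => Iso.refl _, fun i j => ?_⟩
    · by_cases hi : i = 0
      · subst hi
        intro a b hab
        have e := (HomologicalComplex.singleObjXSelf (ComplexShape.up ℤ) 0 (ModuleCat.of A A)).toLinearEquiv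
        refine e.injective ?_
        have h2 : x • e a = x • e b := (map_smul e x a).symm.trans ((congrArg e hab).trans (map_smul e x b))
        exact (mul_cancel_left_mem_nonZeroDivisors hx).1 h2
      · have := ModuleCat.subsingleton_of_isZero
          (HomologicalComplex.isZero_single_obj_X (ComplexShape.up ℤ) 0 (ModuleCat.of A A) i hi)
        exact fun a b _ => @Subsingleton.elim _ this a b
    · show ((CochainComplex.singleFunctor (ModuleCat.{u} A) 0).obj (ModuleCat.of A A)).d i j ≫ 𝟙 _ =
        𝟙 _ ≫ (x • ((CochainComplex.singleFunctor (ModuleCat.{u} A) 0).obj (ModuleCat.of A A)).d i j)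
      rw [show ((CochainComplex.singleFunctor (ModuleCat.{u} A) 0).obj (ModuleCat.of A A)).d i j = 0 from rfl]
      simp
  | f :: l => by
    obtain ⟨hreg, e, he⟩ := exists_twist x hx l
    refine ⟨fun i a b hab => ?_, fun i => coneXIso _ _ e i, fun i j => ?_⟩
    · have hf : (mappingCone.fst (f • 𝟙 (Koszul.koszul A l))).1.v i (i + 1) rfl a =
          (mappingCone.fst (f • 𝟙 (Koszul.koszul A l))).1.v i (i + 1) rfl b :=
        hreg _ ((map_smul _ x a).symm.trans ((congrArg _ hab).trans (map_smul _ x b)))
      have hs : (mappingCone.snd (f • 𝟙 (Koszul.koszul A l))).v i i (add_zero i) a =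
          (mappingCone.snd (f • 𝟙 (Koszul.koszul A l))).v i i (add_zero i) b :=
        hreg _ ((map_smul _ x a).symm.trans ((congrArg _ hab).trans (map_smul _ x b)))
      have hid := mappingCone.id_X (f • 𝟙 (Koszul.koszul A l)) i (i + 1) rfl
      have ha := ConcreteCategory.congr_hom hid a
      have hb := ConcreteCategory.congr_hom hid b
      simp only [ModuleCat.hom_add, LinearMap.add_apply, ModuleCat.hom_comp, LinearMap.comp_apply,
        ModuleCat.hom_id, LinearMap.id_apply] at ha hb
      exact ha.symm.trans ((congrArg₂ (· + ·) (congrArg _ hf) (congrArg _ hs)).trans hb)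
    · by_cases hij : i + 1 = j
      · subst hij
        show (mappingCone ((x * f) • 𝟙 (Koszul.koszul A (l.map (fun f => x * f))))).d i (i + 1) ≫ _ =
          _ ≫ (x • (mappingCone (f • 𝟙 (Koszul.koszul A l))).d i (i + 1))
        rw [mappingCone.ext_to_iff _ (i + 1) (i + 1 + 1) rfl]
        constructor <;>
          simp [coneXIso, mappingCone.d_fst_v _ i (i + 1) (i + 1 + 1) rfl rfl,
            mappingCone.d_snd_v _ i (i + 1) rfl, reassoc_of% (mappingCone.d_fst_v ((x * f) • 𝟙 (Koszul.koszul A (l.map (fun f => x * f)))) i (i + 1) (i + 1 + 1) rfl rfl),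
            reassoc_of% (mappingCone.d_snd_v ((x * f) • 𝟙 (Koszul.koszul A (l.map (fun f => x * f)))) i (i + 1) rfl),
            he, smul_smul]
      · rw [HomologicalComplex.shape _ i j (by simpa using hij), HomologicalComplex.shape _ i j (by simpa using hij)]
        simp


/-- Let A be a commutative ring, f = (f_1, …, f_n) a finite sequence in A with Koszul complex K(f)
(cohomological, in degrees -n, …, 0) and differentials ∂^q : K(f)^q → K(f)^{q+1}, and let x be a
non-zero-divisor of A. Then for every integer q the q-th cohomology module of the Koszul complex of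
the sequence (x f_1, …, x f_n) is isomorphic as an A-module to Ker(∂^q) / (x · Im(∂^{q-1})), the
q-cocycles of K(f) modulo x times the q-coboundaries (existence of an A-linear isomorphism; the
Koszul complex is the iterated mapping-cone model). -/
theorem result (A : Type u) [CommRing A] (l : List A) (x : A)
    (hx : x ∈ nonZeroDivisors A) (q : ℤ) :
    Nonempty ((Koszul.koszul A (l.map (fun f => x * f))).homology q ≅
      ModuleCat.of A (↥(LinearMap.ker ((Koszul.koszul A l).d q (q + 1)).hom) ⧸
        Submodule.comap (LinearMap.ker ((Koszul.koszul A l).d q (q + 1)).hom).subtype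
          (Ideal.span {x} • LinearMap.range ((Koszul.koszul A l).d (q - 1) q).hom))) := by
  obtain ⟨hreg, e, he⟩ := exists_twist x hx l
  let K := Koszul.koszul A l
  let K' := Koszul.koszul A (l.map (fun f => x * f))
  have hel : ∀ i j (y : K'.X i), (e j).hom ((K'.d i j) y) = x • (K.d i j) ((e i).hom y) :=
    fun i j y => ConcreteCategory.congr_hom (he i j) y
  let Z' := LinearMap.ker (K'.d q (q + 1)).hom
  let Z := LinearMap.ker (K.d q (q + 1)).hom
  have hZ : Submodule.map (e q).toLinearEquiv.toLinearMap Z' = Z := by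
    ext y
    constructor
    · rintro ⟨z, hz, rfl⟩
      refine hreg (q + 1) ?_
      show x • (K.d q (q + 1)) ((e q).hom z) = x • (0 : K.X (q + 1))
      rw [← hel, smul_zero, show (K'.d q (q + 1)) z = 0 from hz, map_zero]
    · intro hy
      refine ⟨(e q).toLinearEquiv.symm y, ?_, (e q).toLinearEquiv.apply_symm_apply y⟩
      refine (e (q + 1)).toLinearEquiv.injective ?_
      rw [map_zero]
      refine (hel q (q + 1) _).trans ?_
      rw [show (e q).hom ((e q).toLinearEquiv.symm y) = y from (e q).toLinearEquiv.apply_symm_apply y,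
        show (K.d q (q + 1)) y = 0 from hy, smul_zero]
  let ez : Z' ≃ₗ[A] Z := (e q).toLinearEquiv.ofSubmodules Z' Z hZ
  have i0 : K'.homology q ≅ (K'.sc' (q - 1) q (q + 1)).homology :=
    ShortComplex.homologyMapIso (K'.isoSc' (q - 1) q (q + 1) (by simp) (by simp))
  refine ⟨i0 ≪≫ (K'.sc' (q - 1) q (q + 1)).moduleCatHomologyIso ≪≫
    LinearEquiv.toModuleIso (Submodule.Quotient.equiv _ _ ez ?_)⟩
  ext z
  rw [Submodule.ideal_span_singleton_smul]
  constructor
  · rintro ⟨w, ⟨v, rfl⟩, rfl⟩
    have : (e q).hom ((K'.d (q - 1) q) v) ∈ x • LinearMap.range (K.d (q - 1) q).hom := by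
      rw [hel]
      exact Submodule.smul_mem_pointwise_smul _ x _ ⟨_, rfl⟩
    exact this
  · intro hz
    obtain ⟨_, ⟨v, rfl⟩, hv⟩ := (Submodule.mem_smul_pointwise_iff_exists (z : K.X q) x _).1 hz
    refine ⟨(K'.sc' (q - 1) q (q + 1)).moduleCatToCycles ((e (q - 1)).toLinearEquiv.symm v), ⟨_, rfl⟩, Subtype.ext ?_⟩
    refine (hel (q - 1) q _).trans ?_
    rw [show (e (q - 1)).hom ((e (q - 1)).toLinearEquiv.symm v) = v from (e (q - 1)).toLinearEquiv.apply_symm_apply v]
    exact hv

end Groth.Agent.S15815
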