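import Groth.Statements.S15816
import Mathlib
import Groth.Agent.S15815
import Groth.Agent.KoszulCx.Basic
-- import your own Groth.Agent.* helpers here

set_option autoImplicit false
universe u
open CategoryTheory
open scoped TensorProduct
open Koszul

namespace Groth.Agent.S15816

/-- Let A be a commutative ring, f = (f_1, …, f_n) a sequence in A that is regular in the weak sense
(f_1 is a non-zero-divisor of A and each f_i is a non-zero-divisor modulo (f_1, …, f_{i-1})), with
Koszul complex K(f) and differentials ∂^q, and let x be a non-zero-divisor of A. Then for every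
integer q < 0 the q-th cohomology module of the Koszul complex of (x f_1, …, x f_n) is isomorphic as
an A-module to Ker(∂^q) ⊗_A A/(x) (existence of an A-linear isomorphism; mapping-cone model of the
Koszul complex). -/
theorem result (A : Type u) [CommRing A] (l : List A)
    (hl : RingTheory.Sequence.IsWeaklyRegular A l) (x : A) (hx : x ∈ nonZeroDivisors A) (q : ℤ) (hq : q < 0) :
    Nonempty ((Koszul.koszul A (l.map (fun f => x * f))).homology q ≅
      ModuleCat.of A (↥(LinearMap.ker ((Koszul.koszul A l).d q (q + 1)).hom) ⊗[A] (A ⧸ Ideal.span {x}))) := by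
  obtain ⟨i⟩ := Groth.Agent.S15815.result A l x hx q
  have hK : ∀ l : List A, CohIII.koszulCx (ModuleCat.of A A) l = Koszul.koszul A l := by
    intro l
    induction l with
    | nil => rfl
    | cons f l ih =>
      have key : ∀ K L : CochainComplex (ModuleCat.{u} A) ℤ, K = L →
          CochainComplex.mappingCone (f • 𝟙 K) = CochainComplex.mappingCone (f • 𝟙 L) := by
        rintro K L rfl
        rfl
      exact key _ _ ih
  have hex := Groth.Agent.KoszulCx.ex_of_isWeaklyRegular l (ModuleCat.of A A) hl q hq
  rw [hK] at hex
  let Z := LinearMap.ker ((Koszul.koszul A l).d q (q + 1)).hom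
  have heq : Submodule.comap Z.subtype (Ideal.span {x} • LinearMap.range ((Koszul.koszul A l).d (q - 1) q).hom) =
      Ideal.span {x} • (⊤ : Submodule A Z) := by
    have hr : LinearMap.range ((Koszul.koszul A l).d (q - 1) q).hom = Z := by
      refine le_antisymm ?_ fun z hz => ?_
      · rintro _ ⟨w, rfl⟩
        exact ConcreteCategory.congr_hom ((Koszul.koszul A l).d_comp_d (q - 1) q (q + 1)) w
      · obtain ⟨w, hw⟩ := hex (q - 1) (q + 1) (by omega) rfl z hz
        exact ⟨w, hw⟩
    rw [hr]
    have h := Submodule.map_smul'' (Ideal.span {x}) (⊤ : Submodule A Z) Z.subtype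
    rw [Submodule.map_top, Submodule.range_subtype] at h
    rw [← h]
    exact Submodule.comap_map_eq_of_injective Z.injective_subtype _
  exact ⟨i ≪≫ LinearEquiv.toModuleIso ((Submodule.quotEquivOfEq _ _ heq).trans
    (TensorProduct.tensorQuotEquivQuotSMul Z (Ideal.span {x})).symm)⟩

end Groth.Agent.S15816
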