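import Groth.Statements.S15817
import Mathlib.CategoryTheory.Limits.Shapes.Pullback.IsPullback.Basic
import Mathlib.LinearAlgebra.Quotient.Basic

set_option autoImplicit false
universe u v
open CategoryTheory
open CAlg

namespace Groth.Agent.S15817

/-- Let A be a commutative ring, M an A-module and P, Q submodules of M. Then the commuting square of
quotient projections with corners M/(P ∩ Q), M/P, M/Q and M/(P + Q) is cartesian in the category of
A-modules: M/(P ∩ Q) is the fibre product of M/P and M/Q over M/(P + Q). -/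
theorem result (A : Type u) [CommRing A] (M : Type v) [AddCommGroup M] [Module A M]
    (P Q : Submodule A M) :
    IsPullback (ModuleCat.ofHom (Submodule.factor (inf_le_left : P ⊓ Q ≤ P)))
      (ModuleCat.ofHom (Submodule.factor (inf_le_right : P ⊓ Q ≤ Q)))
      (ModuleCat.ofHom (Submodule.factor (le_sup_left : P ≤ P ⊔ Q)))
      (ModuleCat.ofHom (Submodule.factor (le_sup_right : Q ≤ P ⊔ Q))) := by
  let φ : M ⧸ (P ⊓ Q) →ₗ[A] (M ⧸ P) × (M ⧸ Q) :=
    (Submodule.factor inf_le_left).prod (Submodule.factor inf_le_right)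
  have hinj : Function.Injective φ := by
    rw [injective_iff_map_eq_zero]
    intro x hx
    obtain ⟨m, rfl⟩ := Submodule.Quotient.mk_surjective _ x
    have h1 := congrArg Prod.fst hx
    have h2 := congrArg Prod.snd hx
    simp [φ] at h1 h2
    exact (Submodule.Quotient.mk_eq_zero _).mpr ⟨h1, h2⟩
  have hrange : ∀ x : (M ⧸ P) × (M ⧸ Q),
      Submodule.factor (le_sup_left : P ≤ P ⊔ Q) x.1 = Submodule.factor (le_sup_right : Q ≤ P ⊔ Q) x.2 →
      x ∈ LinearMap.range φ := by
    rintro ⟨x, y⟩ h
    obtain ⟨a, rfl⟩ := Submodule.Quotient.mk_surjective _ x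
    obtain ⟨b, rfl⟩ := Submodule.Quotient.mk_surjective _ y
    simp [Submodule.Quotient.eq, Submodule.mem_sup] at h
    obtain ⟨p, hp, q, hq, he⟩ := h
    refine ⟨Submodule.Quotient.mk (a - p), ?_⟩
    refine Prod.ext ?_ ?_
    · show Submodule.Quotient.mk (a - p) = Submodule.Quotient.mk a
      rw [Submodule.Quotient.eq, sub_sub_cancel_left]; exact P.neg_mem hp
    · show Submodule.Quotient.mk (a - p) = Submodule.Quotient.mk b
      rw [Submodule.Quotient.eq, sub_right_comm, ← he, add_sub_cancel_left]; exact hq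
  refine IsPullback.of_isLimit' ⟨?_⟩ (Limits.PullbackCone.IsLimit.mk _ (fun s => ModuleCat.ofHom
    ((LinearEquiv.ofInjective φ hinj).symm.toLinearMap ∘ₗ
      LinearMap.codRestrict (LinearMap.range φ) (s.fst.hom.prod s.snd.hom)
        (fun c => hrange _ (congrArg (fun m => m.hom c) s.condition)))) ?_ ?_ ?_)
  · ext m; rfl
  · intro s
    apply ModuleCat.hom_ext; ext c
    exact congrArg Prod.fst (LinearEquiv.ofInjective_symm_apply (h := hinj) φ _)
  · intro s
    apply ModuleCat.hom_ext; ext c
    exact congrArg Prod.snd (LinearEquiv.ofInjective_symm_apply (h := hinj) φ _)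
  · intro s m h₁ h₂
    apply ModuleCat.hom_ext; ext c
    apply hinj
    refine Eq.trans ?_ (LinearEquiv.ofInjective_symm_apply (h := hinj) φ _).symm
    exact Prod.ext (congrArg (fun f => f.hom c) h₁) (congrArg (fun f => f.hom c) h₂)

end Groth.Agent.S15817
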