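import Groth.Statements.S15824
import Groth.Agent.RegImmStalk.Basic
import Groth.Agent.Depth.CM
import Groth.Agent.Depth.SeqDepth
import Mathlib.RingTheory.KrullDimension.Regular


set_option autoImplicit false
universe u
open CategoryTheory AlgebraicGeometry
open RegImm

namespace Groth.Agent.S15824

/-- Let X be a locally Noetherian scheme all of whose local rings are Cohen–Macaulay, and i : Z → X a
closed immersion which is regular (around every point, on some affine open of X the ideal of Z is
generated by a regular sequence). Then Z has no embedded points (each associated point of Z is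
generic in an irreducible component): for every point z of Z, if the maximal ideal of O_{Z,z} is an
associated prime of O_{Z,z} (as a module over itself), then O_{Z,z} has Krull dimension 0. (The
published statement takes X Noetherian and Z a local complete intersection subscheme; the assertion
is local on X and uses only that the ideal of Z is locally generated by a regular sequence.) -/
theorem result {X Z : Scheme.{u}}
    [IsLocallyNoetherian X] (hCM : ∀ x : X, LocCoh.IsCohenMacaulayLocalRing (X.presheaf.stalk x))
    (i : Z ⟶ X) [IsClosedImmersion i] (hi : RegImm.IsRegularImmersion RegImm.Kind.regular i) (z : Z)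
    (hz : IsAssociatedPrime (IsLocalRing.maximalIdeal (Z.presheaf.stalk z)) (Z.presheaf.stalk z)) :
    ringKrullDim (Z.presheaf.stalk z) = 0 := by
  obtain ⟨rs, hrs, hker⟩ := Groth.Agent.RegImmStalk.exists_isRegular i hi z
  let L := X.presheaf.stalk (i z)
  let R := Z.presheaf.stalk z
  have hCML : LocCoh.IsCohenMacaulayLocalRing L := hCM (i z)
  have hdimL : ringKrullDim L = (LocCoh.depth L L : WithBot ℕ∞) := Groth.Agent.Depth.ringKrullDim_eq_depth
  have hsurj : Function.Surjective (i.stalkMap z).hom := i.stalkMap_surjective z
  let e : (L ⧸ Ideal.ofList rs) ≃+* R :=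
    (Ideal.quotEquivOfEq hker.symm).trans (RingHom.quotientKerEquivOfSurjective hsurj)
  have hmem : ∀ r ∈ rs, r ∈ IsLocalRing.maximalIdeal L := fun r hr =>
    IsLocalRing.le_maximalIdeal (RingHom.ker_ne_top _) (hker.ge (Ideal.subset_span hr))
  letI : Algebra L R := (i.stalkMap z).hom.toAlgebra
  let el : (L ⧸ (Ideal.ofList rs • ⊤ : Submodule L L)) ≃ₗ[L] R :=
    (Submodule.quotEquivOfEq _ _ (by rw [smul_eq_mul, Ideal.mul_top, ← hker]; rfl)).trans
      (LinearMap.quotKerEquivOfSurjective (Algebra.linearMap L R) hsurj)
  have : IsNoetherianRing R := isNoetherianRing_of_surjective _ _ _ hsurj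
  have hdepth : LocCoh.depth R R = 0 := Groth.Agent.Depth.depth_eq_zero_iff.2 hz
  have h1 := Groth.Agent.Depth.idealDepth_quot_ofList_add_length rs L hrs.toIsWeaklyRegular hmem
  change LocCoh.depth L _ + _ = LocCoh.depth L L at h1
  rw [Groth.Agent.Depth.depth_congr el, ← Groth.Agent.Depth.depth_eq_of_surjective (R := L) (S := R) (M := R) hsurj,
    hdepth, zero_add] at h1
  have h2 := ringKrullDim_add_length_eq_ringKrullDim_of_isRegular rs hrs
  rw [hdimL, ← h1, ringKrullDim_eq_of_ringEquiv e] at h2
  generalize hd : ringKrullDim R = d at h2 ⊢
  cases d with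
  | bot => simp at h2
  | coe d =>
    cases d with
    | top =>
      have h3 : (⊤ : ℕ∞) + (rs.length : ℕ∞) = (rs.length : ℕ∞) := WithBot.coe_injective h2
      rw [top_add] at h3
      exact absurd h3 (ENat.top_ne_coe _)
    | coe d =>
      have : d + rs.length = rs.length := by exact_mod_cast h2
      have : d = 0 := by omega
      subst this; rfl

end Groth.Agent.S15824
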