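import Groth.Statements.S15832
import Mathlib
-- import your own Groth.Agent.* helpers here

set_option autoImplicit false
universe u
open TopGrp

open scoped Topology Filter

namespace Groth.Agent.S15832
theorem translate_mem_B {T : Type u} [Group T] [TopologicalSpace T] (Γ : OpenSubgroup T) (x y : T) :
    @IsOpen T (TopologicalSpace.generateFrom {S : Set T | ∃ (Γ : OpenSubgroup T) (x y : T), S = (fun g : T => x * g * y) '' (Γ : Set T)})
      ((fun g : T => x * g * y) '' (Γ : Set T)) :=
  TopologicalSpace.GenerateOpen.basic _ ⟨Γ, x, y, rfl⟩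

theorem mem_translate {T : Type u} [Group T] (s : Set T) (x y g : T) :
    g ∈ (fun h : T => x * h * y) '' s ↔ x⁻¹ * g * y⁻¹ ∈ s := by
  constructor
  · rintro ⟨h, hh, rfl⟩; simpa [mul_assoc] using hh
  · exact fun h => ⟨_, h, by group⟩

theorem conj_subgroup {T : Type u} [Group T] [TopologicalSpace T] (l : List (OpenSubgroup T × T)) (g h : T)
    (hg : ∀ p ∈ l, p.2 * g * p.2⁻¹ ∈ p.1) (hh : ∀ p ∈ l, p.2 * h * p.2⁻¹ ∈ p.1) :
    ∀ p ∈ l, p.2 * (g * h) * p.2⁻¹ ∈ p.1 := by
  intro p hp
  have := p.1.mul_mem (hg p hp) (hh p hp)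
  rwa [show p.2 * (g * h) * p.2⁻¹ = (p.2 * g * p.2⁻¹) * (p.2 * h * p.2⁻¹) by group]


/-- For a group T with a topology, let B be the family of two-sided translates x Γ y, where Γ runs over
the subgroups of T open in the given topology and x, y over T; the topology generated by B makes T a
topological group in which every neighbourhood of the identity contains a subgroup open for that
topology. (The published statement is for the free topological product of two Noohi groups whose
open subgroups form a basis of neighbourhoods of the identity; the argument uses only the group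
structure and the chosen family of subgroups, so the row is stated for an arbitrary group with a
topology. The published conventions include Hausdorffness in the word topological group; this row
does not assert it, and the published argument does not prove it.) -/
theorem result (T : Type u) [Group T]
    [TopologicalSpace T] :
    @NonarchimedeanGroup T _ (TopologicalSpace.generateFrom
      {S : Set T | ∃ (Γ : OpenSubgroup T) (x y : T), S = (fun g : T => x * g * y) '' (Γ : Set T)}) := by
  let B := {S : Set T | ∃ (Γ : OpenSubgroup T) (x y : T), S = (fun g : T => x * g * y) '' (Γ : Set T)}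
  have hop : ∀ (Γ : OpenSubgroup T) (x y : T), IsOpen[(TopologicalSpace.generateFrom B)] {g | x⁻¹ * g * y⁻¹ ∈ Γ} := fun Γ x y => by
    have h := translate_mem_B Γ x y
    convert h using 1
    exact Set.ext fun g => (mem_translate (Γ : Set T) x y g).symm
  have hTG : @IsTopologicalGroup T (TopologicalSpace.generateFrom B) _ := by
    refine @IsTopologicalGroup.mk T (TopologicalSpace.generateFrom B) _ ?_ ?_
    · refine @ContinuousMul.mk T (TopologicalSpace.generateFrom B) _ ?_
      refine continuous_generateFrom_iff.2 ?_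
      rintro _ ⟨Γ, x, y, rfl⟩
      refine @isOpen_prod_iff T T (TopologicalSpace.generateFrom B) (TopologicalSpace.generateFrom B) _ |>.2 fun a b hab => ?_
      rw [Set.mem_preimage, mem_translate] at hab
      have hab' : x⁻¹ * (a * b) * y⁻¹ ∈ Γ := hab
      refine ⟨{g | x⁻¹ * g * (b * y⁻¹) ∈ Γ}, {g | (y * b⁻¹) * g * y⁻¹ ∈ Γ}, ?_, ?_, ?_, ?_, ?_⟩
      · simpa using hop Γ x (y * b⁻¹)
      · simpa using hop Γ (b * y⁻¹) y
      · simpa [mul_assoc] using hab'
      · simp [mul_assoc]
      · rintro ⟨g, h⟩ ⟨hg, hh⟩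
        simp only [Set.mem_preimage, mem_translate]
        have := Γ.mul_mem hg hh
        simp only [SetLike.mem_coe]
        rwa [show x⁻¹ * (g * h) * y⁻¹ = (x⁻¹ * g * (b * y⁻¹)) * (y * b⁻¹ * h * y⁻¹) by group]
    · refine @ContinuousInv.mk T (TopologicalSpace.generateFrom B) _ ?_
      refine continuous_generateFrom_iff.2 ?_
      rintro _ ⟨Γ, x, y, rfl⟩
      convert hop Γ y⁻¹ x⁻¹ using 1
      ext g
      simp only [Set.mem_preimage, mem_translate, SetLike.mem_coe, Set.mem_setOf_eq]
      exact ⟨fun h => by simpa [mul_assoc] using inv_mem h, fun h => by simpa [mul_assoc] using inv_mem h⟩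
  refine @NonarchimedeanGroup.mk T _ (TopologicalSpace.generateFrom B) hTG fun U hU => ?_
  rw [TopologicalSpace.nhds_generateFrom] at hU
  suffices H : ∀ U ∈ ⨅ s ∈ {s | (1:T) ∈ s ∧ s ∈ B}, 𝓟 s, ∃ V : Subgroup T, IsOpen[(TopologicalSpace.generateFrom B)] (V : Set T) ∧ (V : Set T) ⊆ U by
    obtain ⟨V, h1, h2⟩ := H U hU
    exact ⟨@OpenSubgroup.mk T _ (TopologicalSpace.generateFrom B) V h1, h2⟩
  clear hU U
  intro U hU
  rw [iInf_subtype'] at hU
  obtain ⟨I, hI, V, hV, rfl⟩ := Filter.mem_iInf.1 hU
  have : ∀ i : I, ∃ W : Subgroup T, IsOpen[(TopologicalSpace.generateFrom B)] (W : Set T) ∧ (W : Set T) ⊆ V i := by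
    rintro ⟨⟨s, h1, Γ, x, y, rfl⟩, hi⟩
    refine ⟨(Γ : Subgroup T).comap (MulAut.conj y).toMonoidHom, ?_, ?_⟩
    · convert hop Γ y⁻¹ y using 1
      ext g; simp [mul_assoc]
    · intro g hg
      refine hV ⟨_, hi⟩ ?_
      rw [mem_translate] at h1 ⊢
      simp only [SetLike.mem_coe] at h1 ⊢
      have hg' : y * g * y⁻¹ ∈ Γ := by simpa using hg
      have := Γ.mul_mem h1 hg'
      rwa [show x⁻¹ * g * y⁻¹ = (x⁻¹ * 1 * y⁻¹) * (y * g * y⁻¹) by group]
  choose W hWo hWs using this
  refine ⟨⨅ i, W i, ?_, ?_⟩
  · have : Finite I := hI.to_subtype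
    rw [Subgroup.coe_iInf]
    exact @isOpen_iInter_of_finite T _ (TopologicalSpace.generateFrom B) _ _ hWo
  · rw [Subgroup.coe_iInf]
    exact Set.iInter_mono hWs

end Groth.Agent.S15832
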