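import Groth.Statements.S15833
import Mathlib


set_option autoImplicit false
universe u
open EtBase

namespace Groth.Agent.S15833

open CategoryTheory CategoryTheory.Limits AlgebraicGeometry in
/-- Let i : X₀ ⟶ X be a surjective closed immersion of schemes and f : Y ⟶ X a morphism. Then f
satisfies the valuative criterion (existence and uniqueness of a lift in every valuative square,
over arbitrary valuation rings) if and only if its base change Y ×_X X₀ ⟶ X₀ does. (The published
statement takes X locally Noetherian and connected, X₀ the reduced closed subscheme with the same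
underlying space and f étale, and combines this step with the equivalence between étale schemes over
X and over X₀ to identify the geometric coverings, i.e. the étale morphisms satisfying the valuative
criterion, of X and of X₀; the argument for this step uses only that X₀ ⟶ X is a surjective closed
immersion and that valuation rings are reduced.) -/
theorem result {X X₀ Y : Scheme.{u}} (i : X₀ ⟶ X)
    [IsClosedImmersion i] [Surjective i] (f : Y ⟶ X) :
    ValuativeCriterion f ↔ ValuativeCriterion (pullback.snd f i) := by
  have hfac : ∀ (R : Type u) [CommRing R] [IsDomain R] (φ : Spec (CommRingCat.of R) ⟶ X),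
      ∃ φ₀, φ₀ ≫ i = φ := by
    intro R _ _ φ
    haveI : _root_.IsReduced (CommRingCat.of R) := inferInstanceAs (_root_.IsReduced R)
    haveI : Surjective (Limits.pullback.fst φ i) := MorphismProperty.pullback_fst (P := @Surjective) _ _ inferInstance
    haveI : IsIso (Limits.pullback.fst φ i) := isIso_of_isClosedImmersion_of_surjective _
    exact ⟨inv (Limits.pullback.fst φ i) ≫ Limits.pullback.snd φ i, by
      rw [Category.assoc, ← Limits.pullback.condition, IsIso.inv_hom_id_assoc]⟩
  constructor
  · intro h S
    have w : (S.i₁ ≫ Limits.pullback.fst f i) ≫ f =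
        Spec.map (CommRingCat.ofHom (algebraMap S.R S.K)) ≫ (S.i₂ ≫ i) := by
      rw [Category.assoc, Limits.pullback.condition, ← Category.assoc, S.commSq.w, Category.assoc]
    obtain ⟨⟨⟨l⟩, hl⟩⟩ := h ⟨S.R, S.K, S.i₁ ≫ Limits.pullback.fst f i, S.i₂ ≫ i, ⟨w⟩⟩
    refine ⟨⟨⟨⟨Limits.pullback.lift l.l S.i₂ l.fac_right, ?_, Limits.pullback.lift_snd _ _ _⟩⟩, fun m => ?_⟩⟩
    · apply Limits.pullback.hom_ext
      · rw [Category.assoc, Limits.pullback.lift_fst]; exact l.fac_left
      · rw [Category.assoc, Limits.pullback.lift_snd]; exact S.commSq.w.symm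
    · have key := hl ⟨m.l ≫ Limits.pullback.fst f i, (Category.assoc _ _ _).symm.trans (congrArg (· ≫ _) m.fac_left),
        (Category.assoc _ _ _).trans ((congrArg (m.l ≫ ·) Limits.pullback.condition).trans ((Category.assoc _ _ _).symm.trans (congrArg (· ≫ i) m.fac_right)))⟩
      ext1
      apply Limits.pullback.hom_ext
      · exact (congrArg CommSq.LiftStruct.l key).trans (Limits.pullback.lift_fst _ _ _).symm
      · exact m.fac_right.trans (Limits.pullback.lift_snd _ _ _).symm
  · intro h S
    obtain ⟨φ₀, hφ₀⟩ := hfac S.R S.i₂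
    have w0 : S.i₁ ≫ f = (Spec.map (CommRingCat.ofHom (algebraMap S.R S.K)) ≫ φ₀) ≫ i := by
      rw [Category.assoc, hφ₀, S.commSq.w]
    obtain ⟨⟨⟨l⟩, hl⟩⟩ := h ⟨S.R, S.K, Limits.pullback.lift S.i₁ _ w0, φ₀, ⟨Limits.pullback.lift_snd _ _ _⟩⟩
    refine ⟨⟨⟨⟨l.l ≫ Limits.pullback.fst f i, ?_, ?_⟩⟩, fun m => ?_⟩⟩
    · rw [← Category.assoc, l.fac_left]; exact Limits.pullback.lift_fst _ _ _
    · rw [Category.assoc, Limits.pullback.condition, ← Category.assoc, l.fac_right, hφ₀]
    · have key := hl ⟨Limits.pullback.lift m.l φ₀ (by rw [m.fac_right, hφ₀]), by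
        apply Limits.pullback.hom_ext
        · rw [Category.assoc, Limits.pullback.lift_fst, m.fac_left, Limits.pullback.lift_fst]
        · rw [Category.assoc, Limits.pullback.lift_snd, Limits.pullback.lift_snd],
        Limits.pullback.lift_snd _ _ _⟩
      ext1
      have := congrArg (fun t => t ≫ Limits.pullback.fst f i) (congrArg CommSq.LiftStruct.l key)
      exact (Limits.pullback.lift_fst _ _ _).symm.trans this

end Groth.Agent.S15833
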