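import Groth.Statements.S15835


set_option autoImplicit false
universe u
open SprIso

namespace Groth.Agent.S15835

/-- Over a commutative ring R of prime characteristic p, let n ≥ 1 and let p^m be the largest power of p
dividing n. The locus of n × n matrices with characteristic polynomial t^n is stable under adding a
scalar matrix a·1 with n·a = 0 exactly when a^(p^m) = 0: for X with characteristic polynomial t^n
and such an a, the matrix X + a·1 has characteristic polynomial t^n if and only if a^(p^m) = 0.
(Stated on points with values in an arbitrary ring of characteristic p; the scheme-theoretic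
assertion about the nilpotent scheme of SL_n is this statement for all such rings.) -/
theorem result (p : ℕ) [Fact p.Prime] (R : Type u) [CommRing R]
    [CharP R p] (n : ℕ) (hn : 0 < n) (X : Matrix (Fin n) (Fin n) R) (hX : X.charpoly = Polynomial.X ^ n)
    (a : R) (ha : (n : R) * a = 0) :
    (X + Matrix.scalar (Fin n) a).charpoly = Polynomial.X ^ n ↔ a ^ (p ^ padicValNat p n) = 0 := by
  have hp : p.Prime := Fact.out
  open Polynomial in
  have hchar : (X' : Matrix (Fin n) (Fin n) R) → X'.charpoly = (Polynomial.X : R[X]) ^ n → (X' + Matrix.scalar (Fin n) a).charpoly = (Polynomial.X - Polynomial.C a) ^ n := by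
    intro X' h'
    have := Matrix.charpoly_sub_scalar X' (-a)
    rw [map_neg, sub_neg_eq_add, h'] at this
    rw [this]
    simp [sub_eq_add_neg]
  rw [hchar X hX]
  obtain ⟨m, hm⟩ := pow_padicValNat_dvd (p := p) (n := n)
  set q := p ^ padicValNat p n with hq
  have hq0 : 0 < q := pow_pos hp.pos _
  have hmp : ¬ p ∣ m := by
    intro h
    refine pow_succ_padicValNat_not_dvd hn.ne' (p := p) ?_
    rw [pow_succ, ← hq]
    exact (mul_dvd_mul_left q h).trans (dvd_of_eq hm.symm)
  have : ExpChar R p := ExpChar.prime hp
  have h1 : ((Polynomial.X : Polynomial R) - Polynomial.C a) ^ n = Polynomial.expand R q ((Polynomial.X - Polynomial.C (a ^ q)) ^ m) := by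
    rw [map_pow, map_sub, Polynomial.expand_X, Polynomial.expand_C, map_pow, hm, pow_mul, hq, sub_pow_expChar_pow]
  have h2 : (Polynomial.X : Polynomial R) ^ n = Polynomial.expand R q (Polynomial.X ^ m) := by
    rw [map_pow, Polynomial.expand_X, ← pow_mul, ← hm]
  rw [h1, h2, (Polynomial.expand_injective hq0).eq_iff]
  constructor
  · intro h
    have hm0 : 0 < m := Nat.pos_of_ne_zero fun e => by simp [e] at hm; omega
    have := congrArg (Polynomial.coeff · (m - 1)) h
    simp only [sub_eq_add_neg, ← map_neg, Polynomial.coeff_X_add_C_pow, Polynomial.coeff_X_pow] at this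
    rw [if_neg (by omega), show m - (m - 1) = 1 by omega, Nat.choose_symm (show 1 ≤ m by omega), Nat.choose_one_right, pow_one] at this
    have hunit : IsUnit (m : R) := by
      obtain ⟨s, t, hst⟩ := Nat.isCoprime_iff_coprime.2 ((Nat.Prime.coprime_iff_not_dvd hp).2 hmp)
      refine IsUnit.of_mul_eq_one (t : R) ?_
      have := congrArg (Int.cast : ℤ → R) hst
      push_cast at this
      rwa [CharP.cast_eq_zero R p, mul_zero, zero_add, mul_comm] at this
    exact neg_eq_zero.1 ((IsUnit.mul_left_eq_zero hunit).1 this)
  · intro h
    rw [h, map_zero, sub_zero]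

end Groth.Agent.S15835
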