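import Groth.Statements.S15836
import Groth.Agent.PicNormalPoly.Basic
import Mathlib

set_option autoImplicit false
universe u
open SprIso

namespace Groth.Agent.S15836

lemma prod_scale {n : ℕ} {B : Type*} [CommMonoid B] (a : Fin n → B) (x : B) (e : Fin n → ℕ) :
    ∏ i, (a i * x) ^ e i = (∏ i, a i ^ e i) * x ^ ∑ i, e i := by
  rw [← Finset.prod_pow_eq_pow_sum, ← Finset.prod_mul_distrib]
  exact Finset.prod_congr rfl fun i _ => mul_pow _ _ _

open CommRing in
lemma cone (k : Type u) [Field k] (n : ℕ) (S : Set (MvPolynomial (Fin n) k))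
    (hS : ∀ f ∈ S, ∃ d : ℕ, f.IsHomogeneous d)
    [IsDomain (MvPolynomial (Fin n) k ⧸ Ideal.span S)]
    [IsIntegrallyClosed (MvPolynomial (Fin n) k ⧸ Ideal.span S)]
    (M : Type u) [AddCommGroup M] [Module (MvPolynomial (Fin n) k ⧸ Ideal.span S) M]
    [Module.Invertible (MvPolynomial (Fin n) k ⧸ Ideal.span S) M] :
    Module.Free (MvPolynomial (Fin n) k ⧸ Ideal.span S) M := by
  let A := MvPolynomial (Fin n) k ⧸ Ideal.span S
  let q : MvPolynomial (Fin n) k →ₐ[k] A := Ideal.Quotient.mkₐ k (Ideal.span S)
  let φ₀ : MvPolynomial (Fin n) k →ₐ[k] Polynomial A :=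
    MvPolynomial.aeval fun i => Polynomial.C (q (MvPolynomial.X i)) * Polynomial.X
  have hφ : ∀ f ∈ Ideal.span S, φ₀ f = 0 := by
    intro f hf
    have hle : Ideal.span S ≤ RingHom.ker φ₀ := by
      rw [Ideal.span_le]
      intro g hg
      obtain ⟨d, hd⟩ := hS g hg
      have e : φ₀ g = Polynomial.C (q g) * Polynomial.X ^ d := by
        rw [g.as_sum, map_sum, map_sum, map_sum, Finset.sum_mul]
        refine Finset.sum_congr rfl fun e he => ?_
        have hdeg : ∑ i, e i = d := by
          have := hd (MvPolynomial.mem_support_iff.mp he)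
          rw [← this, Finsupp.weight_apply, Finsupp.sum_fintype _ _ (fun i => by simp)]
          simp
        rw [MvPolynomial.aeval_monomial, MvPolynomial.monomial_eq, map_mul q, map_mul Polynomial.C,
          Finsupp.prod_fintype _ _ (fun i => by simp), Finsupp.prod_fintype _ _ (fun i => by simp),
          map_prod q, map_prod Polynomial.C]
        simp only [map_pow]
        rw [mul_assoc, show Polynomial.C (q (MvPolynomial.C (MvPolynomial.coeff e g))) =
          algebraMap k (Polynomial A) (MvPolynomial.coeff e g) from by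
            rw [← MvPolynomial.algebraMap_eq, AlgHom.commutes]; rfl]
        rw [← hdeg]
        exact congrArg _ (prod_scale _ _ _)
      rw [SetLike.mem_coe, RingHom.mem_ker, e,
        show q g = 0 from Ideal.Quotient.eq_zero_iff_mem.mpr (Ideal.subset_span hg), map_zero, zero_mul]
    exact hle hf
  let φ : A →ₐ[k] Polynomial A := Ideal.Quotient.liftₐ (Ideal.span S) φ₀ hφ
  have hε : ∀ f ∈ Ideal.span S, MvPolynomial.aeval (fun _ : Fin n => (0 : k)) f = 0 := by
    intro f hf
    have hle : Ideal.span S ≤ RingHom.ker (MvPolynomial.aeval (fun _ : Fin n => (0 : k))) := by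
      rw [Ideal.span_le]
      intro g hg
      obtain ⟨d, hd⟩ := hS g hg
      rw [SetLike.mem_coe, RingHom.mem_ker]
      by_contra hne
      have hc : MvPolynomial.coeff 0 g ≠ 0 := by
        intro h0
        apply hne
        rw [show (fun _ : Fin n => (0 : k)) = 0 from rfl, MvPolynomial.aeval_zero,
          MvPolynomial.constantCoeff_eq, h0, map_zero]
      have hd0 : d = 0 := by
        have := hd hc
        simpa using this.symm
      subst hd0
      have hgC : g = MvPolynomial.C (MvPolynomial.coeff 0 g) := by
        apply MvPolynomial.totalDegree_eq_zero_iff_eq_C.mp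
        have := hd.totalDegree_le
        omega
      have h1 : IsUnit g := by rw [hgC]; exact (Ne.isUnit hc).map MvPolynomial.C
      have htop := Ideal.eq_top_of_isUnit_mem _ (Ideal.subset_span hg) h1
      exact (Ideal.Quotient.nontrivial_iff.mp (inferInstance : Nontrivial A)) htop
    exact hle hf
  let ε : A →ₐ[k] k := Ideal.Quotient.liftₐ (Ideal.span S) (MvPolynomial.aeval fun _ => (0 : k)) hε
  have h1 : ((Polynomial.aeval (R := A) (1 : A)).restrictScalars k).comp φ = AlgHom.id k A := by
    apply Ideal.Quotient.algHom_ext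
    refine MvPolynomial.algHom_ext fun i => ?_
    show Polynomial.aeval (1 : A) (φ₀ (MvPolynomial.X i)) = q (MvPolynomial.X i)
    simp [φ₀]
  have h0 : ((Polynomial.aeval (R := A) (0 : A)).restrictScalars k).comp φ =
      (Algebra.ofId k A).comp ε := by
    apply Ideal.Quotient.algHom_ext
    refine MvPolynomial.algHom_ext fun i => ?_
    show Polynomial.aeval (0 : A) (φ₀ (MvPolynomial.X i)) =
      algebraMap k A (MvPolynomial.aeval (fun _ : Fin n => (0 : k)) (MvPolynomial.X i))
    simp [φ₀]
  rw [← CommRing.Pic.mk_eq_one_iff_free]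
  set c := CommRing.Pic.mk A M
  obtain ⟨d, hd⟩ := PicNormalPoly.exists_extended A (CommRing.Pic.mapRingHom φ.toRingHom c)
  have key : ∀ a : A, CommRing.Pic.mapRingHom
      ((Polynomial.aeval (R := A) a).toRingHom.comp φ.toRingHom) c = d := by
    intro a
    rw [← CommRing.Pic.mapRingHom_mapRingHom, hd, CommRing.Pic.mapRingHom_mapRingHom,
      show (Polynomial.aeval (R := A) a).toRingHom.comp Polynomial.C = RingHom.id A from
        RingHom.ext fun x => Polynomial.aeval_C a x, CommRing.Pic.mapRingHom_id_apply]
  have e1 : c = d := by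
    rw [← key 1, show (Polynomial.aeval (R := A) (1 : A)).toRingHom.comp φ.toRingHom = RingHom.id A from
      RingHom.ext fun x => AlgHom.congr_fun h1 x, CommRing.Pic.mapRingHom_id_apply]
  rw [e1, ← key 0, show (Polynomial.aeval (R := A) (0 : A)).toRingHom.comp φ.toRingHom =
      (algebraMap k A).comp ε.toRingHom from RingHom.ext fun x => AlgHom.congr_fun h0 x,
    ← CommRing.Pic.mapRingHom_mapRingHom, Subsingleton.elim (CommRing.Pic.mapRingHom ε.toRingHom c) 1,
    map_one]


/-- Let k be a field and C a closed subscheme of affine n-space over k which is stable under the scaling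
action of the affine line, i.e. C = Spec A with A = k[x_1, …, x_n]/I for an ideal I generated by
homogeneous polynomials, and assume C is normal (A is an integrally closed domain). Then Pic(C) = 0:
every invertible A-module is free. -/
theorem result (k : Type u) [Field k] (n : ℕ)
    (I : Ideal (MvPolynomial (Fin n) k))
    (hI : ∃ s : Set (MvPolynomial (Fin n) k), (∀ f ∈ s, ∃ d : ℕ, f.IsHomogeneous d) ∧ I = Ideal.span s)
    [IsDomain (MvPolynomial (Fin n) k ⧸ I)] [IsIntegrallyClosed (MvPolynomial (Fin n) k ⧸ I)]
    (M : Type u) [AddCommGroup M] [Module (MvPolynomial (Fin n) k ⧸ I) M]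
    [Module.Invertible (MvPolynomial (Fin n) k ⧸ I) M] :
    Module.Free (MvPolynomial (Fin n) k ⧸ I) M := by
  obtain ⟨S, hS, rfl⟩ := hI
  exact cone k n S hS M
end Groth.Agent.S15836
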