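import Groth.Statements.S15838
import Mathlib

set_option autoImplicit false
set_option backward.isDefEq.respectTransparency false
universe u
open scoped TensorProduct
open SprIso

namespace Groth.Agent.S15838

/-- General linear group case: this is the case G = GL(V), to which the general case reduces along a
closed embedding. Let k be a perfect field and V a finite-dimensional k-vector space. If an
invertible endomorphism g of V has multiplicative Jordan decomposition g = t u (t semisimple, u
unipotent, t and u commuting), then the scheme-theoretic centralizer of g in GL(V) is the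
centralizer of u inside the centralizer of t: for every commutative k-algebra R, an R-linear
endomorphism h of R ⊗ V commutes with g_R if and only if it commutes with both t_R and u_R.
Likewise, if an endomorphism X of V has additive Jordan decomposition X = Y + N (Y semisimple, N
nilpotent, commuting), then h commutes with X_R if and only if it commutes with both Y_R and N_R. -/
theorem result (k : Type u) [Field k] [PerfectField k]
    (V : Type u) [AddCommGroup V] [Module k V] [FiniteDimensional k V]
    (R : Type u) [CommRing R] [Algebra k R] (h : Module.End R (R ⊗[k] V)) :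
    (∀ (g t u : Module.End k V), IsUnit g → t.IsSemisimple → IsNilpotent (u - 1) → Commute t u → g = t * u →
      (Commute h (g.baseChange R) ↔ Commute h (t.baseChange R) ∧ Commute h (u.baseChange R))) ∧
    (∀ (X Y N : Module.End k V), Y.IsSemisimple → IsNilpotent N → Commute Y N → X = Y + N →
      (Commute h (X.baseChange R) ↔ Commute h (Y.baseChange R) ∧ Commute h (N.baseChange R))) := by
  let φ := Module.End.baseChangeHom k R V
  have main : ∀ (X Y N : Module.End k V), Y.IsSemisimple → IsNilpotent N → Commute Y N → X = Y + N →
      (Commute h (X.baseChange R) ↔ Commute h (Y.baseChange R) ∧ Commute h (N.baseChange R)) := by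
    intro X Y N hY hN hc hX
    refine ⟨fun hh => ?_, fun ⟨h1, h2⟩ => ?_⟩
    · obtain ⟨N', hN', Y', hY', hN'n, hY's, hX'⟩ := Module.End.exists_isNilpotent_isSemisimple (f := X)
      have hXY : Commute X Y := hX ▸ ((Commute.refl Y).add_left hc.symm)
      have hXN : Commute X N := hX ▸ (hc.add_left (Commute.refl N))
      have cY : Commute Y Y' := Algebra.commute_of_mem_adjoin_singleton_of_commute hY' hXY.symm
      have cN : Commute N N' := Algebra.commute_of_mem_adjoin_singleton_of_commute hN' hXN.symm
      have e : Y - Y' = N' - N := by
        have h3 : Y + N = N' + Y' := hX.symm.trans hX'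
        linear_combination (norm := abel) h3
      have hY0 : Y - Y' = 0 := Module.End.eq_zero_of_isNilpotent_isSemisimple
        (e ▸ (Commute.isNilpotent_sub cN.symm hN'n hN)) (hY.sub_of_commute cY hY's)
      have hYe : Y = Y' := sub_eq_zero.mp hY0
      have hmem : φ Y ∈ Algebra.adjoin k {φ X} := by
        rw [← AlgHom.map_adjoin_singleton]
        exact ⟨Y', hY', by rw [hYe]; rfl⟩
      have hbY : Commute h (φ Y) := Algebra.commute_of_mem_adjoin_singleton_of_commute hmem hh
      refine ⟨hbY, ?_⟩
      show Commute h (φ N)
      rw [show N = X - Y by rw [hX, add_sub_cancel_left], map_sub]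
      exact Commute.sub_right (R := Module.End R (R ⊗[k] V)) (show Commute h (φ X) from hh) hbY
    · rw [hX, LinearMap.baseChange_add]
      exact h1.add_right h2
  refine ⟨fun g t u hg ht hu hc hgtu => ?_, main⟩
  have hc' : Commute t (u - 1) := hc.sub_right (Commute.one_right t)
  rw [main g t (t * (u - 1)) ht (hc'.isNilpotent_mul_left hu) ((Commute.refl t).mul_right hc')
    (by rw [hgtu]; noncomm_ring)]
  refine and_congr_right fun hh => ⟨fun h2 => ?_, fun h2 => ?_⟩
  · have htu : IsUnit t := (hc.isUnit_mul_iff.mp (hgtu ▸ hg)).1
    obtain ⟨T, hT'⟩ : IsUnit (φ t) := htu.map φ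
    have h2' : Commute h (φ (t * (u - 1))) := h2
    have hh' : Commute h (T : Module.End R (R ⊗[k] V)) := hT' ▸ (show Commute h (φ t) from hh)
    show Commute h (φ u)
    have e : φ u = ↑T⁻¹ * φ (t * (u - 1)) + 1 := by
      rw [map_mul, ← hT', ← mul_assoc, Units.inv_mul, one_mul, map_sub, map_one, sub_add_cancel]
    rw [e]
    exact (hh'.units_inv_right.mul_right h2').add_right (Commute.one_right _)
  · show Commute h (φ (t * (u - 1)))
    rw [map_mul, map_sub, map_one]
    exact (show Commute h (φ t) from hh).mul_right (Commute.sub_right (R := Module.End R (R ⊗[k] V)) (show Commute h (φ u) from h2) (Commute.one_right _))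

end Groth.Agent.S15838
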