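import Groth.Statements.S15839
import Groth.Agent.S4599
import Mathlib

set_option autoImplicit false
universe u
open CategoryTheory MonoidalCategory CartesianMonoidalCategory MonObj GrpObj AlgebraicGeometry
open SprIso

namespace Groth.Agent.S15839

/-- Let S be a scheme, G an S-group scheme which is affine and of finite presentation over S, and g a
section of G over S. Then the centralizer of g — the subfunctor of G whose points with values in an
S-scheme T are the points x of G with x g_T = g_T x — is represented by a closed subscheme of G
whose inclusion is of finite presentation. -/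
theorem result (S : Scheme.{u}) (G : Over S) [GrpObj G]
    [IsAffineHom G.hom] [LocallyOfFinitePresentation G.hom] (g : 𝟙_ (Over S) ⟶ G) :
    ∃ (Z : Over S) (j : Z ⟶ G), IsClosedImmersion j.left ∧ LocallyOfFinitePresentation j.left ∧
      ∀ (T : Over S) (x : T ⟶ G), (∃ z : T ⟶ Z, z ≫ j = x) ↔
        x * (toUnit T ≫ g) = (toUnit T ≫ g) * x := by
  let f : G ⟶ G := 𝟙 G * (toUnit G ≫ g)
  let h : G ⟶ G := (toUnit G ≫ g) * 𝟙 G
  let pr : G.left ⟶ Limits.pullback G.hom G.hom := Limits.pullback.lift f.left h.left (by rw [Over.w f, Over.w h])
  let Z : Over S := Over.mk (Limits.pullback.fst pr (Limits.pullback.diagonal G.hom) ≫ G.hom)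
  let j : Z ⟶ G := Over.homMk (Limits.pullback.fst pr (Limits.pullback.diagonal G.hom)) rfl
  have hkey : ∀ (T : Over S) (x : T ⟶ G),
      x * (toUnit T ≫ g) = x ≫ f ∧ (toUnit T ≫ g) * x = x ≫ h := fun T x => by
    constructor <;> simp only [f, h, MonObj.comp_mul, Category.comp_id, ← Category.assoc,
      toUnit_unique (x ≫ toUnit G) (toUnit T)]
  refine ⟨Z, j, ?_, ?_, fun T x => ?_⟩
  · show IsClosedImmersion (Limits.pullback.fst pr (Limits.pullback.diagonal G.hom))
    infer_instance
  · show LocallyOfFinitePresentation (Limits.pullback.fst pr (Limits.pullback.diagonal G.hom))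
    haveI : LocallyOfFinitePresentation (Limits.pullback.diagonal G.hom) :=
      Groth.Agent.S4599.result G.hom
    infer_instance
  · rw [(hkey T x).1, (hkey T x).2]
    constructor
    · rintro ⟨z, rfl⟩
      have hc : (z ≫ j).left ≫ pr =
          (z.left ≫ Limits.pullback.snd pr (Limits.pullback.diagonal G.hom)) ≫
            Limits.pullback.diagonal G.hom := by
        rw [Over.comp_left, Category.assoc, Category.assoc]
        exact congrArg (z.left ≫ ·) Limits.pullback.condition
      refine Over.OverMorphism.ext ?_
      have h1 := congrArg (· ≫ Limits.pullback.fst G.hom G.hom) hc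
      have h2 := congrArg (· ≫ Limits.pullback.snd G.hom G.hom) hc
      simp only [Category.assoc, pr, Limits.pullback.lift_fst, Limits.pullback.lift_snd,
        Limits.pullback.diagonal_fst, Limits.pullback.diagonal_snd] at h1 h2
      rw [Over.comp_left, Over.comp_left]
      exact h1.trans h2.symm
    · intro hx
      have hx' : x.left ≫ f.left = x.left ≫ h.left := congrArg Over.Hom.left hx
      have hc : x.left ≫ pr = (x.left ≫ f.left) ≫ Limits.pullback.diagonal G.hom := by
        apply Limits.pullback.hom_ext
        · rw [Category.assoc, Limits.pullback.lift_fst, Category.assoc, Limits.pullback.diagonal_fst,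
            Category.comp_id]
        · rw [Category.assoc, Limits.pullback.lift_snd, Category.assoc, Limits.pullback.diagonal_snd,
            Category.comp_id, hx']
      refine ⟨Over.homMk (Limits.pullback.lift x.left (x.left ≫ f.left) hc) ?_, ?_⟩
      · show Limits.pullback.lift x.left (x.left ≫ f.left) hc ≫
          Limits.pullback.fst pr (Limits.pullback.diagonal G.hom) ≫ G.hom = T.hom
        rw [Limits.pullback.lift_fst_assoc, Over.w x]
      · exact Over.OverMorphism.ext (Limits.pullback.lift_fst _ _ _)
end Groth.Agent.S15839
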