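import Groth.Statements.S15845
import Mathlib

set_option autoImplicit false
universe u
open SprIso

namespace Groth.Agent.S15845

/-- General linear group case: this is the case G = GL_n with its upper-triangular Borel subgroup B
(derived group SL_n simply connected, all primes good, so the hypotheses on the characteristic
hold), together with the companion statement for a regular nilpotent element of Lie B. Let k be a
field and u an n × n upper-triangular matrix over k whose diagonal entries are all equal and whose
superdiagonal entries u_{i,i+1} are all non-zero — for diagonal 1 this is a regular unipotent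
element of B(k), for diagonal 0 a regular nilpotent element of Lie B. Then the centralizer of u in
GL_n is contained in B and is the product of the centre with the centralizer in the unipotent
radical: for every commutative k-algebra R and every invertible x ∈ M_n(R) commuting with u_R, x is
upper triangular and its diagonal entries are all equal. (The smoothness of the centralizer in the
unipotent radical, also part of the published statement, is not stated here.) -/
theorem result (k : Type u) [Field k] (n : ℕ)
    (u : Matrix (Fin n) (Fin n) k) (htri : ∀ i j : Fin n, j < i → u i j = 0) (hdiag : ∀ i j : Fin n, u i i = u j j)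
    (hreg : ∀ (i j : Fin n), j.val = i.val + 1 → u i j ≠ 0)
    (R : Type u) [CommRing R] [Algebra k R] (x : Matrix (Fin n) (Fin n) R) (hx : IsUnit x)
    (hxu : x * u.map (algebraMap k R) = u.map (algebraMap k R) * x) :
    (∀ i j : Fin n, j < i → x i j = 0) ∧ (∀ i j : Fin n, x i i = x j j) := by
  classical
  let N : Fin n → Fin n → R := fun i j => algebraMap k R (u i j)
  have hN0 : ∀ i j, j < i → N i j = 0 := fun i j h => by simp [N, htri i j h]
  have hd : ∀ i j, N i i = N j j := fun i j => by simp [N, hdiag i j]
  have heq : ∀ i j, ∑ l, x i l * N l j = ∑ l, N i l * x l j := fun i j => by
    have := congrFun (congrFun hxu i) j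
    simpa only [Matrix.mul_apply, Matrix.map_apply, N] using this
  have hlow : ∀ (m : ℕ) (i j : Fin n), j.val = m → j < i → x i j = 0 := by
    intro m
    induction m using Nat.strong_induction_on with
    | _ m ihm =>
      suffices H : ∀ (e : ℕ) (i j : Fin n), n - i.val = e → j.val = m → j < i → x i j = 0 from
        fun i j => H _ i j rfl
      intro e
      induction e using Nat.strong_induction_on with
      | _ e ihe =>
        intro i j he hjm hji
        have hji' : j.val < i.val := hji
        have hin := i.isLt
        let p : Fin n := ⟨i.val - 1, by omega⟩
        have h := heq p j
        have hl : ∑ l, x p l * N l j = x p j * N j j := by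
          refine Finset.sum_eq_single j (fun l _ hl => ?_) (by simp)
          rcases lt_or_gt_of_ne hl with h' | h'
          · have h1 : l.val < j.val := h'
            rw [ihm l.val (by omega) p l rfl (show l.val < p.val by simp only [p]; omega), zero_mul]
          · rw [hN0 l j h', mul_zero]
        have hr : ∑ l, N p l * x l j = N p p * x p j + N p i * x i j := by
          have hpi : p ≠ i := by simp [p, Fin.ext_iff]; omega
          rw [← Finset.sum_pair (f := fun l => N p l * x l j) hpi]
          refine (Finset.sum_subset (Finset.subset_univ _) fun l _ hl => ?_).symm
          simp only [Finset.mem_insert, Finset.mem_singleton, not_or] at hl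
          rcases lt_or_gt_of_ne hl.1 with h' | h'
          · rw [hN0 p l h', zero_mul]
          · have h1 : p.val < l.val := h'
            have h2 : l.val ≠ i.val := fun e => hl.2 (Fin.ext e)
            simp only [p] at h1
            rw [ihe (n - l.val) (by omega) l j rfl hjm (show j.val < l.val by omega), mul_zero]
        rw [hl, hr, hd j p, mul_comm (x p j), left_eq_add] at h
        have hu : IsUnit (N p i) := (hreg p i (by simp [p]; omega)).isUnit.map (algebraMap k R)
        exact hu.mul_right_eq_zero.mp h
  refine ⟨fun i j h => hlow _ i j rfl h, ?_⟩
  have hsucc : ∀ (i i' : Fin n), i'.val = i.val + 1 → x i i = x i' i' := by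
    intro i i' hi
    have hne : i ≠ i' := by simp [Fin.ext_iff]; omega
    have h := heq i i'
    have hl : ∑ l, x i l * N l i' = x i i * N i i' + x i i' * N i' i' := by
      rw [← Finset.sum_pair (f := fun l => x i l * N l i') hne]
      refine (Finset.sum_subset (Finset.subset_univ _) fun l _ hl => ?_).symm
      simp only [Finset.mem_insert, Finset.mem_singleton, not_or, Fin.ext_iff] at hl
      rcases lt_or_ge l.val i.val with h' | h'
      · rw [hlow _ i l rfl h', zero_mul]
      · rw [hN0 l i' (show i'.val < l.val by omega), mul_zero]
    have hr : ∑ l, N i l * x l i' = N i i * x i i' + N i i' * x i' i' := by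
      rw [← Finset.sum_pair (f := fun l => N i l * x l i') hne]
      refine (Finset.sum_subset (Finset.subset_univ _) fun l _ hl => ?_).symm
      simp only [Finset.mem_insert, Finset.mem_singleton, not_or, Fin.ext_iff] at hl
      rcases lt_or_ge l.val i.val with h' | h'
      · rw [hN0 i l h', zero_mul]
      · rw [hlow _ l i' rfl (show i'.val < l.val by omega), mul_zero]
    rw [hl, hr, hd i' i, mul_comm (x i i'), add_comm, add_right_inj, mul_comm (N i i')] at h
    exact ((hreg i i' hi).isUnit.map (algebraMap k R)).mul_right_cancel h
  have hall : ∀ (d : ℕ) (i j : Fin n), j.val = i.val + d → x i i = x j j := by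
    intro d
    induction d with
    | zero => intro i j h; rw [show j = i from Fin.ext (by omega)]
    | succ d ih =>
      intro i j h
      have := j.isLt
      exact (ih i ⟨i.val + d, by omega⟩ rfl).trans (hsucc _ j (by simp; omega))
  intro i j
  rcases le_total i.val j.val with h | h
  · exact hall _ i j (Nat.add_sub_cancel' h).symm
  · exact (hall _ j i (Nat.add_sub_cancel' h).symm).symm
end Groth.Agent.S15845
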