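import Groth.Statements.S15939
import Mathlib

set_option autoImplicit false
universe u
open CAlg

namespace Groth.Agent.S15939

open Polynomial in
/-- Let κ be a field and A a commutative κ-algebra whose only κ-subalgebras are the image of κ and A
itself, these two being different. Then A is finite-dimensional over κ, and A is isomorphic as a
κ-algebra to the dual numbers over κ, or to κ × κ, or A is a field which is either separable over κ
or isomorphic to κ[X]/(X^p - a) with p the (positive) characteristic of κ and a an element of κ that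
is not a p-th power. (The published statement also records that these four cases exclude one
another; that part is not restated.) -/
theorem result (κ A : Type u) [Field κ] [CommRing A] [Algebra κ A]
    (h : IsSimpleOrder (Subalgebra κ A)) :
    FiniteDimensional κ A ∧
    (Nonempty (A ≃ₐ[κ] DualNumber κ) ∨ Nonempty (A ≃ₐ[κ] (κ × κ)) ∨
      (IsField A ∧ (Algebra.IsSeparable κ A ∨
        ∃ (p : ℕ) (a : κ), p.Prime ∧ CharP κ p ∧ (∀ b : κ, b ^ p ≠ a) ∧
          Nonempty (A ≃ₐ[κ] AdjoinRoot (X ^ p - C a))))) := by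
  classical
  haveI := h
  haveI : Nontrivial A := by
    by_contra hA
    rw [not_nontrivial_iff_subsingleton] at hA
    exact (bot_ne_top : (⊥ : Subalgebra κ A) ≠ ⊤) (SetLike.ext fun x => ⟨fun _ => trivial, fun _ => by rw [Subsingleton.elim x 0]; exact zero_mem _⟩)
  have hgen : ∀ y : A, y ∉ (⊥ : Subalgebra κ A) → Algebra.adjoin κ {y} = ⊤ := fun y hy =>
    (eq_bot_or_eq_top _).resolve_left fun h => hy (h ▸ Algebra.self_mem_adjoin_singleton κ y)
  obtain ⟨x, hx⟩ : ∃ x : A, x ∉ (⊥ : Subalgebra κ A) := by
    by_contra hc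
    push Not at hc
    exact (bot_ne_top : (⊥ : Subalgebra κ A) ≠ ⊤) (eq_top_iff.2 fun y _ => hc y)
  have hint : IsIntegral κ x := by
    by_contra hc
    have ht : Transcendental κ x := fun ha => hc ha.isIntegral
    have hinj : Function.Injective (Polynomial.aeval (R := κ) x) := transcendental_iff_injective.1 ht
    have hx2 : x ^ 2 ∉ (⊥ : Subalgebra κ A) := fun hm => by
      obtain ⟨c, hc2⟩ := Algebra.mem_bot.1 hm
      have e := congrArg Polynomial.natDegree (hinj (show Polynomial.aeval x ((X : κ[X]) ^ 2) = Polynomial.aeval x (C c) by simp [hc2]))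
      simp at e
    have hxm : x ∈ Algebra.adjoin κ {x ^ 2} := by rw [hgen _ hx2]; trivial
    rw [Algebra.adjoin_singleton_eq_range_aeval] at hxm
    obtain ⟨q, hq⟩ := hxm
    have e := congrArg Polynomial.natDegree (hinj (show Polynomial.aeval x (q.comp (X ^ 2)) = Polynomial.aeval x (X : κ[X]) by rw [Polynomial.aeval_comp]; simpa using hq))
    rw [Polynomial.natDegree_comp, Polynomial.natDegree_X_pow, Polynomial.natDegree_X] at e
    omega
  haveI hfd : FiniteDimensional κ A := by
    have h1 := hint.fg_adjoin_singleton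
    rw [hgen x hx, Algebra.top_toSubmodule] at h1
    exact ⟨h1⟩
  refine ⟨hfd, ?_⟩
  by_cases hnil : ∃ y : A, y ≠ 0 ∧ y * y = 0
  · obtain ⟨y, hy0, hy2⟩ := hnil
    have hy : y ∉ (⊥ : Subalgebra κ A) := fun hm => by
      obtain ⟨c, rfl⟩ := Algebra.mem_bot.1 hm
      rw [← map_mul, map_eq_zero, mul_self_eq_zero] at hy2
      exact hy0 (by rw [hy2, map_zero])
    let φ : DualNumber κ →ₐ[κ] A := DualNumber.lift ⟨(Algebra.ofId κ A, y), hy2, fun _ => Commute.all _ _⟩
    have hφ : ∀ a : DualNumber κ, φ a = algebraMap κ A a.fst + algebraMap κ A a.snd * y := fun a => rfl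
    refine Or.inl ⟨(AlgEquiv.ofBijective φ ⟨(injective_iff_map_eq_zero φ).2 fun a ha => ?_, fun z => ?_⟩).symm⟩
    · rw [hφ] at ha
      by_cases hs : a.snd = 0
      · rw [hs, map_zero, zero_mul, add_zero, map_eq_zero] at ha
        exact TrivSqZeroExt.ext ha hs
      · refine absurd (Algebra.mem_bot.2 ⟨-a.fst / a.snd, ?_⟩) hy
        have hu : algebraMap κ A a.snd * algebraMap κ A a.snd⁻¹ = 1 := by rw [← map_mul, mul_inv_cancel₀ hs, map_one]
        rw [div_eq_mul_inv, map_mul, map_neg]
        linear_combination (-(algebraMap κ A a.snd⁻¹)) * ha + y * hu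
    · have : Algebra.adjoin κ {y} ≤ φ.range := Algebra.adjoin_le (Set.singleton_subset_iff.2 ⟨TrivSqZeroExt.inr 1, by
        show φ _ = y
        rw [hφ]; simp⟩)
      exact this (hgen y hy ▸ Algebra.mem_top)
  by_cases hid : ∃ e : A, e * e = e ∧ e ≠ 0 ∧ e ≠ 1
  · obtain ⟨e, he, he0, he1⟩ := hid
    let φ : (κ × κ) →ₐ[κ] A :=
      { toFun := fun p => algebraMap κ A p.1 * e + algebraMap κ A p.2 * (1 - e)
        map_one' := by simp
        map_mul' := fun p q => by
          simp only [Prod.fst_mul, Prod.snd_mul, map_mul]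
          linear_combination (-(algebraMap κ A p.1 * algebraMap κ A q.1) + algebraMap κ A p.1 * algebraMap κ A q.2 + algebraMap κ A p.2 * algebraMap κ A q.1 - algebraMap κ A p.2 * algebraMap κ A q.2) * he
        map_zero' := by simp
        map_add' := fun p q => by simp only [Prod.fst_add, Prod.snd_add, map_add]; ring
        commutes' := fun c => by simp [Prod.algebraMap_apply]; ring }
    have hφ : ∀ p, φ p = algebraMap κ A p.1 * e + algebraMap κ A p.2 * (1 - e) := fun p => rfl
    have he' : e ∉ (⊥ : Subalgebra κ A) := fun hm => by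
      obtain ⟨c, rfl⟩ := Algebra.mem_bot.1 hm
      rw [← map_mul] at he
      rcases mul_eq_zero.1 (show c * (c - 1) = 0 by linear_combination (algebraMap κ A).injective he) with h | h
      · exact he0 (by rw [h, map_zero])
      · exact he1 (by rw [sub_eq_zero.1 h, map_one])
    refine Or.inr (Or.inl ⟨(AlgEquiv.ofBijective φ ⟨(injective_iff_map_eq_zero φ).2 fun p hp => ?_, fun z => ?_⟩).symm⟩)
    · rw [hφ] at hp
      have h1 : p.1 • e = 0 := by
        rw [Algebra.smul_def]
        linear_combination e * hp + (-(algebraMap κ A p.1) + algebraMap κ A p.2) * he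
      have h2 : p.2 • (1 - e) = 0 := by
        rw [Algebra.smul_def]
        linear_combination (1 - e) * hp + (algebraMap κ A p.1 - algebraMap κ A p.2) * he
      exact Prod.ext ((smul_eq_zero.1 h1).resolve_right he0) ((smul_eq_zero.1 h2).resolve_right (sub_ne_zero.2 (Ne.symm he1)))
    · have : Algebra.adjoin κ {e} ≤ φ.range := Algebra.adjoin_le (Set.singleton_subset_iff.2 ⟨(1, 0), by
        show φ _ = e
        rw [hφ]; simp⟩)
      exact this (hgen e he' ▸ Algebra.mem_top)
  push Not at hnil hid
  haveI : IsArtinianRing A := IsArtinianRing.of_finite κ A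
  have hfield : IsField A := by
    refine ⟨exists_pair_ne A, mul_comm, fun {y} hy => ?_⟩
    have hne : ∀ n : ℕ, y ^ n ≠ 0 := by
      intro n
      induction n with
      | zero => simp
      | succ n ih =>
        intro h0
        rcases n with _ | n
        · simp [hy] at h0
        · exact hnil _ ih (by rw [← pow_two, ← pow_mul]; exact pow_eq_zero_of_le (by omega) h0)
    obtain ⟨n, z, hz⟩ := IsArtinian.exists_pow_succ_smul_dvd y (1 : A)
    simp only [smul_eq_mul, mul_one] at hz
    have hk : ∀ k : ℕ, y ^ n = y ^ (n + k) * z ^ k := by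
      intro k
      induction k with
      | zero => simp
      | succ k ih =>
        calc y ^ n = y ^ (n + k) * z ^ k := ih
          _ = (y ^ n) * (y ^ k * z ^ k) := by ring
          _ = (y ^ (n + 1) * z) * (y ^ k * z ^ k) := by rw [hz]
          _ = y ^ (n + (k + 1)) * z ^ (k + 1) := by ring
    have hn := hk n
    have he : (y ^ n * z ^ n) * (y ^ n * z ^ n) = y ^ n * z ^ n := by
      calc (y ^ n * z ^ n) * (y ^ n * z ^ n) = (y ^ (n + n) * z ^ n) * z ^ n := by ring
        _ = y ^ n * z ^ n := by rw [← hn]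
    have he1 : y ^ n * z ^ n = 1 := hid _ he fun h0 => hne n (by rw [hn, pow_add, mul_assoc, h0, mul_zero])
    refine ⟨z, ?_⟩
    calc y * z = (y ^ n * z ^ n) * (y * z) := by rw [he1, one_mul]
      _ = (y ^ (n + 1) * z) * z ^ n := by ring
      _ = 1 := by rw [hz, he1]
  refine Or.inr (Or.inr ⟨hfield, ?_⟩)
  letI := hfield.toField
  rcases eq_bot_or_eq_top (separableClosure κ A).toSubalgebra with hb | ht
  · right
    have hsb : separableClosure κ A = ⊥ := IntermediateField.toSubalgebra_injective (by rw [hb, IntermediateField.bot_toSubalgebra])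
    haveI := separableClosure.eq_bot_iff.1 hsb
    obtain ⟨p, hp⟩ := ExpChar.exists κ
    obtain ⟨n, hn⟩ := (isPurelyInseparable_iff_pow_mem κ p).1 inferInstance x
    rcases hp with _ | ⟨hpr⟩
    · rw [one_pow, pow_one] at hn
      exact absurd (Algebra.mem_bot.2 hn) hx
    · obtain ⟨m, hm1, hm2⟩ : ∃ m, x ^ p ^ m ∉ (⊥ : Subalgebra κ A) ∧ x ^ p ^ (m + 1) ∈ (⊥ : Subalgebra κ A) := by
        by_contra hc
        push Not at hc
        have : ∀ j, x ^ p ^ j ∉ (⊥ : Subalgebra κ A) := fun j => by
          induction j with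
          | zero => simpa using hx
          | succ j ih => exact hc j ih
        exact this n (Algebra.mem_bot.2 hn)
      rw [pow_succ, pow_mul] at hm2
      obtain ⟨a, ha⟩ := Algebra.mem_bot.1 hm2
      have hap : ∀ b : κ, b ^ p ≠ a := fun b hb => hm1 (Algebra.mem_bot.2 ⟨b, by
        haveI := Fact.mk hpr
        haveI : CharP A p := charP_of_injective_algebraMap (algebraMap κ A).injective p
        exact frobenius_inj A p (show (algebraMap κ A b) ^ p = (x ^ p ^ m) ^ p by rw [← map_pow, hb, ha])⟩)
      have hirr := X_pow_sub_C_irreducible_of_prime hpr hap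
      haveI : Fact (Irreducible (X ^ p - C a : κ[X])) := ⟨hirr⟩
      let ψ : AdjoinRoot (X ^ p - C a : κ[X]) →ₐ[κ] A := AdjoinRoot.liftAlgHom _ (Algebra.ofId κ A) (x ^ p ^ m) (by simp [Algebra.ofId_apply, ha])
      refine ⟨p, a, hpr, ‹CharP κ p›, hap, ⟨(AlgEquiv.ofBijective ψ ⟨ψ.toRingHom.injective, fun z => ?_⟩).symm⟩⟩
      have : Algebra.adjoin κ {x ^ p ^ m} ≤ ψ.range := Algebra.adjoin_le (Set.singleton_subset_iff.2 ⟨AdjoinRoot.root _, by simp [ψ]⟩)
      exact this (hgen _ hm1 ▸ Algebra.mem_top)
  · left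
    exact (separableClosure.eq_top_iff κ A).1 (IntermediateField.toSubalgebra_injective (by rw [ht, IntermediateField.top_toSubalgebra]))

end Groth.Agent.S15939
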