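import Groth.Statements.S15941
import Groth.Agent.AWN.SchemeLocal

set_option autoImplicit false
universe u
open HTop

namespace Groth.Agent.S15941
open Groth.Agent

/-- An integrally closed integral domain is a seminormal ring, that is, whenever x^3 = y^2 there is
exactly one element a with x = a^2 and y = a^3. (The published statement is for a normal Noetherian
scheme and reduces at once to this affine integral case; the Noetherian hypothesis plays no role.) -/
theorem result (A : Type u) [CommRing A] [IsDomain A]
    [IsIntegrallyClosed A] : HTop.IsSeminormalRing A := by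
  intro x y hxy
  suffices h : ∃ a : A, x = a ^ 2 ∧ y = a ^ 3 by
    obtain ⟨a, h2, h3⟩ := h
    exact ⟨a, ⟨h2, h3⟩, fun b hb => AWN.eq_of_sq_cube (hb.1.symm.trans h2) (hb.2.symm.trans h3)⟩
  obtain ⟨t, ht2, ht3⟩ := AWN.exists_root_seminormal hxy (FractionRing A) (algebraMap A (FractionRing A))
  obtain ⟨a, rfl⟩ := IsIntegrallyClosed.algebraMap_eq_of_integral (R := A) (x := t)
    (IsIntegral.of_pow two_pos (by rw [ht2]; exact isIntegral_algebraMap))
  have hi := IsFractionRing.injective A (FractionRing A)
  exact ⟨a, hi (by rw [map_pow, ht2]), hi (by rw [map_pow, ht3])⟩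

end Groth.Agent.S15941
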