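import Groth.Statements.S15949
import Groth.Agent.GrpSch.ProjShear

set_option autoImplicit false
universe u
open AlgGrp

namespace Groth.Agent.S15949

open CategoryTheory AlgebraicGeometry in
/-- Auxiliary step: let κ be an arbitrary field, G a group scheme over κ which is smooth over κ, and φ :
P¹_κ → G a morphism over κ. Then φ is constant: there is a κ-rational point g of G such that φ is
the structure morphism P¹_κ → Spec κ followed by g. (The published proof states this step for any
smooth group scheme over a field in the course of proving the main proposition.) -/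
theorem result (κ : Type u) [Field κ]
    (G : Over (Spec (CommRingCat.of κ))) [GrpObj G] [Smooth G.hom]
    (φ : CohB1.ProjSpaceOver 1 (Spec (CommRingCat.of κ)) ⟶ G.left)
    (hφ : φ ≫ G.hom = CohB1.ProjSpaceOver.toBase 1 (Spec (CommRingCat.of κ))) :
    ∃ g : Spec (CommRingCat.of κ) ⟶ G.left, g ≫ G.hom = 𝟙 _ ∧
      φ = CohB1.ProjSpaceOver.toBase 1 (Spec (CommRingCat.of κ)) ≫ g := by
  haveI := Groth.Agent.GrpSch.SepPoints.isSeparated_grp G
  have h := Groth.Agent.GrpSch.ProjShear.hom_projSpace_eq_const (k := κ) 1 G (Over.homMk φ hφ)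
  refine ⟨_, Over.w (Groth.Agent.GrpSch.ProjShear.q (S := Spec (CommRingCat.of κ))
    (T := MonoidalCategoryStruct.tensorUnit (Over (Spec (CommRingCat.of κ)))) (Pi.single 0 1)
    (Groth.Agent.GrpSch.ProjShear.span_of_one (n := 1) 0 (by simp)) ≫ Over.homMk φ hφ), ?_⟩
  exact congrArg (·.left) h

end Groth.Agent.S15949
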