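import Groth.Statements.S15963
import Groth.Agent.AWN.Scheme
import Mathlib.AlgebraicGeometry.Morphisms.SchemeTheoreticallyDominant
import Mathlib.AlgebraicGeometry.Morphisms.Finite

set_option autoImplicit false
universe u
open HTop

namespace Groth.Agent.S15963
open CategoryTheory AlgebraicGeometry

open CategoryTheory AlgebraicGeometry in
/-- Let S be a reduced Noetherian scheme, π : S̃ → S its normalisation (S̃ has integrally closed local
domains, π is integral and an isomorphism over a dense open subset of S with dense preimage), ν : X'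
→ S a seminormalization of S (X' seminormal, ν a universal homeomorphism with residue-field
isomorphisms, initial among such) and g : S̃ → X' a morphism with g followed by ν equal to π. Then ν
and g are scheme-theoretically dominant (the structure sheaf maps injectively into the direct
image), and if π is finite then so are ν and g. -/
theorem result {S Sn X' : Scheme.{u}}
    [IsNoetherian S] [IsReduced S]
    (π : Sn ⟶ S) [IsIntegralHom π] (hn : Pi1.IsNormalScheme Sn)
    (hbir : ∃ U : S.Opens, Dense (U : Set S) ∧ Dense ((π ⁻¹ᵁ U : Sn.Opens) : Set Sn) ∧ IsIso (π ∣_ U))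
    (ν : X' ⟶ S) (hν : HTop.IsSeminormalization ν) (hX' : HTop.IsSeminormal X')
    (g : Sn ⟶ X') (hg : g ≫ ν = π) :
    (IsSchemeTheoreticallyDominant ν ∧ IsSchemeTheoreticallyDominant g) ∧
      (IsFinite π → IsFinite ν ∧ IsFinite g) := by
  haveI := Groth.Agent.AWN.isReduced_of_isSeminormalization ν hν
  haveI := Groth.Agent.FlatBasics.isAffineHom_of_isUnivHomeo hν.1.1
  obtain ⟨hνc, hνi, hνs⟩ := (Groth.Agent.FlatBasics.isUnivHomeo_iff ν).mp hν.1.1
  haveI := hνc
  haveI := hνs
  obtain ⟨U, hU, hU', hiso⟩ := hbir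
  haveI : Surjective π := by
    refine ⟨Set.range_eq_univ.mp ?_⟩
    have h1 : (U : Set S) ⊆ Set.range π := fun s hs => by
      haveI := hiso
      obtain ⟨x, hx⟩ := (π ∣_ U).surjective ⟨s, hs⟩
      refine ⟨(π ⁻¹ᵁ U).ι x, ?_⟩
      rw [← Scheme.Hom.comp_apply, ← morphismRestrict_ι, Scheme.Hom.comp_apply, hx]
      rfl
    exact Set.univ_subset_iff.mp (hU.closure_eq ▸ closure_minimal h1 π.isClosedMap.isClosed_range)
  haveI : Surjective g := by
    haveI : Surjective (g ≫ ν) := by rw [hg]; assumption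
    exact Groth.Agent.FlatBasics.surjective_of_comp_injective g ν
      (Groth.Agent.FlatBasics.isHomeomorph_of_isUnivHomeo hν.1.1).injective
  haveI hgd : IsSchemeTheoreticallyDominant g := .of_isDominant g
  refine ⟨⟨.of_isDominant ν, hgd⟩, fun hπ => ?_⟩
  haveI : IsFinite (g ≫ ν) := by rw [hg]; exact hπ
  haveI : IsFinite g := IsFinite.of_comp g ν
  refine ⟨⟨fun V hV => ?_⟩, inferInstance⟩
  haveI : IsNoetherianRing Γ(S, V) := IsLocallyNoetherian.component_noetherian ⟨V, hV⟩
  letI := (ν.app V).hom.toAlgebra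
  letI := ((g ≫ ν).app V).hom.toAlgebra
  have hfin : ((g ≫ ν).app V).hom.Finite := IsFinite.finite_app (g ≫ ν) V hV
  haveI : Module.Finite Γ(S, V) Γ(Sn, (g ≫ ν) ⁻¹ᵁ V) := hfin
  let φ : Γ(X', ν ⁻¹ᵁ V) →ₐ[Γ(S, V)] Γ(Sn, (g ≫ ν) ⁻¹ᵁ V) :=
    { (g.app (ν ⁻¹ᵁ V)).hom with
      commutes' := fun a => (congrArg (fun k : Γ(S, V) ⟶ Γ(Sn, (g ≫ ν) ⁻¹ᵁ V) => k.hom a) (Scheme.Hom.comp_app g ν V)).symm }
  exact Module.Finite.of_injective φ.toLinearMap (g.app_injective (ν ⁻¹ᵁ V))

end Groth.Agent.S15963
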