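import Groth.Statements.S15987
import Groth.Agent.TruncDeform.DualAut


set_option autoImplicit false
universe u v
open Deform

namespace Groth.Agent.S15987

open TrivSqZeroExt in
/-- Let k be a field, A a commutative k-algebra and q_i : A → k (i ∈ ι) k-algebra maps (marked k-points
of Spec A). The k-algebra automorphisms φ of the ring of dual numbers A[ε] that fix ε (so are
k[ε]-linear), are the identity modulo ε, and satisfy q_i((φ x)_ε) = q_i(x_ε) for all i and x
(compatibility with the trivial lifts A[ε] → k[ε] of the marked points) are in bijection with the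
k-derivations D : A → A such that q_i ∘ D = 0 for every i, the bijection sending φ to a ↦ (φ(a))_ε.
(The source identifies the right-hand side with the global vector fields vanishing at the marked
points; the condition the computation yields is q_i ∘ D = 0, which is the same for Spec A smooth
over k but is weaker in general, e.g. for A = k[x]/(x^2) with 2 invertible in k.) -/
theorem result
    (k : Type u) [Field k] (A : Type u) [CommRing A] [Algebra k A] {ι : Type v} (q : ι → (A →ₐ[k] k)) :
    ∃ e : {φ : DualNumber A ≃ₐ[k] DualNumber A //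
            φ DualNumber.eps = DualNumber.eps ∧ (∀ x, (φ x).fst = x.fst) ∧
              ∀ i x, q i (φ x).snd = q i x.snd} ≃
          {D : Derivation k A A // ∀ i a, q i (D a) = 0},
      ∀ φ (a : A), (e φ).1 a = (φ.1 (inl a : DualNumber A)).snd := by
  classical
  have hsplit : ∀ (φ : DualNumber A ≃ₐ[k] DualNumber A), φ DualNumber.eps = DualNumber.eps → (∀ x, (φ x).fst = x.fst) →
      ∀ x, (φ x).snd = (φ (inl x.fst)).snd + x.snd := fun φ he hf x => by
    have h1 : x = inl x.fst + DualNumber.eps * inl x.snd := by
      ext <;> simp only [DualNumber.eps, fst_add, snd_add, fst_inl, snd_inl, fst_mul, TrivSqZeroExt.snd_mul, fst_inr, snd_inr, zero_mul, zero_smul,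
      one_smul, mul_zero, zero_add, add_zero, MulOpposite.smul_eq_mul_unop, MulOpposite.unop_op, one_mul, smul_eq_mul]
    conv_lhs => rw [h1, map_add, map_mul, he, snd_add]
    congr 1
    simp only [hf, DualNumber.eps, fst_add, snd_add, fst_inl, snd_inl, fst_mul, TrivSqZeroExt.snd_mul, fst_inr, snd_inr, zero_mul, zero_smul,
      one_smul, mul_zero, zero_add, add_zero, MulOpposite.smul_eq_mul_unop, MulOpposite.unop_op, one_mul, smul_eq_mul]
  let toD : {φ : DualNumber A ≃ₐ[k] DualNumber A //
        φ DualNumber.eps = DualNumber.eps ∧ (∀ x, (φ x).fst = x.fst) ∧ ∀ i x, q i (φ x).snd = q i x.snd} →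
      {D : Derivation k A A // ∀ i a, q i (D a) = 0} := fun φ =>
    ⟨Derivation.mk'
      { toFun := fun a => (φ.1 (inl a : DualNumber A)).snd
        map_add' := fun a b => by rw [inl_add, map_add, snd_add]
        map_smul' := fun c a => by rw [inl_smul, map_smul, snd_smul, RingHom.id_apply] }
      (fun a b => by
        show (φ.1 (inl (a * b) : DualNumber A)).snd = _
        rw [inl_mul, map_mul, TrivSqZeroExt.snd_mul, φ.2.2.1, φ.2.2.1]
        simp [mul_comm]),
      fun i a => by
        show q i (φ.1 (inl a : DualNumber A)).snd = 0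
        rw [φ.2.2.2, snd_inl, map_zero]⟩
  have htoD : ∀ φ a, (toD φ).1 a = (φ.1 (inl a : DualNumber A)).snd := fun φ a => rfl
  have hbij : Function.Bijective toD := by
    constructor
    · intro φ ψ h
      refine Subtype.ext (AlgEquiv.ext fun x => TrivSqZeroExt.ext ?_ ?_)
      · rw [φ.2.2.1, ψ.2.2.1]
      · rw [hsplit φ.1 φ.2.1 φ.2.2.1 x, hsplit ψ.1 ψ.2.1 ψ.2.2.1 x, ← htoD, ← htoD, h]
    · intro D
      refine ⟨⟨TruncDeform.dualAut D.1, TruncDeform.dualAut_eps _, TruncDeform.fst_dualAut _,
        fun i x => by rw [TruncDeform.snd_dualAut, map_add, D.2, zero_add]⟩, Subtype.ext (Derivation.ext fun a => ?_)⟩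
      rw [htoD]
      simp
  exact ⟨Equiv.ofBijective toD hbij, fun φ a => htoD φ a⟩

end Groth.Agent.S15987
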