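import Groth.Statements.S15988
import Groth.Agent.TruncDeform.DualAut


set_option autoImplicit false
universe u v
open Deform

namespace Groth.Agent.S15988

open TrivSqZeroExt in
/-- Let k be a field, A a smooth commutative k-algebra, q_i : A → k (i ∈ ι, ι finite) pairwise distinct
k-algebra maps, and q'_i : A[ε] → k[ε] k-algebra maps with q'_i(ε) = ε which reduce to q_i modulo ε
(marked points of a first-order deformation with underlying trivial deformation). Then some
k-algebra automorphism φ of A[ε] with φ(ε) = ε and φ = id modulo ε carries every q'_i to the trivial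
lift of q_i: q'_i(φ x) = (q_i(x_0), q_i(x_ε)) for all i and x. Together with the triviality of
first-order deformations of a smooth affine scheme this gives the source's statement that
first-order deformations of a smooth affine scheme with marked points are trivial. (The published
statement does not say that the finitely many marked points are distinct; for two coincident points
with different lifts no such automorphism exists, so the points are taken pairwise distinct here,
and the source's non-singular is read as smooth over k.) -/
theorem result
    (k : Type u) [Field k] (A : Type u) [CommRing A] [Algebra k A] [Algebra.Smooth k A]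
    {ι : Type v} [Finite ι] (q : ι → (A →ₐ[k] k)) (hq : Function.Injective q)
    (q' : ι → (DualNumber A →ₐ[k] DualNumber k))
    (hε : ∀ i, q' i DualNumber.eps = DualNumber.eps) (hq' : ∀ i x, (q' i x).fst = q i x.fst) :
    ∃ φ : DualNumber A ≃ₐ[k] DualNumber A,
      φ DualNumber.eps = DualNumber.eps ∧ (∀ x, (φ x).fst = x.fst) ∧
        ∀ i x, (q' i (φ x)).fst = q i x.fst ∧ (q' i (φ x)).snd = q i x.snd := by
  classical
  let d : ι → A → k := fun i a => (q' i (inl a)).snd
  have hsplit : ∀ i (x : DualNumber A), (q' i x).snd = d i x.fst + q i x.snd := fun i x => by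
    have h1 : x = inl x.fst + DualNumber.eps * inl x.snd := by
      ext <;> simp only [DualNumber.eps, fst_add, snd_add, fst_inl, snd_inl, fst_mul, TrivSqZeroExt.snd_mul, fst_inr, snd_inr, zero_mul, zero_smul,
      one_smul, mul_zero, zero_add, add_zero, MulOpposite.smul_eq_mul_unop, MulOpposite.unop_op, one_mul, smul_eq_mul]
    conv_lhs => rw [h1, map_add, map_mul, hε, snd_add]
    congr 1
    simp only [hq', DualNumber.eps, fst_add, snd_add, fst_inl, snd_inl, fst_mul, TrivSqZeroExt.snd_mul, fst_inr, snd_inr, zero_mul, zero_smul,
      one_smul, mul_zero, zero_add, add_zero, MulOpposite.smul_eq_mul_unop, MulOpposite.unop_op, one_mul, smul_eq_mul]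
  obtain ⟨D, hD⟩ := TruncDeform.exists_derivation_at_points q hq (fun i a => -d i a)
    (fun i a b => by simp [d, inl_add, add_comm])
    (fun i c a => by simp [d, inl_smul])
    (fun i a b => by
      simp only [d, inl_mul, map_mul, TrivSqZeroExt.snd_mul, hq', fst_inl, MulOpposite.smul_eq_mul_unop,
        MulOpposite.unop_op, smul_eq_mul]
      ring)
  refine ⟨TruncDeform.dualAut D, TruncDeform.dualAut_eps _, TruncDeform.fst_dualAut _, fun i x => ⟨?_, ?_⟩⟩
  · rw [hq', TruncDeform.fst_dualAut]
  · rw [hsplit, TruncDeform.snd_dualAut, TruncDeform.fst_dualAut, map_add, hD]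
    ring

end Groth.Agent.S15988
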