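import Groth.Statements.S15991
import Groth.Agent.TruncDeform.DualTriv
import Groth.Agent.ThickAffine.General


set_option autoImplicit false
universe u v
open Deform

namespace Groth.Agent.S15991

open AlgebraicGeometry CategoryTheory in
/-- Let k be a field and X an affine scheme smooth over k, with finitely many pairwise distinct
k-rational points p_j (j ∈ ι). Let X' → Spec k[ε] be flat, i : X → X' a morphism making X the fibre
over the closed point Spec k → Spec k[ε] (cartesian square), and p'_j : Spec k[ε] → X' sections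
restricting to the p_j. Then there is an isomorphism φ : X' ≅ X ×_{Spec k} Spec k[ε] over Spec k[ε]
such that i followed by φ is the inclusion of X at the closed point (its first component is the
identity of X) and each p'_j followed by φ is the constant section through p_j: every first-order
deformation of a smooth affine scheme with marked points is trivial. (The source says non-singular;
smooth over k is assumed here, and the marked points are taken pairwise distinct and finite in
number.) -/
theorem result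
    (k : Type u) [Field k] (X : Scheme.{u}) (hX : X ⟶ Spec (CommRingCat.of k)) [IsAffine X] [Smooth hX]
    {ι : Type v} [Finite ι] (p : ι → (Spec (CommRingCat.of k) ⟶ X)) (hp : ∀ j, p j ≫ hX = 𝟙 _)
    (hinj : Function.Injective p)
    (X' : Scheme.{u}) (g : X' ⟶ Spec (CommRingCat.of (DualNumber k))) [Flat g] (i : X ⟶ X')
    (hsq : IsPullback i hX g
      (Spec.map (CommRingCat.ofHom (TrivSqZeroExt.fstHom k k k).toRingHom)))
    (p' : ι → (Spec (CommRingCat.of (DualNumber k)) ⟶ X')) (hp' : ∀ j, p' j ≫ g = 𝟙 _)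
    (hpp' : ∀ j, p j ≫ i = Spec.map (CommRingCat.ofHom (TrivSqZeroExt.fstHom k k k).toRingHom) ≫ p' j) :
    ∃ φ : X' ≅ Limits.pullback hX (Spec.map (CommRingCat.ofHom (algebraMap k (DualNumber k)))),
      φ.hom ≫ Limits.pullback.snd hX (Spec.map (CommRingCat.ofHom (algebraMap k (DualNumber k)))) = g ∧
        i ≫ φ.hom ≫ Limits.pullback.fst hX (Spec.map (CommRingCat.ofHom (algebraMap k (DualNumber k)))) = 𝟙 X ∧
          ∀ j, p' j ≫ φ.hom ≫
              Limits.pullback.fst hX (Spec.map (CommRingCat.ofHom (algebraMap k (DualNumber k)))) =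
            Spec.map (CommRingCat.ofHom (algebraMap k (DualNumber k))) ≫ p j := by
  classical
  let c0 : CommRingCat.of (DualNumber k) ⟶ CommRingCat.of k := CommRingCat.ofHom (TrivSqZeroExt.fstHom k k k).toRingHom
  let c1 : CommRingCat.of k ⟶ CommRingCat.of (DualNumber k) := CommRingCat.ofHom (algebraMap k (DualNumber k))
  have hc0 : Function.Surjective c0.hom := fun x => ⟨TrivSqZeroExt.inl x, rfl⟩
  have hsurjc : Surjective (Spec.map c0) := by
    refine ⟨fun p => ?_⟩
    show p ∈ Set.range (PrimeSpectrum.comap c0.hom)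
    rw [range_comap_of_surjective _ _ hc0]
    intro x hx
    have hx' : x.fst = 0 := hx
    refine p.isPrime.mem_of_pow_mem 2 ?_
    rw [pow_two, show x * x = 0 from TrivSqZeroExt.ext (by simp [hx']) (by simp [hx'])]
    exact zero_mem _
  have hclc : IsClosedImmersion (Spec.map c0) := IsClosedImmersion.spec_of_surjective _ hc0
  have hsi : Surjective i := MorphismProperty.of_isPullback hsq.flip hsurjc
  have hci : IsClosedImmersion i := MorphismProperty.of_isPullback hsq.flip hclc
  have hX' : IsAffine X' := ThickAffine.isAffine_of_thickening i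
  let αA : CommRingCat.of k ⟶ Γ(X, ⊤) := (Scheme.ΓSpecIso _).inv ≫ hX.appTop
  let αB : CommRingCat.of (DualNumber k) ⟶ Γ(X', ⊤) := (Scheme.ΓSpecIso _).inv ≫ g.appTop
  let : Algebra k Γ(X, ⊤) := αA.hom.toAlgebra
  let : Algebra (DualNumber k) Γ(X', ⊤) := αB.hom.toAlgebra
  have : Algebra.FormallySmooth k Γ(X, ⊤) := by
    have h1 : hX.appTop.hom.Smooth := (HasRingHomProperty.iff_of_isAffine (P := @Smooth)).1 ‹Smooth hX›
    have h2 : αA.hom.Smooth := (RingHom.Smooth.respectsIso.2 _ (Scheme.ΓSpecIso _).symm.commRingCatIsoToRingEquiv h1)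
    exact Algebra.Smooth.formallySmooth (self := h2)
  have : Module.Flat (DualNumber k) Γ(X', ⊤) := by
    have h1 : g.appTop.hom.Flat := (HasRingHomProperty.iff_of_isAffine (P := @Flat)).1 ‹Flat g›
    exact (RingHom.Flat.respectsIso.2 _ (Scheme.ΓSpecIso _).symm.commRingCatIsoToRingEquiv h1 : αB.hom.Flat)
  have hpo : IsPushout g.appTop (Spec.map c0).appTop i.appTop hX.appTop := isPushout_appTop_of_isPullback hsq.flip.flip
  have hπc : ∀ r : DualNumber k, i.appTop.hom (αB.hom r) = αA.hom r.fst := fun r => by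
    have h : αB ≫ i.appTop = c0 ≫ αA := by
      simp only [αA, αB, Category.assoc]
      rw [hpo.w, ← Category.assoc c0, Scheme.ΓSpecIso_inv_naturality, Category.assoc]
    exact RingHom.congr_fun (congrArg CommRingCat.Hom.hom h) r
  have hker : ∀ b, i.appTop.hom b = 0 → ∃ c, b = αB.hom DualNumber.eps * c := by
    intro b hb
    let I : Ideal Γ(X', ⊤) := Ideal.span {αB.hom DualNumber.eps}
    let mkI : Γ(X', ⊤) ⟶ CommRingCat.of (Γ(X', ⊤) ⧸ I) := CommRingCat.ofHom (Ideal.Quotient.mk I)
    let ψ : Γ(Spec (CommRingCat.of k), ⊤) ⟶ CommRingCat.of (Γ(X', ⊤) ⧸ I) :=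
      (Scheme.ΓSpecIso _).hom ≫ c1 ≫ αB ≫ mkI
    have hw : g.appTop ≫ mkI = (Spec.map c0).appTop ≫ ψ := by
      simp only [ψ]
      rw [← Category.assoc (Spec.map c0).appTop, Scheme.ΓSpecIso_naturality, Category.assoc,
        ← cancel_epi (Scheme.ΓSpecIso (CommRingCat.of (DualNumber k))).inv, Iso.inv_hom_id_assoc, ← Category.assoc]
      show αB ≫ mkI = c0 ≫ c1 ≫ αB ≫ mkI
      refine CommRingCat.hom_ext (RingHom.ext fun r => ?_)
      show Ideal.Quotient.mk I (αB.hom r) = Ideal.Quotient.mk I (αB.hom (algebraMap k (DualNumber k) r.fst))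
      refine Ideal.Quotient.eq.2 ?_
      rw [← map_sub]
      have h : r - algebraMap k (DualNumber k) r.fst = DualNumber.eps * TrivSqZeroExt.inl r.snd := by
        ext <;> simp [DualNumber.fst_eps, DualNumber.snd_eps, TrivSqZeroExt.algebraMap_eq_inl']
      rw [h, map_mul]
      exact Ideal.mul_mem_right _ _ (Ideal.mem_span_singleton_self _)
    have h := RingHom.congr_fun (congrArg CommRingCat.Hom.hom (hpo.inl_desc mkI ψ hw)) b
    have h2 : Ideal.Quotient.mk I b = 0 :=
      h.symm.trans ((congrArg (hpo.desc mkI ψ hw).hom hb).trans (map_zero _))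
    obtain ⟨c, hc⟩ := Ideal.mem_span_singleton.1 (Ideal.Quotient.eq_zero_iff_mem.1 h2)
    exact ⟨c, hc⟩
  have hπ : Function.Surjective i.appTop.hom := (IsClosedImmersion.isAffine_surjective_of_isAffine i).2
  let qh : ι → (Γ(X, ⊤) ⟶ CommRingCat.of k) := fun j => (p j).appTop ≫ (Scheme.ΓSpecIso _).hom
  let eh : ι → (Γ(X', ⊤) ⟶ CommRingCat.of (DualNumber k)) := fun j => (p' j).appTop ≫ (Scheme.ΓSpecIso _).hom
  have hqh : ∀ j, αA ≫ qh j = 𝟙 _ := fun j => by
    simp only [αA, qh, Category.assoc]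
    rw [← Category.assoc hX.appTop, ← Scheme.Hom.comp_appTop, hp, Scheme.Hom.id_appTop, Category.id_comp,
      Iso.inv_hom_id]
  have heh : ∀ j, αB ≫ eh j = 𝟙 _ := fun j => by
    simp only [αB, eh, Category.assoc]
    rw [← Category.assoc g.appTop, ← Scheme.Hom.comp_appTop, hp', Scheme.Hom.id_appTop, Category.id_comp,
      Iso.inv_hom_id]
  let q : ι → (Γ(X, ⊤) →ₐ[k] k) := fun j =>
    { toRingHom := (qh j).hom
      commutes' := fun c => RingHom.congr_fun (congrArg CommRingCat.Hom.hom (hqh j)) c }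
  let e : ι → (Γ(X', ⊤) →ₐ[DualNumber k] DualNumber k) := fun j =>
    { toRingHom := (eh j).hom
      commutes' := fun c => RingHom.congr_fun (congrArg CommRingCat.Hom.hom (heh j)) c }
  have hq : Function.Injective q := fun j j' h => hinj (ext_of_isAffine (by
    rw [← cancel_mono (Scheme.ΓSpecIso _).hom]
    ext x
    exact AlgHom.congr_fun h x))
  have he : ∀ j b, q j (i.appTop.hom b) = (e j b).fst := fun j b => by
    have h : i.appTop ≫ qh j = eh j ≫ c0 := by
      simp only [qh, eh, Category.assoc]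
      rw [← Category.assoc, ← Scheme.Hom.comp_appTop, hpp', Scheme.Hom.comp_appTop, Category.assoc,
        Scheme.ΓSpecIso_naturality]
    exact RingHom.congr_fun (congrArg CommRingCat.Hom.hom h) b
  obtain ⟨s, hs, hse, hP⟩ := TruncDeform.exists_trivialisation i.appTop.hom hπ hπc hker q hq e he
  let sh : Γ(X, ⊤) ⟶ Γ(X', ⊤) := CommRingCat.ofHom s
  let r : X' ⟶ X := X'.isoSpec.hom ≫ Spec.map sh ≫ X.isoSpec.inv
  have hr : r.appTop = sh := by
    have h0 : X.isoSpec.inv.appTop ≫ (Scheme.ΓSpecIso _).hom = 𝟙 _ := by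
      rw [← Scheme.toSpecΓ_appTop, ← Scheme.Hom.comp_appTop, Scheme.toSpecΓ_isoSpec_inv, Scheme.Hom.id_appTop]
    show (X'.isoSpec.hom ≫ Spec.map sh ≫ X.isoSpec.inv).appTop = sh
    rw [Scheme.Hom.comp_appTop, Scheme.Hom.comp_appTop, Scheme.isoSpec_hom, Scheme.toSpecΓ_appTop, Category.assoc,
      Scheme.ΓSpecIso_naturality, ← Category.assoc, h0, Category.id_comp]
  have hpb : IsPullback r g hX (Spec.map c1) := by
    refine (isPullback_SpecMap_of_isPushout αA c1 sh αB hP).of_iso X'.isoSpec.symm X.isoSpec.symm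
      (Iso.refl _) (Iso.refl _) ?_ ?_ ?_ ?_
    · show Spec.map sh ≫ X.isoSpec.inv = X'.isoSpec.inv ≫ r
      rw [Iso.inv_hom_id_assoc]
    · show Spec.map αB ≫ 𝟙 _ = X'.isoSpec.inv ≫ g
      rw [Category.comp_id, Spec.map_comp, ← Scheme.isoSpec_Spec_inv, Scheme.isoSpec_inv_naturality]
    · show Spec.map αA ≫ 𝟙 _ = X.isoSpec.inv ≫ hX
      rw [Category.comp_id, Spec.map_comp, ← Scheme.isoSpec_Spec_inv, Scheme.isoSpec_inv_naturality]
    · show Spec.map c1 ≫ 𝟙 _ = 𝟙 _ ≫ Spec.map c1
      rw [Category.comp_id, Category.id_comp]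
  refine ⟨hpb.isoPullback, hpb.isoPullback_hom_snd, ?_, fun j => ?_⟩
  · rw [hpb.isoPullback_hom_fst]
    refine ext_of_isAffine ?_
    rw [Scheme.Hom.comp_appTop, hr, Scheme.Hom.id_appTop]
    ext a
    exact hs a
  · rw [hpb.isoPullback_hom_fst]
    refine ext_of_isAffine ?_
    rw [Scheme.Hom.comp_appTop, hr, Scheme.Hom.comp_appTop, ← cancel_mono (Scheme.ΓSpecIso _).hom, Category.assoc,
      Category.assoc, Scheme.ΓSpecIso_naturality]
    refine CommRingCat.hom_ext (RingHom.ext fun a => ?_)
    exact (hse j a).trans (TrivSqZeroExt.algebraMap_eq_inl' k k k (q j a)).symm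

end Groth.Agent.S15991
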