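import Groth.Statements.S15995
-- import your own Groth.Agent.* helpers here

set_option autoImplicit false
open CategoryTheory AlgebraicGeometry CategoryTheory.Limits
universe u
open FrobSch

namespace Groth.Agent.S15995

open Limits in
private theorem isIso_relFrob_iff (p : ℕ) [Fact p.Prime] {X S : Scheme.{u}} [FrobSch.IsCharP S p]
    [FrobSch.IsCharP X p] (f : X ⟶ S) :
    IsIso (FrobSch.relFrob f p) ↔ IsPullback (FrobSch.frob X p) f f (FrobSch.frob S p) := by
  constructor
  · intro h
    exact IsPullback.of_iso_pullback ⟨FrobSch.frob_comp p f⟩ (asIso (FrobSch.relFrob f p))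
      (pullback.lift_fst _ _ _) (pullback.lift_snd _ _ _)
  · intro h
    have e : FrobSch.relFrob f p = h.isoPullback.hom := by
      refine pullback.hom_ext ?_ ?_
      · rw [h.isoPullback_hom_fst]; exact pullback.lift_fst _ _ _
      · rw [h.isoPullback_hom_snd]; exact pullback.lift_snd _ _ _
    rw [e]; infer_instance



/-- Coperfection commutes with base restriction. Let S and T be schemes of characteristic p and f : T →
S a relatively perfect morphism (its relative Frobenius T → T^(p/S) is an isomorphism). Let g : X →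
T and let c : X → X' be a T-morphism to a relatively perfect T-scheme π : X' → T which is a
coperfection of X over T: for every relatively perfect T-scheme Y, every T-morphism X → Y factors
uniquely through c. Then X' with structure map π ≫ f is relatively perfect over S and c is a
coperfection of X over S: every S-morphism from X to a relatively perfect S-scheme factors uniquely
through c. (The source works with algebraic spaces; schemes here.) -/
theorem result (p : ℕ) [Fact p.Prime] {X X' T S : Scheme.{u}}
    [FrobSch.IsCharP S p] [FrobSch.IsCharP T p] (f : T ⟶ S) (hf : IsIso (FrobSch.relFrob f p))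
    (g : X ⟶ T) (π : X' ⟶ T) (hπ : IsIso (FrobSch.relFrob π p)) (c : X ⟶ X') (hc : c ≫ π = g)
    (huniv : ∀ (Y : Scheme.{u}) (q : Y ⟶ T), IsIso (FrobSch.relFrob q p) →
      ∀ k : X ⟶ Y, k ≫ q = g → ∃! h : X' ⟶ Y, h ≫ q = π ∧ c ≫ h = k) :
    IsIso (FrobSch.relFrob (π ≫ f) p) ∧
      ∀ (Y : Scheme.{u}) (r : Y ⟶ S), IsIso (FrobSch.relFrob r p) →
        ∀ k : X ⟶ Y, k ≫ r = g ≫ f → ∃! h : X' ⟶ Y, h ≫ r = π ≫ f ∧ c ≫ h = k := by
  haveI : FrobSch.IsCharP X' p := FrobSch.IsCharP.of_hom π p
  have hf' := (isIso_relFrob_iff p f).mp hf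
  have hπ' := (isIso_relFrob_iff p π).mp hπ
  refine ⟨(isIso_relFrob_iff p (π ≫ f)).mpr (hπ'.paste_vert hf'), fun Y r hr k hk => ?_⟩
  haveI : FrobSch.IsCharP Y p := FrobSch.IsCharP.of_hom r p
  haveI : FrobSch.IsCharP (pullback r f) p := FrobSch.IsCharP.of_hom (pullback.snd r f) p
  have hr' := (isIso_relFrob_iff p r).mp hr
  have hP : IsPullback (pullback.fst r f) (pullback.snd r f) r f := IsPullback.of_hasPullback r f
  have ho : IsPullback (FrobSch.frob (pullback r f) p ≫ pullback.fst r f) (pullback.snd r f) r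
      (FrobSch.frob T p ≫ f) := by
    rw [FrobSch.frob_comp p (pullback.fst r f), FrobSch.frob_comp p f]
    exact hP.paste_horiz hr'
  have hq : IsIso (FrobSch.relFrob (pullback.snd r f) p) :=
    (isIso_relFrob_iff p _).mpr (IsPullback.of_right ho (FrobSch.frob_comp p _) hP)
  obtain ⟨h', ⟨h'₁, h'₂⟩, huniq⟩ := huniv _ (pullback.snd r f) hq (pullback.lift k g hk) (pullback.lift_snd _ _ _)
  refine ⟨h' ≫ pullback.fst r f, ⟨?_, ?_⟩, fun h₂ ⟨e₁, e₂⟩ => ?_⟩
  · rw [Category.assoc, pullback.condition, ← Category.assoc, h'₁]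
  · rw [← Category.assoc, h'₂, pullback.lift_fst]
  · have : pullback.lift h₂ π e₁ = h' := huniq _ ⟨pullback.lift_snd _ _ _, by
      apply pullback.hom_ext
      · rw [Category.assoc]; erw [pullback.lift_fst, pullback.lift_fst]; exact e₂
      · rw [Category.assoc]; erw [pullback.lift_snd, pullback.lift_snd]; exact hc⟩
    rw [← this, pullback.lift_fst]

end Groth.Agent.S15995
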