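import Groth.Statements.S16010
import Groth.Agent.GhConst.Basic
-- import your own Groth.Agent.* helpers here

set_option autoImplicit false
universe u v w x
open W4c3ghconstell

namespace Groth.Agent.S16010

/-- Let k be an algebraically closed field of characteristic zero, A a commutative Hopf algebra over k
which is a finitely generated domain and linearly reductive (the coordinate ring of a connected
reductive group G; irreducible representations of G are indexed by the simple subcoalgebras D of A),
R a Noetherian commutative k-algebra with a multiplicative A-coaction (an affine G-scheme X = Spec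
R), and M an R-module with a compatible A-coaction (a G-equivariant quasi-coherent module on X)
which is finite over R, is the sum of its isotypic components M_D, and has dim_k M_D = h(D) < ∞ for
every simple subcoalgebra D. Fix a weight θ from simple subcoalgebras to ℚ, negative at only
finitely many D, with Σ_D θ(D) h(D) = 0 (a convergent real series) and with θ(D) ≠ 0, h(D) ≠ 0 for
some D; the weight of a k-subspace N of M is the real series Σ_D θ(D) · dim_k (N ∩ M_D). If M is
θ-stable, i.e. M has weight 0 and every non-zero proper R-submodule of M stable under the coaction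
has weight > 0, then M is generated as an R-module by its isotypic components M_D with θ(D) < 0.
(The published statement is over the complex numbers and records the multiplicity of each
irreducible representation rather than the dimension of the isotypic component; rescaling θ
translates between the two, and the printed argument uses only the bookkeeping stated here.) -/
theorem result (k : Type u) [Field k] [IsAlgClosed k] [CharZero k]
    (A : Type v) [CommRing A] [IsDomain A] [HopfAlgebra k A] [Algebra.FiniteType k A]
    (hred : HopfRep.IsLinearlyReductive k A)
    (R : Type w) [CommRing R] [Algebra k R] [IsNoetherianRing R] [HopfRep.Comod k A R] [GLin.IsCoactAlg k A R]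
    (M : Type x) [AddCommGroup M] [Module k M] [Module R M] [IsScalarTower k R M]
    [HopfRep.Comod k A M] [TameAct.IsHopfMod k A R M]
    (h : W4c3ghconstell.SimpSub k A → ℕ) (θ : W4c3ghconstell.SimpSub k A → ℚ)
    (hfin : {D | θ D < 0}.Finite) (hsum : HasSum (fun D => (θ D : ℝ) * (h D : ℝ)) 0)
    (hne : ∃ D, θ D ≠ 0 ∧ h D ≠ 0)
    (hM : W4c3ghconstell.IsConstellation k A R M h)
    (hst : W4c3ghconstell.IsThetaStable k A R M θ) :
    W4c3ghconstell.genIn k A R M {D | θ D < 0} ⊤ = ⊤ := by
  have hfd := hM.2.2
  have hsc : HopfRep.IsSubcomod (k := k) (A := A)
      ((genIn k A R M {D | θ D < 0} ⊤).restrictScalars k) :=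
    GhConst.isSubcomod_genIn _ GhConst.isSubcomod_top
  by_contra hne'
  have hle : theta M θ ((genIn k A R M {D | θ D < 0} ⊤).restrictScalars k) ≤ 0 := by
    rw [← GhConst.theta_top hfd hsum]
    refine GhConst.theta_le hfd hsum.summable le_top fun D hD => ?_
    rw [hilbAt, GhConst.genIn_inf_eq (⊤ : Submodule R M) (S := {D | θ D < 0}) hD,
      Submodule.restrictScalars_top, ← hilbAt]
  by_cases hbot : genIn k A R M {D | θ D < 0} ⊤ = ⊥
  · obtain ⟨D, hθD, hhD⟩ := hne
    have hz : ∀ E, θ E < 0 → h E = 0 := fun E hE => by
      have := GhConst.genIn_inf_eq (⊤ : Submodule R M) (S := {D | θ D < 0}) hE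
      rw [hbot, Submodule.restrictScalars_bot, Submodule.restrictScalars_top, bot_inf_eq, top_inf_eq] at this
      rw [← (hfd E).2, ← this, finrank_bot]
    have hnn : ∀ E, 0 ≤ (θ E : ℝ) * (h E : ℝ) := fun E => by
      by_cases hE : θ E < 0
      · simp [hz E hE]
      · exact mul_nonneg (by exact_mod_cast not_lt.1 hE) (Nat.cast_nonneg _)
    have := congrFun ((hasSum_zero_iff_of_nonneg hnn).1 hsum) D
    simp [hθD, hhD] at this
  · exact absurd (hst.2 _ hsc hbot hne') (not_lt.2 hle)

end Groth.Agent.S16010
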