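import Groth.Statements.S16016
import Mathlib.Tactic.FinCases
import Mathlib.Tactic.Ring
import Mathlib.Data.Fintype.BigOperators

set_option autoImplicit false
universe u
open W4c3ghconstell

namespace Groth.Agent.S16016

/-- Let k be a field with 2 ≠ 0, index k⁶ by two copies of {0,1,2} (basis vectors p₁, p₂, p₃ in the
first copy and p₄, p₅, p₆ in the second), let Q be the symmetric matrix with blocks ((0, 1), (1,
0)), so that the form it defines pairs pᵢ with pᵢ₊₃, and let W₀ be the span of p₁ and p₂. Then a 6 ×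
6 matrix A satisfies AᵀQ + QA = 0 (A lies in the orthogonal Lie algebra of Q) and has the image of
Aᵀ contained in W₀ if and only if A = a · (E₄₂ − E₅₁) for some scalar a, where Eᵢⱼ is the matrix
unit. (The lemma in the source concludes that the set of such A inside a certain nilpotent orbit
closure of this Lie algebra is one-dimensional; this row is the computation its proof performs,
which determines all such A in the Lie algebra. Characteristic 2 is excluded: there E₁₄ᵀ also
qualifies.) -/
theorem result (k : Type u) [Field k] (h2 : (2 : k) ≠ 0)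
    (A : Matrix (Fin 3 ⊕ Fin 3) (Fin 3 ⊕ Fin 3) k) :
    (A.transpose * Matrix.fromBlocks (0 : Matrix (Fin 3) (Fin 3) k) 1 1 0 +
        Matrix.fromBlocks (0 : Matrix (Fin 3) (Fin 3) k) 1 1 0 * A = 0 ∧
      LinearMap.range (Matrix.mulVecLin A.transpose) ≤
        Submodule.span k {Pi.single (Sum.inl 0 : Fin 3 ⊕ Fin 3) (1 : k), Pi.single (Sum.inl 1 : Fin 3 ⊕ Fin 3) (1 : k)}) ↔
    ∃ a : k, A = a • (Matrix.single (Sum.inr 0) (Sum.inl 1) (1 : k) - Matrix.single (Sum.inr 1) (Sum.inl 0) (1 : k)) := by
  constructor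
  · rintro ⟨h1, h2'⟩
    have hrow : ∀ i : Fin 3 ⊕ Fin 3, (i ≠ Sum.inl 0 ∧ i ≠ Sum.inl 1) → ∀ j, A j i = 0 := by
      intro i hi j
      have hm := h2' (LinearMap.mem_range.mpr ⟨Pi.single j 1, rfl⟩)
      obtain ⟨a, b, hab⟩ := Submodule.mem_span_pair.mp hm
      have := congrFun hab i
      simpa [hi.1, hi.2] using this.symm
    have e : ∀ i j, ((A.transpose * Matrix.fromBlocks (0 : Matrix (Fin 3) (Fin 3) k) 1 1 0 +
        Matrix.fromBlocks (0 : Matrix (Fin 3) (Fin 3) k) 1 1 0 * A : Matrix (Fin 3 ⊕ Fin 3) (Fin 3 ⊕ Fin 3) k)) i j = 0 := fun i j => by rw [h1]; rfl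
    simp [Matrix.mul_apply, Fintype.sum_sum_type, Matrix.one_apply] at e
    have e00 := fun i j => (e.1 i).1 j
    have e01 := fun i j => (e.1 i).2 j
    have e10 := fun i j => (e.2 i).1 j
    have e11 := fun i j => (e.2 i).2 j
    refine ⟨A (Sum.inr 0) (Sum.inl 1), ?_⟩
    have hd : ∀ i : Fin 3, A (Sum.inr i) (Sum.inl i) = 0 := fun i => by
      have := e00 i i
      rw [← two_mul] at this
      exact (mul_eq_zero.mp this).resolve_left h2
    have h10 : A (Sum.inr 1) (Sum.inl 0) = -A (Sum.inr 0) (Sum.inl 1) :=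
      eq_neg_of_add_eq_zero_left (e00 0 1)
    have hc : ∀ (j : Fin 3 ⊕ Fin 3) (i : Fin 3), A j (Sum.inr i) = 0 := fun j i => hrow _ (by simp) j
    have hl : ∀ i j : Fin 3, A (Sum.inl i) (Sum.inl j) = 0 := fun i j => by
      have := e10 i j
      simpa [hc] using this
    have h20 : A (Sum.inr 2) (Sum.inl 0) = 0 := by simpa [hrow (Sum.inl 2) (by simp)] using e00 0 2
    have h21 : A (Sum.inr 2) (Sum.inl 1) = 0 := by simpa [hrow (Sum.inl 2) (by simp)] using e00 1 2
    ext i j
    rcases i with i | i <;> rcases j with j | j <;> fin_cases i <;> fin_cases j <;>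
      simp [hc, hl, hd, h10, h20, h21, hrow (Sum.inl 2) (by simp), Matrix.single]
  · rintro ⟨a, rfl⟩
    refine ⟨?_, ?_⟩
    · ext i j
      rcases i with i | i <;> rcases j with j | j <;> fin_cases i <;> fin_cases j <;>
        simp [Matrix.mul_apply, Fintype.sum_sum_type, Matrix.one_apply, Matrix.single]
    · rintro _ ⟨v, rfl⟩
      refine Submodule.mem_span_pair.mpr ⟨-a * v (Sum.inr 1), a * v (Sum.inr 0), ?_⟩
      ext i
      rcases i with i | i <;> fin_cases i <;>
        simp [Matrix.mulVec, Matrix.vecMul, dotProduct, Matrix.single, Fintype.sum_sum_type] <;> ring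

end Groth.Agent.S16016
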