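import Groth.Statements.S16017
import Mathlib

set_option autoImplicit false
universe u
open W4c3ghconstell

namespace Groth.Agent.S16017

/-- Let ι index the irreducible representations, θ : ι → ℚ a weight negative at only finitely many
indices (the finite set D₋), h h' : ι → ℕ with h' ≤ h pointwise (the isotypic dimensions of an
object and of a sub-object) and Σ_i θ_i h_i summable. For a finite set D of indices put S_D = Σ_{i ∉
D} θ_i h_i, d = #(D ∖ D₋), and θ̃_D = Σ_{i ∈ D} θ_i h'_i + (S_D / d) · Σ_{i ∈ D ∖ D₋} h'_i / h_i,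
the modified weight attached to the parameters chosen for D (for D ⊇ D₋ the first sum is the
negative part plus the part over D ∖ D₋). Then θ̃_D tends to Σ_i θ_i h'_i as D grows through the
finite subsets of ι. (Here D runs over all finite sets of indices and a quotient by zero is zero;
the source lets D run over the finite subsets of the locus θ ≠ 0 containing D₋, and the same tail
estimate gives both.) -/
theorem result {ι : Type u} [DecidableEq ι] (θ : ι → ℚ) (h h' : ι → ℕ)
    (hle : ∀ i, h' i ≤ h i) (hfin : {i | θ i < 0}.Finite)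
    (hsum : Summable (fun i => (θ i : ℝ) * (h i : ℝ))) :
    Filter.Tendsto
      (fun D : Finset ι =>
        (∑ i ∈ D, (θ i : ℝ) * (h' i : ℝ)) +
          ((∑' i, if i ∈ D then (0 : ℝ) else (θ i : ℝ) * (h i : ℝ)) / ((D \ hfin.toFinset).card : ℝ)) *
            ∑ i ∈ D \ hfin.toFinset, ((h' i : ℝ) / (h i : ℝ)))
      Filter.atTop (nhds (∑' i, (θ i : ℝ) * (h' i : ℝ))) := by
  have hs' : Summable (fun i => (θ i : ℝ) * (h' i : ℝ)) :=
    Summable.of_norm_bounded hsum.abs (fun i => by
      rw [Real.norm_eq_abs, abs_mul, abs_mul]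
      exact mul_le_mul_of_nonneg_left (by simp only [Nat.abs_cast]; exact_mod_cast hle i) (abs_nonneg _))
  have hsplit : ∀ (F : Finset ι), (∑' i, if i ∈ F then (0 : ℝ) else (θ i : ℝ) * (h i : ℝ)) =
      (∑' i, (θ i : ℝ) * (h i : ℝ)) - ∑ i ∈ F, (θ i : ℝ) * (h i : ℝ) := by
    intro F
    have h1 : Summable (fun i => if i ∈ F then (θ i : ℝ) * (h i : ℝ) else 0) :=
      summable_of_ne_finset_zero (s := F) (fun i hi => if_neg hi)
    have h2 : (fun i => if i ∈ F then (0 : ℝ) else (θ i : ℝ) * (h i : ℝ)) =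
        fun i => (θ i : ℝ) * (h i : ℝ) - if i ∈ F then (θ i : ℝ) * (h i : ℝ) else 0 := by
      funext i; split_ifs <;> simp
    rw [h2, Summable.tsum_sub hsum h1, tsum_eq_sum (s := F) (f := fun i => if i ∈ F then (θ i : ℝ) * (h i : ℝ) else 0)
      (fun i hi => if_neg hi), Finset.sum_congr rfl (fun i hi => if_pos hi)]
  have hzero : Filter.Tendsto (fun D : Finset ι => (∑' i, if i ∈ D then (0 : ℝ) else (θ i : ℝ) * (h i : ℝ)))
      Filter.atTop (nhds 0) := by
    simp only [hsplit]
    rw [← sub_self (∑' i, (θ i : ℝ) * (h i : ℝ))]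
    exact tendsto_const_nhds.sub hsum.hasSum
  have hsmall : Filter.Tendsto (fun D : Finset ι =>
      ((∑' i, if i ∈ D then (0 : ℝ) else (θ i : ℝ) * (h i : ℝ)) / ((D \ hfin.toFinset).card : ℝ)) *
        ∑ i ∈ D \ hfin.toFinset, ((h' i : ℝ) / (h i : ℝ))) Filter.atTop (nhds 0) := by
    refine squeeze_zero_norm (fun D => ?_) (tendsto_zero_iff_norm_tendsto_zero.mp hzero)
    set S := ∑' i, if i ∈ D then (0 : ℝ) else (θ i : ℝ) * (h i : ℝ)
    rw [Real.norm_eq_abs, Real.norm_eq_abs, abs_mul, abs_div, Nat.abs_cast]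
    have h0 : 0 ≤ ∑ i ∈ D \ hfin.toFinset, ((h' i : ℝ) / (h i : ℝ)) :=
      Finset.sum_nonneg (fun i _ => by positivity)
    rw [abs_of_nonneg h0]
    have h1 : ∑ i ∈ D \ hfin.toFinset, ((h' i : ℝ) / (h i : ℝ)) ≤ ((D \ hfin.toFinset).card : ℝ) := by
      calc _ ≤ ∑ i ∈ D \ hfin.toFinset, (1 : ℝ) := Finset.sum_le_sum (fun i _ =>
            div_le_one_of_le₀ (by exact_mod_cast hle i) (Nat.cast_nonneg _))
        _ = _ := by simp
    calc |S| / ((D \ hfin.toFinset).card : ℝ) * ∑ i ∈ D \ hfin.toFinset, ((h' i : ℝ) / (h i : ℝ))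
        ≤ |S| / ((D \ hfin.toFinset).card : ℝ) * ((D \ hfin.toFinset).card : ℝ) :=
          mul_le_mul_of_nonneg_left h1 (by positivity)
      _ ≤ |S| := by
          rcases eq_or_ne ((D \ hfin.toFinset).card : ℝ) 0 with h2 | h2
          · rw [h2]; simp
          · rw [div_mul_cancel₀ _ h2]
  have := Filter.Tendsto.add hs'.hasSum hsmall
  simpa using this

end Groth.Agent.S16017
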