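import Groth.Statements.S16018
import Groth.Agent.GhConst.Basic
-- import your own Groth.Agent.* helpers here

set_option autoImplicit false
universe u v w x
open W4c3ghconstell

namespace Groth.Agent.S16018

/-- Let k be an algebraically closed field of characteristic zero, A a commutative Hopf algebra over k
which is a finitely generated domain and linearly reductive (the coordinate ring of a connected
reductive group G; irreducible representations of G are indexed by the simple subcoalgebras D of A),
R a Noetherian commutative k-algebra with a multiplicative A-coaction (an affine G-scheme X = Spec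
R), and M an R-module with a compatible A-coaction (a G-equivariant quasi-coherent module on X)
which is finite over R, is the sum of its isotypic components M_D, and has dim_k M_D = h(D) < ∞ for
every simple subcoalgebra D. Fix a weight θ from simple subcoalgebras to ℚ, negative at only
finitely many D, with Σ_D θ(D) h(D) = 0 (a convergent real series) and with θ(D) ≠ 0, h(D) ≠ 0 for
some D; the weight of a k-subspace N of M is the real series Σ_D θ(D) · dim_k (N ∩ M_D). Assume
moreover that θ(D) ≠ 0 for every simple subcoalgebra D. If M is θ-semistable, i.e. M has weight 0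
and every R-submodule of M stable under the coaction has weight ≥ 0, then M is generated as an
R-module by its isotypic components M_D with θ(D) < 0 (the generation property of θ-stable objects
thus extends to θ-semistable ones when θ vanishes nowhere). (Multiplicities are recorded as
dimensions of isotypic components, a rescaling of θ.) -/
theorem result (k : Type u) [Field k] [IsAlgClosed k] [CharZero k]
    (A : Type v) [CommRing A] [IsDomain A] [HopfAlgebra k A] [Algebra.FiniteType k A]
    (hred : HopfRep.IsLinearlyReductive k A)
    (R : Type w) [CommRing R] [Algebra k R] [IsNoetherianRing R] [HopfRep.Comod k A R] [GLin.IsCoactAlg k A R]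
    (M : Type x) [AddCommGroup M] [Module k M] [Module R M] [IsScalarTower k R M]
    [HopfRep.Comod k A M] [TameAct.IsHopfMod k A R M]
    (h : W4c3ghconstell.SimpSub k A → ℕ) (θ : W4c3ghconstell.SimpSub k A → ℚ)
    (hfin : {D | θ D < 0}.Finite) (hsum : HasSum (fun D => (θ D : ℝ) * (h D : ℝ)) 0)
    (hne : ∃ D, θ D ≠ 0 ∧ h D ≠ 0)
    (hM : W4c3ghconstell.IsConstellation k A R M h)
    (hθ : ∀ D, θ D ≠ 0)
    (hss : W4c3ghconstell.IsThetaSemistable k A R M θ) :
    W4c3ghconstell.genIn k A R M {D | θ D < 0} ⊤ = ⊤ := by
  have hfd := hM.2.2
  set N' := genIn k A R M {D | θ D < 0} ⊤ with hN'def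
  have hsc : HopfRep.IsSubcomod (k := k) (A := A) (N'.restrictScalars k) :=
    GhConst.isSubcomod_genIn _ GhConst.isSubcomod_top
  have heq : ∀ D, θ D < 0 → hilbAt M (N'.restrictScalars k) D = h D :=
    fun D hD => by rw [hilbAt, GhConst.genIn_inf_eq ⊤ (S := {D | θ D < 0}) hD,
      Submodule.restrictScalars_top, ← hilbAt, GhConst.hilbAt_top hfd]
  have hall : ∀ D, hilbAt M (N'.restrictScalars k) D = h D := fun D => by
    by_contra hne0
    have hpt : ∀ E, (θ E : ℝ) * (hilbAt M (N'.restrictScalars k) E : ℝ) ≤ (θ E : ℝ) * (h E : ℝ) := fun E => by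
      by_cases hE : θ E < 0
      · rw [heq E hE]
      · exact mul_le_mul_of_nonneg_left (Nat.cast_le.2 (GhConst.hilbAt_le hfd _ E))
          (by exact_mod_cast not_lt.1 hE)
    have hlt : (θ D : ℝ) * (hilbAt M (N'.restrictScalars k) D : ℝ) < (θ D : ℝ) * (h D : ℝ) := by
      have h2 : 0 < θ D := lt_of_le_of_ne (not_lt.1 fun e => hne0 (heq D e)) (Ne.symm (hθ D))
      exact mul_lt_mul_of_pos_left (Nat.cast_lt.2 (lt_of_le_of_ne (GhConst.hilbAt_le hfd _ D) hne0))
        (by exact_mod_cast h2)
    have := Summable.tsum_lt_tsum hpt hlt (GhConst.summable_theta hfd hsum.summable _) hsum.summable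
    rw [hsum.tsum_eq] at this
    exact absurd (hss.2 N' hsc) (not_le.2 this)
  rw [← top_le_iff]
  intro x _
  have : (⊤ : Submodule k M) ≤ N'.restrictScalars k :=
    hM.2.1 ▸ iSup_le fun D => GhConst.isoComp_le_of_hilbAt_eq hfd (hall D)
  exact this (Submodule.mem_top)

end Groth.Agent.S16018
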