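import Groth.Statements.S16046
import Mathlib

set_option autoImplicit false
universe u
open TensorProduct
open ValRing

namespace Groth.Agent.S16046

/-- Surjectivity assertion: let A ⊆ A' be valuation rings with fraction fields K ⊆ K', A' dominating A
and A dense in A' for the valuation topology, and L a finite extension of K; put L' = K' ⊗_K L. Then
every element of L' modulo its nilradical which is integral over A' is a finite sum Σ a'ᵢ·lᵢ with
a'ᵢ ∈ A' and lᵢ ∈ L integral over A. (The published statement also identifies the kernel of the map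
from the tensor product with the nilradical; that part is not stated here.) -/
theorem result
    (A K L A' K' : Type u) [CommRing A] [IsDomain A] [ValuationRing A] [Field K] [Algebra A K] [IsFractionRing A K]
    [Field L] [Algebra K L] [FiniteDimensional K L] [Algebra A L] [IsScalarTower A K L]
    [CommRing A'] [IsDomain A'] [ValuationRing A'] [Field K'] [Algebra A' K'] [IsFractionRing A' K']
    [Algebra A A'] [IsLocalHom (algebraMap A A')] (hinj : Function.Injective (algebraMap A A'))
    [Algebra K K'] [Algebra A K'] [IsScalarTower A A' K'] [IsScalarTower A K K']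
    (hdense : ∀ a' b' : A', b' ≠ 0 → ∃ a : A, b' ∣ a' - algebraMap A A' a)
    (x : (K' ⊗[K] L) ⧸ nilradical (K' ⊗[K] L))
    (hx : ((Ideal.Quotient.mk (nilradical (K' ⊗[K] L))).comp
            ((Algebra.TensorProduct.includeLeft : K' →ₐ[K] K' ⊗[K] L).toRingHom.comp (algebraMap A' K'))).IsIntegralElem x) :
    ∃ (n : ℕ) (a : Fin n → A') (l : Fin n → L), (∀ i, IsIntegral A (l i)) ∧
      x = Ideal.Quotient.mk (nilradical (K' ⊗[K] L)) (∑ i, algebraMap A' K' (a i) ⊗ₜ[K] l i) := by
  classical
  let q := Ideal.Quotient.mk (nilradical (K' ⊗[K] L))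
  have hAK : Function.Injective (algebraMap A K) := IsFractionRing.injective A K
  obtain ⟨z, rfl⟩ := Ideal.Quotient.mk_surjective x
  -- integral multiples of a basis
  let b := Module.finBasis K L
  haveI : Algebra.IsAlgebraic K L := Algebra.IsAlgebraic.of_finite K L
  have hmul : ∀ l : L, ∃ a : A, a ≠ 0 ∧ IsIntegral A (algebraMap A L a * l) := by
    intro l
    obtain ⟨⟨a, ha⟩, h⟩ := IsIntegral.exists_multiple_integral_of_isLocalization (nonZeroDivisors A) l
      (Algebra.IsIntegral.isIntegral (R := K) l)
    exact ⟨a, nonZeroDivisors.ne_zero ha, by rw [← Algebra.smul_def]; exact h⟩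
  choose sa hsa hsi using fun i => hmul (b i)
  let e : Fin (Module.finrank K L) → L := fun i => algebraMap A L (sa i) * b i
  have hne : ∀ i, algebraMap A K (sa i) ≠ 0 := fun i h => hsa i (hAK (h.trans (map_zero _).symm))
  obtain ⟨c, hz⟩ : ∃ c : Fin (Module.finrank K L) → K', z = ∑ i, c i ⊗ₜ[K] e i := by
    refine ⟨fun i => (Algebra.TensorProduct.basis K' b).repr z i * algebraMap K K' (algebraMap A K (sa i))⁻¹, ?_⟩
    conv_lhs => rw [← (Algebra.TensorProduct.basis K' b).sum_repr z]
    refine Finset.sum_congr rfl fun i _ => ?_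
    rw [Algebra.TensorProduct.basis_apply, TensorProduct.smul_tmul', smul_eq_mul, mul_one]
    show _ = _ ⊗ₜ[K] (algebraMap A L (sa i) * b i)
    rw [IsScalarTower.algebraMap_apply A K L, ← Algebra.smul_def, TensorProduct.tmul_smul,
      TensorProduct.smul_tmul', Algebra.smul_def, mul_left_comm, ← map_mul, mul_inv_cancel₀ (hne i),
      map_one, mul_one]
  -- a common denominator in `A`
  have hden : ∀ u : K', ∃ d : A, d ≠ 0 ∧ ∃ a' : A', algebraMap A' K' a' = algebraMap A K' d * u := by
    intro u
    obtain ⟨x', y', hy', hxy⟩ := IsFractionRing.div_surjective A' u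
    have hy0 : y' ≠ 0 := nonZeroDivisors.ne_zero hy'
    have hyK : algebraMap A' K' y' ≠ 0 := fun h => hy0 (IsFractionRing.injective A' K' (h.trans (map_zero _).symm))
    by_cases hu : IsUnit y'
    · obtain ⟨v, hv⟩ := hu
      refine ⟨1, one_ne_zero, x' * (↑v⁻¹ : A'), ?_⟩
      rw [map_one, one_mul, ← hxy, eq_div_iff hyK, ← map_mul, mul_assoc, ← hv, Units.inv_mul, mul_one]
    · obtain ⟨a, w, hw⟩ := hdense y' (y' * y') (mul_ne_zero hy0 hy0)
      have ha : algebraMap A A' a = y' * (1 - y' * w) := by linear_combination -hw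
      have hne' : (1 - y' * w) ≠ 0 := fun h => hu (IsUnit.of_mul_eq_one w (sub_eq_zero.mp h).symm)
      refine ⟨a, fun h => mul_ne_zero hy0 hne' (by rw [← ha, h, map_zero]), x' * (1 - y' * w), ?_⟩
      rw [IsScalarTower.algebraMap_apply A A' K', ha, ← hxy, map_mul, map_mul]
      field_simp
  choose dd hdd a' ha' using fun i => hden (c i)
  set d : A := ∏ i, dd i with hd
  have hd0 : d ≠ 0 := Finset.prod_ne_zero_iff.mpr fun i _ => hdd i
  have hd' : algebraMap A A' d ≠ 0 := fun h => hd0 (hinj (h.trans (map_zero _).symm))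
  have hc : ∀ i, ∃ (a : A) (t : A'), c i = algebraMap K K' (algebraMap A K a / algebraMap A K d) + algebraMap A' K' t := by
    intro i
    set m : A := ∏ j ∈ Finset.univ.erase i, dd j with hm
    obtain ⟨a, t, ht⟩ := hdense (algebraMap A A' m * a' i) (algebraMap A A' d) hd'
    refine ⟨a, t, ?_⟩
    have hdm : d = dd i * m := (Finset.mul_prod_erase _ _ (Finset.mem_univ i)).symm
    have h1 : algebraMap A K' d * c i = algebraMap A K' a + algebraMap A K' d * algebraMap A' K' t := by
      have h2 : algebraMap A A' m * a' i = algebraMap A A' a + algebraMap A A' d * t := by linear_combination ht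
      have h3 := congrArg (algebraMap A' K') h2
      rw [map_mul, map_add, map_mul, ha', ← IsScalarTower.algebraMap_apply, ← IsScalarTower.algebraMap_apply,
        ← IsScalarTower.algebraMap_apply] at h3
      rw [← h3, hdm, map_mul]
      ring
    have hdK : algebraMap A K' d ≠ 0 := by
      rw [IsScalarTower.algebraMap_apply A A' K']
      exact fun h => hd' (IsFractionRing.injective A' K' (h.trans (map_zero _).symm))
    rw [map_div₀, ← IsScalarTower.algebraMap_apply, ← IsScalarTower.algebraMap_apply]
    field_simp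
    linear_combination h1
  choose aa tt hct using hc
  set y : L := ∑ i, (algebraMap A K (aa i) / algebraMap A K d) • e i with hy
  have hz' : z = (1 : K') ⊗ₜ[K] y + ∑ i, algebraMap A' K' (tt i) ⊗ₜ[K] e i := by
    rw [hz, hy, TensorProduct.tmul_sum, ← Finset.sum_add_distrib]
    refine Finset.sum_congr rfl fun i _ => ?_
    rw [hct i, TensorProduct.add_tmul, TensorProduct.tmul_smul, TensorProduct.smul_tmul', Algebra.smul_def, mul_one]
  let f : A' →+* (K' ⊗[K] L) ⧸ nilradical (K' ⊗[K] L) :=
    q.comp ((Algebra.TensorProduct.includeLeft : K' →ₐ[K] K' ⊗[K] L).toRingHom.comp (algebraMap A' K'))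
  letI : Algebra A' ((K' ⊗[K] L) ⧸ nilradical (K' ⊗[K] L)) := f.toAlgebra
  have hint : ∀ i, IsIntegral A' (q (algebraMap A' K' (tt i) ⊗ₜ[K] e i)) := by
    intro i
    have h1 : algebraMap A' K' (tt i) ⊗ₜ[K] e i =
        (Algebra.TensorProduct.includeLeft : K' →ₐ[K] K' ⊗[K] L).toRingHom (algebraMap A' K' (tt i)) *
          (Algebra.TensorProduct.includeRight : L →ₐ[K] K' ⊗[K] L).toRingHom (e i) := by simp
    rw [h1, map_mul]
    refine IsIntegral.mul (isIntegral_algebraMap (R := A') (x := tt i)) ?_
    obtain ⟨p, hp, hpe⟩ := hsi i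
    refine ⟨p.map (algebraMap A A'), hp.map _, ?_⟩
    have hcomp : f.comp (algebraMap A A') =
        (q.comp (Algebra.TensorProduct.includeRight : L →ₐ[K] K' ⊗[K] L).toRingHom).comp (algebraMap A L) := by
      refine RingHom.ext fun r => congrArg q ?_
      show (algebraMap A' K' (algebraMap A A' r)) ⊗ₜ[K] (1 : L) = (1 : K') ⊗ₜ[K] algebraMap A L r
      rw [← IsScalarTower.algebraMap_apply, IsScalarTower.algebraMap_apply A K K',
        IsScalarTower.algebraMap_apply A K L]
      generalize algebraMap A K r = s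
      rw [Algebra.algebraMap_eq_smul_one, Algebra.algebraMap_eq_smul_one, TensorProduct.smul_tmul]
    rw [RingHom.algebraMap_toAlgebra, Polynomial.eval₂_map, hcomp]
    show Polynomial.eval₂ _ ((q.comp (Algebra.TensorProduct.includeRight : L →ₐ[K] K' ⊗[K] L).toRingHom) (e i)) p = 0
    rw [← Polynomial.hom_eval₂, hpe, map_zero]
  have hyint : IsIntegral A' (q ((1 : K') ⊗ₜ[K] y)) := by
    have : q ((1 : K') ⊗ₜ[K] y) = q z - ∑ i, q (algebraMap A' K' (tt i) ⊗ₜ[K] e i) := by
      rw [hz', map_add, map_sum, add_sub_cancel_right]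
    rw [this]
    exact IsIntegral.sub hx (IsIntegral.sum _ fun i _ => hint i)
  have hyA : IsIntegral A y := by
    obtain ⟨g, hg, hgy⟩ := hyint
    set μ := minpoly K y with hμdef
    have hμ : μ.Monic := minpoly.monic (Algebra.IsIntegral.isIntegral y)
    set inl := (Algebra.TensorProduct.includeLeft : K' →ₐ[K] K' ⊗[K] L).toRingHom
    set Y : K' ⊗[K] L := (1 : K') ⊗ₜ[K] y
    have hnil : IsNilpotent (Polynomial.eval₂ (inl.comp (algebraMap A' K')) Y g) := by
      rw [← mem_nilradical, ← Ideal.Quotient.eq_zero_iff_mem, ← hgy, Polynomial.hom_eval₂]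
      rfl
    obtain ⟨N, hN⟩ := hnil
    set G := (g ^ N).map (algebraMap A' K') with hGdef
    have hG : Polynomial.aeval Y G = 0 := by
      rw [Polynomial.aeval_def, hGdef, Polynomial.eval₂_map, Polynomial.eval₂_pow]
      exact hN
    set μ' := μ.map (algebraMap K K') with hμ'def
    have hμ' : μ'.Monic := hμ.map _
    have hμY : Polynomial.aeval Y μ' = 0 := by
      rw [hμ'def, Polynomial.aeval_map_algebraMap]
      show Polynomial.aeval ((Algebra.TensorProduct.includeRight : L →ₐ[K] K' ⊗[K] L) y) μ = 0
      rw [Polynomial.aeval_algHom_apply, hμdef, minpoly.aeval, map_zero]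
    have hdiv : μ' ∣ G := by
      rw [← Polynomial.modByMonic_eq_zero_iff_dvd hμ']
      set r := G %ₘ μ' with hr
      have hrY : Polynomial.aeval Y r = 0 := by
        rw [hr, Polynomial.aeval_modByMonic_eq_self_of_root hμY, hG]
      have hdeg : r.degree < μ'.natDegree :=
        (Polynomial.degree_modByMonic_lt G hμ').trans_le Polynomial.degree_le_natDegree
      rw [hμ'def, hμ.natDegree_map] at hdeg
      by_contra hr0
      have hnd : r.natDegree < μ.natDegree := (Polynomial.natDegree_lt_iff_degree_lt hr0).mpr hdeg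
      let P : (Fin μ.natDegree → K) →ₗ[K] L := Fintype.linearCombination K fun i : Fin μ.natDegree => y ^ (i : ℕ)
      have hP : LinearMap.ker P = ⊥ := by
        rw [LinearMap.ker_eq_bot']
        exact fun v hv => funext (Fintype.linearIndependent_iff.mp (linearIndependent_pow (K := K) y) v hv)
      obtain ⟨R', hR'⟩ := P.exists_leftInverse_of_injective hP
      apply hr0
      refine Polynomial.ext fun j => ?_
      rw [Polynomial.coeff_zero]
      rcases lt_or_ge j μ.natDegree with hj | hj
      · let π : L →ₗ[K] K := (LinearMap.proj (⟨j, hj⟩ : Fin μ.natDegree)).comp R'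
        have hπ : ∀ i : ℕ, i < μ.natDegree → π (y ^ i) = if i = j then 1 else 0 := by
          intro i hi
          have h1 : P (Pi.single (⟨i, hi⟩ : Fin μ.natDegree) 1) = y ^ i := by
            simp [P, Fintype.linearCombination_apply, Pi.single_apply]
          rw [← h1]
          show R' (P _) _ = _
          rw [show R' (P (Pi.single (⟨i, hi⟩ : Fin μ.natDegree) 1)) = Pi.single (⟨i, hi⟩ : Fin μ.natDegree) 1 from LinearMap.congr_fun hR' _,
            Pi.single_apply]
          simp [Fin.ext_iff, eq_comm]
        rw [Polynomial.aeval_eq_sum_range' (n := μ.natDegree) hnd] at hrY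
        have h2 := congrArg (fun w => TensorProduct.rid K K' (LinearMap.lTensor K' π w)) hrY
        simp only [map_sum, map_zero] at h2
        rw [Finset.sum_eq_single j] at h2
        · simpa [Y, Algebra.TensorProduct.tmul_pow, TensorProduct.smul_tmul', hπ j hj] using h2
        · intro i hi hij
          simp [Y, Algebra.TensorProduct.tmul_pow, TensorProduct.smul_tmul', hπ i (Finset.mem_range.mp hi), hij]
        · intro h; exact absurd (Finset.mem_range.mpr hj) h
      · exact Polynomial.coeff_eq_zero_of_natDegree_lt (hnd.trans_le hj)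
    have hcoef : ∀ j, μ.coeff j ∈ Set.range (algebraMap A K) := by
      intro j
      have h1 : IsIntegral A' (μ'.coeff j) := Polynomial.isIntegral_coeff_of_dvd _ _ (hg.pow N) hμ' hdiv j
      obtain ⟨a₁, ha₁⟩ := IsIntegrallyClosed.algebraMap_eq_of_integral h1
      rw [hμ'def, Polynomial.coeff_map] at ha₁
      by_cases h0 : μ.coeff j = 0
      · exact ⟨0, by rw [map_zero, h0]⟩
      rcases ValuationRing.isInteger_or_isInteger A (μ.coeff j) with ⟨a, ha⟩ | ⟨a, ha⟩
      · exact ⟨a, ha⟩
      · have h2 : algebraMap A A' a * a₁ = 1 := by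
          apply IsFractionRing.injective A' K'
          rw [map_mul, map_one, ha₁, ← IsScalarTower.algebraMap_apply, IsScalarTower.algebraMap_apply A K K',
            ha, ← map_mul, inv_mul_cancel₀ h0, map_one]
        obtain ⟨v, hv⟩ := IsUnit.of_map (algebraMap A A') a (IsUnit.of_mul_eq_one a₁ h2)
        refine ⟨↑v⁻¹, ?_⟩
        have h3 : algebraMap A K ↑v⁻¹ * (μ.coeff j)⁻¹ = 1 := by
          rw [← ha, ← map_mul, ← hv, Units.inv_mul, map_one]
        exact (mul_inv_eq_one₀ h0).mp h3
    obtain ⟨p, hp, -, hpm⟩ := Polynomial.lifts_and_degree_eq_and_monic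
      ((Polynomial.lifts_iff_coeff_lifts μ).mpr hcoef) hμ
    refine ⟨p, hpm, ?_⟩
    rw [← Polynomial.aeval_def, ← Polynomial.aeval_map_algebraMap K y p, hp]
    exact minpoly.aeval K y
  refine ⟨_, Fin.cons 1 tt, Fin.cons y e, Fin.cases hyA (fun i => hsi i), ?_⟩
  rw [Fin.sum_univ_succ]
  simp only [Fin.cons_zero, Fin.cons_succ, map_one]
  rw [← hz']
end Groth.Agent.S16046
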