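import Groth.Statements.S16072
import Mathlib.RingTheory.Idempotents

set_option autoImplicit false
universe u
open Hopf

namespace Groth.Agent.S16072

theorem idem_eq {R : Type u} [CommRing R] {A : Type*} [CommRing A] [Algebra R A] (ε : A →ₐ[R] R)
    (hnil : ∀ a, ε a = 0 → IsNilpotent a) {e : A} (he : IsIdempotentElem e) : e = algebraMap R A (ε e) := by
  have h1 : IsIdempotentElem (algebraMap R A (ε e)) := (he.map ε).map _
  refine eq_of_isNilpotent_sub_of_isIdempotentElem he h1 (hnil _ ?_)
  simp


/-- Let p be a prime and R a commutative ring of characteristic p (p = 0 in R, R nonzero). Then the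
constant group scheme ℤ/p and the group scheme μ_p of p-th roots of unity over Spec R are not
isomorphic: there is no R-bialgebra isomorphism between the Hopf algebra Maps(ℤ/p, R) of functions
on the cyclic group of order p and the group algebra R[ℤ/p]. (Any nonzero commutative base ring of
characteristic p is allowed. The published statement allows any ring R with p·R = 0; over the zero
ring both Hopf algebras are the zero ring and hence isomorphic, so R is assumed nonzero here.) -/
theorem result (p : ℕ) [Fact p.Prime] (R : Type u) [CommRing R]
    [CharP R p] :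
    IsEmpty (ConstGrp.F R (Multiplicative (ZMod p)) ≃ₐc[R] MonoidAlgebra R (Multiplicative (ZMod p))) := by
  refine ⟨fun f => ?_⟩
  haveI : CharP (MonoidAlgebra R (Multiplicative (ZMod p))) p :=
    charP_of_injective_algebraMap (R := R) (fun a b h => by
      have h2 := congrArg (Bialgebra.counitAlgHom R (MonoidAlgebra R (Multiplicative (ZMod p)))) h
      rwa [AlgHom.commutes, AlgHom.commutes, Algebra.algebraMap_self_apply, Algebra.algebraMap_self_apply] at h2) p
  have hnil : ∀ a : MonoidAlgebra R (Multiplicative (ZMod p)), Bialgebra.counitAlgHom R _ a = 0 → IsNilpotent a := by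
    intro a ha
    have hz : ∀ a : MonoidAlgebra R (Multiplicative (ZMod p)),
        a ^ p = algebraMap R _ (Bialgebra.counitAlgHom R _ a ^ p) := by
      intro a
      induction a using MonoidAlgebra.induction_on with
      | of g =>
        rw [← map_pow (MonoidAlgebra.of R (Multiplicative (ZMod p))), show g ^ p = 1 from Multiplicative.toAdd.injective (by simp), map_one,
          show Bialgebra.counitAlgHom R _ (MonoidAlgebra.of R (Multiplicative (ZMod p)) g) = 1 by simp, one_pow, map_one]
      | add x y hx hy => rw [add_pow_char, hx, hy, map_add, add_pow_char, map_add]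
      | smul r x hx => rw [smul_pow, hx, map_smul, smul_pow, Algebra.smul_def, ← map_pow, ← map_mul, smul_eq_mul]
    exact ⟨p, by rw [hz, ha, zero_pow (Fact.out : p.Prime).ne_zero, map_zero]⟩
  let g : Multiplicative (ZMod p) := Multiplicative.ofAdd 1
  have he : IsIdempotentElem (f (ConstGrp.e R g)) := IsIdempotentElem.map (by
    show _ * _ = _
    rw [ConstGrp.e_mul_e, if_pos rfl]) f
  have h := idem_eq (Bialgebra.counitAlgHom R _) hnil he
  rw [← AlgHomClass.commutes f] at h
  have h2 := f.injective h
  have h0 := congrArg (fun z => z (1 : Multiplicative (ZMod p))) h2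
  have h1 := congrArg (fun z => z g) h2
  have hg : (1 : Multiplicative (ZMod p)) ≠ g := by simp [g, eq_comm (a := (1 : Multiplicative (ZMod p)))]
  simp only [ConstGrp.e_apply_self, ConstGrp.e_apply_of_ne hg, ConstGrp.algebraMap_apply] at h0 h1
  haveI := CharP.nontrivial_of_char_ne_one (R := R) (Fact.out : p.Prime).ne_one
  exact absurd (h1.trans h0.symm) one_ne_zero

end Groth.Agent.S16072
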