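import Groth.Statements.S16073
import Mathlib.RingTheory.Idempotents

set_option autoImplicit false
universe u
open Hopf

namespace Groth.Agent.S16073

theorem idem_eq {R : Type u} [CommRing R] {A : Type*} [CommRing A] [Algebra R A] (ε : A →ₐ[R] R)
    (hnil : ∀ a, ε a = 0 → IsNilpotent a) {e : A} (he : IsIdempotentElem e) : e = algebraMap R A (ε e) := by
  have h1 : IsIdempotentElem (algebraMap R A (ε e)) := (he.map ε).map _
  refine eq_of_isNilpotent_sub_of_isIdempotentElem he h1 (hnil _ ?_)
  simp


/-- Let p be a prime and R a commutative ring of characteristic p (p = 0 in R, R nonzero). Then the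
constant group scheme ℤ/p and α_p over Spec R are not isomorphic: there is no R-bialgebra
isomorphism between the Hopf algebra Maps(ℤ/p, R) of functions on the cyclic group of order p and
the Hopf algebra R[X]/(X^p) of α_p (X primitive). (Any nonzero commutative base ring of
characteristic p is allowed. The published statement allows any ring R with p·R = 0; over the zero
ring both Hopf algebras are the zero ring and hence isomorphic, so R is assumed nonzero here.) -/
theorem result (p : ℕ) [Fact p.Prime] (R : Type u) [CommRing R] [CharP R p] :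
    IsEmpty (ConstGrp.F R (Multiplicative (ZMod p)) ≃ₐc[R] AlphaP.A p R) := by
  refine ⟨fun f => ?_⟩
  have hnil : ∀ a : AlphaP.A p R, Bialgebra.counitAlgHom R _ a = 0 → IsNilpotent a := by
    intro a ha
    obtain ⟨P, rfl⟩ := AlphaP.mk_surjective p R a
    rw [AlphaP.counitAlgHom_eq, ← AlphaP.aeval_x, ← Polynomial.aeval_algHom_apply, AlphaP.counitAlg_x,
      Polynomial.coe_aeval_eq_eval, ← Polynomial.coeff_zero_eq_eval_zero] at ha
    obtain ⟨Q, rfl⟩ := Polynomial.X_dvd_iff.2 ha
    rw [map_mul, AlphaP.mk_X]
    exact Commute.isNilpotent_mul_right (Commute.all _ _) ⟨p, AlphaP.x_pow p R⟩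
  let g : Multiplicative (ZMod p) := Multiplicative.ofAdd 1
  have he : IsIdempotentElem (f (ConstGrp.e R g)) := IsIdempotentElem.map (by
    show _ * _ = _
    rw [ConstGrp.e_mul_e, if_pos rfl]) f
  have h := idem_eq (Bialgebra.counitAlgHom R _) hnil he
  rw [← AlgHomClass.commutes f] at h
  have h2 := f.injective h
  have h0 := congrArg (fun z => z (1 : Multiplicative (ZMod p))) h2
  have h1 := congrArg (fun z => z g) h2
  have hg : (1 : Multiplicative (ZMod p)) ≠ g := by simp [g, eq_comm (a := (1 : Multiplicative (ZMod p)))]
  simp only [ConstGrp.e_apply_self, ConstGrp.e_apply_of_ne hg, ConstGrp.algebraMap_apply] at h0 h1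
  haveI := CharP.nontrivial_of_char_ne_one (R := R) (Fact.out : p.Prime).ne_one
  exact absurd (h1.trans h0.symm) one_ne_zero

end Groth.Agent.S16073
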