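import Groth.Statements.S16074

set_option autoImplicit false
universe u
open Hopf

namespace Groth.Agent.S16074

/-- Let p be a prime and R a commutative ring of characteristic p (p = 0 in R, R nonzero). Then μ_p and
α_p over Spec R are not isomorphic: there is no R-bialgebra isomorphism between the group algebra
R[ℤ/p] of the cyclic group of order p (group elements group-like) and the Hopf algebra R[X]/(X^p) of
α_p (X primitive), although the underlying R-algebras R[ℤ/p] = R[Y]/(Y^p) and R[X]/(X^p) are
isomorphic. (Any nonzero commutative base ring of characteristic p is allowed. The published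
statement allows any ring R with p·R = 0; over the zero ring both Hopf algebras are the zero ring
and hence isomorphic, so R is assumed nonzero here.) -/
theorem result (p : ℕ) [Fact p.Prime] (R : Type u) [CommRing R] [CharP R p] :
    IsEmpty (MonoidAlgebra R (Multiplicative (ZMod p)) ≃ₐc[R] AlphaP.A p R) := by
  refine ⟨fun f => ?_⟩
  classical
  haveI := CharP.nontrivial_of_char_ne_one (R := R) (Fact.out : p.Prime).ne_one
  let G := Multiplicative (ZMod p)
  let u : MonoidAlgebra R G := f.symm (AlphaP.x p R)
  have hu : Coalgebra.comul (R := R) u = u ⊗ₜ[R] (1 : MonoidAlgebra R G) + (1 : MonoidAlgebra R G) ⊗ₜ[R] u := by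
    rw [← CoalgHomClass.map_comp_comul_apply f.symm, AlphaP.comul_x]
    simp [u]
  have hx : AlphaP.x p R ≠ 0 := by
    intro h
    refine (AlphaP.basis p R).ne_zero ⟨1, (Fact.out : p.Prime).one_lt⟩ ?_
    simpa using h
  refine hx ?_
  have : u = 0 := by
    let b := (MonoidAlgebra.basis G R).tensorProduct (MonoidAlgebra.basis G R)
    refine MonoidAlgebra.ext (Finsupp.ext fun g => ?_)
    have h := congrArg (fun z => b.repr z (g, g)) hu
    have key : ∀ v : MonoidAlgebra R G, b.repr (Coalgebra.comul (R := R) v) (g, g) = v.coeff g := by
      intro v
      induction v using MonoidAlgebra.induction_on with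
      | of h => simp [b, MonoidAlgebra.of_apply, MonoidAlgebra.comul_single, MonoidAlgebra.basis, Finsupp.single_apply]
      | add x y hx hy => simp [map_add, hx, hy]
      | smul r x hx => simp [hx]
    simp only [key, map_add] at h
    by_cases hg : g = 1
    · subst hg
      simpa [b, MonoidAlgebra.one_def, MonoidAlgebra.basis] using h
    · simpa [b, MonoidAlgebra.one_def, MonoidAlgebra.basis, Finsupp.single_apply, Ne.symm hg] using h
  simpa [u] using congrArg f this

end Groth.Agent.S16074
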