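import Groth.Statements.S16075
import Mathlib.Algebra.CharP.Invertible

set_option autoImplicit false
universe u
open Hopf

namespace Groth.Agent.S16075

theorem primitive_eq (p : ℕ) [Fact p.Prime] (T : Type u) [CommRing T] [CharP T p] [Nontrivial T] (a : AlphaP.A p T)
    (ha : Coalgebra.comul (R := T) a = a ⊗ₜ[T] (1 : AlphaP.A p T) + (1 : AlphaP.A p T) ⊗ₜ[T] a) :
    ∃ c : T, a = c • AlphaP.x p T := by
  have hp : p.Prime := Fact.out
  let i1 : Fin p := ⟨1, hp.one_lt⟩
  let b := AlphaP.basis p T
  let φ : AlphaP.A p T →ₗ[T] T := b.coord i1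
  have hφ : ∀ n, n < p → φ (AlphaP.x p T ^ n) = if n = 1 then 1 else 0 := fun n hn => by
    rw [show AlphaP.x p T ^ n = b ⟨n, hn⟩ by simp [b]]
    simp [φ, Finsupp.single_apply, i1, Fin.ext_iff]
  let D : AlphaP.A p T →ₗ[T] AlphaP.A p T :=
    ((TensorProduct.lid T _).toLinearMap.comp (φ.rTensor _)).comp Coalgebra.comul
  have hD : ∀ n, n < p → D (AlphaP.x p T ^ n) = (n : T) • AlphaP.x p T ^ (n - 1) := by
    intro n hn
    rcases Nat.eq_zero_or_pos n with rfl | hn0
    · have := hφ 0 hp.pos
      simp_all [D, Bialgebra.comul_one, Algebra.TensorProduct.one_def]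
    simp only [D, LinearMap.comp_apply, Bialgebra.comul_pow, AlphaP.comul_x, add_pow, map_sum]
    rw [Finset.sum_eq_single 1]
    · simp [Algebra.TensorProduct.tmul_pow, ← Nat.cast_comm, ← nsmul_eq_mul, hφ 1 hp.one_lt, Nat.cast_smul_eq_nsmul]
      rw [show φ (AlphaP.x p T) = 1 by simpa using hφ 1 hp.one_lt, one_smul]
    · intro i hi hne
      have hi' : i < p := lt_of_le_of_lt (Nat.lt_succ_iff.1 (Finset.mem_range.1 hi)) hn
      simp [Algebra.TensorProduct.tmul_pow, ← Nat.cast_comm, ← nsmul_eq_mul, hφ i hi', hne]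
    · intro h
      exact absurd (Finset.mem_range.2 (show 1 < n + 1 by omega)) h
  have hDa : D a = φ a • (1 : AlphaP.A p T) := by
    have h1 := hφ 0 hp.pos
    simp only [pow_zero, zero_ne_one, if_false] at h1
    simp [D, ha, h1]
  have hrepr : a = ∑ i : Fin p, b.repr a i • AlphaP.x p T ^ (i : ℕ) := by
    conv_lhs => rw [← b.sum_repr a]
    exact Finset.sum_congr rfl fun i _ => by simp [b]
  have h := hDa
  rw [hrepr, map_sum] at h
  have key : ∀ j : Fin p, 1 < (j : ℕ) → b.repr a j = 0 := by
    intro j hj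
    have h2 := congrArg (fun z => b.coord ⟨(j : ℕ) - 1, by omega⟩ z) h
    have e : ∀ (i : Fin p) (r : ℕ) (hr : r < p), b.coord ⟨r, hr⟩ (D (AlphaP.x p T ^ (i : ℕ))) =
        if (i : ℕ) = r + 1 then ((i : ℕ) : T) else 0 := by
      intro i r hr
      rw [hD i i.2, map_smul, show AlphaP.x p T ^ ((i : ℕ) - 1) = b ⟨(i : ℕ) - 1, by omega⟩ by simp [b]]
      simp only [Module.Basis.coord_apply, Module.Basis.repr_self, Finsupp.single_apply, Fin.ext_iff, smul_eq_mul, mul_ite, mul_one, mul_zero]
      split_ifs <;> first | rfl | omega | skip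
      · have : (i : ℕ) = 0 := by omega
        simp [this]
    simp only [map_sum, map_smul, e, smul_eq_mul] at h2
    rw [Finset.sum_eq_single j (fun i _ hij => by rw [if_neg (fun he => hij (Fin.ext (by omega))), mul_zero]) (by simp),
      if_pos (by omega), show (1 : AlphaP.A p T) = b ⟨0, hp.pos⟩ by simp [b], Module.Basis.coord_apply,
      Module.Basis.repr_self, Finsupp.single_apply, if_neg (by simp [Fin.ext_iff]; omega), mul_zero] at h2
    exact (((CharP.isUnit_natCast_iff hp).2 (Nat.not_dvd_of_pos_of_lt (by omega) j.2)).mul_left_eq_zero).1 h2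
  refine ⟨b.repr a i1, ?_⟩
  have h0 : b.repr a ⟨0, hp.pos⟩ = 0 := by
    have hε := congrArg (fun z => TensorProduct.lid T _ z) (Coalgebra.rTensor_counit_comul (R := T) a)
    simp [ha] at hε
    have h4 := congrArg (Coalgebra.counit (R := T)) hε
    simp at h4
    rw [hrepr, map_sum, Finset.sum_eq_single ⟨0, hp.pos⟩] at h4
    · simpa using h4
    · intro i _ hi
      have : (i : ℕ) ≠ 0 := fun h => hi (Fin.ext h)
      simp [Bialgebra.counit_pow, zero_pow this]
    · simp
  conv_lhs => rw [hrepr]
  rw [Finset.sum_eq_single i1]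
  · simp [i1]
  · intro i _ hi
    rcases Nat.lt_trichotomy (i : ℕ) 1 with h' | h' | h'
    · rw [show i = ⟨0, hp.pos⟩ from Fin.ext (by simpa using h'), h0, zero_smul]
    · exact absurd (Fin.ext h') hi
    · rw [key i h', zero_smul]
  · simp


/-- Let p be a prime, T a commutative ring of characteristic p (p = 0 in T, T nonzero) and A =
T[X]/(X^p) the Hopf algebra of α_p over Spec T, with X primitive. Then the endomorphisms of the
T-group α_{p,T} are exactly the scalings: every T-bialgebra endomorphism f of A has f(X) = λ·X for a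
unique λ ∈ T, and for every λ ∈ T there is a T-bialgebra endomorphism f of A with f(X) = λ·X. So the
endomorphisms of α_{p,T} correspond bijectively to the elements of T. (Only this bijection is
stated; that it turns addition and composition of endomorphisms into addition and multiplication in
T, and its naturality in T, are not stated here. The zero ring, allowed as T in the published
statement, is excluded by the characteristic hypothesis here.) -/
theorem result (p : ℕ) [Fact p.Prime] (T : Type u) [CommRing T] [CharP T p] :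
    (∀ f : AlphaP.A p T →ₐc[T] AlphaP.A p T, ∃! c : T, f (AlphaP.x p T) = c • AlphaP.x p T) ∧
      (∀ c : T, ∃ f : AlphaP.A p T →ₐc[T] AlphaP.A p T, f (AlphaP.x p T) = c • AlphaP.x p T) := by
  haveI := CharP.nontrivial_of_char_ne_one (R := T) (Fact.out : p.Prime).ne_one
  refine ⟨fun f => ?_, fun c => ?_⟩
  · obtain ⟨c, hc⟩ := primitive_eq p T (f (AlphaP.x p T)) (by
      rw [← CoalgHomClass.map_comp_comul_apply f, AlphaP.comul_x]; simp)
    refine ⟨c, hc, fun d hd => ?_⟩
    have h := congrArg ((AlphaP.basis p T).coord ⟨1, (Fact.out : p.Prime).one_lt⟩) (hd.symm.trans hc)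
    rw [show AlphaP.x p T = AlphaP.basis p T ⟨1, (Fact.out : p.Prime).one_lt⟩ by simp] at h
    simp only [map_smul, Module.Basis.coord_apply, Module.Basis.repr_self, Finsupp.single_eq_same, smul_eq_mul, mul_one] at h
    exact h
  · refine ⟨BialgHom.ofAlgHom (AlphaP.lift p T (c • AlphaP.x p T) (by rw [smul_pow, AlphaP.x_pow, smul_zero])) ?_ ?_, ?_⟩
    · apply AlphaP.algHom_ext
      simp [AlphaP.counitAlgHom_eq]
    · apply AlphaP.algHom_ext
      simp [AlphaP.comulAlgHom_eq, TensorProduct.smul_tmul']
    · simp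

end Groth.Agent.S16075
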