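import Groth.Statements.S16077
import Mathlib

set_option autoImplicit false
universe u
open CAlg

namespace Groth.Agent.S16077

open MvPolynomial

/-- The ideal `(X_i ^ a_i)`. -/
noncomputable abbrev J (k : Type u) [CommRing k] {r : ℕ} (a : Fin r → ℕ) : Ideal (MvPolynomial (Fin r) k) :=
  Ideal.span (Set.range fun i => (X i : MvPolynomial (Fin r) k) ^ a i)

theorem mem_J (k : Type u) [CommRing k] {r : ℕ} (a : Fin r → ℕ) (f : MvPolynomial (Fin r) k) :
    f ∈ J k a ↔ ∀ n ∈ f.support, ∃ i, a i ≤ n i := by
  classical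
  have : (Set.range fun i => (X i : MvPolynomial (Fin r) k) ^ a i) =
      (fun s => monomial s (1 : k)) '' Set.range fun i => Finsupp.single i (a i) := by
    rw [← Set.range_comp]
    congr 1
    funext i
    simp [X_pow_eq_monomial]
  rw [J, this, mem_ideal_span_monomial_image]
  simp only [Set.mem_range, exists_exists_eq_and, Finsupp.single_le_iff]

theorem finrank_quotient (k : Type u) [Field k] {r : ℕ} (a : Fin r → ℕ) :
    Module.finrank k (MvPolynomial (Fin r) k ⧸ J k a) = ∏ i, a i := by
  classical
  let Φ : MvPolynomial (Fin r) k →ₗ[k] ((∀ i, Fin (a i)) → k) :=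
    LinearMap.pi fun b => lcoeff k (Finsupp.equivFunOnFinite.symm fun i => (b i : ℕ))
  have hker : LinearMap.ker Φ = (J k a).restrictScalars k := by
    ext f
    simp only [LinearMap.mem_ker, Submodule.restrictScalars_mem, mem_J, funext_iff, Φ, LinearMap.pi_apply, lcoeff_apply, Pi.zero_apply]
    constructor
    · intro h n hn
      by_contra! hlt
      refine mem_support_iff.mp hn ?_
      have := h fun i => ⟨n i, hlt i⟩
      simpa using this
    · intro h b
      by_contra hne
      obtain ⟨i, hi⟩ := h _ (mem_support_iff.mpr hne)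
      exact (b i).isLt.not_ge (by simpa using hi)
  have hsurj : Function.Surjective Φ := by
    intro c
    refine ⟨∑ b : (∀ i, Fin (a i)), monomial (Finsupp.equivFunOnFinite.symm fun i => (b i : ℕ)) (c b), funext fun b => ?_⟩
    simp only [Φ, LinearMap.pi_apply, lcoeff_apply, coeff_sum, coeff_monomial]
    rw [Finset.sum_eq_single b]
    · simp
    · intro b' _ hb'
      rw [if_neg]
      intro he
      refine hb' (funext fun i => Fin.ext ?_)
      simpa using DFunLike.congr_fun he i
    · simp
  rw [(((Submodule.Quotient.restrictScalarsEquiv k (J k a)).symm.trans (Submodule.quotEquivOfEq _ _ hker.symm)).trans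
    (Φ.quotKerEquivOfSurjective hsurj)).finrank_eq]
  simp

variable (p : ℕ) [Fact p.Prime] (k : Type u) [Field k] [CharP k p]

/-- The ideal generated by the `p ^ j`-th powers of the nilpotent elements. -/
noncomputable abbrev N (R : Type u) [CommRing R] (j : ℕ) : Ideal R :=
  Ideal.span ((fun x => x ^ p ^ j) '' {x : R | IsNilpotent x})

theorem finrank_quotient_N {r : ℕ} (e : Fin r → ℕ) (j : ℕ) :
    Module.finrank k ((MvPolynomial (Fin r) k ⧸ J k (fun i => p ^ e i)) ⧸ N p (MvPolynomial (Fin r) k ⧸ J k (fun i => p ^ e i)) j) =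
      p ^ ∑ i, min (e i) j := by
  classical
  set I := J k (fun i => p ^ e i)
  have hX : ∀ i, IsNilpotent (Ideal.Quotient.mk I (X i)) := fun i =>
    ⟨p ^ e i, by rw [← map_pow]; exact Ideal.Quotient.eq_zero_iff_mem.mpr (Ideal.subset_span ⟨i, rfl⟩)⟩
  have hN : N p (MvPolynomial (Fin r) k ⧸ I) j = (J k (fun _ => p ^ j)).map (Ideal.Quotient.mkₐ k I) := by
    refine le_antisymm (Ideal.span_le.mpr ?_) ?_
    · rintro _ ⟨x, hx, rfl⟩
      obtain ⟨f, rfl⟩ := Ideal.Quotient.mk_surjective x
      obtain ⟨m, hm⟩ := hx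
      rw [← map_pow, Ideal.Quotient.eq_zero_iff_mem] at hm
      have hIle : I ≤ RingHom.ker (constantCoeff : MvPolynomial (Fin r) k →+* k) :=
        Ideal.span_le.mpr fun _ ⟨i, hi⟩ => by
          subst hi
          simp [zero_pow (pow_ne_zero _ (Fact.out : p.Prime).ne_zero)]
      have h0 : constantCoeff f = 0 := (IsNilpotent.eq_zero ⟨m, by simpa [RingHom.mem_ker] using hIle hm⟩ : _)
      have hf : f ∈ J k (fun _ : Fin r => 1) := by
        rw [mem_J]
        intro n hn
        by_contra! h
        have : n = 0 := Finsupp.ext fun i => by have := h i; simpa [Nat.lt_one_iff] using this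
        subst this
        exact mem_support_iff.mp hn h0
      have hpow : (iterateFrobenius (MvPolynomial (Fin r) k) p j) f ∈ J k (fun _ : Fin r => p ^ j) := by
        refine (show Ideal.map (iterateFrobenius (MvPolynomial (Fin r) k) p j) (J k (fun _ : Fin r => 1)) ≤ _ from ?_)
          (Ideal.mem_map_of_mem _ hf)
        rw [Ideal.map_span]
        refine Ideal.span_le.mpr ?_
        rintro _ ⟨_, ⟨i, rfl⟩, rfl⟩
        exact Ideal.subset_span ⟨i, by simp [iterateFrobenius_def]⟩
      rw [iterateFrobenius_def] at hpow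
      show Ideal.Quotient.mk I f ^ p ^ j ∈ _
      rw [← map_pow]
      exact Ideal.mem_map_of_mem (Ideal.Quotient.mkₐ k I) hpow
    · rw [Ideal.map_span]
      refine Ideal.span_le.mpr ?_
      rintro _ ⟨_, ⟨i, rfl⟩, rfl⟩
      exact Ideal.subset_span ⟨_, hX i, by simp⟩
  have hsup : I ⊔ J k (fun _ => p ^ j) = J k (fun i => p ^ min (e i) j) := by
    refine le_antisymm (sup_le (Ideal.span_le.mpr ?_) (Ideal.span_le.mpr ?_)) (Ideal.span_le.mpr ?_)
    · rintro _ ⟨i, rfl⟩
      exact Ideal.mem_of_dvd _ (pow_dvd_pow _ (Nat.pow_le_pow_right (Fact.out : p.Prime).pos (min_le_left _ _))) (Ideal.subset_span ⟨i, rfl⟩)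
    · rintro _ ⟨i, rfl⟩
      exact Ideal.mem_of_dvd _ (pow_dvd_pow _ (Nat.pow_le_pow_right (Fact.out : p.Prime).pos (min_le_right _ _))) (Ideal.subset_span ⟨i, rfl⟩)
    · rintro _ ⟨i, rfl⟩
      rcases le_total (e i) j with h | h
      · exact Submodule.mem_sup_left (Ideal.subset_span ⟨i, by simp [min_eq_left h]⟩)
      · exact Submodule.mem_sup_right (Ideal.subset_span ⟨i, by simp [min_eq_right h]⟩)
  rw [(Ideal.quotientEquivAlgOfEq k hN).toLinearEquiv.finrank_eq,
    (DoubleQuot.quotQuotEquivQuotSupₐ k I (J k (fun _ => p ^ j))).toLinearEquiv.finrank_eq,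
    (Ideal.quotientEquivAlgOfEq k hsup).toLinearEquiv.finrank_eq, finrank_quotient, Finset.prod_pow_eq_pow_sum]

theorem card_filter_eq {r : ℕ} (e : Fin r → ℕ) (j : ℕ) :
    ∑ i, min (e i) (j + 1) = ∑ i, min (e i) j + (Finset.univ.filter fun i => j < e i).card := by
  rw [Finset.card_filter, ← Finset.sum_add_distrib]
  refine Finset.sum_congr rfl fun i _ => ?_
  split <;> omega

/-- Let k be a perfect field of characteristic p > 0 and let e_1, …, e_r ≥ 1 and f_1, …, f_s ≥ 1 be
natural numbers. If the k-algebras k[X_1, …, X_r]/(X_i^{p^{e_i}} : 1 ≤ i ≤ r) and k[X_1, …,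
X_s]/(X_j^{p^{f_j}} : 1 ≤ j ≤ s) are isomorphic, then r = s and (f_j) is a permutation of (e_i):
there is a bijection σ between the index sets with f_{σ(i)} = e_i. Such truncated polynomial
algebras are the coordinate rings of the connected finite k-group schemes, and the row says that the
number of variables and the exponents are invariants of the group, indeed of its algebra. (Only this
invariance is stated here; the existence of such a presentation for every connected finite k-group
is a separate statement.) -/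
theorem result (p : ℕ) [Fact p.Prime] (k : Type u) [Field k]
    [CharP k p] [PerfectField k] (r s : ℕ) (e : Fin r → ℕ) (f : Fin s → ℕ) (he : ∀ i, 1 ≤ e i) (hf : ∀ j, 1 ≤ f j)
    (φ : (MvPolynomial (Fin r) k ⧸ Ideal.span (Set.range fun i : Fin r => (MvPolynomial.X i : MvPolynomial (Fin r) k) ^ p ^ e i)) ≃ₐ[k]
      (MvPolynomial (Fin s) k ⧸ Ideal.span (Set.range fun j : Fin s => (MvPolynomial.X j : MvPolynomial (Fin s) k) ^ p ^ f j))) :
    ∃ σ : Fin r ≃ Fin s, ∀ i : Fin r, f (σ i) = e i := by
  classical
  have hmin : ∀ j, ∑ i, min (e i) j = ∑ i, min (f i) j := by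
    intro j
    refine Nat.pow_right_injective (Fact.out : p.Prime).two_le ?_
    simp only [← finrank_quotient_N p k e j, ← finrank_quotient_N p k f j]
    refine (Ideal.quotientEquivAlg _ _ φ ?_).toLinearEquiv.finrank_eq
    rw [Ideal.map_span]
    refine congrArg Ideal.span (Set.ext fun y => ?_)
    constructor
    · rintro ⟨x, hx, rfl⟩
      exact ⟨φ.symm x ^ p ^ j, ⟨φ.symm x, IsNilpotent.map hx φ.symm, rfl⟩, by rw [map_pow]; exact congrArg (· ^ p ^ j) (φ.apply_symm_apply x)⟩
    · rintro ⟨_, ⟨x, hx, rfl⟩, rfl⟩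
      exact ⟨φ x, IsNilpotent.map hx φ, (map_pow φ x (p ^ j)).symm⟩
  have hgt : ∀ j, (Finset.univ.filter fun i => j < e i).card = (Finset.univ.filter fun i => j < f i).card := by
    intro j
    have h1 := card_filter_eq e j
    have h2 := card_filter_eq f j
    rw [hmin, hmin] at h1
    omega
  have heq : ∀ v, Fintype.card {i // e i = v} = Fintype.card {i // f i = v} := by
    intro v
    rw [Fintype.card_subtype, Fintype.card_subtype]
    cases v with
    | zero =>
      rw [Finset.filter_eq_empty_iff.mpr (fun i _ => by have := he i; omega),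
        Finset.filter_eq_empty_iff.mpr (fun i _ => by have := hf i; omega)]
      simp
    | succ j =>
      have key : ∀ {t : ℕ} (g : Fin t → ℕ), (Finset.univ.filter fun i => j < g i).card =
          (Finset.univ.filter fun i => g i = j + 1).card + (Finset.univ.filter fun i => j + 1 < g i).card := by
        intro t g
        rw [← Finset.card_union_of_disjoint (Finset.disjoint_filter.mpr fun i _ h => by omega)]
        congr 1
        ext i
        simp only [Finset.mem_filter, Finset.mem_univ, true_and, Finset.mem_union]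
        omega
      have h1 := key e
      have h2 := key f
      rw [hgt j, hgt (j + 1)] at h1
      omega
  let σ : Fin r ≃ Fin s := (Equiv.sigmaFiberEquiv e).symm.trans
    ((Equiv.sigmaCongrRight fun v => Fintype.equivOfCardEq (heq v)).trans (Equiv.sigmaFiberEquiv f))
  exact ⟨σ, fun i => (Fintype.equivOfCardEq (heq (e i)) ⟨i, rfl⟩).2⟩

end Groth.Agent.S16077
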