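import Groth.Statements.S16078
import Groth.Agent.UnitComp.Basic
import Mathlib.RingTheory.Flat.Localization
import Mathlib.RingTheory.Localization.Away.Basic

set_option autoImplicit false
universe u
open scoped TensorProduct
open Hopf

namespace Groth.Agent.S16078

theorem idem_one {S : Type u} [CommRing S] [IsLocalRing S] {R : Type u} [CommRing R] [Nontrivial R] (ε : S →+* R) {x : S}
    (hx : IsIdempotentElem x) (h : ε x = 1) : x = 1 := by
  rcases IsLocalRing.isUnit_or_isUnit_one_sub_self x with hu | hu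
  · exact hu.mul_left_cancel (hx.eq.trans (mul_one x).symm)
  · have h0 : x = 0 := hu.mul_left_eq_zero.1 (by rw [mul_sub, mul_one, hx.eq, sub_self])
    rw [h0, map_zero] at h
    exact absurd h zero_ne_one


/-- Let R be a henselian Noetherian local ring, A and A'' commutative Hopf algebras over R which are
finite and flat as R-modules, and A'' → A an R-algebra homomorphism compatible with
comultiplications and counits making A faithfully flat over A'' (a faithfully flat homomorphism π :
G → G'' of finite flat R-groups); let J ⊆ A be the ideal generated by the image of the augmentation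
ideal of A'' (G' = Spec A/J = ker π, so that 1 → G' → G → G'' → 1 is exact). Let e ∈ A and e'' ∈ A''
be idempotents with ε(e) = 1, ε(e'') = 1 and A/(1 − e), A''/(1 − e'') local rings (the unit
components G⁰ and G''⁰), and let e' ∈ A be an element whose image in A/J is an idempotent, with
ε(e') = 1 and A/(J + (1 − e')) local (so G'⁰ = Spec (A/J)/(1 − e') is the unit component of G').
Suppose g : A''/(1 − e'') → A/(1 − e) is the ring homomorphism induced by A'' → A (the restriction
π⁰ : G⁰ → G''⁰ of π, which exists because G⁰ is connected). Then g is faithfully flat, and e ≡ e'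
modulo J, i.e. J + (1 − e) = J + (1 − e') and the kernel of π⁰, which is cut out in G⁰ by J, is
exactly G'⁰: the sequence 1 → G'⁰ → G⁰ → G''⁰ → 1 is exact. (The published statement also asserts
exactness of the maximal étale quotient G ↦ G^ét, not stated here.) -/
theorem result (R : Type u) [CommRing R] [HenselianLocalRing R]
    [IsNoetherianRing R] (A A'' : Type u) [CommRing A] [HopfAlgebra R A] [Module.Finite R A] [Module.Flat R A]
    [CommRing A''] [HopfAlgebra R A''] [Module.Finite R A''] [Module.Flat R A'']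
    [Algebra A'' A] [IsScalarTower R A'' A] [Module.FaithfullyFlat A'' A]
    (hΔ : (Bialgebra.comulAlgHom R A).comp (IsScalarTower.toAlgHom R A'' A) =
      (Algebra.TensorProduct.map (IsScalarTower.toAlgHom R A'' A) (IsScalarTower.toAlgHom R A'' A)).comp
        (Bialgebra.comulAlgHom R A''))
    (hε : (Bialgebra.counitAlgHom R A).comp (IsScalarTower.toAlgHom R A'' A) = Bialgebra.counitAlgHom R A'')
    (e : A) (he : IsIdempotentElem e) (heε : Bialgebra.counitAlgHom R A e = 1)
    [IsLocalRing (A ⧸ Ideal.span ({1 - e} : Set A))]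
    (e'' : A'') (he'' : IsIdempotentElem e'') (he''ε : Bialgebra.counitAlgHom R A'' e'' = 1)
    [IsLocalRing (A'' ⧸ Ideal.span ({1 - e''} : Set A''))]
    (e' : A) (he' : IsIdempotentElem (Ideal.Quotient.mk ((RingHom.ker (Bialgebra.counitAlgHom R A'')).map (algebraMap A'' A)) e'))
    (he'ε : Bialgebra.counitAlgHom R A e' = 1)
    [IsLocalRing (A ⧸ (((RingHom.ker (Bialgebra.counitAlgHom R A'')).map (algebraMap A'' A)) ⊔ Ideal.span ({1 - e'} : Set A)))]
    (g : (A'' ⧸ Ideal.span ({1 - e''} : Set A'')) →+* (A ⧸ Ideal.span ({1 - e} : Set A)))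
    (hg : g.comp (Ideal.Quotient.mk (Ideal.span ({1 - e''} : Set A''))) =
      (Ideal.Quotient.mk (Ideal.span ({1 - e} : Set A))).comp (algebraMap A'' A)) :
    g.FaithfullyFlat ∧
      Ideal.Quotient.mk ((RingHom.ker (Bialgebra.counitAlgHom R A'')).map (algebraMap A'' A)) e = Ideal.Quotient.mk ((RingHom.ker (Bialgebra.counitAlgHom R A'')).map (algebraMap A'' A)) e' := by
  haveI : Nontrivial R := inferInstance
  let I : Ideal A := Ideal.span ({1 - e} : Set A)
  let I'' : Ideal A'' := Ideal.span ({1 - e''} : Set A'')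
  let K : Ideal A := (RingHom.ker (Bialgebra.counitAlgHom R A'')).map (algebraMap A'' A)
  have hεI : I ≤ RingHom.ker (Bialgebra.counitAlgHom R A) := Groth.Agent.UnitComp.le_ker_counit heε
  have hεK : K ≤ RingHom.ker (Bialgebra.counitAlgHom R A) := Ideal.map_le_iff_le_comap.2 fun c hc => by
    show Bialgebra.counitAlgHom R A (IsScalarTower.toAlgHom R A'' A c) = 0
    rw [← AlgHom.comp_apply, hε]; exact hc
  constructor
  · letI : Algebra (A'' ⧸ I'') (A ⧸ I) := g.toAlgebra
    haveI : IsScalarTower A'' (A'' ⧸ I'') (A ⧸ I) :=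
      IsScalarTower.of_algebraMap_eq fun c => (DFunLike.congr_fun hg c).symm
    haveI : IsLocalization.Away e'' (A'' ⧸ I'') :=
      IsLocalization.away_of_isIdempotentElem he'' Ideal.mk_ker Ideal.Quotient.mk_surjective
    haveI : Module.Flat A'' (A ⧸ I) := by
      let r : A →ₗ[A''] A ⧸ I := (Ideal.Quotient.mkₐ A'' I).toLinearMap
      have hk : I.restrictScalars A'' ≤ LinearMap.ker (LinearMap.mulLeft A'' e) := fun x hx => by
        obtain ⟨c, rfl⟩ := Ideal.mem_span_singleton'.1 hx
        show e * (c * (1 - e)) = 0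
        rw [mul_left_comm, mul_sub, mul_one, he.eq, sub_self, mul_zero]
      let i : (A ⧸ I) →ₗ[A''] A := (I.restrictScalars A'').liftQ (LinearMap.mulLeft A'' e) hk ∘ₗ
        (Submodule.Quotient.restrictScalarsEquiv A'' I).symm.toLinearMap
      refine Module.Flat.of_retract i r (LinearMap.ext fun x => ?_)
      obtain ⟨a, rfl⟩ := Ideal.Quotient.mk_surjective x
      show Ideal.Quotient.mk I (e * a) = Ideal.Quotient.mk I a
      rw [map_mul, Groth.Agent.UnitComp.mk_eq_one, one_mul]
    haveI : Module.Flat (A'' ⧸ I'') (A ⧸ I) :=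
      (Module.flat_iff_of_isLocalization (A'' ⧸ I'') (Submonoid.powers e'') (A ⧸ I)).2 inferInstance
    have hεg : ∀ c, Groth.Agent.UnitComp.counitBar heε (g c) = Groth.Agent.UnitComp.counitBar he''ε c := by
      intro c
      obtain ⟨c, rfl⟩ := Ideal.Quotient.mk_surjective c
      rw [show g (Ideal.Quotient.mk I'' c) = Ideal.Quotient.mk I (algebraMap A'' A c) from DFunLike.congr_fun hg c]
      exact DFunLike.congr_fun hε c
    haveI : IsLocalHom (algebraMap (A'' ⧸ I'') (A ⧸ I)) := ⟨fun c hc => by
      by_contra hn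
      have h1 : IsUnit (Groth.Agent.UnitComp.counitBar he''ε c) := (hεg c) ▸ hc.map (Groth.Agent.UnitComp.counitBar heε)
      have h2 : c - algebraMap R (A'' ⧸ I'') (Groth.Agent.UnitComp.counitBar he''ε c) ∈ IsLocalRing.maximalIdeal (A'' ⧸ I'') :=
        Groth.Agent.UnitComp.ker_counitBar_le_maximalIdeal he''ε (by rw [RingHom.mem_ker, map_sub, AlgHom.commutes, Algebra.algebraMap_self_apply, sub_self])
      have h3 := sub_mem ((IsLocalRing.mem_maximalIdeal c).2 hn) h2
      rw [sub_sub_cancel] at h3
      exact (IsLocalRing.mem_maximalIdeal _).1 h3 (h1.map _)⟩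
    show Module.FaithfullyFlat (A'' ⧸ I'') (A ⧸ I)
    exact Module.FaithfullyFlat.of_flat_of_isLocalHom
  · have h1 : Ideal.Quotient.mk (K ⊔ Ideal.span ({1 - e'} : Set A)) e = 1 :=
      idem_one ((Ideal.Quotient.liftₐ _ (Bialgebra.counitAlgHom R A) fun x hx => sup_le hεK
        (Groth.Agent.UnitComp.le_ker_counit he'ε) hx : A ⧸ (K ⊔ Ideal.span ({1 - e'} : Set A)) →ₐ[R] R).toRingHom)
        (he.map _) heε
    have hεKI : K ⊔ I ≤ RingHom.ker (Bialgebra.counitAlgHom R A) := sup_le hεK hεI
    haveI : Nontrivial (A ⧸ (K ⊔ I)) := Ideal.Quotient.nontrivial_iff.2 fun h => RingHom.ker_ne_top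
      (Bialgebra.counitAlgHom R A) (top_le_iff.1 (h.ge.trans hεKI))
    haveI : IsLocalRing (A ⧸ (K ⊔ I)) := IsLocalRing.of_surjective' (Ideal.Quotient.factor (show I ≤ K ⊔ I from le_sup_right))
      (Ideal.Quotient.factor_surjective _)
    have h2 : Ideal.Quotient.mk (K ⊔ I) e' = 1 :=
      idem_one ((Ideal.Quotient.liftₐ _ (Bialgebra.counitAlgHom R A) fun x hx => hεKI hx : A ⧸ (K ⊔ I) →ₐ[R] R).toRingHom)
        (by have := he'.map (Ideal.Quotient.factor (show K ≤ K ⊔ I from le_sup_left)); rwa [Ideal.Quotient.factor_mk] at this) he'ε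
    have key : ∀ x y : A, IsIdempotentElem (Ideal.Quotient.mk K x) →
        Ideal.Quotient.mk (K ⊔ Ideal.span ({1 - x} : Set A)) y = 1 →
        Ideal.Quotient.mk K y * Ideal.Quotient.mk K x = Ideal.Quotient.mk K x := by
      intro x y hx h
      rw [← map_one (Ideal.Quotient.mk (K ⊔ Ideal.span ({1 - x} : Set A))), Ideal.Quotient.eq, Submodule.mem_sup] at h
      obtain ⟨k, hk, i, hi, hki⟩ := h
      obtain ⟨c, rfl⟩ := Ideal.mem_span_singleton'.1 hi
      have h' : Ideal.Quotient.mk K (y - 1) = Ideal.Quotient.mk K c * (1 - Ideal.Quotient.mk K x) := by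
        rw [← hki, map_add, Ideal.Quotient.eq_zero_iff_mem.2 hk, zero_add, map_mul, map_sub, map_one]
      rw [map_sub, map_one, sub_eq_iff_eq_add] at h'
      rw [h', add_mul, one_mul, mul_assoc, sub_mul, one_mul, hx.eq, sub_self, mul_zero, zero_add]
    show Ideal.Quotient.mk K e = Ideal.Quotient.mk K e'
    calc Ideal.Quotient.mk K e = Ideal.Quotient.mk K e' * Ideal.Quotient.mk K e := (key e e' (he.map _) h2).symm
      _ = Ideal.Quotient.mk K e * Ideal.Quotient.mk K e' := mul_comm _ _
      _ = Ideal.Quotient.mk K e' := key e' e he' h1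

end Groth.Agent.S16078
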