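import Groth.Statements.S16082
import Mathlib.AlgebraicGeometry.FunctionField
-- import your own Groth.Agent.* helpers here

set_option autoImplicit false
universe u
open CategoryTheory CategoryTheory.Limits AlgebraicGeometry TopologicalSpace
open SDiv

namespace Groth.Agent.S16082

/-- Let X be an integral scheme and F, G quasi-coherent O_X-modules with F of finite presentation and G
torsion free (every stalk G_x is a torsion-free module over the domain O_{X,x}). Then every stalk of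
the sheaf Hom 𝓗om_{O_X}(F, G) is torsion free as well. -/
theorem result (X : Scheme.{u}) [IsIntegral X] (F G : X.Modules) (hF : Coh.IsQCoh F)
    (hFp : CohB1.IsFP F) (hG : Coh.IsQCoh G) (hGt : TorSh.IsTorsionFree G) :
    TorSh.IsTorsionFree (RefHull.homSh F G) := by
  intro x
  haveI : IsDomain (X.presheaf.stalk x) := inferInstance
  refine ⟨fun r hr a b hab => ?_⟩
  obtain ⟨U₁, h₁, g, rfl⟩ := TopCat.Presheaf.exists_germ_eq (RefHull.homSh F G).presheaf a
  obtain ⟨U₂, h₂, h, rfl⟩ := TopCat.Presheaf.exists_germ_eq (RefHull.homSh F G).presheaf b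
  obtain ⟨U₃, h₃, s, rfl⟩ := TopCat.Presheaf.exists_germ_eq X.presheaf r
  let V := U₁ ⊓ U₂ ⊓ U₃
  have hV : x ∈ V := ⟨⟨h₁, h₂⟩, h₃⟩
  let i₁ : V ≤ U₁ := inf_le_left.trans inf_le_left
  let i₂ : V ≤ U₂ := inf_le_left.trans inf_le_right
  let i₃ : V ≤ U₃ := inf_le_right
  dsimp only at hab
  rw [← TopCat.Presheaf.germ_res_apply _ (homOfLE i₁) x hV g, ← TopCat.Presheaf.germ_res_apply _ (homOfLE i₂) x hV h,
    ← TopCat.Presheaf.germ_res_apply X.presheaf (homOfLE i₃) x hV s, ← Mero.germ_smul, ← Mero.germ_smul] at hab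
  obtain ⟨W, hW, j₁, j₂, heq⟩ := TopCat.Presheaf.germ_eq _ x hV hV _ _ hab
  rw [← TopCat.Presheaf.germ_res_apply _ (j₁ ≫ homOfLE i₁) x hW g,
    ← TopCat.Presheaf.germ_res_apply _ (j₁ ≫ homOfLE i₂) x hW h]
  congr 1
  refine Subtype.ext (funext fun y => ?_)
  have hy : (y : X) ∈ U₃ := i₃ (j₁.le y.2)
  have hs : X.presheaf.germ U₃ y.1 hy s ≠ 0 := fun h0 => by
    haveI : Nonempty U₃ := ⟨⟨x, h₃⟩⟩
    have : s = 0 := germ_injective_of_isIntegral X y.1 hy (h0.trans (map_zero _).symm)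
    exact hr.ne_zero (by rw [this, map_zero])
  have hyV : (y : X) ∈ V := j₁.le y.2
  have key := congrFun (congrArg Subtype.val heq) y
  refine LinearMap.ext fun v => ?_
  haveI := hGt y.1
  refine (IsRegular.of_ne_zero hs).isSMulRegular (M := G.presheaf.stalk y.1) ?_
  have k2 : X.presheaf.germ V y.1 hyV (X.presheaf.map (homOfLE i₃).op s) • (g.1 ⟨y.1, i₁ hyV⟩ v) =
      X.presheaf.germ V y.1 hyV (X.presheaf.map (homOfLE i₃).op s) • (h.1 ⟨y.1, i₂ hyV⟩ v) :=
    LinearMap.congr_fun key v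
  rw [TopCat.Presheaf.germ_res_apply] at k2
  exact k2

end Groth.Agent.S16082
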