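import Groth.Statements.S16084
import Groth.Agent.RefDiv.IsoLocus

set_option autoImplicit false
universe u
open CategoryTheory CategoryTheory.Limits AlgebraicGeometry TopologicalSpace
open SDiv

namespace Groth.Agent.S16084

open Groth.Agent.RefDiv in
theorem key {X : Scheme.{u}} [IsIntegral X] [IsLocallyNoetherian X] [Nrm X] (F : X.Modules)
    (hF : RefHull.IsRef1 F) (s : Γ(F, ⊤)) (hs : s ≠ 0) (z : ↥X)
    (hz : ¬ Function.Bijective fun a : ↑(X.presheaf.stalk z) => a • F.presheaf.germ ⊤ z trivial s)
    (hmax : ∀ y : ↥X, ¬ Function.Bijective (fun a : ↑(X.presheaf.stalk y) => a • F.presheaf.germ ⊤ y trivial s) →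
      y ⤳ z → y = z) :
    Order.coheight z = 1 := by
  obtain ⟨t, ht⟩ := exists_sec hF.2.2
  obtain ⟨D, φ, hD, -, hg, -, -⟩ := ref1_structure hF t ht
  have hinj := valAt_injective_of_iso hg hD hF.2.1
  have hc : ∀ y, valAt φ y (F.presheaf.germ ⊤ y trivial s) = φ.toHom (F.presheaf.germ ⊤ (genericPoint X) trivial s) :=
    fun y => congrArg φ.toHom (toEta_germ F y (show y ∈ (⊤ : X.Opens) from trivial) s)
  have hc0 : φ.toHom (F.presheaf.germ ⊤ (genericPoint X) trivial s) ≠ 0 := fun h0 => by
    apply hs
    refine TopCat.Presheaf.section_ext ⟨F.presheaf, F.isSheaf⟩ ⊤ s 0 fun y hy => ?_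
    rw [map_zero]
    exact hinj y ((hc y).trans (h0.trans (map_zero _).symm))
  have hiff := fun y => bijective_genMap_iff hg hF.1 hinj s (show y ∈ (⊤ : X.Opens) from trivial)
    (by rw [hc]; exact hc0)
  rw [show (fun a : ↑(X.presheaf.stalk z) => a • F.presheaf.germ ⊤ z trivial s) = genMap s z trivial from rfl,
    hiff] at hz
  push_neg at hz
  obtain ⟨w, hwz, hw, hne⟩ := hz
  have : w = z := hmax w (fun hb => by
    have := (hiff w).mp hb w specializes_rfl hw
    rw [hc] at this hne
    exact hne this) hwz
  exact this ▸ hw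

/-- Let X be an integral locally Noetherian normal scheme, F a rank one coherent reflexive O_X-module
and s a nonzero global section of F. Let Z be the set of points x at which multiplication by the
germ of s, O_{X,x} → F_x, fails to be bijective (the complement of the open where s generates F).
Then every irreducible component of Z has codimension 1 in X: at each point z of Z to which no other
point of Z specializes, the local ring O_{X,z} has dimension 1. -/
theorem result (X : Scheme.{u}) [IsIntegral X] [IsLocallyNoetherian X]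
    (hX : Pi1.IsNormalScheme X) (F : X.Modules) (hF : RefHull.IsRef1 F) (s : Γ(F, ⊤)) (hs : s ≠ 0) (z : ↥X)
    (hz : ¬ Function.Bijective fun a : ↑(X.presheaf.stalk z) => a • F.presheaf.germ ⊤ z trivial s)
    (hmax : ∀ y : ↥X, ¬ Function.Bijective (fun a : ↑(X.presheaf.stalk y) => a • F.presheaf.germ ⊤ y trivial s) →
      y ⤳ z → y = z) :
    ringKrullDim ↑(X.presheaf.stalk z) = 1 := by
  haveI : Groth.Agent.RefDiv.Nrm X := ⟨hX⟩
  rw [ringKrullDim_stalk_eq_coheight, key F hF s hs z hz hmax]
  rfl

end Groth.Agent.S16084
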