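import Groth.Statements.S16098
import Groth.Agent.FunFldLib.GenusOne

set_option autoImplicit false
universe u
open AdFn

namespace Groth.Agent.S16098

theorem exists_toKv_near {k K : Type u} [Field k] [Field K] [Algebra k K] (v : FunFld.Place k K) (z : AdFn.Kv v) :
    ∃ x : K, z - AdFn.toKv v x ∈ AdFn.Ov v := by
  have ho : IsOpen ((fun w : AdFn.Kv v => z - w) ⁻¹' (AdFn.Ov v : Set (AdFn.Kv v))) :=
    (AdFn.isOpen_Ov v).preimage (continuous_const.sub continuous_id)
  obtain ⟨w, hw⟩ := (UniformSpace.Completion.denseRange_coe (α := WithVal v.1)).exists_mem_open ho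
    ⟨z, by simp [(AdFn.Ov v).zero_mem]⟩
  refine ⟨w.ofVal, ?_⟩
  rw [AdFn.toKv_apply]
  exact hw

/-- Let `K/k` be a function field of one variable (every element having finitely many poles, so that the
diagonal `K → A_K` exists), `A_K = ∏'_v (K_v, O_v)` its adele ring over all places, and `S` a
nonempty set of places. (1) For every adele `a` some `f ∈ K` has `a_v - f ∈ O_v` at every place `v ∉
S`: `A_K` is the sum of the principal adeles and the adeles integral outside `S`. (2) An adele `b`
with `b_v = 0` for `v ∉ S` is a principal adele plus an everywhere-integral adele exactly when some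
`S`-integer `f ∈ K` has `b_v - f ∈ O_v` for every `v ∈ S`. (The published statement is for a curve
over an algebraically closed field, possibly singular; here it is stated for the places of a
function field `K/k` of one variable over any field `k` algebraically closed in `K`.) -/
theorem result (k K : Type u) [Field k] [Field K]
    [Algebra k K] (hK : FunFld.IsFunctionField k K) [AdFn.HasFinitePoles k K]
    (S : Set (FunFld.Place k K)) (hS : S.Nonempty) :
    (∀ a : AdFn.AdeleRing k K, ∃ f : K, ∀ v : FunFld.Place k K, v ∉ S →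
        AdFn.AdeleRing.proj v (a - AdFn.AdeleRing.diag f) ∈ AdFn.Ov v) ∧
    (∀ b : AdFn.AdeleRing k K, (∀ v : FunFld.Place k K, v ∉ S → AdFn.AdeleRing.proj v b = 0) →
        ((∃ f : K, ∀ v : FunFld.Place k K, AdFn.AdeleRing.proj v (b - AdFn.AdeleRing.diag f) ∈ AdFn.Ov v) ↔
          ∃ f ∈ AdFn.SInt S, ∀ v ∈ S, AdFn.AdeleRing.proj v b - AdFn.toKv v f ∈ AdFn.Ov v)) := by
  classical
  refine ⟨fun a => ?_, fun b hb => ?_⟩
  · obtain ⟨P, hP⟩ := hS
    choose g hg using fun v => exists_toKv_near v (AdFn.AdeleRing.proj v a)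
    let x : FunFld.Place k K → K := fun v => if AdFn.AdeleRing.proj v a ∈ AdFn.Ov v then 0 else g v
    have hx : ∀ v, AdFn.AdeleRing.proj v a - AdFn.toKv v (x v) ∈ AdFn.Ov v := fun v => by
      simp only [x]; split_ifs with h
      · simpa using h
      · exact hg v
    have hxA : x ∈ FunFld.adele k K := a.2.mono fun v hv => by
      simp only [x]
      rw [if_pos (show AdFn.AdeleRing.proj v a ∈ AdFn.Ov v from hv)]
      simp
    obtain ⟨N, hN⟩ := Groth.Agent.FunFldLib.exists_delta_large hK
    let D : FunFld.Divisor k K := Finsupp.single P (N.toNat : ℤ)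
    obtain ⟨hf, hd⟩ := Groth.Agent.FunFldLib.adele_quot hK D
    rw [hN D (by rw [Groth.Agent.FunFldLib.deg_single]; have := Groth.Agent.FunFldLib.deg_pos hK.1 P; nlinarith [Int.self_le_toNat N]),
      sub_self, Int.natCast_eq_zero] at hd
    haveI := hf
    have hsub : Subsingleton (↥(FunFld.adele k K) ⧸ FunFld.ADK D) := Module.finrank_zero_iff.1 hd
    have hmem : x ∈ FunFld.AD D ⊔ LinearMap.range (FunFld.diag k K) :=
      ((Submodule.Quotient.mk_eq_zero _).1 (Subsingleton.elim (Submodule.Quotient.mk ⟨x, hxA⟩ : ↥(FunFld.adele k K) ⧸ FunFld.ADK D) 0) :)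
    obtain ⟨c, hc, _, ⟨f, rfl⟩, e⟩ := Submodule.mem_sup.1 hmem
    refine ⟨f, fun v hv => ?_⟩
    have hev : c v + f = x v := congrFun e v
    have hcv : v.1 (c v) ≤ 1 := by
      have := hc v
      rwa [show D v = 0 from Finsupp.single_eq_of_ne (fun h => hv (by rwa [h])), WithZero.exp_zero] at this
    rw [map_sub, AdFn.AdeleRing.proj_diag, show f = x v - c v by rw [← hev]; ring, map_sub, ← sub_add]
    exact (AdFn.Ov v).add_mem _ _ (hx v) ((AdFn.toKv_mem_Ov v _).2 hcv)
  · constructor
    · rintro ⟨f, hf⟩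
      refine ⟨f, fun v hv => ?_, fun v _ => by have := hf v; rwa [map_sub, AdFn.AdeleRing.proj_diag] at this⟩
      have := hf v
      rw [map_sub, AdFn.AdeleRing.proj_diag, hb v hv, zero_sub, neg_mem_iff, AdFn.toKv_mem_Ov] at this
      exact this
    · rintro ⟨f, hf, hfS⟩
      refine ⟨f, fun v => ?_⟩
      rw [map_sub, AdFn.AdeleRing.proj_diag]
      by_cases hv : v ∈ S
      · exact hfS v hv
      · rw [hb v hv, zero_sub, neg_mem_iff, AdFn.toKv_mem_Ov]; exact hf v hv

end Groth.Agent.S16098
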