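import Groth.Statements.S16099
import Groth.Agent.FunFldLib.GenusOne

set_option autoImplicit false
universe u
open FunFld

namespace Groth.Agent.S16099

/-- For a function field `K/k` of one variable of genus `g` and any place `P`, the `k`-space `K /
(O_{\{P\}} + O_P)` is finite-dimensional of dimension `g` (the number of Weierstrass gaps when `P`
is rational), where `O_{\{P\}}` is the ring of elements of `K` integral at every place other than
`P` and `O_P` is the valuation ring of `P` (written as the elements integral at every place outside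
the complement of `\{P\}`). (The published example is for a curve over an algebraically closed field
and is stated with completions at `P`; this is the equivalent form inside `K`, over any field `k`
algebraically closed in `K`.) -/
theorem result (k K : Type u) [Field k] [Field K]
    [Algebra k K] (hK : FunFld.IsFunctionField k K) (P : FunFld.Place k K) :
    FiniteDimensional k (K ⧸ (Subalgebra.toSubmodule (AdFn.SInt ({P} : Set (FunFld.Place k K))) ⊔
        Subalgebra.toSubmodule (AdFn.SInt (({P} : Set (FunFld.Place k K))ᶜ)))) ∧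
    Module.finrank k (K ⧸ (Subalgebra.toSubmodule (AdFn.SInt ({P} : Set (FunFld.Place k K))) ⊔
        Subalgebra.toSubmodule (AdFn.SInt (({P} : Set (FunFld.Place k K))ᶜ)))) = FunFld.genus k K := by
  classical
  set W := Subalgebra.toSubmodule (AdFn.SInt ({P} : Set (FunFld.Place k K))) ⊔
    Subalgebra.toSubmodule (AdFn.SInt (({P} : Set (FunFld.Place k K))ᶜ))
  let e0 : K →ₗ[k] (FunFld.Place k K → K) := LinearMap.single k (fun _ : FunFld.Place k K => K) P
  have he : ∀ x : K, e0 x ∈ FunFld.adele k K := fun x => by
    show ∀ᶠ Q : FunFld.Place k K in Filter.cofinite, Q.1 (e0 x Q) ≤ 1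
    rw [Filter.eventually_cofinite]
    refine (Set.finite_singleton P).subset fun Q (hQ : ¬ Q.1 (e0 x Q) ≤ 1) => ?_
    by_contra hne
    exact hQ (by simp [e0, Pi.single_eq_of_ne (show Q ≠ P from hne)])
  have hS : ∀ x : K, e0 x P = x := fun x => by simp [e0]
  have hN' : ∀ (x : K) (Q : FunFld.Place k K), Q ≠ P → e0 x Q = 0 := fun x Q hQ => by
    simp [e0, Pi.single_eq_of_ne hQ]
  let Φ : K →ₗ[k] (↥(FunFld.adele k K) ⧸ FunFld.ADK (0 : FunFld.Divisor k K)) :=
    (Submodule.mkQ _).comp (e0.codRestrict _ he)
  have hker : LinearMap.ker Φ = W := by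
    ext x
    rw [LinearMap.mem_ker, Submodule.mem_sup]
    refine Iff.trans (Submodule.Quotient.mk_eq_zero _) ?_
    show e0 x ∈ FunFld.AD 0 ⊔ LinearMap.range (FunFld.diag k K) ↔ _
    rw [Submodule.mem_sup]
    constructor
    · rintro ⟨b, hb, c, ⟨y, rfl⟩, hsum⟩
      refine ⟨y, fun Q hQ => ?_, x - y, fun Q hQ => ?_, by abel⟩
      · have h2 : b Q + y = e0 x Q := congrFun hsum Q
        rw [hN' x Q (by simpa using hQ)] at h2
        rw [show y = -(b Q) by linear_combination h2, Valuation.map_neg]
        simpa using hb Q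
      · have hQ' : Q = P := by simpa using hQ
        subst hQ'
        have h2 : b Q + y = e0 x Q := congrFun hsum Q
        rw [hS x] at h2
        rw [show x - y = b Q by linear_combination -h2]
        simpa using hb Q
    · rintro ⟨y, hy, z, hz, rfl⟩
      refine ⟨e0 (y + z) - FunFld.diag k K y, fun Q => ?_, _, LinearMap.mem_range_self _ y, by abel⟩
      rw [Pi.sub_apply, Finsupp.zero_apply, WithZero.exp_zero]
      show Q.1 (e0 (y + z) Q - y) ≤ 1
      rcases eq_or_ne Q P with rfl | hne
      · rw [hS (y + z), add_sub_cancel_left]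
        exact hz Q (by simp)
      · rw [hN' _ Q hne, zero_sub, Valuation.map_neg]
        exact hy Q (by simpa using hne)
  have hsurj : Function.Surjective Φ := by
    obtain ⟨N, hN⟩ := FunFldLib.exists_delta_large hK
    let D : FunFld.Divisor k K := Finsupp.single P (N.toNat : ℤ)
    obtain ⟨hf, hd⟩ := FunFldLib.adele_quot hK D
    rw [hN D (by rw [FunFldLib.deg_single]; have := FunFldLib.deg_pos hK.1 P; nlinarith [Int.self_le_toNat N]),
      sub_self, Int.natCast_eq_zero] at hd
    haveI := hf
    have hsub : Subsingleton (↥(FunFld.adele k K) ⧸ FunFld.ADK D) := Module.finrank_zero_iff.1 hd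
    intro q
    obtain ⟨⟨a, ha⟩, rfl⟩ := Submodule.Quotient.mk_surjective _ q
    have hmem : a ∈ FunFld.AD D ⊔ LinearMap.range (FunFld.diag k K) :=
      ((Submodule.Quotient.mk_eq_zero _).1 (Subsingleton.elim (Submodule.Quotient.mk ⟨a, ha⟩ : ↥(FunFld.adele k K) ⧸ FunFld.ADK D) 0) :)
    obtain ⟨b, hb, c, hc, rfl⟩ := Submodule.mem_sup.1 hmem
    refine ⟨b P, (Submodule.Quotient.eq _).2 ?_⟩
    show e0 (b P) - (b + c) ∈ FunFld.AD 0 ⊔ LinearMap.range (FunFld.diag k K)
    rw [← sub_sub]
    refine Submodule.sub_mem _ (Submodule.mem_sup_left fun Q => ?_) (Submodule.mem_sup_right hc)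
    rw [Pi.sub_apply, Finsupp.zero_apply]
    rcases eq_or_ne Q P with rfl | hne
    · rw [hS (b Q), sub_self]; simp
    · rw [hN' _ Q hne, zero_sub, Valuation.map_neg]
      have := hb Q
      rwa [show D Q = 0 from Finsupp.single_eq_of_ne hne] at this
  obtain ⟨hf, hd⟩ := FunFldLib.adele_quot hK (0 : FunFld.Divisor k K)
  haveI := hf
  let e := (Submodule.quotEquivOfEq _ _ hker.symm).trans (Φ.quotKerEquivOfSurjective hsurj)
  haveI := Module.Finite.equiv e.symm
  refine ⟨this, ?_⟩
  rw [e.finrank_eq]
  simp only [FunFldLib.delta, (FunFldLib.ell_zero hK).2, FunFldLib.deg_zero] at hd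
  omega

end Groth.Agent.S16099
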