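import Groth.Statements.S16100
import Groth.Agent.S16099

set_option autoImplicit false
universe u
open AdFn

namespace Groth.Agent.S16100

theorem exists_toKv_near {k K : Type u} [Field k] [Field K] [Algebra k K] (v : FunFld.Place k K) (z : AdFn.Kv v) :
    ∃ x : K, z - AdFn.toKv v x ∈ AdFn.Ov v := by
  have ho : IsOpen ((fun w : AdFn.Kv v => z - w) ⁻¹' (AdFn.Ov v : Set (AdFn.Kv v))) :=
    (AdFn.isOpen_Ov v).preimage (continuous_const.sub continuous_id)
  obtain ⟨w, hw⟩ := (UniformSpace.Completion.denseRange_coe (α := WithVal v.1)).exists_mem_open ho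
    ⟨z, by simp [(AdFn.Ov v).zero_mem]⟩
  refine ⟨w.ofVal, ?_⟩
  rw [AdFn.toKv_apply]
  exact hw

/-- For a function field `K/k` of one variable of genus `g` and any place `P` with completion `K_P` and
valuation ring `O_P ⊆ K_P`, the `k`-space `K_P / (O_{\{P\}} + O_P)`, where `O_{\{P\}} ⊆ K ⊆ K_P` is
the ring of elements of `K` integral at every place other than `P`, is finite-dimensional of
dimension `g` (the number of Weierstrass gaps when `P` is rational). (The published example is for a
curve over an algebraically closed field; here any field `k` algebraically closed in `K` and any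
place `P` are allowed.) -/
theorem result (k K : Type u) [Field k] [Field K]
    [Algebra k K] (hK : FunFld.IsFunctionField k K) (P : FunFld.Place k K) :
    FiniteDimensional k (AdFn.Kv P ⧸
        (Subalgebra.toSubmodule ((AdFn.SInt ({P} : Set (FunFld.Place k K))).map
            (IsScalarTower.toAlgHom k K (AdFn.Kv P))) ⊔
          Submodule.span k (AdFn.Ov P : Set (AdFn.Kv P)))) ∧
    Module.finrank k (AdFn.Kv P ⧸
        (Subalgebra.toSubmodule ((AdFn.SInt ({P} : Set (FunFld.Place k K))).map
            (IsScalarTower.toAlgHom k K (AdFn.Kv P))) ⊔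
          Submodule.span k (AdFn.Ov P : Set (AdFn.Kv P)))) = FunFld.genus k K := by
  set W' := Subalgebra.toSubmodule ((AdFn.SInt ({P} : Set (FunFld.Place k K))).map
      (IsScalarTower.toAlgHom k K (AdFn.Kv P))) ⊔ Submodule.span k (AdFn.Ov P : Set (AdFn.Kv P))
  let Φ : K →ₗ[k] AdFn.Kv P ⧸ W' := W'.mkQ.comp (IsScalarTower.toAlgHom k K (AdFn.Kv P)).toLinearMap
  have hsurj : Function.Surjective Φ := by
    intro q
    obtain ⟨z, rfl⟩ := Submodule.Quotient.mk_surjective _ q
    obtain ⟨x, hx⟩ := exists_toKv_near P z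
    refine ⟨x, ((Submodule.Quotient.eq _).2 ?_).symm⟩
    exact Submodule.mem_sup_right (Submodule.subset_span hx)
  have hspan : ∀ o ∈ Submodule.span k (AdFn.Ov P : Set (AdFn.Kv P)), o ∈ AdFn.Ov P := by
    intro o ho
    induction ho using Submodule.span_induction with
    | mem x hx => exact hx
    | zero => exact (AdFn.Ov P).zero_mem
    | add x y _ _ hx hy => exact (AdFn.Ov P).add_mem x y hx hy
    | smul c x _ hx =>
      rw [Algebra.smul_def, IsScalarTower.algebraMap_apply k K (AdFn.Kv P)]
      exact (AdFn.Ov P).mul_mem _ _ ((AdFn.toKv_mem_Ov P _).2 (P.2.1 c)) hx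
  have hker : LinearMap.ker Φ = Subalgebra.toSubmodule (AdFn.SInt ({P} : Set (FunFld.Place k K))) ⊔
      Subalgebra.toSubmodule (AdFn.SInt (({P} : Set (FunFld.Place k K))ᶜ)) := by
    ext x
    rw [LinearMap.mem_ker]
    refine (Submodule.Quotient.mk_eq_zero _).trans ⟨fun h => ?_, fun h => ?_⟩
    · obtain ⟨_, ⟨y, hy, rfl⟩, o, ho, e⟩ := Submodule.mem_sup.1 h
      refine Submodule.mem_sup.2 ⟨y, hy, x - y, fun v hv => ?_, by abel⟩
      obtain rfl : v = P := by simpa using hv
      rw [← AdFn.toKv_mem_Ov, map_sub]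
      convert hspan o ho using 1
      exact sub_eq_of_eq_add' e.symm
    · obtain ⟨y, hy, z, hz, rfl⟩ := Submodule.mem_sup.1 h
      rw [map_add]
      exact Submodule.add_mem_sup ⟨y, hy, rfl⟩ (Submodule.subset_span ((AdFn.toKv_mem_Ov P z).2 (hz P (by simp))))
  obtain ⟨hf, hd⟩ := Groth.Agent.S16099.result k K hK P
  let e := (Submodule.quotEquivOfEq _ _ hker.symm).trans (Φ.quotKerEquivOfSurjective hsurj)
  haveI := hf
  exact ⟨Module.Finite.equiv e, e.finrank_eq.symm.trans hd⟩

end Groth.Agent.S16100
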