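import Groth.Statements.S16104
import Mathlib

set_option autoImplicit false
universe u v
open LunaSt

namespace Groth.Agent.S16104

open IsLocalRing in
lemma length_quot_pow_ne_top (A : Type*) [CommRing A] [IsLocalRing A] [IsNoetherianRing A] (n : ℕ) :
    Module.length A (A ⧸ maximalIdeal A ^ (n + 1)) ≠ ⊤ := by
  let I := maximalIdeal A ^ (n + 1)
  haveI : Nontrivial (A ⧸ I) := Ideal.Quotient.nontrivial_iff.mpr (fun h =>
    (maximalIdeal.isMaximal A).ne_top (top_unique (h ▸ Ideal.pow_le_self (Nat.succ_ne_zero n))))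
  haveI : IsLocalRing (A ⧸ I) := IsLocalRing.of_surjective' _ Ideal.Quotient.mk_surjective
  have hle : maximalIdeal (A ⧸ I) ≤ (maximalIdeal A).map (Ideal.Quotient.mk I) := by
    intro x hx
    obtain ⟨a, rfl⟩ := Ideal.Quotient.mk_surjective x
    refine Ideal.mem_map_of_mem _ ?_
    rw [mem_maximalIdeal, mem_nonunits_iff] at hx ⊢
    exact fun h => hx (h.map _)
  haveI : IsArtinianRing (A ⧸ I) := by
    rw [isArtinianRing_iff_isNilpotent_maximalIdeal]
    refine ⟨n + 1, ?_⟩
    rw [Ideal.zero_eq_bot, eq_bot_iff]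
    refine (Ideal.pow_right_mono hle (n + 1)).trans ?_
    rw [← Ideal.map_pow, Ideal.map_quotient_self]
  rw [Module.length_eq_of_surjective (R := A ⧸ I) (S := A) Ideal.Quotient.mk_surjective]
  exact Module.length_ne_top


/-- Case of local rings. Let φ : A → B be a local homomorphism of Noetherian local rings whose composite
A → B/m_B² is surjective (the first infinitesimal neighbourhoods give a closed immersion), and
assume that A/m_A^(n+1) and B/m_B^(n+1) have the same length for every n (the associated graded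
modules of the two maximal ideals have pieces of the same dimension over the common residue field).
Then for every n the composite A → B/m_B^(n+1) is surjective with kernel m_A^(n+1): φ identifies all
infinitesimal neighbourhoods. (The published statement is for a pointed morphism of Noetherian local
algebraic stacks; its proof reduces to this case of local rings.) -/
theorem result
    (A : Type u) (B : Type v) [CommRing A] [CommRing B] [IsLocalRing A] [IsLocalRing B]
    [IsNoetherianRing A] [IsNoetherianRing B] (φ : A →+* B) [IsLocalHom φ]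
    (h1 : Function.Surjective ((Ideal.Quotient.mk (IsLocalRing.maximalIdeal B ^ 2)).comp φ))
    (hlen : ∀ n : ℕ, Module.length A (A ⧸ IsLocalRing.maximalIdeal A ^ (n + 1)) =
      Module.length B (B ⧸ IsLocalRing.maximalIdeal B ^ (n + 1))) (n : ℕ) :
    Function.Surjective ((Ideal.Quotient.mk (IsLocalRing.maximalIdeal B ^ (n + 1))).comp φ) ∧
      RingHom.ker ((Ideal.Quotient.mk (IsLocalRing.maximalIdeal B ^ (n + 1))).comp φ) =
        IsLocalRing.maximalIdeal A ^ (n + 1) := by
  set mA := IsLocalRing.maximalIdeal A with hmA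
  set mB := IsLocalRing.maximalIdeal B with hmB
  have hφm : ∀ a, a ∈ mA → φ a ∈ mB := fun a ha hu => ha (IsLocalHom.map_nonunit a hu)
  have hstep : mB ≤ mA.map φ ⊔ mB ^ 2 := by
    intro b hb
    obtain ⟨a, ha⟩ := h1 (Ideal.Quotient.mk (mB ^ 2) b)
    have hdiff : φ a - b ∈ mB ^ 2 := Ideal.Quotient.eq.mp ha
    have hab : φ a ∈ mB := by
      have := mB.add_mem (Ideal.pow_le_self two_ne_zero hdiff) hb
      rwa [sub_add_cancel] at this
    have haA : a ∈ mA := fun hu => hab (hu.map φ)
    have : b = φ a - (φ a - b) := by ring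
    rw [this]
    exact Submodule.sub_mem_sup (Ideal.mem_map_of_mem φ haA) hdiff
  have hpow : ∀ j : ℕ, ∀ b ∈ mB ^ j, ∃ a ∈ mA ^ j, φ a - b ∈ mB ^ (j + 1) := by
    intro j
    induction j with
    | zero =>
      intro b _
      obtain ⟨a, ha⟩ := h1 (Ideal.Quotient.mk (mB ^ 2) b)
      exact ⟨a, by simp, Ideal.pow_le_pow_right (by norm_num) (Ideal.Quotient.eq.mp ha)⟩
    | succ j ih =>
      intro b hb
      rw [pow_succ] at hb
      induction hb using Submodule.mul_induction_on' with
      | mem_mul_mem u hu v hv =>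
        obtain ⟨a, ha, hau⟩ := ih u hu
        obtain ⟨c, hc⟩ := h1 (Ideal.Quotient.mk (mB ^ 2) v)
        have hcv : φ c - v ∈ mB ^ 2 := Ideal.Quotient.eq.mp hc
        have hcB : φ c ∈ mB := by
          have := mB.add_mem (Ideal.pow_le_self two_ne_zero hcv) hv
          rwa [sub_add_cancel] at this
        have hcA : c ∈ mA := fun hu => hcB (hu.map φ)
        refine ⟨a * c, pow_succ mA j ▸ Ideal.mul_mem_mul ha hcA, ?_⟩
        have : φ (a * c) - u * v = (φ a - u) * φ c + u * (φ c - v) := by rw [map_mul]; ring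
        rw [this]
        refine Ideal.add_mem _ (pow_succ mB (j + 1) ▸ Ideal.mul_mem_mul hau hcB) ?_
        rw [show j + 1 + 1 = j + 2 from rfl, pow_add]
        exact Ideal.mul_mem_mul hu hcv
      | add x hx y hy hxa hya =>
        obtain ⟨a, ha, hax⟩ := hxa
        obtain ⟨c, hc, hcy⟩ := hya
        refine ⟨a + c, add_mem ha hc, ?_⟩
        have : φ (a + c) - (x + y) = (φ a - x) + (φ c - y) := by rw [map_add]; ring
        rw [this]; exact add_mem hax hcy
  set g := (Ideal.Quotient.mk (mB ^ (n + 1))).comp φ with hg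
  have happrox : ∀ j : ℕ, ∀ b : B, ∃ a, φ a - b ∈ mB ^ j := by
    intro j
    induction j with
    | zero => exact fun b => ⟨0, by simp⟩
    | succ j ih =>
      intro b
      obtain ⟨a, ha⟩ := ih b
      obtain ⟨c, -, hc⟩ := hpow j _ ha
      refine ⟨a - c, ?_⟩
      have : φ (a - c) - b = -(φ c - (φ a - b)) := by rw [map_sub]; ring
      rw [this]; exact neg_mem hc
  have hsurj : Function.Surjective g := by
    intro x
    obtain ⟨b, rfl⟩ := Ideal.Quotient.mk_surjective x
    obtain ⟨a, ha⟩ := happrox (n + 1) b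
    exact ⟨a, Ideal.Quotient.eq.mpr ha⟩
  refine ⟨hsurj, ?_⟩
  have hkl : mA ^ (n + 1) ≤ RingHom.ker g := by
    intro a ha
    rw [RingHom.mem_ker, hg, RingHom.comp_apply, Ideal.Quotient.eq_zero_iff_mem]
    have : mA.map φ ≤ mB := Ideal.map_le_iff_le_comap.mpr hφm
    have h' := Ideal.mem_map_of_mem φ ha
    rw [Ideal.map_pow] at h'
    exact Ideal.pow_right_mono this _ h'
  letI : Algebra A (B ⧸ mB ^ (n + 1)) := g.toAlgebra
  let f : (A ⧸ mA ^ (n + 1)) →ₗ[A] (B ⧸ mB ^ (n + 1)) :=
    Submodule.liftQ _ (Algebra.linearMap A (B ⧸ mB ^ (n + 1))) hkl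
  have hf : Function.Surjective f := by
    intro x
    obtain ⟨a, ha⟩ := hsurj x
    exact ⟨Submodule.Quotient.mk a, ha⟩
  have hlen' : Module.length A (B ⧸ mB ^ (n + 1)) = Module.length A (A ⧸ mA ^ (n + 1)) := by
    rw [hlen n, Module.length_eq_of_surjective (R := B ⧸ mB ^ (n + 1)) (S := A) hsurj,
      Module.length_eq_of_surjective (R := B ⧸ mB ^ (n + 1)) (S := B) Ideal.Quotient.mk_surjective]
  have hadd := Module.length_eq_add_of_exact (LinearMap.ker f).subtype f
    (Submodule.subtype_injective _) hf (LinearMap.exact_subtype_ker_map f)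
  rw [hlen'] at hadd
  have h0 : Module.length A (LinearMap.ker f) = 0 := by
    have hne := length_quot_pow_ne_top A n
    exact (WithTop.add_right_cancel hne ((zero_add _).trans hadd)).symm
  rw [Module.length_eq_zero_iff] at h0
  refine le_antisymm (fun a ha => ?_) hkl
  have : (⟨Submodule.Quotient.mk a, ha⟩ : LinearMap.ker f) = 0 := Subsingleton.elim _ _
  exact (Submodule.Quotient.mk_eq_zero _).mp (congrArg Subtype.val this)

end Groth.Agent.S16104
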