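import Groth.Statements.S16105
import Groth.Agent.MultDesc.Chevalley
import Groth.Agent.LinRed.InvariantRing
import Mathlib.RingTheory.Filtration

set_option autoImplicit false
universe u v w w'
open LunaSt

namespace Groth.Agent.S16105

/-- The key claim of its proof. Let k be a field and H a commutative Hopf algebra of finite type over k
all of whose finite-dimensional comodules are semisimple (a linearly reductive affine group G = Spec
H). Let A be a Noetherian commutative k-algebra with a coaction of H that is an algebra map (an
action of G on Spec A), let m be a maximal ideal of A stable under the coaction (for instance the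
ideal of a closed point fixed by G), and assume that the ring of invariants A^G is a Noetherian
local ring, complete with respect to its maximal ideal. Let M be a finite A-module with a compatible
H-coaction (a coherent G-module on Spec A). Then (i) an invariant element of M which lies in m^n M
for every n is zero, and (ii) for every sequence of invariants x_0, x_1, … with x_(n+1) − x_n ∈ m^n
M there is an invariant x with x − x_n ∈ m^n M for all n. In other words M^G → lim_n M^G/(m^n M)^G
is bijective: the m-adic filtration and the filtration by powers of the maximal ideal of A^G induce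
the same topology on M^G. (The ring of invariants is assumed Noetherian here; this also follows from
linear reductivity.) -/
theorem result
    (k : Type u) [Field k] (H : Type v) [CommRing H] [HopfAlgebra k H] [Algebra.FiniteType k H]
    (hG : HopfRep.IsLinearlyReductive k H)
    (A : Type w) [CommRing A] [Algebra k A] [IsNoetherianRing A]
    [HopfRep.Comod k H A] [GLin.IsCoactAlg k H A]
    (m : Ideal A) [m.IsMaximal] (hm : HopfRep.IsSubcomod (k := k) (A := H) (m.restrictScalars k))
    [IsLocalRing ↥(GLin.invariants k H A)] [IsNoetherianRing ↥(GLin.invariants k H A)]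
    [IsAdicComplete (IsLocalRing.maximalIdeal ↥(GLin.invariants k H A)) ↥(GLin.invariants k H A)]
    (M : Type w') [AddCommGroup M] [Module k M] [Module A M] [IsScalarTower k A M] [Module.Finite A M]
    [HopfRep.Comod k H M] [TameAct.IsHopfMod k H A M] :
    (∀ x ∈ HopfRep.fixedPts k H M, (∀ n : ℕ, x ∈ (m ^ n • ⊤ : Submodule A M)) → x = 0) ∧
      ∀ x : ℕ → M, (∀ n, x n ∈ HopfRep.fixedPts k H M) →
        (∀ n, x (n + 1) - x n ∈ (m ^ n • ⊤ : Submodule A M)) →
          ∃ y ∈ HopfRep.fixedPts k H M, ∀ n, y - x n ∈ (m ^ n • ⊤ : Submodule A M) := by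
  classical
  obtain ⟨α, hα⟩ := Groth.Agent.LinRed.exists_isNormIntegral hG
  let C := GLin.invariants k H A
  let P : Submodule C M :=
    { carrier := (HopfRep.fixedPts k H M : Set M)
      add_mem' := fun ha hb => (HopfRep.fixedPts k H M).add_mem ha hb
      zero_mem' := (HopfRep.fixedPts k H M).zero_mem
      smul_mem' := fun c x hx => by
        show HopfRep.Comod.coact (k := k) (A := H) ((c : A) • x) = ((c : A) • x) ⊗ₜ[k] (1 : H)
        rw [Groth.Agent.Comod.coact_smul_invariant c.2,
          show HopfRep.Comod.coact (k := k) (A := H) x = x ⊗ₜ[k] (1 : H) from hx, LinearMap.rTensor_tmul]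
        rfl }
  haveI : Module.Finite C P := by
    obtain ⟨s, hs, hle⟩ := Groth.Agent.LinRed.exists_finset_fixedPts_span (R := A) (M := M) hα
    refine Module.Finite.iff_fg.2 ⟨s, le_antisymm (Submodule.span_le.2 fun x hx => hs hx) fun x hx => ?_⟩
    exact hle hx
  have part1 : ∀ x ∈ HopfRep.fixedPts k H M, (∀ n : ℕ, x ∈ (m ^ n • ⊤ : Submodule A M)) → x = 0 := by
    intro x hx hn
    obtain ⟨⟨r, hr⟩, hrx⟩ := (Ideal.mem_iInf_smul_pow_eq_bot_iff m x).1 (Submodule.mem_iInf _ |>.2 hn)
    have hhom : Hoch.IsComodHom H ((LinearMap.toSpanSingleton A M x).restrictScalars k) := by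
      apply LinearMap.ext
      intro a
      simp only [LinearMap.comp_apply, LinearMap.restrictScalars_apply, LinearMap.toSpanSingleton_apply]
      rw [TameAct.IsHopfMod.coact_smul, show HopfRep.Comod.coact (k := k) (A := H) x = x ⊗ₜ[k] (1 : H) from hx]
      generalize HopfRep.Comod.coact (k := k) (A := H) a = z
      induction z with
      | zero => simp
      | tmul p r => simp
      | add y z hy hz => simp only [map_add, LinearMap.add_apply, hy, hz]
    have h2 := Groth.Agent.Comod.IsComodHom.map_actL hhom α r
    simp only [LinearMap.restrictScalars_apply, LinearMap.toSpanSingleton_apply] at h2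
    simp only at hrx
    rw [hrx, Groth.Agent.LinRed.actL_eq_self hα hx] at h2
    let rb : C := ⟨Groth.Agent.Comod.actL α r, Groth.Agent.LinRed.actL_mem_fixedPts hα r⟩
    have hrbm : (rb : A) ∈ m := Groth.Agent.Comod.IsSubcomod.actL_mem hm α hr
    have hu : ¬ IsUnit rb := fun h => ‹m.IsMaximal›.ne_top
      (m.eq_top_of_isUnit_mem hrbm (h.map C.val))
    have h1 : IsUnit (1 - rb) := IsLocalRing.isUnit_one_sub_self_of_mem_nonunits _ hu
    have h3 : (1 - rb) • x = 0 := by
      show ((1 : A) - (rb : A)) • x = 0
      rw [sub_smul, one_smul, sub_eq_zero]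
      exact h2.symm
    exact h1.smul_eq_zero.1 h3
  refine ⟨part1, fun x hx hstep => ?_⟩
  let F : ℕ → Submodule C P := fun n => (((m ^ n • ⊤ : Submodule A M)).restrictScalars C).comap P.subtype
  have hF : Antitone F := fun a b hab => Submodule.comap_mono (Submodule.restrictScalars_mono _
    (Submodule.smul_mono_left (Ideal.pow_le_pow_right hab)))
  have hF0 : ∀ y : P, (∀ n, y ∈ F n) → y = 0 := fun y hy => Subtype.ext (part1 y.1 y.2 hy)
  choose ν hν using fun N => Groth.Agent.MultDesc.chevalley F hF hF0 N
  let μ : ℕ → ℕ := fun N => Nat.rec (ν 0) (fun i v => max (v + 1) (ν (i + 1))) N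
  have hμ : ∀ N, ν N ≤ μ N := by
    intro N
    cases N with
    | zero => exact le_rfl
    | succ i => exact le_max_right _ _
  have hμmono : ∀ N, μ N ≤ μ (N + 1) := fun N => le_trans (Nat.le_succ _) (le_max_left _ _)
  let X : ℕ → P := fun n => ⟨x n, hx n⟩
  have htel : ∀ a b, a ≤ b → X b - X a ∈ F a := by
    intro a b hab
    induction b, hab using Nat.le_induction with
    | base => simp
    | succ b hb ih =>
      rw [← sub_add_sub_cancel (X (b + 1)) (X b)]
      exact add_mem (hF hb (hstep b)) ih
  obtain ⟨y, hy⟩ := Groth.Agent.MultDesc.exists_limit (C := C) (fun N => X (μ N)) fun N =>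
    hν N (hF (hμ N) (htel _ _ (hμmono N)))
  refine ⟨y.1, y.2, fun n => ?_⟩
  show y - X n ∈ F n
  rw [← Submodule.Quotient.eq]
  refine (IsHausdorff.eq_iff_smodEq (I := IsLocalRing.maximalIdeal C)).2 fun M' => ?_
  rw [SModEq.sub_mem, ← Submodule.Quotient.mk_sub]
  have hle : n ≤ μ (max n M') := le_trans (by
    have : ∀ N, N ≤ μ N := fun N => by
      induction N with
      | zero => exact Nat.zero_le _
      | succ i ih => exact le_trans (Nat.succ_le_succ ih) (le_max_left _ _)
    exact this n) (by
    have : Monotone μ := monotone_nat_of_le_succ hμmono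
    exact this (le_max_left _ _))
  rw [← sub_add_sub_cancel y (X (μ (max n M'))) (X n), Submodule.Quotient.mk_add,
    (Submodule.Quotient.mk_eq_zero _).2 (htel _ _ hle), add_zero]
  have := Submodule.mem_map_of_mem (f := (F n).mkQ)
    (Submodule.smul_mono_left (Ideal.pow_le_pow_right (le_max_right n M')) (hy (max n M')))
  rwa [Submodule.map_smul'', Submodule.map_top, Submodule.range_mkQ] at this

end Groth.Agent.S16105
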