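import Groth.Statements.S16107
import Groth.Agent.LinRed.InvariantRing
import Groth.Prelude.Def_ComodTens

set_option autoImplicit false
universe u v w
open LunaSt

namespace Groth.Agent.S16107

open TensorProduct


/-- Let k be a field and H a commutative Hopf algebra of finite type over k all of whose
finite-dimensional comodules are semisimple (a linearly reductive affine group G = Spec H of finite
type). Let A be a Noetherian commutative k-algebra with a coaction of H that is an algebra map (an
action of G on Spec A). Then A is of finite type as an algebra over its subring of invariants A^G.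
(The published statement is that a good moduli space with affine diagonal of a Noetherian algebraic
stack is of finite type; this row is its case [Spec A/G] → Spec A^G.) -/
theorem result
    (k : Type u) [Field k] (H : Type v) [CommRing H] [HopfAlgebra k H] [Algebra.FiniteType k H]
    (hG : HopfRep.IsLinearlyReductive k H)
    (A : Type w) [CommRing A] [Algebra k A] [IsNoetherianRing A]
    [HopfRep.Comod k H A] [GLin.IsCoactAlg k H A] :
    Algebra.FiniteType ↥(GLin.invariants k H A) A := by
  classical
  obtain ⟨α, hα⟩ := Groth.Agent.LinRed.exists_isNormIntegral hG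
  letI cC : HopfRep.Comod k H (A ⊗[k] H) :=
    ComodTens.Comod.tensor (inferInstance : HopfRep.Comod k H A) (HopfRep.Comod.regular k H)
  -- the diagonal coaction is multiplicative
  let G : A ⊗[k] H →ₐ[k] (A ⊗[k] H) ⊗[k] H :=
    Algebra.TensorProduct.lift
      ((Algebra.TensorProduct.map (Algebra.TensorProduct.includeLeft : A →ₐ[k] A ⊗[k] H) (AlgHom.id k H)).comp
        (GLin.coactAlgHom k H A))
      ((Algebra.TensorProduct.map (Algebra.TensorProduct.includeRight : H →ₐ[k] A ⊗[k] H) (AlgHom.id k H)).comp
        (Bialgebra.comulAlgHom k H)) (fun _ _ => Commute.all _ _)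
  have hG' : ∀ z, cC.coact z = G z := by
    intro z
    induction z with
    | zero => simp
    | add y z hy hz => simp only [map_add, hy, hz]
    | tmul a h =>
      rw [ComodTens.tensor_coact_tmul]
      simp only [G, Algebra.TensorProduct.lift_tmul, AlgHom.comp_apply, GLin.coactAlgHom_apply,
        Bialgebra.comulAlgHom_apply]
      show _ = Algebra.TensorProduct.map _ _ (HopfRep.Comod.coact (k := k) (A := H) a) *
        Algebra.TensorProduct.map _ _ (Coalgebra.comul (R := k) h)
      change TensorProduct.map LinearMap.id (LinearMap.mul' k H)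
        (TensorProduct.AlgebraTensorModule.tensorTensorTensorComm k k k k A H H H
          (HopfRep.Comod.coact (k := k) (A := H) a ⊗ₜ[k] Coalgebra.comul (R := k) h)) = _
      generalize HopfRep.Comod.coact (k := k) (A := H) a = x
      generalize Coalgebra.comul (R := k) h = y
      induction x with
      | zero => simp
      | tmul p q =>
        induction y with
        | zero => simp
        | tmul s t => simp
        | add y z hy hz => simp only [tmul_add, map_add, mul_add, hy, hz]
      | add y z hy hz => simp only [add_tmul, map_add, add_mul, hy, hz]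
  haveI : GLin.IsCoactAlg k H (A ⊗[k] H) := ⟨by rw [hG', map_one], fun f g => by rw [hG', hG', hG', map_mul]⟩
  haveI : Algebra.FiniteType A (A ⊗[k] H) := inferInstance
  have hAC : Hoch.IsComodHom H (IsScalarTower.toAlgHom k A (A ⊗[k] H)).toLinearMap := by
    apply LinearMap.ext
    intro a
    show cC.coact (a ⊗ₜ[k] (1 : H)) = _
    rw [hG']
    simp only [G, Algebra.TensorProduct.lift_tmul, map_one, mul_one, AlgHom.comp_apply, GLin.coactAlgHom_apply,
      LinearMap.comp_apply]
    generalize HopfRep.Comod.coact (k := k) (A := H) a = x
    induction x with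
    | zero => simp
    | tmul p q => simp
    | add y z hy hz => simp only [map_add, hy, hz]
  obtain ⟨s, hs⟩ := Groth.Agent.LinRed.exists_finset_invariants_eq hα A (A ⊗[k] H) hAC
  -- untwisting
  let F : A →ₐ[k] A ⊗[k] H :=
    (Algebra.TensorProduct.map (AlgHom.id k A) (HopfAlgebra.antipodeAlgHom k H)).comp (GLin.coactAlgHom k H A)
  have hF : ∀ a, F a ∈ GLin.invariants k H (A ⊗[k] H) := by
    intro a
    show cC.coact (F a) = F a ⊗ₜ[k] (1 : H)
    let S := HopfAlgebraStruct.antipode k (A := H)
    let h : H ⊗[k] (H ⊗[k] H) →ₗ[k] H ⊗[k] H :=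
      (LinearMap.mul' k H).lTensor H ∘ₗ (TensorProduct.leftComm k H H H).toLinearMap ∘ₗ
        TensorProduct.map LinearMap.id (TensorProduct.map S S ∘ₗ (TensorProduct.comm k H H).toLinearMap)
    let K : A ⊗[k] (H ⊗[k] H) →ₗ[k] (A ⊗[k] H) ⊗[k] H := (TensorProduct.assoc k A H H).symm.toLinearMap
    have e1 : ∀ x : A ⊗[k] H,
        cC.coact (Algebra.TensorProduct.map (AlgHom.id k A) (HopfAlgebra.antipodeAlgHom k H) x) =
          K ((h ∘ₗ (Coalgebra.comul (R := k) (A := H)).lTensor H).lTensor A
            (TensorProduct.assoc k A H H ((HopfRep.Comod.coact (k := k) (A := H)).rTensor H x))) := by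
      intro x
      induction x with
      | zero => simp
      | tmul u c =>
        rw [hG']
        simp only [G, Algebra.TensorProduct.map_tmul, AlgHom.coe_id, id_eq, Algebra.TensorProduct.lift_tmul,
          AlgHom.comp_apply, GLin.coactAlgHom_apply, HopfAlgebra.antipodeAlgHom_apply,
          Bialgebra.comulAlgHom_apply, LinearMap.rTensor_tmul, Groth.Agent.HopfLib.comul_antipode]
        generalize HopfRep.Comod.coact (k := k) (A := H) u = y
        induction y with
        | zero => simp
        | tmul p b =>
          simp only [Algebra.TensorProduct.map_tmul, AlgHom.coe_id, id_eq, TensorProduct.assoc_tmul,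
            LinearMap.lTensor_tmul, LinearMap.comp_apply]
          generalize Coalgebra.comul (R := k) c = z
          induction z with
          | zero => simp
          | tmul c₁ c₂ => simp [h, K, S]
          | add y z hy hz => simp only [map_add, mul_add, tmul_add, hy, hz]
        | add y z hy hz => simp only [map_add, add_tmul, add_mul, hy, hz]
      | add y z hy hz => simp only [map_add, hy, hz]
    have e2 : ∀ y : A ⊗[k] H,
        K ((h ∘ₗ (Coalgebra.comul (R := k) (A := H)).lTensor H).lTensor A ((Coalgebra.comul (R := k)).lTensor A y)) =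
          Algebra.TensorProduct.map (AlgHom.id k A) (HopfAlgebra.antipodeAlgHom k H) y ⊗ₜ[k] (1 : H) := by
      intro y
      induction y with
      | zero => simp
      | tmul u c =>
        simp only [LinearMap.lTensor_tmul, LinearMap.comp_apply]
        rw [← Coalgebra.coassoc_apply]
        have e3 : ∀ z : H ⊗[k] H,
            h (TensorProduct.assoc k H H H ((Coalgebra.comul (R := k) (A := H)).rTensor H z)) =
              S (Groth.Agent.Comod.slL (Coalgebra.counit (R := k)) z) ⊗ₜ[k] (1 : H) := by
          intro z
          induction z with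
          | zero => simp
          | tmul p q =>
            have e4 : ∀ w : H ⊗[k] H, h (TensorProduct.assoc k H H H (w ⊗ₜ q)) =
                S q ⊗ₜ[k] LinearMap.mul' k H (S.lTensor H w) := by
              intro w
              induction w with
              | zero => simp
              | tmul a b => simp [h, S]
              | add y z hy hz => simp only [map_add, add_tmul, tmul_add, hy, hz]
            rw [LinearMap.rTensor_tmul, e4, HopfAlgebra.mul_antipode_lTensor_comul_apply]
            simp [ TensorProduct.smul_tmul, Algebra.algebraMap_eq_smul_one]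
          | add y z hy hz => simp only [map_add, add_tmul, hy, hz]
        rw [e3]
        have e5 : Groth.Agent.Comod.slL (Coalgebra.counit (R := k)) (Coalgebra.comul (R := k) c) = c := by simp [Groth.Agent.Comod.slL]
        rw [e5]
        simp [K, S]
      | add y z hy hz => simp only [map_add, add_tmul, hy, hz]
    have hco := LinearMap.congr_fun (HopfRep.Comod.coassoc (k := k) (A := H) (V := A)) a
    simp only [LinearMap.comp_apply, LinearEquiv.coe_coe] at hco
    show cC.coact (Algebra.TensorProduct.map _ _ (GLin.coactAlgHom k H A a)) = _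
    rw [e1, GLin.coactAlgHom_apply, hco, e2]
    rfl
  let r : A ⊗[k] H →ₐ[k] A :=
    (Algebra.TensorProduct.rid k k A).toAlgHom.comp
      (Algebra.TensorProduct.map (AlgHom.id k A) (Bialgebra.counitAlgHom k H))
  have hr : ∀ a, r (F a) = a := by
    intro a
    have e : ∀ x : A ⊗[k] H, r (Algebra.TensorProduct.map (AlgHom.id k A) (HopfAlgebra.antipodeAlgHom k H) x) =
        Groth.Agent.Comod.slR (Coalgebra.counit (R := k)) x := by
      intro x
      induction x with
      | zero => simp
      | tmul p q => simp [r]
      | add y z hy hz => simp only [map_add, hy, hz]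
    show r (Algebra.TensorProduct.map _ _ (GLin.coactAlgHom k H A a)) = a
    rw [e, GLin.coactAlgHom_apply, ← Groth.Agent.Comod.actL_apply, Groth.Agent.Comod.actL_counit]
  refine ⟨⟨s.image r, ?_⟩⟩
  rw [eq_top_iff]
  rintro a -
  rw [← hr a]
  have h1 : F a ∈ Algebra.adjoin k
      (⇑(algebraMap A (A ⊗[k] H)) '' ↑(GLin.invariants k H A) ∪ ↑s) := hs ▸ hF a
  have h2 : r (F a) ∈ (Algebra.adjoin k
      (⇑(algebraMap A (A ⊗[k] H)) '' ↑(GLin.invariants k H A) ∪ ↑s)).map r := ⟨_, h1, rfl⟩
  rw [AlgHom.map_adjoin] at h2
  have hle : Algebra.adjoin k (⇑r '' (⇑(algebraMap A (A ⊗[k] H)) '' ↑(GLin.invariants k H A) ∪ ↑s)) ≤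
      (Algebra.adjoin ↥(GLin.invariants k H A) ((s.image r : Finset A) : Set A)).restrictScalars k := by
    refine Algebra.adjoin_le ?_
    rintro _ ⟨x, (⟨b, hb, rfl⟩ | hx), rfl⟩
    · have hb' : r (algebraMap A (A ⊗[k] H) b) = algebraMap ↥(GLin.invariants k H A) A ⟨b, hb⟩ := by
        show r (b ⊗ₜ[k] (1 : H)) = b
        simp [r]
      rw [hb']
      exact Subalgebra.algebraMap_mem (Algebra.adjoin ↥(GLin.invariants k H A) ((s.image r : Finset A) : Set A)) _
    · exact Algebra.subset_adjoin (Finset.mem_coe.2 (Finset.mem_image_of_mem _ hx))
  exact hle h2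

end Groth.Agent.S16107
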