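import Groth.Statements.S16124
import Groth.Agent.GenLocus.Ample

set_option backward.isDefEq.respectTransparency.types false

set_option autoImplicit false
universe u
open CategoryTheory MonoidalCategory CartesianMonoidalCategory MonObj GrpObj AlgebraicGeometry CategoryTheory.Limits
open AlgGrp

namespace Groth.Agent.S16124Aux
theorem mem_iInf {α : Type*} [TopologicalSpace α] {I : Type*} [Finite I] {U : I → TopologicalSpace.Opens α} {x : α} :
    x ∈ ⨅ i, U i ↔ ∀ i, x ∈ U i := by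
  rw [← SetLike.mem_coe, TopologicalSpace.Opens.coe_iInf, Set.mem_iInter]; rfl
end Groth.Agent.S16124Aux

namespace Groth.Agent.S16124

/-- Over an algebraically closed field k, let X be a quasi-projective variety (a reduced separated
k-scheme, quasi-projective over k) with an action of a finite group Γ by k-automorphisms. Then X is
covered by Γ-stable affine open subschemes: every point x of X lies in an affine open U with σ⁻¹(U)
= U for every σ in Γ. -/
theorem result (k : Type u) [Field k] [IsAlgClosed k]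
    (X : Over (Spec (CommRingCat.of k))) [IsReduced X.left] [IsSeparated X.hom] (hX : RelProj.IsQuasiProjective X.hom)
    (Γgrp : Type u) [Group Γgrp] [Finite Γgrp] (ρ : Γgrp →* Aut X.left)
    (hρ : ∀ σ : Γgrp, (ρ σ).hom ≫ X.hom = X.hom) (x : ↥X.left) :
    ∃ U : X.left.Opens, x ∈ U ∧ IsAffineOpen U ∧ ∀ σ : Γgrp, (ρ σ).hom ⁻¹ᵁ U = U := by
  classical
  obtain ⟨-, -, L, hL⟩ := hX
  let V : (Spec (CommRingCat.of k)).affineOpens := ⟨⊤, isAffineOpen_top _⟩
  let P := X.hom ⁻¹ᵁ V.1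
  have hP : P = ⊤ := rfl
  let Z : Set P.toScheme := Set.range fun σ : Γgrp => (⟨(ρ σ).hom x, trivial⟩ : P.toScheme)
  obtain ⟨n, s, hZs, -, hs⟩ := Groth.Agent.GenLocus.exists_affine_genLocus_of_finite (hL.2 V) (Z := Z) (Set.finite_range _) ⊤ (fun _ _ => trivial)
  let U₀ : X.left.Opens := P.ι ''ᵁ CohB1.genLocus _ s
  have hU₀ : IsAffineOpen U₀ := hs.image_of_isOpenImmersion _
  have hmem : ∀ σ : Γgrp, (ρ σ).hom x ∈ U₀ := fun σ => ⟨_, hZs ⟨σ, rfl⟩, rfl⟩
  haveI : X.left.IsSeparated := ⟨by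
    rw [show terminal.from X.left = X.hom ≫ terminal.from _ from terminal.hom_ext _ _]; infer_instance⟩
  refine ⟨⨅ σ : Γgrp, (ρ σ).hom ⁻¹ᵁ U₀, Groth.Agent.S16124Aux.mem_iInf.2 hmem, IsAffineOpen.iInf fun σ => hU₀.preimage_of_isIso _, fun τ => ?_⟩
  apply TopologicalSpace.Opens.ext
  ext y
  simp only [Scheme.Hom.coe_preimage, Set.mem_preimage, SetLike.mem_coe, Groth.Agent.S16124Aux.mem_iInf]
  have e : ∀ σ, (ρ σ).hom ((ρ τ).hom y) = (ρ (σ * τ)).hom y := fun σ => by
    rw [map_mul]; rfl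
  refine ⟨fun h σ => ?_, fun h σ => ?_⟩
  · have := h (σ * τ⁻¹)
    change (ρ (σ * τ⁻¹)).hom ((ρ τ).hom y) ∈ U₀ at this
    rw [e, inv_mul_cancel_right] at this
    exact this
  · change (ρ σ).hom ((ρ τ).hom y) ∈ U₀
    rw [e]; exact h (σ * τ)

end Groth.Agent.S16124
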