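import Groth.Statements.S16125
import Groth.Agent.S16480

set_option autoImplicit false
universe u
open AlgGrp

namespace Groth.Agent.S16125

/-- Retired milestone (weight 0, no credit; kept so that existing proof files which import this module still build). Every affine algebraic group is linear. Over an algebraically closed field k, let A be a finitely
generated reduced commutative Hopf algebra over k (so that G = Spec A is an affine algebraic group).
Then for some n there is a surjective homomorphism of k-bialgebras from the coordinate ring k[X_ij,
D]/(det · D − 1) of GL_n onto A; equivalently G admits a homomorphism to GL_n which is a closed
immersion. -/
theorem result (k : Type u) [Field k] [IsAlgClosed k]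
    (A : Type u) [CommRing A] [HopfAlgebra k A] [Algebra.FiniteType k A] [IsReduced A] :
    ∃ (n : ℕ) (φ : CoordGrp.GLn n k →ₐc[k] A), Function.Surjective φ := by
  exact Groth.Agent.S16480.result k A

end Groth.Agent.S16125
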