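import Groth.Statements.S16126
import Groth.Agent.GrpSch.CentralChar
import Groth.Agent.MultHopf.Bridge

set_option autoImplicit false
universe u
open CategoryTheory MonoidalCategory CartesianMonoidalCategory MonObj GrpObj AlgebraicGeometry CategoryTheory.Limits
open AlgGrp
open scoped TensorProduct

namespace Groth.Agent.S16126

/-- Over an algebraically closed field k, let E and G be linear algebraic groups (affine smooth k-group
schemes) with G connected, i : 𝔾_m → E a homomorphism which is a closed immersion with central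
image, and f : E → G a flat surjective homomorphism with kernel i (a central extension 1 → 𝔾_m → E →
G → 1). Then there exist a character χ : E → 𝔾_m and an integer n ≥ 1 such that χ ∘ i is the n-th
power map of 𝔾_m: for every point t of 𝔾_m with values in a k-scheme T, χ(i(t)) = tⁿ in the group of
T-points of 𝔾_m. (The published lemma is stated in a setting where all groups are linear; for a
connected G that is not linear the conclusion can fail.) -/
theorem result (k : Type u) [Field k] [IsAlgClosed k]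
    (E G : Over (Spec (CommRingCat.of k))) [GrpObj E] [IsAffine E.left] [Smooth E.hom]
    [GrpObj G] [IsAffine G.left] [Smooth G.hom] [ConnectedSpace ↥G.left]
    (i : Red.Gm (Spec (CommRingCat.of k)) ⟶ E) [IsMonHom i] [IsClosedImmersion i.left]
    (hcent : ∀ (T : Over (Spec (CommRingCat.of k))) (t : T ⟶ Red.Gm (Spec (CommRingCat.of k))) (g : T ⟶ E),
      (t ≫ i) * g = g * (t ≫ i))
    (f : E ⟶ G) [IsMonHom f] [Flat f.left] [Surjective f.left] (hker : AlgGrp.IsKernel i f) :
    ∃ (χ : E ⟶ Red.Gm (Spec (CommRingCat.of k))) (n : ℕ), IsMonHom χ ∧ 1 ≤ n ∧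
      ∀ (T : Over (Spec (CommRingCat.of k))) (t : T ⟶ Red.Gm (Spec (CommRingCat.of k))), (t ≫ i) ≫ χ = t ^ n := by
  classical
  haveI : IsAffineHom E.hom := inferInstance
  obtain ⟨A, _, _, ⟨eA⟩⟩ := MultHopf.exists_hopf k E
  let eB := MultHopf.bcDiag (ULift.{u} ℤ) k
    (Limits.IsTerminal.from specULiftZIsTerminal (Spec (CommRingCat.of k))) ℤ
  let M := ULift.{u} (Multiplicative ℤ)
  let B := MonoidAlgebra k M
  let J : Grp.mk (MultHopf.hspec k B) ⟶ Grp.mk (MultHopf.hspec k A) := eB.inv ≫ Grp.ofHom i ≫ eA.hom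
  let π : A →ₐc[k] B := ((hopfSpec.fullyFaithful (R := CommRingCat.of k)).preimage
    (X := Opposite.op (CommHopfAlgCat.of k B)) (Y := Opposite.op (CommHopfAlgCat.of k A)) J).unop.hom
  have hJ : J.hom.hom = Spec.mapMulEquiv (R := k) (WithConv.toConv (π : A →ₐ[k] B)) := by
    refine (congrArg (fun z => z.hom.hom) ((hopfSpec.fullyFaithful (R := CommRingCat.of k)).map_preimage
      (X := Opposite.op (CommHopfAlgCat.of k B)) (Y := Opposite.op (CommHopfAlgCat.of k A)) J)).symm.trans ?_
    rfl
  -- the forgetful images of the isomorphisms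
  let a₁ : E ⟶ MultHopf.hspec k A := eA.hom.hom.hom
  let a₂ : MultHopf.hspec k A ⟶ E := eA.inv.hom.hom
  let b₁ : Red.Gm (Spec (CommRingCat.of k)) ⟶ MultHopf.hspec k B := eB.hom.hom.hom
  let b₂ : MultHopf.hspec k B ⟶ Red.Gm (Spec (CommRingCat.of k)) := eB.inv.hom.hom
  have ha : a₁ ≫ a₂ = 𝟙 E := congrArg (fun z => z.hom.hom) eA.hom_inv_id
  have hb : b₁ ≫ b₂ = 𝟙 _ := congrArg (fun z => z.hom.hom) eB.hom_inv_id
  have hb' : b₂ ≫ b₁ = 𝟙 _ := congrArg (fun z => z.hom.hom) eB.inv_hom_id
  have ha' : a₂ ≫ a₁ = 𝟙 _ := congrArg (fun z => z.hom.hom) eA.inv_hom_id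
  have hJi : J.hom.hom = b₂ ≫ i ≫ a₁ := rfl
  -- the map `π` is surjective
  have hπ : Function.Surjective π := by
    have : IsClosedImmersion (J.hom.hom).left := by
      rw [hJi, Over.comp_left, Over.comp_left]
      haveI : IsIso b₂.left := ⟨b₁.left, by rw [← Over.comp_left, hb']; rfl, by rw [← Over.comp_left, hb]; rfl⟩
      haveI : IsIso a₁.left := ⟨a₂.left, by rw [← Over.comp_left, ha]; rfl, by rw [← Over.comp_left, ha']; rfl⟩
      infer_instance
    rw [hJ] at this
    have h2 : IsClosedImmersion (Spec.map (CommRingCat.ofHom (π : A →ₐ[k] B).toRingHom)) := this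
    have h3 := (IsClosedImmersion.isAffine_surjective_of_isAffine (Spec.map (CommRingCat.ofHom (π : A →ₐ[k] B).toRingHom))).2
    intro y
    obtain ⟨s, hs⟩ := h3 ((Scheme.ΓSpecIso (CommRingCat.of B)).inv y)
    refine ⟨(Scheme.ΓSpecIso (CommRingCat.of A)).hom s, ?_⟩
    have hn := congrArg (fun e => e s) (Scheme.ΓSpecIso_naturality (CommRingCat.ofHom (π : A →ₐ[k] B).toRingHom))
    change (Scheme.ΓSpecIso (CommRingCat.of B)).hom ((Spec.map (CommRingCat.ofHom (π : A →ₐ[k] B).toRingHom)).appTop s) = _ at hn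
    rw [hs] at hn
    exact hn.symm.trans (Iso.inv_hom_id_apply _ _)
  -- centrality in terms of the coordinate rings
  have hc : ∀ x : A, (π : A →ₗ[k] B).lTensor A (Coalgebra.comul x) =
      (π : A →ₗ[k] B).lTensor A (TensorProduct.comm k A A (Coalgebra.comul x)) := by
    let T := (Spec (CommRingCat.of (A ⊗[k] B))).asOver (Spec (CommRingCat.of k))
    let l : WithConv (A →ₐ[k] A ⊗[k] B) := WithConv.toConv Algebra.TensorProduct.includeLeft
    let r : WithConv (A →ₐ[k] A ⊗[k] B) :=
      WithConv.toConv ((Algebra.TensorProduct.includeRight : B →ₐ[k] A ⊗[k] B).comp (π : A →ₐ[k] B))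
    let r' : T ⟶ MultHopf.hspec k B := Spec.mapMulEquiv (R := k) (WithConv.toConv
      (Algebra.TensorProduct.includeRight : B →ₐ[k] A ⊗[k] B))
    have hr : Spec.mapMulEquiv (R := k) r = r' ≫ J.hom.hom := by
      rw [hJ]
      refine Over.OverMorphism.ext ?_
      change Spec.map _ = Spec.map _ ≫ Spec.map _
      rw [← Spec.map_comp]
      rfl
    have h := hcent T (r' ≫ b₂) (Spec.mapMulEquiv (R := k) l ≫ a₂)
    have h' := congrArg (fun z => z ≫ a₁) h
    haveI : IsMonHom a₁ := eA.hom.hom.isMonHom_hom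
    simp only [MonObj.mul_comp, Category.assoc, ha', Category.comp_id] at h'
    rw [← hJi, ← hr, ← map_mul, ← map_mul] at h'
    have h'' := congrArg WithConv.ofConv ((Spec.mapMulEquiv (R := k)).injective h')
    intro x
    have hx := DFunLike.congr_fun h'' x
    simp only [AlgHom.convMul_apply] at hx
    have key : ∀ y : A ⊗[k] A,
        Algebra.TensorProduct.lift (Algebra.TensorProduct.includeLeft : A →ₐ[k] A ⊗[k] B)
          ((Algebra.TensorProduct.includeRight : B →ₐ[k] A ⊗[k] B).comp (π : A →ₐ[k] B))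
          (fun _ _ => Commute.all _ _) y = (π : A →ₗ[k] B).lTensor A y ∧
        Algebra.TensorProduct.lift ((Algebra.TensorProduct.includeRight : B →ₐ[k] A ⊗[k] B).comp (π : A →ₐ[k] B))
          (Algebra.TensorProduct.includeLeft : A →ₐ[k] A ⊗[k] B)
          (fun _ _ => Commute.all _ _) y = (π : A →ₗ[k] B).lTensor A (TensorProduct.comm k A A y) := by
      intro y
      induction y with
      | zero => simp
      | tmul p q => simp
      | add p q hp hq =>
        constructor
        · simp only [map_add, hp.1, hq.1]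
        · simp only [map_add, hp.2, hq.2]
    rw [← (key _).1, ← (key _).2]
    exact hx.symm
  let m : M := ULift.up (Multiplicative.ofAdd 1)
  obtain ⟨g, d, hd, hg⟩ := GrpSch.CentralChar.exists_groupLike π hπ hc m
  let h : M →* GroupLike k A :=
    { toFun := fun x => g ^ Multiplicative.toAdd x.down
      map_one' := zpow_zero g
      map_mul' := fun x y => zpow_add g _ _ }
  let ψ : B →ₐc[k] A := (MonoidAlgebra.liftGroupLikeBialgHom (R := k) (A := A)).comp
    (MonoidAlgebra.mapDomainBialgHom k h)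
  let χ₀ : Grp.mk (MultHopf.hspec k A) ⟶ Grp.mk (MultHopf.hspec k B) :=
    (hopfSpec (CommRingCat.of k)).map (X := Opposite.op (CommHopfAlgCat.of k A))
      (Y := Opposite.op (CommHopfAlgCat.of k B)) (CommHopfAlgCat.ofHom ψ).op
  refine ⟨(eA.hom ≫ χ₀ ≫ eB.inv).hom.hom, d, (eA.hom ≫ χ₀ ≫ eB.inv).hom.isMonHom_hom, hd, fun T t => ?_⟩
  have hcomp : (π : A →ₐ[k] B).comp (ψ : B →ₐ[k] A) =
      WithConv.ofConv ((WithConv.toConv (AlgHom.id k B)) ^ d) := by
    refine MonoidAlgebra.algHom_ext (fun n => ?_) (Algebra.ext_id _ _ _)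
    obtain ⟨z, rfl⟩ : ∃ z : ℤ, n = ULift.up (Multiplicative.ofAdd z) := ⟨Multiplicative.toAdd n.down, rfl⟩
    have hpow : ∀ (e : ℕ), (WithConv.toConv (AlgHom.id k B) ^ e).ofConv
        (MonoidAlgebra.single (ULift.up (Multiplicative.ofAdd z)) 1) =
        MonoidAlgebra.single ((ULift.up (Multiplicative.ofAdd z) : M) ^ e) 1 := by
      intro e
      induction e with
      | zero =>
        rw [pow_zero, pow_zero, AlgHom.convOne_apply, MonoidAlgebra.counit_single]
        simp [MonoidAlgebra.one_def]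
        rfl
      | succ e ih =>
        rw [pow_succ, pow_succ, AlgHom.convMul_apply,
          (MonoidAlgebra.isGroupLikeElem_single_one _).comul_eq_tmul_self, Algebra.TensorProduct.lift_tmul, ih]
        exact (MonoidAlgebra.single_mul_single ..).trans (by rw [_root_.mul_one])
    rw [hpow]
    have hψ : ψ (MonoidAlgebra.single (ULift.up (Multiplicative.ofAdd z)) 1) = ((g ^ z : GroupLike k A) : A) := by
      change MonoidAlgebra.liftGroupLikeBialgHom (R := k) (A := A) (MonoidAlgebra.mapDomainBialgHom k h _) = _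
      rw [MonoidAlgebra.mapDomainBialgHom_single]
      simp [h, MonoidAlgebra.liftGroupLikeBialgHom]
    change π (ψ _) = _
    rw [hψ]
    let πg : GroupLike k A →* GroupLike k B :=
      { toFun := fun x => ⟨π x.1, IsGroupLikeElem.map π x.2⟩
        map_one' := GroupLike.ext (map_one π)
        map_mul' := fun x y => GroupLike.ext (map_mul π _ _) }
    let sg : M →* GroupLike k B :=
      { toFun := fun x => ⟨MonoidAlgebra.single x 1, MonoidAlgebra.isGroupLikeElem_single_one x⟩
        map_one' := GroupLike.ext rfl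
        map_mul' := fun x y => GroupLike.ext (((MonoidAlgebra.single_mul_single ..).trans (by rw [_root_.mul_one])).symm) }
    have hgd : πg g = sg (m ^ d) := GroupLike.ext hg
    have hzm : (ULift.up (Multiplicative.ofAdd z) : M) = m ^ z := by
      apply ULift.ext
      change Multiplicative.ofAdd z = (MulEquiv.ulift (m ^ z) : Multiplicative ℤ)
      rw [map_zpow]
      change Multiplicative.ofAdd z = Multiplicative.ofAdd (1 : ℤ) ^ z
      rw [← ofAdd_zsmul, smul_eq_mul, _root_.mul_one]
    calc π ((g ^ z : GroupLike k A) : A) = ((πg (g ^ z) : GroupLike k B) : B) := rfl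
      _ = ((sg ((m ^ z) ^ d) : GroupLike k B) : B) := by
        rw [map_zpow, hgd, ← map_zpow, ← zpow_natCast, ← zpow_natCast, ← zpow_mul, ← zpow_mul, mul_comm]
      _ = _ := by rw [hzm]; rfl
  have hend : J.hom.hom ≫ χ₀.hom.hom = (𝟙 (MultHopf.hspec k B)) ^ d := by
    have hid : (𝟙 (MultHopf.hspec k B)) = Spec.mapMulEquiv (R := k) (WithConv.toConv (AlgHom.id k B)) :=
      Over.OverMorphism.ext (Spec.map_id _).symm
    rw [hid, ← map_pow, hJ]
    refine Over.OverMorphism.ext ?_
    change Spec.map _ ≫ Spec.map _ = Spec.map _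
    rw [← Spec.map_comp]
    exact congrArg (fun f => Spec.map (CommRingCat.ofHom f)) (congrArg AlgHom.toRingHom hcomp)
  haveI hb₁ : IsMonHom b₁ := eB.hom.hom.isMonHom_hom
  haveI hb₂ : IsMonHom b₂ := eB.inv.hom.isMonHom_hom
  change (t ≫ i) ≫ a₁ ≫ χ₀.hom.hom ≫ b₂ = _
  have : i ≫ a₁ = b₁ ≫ J.hom.hom := by rw [hJi, reassoc_of% hb]
  have hp : ((𝟙 (MultHopf.hspec k B)) ^ d) ≫ b₂ = b₂ ^ d := by
    have h1 := @MonObj.pow_comp _ _ _ _ _ _ _ _ (𝟙 (MultHopf.hspec k B)) d b₂ hb₂
    rw [Category.id_comp] at h1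
    exact h1
  rw [Category.assoc, reassoc_of% this, reassoc_of% hend, hp, MonObj.comp_pow,
    hb, MonObj.comp_pow, Category.comp_id]

end Groth.Agent.S16126
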