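import Groth.Statements.S16127
import Groth.Agent.GrpSch.BundleMap
import Mathlib.AlgebraicGeometry.Sites.Fpqc

set_option autoImplicit false
set_option backward.isDefEq.respectTransparency.types false
universe u
open CategoryTheory MonoidalCategory CartesianMonoidalCategory MonObj GrpObj AlgebraicGeometry CategoryTheory.Limits
open AlgGrp

namespace Groth.Agent.S16127

/-- The ring of functions on the affine line over the integers. -/
noncomputable abbrev lineRing : CommRingCat.{u} := CommRingCat.of (Polynomial (ULift.{u} ℤ))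

/-- The ring map sending the coordinate to `t`. -/
noncomputable def evalHom {X : Scheme.{u}} (t : Γ(X, ⊤)) : lineRing.{u} ⟶ Γ(X, ⊤) :=
  CommRingCat.ofHom (Polynomial.eval₂RingHom
    ((Int.castRingHom _).comp (ULift.ringEquiv : ULift.{u} ℤ ≃+* ℤ).toRingHom) t)

/-- A global function as a morphism to the affine line. -/
noncomputable def toLine {X : Scheme.{u}} (t : Γ(X, ⊤)) : X ⟶ Spec lineRing.{u} :=
  X.toSpecΓ ≫ Spec.map (evalHom t)

lemma comp_toLine {X Y : Scheme.{u}} (f : X ⟶ Y) (t : Γ(Y, ⊤)) : f ≫ toLine t = toLine (f.appTop t) := by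
  have e : evalHom t ≫ f.appTop = evalHom (f.appTop t) := by
    ext1
    apply Polynomial.ringHom_ext
    · intro z
      obtain ⟨z⟩ := z
      simp [evalHom]
    · simp [evalHom]
  rw [toLine, toLine, Scheme.toSpecΓ_naturality_assoc, ← Spec.map_comp, e]

lemma appTop_toLine {X : Scheme.{u}} (t : Γ(X, ⊤)) :
    (toLine t).appTop = (Scheme.ΓSpecIso lineRing.{u}).hom ≫ evalHom t := by
  rw [toLine, Scheme.Hom.comp_appTop, Scheme.toSpecΓ_appTop]
  exact Scheme.ΓSpecIso_naturality (evalHom t)

lemma appTop_toLine_X {X : Scheme.{u}} (t : Γ(X, ⊤)) :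
    (toLine t).appTop ((Scheme.ΓSpecIso lineRing.{u}).inv Polynomial.X) = t := by
  rw [appTop_toLine]
  show evalHom t ((Scheme.ΓSpecIso lineRing.{u}).hom ((Scheme.ΓSpecIso lineRing.{u}).inv Polynomial.X)) = t
  rw [← CommRingCat.comp_apply (Scheme.ΓSpecIso lineRing.{u}).inv, Iso.inv_hom_id, CommRingCat.id_apply]
  simp [evalHom]

lemma toLine_injective {X : Scheme.{u}} : Function.Injective (toLine (X := X)) := fun t t' h ↦ by
  rw [← appTop_toLine_X t, h, appTop_toLine_X]

lemma eq_toLine {X : Scheme.{u}} (g : X ⟶ Spec lineRing.{u}) :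
    g = toLine (g.appTop ((Scheme.ΓSpecIso lineRing.{u}).inv Polynomial.X)) := by
  refine ext_of_isAffine ?_
  rw [appTop_toLine, ← Iso.inv_comp_eq]
  ext1
  apply Polynomial.ringHom_ext
  · intro z
    obtain ⟨z⟩ := z
    rw [show (ULift.up z : ULift.{u} ℤ) = (z : ULift.{u} ℤ) from rfl, map_intCast, map_intCast, map_intCast]
  · simp [evalHom]

/-- Over an algebraically closed field k, let G be an algebraic group (a smooth k-group scheme of finite
type) acting by σ on a variety X, and let f : X → Y be a principal G-bundle over a variety Y (X, Y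
reduced separated k-schemes of finite type; f flat and surjective, the square σ, p₂ : G × X → X, f,
f cartesian). Then f^* identifies Γ(Y, O_Y) with the invariants Γ(X, O_X)^G: f^* on global sections
is injective and its range is the set of global functions s on X with σ^*(s) = p₂^*(s). -/
theorem result (k : Type u) [Field k] [IsAlgClosed k]
    (G X Y : Over (Spec (CommRingCat.of k))) [GrpObj G] [Smooth G.hom] [QuasiCompact G.hom]
    [IsReduced X.left] [IsSeparated X.hom] [LocallyOfFiniteType X.hom] [QuasiCompact X.hom]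
    [IsReduced Y.left] [IsSeparated Y.hom] [LocallyOfFiniteType Y.hom] [QuasiCompact Y.hom]
    (a : AlgGrp.Action G X) (f : X ⟶ Y) [Flat f.left] [Surjective f.left]
    (hsq : IsPullback a.act.left (snd G X).left f.left f.left) :
    Function.Injective (f.left.appTop) ∧
      Set.range (f.left.appTop) = {s : Γ(X.left, ⊤) | a.act.left.appTop s = (snd G X).left.appTop s} := by
  haveI : QuasiCompact f.left := Groth.Agent.GrpSch.BundleMap.quasiCompact_of_sep f
  haveI : EffectiveEpi f.left := inferInstance
  refine ⟨fun t₁ t₂ h ↦ toLine_injective ?_, Set.ext fun s ↦ ⟨?_, fun hs ↦ ?_⟩⟩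
  · rw [← cancel_epi f.left, comp_toLine, comp_toLine]
    exact congrArg toLine h
  · rintro ⟨t, rfl⟩
    show (f.left.appTop ≫ a.act.left.appTop) t = (f.left.appTop ≫ (snd G X).left.appTop) t
    rw [← Scheme.Hom.comp_appTop, ← Scheme.Hom.comp_appTop, hsq.w]
  · have h : ∀ {T : Scheme.{u}} (g₁ g₂ : T ⟶ X.left), g₁ ≫ f.left = g₂ ≫ f.left →
        g₁ ≫ toLine s = g₂ ≫ toLine s := fun g₁ g₂ e ↦ by
      calc g₁ ≫ toLine s = (hsq.lift g₁ g₂ e ≫ a.act.left) ≫ toLine s := by rw [hsq.lift_fst]
        _ = hsq.lift g₁ g₂ e ≫ toLine ((snd G X).left.appTop s) := by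
          rw [Category.assoc, comp_toLine, show a.act.left.appTop s = _ from hs]
        _ = g₂ ≫ toLine s := by rw [← comp_toLine, hsq.lift_snd_assoc]
    refine ⟨(EffectiveEpi.desc f.left (toLine s) h).appTop ((Scheme.ΓSpecIso lineRing.{u}).inv Polynomial.X), toLine_injective ?_⟩
    rw [← comp_toLine, ← eq_toLine, EffectiveEpi.fac]

end Groth.Agent.S16127
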