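import Groth.Statements.S16152
-- import your own Groth.Agent.* helpers here

set_option autoImplicit false
universe u
open WGauss

namespace Groth.Agent.S16152


open MvPolynomial in
theorem mul_pderiv_monomial {k : Type u} [Field k] {n : ℕ} (α β : Fin n →₀ ℕ) (l : Fin n) :
    monomial β (1 : k) * pderiv l (monomial α (1 : k)) =
      monomial (α + β - Finsupp.single l 1) ((α l : k)) := by
  rw [pderiv_monomial, one_mul, monomial_mul, one_mul]
  rcases Nat.eq_zero_or_pos (α l) with h | h
  · simp [h]
  · congr 2
    ext i
    by_cases hi : i = l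
    · subst hi; simp; omega
    · simp [Finsupp.single_eq_of_ne, hi]; omega

open MvPolynomial in
/-- Over a field k of characteristic zero, for e, a, b positive integers with a < b, the weighted
Gaussian map of the line bundle O(e) on projective n-space is surjective. Concretely, identifying
global sections of O(m) with homogeneous polynomials of degree m in X_0, ..., X_n and global
sections of the twisted cotangent sheaf Omega^1(t) with the (n+1)-tuples of homogeneous polynomials
of degree t - 1 killed by the Euler map (f_i) to sum_i X_i f_i, every such tuple with t = (a+b)e is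
a k-linear combination of the tuples (b tau (d sigma / d X_i) - a sigma (d tau / d X_i))_i with
sigma homogeneous of degree ae and tau homogeneous of degree be. (The source works over the complex
numbers; the statement is one of linear algebra and is given here over any field of characteristic
zero.) -/
theorem result
    (k : Type u) [Field k] [CharZero k] (n e a b : ℕ) (he : 0 < e) (ha : 0 < a) (hab : a < b)
    (f : Fin (n + 1) → MvPolynomial (Fin (n + 1)) k)
    (hf : ∀ i, (f i).IsHomogeneous ((a + b) * e - 1))
    (hEuler : ∑ i, X i * f i = 0) :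
    f ∈ Submodule.span k
      {g : Fin (n + 1) → MvPolynomial (Fin (n + 1)) k |
        ∃ σ τ : MvPolynomial (Fin (n + 1)) k, σ.IsHomogeneous (a * e) ∧ τ.IsHomogeneous (b * e) ∧
          g = fun i => (b : k) • (τ * pderiv i σ) - (a : k) • (σ * pderiv i τ)} := by
  classical
  set N := (a + b) * e with hN
  set S := Submodule.span k
      {g : Fin (n + 1) → MvPolynomial (Fin (n + 1)) k |
        ∃ σ τ : MvPolynomial (Fin (n + 1)) k, σ.IsHomogeneous (a * e) ∧ τ.IsHomogeneous (b * e) ∧
          g = fun i => (b : k) • (τ * pderiv i σ) - (a : k) • (σ * pderiv i τ)} with hS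
  let u : (Fin (n+1) →₀ ℕ) → Fin (n+1) → (Fin (n + 1) → MvPolynomial (Fin (n + 1)) k) :=
    fun γ i => Pi.single i (monomial (γ - Finsupp.single i 1) (1 : k))
  let G : (Fin (n+1) →₀ ℕ) → (Fin (n+1) →₀ ℕ) → (Fin (n + 1) → MvPolynomial (Fin (n + 1)) k) :=
    fun γ α l => monomial (γ - Finsupp.single l 1) (((a + b : ℕ) : k) * (α l : k) - (a : k) * (γ l : k))
  have hG : ∀ γ α : Fin (n+1) →₀ ℕ, α ≤ γ → γ.degree = N → α.degree = a * e → G γ α ∈ S := by
    intro γ α hle hγ hα
    obtain ⟨β, rfl⟩ := exists_add_of_le hle
    have hβ : β.degree = b * e := by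
      rw [map_add, hα, hN, add_mul] at hγ
      omega
    refine Submodule.subset_span ⟨monomial α 1, monomial β 1, isHomogeneous_monomial _ hα,
      isHomogeneous_monomial _ hβ, ?_⟩
    funext l
    show monomial (α + β - Finsupp.single l 1) _ = _
    rw [mul_pderiv_monomial, mul_pderiv_monomial, add_comm β α, smul_monomial, smul_monomial,
      ← map_sub]
    congr 1
    simp only [Finsupp.add_apply, Nat.cast_add, smul_eq_mul]
    ring
  have hu : ∀ γ : Fin (n+1) →₀ ℕ, γ.degree = N → ∀ i j, γ i ≠ 0 → γ j ≠ 0 → u γ i - u γ j ∈ S := by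
    intro γ hγ i j hi hj
    by_cases hij : i = j
    · subst hij; simp
    have hle : Finsupp.single i 1 + Finsupp.single j 1 ≤ γ := by
      intro l
      by_cases h1 : l = i <;> by_cases h2 : l = j <;>
        simp [Finsupp.single_eq_of_ne, h1, h2] <;> first | omega | (subst h1; simp_all; omega) | (subst h2; simp_all; omega) | simp_all
    obtain ⟨γ', rfl⟩ := exists_add_of_le hle
    have hae : 1 ≤ a * e := Nat.mul_pos ha he
    have hbe : 1 ≤ b * e := Nat.mul_pos (by omega) he
    have hdeg : γ'.degree + 2 = a * e + b * e := by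
      rw [map_add, map_add, Finsupp.degree_single, Finsupp.degree_single, hN, add_mul] at hγ
      omega
    obtain ⟨β, hβle, hβdeg⟩ := Finsupp.exists_le_degree_eq γ' (a * e - 1) (by omega)
    set γ := Finsupp.single i 1 + Finsupp.single j 1 + γ' with hγdef
    have key : ∀ w : Fin (n+1), w = i ∨ w = j → G γ (β + Finsupp.single w 1) ∈ S := by
      intro w hw
      refine hG γ _ ?_ hγ ?_
      · intro l
        have := hβle l
        simp only [hγdef, Finsupp.add_apply]
        rcases hw with rfl | rfl <;> omega
      · rw [map_add, Finsupp.degree_single, hβdeg]; omega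
    have hdiff := S.sub_mem (key i (Or.inl rfl)) (key j (Or.inr rfl))
    have hab0 : ((a + b : ℕ) : k) ≠ 0 := Nat.cast_ne_zero.2 (by omega)
    have : G γ (β + Finsupp.single i 1) - G γ (β + Finsupp.single j 1) =
        ((a + b : ℕ) : k) • (u γ i - u γ j) := by
      funext l
      simp only [G, u, Pi.sub_apply, Pi.smul_apply, ← map_sub]
      by_cases h1 : l = i
      · subst h1
        rw [Pi.single_eq_same, Pi.single_eq_of_ne hij, sub_zero, smul_monomial]
        congr 1
        simp [Finsupp.single_eq_of_ne, hij]
        ring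
      · by_cases h2 : l = j
        · subst h2
          rw [Pi.single_eq_same, Pi.single_eq_of_ne h1, zero_sub, smul_neg, smul_monomial,
            ← map_neg]
          congr 1
          simp [Finsupp.single_eq_of_ne, h1]
          ring
        · rw [Pi.single_eq_of_ne h1, Pi.single_eq_of_ne h2]
          simp [Finsupp.single_eq_of_ne, h1, h2]
    rw [this] at hdiff
    exact (Submodule.smul_mem_iff S hab0).1 hdiff
  let c : Fin (n+1) → (Fin (n+1) →₀ ℕ) → k := fun i γ => coeff γ (X i * f i)
  let T : Finset (Fin (n+1) →₀ ℕ) := Finset.univ.biUnion fun i => (X i * f i).support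
  have hsum : ∀ γ, ∑ i, c i γ = 0 := fun γ => by
    show ∑ i, coeff γ (X i * f i) = 0
    rw [← coeff_sum, hEuler, coeff_zero]
  have hc0 : ∀ i γ, γ i = 0 → c i γ = 0 := fun i γ h => by
    show coeff γ (X i * f i) = 0
    rw [coeff_X_mul', if_neg]
    simp [Finsupp.mem_support_iff, h]
  have hN1 : 1 ≤ N := Nat.mul_pos (by omega) he
  have hf' : f = ∑ γ ∈ T, ∑ i, c i γ • u γ i := by
    funext l
    rw [Finset.sum_apply]
    have e1 : ∀ γ, (∑ i, c i γ • u γ i) l = monomial (γ - Finsupp.single l 1) (c l γ) := fun γ => by
      rw [Finset.sum_apply, Finset.sum_eq_single l (fun i _ hi => by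
        simp [u, Pi.single_eq_of_ne (Ne.symm hi)]) (by simp)]
      simp [u, smul_monomial]
    simp only [e1]
    refine mul_left_cancel₀ (X_ne_zero l) ?_
    rw [Finset.mul_sum]
    have e2 : ∀ γ, X l * monomial (γ - Finsupp.single l 1) (c l γ) = monomial γ (c l γ) := fun γ => by
      rcases Nat.eq_zero_or_pos (γ l) with h | h
      · simp [hc0 l γ h]
      · rw [show (X l : MvPolynomial (Fin (n+1)) k) = monomial (Finsupp.single l 1) 1 from rfl,
          monomial_mul, one_mul]
        congr 2
        ext i
        by_cases hi : i = l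
        · subst hi; simp; omega
        · simp [Finsupp.single_eq_of_ne, hi]
    simp only [e2]
    conv_lhs => rw [as_sum (X l * f l)]
    refine Finset.sum_subset (fun γ h => Finset.mem_biUnion.2 ⟨l, Finset.mem_univ _, h⟩) ?_
    intro γ _ hγ
    rw [notMem_support_iff.1 hγ, map_zero]
  rw [hf']
  refine Submodule.sum_mem _ fun γ hγ => ?_
  obtain ⟨i0, -, hi0⟩ := Finset.mem_biUnion.1 hγ
  have hdeg : γ.degree = N := by
    have hh : (X i0 * f i0).IsHomogeneous N := by
      have := (isHomogeneous_X k i0).mul (hf i0)
      rwa [show 1 + ((a + b) * e - 1) = N by omega] at this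
    by_contra hne
    exact (mem_support_iff.1 hi0) (hh.coeff_eq_zero hne)
  have hne0 : γ i0 ≠ 0 := fun h => (mem_support_iff.1 hi0) (hc0 i0 γ h)
  have : ∑ i, c i γ • u γ i = ∑ i, c i γ • (u γ i - u γ i0) := by
    simp only [smul_sub, Finset.sum_sub_distrib, ← Finset.sum_smul, hsum γ, zero_smul, sub_zero]
  rw [this]
  refine Submodule.sum_mem _ fun i _ => ?_
  rcases eq_or_ne (γ i) 0 with h | h
  · rw [hc0 i γ h, zero_smul]; exact zero_mem _
  · exact Submodule.smul_mem _ _ (hu γ hdeg i i0 h hne0)

end Groth.Agent.S16152
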