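import Groth.Statements.S16156
import Mathlib

set_option autoImplicit false
universe u
open MukaiVec

namespace Groth.Agent.S16156

/-- Let N be an abelian group with a symmetric integer-valued bilinear form and H an element with H·H =
2n for some n > 0 such that every x with x·H = 0 satisfies x·x ≤ 0 (the Hodge index inequality). Fix
integers r ≥ 2, d > 0 and χ < 0 (a Mukai vector v = (r, dH, χ)) and an isotropic Mukai vector u =
(p, η, q), p ≥ 0, η ∈ N, η·η = 2pq, whose pairing ⟨v, u⟩ = d(H·η) − rq − χp has absolute value 1 or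
2. Exclude the case d = 1, χ = −1, H·η = 1, η·η = 0, and when r = 2 also the case p = 0, H·η = 0.
Then the pairings of u∨ = (p, −η, q) with w₀ = (0, rH, −2nd) and with w₁ = (2nd, −χH, 0) are both
non-negative or both negative: 2ndp − r(H·η) ≥ 0 holds if and only if χ(H·η) − 2ndq ≥ 0 holds. -/
theorem result
    (N : Type u) [AddCommGroup N] (B : LinearMap.BilinForm ℤ N) (hB : ∀ x y : N, B x y = B y x)
    (H : N) (n : ℤ) (hn : 0 < n) (hH : B H H = 2 * n) (hodge : ∀ x : N, B x H = 0 → B x x ≤ 0)
    (r d χ p q : ℤ) (η : N) (hr : 2 ≤ r) (hd : 0 < d) (hχ : χ < 0) (hp : 0 ≤ p)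
    (hiso : B η η = 2 * p * q)
    (hvu : 1 ≤ |d * B H η - r * q - χ * p| ∧ |d * B H η - r * q - χ * p| ≤ 2)
    (hexc : ¬ (d = 1 ∧ χ = -1 ∧ B H η = 1 ∧ B η η = 0))
    (hr2 : r = 2 → ¬ (p = 0 ∧ B H η = 0)) :
    (0 ≤ 2 * n * d * p - r * B H η ↔ 0 ≤ χ * B H η - 2 * n * d * q) := by
  have h0 := hodge ((2 * n) • η - (B H η) • H)
  have hxH : B ((2 * n) • η - (B H η) • H) H = 0 := by
    simp only [map_sub, map_smul, LinearMap.sub_apply, LinearMap.smul_apply, smul_eq_mul, hH, hB η H]
    ring
  have h1 := h0 hxH
  simp only [map_sub, map_smul, LinearMap.sub_apply, LinearMap.smul_apply, smul_eq_mul, hH, hB η H, hiso] at h1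
  rw [hiso] at hexc
  generalize B H η = a at *
  have hhodge : 4 * n * p * q ≤ a * a := by nlinarith
  obtain ⟨hv1, hv2⟩ := hvu
  obtain ⟨hlo, hhi⟩ := abs_le.mp hv2
  constructor
  · intro hX
    by_contra hY
    push Not at hY
    rcases lt_trichotomy a 0 with ha | ha | ha
    · have hq : 1 ≤ q := by
        by_contra hq
        nlinarith [mul_pos_of_neg_of_neg hχ ha, mul_pos (mul_pos (by norm_num : (0:ℤ) < 2) hn) hd]
      have hp1 : 1 ≤ p := by
        by_contra hp1
        have : p = 0 := by omega
        subst this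
        nlinarith
      have h2 : d * (-a) ≤ (-χ) * p := by nlinarith
      have h3 : (-χ) * (-a) < 2 * n * d * q := by nlinarith
      have h4 : 4 * n * q * (d * (-a)) ≤ 4 * n * q * ((-χ) * p) :=
        mul_le_mul_of_nonneg_left h2 (by positivity)
      have h5 : (-χ) * (4 * n * p * q) ≤ (-χ) * (a * a) := mul_le_mul_of_nonneg_left hhodge (by omega)
      nlinarith [mul_lt_mul_of_pos_right h3 (neg_pos.mpr ha)]
    · subst ha
      have hq : 1 ≤ q := by
        by_contra hq
        nlinarith [mul_pos (mul_pos (by norm_num : (0:ℤ) < 2) hn) hd]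
      rcases eq_or_lt_of_le hp with hp0 | hp1
      · subst hp0
        have : r = 2 := by nlinarith
        exact hr2 this ⟨rfl, rfl⟩
      · nlinarith [mul_pos (mul_pos hn hp1) (show 0 < q by omega)]
    · have hp1 : 1 ≤ p := by
        by_contra hp1
        have : p = 0 := by omega
        subst this
        nlinarith
      rcases le_or_gt q 0 with hq | hq
      · have hq0 : q = 0 := by nlinarith
        subst hq0
        have : a = 1 := by nlinarith
        subst this
        have hd1 : d = 1 := by nlinarith
        have hχ1 : χ = -1 := by nlinarith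
        exact hexc ⟨hd1, hχ1, rfl, by ring⟩
      · have h2 : 2 * r * q ≤ d * a := by
          by_contra h
          push Not at h
          nlinarith [mul_le_mul_of_nonneg_left hhodge (show (0:ℤ) ≤ r by omega),
            mul_le_mul_of_nonneg_right hX ha.le, mul_pos (mul_pos hn (show 0 < p by omega)) (show 0 < 2 * r * q - d * a by omega)]
        nlinarith
  · intro hY
    by_contra hX
    push Not at hX
    have ha : 1 ≤ a := by nlinarith [mul_nonneg (mul_pos (mul_pos (by norm_num : (0:ℤ) < 2) hn) hd).le hp]
    have hq : q ≤ -1 := by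
      by_contra hq
      nlinarith [mul_neg_of_neg_of_pos hχ (show 0 < a by omega), mul_pos (mul_pos (by norm_num : (0:ℤ) < 2) hn) hd]
    nlinarith
end Groth.Agent.S16156
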