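import Groth.Statements.S16158
import Mathlib.RingTheory.LocalRing.Module
import Mathlib.RingTheory.Ideal.AssociatedPrime.Finiteness
import Mathlib.RingTheory.Support
import Mathlib.LinearAlgebra.Dimension.Constructions
import Mathlib.LinearAlgebra.Dual.Lemmas

set_option autoImplicit false
universe u v w
open MadRed

namespace Groth.Agent.S16158

/-- Let R be a commutative Noetherian ring and M a finitely generated R-module. Then there is a natural
number n such that in every decomposition of M as an internal direct sum of a family of submodules,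
at most n of the summands are nonzero (the nonzero summands are indexed by a finite set of size at
most n). -/
theorem result (R : Type u) [CommRing R] [IsNoetherianRing R]
    (M : Type v) [AddCommGroup M] [Module R M] [Module.Finite R M] :
    ∃ n : ℕ, ∀ (ι : Type w) [DecidableEq ι] (N : ι → Submodule R M), DirectSum.IsInternal N →
      ∃ s : Finset ι, s.card ≤ n ∧ ∀ i, N i ≠ ⊥ → i ∈ s := by
  classical
  obtain ⟨gens, hgens⟩ := Module.Finite.fg_top (R := R) (M := M)
  have hA := associatedPrimes.finite R M
  refine ⟨hA.toFinset.card * gens.card, fun ι _ N hN => ?_⟩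
  let e : (DirectSum ι fun i => N i) ≃ₗ[R] M := LinearEquiv.ofBijective (DirectSum.coeLinearMap N) hN
  have he : ∀ i (x : N i), e.symm (x : M) = DirectSum.lof R ι (fun i => N i) i x := fun i x => by
    rw [LinearEquiv.symm_apply_eq]
    exact (DirectSum.coeLinearMap_of N i x).symm
  have bound : ∀ (p : PrimeSpectrum R) (t : Finset ι), (∀ i ∈ t, p ∈ Module.support R (N i)) →
      t.card ≤ gens.card := by
    intro p t ht
    let K := p.asIdeal.ResidueField
    have hphi : ∀ i : t, ∃ φ : N i.1 →ₗ[R] K, ∃ x, φ x ≠ 0 := by
      intro i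
      haveI : Nontrivial (TensorProduct R K (N i.1)) :=
        (Module.mem_support_iff_nontrivial_residueField_tensorProduct p).mp (ht i.1 i.2)
      obtain ⟨z, hz⟩ := exists_ne (0 : TensorProduct R K (N i.1))
      obtain ⟨ψ, hψ⟩ : ∃ ψ : TensorProduct R K (N i.1) →ₗ[K] K, ψ z ≠ 0 := by
        by_contra hcon
        push Not at hcon
        exact hz ((Module.forall_dual_apply_eq_zero_iff K z).mp hcon)
      refine ⟨(ψ.restrictScalars R).comp (TensorProduct.mk R K (N i.1) 1), ?_⟩
      by_contra hcon
      push Not at hcon
      refine hψ ?_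
      clear hψ hz
      induction z using TensorProduct.induction_on with
      | zero => exact map_zero ψ
      | tmul c x =>
        rw [show c ⊗ₜ[R] x = c • ((1 : K) ⊗ₜ[R] x) by rw [TensorProduct.smul_tmul', smul_eq_mul, mul_one],
          map_smul]
        exact smul_eq_zero_of_right c (hcon x)
      | add a b ha hb => rw [map_add, ha, hb, add_zero]
    choose φ x hx using hphi
    let Φ : M →ₗ[R] (t → K) :=
      LinearMap.pi fun i => ((φ i).comp (DirectSum.component R ι (fun i => N i) i.1)).comp e.symm.toLinearMap
    have hΦ : ∀ (i : t), Φ (x i : M) = Pi.single i (φ i (x i)) := by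
      intro i
      ext j
      simp only [Φ, LinearMap.pi_apply, LinearMap.comp_apply, LinearEquiv.coe_coe, he]
      rcases eq_or_ne j i with rfl | hj
      · rw [DirectSum.component.lof_self, Pi.single_eq_same]
      · have hne : (j : ι) ≠ (i : ι) := fun h => hj (Subtype.ext h)
        rw [Pi.single_eq_of_ne hj, DirectSum.component.of, dif_neg fun h => hne h.symm, map_zero]
    have htop : Submodule.span K (Φ '' (gens : Set M)) = ⊤ := by
      refine top_le_iff.mp ?_
      have hrange : ∀ m, Φ m ∈ Submodule.span K (Φ '' (gens : Set M)) := by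
        intro m
        have hm : m ∈ Submodule.span R (gens : Set M) := hgens ▸ trivial
        have := Submodule.apply_mem_span_image_of_mem_span Φ hm
        exact Submodule.span_le_restrictScalars R K _ this
      intro w _
      rw [show w = ∑ i, Pi.single i (w i) from (Finset.univ_sum_single w).symm]
      refine sum_mem fun i _ => ?_
      have : Pi.single i (w i) = (w i / φ i (x i)) • Φ (x i : M) := by
        rw [hΦ, ← Pi.single_smul, smul_eq_mul, div_mul_cancel₀ _ (hx i)]
      rw [this]
      exact Submodule.smul_mem _ _ (hrange _)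
    have h1 := finrank_span_finset_le_card (R := K) (gens.image Φ)
    rw [Finset.coe_image, Set.finrank, htop, finrank_top, Module.finrank_pi, Fintype.card_coe] at h1
    exact h1.trans Finset.card_image_le
  have hp : ∀ i, N i ≠ ⊥ → ∃ p ∈ hA.toFinset, ∃ hp : p.IsPrime,
      (⟨p, hp⟩ : PrimeSpectrum R) ∈ Module.support R (N i) := by
    intro i hi
    haveI := Submodule.nontrivial_iff_ne_bot.mpr hi
    obtain ⟨p, hp⟩ := associatedPrimes.nonempty R (N i)
    haveI : Module.Finite R (N i) := inferInstance
    refine ⟨p, hA.mem_toFinset.mpr (associatedPrimes.subset_of_injective (N i).injective_subtype hp),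
      hp.isPrime, ?_⟩
    rw [Module.mem_support_iff_of_finite]
    have h := hp.annihilator_le
    rwa [Submodule.annihilator_top] at h
  have hfin : ∀ t : Finset ι, (∀ i ∈ t, N i ≠ ⊥) → t.card ≤ hA.toFinset.card * gens.card := by
    intro t ht
    refine le_trans (le_of_le_of_eq ?_ rfl) (Finset.card_biUnion_le_card_mul hA.toFinset
      (fun p => t.filter fun i => ∃ hp : p.IsPrime, (⟨p, hp⟩ : PrimeSpectrum R) ∈ Module.support R (N i))
      gens.card fun p _ => ?_)
    · refine Finset.card_le_card fun i hi => ?_
      obtain ⟨p, hpA, hpp⟩ := hp i (ht i hi)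
      exact Finset.mem_biUnion.mpr ⟨p, hpA, Finset.mem_filter.mpr ⟨hi, hpp⟩⟩
    · by_cases hP : p.IsPrime
      · exact bound ⟨p, hP⟩ _ fun i hi => (Finset.mem_filter.mp hi).2.2
      · rw [Finset.filter_eq_empty_iff.mpr fun i _ h => hP h.1]
        simp
  have hS : {i | N i ≠ ⊥}.Finite := by
    by_contra hinf
    obtain ⟨t, ht, htc⟩ :=
      (Set.not_finite.mp hinf).exists_subset_card_eq (hA.toFinset.card * gens.card + 1)
    have := hfin t ht
    omega
  exact ⟨hS.toFinset, hfin _ fun i hi => hS.mem_toFinset.mp hi, fun i hi => hS.mem_toFinset.mpr hi⟩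


end Groth.Agent.S16158
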