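import Groth.Statements.S1616
import Groth.Agent.ProjCoord.Segre
-- import your own Groth.Agent.* helpers here

set_option autoImplicit false
universe u
open CategoryTheory CategoryTheory.Limits AlgebraicGeometry
open Constr

namespace Groth.Agent.S1616

/-- For any scheme S and n, m ≥ 0 there is a closed immersion from P^n_S ×_S P^m_S into P^{nm+n+m}_S
compatible with the projections to S. -/
theorem result (S : Scheme.{u}) (n m : ℕ) :
    ∃ φ : pullback (CohB1.ProjSpaceOver.toBase n S) (CohB1.ProjSpaceOver.toBase m S) ⟶ CohB1.ProjSpaceOver (n * m + n + m) S,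
      IsClosedImmersion φ ∧ φ ≫ CohB1.ProjSpaceOver.toBase (n * m + n + m) S =
        pullback.fst (CohB1.ProjSpaceOver.toBase n S) (CohB1.ProjSpaceOver.toBase m S) ≫ CohB1.ProjSpaceOver.toBase n S := by
  delta CohB1.ProjSpaceOver.toBase CohB1.ProjSpaceOver
  obtain ⟨φ, hφ, hφt⟩ := Groth.Agent.ProjCoord.exists_segre (R := ULift.{u} ℤ) (n := n) (m := m)
  let t := specULiftZIsTerminal.from S
  let β : pullback (pullback.snd (CohB1.ProjSpace.toSpec n (ULift.{u} ℤ)) (specULiftZIsTerminal.from S)) (pullback.snd (CohB1.ProjSpace.toSpec m (ULift.{u} ℤ)) (specULiftZIsTerminal.from S)) ⟶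
      pullback (CohB1.ProjSpace.toSpec n (ULift.{u} ℤ)) (CohB1.ProjSpace.toSpec m (ULift.{u} ℤ)) :=
    pullback.lift (pullback.fst _ _ ≫ pullback.fst _ _) (pullback.snd _ _ ≫ pullback.fst _ _)
      (specULiftZIsTerminal.hom_ext _ _)
  let base := pullback.fst (pullback.snd (CohB1.ProjSpace.toSpec n (ULift.{u} ℤ)) (specULiftZIsTerminal.from S)) (pullback.snd (CohB1.ProjSpace.toSpec m (ULift.{u} ℤ)) (specULiftZIsTerminal.from S)) ≫
    pullback.snd (CohB1.ProjSpace.toSpec n (ULift.{u} ℤ)) (specULiftZIsTerminal.from S)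
  have hb : IsPullback β base (pullback.fst _ _ ≫ CohB1.ProjSpace.toSpec n (ULift.{u} ℤ)) t := by
    refine IsPullback.of_isLimit' ⟨specULiftZIsTerminal.hom_ext _ _⟩ (PullbackCone.IsLimit.mk _
      (fun s => pullback.lift
        (pullback.lift (s.fst ≫ pullback.fst _ _) s.snd (specULiftZIsTerminal.hom_ext _ _))
        (pullback.lift (s.fst ≫ pullback.snd _ _) s.snd (specULiftZIsTerminal.hom_ext _ _))
        ((pullback.lift_snd _ _ _).trans (pullback.lift_snd _ _ _).symm)) ?_ ?_ ?_)
    · intro s
      apply pullback.hom_ext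
      · simp only [β, Category.assoc, pullback.lift_fst]
        exact (pullback.lift_fst_assoc _ _ _ _).trans (pullback.lift_fst _ _ _)
      · simp only [β, Category.assoc, pullback.lift_snd]
        exact (pullback.lift_snd_assoc _ _ _ _).trans (pullback.lift_fst _ _ _)
    · intro s
      exact (pullback.lift_fst_assoc _ _ _ _).trans (pullback.lift_snd _ _ _)
    · intro s m' h1 h2
      have e1 := congrArg (fun f => f ≫ pullback.fst _ _) h1
      have e2 := congrArg (fun f => f ≫ pullback.snd _ _) h1
      simp only [β, Category.assoc, pullback.lift_fst, pullback.lift_snd] at e1 e2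
      have h2' : m' ≫ pullback.snd _ _ ≫ pullback.snd (CohB1.ProjSpace.toSpec m (ULift.{u} ℤ)) (specULiftZIsTerminal.from S) = s.snd := by
        rw [← pullback.condition]; exact h2
      apply pullback.hom_ext <;> apply pullback.hom_ext <;>
        simp only [Category.assoc, pullback.lift_fst, pullback.lift_snd]
      · exact e1
      · exact h2
      · exact e2
      · exact h2'
  let ψ : pullback (pullback.snd (CohB1.ProjSpace.toSpec n (ULift.{u} ℤ)) (specULiftZIsTerminal.from S)) (pullback.snd (CohB1.ProjSpace.toSpec m (ULift.{u} ℤ)) (specULiftZIsTerminal.from S)) ⟶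
      pullback (CohB1.ProjSpace.toSpec (n * m + n + m) (ULift.{u} ℤ)) (specULiftZIsTerminal.from S) :=
    pullback.lift (β ≫ φ) base (specULiftZIsTerminal.hom_ext _ _)
  have hright : IsPullback (pullback.fst (CohB1.ProjSpace.toSpec (n * m + n + m) (ULift.{u} ℤ)) t)
      (pullback.snd _ _) (CohB1.ProjSpace.toSpec (n * m + n + m) (ULift.{u} ℤ)) t :=
    IsPullback.of_hasPullback _ _
  have hψ : IsPullback β ψ φ (pullback.fst _ _) := by
    refine IsPullback.of_bot ?_ (pullback.lift_fst _ _ _).symm hright
    rw [show ψ ≫ pullback.snd _ _ = base from pullback.lift_snd _ _ _, hφt]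
    exact hb
  exact ⟨ψ, MorphismProperty.of_isPullback hψ hφ, pullback.lift_snd _ _ _⟩

end Groth.Agent.S1616
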