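import Groth.Statements.S16160
import Groth.Agent.S16159
import Groth.Agent.Comod.Basic


set_option autoImplicit false
universe u v w
open scoped TensorProduct
open MadRed

namespace Groth.Agent.S16160Aux
open TensorProduct Coalgebra

variable {k : Type u} [Field k] {A : Type v} [CommRing A] [HopfAlgebra k A] {R : Type w} [CommRing R] [Algebra k R]

theorem ptAct_tmul (g : A →ₐ[k] R) (r : R) (a : A) {ι : Type*} (rep : Repr k a ι) :
    MadRed.ptAct k A R g (r ⊗ₜ[k] a) = ∑ i ∈ rep.index, (r * g (rep.right i)) ⊗ₜ[k] rep.left i := by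
  simp [MadRed.ptAct, MadRed.translAux, ← rep.eq, Finset.mul_sum, map_sum]

theorem ptAct_ptAct (g h : A →ₐ[k] R) (r : R) (a : A) :
    MadRed.ptAct k A R g (MadRed.ptAct k A R h (r ⊗ₜ[k] a)) =
      MadRed.ptAct k A R (WithConv.toConv g * WithConv.toConv h).ofConv (r ⊗ₜ[k] a) := by
  let rep := ℛ k a
  let a₁ := fun i => ℛ k (rep.left i)
  let a₂ := fun i => ℛ k (rep.right i)
  rw [ptAct_tmul h r a rep, map_sum, ptAct_tmul _ r a rep]
  simp_rw [ptAct_tmul g _ _ (a₁ _)]
  have hmul : ∀ i, (WithConv.toConv g * WithConv.toConv h).ofConv (rep.right i) =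
      ∑ j ∈ (a₂ i).index, g ((a₂ i).left j) * h ((a₂ i).right j) := fun i => by
    simp [AlgHom.convMul_apply, ← (a₂ i).eq, map_sum]
  simp_rw [hmul, Finset.mul_sum, TensorProduct.sum_tmul]
  let Ψ : A ⊗[k] (A ⊗[k] A) →ₗ[k] R ⊗[k] A :=
    (TensorProduct.comm k A R).toLinearMap ∘ₗ LinearMap.lTensor A
      (LinearMap.mulLeft k r ∘ₗ LinearMap.mul' k R ∘ₗ TensorProduct.map g.toLinearMap h.toLinearMap)
  have := congrArg Ψ (sum_tmul_tmul_eq rep a₁ a₂)
  simp only [map_sum, Ψ, LinearMap.coe_comp, Function.comp_apply, LinearMap.lTensor_tmul, TensorProduct.map_tmul,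
    LinearMap.mul'_apply, LinearMap.mulLeft_apply, LinearEquiv.coe_coe, TensorProduct.comm_tmul,
    AlgHom.toLinearMap_apply] at this
  rw [← this]
  exact Finset.sum_congr rfl fun i _ => Finset.sum_congr rfl fun j _ => by ring_nf

theorem commute_ptAct {g h : A →ₐ[k] R}
    (hc : WithConv.toConv g * WithConv.toConv h = WithConv.toConv h * WithConv.toConv g) :
    Commute (MadRed.ptAct k A R g).toLinearMap (MadRed.ptAct k A R h).toLinearMap := by
  refine LinearMap.ext fun x => ?_
  change MadRed.ptAct k A R g (MadRed.ptAct k A R h x) = MadRed.ptAct k A R h (MadRed.ptAct k A R g x)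
  induction x using TensorProduct.induction_on with
  | zero => simp
  | tmul r a => rw [ptAct_ptAct, ptAct_ptAct, hc]
  | add x y hx hy => simp only [map_add, hx, hy]

theorem exists_fg (v : R ⊗[k] A) :
    ∃ W : Submodule R (R ⊗[k] A), v ∈ W ∧ W.FG ∧
      ∀ g : A →ₐ[k] R, ∀ w ∈ W, (MadRed.ptAct k A R g).toLinearMap w ∈ W := by
  classical
  obtain ⟨S, hS⟩ := TensorProduct.exists_finset v
  obtain ⟨M, hM, hsM, hsub⟩ := Comod.exists_finite_subcomod (k := k) (A := A) (V := A)
    ((fun p : R × A => p.2) '' ↑S) (S.finite_toSet.image _)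
  obtain ⟨t, ht⟩ := Module.Finite.iff_fg.1 hM
  let W : Submodule R (R ⊗[k] A) := Submodule.span R ((fun a : A => (1 : R) ⊗ₜ[k] a) '' ↑t)
  have hmem : ∀ (r : R) (a : A), a ∈ M → r ⊗ₜ[k] a ∈ W := by
    intro r a ha
    rw [← ht] at ha
    induction ha using Submodule.span_induction with
    | mem x hx =>
      have := W.smul_mem r (Submodule.subset_span ⟨x, hx, rfl⟩)
      rwa [TensorProduct.smul_tmul', smul_eq_mul, _root_.mul_one] at this
    | zero => simp
    | add x y _ _ hx hy => rw [TensorProduct.tmul_add]; exact W.add_mem hx hy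
    | smul c x _ hx => rw [TensorProduct.tmul_smul]; exact W.smul_of_tower_mem c hx
  refine ⟨W, ?_, ?_, fun g w hw => ?_⟩
  · rw [hS]
    exact W.sum_mem fun p hp => hmem _ _ (hsM ⟨p, hp, rfl⟩)
  · exact Submodule.fg_def.2 ⟨_, t.finite_toSet.image _, rfl⟩
  · induction hw using Submodule.span_induction with
    | zero => simp
    | add x y _ _ hx hy => rw [map_add]; exact W.add_mem hx hy
    | smul c x _ hx => rw [map_smul]; exact W.smul_mem c hx
    | mem x hx =>
      obtain ⟨a, ha, rfl⟩ := hx
      have haM : a ∈ M := ht ▸ Submodule.subset_span ha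
      obtain ⟨z, hz⟩ := hsub a haM
      change MadRed.ptAct k A R g ((1 : R) ⊗ₜ[k] a) ∈ W
      have hc : Coalgebra.comul (R := k) a = LinearMap.rTensor A M.subtype z := hz.symm
      have : MadRed.ptAct k A R g ((1 : R) ⊗ₜ[k] a) =
          Algebra.TensorProduct.map g (AlgHom.id k A) (TensorProduct.comm k A A (LinearMap.rTensor A M.subtype z)) := by
        rw [← hc, MadRed.ptAct, Algebra.TensorProduct.lift_tmul, map_one, _root_.one_mul]; rfl
      rw [this]
      clear this hc hz
      induction z using TensorProduct.induction_on with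
      | zero => simp
      | tmul m b => simpa using hmem (g b) m.1 m.2
      | add x y hx hy => simp only [map_add]; exact W.add_mem hx hy

end Groth.Agent.S16160Aux

namespace Groth.Agent.S16160

/-- Let k be a field, G = Spec A an affine k-group with A a commutative Hopf algebra over k, and R a
commutative Noetherian k-algebra, so that R ⊗ A is the coordinate ring of the base change G_R and
the k-algebra maps A → R are its R-valued points. Let H be a set of R-valued points which pairwise
commute for the convolution product of G(R) (the case of an abelian subgroup of G(R)). If every g in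
H is diagonalizable over k on R ⊗ A, meaning that the eigenspaces of right translation by g, for
eigenvalues in k, span R ⊗ A, then H is simultaneously diagonalizable over k on R ⊗ A: the common
eigenspaces of the right translations by all g in H span R ⊗ A. The standing assumptions of the
source at this point (k algebraically closed of characteristic zero, G reductive) are not used. -/
theorem result (k : Type u) [Field k]
    (A : Type v) [CommRing A] [HopfAlgebra k A] (R : Type w) [CommRing R] [Algebra k R]
    [IsNoetherianRing R] (H : Set (A →ₐ[k] R))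
    (hcomm : ∀ g ∈ H, ∀ h ∈ H,
      WithConv.toConv g * WithConv.toConv h = WithConv.toConv h * WithConv.toConv g)
    (hdiag : ∀ g ∈ H, ⨆ μ : k,
      Module.End.eigenspace (((MadRed.ptAct k A R g).toLinearMap).restrictScalars k) μ = ⊤) :
    ⨆ χ : H → k, ⨅ g : H,
      Module.End.eigenspace (((MadRed.ptAct k A R g.1).toLinearMap).restrictScalars k) (χ g) = ⊤ := by
  exact S16159.result k R (R ⊗[k] A) H (fun g => (MadRed.ptAct k A R g.1).toLinearMap)
    (fun g h => S16160Aux.commute_ptAct (hcomm _ g.2 _ h.2)) (fun g => hdiag _ g.2)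
    (fun v => let ⟨W, h1, h2, h3⟩ := S16160Aux.exists_fg v; ⟨W, h1, h2, fun g w hw => h3 g.1 w hw⟩)

end Groth.Agent.S16160
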