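import Groth.Statements.S16161
import Mathlib.RingTheory.Polynomial.Basic
import Mathlib.FieldTheory.Separable

set_option autoImplicit false
universe u v
open MadRed

namespace Groth.Agent.S16161

/-- Let k be an algebraically closed field of characteristic zero and R a reduced finitely generated
commutative k-algebra whose spectrum is connected (R has no idempotents besides 0 and 1); let W =
R^n be a free R-module of finite rank and g an R-linear endomorphism of W of finite order, g^m = 1
with m > 0 (an element of finite order of GL(W)(R)). Then the action of g on W is diagonalizable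
over k: viewing g as a k-linear map, its eigenspaces for eigenvalues in k span W. The source also
assumes that g is diagonalizable over k on every fibre W ⊗ k(x), x a point of Spec R; for g of
finite order this holds automatically (k is algebraically closed of characteristic zero), as the
source itself notes, so that hypothesis is omitted. -/
theorem result
    (k : Type u) [Field k] [IsAlgClosed k] [CharZero k]
    (R : Type v) [CommRing R] [Algebra k R] [IsReduced R] [Algebra.FiniteType k R]
    (hconn : ∀ e : R, IsIdempotentElem e → e = 0 ∨ e = 1)
    (n : ℕ) (g : Module.End R (Fin n → R)) (m : ℕ) (hm : 0 < m) (hg : g ^ m = 1) :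
    ⨆ μ : k, Module.End.eigenspace (g.restrictScalars k) μ = ⊤ := by
  classical
  set h := g.restrictScalars k
  have hpow : ∀ (e : ℕ) (x : Fin n → R), (h ^ e) x = (g ^ e) x := by
    intro e
    induction e with
    | zero => intro x; rfl
    | succ e ih => intro x; rw [pow_succ, pow_succ, Module.End.mul_apply, Module.End.mul_apply, ih]; rfl
  have hh : Polynomial.aeval h (Polynomial.X ^ m - 1 : Polynomial k) = 0 := by
    apply LinearMap.ext
    intro x
    simp [hpow, hg]
  set P : Polynomial k := Polynomial.X ^ m - 1
  have hsep : P.Separable := by
    refine Polynomial.X_pow_sub_one_separable_iff.2 ?_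
    exact_mod_cast hm.ne'
  have hsplit : P = ∏ a ∈ P.roots.toFinset, (Polynomial.X - Polynomial.C a) := by
    conv_lhs => rw [(IsAlgClosed.splits P).eq_prod_roots_of_monic
      (by simpa [P] using Polynomial.monic_X_pow_sub_C (1 : k) hm.ne')]
    rw [Finset.prod, Multiset.toFinset_val,
      Multiset.dedup_eq_self.2 (Polynomial.nodup_roots hsep)]
  have key : ∀ s : Finset k,
      LinearMap.ker (Polynomial.aeval h (∏ a ∈ s, (Polynomial.X - Polynomial.C a))) ≤
        ⨆ μ : k, Module.End.eigenspace h μ := by
    intro s
    induction s using Finset.induction_on with
    | empty => intro x hx; simp at hx; simp [hx]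
    | @insert a s ha ih =>
      rw [Finset.prod_insert ha, ← Polynomial.sup_ker_aeval_eq_ker_aeval_mul_of_coprime]
      · refine sup_le ?_ ih
        intro x hx
        refine Submodule.mem_iSup_of_mem a (Module.End.mem_eigenspace_iff.2 ?_)
        simpa [sub_eq_zero] using hx
      · exact IsCoprime.prod_right fun b hb => Polynomial.isCoprime_X_sub_C_of_isUnit_sub
          (sub_ne_zero.2 fun (e : a = b) => ha (e ▸ hb)).isUnit
  rw [eq_top_iff]
  exact fun x _ => key P.roots.toFinset (by rw [← hsplit, LinearMap.mem_ker, hh]; rfl)

end Groth.Agent.S16161
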