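import Groth.Statements.S16164
-- import your own Groth.Agent.* helpers here

set_option autoImplicit false
open Neron

namespace Groth.Agent.S16164

open Matrix

/-- Let X, Y₁, Y₂ be finitely generated free abelian groups with chosen bases, so that homomorphisms are
integer matrices acting on column vectors and each group is identified with its dual; let P : X → Y₁
and Q : X → Y₂ be surjective with A = (P over Q) : X → Y₁ ⊕ Y₂ injective, and let Ψ₁, Ψ₂ be
symmetric positive-definite integer matrices on Y₁ and Y₂, Ψ their block-diagonal sum. If the image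
of Aᵀ Ψ : Y₁ ⊕ Y₂ → X coincides with the image of Aᵀ Ψ A : X → X (the reverse inclusion always
holds), then A is bijective. (In the source X, Y₁, Y₂ are character groups of maximal tori, P and Q
specialization maps, Ψ₁ and Ψ₂ monodromy pairings, and the hypothesis expresses that two groups of
components coincide.) -/
theorem result
    {ι κ₁ κ₂ : Type} [Fintype ι] [Fintype κ₁] [Fintype κ₂]
    (P : Matrix κ₁ ι ℤ) (Q : Matrix κ₂ ι ℤ)
    (hP : Function.Surjective P.mulVec) (hQ : Function.Surjective Q.mulVec)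
    (hA : Function.Injective (Matrix.fromRows P Q).mulVec)
    (Ψ₁ : Matrix κ₁ κ₁ ℤ) (Ψ₂ : Matrix κ₂ κ₂ ℤ) (hΨ₁ : Ψ₁.IsSymm) (hΨ₂ : Ψ₂.IsSymm)
    (hΨ₁pos : ∀ y : κ₁ → ℤ, y ≠ 0 → 0 < y ⬝ᵥ Ψ₁.mulVec y)
    (hΨ₂pos : ∀ y : κ₂ → ℤ, y ≠ 0 → 0 < y ⬝ᵥ Ψ₂.mulVec y)
    (himage : LinearMap.range ((Matrix.fromRows P Q).transpose * Matrix.fromBlocks Ψ₁ 0 0 Ψ₂).mulVecLin =
      LinearMap.range ((Matrix.fromRows P Q).transpose * Matrix.fromBlocks Ψ₁ 0 0 Ψ₂ * Matrix.fromRows P Q).mulVecLin) :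
    Function.Bijective (Matrix.fromRows P Q).mulVec := by
  classical
  let A := Matrix.fromRows P Q
  let Ψ := Matrix.fromBlocks Ψ₁ 0 0 Ψ₂
  let Bf : ((κ₁ ⊕ κ₂) → ℤ) → ((κ₁ ⊕ κ₂) → ℤ) → ℤ := fun x y => x ⬝ᵥ Ψ.mulVec y
  have hmul : ∀ v, Ψ.mulVec v = Sum.elim (Ψ₁.mulVec (v ∘ Sum.inl)) (Ψ₂.mulVec (v ∘ Sum.inr)) := fun v => by
    simp [Ψ, Matrix.fromBlocks_mulVec]
  have hB : ∀ x y, Bf x y = (x ∘ Sum.inl) ⬝ᵥ Ψ₁.mulVec (y ∘ Sum.inl) + (x ∘ Sum.inr) ⬝ᵥ Ψ₂.mulVec (y ∘ Sum.inr) := by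
    intro x y
    simp only [Bf, hmul, dotProduct, Fintype.sum_sum_type, Sum.elim_inl, Sum.elim_inr, Function.comp_apply]
  have hΨ : Ψ.IsSymm := Matrix.IsSymm.fromBlocks hΨ₁ (by simp) hΨ₂
  have hsymm : ∀ x y, Bf x y = Bf y x := fun x y => by
    show x ⬝ᵥ Ψ.mulVec y = y ⬝ᵥ Ψ.mulVec x
    rw [Matrix.dotProduct_mulVec, ← Matrix.mulVec_transpose, hΨ.eq, dotProduct_comm]
  have hpos : ∀ x, x ≠ 0 → 0 < Bf x x := by
    intro x hx
    rw [hB]
    by_cases h1 : x ∘ Sum.inl = 0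
    · have h2 : x ∘ Sum.inr ≠ 0 := fun h2 => hx (funext fun i => by
        cases i with
        | inl i => exact congrFun h1 i
        | inr i => exact congrFun h2 i)
      simpa [h1] using hΨ₂pos _ h2
    · by_cases h2 : x ∘ Sum.inr = 0
      · simpa [h2] using hΨ₁pos _ h1
      · exact add_pos (hΨ₁pos _ h1) (hΨ₂pos _ h2)
  let L := LinearMap.range A.mulVecLin
  let L' := LinearMap.ker (A.transpose * Ψ).mulVecLin
  have horth : ∀ x ∈ L, ∀ y ∈ L', Bf x y = 0 := by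
    rintro _ ⟨x, rfl⟩ y hy
    have hy' : (A.transpose * Ψ).mulVec y = 0 := hy
    show A.mulVec x ⬝ᵥ Ψ.mulVec y = 0
    rw [dotProduct_comm, Matrix.dotProduct_mulVec, ← Matrix.mulVec_transpose, Matrix.mulVec_mulVec, hy',
      zero_dotProduct]
  have hsplit : ∀ y, ∃ l ∈ L, y - l ∈ L' := by
    intro y
    obtain ⟨x, hx⟩ := (himage.le ⟨y, rfl⟩ : (A.transpose * Ψ).mulVecLin y ∈
      LinearMap.range (A.transpose * Ψ * A).mulVecLin)
    refine ⟨A.mulVec x, ⟨x, rfl⟩, ?_⟩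
    show (A.transpose * Ψ).mulVec (y - A.mulVec x) = 0
    rw [Matrix.mulVec_sub, Matrix.mulVec_mulVec, sub_eq_zero]
    exact hx.symm
  let Y₁ := LinearMap.ker (LinearMap.funLeft ℤ ℤ (Sum.inr : κ₂ → κ₁ ⊕ κ₂))
  let Y₂ := LinearMap.ker (LinearMap.funLeft ℤ ℤ (Sum.inl : κ₁ → κ₁ ⊕ κ₂))
  have horth' : ∀ x ∈ Y₁, ∀ y ∈ Y₂, Bf x y = 0 := by
    intro x hx y hy
    rw [hB, show x ∘ Sum.inr = 0 from hx, show y ∘ Sum.inl = 0 from hy]
    simp
  -- every vector is a sum of vectors lying in one part of each decomposition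
  let W := (L ⊓ Y₁) ⊔ (L ⊓ Y₂) ⊔ ((L' ⊓ Y₁) ⊔ (L' ⊓ Y₂))
  have hadd : ∀ a b, Bf a b = 0 → Bf (a + b) (a + b) = Bf a a + Bf b b := by
    intro a b h
    have hba := (hsymm b a).trans h
    simp only [Bf, Matrix.mulVec_add, dotProduct_add, add_dotProduct] at h hba ⊢
    rw [h, hba]
    ring
  have hW : ∀ n : ℕ, ∀ y, (Bf y y).toNat = n → y ∈ W := by
    intro n
    induction n using Nat.strong_induction_on with
    | _ n ih =>
      intro y hy
      have hred : ∀ a b, a + b = y → Bf a b = 0 → a ≠ 0 → b ≠ 0 → y ∈ W := by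
        intro a b hab h ha hb
        have := hadd a b h
        rw [hab] at this
        have := hpos a ha
        have := hpos b hb
        rw [← hab]
        exact add_mem (ih _ (by omega) a rfl) (ih _ (by omega) b rfl)
      obtain ⟨l, hl, hl'⟩ := hsplit y
      let y₁ : (κ₁ ⊕ κ₂) → ℤ := Sum.elim (y ∘ Sum.inl) 0
      let y₂ : (κ₁ ⊕ κ₂) → ℤ := Sum.elim 0 (y ∘ Sum.inr)
      have h₁ : y₁ ∈ Y₁ := funext fun i => rfl
      have h₂ : y₂ ∈ Y₂ := funext fun i => rfl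
      have h12 : y₁ + y₂ = y := funext fun i => by cases i <;> simp [y₁, y₂]
      by_cases hy1 : y₁ = 0
      · rw [hy1, zero_add] at h12
        rw [h12] at h₂
        by_cases hl0 : l = 0
        · rw [hl0, sub_zero] at hl'
          exact Submodule.mem_sup_right (Submodule.mem_sup_right ⟨hl', h₂⟩)
        by_cases hl1 : y - l = 0
        · exact Submodule.mem_sup_left (Submodule.mem_sup_right ⟨sub_eq_zero.1 hl1 ▸ hl, h₂⟩)
        exact hred l (y - l) (add_sub_cancel l y) (horth _ hl _ hl') hl0 hl1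
      by_cases hy2 : y₂ = 0
      · rw [hy2, add_zero] at h12
        rw [h12] at h₁
        by_cases hl0 : l = 0
        · rw [hl0, sub_zero] at hl'
          exact Submodule.mem_sup_right (Submodule.mem_sup_left ⟨hl', h₁⟩)
        by_cases hl1 : y - l = 0
        · exact Submodule.mem_sup_left (Submodule.mem_sup_left ⟨sub_eq_zero.1 hl1 ▸ hl, h₁⟩)
        exact hred l (y - l) (add_sub_cancel l y) (horth _ hl _ hl') hl0 hl1
      exact hred y₁ y₂ h12 (horth' _ h₁ _ h₂) hy1 hy2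
  have hparts : ∀ x ∈ L, ∃ a ∈ L ⊓ Y₁, ∃ b ∈ L ⊓ Y₂, a + b = x := by
    intro x hx
    obtain ⟨u, hu, v, hv, rfl⟩ := Submodule.mem_sup.1 (hW _ x rfl)
    obtain ⟨a, ha, b, hb, rfl⟩ := Submodule.mem_sup.1 hu
    obtain ⟨c, hc, d, hd, rfl⟩ := Submodule.mem_sup.1 hv
    have h1 : c + d ∈ L := by
      have := sub_mem hx (add_mem ha.1 hb.1)
      rwa [add_sub_cancel_left] at this
    have h2 : c + d = 0 := by
      by_contra hne
      exact (hpos _ hne).ne' (horth _ h1 _ (add_mem hc.1 hd.1))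
    exact ⟨a, ha, b, hb, by rw [h2, add_zero]⟩
  refine ⟨hA, fun y => ?_⟩
  obtain ⟨x₁, hx₁⟩ := hP (y ∘ Sum.inl)
  obtain ⟨x₂, hx₂⟩ := hQ (y ∘ Sum.inr)
  obtain ⟨a, ha, b, hb, hab⟩ := hparts (A.mulVec x₁) ⟨x₁, rfl⟩
  obtain ⟨a', ha', b', hb', hab'⟩ := hparts (A.mulVec x₂) ⟨x₂, rfl⟩
  have hy : a + b' = y := funext fun i => by
    cases i with
    | inl i =>
      have e1 := congrFun hab (Sum.inl i)
      have e2 : b (Sum.inl i) = 0 := congrFun hb.2 i
      have e3 : b' (Sum.inl i) = 0 := congrFun hb'.2 i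
      have e4 : A.mulVec x₁ (Sum.inl i) = y (Sum.inl i) := by
        simpa [A, Matrix.fromRows_mulVec] using congrFun hx₁ i
      simp only [Pi.add_apply, e2, e3, add_zero] at e1 ⊢
      rw [e1, e4]
    | inr i =>
      have e1 := congrFun hab' (Sum.inr i)
      have e2 : a (Sum.inr i) = 0 := congrFun ha.2 i
      have e3 : a' (Sum.inr i) = 0 := congrFun ha'.2 i
      have e4 : A.mulVec x₂ (Sum.inr i) = y (Sum.inr i) := by
        simpa [A, Matrix.fromRows_mulVec] using congrFun hx₂ i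
      simp only [Pi.add_apply, e2, e3, zero_add] at e1 ⊢
      rw [e1, e4]
  exact hy ▸ add_mem ha.1 hb'.1

end Groth.Agent.S16164
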