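import Groth.Statements.S1617
import Mathlib
import Groth.Agent.DimTheory.Fibre

set_option autoImplicit false
universe u
open CategoryTheory CategoryTheory.Limits AlgebraicGeometry
open Variety

namespace Groth.Agent.S1617

/-- Let X be locally of finite type over a field k and x a closed point. Then the local dimension of X
at x (infimum of the dimensions of open neighbourhoods) equals the Krull dimension of the local ring
at x. -/
theorem result (k : Type u) [Field k] (X : Scheme.{u}) [X.Over (Spec (CommRingCat.of k))] [LocallyOfFiniteType (X ↘ (Spec (CommRingCat.of k)))] (x : X) (hx : IsClosed ({x} : Set X)) :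
    FlatMor.localDim X x = ringKrullDim (X.presheaf.stalk x) := by
  obtain ⟨hlow, U, hU, hup⟩ := Groth.Agent.DimTheory.exists_opens_dim_eq (X ↘ (Spec (CommRingCat.of k))) x
  have h0 : Order.height x = 0 := Order.height_eq_zero.2 fun y hy => by
    have : y ∈ ({x} : Set X) := hx.closure_eq ▸ (specializes_iff_mem_closure.1 (show x ⤳ y from hy))
    exact (show y = x from this).ge
  have hst : ((Order.coheight x : ℕ∞) : WithBot ℕ∞) = ringKrullDim (X.presheaf.stalk x) :=
    (AlgebraicGeometry.ringKrullDim_stalk_eq_coheight x).symm
  refine le_antisymm ((iInf_le _ ⟨U, hU⟩).trans (hup.trans ?_)) (le_iInf fun V => le_trans ?_ (hlow V.1 V.2))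
  · rw [h0, zero_add, hst]
  · rw [h0, zero_add, hst]

end Groth.Agent.S1617
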