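import Groth.Statements.S16170
import Mathlib.Data.Matrix.Mul
import Mathlib.LinearAlgebra.Matrix.ToLin
import Mathlib.Tactic.Module
import Mathlib.Tactic.Abel
import Mathlib.Tactic.Ring
-- import your own Groth.Agent.* helpers here

set_option autoImplicit false
open Neron

namespace Groth.Agent.S16170
open Matrix

/-- Let M and N be symmetric positive-semidefinite integer matrices on the same finite index set whose
sum M + N is positive definite, and let χ₁, χ₂ be integer matrices with χ₁ + χ₂ = 1 and M χ₂ = N χ₁.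
Then χ₁ and χ₂ are idempotent. (In the intended application M = Pᵀ Ψ₁ P and N = Qᵀ Ψ₂ Q for
surjective integer matrices P, Q and positive-definite Ψ₁, Ψ₂.) -/
theorem result
    {ι : Type} [Fintype ι] [DecidableEq ι]
    (M N χ₁ χ₂ : Matrix ι ι ℤ) (hM : M.IsSymm) (hN : N.IsSymm)
    (hMpos : ∀ v : ι → ℤ, 0 ≤ v ⬝ᵥ M.mulVec v) (hNpos : ∀ v : ι → ℤ, 0 ≤ v ⬝ᵥ N.mulVec v)
    (hpos : ∀ v : ι → ℤ, v ≠ 0 → 0 < v ⬝ᵥ (M + N).mulVec v)
    (hsum : χ₁ + χ₂ = 1) (hrel : M * χ₂ = N * χ₁) :
    χ₁ * χ₁ = χ₁ ∧ χ₂ * χ₂ = χ₂ := by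
  set P := M + N with hP
  have eM : P * χ₁ = M := by
    rw [hP, add_mul, ← hrel, ← mul_add, hsum, mul_one]
  have eN : P * χ₂ = N := by
    rw [hP, add_mul, hrel, ← mul_add, hsum, mul_one]
  -- the bilinear form attached to `P`
  let B : (ι → ℤ) → (ι → ℤ) → ℤ := fun x y => x ⬝ᵥ P.mulVec y
  have hPs : P.transpose = P := by rw [hP, transpose_add, hM.eq, hN.eq]
  have adj : ∀ χ Q : Matrix ι ι ℤ, P * χ = Q → Q.transpose = Q →
      ∀ x y, B (χ.mulVec x) y = B x (χ.mulVec y) := by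
    intro χ Q e hQ x y
    have : χ.transpose * P = P * χ := by
      conv_lhs => rw [← hPs]
      rw [← transpose_mul, e, hQ]
    simp only [B]
    rw [mulVec_mulVec, ← this, ← mulVec_mulVec, dotProduct_mulVec x χ.transpose, vecMul_transpose]
  have a1 := adj χ₁ M eM hM.eq
  have a2 := adj χ₂ N eN hN.eq
  have p1 : ∀ x, 0 ≤ B x (χ₁.mulVec x) := fun x => by
    simp only [B, mulVec_mulVec, eM]; exact hMpos x
  have p2 : ∀ x, 0 ≤ B x (χ₂.mulVec x) := fun x => by
    simp only [B, mulVec_mulVec, eN]; exact hNpos x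
  have padd : ∀ x y z, B x (y + z) = B x y + B x z := fun x y z => by
    simp [B, mulVec_add, dotProduct_add]
  have padd' : ∀ x y z, B (x + y) z = B x z + B y z := fun x y z => by
    simp [B, add_dotProduct]
  have psub : ∀ x y z, B x (y - z) = B x y - B x z := fun x y z => by
    simp [B, mulVec_sub, dotProduct_sub]
  have psub' : ∀ x y z, B (x - y) z = B x z - B y z := fun x y z => by
    simp [B, sub_dotProduct]
  have comm : ∀ x, χ₁.mulVec (χ₂.mulVec x) = χ₂.mulVec (χ₁.mulVec x) := by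
    intro x
    have : χ₂ = 1 - χ₁ := by rw [← hsum]; abel
    rw [mulVec_mulVec, mulVec_mulVec, this, mul_sub, sub_mul, mul_one, one_mul]
  have dec : ∀ x, χ₁.mulVec x + χ₂.mulVec x = x := fun x => by
    rw [← add_mulVec, hsum, one_mulVec]
  have hpos' : ∀ x, x ≠ 0 → 0 < B x x := hpos
  have pp : ∀ x, 0 ≤ B x x := fun x => by
    rcases eq_or_ne x 0 with rfl | h
    · simp [B]
    · exact (hpos' x h).le
  let A : (ι → ℤ) → (ι → ℤ) := fun x => χ₁.mulVec (χ₂.mulVec x)
  -- `A` is positive and bounded above by `1/4`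
  have Anonneg : ∀ x, 0 ≤ B x (A x) := by
    intro x
    have e : B x (A x) = B (χ₁.mulVec x) (χ₂.mulVec (χ₁.mulVec x))
        + B (χ₂.mulVec x) (χ₁.mulVec (χ₂.mulVec x)) := by
      calc B x (A x) = B (χ₁.mulVec x + χ₂.mulVec x) (A x) := by rw [dec]
        _ = _ := by rw [padd']; simp only [A]; rw [comm x]
    rw [e]; exact add_nonneg (p2 _) (p1 _)
  have hsq : ∀ x y, B (χ₁.mulVec x - χ₂.mulVec x) y =
      B x (χ₁.mulVec y - χ₂.mulVec y) := fun x y => by rw [psub', psub, a1, a2]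
  have hD : ∀ x, χ₁.mulVec (χ₁.mulVec x - χ₂.mulVec x) - χ₂.mulVec (χ₁.mulVec x - χ₂.mulVec x)
      = x - (4 : ℤ) • A x := by
    intro x
    have h1 : χ₂.mulVec x = x - χ₁.mulVec x := eq_sub_of_add_eq' (dec x)
    have h2 : ∀ y, χ₂.mulVec y = y - χ₁.mulVec y := fun y => eq_sub_of_add_eq' (dec y)
    simp only [A, h2, mulVec_sub]
    module
  have Ale : ∀ x, 4 * B x (A x) ≤ B x x := by
    intro x
    have := pp (χ₁.mulVec x - χ₂.mulVec x)
    rw [hsq, hD, psub] at this
    have e : B x ((4 : ℤ) • A x) = 4 * B x (A x) := by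
      simp only [B, mulVec_smul, dotProduct_smul, smul_eq_mul]
    omega
  have asymm : ∀ x y, B (A x) y = B x (A y) := fun x y => by
    show B (χ₁.mulVec (χ₂.mulVec x)) y = _
    rw [a1, a2, ← comm y]
  have Asq : ∀ x, 4 * B x (A (A x)) ≤ B x (A x) := by
    intro x
    have h := Anonneg (χ₁.mulVec x - χ₂.mulVec x)
    have e : A (χ₁.mulVec x - χ₂.mulVec x) = χ₁.mulVec (A x) - χ₂.mulVec (A x) := by
      simp only [A, mulVec_sub, comm]
    rw [e, hsq, hD, psub] at h
    have e' : B x ((4 : ℤ) • A (A x)) = 4 * B x (A (A x)) := by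
      simp only [B, mulVec_smul, dotProduct_smul, smul_eq_mul]
    omega
  have key : ∀ (n : ℕ) (x : ι → ℤ), (B x x).toNat = n → A x = 0 := by
    intro n
    induction n using Nat.strong_induction_on with
    | _ n ih =>
      intro x hx
      by_contra hne
      have hAA : 0 < B (A x) (A x) := hpos' _ hne
      have h3 : B (A x) (A x) = B x (A (A x)) := asymm x (A x)
      have := Asq x; have := Ale x
      have h0 : A (A x) = 0 := ih (B (A x) (A x)).toNat (by omega) (A x) rfl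
      rw [h0] at h3
      simp [B] at h3
      simp [B, h3] at hAA
  have h12 : χ₁ * χ₂ = 0 := by
    refine ext_of_mulVec_single fun i => ?_
    rw [← mulVec_mulVec, zero_mulVec]
    exact key _ _ rfl
  refine ⟨?_, ?_⟩
  · calc χ₁ * χ₁ = χ₁ * (1 - χ₂) := by rw [← hsum, add_sub_cancel_right]
      _ = χ₁ := by rw [mul_sub, mul_one, h12, sub_zero]
  · have h21 : χ₂ * χ₁ = 0 := by
      refine ext_of_mulVec_single fun i => ?_
      rw [← mulVec_mulVec, zero_mulVec, ← comm]
      exact key _ _ rfl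
    calc χ₂ * χ₂ = χ₂ * (1 - χ₁) := by rw [← hsum, add_sub_cancel_left]
      _ = χ₂ := by rw [mul_sub, mul_one, h21, sub_zero]

end Groth.Agent.S16170
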