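import Groth.Agent.EquidimChart.OpenAt
import Groth.Agent.FpqcDescent.ReducedSub
import Groth.Statements.S16188
-- import your own Groth.Agent.* helpers here

set_option autoImplicit false
set_option backward.isDefEq.respectTransparency false
set_option backward.isDefEq.respectTransparency.types false
universe u
open CategoryTheory AlgebraicGeometry TopologicalSpace
open SchMor

namespace Groth.Agent.S16188

/-- Let f : X → Y be a morphism of schemes with X reduced and irreducible. Then f factors through an
irreducible component of Y carrying its reduced closed-subscheme structure: there are an irreducible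
component Z of Y and a morphism g from X to the closed subscheme of Y cut out by the vanishing ideal
sheaf of Z with g followed by the inclusion equal to f; that closed subscheme is integral. -/
theorem result
    {X Y : Scheme.{u}} (f : X ⟶ Y) [IsReduced X] [IrreducibleSpace X] :
    ∃ (Z : Closeds Y) (_ : (Z : Set Y) ∈ irreducibleComponents Y)
      (_ : IsIntegral (Scheme.IdealSheafData.vanishingIdeal Z).subscheme)
      (g : X ⟶ (Scheme.IdealSheafData.vanishingIdeal Z).subscheme),
      g ≫ (Scheme.IdealSheafData.vanishingIdeal Z).subschemeι = f := by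
  let ξ := genericPoint X
  obtain ⟨Z₀, hZ₀, hsub⟩ := exists_mem_irreducibleComponents_subset_of_isIrreducible _
    ((isIrreducible_singleton (x := f ξ)).closure)
  let Z : TopologicalSpace.Closeds Y := ⟨Z₀, isClosed_of_mem_irreducibleComponents Z₀ hZ₀⟩
  let I := Scheme.IdealSheafData.vanishingIdeal Z
  have hsupp : (I.support : Set Y) = Z₀ := by simp [I, Z]
  have hle : I ≤ f.ker := EquidimChart.vanishingIdeal_le_ker f Z fun z =>
    hsub ((genericPoint_specializes z).map f.continuous).mem_closure
  haveI : IrreducibleSpace ↥I.subscheme := by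
    have hemb := I.subschemeι.isEmbedding
    have hi : IsIrreducible (Set.univ : Set ↥I.subscheme) := by
      have : IsIrreducible (I.subschemeι '' Set.univ) := by
        rw [Set.image_univ, Scheme.IdealSheafData.range_subschemeι, hsupp]
        exact hZ₀.1
      refine ⟨Set.Nonempty.of_image this.1, fun u v hu hv ⟨a, _, ha⟩ ⟨b, _, hb⟩ => ?_⟩
      obtain ⟨u', hu', rfl⟩ := hemb.isInducing.isOpen_iff.1 hu
      obtain ⟨v', hv', rfl⟩ := hemb.isInducing.isOpen_iff.1 hv
      obtain ⟨_, ⟨c, -, rfl⟩, hc⟩ := this.2 u' v' hu' hv' ⟨_, ⟨a, trivial, rfl⟩, ha⟩ ⟨_, ⟨b, trivial, rfl⟩, hb⟩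
      exact ⟨c, trivial, hc⟩
    exact (irreducibleSpace_def _).2 hi
  haveI : AlgebraicGeometry.IsReduced I.subscheme := inferInstance
  exact ⟨Z, hZ₀, isIntegral_of_irreducibleSpace_of_isReduced _, IsClosedImmersion.lift I.subschemeι f
    (by rw [Scheme.IdealSheafData.ker_subschemeι]; exact hle), IsClosedImmersion.lift_fac _ _ _⟩

end Groth.Agent.S16188
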