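import Groth.Statements.S16194
import Mathlib


set_option autoImplicit false
universe u
open DivAlg

namespace Groth.Agent.S16194

/-- In an associative unital ring R, not necessarily commutative, every element r of the Jacobson
radical (the set of elements lying in every maximal left ideal) is quasiregular, i.e. 1 - r is a
two-sided unit. -/
theorem result {R : Type u} [Ring R] (r : R)
    (hr : r ∈ Ring.jacobson R) : IsUnit (1 - r) := by
  have key : ∀ x ∈ Ring.jacobson R, ∃ v : R, v * (1 - x) = 1 := by
    intro x hx
    have htop : Ideal.span ({1 - x} : Set R) = ⊤ := by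
      by_contra h
      obtain ⟨I, hI, hle⟩ := Ideal.exists_le_maximal _ h
      have h1 : x ∈ I := @Ring.jacobson_le_of_isMaximal R _ I hI x hx
      have h2 : 1 - x ∈ I := hle (Ideal.mem_span_singleton_self _)
      exact hI.ne_top ((Ideal.eq_top_iff_one _).mpr (by simpa using I.add_mem h2 h1))
    exact Ideal.mem_span_singleton'.mp (htop ▸ Submodule.mem_top : (1 : R) ∈ Ideal.span _)
  obtain ⟨v, hv⟩ := key r hr
  have hv' : v = 1 - -(v * r) := by
    rw [mul_sub, mul_one] at hv
    calc v = (v - v * r) + v * r := by abel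
    _ = 1 - -(v * r) := by rw [hv, sub_neg_eq_add]
  obtain ⟨w, hw⟩ := key (-(v * r)) ((Ring.jacobson R).neg_mem ((Ring.jacobson R).mul_mem_left v hr))
  rw [← hv'] at hw
  have hweq : w = 1 - r := by
    calc w = w * (v * (1 - r)) := by rw [hv, mul_one]
    _ = 1 - r := by rw [← mul_assoc, hw, one_mul]
  exact ⟨⟨1 - r, v, hweq ▸ hw, hv⟩, rfl⟩

end Groth.Agent.S16194
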