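import Groth.Statements.S16195
import Mathlib


set_option autoImplicit false
universe u v w
open DivAlg

namespace Groth.Agent.S16195

/-- Let R be a ring (associative, unital, not necessarily commutative) and M, N left R-modules. For an
R-module P write BiEnd_R(P) for the ring of endomorphisms of P that are linear over the ring
End_R(P), which acts on P through evaluation. Then every T in BiEnd_R(M × N) preserves the two
summands and is induced by a pair (T₁, T₂) with T₁ in BiEnd_R(M) and T₂ in BiEnd_R(N). -/
theorem result {R : Type u} [Ring R] (M : Type v) (N : Type w)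
    [AddCommGroup M] [Module R M] [AddCommGroup N] [Module R N]
    (T : Module.End (Module.End R (M × N)) (M × N)) :
    ∃ (T₁ : Module.End (Module.End R M) M) (T₂ : Module.End (Module.End R N) N),
      ∀ (m : M) (n : N), T (m, n) = (T₁ m, T₂ n) := by
  let p₁ : Module.End R (M × N) := (LinearMap.inl R M N) ∘ₗ LinearMap.fst R M N
  let p₂ : Module.End R (M × N) := (LinearMap.inr R M N) ∘ₗ LinearMap.snd R M N
  have hp₁ : ∀ x : M × N, p₁ • x = (x.1, 0) := fun x => rfl
  have hp₂ : ∀ x : M × N, p₂ • x = (0, x.2) := fun x => rfl
  have h1 : ∀ m : M, T (m, 0) = ((T (m, 0)).1, 0) := by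
    intro m
    have := T.map_smul p₁ (m, 0)
    rw [hp₁, hp₁] at this
    exact this
  have h2 : ∀ n : N, T (0, n) = (0, (T (0, n)).2) := by
    intro n
    have := T.map_smul p₂ (0, n)
    rw [hp₂, hp₂] at this
    exact this
  refine ⟨{ toFun := fun m => (T (m, 0)).1, map_add' := ?_, map_smul' := ?_ },
    { toFun := fun n => (T (0, n)).2, map_add' := ?_, map_smul' := ?_ }, fun m n => ?_⟩
  · intro a b
    rw [← Prod.fst_add, ← map_add, Prod.mk_add_mk, add_zero]
  · intro f a
    have := T.map_smul (f.prodMap (0 : Module.End R N)) (a, 0)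
    simpa [Module.End.smul_def] using congrArg Prod.fst this
  · intro a b
    rw [← Prod.snd_add, ← map_add, Prod.mk_add_mk, add_zero]
  · intro f a
    have := T.map_smul ((0 : Module.End R M).prodMap f) (0, a)
    simpa [Module.End.smul_def] using congrArg Prod.snd this
  · change T (m, n) = ((T (m, 0)).1, (T (0, n)).2)
    calc T (m, n) = T (m, 0) + T (0, n) := by rw [← map_add, Prod.mk_add_mk, add_zero, zero_add]
    _ = ((T (m, 0)).1, 0) + (0, (T (0, n)).2) := by rw [← h1, ← h2]
    _ = _ := by rw [Prod.mk_add_mk, add_zero, zero_add]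

end Groth.Agent.S16195
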