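import Groth.Statements.S16196
import Mathlib


set_option autoImplicit false
universe u v
open DivAlg

namespace Groth.Agent.S16196

/-- Let R be a ring (associative, unital, not necessarily commutative) and M a left R-module which is a
generator, in the form: for some n there is an R-linear surjection from M^n onto R. Then the natural
ring homomorphism from R to the double endomorphism ring BiEnd_R(M) = End_{End_R(M)}(M)
(endomorphisms of M commuting with every R-linear endomorphism), r ↦ multiplication by r, is
bijective. (The printed form takes R an algebra over a commutative ring k, embeds R in E = End_k(M)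
and asserts R = C_E(C_E(R)); the double centralizer there is BiEnd_R(M).) -/
theorem result {R : Type u} [Ring R] (M : Type v)
    [AddCommGroup M] [Module R M]
    (hgen : ∃ (n : ℕ) (f : (Fin n → M) →ₗ[R] R), Function.Surjective f) :
    Function.Bijective (Module.toModuleEnd (Module.End R M) (S := R) M) := by
  classical
  obtain ⟨n, f, hf⟩ := hgen
  obtain ⟨m, hm⟩ := hf 1
  let g : Fin n → (M →ₗ[R] R) := fun i => f ∘ₗ LinearMap.single R (fun _ => M) i
  have hg : ∑ i, g i (m i) = 1 := by
    rw [← hm]
    conv_rhs => rw [← Finset.univ_sum_single m]
    rw [map_sum]; rfl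
  refine ⟨fun r s h => ?_, fun T => ⟨∑ i, g i (T (m i)), ?_⟩⟩
  · have h' : ∀ x : M, r • x = s • x := fun x => LinearMap.congr_fun h x
    have key : ∀ t : R, ∑ i, g i (t • m i) = t := fun t => by
      simp only [map_smul, smul_eq_mul, ← Finset.mul_sum, hg, mul_one]
    rw [← key r, ← key s]
    simp only [h']
  · refine LinearMap.ext fun x => ?_
    change (∑ i, g i (T (m i))) • x = T x
    let h : Fin n → Module.End R M := fun i => (LinearMap.id (R := R) (M := R)).smulRight x ∘ₗ g i
    have e : x = ∑ i, h i • m i := by
      calc x = (∑ i, g i (m i)) • x := by rw [hg, one_smul]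
      _ = _ := by rw [Finset.sum_smul]; rfl
    calc (∑ i, g i (T (m i))) • x = ∑ i, h i • T (m i) := by rw [Finset.sum_smul]; rfl
    _ = T (∑ i, h i • m i) := by simp only [map_sum, map_smul]
    _ = T x := by rw [← e]

end Groth.Agent.S16196
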