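import Groth.Statements.S16197
import Mathlib


set_option autoImplicit false
universe u v w
open DivAlg

namespace Groth.Agent.S16197

/-- Let R be a ring (associative, unital, not necessarily commutative) and M a left R-module which is a
generator, used here only through the existence of an R-linear surjection from a direct sum of
copies of M, indexed by an arbitrary type, onto R. Then some finite power M^n decomposes as R × Q
for a submodule Q of M^n. (The published statement is an equivalence; this row states only the
implication from the existence of such a surjection to the splitting.) -/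
theorem result {R : Type u} [Ring R] (M : Type v)
    [AddCommGroup M] [Module R M]
    (hgen : ∃ (ι : Type w) (f : (ι →₀ M) →ₗ[R] R), Function.Surjective f) :
    ∃ (n : ℕ) (Q : Submodule R (Fin n → M)), Nonempty ((Fin n → M) ≃ₗ[R] (R × Q)) := by
  classical
  obtain ⟨ι, f, hf⟩ := hgen
  obtain ⟨x, hx⟩ := hf 1
  let n := x.support.card
  let e : Fin n ≃ x.support := x.support.equivFin.symm
  let g : (Fin n → M) →ₗ[R] R :=
    ∑ i : Fin n, (f ∘ₗ Finsupp.lsingle (e i : ι)) ∘ₗ LinearMap.proj i
  let m : Fin n → M := fun i => x (e i)
  have hgm : g m = 1 := by
    simp only [g, m, LinearMap.sum_apply, LinearMap.comp_apply, LinearMap.proj_apply,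
      Finsupp.lsingle_apply]
    rw [← map_sum, e.sum_comp (fun j : x.support => Finsupp.single (j : ι) (x j)),
      Finset.sum_coe_sort x.support (fun j => Finsupp.single j (x j))]
    exact (congrArg f x.sum_single).trans hx
  refine ⟨n, LinearMap.ker g, ⟨?_⟩⟩
  exact
    { toFun := fun v => (g v, ⟨v - g v • m, by simp [hgm]⟩)
      invFun := fun p => p.1 • m + (p.2 : Fin n → M)
      map_add' := fun v w => Prod.ext (map_add g v w) (Subtype.ext (by
        simp only [map_add, add_smul, Prod.snd_add, Submodule.coe_add]
        abel))
      map_smul' := fun r v => Prod.ext (map_smul g r v) (Subtype.ext (by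
        simp [smul_sub, mul_smul]))
      left_inv := fun v => by simp
      right_inv := fun p => by
        obtain ⟨r, q, hq⟩ := p
        have hq' : g q = 0 := hq
        refine Prod.ext ?_ (Subtype.ext ?_)
        · simp [hgm, hq']
        · simp [hgm, hq'] }

end Groth.Agent.S16197
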