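import Groth.Statements.S16198
import Mathlib
import Groth.Agent.DivAlgLib.PicPow

set_option autoImplicit false
universe u v
open DivAlg

namespace Groth.Agent.S16198

/-- In the case of a commutative ring R, let N be an invertible R-module such that the direct sum N^n is
isomorphic to R^n for some natural number n. Then the class of N in Pic(R) satisfies [N]^n = 1. (The
published statement is for invertible modules on an arbitrary ringed site; this row states the case
of a commutative ring.) -/
theorem result {R : Type u} [CommRing R] (N : Type v)
    [AddCommGroup N] [Module R N] [Module.Invertible R N] (n : ℕ)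
    (e : (Fin n → N) ≃ₗ[R] (Fin n → R)) :
    CommRing.Pic.mk R N ^ n = 1 := by
  classical
  let D : (Fin n → Fin n → R) →ₗ[R] (Fin n → Fin n → R) := LinearMap.id
  let L : Fin n → N →ₗ[R] (Fin n → R) := fun i => e.toLinearMap ∘ₗ LinearMap.single R (fun _ => N) i
  let det : MultilinearMap R (fun _ : Fin n => (Fin n → R)) R :=
    (Matrix.detRowAlternating (n := Fin n) (R := R)).toMultilinearMap
  let φ : MultilinearMap R (fun _ : Fin n => N) R := det.compLinearMap L
  have hmem : det (fun j => Pi.single j (1 : R)) ∈ Submodule.span R (Set.range φ) := by
    have hw : (fun j => Pi.single (M := fun _ : Fin n => R) j (1 : R)) =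
        fun j => ∑ i, L i (e.symm (Pi.single j 1) i) := by
      funext j
      simp only [L, LinearMap.comp_apply, LinearMap.single_apply, LinearEquiv.coe_coe]
      rw [← map_sum, Finset.univ_sum_single, e.apply_symm_apply]
    rw [hw, det.map_sum]
    refine Submodule.sum_mem _ fun g _ => ?_
    set x : Fin n → N := fun j => e.symm (Pi.single j 1) (g j) with hx
    by_cases hg : Function.Injective g
    · let π : Equiv.Perm (Fin n) := Equiv.ofBijective g (Finite.injective_iff_bijective.mp hg)
      have : det (fun j => L (g j) (x j)) = ((Equiv.Perm.sign π : ℤ) : R) * φ (fun i => x (π.symm i)) := by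
        change Matrix.det (fun j => L (g j) (x j)) = _ * Matrix.det fun i => L i (x (π.symm i))
        rw [← Matrix.det_permute π (fun i => L i (x (π.symm i)))]
        congr 1
        funext j
        change L (g j) (x j) = L (π j) (x (π.symm (π j)))
        rw [π.symm_apply_apply]
        rfl
      rw [this, ← smul_eq_mul]
      exact Submodule.smul_mem _ _ (Submodule.subset_span ⟨_, rfl⟩)
    · obtain ⟨i, j, hij, hne⟩ := Function.not_injective_iff.mp hg
      set y : Fin n → (Fin n → R) := fun j => L (g j) (x j) with hy
      let B : N →ₗ[R] N →ₗ[R] R := LinearMap.mk₂ R
        (fun a b => det (Function.update (Function.update y i (L (g i) a)) j (L (g i) b)))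
        (fun a a' b => by
          rw [map_add, Function.update_comm hne, Function.update_comm hne,
            Function.update_comm hne, det.map_update_add])
        (fun c a b => by
          rw [map_smul, Function.update_comm hne, Function.update_comm hne, det.map_update_smul])
        (fun a b b' => by rw [map_add, det.map_update_add])
        (fun c a b => by rw [map_smul, det.map_update_smul])
      have hB : ∀ a, B a a = 0 := fun a => by
        simp only [B, LinearMap.mk₂_apply]
        exact Matrix.det_zero_of_row_eq hne (by
          rw [Function.update_of_ne hne, Function.update_self, Function.update_self])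
      have h0 := DivAlgLib.alt_bilin_eq_zero B hB (x i) (x j)
      simp only [B, LinearMap.mk₂_apply] at h0
      have e1 : Function.update (Function.update y i (L (g i) (x i))) j (L (g i) (x j)) = y := by
        funext l
        by_cases hlj : l = j
        · subst hlj; rw [Function.update_self, hy, hij]
        · rw [Function.update_of_ne hlj]
          by_cases hli : l = i
          · subst hli; rw [Function.update_self, hy]
          · rw [Function.update_of_ne hli]
      rw [e1] at h0
      exact h0 ▸ Submodule.zero_mem _
  have h1 : det (fun j => Pi.single j (1 : R)) = 1 := by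
    change Matrix.det (fun j => Pi.single j (1 : R)) = 1
    convert Matrix.det_one (n := Fin n) (R := R) using 2
    funext i j
    rw [Matrix.one_apply, Pi.single_apply]
    simp [eq_comm]
  rw [h1] at hmem
  have hφ : Submodule.span R (Set.range
      ((ULift.moduleEquiv (R := R) (M := R)).symm.toLinearMap.compMultilinearMap φ :
        MultilinearMap R (fun _ : Fin n => N) (ULift.{v} R))) = ⊤ := by
    rw [LinearMap.coe_compMultilinearMap, Set.range_comp, Submodule.span_image,
      (Ideal.eq_top_iff_one _).mpr hmem, Submodule.map_top, LinearEquiv.range]
  haveI : Module.Invertible R (ULift.{v} R) :=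
    Module.Invertible.congr (ULift.moduleEquiv (R := R) (M := R)).symm
  rw [← DivAlgLib.mk_eq_pow N n (ULift.{v} R) _ hφ, CommRing.Pic.mk_eq_one_iff]
  exact ⟨ULift.moduleEquiv⟩

end Groth.Agent.S16198
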