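-- statement DivAlg.GrothFrozen.S16199 (Groth/Statements/S16199.lean; the theorem DivAlg.matrix_algEquiv_inner_iff_invertible_free);
import Groth.Statements.S16199
import Mathlib

set_option autoImplicit false
universe u
open DivAlg

namespace Groth.Agent.S16199

open TensorProduct in
theorem invertible_of_pi_equiv {R : Type u} [CommRing R] {n : ℕ} (i0 : Fin n) {N : Type u} [AddCommGroup N]
    [Module R N] (e : (Fin n → N) ≃ₗ[R] (Fin n → R)) : Module.Invertible R N := by
  classical
  let c := contractLeft R N
  let L : Fin n → Fin n → Module.Dual R N := fun i a =>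
    LinearMap.proj i ∘ₗ e.toLinearMap ∘ₗ LinearMap.single R (fun _ => N) a
  let X : Fin n → Fin n → N := fun j b => e.symm (Pi.single j 1) b
  have hL : ∀ i (x : Fin n → N), e x i = ∑ a, L i a (x a) := by
    intro i x
    conv_lhs => rw [← Finset.univ_sum_single x, map_sum, Finset.sum_apply]
    rfl
  have hsurj : Function.Surjective c := by
    intro r
    refine ⟨r • ∑ a, L i0 a ⊗ₜ[R] X i0 a, ?_⟩
    simp only [c, map_smul, map_sum, contractLeft_apply]
    rw [← hL, e.apply_symm_apply, Pi.single_eq_same, smul_eq_mul, mul_one]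
  let T := Module.Dual R N ⊗[R] N
  let ι : (Fin n × Fin n → R) →ₗ[R] (Fin n × Fin n → T) :=
    LinearMap.pi fun ab => ∑ ij : Fin n × Fin n,
      (LinearMap.proj ij).smulRight (L ij.1 ab.1 ⊗ₜ[R] X ij.2 ab.2)
  have hι : ∀ r ab, ι r ab = ∑ ij : Fin n × Fin n, r ij • (L ij.1 ab.1 ⊗ₜ[R] X ij.2 ab.2) := fun r ab => by
    simp [ι]
  have hιs : Function.Surjective ι := by
    rw [← LinearMap.range_eq_top, eq_top_iff]
    intro t _
    rw [← Finset.univ_sum_single t]
    refine Submodule.sum_mem _ fun ab _ => ?_
    generalize t ab = z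
    induction z using TensorProduct.induction_on with
    | zero => rw [Pi.single_zero]; exact Submodule.zero_mem _
    | add u v hu hv => rw [Pi.single_add]; exact Submodule.add_mem _ hu hv
    | tmul ψ y =>
      obtain ⟨a, b⟩ := ab
      let cc : Fin n → R := fun i => ψ (e.symm (Pi.single i 1) a)
      let d : Fin n → R := e (Pi.single b y)
      refine ⟨fun ij => cc ij.1 * d ij.2, funext fun ⟨a', b'⟩ => ?_⟩
      have h1 : ∑ i, cc i • L i a' = if a' = a then ψ else 0 := by
        refine LinearMap.ext fun w => ?_
        have h := congrArg (fun v => ψ (e.symm v a)) (Finset.univ_sum_single (e (Pi.single a' w)))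
        simp only [map_sum, Finset.sum_apply, e.symm_apply_apply] at h
        rw [LinearMap.sum_apply]
        rw [show (∑ i, (cc i • L i a') w) = ψ ((Pi.single a' w : Fin n → N) a) from ?_]
        · by_cases ha : a' = a
          · subst ha; simp
          · simp [Ne.symm ha, ha]
        · rw [← h]
          refine Finset.sum_congr rfl fun i _ => ?_
          have : (Pi.single i (e (Pi.single a' w) i) : Fin n → R) = e (Pi.single a' w) i • Pi.single i 1 := by
            rw [← Pi.single_smul, smul_eq_mul, mul_one]
          rw [this, map_smul, Pi.smul_apply, map_smul]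
          simp [cc, L, mul_comm]
      have h2 : ∑ j, d j • X j b' = if b' = b then y else 0 := by
        have h := congrArg (fun v => e.symm v b') (Finset.univ_sum_single d)
        simp only [map_sum, Finset.sum_apply, d, e.symm_apply_apply, Pi.single_apply] at h
        rw [← h]
        refine Finset.sum_congr rfl fun j _ => ?_
        have : (Pi.single j (d j) : Fin n → R) = d j • Pi.single j 1 := by
          rw [← Pi.single_smul, smul_eq_mul, mul_one]
        rw [this, map_smul]; rfl
      rw [hι, Fintype.sum_prod_type]
      rw [show (∑ i, ∑ j, (cc i * d j) • (L i a' ⊗ₜ[R] X j b')) = (∑ i, cc i • L i a') ⊗ₜ[R] (∑ j, d j • X j b') from by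
        rw [TensorProduct.sum_tmul]
        refine Finset.sum_congr rfl fun i _ => ?_
        rw [TensorProduct.tmul_sum]
        exact Finset.sum_congr rfl fun j _ => (TensorProduct.smul_tmul_smul _ _ _ _).symm, h1, h2]
      by_cases ha : a' = a <;> by_cases hb : b' = b <;> simp [ha, hb, Pi.single_apply]
  let π : (Fin n × Fin n → T) →ₗ[R] (Fin n × Fin n → R) := LinearMap.pi fun ab => c ∘ₗ LinearMap.proj ab
  have hπ : Function.Surjective π := fun r => ⟨fun ab => (hsurj (r ab)).choose, funext fun ab => (hsurj (r ab)).choose_spec⟩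
  have hb : Function.Bijective (π ∘ₗ ι) :=
    OrzechProperty.bijective_of_surjective_endomorphism _ (hπ.comp hιs)
  refine ⟨⟨fun t t' ht => ?_, hsurj⟩⟩
  obtain ⟨r, hr⟩ := hιs (Pi.single (i0, i0) t)
  obtain ⟨r', hr'⟩ := hιs (Pi.single (i0, i0) t')
  have h0 : (π ∘ₗ ι) r = (π ∘ₗ ι) r' := by
    funext ab
    simp only [LinearMap.comp_apply, hr, hr', π, LinearMap.pi_apply, LinearMap.proj_apply]
    by_cases h : ab = (i0, i0)
    · subst h; rw [Pi.single_eq_same, Pi.single_eq_same]; exact ht
    · rw [Pi.single_eq_of_ne h, Pi.single_eq_of_ne h]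
  rw [hb.1 h0, hr'] at hr
  exact (Pi.single_injective (i0, i0) hr).symm

/-- Let R be a commutative ring and n ≥ 1. The natural map from GL_n(R) to the R-algebra automorphisms
of M_n(R) is surjective (every automorphism is inner) if and only if Pic_(n)(R) = 0, i.e. every
invertible R-module N with N^n ≅ R^n is free. (For n = 0 the left side holds trivially while the
right side fails whenever Pic(R) ≠ 0, so this row assumes n ≥ 1, which the published statement
leaves implicit; invertible modules are quantified in the universe of R, which loses nothing since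
every invertible module is finitely generated.) -/
theorem result {R : Type u} [CommRing R] (n : ℕ)
    (hn : 1 ≤ n) :
    (∀ φ : Matrix (Fin n) (Fin n) R ≃ₐ[R] Matrix (Fin n) (Fin n) R,
        ∃ P : GL (Fin n) R, ∀ A : Matrix (Fin n) (Fin n) R, φ A = P.1 * A * (P⁻¹).1) ↔
      (∀ (N : Type u) [AddCommGroup N] [Module R N] [Module.Invertible R N],
        Nonempty ((Fin n → N) ≃ₗ[R] (Fin n → R)) → Module.Free R N) := by
  classical
  let i0 : Fin n := ⟨0, hn⟩
  constructor
  · intro hinn N _ _ _ ⟨e⟩
    let act : Matrix (Fin n) (Fin n) R →ₐ[R] Module.End R (Fin n → N) :=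
      AlgHom.ofLinearMap
        { toFun := fun A => { toFun := fun x i => ∑ j, A i j • x j
                              map_add' := fun x y => funext fun i => by simp [Finset.sum_add_distrib]
                              map_smul' := fun c x => funext fun i => by
                                simp [Finset.smul_sum, smul_smul, mul_comm] }
          map_add' := fun A B => LinearMap.ext fun x => funext fun i => by simp [add_smul, Finset.sum_add_distrib]
          map_smul' := fun c A => LinearMap.ext fun x => funext fun i => by simp [Finset.smul_sum, smul_smul] }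
        (LinearMap.ext fun x => funext fun i => by simp [Matrix.one_apply, ite_smul])
        (fun A B => LinearMap.ext fun x => funext fun i => by
          simp only [Matrix.mul_apply, LinearMap.coe_mk, AddHom.coe_mk, Module.End.mul_apply, Finset.sum_smul, Finset.smul_sum, smul_smul]
          exact Finset.sum_comm)
    have hact : ∀ (A : Matrix (Fin n) (Fin n) R) (x : Fin n → N) (i : Fin n), act A x i = ∑ j, A i j • x j :=
      fun A x i => rfl
    have hb : Function.Bijective act := by
      refine ⟨fun A B h => ?_, fun G => ?_⟩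
      · ext i j
        refine (Module.Invertible.toModuleEnd_bijective R N).1 (LinearMap.ext fun y => ?_)
        have := congrFun (LinearMap.congr_fun h (Pi.single j y)) i
        simp only [hact, Pi.single_apply, smul_ite, smul_zero, Finset.sum_ite_eq', Finset.mem_univ, if_true] at this
        exact this
      · choose a ha using fun i j => (Module.Invertible.toModuleEnd_bijective R N).2
          (LinearMap.proj i ∘ₗ G ∘ₗ LinearMap.single R (fun _ => N) j)
        refine ⟨Matrix.of a, LinearMap.ext fun x => funext fun i => ?_⟩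
        rw [hact]
        conv_rhs => rw [← Finset.univ_sum_single x, map_sum, Finset.sum_apply]
        exact Finset.sum_congr rfl fun j _ => LinearMap.congr_fun (ha i j) (x j)
    let φ : Matrix (Fin n) (Fin n) R ≃ₐ[R] Matrix (Fin n) (Fin n) R :=
      ((AlgEquiv.ofBijective act hb).trans (LinearEquiv.conjAlgEquiv R e)).trans
        (LinearMap.toMatrixAlgEquiv' (R := R) (n := Fin n))
    obtain ⟨P, hP⟩ := hinn φ
    let g : (Fin n → N) →ₗ[R] (Fin n → R) := Matrix.toLin' (P⁻¹).1 ∘ₗ e.toLinearMap
    let g' : (Fin n → R) →ₗ[R] (Fin n → N) := e.symm.toLinearMap ∘ₗ Matrix.toLin' P.1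
    have hgg : ∀ v, g (g' v) = v := fun v => by
      simp only [g, g', LinearMap.comp_apply, LinearEquiv.coe_coe, e.apply_symm_apply, Matrix.toLin'_apply, Matrix.mulVec_mulVec, Units.inv_mul, Matrix.one_mulVec]
    have hg'g : ∀ x, g' (g x) = x := fun x => by
      simp only [g, g', LinearMap.comp_apply, LinearEquiv.coe_coe, Matrix.toLin'_apply, Matrix.mulVec_mulVec, Units.mul_inv, Matrix.one_mulVec, e.symm_apply_apply]
    have hcomm : ∀ A x, g (act A x) = Matrix.mulVec A (g x) := by
      intro A x
      have h1 : Matrix.mulVec (φ A) (e x) = e (act A x) := by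
        rw [← Matrix.toLinAlgEquiv'_apply]
        simp only [φ, AlgEquiv.trans_apply, Matrix.toLinAlgEquiv'_toMatrixAlgEquiv', AlgEquiv.coe_ofBijective]
        simp [LinearEquiv.conjAlgEquiv_apply]
      simp only [g, LinearMap.comp_apply, LinearEquiv.coe_coe, Matrix.toLin'_apply]
      rw [← h1, hP A, Matrix.mulVec_mulVec, Matrix.mulVec_mulVec, ← mul_assoc, ← mul_assoc, Units.inv_mul, one_mul]
    let E : Matrix (Fin n) (Fin n) R := Matrix.single i0 i0 1
    have hEN : ∀ x : Fin n → N, act E x = Pi.single i0 (x i0) := fun x => funext fun i => by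
      rw [hact]
      by_cases h : i = i0
      · subst h; simp [E, Matrix.single_apply, ite_smul]
      · simp [E, Matrix.single_apply, Ne.symm h, h, ite_smul]
    have hER : ∀ v : Fin n → R, Matrix.mulVec E v = Pi.single i0 (v i0) := fun v => funext fun i => by
      by_cases h : i = i0
      · subst h; simp [E, Matrix.mulVec, dotProduct, Matrix.single_apply, ite_mul]
      · simp [E, Matrix.mulVec, dotProduct, Matrix.single_apply, Ne.symm h, h, ite_mul]
    refine Module.Invertible.free_iff_linearEquiv.2 ⟨LinearEquiv.ofLinear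
      (LinearMap.proj i0 ∘ₗ g ∘ₗ LinearMap.single R (fun _ => N) i0)
      (LinearMap.proj i0 ∘ₗ g' ∘ₗ LinearMap.single R (fun _ => R) i0)
      (LinearMap.ext fun r => ?_) (LinearMap.ext fun y => ?_)⟩
    · have h := hcomm E (g' (Pi.single i0 r))
      rw [hEN, hgg, hER, Pi.single_eq_same] at h
      simp only [LinearMap.comp_apply, LinearMap.single_apply, LinearMap.proj_apply, LinearMap.id_apply]
      rw [h, Pi.single_eq_same]
    · have h := hcomm E (Pi.single i0 y)
      rw [hEN, hER, Pi.single_eq_same] at h
      simp only [LinearMap.comp_apply, LinearMap.single_apply, LinearMap.proj_apply, LinearMap.id_apply]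
      rw [← h, hg'g, Pi.single_eq_same]
  · intro hfree φ
    let E : Fin n → Fin n → ((Fin n → R) →ₗ[R] (Fin n → R)) := fun i j => Matrix.toLin' (φ (Matrix.single i j 1))
    have hE : ∀ i j k l, ∀ v, E i j (E k l v) = if j = k then E i l v else 0 := by
      intro i j k l v
      simp only [E, Matrix.toLin'_apply, Matrix.mulVec_mulVec, ← map_mul]
      split_ifs with h
      · subst h; simp
      · rw [Matrix.single_mul_single_of_ne (h := h), map_zero, Matrix.zero_mulVec]
    have hsum : ∀ v, ∑ i, E i i0 (E i0 i v) = v := by
      intro v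
      simp only [hE, if_true]
      simp only [E, Matrix.toLin'_apply, ← Matrix.sum_mulVec, ← map_sum]
      rw [show (∑ i : Fin n, Matrix.single i i (1 : R)) = 1 from by
        ext a b; simp [Matrix.sum_apply, Matrix.single_apply, Matrix.one_apply, ite_and], map_one, Matrix.one_mulVec]
    let N := LinearMap.range (E i0 i0)
    have hfix : ∀ w : N, E i0 i0 w = w := by
      rintro ⟨_, v, rfl⟩; simp [hE]
    let f : (Fin n → R) ≃ₗ[R] (Fin n → N) := LinearEquiv.ofLinear
      (LinearMap.pi fun i => (E i0 i).codRestrict N fun v => ⟨E i0 i v, by rw [hE, if_pos rfl]⟩)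
      (∑ i, E i i0 ∘ₗ N.subtype ∘ₗ LinearMap.proj i)
      (LinearMap.ext fun w => funext fun j => Subtype.ext <| by
        simp only [LinearMap.comp_apply, LinearMap.pi_apply, LinearMap.sum_apply, LinearMap.id_apply]
        change E i0 j (∑ i, E i i0 (w i : Fin n → R)) = _
        rw [map_sum, Finset.sum_congr rfl fun i _ => hE i0 j i i0 _, Finset.sum_ite_eq, if_pos (Finset.mem_univ _)]
        exact hfix (w j))
      (LinearMap.ext fun v => by
        simp only [LinearMap.comp_apply, LinearMap.sum_apply, LinearMap.id_apply]
        exact hsum v)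
    haveI : Module.Invertible R N := invertible_of_pi_equiv i0 f.symm
    haveI := hfree N ⟨f.symm⟩
    obtain ⟨g⟩ := (Module.Invertible.free_iff_linearEquiv (R := R) (M := N)).1 inferInstance
    let θ : (Fin n → R) ≃ₗ[R] (Fin n → R) := f.trans (LinearEquiv.piCongrRight fun _ => g)
    have hθ : ∀ A v, θ (Matrix.mulVec (φ A) v) = Matrix.mulVec A (θ v) := by
      intro A v
      funext i
      have h1 : (⟨E i0 i (Matrix.mulVec (φ A) v), ⟨E i0 i (Matrix.mulVec (φ A) v), by rw [hE, if_pos rfl]⟩⟩ : N) =
          ∑ j, A i j • (⟨E i0 j v, ⟨E i0 j v, by rw [hE, if_pos rfl]⟩⟩ : N) := by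
        refine Subtype.ext ?_
        simp only [Submodule.coe_sum, Submodule.coe_smul, E, Matrix.toLin'_apply, Matrix.mulVec_mulVec, ← map_mul, ← Matrix.smul_mulVec, ← Matrix.sum_mulVec, ← map_smul, ← map_sum]
        congr 2
        ext a b
        simp [Matrix.sum_apply, Matrix.single_apply, Matrix.mul_apply, ite_and]
      change g _ = ∑ j, A i j * g _
      simp only [← smul_eq_mul, ← map_smul, ← map_sum]
      exact congrArg g h1
    refine ⟨⟨LinearMap.toMatrix' θ.symm.toLinearMap, LinearMap.toMatrix' θ.toLinearMap, ?_, ?_⟩, fun A => ?_⟩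
    · rw [← LinearMap.toMatrix'_comp]; simp
    · rw [← LinearMap.toMatrix'_comp]; simp
    · refine Matrix.toLin'.injective (LinearMap.ext fun v => ?_)
      simp only [Units.inv_mk, Matrix.toLin'_mul, Matrix.toLin'_toMatrix', LinearMap.comp_apply, Matrix.toLin'_apply, LinearEquiv.coe_coe]
      rw [← hθ, θ.symm_apply_apply]

end Groth.Agent.S16199
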