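import Groth.Statements.S1620
import Groth.Agent.DimTheory.Points

set_option autoImplicit false
universe u
open CategoryTheory CategoryTheory.Limits AlgebraicGeometry
attribute [local instance] Curv2.stalkAlgebra Curv2.resAlgebra
open Variety

namespace Groth.Agent.S1620

/-- Let X be locally of finite type over a field k and x ⤳ x' an immediate specialisation (x ≠ x' and no
point strictly in between). If the residue field of x' has transcendence degree n over k then the
residue field of x has transcendence degree n + 1. -/
theorem result (k : Type u) [Field k] (X : Scheme.{u}) [X.Over (Spec (CommRingCat.of k))] [LocallyOfFiniteType (X ↘ (Spec (CommRingCat.of k)))] (x x' : X) (hne : x ≠ x') (hsp : x ⤳ x')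
    (himm : ∀ y : X, x ⤳ y → y ⤳ x' → y = x ∨ y = x')
    (n : ℕ) (hn : Algebra.trdeg k (X.residueField x') = n) : Algebra.trdeg k (X.residueField x) = n + 1 := by
  let f := X ↘ Spec (CommRingCat.of k)
  obtain ⟨m, hm, hm'⟩ := DimTheory.exists_height_eq f x
  obtain ⟨n', hn1, hn2⟩ := DimTheory.exists_height_eq f x'
  obtain rfl : n' = n := Nat.cast_injective (R := Cardinal.{u}) (hn1.symm.trans hn)
  have hlt : x' < x :=
    lt_of_le_not_ge hsp fun h => hne (Specializes.antisymm hsp h).eq
  have hcov : x' ⋖ x := by
    refine ⟨hlt, fun y h1 h2 => ?_⟩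
    rcases himm y h2.le h1.le with rfl | rfl
    · exact lt_irrefl _ h2
    · exact lt_irrefl _ h1
  have h := DimTheory.height_eq_add_one_of_covBy f hcov
  rw [hm', hn2] at h
  obtain rfl : m = n' + 1 := by exact_mod_cast h
  exact hm.trans (by push_cast; rfl)

end Groth.Agent.S1620
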