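-- statement DivAlg.GrothFrozen.S16200 (Groth/Statements/S16200.lean; the theorem DivAlg.nonempty_pi_linearEquiv_of_pic_mk_pow_eq_one);
import Groth.Statements.S16200
import Mathlib

set_option autoImplicit false
set_option maxHeartbeats 1000000
universe u v
open DivAlg

namespace Groth.Agent.S16200

/-- Let R be a Dedekind domain, N an invertible R-module and n a natural number with [N]^n = 1 in
Pic(R). Then the direct sum N^n is isomorphic to R^n; thus over a Dedekind domain the invertible
modules N with N^n ≅ R^n are exactly the n-torsion classes of Pic(R), the other inclusion holding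
over any commutative ring. -/
theorem result {R : Type u} [CommRing R]
    [IsDedekindDomain R] (N : Type v) [AddCommGroup N] [Module R N] [Module.Invertible R N]
    (n : ℕ) (h : CommRing.Pic.mk R N ^ n = 1) :
    Nonempty ((Fin n → N) ≃ₗ[R] (Fin n → R)) := by
  classical
  have hflat : ∀ (I : Ideal R), Module.Invertible R I → ∀ J : Ideal R, Nonempty (TensorProduct R I J ≃ₗ[R] ↥(I * J)) := by
    intro I hI J
    let f : TensorProduct R I J →ₗ[R] R := LinearMap.mul' R R ∘ₗ TensorProduct.map I.subtype J.subtype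
    have hf : Function.Injective f := by
      have h1 : f = I.subtype ∘ₗ (TensorProduct.rid R I).toLinearMap ∘ₗ J.subtype.lTensor I := by
        ext x y; simp [f, mul_comm]
      rw [h1]
      exact Subtype.val_injective.comp ((TensorProduct.rid R I).injective.comp
        (Module.Flat.lTensor_preserves_injective_linearMap _ Subtype.val_injective))
    have hr : LinearMap.range f = I * J := by
      apply le_antisymm
      · rintro _ ⟨z, rfl⟩
        induction z with
        | zero => simp
        | tmul x y => exact Ideal.mul_mem_mul x.2 y.2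
        | add x y hx hy => rw [map_add]; exact Ideal.add_mem _ hx hy
      · exact Ideal.mul_le.2 fun x hx y hy => ⟨⟨x, hx⟩ ⊗ₜ ⟨y, hy⟩, rfl⟩
    exact ⟨(LinearEquiv.ofInjective f hf).trans (LinearEquiv.ofEq _ _ hr)⟩
  have hbot : ∀ (I : Ideal R), Module.Invertible R I → I ≠ ⊥ := by
    rintro I hI rfl
    have h2 := Module.Invertible.linearEquiv R (⊥ : Ideal R)
    have h0 : ∀ z : TensorProduct R (Module.Dual R (⊥ : Ideal R)) (⊥ : Ideal R), z = 0 := fun z => by
      induction z with
      | zero => rfl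
      | tmul x y => rw [Subsingleton.elim y 0, TensorProduct.tmul_zero]
      | add x y hx hy => rw [hx, hy, add_zero]
    exact zero_ne_one (h2.symm.injective ((h0 _).trans (h0 _).symm))
  have key : ∀ (M : Ideal R) [Module.Invertible R M] (J : Ideal R) [Module.Invertible R J],
      ∃ (Q : Ideal R) (_ : Module.Invertible R Q),
        CommRing.Pic.mk R Q = CommRing.Pic.mk R M * CommRing.Pic.mk R J ∧ Nonempty ((M × J) ≃ₗ[R] (R × Q)) := by
    intro M hM J hJ
    obtain ⟨I₁, ⟨e₁⟩⟩ := Module.Invertible.exists_linearEquiv_ideal R (Module.Dual R M)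
    haveI hI₁ : Module.Invertible R I₁ := Module.Invertible.congr e₁
    have hI₁pic : CommRing.Pic.mk R I₁ = (CommRing.Pic.mk R M)⁻¹ := by
      rw [← CommRing.Pic.mk_dual]; exact CommRing.Pic.mk_eq_mk_iff.2 ⟨e₁.symm⟩
    have hI₁0 : I₁ ≠ ⊥ := hbot I₁ hI₁
    obtain ⟨K, hK, hKpic, hcop⟩ : ∃ (K : Ideal R) (_ : Module.Invertible R K),
        CommRing.Pic.mk R K = CommRing.Pic.mk R M ∧ K ⊔ J = ⊤ := by
      by_cases hJt : J = ⊤
      · exact ⟨M, hM, rfl, by rw [hJt, sup_top_eq]⟩
      have hprod : I₁ * J ≠ ⊥ := mul_ne_zero hI₁0 (hbot J hJ)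
      obtain ⟨a, ha⟩ := IsDedekindDomain.exists_sup_span_eq (I := I₁ * J) (J := I₁) Ideal.mul_le_left hprod
      have haI : Ideal.span {a} ≤ I₁ := le_sup_right.trans_eq ha
      obtain ⟨K, hK⟩ := Ideal.dvd_iff_le.2 haI
      have ha0 : a ≠ 0 := by
        rintro rfl
        rw [Set.singleton_zero, Ideal.span_zero, sup_bot_eq] at ha
        exact hJt (mul_left_cancel₀ hI₁0 (ha.trans (mul_one _).symm) |>.trans Ideal.one_eq_top)
      have hcop : K ⊔ J = ⊤ := by
        refine mul_left_cancel₀ hI₁0 ?_ |>.trans Ideal.one_eq_top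
        rw [mul_one, Ideal.mul_sup, ← hK, sup_comm]
        exact ha
      obtain ⟨e₂⟩ := hflat I₁ hI₁ K
      let e₃ : TensorProduct R I₁ K ≃ₗ[R] R := e₂.trans ((LinearEquiv.ofEq _ _ hK.symm).trans
        (LinearEquiv.toSpanNonzeroSingleton R R a ha0).symm)
      haveI : Module.Invertible R K := Module.Invertible.right e₃
      refine ⟨K, inferInstance, ?_, hcop⟩
      have h1 : CommRing.Pic.mk R I₁ * CommRing.Pic.mk R K = 1 := by
        rw [← CommRing.Pic.mk_tensor]; exact CommRing.Pic.mk_eq_one_iff.2 ⟨e₃⟩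
      rw [hI₁pic, inv_mul_eq_one] at h1
      exact h1.symm
    obtain ⟨e⟩ := hflat K hK J
    haveI : Module.Invertible R ↥(K * J) := Module.Invertible.congr e
    refine ⟨K * J, inferInstance, ?_, ?_⟩
    · rw [← hKpic, ← CommRing.Pic.mk_tensor]
      exact CommRing.Pic.mk_eq_mk_iff.2 ⟨e.symm⟩
    · obtain ⟨eM⟩ := CommRing.Pic.mk_eq_mk_iff.1 hKpic.symm
      obtain ⟨u, hu, v, hv, huv⟩ := Submodule.mem_sup.1 (show (1 : R) ∈ K ⊔ J by rw [hcop]; trivial)
      have hinf : K ⊓ J = K * J := (Ideal.mul_eq_inf_of_coprime hcop).symm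
      have eKJ : (K × J) ≃ₗ[R] (R × ↥(K * J)) :=
        { toFun := fun x => ((x.1 : R) + x.2, ⟨v * x.1 - u * x.2, hinf.le ⟨K.sub_mem (K.mul_mem_left _ x.1.2) (K.mul_mem_right _ hu),
            J.sub_mem (J.mul_mem_right _ hv) (J.mul_mem_left _ x.2.2)⟩⟩)
          map_add' := fun x y => by
            refine Prod.ext ?_ (Subtype.ext ?_) <;> simp [mul_add] <;> ring
          map_smul' := fun c x => by
            refine Prod.ext ?_ (Subtype.ext ?_) <;> simp [mul_add, mul_sub] <;> ring
          invFun := fun y => (⟨y.1 * u + y.2, K.add_mem (K.mul_mem_left _ hu) (hinf.ge y.2.2).1⟩,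
            ⟨y.1 * v - y.2, J.sub_mem (J.mul_mem_left _ hv) (hinf.ge y.2.2).2⟩)
          left_inv := fun x => by
            refine Prod.ext (Subtype.ext ?_) (Subtype.ext ?_) <;> simp
            · linear_combination (x.1 : R) * huv
            · linear_combination (x.2 : R) * huv
          right_inv := fun y => by
            refine Prod.ext ?_ (Subtype.ext ?_) <;> simp
            · linear_combination y.1 * huv
            · linear_combination (y.2 : R) * huv }
      exact ⟨(LinearEquiv.prodCongr eM (LinearEquiv.refl R J)).trans eKJ⟩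
  obtain ⟨I, ⟨eI⟩⟩ := Module.Invertible.exists_linearEquiv_ideal R N
  haveI hI : Module.Invertible R I := Module.Invertible.congr eI
  have hIpic : CommRing.Pic.mk R I = CommRing.Pic.mk R N := CommRing.Pic.mk_eq_mk_iff.2 ⟨eI.symm⟩
  have main : ∀ m : ℕ, ∃ (Q : Ideal R) (_ : Module.Invertible R Q),
      CommRing.Pic.mk R Q = CommRing.Pic.mk R I ^ (m + 1) ∧
      Nonempty ((Fin (m + 1) → I) ≃ₗ[R] ((Fin m → R) × Q)) := by
    intro m
    induction m with
    | zero => exact ⟨I, hI, (pow_one _).symm, ⟨(LinearEquiv.funUnique (Fin 1) R I).trans LinearEquiv.uniqueProd.symm⟩⟩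
    | succ m ih =>
      obtain ⟨Q, hQ, hQp, ⟨e⟩⟩ := ih
      obtain ⟨Q', hQ', hQ'p, ⟨e'⟩⟩ := key I Q
      refine ⟨Q', hQ', by rw [hQ'p, hQp, ← pow_succ'], ⟨?_⟩⟩
      exact (Fin.consLinearEquiv R (fun _ : Fin (m + 1 + 1) => I)).symm.trans
        ((LinearEquiv.prodCongr (LinearEquiv.refl R I) e).trans
          (((LinearEquiv.prodAssoc R I (Fin m → R) Q).symm.trans
            ((LinearEquiv.prodCongr (LinearEquiv.prodComm R I (Fin m → R)) (LinearEquiv.refl R Q)).trans
              ((LinearEquiv.prodAssoc R (Fin m → R) I Q).trans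
                ((LinearEquiv.prodCongr (LinearEquiv.refl R (Fin m → R)) e').trans
                  ((LinearEquiv.prodAssoc R (Fin m → R) R Q').symm.trans
                    (LinearEquiv.prodCongr ((LinearEquiv.prodComm R (Fin m → R) R).trans
                      (Fin.consLinearEquiv R (fun _ : Fin (m + 1) => R))) (LinearEquiv.refl R Q')))))))))
  rcases n with _ | m
  · haveI : Subsingleton (Fin 0 → N) := inferInstance
    exact ⟨LinearEquiv.ofSubsingleton _ _⟩
  obtain ⟨Q, hQ, hQp, ⟨e⟩⟩ := main m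
  rw [hIpic, h] at hQp
  obtain ⟨eQ⟩ := CommRing.Pic.mk_eq_one_iff.1 hQp
  exact ⟨(LinearEquiv.piCongrRight fun _ => eI).trans (e.trans
    ((LinearEquiv.prodCongr (LinearEquiv.refl R _) eQ).trans
      ((LinearEquiv.prodComm R _ _).trans (Fin.consLinearEquiv R (fun _ : Fin (m + 1) => R)))))⟩

end Groth.Agent.S16200
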