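import Groth.Statements.S16201
import Mathlib
import Groth.Agent.DimTheory.IrrFibres

set_option autoImplicit false
open CategoryTheory AlgebraicGeometry
open Variety

namespace Groth.Agent.S16201

/-- Let f : Y → Z be a morphism of schemes of finite type over ℂ, with Z irreducible. Suppose that the
general fibre of f is irreducible, in the sense that there is a nonempty open subset V of Z such
that the fibre of f over every closed point of V is an irreducible topological space, and that each
irreducible component of Y has dense image in Z. Then Y is irreducible. (The published statement is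
for a morphism of projective varieties; only finiteness of type over the field is used, and the row
is stated in that generality.) -/
theorem result
    (Y Z : Scheme.{0}) (g : Z ⟶ Spec (CommRingCat.of ℂ)) (f : Y ⟶ Z)
    [LocallyOfFiniteType g] [QuasiCompact g] [LocallyOfFiniteType f] [QuasiCompact f]
    [IrreducibleSpace Z]
    (hgen : ∃ V : Z.Opens, (V : Set Z).Nonempty ∧
      ∀ z ∈ V, IsClosed ({z} : Set Z) → IsIrreducible (f.base ⁻¹' {z}))
    (hdom : ∀ W ∈ irreducibleComponents Y, Dense (f.base '' W)) :
    IrreducibleSpace Y := by
  obtain ⟨V, hV, hirr⟩ := hgen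
  have hmax : ∀ m : Y, (∀ y : Y, y ⤳ m → y = m) → f.base m = genericPoint Z := by
    intro m hm
    have hW := irreducibleComponent_mem_irreducibleComponents m
    have h2 : m ∈ closure {hW.1.genericPoint} :=
      (Groth.Agent.DimTheory.component_eq_closure hW).symm ▸ mem_irreducibleComponent
    have hgen : hW.1.genericPoint = m := hm _ (specializes_iff_mem_closure.2 h2)
    have hd := hdom _ hW
    rw [dense_iff_closure_eq, ← Groth.Agent.DimTheory.component_eq_closure hW,
      closure_image_closure f.continuous, Set.image_singleton, hgen] at hd
    exact IsGenericPoint.eq hd (genericPoint_spec Z)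
  obtain ⟨z, hzV, hz⟩ := Groth.Agent.DimTheory.exists_closedPoint_mem g V.isOpen hV
  obtain ⟨y₀, -⟩ := (hirr z hzV hz).nonempty
  obtain ⟨ξ, -, hξ⟩ := Groth.Agent.FlatMorLib.exists_maximal_generization y₀
  refine Groth.Agent.DimTheory.irreducibleSpace_of_forall_specializes (ξ := ξ) fun x => ?_
  obtain ⟨m, hmx, hm⟩ := Groth.Agent.FlatMorLib.exists_maximal_generization x
  exact (Groth.Agent.DimTheory.eq_of_dominant g f V hV hirr hm hξ (hmax m hm) (hmax ξ hξ)) ▸ hmx

end Groth.Agent.S16201
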