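import Groth.Statements.S1621
import Groth.Agent.DimTheory.Points

set_option autoImplicit false
universe u
open CategoryTheory CategoryTheory.Limits AlgebraicGeometry
attribute [local instance] Curv2.stalkAlgebra Curv2.resAlgebra
open Variety

namespace Groth.Agent.S1621

/-- Let X be locally of finite type over a field k and x a point whose residue field has transcendence
degree a over k and whose local ring has dimension b. Then the local dimension of X at x is a + b. -/
theorem result (k : Type u) [Field k] (X : Scheme.{u}) [X.Over (Spec (CommRingCat.of k))] [LocallyOfFiniteType (X ↘ (Spec (CommRingCat.of k)))] (x : X) (a b : ℕ)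
    (ha : Algebra.trdeg k (X.residueField x) = a) (hb : ringKrullDim (X.presheaf.stalk x) = b) :
    FlatMor.localDim X x = (a + b : ℕ) := by
  let f := X ↘ Spec (CommRingCat.of k)
  obtain ⟨n, hn1, hn2⟩ := DimTheory.exists_height_eq f x
  obtain rfl : n = a := Nat.cast_injective (R := Cardinal.{u}) (hn1.symm.trans ha)
  have hc : Order.coheight x = b := by
    rw [ringKrullDim_stalk_eq_coheight] at hb
    exact WithBot.coe_inj.1 hb
  obtain ⟨h1, U, hxU, h2⟩ := DimTheory.exists_opens_dim_eq f x
  rw [hn2, hc] at h1 h2
  refine le_antisymm ((iInf_le _ (⟨U, hxU⟩ : {U : TopologicalSpace.Opens X // x ∈ U})).trans (h2.trans (le_of_eq (by push_cast; rfl))))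
    (le_iInf fun V => le_trans (le_of_eq (by push_cast; rfl)) (h1 V.1 V.2))

end Groth.Agent.S1621
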