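-- statement InvTh.GrothFrozen.S16211 (Groth/Statements/S16211.lean; the theorem InvTh.formallySmooth_coinvariantQuotient_of_finite_group_card_isUnit);
import Groth.Statements.S16211
import Mathlib

set_option autoImplicit false
universe u v
open InvTh

namespace Groth.Agent.S16211

/-- Let R be a commutative ring, O a formally smooth R-algebra and G a finite group whose order is
invertible in R, acting on O by R-algebra automorphisms. Then the largest quotient algebra of O on
which G acts trivially, namely the quotient of O by the ideal generated by all g • f - f (the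
coordinate ring of the subscheme of G-fixed points of Spec O), is again formally smooth over R:
invariant homomorphisms lift along square-zero extensions. The published statement is about a scheme
X smooth and of finite presentation over the base and concludes that its fixed-point scheme is
smooth; this row, the affine step of its proof, assumes only that O is formally smooth over R and
concludes only formal smoothness. -/
theorem result (R : Type u) [CommRing R]
    (O : Type u) [CommRing O] [Algebra R O] [Algebra.FormallySmooth R O]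
    (G : Type v) [Group G] [Finite G] [MulSemiringAction G O] [SMulCommClass G R O]
    (hG : IsUnit (Nat.card G : R)) :
    Algebra.FormallySmooth R (O ⧸ Ideal.span {x : O | ∃ (g : G) (f : O), x = g • f - f}) := by
  classical
  cases nonempty_fintype G
  obtain ⟨c, hc⟩ := hG.exists_left_inv
  let J : Ideal O := Ideal.span {x : O | ∃ (g : G) (f : O), x = g • f - f}
  refine Algebra.FormallySmooth.of_comp_surjective fun B _ _ I hI f => ?_
  obtain ⟨l₀, hl₀⟩ := Algebra.FormallySmooth.comp_surjective R O I hI (f.comp (Ideal.Quotient.mkₐ R J))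
  have hsq : ∀ a ∈ I, ∀ b ∈ I, a * b = 0 := fun a ha b hb => by
    rw [← Ideal.mem_bot (R := B), ← hI, pow_two]; exact Ideal.mul_mem_mul ha hb
  have hd : ∀ (g : G) (x : O), l₀ (g • x) - l₀ x ∈ I := fun g x => by
    rw [← Ideal.Quotient.eq]
    change (Ideal.Quotient.mkₐ R I).comp l₀ (g • x) = (Ideal.Quotient.mkₐ R I).comp l₀ x
    replace hl₀ : (Ideal.Quotient.mkₐ R I).comp l₀ = f.comp (Ideal.Quotient.mkₐ R J) := hl₀
    rw [hl₀]
    exact congrArg f (Ideal.Quotient.eq.2 (Ideal.subset_span ⟨g, x, rfl⟩))
  let cB : B := algebraMap R B c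
  have hcB : cB * (Fintype.card G : B) = 1 := by
    rw [← map_natCast (algebraMap R B), ← map_mul, ← Nat.card_eq_fintype_card, hc, map_one]
  let D : O → B := fun x => cB * ∑ g : G, (l₀ (g • x) - l₀ x)
  have hD : ∀ x, D x ∈ I := fun x => I.mul_mem_left _ (I.sum_mem fun g _ => hd g x)
  let l : O → B := fun x => cB * ∑ g : G, l₀ (g • x)
  have hl : ∀ x, l x = l₀ x + D x := fun x => by
    simp only [l, D, Finset.sum_sub_distrib, Finset.sum_const, Finset.card_univ, nsmul_eq_mul]
    linear_combination l₀ x * hcB
  have hmul : ∀ x y, l (x * y) = l x * l y := fun x y => by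
    rw [hl x, hl y]
    have hs : ∀ g : G, l₀ (g • (x * y)) = l₀ x * l₀ y + l₀ x * (l₀ (g • y) - l₀ y) + (l₀ (g • x) - l₀ x) * l₀ y := fun g => by
      rw [smul_mul', map_mul]
      linear_combination hsq _ (hd g x) _ (hd g y)
    show cB * ∑ g : G, l₀ (g • (x * y)) = _
    simp only [hs, Finset.sum_add_distrib, Finset.sum_const, Finset.card_univ, nsmul_eq_mul, ← Finset.mul_sum, ← Finset.sum_mul]
    have h0 := hsq _ (hD x) _ (hD y)
    simp only [D] at h0 ⊢
    linear_combination (l₀ x * l₀ y) * hcB - h0
  let L : O →ₐ[R] B := AlgHom.ofLinearMap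
    (cB • ∑ g : G, l₀.toLinearMap ∘ₗ (MulSemiringAction.toAlgHom R O g).toLinearMap)
    (by simp [cB]; rw [← Nat.card_eq_fintype_card, ← map_natCast (algebraMap R B), Algebra.smul_def, ← map_mul, hc, map_one])
    (fun x y => by simpa [LinearMap.sum_apply, l] using hmul x y)
  have hL : ∀ x, L x = l x := fun x => by simp [L, LinearMap.sum_apply, l]
  have hJ : ∀ a ∈ J, L a = 0 := by
    show J ≤ RingHom.ker L
    rw [Ideal.span_le]
    rintro _ ⟨h, x, rfl⟩
    rw [SetLike.mem_coe, RingHom.mem_ker, map_sub, hL, hL, sub_eq_zero]
    simp only [l, smul_smul]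
    exact congrArg (cB * ·) (Equiv.sum_comp (Equiv.mulRight h) fun g => l₀ (g • x))
  refine ⟨Ideal.Quotient.liftₐ J L hJ, Ideal.Quotient.algHom_ext R (AlgHom.ext fun x => ?_)⟩
  show Ideal.Quotient.mk I (L x) = f (Ideal.Quotient.mk J x)
  rw [hL, hl, map_add, Ideal.Quotient.eq_zero_iff_mem.2 (hD x), add_zero]
  exact AlgHom.congr_fun hl₀ x

end Groth.Agent.S16211
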