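import Groth.Statements.S16212
import Groth.Agent.GrpSch.FixSmooth
import Mathlib

set_option autoImplicit false
set_option backward.isDefEq.respectTransparency.types false
universe u v
open CategoryTheory AlgebraicGeometry
open AlgGrp

namespace Groth.Agent.S16212

/-- Let S be a scheme, X an S-scheme that is smooth, separated and of finite presentation over S, and G
a finite group whose order is invertible on S (a unit among the global functions of S) acting on X
by S-automorphisms. Then the scheme of G-fixed points of X, namely any S-scheme Z with an S-morphism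
ι to X that is itself fixed by every element of G (ι followed by the automorphism of each g equals
ι) and such that an S-morphism T → X is fixed by every element of G exactly when it factors through
ι, and then uniquely, is a closed subscheme of X (ι is a closed immersion) which is smooth and of
finite presentation over S (smooth, quasi-compact and quasi-separated). The published statement
assumes X only smooth and of finite presentation over S; this row also assumes X separated over S. -/
theorem result (S : Scheme.{u})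
    (X : Over S) [Smooth X.hom] [QuasiCompact X.hom] [IsSeparated X.hom]
    (G : Type v) [Group G] [Finite G] (ρ : G →* Aut X)
    (hG : IsUnit (Nat.card G : Γ(S, ⊤)))
    (Z : Over S) (ι : Z ⟶ X) (hι : ∀ g : G, ι ≫ (ρ g).hom = ι)
    (hZ : ∀ (T : Over S) (t : T ⟶ X), (∀ g : G, t ≫ (ρ g).hom = t) ↔ ∃! t' : T ⟶ Z, t' ≫ ι = t) :
    IsClosedImmersion ι.left ∧ Smooth Z.hom ∧ QuasiCompact Z.hom ∧ QuasiSeparated Z.hom := by
  classical
  let σ : G → (X.left ⟶ X.left) := fun g => (ρ g).hom.left
  have hσS : ∀ g, σ g ≫ X.hom = X.hom := fun g => Over.w (ρ g).hom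
  have hσmul : ∀ g h, σ (g * h) = σ h ≫ σ g := fun g h => by
    show (ρ (g * h)).hom.left = _
    rw [map_mul]; rfl
  have hσ1 : σ 1 = 𝟙 _ := by
    show (ρ 1).hom.left = _
    rw [map_one]; rfl
  have hιX : ι.left ≫ X.hom = Z.hom := Over.w ι
  -- closed immersion
  have hci : IsClosedImmersion ι.left := by
    let a : G → (X.left ⟶ Limits.pullback X.hom X.hom) := fun g =>
      Limits.pullback.lift (σ g) (𝟙 _) (by rw [hσS, Category.id_comp])
    let K : G → X.left.IdealSheafData := fun g =>
      (Limits.pullback.fst (a g) (Limits.pullback.diagonal X.hom)).ker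
    let I := ⨆ g, K g
    have heq : ∀ g, Limits.pullback.fst (a g) (Limits.pullback.diagonal X.hom) ≫ σ g =
        Limits.pullback.fst (a g) (Limits.pullback.diagonal X.hom) := fun g => by
      have h := Limits.pullback.condition (f := a g) (g := Limits.pullback.diagonal X.hom)
      have h1 := congrArg (· ≫ Limits.pullback.fst X.hom X.hom) h
      have h2 := congrArg (· ≫ Limits.pullback.snd X.hom X.hom) h
      simp only [a, Category.assoc, Limits.pullback.lift_fst, Limits.pullback.lift_snd,
        Limits.pullback.diagonal_fst, Limits.pullback.diagonal_snd, Category.comp_id] at h1 h2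
      exact h1.trans h2.symm
    let F : Over S := Over.mk (I.subschemeι ≫ X.hom)
    let iF : F ⟶ X := Over.homMk I.subschemeι rfl
    have hF : ∀ g, iF ≫ (ρ g).hom = iF := fun g => by
      apply Over.OverMorphism.ext
      show I.subschemeι ≫ σ g = I.subschemeι
      have hk : (Limits.pullback.fst (a g) (Limits.pullback.diagonal X.hom)).ker ≤ I.subschemeι.ker := by
        rw [Scheme.IdealSheafData.ker_subschemeι]; exact le_iSup K g
      rw [← IsClosedImmersion.lift_fac _ _ hk, Category.assoc, heq]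
    obtain ⟨t, ht, -⟩ := (hZ F iF).mp hF
    have hIle : I.subschemeι.ker ≤ ι.left.ker := by
      rw [Scheme.IdealSheafData.ker_subschemeι]
      refine iSup_le fun g => ?_
      let b : Z.left ⟶ Limits.pullback (a g) (Limits.pullback.diagonal X.hom) :=
        Limits.pullback.lift ι.left ι.left (by
          have he : ι.left ≫ σ g = ι.left := congrArg (·.left) (hι g)
          apply Limits.pullback.hom_ext
          · simp only [a, Category.assoc, Limits.pullback.lift_fst, Limits.pullback.diagonal_fst, Category.comp_id, he]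
          · simp only [a, Category.assoc, Limits.pullback.lift_snd, Limits.pullback.diagonal_snd, Category.comp_id])
      have hb : b ≫ Limits.pullback.fst (a g) (Limits.pullback.diagonal X.hom) = ι.left := Limits.pullback.lift_fst _ _ _
      rw [← hb]
      exact b.le_ker_comp _
    let w : Z.left ⟶ I.subscheme := IsClosedImmersion.lift I.subschemeι ι.left hIle
    have hw : w ≫ I.subschemeι = ι.left := IsClosedImmersion.lift_fac _ _ _
    let wO : Z ⟶ F := Over.homMk w (by show w ≫ I.subschemeι ≫ X.hom = Z.hom; rw [reassoc_of% hw, hιX])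
    have hwt : wO ≫ t = 𝟙 Z := by
      obtain ⟨z, -, huniq⟩ := (hZ Z ι).mp hι
      rw [huniq (wO ≫ t) (by show (wO ≫ t) ≫ ι = ι; rw [Category.assoc, ht]; exact Over.OverMorphism.ext hw),
        huniq (𝟙 Z) (Category.id_comp _)]
    have htw : t.left ≫ w = 𝟙 _ := by
      rw [← cancel_mono I.subschemeι, Category.assoc, hw, Category.id_comp]
      exact congrArg (·.left) ht
    haveI : IsIso w := ⟨t.left, congrArg (·.left) hwt, htw⟩
    rw [← hw]
    infer_instance
  haveI := hci
  refine ⟨hci, ?_, by rw [← hιX]; infer_instance, by rw [← hιX]; infer_instance⟩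
  -- smoothness
  rw [HasRingHomProperty.iff_exists_appLE (P := @Smooth) (RingHom.Smooth.stableUnderComposition.stableUnderCompositionWithLocalizationAway
      RingHom.Smooth.holdsForLocalizationAway).left]
  intro z
  let x : X.left := ι.left z
  have hxfix : ∀ g, σ g x = x := fun g => by
    show (ι.left ≫ σ g) z = ι.left z
    rw [show ι.left ≫ σ g = ι.left from congrArg (·.left) (hι g)]
  obtain ⟨V, hV, hsV, -⟩ := exists_isAffineOpen_mem_and_subset (show X.hom x ∈ (⊤ : S.Opens) from trivial)
  obtain ⟨U, hU, hxU, hUV⟩ := exists_isAffineOpen_mem_and_subset (show x ∈ X.hom ⁻¹ᵁ V from hsV)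
  have hpre : ∀ g, (IsAffineOpen (σ g ⁻¹ᵁ U)) ∧ σ g ⁻¹ᵁ U ≤ X.hom ⁻¹ᵁ V := fun g => by
    haveI : IsIso (σ g) := inferInstanceAs (IsIso ((Over.forget S).map (ρ g).hom))
    refine ⟨hU.preimage_of_isIso (σ g), fun p hp => ?_⟩
    have := hUV hp
    show X.hom p ∈ V
    rw [← hσS g]
    exact this
  let U' : X.left.Opens := ⨅ g, σ g ⁻¹ᵁ U
  have hU'mem : ∀ p, p ∈ U' ↔ ∀ g, σ g p ∈ U := fun p => by
    show p ∈ ((⨅ g, σ g ⁻¹ᵁ U : X.left.Opens) : Set X.left) ↔ _
    rw [TopologicalSpace.Opens.coe_iInf]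
    exact Set.mem_iInter
  have hU' : IsAffineOpen U' ∧ U' ≤ X.hom ⁻¹ᵁ V := by
    haveI : Nonempty G := ⟨1⟩
    refine InfClosed.iInf_mem_of_nonempty (s := {W : X.left.Opens | IsAffineOpen W ∧ W ≤ X.hom ⁻¹ᵁ V})
      (fun W₁ h₁ W₂ h₂ => ?_) hpre
    exact ⟨isAffineHom_diagonal_iff.mp (inferInstanceAs (IsAffineHom (Limits.pullback.diagonal X.hom))) V hV
      W₁ h₁.2 W₂ h₂.2 h₁.1 h₂.1, inf_le_left.trans h₁.2⟩
  have hstab : ∀ g, σ g ⁻¹ᵁ U' = U' := fun g => by
    ext p
    show σ g p ∈ U' ↔ p ∈ U'
    rw [hU'mem, hU'mem]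
    refine ⟨fun h k => ?_, fun h k => ?_⟩
    · have := h (k * g⁻¹)
      rwa [← Scheme.Hom.comp_apply, ← hσmul, inv_mul_cancel_right] at this
    · rw [← Scheme.Hom.comp_apply, ← hσmul]
      exact h _
  have hzU : x ∈ U' := (hU'mem x).mpr fun g => by rw [hxfix]; exact hxU
  let W : Z.left.Opens := ι.left ⁻¹ᵁ U'
  have hW : IsAffineOpen W := hU'.1.preimage ι.left
  have eW : W ≤ Z.hom ⁻¹ᵁ V := fun p hp => by
    show Z.hom p ∈ V
    rw [← hιX]
    exact hU'.2 hp
  refine ⟨⟨V, hV⟩, ⟨W, hW⟩, hzU, eW, ?_⟩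
  let A := Γ(X.left, U')
  algebraize [(X.hom.appLE V U' hU'.2).hom]
  have hsm : (X.hom.appLE V U' hU'.2).hom.Smooth := X.hom.smooth_appLE hV hU'.1 hU'.2
  haveI : Algebra.Smooth Γ(S, V) A := hsm
  let σA : G → (A →ₐ[Γ(S, V)] A) := fun g =>
    { toRingHom := ((σ g).appLE U' U' (hstab g).ge).hom
      commutes' := fun r => by
        show (X.hom.appLE V U' hU'.2 ≫ (σ g).appLE U' U' (hstab g).ge) r = X.hom.appLE V U' hU'.2 r
        rw [Scheme.Hom.appLE_comp_appLE]
        simp only [hσS] }
  have hA1 : σA 1 = AlgHom.id _ A := by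
    ext r
    have key : ∀ f : X.left ⟶ X.left, f = 𝟙 _ → ∀ h, f.appLE U' U' h = 𝟙 _ := by
      rintro f rfl h
      simp only [Scheme.Hom.appLE, Scheme.Hom.id_app, Category.id_comp]
      exact X.left.presheaf.map_id _
    show (σ 1).appLE U' U' (hstab 1).ge r = r
    rw [key _ hσ1]
    rfl
  have hAmul : ∀ g h, σA (g * h) = (σA h).comp (σA g) := fun g h => by
    ext r
    show (σ (g * h)).appLE U' U' (hstab (g * h)).ge r =
      ((σ g).appLE U' U' (hstab g).ge ≫ (σ h).appLE U' U' (hstab h).ge) r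
    rw [Scheme.Hom.appLE_comp_appLE]
    simp only [hσmul]
  have hn : IsUnit (Nat.card G : Γ(S, V)) := by
    have := hG.map (S.presheaf.map (homOfLE (le_top : V ≤ ⊤)).op).hom
    rwa [map_natCast] at this
  have hC := Groth.Agent.GrpSch.FixSmooth.smooth_quotient σA hA1 hAmul hn
  let J := Groth.Agent.GrpSch.FixSmooth.fixIdeal σA
  let φ : A ⟶ Γ(Z.left, W) := ι.left.app U'
  let q : A ⟶ CommRingCat.of (A ⧸ J) := CommRingCat.ofHom (Ideal.Quotient.mk J)
  -- the quotient gives an invariant point
  let tT : Spec (CommRingCat.of (A ⧸ J)) ⟶ X.left := Spec.map q ≫ hU'.1.fromSpec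
  let T : Over S := Over.mk (tT ≫ X.hom)
  let tO : T ⟶ X := Over.homMk tT rfl
  obtain ⟨t', ht', -⟩ := (hZ T tO).mp (fun g => by
    apply Over.OverMorphism.ext
    show tT ≫ σ g = tT
    simp only [tT, Category.assoc]
    rw [← IsAffineOpen.SpecMap_appLE_fromSpec (σ g) hU'.1 hU'.1 (hstab g).ge, ← Spec.map_comp_assoc]
    congr 2
    ext r
    exact Ideal.Quotient.eq.mpr (Groth.Agent.GrpSch.FixSmooth.sub_mem_fixIdeal σA g r))
  have ht'' : t'.left ≫ ι.left = tT := congrArg (·.left) ht'
  let tl : Spec (CommRingCat.of (A ⧸ J)) ⟶ Z.left := t'.left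
  have htW : (⊤ : (Spec (CommRingCat.of (A ⧸ J))).Opens) ≤ tl ⁻¹ᵁ W := fun p _ => by
    show ι.left (t'.left p) ∈ U'
    rw [← Scheme.Hom.comp_apply, ht'']
    exact hU'.1.range_fromSpec.le ⟨_, rfl⟩
  let r : Γ(Z.left, W) ⟶ CommRingCat.of (A ⧸ J) := tl.appLE W ⊤ htW ≫ (Scheme.ΓSpecIso _).hom
  have hr : φ ≫ r = q := by
    apply Spec.map_injective
    rw [← cancel_mono hU'.1.fromSpec]
    have h1 : Spec.map r ≫ hW.fromSpec = tl := by
      simp only [r, Spec.map_comp, Category.assoc]
      rw [IsAffineOpen.SpecMap_appLE_fromSpec tl hW (isAffineOpen_top (Spec (CommRingCat.of (A ⧸ J)))) htW, IsAffineOpen.fromSpec_top,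
        Scheme.isoSpec_Spec_inv, ← Spec.map_comp_assoc, Iso.inv_hom_id, Spec.map_id, Category.id_comp]
    have h2 : Spec.map φ ≫ hU'.1.fromSpec = hW.fromSpec ≫ ι.left := by
      rw [show φ = ι.left.appLE U' W le_rfl from Scheme.Hom.app_eq_appLE _, IsAffineOpen.SpecMap_appLE_fromSpec]
    rw [Spec.map_comp, Category.assoc, h2, reassoc_of% h1, ht'']
  have hker : RingHom.ker φ.hom = J := le_antisymm
    (fun a ha => Ideal.Quotient.eq_zero_iff_mem.mp (by
      show q a = 0
      rw [← hr, CommRingCat.comp_apply, show φ a = 0 from ha, map_zero]))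
    (Groth.Agent.GrpSch.FixSmooth.fixIdeal_le σA fun g a => by
      rw [RingHom.mem_ker, map_sub, sub_eq_zero]
      show ((σ g).appLE U' U' (hstab g).ge ≫ φ) a = φ a
      rw [show φ = ι.left.appLE U' W le_rfl from Scheme.Hom.app_eq_appLE _, Scheme.Hom.appLE_comp_appLE]
      simp only [show ι.left ≫ σ g = ι.left from congrArg (·.left) (hι g)])
  let e : (A ⧸ J) ≃+* Γ(Z.left, W) :=
    (Ideal.quotEquivOfEq hker.symm).trans (RingHom.quotientKerEquivOfSurjective (ι.left.app_surjective U' hU'.1))
  have he : (Z.hom.appLE V W eW).hom = e.toRingHom.comp (algebraMap Γ(S, V) (A ⧸ J)) := by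
    ext s
    show Z.hom.appLE V W eW s = φ (X.hom.appLE V U' hU'.2 s)
    rw [show φ = ι.left.appLE U' W le_rfl from Scheme.Hom.app_eq_appLE _, ← CommRingCat.comp_apply,
      Scheme.Hom.appLE_comp_appLE]
    simp only [hιX]
  show (Z.hom.appLE V W eW).hom.Smooth
  rw [he]
  exact RingHom.Smooth.stableUnderComposition.respectsIso (fun e' => RingHom.Smooth.holdsForLocalizationAway.of_bijective _ _ e'.bijective) |>.1 _ e (RingHom.smooth_algebraMap.mpr hC)

end Groth.Agent.S16212
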