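import Groth.Statements.S16220
import Mathlib

set_option autoImplicit false
universe u v
open Disp

namespace Groth.Agent.S16220

/-- Let p be a prime and k a perfect ring of characteristic p, so that the Frobenius σ of W = W(k) is
bijective, W has no p-torsion and W/p^n W = W_n(k) (the ideal p^n W is the kernel of the truncation
to length n). Let n ≥ 2 and let M be a truncated Dieudonné module of level n over k: a W-module on
which W acts through W/p^n W, finitely generated and projective over W/p^n W, with a σ-semilinear F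
: M → M and a σ⁻¹-semilinear V : M → M such that FV = VF = p. Then on M/pM the kernel of F is the
image of V and the kernel of V is the image of F; stated inside M: the preimage of pM under F is VM
+ pM, and the preimage of pM under V is FM + pM. -/
theorem result (p : ℕ) [Fact p.Prime] (k : Type u) [CommRing k]
    [CharP k p] [PerfectRing k p] (n : ℕ) (hn : 2 ≤ n)
    (M : Type v) [AddCommGroup M] [Module (WittVector p k) M]
    [Module (WittVector p k ⧸ Ideal.span {(p : WittVector p k) ^ n}) M] [IsScalarTower (WittVector p k) (WittVector p k ⧸ Ideal.span {(p : WittVector p k) ^ n}) M]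
    [Module.Finite (WittVector p k ⧸ Ideal.span {(p : WittVector p k) ^ n}) M] [Module.Projective (WittVector p k ⧸ Ideal.span {(p : WittVector p k) ^ n}) M]
    (F : M →ₛₗ[(WittVector.frobenius : WittVector p k →+* WittVector p k)] M)
    (V : M →ₛₗ[((WittVector.frobeniusEquiv p k).symm : WittVector p k →+* WittVector p k)] M)
    (hFV : ∀ m : M, F (V m) = (p : WittVector p k) • m) (hVF : ∀ m : M, V (F m) = (p : WittVector p k) • m) :
    (Ideal.span {(p : WittVector p k)} • (⊤ : Submodule (WittVector p k) M)).comap F =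
        Submodule.span (WittVector p k) (Set.range V) ⊔ Ideal.span {(p : WittVector p k)} • (⊤ : Submodule (WittVector p k) M) ∧
      (Ideal.span {(p : WittVector p k)} • (⊤ : Submodule (WittVector p k) M)).comap V =
        Submodule.span (WittVector p k) (Set.range F) ⊔ Ideal.span {(p : WittVector p k)} • (⊤ : Submodule (WittVector p k) M) := by
  have hmem : ∀ y ∈ Ideal.span {(p : WittVector p k)} • (⊤ : Submodule (WittVector p k) M),
      ∃ x : M, (p : WittVector p k) • x = y := by
    intro y hy
    refine Submodule.smul_induction_on hy (fun r hr z _ => ?_) fun a b ⟨xa, ha⟩ ⟨xb, hb⟩ => ?_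
    · obtain ⟨c, rfl⟩ := Ideal.mem_span_singleton.1 hr
      exact ⟨c • z, by rw [smul_smul]⟩
    · exact ⟨xa + xb, by rw [smul_add, ha, hb]⟩
  have hpS : ∀ x : M, (p : WittVector p k) • x ∈ Ideal.span {(p : WittVector p k)} • (⊤ : Submodule (WittVector p k) M) :=
    fun x => Submodule.smul_mem_smul (Ideal.subset_span rfl) trivial
  have hp0 : ∀ d : M, (p : WittVector p k) • d = 0 →
      d ∈ Ideal.span {(p : WittVector p k)} • (⊤ : Submodule (WittVector p k) M) := by
    intro d hd
    obtain ⟨s, hs⟩ := (Module.projective_def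
      (R := WittVector p k ⧸ Ideal.span {(p : WittVector p k) ^ n}) (P := M)).1 inferInstance
    rw [← hs d, Finsupp.linearCombination_apply, Finsupp.sum]
    refine Submodule.sum_mem _ fun j _ => ?_
    obtain ⟨w, hw⟩ := Ideal.Quotient.mk_surjective (s d j)
    rw [← hw, ← Ideal.Quotient.algebraMap_eq, algebraMap_smul]
    refine Submodule.smul_mem_smul ?_ trivial
    have h0 : s ((p : WittVector p k) • d) j = 0 := by rw [hd, map_zero, Finsupp.zero_apply]
    rw [← algebraMap_smul (WittVector p k ⧸ Ideal.span {(p : WittVector p k) ^ n}) (p : WittVector p k) d,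
      map_smul, Finsupp.smul_apply, smul_eq_mul, ← hw, Ideal.Quotient.algebraMap_eq, ← map_mul,
      Ideal.Quotient.eq_zero_iff_mem, Ideal.mem_span_singleton] at h0
    obtain ⟨c, hc⟩ := h0
    rw [Ideal.mem_span_singleton]
    obtain ⟨e, rfl⟩ : ∃ e, n = e + 2 := ⟨n - 2, by omega⟩
    refine ⟨(p : WittVector p k) ^ e * c, sub_eq_zero.1 (WittVector.eq_zero_of_p_mul_eq_zero _ ?_)⟩
    linear_combination hc
  refine ⟨le_antisymm (fun m hm => ?_) (sup_le (Submodule.span_le.2 ?_) fun m hm => ?_),
    le_antisymm (fun m hm => ?_) (sup_le (Submodule.span_le.2 ?_) fun m hm => ?_)⟩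
  · obtain ⟨x, hx⟩ := hmem _ hm
    have : m - V x ∈ Ideal.span {(p : WittVector p k)} • (⊤ : Submodule (WittVector p k) M) := by
      apply hp0
      rw [← hVF, map_sub, hFV, hx, sub_self, map_zero]
    exact Submodule.mem_sup.2 ⟨V x, Submodule.subset_span ⟨x, rfl⟩, _, this, add_sub_cancel _ _⟩
  · rintro _ ⟨x, rfl⟩
    rw [SetLike.mem_coe, Submodule.mem_comap, hFV]; exact hpS x
  · obtain ⟨x, rfl⟩ := hmem _ hm
    rw [Submodule.mem_comap, LinearMap.map_smulₛₗ, map_natCast]; exact hpS _
  · obtain ⟨x, hx⟩ := hmem _ hm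
    have : m - F x ∈ Ideal.span {(p : WittVector p k)} • (⊤ : Submodule (WittVector p k) M) := by
      apply hp0
      rw [← hFV, map_sub, hVF, hx, sub_self, map_zero]
    exact Submodule.mem_sup.2 ⟨F x, Submodule.subset_span ⟨x, rfl⟩, _, this, add_sub_cancel _ _⟩
  · rintro _ ⟨x, rfl⟩
    rw [SetLike.mem_coe, Submodule.mem_comap, hVF]; exact hpS x
  · obtain ⟨x, rfl⟩ := hmem _ hm
    rw [Submodule.mem_comap, LinearMap.map_smulₛₗ, map_natCast]; exact hpS _

end Groth.Agent.S16220
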