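import Groth.Statements.S16221
import Groth.Agent.DieudLib.WittExact

set_option autoImplicit false
universe u v
open Disp

namespace Groth.Agent.S16221

/-- Let p be a prime and k a perfect ring of characteristic p, so that the Frobenius σ of W = W(k) is
bijective, W has no p-torsion and W/p^n W = W_n(k) (the ideal p^n W is the kernel of the truncation
to length n). Let n ≥ 2 and let M be a truncated Dieudonné module of level n over k: a W-module on
which W acts through W/p^n W, finitely generated and projective over W/p^n W, with a σ-semilinear F
: M → M and a σ⁻¹-semilinear V : M → M such that FV = VF = p. Then M/VM is a projective k-module;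
here VM ⊇ VFM = pM, and the statement is made for the W/pW-module obtained from M/pM by dividing out
the image of V, W/pW being identified with k by the first Witt component. -/
theorem result (p : ℕ) [Fact p.Prime] (k : Type u) [CommRing k]
    [CharP k p] [PerfectRing k p] (n : ℕ) (hn : 2 ≤ n)
    (M : Type v) [AddCommGroup M] [Module (WittVector p k) M]
    [Module (WittVector p k ⧸ Ideal.span {(p : WittVector p k) ^ n}) M] [IsScalarTower (WittVector p k) (WittVector p k ⧸ Ideal.span {(p : WittVector p k) ^ n}) M]
    [Module.Finite (WittVector p k ⧸ Ideal.span {(p : WittVector p k) ^ n}) M] [Module.Projective (WittVector p k ⧸ Ideal.span {(p : WittVector p k) ^ n}) M]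
    (F : M →ₛₗ[(WittVector.frobenius : WittVector p k →+* WittVector p k)] M)
    (V : M →ₛₗ[((WittVector.frobeniusEquiv p k).symm : WittVector p k →+* WittVector p k)] M)
    (hFV : ∀ m : M, F (V m) = (p : WittVector p k) • m) (hVF : ∀ m : M, V (F m) = (p : WittVector p k) • m) :
    Module.Projective (WittVector p k ⧸ Ideal.span {(p : WittVector p k)})
      ((M ⧸ (Ideal.span {(p : WittVector p k)} • (⊤ : Submodule (WittVector p k) M))) ⧸
        Submodule.span (WittVector p k ⧸ Ideal.span {(p : WittVector p k)})
          (Set.range fun m : M => (Ideal.span {(p : WittVector p k)} • (⊤ : Submodule (WittVector p k) M)).mkQ (V m))) := by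
  refine Groth.Agent.DieudLib.projective_coker p (A := WittVector p k ⧸ Ideal.span {(p : WittVector p k) ^ n})
    Ideal.Quotient.mk_surjective ?_ ?_ M F V hFV hVF
  · rw [Ideal.Quotient.algebraMap_eq, Ideal.mk_ker]
    exact Ideal.span_singleton_le_span_singleton.2 (dvd_pow_self _ (by omega))
  · intro L _ _ _ h w hw
    rw [Ideal.Quotient.algebraMap_eq, Ideal.mem_map_iff_of_surjective _ Ideal.Quotient.mk_surjective] at hw
    obtain ⟨z, hz, hzw⟩ := hw
    rw [Ideal.Quotient.eq, Ideal.mem_span_singleton] at hzw
    obtain ⟨c, hc⟩ := hzw
    have h1 := congrArg (WittVector.map h) hc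
    rw [map_sub, show WittVector.map h z = 0 from hz, zero_sub, map_mul, map_mul, map_pow, map_natCast] at h1
    have h2 : WittVector.map h w * (p : WittVector p L) =
        -((p : WittVector p L) ^ (n - 1) * WittVector.map h c) * (p : WittVector p L) := by
      have : (p : WittVector p L) ^ n = (p : WittVector p L) ^ (n - 1) * p := by
        rw [← pow_succ, Nat.sub_add_cancel (by omega)]
      rw [this] at h1
      linear_combination -h1
    have h3 : WittVector.map h w = -((p : WittVector p L) ^ (n - 1) * WittVector.map h c) := by
      rw [← sub_eq_zero]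
      apply WittVector.eq_zero_of_p_mul_eq_zero
      rw [sub_mul, h2, sub_self]
    have h4 : WittVector.map h w ∈ Ideal.span {(p : WittVector p L)} := by
      rw [h3]
      exact neg_mem (Ideal.mul_mem_right _ _ (Ideal.mem_span_singleton.2 (dvd_pow_self _ (by omega))))
    rw [← WittVector.map_coeff]
    exact (WittVector.mem_span_p_iff_coeff_zero_eq_zero _).1 h4

end Groth.Agent.S16221
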