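import Groth.Statements.S16222
import Groth.Agent.DieudLib.WittExact

set_option autoImplicit false
universe u v
open Disp

namespace Groth.Agent.S16222

/-- Let p be a prime and k a perfect ring of characteristic p, so that the Frobenius σ of W = W(k) is
bijective and W has no p-torsion. Let M be a projective Dieudonné module over k: a finitely
generated projective W-module with a σ-semilinear F : M → M and a σ⁻¹-semilinear V : M → M such that
FV = VF = p. Then the reduction M/pM satisfies the level-one conditions: the preimage of pM under F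
is VM + pM, the preimage of pM under V is FM + pM (so Ker F = Im V and Ker V = Im F on M/pM), and
M/VM, that is M/pM divided by the image of V, is a projective module over W/pW, which the first Witt
component identifies with k. -/
theorem result (p : ℕ) [Fact p.Prime] (k : Type u) [CommRing k]
    [CharP k p] [PerfectRing k p]
    (M : Type v) [AddCommGroup M] [Module (WittVector p k) M] [Module.Finite (WittVector p k) M] [Module.Projective (WittVector p k) M]
    (F : M →ₛₗ[(WittVector.frobenius : WittVector p k →+* WittVector p k)] M)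
    (V : M →ₛₗ[((WittVector.frobeniusEquiv p k).symm : WittVector p k →+* WittVector p k)] M)
    (hFV : ∀ m : M, F (V m) = (p : WittVector p k) • m) (hVF : ∀ m : M, V (F m) = (p : WittVector p k) • m) :
    ((Ideal.span {(p : WittVector p k)} • (⊤ : Submodule (WittVector p k) M)).comap F =
        Submodule.span (WittVector p k) (Set.range V) ⊔ Ideal.span {(p : WittVector p k)} • (⊤ : Submodule (WittVector p k) M) ∧
      (Ideal.span {(p : WittVector p k)} • (⊤ : Submodule (WittVector p k) M)).comap V =
        Submodule.span (WittVector p k) (Set.range F) ⊔ Ideal.span {(p : WittVector p k)} • (⊤ : Submodule (WittVector p k) M)) ∧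
    Module.Projective (WittVector p k ⧸ Ideal.span {(p : WittVector p k)})
      ((M ⧸ (Ideal.span {(p : WittVector p k)} • (⊤ : Submodule (WittVector p k) M))) ⧸
        Submodule.span (WittVector p k ⧸ Ideal.span {(p : WittVector p k)})
          (Set.range fun m : M => (Ideal.span {(p : WittVector p k)} • (⊤ : Submodule (WittVector p k) M)).mkQ (V m))) := by
  have hp0 : ∀ m : M, (p : WittVector p k) • m = 0 → m = 0 := by
    intro m hm
    obtain ⟨s, hs⟩ := (Module.projective_def (R := WittVector p k) (P := M)).1 inferInstance
    have h0 : s m = 0 := by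
      refine Finsupp.ext fun j => WittVector.eq_zero_of_p_mul_eq_zero _ ?_
      rw [mul_comm, ← smul_eq_mul, ← Finsupp.smul_apply, ← map_smul, hm, map_zero, Finsupp.zero_apply]
    rw [← hs m, h0, map_zero]
  have hmem : ∀ y ∈ Ideal.span {(p : WittVector p k)} • (⊤ : Submodule (WittVector p k) M),
      ∃ x : M, (p : WittVector p k) • x = y := by
    intro y hy
    refine Submodule.smul_induction_on hy (fun r hr z _ => ?_) fun a b ⟨xa, ha⟩ ⟨xb, hb⟩ => ?_
    · obtain ⟨c, rfl⟩ := Ideal.mem_span_singleton.1 hr
      exact ⟨c • z, by rw [smul_smul]⟩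
    · exact ⟨xa + xb, by rw [smul_add, ha, hb]⟩
  have hpS : ∀ x : M, (p : WittVector p k) • x ∈ Ideal.span {(p : WittVector p k)} • (⊤ : Submodule (WittVector p k) M) :=
    fun x => Submodule.smul_mem_smul (Ideal.subset_span rfl) trivial
  refine ⟨⟨le_antisymm (fun m hm => ?_) (sup_le (Submodule.span_le.2 ?_) fun m hm => ?_),
    le_antisymm (fun m hm => ?_) (sup_le (Submodule.span_le.2 ?_) fun m hm => ?_)⟩, ?_⟩
  · obtain ⟨x, hx⟩ := hmem _ hm
    have : m = V x := by
      rw [← sub_eq_zero]
      apply hp0
      rw [← hVF, map_sub, hFV, hx, sub_self, map_zero]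
    exact Submodule.mem_sup_left (Submodule.subset_span ⟨x, this.symm⟩)
  · rintro _ ⟨x, rfl⟩
    rw [SetLike.mem_coe, Submodule.mem_comap, hFV]; exact hpS x
  · obtain ⟨x, rfl⟩ := hmem _ hm
    rw [Submodule.mem_comap, LinearMap.map_smulₛₗ, map_natCast]; exact hpS _
  · obtain ⟨x, hx⟩ := hmem _ hm
    have : m = F x := by
      rw [← sub_eq_zero]
      apply hp0
      rw [← hFV, map_sub, hVF, hx, sub_self, map_zero]
    exact Submodule.mem_sup_left (Submodule.subset_span ⟨x, this.symm⟩)
  · rintro _ ⟨x, rfl⟩
    rw [SetLike.mem_coe, Submodule.mem_comap, hVF]; exact hpS x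
  · obtain ⟨x, rfl⟩ := hmem _ hm
    rw [Submodule.mem_comap, LinearMap.map_smulₛₗ, map_natCast]; exact hpS _
  · refine Groth.Agent.DieudLib.projective_coker p (A := WittVector p k) Function.surjective_id ?_ ?_ M F V hFV hVF
    · intro x hx
      rw [show x = 0 from hx]
      exact zero_mem _
    · intro L _ _ _ h w hw
      rw [Algebra.algebraMap_self, Ideal.map_id, RingHom.id_apply, RingHom.mem_ker, map_mul, map_natCast, mul_comm] at hw
      rw [← WittVector.map_coeff, WittVector.eq_zero_of_p_mul_eq_zero _ hw, WittVector.zero_coeff]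

end Groth.Agent.S16222
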