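import Groth.Statements.S16225
import Mathlib

set_option autoImplicit false
open scoped TensorProduct
universe u v
open CAlg

namespace Groth.Agent.S16225

/-- Let p be a prime, n a natural number and R → R' a faithfully flat homomorphism of commutative rings
in which p is nilpotent. Regard W_n(R') and W_n(R' ⊗_R R') as W_n(R)-algebras through the
componentwise maps induced by R → R' and R → R' ⊗_R R', and let ψ₁, ψ₂ : W_n(R') → W_n(R' ⊗_R R') be
the componentwise maps induced by the two inclusions of R' (these are W_n(R)-algebra maps). Then for
every flat W_n(R)-module M the sequence 0 → M → M ⊗_{W_n(R)} W_n(R') ⇉ M ⊗_{W_n(R)} W_n(R' ⊗_R R')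
is exact: m ↦ m ⊗ 1 is injective and its image is the equalizer of id ⊗ ψ₁ and id ⊗ ψ₂. (This is the
beginning, in degrees 0 and 1, of a complex continued by the higher tensor powers of R', which the
published proof asserts to be exact throughout; W_n(R) → W_n(R') is not flat in general, so this is
not faithfully flat descent.) -/
theorem result (p : ℕ) [Fact p.Prime] (n : ℕ)
    (R R' : Type u) [CommRing R] [CommRing R'] [Algebra R R'] [Module.FaithfullyFlat R R']
    (hp : IsNilpotent (p : R))
    [Algebra (TruncatedWittVector p n R) (TruncatedWittVector p n R')]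
    (h₁ : algebraMap (TruncatedWittVector p n R) (TruncatedWittVector p n R') = WittGrp.truncMap p n (algebraMap R R'))
    [Algebra (TruncatedWittVector p n R) (TruncatedWittVector p n (TensorProduct R R' R'))]
    (h₂ : algebraMap (TruncatedWittVector p n R) (TruncatedWittVector p n (TensorProduct R R' R')) =
      WittGrp.truncMap p n (algebraMap R (TensorProduct R R' R')))
    (ψ₁ ψ₂ : TruncatedWittVector p n R' →ₐ[TruncatedWittVector p n R] TruncatedWittVector p n (TensorProduct R R' R'))
    (hψ₁ : (ψ₁ : TruncatedWittVector p n R' →+* TruncatedWittVector p n (TensorProduct R R' R')) =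
      WittGrp.truncMap p n (Algebra.TensorProduct.includeLeftRingHom : R' →+* TensorProduct R R' R'))
    (hψ₂ : (ψ₂ : TruncatedWittVector p n R' →+* TruncatedWittVector p n (TensorProduct R R' R')) =
      WittGrp.truncMap p n ((Algebra.TensorProduct.includeRight : R' →ₐ[R] TensorProduct R R' R') : R' →+* TensorProduct R R' R'))
    (M : Type v) [AddCommGroup M] [Module (TruncatedWittVector p n R) M] [Module.Flat (TruncatedWittVector p n R) M] :
    Function.Injective (fun m : M => m ⊗ₜ[TruncatedWittVector p n R] (1 : TruncatedWittVector p n R')) ∧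
      ∀ x : M ⊗[TruncatedWittVector p n R] TruncatedWittVector p n R',
        LinearMap.lTensor M ψ₁.toLinearMap x = LinearMap.lTensor M ψ₂.toLinearMap x →
          x ∈ Set.range (fun m : M => m ⊗ₜ[TruncatedWittVector p n R] (1 : TruncatedWittVector p n R')) := by
  have heq := Algebra.IsEffective.eqLocus_includeLeft_includeRight (Algebra.IsEffective.of_faithfullyFlat R R')
  have hinj := FaithfulSMul.algebraMap_injective R R'
  have hcoef : ∀ {S T : Type u} [CommRing S] [CommRing T] (f : S →+* T) (x : TruncatedWittVector p n S) i,
      (WittGrp.truncMap p n f x).coeff i = f (x.coeff i) := by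
    intro S T _ _ f x i
    show (TruncatedWittVector.mk p fun i => f (x.coeff i)).coeff i = _
    rw [TruncatedWittVector.coeff_mk]
  have hex : Function.Exact (Algebra.linearMap (TruncatedWittVector p n R) (TruncatedWittVector p n R'))
      (ψ₁.toLinearMap - ψ₂.toLinearMap) := by
    intro y
    have e1 : ψ₁ y = WittGrp.truncMap p n (Algebra.TensorProduct.includeLeftRingHom : R' →+* TensorProduct R R' R') y :=
      RingHom.congr_fun hψ₁ y
    have e2 : ψ₂ y = WittGrp.truncMap p n ((Algebra.TensorProduct.includeRight : R' →ₐ[R] TensorProduct R R' R') : R' →+* TensorProduct R R' R') y :=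
      RingHom.congr_fun hψ₂ y
    constructor
    · intro hy
      rw [LinearMap.sub_apply, AlgHom.toLinearMap_apply, AlgHom.toLinearMap_apply, sub_eq_zero, e1, e2] at hy
      have hi : ∀ i, y.coeff i ∈ Set.range (algebraMap R R') := fun i => by
        rw [← heq]
        have := congrArg (fun t => t.coeff i) hy
        simp only [hcoef] at this
        exact this
      choose c hc using hi
      exact ⟨TruncatedWittVector.mk p c, TruncatedWittVector.ext fun i => by
        rw [Algebra.linearMap_apply, h₁, hcoef, TruncatedWittVector.coeff_mk, hc]⟩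
    · rintro ⟨c, rfl⟩
      rw [LinearMap.sub_apply, AlgHom.toLinearMap_apply, AlgHom.toLinearMap_apply, Algebra.linearMap_apply,
        AlgHom.commutes, AlgHom.commutes, sub_self]
  have hι : ∀ m : M, m ⊗ₜ[TruncatedWittVector p n R] (1 : TruncatedWittVector p n R') =
      (Algebra.linearMap (TruncatedWittVector p n R) (TruncatedWittVector p n R')).lTensor M
        ((TensorProduct.rid (TruncatedWittVector p n R) M).symm m) := fun m => by
    rw [TensorProduct.rid_symm_apply, LinearMap.lTensor_tmul, Algebra.linearMap_apply, map_one]
  refine ⟨fun m m' hm => ?_, fun x hx => ?_⟩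
  · simp only [hι] at hm
    refine (TensorProduct.rid _ M).symm.injective (Module.Flat.lTensor_preserves_injective_linearMap _ ?_ hm)
    intro a b hab
    rw [Algebra.linearMap_apply, Algebra.linearMap_apply, h₁] at hab
    refine TruncatedWittVector.ext fun i => hinj ?_
    rw [← hcoef, hab, hcoef]
  · have h0 : (ψ₁.toLinearMap - ψ₂.toLinearMap).lTensor M x = 0 := by
      rw [LinearMap.lTensor_sub, LinearMap.sub_apply, hx, sub_self]
    obtain ⟨w, rfl⟩ := (Module.Flat.lTensor_exact M hex x).mp h0
    exact ⟨TensorProduct.rid _ M w, by simp only [hι, LinearEquiv.symm_apply_apply]⟩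

end Groth.Agent.S16225
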