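import Groth.Statements.S16234
import Mathlib.RingTheory.HopkinsLevitzki
import Mathlib.RingTheory.Support

set_option autoImplicit false
universe u v
open CAlg

namespace Groth.Agent.S16234

/-- For a finitely generated module M over a Noetherian commutative ring A, every prime ideal in the
support of M is a maximal ideal if and only if M has finite length. -/
theorem result (A : Type u) [CommRing A] [IsNoetherianRing A]
    (M : Type v) [AddCommGroup M] [Module A M] [Module.Finite A M] :
    (∀ p ∈ Module.support A M, p.asIdeal.IsMaximal) ↔ IsFiniteLength A M := by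
  constructor
  · intro h
    let J := Module.annihilator A M
    have hd : Ring.KrullDimLE 0 (A ⧸ J) := by
      rw [Ring.krullDimLE_zero_iff]
      intro P hP
      have hmem : (⟨P.comap (Ideal.Quotient.mk J), inferInstance⟩ : PrimeSpectrum A) ∈ Module.support A M := by
        rw [Module.mem_support_iff_of_finite]
        intro x hx
        show Ideal.Quotient.mk J x ∈ P
        rw [Ideal.Quotient.eq_zero_iff_mem.mpr hx]; exact P.zero_mem
      have := Ideal.map_eq_top_or_isMaximal_of_surjective (Ideal.Quotient.mk J) Ideal.Quotient.mk_surjective (h _ hmem)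
      rw [Ideal.map_comap_of_surjective _ Ideal.Quotient.mk_surjective] at this
      exact this.resolve_left hP.ne_top
    have : IsNoetherianRing (A ⧸ J) :=
      isNoetherianRing_of_surjective A _ (Ideal.Quotient.mk J) Ideal.Quotient.mk_surjective
    have : IsArtinianRing (A ⧸ J) := isArtinianRing_iff_krullDimLE_zero.mpr hd
    rw [isFiniteLength_iff_isNoetherian_isArtinian]
    refine ⟨inferInstance, ?_⟩
    letI : Module (A ⧸ J) M := (Module.isTorsionBySet_annihilator A M).module
    have : IsScalarTower A (A ⧸ J) M := (Module.isTorsionBySet_annihilator A M).isScalarTower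
    have : Module.Finite (A ⧸ J) M := Module.Finite.of_restrictScalars_finite A _ M
    have : IsArtinian (A ⧸ J) M := inferInstance
    exact (LinearMap.isArtinian_iff_of_bijective (σ := Ideal.Quotient.mk J) ⟨AddMonoidHom.id M, fun a m => rfl⟩ Function.bijective_id).mpr ‹_›
  · intro h p hp
    have hA : IsArtinian A M := ((isFiniteLength_iff_isNoetherian_isArtinian).mp h).2
    obtain ⟨n, g, hg⟩ := Module.Finite.exists_fin (R := A) (M := M)
    let ψ : A →ₗ[A] (Fin n → M) := LinearMap.pi fun i => LinearMap.toSpanSingleton A M (g i)
    let J := Module.annihilator A M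
    have hker : LinearMap.ker ψ = J := by
      ext a
      rw [LinearMap.mem_ker, Module.mem_annihilator]
      refine ⟨fun ha m => ?_, fun ha => funext fun i => ha _⟩
      have hm : m ∈ Submodule.span A (Set.range g) := hg ▸ Submodule.mem_top
      induction hm using Submodule.span_induction with
      | mem x hx => obtain ⟨i, rfl⟩ := hx; exact congrFun ha i
      | zero => simp
      | add x y _ _ hx hy => rw [smul_add, hx, hy, add_zero]
      | smul c x _ hx => rw [smul_comm, hx, smul_zero]
    have h1 : IsArtinian A (A ⧸ J) := by
      have := isArtinian_of_injective ((LinearMap.ker ψ).liftQ ψ le_rfl) (LinearMap.ker_eq_bot.mp (Submodule.ker_liftQ_eq_bot _ _ _ le_rfl))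
      exact isArtinian_of_linearEquiv (Submodule.quotEquivOfEq _ _ hker)
    have : IsArtinianRing (A ⧸ J) := isArtinian_of_tower A h1
    have hle : J ≤ p.asIdeal := Module.mem_support_iff_of_finite.mp hp
    have hprime := Ideal.map_isPrime_of_surjective (f := Ideal.Quotient.mk J) (I := p.asIdeal)
      Ideal.Quotient.mk_surjective (by rwa [Ideal.mk_ker])
    have hmax := Ideal.IsPrime.isMaximal' hprime
    have := Ideal.comap_isMaximal_of_surjective (Ideal.Quotient.mk J) Ideal.Quotient.mk_surjective (K := _) (H := hmax)
    rwa [Ideal.comap_map_of_surjective _ Ideal.Quotient.mk_surjective, ← RingHom.ker_eq_comap_bot, Ideal.mk_ker, sup_eq_left.mpr hle] at this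

end Groth.Agent.S16234
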