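import Groth.Statements.S16235
import Mathlib.RingTheory.Ideal.KrullsHeightTheorem
import Mathlib.RingTheory.Regular.RegularSequence
import Mathlib.RingTheory.Ideal.MinimalPrime.Localization

set_option autoImplicit false
universe u
open CAlg

namespace Groth.Agent.S16235

/-- Let A be a Noetherian commutative ring and x_1, …, x_r a regular sequence on A (each x_i a
non-zero-divisor on A/(x_1, …, x_{i-1})) generating an ideal I ≠ A. Then the height of I, the
infimum of the heights of the minimal primes over I, equals r. -/
theorem result (A : Type u) [CommRing A] [IsNoetherianRing A]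
    (r : ℕ) (x : Fin r → A) (hx : RingTheory.Sequence.IsWeaklyRegular A (List.ofFn x))
    (hI : Ideal.span (Set.range x) ≠ ⊤) :
    (Ideal.span (Set.range x)).height = r := by
  classical
  let J : ℕ → Ideal A := fun k => Ideal.ofList ((List.ofFn x).take k)
  have key : ∀ k, k ≤ r → ∀ p : Ideal A, p.IsPrime → J k ≤ p → (k : ℕ∞) ≤ p.height := by
    intro k
    induction k with
    | zero => intro _ p _ _; simp
    | succ k ih =>
      intro hk p hp hJp
      have hk' : k < (List.ofFn x).length := by simpa using (show k < r by omega)
      have hJ : J (k + 1) = J k ⊔ Ideal.span {(List.ofFn x)[k]} := by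
        simp only [J, List.take_succ_eq_append_getElem hk', Ideal.ofList_append, Ideal.ofList_singleton]
      rw [hJ, sup_le_iff, Ideal.span_singleton_le_iff_mem] at hJp
      haveI := hp
      obtain ⟨q, hq, hqp⟩ := Ideal.exists_minimalPrimes_le hJp.1
      haveI := hq.isPrime
      have hxq : (List.ofFn x)[k] ∉ q := by
        intro hmem
        obtain ⟨y, hy, hxy⟩ := Ideal.exists_mul_mem_of_mem_minimalPrimes hq hmem
        have hreg := hx.regular_mod_prev k hk'
        have h0 : (List.ofFn x)[k] • (Submodule.Quotient.mk y :
            A ⧸ (J k • ⊤ : Submodule A A)) = 0 := by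
          rw [← Submodule.Quotient.mk_smul, Submodule.Quotient.mk_eq_zero, smul_eq_mul, Ideal.mul_top, smul_eq_mul]
          exact hxy
        have h1 := hreg.right_eq_zero_of_smul h0
        rw [Submodule.Quotient.mk_eq_zero, Ideal.smul_eq_mul, Ideal.mul_top] at h1
        exact hy h1
      have hlt : q < p := lt_of_le_of_ne hqp fun h => hxq (h ▸ hJp.2)
      calc ((k + 1 : ℕ) : ℕ∞) = (k : ℕ∞) + 1 := by push_cast; ring
        _ ≤ q.height + 1 := add_le_add (ih (by omega) q hq.isPrime hq.le) le_rfl
        _ ≤ p.height := Ideal.height_add_one_le_of_lt_of_isPrime hlt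
  refine le_antisymm ((Ideal.height_le_spanFinrank _ hI).trans ?_) ?_
  · refine Nat.cast_le.mpr ((Submodule.spanFinrank_span_le_ncard_of_finite (Set.finite_range x)).trans ?_)
    rw [← Nat.card_coe_set_eq]
    exact le_of_le_of_eq (Finite.card_range_le x) (Nat.card_fin r)
  · rw [Ideal.height_eq_inf_minimalPrimes]
    refine le_iInf₂ fun p hp => key r le_rfl p hp.isPrime ?_
    refine le_trans (le_of_eq ?_) hp.le
    simp only [J, Ideal.ofList, List.take_of_length_le (le_of_eq (List.length_ofFn (f := x)))]
    congr 1
    ext a
    simp [List.mem_ofFn, eq_comm]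


end Groth.Agent.S16235
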