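import Groth.Statements.S16244
import Mathlib
-- import your own Groth.Agent.* helpers here

set_option autoImplicit false
universe u
open Curves

namespace Groth.Agent.S16244

/-- Let k be an algebraically closed field in which 2 and 3 are nonzero, and W a short Weierstrass
equation y² = x³ + a₄x + a₆ over k with nonzero discriminant. The admissible changes of variables
(u, r, s, t) that fix W form a cyclic group, of order 6 when a₄ = 0, of order 4 when a₆ = 0, and of
order 2 when a₄ and a₆ are both nonzero. (The published statement says the automorphism group of the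
elliptic curve is cyclic of order 2, 4 or 6; the automorphisms are rendered here as the changes of
variables preserving the equation, and the case distinction is the one the computation gives.) -/
theorem result
    (k : Type u) [Field k] [IsAlgClosed k] (h2 : (2 : k) ≠ 0) (h3 : (3 : k) ≠ 0)
    (W : WeierstrassCurve k) [W.IsShortNF] (hΔ : W.Δ ≠ 0) :
    IsCyclic ↥(MulAction.stabilizer (WeierstrassCurve.VariableChange k) W) ∧
      (W.a₄ = 0 → Nat.card ↥(MulAction.stabilizer (WeierstrassCurve.VariableChange k) W) = 6) ∧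
      (W.a₆ = 0 → Nat.card ↥(MulAction.stabilizer (WeierstrassCurve.VariableChange k) W) = 4) ∧
      (W.a₄ ≠ 0 → W.a₆ ≠ 0 → Nat.card ↥(MulAction.stabilizer (WeierstrassCurve.VariableChange k) W) = 2) := by
  classical
  have ha1 := WeierstrassCurve.IsShortNF.a₁ (W := W)
  have ha2 := WeierstrassCurve.IsShortNF.a₂ (W := W)
  have ha3 := WeierstrassCurve.IsShortNF.a₃ (W := W)
  let S := MulAction.stabilizer (WeierstrassCurve.VariableChange k) W
  have hmem : ∀ C : WeierstrassCurve.VariableChange k, C ∈ S ↔ C.r = 0 ∧ C.s = 0 ∧ C.t = 0 ∧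
      (C.u : k) ^ 4 * W.a₄ = W.a₄ ∧ (C.u : k) ^ 6 * W.a₆ = W.a₆ := by
    intro C
    rw [MulAction.mem_stabilizer_iff, WeierstrassCurve.ext_iff]
    simp only [WeierstrassCurve.variableChange_def, ha1, ha2, ha3]
    have hu : (C.u : k) ≠ 0 := C.u.ne_zero
    constructor
    · rintro ⟨e1, e2, e3, e4, e6⟩
      have hs : C.s = 0 := by simpa [h2] using e1
      have hr : C.r = 0 := by simpa [h3, hs] using e2
      have ht : C.t = 0 := by simpa [h2, hr] using e3
      refine ⟨hr, hs, ht, ?_, ?_⟩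
      · simp [hr, hs, ht] at e4; field_simp at e4; linear_combination -e4
      · simp [hr, hs, ht] at e6; field_simp at e6; linear_combination -e6
    · rintro ⟨hr, hs, ht, e4, e6⟩
      refine ⟨?_, ?_, ?_, ?_, ?_⟩ <;> simp [hr, hs, ht] <;> field_simp
      · linear_combination -e4
      · linear_combination -e6
  let f : S →* k :=
    { toFun := fun C => ((C.1.u : kˣ) : k)
      map_one' := rfl
      map_mul' := fun _ _ => rfl }
  have hf : Function.Injective f := by
    intro C D h
    obtain ⟨hr, hs, ht, -⟩ := (hmem _).1 C.2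
    obtain ⟨hr', hs', ht', -⟩ := (hmem _).1 D.2
    exact Subtype.ext (WeierstrassCurve.VariableChange.ext (Units.ext h) (hr.trans hr'.symm) (hs.trans hs'.symm) (ht.trans ht'.symm))
  have hΔ' : W.a₄ ≠ 0 ∨ W.a₆ ≠ 0 := by
    by_contra! hh
    apply hΔ
    simp [WeierstrassCurve.Δ, WeierstrassCurve.b₂, WeierstrassCurve.b₄, WeierstrassCurve.b₆, WeierstrassCurve.b₈, ha1, ha2, ha3, hh.1, hh.2]
  have card : ∀ (n : ℕ) [NeZero n], (n : k) ≠ 0 →
      (∀ u : kˣ, ((u : k) ^ 4 * W.a₄ = W.a₄ ∧ (u : k) ^ 6 * W.a₆ = W.a₆) ↔ u ^ n = 1) →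
      Nat.card S = n := by
    intro n _ hn h
    haveI : NeZero (n : k) := ⟨hn⟩
    rw [← HasEnoughRootsOfUnity.natCard_rootsOfUnity k n]
    refine Nat.card_congr (Equiv.ofBijective (fun C => (⟨C.1.u, (h _).1 ((hmem _).1 C.2).2.2.2⟩ : rootsOfUnity n k)) ⟨?_, ?_⟩)
    · intro C D hCD
      exact hf (congrArg (fun z : rootsOfUnity n k => ((z.1 : kˣ) : k)) hCD)
    · intro u
      exact ⟨⟨⟨u.1, 0, 0, 0⟩, (hmem _).2 ⟨rfl, rfl, rfl, ((h u.1).2 u.2)⟩⟩, rfl⟩
  have h6 : (6 : k) ≠ 0 := by rw [show (6 : k) = 2 * 3 by norm_num]; exact mul_ne_zero h2 h3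
  have h4 : (4 : k) ≠ 0 := by rw [show (4 : k) = 2 * 2 by norm_num]; exact mul_ne_zero h2 h2
  have c6 : W.a₄ = 0 → Nat.card S = 6 := fun h => card 6 h6 fun u => by
    have h6' := hΔ'.resolve_left (fun hh => hh h)
    simp [h, h6', Units.ext_iff]
  have c4 : W.a₆ = 0 → Nat.card S = 4 := fun h => card 4 h4 fun u => by
    have h4' := hΔ'.resolve_right (fun hh => hh h)
    simp [h, h4', Units.ext_iff]
  have c2 : W.a₄ ≠ 0 → W.a₆ ≠ 0 → Nat.card S = 2 := fun h h' => card 2 h2 fun u => by
    simp only [Units.ext_iff, Units.val_pow_eq_pow_val, Units.val_one, mul_eq_right₀ h, mul_eq_right₀ h']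
    exact ⟨fun ⟨e4, e6⟩ => by linear_combination e6 - (u : k) ^ 2 * e4,
      fun e => ⟨by linear_combination ((u : k) ^ 2 + 1) * e, by linear_combination ((u : k) ^ 4 + (u : k) ^ 2 + 1) * e⟩⟩
  haveI : Finite S := by
    refine Nat.finite_of_card_ne_zero ?_
    by_cases h : W.a₄ = 0
    · rw [c6 h]; norm_num
    · by_cases h' : W.a₆ = 0
      · rw [c4 h']; norm_num
      · rw [c2 h h']; norm_num
  exact ⟨isCyclic_of_subgroup_isDomain f hf, c6, c4, c2⟩

end Groth.Agent.S16244
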