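import Groth.Statements.S16251
import Groth.Agent.EtSh.NoethSerre
import Groth.Agent.EtSh.Constructible

set_option autoImplicit false
open CategoryTheory CategoryTheory.Limits AlgebraicGeometry Opposite
universe u
open EtPBC

namespace Groth.Agent.S16251

open Groth.Agent.EtSh

theorem epi_of_isQuot {C : Type*} [Category* C] [Preadditive C] {A : Type*} [CommRing A] [Linear A C]
    {I : Ideal A} {X Q : C} {p : X ⟶ Q} (h : ARSys.IsQuot I p) : Epi p :=
  ⟨fun {Z} a b e => (h.2 Z (p ≫ a) (fun r hr => by
    rw [← Linear.comp_smul, ← Category.id_comp a, ← Linear.smul_comp, h.1 r hr, zero_comp, comp_zero])).unique rfl e.symm⟩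

theorem step (ℓ : ℕ) (X : Scheme.{u}) [IsLocallyNoetherian X]
    (F : ARSys.PS (EtCoh.Ab X)) (hF : ARSys.IsAdic (Ideal.span {(ℓ : ℤ)}) F)
    (h0 : EtPBC.IsConstructible (F.obj (op 0))) (n : ℕ) (hn : EtPBC.IsConstructible (F.obj (op n))) :
    EtPBC.IsConstructible (F.obj (op (n + 1))) := by
  let t := ARSys.tr F (Nat.le_succ n)
  let p := ARSys.tr F (Nat.zero_le (n + 1))
  have hp := hF.2 0 (n + 1) (Nat.zero_le _)
  have ht := hF.2 n (n + 1) (Nat.le_succ n)
  have : Epi p := epi_of_isQuot hp
  have : Epi t := epi_of_isQuot ht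
  have hl : ∀ k, ((ℓ : ℤ) ^ k) ∈ Ideal.span {(ℓ : ℤ)} ^ k := fun k =>
    Ideal.pow_mem_pow (Ideal.mem_span_singleton_self _) k
  obtain ⟨ψ, hψ, -⟩ := hp.2 _ (((ℓ : ℤ) ^ (n + 1)) • 𝟙 _) (fun a ha => by
    rw [smul_smul]
    refine hF.1 (n + 1) _ ?_
    rw [pow_succ' (Ideal.span {(ℓ : ℤ)})]
    exact Ideal.mul_mem_mul (by simpa using ha) (hl _))
  have hψ' : p ≫ ψ = ((ℓ : ℤ) ^ (n + 1)) • 𝟙 _ := hψ
  have w : ψ ≫ t = 0 := by
    rw [← cancel_epi p, comp_zero, ← Category.assoc, hψ', Linear.smul_comp, Category.id_comp,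
      ← Category.comp_id t, ← Linear.comp_smul, ht.1 _ (hl _), comp_zero]
  let S := ShortComplex.mk ψ t w
  have hS : S.Exact := S.exact_of_g_is_cokernel (CokernelCofork.IsColimit.ofπ' t w fun {Z} g hg => by
    refine ⟨Classical.choose (ht.2 Z g ?_).exists, Classical.choose_spec (ht.2 Z g ?_).exists⟩
    all_goals
      intro a ha
      rw [Ideal.span_singleton_pow, Ideal.mem_span_singleton'] at ha
      obtain ⟨c, rfl⟩ := ha
      rw [mul_smul]
      have h2 : ((ℓ : ℤ) ^ (n + 1)) • g = p ≫ ψ ≫ g := by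
        rw [← Category.assoc, hψ', Linear.smul_comp, Category.id_comp]
      rw [h2, show ψ ≫ g = 0 from hg, comp_zero, smul_zero])
  refine isConstructible_of_open_cover (fun V : X.affineOpens => V.1) (iSup_affineOpens_eq_top X) fun V => ?_
  have : IsAffine V.1.toScheme := V.2
  have : IsNoetherian V.1.toScheme := { }
  let P := EtCoh.pull V.1.ι
  have := pull_preservesFiniteLimits V.1.ι
  have hS' : (S.map P).Exact := hS.map P
  have : Epi (P.map t) := P.map_epi t
  have h0' := isConstructible_pull V.1.ι h0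
  have hn' := isConstructible_pull V.1.ι hn

  have hk : EtPBC.IsConstructible (kernel (P.map t)) :=
    @isConstructible_of_epi _ _ _ _ (kernel.lift (S.map P).g (S.map P).f (S.map P).zero) hS'.epi_kernelLift h0'
  refine isConstructible_extension (S := ShortComplex.mk (kernel.ι (P.map t)) (P.map t) (kernel.condition _)) ?_ hk hn'
  exact { exact := ShortComplex.exact_of_f_is_kernel _ (kernelIsKernel _) }

/-- Let ℓ be a prime, X a locally Noetherian scheme and F = (F_n) an ℓ-adic projective system of abelian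
sheaves on the small étale site of X, indexed from 0 (so ℓ^(n+1) F_n = 0 and, for n ≤ m, the
transition map F_m ⟶ F_n is a quotient map modulo ℓ^(n+1)). If the first member F_0 is
constructible, then every member F_n is constructible. (The converse is trivial. The published
statement indexes the system from 1, with ℓ^n killing the n-th member; the statement here indexes it
from 0.) -/
theorem result (ℓ : ℕ) [Fact ℓ.Prime]
    (X : Scheme.{u}) [IsLocallyNoetherian X]
    (F : ARSys.PS (EtCoh.Ab X)) (hF : ARSys.IsAdic (Ideal.span {(ℓ : ℤ)}) F)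
    (h0 : EtPBC.IsConstructible (F.obj (op 0))) (n : ℕ) :
    EtPBC.IsConstructible (F.obj (op n)) := by
  induction n with
  | zero => exact h0
  | succ n ih => exact step ℓ X F hF h0 n ih

end Groth.Agent.S16251
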