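import Groth.Statements.S16259
import Groth.Agent.PolySys.Basic

set_option autoImplicit false
open W4c3wronskmg

namespace Groth.Agent.S16259

open Polynomial in
/-- Over a field of characteristic zero, for positive integers `i, j` and a natural number `n`, the
polynomial `h(W) = ∑_{l=0}^{n} (i choose l) (j choose (n-l)) W^(n-l)`, the coefficient of
`X^(i+j-n)` in `(X+1)^i (X+W)^j`, has no multiple root other than possibly `0` and `1`: every `c ≠
0, 1` has root multiplicity at most one. -/
theorem result
    (k : Type*) [Field k] [CharZero k] (i j n : ℕ) (hi : 0 < i) (hj : 0 < j) (c : k) (hc0 : c ≠ 0) (hc1 : c ≠ 1) :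
    Polynomial.rootMultiplicity c
      (∑ l ∈ Finset.range (n + 1),
        Polynomial.C (((i.choose l) * (j.choose (n - l)) : ℕ) : k) * Polynomial.X ^ (n - l)) ≤ 1 := by
  set h : Polynomial k := ∑ l ∈ Finset.range (n + 1),
        Polynomial.C (((i.choose l) * (j.choose (n - l)) : ℕ) : k) * Polynomial.X ^ (n - l) with hh
  let t : ℕ → ℤ := fun m => if m ≤ n then ((i.choose (n - m) * j.choose m : ℕ) : ℤ) else 0
  have hcoeff : ∀ m, h.coeff m = (t m : k) := by
    intro m
    rw [hh, finset_sum_coeff]
    simp only [coeff_C_mul, coeff_X_pow]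
    by_cases hm : m ≤ n
    · rw [Finset.sum_eq_single (n - m)]
      · simp only [t, if_pos hm, show n - (n - m) = m by omega, if_true, mul_one]; push_cast; rfl
      · intro l hl hne
        rw [Finset.mem_range] at hl
        rw [if_neg (by omega), mul_zero]
      · intro hnot; exact absurd (Finset.mem_range.mpr (by omega)) hnot
    · rw [Finset.sum_eq_zero fun l _ => by rw [if_neg (by omega), mul_zero]]
      simp [t, hm]
  have hrec : ∀ m : ℕ, ((m : ℤ) + 1) * (m + i - n + 1) * t (m + 1) = ((m : ℤ) - n) * (m - j) * t m := by
    intro m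
    simp only [t]
    rcases lt_trichotomy m n with hmn | rfl | hmn
    · rw [if_pos (by omega), if_pos hmn.le]
      have e1 : (j.choose (m + 1) : ℤ) * (m + 1) = j.choose m * ((j : ℤ) - m) := by
        rcases le_or_gt m j with hmj | hmj
        · have := Nat.choose_succ_right_eq j m
          rw [← Nat.cast_sub hmj]; exact_mod_cast this
        · rw [Nat.choose_eq_zero_of_lt hmj, Nat.choose_eq_zero_of_lt (by omega)]; simp
      obtain ⟨d, rfl⟩ : ∃ d, n = m + 1 + d := ⟨n - m - 1, by omega⟩
      have e2 : (i.choose (d + 1) : ℤ) * (d + 1) = i.choose d * ((i : ℤ) - d) := by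
        rcases le_or_gt d i with hdi | hdi
        · have := Nat.choose_succ_right_eq i d
          rw [← Nat.cast_sub hdi]; exact_mod_cast this
        · rw [Nat.choose_eq_zero_of_lt hdi, Nat.choose_eq_zero_of_lt (by omega)]; simp
      rw [show m + 1 + d - (m + 1) = d by omega, show m + 1 + d - m = d + 1 by omega]
      push_cast
      linear_combination ((i : ℤ) - d) * (i.choose d : ℤ) * e1 - ((j : ℤ) - m) * (j.choose m : ℤ) * e2
    · rw [if_neg (by omega)]; simp
    · rw [if_neg (by omega), if_neg (by omega)]; simp
  have hode : X * (1 - X) * derivative (derivative h) +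
      (C ((i : k) - n + 1) - C (1 - (n : k) - j) * X) * derivative h = C ((n : k) * j) * h := by
    rw [show X * (1 - X) * derivative (derivative h) +
      (C ((i : k) - n + 1) - C (1 - (n : k) - j) * X) * derivative h = X * derivative (derivative h) -
        X * (X * derivative (derivative h)) + C ((i : k) - n + 1) * derivative h -
        C (1 - (n : k) - j) * (X * derivative h) by ring]
    ext m
    have hm := congrArg (fun z : ℤ => (z : k)) (hrec m)
    push_cast at hm
    rcases m with _ | m
    · simp only [coeff_add, coeff_sub, coeff_C_mul, coeff_X_mul_zero, coeff_derivative, hcoeff] at hm ⊢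
      push_cast at hm ⊢
      linear_combination hm
    · rcases m with _ | m
      · simp only [coeff_add, coeff_sub, coeff_C_mul, coeff_X_mul, coeff_X_mul_zero, coeff_derivative, hcoeff] at hm ⊢
        push_cast at hm ⊢
        linear_combination hm
      · simp only [coeff_add, coeff_sub, coeff_C_mul, coeff_X_mul, coeff_derivative, hcoeff] at hm ⊢
        push_cast at hm ⊢
        linear_combination hm
  by_contra hcon
  rw [not_le] at hcon
  obtain ⟨r, hr⟩ : ∃ r, h.rootMultiplicity c = r + 2 := ⟨h.rootMultiplicity c - 2, by omega⟩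
  have hroot : h.IsRoot c := (Polynomial.rootMultiplicity_pos'.mp (by omega)).2
  have h1 : (derivative h).rootMultiplicity c = r + 1 := by
    rw [derivative_rootMultiplicity_of_root hroot]; omega
  have hroot1 : (derivative h).IsRoot c := (Polynomial.rootMultiplicity_pos'.mp (by omega)).2
  have h2 : (derivative (derivative h)).rootMultiplicity c = r := by
    rw [derivative_rootMultiplicity_of_root hroot1]; omega
  have hne : derivative (derivative h) ≠ 0 := by
    intro h0
    have := natDegree_eq_zero_of_derivative_eq_zero h0
    rw [eq_C_of_natDegree_eq_zero this, rootMultiplicity_C] at h1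
    omega
  have hdvd : (X - C c) ^ (r + 1) ∣ X * (1 - X) * derivative (derivative h) := by
    rw [eq_sub_of_add_eq hode]
    refine dvd_sub (dvd_mul_of_dvd_right ((pow_dvd_pow _ (by omega)).trans
      (hr ▸ pow_rootMultiplicity_dvd h c)) _) (dvd_mul_of_dvd_right ?_ _)
    exact h1 ▸ pow_rootMultiplicity_dvd _ c
  have hcop : IsCoprime ((X - C c) ^ (r + 1)) (X * (1 - X)) := by
    refine IsCoprime.pow_left (((irreducible_X_sub_C c).coprime_iff_not_dvd).mpr ?_)
    rw [dvd_iff_isRoot]
    simp [IsRoot, hc0, sub_eq_zero, Ne.symm hc1]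
  have := (le_rootMultiplicity_iff hne).mpr (hcop.dvd_of_dvd_mul_left hdvd)
  omega

end Groth.Agent.S16259
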