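import Groth.Statements.S16260
import Groth.Agent.WronskLine.Basic
import Mathlib

set_option autoImplicit false
open W4c3wronskmg

namespace Groth.Agent.S16260

open Polynomial in
/-- Let `k` be a field of characteristic zero, `a, b, i` positive integers with `i ≤ a + b`, and `j = a
+ b + 2 - i`. On the projective line with three marked points `A = 0`, `B = 1`, `C = ∞`, the
`(a+b+1)`-dimensional linear system `V = H⁰(ω((1+a)A)) ⊕ H⁰(ω((1+b)B)) ⊕ H⁰(ω(2C)) ⊆ H⁰(ω((1+a)A +
(1+b)B + 2C)) ≅ H⁰(O(a+b+2))` becomes, in the affine coordinate, the span of the multiples of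
`X^(a+1)` of degree at most `a+b`, the multiples of `(X-1)^(b+1)` of degree at most `a+b`, and
`X^(a+1) (X-1)^(b+1)`; and `V(-iP-jQ)` is the subspace of members divisible by `(X-p)^i (X-q)^j`.
Then there are no points `P = p`, `Q = q` other than `A, B, C` (that is, `p, q ∉ {0, 1}`; `p = q`
allowed) with both `dim V(-iP-jQ) ≥ 1` and `dim V(-(i-1)P-(j-1)Q) ≥ 2`. (The published statement is
over the complex numbers.) -/
theorem result
    (k : Type*) [Field k] [CharZero k] (a b i j : ℕ) (ha : 0 < a) (hb : 0 < b) (hi : 0 < i) (hiab : i ≤ a + b)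
    (hj : i + j = a + b + 2)
    (V : Submodule k (Polynomial k))
    (hV : V = ((Ideal.span {(X : Polynomial k) ^ (a + 1)}).restrictScalars k ⊓ Polynomial.degreeLE k ↑(a + b)) ⊔
      ((Ideal.span {((X : Polynomial k) - 1) ^ (b + 1)}).restrictScalars k ⊓ Polynomial.degreeLE k ↑(a + b)) ⊔
      Submodule.span k {(X : Polynomial k) ^ (a + 1) * (X - 1) ^ (b + 1)})
    (p q : k) (hp0 : p ≠ 0) (hp1 : p ≠ 1) (hq0 : q ≠ 0) (hq1 : q ≠ 1) :
    ¬ (1 ≤ Module.finrank k ↥(V ⊓ (Ideal.span {(X - C p) ^ i * (X - C q) ^ j}).restrictScalars k) ∧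
       2 ≤ Module.finrank k ↥(V ⊓ (Ideal.span {(X - C p) ^ (i - 1) * (X - C q) ^ (j - 1)}).restrictScalars k)) := by
  classical
  rintro ⟨h1, h2⟩
  have hVR : V ≤ WronskLine.R a b := hV ▸ WronskLine.V_le_R a b ha hb
  by_cases hpq : p = q
  · subst hpq
    have hne : V ⊓ (Ideal.span {(X - C p) ^ i * (X - C p) ^ j}).restrictScalars k ≠ ⊥ := fun h => by
      rw [h, finrank_bot] at h1; exact Nat.not_succ_le_zero 0 h1
    obtain ⟨f, hf, hf0⟩ := Submodule.exists_mem_ne_zero_of_ne_bot hne
    obtain ⟨g, hg, rfl⟩ := hVR hf.1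
    have hd := Ideal.mem_span_singleton.mp hf.2
    rw [← pow_add] at hd
    obtain ⟨c, hc⟩ := WronskLine.exists_dvd_generic a b p hp0 hp1 g _ hd
    refine hf0 (WronskLine.eq_zero_of_dvd a b c (natDegree_le_iff_degree_le.mpr (mem_degreeLE.mp hg)) ?_ hc)
    rw [natDegree_pow, natDegree_X_sub_C]; omega
  · generalize hS : V ⊓ (Ideal.span {(X - C p) ^ (i - 1) * (X - C q) ^ (j - 1)}).restrictScalars k = S at h2
    have key : ∀ f ∈ S, ∃ g c c', g.natDegree ≤ a + b + 1 ∧ WronskLine.T a b g = f ∧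
        (X - C p) ^ i ∣ g - C c * WronskLine.E a b ∧ (X - C q) ^ j ∣ g - C c' * WronskLine.E a b := by
      intro f hf
      rw [← hS] at hf
      obtain ⟨g, hg, rfl⟩ := hVR hf.1
      have hd := Ideal.mem_span_singleton.mp hf.2
      obtain ⟨c, hc⟩ := WronskLine.exists_dvd_generic a b p hp0 hp1 g _ ((dvd_mul_right _ _).trans hd)
      obtain ⟨c', hc'⟩ := WronskLine.exists_dvd_generic a b q hq0 hq1 g _ ((dvd_mul_left _ _).trans hd)
      rw [Nat.sub_add_cancel hi] at hc
      rw [Nat.sub_add_cancel (by omega : 1 ≤ j)] at hc'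
      exact ⟨g, c, c', natDegree_le_iff_degree_le.mpr (mem_degreeLE.mp hg), rfl, hc, hc'⟩
    have key2 : ∀ g c, g.natDegree ≤ a + b + 1 → (X - C p) ^ i ∣ g - C c * WronskLine.E a b →
        (X - C q) ^ j ∣ g - C c * WronskLine.E a b → WronskLine.T a b g = 0 := by
      intro g c hg hc hc'
      exact WronskLine.eq_zero_of_dvd a b c hg (by rw [WronskLine.natDegree_pow_mul_pow]; omega)
        ((WronskLine.isCoprime_pow p q hpq i j).mul_dvd hc hc')
    obtain ⟨f, hf, hf0⟩ := Submodule.exists_mem_ne_zero_of_ne_bot fun (h : S = ⊥) => by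
      rw [h, finrank_bot] at h2; omega
    obtain ⟨g, c, c', hg, rfl, hc, hc'⟩ := key f hf
    have hcc : c - c' ≠ 0 := fun h => hf0 (key2 g c hg hc ((sub_eq_zero.mp h).symm ▸ hc'))
    have hle : S ≤ Submodule.span k {WronskLine.T a b g} := by
      intro f' hf'
      obtain ⟨g', d, d', hg', rfl, hd, hd'⟩ := key f' hf'
      refine Submodule.mem_span_singleton.mpr ⟨(d - d') / (c - c'), ?_⟩
      have he : d - (d - d') / (c - c') * c = d' - (d - d') / (c - c') * c' := by
        linear_combination -(div_mul_cancel₀ (d - d') hcc)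
      have h := key2 (g' - C ((d - d') / (c - c')) * g) (d - (d - d') / (c - c') * c)
        ((natDegree_sub_le _ _).trans (max_le hg' ((natDegree_C_mul_le _ _).trans hg)))
        (by
          rw [map_sub, map_mul]
          convert dvd_sub hd (dvd_mul_of_dvd_right hc (C ((d - d') / (c - c')))) using 1
          ring)
        (by
          rw [he, map_sub, map_mul]
          convert dvd_sub hd' (dvd_mul_of_dvd_right hc' (C ((d - d') / (c - c')))) using 1
          ring)
      rw [← smul_eq_C_mul, map_sub, map_smul, sub_eq_zero] at h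
      exact h.symm
    have h3 := Submodule.finrank_mono hle
    rw [finrank_span_singleton hf0] at h3
    omega
end Groth.Agent.S16260
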