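import Groth.Statements.S16261
import Groth.Agent.WronskLine.Basic
import Mathlib

set_option autoImplicit false
open W4c3wronskmg

namespace Groth.Agent.S16261

open Polynomial in
/-- With `k` of characteristic zero, `a, b, i` positive, `i ≤ a + b`, `j = a + b + 2 - i` and `V ⊆ k[X]`
the linear system of the first assertion (marked points `A = 0`, `B = 1`, `C = ∞`; `V` spanned by
the multiples of `X^(a+1)` of degree at most `a+b`, the multiples of `(X-1)^(b+1)` of degree at most
`a+b`, and `X^(a+1) (X-1)^(b+1)`): if the point `P` is put at `A` and `Q = q` is any point other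
than `C`, and both `dim V(-iA-jQ) ≥ 1` and `dim V(-(i-1)A-(j-1)Q) ≥ 2` hold, then `i ≥ a + 1`. (The
published statement is over the complex numbers.) -/
theorem result
    (k : Type*) [Field k] [CharZero k] (a b i j : ℕ) (ha : 0 < a) (hb : 0 < b) (hi : 0 < i) (hiab : i ≤ a + b)
    (hj : i + j = a + b + 2)
    (V : Submodule k (Polynomial k))
    (hV : V = ((Ideal.span {(X : Polynomial k) ^ (a + 1)}).restrictScalars k ⊓ Polynomial.degreeLE k ↑(a + b)) ⊔
      ((Ideal.span {((X : Polynomial k) - 1) ^ (b + 1)}).restrictScalars k ⊓ Polynomial.degreeLE k ↑(a + b)) ⊔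
      Submodule.span k {(X : Polynomial k) ^ (a + 1) * (X - 1) ^ (b + 1)})
    (q : k)
    (h1 : 1 ≤ Module.finrank k ↥(V ⊓ (Ideal.span {(X : Polynomial k) ^ i * (X - C q) ^ j}).restrictScalars k))
    (h2 : 2 ≤ Module.finrank k ↥(V ⊓ (Ideal.span {(X : Polynomial k) ^ (i - 1) * (X - C q) ^ (j - 1)}).restrictScalars k)) :
    a + 1 ≤ i := by
  classical
  by_contra hia
  have hVR : V ≤ WronskLine.R a b := hV ▸ WronskLine.V_le_R a b ha hb
  have hne : V ⊓ (Ideal.span {(X : k[X]) ^ i * (X - C q) ^ j}).restrictScalars k ≠ ⊥ := fun h => by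
    rw [h, finrank_bot] at h1; exact Nat.not_succ_le_zero 0 h1
  obtain ⟨f, hf, hf0⟩ := Submodule.exists_mem_ne_zero_of_ne_bot hne
  obtain ⟨g, hg', rfl⟩ := hVR hf.1
  have hg := natDegree_le_iff_degree_le.mpr (mem_degreeLE.mp hg')
  have hd := Ideal.mem_span_singleton.mp hf.2
  apply hf0
  by_cases hq : q = 0
  · subst hq
    rw [map_zero, sub_zero, ← pow_add] at hd
    obtain ⟨c, hc⟩ := WronskLine.exists_dvd_zero a b g _ hd
    exact WronskLine.eq_zero_of_dvd a b c hg (by rw [natDegree_X_pow]; omega) hc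
  have hXE : ∀ c : k, (X : k[X]) ^ i ∣ g - C c * WronskLine.E a b := by
    obtain ⟨c₀, hc₀⟩ := WronskLine.exists_dvd_zero a b g _ ((dvd_mul_right _ _).trans hd)
    intro c
    have hE : (X : k[X]) ^ i ∣ WronskLine.E a b :=
      dvd_mul_of_dvd_left (pow_dvd_pow _ (by omega)) _
    have h := dvd_add hc₀ (dvd_mul_of_dvd_right hE (C c₀ - C c))
    convert h using 1
    ring
  obtain ⟨c, hc⟩ : ∃ c, (X - C q) ^ j ∣ g - C c * WronskLine.E a b := by
    by_cases hq1 : q = 1
    · subst hq1
      exact WronskLine.exists_dvd_one a b g _ ((dvd_mul_left _ _).trans hd)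
    · obtain ⟨c, hc⟩ := WronskLine.exists_dvd_generic a b q hq hq1 g _ ((dvd_mul_left _ _).trans hd)
      exact ⟨c, (pow_dvd_pow _ (Nat.le_succ j)).trans hc⟩
  refine WronskLine.eq_zero_of_dvd a b c hg (P := (X - C 0) ^ i * (X - C q) ^ j)
    (by rw [WronskLine.natDegree_pow_mul_pow]; omega) ?_
  refine (WronskLine.isCoprime_pow 0 q (Ne.symm hq) i j).mul_dvd ?_ hc
  rw [map_zero, sub_zero]
  exact hXE c
end Groth.Agent.S16261
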