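import Groth.Statements.S16262
import Groth.Agent.PolySys.Basic

set_option autoImplicit false
open W4c3wronskmg

namespace Groth.Agent.S16262

open Polynomial in
/-- Let `k` be a field of characteristic zero and `a, b, i` positive integers with `i < a + b`. On the
projective line with `A = 0`, `B = ∞`, `P = -1`, the system `V_{a,b} = H⁰(ω((1+a)A)) ⊕ H⁰(ω((1+b)B))
⊆ H⁰(O(a+b))` is the space of polynomials of degree at most `a+b` with vanishing coefficient of
`X^a`, and `V = V_{a,b}(-iP)` (divided by `(X+1)^i`) is the space of `G` of degree at most `a+b-i`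
such that the coefficient of `X^a` in `(X+1)^i G` vanishes; it is a linear system of dimension and
degree `a+b-i`. Then no point of the projective line other than `A` and `B` is a special
ramification point of `V` (a point of weight at least two); for such a system a point `q` of the
affine line is special exactly when two independent members are divisible by `(X-q)^(a+b-i-1)`, so
the statement is that this fails for every `q ≠ 0`. (The published statement does not except `A` and
`B`, but `A` has weight `max(b-i, 0)` in `V`, which is `2` for `a = 1, b = 3, i = 1`: there `X^3`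
and `X^2` both lie in `V`. It is stated over the complex numbers.) -/
theorem result
    (k : Type*) [Field k] [CharZero k] (a b i : ℕ) (ha : 0 < a) (hb : 0 < b) (hi : 0 < i) (hiab : i < a + b)
    (V : Submodule k (Polynomial k))
    (hV : V = Polynomial.degreeLE k ↑(a + b - i) ⊓
      LinearMap.ker ((Polynomial.lcoeff k a).comp (LinearMap.mulLeft k (((X : Polynomial k) + 1) ^ i))))
    (q : k) (hq : q ≠ 0) :
    Module.finrank k ↥(V ⊓ (Ideal.span {(X - C q) ^ (a + b - i - 1)}).restrictScalars k) ≤ 1 := by
  subst hV
  by_contra hcon
  obtain ⟨m, hm⟩ : ∃ m, a + b - i = m + 1 := ⟨a + b - i - 1, by omega⟩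
  rw [hm, Nat.add_sub_cancel] at hcon
  have h := Groth.Agent.PolySys.mem_all_of_finrank_ge (Polynomial.degreeLE k ↑(m + 1) ⊓
    LinearMap.ker ((Polynomial.lcoeff k a).comp (LinearMap.mulLeft k (((X : Polynomial k) + 1) ^ i)))) ((X - C q) ^ m) ((monic_X_sub_C q).pow m) (m + 1) 1
    (by rw [natDegree_pow, natDegree_X_sub_C, mul_one])
    (fun f hf => natDegree_le_iff_degree_le.mpr (Polynomial.mem_degreeLE.mp hf.1)) (by omega)
  have h1 := (h 1 (by simp)).2
  have hX := (h X (by simp)).2
  simp only [SetLike.mem_coe, LinearMap.mem_ker, LinearMap.comp_apply, LinearMap.mulLeft_apply,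
    Polynomial.lcoeff_apply, mul_one] at h1 hX
  set P : Polynomial k := (X + 1) ^ i * (X - C q) ^ m with hP
  have hdP : P.natDegree = i + m := by
    rw [hP, ← map_one (C : k →+* Polynomial k),
      ((monic_X_add_C (1 : k)).pow i).natDegree_mul ((monic_X_sub_C q).pow m), natDegree_pow, natDegree_pow,
      natDegree_X_sub_C, natDegree_X_add_C]
    omega
  have hmon : P.Monic := by
    rw [hP, ← map_one (C : k →+* Polynomial k)]
    exact ((monic_X_add_C _).pow i).mul ((monic_X_sub_C q).pow m)
  have hode : (X + C 1) * (X - C q) * derivative P =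
      (C (i : k) * (X - C q) + C (m : k) * (X + C 1)) * P := by
    obtain ⟨i, rfl⟩ : ∃ i', i = i' + 1 := ⟨i - 1, by omega⟩
    rcases Nat.eq_zero_or_pos m with rfl | hm'
    · simp [hP, derivative_pow]; ring
    · obtain ⟨m, rfl⟩ : ∃ m', m = m' + 1 := ⟨m - 1, by omega⟩
      simp [hP, derivative_mul, derivative_pow]; ring
  have hrec : ∀ r : ℕ, P.coeff r = 0 → P.coeff (r + 1) = 0 → P.coeff (r + 2) = 0 := by
    intro r hr hr1
    have := congrArg (fun f => f.coeff (r + 1)) hode
    rw [show (X + C 1) * (X - C q) * derivative P = X * (X * derivative P) +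
        C (1 - q) * (X * derivative P) - C q * derivative P by simp only [map_sub, map_one]; ring,
      show (C (i : k) * (X - C q) + C (m : k) * (X + C 1)) * P =
        C ((i : k) + m) * (X * P) + C ((m : k) - i * q) * P by
          simp only [map_sub, map_add, map_mul, map_one]; ring] at this
    simp only [coeff_add, coeff_sub, coeff_C_mul, coeff_X_mul, coeff_derivative, hr, hr1] at this
    have key : q * ((r : k) + 2) * P.coeff (r + 2) = 0 := by
      rcases r with _ | r
      · simp only [coeff_X_mul, coeff_X_mul_zero, coeff_derivative, hr, hr1, mul_zero, zero_mul, add_zero, zero_add,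
          zero_sub, sub_zero, sub_self] at this
        push_cast at this ⊢
        linear_combination -this
      · simp only [coeff_X_mul, coeff_derivative, hr, hr1, mul_zero, zero_mul, add_zero, zero_add,
          zero_sub, sub_zero, sub_self] at this
        push_cast at this ⊢
        linear_combination -this
    have hne : ((r : k) + 2) ≠ 0 := by exact_mod_cast (by omega : r + 2 ≠ 0)
    simpa [hq, hne] using key
  obtain ⟨a, rfl⟩ : ∃ a', a = a' + 1 := ⟨a - 1, by omega⟩
  have ha0 : P.coeff (a + 1) = 0 := h1
  have ha1 : P.coeff a = 0 := by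
    rw [hP, ← coeff_mul_X, mul_assoc]
    exact hX
  have hall : ∀ r, P.coeff (a + r) = 0 ∧ P.coeff (a + r + 1) = 0 := fun r => by
    induction r with
    | zero => exact ⟨ha1, ha0⟩
    | succ r ih => exact ⟨ih.2, hrec (a + r) ih.1 ih.2⟩
  have := (hall (i + m - a)).1
  rw [show a + (i + m - a) = P.natDegree by omega, coeff_natDegree, hmon.leadingCoeff] at this
  exact one_ne_zero this

end Groth.Agent.S16262
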