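import Groth.Statements.S16263
import Groth.Agent.PolySys.Basic

set_option autoImplicit false
open W4c3wronskmg

namespace Groth.Agent.S16263

open Polynomial in
/-- Let `k` be a field of characteristic zero and `a` a positive integer. On the projective line with `A
= 0`, `B = -1`, `C = ∞`, the `(a+1)`-dimensional system `V = H⁰(ω((1+a)C)) ⊕ H⁰(ω(A+B)) ⊆
H⁰(ω((1+a)C + A + B)) ≅ H⁰(O(a+1))` is, in the affine coordinate, the space of polynomials `c + X
(X+1) F` with `c` a constant and `deg F ≤ a - 1`. Then `V` has no special ramification point (no
point of weight at least two): since the members have degree at most `a + 1`, this says that for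
every point `p` of the affine line at most a one-dimensional subspace of `V` is divisible by
`(X-p)^a`, and at `C` that at most a one-dimensional subspace has degree at most one (degree less
than two). (The published statement carries two further positive integers `i, j` with `i + j = a -
1`, used only in its second assertion, and is over the complex numbers.) -/
theorem result
    (k : Type*) [Field k] [CharZero k] (a : ℕ) (ha : 0 < a)
    (V : Submodule k (Polynomial k))
    (hV : V = Submodule.span k {(1 : Polynomial k)} ⊔
      ((Ideal.span {(X : Polynomial k) * (X + 1)}).restrictScalars k ⊓ Polynomial.degreeLE k ↑(a + 1))) :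
    (∀ p : k, Module.finrank k ↥(V ⊓ (Ideal.span {(X - C p) ^ a}).restrictScalars k) ≤ 1) ∧
      Module.finrank k ↥(V ⊓ Polynomial.degreeLT k 2) ≤ 1 := by
  constructor
  · intro p
    by_contra hcon
    have h := Groth.Agent.PolySys.mem_all_of_finrank_ge V ((X - C p) ^ a) ((monic_X_sub_C p).pow a) (a + 1) 1
      (by rw [natDegree_pow, natDegree_X_sub_C, mul_one])
      (fun f hf => (Groth.Agent.PolySys.twoPlusOne a V hV hf).1) (by omega)
    have h1 := (Groth.Agent.PolySys.twoPlusOne a V hV (h 1 (by simp))).2
    have h2 := (Groth.Agent.PolySys.twoPlusOne a V hV (h X (by simp))).2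
    simp at h1 h2
    obtain ⟨hp1, -⟩ := h2
    have hp0 : p = 0 := by
      rw [hp1, zero_pow ha.ne'] at h1
      exact neg_eq_zero.mp (pow_eq_zero_iff ha.ne' |>.mp h1)
    rw [hp0] at hp1
    simp at hp1
  · refine Groth.Agent.PolySys.finrank_le_one _ 1 ?_
    rintro f ⟨hfV, hfd⟩
    have hd : f.degree < 2 := Polynomial.mem_degreeLT.mp hfd
    have hf := eq_X_add_C_of_degree_le_one (show f.degree ≤ 1 by
      rcases eq_or_ne f 0 with rfl | h0
      · simp
      · rw [degree_eq_natDegree h0] at hd ⊢
        exact_mod_cast Nat.lt_succ_iff.mp (by exact_mod_cast hd))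
    have he := (Groth.Agent.PolySys.twoPlusOne a V hV hfV).2
    refine ⟨f.coeff 0, ?_⟩
    have h1 : f.coeff 1 = 0 := by
      rw [hf] at he
      simp at he
      exact he
    rw [smul_eq_C_mul, mul_one]
    conv_lhs => rw [hf, h1]
    simp

end Groth.Agent.S16263
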