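import Groth.Statements.S16264
import Groth.Agent.PolySys.Basic

set_option autoImplicit false
open W4c3wronskmg

namespace Groth.Agent.S16264

open Polynomial in
/-- Let `k` be a field of characteristic zero and `a, i, j` positive integers with `i + j = a - 1`. With
`A = 0`, `B = -1`, `C = ∞` on the projective line and `V` the `(a+1)`-dimensional system of
polynomials `c + X (X+1) F`, `deg F ≤ a - 1` (that is, `H⁰(ω((1+a)C)) ⊕ H⁰(ω(A+B)) ⊆ H⁰(O(a+1))`),
the pairs of points `(P, Q) = (p, q)` of the affine line with `dim V(-iP-jQ) ≥ 3`, i.e. with at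
least a three-dimensional subspace of `V` divisible by `(X-p)^i (X-q)^j`, are exactly `(A, B)` and
`(B, A)`. (Here `P, Q` range over the points other than `C`; when one of them is `C` the dimension
is at most two for degree reasons. The published statement is over the complex numbers.) -/
theorem result
    (k : Type*) [Field k] [CharZero k] (a i j : ℕ) (hi : 0 < i) (hj : 0 < j) (hij : i + j + 1 = a)
    (V : Submodule k (Polynomial k))
    (hV : V = Submodule.span k {(1 : Polynomial k)} ⊔
      ((Ideal.span {(X : Polynomial k) * (X + 1)}).restrictScalars k ⊓ Polynomial.degreeLE k ↑(a + 1)))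
    (p q : k) :
    3 ≤ Module.finrank k ↥(V ⊓ (Ideal.span {(X - C p) ^ i * (X - C q) ^ j}).restrictScalars k) ↔
      (p = 0 ∧ q = -1) ∨ (p = -1 ∧ q = 0) := by
  constructor
  · intro h3
    have hg : ((X - C p) ^ i * (X - C q) ^ j).Monic :=
      ((monic_X_sub_C p).pow i).mul ((monic_X_sub_C q).pow j)
    have h := Groth.Agent.PolySys.mem_all_of_finrank_ge V _ hg (a + 1) 2
      (by rw [((monic_X_sub_C p).pow i).natDegree_mul ((monic_X_sub_C q).pow j), natDegree_pow,
            natDegree_pow, natDegree_X_sub_C, natDegree_X_sub_C]; omega)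
      (fun f hf => (Groth.Agent.PolySys.twoPlusOne a V hV hf).1) h3
    have h1 := (Groth.Agent.PolySys.twoPlusOne a V hV (h 1 (by simp))).2
    have h2 := (Groth.Agent.PolySys.twoPlusOne a V hV (h X (by simp))).2
    simp only [eval_mul, eval_pow, eval_sub, eval_X, eval_C, eval_one, mul_one, mul_zero, zero_sub] at h1 h2
    have hB : (-1 - p) ^ i * (-1 - q) ^ j = 0 := by linear_combination h2
    have hA : (-p) ^ i * (-q) ^ j = 0 := h1.trans hB
    rw [mul_eq_zero, pow_eq_zero_iff hi.ne', pow_eq_zero_iff hj.ne'] at hA hB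
    simp only [neg_eq_zero, sub_eq_zero] at hA hB
    rcases hA with hA | hA <;> rcases hB with hB | hB
    · rw [hA] at hB; simp at hB
    · exact Or.inl ⟨hA, hB.symm⟩
    · exact Or.inr ⟨hB.symm, hA⟩
    · rw [hA] at hB; simp at hB
  · intro hpq
    set g : Polynomial k := (X - C p) ^ i * (X - C q) ^ j with hg_def
    have hg : g.Monic := ((monic_X_sub_C p).pow i).mul ((monic_X_sub_C q).pow j)
    have hd : g.natDegree + 2 = a + 1 := by
      rw [hg_def, ((monic_X_sub_C p).pow i).natDegree_mul ((monic_X_sub_C q).pow j), natDegree_pow,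
            natDegree_pow, natDegree_X_sub_C, natDegree_X_sub_C]; omega
    let W : Submodule k (Polynomial k) := (Polynomial.degreeLT k 3).map (LinearMap.mulLeft k g)
    haveI : Module.Finite k ↥(Polynomial.degreeLT k (a + 2)) :=
      Module.Finite.equiv (Polynomial.degreeLTEquiv k (a + 2)).symm
    have hVd : V ≤ Polynomial.degreeLT k (a + 2) := fun f hf => by
      rw [Polynomial.mem_degreeLT]
      exact degree_le_natDegree.trans_lt (by
        exact_mod_cast Nat.lt_succ_of_le (Groth.Agent.PolySys.twoPlusOne a V hV hf).1)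
    haveI : FiniteDimensional k ↥V := Submodule.finiteDimensional_of_le hVd
    have hW : W ≤ V ⊓ (Ideal.span {g}).restrictScalars k := by
      rintro _ ⟨u, hu, rfl⟩
      have hu' : u.natDegree ≤ 2 := by
        rcases eq_or_ne u 0 with rfl | h0
        · simp
        · have := Polynomial.mem_degreeLT.mp hu
          rw [degree_eq_natDegree h0] at this
          exact Nat.lt_succ_iff.mp (by exact_mod_cast this)
      refine ⟨Groth.Agent.PolySys.mem_twoPlusOne a V hV (natDegree_mul_le.trans (by omega)) ?_,
        Ideal.mem_span_singleton.mpr (dvd_mul_right g u)⟩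
      simp only [LinearMap.mulLeft_apply, eval_mul, hg_def]
      rcases hpq with ⟨rfl, rfl⟩ | ⟨rfl, rfl⟩ <;> simp [zero_pow hi.ne', zero_pow hj.ne']
    refine le_trans ?_ (Submodule.finrank_mono hW)
    rw [← (Submodule.equivMapOfInjective _ (mul_right_injective₀ hg.ne_zero) _).finrank_eq,
      (Polynomial.degreeLTEquiv k 3).finrank_eq, Module.finrank_pi, Fintype.card_fin]

end Groth.Agent.S16264
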