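import Groth.Statements.S16265
import Groth.Agent.CurveFF.Genus
import Groth.Agent.FunFldLib.Gaps

set_option autoImplicit false
open FunFld

namespace Groth.Agent.S16265

open FunFld Groth.Agent.FunFldLib in
theorem vstep {k K : Type*} [Field k] [IsAlgClosed k] [Field K] [Algebra k K] (hK : FunFld.IsFunctionField k K)
    (V : Submodule k K) [FiniteDimensional k V] (E : FunFld.Divisor k K) (R : FunFld.Place k K) :
    Module.finrank k ↥(V ⊓ FunFld.L E) ≤ Module.finrank k ↥(V ⊓ FunFld.L (E - Finsupp.single R 1)) + 1 := by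
  classical
  haveI := finite_L hK.1 E
  haveI := finite_L hK.1 (E - Finsupp.single R 1)
  have hle : E - Finsupp.single R 1 ≤ E := fun T => by
    simp only [Finsupp.sub_apply, Finsupp.single_apply]; split <;> omega
  have h1 := Submodule.finrank_sup_add_finrank_inf_eq (V ⊓ FunFld.L E) (FunFld.L (E - Finsupp.single R 1))
  rw [inf_assoc, inf_eq_right.2 (L_mono hle)] at h1
  have h2 := Submodule.finrank_mono (show (V ⊓ FunFld.L E) ⊔ FunFld.L (E - Finsupp.single R 1) ≤ FunFld.L E from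
    sup_le inf_le_right (L_mono hle))
  have h3 := ell_add_single_le hK (E - Finsupp.single R 1) (deg_eq_one hK R)
  rw [sub_add_cancel] at h3
  simp only [FunFld.ell] at h3
  omega

/-- Let `K/k` be a function field of one variable over an algebraically closed field `k` of
characteristic zero (the function field of a smooth projective curve), `D` a divisor and `V ⊆ L(D)`
a linear system of dimension `r + 1`; write `V(-mP-nQ) = V ∩ L(D - mP - nQ)` for the members
vanishing to the indicated orders. Assume `V` has no special ramification point, i.e. no place of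
weight at least two: for every place `R`, `dim V(-rR) ≤ 1` and `V(-(r+2)R) = 0`. Let `P ≠ Q` be
places and `a, b ≥ 1` with `a + b = r + 1` (so that `V(-aP)` and `V(-bQ)` have dimensions `b` and
`a`). Then the following are equivalent: (1) the system `V(-aP)` has weight at least two at `Q`,
that is `dim V(-aP-(b-1)Q) ≥ 2` or `dim V(-aP-(b+1)Q) ≥ 1`, and the system `V(-bQ)` has weight at
least two at `P`, that is `dim V(-(a-1)P-bQ) ≥ 2` or `dim V(-(a+1)P-bQ) ≥ 1`; (2) one of (a) `dim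
V(-(a+1)P-(b+1)Q) ≥ 1`, (b) `dim V(-(a-1)P-(b-1)Q) ≥ 3`, (c) `dim V(-aP-(b+1)Q) ≥ 1` and `dim
V(-(a-1)P-bQ) ≥ 2`, (d) `dim V(-(a+1)P-bQ) ≥ 1` and `dim V(-aP-(b-1)Q) ≥ 2`. (The published
statement is for a smooth curve over the complex numbers.) -/
theorem result
    (k K : Type*) [Field k] [IsAlgClosed k] [CharZero k] [Field K] [Algebra k K]
    (hK : FunFld.IsFunctionField k K) (D : FunFld.Divisor k K)
    (V : Submodule k K) (hVD : V ≤ FunFld.L D) (r : ℕ) (hr : Module.finrank k ↥V = r + 1)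
    (hns : ∀ R : FunFld.Place k K,
      Module.finrank k ↥(V ⊓ FunFld.L (D - Finsupp.single R (r : ℤ))) ≤ 1 ∧
        V ⊓ FunFld.L (D - Finsupp.single R ((r : ℤ) + 2)) = ⊥)
    (P Q : FunFld.Place k K) (hPQ : P ≠ Q) (a b : ℕ) (ha : 1 ≤ a) (hb : 1 ≤ b) (hab : a + b = r + 1) :
    ((2 ≤ Module.finrank k ↥(V ⊓ FunFld.L (D - Finsupp.single P (a : ℤ) - Finsupp.single Q ((b : ℤ) - 1 : ℤ))) ∨
        1 ≤ Module.finrank k ↥(V ⊓ FunFld.L (D - Finsupp.single P (a : ℤ) - Finsupp.single Q ((b : ℤ) + 1 : ℤ)))) ∧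
      (2 ≤ Module.finrank k ↥(V ⊓ FunFld.L (D - Finsupp.single P ((a : ℤ) - 1 : ℤ) - Finsupp.single Q (b : ℤ))) ∨
        1 ≤ Module.finrank k ↥(V ⊓ FunFld.L (D - Finsupp.single P ((a : ℤ) + 1 : ℤ) - Finsupp.single Q (b : ℤ))))) ↔
    (1 ≤ Module.finrank k ↥(V ⊓ FunFld.L (D - Finsupp.single P ((a : ℤ) + 1 : ℤ) - Finsupp.single Q ((b : ℤ) + 1 : ℤ))) ∨
      3 ≤ Module.finrank k ↥(V ⊓ FunFld.L (D - Finsupp.single P ((a : ℤ) - 1 : ℤ) - Finsupp.single Q ((b : ℤ) - 1 : ℤ))) ∨
      (1 ≤ Module.finrank k ↥(V ⊓ FunFld.L (D - Finsupp.single P (a : ℤ) - Finsupp.single Q ((b : ℤ) + 1 : ℤ))) ∧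
        2 ≤ Module.finrank k ↥(V ⊓ FunFld.L (D - Finsupp.single P ((a : ℤ) - 1 : ℤ) - Finsupp.single Q (b : ℤ)))) ∨
      (1 ≤ Module.finrank k ↥(V ⊓ FunFld.L (D - Finsupp.single P ((a : ℤ) + 1 : ℤ) - Finsupp.single Q (b : ℤ))) ∧
        2 ≤ Module.finrank k ↥(V ⊓ FunFld.L (D - Finsupp.single P (a : ℤ) - Finsupp.single Q ((b : ℤ) - 1 : ℤ))))) := by
  classical
  haveI : FiniteDimensional k V := Module.finite_of_finrank_pos (by omega)
  set d : ℤ → ℤ → ℕ := fun i j =>
    Module.finrank k ↥(V ⊓ FunFld.L (D - Finsupp.single P i - Finsupp.single Q j)) with hd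
  have hstP : ∀ i j : ℤ, d i j ≤ d (i + 1) j + 1 := fun i j => by
    refine (vstep hK V _ P).trans_eq ?_
    simp only [hd]
    rw [show D - Finsupp.single P i - Finsupp.single Q j - Finsupp.single P 1 =
      D - Finsupp.single P (i + 1) - Finsupp.single Q j by rw [Finsupp.single_add]; abel]
  have hstQ : ∀ i j : ℤ, d i j ≤ d i (j + 1) + 1 := fun i j => by
    refine (vstep hK V _ Q).trans_eq ?_
    simp only [hd]
    rw [show D - Finsupp.single P i - Finsupp.single Q j - Finsupp.single Q 1 =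
      D - Finsupp.single P i - Finsupp.single Q (j + 1) by rw [Finsupp.single_add]; abel]
  have hmono : ∀ i j i' j' : ℤ, i ≤ i' → j ≤ j' → d i' j' ≤ d i j := fun i j i' j' hi hj => by
    refine Submodule.finrank_mono (inf_le_inf_left _ (Groth.Agent.FunFldLib.L_mono fun R => ?_))
    simp only [Finsupp.sub_apply, Finsupp.single_apply]; split <;> split <;> omega
  have hmod : ∀ i j : ℤ, d (i + 1) j + d i (j + 1) ≤ d i j + d (i + 1) (j + 1) := fun i j => by
    simp only [hd]
    rw [← Submodule.finrank_sup_add_finrank_inf_eq (V ⊓ FunFld.L (D - Finsupp.single P (i + 1) - Finsupp.single Q j))]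
    refine Nat.add_le_add (Submodule.finrank_mono (sup_le ?_ ?_)) (Submodule.finrank_mono ?_)
    · refine inf_le_inf_left _ (Groth.Agent.FunFldLib.L_mono fun R => ?_)
      simp only [Finsupp.sub_apply, Finsupp.single_apply]; split <;> omega
    · refine inf_le_inf_left _ (Groth.Agent.FunFldLib.L_mono fun R => ?_)
      simp only [Finsupp.sub_apply, Finsupp.single_apply]; split <;> split <;> omega
    · rw [← inf_inf_distrib_left, Groth.Agent.CurveFF.L_inf]
      refine inf_le_inf_left _ (Groth.Agent.FunFldLib.L_mono fun R => ?_)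
      simp only [Finsupp.inf_apply, Finsupp.sub_apply, Finsupp.single_apply]
      by_cases h1 : P = R
      · subst h1; simp only [if_pos, if_neg hPQ.symm]
        exact inf_le_left.trans (by omega)
      · simp only [if_neg h1]
        exact inf_le_right.trans (by split <;> omega)
  have g1 := hmod ((a : ℤ) - 1) ((b : ℤ) - 1)
  have g2 := hmod (a : ℤ) (b : ℤ)
  have g3 := hstP (a : ℤ) (b : ℤ)
  have g4 := hstQ (a : ℤ) (b : ℤ)
  have g5 := hstP ((a : ℤ) - 1) ((b : ℤ) - 1)
  have g6 := hstQ ((a : ℤ) - 1) ((b : ℤ) - 1)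
  have g7 := hmono ((a : ℤ) - 1) (b : ℤ) (a : ℤ) (b : ℤ) (by omega) le_rfl
  have g8 := hmono (a : ℤ) ((b : ℤ) - 1) (a : ℤ) (b : ℤ) le_rfl (by omega)
  have g9 := hmono (a : ℤ) ((b : ℤ) + 1) ((a : ℤ) + 1) ((b : ℤ) + 1) (by omega) le_rfl
  have g10 := hmono ((a : ℤ) + 1) (b : ℤ) ((a : ℤ) + 1) ((b : ℤ) + 1) le_rfl (by omega)
  simp only [sub_add_cancel] at g1 g5 g6
  simp only [hd] at g1 g2 g3 g4 g5 g6 g7 g8 g9 g10
  omega

end Groth.Agent.S16265
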