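import Groth.Statements.S16269
import Groth.Agent.EtSh.Supp
import Groth.Agent.EtSh.Stalks

set_option autoImplicit false
universe u w
open CategoryTheory CategoryTheory.Limits AlgebraicGeometry Opposite
open EtCore

namespace Groth.Agent.S16269

set_option backward.isDefEq.respectTransparency.types false in
theorem exists_preimage {X : Scheme.{u}} {ι : Type u} {Z : ι → X.Etale} {V : X.Etale} {f : ∀ i, Z i ⟶ V}
    (hc : IsColimit (Cofan.mk V f)) (x : V.left) : ∃ i y, (f i).left.base y = x := by
  have hopen : IsOpen (⋃ i, Set.range (f i).left) := isOpen_iUnion fun i => by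
    have := Groth.Agent.EtSh.etale_left (f i)
    exact (f i).left.isOpenMap.isOpen_range
  let O : Scheme.Opens V.left := ⟨_, hopen⟩
  have : Etale V.hom := V.prop
  have : IsOpenImmersion O.ι := inferInstance
  let W : X.Etale := Scheme.Etale.mk (O.ι ≫ V.hom)
  have hsub : ∀ i, Set.range (f i).left ⊆ Set.range O.ι := fun i => by
    refine (Set.subset_iUnion (fun i => Set.range (f i).left) i).trans ?_
    exact (Scheme.Opens.range_ι O).ge
  let l : ∀ i, (Z i).left ⟶ O.toScheme := fun i => @IsOpenImmersion.lift _ _ _ O.ι (f i).left this (hsub i)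
  have hl : ∀ i, l i ≫ O.ι = (f i).left := fun i => @IsOpenImmersion.lift_fac _ _ _ O.ι (f i).left this (hsub i)
  let k : ∀ i, Z i ⟶ W := fun i => MorphismProperty.Over.homMk (l i)
    ((Category.assoc _ _ _).symm.trans ((congrArg (· ≫ V.hom) (hl i)).trans
      (MorphismProperty.Over.w _)))
  let r : W ⟶ V := MorphismProperty.Over.homMk O.ι rfl
  have hr : hc.desc (Cofan.mk W k) ≫ r = 𝟙 _ := hc.hom_ext fun ⟨i⟩ => by
    refine (hc.fac_assoc _ _ _).trans (Eq.trans ?_ (Category.comp_id _).symm)
    exact MorphismProperty.Over.Hom.ext (hl i)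
  have h1 : r.left ((hc.desc (Cofan.mk W k)).left x) = x :=
    congrArg (fun m : V ⟶ V => m.left x) hr
  exact Set.mem_iUnion.1 (h1 ▸ ((hc.desc (Cofan.mk W k)).left x).2 : x ∈ ⋃ i, Set.range (f i).left)

/-- Let X be a scheme, Y an etale X-scheme with Y -> X surjective, and G a finite group acting on Y by
X-automorphisms such that the morphisms (id, g) : Y -> Y x_X Y exhibit Y x_X Y as the coproduct of
copies of Y indexed by G (a Galois covering with group G). For an abelian sheaf F on the small etale
site of X, the restriction map F(X) -> F(Y) is injective and its image is the set of sections of F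
over Y fixed by every element of G. -/
theorem result (X : Scheme.{u})
    (Y : X.Etale) (hY : Function.Surjective Y.hom.base)
    {G : Type u} [Group G] [Finite G] (σ : G →* Aut Y)
    (hgal : Nonempty (IsColimit (Cofan.mk (Y ⨯ Y) (fun g : G => prod.lift (𝟙 Y) (σ g).hom))))
    (F : EtCoh.Ab X) :
    Function.Injective (F.obj.map ((EtCore.topIsTerminal X).from Y).op) ∧
      Set.range (F.obj.map ((EtCore.topIsTerminal X).from Y).op) =
        {s : EtCoh.sect F Y | ∀ g : G, F.obj.map (σ g).hom.op s = s} := by
  have hq : Sieve.generate (Presieve.singleton ((EtCore.topIsTerminal X).from Y)) ∈ X.smallEtaleTopology (EtCoh.top X) := by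
    rw [Groth.Agent.EtSh.mem_topology_iff]
    intro x
    obtain ⟨y, hy⟩ := hY x
    refine ⟨Y, (EtCore.topIsTerminal X).from Y, y, Sieve.le_generate _ _ _ (Presieve.singleton_self _), ?_⟩
    have := MorphismProperty.Over.w ((EtCore.topIsTerminal X).from Y)
    exact (congrArg (fun k : Y.left ⟶ X => k.base y) ((Category.comp_id _).symm.trans this)).trans hy
  obtain ⟨hc⟩ := hgal
  have hcover : Sieve.generate (Presieve.ofArrows (fun _ : G => Y) fun g => prod.lift (𝟙 Y) (σ g).hom) ∈
      X.smallEtaleTopology (Y ⨯ Y) := by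
    rw [Groth.Agent.EtSh.mem_topology_iff]
    intro x
    obtain ⟨g, y, hy⟩ := exists_preimage hc x
    exact ⟨Y, _, y, Sieve.le_generate _ _ _ (Presieve.ofArrows.mk g), hy⟩
  have hsh : Presieve.IsSheaf X.smallEtaleTopology (F.obj ⋙ CategoryTheory.forget AddCommGrpCat.{u + 1}) :=
    (isSheaf_iff_isSheaf_of_type _ _).1
      ((Presheaf.isSheaf_iff_isSheaf_comp X.smallEtaleTopology F.obj (CategoryTheory.forget AddCommGrpCat.{u + 1})).1 F.property)
  have h := (Presieve.isSheafFor_iff_generate _).2 (hsh _ hq)
  rw [Presieve.isSheafFor_singleton] at h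
  have hq' : ∀ (y) (g : G), F.obj.map (σ g).hom.op (F.obj.map ((EtCore.topIsTerminal X).from Y).op y) =
      F.obj.map ((EtCore.topIsTerminal X).from Y).op y := fun y g => by
    rw [← ConcreteCategory.comp_apply, ← Functor.map_comp, ← op_comp,
      (EtCore.topIsTerminal X).hom_ext ((σ g).hom ≫ _) ((EtCore.topIsTerminal X).from Y)]
  have hinj : Function.Injective (F.obj.map ((EtCore.topIsTerminal X).from Y).op) :=
    Presieve.isSeparatedFor_singleton.1 ((Presieve.isSheafFor_iff_generate _).2 (hsh _ hq)).isSeparatedFor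
  refine ⟨hinj, Set.Subset.antisymm (by rintro _ ⟨y, rfl⟩; exact hq' y) fun s hs => ?_⟩
  refine (h s fun {Z} p₁ p₂ _ => ?_).exists
  have e : F.obj.map (prod.fst : Y ⨯ Y ⟶ Y).op s = F.obj.map (prod.snd : Y ⨯ Y ⟶ Y).op s := by
    refine ((Presieve.isSheafFor_iff_generate _).2 (hsh _ hcover)).isSeparatedFor.ext ?_
    rintro _ _ ⟨g⟩
    clear hq h hinj
    show F.obj.map _ (F.obj.map _ s) = F.obj.map _ (F.obj.map _ s)
    rw [← ConcreteCategory.comp_apply, ← ConcreteCategory.comp_apply, ← Functor.map_comp, ← Functor.map_comp,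
      ← op_comp, ← op_comp, prod.lift_fst, prod.lift_snd]
    exact (show F.obj.map (𝟙 _).op s = s by simp).trans (hs g).symm
  have e' := congrArg (F.obj.map (prod.lift p₁ p₂).op) e
  show F.obj.map p₁.op s = F.obj.map p₂.op s
  rwa [← ConcreteCategory.comp_apply, ← ConcreteCategory.comp_apply, ← Functor.map_comp, ← Functor.map_comp,
    ← op_comp, ← op_comp, prod.lift_fst, prod.lift_snd] at e'

end Groth.Agent.S16269
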