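import Groth.Statements.S16272
-- import your own Groth.Agent.* helpers here

set_option autoImplicit false
universe w' w v u
open CategoryTheory
open NonAbH1

namespace Groth.Agent.S16272

/-- The class map is well defined: let C be a category with a Grothendieck topology J, G a sheaf of
groups and U a family of objects. A G-torsor P with a section over every U_i has exactly one Cech
class on U: choosing sections s_i of P over the U_i cuts out a 1-cocycle of G on U, and its class in
the Cech cohomology set H^1(U, G) does not depend on the choice. (The published statement is for an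
etale covering of a scheme; this row is stated for any family of objects of any site.) -/
theorem result {C : Type u} [Category.{v} C]
    {J : GrothendieckTopology C} {G : Sheaf J GrpCat.{w}} (P : NonAbH1.Torsor G)
    {I : Type w'} (U : I → C) (hP : P.TrivialisedBy U) :
    ∃! c : PresheafOfGroups.H1 G.obj U, P.HasCechClass U c := by
  classical
  have pt := P.isTorsor.1
  let s : ∀ i, P.P.obj.obj (Opposite.op (U i)) := fun i => (hP i).some
  choose g hg hgu using fun (i j : I) (T : C) (a : T ⟶ U i) (b : T ⟶ U j) =>
    pt (Opposite.op T) (P.P.obj.map b.op (s j)) (P.P.obj.map a.op (s i))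
  let γ : PresheafOfGroups.OneCocycle G.obj U :=
    { ev := fun i j T a b => g i j T a b
      ev_precomp := fun i j T T' φ a b => by
        refine hgu i j T (φ ≫ a) (φ ≫ b) _ ?_
        simp only [op_comp, Functor.map_comp, ConcreteCategory.comp_apply]
        rw [← P.map_smul, hg]
      ev_trans := fun i j k T a b c => by
        refine hgu i k T a c _ ?_
        dsimp only
        rw [P.mul_smul, hg, hg] }
  refine ⟨γ.class, ⟨s, γ, fun i j T a b => hg i j T a b, rfl⟩, ?_⟩
  rintro _ ⟨t, δ, hδ, rfl⟩
  rw [PresheafOfGroups.OneCocycle.class_eq_iff]
  choose α hα hαu using fun i : I => pt (Opposite.op (U i)) (t i) (s i)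
  refine ⟨α, fun i j T a b => ?_⟩
  obtain ⟨x, -, hx⟩ := pt (Opposite.op T) (P.P.obj.map b.op (t j)) (P.P.obj.map a.op (s i))
  refine (hx _ ?_).trans (hx _ ?_).symm
  · dsimp only
    rw [P.mul_smul, hδ i j a b, ← P.map_smul, hα]
  · dsimp only
    rw [P.mul_smul, ← P.map_smul, hα]
    exact hg i j T a b

end Groth.Agent.S16272
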