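import Groth.Statements.S16283
import Groth.Agent.GrothSS.SiteInputs
import Groth.Agent.FlasqueAcyclic.Compare
import Groth.Agent.RPushQCoh.Qcoh

set_option autoImplicit false
set_option synthInstance.maxHeartbeats 400000
universe u
open CategoryTheory CategoryTheory.Limits AlgebraicGeometry ZeroObject
open Coherent

namespace Groth.Agent.S16283

open Groth.Agent in
lemma isAcyclicObj_pushforward {X Y Z : Scheme.{u}} (f : X ⟶ Y) (g : Y ⟶ Z)
    [HasInjectiveResolutions Y.Modules]
    (F Q : X.Modules) [ModSite.HasSheafHom (O := X.sheaf) F] (hQ : Injective Q) :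
    GrothSS.IsAcyclicObj (Scheme.Modules.pushforward g)
      ((Scheme.Modules.pushforward f).obj ((ModSite.sheafHom (O := X.sheaf) F).obj Q)) := fun q => by
  haveI : Injective (C := ModSite.Mod X.sheaf) Q := ⟨fun {A B} φ m hm => @Injective.factors _ _ Q hQ A B φ m hm⟩
  have h1 := CohAcyc.isTotallyAcyclic_sheafHom (O := X.sheaf) F Q
  haveI : RepresentablyFlat (TopologicalSpace.Opens.map f.base) := inferInstance
  haveI : PreservesFiniteLimits ((TopologicalSpace.Opens.map f.base).sheafPullback (Type u) (Opens.grothendieckTopology Y) (Opens.grothendieckTopology X)) :=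
    haveI := CategoryTheory.lan_preservesFiniteLimits_of_flat (E := Type u) (TopologicalSpace.Opens.map f.base)
    CategoryTheory.Functor.sheafPullbackConstruction.preservesFiniteLimits _ _ _ _
  have h2 := CohAcyc.isTotallyAcyclic_push (K := Opens.grothendieckTopology Y) (TopologicalSpace.Opens.map f.base) h1
  have h3 := GrothSS.isAcyclicObj_push (K := Opens.grothendieckTopology Z) (TopologicalSpace.Opens.map g.base) _ h2 q
  obtain ⟨e⟩ := FlasqueAcyclic.nonempty_toAb_Rpush_iso g ((Scheme.Modules.pushforward f).obj ((ModSite.sheafHom (O := X.sheaf) F).obj Q)) (q + 1)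
  refine RPushQCoh.isZero_of_isZero_toAb ?_
  exact IsZero.of_iso h3 e


/-- Let f : X → Y and g : Y → Z be morphisms of schemes, h = g ∘ f, and F, G O_X-modules. For a morphism
u out of X write Ext^b_u(F, -) for the b-th right derived functor of the left exact functor G ↦ u_*
Hom_{O_X}(F, G) from O_X-modules. Then there is an E₂ spectral sequence of O_Z-modules with E₂^{a,b}
≅ R^a g_*(Ext^b_f(F, G)) for a, b ≥ 0 (and 0 otherwise), bounded, abutting with finite filtrations
to Ext^n_h(F, G) (n ≥ 0; 0 for n < 0). (Stated for schemes, the published statement being for ringed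
spaces. Existence only: the E₂ identifications and the abutment are some isomorphisms. The internal
Hom functor of F, injective resolutions on X and Y and additivity of the composite functors are the
stated instance hypotheses, all true.) -/
theorem result (X Y Z : Scheme.{u}) (f : X ⟶ Y) (g : Y ⟶ Z)
    (F G : X.Modules)
    [ModSite.HasSheafHom (O := X.sheaf) F] [HasInjectiveResolutions (ModSite.Mod X.sheaf)] [HasInjectiveResolutions Y.Modules]
    [(ModSite.sheafHom (O := X.sheaf) F ⋙ Scheme.Modules.pushforward f).Additive]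
    [(ModSite.sheafHom (O := X.sheaf) F ⋙ Scheme.Modules.pushforward (f ≫ g)).Additive] :
    ∃ (E : E₂CohomologicalSpectralSequence Z.Modules)
      (a : SpSeq.Abutment E (fun n : ℤ =>
        if 0 ≤ n then ((ModSite.sheafHom (O := X.sheaf) F ⋙ Scheme.Modules.pushforward (f ≫ g)).rightDerived n.toNat).obj G else (0 : Z.Modules))),
      (∀ n : ℤ, a.IsFinite n) ∧ SpSeq.IsBounded E ∧
      ∀ p q : ℤ, Nonempty ((E.page 2 le_rfl).X (p, q) ≅
        (if 0 ≤ p ∧ 0 ≤ q then (Coh.Rpush g p.toNat).obj (((ModSite.sheafHom (O := X.sheaf) F ⋙ Scheme.Modules.pushforward f).rightDerived q.toNat).obj G)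
          else (0 : Z.Modules))) := by
  haveI : HasInjectiveResolutions X.Modules := ‹HasInjectiveResolutions (ModSite.Mod X.sheaf)›
  let T : X.Modules ⥤ Y.Modules := ModSite.sheafHom (O := X.sheaf) F ⋙ Scheme.Modules.pushforward f
  let U : X.Modules ⥤ Z.Modules := ModSite.sheafHom (O := X.sheaf) F ⋙ Scheme.Modules.pushforward (f ≫ g)
  haveI hT : T.Additive := ‹(ModSite.sheafHom (O := X.sheaf) F ⋙ Scheme.Modules.pushforward f).Additive›
  haveI hU : U.Additive := ‹(ModSite.sheafHom (O := X.sheaf) F ⋙ Scheme.Modules.pushforward (f ≫ g)).Additive›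
  let e : T ⋙ Scheme.Modules.pushforward g ≅ U := Functor.associator _ _ _ ≪≫
      Functor.isoWhiskerLeft _ (Scheme.Modules.pushforwardComp f g)
  exact Groth.Agent.GrothSS.exists_spectralSequence_comp_ite T (Scheme.Modules.pushforward g)
    (fun Q hQ => isAcyclicObj_pushforward f g F Q hQ) G (0 : Z.Modules) (isZero_zero _)
    (fun n => (U.rightDerived n).obj G)
    (fun n => ⟨(Groth.Agent.GrothSS.rightDerivedCongr e n).app G⟩)
    (fun p q => (Coh.Rpush g p).obj ((T.rightDerived q).obj G))
    (fun p q => ⟨Iso.refl _⟩)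

end Groth.Agent.S16283
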