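import Groth.Statements.S16288
import Groth.Agent.FlatComplex.Rank
-- import your own Groth.Agent.* helpers here

set_option autoImplicit false
universe u
open CategoryTheory
open FlatCx

namespace Groth.Agent.S16288

/-- Let A be a Noetherian ring and P a chain complex of finitely generated flat A-modules, and for p and
a point x of Spec A let d_p(x) = dim_{k(x)} H_p(P ⊗_A k(x)). Fix p and a point z. If d_{p-1} and
d_{p+1} are constant on some neighbourhood of z, then d_p is constant on some neighbourhood of z.
(The published assertion concerns the function y ↦ dim H^p(X_y, F_y) for a coherent sheaf F flat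
over a projective morphism of Noetherian schemes X → Y: if it is not constant near a point, then the
functions for p - 1 and p + 1 are not both constant near that point. Stated here is the
corresponding property for any chain complex of finitely generated flat modules over a Noetherian
ring, from which the published form follows by applying it to a finite complex of such modules
computing the cohomology of the fibres.) -/
theorem result {A : Type u} [CommRing A] [IsNoetherianRing A]
    (P : ChainComplex (ModuleCat.{u} A) ℤ) (hP : ∀ i, Module.Finite A (P.X i) ∧ Module.Flat A (P.X i))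
    (p : ℤ) (z : PrimeSpectrum A)
    (hlo : ∀ᶠ x in nhds z, CohIII.dRank P (p - 1) x = CohIII.dRank P (p - 1) z)
    (hhi : ∀ᶠ x in nhds z, CohIII.dRank P (p + 1) x = CohIII.dRank P (p + 1) z) :
    ∀ᶠ x in nhds z, CohIII.dRank P p x = CohIII.dRank P p z := by
  have := fun i => (hP i).1
  have hloc : ∀ i, ∀ᶠ x in nhds z, FlatComplex.fiberDim (P.X i) x = FlatComplex.fiberDim (P.X i) z := by
    intro i
    have := (hP i).2
    have : Module.FinitePresentation A (P.X i) := Module.finitePresentation_of_finite _ _
    simp only [FlatComplex.fiberDim_eq_rankAtStalk]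
    exact (IsLocallyConstant.iff_eventually_eq _).mp Module.isLocallyConstant_rankAtStalk z
  have hle : ∀ i j : ℤ, ∀ᶠ x in nhds z,
      FlatComplex.fiberDim (FlatComplex.Cok P i j) x ≤ FlatComplex.fiberDim (FlatComplex.Cok P i j) z := by
    intro i j
    obtain ⟨U, hU, hzU, hUle⟩ := FlatComplex.exists_nhds_fiberDim_le (FlatComplex.Cok P i j) z
    exact Filter.eventually_of_mem (hU.mem_nhds hzU) hUle
  filter_upwards [hlo, hhi, hloc (p - 1 - 1), hloc p, hloc (p - 1), hle (p + 1) p, hle p (p - 1),
    hle (p - 1) (p - 1 - 1), hle (p + 1 + 1) (p + 1)] with x a b c c' c'' d e f g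
  have e1 := fun y => FlatComplex.dRank_add P (sub_add_cancel p 1) (sub_add_cancel (p - 1) 1) (hP _).1 (hP _).1 y
  have e2 := fun y => FlatComplex.dRank_add P (rfl : p + 1 + 1 = p + 1 + 1) (rfl : p + 1 = p + 1) (hP _).1 (hP _).1 y
  have e3 := fun y => FlatComplex.dRank_add P (rfl : p + 1 = p + 1) (sub_add_cancel p 1) (hP _).1 (hP _).1 y
  have := e1 x; have := e1 z; have := e2 x; have := e2 z; have := e3 x; have := e3 z
  omega

end Groth.Agent.S16288
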