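import Groth.Statements.S16312
import Mathlib
-- import your own Groth.Agent.* helpers here

set_option autoImplicit false
universe u
open W4c3irrattreebun

namespace Groth.Agent.S16312

/-- Let N be a closed cone in real n-space, f a function continuous on N, positive at the nonzero points
of N and homogeneous of degree one under scaling by nonnegative reals, and Λ a discrete additive
subgroup. Then for every real c the set of points H of Λ lying in N with f(H) ≤ c is finite. (The
published statement takes Λ to be a lattice; this row allows any discrete additive subgroup.) -/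
theorem result (n : ℕ)
    (N : Set (EuclideanSpace ℝ (Fin n))) (hN : IsClosed N)
    (hcone : ∀ x ∈ N, ∀ r : ℝ, 0 ≤ r → r • x ∈ N)
    (f : EuclideanSpace ℝ (Fin n) → ℝ) (hf : ContinuousOn f N)
    (hpos : ∀ x ∈ N, x ≠ 0 → 0 < f x)
    (hhom : ∀ x ∈ N, ∀ r : ℝ, 0 ≤ r → f (r • x) = r * f x)
    (Λ : Submodule ℤ (EuclideanSpace ℝ (Fin n))) [DiscreteTopology Λ] (c : ℝ) :
    ({x : EuclideanSpace ℝ (Fin n) | x ∈ N ∧ f x ≤ c} ∩ (Λ : Set (EuclideanSpace ℝ (Fin n)))).Finite := by
  let E := EuclideanSpace ℝ (Fin n)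
  have h0 : ∀ x ∈ N, x = 0 → f x = 0 := by
    rintro x hx rfl
    simpa using hhom 0 hx 0 le_rfl
  obtain ⟨R, hR⟩ : ∃ R : ℝ, ∀ x ∈ N, f x ≤ c → ‖x‖ ≤ R := by
    rcases (N ∩ Metric.sphere (0 : E) 1).eq_empty_or_nonempty with he | hne
    · refine ⟨0, fun x hx _ => ?_⟩
      by_contra hx0
      have hx0' : x ≠ 0 := fun h => hx0 (by simp [h])
      exact (Set.eq_empty_iff_forall_notMem.1 he (‖x‖⁻¹ • x))
        ⟨hcone x hx _ (inv_nonneg.2 (norm_nonneg x)), by simp [norm_smul, hx0']⟩
    · have hK : IsCompact (N ∩ Metric.sphere (0 : E) 1) := (isCompact_sphere _ _).inter_left hN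
      obtain ⟨x0, hx0, hmin⟩ := hK.exists_isMinOn hne (hf.mono Set.inter_subset_left)
      have hm : 0 < f x0 := hpos x0 hx0.1 (fun h => by simpa [h] using hx0.2)
      refine ⟨max c 0 / f x0, fun x hx hxc => ?_⟩
      rw [le_div_iff₀ hm]
      rcases eq_or_ne x 0 with rfl | hx0'
      · simp
      · have hn : 0 < ‖x‖ := norm_pos_iff.2 hx0'
        have h1 : f x0 ≤ ‖x‖⁻¹ * f x := by
          rw [← hhom x hx _ (inv_nonneg.2 hn.le)]
          exact hmin ⟨hcone x hx _ (inv_nonneg.2 hn.le), by simp [norm_smul, hx0']⟩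
        calc ‖x‖ * f x0 ≤ ‖x‖ * (‖x‖⁻¹ * f x) := mul_le_mul_of_nonneg_left h1 hn.le
          _ = f x := by rw [← mul_assoc, mul_inv_cancel₀ hn.ne', one_mul]
          _ ≤ max c 0 := hxc.trans (le_max_left _ _)
  haveI : DiscreteTopology Λ.toAddSubgroup := ‹DiscreteTopology Λ›
  have hfin : (Metric.closedBall (0 : E) R ∩ (Λ : Set E)).Finite := by
    refine ((isCompact_closedBall (0 : E) R).inter_right
      (AddSubgroup.isClosed_of_discrete (H := Λ.toAddSubgroup))).finite ?_
    exact ⟨DiscreteTopology.of_subset (s := (Λ : Set E)) ‹DiscreteTopology Λ› Set.inter_subset_right⟩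
  refine hfin.subset fun x hx => ⟨?_, hx.2⟩
  simpa using hR x hx.1.1 hx.1.2

end Groth.Agent.S16312
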