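import Groth.Statements.S16323
import Groth.Agent.GrSyzLib.Pd
import Groth.Agent.CAlgReg.AusBuch
import Groth.Agent.DimTheory.Algebra
import Groth.Agent.Depth.CM
-- import your own Groth.Agent.* helpers here

set_option autoImplicit false
universe u
open GrSyz

namespace Groth.Agent.S16323

open CategoryTheory Groth.Agent.GrSyzLib MvPolynomial

section
variable {k : Type u} [Field k] {n : ℕ}

local notation "S₀" => MvPolynomial (Fin n) k

theorem mm_isMaximal : (mm : Ideal S₀).IsMaximal := by
  have : (mm : Ideal S₀) = RingHom.ker (constantCoeff : S₀ →+* k) := Ideal.ext fun p => mem_mm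
  rw [this]
  exact RingHom.ker_isMaximal_of_surjective _ fun c => ⟨C c, constantCoeff_C _ c⟩

variable [hmax : Ideal.IsMaximal (mm (k := k) (σ := Fin n))]

local notation "𝔭" => Ideal.primeCompl (mm (k := k) (σ := Fin n))
local notation "R₀" => Localization.AtPrime (mm (k := k) (σ := Fin n))

/-- one step of dimension shifting after localization -/
theorem pd_step {A B : Type u} [AddCommGroup A] [Module S₀ A] [Module.Projective S₀ A] [AddCommGroup B]
    [Module S₀ B] (q : A →ₗ[S₀] B) (hq : Function.Surjective q) (j : ℕ)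
    (h : HasProjectiveDimensionLE ((ModuleCat.of S₀ B).localizedModule 𝔭) (j + 1)) :
    HasProjectiveDimensionLE ((ModuleCat.of S₀ (LinearMap.ker q)).localizedModule 𝔭) j := by
  have hS := (LinearMap.shortExact_shortComplexKer hq).map_of_exact (ModuleCat.localizedModuleFunctor 𝔭)
  have hA : Projective ((ModuleCat.localizedModuleFunctor 𝔭).obj q.shortComplexKer.X₂) :=
    (ModuleCat.localizedModuleFunctor.{u} 𝔭).projective_obj_of_projective
      ((IsProjective.iff_projective (R := S₀) A).1 inferInstance)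
  exact (hS.hasProjectiveDimensionLT_X₃_iff j hA).1 h

/-- a minimal cover that becomes split after localization is injective -/
theorem ker_eq_bot_of_loc {r : ℕ} {T : Type u} [AddCommGroup T] [Module S₀ T]
    (q : (Fin r → S₀) →ₗ[S₀] T) (hq : Function.Surjective q)
    (hmin : ∀ v ∈ LinearMap.ker q, ∀ b, v b ∈ (mm : Ideal S₀))
    (hproj : Module.Projective R₀ ((ModuleCat.of S₀ T).localizedModule 𝔭)) :
    LinearMap.ker q = ⊥ ∧ (Subsingleton ((ModuleCat.of S₀ T).localizedModule 𝔭) → r = 0) := by
  classical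
  let L := (ModuleCat.of S₀ T).localizedModule 𝔭
  let lT : T →ₗ[S₀] L := (ModuleCat.of S₀ T).localizedModuleMkLinearMap 𝔭
  haveI : IsLocalizedModule 𝔭 lT := ModuleCat.localizedModule_isLocalizedModule (ModuleCat.of S₀ T) 𝔭
  let al := algebraMap S₀ R₀
  let qR : (Fin r → R₀) →ₗ[R₀] L := Fintype.linearCombination R₀ (fun a => lT (q (Pi.single a 1)))
  have hqR : ∀ v : Fin r → S₀, qR (fun a => al (v a)) = lT (q v) := by
    intro v
    conv_rhs => rw [pi_eq_sum_univ' v, map_sum, map_sum]
    simp only [qR, Fintype.linearCombination_apply, map_smul, al, algebraMap_smul]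
  have hsurj : Function.Surjective qR := by
    intro y
    obtain ⟨⟨t, s⟩, hy⟩ := IsLocalizedModule.surj 𝔭 lT y
    obtain ⟨v, rfl⟩ := hq t
    obtain ⟨u, hu⟩ := IsLocalization.map_units R₀ s
    refine ⟨(↑u⁻¹ : R₀) • fun a => al (v a), ?_⟩
    rw [map_smul, hqR]
    show (↑u⁻¹ : R₀) • lT (q v) = y
    rw [show lT (q v) = (↑u : R₀) • y by rw [hu, algebraMap_smul]; exact hy.symm, smul_smul, Units.inv_mul, one_smul]
  let K := LinearMap.ker qR
  have hK : ∀ z ∈ K, ∀ a, z a ∈ IsLocalRing.maximalIdeal R₀ := by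
    intro z hz a
    obtain ⟨s, hs⟩ := IsLocalization.exist_integer_multiples_of_finite (𝔭) z
    choose v hv using hs
    have hv' : (fun a => al (v a)) = (s : S₀) • z := funext hv
    have h1 : lT (q v) = 0 := by
      rw [← hqR, hv', LinearMap.map_smul_of_tower, LinearMap.mem_ker.1 hz, smul_zero]
    obtain ⟨c, hc⟩ := (IsLocalizedModule.eq_zero_iff 𝔭 lT).1 h1
    have h2 : ((c : S₀) • v) a ∈ (mm : Ideal S₀) := hmin _ (by rw [LinearMap.mem_ker, map_smul]; exact hc) a
    have h3 : v a ∈ (mm : Ideal S₀) := (Ideal.IsPrime.mem_or_mem inferInstance h2).resolve_left c.2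
    have h4 : al (v a) ∈ IsLocalRing.maximalIdeal R₀ :=
      (IsLocalization.AtPrime.to_map_mem_maximal_iff R₀ (mm : Ideal S₀) (v a)).2 h3
    rw [show al (v a) = ((s : S₀) • z) a from hv a, Pi.smul_apply, Algebra.smul_def] at h4
    exact (Ideal.IsPrime.mem_or_mem inferInstance h4).resolve_left fun h =>
      (IsLocalRing.mem_maximalIdeal _).1 h (IsLocalization.map_units R₀ s)
  obtain ⟨σ, hσ⟩ := Module.projective_lifting_property qR LinearMap.id hsurj
  have hKbot : K = ⊥ := by
    refine Submodule.eq_bot_of_le_smul_of_le_jacobson_bot (IsLocalRing.maximalIdeal R₀) K (IsNoetherian.noetherian K)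
      (fun z hz => ?_) (le_of_eq (IsLocalRing.jacobson_eq_maximalIdeal ⊥ bot_ne_top).symm)
    have hπ : (LinearMap.id - σ ∘ₗ qR : (Fin r → R₀) →ₗ[R₀] (Fin r → R₀)) z = z := by
      simp [LinearMap.mem_ker.1 hz]
    rw [← hπ, pi_eq_sum_univ' z, map_sum]
    refine Submodule.sum_mem _ fun a _ => ?_
    rw [map_smul]
    refine Submodule.smul_mem_smul (hK z hz a) ?_
    show qR _ = 0
    simp only [LinearMap.sub_apply, LinearMap.id_apply, LinearMap.comp_apply, map_sub]
    rw [show ∀ y, qR (σ y) = y from fun y => LinearMap.congr_fun hσ y, sub_self]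
  refine ⟨(Submodule.eq_bot_iff _).2 fun v hv => ?_, fun hsub => ?_⟩
  · have : (fun a => al (v a)) ∈ K := by
      rw [LinearMap.mem_ker, hqR, LinearMap.mem_ker.1 hv, map_zero]
    rw [hKbot, Submodule.mem_bot] at this
    funext a
    exact IsLocalization.injective R₀ (Ideal.primeCompl_le_nonZeroDivisors (mm : Ideal S₀)) ((congrFun this a).trans (map_zero _).symm)
  · by_contra hr
    have h1 := hK (Pi.single ⟨0, Nat.pos_of_ne_zero hr⟩ 1) (Subsingleton.elim (α := L) _ _) ⟨0, Nat.pos_of_ne_zero hr⟩
    rw [Pi.single_eq_same] at h1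
    exact (IsLocalRing.mem_maximalIdeal _).1 h1 isUnit_one

variable {M : Type u} [AddCommGroup M] [Module k M] [Module (MvPolynomial (Fin n) k) M] {ℳ : ℤ → Submodule k M}
  [DirectSum.Decomposition ℳ] [SetLike.GradedSMul (GrSyz.stdGr k (Fin n)) ℳ]

theorem proj_of_pd {T : Type u} [AddCommGroup T] [Module S₀ T]
    (h : HasProjectiveDimensionLE ((ModuleCat.of S₀ T).localizedModule 𝔭) 0) :
    Module.Projective R₀ ((ModuleCat.of S₀ T).localizedModule 𝔭) := by
  rw [HasProjectiveDimensionLE, zero_add, ← projective_iff_hasProjectiveDimensionLT_one,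
    ← IsProjective.iff_projective] at h
  exact h

theorem rk_eq_zero_of_pd (F : GrSyz.FreeRes (GrSyz.stdGr k (Fin n)) ℳ) (hF : F.IsMinimal mm) (j : ℕ)
    (h : HasProjectiveDimensionLE ((ModuleCat.of S₀ M).localizedModule 𝔭) j) : F.rk (j + 1) = 0 := by
  cases j with
  | zero =>
    exact (rk_succ_eq_zero_iff F hF 0).2
      (ker_eq_bot_of_loc F.augLin F.aug_surjective (fun v hv => syz_minimal F hF 0 v hv) (proj_of_pd h)).1
  | succ j =>
    have key : ∀ (d i : ℕ), HasProjectiveDimensionLE ((ModuleCat.of S₀ (syz F i)).localizedModule 𝔭) d →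
        HasProjectiveDimensionLE ((ModuleCat.of S₀ (syz F (i + d))).localizedModule 𝔭) 0 := by
      intro d
      induction d with
      | zero => exact fun i h => h
      | succ d ih =>
        intro i h
        have h1 := pd_step (cover F i) (cover_surjective F i) d h
        rw [ker_cover] at h1
        have h2 := ih (i + 1) h1
        rwa [show i + 1 + d = i + (d + 1) by omega] at h2
    have h0 := key j 0 (pd_step F.augLin F.aug_surjective j h)
    rw [zero_add] at h0
    have h1 := (ker_eq_bot_of_loc (cover F j) (cover_surjective F j)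
      (fun v hv => syz_minimal F hF (j + 1) v ((ker_cover F j).le hv)) (proj_of_pd h0)).1
    rw [ker_cover] at h1
    exact (rk_succ_eq_zero_iff F hF (j + 1)).2 h1

end

/-- Let k be an algebraically closed field of characteristic zero, S = k[x_0, …, x_n] graded by degree,
𝔪 = (x_0, …, x_n), M a finitely generated ℤ-graded S-module and F a minimal graded free resolution
of M (finite-rank free modules with homogeneous bases, every matrix entry of every differential in
𝔪) of length exactly ℓ: F_ℓ ≠ 0 and F_i = 0 for i > ℓ, so that ℓ is the projective dimension of M.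
Then ℓ + depth(𝔪, M) = n + 1, where depth(𝔪, M) is the 𝔪-depth of M (supremum in ℕ∞ of the lengths
of M-regular sequences with terms in 𝔪). (The published statement is pd M = depth(𝔪, S) − depth(𝔪,
M) for a graded ring S with maximal ideal 𝔪 and a finitely generated module of finite projective
dimension; stated here, as the text then specialises it, for the polynomial ring, where depth(𝔪, S)
= n + 1 and the projective dimension is the length of a minimal graded free resolution.) -/
theorem result (k : Type u) [Field k] [IsAlgClosed k] [CharZero k] (n : ℕ)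
    (M : Type u) [AddCommGroup M] [Module k M] [Module (MvPolynomial (Fin (n + 1)) k) M]
    [IsScalarTower k (MvPolynomial (Fin (n + 1)) k) M] [Module.Finite (MvPolynomial (Fin (n + 1)) k) M]
    (ℳ : ℤ → Submodule k M) [DirectSum.Decomposition ℳ] [SetLike.GradedSMul (GrSyz.stdGr k (Fin (n + 1))) ℳ]
    (F : GrSyz.FreeRes (GrSyz.stdGr k (Fin (n + 1))) ℳ) (hF : F.IsMinimal (GrSyz.irrel (GrSyz.stdGr k (Fin (n + 1)))).toIdeal)
    (ℓ : ℕ) (hℓ : F.HasLengthLE ℓ) (hℓ' : F.rk ℓ ≠ 0) :
    (ℓ : ℕ∞) + LocCoh.idealDepth (GrSyz.irrel (GrSyz.stdGr k (Fin (n + 1)))).toIdeal M = ((n + 1 : ℕ) : ℕ∞) := by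
  haveI hmax : (mm : Ideal (MvPolynomial (Fin (n + 1)) k)).IsMaximal := mm_isMaximal
  let S := MvPolynomial (Fin (n + 1)) k
  let R := Localization.AtPrime (mm : Ideal S)
  let Mm := LocalizedModule (mm : Ideal S).primeCompl M
  haveI : IsLocalizedModule (mm : Ideal S).primeCompl ((ModuleCat.of S M).localizedModuleMkLinearMap (mm : Ideal S).primeCompl) :=
    ModuleCat.localizedModule_isLocalizedModule (ModuleCat.of S M) _
  let e : (ModuleCat.of S M).localizedModule (mm : Ideal S).primeCompl ≃ₗ[R] Mm :=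
    LinearEquiv.extendScalarsOfIsLocalization (mm : Ideal S).primeCompl R
      (IsLocalizedModule.linearEquiv (mm : Ideal S).primeCompl
        ((ModuleCat.of S M).localizedModuleMkLinearMap (mm : Ideal S).primeCompl)
        (LocalizedModule.mkLinearMap (mm : Ideal S).primeCompl M))
  have hle : CAlgReg.PdLT R Mm (ℓ + 1) := by
    haveI := (hasLengthLE_iff F hF ℓ).1 hℓ
    exact CAlgReg.pdLT_congr e (ModuleCat.localizedModule_hasProjectiveDimensionLE ℓ _ (ModuleCat.of S M))
  haveI : Nontrivial Mm := by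
    by_contra h
    rw [not_nontrivial_iff_subsingleton] at h
    haveI := e.toEquiv.subsingleton
    have h0 : F.rk 0 = 0 := (ker_eq_bot_of_loc F.augLin F.aug_surjective (fun v hv => syz_minimal F hF 0 v hv)
      (@Module.Projective.of_free _ _ _ _ _ (Module.Free.of_subsingleton _ _))).2 inferInstance
    exact hℓ' (rk_zero_of_le F hF 0 h0 ℓ (Nat.zero_le _))
  have hnlt : ¬ CAlgReg.PdLT R Mm ℓ := by
    intro h
    cases ℓ with
    | zero =>
      exact not_subsingleton Mm (ModuleCat.subsingleton_of_isZero ((hasProjectiveDimensionLT_zero_iff_isZero _).1 h))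
    | succ j => exact hℓ' (rk_eq_zero_of_pd F hF j (CAlgReg.pdLT_congr e.symm h))
  have hab := CAlgReg.auslander_buchsbaum_aux ℓ Mm hle hnlt
  have hdim : ringKrullDim R = ((n + 1 : ℕ) : WithBot ℕ∞) := by
    rw [IsLocalization.AtPrime.ringKrullDim_eq_height (mm : Ideal S),
      Groth.Agent.DimTheory.height_maximal_mvPolynomial k (n + 1) (mm : Ideal S)]
    rfl
  rw [CAlgReg.depth_self_eq_dim hdim] at hab
  rw [hab]
  congr 1
  rw [Groth.Agent.Depth.idealDepth_eq_iInf M]
  refine le_antisymm (iInf₂_le_of_le ⟨mm, hmax.isPrime⟩ le_rfl le_rfl) (le_iInf₂ fun p hp => ?_)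
  obtain rfl : p = ⟨mm, hmax.isPrime⟩ := PrimeSpectrum.ext (hmax.eq_of_le p.isPrime.ne_top hp).symm
  exact le_rfl

end Groth.Agent.S16323
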