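import Groth.Statements.S16331
import Groth.Agent.BiextCx.Basic

set_option autoImplicit false
universe v
open CategoryTheory
open W4c3biextchow

namespace Groth.Agent.S16331

/-- Let f : A' ⟶ A be a chain map of ℕ-indexed chain complexes of free abelian groups which is injective
in every degree, with free degreewise quotients A_q / f(A'_q), and a quasi-isomorphism; let h' : A'
⟶ B be a chain map to another complex of free abelian groups and g₁, g₂ : A ⟶ A' two chain maps with
f ≫ g₁ = f ≫ g₂ = 𝟙. Consider the functors induced by g₁ ≫ h' and g₂ ≫ h' between the groupoids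
attached to A and B (objects: degree-0 elements; morphisms a ⟶ b: degree-1 elements with boundary b
- a, modulo boundaries of degree-2 elements). Then there is a natural isomorphism between these two
functors whose component at every object of the form f(a'), a' a degree-0 element of A', is the zero
class, i.e. the identity morphism of h'(a'). -/
theorem result
    (A' A B : ChainComplex (ModuleCat.{v} ℤ) ℕ) (f : A' ⟶ A) (h' : A' ⟶ B)
    [∀ q, Module.Free ℤ (A'.X q)] [∀ q, Module.Free ℤ (A.X q)] [∀ q, Module.Free ℤ (B.X q)]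
    (hf : ∀ q, Function.Injective (f.f q).hom)
    (hq : ∀ q, Module.Free ℤ ((A.X q) ⧸ LinearMap.range (f.f q).hom)) [QuasiIso f]
    (g₁ g₂ : A ⟶ A') (h₁ : f ≫ g₁ = 𝟙 A') (h₂ : f ≫ g₂ = 𝟙 A') :
    ∃ N : W4c3biextchow.cxFunctor (g₁ ≫ h') ≅ W4c3biextchow.cxFunctor (g₂ ≫ h'),
      ∀ a : W4c3biextchow.Obj A',
        (N.hom.app ((W4c3biextchow.cxFunctor f).obj a) : W4c3biextchow.Hom B _ _).cl = 0 := by
  haveI : ∀ q, Projective ((Groth.Agent.BiextCx.quot f).X q) := fun q => Groth.Agent.BiextCx.projective_quot f q (by convert hq q using 1 <;> first | rfl | exact Subsingleton.elim _ _)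
  obtain ⟨H, hH⟩ := Groth.Agent.BiextCx.exists_homotopy f hf g₁ g₂ h₁ h₂
  have c0 : ∀ a, (g₁.f 0).hom a = (A'.d 1 0).hom ((H.hom 0 1).hom a) + (g₂.f 0).hom a := fun a => by
    have hc := H.comm 0
    rw [Homotopy.dNext_zero_chainComplex, Homotopy.prevD_chainComplex] at hc
    have := congrArg (fun φ => φ.hom a) hc
    simpa using this
  have c1 : ∀ x, (g₁.f 1).hom x = (H.hom 0 1).hom ((A.d 1 0).hom x) + (A'.d 2 1).hom ((H.hom 1 2).hom x) + (g₂.f 1).hom x := fun x => by
    have hc := H.comm 1
    rw [Homotopy.dNext_succ_chainComplex, Homotopy.prevD_chainComplex] at hc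
    have := congrArg (fun φ => φ.hom x) hc
    simpa using this
  refine ⟨NatIso.ofComponents (fun a => ?_) ?_, fun a => ?_⟩
  · exact
      { hom := ⟨Submodule.Quotient.mk (-(h'.f 1).hom ((H.hom 0 1).hom a.pt)), by
          have e := congrArg (fun φ => φ.hom ((H.hom 0 1).hom a.pt)) (h'.comm 1 0)
          simp only [ModuleCat.hom_comp, LinearMap.comp_apply] at e
          simp [c0, e]⟩
        inv := ⟨Submodule.Quotient.mk ((h'.f 1).hom ((H.hom 0 1).hom a.pt)), by
          have e := congrArg (fun φ => φ.hom ((H.hom 0 1).hom a.pt)) (h'.comm 1 0)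
          simp only [ModuleCat.hom_comp, LinearMap.comp_apply] at e
          simp [c0, e]⟩
        hom_inv_id := W4c3biextchow.Hom.ext (by simp)
        inv_hom_id := W4c3biextchow.Hom.ext (by simp) }
  · intro a b φ
    apply W4c3biextchow.Hom.ext
    obtain ⟨x, hx⟩ := Submodule.Quotient.mk_surjective _ (φ : W4c3biextchow.Hom A a b).cl
    have hd : (A.d 1 0).hom x = b.pt - a.pt := by
      rw [← W4c3biextchow.delta_mk, hx, φ.delta_cl]
    simp only [W4c3biextchow.comp_cl, W4c3biextchow.cxFunctor_map_cl, ← hx, W4c3biextchow.q1Map_mk,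
      HomologicalComplex.comp_f, ModuleCat.hom_comp, LinearMap.comp_apply, ← Submodule.Quotient.mk_add]
    rw [Submodule.Quotient.eq]
    refine ⟨(h'.f 2).hom ((H.hom 1 2).hom x), ?_⟩
    have e := congrArg (fun φ => φ.hom ((H.hom 1 2).hom x)) (h'.comm 2 1)
    simp only [ModuleCat.hom_comp, LinearMap.comp_apply] at e
    rw [e, c1, hd]
    simp only [map_add, map_sub]
    abel
  · have e := congrArg (fun φ => φ.hom a.pt) (hH 0 1)
    simp only [ModuleCat.hom_comp, LinearMap.comp_apply, ModuleCat.hom_zero, LinearMap.zero_apply] at e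
    simp [e]

end Groth.Agent.S16331
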