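import Groth.Statements.S16333
import Groth.Agent.TsenLang.Basic
import Groth.Agent.CSACentralizer.C1

set_option autoImplicit false
universe u
open GalCoh

namespace Groth.Agent.S16333

open MvPolynomial in
theorem norm_surjective {F E : Type*} [Field F] [Field E] [Algebra F E] [FiniteDimensional F E]
    (hF : Curves.IsCr F 1) (a : F) : ∃ z : E, Algebra.norm F z = a := by
  classical
  let b := Module.finBasis F E
  set n := Module.finrank F E with hn
  have hn0 : 0 < n := Module.finrank_pos
  let M : Matrix (Fin n) (Fin n) (MvPolynomial (Fin (n + 1)) F) :=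
    Matrix.of fun i j => ∑ l : Fin n, MvPolynomial.C (Algebra.leftMulMatrix b (b l) i j) * MvPolynomial.X l.castSucc
  let f : MvPolynomial (Fin (n + 1)) F := M.det - MvPolynomial.C a * MvPolynomial.X (Fin.last n) ^ n
  have hf : f.IsHomogeneous n := by
    refine IsHomogeneous.sub ?_ ((isHomogeneous_X_pow (Fin.last n) n).C_mul a)
    have := Groth.Agent.CSACentralizer.isHomogeneous_det M 1 fun i j => by
      simp only [M, Matrix.of_apply]
      exact IsHomogeneous.sum _ _ _ fun l _ => (isHomogeneous_X F _).C_mul _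
    simpa using this
  obtain ⟨x, hx, hx0⟩ := hF (n + 1) n f hf hn0 (by simp)
  have heval : MvPolynomial.eval x M.det = Algebra.norm F (∑ l : Fin n, x l.castSucc • b l) := by
    rw [RingHom.map_det, Algebra.norm_eq_matrix_det b]
    congr 1
    ext i j
    simp [M, map_sum, Matrix.sum_apply, mul_comm]
  have h0 : Algebra.norm F (∑ l : Fin n, x l.castSucc • b l) = a * x (Fin.last n) ^ n := by
    rw [← heval, ← sub_eq_zero]
    simpa [f] using hx0
  rcases eq_or_ne (x (Fin.last n)) 0 with hl | hl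
  · exfalso
    rw [hl, zero_pow hn0.ne', mul_zero, Algebra.norm_eq_zero_iff] at h0
    have hz := Fintype.linearIndependent_iff.1 b.linearIndependent _ h0
    refine hx (funext fun i => ?_)
    induction i using Fin.lastCases with
    | last => exact hl
    | cast i => exact hz i
  · refine ⟨(x (Fin.last n))⁻¹ • ∑ l : Fin n, x l.castSucc • b l, ?_⟩
    rw [Algebra.smul_def, map_mul, Algebra.norm_algebraMap, h0, inv_pow, ← hn]
    field_simp

set_option maxHeartbeats 1000000

section Ker

variable {K L : Type*} [Field K] [Field L] [Algebra K L] [FiniteDimensional K L]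

theorem norm_units (w : Lˣ) [IsGalois K L] :
    algebraMap K L (Algebra.norm K (w : L)) = ((∏ g : L ≃ₐ[K] L, g • w : Lˣ) : L) := by
  rw [Algebra.norm_eq_prod_automorphisms, Units.coe_prod]
  rfl

theorem exists_prod_eq [IsGalois K L] (hC : ∀ M : IntermediateField K L, Curves.IsCr M 1)
    (N : Subgroup (L ≃ₐ[K] L)) [Fintype N] (w : Lˣ) (hw : ∀ n : N, (n : L ≃ₐ[K] L) • w = w) :
    ∃ v : Lˣ, ∏ n : N, (n : L ≃ₐ[K] L) • v = w := by
  classical
  set M := IntermediateField.fixedField N
  have hwM : (w : L) ∈ M := fun n => congrArg Units.val (hw n)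
  obtain ⟨z, hz⟩ := norm_surjective (E := L) (hC M) ⟨(w : L), hwM⟩
  have hz0 : z ≠ 0 := by
    rintro rfl
    rw [Algebra.norm_zero] at hz
    exact w.ne_zero (congrArg Subtype.val hz).symm
  let e : N ≃ (L ≃ₐ[M] L) :=
    (MulEquiv.subgroupCongr (IntermediateField.fixingSubgroup_fixedField N).symm).toEquiv.trans
      (IntermediateField.fixingSubgroupEquiv M).toEquiv
  refine ⟨Units.mk0 z hz0, Units.ext ?_⟩
  have h := congrArg (algebraMap M L) hz
  rw [Algebra.norm_eq_prod_automorphisms] at h
  rw [Units.coe_prod]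
  rw [← Equiv.prod_comp e] at h
  exact h

theorem ker_pgroup [IsGalois K L] (hC : ∀ M : IntermediateField K L, Curves.IsCr M 1) (p : ℕ) [Fact p.Prime] :
    ∀ (n : ℕ) (H : Subgroup (L ≃ₐ[K] L)) [Fintype H], Nat.card H = p ^ n → ∀ u : Lˣ,
      ∏ h : H, (h : L ≃ₐ[K] L) • u = 1 →
      u ∈ Subgroup.closure {v : Lˣ | ∃ (w : Lˣ) (g : L ≃ₐ[K] L), (v : L) = (w : L) / g (w : L)} := by
  classical
  set I := Subgroup.closure {v : Lˣ | ∃ (w : Lˣ) (g : L ≃ₐ[K] L), (v : L) = (w : L) / g (w : L)} with hI
  have hgen : ∀ (w : Lˣ) (g : L ≃ₐ[K] L), w / g • w ∈ I := fun w g =>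
    Subgroup.subset_closure ⟨w, g, by rw [Units.val_div_eq_div_val]; rfl⟩
  intro n
  induction n with
  | zero =>
    intro H _ hH u hu
    rw [pow_zero, Nat.card_eq_fintype_card, Fintype.card_eq_one_iff] at hH
    obtain ⟨h₀, hh⟩ := hH
    rw [Fintype.prod_eq_single h₀ (fun h hne => absurd (hh h) hne), ← hh 1] at hu
    simp at hu
    rw [hu]; exact one_mem I
  | succ n ih =>
    intro H _ hH u hu
    obtain ⟨N', hN'⟩ := Sylow.exists_subgroup_card_pow_prime (G := H) p (n := n) (hH ▸ pow_dvd_pow p (Nat.le_succ n))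
    have hidx : N'.index = p := by
      have h := N'.index_mul_card
      rw [hN', hH, pow_succ'] at h
      exact Nat.eq_of_mul_eq_mul_right (pow_pos (Nat.Prime.pos Fact.out) n) h
    haveI hnorm : N'.Normal := Subgroup.normal_of_index_eq_minFac_card (by
      rw [hidx, hH, Nat.pow_minFac (Nat.succ_ne_zero n), (Fact.out : p.Prime).minFac_eq])
    obtain ⟨h, hh⟩ : ∃ h : H, h ∉ N' := by
      by_contra! hall
      have : N' = ⊤ := Subgroup.eq_top_iff' _ |>.2 hall
      rw [this, Subgroup.index_top] at hidx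
      exact (Fact.out : p.Prime).ne_one hidx.symm
    have hpN : h ^ p ∈ N' := hidx ▸ Subgroup.pow_index_mem N' h
    let E : Fin p × N' → H := fun q => h ^ (q.1 : ℕ) * q.2
    have hE : Function.Bijective E := by
      rw [Fintype.bijective_iff_injective_and_card]
      refine ⟨?_, ?_⟩
      · rintro ⟨i, a⟩ ⟨j, b⟩ hab
        simp only [E] at hab
        have hij : (i : ℕ) = j := by
          have h1 : (QuotientGroup.mk (h ^ (i : ℕ)) : H ⧸ N') = QuotientGroup.mk (h ^ (j : ℕ)) := by
            rw [QuotientGroup.eq, show (h ^ (i : ℕ))⁻¹ * h ^ (j : ℕ) = (a : H) * (b : H)⁻¹ by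
              rw [eq_mul_inv_iff_mul_eq, mul_assoc, ← hab, inv_mul_cancel_left]]
            exact mul_mem a.2 (inv_mem b.2)
          have hord : orderOf (QuotientGroup.mk h : H ⧸ N') = p := orderOf_eq_prime
            (by rw [← QuotientGroup.mk_pow, QuotientGroup.eq_one_iff]; exact hpN)
            (by rw [Ne, QuotientGroup.eq_one_iff]; exact hh)
          rw [QuotientGroup.mk_pow, QuotientGroup.mk_pow] at h1
          exact pow_injOn_Iio_orderOf (by rw [hord]; exact i.2) (by rw [hord]; exact j.2) h1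
        rw [hij] at hab
        exact Prod.ext (Fin.ext hij) (Subtype.ext (mul_left_cancel hab))
      · rw [Fintype.card_prod, Fintype.card_fin, ← Nat.card_eq_fintype_card, ← Nat.card_eq_fintype_card, hN', hH, pow_succ']
    let NN : Lˣ → Lˣ := fun x => ∏ a : N', ((a : H) : L ≃ₐ[K] L) • x
    have hconj : ∀ (g : H) (a : N'), ∃ b : N', ((a : H) : L ≃ₐ[K] L) * g = g * ((b : H) : L ≃ₐ[K] L) := fun g a =>
      ⟨⟨g⁻¹ * a * g⁻¹⁻¹, hnorm.conj_mem _ a.2 g⁻¹⟩, by push_cast; group⟩
    have hfix : ∀ x (a : N'), ((a : H) : L ≃ₐ[K] L) • NN x = NN x := fun x a => by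
      simp only [NN, Finset.smul_prod']
      exact Fintype.prod_equiv (Equiv.mulLeft a) _ _ fun b => by rw [← mul_smul]; rfl
    have hcomm : ∀ (g : H) x, NN ((g : L ≃ₐ[K] L) • x) = (g : L ≃ₐ[K] L) • NN x := fun g x => by
      simp only [NN, Finset.smul_prod', ← mul_smul]
      refine Fintype.prod_equiv (MulAut.conjNormal (g⁻¹ : H) : MulAut N').toEquiv _ _ fun a => ?_
      congr 1
      show _ = (g : L ≃ₐ[K] L) * (((MulAut.conjNormal (g⁻¹ : H) a : N') : H) : L ≃ₐ[K] L)
      rw [MulAut.conjNormal_apply]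
      push_cast; group
    set w₀ := NN u with hw₀
    let P : ℕ → Lˣ := fun i => ∏ j ∈ Finset.range i, ((h : L ≃ₐ[K] L) ^ j) • w₀
    have hPsucc : ∀ i, P (i + 1) = w₀ * (h : L ≃ₐ[K] L) • P i := fun i => by
      simp only [P, Finset.prod_range_succ', pow_zero, one_smul, Finset.smul_prod', pow_succ', mul_smul]
      rw [mul_comm]
    have hPp : P p = 1 := by
      simp only [P]
      rw [← hu, ← (Equiv.ofBijective E hE).prod_comp, Fintype.prod_prod_type, ← Fin.prod_univ_eq_prod_range]
      refine Finset.prod_congr rfl fun i _ => ?_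
      simp only [hw₀, NN, Finset.smul_prod']
      refine Finset.prod_congr rfl fun a _ => ?_
      rw [← mul_smul]
      congr 1
    let Φ : L → L := fun θ => ∑ q : Fin p × N', (P (q.1 : ℕ) : L) * ((E q : H) : L ≃ₐ[K] L) θ
    obtain ⟨θ, hθ⟩ : ∃ θ, Φ θ ≠ 0 := by
      by_contra! hall
      have hli : LinearIndependent L (fun q : Fin p × N' => ((((E q : H) : L ≃ₐ[K] L) : L →* L) : L → L)) :=
        (linearIndependent_monoidHom L L).comp (fun q : Fin p × N' => (((E q : H) : L ≃ₐ[K] L) : L →* L))
          fun q q' hq => hE.1 (Subtype.ext (AlgEquiv.ext fun x => DFunLike.congr_fun hq x))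
      have h0 := Fintype.linearIndependent_iff.1 hli (fun q => (P (q.1 : ℕ) : L)) (funext fun x => by
        simp only [Finset.sum_apply, Pi.smul_apply, smul_eq_mul, Pi.zero_apply]
        exact hall x) (⟨0, (Fact.out : p.Prime).pos⟩, 1)
      exact (P _).ne_zero h0
    set W : Lˣ := Units.mk0 (Φ θ) hθ with hW
    set S : ℕ → L := fun i => (P i : L) * ∑ a : N', ((h : L ≃ₐ[K] L) ^ i * ((a : H) : L ≃ₐ[K] L)) θ with hS
    have hΦS : Φ θ = ∑ i ∈ Finset.range p, S i := by
      rw [← Fin.sum_univ_eq_sum_range]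
      simp only [Φ, S, Fintype.sum_prod_type, Finset.mul_sum]
      exact Finset.sum_congr rfl fun i _ => Finset.sum_congr rfl fun a _ => by simp [E]
    have hhW : w₀ * (h : L ≃ₐ[K] L) • W = W := by
      refine Units.ext ?_
      show (w₀ : L) * (h : L ≃ₐ[K] L) (Φ θ) = Φ θ
      rw [hΦS, map_sum, Finset.mul_sum]
      have hstep : ∀ i, (w₀ : L) * (h : L ≃ₐ[K] L) (S i) = S (i + 1) := fun i => by
        simp only [S, map_mul, map_sum, hPsucc, Units.val_mul, ← mul_assoc, pow_succ', AlgEquiv.mul_apply]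
        rfl
      simp only [hstep]
      have hSp : S p = S 0 := by
        simp only [S, hPp, pow_zero, one_mul, show P 0 = 1 from rfl]
        congr 1
        refine Fintype.sum_equiv (Equiv.mulLeft (⟨h ^ p, hpN⟩ : N')) _ _ fun a => ?_
        simp
      have h1 := Finset.sum_range_succ' S p
      rw [Finset.sum_range_succ S p, hSp] at h1
      exact (add_right_cancel h1).symm
    have hWfix : ∀ a : N', ((a : H) : L ≃ₐ[K] L) • W = W := by
      intro a
      refine Units.ext ?_
      show ((a : H) : L ≃ₐ[K] L) (Φ θ) = Φ θ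
      rw [hΦS, map_sum]
      refine Finset.sum_congr rfl fun i _ => ?_
      have hPfix : ((a : H) : L ≃ₐ[K] L) • P i = P i := by
        simp only [P, Finset.smul_prod']
        refine Finset.prod_congr rfl fun j _ => ?_
        obtain ⟨b, hb⟩ := hconj (h ^ j) a
        rw [← mul_smul, show ((h : L ≃ₐ[K] L) ^ j) = ((h ^ j : H) : L ≃ₐ[K] L) by simp, hb, mul_smul, hw₀, hfix]
      simp only [S, map_mul, map_sum]
      rw [show ((a : H) : L ≃ₐ[K] L) (P i : L) = (P i : L) from congrArg Units.val hPfix]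
      congr 1
      obtain ⟨b, hb⟩ := hconj (h ^ i) a
      refine Fintype.sum_equiv (Equiv.mulLeft b) _ _ fun c => ?_
      rw [← AlgEquiv.mul_apply]
      congr 1
      push_cast at hb
      rw [← mul_assoc, hb, mul_assoc]
      simp
    haveI : Fintype (N'.map H.subtype) := Fintype.ofFinite _
    let eN : N' ≃ (N'.map H.subtype) := (N'.equivMapOfInjective _ H.subtype_injective).toEquiv
    obtain ⟨v, hv⟩ := exists_prod_eq hC (N'.map H.subtype) W (fun m => by
      obtain ⟨a, rfl⟩ := eN.surjective m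
      exact hWfix a)
    have hNv : NN v = W := by
      rw [← hv]
      exact eN.prod_comp (fun m : (N'.map H.subtype) => (m : L ≃ₐ[K] L) • v)
    have hu' : NN (u / (v / (h : L ≃ₐ[K] L) • v)) = 1 := by
      simp only [NN, smul_div', Finset.prod_div_distrib]
      show NN u / (NN v / NN ((h : L ≃ₐ[K] L) • v)) = 1
      rw [hcomm, hNv, ← hw₀, div_eq_one, eq_div_iff_mul_eq']
      exact hhW
    have hcard : Nat.card (N'.map H.subtype) = p ^ n := by rw [← hN']; exact (Nat.card_congr eN).symm
    have hmem := ih (N'.map H.subtype) hcard (u / (v / (h : L ≃ₐ[K] L) • v)) (by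
      rw [← eN.prod_comp]
      exact hu')
    have := mul_mem hmem (hgen v (h : L ≃ₐ[K] L))
    rwa [div_mul_cancel] at this

theorem ker_norm [IsGalois K L] (hC : ∀ M : IntermediateField K L, Curves.IsCr M 1) (u : Lˣ)
    (hu : ∏ g : L ≃ₐ[K] L, g • u = 1) :
    u ∈ Subgroup.closure {v : Lˣ | ∃ (w : Lˣ) (g : L ≃ₐ[K] L), (v : L) = (w : L) / g (w : L)} := by
  classical
  set I := Subgroup.closure {v : Lˣ | ∃ (w : Lˣ) (g : L ≃ₐ[K] L), (v : L) = (w : L) / g (w : L)} with hI
  have hgen : ∀ (w : Lˣ) (g : L ≃ₐ[K] L), w / g • w ∈ I := fun w g =>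
    Subgroup.subset_closure ⟨w, g, by rw [Units.val_div_eq_div_val]; rfl⟩
  have hp : ∀ p : ℕ, p.Prime → ∃ m, ¬ p ∣ m ∧ u ^ m ∈ I := by
    intro p hp
    haveI : Fact p.Prime := ⟨hp⟩
    obtain ⟨P⟩ : Nonempty (Sylow p (L ≃ₐ[K] L)) := inferInstance
    haveI : Fintype (P : Subgroup (L ≃ₐ[K] L)) := Fintype.ofFinite _
    haveI : Fintype ((L ≃ₐ[K] L) ⧸ (P : Subgroup (L ≃ₐ[K] L))) := Fintype.ofFinite _
    refine ⟨(P : Subgroup (L ≃ₐ[K] L)).index, P.not_dvd_index, ?_⟩
    set r : Lˣ := ∏ q : (L ≃ₐ[K] L) ⧸ (P : Subgroup (L ≃ₐ[K] L)), (q.out)⁻¹ • u with hr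
    have hPr : ∏ a : (P : Subgroup (L ≃ₐ[K] L)), (a : L ≃ₐ[K] L) • r = 1 := by
      rw [← hu]
      simp only [hr, Finset.smul_prod', ← mul_smul]
      rw [← Fintype.prod_prod_type']
      refine Fintype.prod_bijective (fun x : ↥(P : Subgroup (L ≃ₐ[K] L)) × ((L ≃ₐ[K] L) ⧸ (P : Subgroup (L ≃ₐ[K] L))) =>
        (x.1 : L ≃ₐ[K] L) * (x.2.out)⁻¹) ⟨?_, ?_⟩ _ _ fun x => rfl
      · rintro ⟨a, q⟩ ⟨b, q'⟩ hab
        simp only at hab
        have h1 : q.out * (a : L ≃ₐ[K] L)⁻¹ = q'.out * (b : L ≃ₐ[K] L)⁻¹ := by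
          simpa using congrArg (·⁻¹) hab
        have hq : q = q' := by
          rw [← q.out_eq, ← q'.out_eq]
          refine QuotientGroup.eq.2 ?_
          have : q.out⁻¹ * q'.out = (a : L ≃ₐ[K] L)⁻¹ * (b : L ≃ₐ[K] L) := by
            rw [show q'.out = q.out * (a : L ≃ₐ[K] L)⁻¹ * (b : L ≃ₐ[K] L) by rw [h1]; group]; group
          rw [this]; exact mul_mem (inv_mem a.2) b.2
        subst hq
        exact Prod.ext (Subtype.ext (mul_right_cancel hab)) rfl
      · intro g
        set q : (L ≃ₐ[K] L) ⧸ (P : Subgroup (L ≃ₐ[K] L)) := QuotientGroup.mk g⁻¹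
        have hmem : g * q.out ∈ (P : Subgroup (L ≃ₐ[K] L)) := by
          have := QuotientGroup.eq.1 (q.out_eq).symm
          rwa [inv_inv] at this
        exact ⟨(⟨_, hmem⟩, q), by simp⟩
    have hcard : ∃ n, Nat.card (P : Subgroup (L ≃ₐ[K] L)) = p ^ n := P.isPGroup'.exists_card_eq
    obtain ⟨n, hn⟩ := hcard
    have hrI := ker_pgroup hC p n _ hn r hPr
    have h2 : u ^ (P : Subgroup (L ≃ₐ[K] L)).index / r ∈ I := by
      rw [Subgroup.index, Nat.card_eq_fintype_card, ← Finset.card_univ, ← Finset.prod_const, hr, ← Finset.prod_div_distrib]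
      exact Subgroup.prod_mem _ fun q _ => hgen u _
    have := mul_mem h2 hrI
    rwa [div_mul_cancel] at this
  have h1 : orderOf (QuotientGroup.mk u : Lˣ ⧸ I) = 1 := by
    by_contra hne
    obtain ⟨p, hpp, hpd⟩ := Nat.exists_prime_and_dvd hne
    obtain ⟨m, hm, hum⟩ := hp p hpp
    refine hm (hpd.trans (orderOf_dvd_of_pow_eq_one ?_))
    rw [← QuotientGroup.mk_pow, QuotientGroup.eq_one_iff]
    exact hum
  rwa [orderOf_eq_one_iff, QuotientGroup.eq_one_iff] at h1

end Ker

/-- Let k be an algebraically closed field, K an extension field of k which is finitely generated of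
transcendence degree 1 (the function field of an irreducible curve over k), and L a finite Galois
extension of K. Then (1) the norm map from L to K is surjective, and (2) a nonzero element of L has
norm 1 if and only if it lies in the subgroup of units generated by the elements w / g(w), w a unit
of L and g an automorphism of L over K. (The published statement is for the function fields of an
irreducible curve and of a component of its preimage under a finite abelian étale cover of the
ambient variety; this row takes any finite Galois extension of a function field of transcendence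
degree 1 over an algebraically closed field.) -/
theorem result
    (k : Type u) [Field k] [IsAlgClosed k] (K L : Type u) [Field K] [Field L]
    [Algebra k K] [Algebra K L] [FiniteDimensional K L] [IsGalois K L]
    (hfg : (⊤ : IntermediateField k K).FG) (htr : Algebra.trdeg k K = 1) :
    Function.Surjective (Algebra.norm K : L → K) ∧
      ∀ u : Lˣ, Algebra.norm K (u : L) = 1 ↔
        u ∈ Subgroup.closure {v : Lˣ | ∃ (w : Lˣ) (g : L ≃ₐ[K] L), (v : L) = (w : L) / g (w : L)} := by
  have hCi : Curves.IsCi K 1 := Groth.Agent.TsenLang.tsen_lang k K 1 (by rw [htr, Nat.cast_one])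
  have hC : ∀ M : IntermediateField K L, Curves.IsCr M 1 := fun M =>
    Groth.Agent.TsenLang.isCr_one_of_isCi (Groth.Agent.TsenLang.isCi_finiteDimensional hCi M)
  refine ⟨fun a => norm_surjective (Groth.Agent.TsenLang.isCr_one_of_isCi hCi) a, fun u => ⟨fun hu => ?_, fun hu => ?_⟩⟩
  · refine ker_norm hC u (Units.ext ?_)
    rw [← norm_units, hu, map_one]
    rfl
  · induction hu using Subgroup.closure_induction with
    | mem v hv =>
      obtain ⟨w, g, hv⟩ := hv
      rw [hv, div_eq_mul_inv, map_mul, Algebra.norm_inv,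
        show Algebra.norm K (g (w : L)) = Algebra.norm K (w : L) from Algebra.norm_eq_of_algEquiv g _, mul_inv_cancel₀]
      exact fun h => w.ne_zero (Algebra.norm_eq_zero_iff.1 h)
    | one => simp
    | mul a b _ _ ha hb => rw [Units.val_mul, map_mul, ha, hb, one_mul]
    | inv a _ ha => rw [Units.val_inv_eq_inv_val, Algebra.norm_inv, ha, inv_one]

end Groth.Agent.S16333
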