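-- statement InvTh.GrothFrozen.S16335 (Groth/Statements/S16335.lean; the theorem InvTh.invariants_baseChange_of_card_isUnit);
import Groth.Statements.S16335
import Mathlib

set_option autoImplicit false
universe u v w w'
open TensorProduct
open InvTh

namespace Groth.Agent.S16335

/-- Let `R` be a commutative ring with an action of a finite group `Γ` by ring automorphisms such that
the order of `Γ` is invertible in `R`, and let `A → R` be injective with image exactly the
invariants `R^Γ`, the action being `A`-linear. Then for every commutative `A`-algebra `S`, with `Γ`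
acting on `S ⊗_A R` through the factor `R`, the map `S → S ⊗_A R`, `s ↦ s ⊗ 1`, is injective and its
image is exactly the set of `Γ`-fixed elements: `S ≅ (S ⊗_A R)^Γ`. No flatness of `S` over `A` is
assumed; the invertibility of the order of `Γ` replaces it. This is the affine statement that for a
tame quotient the coarse space commutes with arbitrary base change. (The published lemma is the
statement that the coarse moduli space of a tame Deligne–Mumford stack commutes with arbitrary base
change, whose proof reduces to this ring statement. The published lemma also asserts the analogous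
statement for the reduced fibre product when the base-change scheme is reduced; that clause is not
part of this row.) -/
theorem result
    (A : Type u) [CommRing A] (R : Type v) [CommRing R] [Algebra A R]
    (Γ : Type w) [Group Γ] [Finite Γ] [MulSemiringAction Γ R] [SMulCommClass Γ A R]
    [Algebra.IsInvariant A R Γ] (hinj : Function.Injective (algebraMap A R))
    (hΓ : IsUnit (Nat.card Γ : R))
    (S : Type w') [CommRing S] [Algebra A S] :
    Function.Injective (fun s : S => s ⊗ₜ[A] (1 : R)) ∧
      ∀ x : S ⊗[A] R,
        (∀ γ : Γ, Algebra.TensorProduct.map (AlgHom.id A S) (MulSemiringAction.toAlgHom A R γ) x = x) →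
          x ∈ Set.range (fun s : S => s ⊗ₜ[A] (1 : R)) := by
  classical
  cases nonempty_fintype Γ
  obtain ⟨u, hu⟩ := hΓ.exists_left_inv
  obtain ⟨a, ha⟩ := Algebra.IsInvariant.isInvariant (A := A) (G := Γ) u (fun γ => by
    have h1 := congrArg (γ • ·) hu
    simp only [smul_mul', smul_one] at h1
    rw [show γ • (Nat.card Γ : R) = (Nat.card Γ : R) from map_natCast (MulSemiringAction.toRingHom Γ R γ) _] at h1
    exact hΓ.mul_right_cancel (h1.trans hu.symm))
  have hinv : ∀ r : R, ∃ b : A, algebraMap A R b = u * ∑ γ : Γ, γ • r := fun r =>
    Algebra.IsInvariant.isInvariant (A := A) (G := Γ) _ fun δ => by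
      rw [smul_mul', ← ha, smul_algebraMap, Finset.smul_sum]
      simp_rw [smul_smul δ]
      exact congrArg (algebraMap A R a * ·) (Equiv.sum_comp (Equiv.mulLeft δ) fun γ => γ • r)
  choose σ hσ using hinv
  let π : R →ₗ[A] A :=
    { toFun := σ
      map_add' := fun x y => hinj (by rw [map_add, hσ, hσ, hσ, ← mul_add, ← Finset.sum_add_distrib]; simp only [smul_add])
      map_smul' := fun c x => hinj (by
        rw [RingHom.id_apply, smul_eq_mul, map_mul, hσ, hσ, Algebra.smul_def]
        simp only [smul_mul', smul_algebraMap, ← Finset.mul_sum]
        ring) }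
  have hπ1 : π 1 = 1 := hinj (by
    show algebraMap A R (σ 1) = _
    rw [hσ, map_one]
    simp only [smul_one, Finset.sum_const, Finset.card_univ, nsmul_eq_mul, mul_one, ← Nat.card_eq_fintype_card]
    exact hu)
  refine ⟨fun s t hst => ?_, fun x hx => ⟨(TensorProduct.rid A S) (π.lTensor S x), ?_⟩⟩
  · have := congrArg (fun z => (TensorProduct.rid A S) (π.lTensor S z)) hst
    simpa [hπ1] using this
  · have key : ∀ z : S ⊗[A] R, (TensorProduct.rid A S) (π.lTensor S z) ⊗ₜ[A] (1 : R) =
        a • ∑ γ : Γ, Algebra.TensorProduct.map (AlgHom.id A S) (MulSemiringAction.toAlgHom A R γ) z := fun z => by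
      induction z using TensorProduct.induction_on with
      | zero => simp
      | add p q hp hq => simp only [map_add, TensorProduct.add_tmul, hp, hq, Finset.sum_add_distrib, smul_add]
      | tmul s r =>
        rw [LinearMap.lTensor_tmul, TensorProduct.rid_tmul, TensorProduct.smul_tmul,
          Finset.sum_congr rfl fun γ _ => by rw [Algebra.TensorProduct.map_tmul, AlgHom.id_apply, MulSemiringAction.toAlgHom_apply],
          ← TensorProduct.tmul_sum, ← TensorProduct.tmul_smul]
        congr 1
        rw [Algebra.smul_def, Algebra.smul_def, mul_one, ha]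
        exact hσ r
    show _ ⊗ₜ[A] (1 : R) = x
    rw [key, Finset.sum_congr rfl fun γ _ => hx γ, Finset.sum_const, Finset.card_univ, ← Nat.card_eq_fintype_card,
      ← Nat.cast_smul_eq_nsmul A, smul_smul]
    rw [show a * (Nat.card Γ : A) = 1 from hinj (by rw [map_mul, ha, map_natCast, map_one, hu]), one_smul]

end Groth.Agent.S16335
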