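-- statement InvTh.GrothFrozen.S16337 (Groth/Statements/S16337.lean; the theorem InvTh.fixedPoints_mod_ideal_of_card_isUnit);
import Groth.Statements.S16337
import Mathlib

set_option autoImplicit false
universe u v w
open InvTh

namespace Groth.Agent.S16337

/-- Let `A` be a commutative ring, `Γ` a finite group whose order is invertible in `A`, `M` an
`A`-module with an `A`-linear action of `Γ`, and `I` an ideal of `A`. Then reduction modulo `I`
induces a bijection `M^Γ / I·M^Γ ≅ (M / IM)^Γ`: (a) an element of `M` fixed by `Γ` modulo `IM` is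
congruent modulo `IM` to a `Γ`-fixed element, and (b) a `Γ`-fixed element lying in `IM` lies in
`I·M^Γ`, where `M^Γ` is the submodule of `Γ`-fixed elements. (The published lemma says that
push-forward to the coarse space of a tame stack over a complete local base commutes with reduction
modulo powers of the maximal ideal; this row is the module statement its proof establishes, for an
arbitrary ideal.) -/
theorem result
    (A : Type u) [CommRing A] (Γ : Type v) [Group Γ] [Finite Γ] (hΓ : IsUnit (Nat.card Γ : A))
    (M : Type w) [AddCommGroup M] [Module A M] [DistribMulAction Γ M] [SMulCommClass Γ A M]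
    (I : Ideal A) :
    (∀ x : M, (∀ γ : Γ, γ • x - x ∈ I • (⊤ : Submodule A M)) →
        ∃ y : M, (∀ γ : Γ, γ • y = y) ∧ x - y ∈ I • (⊤ : Submodule A M)) ∧
      ∀ y : M, (∀ γ : Γ, γ • y = y) → y ∈ I • (⊤ : Submodule A M) →
        y ∈ I • Submodule.span A {m : M | ∀ γ : Γ, γ • m = m} := by
  classical
  cases nonempty_fintype Γ
  obtain ⟨c, hc⟩ := hΓ.exists_left_inv
  let P : M →ₗ[A] M := c • ∑ γ : Γ, DistribSMul.toLinearMap A M γ
  have hP : ∀ m, P m = c • ∑ γ : Γ, γ • m := fun m => by simp [P, LinearMap.sum_apply]
  have hfix : ∀ m (δ : Γ), δ • P m = P m := fun m δ => by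
    rw [hP, smul_comm, Finset.smul_sum]
    simp_rw [smul_smul δ]
    exact congrArg (c • ·) (Equiv.sum_comp (Equiv.mulLeft δ) fun γ => γ • m)
  have hn : ∀ m : M, c • ∑ _γ : Γ, m = m := fun m => by
    rw [Finset.sum_const, Finset.card_univ, ← Nat.card_eq_fintype_card, ← Nat.cast_smul_eq_nsmul A, smul_smul, hc, one_smul]
  refine ⟨fun x hx => ⟨P x, hfix x, ?_⟩, fun y hy hyI => ?_⟩
  · rw [show x - P x = c • ∑ γ : Γ, (x - γ • x) by rw [Finset.sum_sub_distrib, smul_sub, hn, hP]]
    exact Submodule.smul_mem _ _ (Submodule.sum_mem _ fun γ _ => by rw [← neg_sub]; exact neg_mem (hx γ))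
  · have : y = P y := by rw [hP, Finset.sum_congr rfl fun γ _ => hy γ, hn]
    rw [this]
    have := Submodule.mem_map_of_mem (f := P) hyI
    rw [Submodule.map_smul''] at this
    refine Submodule.smul_mono le_rfl ?_ this
    rintro _ ⟨m, -, rfl⟩
    exact Submodule.subset_span fun δ => hfix m δ

end Groth.Agent.S16337
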