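import Groth.Statements.S16343
import Mathlib

set_option autoImplicit false
open KatoHom

namespace Groth.Agent.S16343

/-- Let P be a set of primes and π : A → T a surjection of abelian groups whose kernel is ℓ-divisible
for every ℓ ∈ P, with T a torsion group; let T(P) be the subgroup of elements of T killed by a
positive integer all of whose prime factors lie in P, and T' the subgroup of elements killed by a
positive integer none of whose prime factors lies in P. Then the preimage π⁻¹(T') is ℓ-divisible for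
every ℓ ∈ P, and π has a section s over T(P) for which (d, t) ↦ d + s(t) is a bijection from π⁻¹(T')
× T(P) onto A, so that A is the direct sum of π⁻¹(T') and a copy of T(P). (The decomposition is
expressed through a section of π over T(P).) -/
theorem result
    {A T : Type*} [AddCommGroup A] [AddCommGroup T] (P : Set ℕ) (hP : ∀ p ∈ P, p.Prime)
    (π : A →+ T) (hπ : Function.Surjective π) (hT : ∀ t : T, ∃ n : ℕ, 0 < n ∧ n • t = 0)
    (hD : ∀ ℓ ∈ P, ∀ x ∈ π.ker, ∃ y ∈ π.ker, ℓ • y = x)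
    (TP T' : AddSubgroup T)
    (hTP : ∀ t, t ∈ TP ↔ ∃ n : ℕ, 0 < n ∧ (∀ p : ℕ, p.Prime → p ∣ n → p ∈ P) ∧ n • t = 0)
    (hT' : ∀ t, t ∈ T' ↔ ∃ n : ℕ, 0 < n ∧ (∀ p : ℕ, p.Prime → p ∣ n → p ∉ P) ∧ n • t = 0) :
    (∀ ℓ ∈ P, ∀ x ∈ T'.comap π, ∃ y ∈ T'.comap π, ℓ • y = x) ∧
    ∃ s : TP →+ A, (∀ t : TP, π (s t) = (t : T)) ∧
      Function.Bijective (fun q : (T'.comap π) × TP => (q.1 : A) + s q.2) := by
  have hcop : ∀ (p n : ℕ), p.Prime → ¬ p ∣ n → ∃ a b : ℤ, a * (p : ℤ) + b * (n : ℤ) = 1 := fun p n hp h =>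
    (Nat.isCoprime_iff_coprime.mpr (hp.coprime_iff_not_dvd.mpr h))
  refine ⟨fun ℓ hℓ x hx => ?_, ?_⟩
  · obtain ⟨n, hn, hnP, hnx⟩ := (hT' (π x)).mp hx
    obtain ⟨a, b, hab⟩ := hcop ℓ n (hP ℓ hℓ) (fun h => hnP ℓ (hP ℓ hℓ) h hℓ)
    have hk : x - ℓ • (a • x) ∈ π.ker := by
      have h0 : (n : ℤ) • π x = 0 := by rw [natCast_zsmul]; exact hnx
      rw [AddMonoidHom.mem_ker, map_sub, map_nsmul, map_zsmul, sub_eq_zero]
      calc π x = (a * (ℓ : ℤ) + b * (n : ℤ)) • π x := by rw [hab, one_zsmul]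
        _ = ℓ • a • π x := by
          rw [add_zsmul, mul_smul b, h0, smul_zero, add_zero, mul_comm, mul_smul, natCast_zsmul]
    obtain ⟨y, hy, hy'⟩ := hD ℓ hℓ _ hk
    refine ⟨a • x + y, ?_, by rw [nsmul_add, hy']; abel⟩
    show π (a • x + y) ∈ T'
    rw [map_add, map_zsmul, AddMonoidHom.mem_ker.mp hy, add_zero]
    exact T'.zsmul_mem hx a
  let Q : AddSubgroup A :=
    { carrier := {a | ∃ n : ℕ, 0 < n ∧ (∀ p : ℕ, p.Prime → p ∣ n → p ∈ P) ∧ n • a = 0}
      zero_mem' := ⟨1, one_pos, fun p hp h => absurd (Nat.dvd_one.mp h) hp.ne_one, smul_zero 1⟩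
      add_mem' := by
        rintro a b ⟨n, hn, hnP, ha⟩ ⟨m, hm, hmP, hb⟩
        refine ⟨n * m, Nat.mul_pos hn hm, fun p hp h => ((hp.dvd_mul.mp h).elim (hnP p hp) (hmP p hp)), ?_⟩
        rw [nsmul_add, mul_comm n m, mul_nsmul' a m n, ha, smul_zero, zero_add, mul_comm m n,
          mul_nsmul' b n m, hb, smul_zero]
      neg_mem' := by rintro a ⟨n, hn, hnP, ha⟩; exact ⟨n, hn, hnP, by rw [smul_neg, ha, neg_zero]⟩ }
  let K0 : AddSubgroup A := π.ker ⊓ Q
  have hdiv : ∀ m : ℕ, m ≠ 0 → ∀ x ∈ K0, ∃ y ∈ K0, m • y = x := by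
    intro m
    induction m using induction_on_primes with
    | zero => exact fun h => absurd rfl h
    | one => exact fun _ x hx => ⟨x, hx, one_nsmul x⟩
    | prime_mul p m hp ih =>
      intro hpm x hx
      obtain ⟨n, hn, hnP, hnx⟩ := hx.2
      obtain ⟨y, hy, hyx⟩ : ∃ y ∈ K0, p • y = x := by
        by_cases hpP : p ∈ P
        · obtain ⟨y, hy, hyx⟩ := hD p hpP x hx.1
          refine ⟨y, ⟨hy, n * p, Nat.mul_pos hn hp.pos, fun q hq h => ?_, by rw [mul_nsmul', hyx, hnx]⟩, hyx⟩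
          rcases hq.dvd_mul.mp h with h | h
          · exact hnP q hq h
          · rwa [(Nat.prime_dvd_prime_iff_eq hq hp).mp h]
        · obtain ⟨a, b, hab⟩ := hcop p n hp (fun h => hpP (hnP p hp h))
          refine ⟨a • x, K0.zsmul_mem hx a, ?_⟩
          have h0 : (n : ℤ) • x = 0 := by rw [natCast_zsmul]; exact hnx
          conv_rhs => rw [← one_zsmul x, ← hab, add_zsmul, mul_smul b, h0, smul_zero, add_zero,
            mul_comm, mul_smul, natCast_zsmul]
      obtain ⟨z, hz, hzy⟩ := ih (fun h => hpm (by rw [h, mul_zero])) y hy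
      exact ⟨z, hz, by rw [mul_nsmul', hzy, hyx]⟩
  have hdiv' : ∀ m : ℤ, m ≠ 0 → Function.Surjective fun y : K0 => m • y := by
    intro m hm x
    obtain ⟨k, rfl | rfl⟩ := Int.eq_nat_or_neg m
    · obtain ⟨y, hy, h⟩ := hdiv k (by simpa using hm) x.1 x.2
      exact ⟨⟨y, hy⟩, Subtype.ext (by simpa using h)⟩
    · obtain ⟨y, hy, h⟩ := hdiv k (by simpa using hm) x.1 x.2
      exact ⟨⟨-y, K0.neg_mem hy⟩, Subtype.ext (by simpa using h)⟩
  letI : DivisibleBy K0 ℤ :=
    { div := fun a m => if h : m = 0 then 0 else (hdiv' m h a).choose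
      div_zero := fun a => dif_pos rfl
      div_cancel := fun {m} a h => by rw [dif_neg h]; exact (hdiv' m h a).choose_spec }
  obtain ⟨r, hr⟩ := (Module.Baer.of_divisible K0).extension_property_addMonoidHom
    (AddSubgroup.inclusion (inf_le_right : K0 ≤ Q)) (AddSubgroup.inclusion_injective _) (AddMonoidHom.id K0)
  have hlift : ∀ t : TP, ∃ a : Q, π (a : A) = (t : T) := by
    intro t
    obtain ⟨n, hn, hnP, hnt⟩ := (hTP (t : T)).mp t.2
    obtain ⟨a, ha⟩ := hπ t
    obtain ⟨y, hy, hy'⟩ : ∃ y ∈ π.ker, n • y = n • a := by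
      have : ∀ m : ℕ, (∀ p : ℕ, p.Prime → p ∣ m → p ∈ P) → m ≠ 0 → ∀ x ∈ π.ker, ∃ y ∈ π.ker, m • y = x := by
        intro m
        induction m using induction_on_primes with
        | zero => exact fun _ h => absurd rfl h
        | one => exact fun _ _ x hx => ⟨x, hx, one_nsmul x⟩
        | prime_mul p m hp ih =>
          intro hP' hpm x hx
          obtain ⟨y, hy, hyx⟩ := hD p (hP' p hp (dvd_mul_right p m)) x hx
          obtain ⟨z, hz, hzy⟩ := ih (fun q hq h => hP' q hq (h.mul_left p)) (fun h => hpm (by rw [h, mul_zero])) y hy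
          exact ⟨z, hz, by rw [mul_nsmul', hzy, hyx]⟩
      exact this n hnP (by omega) _ (by rw [AddMonoidHom.mem_ker, map_nsmul, ha, hnt])
    exact ⟨⟨a - y, n, hn, hnP, by rw [nsmul_sub, hy', sub_self]⟩, by
      rw [map_sub, AddMonoidHom.mem_ker.mp hy, sub_zero, ha]⟩
  choose l hl using hlift
  have huniq : ∀ a b : Q, π (a : A) = π (b : A) → (a : A) - (r a : A) = (b : A) - (r b : A) := by
    intro a b h
    have hk : ((a - b : Q) : A) ∈ K0 :=
      ⟨AddMonoidHom.mem_ker.mpr (by rw [AddSubgroup.coe_sub, map_sub, h, sub_self]), (a - b).2⟩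
    have h1 : r (a - b) = ⟨_, hk⟩ := DFunLike.congr_fun hr ⟨_, hk⟩
    have h2 := congrArg Subtype.val h1
    rw [map_sub, AddSubgroup.coe_sub, AddSubgroup.coe_sub] at h2
    rw [sub_eq_sub_iff_sub_eq_sub, h2]
  let s : TP →+ A := AddMonoidHom.mk' (fun t => (l t : A) - (r (l t) : A)) fun t u => by
    rw [huniq (l (t + u)) (l t + l u) (by rw [hl, AddSubgroup.coe_add, AddSubgroup.coe_add, map_add, hl, hl]),
      map_add, AddSubgroup.coe_add, AddSubgroup.coe_add]
    abel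
  have hs : ∀ t : TP, π (s t) = (t : T) := fun t => by
    show π ((l t : A) - (r (l t) : A)) = _
    rw [map_sub, hl, AddMonoidHom.mem_ker.mp (r (l t)).2.1, sub_zero]
  have hdisj : ∀ t, t ∈ TP → t ∈ T' → t = 0 := by
    intro t h1 h2
    obtain ⟨n, hn, hnP, hnt⟩ := (hTP t).mp h1
    obtain ⟨m, hm, hmP, hmt⟩ := (hT' t).mp h2
    rw [← AddMonoid.addOrderOf_eq_one_iff]
    by_contra hne
    obtain ⟨p, hp, hpd⟩ := Nat.exists_prime_and_dvd hne
    exact hmP p hp (hpd.trans (addOrderOf_dvd_of_nsmul_eq_zero hmt))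
      (hnP p hp (hpd.trans (addOrderOf_dvd_of_nsmul_eq_zero hnt)))
  have hdec : ∀ n : ℕ, 0 < n → ∀ t : T, n • t = 0 → t ∈ T' ⊔ TP := by
    intro n
    induction n using Nat.recOnPosPrimePosCoprime with
    | prime_pow p k hp hk =>
      intro hn t ht
      by_cases hpP : p ∈ P
      · exact AddSubgroup.mem_sup_right ((hTP t).mpr ⟨_, hn, fun q hq h => by
          rwa [(Nat.prime_dvd_prime_iff_eq hq hp).mp (hq.dvd_of_dvd_pow h)], ht⟩)
      · exact AddSubgroup.mem_sup_left ((hT' t).mpr ⟨_, hn, fun q hq h => by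
          rwa [(Nat.prime_dvd_prime_iff_eq hq hp).mp (hq.dvd_of_dvd_pow h)], ht⟩)
    | zero => intro h; omega
    | one => intro _ t ht; rw [one_nsmul] at ht; rw [ht]; exact zero_mem _
    | coprime a b ha hb hab iha ihb =>
      intro _ t ht
      obtain ⟨u, v, huv⟩ := Nat.isCoprime_iff_coprime.mpr hab
      rw [← one_zsmul t, ← huv, add_zsmul, mul_zsmul, mul_zsmul, natCast_zsmul, natCast_zsmul]
      refine add_mem (AddSubgroup.zsmul_mem _ (ihb (by omega) _ ?_) u)
        (AddSubgroup.zsmul_mem _ (iha (by omega) _ ?_) v)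
      · rw [← mul_nsmul', mul_comm]; exact ht
      · rw [← mul_nsmul']; exact ht
  refine ⟨s, hs, ?_, ?_⟩
  · rintro ⟨d, t⟩ ⟨d', t'⟩ h
    simp only at h
    have h' := congrArg π h
    rw [map_add, map_add, hs, hs] at h'
    have htt : t = t' := by
      have h0 : ((t - t' : TP) : T) = π (d' : A) - π (d : A) := by
        rw [AddSubgroup.coe_sub, sub_eq_sub_iff_add_eq_add, add_comm (π (d' : A))]
        rw [add_comm] at h'; exact h'.trans (add_comm _ _)
      have hm : ((t - t' : TP) : T) ∈ T' := by rw [h0]; exact T'.sub_mem d'.2 d.2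
      exact sub_eq_zero.mp (Subtype.ext (hdisj _ (t - t' : TP).2 hm))
    subst htt
    rw [Subtype.ext (add_right_cancel h)]
  · intro a
    obtain ⟨n, hn, hna⟩ := hT (π a)
    obtain ⟨u, hu, v, hv, huv⟩ := AddSubgroup.mem_sup.mp (hdec n hn _ hna)
    refine ⟨(⟨a - s ⟨v, hv⟩, ?_⟩, ⟨v, hv⟩), sub_add_cancel a _⟩
    show π (a - s ⟨v, hv⟩) ∈ T'
    rw [map_sub, hs, ← huv]
    simpa using hu
end Groth.Agent.S16343
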