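import Groth.Statements.S16344
import Mathlib

set_option autoImplicit false
universe u v
open IdeleMod

namespace Groth.Agent.S16344

/-- Let (G_i) be an inverse system, indexed by a directed preorder, of compact Hausdorff topological
abelian groups with continuous surjective transition maps, let G be its limit (the group of
compatible families) and let m be a natural number. Then the canonical map G/mG → lim G_i/mG_i is
bijective: a compatible family that lies in mG_i at every index is m times a compatible family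
(injectivity), and every family that is compatible modulo m agrees modulo m, index by index, with a
compatible family (surjectivity). -/
theorem result
    {ι : Type u} [Preorder ι] [IsDirected ι (· ≤ ·)]
    (G : ι → Type v) [∀ i, AddCommGroup (G i)] [∀ i, TopologicalSpace (G i)]
    [∀ i, IsTopologicalAddGroup (G i)] [∀ i, CompactSpace (G i)] [∀ i, T2Space (G i)]
    (f : ∀ ⦃i j : ι⦄, i ≤ j → (G j →+ G i)) (hf : ∀ i j (h : i ≤ j), Continuous (f h))
    (hid : ∀ i (x : G i), f (le_refl i) x = x)
    (hcomp : ∀ i j k (hij : i ≤ j) (hjk : j ≤ k) (x : G k), f hij (f hjk x) = f (hij.trans hjk) x)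
    (hsurj : ∀ i j (h : i ≤ j), Function.Surjective (f h)) (m : ℕ) :
    (∀ x : ∀ i, G i, (∀ i j (h : i ≤ j), f h (x j) = x i) → (∀ i, ∃ y : G i, m • y = x i) →
        ∃ z : ∀ i, G i, (∀ i j (h : i ≤ j), f h (z j) = z i) ∧ ∀ i, m • z i = x i) ∧
    (∀ y : ∀ i, G i, (∀ i j (h : i ≤ j), ∃ w : G i, f h (y j) - y i = m • w) →
        ∃ x : ∀ i, G i, (∀ i j (h : i ≤ j), f h (x j) = x i) ∧ ∀ i, ∃ w : G i, x i - y i = m • w) := by
  classical
  have key : ∀ S : ∀ i, Set (G i), (∀ i, IsClosed (S i)) → (∀ i, (S i).Nonempty) →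
      (∀ i j (h : i ≤ j), ∀ x ∈ S j, f h x ∈ S i) →
      ∃ x : ∀ i, G i, (∀ i j (h : i ≤ j), f h (x j) = x i) ∧ ∀ i, x i ∈ S i := by
    intro S hS hne hmap
    rcases isEmpty_or_nonempty ι with h0 | h0
    · exact ⟨fun i => isEmptyElim i, fun i => isEmptyElim i, fun i => isEmptyElim i⟩
    let C : ι → Set (∀ i, G i) := fun j => {x | (∀ i, x i ∈ (Set.univ : Set (G i))) ∧ (∀ i (h : i ≤ j), f h (x j) = x i) ∧ x j ∈ S j}
    have hC : ∀ j, IsClosed (C j) := by
      intro j
      have : C j = (⋂ i, ⋂ (h : i ≤ j), {x | f h (x j) = x i}) ∩ (fun x => x j) ⁻¹' S j := by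
        ext x; simp [C]
      rw [this]
      exact (isClosed_iInter fun i => isClosed_iInter fun h =>
        isClosed_eq ((hf i j h).comp (continuous_apply j)) (continuous_apply i)).inter ((hS j).preimage (continuous_apply j))
    have hCne : ∀ j, (C j).Nonempty := by
      intro j
      obtain ⟨s, hs⟩ := hne j
      refine ⟨fun i => if h : i ≤ j then f h s else 0, fun i => Set.mem_univ _, fun i h => ?_, ?_⟩
      · simp only [dif_pos h, dif_pos (le_refl j), hid]
      · simpa only [dif_pos (le_refl j), hid] using hs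
    have hCsub : ∀ j k, j ≤ k → C k ⊆ C j := by
      rintro j k hjk x ⟨-, hx, hxS⟩
      refine ⟨fun i => Set.mem_univ _, fun i h => ?_, ?_⟩
      · rw [← hx j hjk, hcomp, hx i (h.trans hjk)]
      · rw [← hx j hjk]; exact hmap j k hjk _ hxS
    have hdir : Directed (· ⊇ ·) C := fun a b => by
      obtain ⟨c, hac, hbc⟩ := directed_of (· ≤ ·) a b
      exact ⟨c, hCsub a c hac, hCsub b c hbc⟩
    obtain ⟨x, hx⟩ := IsCompact.nonempty_iInter_of_directed_nonempty_isCompact_isClosed C hdir hCne
      (fun j => (hC j).isCompact) hC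
    rw [Set.mem_iInter] at hx
    exact ⟨x, fun i j h => (hx j).2.1 i h, fun i => (hx i).2.2⟩
  refine ⟨fun x hx hdiv => ?_, fun y hy => ?_⟩
  · obtain ⟨z, hz, hzS⟩ := key (fun i => {y | m • y = x i}) (fun i => isClosed_eq (continuous_const_smul m) continuous_const)
      hdiv (fun i j h y hy => by
        show m • f h y = x i
        rw [← map_nsmul, show m • y = x j from hy, hx])
    exact ⟨z, hz, hzS⟩
  · obtain ⟨x, hx, hxS⟩ := key (fun i => Set.range fun w : G i => y i + m • w)
      (fun i => (isCompact_range (continuous_const.add (continuous_const_smul m))).isClosed)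
      (fun i => ⟨_, 0, rfl⟩) (fun i j h => by
        rintro _ ⟨w, rfl⟩
        obtain ⟨w', hw'⟩ := hy i j h
        refine ⟨w' + f h w, ?_⟩
        show y i + m • (w' + f h w) = _
        rw [map_add, map_nsmul, smul_add, ← hw']
        abel)
    refine ⟨x, hx, fun i => ?_⟩
    obtain ⟨w, hw⟩ := hxS i
    exact ⟨w, by rw [← hw]; simp⟩

end Groth.Agent.S16344
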