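import Groth.Statements.S16346
import Mathlib

set_option autoImplicit false
universe u v
open KatoHom

namespace Groth.Agent.S16346

/-- Let P be a set of primes and I_P the set of positive integers all of whose prime factors lie in P.
Let A be an abelian group, (B_n)_{n ∈ I_P} an inverse system of abelian groups with transition maps
B_n → B_m for m ∣ n, and φ_n : A → B_n homomorphisms vanishing on nA and compatible with the
transition maps, so that they induce φ̂ : Â → B̂ on the limits Â = lim A/nA and B̂ = lim B_n (limits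
taken as compatible families). Suppose some N ∈ I_P kills the torsion subgroup of B̂ and kills the
kernel of φ̂ (the latter meaning: a compatible family of residues (a_n) with φ_n(a_n) = 0 for all n
has N a_n ∈ nA for all n). Then the subgroup ⋂_{n ∈ I_P} nA is ℓ-divisible for every ℓ ∈ P, and it
contains every subgroup of A that is ℓ-divisible for all ℓ ∈ P; that is, it is the largest
P-divisible subgroup of A. -/
theorem result
    {A : Type u} [AddCommGroup A] (P : Set ℕ) (hP : ∀ p ∈ P, p.Prime)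
    (IP : Set ℕ) (hIP : ∀ n, n ∈ IP ↔ 0 < n ∧ ∀ p : ℕ, p.Prime → p ∣ n → p ∈ P)
    (B : IP → Type v) [∀ n, AddCommGroup (B n)]
    (g : ∀ ⦃m n : IP⦄, (m : ℕ) ∣ (n : ℕ) → (B n →+ B m))
    (hgid : ∀ (n : IP) (b : B n), g (dvd_refl (n : ℕ)) b = b)
    (hgcomp : ∀ (k m n : IP) (hkm : (k : ℕ) ∣ (m : ℕ)) (hmn : (m : ℕ) ∣ (n : ℕ)) (b : B n),
      g hkm (g hmn b) = g (hkm.trans hmn) b)
    (φ : ∀ n : IP, A →+ B n) (hφ : ∀ (n : IP) (a : A), φ n ((n : ℕ) • a) = 0)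
    (hφg : ∀ (m n : IP) (h : (m : ℕ) ∣ (n : ℕ)) (a : A), g h (φ n a) = φ m a)
    (N : ℕ) (hN : N ∈ IP)
    (htor : ∀ b : ∀ n : IP, B n, (∀ (m n : IP) (h : (m : ℕ) ∣ (n : ℕ)), g h (b n) = b m) →
      (∃ k : ℕ, 0 < k ∧ ∀ n, k • b n = 0) → ∀ n, N • b n = 0)
    (hker : ∀ a : IP → A, (∀ m n : IP, (m : ℕ) ∣ (n : ℕ) → ∃ c : A, a n - a m = (m : ℕ) • c) →
      (∀ n, φ n (a n) = 0) → ∀ n : IP, ∃ c : A, N • a n = (n : ℕ) • c) :
    (∀ ℓ ∈ P, ∀ x : A, (∀ n ∈ IP, ∃ y : A, x = n • y) →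
        ∃ y : A, (∀ n ∈ IP, ∃ z : A, y = n • z) ∧ ℓ • y = x) ∧
    (∀ H : AddSubgroup A, (∀ ℓ ∈ P, ∀ x ∈ H, ∃ y ∈ H, ℓ • y = x) →
        ∀ x ∈ H, ∀ n ∈ IP, ∃ y : A, x = n • y) := by
  have hmem : ∀ {a b : ℕ}, a ∈ IP → b ∈ IP → a * b ∈ IP := fun {a b} ha hb => by
    rw [hIP] at ha hb ⊢
    exact ⟨Nat.mul_pos ha.1 hb.1, fun p hp h => (hp.dvd_mul.mp h).elim (ha.2 p hp) (hb.2 p hp)⟩
  refine ⟨fun ℓ hℓ x hx => ?_, fun H hH x hxH n hn => ?_⟩
  · have hℓI : ℓ ∈ IP := (hIP ℓ).mpr ⟨(hP ℓ hℓ).pos, fun p hp h => by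
      rwa [(Nat.prime_dvd_prime_iff_eq hp (hP ℓ hℓ)).mp h]⟩
    have h1 : (1 : ℕ) ∈ IP := (hIP 1).mpr ⟨one_pos, fun p hp h => absurd (Nat.dvd_one.mp h) hp.ne_one⟩
    have hc : ∀ n : IP, ∃ c : A, x = (ℓ * (N * N) * n) • c := fun n =>
      hx _ (hmem (hmem hℓI (hmem hN hN)) n.2)
    choose c hc using hc
    let z : IP → A := fun n => (n : ℕ) • c n
    have hz : ∀ n, (ℓ * (N * N)) • z n = x := fun n => by rw [← mul_nsmul', ← hc n]
    let a : IP → A := fun n => z ⟨1, h1⟩ - z n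
    have hcompat : ∀ m n : IP, (m : ℕ) ∣ (n : ℕ) → ∃ d : A, a n - a m = (m : ℕ) • d := by
      intro m n ⟨e, he⟩
      refine ⟨c m - e • c n, ?_⟩
      simp only [a, z, nsmul_sub, ← mul_nsmul', ← he]
      abel
    have hb : ∀ n, φ n (N • a n) = 0 := by
      intro n
      rw [map_nsmul]
      refine htor (fun n => φ n (a n)) ?_ ⟨ℓ * (N * N), ?_, fun n => ?_⟩ n
      · intro m n h
        obtain ⟨d, hd⟩ := hcompat m n h
        rw [hφg m n h, ← sub_eq_zero, ← map_sub, hd, hφ]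
      · exact ((hIP _).mp (hmem hℓI (hmem hN hN))).1
      · rw [← map_nsmul]
        simp only [a, nsmul_sub, hz, sub_self, map_zero]
    obtain hk := hker (fun n => N • a n) (fun m n h => by
      obtain ⟨d, hd⟩ := hcompat m n h
      exact ⟨N • d, by rw [← nsmul_sub, hd, ← mul_nsmul', ← mul_nsmul', mul_comm]⟩) hb
    refine ⟨(N * N) • z ⟨1, h1⟩, fun n hn => ?_, by rw [← mul_nsmul', hz]⟩
    obtain ⟨d, hd⟩ := hk ⟨n, hn⟩
    refine ⟨d + (N * N) • c ⟨n, hn⟩, ?_⟩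
    rw [← mul_nsmul'] at hd
    simp only [a, nsmul_sub, sub_eq_iff_eq_add] at hd
    rw [hd, nsmul_add]
    simp only [z, smul_smul, mul_comm n]
  · have key : ∀ n : ℕ, n ≠ 0 → (∀ p : ℕ, p.Prime → p ∣ n → p ∈ P) → ∀ x ∈ H, ∃ y ∈ H, x = n • y := by
      intro n
      induction n using induction_on_primes with
      | zero => exact fun h => absurd rfl h
      | one => exact fun _ _ x hx => ⟨x, hx, (one_nsmul x).symm⟩
      | prime_mul p m hp ih =>
        intro hpm hP' x hx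
        obtain ⟨y, hy, hyx⟩ := hH p (hP' p hp (dvd_mul_right p m)) x hx
        obtain ⟨w, hw, hwy⟩ := ih (fun h => hpm (by rw [h, mul_zero])) (fun q hq h => hP' q hq (h.mul_left p)) y hy
        exact ⟨w, hw, by rw [mul_nsmul', ← hwy, hyx]⟩
    obtain ⟨y, -, hy⟩ := key n (by have := ((hIP n).mp hn).1; omega) ((hIP n).mp hn).2 x hxH
    exact ⟨y, hy⟩
end Groth.Agent.S16346
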