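import Groth.Statements.S16351
import Groth.Agent.CubicPts.FivePoints

set_option autoImplicit false
universe u
open Cubic

namespace Groth.Agent.S16351

/-- Let K be a field of characteristic zero and S = V(F) ⊂ P^3_K a cone over a plane cubic curve C,
normalised so that the vertex is [1 : 0 : 0 : 0], i.e. F is a homogeneous cubic in K[x_0, …, x_3]
not involving x_0 and C = V(F) in the plane P^2 of the coordinates x_1, x_2, x_3. If C has five
K-rational points no three of which are collinear, then S has five K-rational points in general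
position (no four coplanar: any four representing vectors linearly independent). -/
theorem result (K : Type u) [Field K] [CharZero K]
    (G : MvPolynomial (Fin 3) K) (hG : G.IsHomogeneous 3) (F : MvPolynomial (Fin 4) K)
    (hF : F = MvPolynomial.rename Fin.succ G)
    (b : Fin 5 → (Fin 3 → K)) (hb : ∀ j : Fin 5, MvPolynomial.eval (b j) G = 0)
    (h3 : ∀ i j l : Fin 5, i ≠ j → j ≠ l → i ≠ l → LinearIndependent K ![b i, b j, b l]) :
    ∃ p : Fin 5 → (Fin 4 → K), (∀ j : Fin 5, MvPolynomial.eval (p j) F = 0) ∧
      ∀ j : Fin 5, LinearIndependent K (fun i : Fin 4 => p (j.succAbove i)) := by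
  classical
  have lib : LinearIndependent K ![b 1, b 2, b 3] := h3 1 2 3 (by decide) (by decide) (by decide)
  let bb := basisOfLinearIndependentOfCardEqFinrank lib (by simp)
  have hbb : ⇑bb = ![b 1, b 2, b 3] := coe_basisOfLinearIndependentOfCardEqFinrank lib _
  have hnz : ∀ m : Fin 5, m = 0 ∨ m = 4 → ∀ i, bb.repr (b m) i ≠ 0 := by
    intro m hm i h0
    have hs := bb.sum_repr (b m)
    simp [hbb, Fin.sum_univ_three] at hs
    fin_cases i
    · simp at h0
      rw [h0, zero_smul, zero_add] at hs
      have := Fintype.linearIndependent_iff.1 (h3 m 2 3 (by rcases hm with rfl | rfl <;> decide) (by decide)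
        (by rcases hm with rfl | rfl <;> decide)) ![-1, bb.repr (b m) 1, bb.repr (b m) 2]
        (by simp [Fin.sum_univ_three]; linear_combination (norm := module) hs) 0
      simp at this
    · simp at h0
      rw [h0, zero_smul, add_zero] at hs
      have := Fintype.linearIndependent_iff.1 (h3 m 1 3 (by rcases hm with rfl | rfl <;> decide) (by decide)
        (by rcases hm with rfl | rfl <;> decide)) ![-1, bb.repr (b m) 0, bb.repr (b m) 2]
        (by simp [Fin.sum_univ_three]; linear_combination (norm := module) hs) 0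
      simp at this
    · simp at h0
      rw [h0, zero_smul, add_zero] at hs
      have := Fintype.linearIndependent_iff.1 (h3 m 1 2 (by rcases hm with rfl | rfl <;> decide) (by decide)
        (by rcases hm with rfl | rfl <;> decide)) ![-1, bb.repr (b m) 0, bb.repr (b m) 1]
        (by simp [Fin.sum_univ_three]; linear_combination (norm := module) hs) 0
      simp at this
  set β := fun i => bb.repr (b 0) i with hβ
  set γ := fun i => bb.repr (b 4) i with hγ
  obtain ⟨t, ht⟩ := Infinite.exists_notMem_finset
    ({0, γ 0 / β 0, γ 1 / β 1, γ 2 / β 2} : Finset K)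
  simp only [Finset.mem_insert, Finset.mem_singleton, not_or] at ht
  have li : LinearIndependent K ![(Fin.cons 1 (b 0) : Fin 4 → K), Fin.cons 0 (b 1), Fin.cons 0 (b 2), Fin.cons 0 (b 3)] := by
    rw [Fintype.linearIndependent_iff]
    intro g hg
    have g0 : g 0 = 0 := by simpa [Fin.sum_univ_four] using congrFun hg 0
    have hg' : ∑ i : Fin 3, g i.succ • ![b 1, b 2, b 3] i = 0 := funext fun l => by
      have := congrFun hg l.succ
      simpa [Fin.sum_univ_four, Fin.sum_univ_three, g0] using this
    have := Fintype.linearIndependent_iff.1 lib _ hg'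
    intro i; refine Fin.cases g0 this i
  let B := basisOfLinearIndependentOfCardEqFinrank li (by simp)
  have hB : ⇑B = ![(Fin.cons 1 (b 0) : Fin 4 → K), Fin.cons 0 (b 1), Fin.cons 0 (b 2), Fin.cons 0 (b 3)] :=
    coe_basisOfLinearIndependentOfCardEqFinrank li _
  set x : Fin 4 → K := Fin.cons t (b 4) with hxdef
  have hx : x = ∑ i, (![t, γ 0 - t * β 0, γ 1 - t * β 1, γ 2 - t * β 2] i) • B i := by
    have e0 := bb.sum_repr (b 0); have e4 := bb.sum_repr (b 4)
    simp only [hbb, Fin.sum_univ_three, Matrix.cons_val] at e0 e4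
    funext l
    refine Fin.cases ?_ (fun l => ?_) l
    · simp [hxdef, hB, Fin.sum_univ_four]
    · have a0 := congrFun e0 l; have a4 := congrFun e4 l
      simp at a0 a4
      simp [hxdef, hB, Fin.sum_univ_four, hβ, hγ]
      linear_combination -a4 + t * a0
  refine ⟨Fin.snoc (fun i => B i) x, fun j => ?_, CubicPts.five_general B fun i => ?_⟩
  · have ev : ∀ (s : K) (m : Fin 5), MvPolynomial.eval (Fin.cons s (b m) : Fin 4 → K) F = 0 := fun s m => by
      rw [hF, MvPolynomial.eval_rename]
      exact hb m
    rcases Fin.eq_castSucc_or_eq_last j with ⟨i, rfl⟩ | rfl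
    · rw [Fin.snoc_castSucc, hB]; fin_cases i <;> exact ev _ _
    · rw [Fin.snoc_last]; exact ev _ _
  · rw [hx, B.repr_sum_self]
    fin_cases i <;> simp only [Matrix.cons_val_zero, Fin.zero_eta, Fin.mk_one, Matrix.cons_val_one, Fin.reduceFinMk, Matrix.cons_val]
    · exact ht.1
    · intro h; exact ht.2.1 ((eq_div_iff (hnz 0 (Or.inl rfl) 0)).2 (sub_eq_zero.1 h).symm)
    · intro h; exact ht.2.2.1 ((eq_div_iff (hnz 0 (Or.inl rfl) 1)).2 (sub_eq_zero.1 h).symm)
    · intro h; exact ht.2.2.2 ((eq_div_iff (hnz 0 (Or.inl rfl) 2)).2 (sub_eq_zero.1 h).symm)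

end Groth.Agent.S16351
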