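import Groth.Statements.S16352
import Groth.Agent.CubicPts.Curve

set_option autoImplicit false
universe u
open Cubic

namespace Groth.Agent.S16352

/-- Let K be an algebraically closed field of characteristic zero and S = V(F) ⊂ P^3_K a cubic surface
which is irreducible and not a cone (no nonzero vector v has Σ_i v_i ∂F/∂x_i = 0). Let a be a smooth
point of S which is not a T-point: with ℓ = Σ_i ∂F/∂x_i(a) · x_i the (nonzero) linear form of the
tangent plane T_a S, F is not congruent modulo ℓ to a product of three linear forms (i.e. T_a S ∩ S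
is not set-theoretically a union of lines). Let P = Σ_i a_i ∂F/∂x_i be the first polar of a. Then
V(P) ∩ T_a S is a union of at most two lines through a, and every line through a lying on S lies in
V(P) ∩ T_a S; lines are 2-dimensional subspaces of K^4 and T_a S is the 3-dimensional subspace where
ℓ vanishes. -/
theorem result (K : Type u) [Field K] [IsAlgClosed K] [CharZero K]
    (F : MvPolynomial (Fin 4) K) (hF : F.IsHomogeneous 3) (hirr : Irreducible F)
    (hcone : ¬ ∃ v : Fin 4 → K, v ≠ 0 ∧ ∑ i : Fin 4, v i • MvPolynomial.pderiv i F = 0)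
    (a : Fin 4 → K) (ha : a ≠ 0) (hFa : MvPolynomial.eval a F = 0)
    (hsm : ∃ i : Fin 4, MvPolynomial.eval a (MvPolynomial.pderiv i F) ≠ 0)
    (ℓ : MvPolynomial (Fin 4) K)
    (hℓ : ℓ = ∑ i : Fin 4, MvPolynomial.C (MvPolynomial.eval a (MvPolynomial.pderiv i F)) * MvPolynomial.X i)
    (hT : ¬ ∃ L₁ L₂ L₃ : MvPolynomial (Fin 4) K, L₁.IsHomogeneous 1 ∧ L₂.IsHomogeneous 1 ∧ L₃.IsHomogeneous 1 ∧
      F - L₁ * L₂ * L₃ ∈ Ideal.span {ℓ})
    (P : MvPolynomial (Fin 4) K) (hP : P = ∑ i : Fin 4, a i • MvPolynomial.pderiv i F)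
    (H : Submodule K (Fin 4 → K)) (hH : ∀ x : Fin 4 → K, x ∈ H ↔ MvPolynomial.eval x ℓ = 0) :
    (∃ U₁ U₂ : Submodule K (Fin 4 → K), Module.finrank K ↥U₁ = 2 ∧ Module.finrank K ↥U₂ = 2 ∧ a ∈ U₁ ∧ a ∈ U₂ ∧
        U₁ ≤ H ∧ U₂ ≤ H ∧ {x : Fin 4 → K | x ∈ H ∧ MvPolynomial.eval x P = 0} = (U₁ : Set (Fin 4 → K)) ∪ (U₂ : Set (Fin 4 → K))) ∧
      ∀ U : Submodule K (Fin 4 → K), a ∈ U → Module.finrank K ↥U = 2 → (∀ u ∈ U, MvPolynomial.eval u F = 0) →
        U ≤ H ∧ ∀ u ∈ U, MvPolynomial.eval u P = 0 := by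
  classical
  subst hℓ hP
  obtain ⟨fr, hfr⟩ := CubicPts.exists_frame F hF ha (by rw [MvPolynomial.aeval_eq_eval]; exact hFa)
    (by simpa [MvPolynomial.aeval_eq_eval] using hsm) (K := K)
    (by simpa [Algebra.algebraMap_self, MvPolynomial.map_id, CubicPts.TP, CubicPts.tform] using hT)
  obtain ⟨a', e, hFa', g0, g1, g2, hbasis, hnd⟩ := fr
  subst hfr
  have hmemH : ∀ x, x ∈ H ↔ CubicPts.Dv F a' x = 0 := fun x => by
    rw [hH]; simp [CubicPts.Dv, MvPolynomial.aeval_eq_eval, mul_comm]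
  have hPe : ∀ x, MvPolynomial.eval x (∑ i, a' i • MvPolynomial.pderiv i F) = CubicPts.Dv F x a' := fun x => by
    simp [CubicPts.Dv, MvPolynomial.aeval_eq_eval, MvPolynomial.smul_eval]
  have hspan : ∀ x, ∃ c : Fin 4 → K, x = c 0 • a' + c 1 • e 0 + c 2 • e 1 + c 3 • e 2 := by
    intro x
    have hs : x ∈ Submodule.span K (Set.range ![a', e 0, e 1, e 2]) := by
      by_contra hnot
      obtain ⟨L, hL, hle⟩ := Submodule.exists_le_ker_of_lt_top (Submodule.span K (Set.range ![a', e 0, e 1, e 2]))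
        (lt_top_iff_ne_top.2 fun h => hnot (h ▸ Submodule.mem_top))
      exact hL (hbasis L (hle (Submodule.subset_span ⟨0, rfl⟩)) (hle (Submodule.subset_span ⟨1, rfl⟩))
        (hle (Submodule.subset_span ⟨2, rfl⟩)) (hle (Submodule.subset_span ⟨3, rfl⟩)))
    obtain ⟨c, hc⟩ := (Submodule.mem_span_range_iff_exists_fun K).1 hs
    exact ⟨c, by rw [← hc]; simp [Fin.sum_univ_four]⟩
  have hH' : ∀ x, x ∈ H ↔ ∃ r y z : K, x = r • a' + (1 : K) • (y • e 1 + z • e 2) := by
    intro x
    rw [hmemH]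
    constructor
    · intro hx
      obtain ⟨c, rfl⟩ := hspan x
      have h1 : c 1 = 0 := by
        have e' : CubicPts.Dv F a' (c 0 • a' + c 1 • e 0 + c 2 • e 1 + c 3 • e 2) =
            c 0 * CubicPts.Dv F a' a' + c 1 * CubicPts.Dv F a' (e 0) + c 2 * CubicPts.Dv F a' (e 1) + c 3 * CubicPts.Dv F a' (e 2) := by
          simp only [CubicPts.Dv, Pi.add_apply, Pi.smul_apply, smul_eq_mul, add_mul, mul_assoc, Finset.sum_add_distrib, ← Finset.mul_sum]
        rw [e', CubicPts.Dv_self hF, hFa', g0, g1, g2] at hx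
        linear_combination hx
      exact ⟨c 0, c 2, c 3, by rw [h1, zero_smul, add_zero, one_smul]; abel⟩
    · rintro ⟨r, y, z, rfl⟩
      rw [CubicPts.Dv_comb, CubicPts.Dv_comb, CubicPts.Dv_self hF, hFa', g1, g2]; ring
  set A := CubicPts.Dv F (e 1) a'
  set B := CubicPts.Dv F (e 1 + e 2) a' - CubicPts.Dv F (e 1) a' - CubicPts.Dv F (e 2) a'
  set C' := CubicPts.Dv F (e 2) a'
  have hQ : ∀ r y z : K, CubicPts.Dv F (r • a' + (1 : K) • (y • e 1 + z • e 2)) a' = A * y ^ 2 + B * y * z + C' * z ^ 2 := by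
    intro r y z
    have hu : CubicPts.Dv F a' (y • e 1 + z • e 2) = 0 := by rw [CubicPts.Dv_comb, g1, g2]; ring
    rw [add_comm, CubicPts.Dv_line_self hF, hu, hFa', CubicPts.Dv_line hF]
    ring
  obtain ⟨p, q, r, s, hA, hB, hC⟩ := CubicPts.quad_split A B C'
  have hne : ¬ (A = 0 ∧ B = 0 ∧ C' = 0) := CubicPts.ne_zero_of_NDiv hnd
  have mk : ∀ p q : K, ¬ (p = 0 ∧ q = 0) → ∃ U : Submodule K (Fin 4 → K), Module.finrank K ↥U = 2 ∧ a' ∈ U ∧ U ≤ H ∧
      ∀ x, x ∈ U ↔ ∃ r y z : K, x = r • a' + (1 : K) • (y • e 1 + z • e 2) ∧ p * y + q * z = 0 := by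
    intro p q hpq
    refine ⟨Submodule.span K (Set.range ![a', q • e 1 + (-p) • e 2]), ?_, Submodule.subset_span ⟨0, rfl⟩, ?_, fun x => ?_⟩
    · rw [finrank_span_eq_card (R := K)]
      · simp
      rw [linearIndependent_fin2]
      refine ⟨?_, fun c hc => ?_⟩
      · intro h
        simp at h
        have li : LinearIndependent K ![a', e 0, e 1, e 2] := by
          refine linearIndependent_of_top_le_span_of_card_eq_finrank ?_ (by simp)
          intro x _
          obtain ⟨c, hc⟩ := hspan x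
          exact (Submodule.mem_span_range_iff_exists_fun K).2 ⟨c, by rw [hc]; simp [Fin.sum_univ_four]⟩
        have := Fintype.linearIndependent_iff.1 li ![0, 0, q, -p] (by simp [Fin.sum_univ_four, h])
        exact hpq ⟨by simpa using this 3, by simpa using this 2⟩
      · simp at hc
        have li : LinearIndependent K ![a', e 0, e 1, e 2] := by
          refine linearIndependent_of_top_le_span_of_card_eq_finrank ?_ (by simp)
          intro x _
          obtain ⟨c, hc⟩ := hspan x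
          exact (Submodule.mem_span_range_iff_exists_fun K).2 ⟨c, by rw [hc]; simp [Fin.sum_univ_four]⟩
        have := Fintype.linearIndependent_iff.1 li ![-1, 0, c * q, -(c * p)]
          (by simp [Fin.sum_univ_four]; linear_combination (norm := module) hc) 0
        simp at this
    · rw [Submodule.span_le]
      rintro _ ⟨i, rfl⟩
      rw [SetLike.mem_coe, hH']
      fin_cases i
      · exact ⟨1, 0, 0, by simp⟩
      · exact ⟨0, q, -p, by simp⟩
    · rw [Submodule.mem_span_range_iff_exists_fun]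
      constructor
      · rintro ⟨c, rfl⟩
        exact ⟨c 0, c 1 * q, -(c 1 * p), by simp [Fin.sum_univ_two, smul_add, smul_smul], by ring⟩
      · rintro ⟨r, y, z, rfl, h⟩
        rcases eq_or_ne q 0 with rfl | hq
        · have hy : y = 0 := by
            rw [zero_mul, add_zero, mul_eq_zero] at h
            exact h.resolve_left fun hp => hpq ⟨hp, rfl⟩
          have hp : p ≠ 0 := fun hp => hpq ⟨hp, rfl⟩
          exact ⟨![r, -z / p], by subst hy; simp [Fin.sum_univ_two, smul_smul, ← neg_smul]; congr 1; field_simp⟩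
        · refine ⟨![r, y / q], ?_⟩
          have hz : z = -(p * y) / q := by rw [eq_div_iff hq]; linear_combination h
          subst hz
          simp [Fin.sum_univ_two, smul_add, smul_smul, hq, ← neg_smul]
          congr 1; field_simp
  obtain ⟨U₁, u1, u1a, u1H, hU₁⟩ := mk p q (fun h => hne ⟨by rw [hA, h.1, zero_mul], by rw [hB, h.1, h.2]; ring, by rw [hC, h.2, zero_mul]⟩)
  obtain ⟨U₂, u2, u2a, u2H, hU₂⟩ := mk r s (fun h => hne ⟨by rw [hA, h.1, mul_zero], by rw [hB, h.1, h.2]; ring, by rw [hC, h.2, mul_zero]⟩)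
  refine ⟨⟨U₁, U₂, u1, u2, u1a, u2a, u1H, u2H, ?_⟩, fun U haU hU2 hUF => ?_⟩
  · ext x
    simp only [Set.mem_setOf_eq, Set.mem_union, SetLike.mem_coe, hPe]
    constructor
    · rintro ⟨hx, hP⟩
      obtain ⟨r', y, z, rfl⟩ := (hH' x).1 hx
      rw [hQ, hA, hB, hC] at hP
      have : (p * y + q * z) * (r * y + s * z) = 0 := by linear_combination hP
      rcases mul_eq_zero.1 this with h | h
      · exact Or.inl ((hU₁ _).2 ⟨r', y, z, rfl, h⟩)
      · exact Or.inr ((hU₂ _).2 ⟨r', y, z, rfl, h⟩)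
    · rintro (hx | hx)
      · obtain ⟨r', y, z, rfl, h⟩ := (hU₁ x).1 hx
        refine ⟨u1H hx, ?_⟩
        rw [hQ, hA, hB, hC]; linear_combination (r * y + s * z) * h
      · obtain ⟨r', y, z, rfl, h⟩ := (hU₂ x).1 hx
        refine ⟨u2H hx, ?_⟩
        rw [hQ, hA, hB, hC]; linear_combination (p * y + q * z) * h
  · have key : ∀ u ∈ U, CubicPts.Dv F a' u = 0 ∧ CubicPts.Dv F u a' = 0 := by
      intro u hu
      have e0 : ∀ t : K, MvPolynomial.aeval ((1 : K) • a' + t • u) F = 0 := fun t => by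
        rw [MvPolynomial.aeval_eq_eval]; exact hUF _ (U.add_mem (U.smul_mem _ haU) (U.smul_mem _ hu))
      have hFu : MvPolynomial.aeval u F = 0 := by rw [MvPolynomial.aeval_eq_eval]; exact hUF u hu
      have e1 := e0 1; have e2 := e0 (-1)
      rw [CubicPts.aeval_line hF, hFa', hFu] at e1 e2
      constructor
      · linear_combination (1 / 2 : K) * e1 - (1 / 2 : K) * e2
      · linear_combination (1 / 2 : K) * e1 + (1 / 2 : K) * e2
    exact ⟨fun u hu => (hmemH u).2 (key u hu).1, fun u hu => by rw [hPe]; exact (key u hu).2⟩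

end Groth.Agent.S16352
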