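import Groth.Statements.S16353
import Mathlib.Tactic.LinearCombination
-- import your own Groth.Agent.* helpers here

set_option autoImplicit false
universe u
open DegLoci

namespace Groth.Agent.S16353

/-- Let k be a field of characteristic zero, R = k[y_0, …, y_{m−1}] acting on S = k[∂_0, …, ∂_{m−1}] by
apolarity (y_i acts as the derivative with respect to ∂_i), F ∈ S homogeneous of degree e and d ≤ e.
Then the degree-d part of the apolar ideal of F is the orthogonal complement of the partial
derivatives of F of order e − d: a homogeneous D ∈ R_d satisfies D(F) = 0 if and only if D(y^α(F)) =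
0 for every multi-index α with |α| = e − d (each D(y^α(F)) being a constant, the value of the
apolarity pairing of D with y^α(F)). -/
theorem result (k : Type u) [Field k] [CharZero k] (m : ℕ)
    (F : MvPolynomial (Fin m) k) (e : ℕ) (hF : F.IsHomogeneous e) (d : ℕ) (hd : d ≤ e)
    (D : MvPolynomial (Fin m) k) (hD : D.IsHomogeneous d) :
    W4c3degenlocivb.contract D F = 0 ↔
      ∀ α : Fin m →₀ ℕ, α.degree = e - d → W4c3degenlocivb.contract D (W4c3degenlocivb.contract (MvPolynomial.monomial α 1) F) = 0 := by
  classical
  let P : (Fin m →₀ ℕ) → (Fin m →₀ ℕ) → ℕ := fun β α => ∏ i, Nat.descFactorial (β i) (α i)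
  have hP : ∀ α β : Fin m →₀ ℕ, α ≤ β → β.support.prod (fun i => Nat.descFactorial (β i) (α i)) = P β α := by
    intro α β hle
    refine Finset.prod_subset (Finset.subset_univ _) fun i _ hi => ?_
    rw [Finsupp.notMem_support_iff] at hi
    have := hle i
    rw [hi, show α i = 0 by omega, Nat.descFactorial_zero]
  have hcoeff : ∀ (A B : MvPolynomial (Fin m) k) (γ : Fin m →₀ ℕ),
      MvPolynomial.coeff γ (W4c3degenlocivb.contract A B) =
        ∑ α ∈ A.support, MvPolynomial.coeff α A * MvPolynomial.coeff (γ + α) B * (P (γ + α) α : k) := by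
    intro A B γ
    rw [W4c3degenlocivb.contract, MvPolynomial.coeff_sum]
    refine Finset.sum_congr rfl fun α _ => ?_
    rw [MvPolynomial.coeff_sum, Finset.sum_eq_single (γ + α)]
    · rw [if_pos le_add_self, add_tsub_cancel_right, MvPolynomial.coeff_monomial, if_pos rfl, hP _ _ le_add_self]
    · intro β _ hne
      split_ifs with hle
      · rw [MvPolynomial.coeff_monomial, if_neg fun h => hne (by rw [← h, tsub_add_cancel_of_le hle])]
      · exact MvPolynomial.coeff_zero γ
    · intro h
      rw [MvPolynomial.notMem_support_iff] at h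
      rw [if_pos le_add_self, h]
      simp
  have hPP : ∀ γ δ α : Fin m →₀ ℕ,
      P (γ + α + δ) δ * P (γ + α) α = P (γ + δ + α) α * P (γ + δ) δ := by
    intro γ δ α
    simp only [P, ← Finset.prod_mul_distrib, Finsupp.coe_add, Pi.add_apply]
    refine Finset.prod_congr rfl fun i _ => ?_
    have h1 := Nat.descFactorial_mul_descFactorial (n := γ i + α i + δ i) (k := δ i) (m := α i + δ i) (by omega)
    have h2 := Nat.descFactorial_mul_descFactorial (n := γ i + δ i + α i) (k := α i) (m := α i + δ i) (by omega)
    rw [show γ i + α i + δ i - δ i = γ i + α i by omega, show α i + δ i - δ i = α i by omega] at h1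
    rw [show γ i + δ i + α i - α i = γ i + δ i by omega, show α i + δ i - α i = δ i by omega,
      show γ i + δ i + α i = γ i + α i + δ i by omega] at h2
    rw [show γ i + δ i + α i = γ i + α i + δ i by omega, mul_comm, h1, ← h2, mul_comm]
  have hcomm : ∀ (α γ : Fin m →₀ ℕ),
      MvPolynomial.coeff γ (W4c3degenlocivb.contract D (W4c3degenlocivb.contract (MvPolynomial.monomial α 1) F)) =
        MvPolynomial.coeff (γ + α) (W4c3degenlocivb.contract D F) * (P (γ + α) α : k) := by
    intro α γ
    rw [hcoeff, hcoeff, Finset.sum_mul]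
    refine Finset.sum_congr rfl fun δ _ => ?_
    rw [hcoeff, MvPolynomial.support_monomial, if_neg one_ne_zero, Finset.sum_singleton,
      MvPolynomial.coeff_monomial, if_pos rfl, one_mul]
    have := congrArg (Nat.cast : ℕ → k) (hPP γ δ α)
    rw [Nat.cast_mul, Nat.cast_mul] at this
    rw [add_right_comm γ δ α] at this ⊢
    linear_combination (-(MvPolynomial.coeff δ D * MvPolynomial.coeff (γ + α + δ) F)) * this
  refine ⟨fun h α _ => MvPolynomial.ext _ _ fun γ => ?_, fun h => MvPolynomial.ext _ _ fun γ => ?_⟩
  · simp [hcomm, h]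
  · rw [MvPolynomial.coeff_zero]
    by_cases hγ : γ.degree = e - d
    · have h1 := hcomm γ 0
      rw [h γ hγ, MvPolynomial.coeff_zero, zero_add] at h1
      refine (mul_eq_zero.1 h1.symm).resolve_right ?_
      exact Nat.cast_ne_zero.2 (Finset.prod_ne_zero_iff.2 fun i _ =>
        fun h0 => by have := Nat.descFactorial_eq_zero_iff_lt.1 h0; omega)
    · rw [hcoeff]
      refine Finset.sum_eq_zero fun α hα => ?_
      rw [hF.coeff_eq_zero (d := γ + α) ?_, mul_zero, zero_mul]
      have hαd : α.degree = d := by
        by_contra hne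
        exact (MvPolynomial.mem_support_iff.1 hα) (hD.coeff_eq_zero hne)
      rw [map_add, hαd]
      omega

end Groth.Agent.S16353
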