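import Groth.Statements.S16354
import Groth.Agent.CubicPts.Descent
import Groth.Agent.CubicPts.RealRoot

set_option autoImplicit false
universe u
open Cubic

namespace Groth.Agent.S16354

/-- Let k be a subfield of ℝ (a field equipped with an embedding into the reals) and S = V(F) ⊂ P^3 the
cubic surface of a homogeneous cubic F ∈ k[x_0, …, x_3] which is geometrically irreducible and not a
cone (no nonzero vector v has Σ_i v_i ∂F/∂x_i = 0). Then S admits a linear Pfaffian representation
over a real intermediate field k ⊆ E ⊆ ℝ of degree [E : k] ≤ 3. A linear Pfaffian representation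
over E is a 6 × 6 alternating matrix M of linear forms in E[x_0, …, x_3] whose Pfaffian is a nonzero
constant multiple of F; since the determinant of an alternating matrix is the square of its Pfaffian
and the polynomial ring is factorial with no nonconstant units, this is the same as det M = c · F^2
for a nonzero constant c, which is how it is written here. -/
theorem result (k : Type u) [Field k] [Algebra k ℝ]
    (F : MvPolynomial (Fin 4) k) (hF : F.IsHomogeneous 3)
    (hirr : Irreducible (MvPolynomial.map (algebraMap k (AlgebraicClosure k)) F))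
    (hcone : ¬ ∃ v : Fin 4 → k, v ≠ 0 ∧ ∑ i : Fin 4, v i • MvPolynomial.pderiv i F = 0) :
    ∃ E : IntermediateField k ℝ, FiniteDimensional k ↥E ∧ Module.finrank k ↥E ≤ 3 ∧
      ∃ M : Matrix (Fin 6) (Fin 6) (MvPolynomial (Fin 4) ↥E), (∀ i j, (M i j).IsHomogeneous 1) ∧ M.transpose = -M ∧ (∀ i, M i i = 0) ∧
        ∃ c : ↥E, c ≠ 0 ∧ M.det = MvPolynomial.C c * (MvPolynomial.map (algebraMap k ↥E) F) ^ 2 := by
  classical
  haveI : CharZero k := (algebraMap k ℝ).charZero
  haveI : CharZero (AlgebraicClosure k) := charZero_of_injective_algebraMap (algebraMap k (AlgebraicClosure k)).injective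
  obtain ⟨y, v, hv, hgood⟩ := CubicPts.exists_good_line hF hirr hcone
  have hP := CubicPts.natDegree_linePoly (F := F) (y := y) hv
  set P := CubicPts.linePoly F y v with hPd
  have hP0 : P ≠ 0 := fun h => by rw [h] at hP; simp at hP
  obtain ⟨θ, hθ⟩ : ∃ θ : ℝ, Polynomial.aeval θ P = 0 := by
    obtain ⟨θ, hθ⟩ := CubicPts.exists_real_root (P.map (algebraMap k ℝ))
      (by rw [Polynomial.natDegree_map]; rw [hP]; decide)
    exact ⟨θ, by rw [Polynomial.aeval_def, ← Polynomial.eval_map]; exact hθ⟩
  have hint : IsIntegral k θ := IsAlgebraic.isIntegral ⟨P, hP0, hθ⟩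
  let E := IntermediateField.adjoin k ({θ} : Set ℝ)
  haveI : FiniteDimensional k ↥E := IntermediateField.adjoin.finiteDimensional hint
  refine ⟨E, inferInstance, ?_, ?_⟩
  · rw [IntermediateField.adjoin.finrank hint, ← hP]
    exact Polynomial.natDegree_le_of_dvd (minpoly.dvd k θ hθ) hP0
  let θE : ↥E := ⟨θ, IntermediateField.mem_adjoin_simple_self k θ⟩
  have hθE : Polynomial.aeval θE P = 0 := by
    refine (algebraMap ↥E ℝ).injective ?_
    rw [map_zero, ← Polynomial.aeval_algebraMap_apply]
    exact hθ
  haveI : Algebra.IsAlgebraic k ↥E := Algebra.IsAlgebraic.of_finite k ↥E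
  let f : ↥E →ₐ[k] AlgebraicClosure k := IsAlgClosed.lift
  letI : Algebra ↥E (AlgebraicClosure k) := f.toRingHom.toAlgebra
  haveI : IsScalarTower k ↥E (AlgebraicClosure k) := IsScalarTower.of_algebraMap_eq fun x => (f.commutes x).symm
  have hθ' : Polynomial.aeval (algebraMap ↥E (AlgebraicClosure k) θE) P = 0 := by
    rw [Polynomial.aeval_algebraMap_apply, hθE, map_zero]
  have hz := CubicPts.aeval_linePoly hF y v (algebraMap ↥E (AlgebraicClosure k) θE)
  obtain ⟨h1, h2⟩ := hgood _ (hz.symm.trans hθ')
  have hfun : (fun m => algebraMap ↥E (AlgebraicClosure k) (algebraMap k ↥E (y m) + θE * algebraMap k ↥E (v m))) =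
      fun m => algebraMap k (AlgebraicClosure k) (y m) + algebraMap ↥E (AlgebraicClosure k) θE * algebraMap k (AlgebraicClosure k) (v m) := by
    funext m
    rw [map_add, map_mul, ← IsScalarTower.algebraMap_apply, ← IsScalarTower.algebraMap_apply]
  exact CubicPts.pfaffian_over (K := AlgebraicClosure k) hF hirr hcone _ ((CubicPts.aeval_linePoly hF y v θE).symm.trans hθE)
    (by rw [hfun]; exact h1) (by rw [hfun]; exact h2)

end Groth.Agent.S16354
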