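import Groth.Statements.S16355
import Mathlib

set_option autoImplicit false
universe u
open DegLoci

namespace Groth.Agent.S16355


open W4c3degenlocivb

/-- The Pfaffian commutes with ring maps. -/
private theorem pf_map {R S : Type*} [CommRing R] [CommRing S] (f : R →+* S) :
    ∀ (n : ℕ) (T : Matrix (Fin n) (Fin n) R), f (pf n T) = pf n (T.map f)
  | 0, _ => by simp [pf]
  | 1, _ => by simp [pf]
  | n + 2, T => by
    simp only [pf, map_sum, map_mul, map_pow, map_neg, map_one, pf_map f n, Matrix.map_apply]
    rfl

/-- The Pfaffian of a matrix of forms of degree one is a form of half the size. -/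
private theorem pf_isHomogeneous {k : Type*} [CommRing k] {σ : Type*} :
    ∀ (q : ℕ) (T : Matrix (Fin (2 * q)) (Fin (2 * q)) (MvPolynomial σ k)),
      (∀ i j, (T i j).IsHomogeneous 1) → (pf (2 * q) T).IsHomogeneous q
  | 0, T, _ => by
    show (pf 0 T).IsHomogeneous 0
    exact MvPolynomial.isHomogeneous_one σ k
  | q + 1, T, h => by
    show (pf (2 * q + 2) T).IsHomogeneous (q + 1)
    refine MvPolynomial.IsHomogeneous.sum _ _ _ fun j _ => ?_
    rw [mul_assoc, show ((-1 : MvPolynomial σ k)) ^ ((j : ℕ) + 1) = MvPolynomial.C ((-1) ^ ((j : ℕ) + 1)) by simp,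
      add_comm q 1]
    exact MvPolynomial.IsHomogeneous.C_mul ((h _ _).mul (pf_isHomogeneous q _ fun a b => h _ _)) _

/-- The alternating tridiagonal matrix. -/
private def tri {R : Type*} [CommRing R] (b : ℕ → R) (n : ℕ) : Matrix (Fin n) (Fin n) R :=
  Matrix.of fun i j => if (j : ℕ) = i + 1 then b i else if (i : ℕ) = j + 1 then -b j else 0

/-- The Pfaffian of an alternating tridiagonal matrix. -/
private theorem pf_tri {R : Type*} [CommRing R] (b : ℕ → R) :
    ∀ q : ℕ, pf (2 * q) (tri b (2 * q)) = ∏ i ∈ Finset.range q, b (2 * i)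
  | 0 => by
    show pf 0 _ = _
    simp [pf]
  | q + 1 => by
    show pf (2 * q + 2) (tri b (2 * q + 2)) = _
    rw [pf, Finset.sum_eq_single (Fin.last (2 * q)), Finset.prod_range_succ, ← pf_tri b q]
    · have hsub : (tri b (2 * q + 2)).submatrix (Fin.castSucc ∘ (Fin.last (2 * q)).succAbove)
          (Fin.castSucc ∘ (Fin.last (2 * q)).succAbove) = tri b (2 * q) := by
        ext i j
        simp [tri, Fin.succAbove_last]
      have hodd : (-1 : R) ^ (2 * q + 1) = -1 := Odd.neg_one_pow ⟨q, rfl⟩
      rw [hsub, Fin.val_last, hodd]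
      simp [tri]
      rw [if_neg (by omega)]
      ring
    · intro j _ hj
      have hv : (j : ℕ) ≠ 2 * q := fun e => hj (Fin.ext e)
      have h0 : tri b (2 * q + 2) (Fin.last (2 * q + 1)) (Fin.castSucc j) = 0 := by
        have := j.isLt
        simp [tri]
        rw [if_neg (by omega), if_neg (by omega)]
      rw [h0]; ring
    · simp

/-- Deleting one index from a tridiagonal matrix. -/
private theorem tri_submatrix {R : Type*} [CommRing R] (A : ℕ → R) (n : ℕ) (p : Fin (n + 1)) :
    (tri A (n + 1)).submatrix p.succAbove p.succAbove =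
      tri (fun a => if a + 1 < (p : ℕ) then A a else if a + 1 = (p : ℕ) then 0 else A (a + 1)) n := by
  ext i j
  have hv : ∀ x : Fin n, ((p.succAbove x : Fin (n + 1)) : ℕ) = if (x : ℕ) < p then (x : ℕ) else x + 1 := by
    intro x
    simp only [Fin.succAbove, Fin.lt_def, Fin.val_castSucc]
    split_ifs <;> simp
  simp only [tri, Matrix.submatrix_apply, Matrix.of_apply, hv]
  split_ifs <;> first | rfl | omega | (simp only [neg_zero]) | (congr 1; omega) | (congr 2; omega)

/-- Let k be an algebraically closed field of characteristic zero and n = 2r + 1 ≥ 3 odd. For a general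
n × n alternating matrix N of linear forms in k[y_0, y_1], the n principal sub-Pfaffians of size n −
1 (delete row i and column i, take the Pfaffian) span the whole space k[y_0, y_1]_r of binary forms
of degree r. Here such matrices are parametrised by antisymmetric coefficient arrays c (entry (i, j)
of N is Σ_l c_{i j l} y_l with c_{j i l} = −c_{i j l}), and 'general' means: outside the zero set of
some polynomial Φ in the coefficients which does not vanish at every antisymmetric array. -/
theorem result (k : Type u) [Field k] [IsAlgClosed k] [CharZero k]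
    (r : ℕ) (hr : 1 ≤ r) :
    ∃ Φ : MvPolynomial (Fin (2 * r + 1) × Fin (2 * r + 1) × Fin 2) k,
      (∃ c : Fin (2 * r + 1) → Fin (2 * r + 1) → Fin 2 → k, (∀ i j l, c j i l = -c i j l) ∧
        MvPolynomial.eval (fun p => c p.1 p.2.1 p.2.2) Φ ≠ 0) ∧
      ∀ c : Fin (2 * r + 1) → Fin (2 * r + 1) → Fin 2 → k, (∀ i j l, c j i l = -c i j l) →
        MvPolynomial.eval (fun p => c p.1 p.2.1 p.2.2) Φ ≠ 0 →
        Submodule.span k (Set.range fun i : Fin (2 * r + 1) =>
            W4c3degenlocivb.pf (2 * r) ((Matrix.of fun a b => ∑ l : Fin 2, MvPolynomial.C (c a b l) * MvPolynomial.X l).submatrix i.succAbove i.succAbove)) =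
          MvPolynomial.homogeneousSubmodule (Fin 2) k r := by
  classical
  let V := Fin (2 * r + 1) × Fin (2 * r + 1) × Fin 2
  let gen : Matrix (Fin (2 * r + 1)) (Fin (2 * r + 1)) (MvPolynomial (Fin 2) (MvPolynomial V k)) :=
    Matrix.of fun a b => ∑ l : Fin 2, MvPolynomial.C (MvPolynomial.X (a, b, l)) * MvPolynomial.X l
  let pos : Fin (r + 1) → Fin (2 * r + 1) := fun s => ⟨2 * (s : ℕ), by omega⟩
  let mono : Fin (r + 1) → (Fin 2 →₀ ℕ) := fun t => Finsupp.single 0 (t : ℕ) + Finsupp.single 1 (r - (t : ℕ))
  let U : Matrix (Fin (r + 1)) (Fin (r + 1)) (MvPolynomial V k) := Matrix.of fun s t =>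
    MvPolynomial.coeff (mono t) (pf (2 * r) (gen.submatrix (pos s).succAbove (pos s).succAbove))
  let N : (Fin (2 * r + 1) → Fin (2 * r + 1) → Fin 2 → k) → Matrix (Fin (2 * r + 1)) (Fin (2 * r + 1)) (MvPolynomial (Fin 2) k) :=
    fun c => Matrix.of fun a b => ∑ l : Fin 2, MvPolynomial.C (c a b l) * MvPolynomial.X l
  have hspec : ∀ c, MvPolynomial.eval (fun p : V => c p.1 p.2.1 p.2.2) U.det =
      (Matrix.of fun s t : Fin (r + 1) =>
        MvPolynomial.coeff (mono t) (pf (2 * r) ((N c).submatrix (pos s).succAbove (pos s).succAbove))).det := by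
    intro c
    rw [RingHom.map_det]
    congr 1
    ext s t
    simp only [U, RingHom.mapMatrix_apply, Matrix.map_apply, Matrix.of_apply]
    rw [← MvPolynomial.coeff_map, pf_map]
    congr 2
    ext a b : 2
    simp [gen, N, MvPolynomial.map_C, MvPolynomial.map_X]
  refine ⟨U.det, ?_, ?_⟩
  · let c₀ : Fin (2 * r + 1) → Fin (2 * r + 1) → Fin 2 → k := fun i j l =>
      if (j : ℕ) = i + 1 then (if (i : ℕ) % 2 = (l : ℕ) then 1 else 0)
      else if (i : ℕ) = j + 1 then -(if (j : ℕ) % 2 = (l : ℕ) then 1 else 0) else 0
    refine ⟨c₀, fun i j l => ?_, ?_⟩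
    · simp only [c₀]
      split_ifs <;> first | omega | simp
    · rw [hspec]
      let A : ℕ → MvPolynomial (Fin 2) k := fun i => if i % 2 = 0 then MvPolynomial.X 0 else MvPolynomial.X 1
      have hN : N c₀ = tri A (2 * r + 1) := by
        ext a b : 2
        simp only [N, c₀, tri, A, Matrix.of_apply, Fin.sum_univ_two]
        split_ifs <;> simp_all
      have hpf : ∀ s : Fin (r + 1), pf (2 * r) ((N c₀).submatrix (pos s).succAbove (pos s).succAbove) =
          MvPolynomial.monomial (mono s) 1 := by
        intro s
        rw [hN, tri_submatrix, pf_tri]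
        have hs := s.isLt
        obtain ⟨u, hu⟩ : ∃ u, r = (s : ℕ) + u := ⟨r - s, by omega⟩
        simp only [show ((pos s : Fin (2 * r + 1)) : ℕ) = 2 * (s : ℕ) from rfl]
        rw [show Finset.range r = Finset.range ((s : ℕ) + u) by rw [← hu], Finset.prod_range_add,
          Finset.prod_congr rfl (fun i hi => show _ = (MvPolynomial.X 0 : MvPolynomial (Fin 2) k) from ?_),
          Finset.prod_const, Finset.card_range,
          Finset.prod_congr rfl (fun i hi => show _ = (MvPolynomial.X 1 : MvPolynomial (Fin 2) k) from ?_),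
          Finset.prod_const, Finset.card_range]
        · simp [mono, hu, MvPolynomial.X_pow_eq_monomial, MvPolynomial.monomial_mul]
        · simp only [A]
          rw [if_neg (by omega), if_neg (by omega), if_neg (by omega)]
        · rw [Finset.mem_range] at hi
          simp only [A]
          rw [if_pos (by omega), if_pos (by omega)]
      have hone : (Matrix.of fun s t : Fin (r + 1) =>
          MvPolynomial.coeff (mono t) (pf (2 * r) ((N c₀).submatrix (pos s).succAbove (pos s).succAbove))) = 1 := by
        ext s t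
        rw [Matrix.of_apply, hpf, MvPolynomial.coeff_monomial, Matrix.one_apply]
        refine if_congr ⟨fun h => ?_, fun h => by rw [h]⟩ rfl rfl
        have := DFunLike.congr_fun h 0
        simp [mono] at this
        exact Fin.ext this
      rw [hone, Matrix.det_one]
      exact one_ne_zero
  · intro c hc hne
    rw [hspec] at hne
    set M := Matrix.of fun s t : Fin (r + 1) =>
      MvPolynomial.coeff (mono t) (pf (2 * r) ((N c).submatrix (pos s).succAbove (pos s).succAbove))
    have hhom : ∀ i : Fin (2 * r + 1), (pf (2 * r) ((N c).submatrix i.succAbove i.succAbove)).IsHomogeneous r :=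
      fun i => pf_isHomogeneous r _ fun a b => by
        simp only [N, Matrix.submatrix_apply, Matrix.of_apply]
        exact MvPolynomial.IsHomogeneous.sum _ _ _ fun l _ =>
        MvPolynomial.IsHomogeneous.C_mul (MvPolynomial.isHomogeneous_X k l) _
    refine le_antisymm ?_ ?_
    · rw [Submodule.span_le]
      rintro _ ⟨i, rfl⟩
      exact hhom i
    · intro p hp
      rw [MvPolynomial.mem_homogeneousSubmodule] at hp
      let v : Fin (r + 1) → k := Matrix.vecMul (fun t => MvPolynomial.coeff (mono t) p) M⁻¹
      have hkey : p = ∑ s, v s • pf (2 * r) ((N c).submatrix (pos s).succAbove (pos s).succAbove) := by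
        refine MvPolynomial.ext _ _ fun d => ?_
        rw [MvPolynomial.coeff_sum]
        simp only [MvPolynomial.coeff_smul, smul_eq_mul]
        by_cases hd : d.degree = r
        · have hd2 : d 0 + d 1 = r := by
            rw [← hd, Finsupp.degree_eq_sum, Fin.sum_univ_two]
          obtain ⟨t, ht⟩ : ∃ t, d = mono t := ⟨⟨d 0, by omega⟩, by
            ext i
            fin_cases i <;> simp [mono] <;> omega⟩
          subst ht
          have hmul : Matrix.vecMul v M = fun t => MvPolynomial.coeff (mono t) p := by
            rw [Matrix.vecMul_vecMul, Matrix.nonsing_inv_mul _ (Ne.isUnit hne), Matrix.vecMul_one]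
          exact (congrFun hmul _).symm
        · rw [hp.coeff_eq_zero hd]
          exact (Finset.sum_eq_zero fun s _ => by rw [(hhom _).coeff_eq_zero hd, mul_zero]).symm
      rw [hkey]
      exact Submodule.sum_mem _ fun s _ => Submodule.smul_mem _ _ (Submodule.subset_span ⟨pos s, rfl⟩)

end Groth.Agent.S16355
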