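import Groth.Statements.S16356
import Mathlib.RingTheory.WittVector.DiscreteValuationRing
import Mathlib.RingTheory.WittVector.Complete
import Mathlib.NumberTheory.Multiplicity

set_option autoImplicit false
universe u
open OrdAV

namespace Groth.Agent.S16356

/-- For an odd prime p and a perfect field k of characteristic p, a root of unity in the ring of Witt
vectors W(k) whose residue in k is 1 is itself 1: if x ^ n = 1 with n ≥ 1 and the zeroth Witt
component of x is 1, then x = 1. (For p = 2 this fails: -1 in W(F_2).) -/
theorem result (p : ℕ) [Fact p.Prime] (hp : p ≠ 2)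
    (k : Type u) [Field k] [CharP k p] [PerfectRing k p]
    (x : WittVector p k) (n : ℕ) (hn : 0 < n) (hx : x ^ n = 1) (h0 : x.coeff 0 = 1) : x = 1 := by
  haveI : Fact p.Prime := inferInstance
  have hpodd : Odd p := (Fact.out : p.Prime).odd_of_ne_two hp
  have hdvd : ∀ y : WittVector p k, y.coeff 0 = 1 → (p : WittVector p k) ∣ y - 1 := fun y hy => by
    rw [← Ideal.mem_span_singleton, WittVector.mem_span_p_iff_coeff_zero_eq_zero]
    simp [← WittVector.constantCoeff_apply, hy, show WittVector.constantCoeff y = 1 from hy]
  have hp0 : (p : WittVector p k) ≠ 0 := (WittVector.irreducible p).ne_zero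
  have hpu : ∀ c : WittVector p k, IsUnit (1 + (p : WittVector p k) * c) := fun c => by
    have h := IsLocalRing.isUnit_one_sub_self_of_mem_nonunits ((p : WittVector p k) * (-c))
      (fun h => (WittVector.irreducible p).not_isUnit (isUnit_of_mul_isUnit_left h))
    simpa using h
  have step : ∀ y : WittVector p k, y.coeff 0 = 1 → y ^ p = 1 → y = 1 := by
    intro y hy hyp
    obtain ⟨b, hb⟩ := hdvd y hy
    obtain ⟨c, hc⟩ := odd_sq_dvd_geom_sum₂_sub (1 : WittVector p k) b hpodd
    simp only [one_pow, mul_one, ← hb, add_sub_cancel] at hc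
    have h1 := geom_sum_mul y p
    rw [hyp, sub_self, sub_eq_iff_eq_add.mp hc, show (p : WittVector p k) ^ 2 * c + p = p * (1 + p * c) by ring,
      mul_assoc, mul_eq_zero, or_iff_right hp0, mul_eq_zero, or_iff_right (hpu c).ne_zero, sub_eq_zero] at h1
    exact h1
  have step2 : ∀ (a : ℕ) (y : WittVector p k), y.coeff 0 = 1 → y ^ (p ^ a) = 1 → y = 1 := by
    intro a
    induction a with
    | zero => intro y _ h; simpa using h
    | succ a ih =>
      intro y hy h
      rw [pow_succ, pow_mul] at h
      refine ih y hy (step _ ?_ h)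
      show WittVector.constantCoeff (y ^ p ^ a) = 1
      rw [map_pow, show WittVector.constantCoeff y = 1 from hy, one_pow]
  obtain ⟨a, m, hm, rfl⟩ := Nat.exists_eq_pow_mul_and_not_dvd hn.ne' p (Fact.out : p.Prime).ne_one
  rw [mul_comm, pow_mul] at hx
  have hxm : x ^ m = 1 := step2 a _ (by show WittVector.constantCoeff (x ^ m) = 1; rw [map_pow, show WittVector.constantCoeff x = 1 from h0, one_pow]) hx
  have h1 := geom_sum_mul x m
  rw [hxm, sub_self, mul_eq_zero, sub_eq_zero] at h1
  refine h1.resolve_left fun h => hm ?_
  have h2 := congrArg WittVector.constantCoeff h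
  simp only [map_sum, map_pow, show WittVector.constantCoeff x = 1 from h0, one_pow, Finset.sum_const,
    Finset.card_range, nsmul_eq_mul, mul_one, map_zero] at h2
  exact (CharP.cast_eq_zero_iff k p m).mp h2

end Groth.Agent.S16356
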