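import Groth.Statements.S16357
import Mathlib.Algebra.Polynomial.Lifts
import Mathlib.Algebra.Polynomial.Monic
import Mathlib.Tactic.Ring
import Mathlib.Algebra.Field.Subfield.Basic
import Mathlib.Algebra.Polynomial.Degree.Lemmas

set_option autoImplicit false
universe u
open OrdAV

namespace Groth.Agent.S16357

/-- Over a field L of characteristic zero, a monic polynomial h whose square has rational coefficients
has rational coefficients itself. -/
theorem result (L : Type u) [Field L] [CharZero L]
    (h : Polynomial L) (hm : h.Monic) (f : Polynomial ℚ)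
    (hf : h ^ 2 = Polynomial.map (algebraMap ℚ L) f) :
    ∃ g : Polynomial ℚ, Polynomial.map (algebraMap ℚ L) g = h := by
  have hf' : f.Monic := Polynomial.monic_of_injective (algebraMap ℚ L).injective (hf ▸ hm.pow 2)
  have hsplit := Polynomial.lifts_iff_coeff_lifts (f := algebraMap ℚ L) h
  suffices h ∈ Polynomial.lifts (algebraMap ℚ L) from (Polynomial.mem_lifts _).mp this
  rw [hsplit]
  obtain ⟨d, hd⟩ : ∃ d, h.natDegree = d := ⟨_, rfl⟩
  suffices ∀ j, j ≤ d → h.coeff (d - j) ∈ Set.range (algebraMap ℚ L) by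
    intro n
    by_cases hn : n ≤ d
    · simpa [Nat.sub_sub_self hn] using this (d - n) (Nat.sub_le _ _)
    · exact ⟨0, by rw [map_zero, Polynomial.coeff_eq_zero_of_natDegree_lt (by omega)]⟩
  intro j
  induction j using Nat.strong_induction_on with
  | _ j ih =>
  intro hj
  rcases Nat.eq_zero_or_pos j with rfl | hj0
  · exact ⟨1, by simp [← hd]; exact hm.symm⟩
  set S := (algebraMap ℚ L).fieldRange
  have hS : ∀ x, x ∈ S ↔ x ∈ Set.range (algebraMap ℚ L) := fun x => RingHom.mem_fieldRange
  have h1 : (h ^ 2).coeff (2 * d - j) ∈ S := by rw [hf, Polynomial.coeff_map]; exact ⟨_, rfl⟩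
  rw [sq, Polynomial.coeff_mul] at h1
  have hp1 : (d, d - j) ∈ Finset.antidiagonal (2 * d - j) := by simp; omega
  have hp2 : (d - j, d) ∈ (Finset.antidiagonal (2 * d - j)).erase (d, d - j) := by
    simp [Finset.mem_erase]; omega
  rw [← Finset.add_sum_erase _ _ hp1, ← Finset.add_sum_erase _ _ hp2, ← add_assoc] at h1
  have hlead : h.coeff d = 1 := hd ▸ hm
  simp only [hlead, one_mul, mul_one] at h1
  have hrest : ∑ x ∈ (((Finset.antidiagonal (2 * d - j)).erase (d, d - j)).erase (d - j, d)),
      h.coeff x.1 * h.coeff x.2 ∈ S := by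
    refine sum_mem fun x hx => ?_
    obtain ⟨hx2, hx1, hxs⟩ : x ≠ (d - j, d) ∧ x ≠ (d, d - j) ∧ x.1 + x.2 = 2 * d - j := by
      simpa [Finset.mem_erase] using hx
    by_cases ha : d < x.1
    · simp [Polynomial.coeff_eq_zero_of_natDegree_lt (hd ▸ ha)]
    by_cases hb : d < x.2
    · simp [Polynomial.coeff_eq_zero_of_natDegree_lt (hd ▸ hb)]
    obtain ⟨a, b⟩ := x
    simp only [ne_eq, Prod.mk.injEq] at hx1 hx2 hxs ha hb
    refine mul_mem ((hS _).mpr ?_) ((hS _).mpr ?_)
    · simpa [show d - (d - a) = a by omega] using ih (d - a) (by omega) (by omega)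
    · simpa [show d - (d - b) = b by omega] using ih (d - b) (by omega) (by omega)
  have h2 := sub_mem h1 hrest
  rw [add_sub_cancel_right, ← two_mul] at h2
  have h3 := div_mem h2 (natCast_mem S 2)
  rw [Nat.cast_ofNat, mul_div_cancel_left₀ _ (two_ne_zero (α := L))] at h3
  exact (hS _).mp h3

end Groth.Agent.S16357
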