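import Groth.Statements.S16358
import Mathlib.RingTheory.WittVector.DiscreteValuationRing
import Mathlib.RingTheory.WittVector.Complete
import Mathlib.NumberTheory.Multiplicity

set_option autoImplicit false
universe u v w
open OrdAV

namespace Groth.Agent.S16358

/-- Let k be a perfect field of characteristic p > 0 and W = W(k); let M be a finitely generated free
W-module on which a finite group G acts W-linearly, with invariant submodule M^G. Then the map
(W/pW) ⊗ M^G → (W/pW) ⊗ M induced by the inclusion is injective. Since M^G is free, this implies
rank_W M^G ≤ dim_k (M/pM)^G; the published statement is that inequality, and this row states the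
stronger injectivity. -/
theorem result (p : ℕ) [Fact p.Prime]
    (k : Type u) [Field k] [CharP k p] [PerfectRing k p]
    (M : Type v) [AddCommGroup M] [Module (WittVector p k) M]
    [Module.Free (WittVector p k) M] [Module.Finite (WittVector p k) M]
    (G : Type w) [Group G] [Finite G] (ρ : Representation (WittVector p k) G M) :
    Function.Injective
      (LinearMap.lTensor (WittVector p k ⧸ Ideal.span {(p : WittVector p k)}) ρ.invariants.subtype) := by
  have hreg : ∀ y : M, (p : WittVector p k) • y = 0 → y = 0 := fun y hy => by
    haveI := Module.Free.chooseBasis (WittVector p k) M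
    exact (smul_eq_zero.mp hy).resolve_left (WittVector.irreducible p).ne_zero
  rw [injective_iff_map_eq_zero]
  intro y hy
  obtain ⟨m, rfl⟩ := TensorProduct.mk_surjective (WittVector p k) ρ.invariants (WittVector p k ⧸ Ideal.span {(p : WittVector p k)}) Ideal.Quotient.mk_surjective y
  have h1 := (LinearMap.ker_tensorProductMk (I := Ideal.span {(p : WittVector p k)}) (Q := M)).le hy
  rw [Submodule.ideal_span_singleton_smul, Submodule.mem_smul_pointwise_iff_exists] at h1
  obtain ⟨z, -, hz⟩ := h1
  have hzinv : z ∈ ρ.invariants := fun g => by
    rw [← sub_eq_zero]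
    apply hreg
    rw [smul_sub, ← map_smul, hz]
    exact sub_eq_zero.mpr (m.2 g)
  have hm : m = (p : WittVector p k) • (⟨z, hzinv⟩ : ρ.invariants) := Subtype.ext hz.symm
  rw [TensorProduct.mk_apply, hm, TensorProduct.tmul_smul, TensorProduct.smul_tmul', Algebra.smul_def, mul_one,
    Ideal.Quotient.algebraMap_eq, Ideal.Quotient.eq_zero_iff_mem.mpr (Ideal.mem_span_singleton_self _), TensorProduct.zero_tmul]

end Groth.Agent.S16358
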