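import Groth.Statements.S16362
import Mathlib

set_option autoImplicit false
universe u
open MovLem

namespace Groth.Agent.S16362

/-- Let A be a commutative ring, p a prime ideal of A, and ζ, u elements of A with u not in p. Then the
quotient of the classes of ζ and u in the fraction field of the domain A ⧸ p is integral over A ⧸ p
if and only if there exist a natural number N and elements a_1, …, a_N of A such that ζ^N + a_1
ζ^(N-1) u + ⋯ + a_N u^N lies in p; equivalently, some binary form of degree N with coefficients in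
A, monic in the first variable, evaluated at (ζ, u), lies in p. -/
theorem result
    {A : Type u} [CommRing A] (p : Ideal A) [p.IsPrime] (ζ u : A) (hu : u ∉ p) :
    IsIntegral (A ⧸ p)
        (algebraMap (A ⧸ p) (FractionRing (A ⧸ p)) (Ideal.Quotient.mk p ζ) /
          algebraMap (A ⧸ p) (FractionRing (A ⧸ p)) (Ideal.Quotient.mk p u)) ↔
      ∃ (N : ℕ) (a : ℕ → A),
        ζ ^ N + ∑ i ∈ Finset.Icc 1 N, a i * ζ ^ (N - i) * u ^ i ∈ p := by
  classical
  have hu' : Ideal.Quotient.mk p u ≠ 0 := fun h => hu (Ideal.Quotient.eq_zero_iff_mem.1 h)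
  set K := FractionRing (A ⧸ p)
  set φ := (algebraMap (A ⧸ p) K).comp (Ideal.Quotient.mk p) with hφ
  show IsIntegral (A ⧸ p) (φ ζ / φ u) ↔ _
  have hu'' : φ u ≠ 0 := (map_ne_zero_iff _ (IsFractionRing.injective (A ⧸ p) K)).2 hu'
  have hker : ∀ x, x ∈ p ↔ φ x = 0 := fun x => by
    rw [hφ, RingHom.comp_apply, map_eq_zero_iff _ (IsFractionRing.injective (A ⧸ p) K), Ideal.Quotient.eq_zero_iff_mem]
  have hform : ∀ (N : ℕ) (a : ℕ → A), φ (ζ ^ N + ∑ i ∈ Finset.Icc 1 N, a i * ζ ^ (N - i) * u ^ i) =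
      φ u ^ N * ((φ ζ / φ u) ^ N + ∑ i ∈ Finset.Icc 1 N, φ (a i) * (φ ζ / φ u) ^ (N - i)) := by
    intro N a
    rw [map_add, map_pow, map_sum, mul_add, ← mul_pow, mul_div_cancel₀ _ hu'', Finset.mul_sum]
    congr 1
    refine Finset.sum_congr rfl fun i hi => ?_
    rw [map_mul, map_mul, map_pow, map_pow]
    obtain ⟨j, rfl⟩ := Nat.exists_eq_add_of_le (Finset.mem_Icc.1 hi).2
    rw [Nat.add_sub_cancel_left, pow_add, show φ u ^ i * φ u ^ j * (φ (a i) * (φ ζ / φ u) ^ j) =
      φ (a i) * (φ u ^ i * (φ u * (φ ζ / φ u)) ^ j) by ring, mul_div_cancel₀ _ hu'']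
    ring
  constructor
  · rintro ⟨P, hP, hP0⟩
    have hsur := fun i => Ideal.Quotient.mk_surjective (I := p) (P.coeff i)
    choose a ha using hsur
    refine ⟨P.natDegree, fun i => a (P.natDegree - i), (hker _).2 ?_⟩
    rw [hform]
    refine mul_eq_zero_of_right _ ?_
    rw [← Polynomial.aeval_def, Polynomial.aeval_eq_sum_range, Finset.sum_range_succ, hP.coeff_natDegree, one_smul] at hP0
    rw [← hP0, add_comm]
    congr 1
    refine Finset.sum_nbij' (fun i => P.natDegree - i) (fun j => P.natDegree - j) ?_ ?_ ?_ ?_ ?_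
    · intro i hi; simp at hi ⊢; omega
    · intro j hj; simp at hj ⊢; omega
    · intro i hi; simp at hi ⊢; omega
    · intro j hj; simp at hj ⊢; omega
    · intro i hi
      rw [Algebra.smul_def, hφ, RingHom.comp_apply, ha]
  · rintro ⟨N, a, h⟩
    have h0 := (hker _).1 h
    rw [hform, mul_eq_zero] at h0
    have h1 := h0.resolve_left (pow_ne_zero _ hu'')
    refine ⟨Polynomial.X ^ N + ∑ i ∈ Finset.Icc 1 N, Polynomial.C (Ideal.Quotient.mk p (a i)) * Polynomial.X ^ (N - i), ?_, ?_⟩
    · refine Polynomial.monic_X_pow_add (lt_of_le_of_lt (Polynomial.degree_sum_le _ _) ((Finset.sup_lt_iff (WithBot.bot_lt_coe N)).2 fun i hi => lt_of_le_of_lt (Polynomial.degree_C_mul_X_pow_le _ _) ?_))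
      exact WithBot.coe_lt_coe.2 (Nat.sub_lt (by simp at hi; omega) (by simp at hi; omega))
    · rw [← h1]
      simp only [Polynomial.eval₂_add, Polynomial.eval₂_pow, Polynomial.eval₂_X, Polynomial.eval₂_finsetSum, Polynomial.eval₂_mul, Polynomial.eval₂_C]
      rfl

end Groth.Agent.S16362
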