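import Groth.Statements.S16367
import Mathlib.RingTheory.Ideal.Quotient.Operations
import Mathlib.RingTheory.Finiteness.Ideal
import Mathlib.Tactic.Ring
import Mathlib.Algebra.Ring.GeomSum
-- import your own Groth.Agent.* helpers here

set_option autoImplicit false
universe u
open MovLem

namespace Groth.Agent.S16367

/-- The chart computation of its proof: let k be a commutative ring, P = k[x_1, …, x_d, w_1, …, w_n] a
polynomial ring in two groups of variables, u a polynomial in the x-variables alone, v a vector in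
k^d, J a set of indices among the w-variables with ζ = ∏_{j ∈ J} w_j, and N ≤ s natural numbers. Let
(f_λ) be a finite family of elements of P, each of total degree at most N in the x-variables, and
assume that ζ^N + c_1 ζ^(N-1) u + ⋯ + c_N u^N lies in the ideal generated by the f_λ for some c_1,
…, c_N ∈ P. For each λ let φ_λ ∈ P[τ] be the polynomial τ^N · f_λ(x + u^s v/τ, w), written out
monomial by monomial: a monomial a·x^m·w^m' of x-degree e = |m| contributes a · τ^(N-e) · ∏_i (τ x_i
+ u^s v_i)^(m_i) · w^m'. Then there are c'_1, …, c'_N ∈ P[τ] with (τζ)^N + c'_1 (τζ)^(N-1) u + ⋯ +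
c'_N u^N in the ideal of P[τ] generated by the φ_λ. (This identity is what shows that translating a
cycle by t·u^s·v preserves the modulus condition on the chart whose coordinates are the z_i and the
1/z_j, with τ = 1/t; integrality of ζ/u, resp. τζ/u, is expressed by such monic binary forms.) -/
theorem result
    {k : Type u} [CommRing k] (d n : ℕ) (u : MvPolynomial (Fin d) k) (v : Fin d → k)
    (J : Finset (Fin n)) (N s : ℕ) (hs : N ≤ s)
    {Λ : Type u} [Fintype Λ] (f : Λ → MvPolynomial (Fin d ⊕ Fin n) k)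
    (hdeg : ∀ l, ∀ m ∈ (f l).support, ∑ i : Fin d, m (Sum.inl i) ≤ N)
    (c : ℕ → MvPolynomial (Fin d ⊕ Fin n) k)
    (hE : (∏ j ∈ J, MvPolynomial.X (Sum.inr j)) ^ N +
        ∑ i ∈ Finset.Icc 1 N, c i * (∏ j ∈ J, MvPolynomial.X (Sum.inr j)) ^ (N - i) *
          MvPolynomial.rename Sum.inl u ^ i ∈ Ideal.span (Set.range f)) :
    ∃ c' : ℕ → Polynomial (MvPolynomial (Fin d ⊕ Fin n) k),
      (Polynomial.X * Polynomial.C (∏ j ∈ J, MvPolynomial.X (Sum.inr j))) ^ N +
        ∑ i ∈ Finset.Icc 1 N, c' i *
          (Polynomial.X * Polynomial.C (∏ j ∈ J, MvPolynomial.X (Sum.inr j))) ^ (N - i) *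
            Polynomial.C (MvPolynomial.rename Sum.inl u) ^ i ∈
      Ideal.span (Set.range fun l : Λ =>
        ∑ m ∈ (f l).support,
          Polynomial.C (MvPolynomial.C (MvPolynomial.coeff m (f l))) *
            Polynomial.X ^ (N - ∑ i : Fin d, m (Sum.inl i)) *
            (∏ i : Fin d, (Polynomial.X * Polynomial.C (MvPolynomial.X (Sum.inl i)) +
                Polynomial.C (MvPolynomial.rename Sum.inl u ^ s * MvPolynomial.C (v i))) ^ m (Sum.inl i)) *
            ∏ j : Fin n, Polynomial.C (MvPolynomial.X (Sum.inr j)) ^ m (Sum.inr j)) := by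
  classical
  set U : MvPolynomial (Fin d ⊕ Fin n) k := MvPolynomial.rename Sum.inl u with hU
  set P : MvPolynomial (Fin d ⊕ Fin n) k := ∏ j ∈ J, MvPolynomial.X (Sum.inr j) with hP
  set g : Λ → Polynomial (MvPolynomial (Fin d ⊕ Fin n) k) := fun l : Λ =>
        ∑ m ∈ (f l).support,
          Polynomial.C (MvPolynomial.C (MvPolynomial.coeff m (f l))) *
            Polynomial.X ^ (N - ∑ i : Fin d, m (Sum.inl i)) *
            (∏ i : Fin d, (Polynomial.X * Polynomial.C (MvPolynomial.X (Sum.inl i)) +
                Polynomial.C (U ^ s * MvPolynomial.C (v i))) ^ m (Sum.inl i)) *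
            ∏ j : Fin n, Polynomial.C (MvPolynomial.X (Sum.inr j)) ^ m (Sum.inr j) with hg
  let t : Polynomial (MvPolynomial (Fin d ⊕ Fin n) k) := if N = 0 then 0 else Polynomial.C (U ^ s)
  let q := Ideal.Quotient.mk (Ideal.span {t})
  have hq : q t = 0 := Ideal.Quotient.eq_zero_iff_mem.2 (Ideal.mem_span_singleton_self t)
  have key : ∀ l, q (g l) = q (Polynomial.X ^ N * Polynomial.C (f l)) := by
    intro l
    conv_rhs => rw [MvPolynomial.as_sum (f l), map_sum, Finset.mul_sum, map_sum]
    simp only [hg, map_sum]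
    refine Finset.sum_congr rfl fun m hm => ?_
    have hprod : q (∏ i : Fin d, (Polynomial.X * Polynomial.C (MvPolynomial.X (Sum.inl i)) +
                Polynomial.C (U ^ s * MvPolynomial.C (v i))) ^ m (Sum.inl i)) =
        q (∏ i : Fin d, (Polynomial.X * Polynomial.C (MvPolynomial.X (Sum.inl i))) ^ m (Sum.inl i)) := by
      rw [map_prod, map_prod]
      refine Finset.prod_congr rfl fun i _ => ?_
      by_cases hi : m (Sum.inl i) = 0
      · rw [hi, pow_zero, pow_zero]
      · have hN : N ≠ 0 := by
          intro h0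
          have h1 := Finset.single_le_sum (f := fun i : Fin d => m (Sum.inl i)) (fun _ _ => Nat.zero_le _) (Finset.mem_univ i)
          have h2 := hdeg l m hm
          omega
        have ht : t = Polynomial.C (U ^ s) := if_neg hN
        rw [map_pow, map_pow]
        congr 1
        rw [Ideal.Quotient.eq, add_sub_cancel_left, map_mul Polynomial.C (U ^ s), ← ht]
        exact Ideal.mul_mem_right _ _ (Ideal.mem_span_singleton_self t)
    have hmon : MvPolynomial.monomial m (MvPolynomial.coeff m (f l)) = MvPolynomial.C (MvPolynomial.coeff m (f l)) *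
        ((∏ i : Fin d, MvPolynomial.X (Sum.inl i) ^ m (Sum.inl i)) *
          ∏ j : Fin n, MvPolynomial.X (Sum.inr j) ^ m (Sum.inr j)) := by
      rw [MvPolynomial.monomial_eq, Finsupp.prod_fintype _ _ (fun _ => pow_zero _), Fintype.prod_sum_type]
    rw [map_mul q, map_mul q, hprod, ← map_mul q, ← map_mul q, hmon]
    congr 1
    simp only [mul_pow, Finset.prod_mul_distrib, Finset.prod_pow_eq_pow_sum, map_mul, map_prod, map_pow]
    have h3 : Polynomial.X ^ (N - ∑ i : Fin d, m (Sum.inl i)) * Polynomial.X ^ (∑ i : Fin d, m (Sum.inl i)) =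
        (Polynomial.X ^ N : Polynomial (MvPolynomial (Fin d ⊕ Fin n) k)) := by
      rw [← pow_add, Nat.sub_add_cancel (hdeg l m hm)]
    rw [← h3]
    ring
  obtain ⟨a, ha⟩ := Ideal.mem_span_range_iff_exists_fun.1 hE
  have hZ : q (∑ l, Polynomial.C (a l) * g l) = q (Polynomial.X ^ N * Polynomial.C (∑ l, a l * f l)) := by
    simp only [map_sum, map_mul, key, Finset.mul_sum]
    refine Finset.sum_congr rfl fun l _ => ?_
    ring
  rw [ha] at hZ
  obtain ⟨Q, hQ⟩ := Ideal.mem_span_singleton'.1 (Ideal.Quotient.eq.1 hZ)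
  refine ⟨fun i => Polynomial.X ^ i * Polynomial.C (c i) + (if i = N then Polynomial.C (U ^ (s - N)) * Q else 0), ?_⟩
  have hsum : (Polynomial.X * Polynomial.C P) ^ N +
        ∑ i ∈ Finset.Icc 1 N, (Polynomial.X ^ i * Polynomial.C (c i) + (if i = N then Polynomial.C (U ^ (s - N)) * Q else 0)) *
          (Polynomial.X * Polynomial.C P) ^ (N - i) * Polynomial.C U ^ i =
      ∑ l, Polynomial.C (a l) * g l := by
    rw [← sub_add_cancel (∑ l, Polynomial.C (a l) * g l) (Polynomial.X ^ N * Polynomial.C (P ^ N + ∑ i ∈ Finset.Icc 1 N, c i * P ^ (N - i) * U ^ i)), ← hQ]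
    have h4 : ∑ i ∈ Finset.Icc 1 N, (if i = N then Polynomial.C (U ^ (s - N)) * Q else 0) *
          (Polynomial.X * Polynomial.C P) ^ (N - i) * Polynomial.C U ^ i = Q * t := by
      by_cases h0 : N = 0
      · subst h0
        simp [t]
      · rw [Finset.sum_eq_single N]
        · simp only [if_true, Nat.sub_self, pow_zero, mul_one, t, if_neg h0]
          rw [mul_comm (Polynomial.C (U ^ (s - N))) Q, mul_assoc, map_pow Polynomial.C U (s - N), map_pow Polynomial.C U s, ← pow_add, Nat.sub_add_cancel hs]
        · intro b _ hb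
          simp [hb]
        · intro h
          exact absurd (Finset.mem_Icc.2 ⟨Nat.one_le_iff_ne_zero.2 h0, le_rfl⟩) h
    have h5 : ∀ i ∈ Finset.Icc 1 N, Polynomial.X ^ i * Polynomial.C (c i) * (Polynomial.X * Polynomial.C P) ^ (N - i) * Polynomial.C U ^ i
        = Polynomial.X ^ N * Polynomial.C (c i * P ^ (N - i) * U ^ i) := by
      intro i hi
      have h6 : Polynomial.X ^ i * Polynomial.X ^ (N - i) = (Polynomial.X ^ N : Polynomial (MvPolynomial (Fin d ⊕ Fin n) k)) := by
        rw [← pow_add, Nat.add_sub_cancel' (Finset.mem_Icc.1 hi).2]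
      simp only [map_mul, map_pow, mul_pow]
      rw [← h6]
      ring
    simp only [add_mul, Finset.sum_add_distrib, h4]
    rw [Finset.sum_congr rfl h5, ← Finset.mul_sum, ← map_sum, map_add, mul_add, mul_pow, map_pow]
    ring
  rw [hsum]
  exact sum_mem fun l _ => Ideal.mul_mem_left _ _ (Ideal.subset_span ⟨l, rfl⟩)

end Groth.Agent.S16367
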