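import Groth.Statements.S16370
import Mathlib

set_option autoImplicit false
universe u
open CategoryTheory AlgebraicGeometry Opposite
open FrobSch

set_option backward.isDefEq.respectTransparency false

namespace Groth.Agent.S16370

/-- (ii) ⇒ (iii): let X be a reduced scheme of prime characteristic p, φ the p-th power map on the sheaf
of additive groups underlying O_X (a monomorphism, X being reduced) and B its cokernel in abelian
sheaves. If H^i(X, B) = 0 for all i ≥ 0, then the endomorphism of H^i(X, O_X) induced by φ — the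
Hasse–Witt operation — is bijective for all i. (The source has X normal and proper over a perfect
field; only reducedness enters this implication.) -/
theorem result
    (p : ℕ) [Fact p.Prime] (X : Scheme.{u}) [IsReduced X] (hp : (p : Γ(X, ⊤)) = 0)
    (φ : Coh.toAb (Coh.structureModule X) ⟶ Coh.toAb (Coh.structureModule X))
    (hφ : ∀ (U : X.Opens) (t : Γ(X, U)), φ.hom.app (op U) t = t ^ p)
    (hB : ∀ i : ℕ, Subsingleton (Sheaf.H (Limits.cokernel φ) i))
    (i : ℕ) : Function.Bijective (Sheaf.H.map φ i) := by
  have hinj : ∀ (U : X.Opens) (t s : Γ(X, U)), t ^ p = s ^ p → t = s := by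
    intro U t s h
    have hpU : (p : Γ(X, U)) = 0 := by
      have := congrArg (X.presheaf.map (homOfLE (le_top : U ≤ ⊤)).op).hom hp
      simpa using this
    obtain ⟨r, hr⟩ := exists_add_pow_prime_eq (R := Γ(X, U)) (Fact.out : p.Prime) (t - s) s
    rw [sub_add_cancel, hpU, zero_mul, zero_mul, zero_mul, add_zero, h] at hr
    have h0 : (t - s) ^ p = 0 := by linear_combination -hr
    exact sub_eq_zero.mp (IsReduced.eq_zero _ ⟨p, h0⟩)
  haveI : Mono φ := by
    haveI : ∀ U, Mono (φ.hom.app U) := fun U => by
      rw [AddCommGrpCat.mono_iff_injective]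
      intro t s h
      exact hinj U.unop t s ((hφ U.unop t).symm.trans (h.trans (hφ U.unop s)))
    haveI : Mono ((sheafToPresheaf _ _).map φ) := NatTrans.mono_of_mono_app φ.hom
    exact (sheafToPresheaf _ _).mono_of_mono_map this
  let S := ShortComplex.mk φ (Limits.cokernel.π φ) (Limits.cokernel.condition φ)
  have hS : S.ShortExact :=
    { exact := ShortComplex.exact_of_g_is_cokernel _ (Limits.cokernelIsCokernel φ)
      mono_f := ‹Mono φ›
      epi_g := inferInstanceAs (Epi (Limits.cokernel.π φ)) }
  refine ⟨?_, fun x => ?_⟩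
  · rw [injective_iff_map_eq_zero]
    intro x hx
    cases i with
    | zero =>
      apply Abelian.Ext.addEquiv₀.injective
      have h := Sheaf.H.addEquiv₀_map φ x
      rw [hx, map_zero] at h
      rw [map_zero]
      exact (cancel_mono φ).mp (by rw [Limits.zero_comp]; exact h.symm)
    | succ n =>
      rw [Sheaf.H.map_apply] at hx
      obtain ⟨x₃, rfl⟩ := Abelian.Ext.covariant_sequence_exact₁ (hS := hS) _ x hx (n₀ := n) rfl
      have : x₃ = 0 := @Subsingleton.elim _ (hB n) _ _
      rw [this, Abelian.Ext.zero_comp]
  · have h3 : x.comp (Abelian.Ext.mk₀ S.g) (add_zero i) = 0 := @Subsingleton.elim _ (hB i) _ _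
    obtain ⟨x₁, hx₁⟩ := Abelian.Ext.covariant_sequence_exact₂ _ hS x h3
    exact ⟨x₁, by rw [Sheaf.H.map_apply]; exact hx₁⟩

end Groth.Agent.S16370
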