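import Groth.Statements.S16371
import Mathlib

set_option autoImplicit false
universe u v w
open FrobAlg

namespace Groth.Agent.S16371

/-- Let p be a prime, A a commutative ring and B, C commutative A-algebras with p² = 0 in B. If two
A-algebra maps g₁, g₂ : C → B agree modulo p, then they agree on every element of C which is
congruent modulo p to an element of the A-subalgebra generated by the p-th powers. (The source
states this for liftings over a flat ℤ/p²-thickening of two smooth schemes and the subsheaf of
functions whose reduction lies in the image of the relative Frobenius; the smoothness and lifting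
hypotheses are not needed for the identity.) -/
theorem result
    (p : ℕ) [Fact p.Prime] (A : Type u) [CommRing A] (B : Type v) [CommRing B] [Algebra A B]
    (C : Type w) [CommRing C] [Algebra A C] (hp : (p : B) ^ 2 = 0)
    (g₁ g₂ : C →ₐ[A] B) (hg : ∀ x : C, g₁ x - g₂ x ∈ Ideal.span ({(p : B)} : Set B))
    (x y : C) (hy : y ∈ Algebra.adjoin A (Set.range fun c : C => c ^ p))
    (hxy : x - y ∈ Ideal.span ({(p : C)} : Set C)) :
    g₁ x = g₂ x := by
  have hc : ∀ c : C, g₁ c ^ p = g₂ c ^ p := fun c => by
    obtain ⟨e, he⟩ := Ideal.mem_span_singleton'.mp (hg c)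
    obtain ⟨r, hr⟩ := exists_add_pow_prime_eq (R := B) (Fact.out : p.Prime) (g₂ c) (e * p)
    rw [show g₁ c = g₂ c + e * p by rw [he]; ring, hr,
      mul_pow, pow_eq_zero_of_le (Fact.out : p.Prime).two_le hp, mul_zero,
      show (p : B) * g₂ c * (e * p) * r = (p : B) ^ 2 * (g₂ c * e * r) by ring, hp, zero_mul, add_zero, add_zero]
  have hY : ∀ z ∈ Algebra.adjoin A (Set.range fun c : C => c ^ p), g₁ z = g₂ z := by
    intro z hz
    induction hz using Algebra.adjoin_induction with
    | mem z hz => obtain ⟨c, rfl⟩ := hz; simp [hc]
    | algebraMap a => simp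
    | add a b _ _ ha hb => simp [ha, hb]
    | mul a b _ _ ha hb => simp [ha, hb]
  obtain ⟨c, hc'⟩ := Ideal.mem_span_singleton'.mp hxy
  obtain ⟨e, he⟩ := Ideal.mem_span_singleton'.mp (hg c)
  have hx : x = y + c * p := by rw [hc']; ring
  rw [hx, map_add, map_add, hY y hy, map_mul, map_mul, map_natCast, map_natCast,
    show g₁ c = g₂ c + e * p by rw [he]; ring, add_mul, show e * (p : B) * p = e * (p : B) ^ 2 by ring, hp,
    mul_zero, add_zero]

end Groth.Agent.S16371
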