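import Groth.Statements.S16373
import Groth.Agent.S16372

set_option autoImplicit false
universe u
open FrobAlg

namespace Groth.Agent.S16373

/-- Let p be a prime, m ≥ 1, R a commutative ring with p = 0 in R and σ : W_m(R) → R a quasi-F-splitting
of level m (additive, σ(1) = 1, σ(F(x)·y) = x₀·σ(y) with F the componentwise p-th power). Let I ⊆
W_{m+1}(R) be the ideal generated by the shifts V(x) of the x with σ(x) = 0, and Q = W_{m+1}(R)/I.
Then Q is a flat lifting of R modulo p²: an element of Q lies in pQ exactly when the first Witt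
component of a representative vanishes (so Q/pQ is R through the first component), and an element of
Q is killed by p exactly when it lies in pQ. (Stated for a ring; the source has a scheme over the
prime field. For m = 1 this is the lifting attached to a Frobenius splitting.) -/
theorem result
    (p : ℕ) [Fact p.Prime] (m : ℕ) (hm : 0 < m) (R : Type u) [CommRing R] (hp : (p : R) = 0)
    (σ : TruncatedWittVector p m R →+ R) (h1 : σ 1 = 1)
    (hF : ∀ x y : TruncatedWittVector p m R, σ (WittGrp.frob p m hp x * y) = x.coeff ⟨0, hm⟩ * σ y)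
    (I : Ideal (TruncatedWittVector p (m + 1) R))
    (hI : I = Ideal.span (WittGrp.shift p (Nat.le_succ m) '' {x : TruncatedWittVector p m R | σ x = 0})) :
    (∀ w : TruncatedWittVector p (m + 1) R,
        Ideal.Quotient.mk I w ∈ Ideal.span ({(p : TruncatedWittVector p (m + 1) R ⧸ I)} : Set _) ↔
          w.coeff 0 = 0) ∧
    (∀ q : TruncatedWittVector p (m + 1) R ⧸ I,
        (p : TruncatedWittVector p (m + 1) R ⧸ I) * q = 0 ↔
          q ∈ Ideal.span ({(p : TruncatedWittVector p (m + 1) R ⧸ I)} : Set _)) := by
  rcases subsingleton_or_nontrivial R with hR | hR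
  · have : Subsingleton (TruncatedWittVector p (m + 1) R) := ⟨fun a b => TruncatedWittVector.ext fun i => Subsingleton.elim _ _⟩
    exact ⟨fun w => ⟨fun _ => Subsingleton.elim _ _, fun _ => by rw [Subsingleton.elim w 0, map_zero]; exact zero_mem _⟩,
      fun q => ⟨fun _ => by obtain ⟨w, rfl⟩ := Ideal.Quotient.mk_surjective q; rw [Subsingleton.elim w 0, map_zero]; exact zero_mem _, fun _ => by
        obtain ⟨w, rfl⟩ := Ideal.Quotient.mk_surjective q
        rw [← map_natCast (Ideal.Quotient.mk I), ← map_mul, Subsingleton.elim (_ * w) 0, map_zero]⟩⟩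
  haveI : CharP R p := (CharP.charP_iff_prime_eq_zero Fact.out).mpr hp
  let V := WittGrp.shift (R := R) p (Nat.le_succ m)
  have hI' : ∀ w, w ∈ I ↔ ∃ x, σ x = 0 ∧ V x = w := by
    intro w
    rw [hI]
    constructor
    · intro hw
      induction hw using Submodule.span_induction with
      | mem y hy => exact hy
      | zero => exact ⟨0, map_zero σ, map_zero V⟩
      | add a b _ _ ha hb =>
        obtain ⟨x, hx, rfl⟩ := ha
        obtain ⟨y, hy, rfl⟩ := hb
        exact ⟨x + y, by rw [map_add, hx, hy, add_zero], map_add V x y⟩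
      | smul c a _ ha =>
        obtain ⟨x, hx, rfl⟩ := ha
        obtain ⟨x', hx', e⟩ := Groth.Agent.S16372.result p m hm R hp σ h1 hF c x hx
        exact ⟨x', hx', e.symm⟩
    · rintro ⟨x, hx, rfl⟩
      exact Ideal.subset_span ⟨x, hx, rfl⟩
  have hVinj : Function.Injective V := by
    intro a b h
    ext i
    have := congrArg (TruncatedWittVector.coeff ⟨(i : ℕ) + 1, by omega⟩) h
    simp only [V, WittGrp.coeff_shift] at this
    rw [dif_pos (by simp), dif_pos (by simp)] at this
    convert this using 2 <;> ext <;> simp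
  have hV0 : ∀ x, (V x).coeff 0 = 0 := fun x => by
    simp only [V, WittGrp.coeff_shift]
    rw [dif_neg (by simp)]
  have hp_mul : ∀ W : WittVector p R, (p : TruncatedWittVector p (m + 1) R) * WittVector.truncate (m + 1) W =
      V (WittGrp.frob p m hp (WittVector.truncate m W)) := fun W => by
    simp only [V]
    rw [WittGrp.frob_truncate, WittGrp.shift_truncate, ← map_natCast (WittVector.truncate (m + 1)),
      ← map_mul, show m + 1 - m = 1 by omega, Function.iterate_one, WittVector.verschiebung_frobenius,
      mul_comm]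
  have hsig : ∀ x, σ (WittGrp.frob p m hp x) = x.coeff ⟨0, hm⟩ := fun x => by
    simpa [h1] using hF x 1
  have hz : ∀ W : WittVector p R, (WittVector.truncate (m + 1) W).coeff 0 = W.coeff 0 := fun W =>
    WittVector.coeff_truncate W _
  have hmem : ∀ w : TruncatedWittVector p (m + 1) R,
      Ideal.Quotient.mk I w ∈ Ideal.span ({(p : TruncatedWittVector p (m + 1) R ⧸ I)} : Set _) ↔
        w.coeff 0 = 0 := by
    intro w
    obtain ⟨X, rfl⟩ := WittVector.truncate_surjective p (m + 1) R w
    rw [hz]
    constructor
    · intro h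
      obtain ⟨q, hq⟩ := Ideal.mem_span_singleton'.mp h
      obtain ⟨c, rfl⟩ := Ideal.Quotient.mk_surjective q
      obtain ⟨W, rfl⟩ := WittVector.truncate_surjective p (m + 1) R c
      rw [← map_natCast (Ideal.Quotient.mk I), ← map_mul, Ideal.Quotient.eq, mul_comm, hI'] at hq
      obtain ⟨x, -, hx⟩ := hq
      obtain ⟨Y, rfl⟩ := WittVector.truncate_surjective p m R x
      rw [hp_mul, eq_sub_iff_add_eq', ← eq_sub_iff_add_eq, ← map_sub] at hx
      rw [← hz, hx]
      exact hV0 _
    · intro h
      obtain ⟨Y, rfl⟩ : ∃ Y, X = WittVector.verschiebung Y :=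
        ⟨_, WittVector.eq_iterate_verschiebung (n := 1) (by simpa using h)⟩
      refine Ideal.mem_span_singleton'.mpr ⟨Ideal.Quotient.mk I (WittVector.truncate (m + 1)
        (WittVector.teichmuller p (σ (WittVector.truncate m Y)))), ?_⟩
      rw [← map_natCast (Ideal.Quotient.mk I), ← map_mul, Ideal.Quotient.eq, mul_comm, hp_mul, hI']
      refine ⟨WittGrp.frob p m hp (WittVector.truncate m (WittVector.teichmuller p
        (σ (WittVector.truncate m Y)))) - WittVector.truncate m Y, ?_, ?_⟩
      · rw [map_sub, hsig, WittVector.coeff_truncate, WittVector.teichmuller_coeff_zero, sub_self]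
      · rw [map_sub]
        congr 1
        simp only [V]
        rw [WittGrp.shift_truncate, show m + 1 - m = 1 by omega, Function.iterate_one]
  refine ⟨hmem, fun q => ?_⟩
  obtain ⟨w, rfl⟩ := Ideal.Quotient.mk_surjective q
  rw [hmem]
  obtain ⟨W, rfl⟩ := WittVector.truncate_surjective p (m + 1) R w
  rw [← map_natCast (Ideal.Quotient.mk I), ← map_mul, Ideal.Quotient.eq_zero_iff_mem, hp_mul, hI', hz]
  constructor
  · rintro ⟨x, hx, e⟩
    rw [hVinj e, hsig, WittVector.coeff_truncate] at hx
    exact hx
  · intro h
    exact ⟨_, by rw [hsig, WittVector.coeff_truncate]; exact h, rfl⟩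

end Groth.Agent.S16373
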