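import Groth.Statements.S1638
import Mathlib

set_option autoImplicit false
universe u
open Brauer

namespace Groth.Agent.S1638

/-- Let A and A' be algebras over a field k with subalgebras B ⊆ A and B' ⊆ A' having centralizers C and
C'. Then the centralizer of the image of B ⊗ B' in A ⊗_k A' is the image of C ⊗_k C'. -/
theorem result (k : Type u) [Field k] (A A' : Type u) [Ring A] [Ring A'] [Algebra k A] [Algebra k A']
    (B : Subalgebra k A) (B' : Subalgebra k A') :
    Subalgebra.centralizer k ((Algebra.TensorProduct.map B.val B'.val).range : Set (TensorProduct k A A')) =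
      (Algebra.TensorProduct.map (Subalgebra.centralizer k (B : Set A)).val (Subalgebra.centralizer k (B' : Set A')).val).range := by
  classical
  set C := Subalgebra.centralizer k (B : Set A) with hC
  set C' := Subalgebra.centralizer k (B' : Set A') with hC'
  apply le_antisymm
  · intro z hz
    rw [Subalgebra.mem_centralizer_iff] at hz
    -- coordinates on the right factor
    let e := Module.Free.chooseBasis k A'
    let φ := TensorProduct.equivFinsuppOfBasisRight (M := A) e
    have h1 : ∀ i, φ z i ∈ C := fun i => by
      rw [hC, Subalgebra.mem_centralizer_iff]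
      intro b hb
      have hb' := hz (b ⊗ₜ[k] 1) ⟨(⟨b, hb⟩ : B) ⊗ₜ[k] 1, by simp⟩
      have hl : ∀ w : TensorProduct k A A', φ ((b ⊗ₜ[k] 1) * w) i = b * φ w i := fun w => by
        induction w using TensorProduct.induction_on with
        | zero => simp
        | tmul x y => simp [φ, Algebra.TensorProduct.tmul_mul_tmul]
        | add x y hx hy => simp [mul_add, hx, hy]
      have hr : ∀ w : TensorProduct k A A', φ (w * (b ⊗ₜ[k] 1)) i = φ w i * b := fun w => by
        induction w using TensorProduct.induction_on with
        | zero => simp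
        | tmul x y => simp [φ, Algebra.TensorProduct.tmul_mul_tmul]
        | add x y hx hy => simp [add_mul, hx, hy]
      rw [← hl, ← hr, hb']
    let e₀ := Module.Free.chooseBasis k A
    let ψ := TensorProduct.equivFinsuppOfBasisLeft (N := A') e₀
    have h2 : ∀ i, ψ z i ∈ C' := fun i => by
      rw [hC', Subalgebra.mem_centralizer_iff]
      intro b hb
      have hb' := hz ((1 : A) ⊗ₜ[k] b) ⟨(1 : B) ⊗ₜ[k] (⟨b, hb⟩ : B'), by simp⟩
      have hl : ∀ w : TensorProduct k A A', ψ (((1 : A) ⊗ₜ[k] b) * w) i = b * ψ w i := fun w => by
        induction w using TensorProduct.induction_on with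
        | zero => simp
        | tmul x y => simp [ψ, Algebra.TensorProduct.tmul_mul_tmul]
        | add x y hx hy => simp [mul_add, hx, hy]
      have hr : ∀ w : TensorProduct k A A', ψ (w * ((1 : A) ⊗ₜ[k] b)) i = ψ w i * b := fun w => by
        induction w using TensorProduct.induction_on with
        | zero => simp
        | tmul x y => simp [ψ, Algebra.TensorProduct.tmul_mul_tmul]
        | add x y hx hy => simp [add_mul, hx, hy]
      rw [← hl, ← hr, hb']
    obtain ⟨p, hp⟩ := C.toSubmodule.subtype.exists_leftInverse_of_injective (Submodule.ker_subtype _)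
    let P : A →ₗ[k] A := C.toSubmodule.subtype.comp p
    have hP : ∀ a ∈ C, P a = a := fun a ha => congrArg Subtype.val (LinearMap.congr_fun hp ⟨a, ha⟩)
    have hPC : ∀ a, P a ∈ C := fun a => (p a).2
    have hfix : TensorProduct.map P LinearMap.id z = z := by
      conv_rhs => rw [← φ.symm_apply_apply z]
      conv_lhs => rw [← φ.symm_apply_apply z]
      simp only [φ, TensorProduct.equivFinsuppOfBasisRight_symm_apply, Finsupp.sum, map_sum, TensorProduct.map_tmul, LinearMap.id_coe, id_eq]
      exact Finset.sum_congr rfl fun i _ => by rw [hP _ (h1 i)]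
    rw [← hfix, ← ψ.symm_apply_apply z]
    simp only [ψ, TensorProduct.equivFinsuppOfBasisLeft_symm_apply, Finsupp.sum, map_sum, TensorProduct.map_tmul, LinearMap.id_coe, id_eq]
    exact sum_mem fun i _ => ⟨(⟨P (e₀ i), hPC _⟩ : C) ⊗ₜ[k] (⟨_, h2 i⟩ : C'), by simp [ψ]⟩
  · rintro _ ⟨w, rfl⟩
    rw [Subalgebra.mem_centralizer_iff]
    rintro _ ⟨v, rfl⟩

    induction w using TensorProduct.induction_on with
    | zero => simp
    | add x y hx hy => rw [map_add, mul_add, add_mul, hx, hy]
    | tmul c c' =>
      induction v using TensorProduct.induction_on with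
      | zero => simp
      | add x y hx hy => rw [map_add, mul_add, add_mul, hx, hy]
      | tmul b b' =>
        simp only [AlgHom.toRingHom_eq_coe, RingHom.coe_coe, AlgHom.coe_toRingHom, Algebra.TensorProduct.map_tmul, Subalgebra.coe_val, Algebra.TensorProduct.tmul_mul_tmul]
        rw [(Subalgebra.mem_centralizer_iff k).1 c.2 b b.2, (Subalgebra.mem_centralizer_iff k).1 c'.2 b' b'.2]

end Groth.Agent.S1638
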