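import Groth.Statements.S16390
import Mathlib

set_option autoImplicit false
open AbVar

namespace Groth.Agent.S16390

/-- Let p be a prime number, r > 2 and q = p^r. The polynomial x² − p x + q is irreducible over ℚ, each
of its complex roots has absolute value √q (so its roots are Weil q-numbers), and it has two
distinct roots in ℚ_p, of p-adic valuations 1 and r − 1. The published lemma also computes the index
of the endomorphism algebra of the simple abelian variety attached to a root; this row does not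
state that part. -/
theorem result (p r : ℕ) [Fact p.Prime] (hr : 2 < r) :
    Irreducible (Polynomial.X ^ 2 - Polynomial.C (p : ℚ) * Polynomial.X + Polynomial.C ((p : ℚ) ^ r)) ∧
      (∀ π : ℂ, π ^ 2 - (p : ℂ) * π + (p : ℂ) ^ r = 0 → ‖π‖ = Real.sqrt ((p : ℝ) ^ r)) ∧
      ∃ a b : ℚ_[p], a ≠ b ∧ a ^ 2 - (p : ℚ_[p]) * a + (p : ℚ_[p]) ^ r = 0 ∧
        b ^ 2 - (p : ℚ_[p]) * b + (p : ℚ_[p]) ^ r = 0 ∧ a.valuation = 1 ∧ b.valuation = (r : ℤ) - 1 := by
  have hp : p.Prime := Fact.out
  have hp2 : (2 : ℝ) ≤ p := by exact_mod_cast hp.two_le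
  have hdisc : (p : ℝ) ^ 2 < 4 * (p : ℝ) ^ r := by
    have : (p : ℝ) ^ 2 ≤ (p : ℝ) ^ r := pow_le_pow_right₀ (by linarith) (by omega)
    nlinarith [pow_pos (show (0 : ℝ) < p by linarith) r]
  refine ⟨?_, ?_, ?_⟩
  · have hdeg : (Polynomial.X ^ 2 - Polynomial.C (p : ℚ) * Polynomial.X + Polynomial.C ((p : ℚ) ^ r)).natDegree = 2 := by
      compute_degree!
    rw [Polynomial.irreducible_iff_roots_eq_zero_of_degree_le_three (by omega) (by omega)]
    refine Multiset.eq_zero_of_forall_notMem fun x hx => ?_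
    have h := (Polynomial.mem_roots'.1 hx).2
    simp only [Polynomial.IsRoot.def, Polynomial.eval_add, Polynomial.eval_sub, Polynomial.eval_pow, Polynomial.eval_X, Polynomial.eval_mul, Polynomial.eval_C] at h
    have h' : (x : ℝ) ^ 2 - p * x + (p : ℝ) ^ r = 0 := by exact_mod_cast h
    nlinarith [sq_nonneg ((x : ℝ) - p / 2)]
  · intro π hπ
    have hre := congrArg Complex.re hπ
    have him := congrArg Complex.im hπ
    rw [show ((p : ℂ) ^ r) = (((p : ℝ) ^ r : ℝ) : ℂ) by push_cast; rfl] at hre him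
    simp only [sq, Complex.sub_re, Complex.add_re, Complex.mul_re, Complex.ofReal_re, Complex.natCast_re, Complex.natCast_im, Complex.zero_re, Complex.sub_im, Complex.add_im, Complex.mul_im, Complex.ofReal_im, Complex.zero_im] at hre him
    have hb : π.im ≠ 0 := by
      intro hb
      rw [hb] at hre
      nlinarith [sq_nonneg (π.re - p / 2)]
    have ha : 2 * π.re = (p : ℝ) := by
      have : π.im * (2 * π.re - p) = 0 := by linarith
      rcases mul_eq_zero.1 this with h | h
      · exact absurd h hb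
      · linarith
    rw [Complex.norm_def]
    congr 1
    rw [Complex.normSq_apply]
    nlinarith
  · set F : Polynomial ℤ_[p] := Polynomial.X ^ 2 - Polynomial.X + Polynomial.C ((p : ℤ_[p]) ^ (r - 2)) with hF
    have hsmall : ‖(p : ℤ_[p]) ^ (r - 2)‖ < 1 := by
      rw [norm_pow]
      exact pow_lt_one₀ (norm_nonneg _) (by rw [PadicInt.norm_p]; exact inv_lt_one_of_one_lt₀ (by linarith)) (by omega)
    have h1 : ‖F.aeval (1 : ℤ_[p])‖ < ‖F.derivative.aeval (1 : ℤ_[p])‖ ^ 2 := by
      have e1 : F.aeval (1 : ℤ_[p]) = (p : ℤ_[p]) ^ (r - 2) := by simp [hF]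
      have e2 : F.derivative.aeval (1 : ℤ_[p]) = 1 := by
        rw [hF, Polynomial.derivative_add, Polynomial.derivative_sub, Polynomial.derivative_X_pow, Polynomial.derivative_X, Polynomial.derivative_C]
        simp; norm_num
      rw [e1, e2, norm_one, one_pow]; exact hsmall
    obtain ⟨u, hu, hu1, -, -⟩ := hensels_lemma h1
    have e2 : F.derivative.aeval (1 : ℤ_[p]) = 1 := by
      rw [hF, Polynomial.derivative_add, Polynomial.derivative_sub, Polynomial.derivative_X_pow, Polynomial.derivative_X, Polynomial.derivative_C]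
      simp; norm_num
    rw [e2, norm_one] at hu1
    have hunorm : ‖(u : ℚ_[p])‖ = 1 := by
      rw [← PadicInt.norm_def]
      have : u = (u - 1) + 1 := by ring
      rw [this, PadicInt.norm_add_eq_max_of_ne (by rw [norm_one]; exact hu1.ne), norm_one, max_eq_right hu1.le]
    have hu0 : (u : ℚ_[p]) ≠ 0 := fun h => by simp [h] at hunorm
    have huv : (u : ℚ_[p]).valuation = 0 := by
      have h := Padic.norm_eq_zpow_neg_valuation hu0
      rw [hunorm] at h
      have := (zpow_right_inj₀ (show (0 : ℝ) < p by linarith) (by linarith : (p : ℝ) ≠ 1)).1 (h.symm.trans (zpow_zero _).symm)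
      omega
    have hq : (u : ℚ_[p]) ^ 2 - u + (p : ℚ_[p]) ^ (r - 2) = 0 := by
      have h := congrArg (fun x : ℤ_[p] => (x : ℚ_[p])) hu
      simpa [hF] using h
    have hp0 : (p : ℚ_[p]) ≠ 0 := by exact_mod_cast hp.ne_zero
    have hr' : (p : ℚ_[p]) ^ r = (p : ℚ_[p]) ^ 2 * (p : ℚ_[p]) ^ (r - 2) := by
      rw [← pow_add]; congr 1; omega
    have hprod : (u : ℚ_[p]) * (1 - u) = (p : ℚ_[p]) ^ (r - 2) := by linear_combination -hq
    have h1u : (1 - u : ℚ_[p]) ≠ 0 := fun h => by
      rw [h, mul_zero] at hprod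
      exact pow_ne_zero _ hp0 hprod.symm
    have hv : (1 - u : ℚ_[p]).valuation = (r : ℤ) - 2 := by
      have h := congrArg Padic.valuation hprod
      rw [Padic.valuation_mul hu0 h1u, huv, Padic.valuation_pow, Padic.valuation_p] at h
      omega
    have va : ((p : ℚ_[p]) * u).valuation = 1 := by rw [Padic.valuation_mul hp0 hu0, Padic.valuation_p, huv]; rfl
    have vb : ((p : ℚ_[p]) * (1 - u)).valuation = (r : ℤ) - 1 := by rw [Padic.valuation_mul hp0 h1u, Padic.valuation_p, hv]; ring
    refine ⟨(p : ℚ_[p]) * u, (p : ℚ_[p]) * (1 - u), fun h => ?_, ?_, ?_, va, vb⟩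
    · rw [← h, va] at vb; omega
    · linear_combination (p : ℚ_[p]) ^ 2 * hq + hr'
    · linear_combination (p : ℚ_[p]) ^ 2 * hq + hr'

end Groth.Agent.S16390
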