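import Groth.Statements.S16396
import Mathlib.Algebra.Polynomial.Derivative
import Mathlib.Algebra.Polynomial.Taylor
import Mathlib.Algebra.Algebra.Subalgebra.Basic

set_option autoImplicit false
universe u
open CAlg

namespace Groth.Agent.S16396

open Polynomial in
/-- For a commutative ℚ-algebra A, a ℚ-subalgebra B of the polynomial algebra A[X] that contains X and
is closed under d/dX consists exactly of the polynomials each of whose coefficients is the value at
0 of some element of B; in other words B = ev(B)[X], with ev the evaluation at 0. -/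
theorem result
    (A : Type u) [CommRing A] [Algebra ℚ A] (B : Subalgebra ℚ A[X])
    (hX : (X : A[X]) ∈ B) (hD : ∀ P ∈ B, Polynomial.derivative P ∈ B) (P : A[X]) :
    P ∈ B ↔ ∀ i : ℕ, ∃ Q ∈ B, Polynomial.eval 0 Q = P.coeff i := by
  open Polynomial in
  have hDk : ∀ (k : ℕ) (Q : A[X]), Q ∈ B → derivative^[k] Q ∈ B := by
    intro k Q hQ
    induction k with
    | zero => exact hQ
    | succ k ih => rw [Function.iterate_succ_apply']; exact hD _ ih
  have fwd : ∀ Q ∈ B, ∀ i : ℕ, ∃ R ∈ B, R.natDegree ≤ Q.natDegree - i ∧ eval 0 R = Q.coeff i := by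
    intro Q hQ i
    refine ⟨(i.factorial : ℚ)⁻¹ • derivative^[i] Q, B.smul_mem (hDk i Q hQ) _,
      (natDegree_smul_le _ _).trans (natDegree_iterate_derivative _ _), ?_⟩
    rw [eval_smul, ← coeff_zero_eq_eval_zero, coeff_iterate_derivative, Nat.zero_add, Nat.descFactorial_self,
      ← Nat.cast_smul_eq_nsmul ℚ, smul_smul, inv_mul_cancel₀ (Nat.cast_ne_zero.mpr i.factorial_ne_zero), one_smul]
  have key : ∀ (d : ℕ) (Q : A[X]), Q.natDegree ≤ d → Q ∈ B → C (eval 0 Q) ∈ B := by
    intro d
    induction d with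
    | zero =>
      intro Q hd hQ
      rw [← coeff_zero_eq_eval_zero]
      rwa [← eq_C_of_natDegree_le_zero hd]
    | succ d ih =>
      intro Q hd hQ
      have h : Q = ∑ i ∈ Finset.range (d + 1 + 1), C (Q.coeff i) * X ^ i := Q.as_sum_range_C_mul_X_pow' (Nat.lt_succ_of_le hd)
      rw [Finset.sum_range_succ', pow_zero, mul_one, ← sub_eq_iff_eq_add'] at h
      rw [← coeff_zero_eq_eval_zero, ← h]
      refine B.sub_mem hQ (B.sum_mem fun i _ => B.mul_mem ?_ (B.pow_mem hX _))
      obtain ⟨R, hR, hdeg, he⟩ := fwd Q hQ (i + 1)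
      rw [← he]
      exact ih R (by omega) hR
  constructor
  · intro hP i
    obtain ⟨R, hR, -, he⟩ := fwd P hP i
    exact ⟨R, hR, he⟩
  · intro h
    rw [as_sum_range_C_mul_X_pow P]
    refine B.sum_mem fun i _ => B.mul_mem ?_ (B.pow_mem hX _)
    obtain ⟨Q, hQ, he⟩ := h i
    exact he ▸ key _ Q le_rfl hQ

end Groth.Agent.S16396
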