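import Groth.Statements.S16397
import Groth.Agent.TautJacLib.Basic

set_option autoImplicit false
open W4c3tautjacobian

namespace Groth.Agent.S16397

/-- In the formal relation ring of genus g ≥ 1, for every element β which is bihomogeneous of bidegree
(2g, n), the (g+1)-st iterate of the operator F kills x 2 0 · β. (Stated for every bihomogeneous β;
the case of a monomial β is equivalent by linearity.) -/
theorem result
    (g : ℕ) (hg : 1 ≤ g) (n : ℕ) (β : W4c3tautjacobian.RelRing g)
    (hβ : MvPolynomial.IsWeightedHomogeneous (W4c3tautjacobian.wt g) β ((2 * g, n) : ℕ × ℕ)) :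
    (W4c3tautjacobian.F g)^[g + 1] (W4c3tautjacobian.E g β) = 0 := by
  have hz := Groth.Agent.TautJacLib.wz_hom hβ
  rw [Groth.Agent.TautJacLib.iterate_F_E hg g hz,
    Groth.Agent.TautJacLib.eq_zero_of_neg (Groth.Agent.TautJacLib.iterate_F_hom hz (g + 1))
      (by push_cast; omega)]
  rw [show ((g : ℚ) - ((2 * g : ℕ) : ℚ) + g) = 0 by push_cast; ring]
  simp [E]

end Groth.Agent.S16397
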