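import Groth.Statements.S16398
import Groth.Agent.TautJacLib.Basic

set_option autoImplicit false
open W4c3tautjacobian

namespace Groth.Agent.S16398


open Groth.Agent.TautJacLib MvPolynomial

variable {g : ℕ}

/-- Iterated `F` on `E^a β` landing in first degree zero. -/
private theorem iterate_E_pow (hg : 1 ≤ g) {β : RelRing g} {h : ℕ} {b : ℤ}
    (hβ : IsWeightedHomogeneous (wz g) β (((2 * h : ℕ) : ℤ), b)) :
    ∀ a : ℕ, IsWeightedHomogeneous (wz g) ((E g)^[a] β) (((2 * (h + a) : ℕ) : ℤ), b) ∧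
      ∃ c : ℚ, (F g)^[h + a] ((E g)^[a] β) = c • (F g)^[h] β ∧ (g < h + a → h ≤ g → c = 0)
  | 0 => ⟨hβ, 1, (one_smul _ _).symm, fun h1 h2 => absurd h1 (by omega)⟩
  | a + 1 => by
    obtain ⟨hh, c, hc, hc0⟩ := iterate_E_pow hg hβ a
    refine ⟨?_, ((((h + a : ℕ) : ℚ) + 1) * ((g : ℚ) - ((2 * (h + a) : ℕ) : ℚ) + ((h + a : ℕ) : ℚ))) * c, ?_,
      fun h1 h2 => ?_⟩
    · rw [Function.iterate_succ_apply']
      exact hom_cast (E_hom hh) (Prod.ext (by push_cast; ring) rfl)
    · rw [Function.iterate_succ_apply' (E g), ← add_assoc, iterate_F_E hg (h + a) hh,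
        eq_zero_of_neg (iterate_F_hom hh (h + a + 1)) (by push_cast; omega), hc, smul_smul]
      simp [E]
    · rcases Nat.lt_or_ge g (h + a) with h3 | h3
      · rw [hc0 h3 h2, mul_zero]
      · rw [show ((g : ℚ) - ((2 * (h + a) : ℕ) : ℚ) + ((h + a : ℕ) : ℚ)) = 0 by
          rw [show g = h + a by omega]; push_cast; ring, mul_zero, zero_mul]

private theorem fst_le {v : Var g} (hv : ∀ h, v ≠ some ⟨(2, 0), h⟩) : (wt g v).1 ≤ 3 * (wt g v).2 := by
  rcases v with _ | ⟨⟨i, j⟩, hp⟩
  · simp [wt]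
  · show i ≤ 3 * j
    obtain ⟨h1, h2, ⟨m, hm⟩, h4⟩ := hp
    dsimp at h1 h2 hm h4
    by_contra hcon
    obtain ⟨rfl, rfl⟩ : i = 2 ∧ j = 0 := by
      rcases j with _ | j
      · refine ⟨?_, rfl⟩
        have : i ≠ 0 := fun h0 => h4 (by rw [h0])
        omega
      · omega
    exact hv ⟨h1, h2, ⟨m, hm⟩, h4⟩ rfl

private theorem gen_eq_zero (hg : 1 ≤ g) {d : Var g →₀ ℕ} {N : ℕ} (hI : 2 * g < (Finsupp.weight (wt g) d).1)
    (hN : (Finsupp.weight (wt g) d).1 = 2 * N) (hJ : 3 * (Finsupp.weight (wt g) d).2 ≤ 2 * g) :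
    (F g)^[N] (monomial d (1 : ℚ)) = 0 := by
  classical
  let v₀ : Var g := some ⟨(2, 0), valid20 hg⟩
  set d' := d.erase v₀ with hd'
  have hd : Finsupp.single v₀ (d v₀) + d' = d := Finsupp.single_add_erase v₀ d
  have hle : (Finsupp.weight (wt g) d').1 ≤ 3 * (Finsupp.weight (wt g) d').2 := by
    rw [Finsupp.weight_apply, Finsupp.sum, Prod.fst_sum, Prod.snd_sum, Finset.mul_sum]
    refine Finset.sum_le_sum fun v hv => ?_
    have hne : v ≠ v₀ := by
      rintro rfl
      rw [hd', Finsupp.support_erase] at hv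
      exact Finset.notMem_erase _ _ hv
    simp only [smul_eq_mul, Prod.smul_fst, Prod.smul_snd]
    have := Nat.mul_le_mul_left (d' v) (fst_le (v := v) fun h he => hne (he.trans rfl))
    linarith
  have hwd := congrArg (Finsupp.weight (wt g)) hd
  rw [map_add, Finsupp.weight_single] at hwd
  have h1 : d v₀ * 2 + (Finsupp.weight (wt g) d').1 = 2 * N := by
    rw [← hN, ← hwd]; simp [v₀, wt]
  have h2 : (Finsupp.weight (wt g) d').2 = (Finsupp.weight (wt g) d).2 := by
    rw [← hwd]; simp [v₀, wt]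
  obtain ⟨h, hh⟩ : ∃ h, (Finsupp.weight (wt g) d').1 = 2 * h := ⟨N - d v₀, by omega⟩
  have hmon : ∀ a : ℕ, monomial (Finsupp.single v₀ a + d') (1 : ℚ) = (E g)^[a] (monomial d' (1 : ℚ)) := by
    intro a
    induction a with
    | zero => simp
    | succ a ih =>
      rw [Function.iterate_succ_apply', ← ih, E_eq hg, X, monomial_mul, one_mul, ← add_assoc,
        ← Finsupp.single_add, add_comm 1 a]
  have hβ : IsWeightedHomogeneous (wz g) (monomial d' (1 : ℚ)) (((2 * h : ℕ) : ℤ), ((Finsupp.weight (wt g) d').2 : ℤ)) :=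
    isWeightedHomogeneous_monomial _ _ _ (by rw [weight_wz, hh])
  obtain ⟨-, c, hc, hc0⟩ := iterate_E_pow hg hβ (d v₀)
  rw [← hd, hmon, show N = h + d v₀ by omega, hc, hc0 (by omega) (by omega), zero_smul]

/-- In the formal relation ring of genus g ≥ 1, an element of the relation ideal which is bihomogeneous
of bidegree (0, n) with 3n ≤ 2g vanishes; that is, the relations impose nothing on the
first-degree-0 part in second degree at most 2g/3. -/
theorem result
    (g : ℕ) (hg : 1 ≤ g) (n : ℕ) (hn : 3 * n ≤ 2 * g) (P : W4c3tautjacobian.RelRing g)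
    (hP : P ∈ W4c3tautjacobian.relIdeal g)
    (hhom : MvPolynomial.IsWeightedHomogeneous (W4c3tautjacobian.wt g) P ((0, n) : ℕ × ℕ)) :
    P = 0 := by
  classical
  have key : ∀ Q ∈ relIdeal g, ∀ d : Var g →₀ ℕ, (Finsupp.weight (wt g) d).1 = 0 →
      (Finsupp.weight (wt g) d).2 ≤ n → coeff d Q = 0 := by
    intro Q hQ
    induction hQ using Submodule.span_induction with
    | mem Q hQ =>
      obtain ⟨e, N, he, rfl⟩ := hQ
      intro d hd1 hd2
      by_contra hne
      have hw := iterate_F_hom (isWeightedHomogeneous_monomial (wz g) e (1 : ℚ) (weight_wz e)) N hne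
      rw [weight_wz, hd1, Prod.mk.injEq] at hw
      have hz := gen_eq_zero hg (d := e) (N := N) he (by omega) (by omega)
      rw [hz, coeff_zero] at hne
      exact hne rfl
    | zero => intros; exact coeff_zero _
    | add a b _ _ ha hb => intro d h1 h2; rw [coeff_add, ha d h1 h2, hb d h1 h2, add_zero]
    | smul c a _ ha =>
      intro d h1 h2
      rw [smul_eq_mul, coeff_mul]
      refine Finset.sum_eq_zero fun p hp => ?_
      rw [Finset.HasAntidiagonal.mem_antidiagonal] at hp
      rw [← hp, map_add, Prod.fst_add] at h1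
      rw [← hp, map_add, Prod.snd_add] at h2
      rw [ha p.2 (by omega) (by omega), mul_zero]
  ext d
  rw [coeff_zero]
  by_contra hne
  have hw := hhom hne
  exact hne (key P hP d (by rw [hw]) (by rw [hw]))

end Groth.Agent.S16398
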