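import Groth.Statements.S16399
import Groth.Agent.TautJacLib.Basic

set_option autoImplicit false
open W4c3tautjacobian

namespace Groth.Agent.S16399


open Groth.Agent.TautJacLib MvPolynomial Finsupp

variable {g : ℕ}

/-- The sign of a monomial. -/
private noncomputable def sgn (d : Var g →₀ ℕ) : ℚ := (-1) ^ (Finsupp.degree d)

/-- All the variables of the monomial have positive second degree. -/
private def Clean (d : Var g →₀ ℕ) : Prop := ∀ p, d (some p) ≠ 0 → 1 ≤ p.1.2

/-- Away from `y`, only clean monomials occur, with the sign of the monomial. -/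
private def Pos (P : RelRing g) : Prop :=
  ∀ d : Var g →₀ ℕ, d none = 0 → coeff d P ≠ 0 → Clean d ∧ 0 < sgn d * coeff d P

private theorem Pos.zero : Pos (0 : RelRing g) := fun d _ h => absurd (coeff_zero d) h

private theorem Pos.add {P Q : RelRing g} (hP : Pos P) (hQ : Pos Q) : Pos (P + Q) := by
  intro d hd hne
  rw [coeff_add] at hne ⊢
  by_cases hp : coeff d P = 0
  · rw [hp, zero_add] at hne ⊢
    exact hQ d hd hne
  · obtain ⟨h1, h2⟩ := hP d hd hp
    refine ⟨h1, ?_⟩
    by_cases hq : coeff d Q = 0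
    · rw [hq, add_zero]; exact h2
    · have := (hQ d hd hq).2
      rw [mul_add]; linarith

private theorem Pos.sum {ι : Type*} (s : Finset ι) {P : ι → RelRing g} (h : ∀ i ∈ s, Pos (P i)) : Pos (∑ i ∈ s, P i) :=
  Finset.sum_induction P Pos (fun _ _ => Pos.add) Pos.zero h

private theorem Pos.smul {c : ℚ} (hc : 0 ≤ c) {P : RelRing g} (hP : Pos P) : Pos (c • P) := by
  intro d hd hne
  rw [coeff_smul, smul_eq_mul] at hne ⊢
  obtain ⟨h1, h2⟩ := hP d hd (right_ne_zero_of_mul hne)
  refine ⟨h1, ?_⟩
  have := mul_pos (lt_of_le_of_ne hc (Ne.symm (left_ne_zero_of_mul hne))) h2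
  linarith

private theorem Pos.nonneg {P : RelRing g} (hP : Pos P) {d : Var g →₀ ℕ} (hd : d none = 0) :
    0 ≤ sgn d * coeff d P := by
  by_cases h : coeff d P = 0
  · simp [h]
  · exact (hP d hd h).2.le

private theorem sum_pos_coeff {ι : Type*} (s : Finset ι) {P : ι → RelRing g} (h : ∀ i ∈ s, Pos (P i))
    {d : Var g →₀ ℕ} (hd : d none = 0) {i : ι} (hi : i ∈ s) (hpos : 0 < sgn d * coeff d (P i)) :
    0 < sgn d * coeff d (∑ i ∈ s, P i) := by
  rw [coeff_sum, Finset.mul_sum]
  exact Finset.sum_pos' (fun j hj => (h j hj).nonneg hd) ⟨i, hi, hpos⟩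

private theorem pos_monomial {d : Var g →₀ ℕ} {c : ℚ}
    (h : d none ≠ 0 ∨ c = 0 ∨ (Clean d ∧ 0 < sgn d * c)) : Pos (monomial d c) := by
  classical
  intro e he hne
  rw [coeff_monomial] at hne ⊢
  by_cases heq : d = e
  · subst heq
    rw [if_pos rfl] at hne ⊢
    rcases h with h | h | h
    · exact absurd he h
    · exact absurd h hne
    · exact h
  · rw [if_neg heq] at hne
    exact absurd rfl hne

private theorem pos_none_mul (P : RelRing g) : Pos (X none * P) := by
  classical
  intro d hd hne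
  exact absurd (by rw [coeff_X_mul', if_neg (by simp [Finsupp.mem_support_iff, hd])]) hne

private theorem xv_cases (a b : ℤ) (hb : b ≠ 0) :
    xv g a b = 0 ∨ ∃ p : {p : ℕ × ℕ // Valid g p}, xv g a b = X (some p) ∧ (p.1.2 : ℤ) = b := by
  rw [xv, if_neg fun h => hb h.2]
  split_ifs with h
  · exact Or.inr ⟨⟨(a.toNat, b.toNat), h.2.2⟩, rfl, Int.toNat_of_nonneg h.2.1⟩
  · exact Or.inl rfl

/-- Multiplication of a clean monomial of the opposite or equal sign by a variable. -/
private theorem pos_X_mul (a b : ℤ) (hb : 1 ≤ b) {d : Var g →₀ ℕ} {c : ℚ}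
    (h : d none ≠ 0 ∨ c = 0 ∨ (Clean d ∧ sgn d * c < 0)) : Pos (xv g a b * monomial d c) := by
  rcases xv_cases a b (by omega) (g := g) with h0 | ⟨p, hp, hpb⟩
  · rw [h0, zero_mul]; exact Pos.zero
  · rw [hp, X, monomial_mul, one_mul]
    refine pos_monomial ?_
    rcases h with h | h | ⟨hcl, hs⟩
    · exact Or.inl (by simpa using h)
    · exact Or.inr (Or.inl h)
    · refine Or.inr (Or.inr ⟨fun q hq => ?_, ?_⟩)
      · by_cases hqp : q = p
        · subst hqp; omega
        · refine hcl q ?_
          rwa [Finsupp.add_apply, Finsupp.single_eq_of_ne (fun he => hqp (Option.some.inj he)), zero_add] at hq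
      · rw [sgn, map_add, degree_single, pow_add, pow_one]
        rw [sgn] at hs
        linarith

private theorem dv_monomial (p : ℕ × ℕ) (d : Var g →₀ ℕ) (c : ℚ) :
    dv g p (monomial d c) =
      if h : Valid g p then monomial (d - Finsupp.single (some ⟨p, h⟩) 1) (c * (d (some ⟨p, h⟩) : ℚ)) else 0 := by
  rw [dv]
  split_ifs
  · exact pderiv_monomial
  · rfl

private theorem sgn_sub {d : Var g →₀ ℕ} {v : Var g} (hv : d v ≠ 0) : sgn (d - Finsupp.single v 1) = -sgn d := by
  have hle : Finsupp.single v 1 ≤ d := Finsupp.single_le_iff.2 (by omega)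
  conv_rhs => rw [← tsub_add_cancel_of_le hle]
  rw [sgn, sgn, map_add, degree_single, pow_succ]
  ring

private theorem clean_sub {d : Var g →₀ ℕ} (hd : Clean d) (v : Var g) : Clean (d - Finsupp.single v 1) :=
  fun p hp => hd p fun h0 => hp (by simp [h0])

/-- The linear part of `F` on a positive monomial. -/
private theorem pos_linTerm {d : Var g →₀ ℕ} {c : ℚ} (h : d none ≠ 0 ∨ (Clean d ∧ 0 < sgn d * c)) (p : ℕ × ℕ) :
    Pos (xv g ((p.1 : ℤ) - 2) (p.2 : ℤ) * dv g p (monomial d c)) := by
  rw [dv_monomial]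
  split_ifs with hp
  swap
  · rw [mul_zero]; exact Pos.zero
  by_cases h0 : d (some ⟨p, hp⟩) = 0
  · simp [h0, Pos.zero]
  by_cases hy : d none = 0
  · obtain ⟨hcl, hs⟩ := h.resolve_left (not_not.2 hy)
    refine pos_X_mul _ _ (by exact_mod_cast hcl _ h0) (Or.inr (Or.inr ⟨clean_sub hcl _, ?_⟩))
    rw [sgn_sub h0]
    have : (0 : ℚ) < (d (some ⟨p, hp⟩) : ℚ) := by exact_mod_cast Nat.pos_of_ne_zero h0
    have := mul_pos hs this
    linarith
  · intro e he hne
    rcases eq_or_ne (p.2 : ℤ) 0 with hb | hb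
    · -- a constant or a variable: the exponent of `y` persists
      exfalso
      classical
      have : ∀ Q : RelRing g, coeff e (Q * monomial (d - Finsupp.single (some ⟨p, hp⟩) 1) (c * (d (some ⟨p, hp⟩) : ℚ))) = 0 := by
        intro Q
        rw [coeff_mul_monomial', if_neg]
        intro hle
        have := hle none
        simp [he] at this
        exact hy this
      exact hne (this _)
    · exact (pos_X_mul _ _ (by omega) (Or.inl (by simpa using hy))) e he hne

/-- The quadratic part of `F` on a positive monomial. -/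
private theorem pos_quadTerm {d : Var g →₀ ℕ} {c : ℚ} (h : d none ≠ 0 ∨ (Clean d ∧ 0 < sgn d * c)) (p q : ℕ × ℕ) :
    Pos ((X none * xv g ((p.1 : ℤ) - 1) ((p.2 : ℤ) - 1) * xv g ((q.1 : ℤ) - 1) ((q.2 : ℤ) - 1)
        - (mergeCoeff p.1 q.1 : RelRing g) * xv g ((p.1 : ℤ) + q.1 - 2) ((p.2 : ℤ) + q.2))
        * dv g p (dv g q (monomial d c))) := by
  classical
  rw [sub_mul, sub_eq_add_neg]
  refine Pos.add (by rw [mul_assoc, mul_assoc]; exact pos_none_mul _) ?_
  rw [dv_monomial]
  split_ifs with hq
  swap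
  · simp [dv, Pos.zero]
  rw [dv_monomial]
  split_ifs with hp
  swap
  · rw [mul_zero, neg_zero]; exact Pos.zero
  set d₁ := d - Finsupp.single (some ⟨q, hq⟩ : Var g) 1 with hd₁
  set c₂ := c * (d (some ⟨q, hq⟩) : ℚ) * (d₁ (some ⟨p, hp⟩) : ℚ) with hc₂
  set d₂ := d₁ - Finsupp.single (some ⟨p, hp⟩ : Var g) 1 with hd₂
  rw [show -((mergeCoeff p.1 q.1 : RelRing g) * xv g ((p.1 : ℤ) + q.1 - 2) ((p.2 : ℤ) + q.2) * monomial d₂ c₂) =
    xv g ((p.1 : ℤ) + q.1 - 2) ((p.2 : ℤ) + q.2) * monomial d₂ (-((mergeCoeff p.1 q.1 : ℚ) * c₂)) by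
      rw [← map_natCast (C : ℚ →+* RelRing g), map_neg, ← C_mul_monomial (s := d₂) (a := (mergeCoeff p.1 q.1 : ℚ)) (a' := c₂)]; ring]
  by_cases hy : d none = 0
  · obtain ⟨hcl, hs⟩ := h.resolve_left (not_not.2 hy)
    by_cases h0 : d (some ⟨q, hq⟩) = 0
    · simp [hc₂, h0, Pos.zero]
    by_cases h1 : d₁ (some ⟨p, hp⟩) = 0
    · simp [hc₂, h1, Pos.zero]
    by_cases hM : mergeCoeff p.1 q.1 = 0
    · simp [hM, Pos.zero]
    have hjq : 1 ≤ q.2 := hcl _ h0
    refine pos_X_mul _ _ (by omega) (Or.inr (Or.inr ⟨clean_sub (clean_sub hcl _) _, ?_⟩))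
    rw [hd₂, sgn_sub h1, hd₁, sgn_sub h0, hc₂]
    have e1 : (0 : ℚ) < (d (some ⟨q, hq⟩) : ℚ) := by exact_mod_cast Nat.pos_of_ne_zero h0
    have e2 : (0 : ℚ) < (d₁ (some ⟨p, hp⟩) : ℚ) := by exact_mod_cast Nat.pos_of_ne_zero h1
    have e3 : (0 : ℚ) < (mergeCoeff p.1 q.1 : ℚ) := by exact_mod_cast Nat.pos_of_ne_zero hM
    have := mul_pos (mul_pos (mul_pos hs e1) e2) e3
    linarith
  · intro e he hne
    exfalso
    apply hne
    rw [coeff_mul_monomial', if_neg]
    intro hle
    have := hle none
    simp [hd₂, hd₁, he] at this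
    exact hy this

private theorem F_sum (P : RelRing g) : F g P = ∑ d ∈ P.support, F g (monomial d (coeff d P)) := by
  conv_lhs => rw [P.as_sum]
  simp only [← FL_apply, map_sum]

/-- `F` preserves positivity, and each of its terms can be used to witness a nonzero coefficient. -/
private theorem pos_F_monomial {d : Var g →₀ ℕ} {c : ℚ} (h : d none ≠ 0 ∨ (Clean d ∧ 0 < sgn d * c)) :
    Pos (F g (monomial d c)) :=
  Pos.add (Pos.smul (by norm_num) (Pos.sum _ fun p _ => Pos.sum _ fun q _ => pos_quadTerm h p q))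
    (Pos.sum _ fun p _ => pos_linTerm h p)

private theorem pos_F {P : RelRing g} (hP : Pos P) : Pos (F g P) := by
  rw [F_sum]
  refine Pos.sum _ fun d hd => pos_F_monomial ?_
  by_cases hy : d none = 0
  · exact Or.inr (hP d hy (MvPolynomial.mem_support_iff.1 hd))
  · exact Or.inl hy

private theorem pos_iter {P : RelRing g} (hP : Pos P) (n : ℕ) : Pos ((F g)^[n] P) := by
  induction n with
  | zero => exact hP
  | succ n ih => rw [Function.iterate_succ_apply']; exact pos_F ih

/-- One lowering step. -/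
private theorem lower_step {P : RelRing g} (hP : Pos P) {e : Var g →₀ ℕ} (he : e none = 0) {a b : ℕ}
    (hp : Valid g (a + 2, b)) (hp' : Valid g (a, b))
    (h : coeff (Finsupp.single (some ⟨(a + 2, b), hp⟩) 1 + e) P ≠ 0) :
    coeff (Finsupp.single (some ⟨(a, b), hp'⟩) 1 + e) (F g P) ≠ 0 := by
  classical
  set d := Finsupp.single (some ⟨(a + 2, b), hp⟩ : Var g) 1 + e with hd
  set d' := Finsupp.single (some ⟨(a, b), hp'⟩ : Var g) 1 + e with hd'
  have hd'y : d' none = 0 := by simp [hd', he]
  have hdy : d none = 0 := by simp [hd, he]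
  obtain ⟨hcl, hs⟩ := hP d hdy h
  have key : 0 < sgn d' * coeff d' (F g (monomial d (coeff d P))) := by
    have hlin := sum_pos_coeff (idx g)
      (P := fun p : ℕ × ℕ => xv g ((p.1 : ℤ) - 2) (p.2 : ℤ) * dv g p (monomial d (coeff d P)))
      (fun p _ => pos_linTerm (Or.inr ⟨hcl, hs⟩) p) hd'y (mem_idx hp) (by
        dsimp only
        rw [show ((a + 2 : ℕ) : ℤ) - 2 = (a : ℤ) by push_cast; ring, xv_of_valid hp', dv_monomial, dif_pos hp, X,
          monomial_mul, one_mul, show d - Finsupp.single (some ⟨(a + 2, b), hp⟩) 1 = e by rw [hd, add_tsub_cancel_left],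
          ← hd', coeff_monomial, if_pos rfl]
        have e1 : (1 : ℚ) ≤ (d (some ⟨(a + 2, b), hp⟩) : ℚ) := by
          have h1 : 1 ≤ d (some ⟨(a + 2, b), hp⟩) := by simp [hd]
          exact_mod_cast h1
        have hsame : sgn d' = sgn d := by rw [hd', hd, sgn, sgn, map_add, map_add, degree_single, degree_single]
        have := mul_pos hs (lt_of_lt_of_le one_pos e1)
        rw [hsame]
        linarith)
    rw [F, coeff_add, mul_add]
    exact add_pos_of_nonneg_of_pos
      ((Pos.smul (by norm_num) (Pos.sum _ fun p _ => Pos.sum _ fun q _ => pos_quadTerm (Or.inr ⟨hcl, hs⟩) p q)).nonneg hd'y)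
      hlin
  rw [F_sum]
  intro h0
  have := sum_pos_coeff P.support (P := fun d => F g (monomial d (coeff d P))) (fun x hx => pos_F_monomial (by
    by_cases hy : x none = 0
    · exact Or.inr (hP x hy (MvPolynomial.mem_support_iff.1 hx))
    · exact Or.inl hy)) hd'y (MvPolynomial.mem_support_iff.2 h) key
  rw [h0, mul_zero] at this
  exact lt_irrefl _ this

/-- One merging step. -/
private theorem merge_step {P : RelRing g} (hP : Pos P) {e : Var g →₀ ℕ} (he : e none = 0) {t : ℕ} (ht : 1 ≤ t)
    (hp : Valid g (t, t)) (hq : Valid g (3, 1)) (hp' : Valid g (t + 1, t + 1))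
    (h : coeff (Finsupp.single (some ⟨(t, t), hp⟩) 1 + (Finsupp.single (some ⟨(3, 1), hq⟩) 1 + e)) P ≠ 0) :
    coeff (Finsupp.single (some ⟨(t + 1, t + 1), hp'⟩) 1 + e) (F g P) ≠ 0 := by
  classical
  set vp : Var g := some ⟨(t, t), hp⟩
  set vq : Var g := some ⟨(3, 1), hq⟩
  have hvne : vp ≠ vq := by
    intro he
    have := congrArg Subtype.val (Option.some.inj he)
    simp only [Prod.mk.injEq] at this
    omega
  set d := Finsupp.single vp 1 + (Finsupp.single vq 1 + e) with hd
  set d' := Finsupp.single (some ⟨(t + 1, t + 1), hp'⟩ : Var g) 1 + e with hd'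
  have hd'y : d' none = 0 := by simp [hd', he]
  have hdy : d none = 0 := by simp [hd, he, vp, vq]
  obtain ⟨hcl, hs⟩ := hP d hdy h
  have key : 0 < sgn d' * coeff d' (F g (monomial d (coeff d P))) := by
    have hterm := sum_pos_coeff (idx g)
      (P := fun q : ℕ × ℕ => (X none * xv g ((t : ℤ) - 1) ((t : ℤ) - 1) * xv g ((q.1 : ℤ) - 1) ((q.2 : ℤ) - 1)
        - (mergeCoeff t q.1 : RelRing g) * xv g ((t : ℤ) + q.1 - 2) ((t : ℤ) + q.2))
        * dv g (t, t) (dv g q (monomial d (coeff d P))))
      (fun q _ => pos_quadTerm (Or.inr ⟨hcl, hs⟩) (t, t) q) hd'y (mem_idx hq) (by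
        dsimp only
        have e1 : d - Finsupp.single vq 1 = Finsupp.single vp 1 + e := by
          rw [hd, ← add_assoc, add_comm (Finsupp.single vp 1), add_assoc, add_tsub_cancel_left]
        have e2 : d - Finsupp.single vq 1 - Finsupp.single vp 1 = e := by rw [e1, add_tsub_cancel_left]
        rw [dv_monomial, dif_pos hq, dv_monomial, dif_pos hp, e2, sub_mul, coeff_sub, mul_assoc (X none),
          mul_assoc (X none), coeff_X_mul', if_neg (by simp [hd', he]), zero_sub,
          show ((t : ℤ) + ((3 : ℕ) : ℤ) - 2) = ((t + 1 : ℕ) : ℤ) by push_cast; ring,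
          show ((t : ℤ) + ((1 : ℕ) : ℤ)) = ((t + 1 : ℕ) : ℤ) by push_cast; ring,
          xv_of_valid (p := (t + 1, t + 1)) hp', X, ← map_natCast (C : ℚ →+* RelRing g), C_mul_monomial, monomial_mul,
          ← hd', coeff_monomial, if_pos rfl, e1]
        have hM : 0 < mergeCoeff t 3 := by
          simp only [mergeCoeff, if_neg (show ¬ (t = 0 ∨ 3 = 0) by omega)]
          exact Nat.choose_pos (by omega)
        have f1 : (1 : ℚ) ≤ (d vq : ℚ) := by
          have h1 : 1 ≤ d vq := by simp [hd, vq]; omega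
          exact_mod_cast h1
        have f2 : (1 : ℚ) ≤ (((Finsupp.single vp 1 + e : Var g →₀ ℕ) vp : ℕ) : ℚ) := by
          have h1 : 1 ≤ (Finsupp.single vp 1 + e : Var g →₀ ℕ) vp := by simp
          exact_mod_cast h1
        have f3 : (0 : ℚ) < (mergeCoeff t 3 : ℚ) := by exact_mod_cast hM
        have hsign : sgn d' = -sgn d := by
          rw [hd', hd, sgn, sgn]
          simp only [map_add, degree_single, pow_add, pow_one]
          ring
        have := mul_pos (mul_pos (mul_pos hs (lt_of_lt_of_le one_pos f1)) (lt_of_lt_of_le one_pos f2)) f3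
        rw [hsign]
        linarith)
    have hsum := sum_pos_coeff (idx g)
      (P := fun p : ℕ × ℕ => ∑ q ∈ idx g, (X none * xv g ((p.1 : ℤ) - 1) ((p.2 : ℤ) - 1) * xv g ((q.1 : ℤ) - 1) ((q.2 : ℤ) - 1)
        - (mergeCoeff p.1 q.1 : RelRing g) * xv g ((p.1 : ℤ) + q.1 - 2) ((p.2 : ℤ) + q.2))
        * dv g p (dv g q (monomial d (coeff d P))))
      (fun p _ => Pos.sum _ fun q _ => pos_quadTerm (Or.inr ⟨hcl, hs⟩) p q) hd'y (mem_idx hp) hterm
    rw [F, coeff_add, mul_add]
    refine add_pos_of_pos_of_nonneg ?_ ((Pos.sum _ fun p _ => pos_linTerm (Or.inr ⟨hcl, hs⟩) p).nonneg hd'y)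
    rw [coeff_smul, smul_eq_mul, mul_left_comm]
    exact mul_pos (by norm_num) hsum
  rw [F_sum]
  intro h0
  have := sum_pos_coeff P.support (P := fun d => F g (monomial d (coeff d P))) (fun x hx => pos_F_monomial (by
    by_cases hy : x none = 0
    · exact Or.inr (hP x hy (MvPolynomial.mem_support_iff.1 hx))
    · exact Or.inl hy)) hd'y (MvPolynomial.mem_support_iff.2 h) key
  rw [h0, mul_zero] at this
  exact lt_irrefl _ this

/-- The relation attached to a power of `x 3 1` has a nonzero linear term. -/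
private theorem coeff_rel (i : ℕ) (hi : 1 ≤ i) (hig : i < g) (hq : Valid g (3, 1)) (h0 : Valid g (0, 2 * i)) :
    coeff (Finsupp.single (some ⟨(0, 2 * i), h0⟩) 1)
      ((F g)^[3 * i] (monomial (Finsupp.single (some ⟨(3, 1), hq⟩) (2 * i)) (1 : ℚ))) ≠ 0 := by
  classical
  set vq : Var g := some ⟨(3, 1), hq⟩
  set R := monomial (Finsupp.single vq (2 * i)) (1 : ℚ) with hR
  have hpos : Pos R := by
    refine pos_monomial (Or.inr (Or.inr ⟨fun p hp => ?_, ?_⟩))
    · by_cases he : (some p : Var g) = vq
      · rw [Option.some.inj he]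
      · rw [Finsupp.single_eq_of_ne he] at hp; exact absurd rfl hp
    · rw [sgn, degree_single, mul_one, Even.neg_one_pow ⟨i, by ring⟩]
      norm_num
  have hv1 : Valid g (1, 1) := ⟨by norm_num, by omega, by decide, by decide⟩
  have hvt : ∀ t, 1 ≤ t → t ≤ 2 * i → Valid g (t, t) := fun t h1 h2 =>
    ⟨by dsimp; omega, by dsimp; omega, ⟨t, rfl⟩, fun h => by simp at h; omega⟩
  have hvm : ∀ m, 2 * m ≤ 2 * i → Valid g (2 * m, 2 * i) := fun m hm =>
    ⟨by dsimp; omega, by dsimp; omega, ⟨m + i, by dsimp; ring⟩, fun h => by simp at h; omega⟩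
  have merges : ∀ (t : ℕ) (ht1 : 1 ≤ t) (ht : t ≤ 2 * i),
      coeff (Finsupp.single (some ⟨(t, t), hvt t ht1 ht⟩) 1 + Finsupp.single vq (2 * i - t)) ((F g)^[t] R) ≠ 0 := by
    intro t
    induction t with
    | zero => intro h; exact absurd h (by omega)
    | succ t ih =>
      intro _ ht
      rw [Function.iterate_succ_apply']
      rcases Nat.eq_zero_or_pos t with rfl | ht0
      · refine lower_step hpos (e := Finsupp.single vq (2 * i - 1)) (by simp [vq]) (a := 1) (b := 1) hq hv1 ?_
        rw [← Finsupp.single_add, show 1 + (2 * i - 1) = 2 * i by omega, hR, coeff_monomial, if_pos rfl]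
        exact one_ne_zero
      · refine merge_step (pos_iter hpos t) (by simp [vq]) ht0 (hvt t ht0 (by omega)) hq _ ?_
        rw [← Finsupp.single_add, show 1 + (2 * i - (t + 1)) = 2 * i - t by omega]
        exact ih ht0 (by omega)
  have lowers : ∀ m (hm : m ≤ i),
      coeff (Finsupp.single (some ⟨(2 * (i - m), 2 * i), hvm (i - m) (by omega)⟩) 1) ((F g)^[2 * i + m] R) ≠ 0 := by
    intro m
    induction m with
    | zero =>
      intro _
      have := merges (2 * i) (by omega) le_rfl
      rw [Nat.sub_self, Finsupp.single_zero, add_zero] at this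
      simpa using this
    | succ m ih =>
      intro hm
      have h1 := ih (by omega)
      rw [← add_assoc, Function.iterate_succ_apply']
      have hp : Valid g (2 * (i - (m + 1)) + 2, 2 * i) := by
        have := hvm (i - m) (by omega)
        rwa [show 2 * (i - (m + 1)) + 2 = 2 * (i - m) by omega]
      have := lower_step (pos_iter hpos (2 * i + m)) (e := 0) rfl (a := 2 * (i - (m + 1))) (b := 2 * i) hp
        (hvm (i - (m + 1)) (by omega))
      simp only [add_zero] at this
      refine this ?_
      rw [show (⟨(2 * (i - (m + 1)) + 2, 2 * i), hp⟩ : {p : ℕ × ℕ // Valid g p}) =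
        ⟨(2 * (i - m), 2 * i), hvm (i - m) (by omega)⟩ from Subtype.ext (Prod.ext (by dsimp only; omega) rfl)]
      exact h1
  have := lowers i le_rfl
  simpa [show 2 * i + i = 3 * i by ring] using this

/-- In the formal relation ring of genus g ≥ 1, every symbol x 0 (2i) is congruent modulo the relation
ideal to a polynomial in y and the symbols x 0 (2j) with 1 ≤ j and 3j ≤ g; so these low symbols
together with y generate the first-degree-0 part modulo the relations. -/
theorem result
    (g : ℕ) (hg : 1 ≤ g) (i : ℕ) :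
    ∃ q ∈ Algebra.adjoin ℚ (W4c3tautjacobian.lowGens g),
      W4c3tautjacobian.xv g 0 (2 * (i : ℤ)) - q ∈ W4c3tautjacobian.relIdeal g := by
  classical
  let π : RelRing g →ₐ[ℚ] RelRing g ⧸ relIdeal g := Ideal.Quotient.mkₐ ℚ (relIdeal g)
  suffices h : ∀ i : ℕ, π (xv g 0 (2 * (i : ℤ))) ∈ (Algebra.adjoin ℚ (lowGens g)).map π by
    obtain ⟨q, hq, hqe⟩ := h i
    exact ⟨q, hq, Ideal.Quotient.eq.1 hqe.symm⟩
  intro i
  induction i using Nat.strong_induction_on with
  | _ i ih =>
    rcases Nat.eq_zero_or_pos i with rfl | hi0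
    · simp [xv]
    by_cases hlow : 3 * i ≤ g
    · exact ⟨_, Algebra.subset_adjoin (Or.inr ⟨i, hi0, hlow, rfl⟩), rfl⟩
    have hcast : (2 * (i : ℤ)) = ((2 * i : ℕ) : ℤ) := by push_cast; rfl
    by_cases hig : g ≤ i
    · have h0 : xv g 0 (2 * (i : ℤ)) = 0 := by
        rw [xv, if_neg (by omega), dif_neg]
        rintro ⟨-, -, -, h2, -⟩
        simp only [hcast, Int.toNat_natCast] at h2
        omega
      rw [h0, map_zero]
      exact Subalgebra.zero_mem _
    have hq : Valid g (3, 1) := ⟨by norm_num, by omega, by decide, by decide⟩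
    have h0 : Valid g (0, 2 * i) := ⟨by omega, by omega, by simp, fun h => by simp at h; omega⟩
    set v₀ : Var g := some ⟨(0, 2 * i), h0⟩
    have hxv : xv g 0 (2 * (i : ℤ)) = X v₀ := by
      rw [hcast]
      exact_mod_cast xv_of_valid h0
    set R := (F g)^[3 * i] (monomial (Finsupp.single (some ⟨(3, 1), hq⟩ : Var g) (2 * i)) (1 : ℚ)) with hR
    have hc : coeff (Finsupp.single v₀ 1) R ≠ 0 := coeff_rel i hi0 (by omega) hq h0
    have hmem : R ∈ relIdeal g := by
      refine Ideal.subset_span ⟨_, _, ?_, hR⟩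
      rw [Finsupp.weight_single]
      show 2 * g < (2 * i) * 3
      omega
    have hhom : IsWeightedHomogeneous (wz g) R (0, ((2 * i : ℕ) : ℤ)) := by
      refine hom_cast (iterate_F_hom (isWeightedHomogeneous_monomial (wz g) _ (1 : ℚ) rfl) (3 * i)) ?_
      rw [Finsupp.weight_single]
      ext <;> simp [wz, wt] <;> ring
    set S : Subalgebra ℚ (RelRing g ⧸ relIdeal g) := (Algebra.adjoin ℚ (lowGens g)).map π
    have hrest : π (R - monomial (Finsupp.single v₀ 1) (coeff (Finsupp.single v₀ 1) R)) ∈ S := by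
      set R' := R - monomial (Finsupp.single v₀ 1) (coeff (Finsupp.single v₀ 1) R) with hR'
      rw [R'.as_sum, map_sum]
      refine Subalgebra.sum_mem _ fun d hd => ?_
      have hd' : d ≠ Finsupp.single v₀ 1 ∧ coeff d R ≠ 0 := by
        rw [MvPolynomial.mem_support_iff, hR', coeff_sub, coeff_monomial] at hd
        by_cases he : Finsupp.single v₀ 1 = d
        · subst he; simp at hd
        · rw [if_neg he, sub_zero] at hd
          exact ⟨Ne.symm he, hd⟩
      have hw := hhom hd'.2
      rw [weight_wz, Prod.mk.injEq, Nat.cast_eq_zero, Nat.cast_inj] at hw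
      rw [monomial_eq, map_mul, map_finsuppProd]
      refine Subalgebra.mul_mem _ ?_ (Subalgebra.prod_mem _ fun v hv => ?_)
      · rw [← algebraMap_eq, AlgHom.commutes]
        exact Subalgebra.algebraMap_mem _ _
      · dsimp only
        rw [map_pow]
        refine Subalgebra.pow_mem _ ?_ _
        have hdv : d v ≠ 0 := Finsupp.mem_support_iff.1 hv
        rcases v with _ | ⟨⟨a, b⟩, hab⟩
        · exact ⟨X none, Algebra.subset_adjoin (Or.inl rfl), rfl⟩
        set v : Var g := some ⟨(a, b), hab⟩
        have hsplit := congrArg (Finsupp.weight (wt g)) (Finsupp.single_add_erase v d)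
        rw [map_add, Finsupp.weight_single] at hsplit
        have ha : a = 0 := by
          have h1 := congrArg Prod.fst hsplit
          simp only [Prod.fst_add, Prod.smul_fst, smul_eq_mul, v, wt] at h1
          rw [hw.1] at h1
          rcases Nat.mul_eq_zero.1 (Nat.add_eq_zero_iff.1 h1).1 with h2 | h2
          · exact absurd h2 hdv
          · exact h2
        subst ha
        obtain ⟨j, hj⟩ : ∃ j, b = 2 * j := by
          obtain ⟨m, hm⟩ := hab.2.2.1
          exact ⟨m, by dsimp at hm; omega⟩
        subst hj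
        have hb : d v * (2 * j) + (Finsupp.weight (wt g) (d.erase v)).2 = 2 * i := by
          have h1 := congrArg Prod.snd hsplit
          simp only [Prod.snd_add, Prod.smul_snd, smul_eq_mul, v, wt] at h1
          rw [hw.2] at h1
          exact h1
        have hji : j < i := by
          have h1 : 2 * j ≤ d v * (2 * j) := Nat.le_mul_of_pos_left _ (by omega)
          rcases Nat.lt_or_ge j i with h2 | h2
          · exact h2
          exfalso
          have hje : j = i := by omega
          subst hje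
          have hd1 : d v = 1 := by
            by_contra hne1
            have : 2 * (2 * j) ≤ d v * (2 * j) := Nat.mul_le_mul_right _ (by omega)
            omega
          apply hd'.1
          ext w
          by_cases hwv : w = v
          · subst hwv; rw [hd1]; exact (Finsupp.single_eq_same).symm
          · rw [Finsupp.single_eq_of_ne hwv]
            by_contra hdw
            have hsub := Finsupp.single_add_erase w (d.erase v)
            have h3 := congrArg (fun x => (Finsupp.weight (wt g) x).2) hsub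
            simp only [map_add, Finsupp.weight_single, Prod.snd_add, Prod.smul_snd, smul_eq_mul,
              Finsupp.erase_ne hwv] at h3
            have h4 : 1 ≤ (wt g w).2 := by
              rcases w with _ | ⟨⟨a', b'⟩, hab'⟩
              · simp [wt]
              · show 1 ≤ b'
                by_contra hb'
                have h5 := congrArg Prod.fst (congrArg (Finsupp.weight (wt g)) (Finsupp.single_add_erase
                  (some ⟨(a', b'), hab'⟩ : Var g) d))
                simp only [map_add, Finsupp.weight_single, Prod.fst_add, Prod.smul_fst, smul_eq_mul, wt] at h5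
                rw [hw.1] at h5
                rcases Nat.mul_eq_zero.1 (Nat.add_eq_zero_iff.1 h5).1 with h6 | h6
                · exact hdw h6
                · exact hab'.2.2.2 (by rw [show a' = 0 from h6, show b' = 0 by omega])
            have h7 : 1 ≤ d w * (wt g w).2 := Nat.one_le_iff_ne_zero.2 (Nat.mul_ne_zero hdw (by omega))
            rw [hd1, one_mul] at hb
            omega
        rw [← xv_of_valid hab]
        simpa using ih j hji
    have hR0 : π R = 0 := Ideal.Quotient.eq_zero_iff_mem.2 hmem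
    rw [map_sub, hR0, zero_sub] at hrest
    have h5 := Subalgebra.smul_mem S (Subalgebra.neg_mem S hrest) (coeff (Finsupp.single v₀ 1) R)⁻¹
    rw [neg_neg, ← map_smul, smul_monomial, smul_eq_mul, inv_mul_cancel₀ hc] at h5
    rw [hxv]
    exact h5

end Groth.Agent.S16399
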