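import Groth.Statements.S16400
import Mathlib

set_option autoImplicit false
universe u v
open CAlgX

namespace Groth.Agent.S16400

/-- Let K be a field, N a finite index set and A a square matrix over K indexed by N whose linear map on
column vectors has kernel equal to its range (so A composed with A is zero and the three-term
sequence it defines is exact in the middle). Then there are subsets N₁₂, N₂₁, N₃₁ of N such that the
block of A with rows in N₃₁ and columns in N₂₁, and the block of A with rows outside N₂₁ and columns
in N₁₂, both act bijectively on column vectors. (In the original setting K is the prime field and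
middle exactness is supplied by the Cartier isomorphism; here exactness is the hypothesis and K is
any field.) -/
theorem result
    {K : Type u} [Field K] {N : Type v} [Fintype N] [DecidableEq N]
    (A : Matrix N N K)
    (hA : LinearMap.ker A.mulVecLin = LinearMap.range A.mulVecLin) :
    ∃ N₁₂ N₂₁ N₃₁ : Finset N,
      Function.Bijective (A.submatrix (Subtype.val : ↥N₃₁ → N) (Subtype.val : ↥N₂₁ → N)).mulVecLin ∧
      Function.Bijective
        (A.submatrix (Subtype.val : {x : N // x ∉ N₂₁} → N) (Subtype.val : ↥N₁₂ → N)).mulVecLin := by
  classical
  obtain ⟨κ, a, ha, hspan, hli⟩ := exists_linearIndependent' K A.col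
  haveI : Fintype κ := Fintype.ofInjective a ha
  let S : Finset N := Finset.univ.image a
  have hd : Module.finrank K (LinearMap.range A.mulVecLin) = S.card := by
    rw [Matrix.range_mulVecLin, ← hspan, finrank_span_eq_card hli, Finset.card_image_of_injective _ ha, Finset.card_univ]
  have hn : Fintype.card N = S.card + S.card := by
    have := A.mulVecLin.finrank_range_add_finrank_ker
    rw [hA, hd, Module.finrank_pi] at this
    exact this.symm
  -- the range of `A` meets the coordinate subspace of `S` only in zero
  have hinj : Function.Injective (A.submatrix (Subtype.val : {x : N // x ∉ S} → N) (Subtype.val : ↥S → N)).mulVecLin := by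
    rw [injective_iff_map_eq_zero]
    intro z hz
    let zz : N → K := fun n => if h : n ∈ S then z ⟨n, h⟩ else 0
    have hout : ∀ (m : N), A.mulVec zz m = ∑ s : S, A m s * z s := by
      intro m
      rw [Matrix.mulVec, dotProduct, ← Finset.sum_subset (Finset.subset_univ S) (fun n _ hn => by simp [zz, hn]),
        ← Finset.sum_coe_sort]
      exact Finset.sum_congr rfl fun s _ => by simp [zz]
    have hw0 : ∀ m, m ∉ S → A.mulVec zz m = 0 := fun m hm => by
      rw [hout]
      exact congrFun hz ⟨m, hm⟩
    have hw : A.mulVec (A.mulVec zz) = 0 := by
      have : A.mulVecLin zz ∈ LinearMap.ker A.mulVecLin := hA ▸ LinearMap.mem_range_self _ zz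
      exact this
    have hindep : ∀ v : N → K, (∀ m, m ∉ S → v m = 0) → A.mulVec v = 0 → v = 0 := by
      intro v hv hAv
      have h1 : ∑ k, v (a k) • A.col (a k) = 0 := by
        funext m
        have h2 := congrFun hAv m
        rw [Matrix.mulVec, dotProduct, ← Finset.sum_subset (Finset.subset_univ S) (fun n _ hn => by simp [hv n hn]),
          Finset.sum_image ha.injOn] at h2
        simpa [Finset.sum_apply, Matrix.col, mul_comm] using h2
      funext m
      by_cases hm : m ∈ S
      · obtain ⟨k, -, rfl⟩ := Finset.mem_image.mp hm
        exact Fintype.linearIndependent_iff.mp hli (fun k => v (a k)) h1 k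
      · exact hv m hm
    have hz0 : A.mulVec zz = 0 := hindep _ hw0 hw
    have hzz := hindep zz (fun m hm => by simp [zz, hm]) hz0
    funext s
    simpa [zz] using congrFun hzz s.1
  have hbij : Function.Bijective (A.submatrix (Subtype.val : {x : N // x ∉ S} → N) (Subtype.val : ↥S → N)).mulVecLin := by
    refine ⟨hinj, (LinearMap.injective_iff_surjective_of_finrank_eq_finrank ?_).mp hinj⟩
    rw [Module.finrank_pi, Module.finrank_pi, Fintype.card_subtype_compl, hn, Fintype.card_coe]
    omega
  refine ⟨S, S, Sᶜ, ?_, hbij⟩
  let e : ↥(Sᶜ) ≃ {x : N // x ∉ S} := Equiv.subtypeEquivRight fun x => by simp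
  have hcomp : ⇑(A.submatrix (Subtype.val : ↥(Sᶜ) → N) (Subtype.val : ↥S → N)).mulVecLin =
      (fun v => v ∘ e) ∘ (A.submatrix (Subtype.val : {x : N // x ∉ S} → N) (Subtype.val : ↥S → N)).mulVecLin := by
    funext z i
    rfl
  rw [hcomp]
  exact ((Equiv.arrowCongr e (Equiv.refl K)).symm.bijective).comp hbij

end Groth.Agent.S16400
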