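import Groth.Statements.S16401
import Mathlib

set_option autoImplicit false
universe u v
open CAlgX

namespace Groth.Agent.S16401

/-- Let R be a commutative ring and (E_a), a ∈ ι, a family of additive subgroups of R indexed by an
additive commutative group ι, with E_0 = R and E_a · E_b ⊆ E_{a+b}. Let β, γ : Fin r → ι be weight
vectors with Σ_j β_j = Σ_i γ_i, and let ϑ be an r × r matrix over R with ϑ_{ij} ∈ E_{γ_i − β_j} for
all i, j and with unit determinant. Then a column vector u satisfies u_j ∈ E_{β_j} for every j if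
and only if (ϑ u)_i ∈ E_{γ_i} for every i; since ϑ is invertible this says that ϑ maps the box Π_j
E_{β_j} bijectively onto the box Π_i E_{γ_i}. -/
theorem result
    {R : Type u} [CommRing R] {ι : Type v} [AddCommGroup ι]
    (E : ι → AddSubgroup R) (h0 : E 0 = ⊤)
    (hmul : ∀ a b : ι, ∀ x ∈ E a, ∀ y ∈ E b, x * y ∈ E (a + b))
    {r : ℕ} (wβ wγ : Fin r → ι) (hsum : ∑ j, wβ j = ∑ i, wγ i)
    (ϑ : Matrix (Fin r) (Fin r) R) (hϑ : ∀ i j, ϑ i j ∈ E (wγ i - wβ j))
    (hdet : IsUnit ϑ.det) (u : Fin r → R) :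
    (∀ j, u j ∈ E (wβ j)) ↔ ∀ i, ϑ.mulVec u i ∈ E (wγ i) := by
  have hz : ∀ (a : ι) (x : ℤ), ∀ y ∈ E a, (x : R) * y ∈ E a := fun a x y hy => by
    rw [← zsmul_eq_mul]; exact zsmul_mem hy x
  have hprod : ∀ (s : Finset (Fin r)) (f : Fin r → R) (w : Fin r → ι), (∀ i ∈ s, f i ∈ E (w i)) → ∏ i ∈ s, f i ∈ E (∑ i ∈ s, w i) := by
    intro s f w
    induction s using Finset.induction_on with
    | empty => intro _; simp [h0]
    | insert i s hi ih =>
      intro h
      rw [Finset.prod_insert hi, Finset.sum_insert hi]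
      exact hmul _ _ _ (h i (Finset.mem_insert_self _ _)) _ (ih fun j hj => h j (Finset.mem_insert_of_mem hj))
  have hadj : ∀ j i, ϑ.adjugate j i ∈ E (wβ j - wγ i) := by
    intro j i
    rw [Matrix.adjugate_apply, Matrix.det_apply']
    refine sum_mem fun σ _ => hz _ _ _ ?_
    by_cases hσ : σ j = i
    · rw [← Finset.mul_prod_erase _ _ (Finset.mem_univ j), hσ, Matrix.updateRow_self, Pi.single_eq_same, one_mul]
      have h1 := hprod (Finset.univ.erase j) (fun k => ϑ.updateRow i (Pi.single j 1) (σ k) k) (fun k => wγ (σ k) - wβ k)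
        (fun k hk => by
          rw [Matrix.updateRow_ne (fun h => Finset.ne_of_mem_erase hk (σ.injective (h.trans hσ.symm)))]
          exact hϑ _ _)
      convert h1 using 2
      have h2 : ∑ k, (wγ (σ k) - wβ k) = 0 := by
        rw [Finset.sum_sub_distrib, Equiv.sum_comp σ wγ, hsum, sub_self]
      rw [← Finset.add_sum_erase _ _ (Finset.mem_univ j), hσ] at h2
      rw [← neg_sub, neg_eq_iff_add_eq_zero]
      exact h2
    · obtain ⟨k, hk⟩ := σ.surjective i
      rw [Finset.prod_eq_zero (Finset.mem_univ k)]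
      · exact zero_mem _
      · rw [hk, Matrix.updateRow_self, Pi.single_eq_of_ne]
        rintro rfl
        exact hσ hk
  constructor
  · intro hu i
    rw [Matrix.mulVec, dotProduct]
    refine sum_mem fun j _ => ?_
    have := hmul _ _ _ (hϑ i j) _ (hu j)
    rwa [sub_add_cancel] at this
  · intro hv j
    obtain ⟨d, hd⟩ := hdet
    have h1 : u j = (↑d⁻¹ : R) * (ϑ.adjugate.mulVec (ϑ.mulVec u)) j := by
      rw [Matrix.mulVec_mulVec, Matrix.adjugate_mul, Matrix.smul_mulVec, Matrix.one_mulVec, Pi.smul_apply, smul_eq_mul, ← hd,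
        ← mul_assoc, Units.inv_mul, one_mul]
    rw [h1, ← zero_add (wβ j)]
    refine hmul _ _ _ (h0 ▸ AddSubgroup.mem_top _) _ ?_
    rw [Matrix.mulVec, dotProduct]
    refine sum_mem fun i _ => ?_
    have := hmul _ _ _ (hadj j i) _ (hv i)
    rwa [sub_add_cancel] at this

end Groth.Agent.S16401
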