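-- statement InvQ.GrothFrozen.S16405 (Groth/Statements/S16405.lean; the theorem InvQ.w4c3loopgrpwonder_bijOn_sliceMap_weightZero_of_injective);
import Groth.Statements.S16405
import Mathlib

set_option autoImplicit false
universe u v
open InvQ

namespace Groth.Agent.S16405

/-- In weight form. Let b : L → ℤ^r be an injective homomorphism of abelian groups (the case in view: L
the character group of a maximal torus T of a semisimple group over ℂ and b the map dual to the
surjection of the rank-r split torus T' onto T that sends the i-th coordinate cocharacter to the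
primitive generator of the i-th ray of the Weyl chamber; only the injectivity of b is used, and ℂ is
replaced by any commutative ring k). Grade the monoid algebra k[L × ℕ^r] (the coordinate ring of T ×
𝔸^r) by ℤ^r, the monomial (w, n) having weight b(w) + n (the weights of the T'-action u·(t, v) =
(b^∨(u) t, u v)), and grade k[ℕ^r] by ℤ^r/b(L), the monomial n having weight the class of n (the
weights of the action on 𝔸^r of the diagonalizable kernel Z of T' → T, a finite group in the case in
view). For a diagonalizable group acting on an affine scheme the ring of invariants is the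
weight-zero part, so the two weight-zero parts are the coordinate rings of the quotients (T ×
𝔸^r)//T' and 𝔸^r//Z. The statement: the algebra map k[L × ℕ^r] → k[ℕ^r] induced by the projection L
× ℕ^r → ℕ^r (restriction to the slice 1 × 𝔸^r) maps the weight-zero part of k[L × ℕ^r] bijectively
onto the weight-zero part of k[ℕ^r]; hence it induces an isomorphism of k-algebras between them. -/
theorem result
    (k : Type u) [CommRing k] (r : ℕ) (L : Type v) [AddCommGroup L]
    (b : L →+ (Fin r → ℤ)) (hb : Function.Injective b) :
    Set.BijOn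
      (AddMonoidAlgebra.mapDomainAlgHom k k (AddMonoidHom.snd L (Fin r → ℕ)))
      (AddMonoidAlgebra.gradeBy k
        (b.comp (AddMonoidHom.fst L (Fin r → ℕ)) +
          (AddMonoidHom.compLeft (Nat.castAddMonoidHom ℤ) (Fin r)).comp (AddMonoidHom.snd L (Fin r → ℕ))) 0 :
        Set (AddMonoidAlgebra k (L × (Fin r → ℕ))))
      (AddMonoidAlgebra.gradeBy k
        ((QuotientAddGroup.mk' b.range).comp (AddMonoidHom.compLeft (Nat.castAddMonoidHom ℤ) (Fin r))) 0 :
        Set (AddMonoidAlgebra k (Fin r → ℕ))) := by
  classical
  let wA : L × (Fin r → ℕ) → (Fin r → ℤ) := fun p => b p.1 + fun i => (p.2 i : ℤ)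
  have hinj : Set.InjOn (Prod.snd : L × (Fin r → ℕ) → (Fin r → ℕ)) {p | wA p = 0} := by
    rintro ⟨l, n⟩ hl ⟨l', n'⟩ hl' (rfl : n = n')
    have h : b l = b l' := by
      have h1 : b l + (fun i => (n i : ℤ)) = b l' + fun i => (n i : ℤ) := by
        simp only [wA, Set.mem_setOf_eq] at hl hl'; rw [hl, hl']
      exact add_right_cancel h1
    rw [hb h]
  refine ⟨fun x hx => ?_, fun x hx y hy h => ?_, fun y hy => ?_⟩
  · rw [SetLike.mem_coe, AddMonoidAlgebra.mem_gradeBy_iff] at hx ⊢
    intro m hm
    obtain ⟨p, hp, rfl⟩ := Finset.mem_image.1 (Finsupp.mapDomain_support (f := Prod.snd) (s := x.coeff) hm)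
    have h0 : wA p = 0 := hx hp
    show QuotientAddGroup.mk' b.range (fun i => (p.2 i : ℤ)) = 0
    rw [QuotientAddGroup.mk'_apply, QuotientAddGroup.eq_zero_iff]
    exact ⟨-p.1, by rw [map_neg]; exact neg_eq_of_add_eq_zero_right h0⟩
  · rw [SetLike.mem_coe, AddMonoidAlgebra.mem_gradeBy_iff] at hx hy
    exact AddMonoidAlgebra.coeff_injective (Finsupp.mapDomain_injOn {p | wA p = 0} hinj hx hy
      (congrArg AddMonoidAlgebra.coeff h))
  · rw [SetLike.mem_coe, AddMonoidAlgebra.mem_gradeBy_iff] at hy
    have hl : ∀ n ∈ y.coeff.support, ∃ l, b l + (fun i => (n i : ℤ)) = 0 := by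
      intro n hn
      obtain ⟨l, hl⟩ := (QuotientAddGroup.eq_zero_iff _).1 (hy hn)
      exact ⟨-l, by rw [map_neg, hl]; exact neg_add_cancel _⟩
    choose! l hl using hl
    refine ⟨∑ n ∈ y.coeff.support, AddMonoidAlgebra.single (l n, n) (y.coeff n), ?_, ?_⟩
    · exact Submodule.sum_mem _ fun n hn => by
        rw [AddMonoidAlgebra.mem_gradeBy_iff]
        intro p hp
        obtain rfl : p = (l n, n) := by simpa using Finsupp.support_single_subset hp
        exact hl n hn
    · rw [map_sum]
      simp only [AddMonoidAlgebra.mapDomainAlgHom_apply, AddMonoidAlgebra.mapDomain_single, AddMonoidHom.coe_snd]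
      exact AddMonoidAlgebra.sum_coeff_single y

end Groth.Agent.S16405
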