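import Groth.Statements.S16411
import Groth.Agent.MVSqLib.Basic
import Groth.Agent.DerCat.CompactSmall

set_option autoImplicit false
universe v u
open CategoryTheory CategoryTheory.Limits CategoryTheory.Pretriangulated
open W4c3perfectstacks W4c3perfectstacks.MVSq


namespace Groth.Agent.S16411

set_option backward.isDefEq.respectTransparency false
set_option backward.defeqAttrib.useBackward true

noncomputable section

open Groth.Agent.S1076 (Small idem proj ι_idem small_of_isCompactObject smallProp small_aux idem_comp)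
open Groth.Agent.MVSqLib

lemma ι_idem_not {D : Type u} [Category.{v} D] [Preadditive D] [HasCoproducts.{v} D] {ι : Type v} (X : ι → D)
    {S : Finset ι} {k : ι} (hk : k ∉ S) : Sigma.ι X k ≫ idem X S = 0 := by
  rw [idem, Preadditive.comp_sum]
  refine Finset.sum_eq_zero fun i hi => ?_
  rw [Groth.Agent.S1076.ι_proj_ne_assoc X (show k ≠ i from fun h => hk (h ▸ hi)), zero_comp]

/-- Compactness seen through a functor preserving coproducts. -/
lemma small_map {C D : Type u} [Category.{v} C] [Category.{v} D] [Preadditive C] [Preadditive D]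
    [HasCoproducts.{v} C] [HasCoproducts.{v} D] (G : C ⥤ D) [G.Additive] [G.IsLeftAdjoint] {K : D} (hK : Small K)
    {ι : Type v} (X : ι → C) (f : K ⟶ G.obj (∐ X)) : ∃ S : Finset ι, f ≫ G.map (idem X S) = f := by
  obtain ⟨S, hS⟩ := hK ι (fun i => G.obj (X i)) (f ≫ inv (sigmaComparison G X))
  refine ⟨S, ?_⟩
  have h : sigmaComparison G X ≫ G.map (idem X S) = idem (fun i => G.obj (X i)) S ≫ sigmaComparison G X := by
    refine Sigma.hom_ext _ _ fun k => ?_
    by_cases hk : k ∈ S
    · rw [ι_comp_sigmaComparison_assoc, ← Functor.map_comp, ι_idem X hk, ← Category.assoc,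
        ι_idem (fun i => G.obj (X i)) hk, ι_comp_sigmaComparison]
    · rw [ι_comp_sigmaComparison_assoc, ← Functor.map_comp, ι_idem_not X hk, ← Category.assoc,
        ι_idem_not (fun i => G.obj (X i)) hk, Functor.map_zero, zero_comp]
  calc f ≫ G.map (idem X S) = (f ≫ inv (sigmaComparison G X)) ≫ sigmaComparison G X ≫ G.map (idem X S) := by simp
    _ = f := by rw [h, ← Category.assoc, hS]; simp

variable {S S' R R' : Type u} [Category.{v} S] [Category.{v} S'] [Category.{v} R] [Category.{v} R']
    [Preadditive S] [Preadditive S'] [Preadditive R] [Preadditive R']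
    (q : W4c3perfectstacks.MVSq S S' R R')

/-- Transpose of a map into `f_* f^* j_* j^*`. -/
def tr {N Y : S} (t : N ⟶ q.fls.obj (q.fst.obj (q.jls.obj (q.jst.obj Y)))) :
    q.gst.obj (q.jst.obj N) ⟶ q.gst.obj (q.jst.obj Y) :=
  q.e.hom.app N ≫ q.jpst.map ((q.adjF.homEquiv _ _).symm t) ≫ q.e.inv.app (q.jls.obj (q.jst.obj Y)) ≫
    q.gst.map (q.adjJ.counit.app (q.jst.obj Y))

omit [Preadditive S] [Preadditive S'] [Preadditive R] [Preadditive R'] in
lemma tr_injective (hq : q.IsMV) (N Y : S) : Function.Injective (tr q (N := N) (Y := Y)) := fun t t' h => by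
  apply (q.adjF.homEquiv _ _).symm.injective
  haveI := hq.isIso_bc2App (q.jst.obj Y)
  rw [← cancel_mono (q.bc2App (q.jst.obj Y))]
  apply (q.adjJp.homEquiv _ _).symm.injective
  rw [← cancel_epi (q.e.hom.app N)]
  have e : ∀ s : q.fst.obj N ⟶ q.fst.obj (q.jls.obj (q.jst.obj Y)),
      (q.adjJp.homEquiv _ _).symm (s ≫ q.bc2App (q.jst.obj Y)) =
        q.jpst.map s ≫ q.e.inv.app (q.jls.obj (q.jst.obj Y)) ≫ q.gst.map (q.adjJ.counit.app (q.jst.obj Y)) := by
    intro s
    rw [Adjunction.homEquiv_naturality_left_symm, MVSq.bc2App, ← Functor.map_comp]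
    exact congrArg _ ((Equiv.symm_apply_eq _).2 (q.adjJp.homEquiv_unit _ _ _).symm)
  rw [e, e]
  exact h

omit [Preadditive S] [Preadditive S'] [Preadditive R] [Preadditive R'] in
lemma tr_comp {N Y Y' : S} (t : N ⟶ q.fls.obj (q.fst.obj (q.jls.obj (q.jst.obj Y)))) (φ : Y ⟶ Y') :
    tr q (t ≫ q.fls.map (q.fst.map (q.jls.map (q.jst.map φ)))) = tr q t ≫ q.gst.map (q.jst.map φ) := by
  simp only [tr, Adjunction.homEquiv_naturality_right_symm, Functor.map_comp, Category.assoc]
  congr 2
  rw [← Functor.map_comp, ← q.adjJ.counit_naturality, Functor.map_comp]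
  exact q.e.inv.naturality_assoc _ _

end

/-- In a Mayer–Vietoris square of triangulated categories with small coproducts (single-square form), an
object over X whose restrictions to U, to X' and to U' are compact is compact. (The four categories
are taken in common universes; coproducts are indexed by types in the morphism universe.) -/
theorem result
    (S S' R R' : Type u) [Category.{v} S] [Category.{v} S'] [Category.{v} R] [Category.{v} R']
    [Preadditive S] [Preadditive S'] [Preadditive R] [Preadditive R']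
    [HasZeroObject S] [HasZeroObject S'] [HasZeroObject R] [HasZeroObject R']
    [HasShift S ℤ] [HasShift S' ℤ] [HasShift R ℤ] [HasShift R' ℤ]
    [∀ n : ℤ, (shiftFunctor S n).Additive] [∀ n : ℤ, (shiftFunctor S' n).Additive]
    [∀ n : ℤ, (shiftFunctor R n).Additive] [∀ n : ℤ, (shiftFunctor R' n).Additive]
    [Pretriangulated S] [Pretriangulated S'] [Pretriangulated R] [Pretriangulated R']
    [IsTriangulated S] [IsTriangulated S'] [IsTriangulated R] [IsTriangulated R']
    (q : W4c3perfectstacks.MVSq S S' R R')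
    [q.jst.CommShift ℤ] [q.fst.CommShift ℤ] [q.jpst.CommShift ℤ] [q.gst.CommShift ℤ]
    [q.jst.IsTriangulated] [q.fst.IsTriangulated] [q.jpst.IsTriangulated] [q.gst.IsTriangulated]
    (hq : q.IsMV)
    [HasCoproducts.{v} S] [HasCoproducts.{v} S'] [HasCoproducts.{v} R] [HasCoproducts.{v} R']
    (N : S) (hU : CohDer.IsCompactObject (q.jst.obj N)) (hX' : CohDer.IsCompactObject (q.fst.obj N))
    (hU' : CohDer.IsCompactObject (q.gst.obj (q.jst.obj N))) :
    CohDer.IsCompactObject N := by
  classical
  haveI := q.jst.additive_of_preserves_binary_products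
  haveI : q.jst.IsLeftAdjoint := q.adjJ.isLeftAdjoint
  haveI : q.fst.IsLeftAdjoint := q.adjF.isLeftAdjoint
  haveI : q.gst.IsLeftAdjoint := q.adjG.isLeftAdjoint
  refine DerCat.isCompactObject_of_small fun ι X f => ?_
  obtain ⟨S₁, h1⟩ := small_map q.jst (Groth.Agent.S1076.small_of_isCompactObject hU) X (q.jst.map f)
  obtain ⟨S₂, h2⟩ := small_map q.fst (Groth.Agent.S1076.small_of_isCompactObject hX') X (q.fst.map f)
  let A := S₁ ∪ S₂
  have h1' : q.jst.map (f - f ≫ Groth.Agent.S1076.idem X A) = 0 := by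
    rw [Functor.map_sub, sub_eq_zero, Functor.map_comp]
    calc q.jst.map f = q.jst.map f ≫ q.jst.map (Groth.Agent.S1076.idem X S₁) := h1.symm
      _ = (q.jst.map f ≫ q.jst.map (Groth.Agent.S1076.idem X S₁)) ≫ q.jst.map (Groth.Agent.S1076.idem X A) := by
          simp only [Category.assoc, ← Functor.map_comp]; rw [Groth.Agent.S1076.idem_comp X Finset.subset_union_left]
      _ = _ := by rw [h1]
  have h2' : q.fst.map (f - f ≫ Groth.Agent.S1076.idem X A) = 0 := by
    rw [Functor.map_sub, sub_eq_zero, Functor.map_comp]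
    calc q.fst.map f = q.fst.map f ≫ q.fst.map (Groth.Agent.S1076.idem X S₂) := h2.symm
      _ = (q.fst.map f ≫ q.fst.map (Groth.Agent.S1076.idem X S₂)) ≫ q.fst.map (Groth.Agent.S1076.idem X A) := by
          simp only [Category.assoc, ← Functor.map_comp]; rw [Groth.Agent.S1076.idem_comp X Finset.subset_union_right]
      _ = _ := by rw [h2]
  generalize hg : f - f ≫ Groth.Agent.S1076.idem X A = g at h1' h2'
  obtain ⟨d, hd, -⟩ := MVSqLib.existsUnique hq (∐ X)
  have e1 : g ≫ q.adjJ.unit.app (∐ X) = 0 :=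
    (q.adjJ.unit.naturality g).trans (by
      change _ ≫ q.jls.map (q.jst.map g) = 0
      rw [h1', Functor.map_zero, comp_zero])
  have e2 : g ≫ q.adjF.unit.app (∐ X) = 0 :=
    (q.adjF.unit.naturality g).trans (by
      change _ ≫ q.fls.map (q.fst.map g) = 0
      rw [h2', Functor.map_zero, comp_zero])
  have e3 : g ≫ MVSqLib.mvFirst q (∐ X) = 0 := by
    apply biprod.hom_ext
    · rw [Category.assoc, biprod.lift_fst, zero_comp]; exact e1
    · rw [Category.assoc, biprod.lift_snd, zero_comp]; exact e2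
  obtain ⟨t, ht⟩ := Triangle.coyoneda_exact₁ _ hd (g⟦(1 : ℤ)⟧') (by
    change (shiftFunctor S 1).map g ≫ (shiftFunctor S 1).map (MVSqLib.mvFirst q (∐ X)) = 0
    rw [← Functor.map_comp, e3, Functor.map_zero])
  have hsm : Groth.Agent.S1076.Small (q.gst.obj (q.jst.obj ((shiftFunctor S (1 : ℤ)).obj N))) := by
    have h := (Groth.Agent.S1076.smallProp (D := R')).le_shift (1 : ℤ) _ (Groth.Agent.S1076.small_of_isCompactObject hU')
    exact (Groth.Agent.S1076.smallProp (D := R')).prop_of_iso
      (((q.gst.commShiftIso (1 : ℤ)).app _).symm ≪≫ q.gst.mapIso ((q.jst.commShiftIso (1 : ℤ)).app N).symm) h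
  obtain ⟨B, hB⟩ := small_map (q.jst ⋙ q.gst) hsm X (tr q t)
  have h3 : t ≫ q.fls.map (q.fst.map (q.jls.map (q.jst.map (Groth.Agent.S1076.idem X B)))) = t :=
    tr_injective q hq _ _ ((tr_comp q t _).trans hB)
  have hgB : g ≫ Groth.Agent.S1076.idem X B = g := by
    apply (shiftFunctor S (1 : ℤ)).map_injective
    rw [Functor.map_comp, ht]
    change (t ≫ d) ≫ _ = t ≫ d
    rw [Category.assoc, MVSqLib.natural hq (Groth.Agent.S1076.idem X B) d d hd hd, ← Category.assoc]
    exact congrArg (· ≫ d) h3
  refine ⟨A ∪ B, ?_⟩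
  have hf : f = f ≫ Groth.Agent.S1076.idem X A + g := by rw [← hg, add_sub_cancel]
  conv_rhs => rw [hf]
  conv_lhs => rw [hf]
  rw [Preadditive.add_comp, Category.assoc, Groth.Agent.S1076.idem_comp X Finset.subset_union_left,
    Groth.Agent.S1076.small_aux X Finset.subset_union_right hgB]

end Groth.Agent.S16411
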