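import Groth.Statements.S16414
import Mathlib

set_option autoImplicit false
open Dieud

namespace Groth.Agent.S16414

/-- Let μ be a rational number with 0 < μ ≤ 1 and i an integer, and put f(i,j) = max(−i−j, −j, 0) for
integers j. Then min over all integers j of f(i,j) + jμ exists and equals max(−iμ, 0). -/
theorem result (μ : ℚ) (hμ0 : 0 < μ) (hμ1 : μ ≤ 1) (i : ℤ) :
    IsLeast (Set.range fun j : ℤ => ((max (max (-i - j) (-j)) 0 : ℤ) : ℚ) + (j : ℚ) * μ)
      (max (-(i : ℚ) * μ) 0) := by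
  refine ⟨⟨max (-i) 0, ?_⟩, ?_⟩
  · have h : max (max (-i - max (-i) 0) (-max (-i) 0)) 0 = 0 := by omega
    simp only [h]
    push_cast
    rw [max_mul_of_nonneg _ _ hμ0.le]
    simp
  · rintro _ ⟨j, rfl⟩
    simp only
    generalize hm : max (max (-i - j) (-j)) 0 = m
    have h1 : (0:ℚ) ≤ m := by exact_mod_cast (by omega : (0:ℤ) ≤ m)
    have h2 : -(i:ℚ) ≤ m + j := by exact_mod_cast (by omega : -i ≤ m + j)
    have h3 : (0:ℚ) ≤ m + j := by exact_mod_cast (by omega : (0:ℤ) ≤ m + j)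
    refine max_le ?_ ?_ <;> nlinarith [mul_le_mul_of_nonneg_right h2 hμ0.le, mul_nonneg h3 hμ0.le, mul_nonneg h1 (sub_nonneg.2 hμ1)]

end Groth.Agent.S16414
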