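import Groth.Statements.S16416
import Mathlib.RingTheory.WittVector.Frobenius
import Mathlib.RingTheory.WittVector.Verschiebung

set_option autoImplicit false
universe u v w
open Dieud

namespace Groth.Agent.S16416

/-- For a prime p and a perfect field k of characteristic p, write W = W(k) for the ring of Witt vectors
and σ for its Frobenius; let M and N be free W-modules of finite rank, each with additive maps F
(σ-semilinear) and V (with V(σ(a)m) = aV(m)) satisfying FV = VF = p, and H = Hom_W(M, N). On H the
operator F acts through h ↦ F ∘ h ∘ V, and V acts partially: V·h is the W-linear map h' with h'(V m)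
= V(h(m)) for all m, when it exists. Let H₁ be the largest W-submodule of H stable under both (it
contains every submodule stable under both). Then H₁ ∩ V·H = V·H₁: if y ∈ H and V·y exists and lies
in H₁, then y ∈ H₁, so that H₁/VH₁ → H/(H ∩ VH) is injective. (The published statement is for the
Cartier modules of two p-divisible formal groups over k, every slope of the first below every slope
of the second; only the structure just listed is used, so connectedness and the slope condition are
not assumed.) -/
theorem result
    (p : ℕ) [Fact p.Prime] (k : Type u) [Field k] [CharP k p] [PerfectRing k p]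
    (M : Type v) [AddCommGroup M] [Module (WittVector p k) M]
    [Module.Free (WittVector p k) M] [Module.Finite (WittVector p k) M]
    (N : Type w) [AddCommGroup N] [Module (WittVector p k) N]
    [Module.Free (WittVector p k) N] [Module.Finite (WittVector p k) N]
    (FM VM : M →+ M) (FN VN : N →+ N)
    (hFM : ∀ (a : WittVector p k) (m : M), FM (a • m) = WittVector.frobenius a • FM m)
    (hVM : ∀ (a : WittVector p k) (m : M), VM (WittVector.frobenius a • m) = a • VM m)
    (hFVM : ∀ m : M, FM (VM m) = (p : WittVector p k) • m)
    (hVFM : ∀ m : M, VM (FM m) = (p : WittVector p k) • m)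
    (hFN : ∀ (a : WittVector p k) (n : N), FN (a • n) = WittVector.frobenius a • FN n)
    (hVN : ∀ (a : WittVector p k) (n : N), VN (WittVector.frobenius a • n) = a • VN n)
    (hFVN : ∀ n : N, FN (VN n) = (p : WittVector p k) • n)
    (hVFN : ∀ n : N, VN (FN n) = (p : WittVector p k) • n)
    (H₁ : Submodule (WittVector p k) (M →ₗ[WittVector p k] N))
    (hF : ∀ h ∈ H₁, ∃ h' ∈ H₁, ∀ m : M, h' m = FN (h (VM m)))
    (hV : ∀ h ∈ H₁, ∃ h' ∈ H₁, ∀ m : M, h' (VM m) = VN (h m))
    (hmax : ∀ S : Submodule (WittVector p k) (M →ₗ[WittVector p k] N),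
      (∀ h ∈ S, ∃ h' ∈ S, ∀ m : M, h' m = FN (h (VM m))) →
      (∀ h ∈ S, ∃ h' ∈ S, ∀ m : M, h' (VM m) = VN (h m)) → S ≤ H₁)
    (y : M →ₗ[WittVector p k] N) (x : M →ₗ[WittVector p k] N) (hx : x ∈ H₁)
    (hxy : ∀ m : M, x (VM m) = VN (y m)) :
    y ∈ H₁ := by
  let σ := WittVector.frobeniusEquiv p k
  have hσ : ∀ a, σ a = WittVector.frobenius a := fun a => rfl
  have hVM' : ∀ (b : WittVector p k) (m : M), VM (b • m) = σ.symm b • VM m := fun b m => by
    rw [← hVM, ← hσ, RingEquiv.apply_symm_apply]
  have hVN' : ∀ (b : WittVector p k) (m : N), VN (b • m) = σ.symm b • VN m := fun b m => by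
    rw [← hVN, ← hσ, RingEquiv.apply_symm_apply]
  let tw : (M →ₗ[WittVector p k] N) → (M →ₗ[WittVector p k] N) := fun h =>
    { toFun := fun m => FN (h (VM m))
      map_add' := fun m m' => by simp
      map_smul' := fun b m => by
        rw [hVM', map_smul, hFN, ← hσ, RingEquiv.apply_symm_apply]
        rfl }
  have htw : ∀ h m, tw h m = FN (h (VM m)) := fun h m => rfl
  let S : Submodule (WittVector p k) (M →ₗ[WittVector p k] N) := H₁ ⊔ Submodule.span _ (Set.range fun n => tw^[n] y)
  have hle : S ≤ H₁ := by
    refine hmax S (fun h hh => ⟨tw h, ?_, fun m => rfl⟩) (fun h hh => ?_)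
    · obtain ⟨a, ha, b, hb, rfl⟩ := Submodule.mem_sup.1 hh
      have e : tw (a + b) = tw a + tw b := LinearMap.ext fun m => by simp [htw]
      rw [e]
      refine add_mem ?_ ?_
      · obtain ⟨a', ha', hae⟩ := hF a ha
        rw [show tw a = a' from LinearMap.ext fun m => (hae m).symm]
        exact Submodule.mem_sup_left ha'
      · clear hh e
        induction hb using Submodule.span_induction with
        | mem z hz =>
          obtain ⟨n, rfl⟩ := hz
          exact Submodule.mem_sup_right (Submodule.subset_span ⟨n + 1, by simp [Function.iterate_succ_apply']⟩)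
        | zero => rw [show tw 0 = 0 from LinearMap.ext fun m => by simp [htw]]; exact zero_mem _
        | add z z' _ _ hz hz' =>
          rw [show tw (z + z') = tw z + tw z' from LinearMap.ext fun m => by simp [htw]]
          exact add_mem hz hz'
        | smul c z _ hz =>
          rw [show tw (c • z) = σ c • tw z from LinearMap.ext fun m => by simp [htw, hFN, hσ]]
          exact Submodule.smul_mem _ _ hz
    · obtain ⟨a, ha, b, hb, rfl⟩ := Submodule.mem_sup.1 hh
      obtain ⟨a', ha', hae⟩ := hV a ha
      suffices hb' : ∃ b' ∈ S, ∀ m, b' (VM m) = VN (b m) by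
        obtain ⟨b', hb'S, hbe⟩ := hb'
        exact ⟨a' + b', add_mem (Submodule.mem_sup_left ha') hb'S, fun m => by simp [hae, hbe]⟩
      clear hh
      induction hb using Submodule.span_induction with
      | mem z hz =>
        obtain ⟨n, rfl⟩ := hz
        cases n with
        | zero => exact ⟨x, Submodule.mem_sup_left hx, fun m => hxy m⟩
        | succ n =>
          refine ⟨(p : WittVector p k) • tw^[n] y, Submodule.smul_mem _ _ (Submodule.mem_sup_right
            (Submodule.subset_span ⟨n, rfl⟩)), fun m => ?_⟩
          simp only [Function.iterate_succ_apply']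
          rw [htw, hVFN]
          rfl
      | zero => exact ⟨0, zero_mem _, fun m => by simp⟩
      | add z z' _ _ hz hz' =>
        obtain ⟨w, hw, hwe⟩ := hz
        obtain ⟨w', hw', hwe'⟩ := hz'
        exact ⟨w + w', add_mem hw hw', fun m => by simp [hwe, hwe']⟩
      | smul c z _ hz =>
        obtain ⟨w, hw, hwe⟩ := hz
        exact ⟨σ.symm c • w, Submodule.smul_mem _ _ hw, fun m => by simp [hwe, hVN']⟩
  exact hle (Submodule.mem_sup_right (Submodule.subset_span ⟨0, rfl⟩))

end Groth.Agent.S16416
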