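import Groth.Statements.S16418
import Mathlib
-- import your own Groth.Agent.* helpers here

set_option autoImplicit false
universe u v
open Dieud

namespace Groth.Agent.S16418

/-- Step of the proof: for a prime p and a perfect field k of characteristic p, write W = W(k) and σ for
its Frobenius; let M be a W-module with additive maps F (σ-semilinear) and V (with V(σ(a)m) = aV(m))
such that FV = VF = p, V is injective, ⋂_n V^n M = 0 and M/VM is finitely generated over W. Put M₁ =
{x ∈ M : for every n there is m with V^m x ∈ F^n M} and M₂ = {x ∈ M : F^n x = 0 for some n}. Then M₂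
is killed by a single power of F, and F is injective on M₁. (The published text makes these
assertions inside a proof, for the V-reduced Cartier module of a connected smooth formal group of
finite dimension over k; only the listed structure is used, and V-adic completeness is not needed.) -/
theorem result
    (p : ℕ) [Fact p.Prime] (k : Type u) [Field k] [CharP k p] [PerfectRing k p]
    (M : Type v) [AddCommGroup M] [Module (WittVector p k) M]
    (F V : M →+ M)
    (hF : ∀ (a : WittVector p k) (m : M), F (a • m) = WittVector.frobenius a • F m)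
    (hV : ∀ (a : WittVector p k) (m : M), V (WittVector.frobenius a • m) = a • V m)
    (hFV : ∀ m : M, F (V m) = (p : WittVector p k) • m)
    (hVF : ∀ m : M, V (F m) = (p : WittVector p k) • m)
    (hVinj : Function.Injective V)
    (hsep : ∀ x : M, (∀ n : ℕ, ∃ y : M, x = (⇑V)^[n] y) → x = 0)
    (hfin : Module.Finite (WittVector p k) (M ⧸ Submodule.span (WittVector p k) (Set.range V))) :
    (∃ c : ℕ, ∀ x : M, (∃ n : ℕ, (⇑F)^[n] x = 0) → (⇑F)^[c] x = 0) ∧
    (∀ x : M, (∀ n : ℕ, ∃ (m : ℕ) (y : M), (⇑V)^[m] x = (⇑F)^[n] y) → F x = 0 → x = 0) := by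
  classical
  have hFit : ∀ (n : ℕ), (∀ x y : M, (⇑F)^[n] (x + y) = (⇑F)^[n] x + (⇑F)^[n] y) ∧ (⇑F)^[n] 0 = 0 ∧
      ∀ (a : WittVector p k) (x : M), (⇑F)^[n] x = 0 → (⇑F)^[n] (a • x) = 0 := by
    intro n
    induction n with
    | zero => exact ⟨fun _ _ => rfl, rfl, fun a x h => by simp only [Function.iterate_zero, id] at h ⊢; rw [h, smul_zero]⟩
    | succ n ih =>
      refine ⟨fun x y => ?_, ?_, fun a x h => ?_⟩
      · rw [Function.iterate_succ_apply, map_add, ih.1]; rfl
      · rw [Function.iterate_succ_apply, map_zero, ih.2.1]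
      · rw [Function.iterate_succ_apply] at h ⊢
        rw [hF]; exact ih.2.2 _ _ h
  have hcomm : Function.Commute (⇑F) (⇑V) := fun m => (hFV m).trans (hVF m).symm
  have hcomm' : ∀ (a b : ℕ) (m : M), (⇑F)^[a] ((⇑V)^[b] m) = (⇑V)^[b] ((⇑F)^[a] m) := fun a b m =>
    (hcomm.iterate_iterate a b) m
  have hV0 : ∀ b, (⇑V)^[b] (0 : M) = 0 := fun b => by
    induction b with
    | zero => rfl
    | succ b ih => rw [Function.iterate_succ_apply, map_zero, ih]
  have hrange : ∀ x ∈ Submodule.span (WittVector p k) (Set.range V), ∃ y, V y = x := by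
    intro x hx
    induction hx using Submodule.span_induction with
    | mem x hx => exact hx
    | zero => exact ⟨0, map_zero V⟩
    | add x y _ _ hx hy => obtain ⟨u, rfl⟩ := hx; obtain ⟨w, rfl⟩ := hy; exact ⟨u + w, map_add V u w⟩
    | smul a x _ hx => obtain ⟨u, rfl⟩ := hx; exact ⟨WittVector.frobenius a • u, hV a u⟩
  let Kc : ℕ → Submodule (WittVector p k) M := fun n =>
    { carrier := {x | (⇑F)^[n] x = 0}
      add_mem' := fun {x y} hx hy => by
        simp only [Set.mem_setOf_eq] at hx hy ⊢
        rw [(hFit n).1, hx, hy, add_zero]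
      zero_mem' := (hFit n).2.1
      smul_mem' := fun a x hx => (hFit n).2.2 a x hx }
  have hKmono : ∀ a b, a ≤ b → Kc a ≤ Kc b := by
    intro a b hab x hx
    obtain ⟨d, rfl⟩ := Nat.exists_eq_add_of_le hab
    show (⇑F)^[a + d] x = 0
    rw [add_comm, Function.iterate_add_apply, show (⇑F)^[a] x = 0 from hx, (hFit d).2.1]
  let q := (Submodule.span (WittVector p k) (Set.range V)).mkQ
  obtain ⟨c, hc⟩ := monotone_stabilizes_iff_noetherian.2 (inferInstance : IsNoetherian (WittVector p k) (M ⧸ Submodule.span (WittVector p k) (Set.range V)))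
    ⟨fun n => (Kc n).map q, fun a b hab => Submodule.map_mono (hKmono a b hab)⟩
  have hstep : ∀ (j : ℕ) (x : M), (∃ n, (⇑F)^[n] x = 0) →
      ∃ t z : M, (⇑F)^[c] t = 0 ∧ (∃ n, (⇑F)^[n] z = 0) ∧ x = t + (⇑V)^[j] z := by
    intro j
    induction j with
    | zero => exact fun x hx => ⟨0, x, (hFit c).2.1, hx, by simp⟩
    | succ j ih =>
      intro x hx
      obtain ⟨t, z, ht, ⟨n, hn⟩, rfl⟩ := ih x hx
      have hn' : z ∈ Kc (max c n) := hKmono n _ (le_max_right _ _) hn
      have : q z ∈ (Kc c).map q := by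
        have := hc (max c n) (le_max_left _ _)
        change (Kc c).map q = (Kc (max c n)).map q at this
        rw [this]; exact ⟨z, hn', rfl⟩
      obtain ⟨t', ht', e⟩ := this
      obtain ⟨w, hw⟩ := hrange _ ((Submodule.Quotient.eq _).1 e.symm)
      have hw0 : (⇑F)^[max c n] w = 0 := hVinj (by
        have h1 : z - t' ∈ Kc (max c n) := sub_mem hn' (hKmono c _ (le_max_left _ _) ht')
        rw [← hw] at h1
        rw [map_zero]
        exact ((hcomm' (max c n) 1 w).symm.trans h1 : _))
      refine ⟨t + (⇑V)^[j] t', w, ?_, ⟨_, hw0⟩, ?_⟩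
      · rw [(hFit c).1, ht, hcomm', show (⇑F)^[c] t' = 0 from ht', hV0, add_zero]
      · have hjadd : ∀ a b : M, (⇑V)^[j] (a + b) = (⇑V)^[j] a + (⇑V)^[j] b := fun a b => iterate_map_add V j a b
        rw [Function.iterate_succ_apply, hw, add_assoc, ← hjadd, add_sub_cancel]
  have hbound : ∀ x : M, (∃ n : ℕ, (⇑F)^[n] x = 0) → (⇑F)^[c] x = 0 := by
    intro x hx
    refine hsep _ fun j => ?_
    obtain ⟨t, z, ht, -, rfl⟩ := hstep j x hx
    exact ⟨(⇑F)^[c] z, by rw [(hFit c).1, ht, zero_add, hcomm']⟩
  refine ⟨⟨c, hbound⟩, fun x hx h0 => ?_⟩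
  obtain ⟨m, y, hy⟩ := hx c
  have hy1 : (⇑F)^[c + 1] y = 0 := by
    rw [Function.iterate_succ_apply', ← hy]
    have := hcomm' 1 m x
    simp only [Function.iterate_one] at this
    rw [this, h0, hV0]
  rw [hbound y ⟨_, hy1⟩] at hy
  exact hVinj.iterate m (hy.trans (hV0 m).symm)

end Groth.Agent.S16418
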