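import Groth.Statements.S16419
import Groth.Agent.S16420
import Mathlib

set_option autoImplicit false
universe u v
open CAlg

namespace Groth.Agent.S16419

open TensorProduct in
/-- For a commutative local Artinian ring R and an exact sequence 0 → H₁ → H → H₂ → 0 of finite free
R-modules, let F₁ ⊆ H₁ and F₂ ⊆ H₂ be submodules with H₁/F₁ and H₂/F₂ free; let 𝔫 be an ideal of R
of square zero, R̄ = R/𝔫, and F̄ an R̄-submodule of H̄ = R̄ ⊗ H with free quotient such that F̄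
meets the image of R̄ ⊗ H₁ in the image of R̄ ⊗ F₁ and the image of F̄ in R̄ ⊗ H₂ is the image of R̄
⊗ F₂. Then there is a direct summand F of H with F ∩ H₁ = F₁, whose image in H̄ is F̄ and whose
image in H₂ is F₂. -/
theorem result
    (R : Type u) [CommRing R] [IsArtinianRing R] [IsLocalRing R]
    (H₁ : Type v) (H : Type v) (H₂ : Type v)
    [AddCommGroup H₁] [Module R H₁] [AddCommGroup H] [Module R H] [AddCommGroup H₂] [Module R H₂]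
    [Module.Free R H₁] [Module.Finite R H₁] [Module.Free R H] [Module.Finite R H]
    [Module.Free R H₂] [Module.Finite R H₂]
    (f : H₁ →ₗ[R] H) (g : H →ₗ[R] H₂) (hf : Function.Injective f) (hg : Function.Surjective g)
    (hfg : Function.Exact f g)
    (F₁ : Submodule R H₁) (F₂ : Submodule R H₂) [Module.Free R (H₁ ⧸ F₁)] [Module.Free R (H₂ ⧸ F₂)]
    (𝔫 : Ideal R) (hn : 𝔫 * 𝔫 = ⊥)
    (Fb : Submodule (R ⧸ 𝔫) ((R ⧸ 𝔫) ⊗[R] H))
    [Module.Free (R ⧸ 𝔫) (((R ⧸ 𝔫) ⊗[R] H) ⧸ Fb)]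
    (h1 : Fb ⊓ LinearMap.range (f.baseChange (R ⧸ 𝔫)) =
      Submodule.map (f.baseChange (R ⧸ 𝔫)) (F₁.baseChange (R ⧸ 𝔫)))
    (h2 : Submodule.map (g.baseChange (R ⧸ 𝔫)) Fb = F₂.baseChange (R ⧸ 𝔫)) :
    ∃ F : Submodule R H, (∃ C : Submodule R H, IsCompl F C) ∧
      F ⊓ LinearMap.range f = Submodule.map f F₁ ∧
      F.baseChange (R ⧸ 𝔫) = Fb ∧ Submodule.map g F = F₂ := by
  classical
  obtain ⟨π₁, hπ₁⟩ := S16420.exists_retraction F₁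
  obtain ⟨π₂, hπ₂⟩ := S16420.exists_retraction F₂
  haveI : Module.Projective R F₂ := Module.Projective.of_split F₂.subtype π₂ (LinearMap.ext hπ₂)
  have hgf : ∀ a, g (f a) = 0 := fun a => (hfg (f a)).mpr ⟨a, rfl⟩
  obtain ⟨s, hs⟩ := Module.projective_lifting_property g LinearMap.id hg
  let r : H →ₗ[R] H₁ := (LinearEquiv.ofInjective f hf).symm.toLinearMap.comp ((LinearMap.id - s.comp g).codRestrict (LinearMap.range f) fun x => by
    rw [← hfg.linearMap_ker_eq]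
    simp [show g (s (g x)) = g x from LinearMap.congr_fun hs _])
  have hr : ∀ a, r (f a) = a := fun a => by
    refine (LinearEquiv.ofInjective f hf).injective ?_
    simp only [r, LinearMap.comp_apply, LinearEquiv.coe_coe, LinearEquiv.apply_symm_apply]
    exact Subtype.ext (by simp [hgf])
  have hsurj : ∀ t : (R ⧸ 𝔫) ⊗[R] H, ∃ z, (1 : R ⧸ 𝔫) ⊗ₜ[R] z = t :=
    TensorProduct.mk_surjective R H (R ⧸ 𝔫) Ideal.Quotient.mk_surjective
  have hlift : ∀ z : H, g z ∈ 𝔫 • (⊤ : Submodule R H₂) → ∃ n : H, n ∈ 𝔫 • (⊤ : Submodule R H) ∧ g n = g z := by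
    intro z hz
    rw [← LinearMap.range_eq_top.2 hg, ← Submodule.map_top, ← Submodule.map_smul''] at hz
    obtain ⟨n, hn', hgn⟩ := hz
    exact ⟨n, hn', hgn⟩
  have hdiff : ∀ {M : Type v} [AddCommGroup M] [Module R M] (a b : M), (1 : R ⧸ 𝔫) ⊗ₜ[R] a = (1 : R ⧸ 𝔫) ⊗ₜ[R] b →
      a - b ∈ 𝔫 • (⊤ : Submodule R M) := fun a b h =>
    S16420.mem_smul_of_tmul_eq_zero 𝔫 (by rw [TensorProduct.tmul_sub, h, sub_self])
  let P : Submodule R H := (Fb.restrictScalars R).comap (TensorProduct.mk R (R ⧸ 𝔫) H 1) ⊓ F₂.comap g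
  let gP : P →ₗ[R] F₂ := (g.comp P.subtype).codRestrict F₂ fun x => x.2.2
  have hgP : Function.Surjective gP := by
    intro y
    have hy : (1 : R ⧸ 𝔫) ⊗ₜ[R] (y : H₂) ∈ Submodule.map (g.baseChange (R ⧸ 𝔫)) Fb := by
      rw [h2]; exact Submodule.tmul_mem_baseChange_of_mem _ y.2
    obtain ⟨w, hw, hwy⟩ := hy
    obtain ⟨z, rfl⟩ := hsurj w
    rw [LinearMap.baseChange_tmul] at hwy
    have hd := hdiff _ _ hwy
    obtain ⟨s', hs'⟩ := hg (y : H₂)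
    obtain ⟨n, hn', hgn⟩ := hlift (z - s') (by rwa [map_sub, hs'])
    have hg' : g (z - n) = y := by rw [map_sub, hgn, map_sub, hs']; abel
    refine ⟨⟨z - n, ⟨?_, ?_⟩⟩, Subtype.ext hg'⟩
    · show (1 : R ⧸ 𝔫) ⊗ₜ[R] (z - n) ∈ Fb
      rw [TensorProduct.tmul_sub, S16420.tmul_eq_zero_of_mem_smul 𝔫 hn', sub_zero]
      exact hw
    · show g (z - n) ∈ F₂
      rw [hg']; exact y.2
  obtain ⟨σ, hσ⟩ := Module.projective_lifting_property gP LinearMap.id hgP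
  let τ : F₂ →ₗ[R] H := P.subtype.comp σ
  have hgτ : ∀ y : F₂, g (τ y) = y := fun y => congrArg Subtype.val (LinearMap.congr_fun hσ y)
  have hτb : ∀ y : F₂, (1 : R ⧸ 𝔫) ⊗ₜ[R] τ y ∈ Fb := fun y => (σ y).2.1
  set F : Submodule R H := Submodule.map f F₁ ⊔ LinearMap.range τ with hF
  refine ⟨F, ?_, ?_, ?_, ?_⟩
  · let q : H →ₗ[R] H := (τ.comp (π₂.comp g)) +
      (f.comp (F₁.subtype.comp (π₁.comp (r.comp (LinearMap.id - τ.comp (π₂.comp g))))))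
    let q' : H →ₗ[R] F := q.codRestrict F fun x => add_mem (Submodule.mem_sup_right ⟨_, rfl⟩)
      (Submodule.mem_sup_left ⟨_, (π₁ _).2, rfl⟩)
    refine ⟨LinearMap.ker q', LinearMap.isCompl_of_proj (f := q') fun x => Subtype.ext ?_⟩
    obtain ⟨_, ⟨a, ha, rfl⟩, _, ⟨y, rfl⟩, hx⟩ := Submodule.mem_sup.1 x.2
    show q x = x
    rw [← hx]
    have e1 : π₂ (g (f a + τ y)) = y := by rw [map_add, hgf, zero_add, hgτ, hπ₂]
    simp only [q, LinearMap.add_apply, LinearMap.comp_apply, LinearMap.sub_apply, LinearMap.id_apply, e1,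
      add_sub_cancel_right, hr]
    rw [show π₁ a = ⟨a, ha⟩ from hπ₁ ⟨a, ha⟩]
    exact add_comm _ _
  · refine le_antisymm ?_ ?_
    · rintro x ⟨hx, b, rfl⟩
      obtain ⟨_, ⟨a, ha, rfl⟩, _, ⟨y, rfl⟩, hx'⟩ := Submodule.mem_sup.1 hx
      have := congrArg g hx'
      rw [map_add, hgf, zero_add, hgτ, hgf] at this
      obtain rfl : y = 0 := Subtype.ext this
      rw [map_zero, add_zero] at hx'
      exact ⟨a, ha, hx'⟩
    · rintro _ ⟨a, ha, rfl⟩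
      exact ⟨Submodule.mem_sup_left ⟨a, ha, rfl⟩, a, rfl⟩
  · refine le_antisymm ?_ ?_
    · rw [Submodule.baseChange_eq_span, Submodule.span_le]
      rintro _ ⟨x, hx, rfl⟩
      obtain ⟨_, ⟨a, ha, rfl⟩, _, ⟨y, rfl⟩, rfl⟩ := Submodule.mem_sup.1 hx
      show (1 : R ⧸ 𝔫) ⊗ₜ[R] (f a + τ y) ∈ Fb
      rw [TensorProduct.tmul_add]
      refine add_mem (h1.ge ⟨(1 : R ⧸ 𝔫) ⊗ₜ[R] a, Submodule.tmul_mem_baseChange_of_mem _ ha, ?_⟩).1 (hτb y)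
      rw [LinearMap.baseChange_tmul]
    · intro t ht
      obtain ⟨z, rfl⟩ := hsurj t
      obtain ⟨y, hy, hyz⟩ := S16420.exists_tmul_of_mem_baseChange 𝔫 F₂ (h2 ▸ Submodule.mem_map_of_mem (f := g.baseChange (R ⧸ 𝔫)) ht)
      rw [LinearMap.baseChange_tmul] at hyz
      obtain ⟨n, hn', hgn⟩ := hlift (z - τ ⟨y, hy⟩) (by rw [map_sub, hgτ]; exact hdiff _ _ hyz.symm)
      obtain ⟨a, ha⟩ := (hfg (z - τ ⟨y, hy⟩ - n)).1 (by rw [map_sub, hgn, sub_self])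
      have e : (1 : R ⧸ 𝔫) ⊗ₜ[R] z - (1 : R ⧸ 𝔫) ⊗ₜ[R] τ ⟨y, hy⟩ = f.baseChange (R ⧸ 𝔫) (1 ⊗ₜ a) := by
        rw [LinearMap.baseChange_tmul, ha, TensorProduct.tmul_sub, TensorProduct.tmul_sub,
          S16420.tmul_eq_zero_of_mem_smul 𝔫 hn', sub_zero]
      obtain ⟨u, hu, hue⟩ := h1.le (show (1 : R ⧸ 𝔫) ⊗ₜ[R] z - (1 : R ⧸ 𝔫) ⊗ₜ[R] τ ⟨y, hy⟩ ∈
        Fb ⊓ LinearMap.range (f.baseChange (R ⧸ 𝔫)) from ⟨sub_mem ht (hτb _), _, e.symm⟩)
      obtain ⟨a₁, ha₁, rfl⟩ := S16420.exists_tmul_of_mem_baseChange 𝔫 F₁ hu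
      rw [LinearMap.baseChange_tmul] at hue
      rw [← sub_add_cancel ((1 : R ⧸ 𝔫) ⊗ₜ[R] z) ((1 : R ⧸ 𝔫) ⊗ₜ[R] τ ⟨y, hy⟩), ← hue, ← TensorProduct.tmul_add]
      exact Submodule.tmul_mem_baseChange_of_mem _ (Submodule.add_mem_sup ⟨a₁, ha₁, rfl⟩ ⟨_, rfl⟩)
  · refine le_antisymm ?_ fun y hy => ⟨τ ⟨y, hy⟩, Submodule.mem_sup_right ⟨_, rfl⟩, hgτ _⟩
    rintro _ ⟨x, hx, rfl⟩
    obtain ⟨_, ⟨a, _, rfl⟩, _, ⟨y, rfl⟩, rfl⟩ := Submodule.mem_sup.1 hx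
    rw [map_add, hgf, zero_add, hgτ]
    exact y.2

end Groth.Agent.S16419
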