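import Groth.Statements.S16421
import Mathlib
import Groth.Prelude.Def_FrobAlg

set_option autoImplicit false
universe u
open FrobAlg

namespace Groth.Agent.S16421

theorem ff_of_pBasis (p : ℕ) [Fact p.Prime]
    (R : Type u) [CommRing R] [CharP R p] (ι : Type u) (x : ι → R)
    (hx : Function.Bijective
      (fun c : {e : ι →₀ ℕ // ∀ i, e i < p} →₀ R =>
        c.sum (fun e r => r ^ p * e.1.prod (fun i n => x i ^ n)))) :
    (PerfectClosure.of R p).FaithfullyFlat := by
  classical
  have hp := (Fact.out : p.Prime)
  haveI : IsReduced R := by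
    have hzero : ∀ r : R, r ^ p = 0 → r = 0 := fun r hr => by
      have := hx.injective (a₁ := Finsupp.single ⟨0, fun i => hp.pos⟩ r) (a₂ := 0) (by
        simp [Finsupp.sum_single_index, zero_pow hp.ne_zero, hr])
      simpa using this
    refine ⟨fun r ⟨n, hn⟩ => ?_⟩
    have hn' : r ^ p ^ n = 0 := pow_eq_zero_of_le (Nat.lt_pow_self hp.one_lt).le hn
    clear hn
    induction n with
    | zero => simpa using hn'
    | succ n ih => exact ih (hzero _ (by rwa [← pow_mul, ← pow_succ]))
  have hfl : (frobenius R p).Flat := by
    let g : ({e : ι →₀ ℕ // ∀ i, e i < p} →₀ R) →+ R :=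
      Finsupp.liftAddHom fun e => (AddMonoidHom.mulRight (e.1.prod fun i n => x i ^ n)).comp (frobenius R p).toAddMonoidHom
    have hg : ∀ c, g c = c.sum (fun e r => r ^ p * e.1.prod (fun i n => x i ^ n)) := fun c =>
      (Finsupp.liftAddHom_apply _ _).trans rfl
    let M := ({e : ι →₀ ℕ // ∀ i, e i < p} →₀ R)
    have hsm : ∀ (a : R) (c : M), g (a • c) = frobenius R p a * g c := by
      intro a c
      induction c using Finsupp.induction_linear with
      | zero => rw [smul_zero, map_zero, mul_zero]
      | add u v hu hv => rw [smul_add, map_add, map_add, hu, hv, mul_add]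
      | single e r =>
        rw [show a • (Finsupp.single e r : M) = Finsupp.single e (a * r) from Finsupp.smul_single _ _ _]
        simp only [g, Finsupp.liftAddHom_apply_single, AddMonoidHom.comp_apply, RingHom.toAddMonoidHom_eq_coe,
          AddMonoidHom.coe_coe, AddMonoidHom.coe_mulRight, map_mul, mul_assoc]
    let gl : M →ₗ[R] FrobAlg.Twist p R :=
      { toFun := fun c => FrobAlg.toTwist p R (g c)
        map_add' := fun u v => by rw [map_add, map_add]
        map_smul' := fun a c => by
          rw [hsm, map_mul, RingHom.id_apply, Algebra.smul_def, FrobAlg.algebraMap_twist, frobenius_def] }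
    have hgb : Function.Bijective gl := by
      refine (FrobAlg.toTwist p R).bijective.comp ?_
      rw [show (g : M → R) = fun c => c.sum (fun e r => r ^ p * e.1.prod (fun i n => x i ^ n)) from funext hg]
      exact hx
    have hT : Module.Flat R (FrobAlg.Twist p R) := Module.Flat.of_linearEquiv (LinearEquiv.ofBijective gl hgb).symm
    exact (RingHom.flat_algebraMap_iff.mpr hT : (algebraMap R (FrobAlg.Twist p R)).Flat)
  have hfln : ∀ n, (iterateFrobenius R p n).Flat := by
    intro n
    induction n with
    | zero => rw [iterateFrobenius_zero]; exact RingHom.Flat.id R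
    | succ n ih => rw [iterateFrobenius_add, iterateFrobenius_one]; exact RingHom.Flat.comp hfl ih
  letI := (PerfectClosure.of R p).toAlgebra
  have halg : ∀ a, algebraMap R (PerfectClosure R p) a = PerfectClosure.of R p a := fun _ => rfl
  have hlevel : ∀ n a y, PerfectClosure.of R p a * PerfectClosure.mk R p (n, y) =
      PerfectClosure.mk R p (n, a ^ p ^ n * y) := fun n a y => by
    rw [PerfectClosure.of_apply, PerfectClosure.mk_mul_mk, zero_add, iterate_frobenius]
    rfl
  have hadd : ∀ (n : ℕ) {s : Type} [Fintype s] (y : s → R),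
      ∑ i, PerfectClosure.mk R p (n, y i) = PerfectClosure.mk R p (n, ∑ i, y i) := by
    intro n s _ y
    have hadd2 : ∀ u v : R, PerfectClosure.mk R p (n, u) + PerfectClosure.mk R p (n, v) =
        PerfectClosure.mk R p (n, u + v) := fun u v => by
      rw [PerfectClosure.mk_add_mk, PerfectClosure.eq_iff]
      simp only [iterate_frobenius, add_pow_char_pow, ← pow_mul, ← pow_add]
    induction (Finset.univ : Finset s) using Finset.induction_on with
    | empty => simp [PerfectClosure.mk_zero_right]
    | insert a t ha ih => rw [Finset.sum_insert ha, Finset.sum_insert ha, ih, hadd2]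
  haveI : Module.Flat R (PerfectClosure R p) := by
    rw [Module.Flat.iff_forall_isTrivialRelation]
    intro l f z h
    have hrep : ∀ i, ∃ n y, z i = PerfectClosure.mk R p (n, y) := fun i => by
      obtain ⟨⟨n, y⟩, hy⟩ := PerfectClosure.mk_surjective R p (z i)
      exact ⟨n, y, hy.symm⟩
    choose n y hy using hrep
    let N := Finset.univ.sup n
    have hy' : ∀ i, z i = PerfectClosure.mk R p (N, y i ^ p ^ (N - n i)) := fun i => by
      rw [hy, PerfectClosure.eq_iff, iterate_frobenius, iterate_frobenius, ← pow_mul, ← pow_add,
        Nat.sub_add_cancel (Finset.le_sup (Finset.mem_univ i))]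
    have h0 : ∑ i, f i ^ p ^ N * y i ^ p ^ (N - n i) = 0 := by
      simp only [Algebra.smul_def, halg, hy', hlevel, hadd, ← PerfectClosure.mk_zero_right R p N,
        PerfectClosure.eq_iff, iterate_frobenius] at h
      simpa using eq_zero_of_pow_eq_zero (n := p ^ N) (by simpa [zero_pow (pow_ne_zero N hp.ne_zero)] using h)
    letI alg := (iterateFrobenius R p N).toAlgebra
    have hflN : @Module.Flat R R _ _ alg.toModule := hfln N
    obtain ⟨κ, a, w, ha, ha0⟩ := @Module.Flat.iff_forall_isTrivialRelation R R _ _ alg.toModule |>.mp hflN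
      (f := f) (x := fun i => y i ^ p ^ (N - n i)) (by
        rw [← h0]
        exact Finset.sum_congr rfl fun i _ => rfl)
    refine ⟨κ, a, fun j => PerfectClosure.mk R p (N, w j), fun i => ?_, ha0⟩
    rw [hy', show y i ^ p ^ (N - n i) = ∑ j, a i j ^ p ^ N * w j from ha i, ← hadd]
    exact Finset.sum_congr rfl fun j _ => by rw [Algebra.smul_def, halg, hlevel]
  haveI : Algebra.IsIntegral R (PerfectClosure R p) := ⟨fun z => by
    obtain ⟨⟨n, y⟩, rfl⟩ := PerfectClosure.mk_surjective R p z
    refine IsIntegral.of_pow (pow_pos hp.pos n) ?_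
    rw [show PerfectClosure.mk R p (n, y) ^ p ^ n = algebraMap R (PerfectClosure R p) y by
      rw [halg, PerfectClosure.of_apply, PerfectClosure.mk_pow, PerfectClosure.eq_iff]
      simp [iterate_frobenius]]
    exact isIntegral_algebraMap⟩
  show Module.FaithfullyFlat R (PerfectClosure R p)
  refine Module.FaithfullyFlat.of_comap_surjective ?_
  intro q
  have hinj : Function.Injective (algebraMap R (PerfectClosure R p)) := fun a b hab => by
    have := (PerfectClosure.eq_iff R p ((0 : ℕ), a) ((0 : ℕ), b)).mp hab
    simpa using this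
  obtain ⟨Q, -, hQ, hQq⟩ := Ideal.exists_ideal_over_prime_of_isIntegral q.asIdeal (⊥ : Ideal (PerfectClosure R p))
    (fun a ha => by
      rw [Ideal.mem_comap, Ideal.mem_bot] at ha
      rw [(injective_iff_map_eq_zero _).mp hinj a ha]
      exact Ideal.zero_mem _)
  exact ⟨⟨Q, hQ⟩, PrimeSpectrum.ext hQq⟩


/-- Let p be a prime and R a commutative ring of characteristic p with a p-basis (x_i), meaning that the
monomials ∏ x_i^(e i) with every exponent e i < p form a basis of R as a module over itself through
the Frobenius, i.e. the map sending a finitely supported family of coefficients c to ∑_e (c e)^p · ∏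
x_i^(e i) is a bijection onto R. Then the canonical ring map from R to its perfect closure is
faithfully flat. -/
theorem result (p : ℕ) [Fact p.Prime]
    (R : Type u) [CommRing R] [CharP R p] (ι : Type u) (x : ι → R)
    (hx : Function.Bijective
      (fun c : {e : ι →₀ ℕ // ∀ i, e i < p} →₀ R =>
        c.sum (fun e r => r ^ p * e.1.prod (fun i n => x i ^ n)))) :
    (PerfectClosure.of R p).FaithfullyFlat := by
  exact ff_of_pBasis p R ι x hx

end Groth.Agent.S16421
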