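import Groth.Statements.S16422
import Mathlib.RingTheory.GradedAlgebra.Homogeneous.Ideal

set_option autoImplicit false
universe u
open GrMod

namespace Groth.Agent.S16422

/-- Let S be a commutative ring graded by ℤ with pieces 𝒜 n, and V a decreasing sequence of homogeneous
ideals for which S is graded-complete, i.e. for each degree n the map from 𝒜 n to the inverse limit
of the quotients 𝒜 n / (𝒜 n ∩ V m) is bijective (stated as: a degree-n element in every V m
vanishes, and every sequence in 𝒜 n whose consecutive differences lie in the V m has a limit in 𝒜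
n). Then every graded S-module M which is finitely generated and projective as an S-module is
graded-complete in the same sense for the submodules V m · M: for each n the map from ℳ n to the
inverse limit of ℳ n / (ℳ n ∩ V m · M) is bijective. -/
theorem result
    (S : Type u) [CommRing S] (𝒜 : ℤ → AddSubgroup S) [GradedRing 𝒜]
    (V : ℕ → HomogeneousIdeal 𝒜) (hV : ∀ m, (V (m + 1)).toIdeal ≤ (V m).toIdeal)
    (hsep : ∀ (n : ℤ) (s : S), s ∈ 𝒜 n → (∀ m, s ∈ (V m).toIdeal) → s = 0)
    (hcpl : ∀ (n : ℤ) (f : ℕ → S), (∀ m, f m ∈ 𝒜 n) →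
      (∀ m, f (m + 1) - f m ∈ (V m).toIdeal) → ∃ s ∈ 𝒜 n, ∀ m, s - f m ∈ (V m).toIdeal)
    (M : Type u) [AddCommGroup M] [Module S M] (ℳ : ℤ → AddSubgroup M)
    [DirectSum.Decomposition ℳ] [SetLike.GradedSMul 𝒜 ℳ]
    [Module.Finite S M] [Module.Projective S M] :
    (∀ (n : ℤ) (x : M), x ∈ ℳ n → (∀ m, x ∈ (V m).toIdeal • (⊤ : Submodule S M)) → x = 0) ∧
    (∀ (n : ℤ) (g : ℕ → M), (∀ m, g m ∈ ℳ n) →
      (∀ m, g (m + 1) - g m ∈ (V m).toIdeal • (⊤ : Submodule S M)) →
      ∃ x ∈ ℳ n, ∀ m, x - g m ∈ (V m).toIdeal • (⊤ : Submodule S M)) := by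
    classical
    obtain ⟨t, ht⟩ := (‹Module.Finite S M›).fg_top
    let ι := (y : t) × {d : ℤ // d ∈ (DirectSum.decompose ℳ (y : M)).support}
    let mv : ι → M := fun i => (DirectSum.decompose ℳ (i.1 : M) i.2.1 : M)
    let d : ι → ℤ := fun i => i.2.1
    have hmv : ∀ i, mv i ∈ ℳ (d i) := fun i => SetLike.coe_mem _
    have hgen : Function.Surjective (Fintype.linearCombination S mv) := by
      rw [← LinearMap.range_eq_top, Fintype.range_linearCombination, eq_top_iff, ← ht, Submodule.span_le]
      intro y hy
      rw [SetLike.mem_coe, ← DirectSum.sum_support_decompose ℳ y]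
      exact Submodule.sum_mem _ fun e he => Submodule.subset_span ⟨⟨⟨y, hy⟩, ⟨e, he⟩⟩, rfl⟩
    obtain ⟨σ, hσ⟩ := Module.projective_lifting_property (Fintype.linearCombination S mv) LinearMap.id hgen
    have hmem : ∀ (m : ℕ) (x : M), x ∈ (V m).toIdeal • (⊤ : Submodule S M) → ∀ i, σ x i ∈ (V m).toIdeal := by
      intro m x hx
      induction hx using Submodule.smul_induction_on' with
      | smul r hr y hy => intro i; rw [map_smul, Pi.smul_apply, smul_eq_mul]; exact (V m).toIdeal.mul_mem_right _ hr
      | add x _ y _ hx hy => intro i; rw [map_add, Pi.add_apply]; exact add_mem (hx i) (hy i)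
    let c : ℤ → M → ι → S := fun n x i => (DirectSum.decompose 𝒜 (σ x i) (n - d i) : S)
    have hc : ∀ (n : ℤ) (x : M), x ∈ ℳ n → x = ∑ i, c n x i • mv i := by
      intro n x hx
      have hterm : ∀ (r : S) (i : ι), (DirectSum.decompose ℳ (r • mv i) n : M) =
          (DirectSum.decompose 𝒜 r (n - d i) : S) • mv i := by
        intro r i
        conv_lhs => rw [← DirectSum.sum_support_decompose 𝒜 r, Finset.sum_smul, DirectSum.decompose_sum]
        rw [DFinsupp.finset_sum_apply, AddSubmonoidClass.coe_finset_sum, Finset.sum_eq_single (n - d i)]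
        · refine DirectSum.decompose_of_mem_same ℳ ?_
          have := SetLike.GradedSMul.smul_mem (A := 𝒜) (B := ℳ) (SetLike.coe_mem (DirectSum.decompose 𝒜 r (n - d i))) (hmv i)
          simpa using this
        · intro e _ he
          refine DirectSum.decompose_of_mem_ne ℳ
            (SetLike.GradedSMul.smul_mem (A := 𝒜) (B := ℳ) (SetLike.coe_mem (DirectSum.decompose 𝒜 r e)) (hmv i)) ?_
          simp only [vadd_eq_add]
          omega
        · intro he
          simp [DFinsupp.notMem_support_iff.1 he]
      have h : ∑ i, σ x i • mv i = x := by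
        simpa [Fintype.linearCombination_apply] using LinearMap.congr_fun hσ x
      calc x = (DirectSum.decompose ℳ (∑ i, σ x i • mv i) n : M) := by
            rw [h, DirectSum.decompose_of_mem_same ℳ hx]
        _ = _ := by
            rw [DirectSum.decompose_sum, DFinsupp.finset_sum_apply, AddSubmonoidClass.coe_finset_sum]
            exact Finset.sum_congr rfl fun i _ => hterm _ _
    refine ⟨fun n x hx h => ?_, fun n g hg h => ?_⟩
    · rw [hc n x hx]
      refine Finset.sum_eq_zero fun i _ => ?_
      rw [hsep (n - d i) (c n x i) (SetLike.coe_mem _) (fun m => (V m).isHomogeneous _ (hmem m x (h m) i)), zero_smul]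
    · have hd : ∀ i, ∀ m, c n (g (m + 1)) i - c n (g m) i ∈ (V m).toIdeal := fun i m => by
        have := (V m).isHomogeneous (n - d i) (hmem m _ (h m) i)
        simpa [c, map_sub, DirectSum.decompose_sub] using this
      choose s hs hs' using fun i => hcpl (n - d i) (fun m => c n (g m) i) (fun m => SetLike.coe_mem _) (hd i)
      refine ⟨∑ i, s i • mv i, sum_mem fun i _ => ?_, fun m => ?_⟩
      · have := SetLike.GradedSMul.smul_mem (A := 𝒜) (B := ℳ) (hs i) (hmv i)
        simpa using this
      · conv => arg 2; rw [hc n (g m) (hg m), ← Finset.sum_sub_distrib]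
        refine Submodule.sum_mem _ fun i _ => ?_
        rw [← sub_smul]
        exact Submodule.smul_mem_smul (hs' i m) Submodule.mem_top

end Groth.Agent.S16422
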