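import Groth.Statements.S16444
import Groth.Agent.Hensel.EssentiallyEtale
import Groth.Agent.Hensel.FiniteEtaleLocal
import Groth.Agent.Hensel.Local

set_option backward.isDefEq.respectTransparency false

set_option autoImplicit false
universe u
open scoped TensorProduct
open Hensel

namespace Groth.Agent.S16444

open IsLocalRing in
/-- Let A be a complete Noetherian local ring and R → A a local homomorphism from a henselian Noetherian
local ring R inducing a bijection on residue fields. Then every local ring E which is an essentially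
etale local A-algebra with local structure map is A-isomorphic to A ⊗_R S for some local ring S
which is a finite etale R-algebra (its residue field is then that of E). (The published statement
takes R to be a coefficient ring of A, that is a field or an image of a complete p-ring with the
same residue field; its proof uses only that R is henselian with the same residue field as A, which
is the hypothesis made here.) -/
theorem result
    (R A E : Type u) [CommRing R] [HenselianLocalRing R] [IsNoetherianRing R]
    [CommRing A] [IsLocalRing A] [IsNoetherianRing A] [IsAdicComplete (maximalIdeal A) A]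
    [Algebra R A] [IsLocalHom (algebraMap R A)]
    (hres : Function.Bijective (ResidueField.map (algebraMap R A)))
    [CommRing E] [IsLocalRing E] [Algebra A E] [IsLocalHom (algebraMap A E)]
    (hE : EGA4loc.IsEssentiallyEtale A E) :
    ∃ (S : Type u) (_ : CommRing S) (_ : IsLocalRing S) (_ : Algebra R S),
      Module.Finite R S ∧ Algebra.Etale R S ∧ Nonempty (E ≃ₐ[A] A ⊗[R] S) := by
  obtain ⟨hunr, hess⟩ := Groth.Agent.Hensel.formallyUnramified_of_isEssentiallyEtale hE
  have : HenselianLocalRing A :=
    (Groth.Agent.Hensel.henselianLocalRing_iff_henselianRing (R := A)).2 inferInstance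
  let eRA : ResidueField R ≃+* ResidueField A := RingEquiv.ofBijective _ hres
  letI : Algebra (ResidueField R) (ResidueField E) :=
    ((algebraMap (ResidueField A) (ResidueField E)).comp (ResidueField.map (algebraMap R A))).toAlgebra
  have hcomm : RingHom.comp (algebraMap (ResidueField R) (ResidueField E)) eRA.symm.toRingHom =
      (RingEquiv.refl (ResidueField E)).toRingHom.comp (algebraMap (ResidueField A) (ResidueField E)) := by
    ext x
    show algebraMap (ResidueField A) (ResidueField E) (eRA (eRA.symm x)) = _
    rw [eRA.apply_symm_apply]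
    rfl
  have : Algebra.IsSeparable (ResidueField R) (ResidueField E) :=
    Algebra.IsSeparable.of_equiv_equiv eRA.symm (RingEquiv.refl _) hcomm
  have : Module.Finite (ResidueField R) (ResidueField E) :=
    Module.Finite.of_equiv_equiv eRA.symm (RingEquiv.refl _) hcomm
  obtain ⟨S, _, _, _, _, hfin, het, ⟨eS⟩⟩ :=
    Groth.Agent.Hensel.exists_finite_etale_isLocalRing R (ResidueField E)
  refine ⟨S, inferInstance, inferInstance, inferInstance, hfin, het, ?_⟩
  letI : Algebra R (ResidueField E) := ((algebraMap (ResidueField R) (ResidueField E)).comp (residue R)).toAlgebra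
  have : IsScalarTower R A (ResidueField E) := IsScalarTower.of_algebraMap_eq fun r => rfl
  let β : S →ₐ[R] ResidueField E :=
    { toRingHom := eS.toRingEquiv.toRingHom.comp (residue S)
      commutes' := fun r => eS.commutes (residue R r) }
  let ψ : A ⊗[R] S →ₐ[A] ResidueField E :=
    Algebra.TensorProduct.lift (Algebra.ofId A (ResidueField E)) β fun _ _ => Commute.all _ _
  have hβ : Function.Surjective β := eS.surjective.comp residue_surjective
  have hψ : Function.Surjective ψ := fun y => by
    obtain ⟨s, rfl⟩ := hβ y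
    exact ⟨1 ⊗ₜ s, by simp [ψ]⟩
  have hdec : ∀ t : A ⊗[R] S, ∃ s : S,
      t - 1 ⊗ₜ s ∈ (maximalIdeal A).map (algebraMap A (A ⊗[R] S)) := fun t => by
    induction t using TensorProduct.induction_on with
    | zero => exact ⟨0, by simp⟩
    | add x y hx hy =>
      obtain ⟨a, ha⟩ := hx
      obtain ⟨b, hb⟩ := hy
      exact ⟨a + b, by rw [TensorProduct.tmul_add, add_sub_add_comm]; exact add_mem ha hb⟩
    | tmul a s =>
      obtain ⟨r, hr⟩ := hres.2 (residue A a)
      obtain ⟨r, rfl⟩ := residue_surjective r
      refine ⟨r • s, ?_⟩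
      rw [TensorProduct.tmul_smul, TensorProduct.smul_tmul', ← TensorProduct.sub_tmul]
      have hm : a - r • (1 : A) ∈ maximalIdeal A := by
        rw [← residue_eq_zero_iff, map_sub, ← hr, Algebra.smul_def, mul_one]
        exact sub_self _
      rw [show (a - r • (1 : A)) ⊗ₜ[R] s = algebraMap A (A ⊗[R] S) (a - r • (1 : A)) * ((1 : A) ⊗ₜ s) by simp]
      exact Ideal.mul_mem_right _ _ (Ideal.mem_map_of_mem _ hm)
  have hle : (maximalIdeal A).map (algebraMap A (A ⊗[R] S)) ≤ RingHom.ker ψ := by
    rw [Ideal.map_le_iff_le_comap]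
    intro a ha
    rw [Ideal.mem_comap, RingHom.mem_ker, AlgHom.commutes, IsScalarTower.algebraMap_apply A E (ResidueField E)]
    exact (residue_eq_zero_iff _).2 (by rw [← Groth.Agent.Hensel.map_maximalIdeal_of_isEssentiallyEtale hE]; exact Ideal.mem_map_of_mem _ ha)
  have hmax : (RingHom.ker ψ).IsMaximal := RingHom.ker_isMaximal_of_surjective _ hψ
  have hS : (maximalIdeal R).map (algebraMap R S) = maximalIdeal S :=
    Algebra.FormallyUnramified.map_maximalIdeal
  have hloc : IsLocalRing (A ⊗[R] S) := IsLocalRing.of_unique_max_ideal ⟨_, hmax, fun M hM => by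
    refine (hmax.eq_of_le hM.ne_top fun t ht => ?_).symm
    have hmM : (maximalIdeal A).map (algebraMap A (A ⊗[R] S)) ≤ M := Ideal.map_le_iff_le_comap.2
      (IsLocalRing.eq_maximalIdeal (Ideal.isMaximal_comap_of_isIntegral_of_isMaximal M)).ge
    obtain ⟨s, hs⟩ := hdec t
    have hs0 : β s = 0 := by
      have := hle hs
      rw [RingHom.mem_ker, map_sub, RingHom.mem_ker.1 ht, zero_sub, neg_eq_zero] at this
      simpa [ψ] using this
    have hsm : s ∈ maximalIdeal S := (residue_eq_zero_iff s).1 (eS.injective (hs0.trans (map_zero eS).symm))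
    rw [← hS] at hsm
    have h1 : (1 : A) ⊗ₜ[R] s ∈ M := by
      refine hmM ?_
      have h2 : Algebra.TensorProduct.includeRight s ∈
          ((maximalIdeal R).map (algebraMap R S)).map (Algebra.TensorProduct.includeRight : S →ₐ[R] A ⊗[R] S) :=
        Ideal.mem_map_of_mem _ hsm
      have h3 : (Algebra.TensorProduct.includeRight : S →ₐ[R] A ⊗[R] S).toRingHom.comp (algebraMap R S) =
          (algebraMap A (A ⊗[R] S)).comp (algebraMap R A) := by
        rw [AlgHom.toRingHom_eq_coe, AlgHom.comp_algebraMap, ← IsScalarTower.algebraMap_eq]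
      have h4 := h3 ▸ (Ideal.map_map (I := maximalIdeal R) (algebraMap R S)
        (Algebra.TensorProduct.includeRight : S →ₐ[R] A ⊗[R] S).toRingHom)
      refine Ideal.map_mono ?_ ((Ideal.map_map _ _).symm.le (h4.le h2))
      exact Ideal.map_le_iff_le_comap.2 fun x hx => map_nonunit (algebraMap R A) x hx
    simpa using add_mem (hmM hs) h1⟩
  have hker : RingHom.ker ψ = maximalIdeal (A ⊗[R] S) := IsLocalRing.eq_maximalIdeal hmax
  have : Module.Finite A (A ⊗[R] S) := inferInstance
  have : Algebra.Etale A (A ⊗[R] S) := inferInstance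
  have : HenselianLocalRing (A ⊗[R] S) := Groth.Agent.Hensel.henselianLocalRing_of_isIntegral (R := A) _
  have : IsLocalHom ψ.toRingHom := .of_surjective _ hψ
  let θ : ResidueField (A ⊗[R] S) ≃+* ResidueField E := RingEquiv.ofBijective
    (IsLocalRing.ResidueField.lift ψ.toRingHom) ⟨RingHom.injective _, fun y => by
      obtain ⟨t, rfl⟩ := hψ y
      exact ⟨residue _ t, rfl⟩⟩
  obtain ⟨g, hg⟩ := Groth.Agent.Hensel.exists_lift_of_isEssentiallyEtale hE θ.symm.toRingHom fun a => by
    refine θ.injective ((θ.apply_symm_apply _).trans ?_)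
    show _ = ψ (algebraMap A _ a)
    rw [AlgHom.commutes]
    rfl
  have hgψ : ∀ x, ψ (g x) = residue E x := fun x =>
    (congrArg θ (hg x)).trans (θ.apply_symm_apply _)
  have hsurj : Function.Surjective g := by
    have key : (⊤ : Submodule A (A ⊗[R] S)) ≤ LinearMap.range g.toLinearMap ⊔
        (maximalIdeal A) • (⊤ : Submodule A (A ⊗[R] S)) := fun t _ => by
      obtain ⟨x, hx⟩ := residue_surjective (R := E) (ψ t)
      have h1 : t - g x ∈ maximalIdeal (A ⊗[R] S) := by
        rw [← hker, RingHom.mem_ker, map_sub, hgψ, hx, sub_self]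
      obtain ⟨_, _⟩ := (⟨inferInstance, inferInstance⟩ :
        Algebra.FormallyUnramified A (A ⊗[R] S) ∧ Algebra.EssFiniteType A (A ⊗[R] S))
      have : IsLocalHom (algebraMap A (A ⊗[R] S)) := ((local_hom_TFAE _).out 2 0 rfl rfl).mp (hle.trans hker.le)
      rw [← Algebra.FormallyUnramified.map_maximalIdeal (R := A)] at h1
      rw [Ideal.smul_top_eq_map]
      exact Submodule.mem_sup.2 ⟨g x, ⟨x, rfl⟩, t - g x, h1, add_sub_cancel _ _⟩
    intro t
    have := Submodule.le_of_le_smul_of_le_jacobson_bot Module.Finite.fg_top
      (jacobson_eq_maximalIdeal (R := A) ⊥ bot_ne_top).ge key (Submodule.mem_top (x := t))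
    exact this
  obtain ⟨C, _, _, q, _, hC, -, ⟨e⟩⟩ := hE
  let g0 : Localization.AtPrime q →ₐ[A] A ⊗[R] S := g.comp e.symm.toAlgHom
  letI : Algebra (Localization.AtPrime q) (A ⊗[R] S) := g0.toRingHom.toAlgebra
  letI : Algebra C (A ⊗[R] S) := (g0.toRingHom.comp (algebraMap C _)).toAlgebra
  have : IsScalarTower C (Localization.AtPrime q) (A ⊗[R] S) := IsScalarTower.of_algebraMap_eq fun _ => rfl
  have : IsScalarTower A C (A ⊗[R] S) := IsScalarTower.of_algebraMap_eq fun a => by
    show _ = g0 (algebraMap C _ (algebraMap A C a))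
    rw [← IsScalarTower.algebraMap_apply, AlgHom.commutes]
  have : Algebra.Etale C (A ⊗[R] S) := Algebra.Etale.of_restrictScalars A C _
  have : Module.Flat (Localization.AtPrime q) (A ⊗[R] S) :=
    (Module.flat_iff_of_isLocalization (Localization.AtPrime q) q.primeCompl (A ⊗[R] S)).2 inferInstance
  have hg0 : Function.Surjective g0 := hsurj.comp e.symm.surjective
  have : IsLocalHom (algebraMap (Localization.AtPrime q) (A ⊗[R] S)) := .of_surjective _ hg0
  have : Module.FaithfullyFlat (Localization.AtPrime q) (A ⊗[R] S) := Module.FaithfullyFlat.of_flat_of_isLocalHom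
  have hinj0 : Function.Injective g0 := FaithfulSMul.algebraMap_injective (Localization.AtPrime q) (A ⊗[R] S)
  have hinj : Function.Injective g := fun x y hxy => e.injective (hinj0 (by simpa [g0] using hxy))
  exact ⟨AlgEquiv.ofBijective g ⟨hinj, hsurj⟩⟩

end Groth.Agent.S16444
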