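import Groth.Statements.S16452
import Mathlib
import Groth.Agent.AdicGr.Basic

set_option autoImplicit false
universe u
open CAlg

namespace Groth.Agent.S16452

/-- Let R → S be formally étale and J an ideal of S such that the composite R → S → S/J is surjective;
let I ⊆ R be its kernel, the preimage of J in R. Then the homomorphism of associated graded rings ⊕ₙ
Iⁿ/Iⁿ⁺¹ → ⊕ₙ Jⁿ/Jⁿ⁺¹ induced by R → S (which carries I into J) is bijective. -/
theorem result (R : Type u) [CommRing R] (S : Type u)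
    [CommRing S] [Algebra R S] [Algebra.FormallyEtale R S] (J : Ideal S)
    (hJ : Function.Surjective (algebraMap R (S ⧸ J))) :
    Function.Bijective (AssocGr.map (AssocGr.IsFiltHom.adic
      (Ideal.map_comap_le : (J.comap (algebraMap R S)).map (algebraMap R S) ≤ J))) := by
  classical
  let I := J.comap (algebraMap R S)
  have hbar : Function.Bijective (Ideal.quotientMap J (algebraMap R S) (le_refl I)) := by
    refine ⟨Ideal.quotientMap_injective, fun z => ?_⟩
    obtain ⟨r, hr⟩ := hJ z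
    exact ⟨Ideal.Quotient.mk I r, hr⟩
  let e : (R ⧸ I) ≃ₐ[R] (S ⧸ J) := AlgEquiv.ofRingEquiv (f := RingEquiv.ofBijective _ hbar) fun _ => rfl
  have hsec : ∀ n : ℕ, ∃ g : S →ₐ[R] R ⧸ I ^ (n + 1), ∀ s, s ∈ J → g s ∈ I.map (Ideal.Quotient.mk (I ^ (n + 1))) := by
    intro n
    let q : (R ⧸ I ^ (n + 1)) →ₐ[R] (R ⧸ I) := Ideal.Quotient.factorₐ R (Ideal.pow_le_self (Nat.succ_ne_zero n))
    have hq : Function.Surjective q := Ideal.Quotient.factor_surjective (Ideal.pow_le_self (Nat.succ_ne_zero n))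
    have hker : RingHom.ker q = I.map (Ideal.Quotient.mk (I ^ (n + 1))) := by
      refine Ideal.ext fun z => ?_
      obtain ⟨r, rfl⟩ := Ideal.Quotient.mk_surjective z
      show Ideal.Quotient.mk I r = 0 ↔ _
      rw [Ideal.Quotient.eq_zero_iff_mem, Ideal.mem_quotient_iff_mem (Ideal.pow_le_self (Nat.succ_ne_zero n))]
    have hnil : IsNilpotent (RingHom.ker q) := ⟨n + 1, by rw [hker, ← Ideal.map_pow, Ideal.map_quotient_self, Ideal.zero_eq_bot]⟩
    refine ⟨Algebra.FormallySmooth.liftOfSurjective (e.symm.toAlgHom.comp (Ideal.Quotient.mkₐ R J)) q hq hnil, fun s hs => ?_⟩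
    rw [← hker, RingHom.mem_ker, ← AlgHom.comp_apply, Algebra.FormallySmooth.comp_liftOfSurjective]
    show e.symm (Ideal.Quotient.mk J s) = 0
    rw [Ideal.Quotient.eq_zero_iff_mem.2 hs, map_zero]
  choose g hg using hsec
  have hpow : ∀ n m s, s ∈ J ^ m → g n s ∈ (I ^ m).map (Ideal.Quotient.mk (I ^ (n + 1))) := by
    intro n m s hs
    rw [Ideal.map_pow]
    have h := Ideal.mem_map_of_mem (g n) hs
    rw [Ideal.map_pow] at h
    have hle : J.map (g n) ≤ I.map (Ideal.Quotient.mk (I ^ (n + 1))) := by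
      rw [Ideal.map_le_iff_le_comap]
      exact fun x hx => hg n x hx
    exact Ideal.pow_right_mono hle m h
  constructor
  · refine Groth.Agent.AdicGr.injective_map _ fun n a _ ha => ?_
    have h1 := hpow n (n + 1) _ ha
    rw [Ideal.map_quotient_self, Ideal.mem_bot, AlgHom.commutes] at h1
    exact Ideal.Quotient.eq_zero_iff_mem.1 h1
  · refine Groth.Agent.AdicGr.surjective_map _ fun n b hb => ?_
    obtain ⟨a, ha, hab⟩ := (Ideal.mem_map_iff_of_surjective _ Ideal.Quotient.mk_surjective).1 (hpow n n b hb)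
    refine ⟨a, ha, ?_⟩
    let φn : (R ⧸ I ^ (n + 1)) →ₐ[R] (S ⧸ J ^ (n + 1)) :=
      Ideal.Quotient.liftₐ (I ^ (n + 1)) (Algebra.ofId R _) fun r hr => by
        show Ideal.Quotient.mk (J ^ (n + 1)) (algebraMap R S r) = 0
        rw [Ideal.Quotient.eq_zero_iff_mem]
        exact Ideal.le_comap_pow (algebraMap R S) (n + 1) hr
    have huniq : φn.comp (g n) = Ideal.Quotient.mkₐ R (J ^ (n + 1)) := by
      refine Algebra.FormallyUnramified.ext (J.map (Ideal.Quotient.mk (J ^ (n + 1))))
        ⟨n + 1, by rw [← Ideal.map_pow, Ideal.map_quotient_self, Ideal.zero_eq_bot]⟩ fun s => ?_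
      rw [Ideal.Quotient.eq, AlgHom.comp_apply]
      obtain ⟨r, hr⟩ := hJ (Ideal.Quotient.mk J s)
      have hmem : algebraMap R S r - s ∈ J := by
        rw [← Ideal.Quotient.eq_zero_iff_mem, map_sub, sub_eq_zero]
        exact hr
      have e1 : φn (g n (algebraMap R S r)) = Ideal.Quotient.mk (J ^ (n + 1)) (algebraMap R S r) := by
        rw [AlgHom.commutes, AlgHom.commutes]; rfl
      have e2 : φn (g n s) - Ideal.Quotient.mk (J ^ (n + 1)) s =
          - φn (g n (algebraMap R S r - s)) + Ideal.Quotient.mk (J ^ (n + 1)) (algebraMap R S r - s) := by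
        rw [map_sub, map_sub, map_sub, e1]; ring
      rw [Ideal.Quotient.mkₐ_eq_mk, e2]
      refine add_mem (neg_mem ?_) (Ideal.mem_map_of_mem _ hmem)
      obtain ⟨x, hx, hxe⟩ := (Ideal.mem_map_iff_of_surjective _ Ideal.Quotient.mk_surjective).1 (hg n _ hmem)
      rw [← hxe]
      exact Ideal.mem_map_of_mem (Ideal.Quotient.mk (J ^ (n + 1))) (show algebraMap R S x ∈ J from hx)
    have h2 := AlgHom.congr_fun huniq b
    rw [AlgHom.comp_apply, ← hab] at h2
    exact Ideal.Quotient.eq.1 h2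

end Groth.Agent.S16452
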