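import Groth.Statements.S16454
import Mathlib
import Groth.Agent.FlatCrit.Basic

set_option autoImplicit false
set_option backward.isDefEq.respectTransparency false
universe u
open TensorProduct
open EGA43

namespace Groth.Agent.S16454

/-- Let A be a commutative ring, I a nilpotent ideal of A and M an A-module, and form the associated
graded ring G = ⊕ₙ Iⁿ/Iⁿ⁺¹ and the associated graded G-module gr_I(M) = ⊕ₙ IⁿM/Iⁿ⁺¹M. Assume that
M/IM is flat over A/I and that the canonical homomorphism (M/IM) ⊗ G → gr_I(M), [x] ⊗ [a] ↦ [a·x],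
is injective: degree by degree, whenever elements a_i ∈ Iⁿ and x_i ∈ M satisfy Σ_i [a_i]·[x_i] = 0
in gr_I(M) (that is Σ a_i x_i ∈ Iⁿ⁺¹M), the element Σ_i [a_i] ⊗ [x_i] of (Iⁿ/Iⁿ⁺¹) ⊗ (M/IM) is zero.
Then M is a flat A-module. (The published lemma is stated for any finite decreasing multiplicative
filtration A = J₀ ⊇ J₁ ⊇ … ⊇ J_N₊₁ = 0 of A with M filtered by the submodules JₙM; this row is its
case Jₙ = Iⁿ.) -/
theorem result (A : Type u) [CommRing A] (I : Ideal A)
    (hI : IsNilpotent I) (M : Type u) [AddCommGroup M] [Module A M]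
    (hflat : Module.Flat (A ⧸ I) (M ⧸ (I • (⊤ : Submodule A M))))
    (hinj : ∀ (n k : ℕ) (a : Fin k → ↥((FiltBl.IdealFiltration.adic I).F n))
      (x : Fin k → ↥((Rees.powFilt I M).N 0)),
      (∑ i, (AssocGr.inDeg (FiltBl.IdealFiltration.adic I) n (a i) :
          AssocGr.GrRing (FiltBl.IdealFiltration.adic I)) •
        (AssocGr.inDegM (Rees.powFilt I M) 0 (x i) : AssocGr.GrMod (Rees.powFilt I M))) = 0 →
      (∑ i, (AssocGr.inDeg (FiltBl.IdealFiltration.adic I) n (a i)) ⊗ₜ[A]
          (Submodule.Quotient.mk (x i : M)) :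
        ↥(AssocGr.gr (FiltBl.IdealFiltration.adic I) n) ⊗[A] (M ⧸ (I • (⊤ : Submodule A M)))) = 0) :
    Module.Flat A M := by
  haveI : Module.Flat (A ⧸ I) ((A ⧸ I) ⊗[A] M) :=
    Module.Flat.of_linearEquiv ((TensorProduct.quotTensorEquivQuotSMul M I).extendScalarsOfSurjective
      (Ideal.Quotient.mk_surjective (I := I)))
  obtain ⟨N, hN⟩ := hI
  have key : ∀ d n : ℕ, N ≤ n + d → Function.Injective ((I ^ n).subtype.rTensor M) := by
    intro d
    induction d with
    | zero =>
      intro n hn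
      have h0 : I ^ n = ⊥ := le_bot_iff.1 ((Ideal.pow_le_pow_right hn).trans_eq hN)
      haveI : Subsingleton ↥(I ^ n) := by rw [h0]; infer_instance
      exact Function.injective_of_subsingleton _
    | succ d ih =>
      intro n hn
      rw [injective_iff_map_eq_zero]
      intro z hz
      obtain ⟨k, s, rfl⟩ : ∃ (k : ℕ) (s : Fin k → ↥(I ^ n) × M), z = ∑ i, (s i).1 ⊗ₜ[A] (s i).2 := by
        obtain ⟨S, rfl⟩ := TensorProduct.exists_finset z
        refine ⟨S.card, fun i => (S.equivFin.symm i : ↥(I ^ n) × M), ?_⟩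
        rw [← Finset.sum_coe_sort]
        exact (Fintype.sum_equiv S.equivFin.symm _ _ fun i => rfl).symm
      have hM : ∑ i, ((s i).1 : A) • (s i).2 = 0 := by
        have := congrArg (TensorProduct.lid A M) hz
        simpa [map_sum] using this
      let x : Fin k → ↥((Rees.powFilt I M).N 0) := fun i => ⟨(s i).2, show (s i).2 ∈ I ^ 0 • (⊤ : Submodule A M) by simp [Ideal.one_eq_top]⟩
      have h1 := hinj n k (fun i => (s i).1) x (by
        simp only [AssocGr.inDeg_smul_inDegM]
        rw [← AddSubgroup.val_finset_sum, ← map_sum, ZeroMemClass.coe_eq_zero, AssocGr.inDegM_eq_zero_iff]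
        rw [show ((∑ i, _ : ↥((Rees.powFilt I M).N (n + 0))) : M) = ∑ i, ((s i).1 : A) • (s i).2 from
          AddSubmonoidClass.coe_finset_sum _ _, hM]
        exact zero_mem _)
      let g : ↥(I ^ n) →ₗ[A] ↥(AssocGr.gr (FiltBl.IdealFiltration.adic I) n) :=
        AssocGr.inDeg (FiltBl.IdealFiltration.adic I) n
      let mk' : M →ₗ[A] M ⧸ (I • (⊤ : Submodule A M)) := Submodule.mkQ _
      have hkill : ∀ w : M ⧸ (I • (⊤ : Submodule A M)), ∀ a ∈ I, a • w = 0 := fun w a ha => by
        obtain ⟨w, rfl⟩ := Submodule.mkQ_surjective _ w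
        exact (Submodule.Quotient.mk_eq_zero _).2 (Submodule.smul_mem_smul ha trivial)
      have h2 : g.rTensor M (∑ i, (s i).1 ⊗ₜ[A] (s i).2) = 0 := by
        have h3 : mk'.lTensor _ (g.rTensor M (∑ i, (s i).1 ⊗ₜ[A] (s i).2)) = 0 := by
          rw [← h1]
          simp [map_sum, g, mk', x]; rfl
        obtain ⟨y, hy⟩ := (_root_.lTensor_exact _ (f := (I • (⊤ : Submodule A M)).subtype) (g := mk')
          (LinearMap.exact_subtype_mkQ _) (Submodule.mkQ_surjective _) _).1 h3
        rw [← hy]
        clear hy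
        induction y using TensorProduct.induction_on with
        | zero => rw [map_zero]
        | add y y' hy hy' => rw [map_add, hy, hy', add_zero]
        | tmul γ w =>
          obtain ⟨b, rfl⟩ := AssocGr.inDeg_surjective _ n γ
          rw [LinearMap.lTensor_tmul, Submodule.subtype_apply]
          refine Submodule.smul_induction_on (show (w : M) ∈ I • (⊤ : Submodule A M) from w.2) (fun a ha m _ => ?_)
            (fun u v hu hv => by rw [TensorProduct.tmul_add, hu, hv, add_zero])
          rw [← TensorProduct.smul_tmul, ← map_smul, (AssocGr.inDeg_eq_zero_iff _ n _).2 ?_, TensorProduct.zero_tmul]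
          show (a • (b : A)) ∈ I ^ (n + 1)
          rw [pow_succ', smul_eq_mul]
          exact Ideal.mul_mem_mul ha b.2
      let ι' : ↥(I ^ (n + 1)) →ₗ[A] ↥(I ^ n) := Submodule.inclusion (Ideal.pow_le_pow_right (Nat.le_succ n))
      obtain ⟨y, hy⟩ := (_root_.rTensor_exact M (f := ι') (g := g) (fun b => by
          show AssocGr.inDeg (FiltBl.IdealFiltration.adic I) n b = 0 ↔ _
          rw [AssocGr.inDeg_eq_zero_iff]
          exact ⟨fun h => ⟨⟨b, h⟩, rfl⟩, fun ⟨c, hc⟩ => hc ▸ c.2⟩) (AssocGr.inDeg_surjective _ n) _).1 h2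
      rw [← hy] at hz ⊢
      rw [← LinearMap.comp_apply, ← LinearMap.rTensor_comp] at hz
      rw [ih (n + 1) (by omega) (hz.trans (map_zero _).symm), map_zero]
  have h1 := key N 1 (by omega)
  rw [pow_one] at h1
  exact Groth.Agent.FlatCrit.flat_of_isNilpotent ⟨N, hN⟩ ((LinearMap.lTensor_inj_iff_rTensor_inj _ _).2 h1)

end Groth.Agent.S16454
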