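import Groth.Statements.S16455
import Mathlib.RingTheory.Flat.Basic
-- import your own Groth.Agent.* helpers here

set_option autoImplicit false
universe u
open EGA4

namespace Groth.Agent.S16455

variable {A : Type u} [CommRing A] (I : Ideal A) (M : Type u) [AddCommGroup M] [Module A M]

lemma powFilt_N (n : ℕ) : (Rees.powFilt I M).N n = I ^ n • (⊤ : Submodule A M) := rfl

lemma mem_smul_top_iff (n : ℕ) (x : ↥(I ^ n • (⊤ : Submodule A M))) :
    x ∈ (I • (⊤ : Submodule A ↥(I ^ n • (⊤ : Submodule A M)))) ↔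
      (x : M) ∈ (Rees.powFilt I M).N (n + 1) := by
  have emap : (I • (⊤ : Submodule A ↥(I ^ n • (⊤ : Submodule A M)))).map (Submodule.subtype _) =
      I ^ (n + 1) • (⊤ : Submodule A M) := by
    rw [Submodule.map_smul'', Submodule.map_subtype_top, ← Submodule.mul_smul, ← pow_succ']
  rw [powFilt_N, ← emap, Submodule.mem_map]
  exact ⟨fun h => ⟨x, h, rfl⟩, fun ⟨y, hy, e⟩ => Subtype.ext e ▸ hy⟩

/-- The `n`th piece `IⁿM/Iⁿ⁺¹M`. -/
abbrev Piece (n : ℕ) : Type u :=
  ↥(I ^ n • (⊤ : Submodule A M)) ⧸ (I • (⊤ : Submodule A ↥(I ^ n • (⊤ : Submodule A M))))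

/-- `IⁿM → gr(M)`. -/
noncomputable def toGr (n : ℕ) :
    ↥(I ^ n • (⊤ : Submodule A M)) →ₗ[A] AssocGr.GrMod (Rees.powFilt I M) where
  toFun x := (AssocGr.inDegM (Rees.powFilt I M) n x : AssocGr.GrMod (Rees.powFilt I M))
  map_add' x y := (congrArg Subtype.val (map_add (AssocGr.inDegM (Rees.powFilt I M) n) x y)).trans rfl
  map_smul' a x := AssocGr.coe_inDegM_smul (Rees.powFilt I M) n a x

/-- `IⁿM/Iⁿ⁺¹M → gr(M)`. -/
noncomputable def ofPiece (n : ℕ) : Piece I M n →ₗ[A] AssocGr.GrMod (Rees.powFilt I M) :=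
  Submodule.liftQ _ (toGr I M n) fun x hx => by
    rw [LinearMap.mem_ker]
    exact ZeroMemClass.coe_eq_zero.2
      ((AssocGr.inDegM_eq_zero_iff (Rees.powFilt I M) n x).2 ((mem_smul_top_iff I M n x).1 hx))

/-- `⊕ IⁿM/Iⁿ⁺¹M → gr(M)`. -/
noncomputable def ofSum : DirectSum ℕ (Piece I M) →ₗ[A] AssocGr.GrMod (Rees.powFilt I M) :=
  DirectSum.toModule A ℕ _ (ofPiece I M)

lemma ofSum_surjective : Function.Surjective (ofSum I M) := by
  intro g
  obtain ⟨y, rfl⟩ := AssocGr.mkGM_surjective (Rees.powFilt I M) g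
  show _ ∈ LinearMap.range (ofSum I M)
  rw [← AssocGr.sum_termM (Rees.powFilt I M) y, map_sum]
  refine Submodule.sum_mem _ fun n _ => ⟨DirectSum.lof A ℕ (Piece I M) n
    (Submodule.Quotient.mk ⟨AssocGr.ReesM.coeff _ y n, AssocGr.ReesM.coeff_mem _ y n⟩), ?_⟩
  rw [ofSum, DirectSum.toModule_lof]
  rfl

lemma ofSum_injective : Function.Injective (ofSum I M) := by
  classical
  rw [injective_iff_map_eq_zero]
  intro x hx
  have hrep : ∀ n, ∃ v : ↥(I ^ n • (⊤ : Submodule A M)), (Submodule.Quotient.mk v : Piece I M n) = x n :=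
    fun n => Submodule.Quotient.mk_surjective _ _
  choose v hv using hrep
  have h1 : ofSum I M x = AssocGr.mkGM (Rees.powFilt I M)
      (∑ n ∈ DFinsupp.support x, AssocGr.monomM (Rees.powFilt I M) n (v n)) := by
    conv_lhs => rw [← DirectSum.sum_support_of x]
    rw [map_sum, map_sum]
    refine Finset.sum_congr rfl fun n _ => ?_
    rw [← DirectSum.lof_eq_of A, ofSum, DirectSum.toModule_lof, ← hv n]
    rfl
  rw [h1, AssocGr.mkGM_eq_zero_iff, AssocGr.mem_succMod_iff] at hx
  refine DFinsupp.ext fun n => ?_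
  rw [DFinsupp.zero_apply]
  by_cases hn : n ∈ DFinsupp.support x
  · have h2 := hx n
    rw [← AssocGr.ReesM.coeffHom_apply, map_sum] at h2
    simp only [AssocGr.ReesM.coeffHom_apply, AssocGr.ReesM.coeff_monomM] at h2
    rw [Finset.sum_ite_eq' (DFinsupp.support x) n fun k => ((v k : M)), if_pos hn] at h2
    rw [← hv n]
    exact (Submodule.Quotient.mk_eq_zero _).2 ((mem_smul_top_iff I M n _).2 h2)
  · exact DFinsupp.notMem_support_iff.1 hn

/-- For a commutative ring A, an ideal I of A and an A-module M, the following are equivalent: every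
quotient IⁿM/Iⁿ⁺¹M (n ≥ 0) is a flat A/I-module; the associated graded module gr_I(M) = ⊕ₙ
IⁿM/Iⁿ⁺¹M, as one module over A/I, is flat. Either condition says that M is normally flat along I.
(The source defines normal flatness for a coherent module on a locally Noetherian scheme through the
second condition and notes it amounts to the first; the equivalence holds for every ring and
module.) -/
theorem result (A : Type u) [CommRing A] (I : Ideal A) (M : Type u)
    [AddCommGroup M] [Module A M] :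
    EGA4.IsNormallyFlat I M ↔ Module.Flat (A ⧸ I) (AssocGr.GrMod (Rees.powFilt I M)) := by
  classical
  let e : DirectSum ℕ (Piece I M) ≃ₗ[A ⧸ I] AssocGr.GrMod (Rees.powFilt I M) :=
    (LinearEquiv.ofBijective (ofSum I M) ⟨ofSum_injective I M, ofSum_surjective I M⟩)
      |>.extendScalarsOfSurjective (Ideal.Quotient.mk_surjective (I := I))
  constructor
  · intro h
    haveI : ∀ n, Module.Flat (A ⧸ I) (Piece I M n) := h
    exact Module.Flat.of_linearEquiv e.symm
  · intro h n
    haveI := Module.Flat.of_linearEquiv e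
    exact Module.Flat.of_retract (DirectSum.lof (A ⧸ I) ℕ (Piece I M) n)
      (DirectSum.component (A ⧸ I) ℕ (Piece I M) n)
      (LinearMap.ext fun z => DirectSum.component.lof_self (A ⧸ I) (M := Piece I M) n z)

end Groth.Agent.S16455
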