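import Groth.Statements.S16462
import Groth.Agent.CompDerived.EdgeOut
import Groth.Agent.CohFinite.AffinePush

set_option autoImplicit false
universe u
open Coherent

namespace Groth.Agent.S16462

open CategoryTheory AlgebraicGeometry AlgebraicGeometry.Scheme.Modules in
/-- Let f : X → Y be a quasi-compact quasi-separated morphism of schemes, g : Y → Z an affine morphism
and M a quasi-coherent O_X-module. Then for every p ≥ 0 the canonical edge morphism R^p (g ∘ f)_* M
→ g_*(R^p f_* M) is an isomorphism (higher direct images as right derived functors of direct image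
on O-modules). (The published statement assumes f separated; this row assumes only f
quasi-separated.) -/
theorem result {X Y Z : Scheme.{u}} (f : X ⟶ Y) (g : Y ⟶ Z)
    [QuasiCompact f] [QuasiSeparated f] [IsAffineHom g] [HasInjectiveResolutions X.Modules]
    (M : X.Modules) [Coh.IsQCoh M] (p : ℕ) :
    IsIso (CohBC.lerayEdgeOut f g p M) := by
  haveI : CategoryTheory.HasInjectiveResolutions Y.Modules := inferInstance
  haveI := Groth.Agent.CompDerived.isIso_edgeOut (pushforward g) (pushforward f)
    (fun J hJ k => by
      haveI : TopCat.Sheaf.IsFlasque (X := Y.toTopCat) (Coh.toAb ((Coh.push f).obj J)) :=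
        { epi := fun {V W} i =>
            haveI := @Groth.Agent.FlasqueAcyclic.isFlasque_toAb X J hJ
            TopCat.Presheaf.IsFlasque.epi (F := (Coh.toAb J).obj) ((TopologicalSpace.Opens.map f.base).op.map i) }
      obtain ⟨e⟩ := Groth.Agent.FlasqueAcyclic.nonempty_toAb_Rpush_iso g ((Coh.push f).obj J) (k + 1)
      exact Groth.Agent.RPushQCoh.isZero_of_isZero_toAb
        ((Groth.Agent.FlasqueAcyclic.isZero_rightDerived_push_of_isFlasque g.base _ k).of_iso e))
    p M (fun j k => Groth.Agent.CohFinite.isZero_Rpush_affine g ((Coh.Rpush f j).obj M)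
      (Groth.Agent.RPushQCoh.isQCoh_Rpush f M ‹_› j) k)
  exact IsIso.comp_isIso' inferInstance this

end Groth.Agent.S16462
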