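import Groth.Statements.S16469
import Groth.Agent.CurveSub.Quot
-- import your own Groth.Agent.* helpers here

set_option autoImplicit false
universe u
open CategoryTheory CategoryTheory.Limits AlgebraicGeometry
open VBCurve

namespace Groth.Agent.S16469

/-- Let X be a smooth proper integral curve (integral, smooth and proper of dimension one) over an
algebraically closed field k, and let E, F be finite locally free O_X-modules of ranks r ≥ 1, s ≥ 1,
both slope-semistable (deg G · rank ≤ deg · rank G on finite locally free submodules G of positive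
rank; degree = χ − rank·χ(O_X)) and of the same slope μ: deg E · s = deg F · r. Then for every
homomorphism f : E → F the kernel and the cokernel of f, taken in the abelian category of
O_X-modules, are finite locally free of some ranks r₀ and s₀, have slope μ when nonzero (deg(ker f)
· r = deg E · r₀ and deg(coker f) · s = deg F · s₀) and are slope-semistable: deg G · r₀ ≤ deg(ker
f) · n for every finite locally free submodule G ⊂ ker f of rank n ≥ 1, and likewise for coker f
with s₀. In other words the semistable bundles of slope μ form an abelian subcategory, and the image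
of f is a sub-bundle of F. -/
theorem result (k : Type u) [Field k] [IsAlgClosed k] (X : Scheme.{u}) [X.Over (Spec (CommRingCat.of k))]
    [IsIntegral X] [IsProper (X ↘ Spec (CommRingCat.of k))] [Smooth (X ↘ Spec (CommRingCat.of k))]
    (hdim : topologicalKrullDim X = 1)
    (r s : ℕ) (hr : 0 < r) (hs : 0 < s) (E F : X.Modules)
    (hE : FlatMod.IsFinLocFreeOfRank r E) (hF : FlatMod.IsFinLocFreeOfRank s F)
    (hEss : ModFun.IsSlopeSemistable k X E r) (hFss : ModFun.IsSlopeSemistable k X F s)
    (hμ : Curv2.deg k X E r * (s : ℤ) = Curv2.deg k X F s * (r : ℤ)) (f : E ⟶ F) :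
    (∃ r₀ : ℕ, FlatMod.IsFinLocFreeOfRank r₀ (kernel f) ∧
        Curv2.deg k X (kernel f) r₀ * (r : ℤ) = Curv2.deg k X E r * (r₀ : ℤ) ∧
        ∀ (G : X.Modules) (n : ℕ) (j : G ⟶ kernel f), Mono j → 0 < n → FlatMod.IsFinLocFreeOfRank n G →
          Curv2.deg k X G n * (r₀ : ℤ) ≤ Curv2.deg k X (kernel f) r₀ * (n : ℤ)) ∧
      (∃ s₀ : ℕ, FlatMod.IsFinLocFreeOfRank s₀ (cokernel f) ∧
        Curv2.deg k X (cokernel f) s₀ * (s : ℤ) = Curv2.deg k X F s * (s₀ : ℤ) ∧
        ∀ (G : X.Modules) (n : ℕ) (j : G ⟶ cokernel f), Mono j → 0 < n → FlatMod.IsFinLocFreeOfRank n G →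
          Curv2.deg k X G n * (s₀ : ℤ) ≤ Curv2.deg k X (cokernel f) s₀ * (n : ℤ)) := by
  have := Groth.Agent.CurveDeg.isNoetherian_of_proper (k := k) (X := X)
  have hle : ∀ (G : X.Modules) (n : ℕ) (j : G ⟶ F), Mono j → FlatMod.IsFinLocFreeOfRank n G →
      Curv2.deg k X G n * (s : ℤ) ≤ Curv2.deg k X F s * (n : ℤ) := fun G n j hj hG => by
    rcases Nat.eq_zero_or_pos n with hn | hn
    · subst hn
      simp [Groth.Agent.CurveSub.deg_rank_zero (k := k) hdim hG]
    · exact hFss G n j hj hn hG
  obtain ⟨a, b, hK, hI, hab, hbs, hdeg, -, -⟩ := Groth.Agent.CurveSub.exists_image_data (k := k) hdim hE hF f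
  have hKle : Curv2.deg k X (kernel f) a * (r : ℤ) ≤ Curv2.deg k X E r * (a : ℤ) := by
    rcases Nat.eq_zero_or_pos a with ha | ha
    · subst ha
      simp [Groth.Agent.CurveSub.deg_rank_zero (k := k) hdim hK]
    · exact hEss _ a (kernel.ι f) inferInstance ha hK
  have hIle := hle _ b (Abelian.image.ι f) inferInstance hI
  have hab' : (a : ℤ) + b = r := by exact_mod_cast hab
  have hr' : (0 : ℤ) < r := by exact_mod_cast hr
  have hs' : (0 : ℤ) < s := by exact_mod_cast hs
  have hIeq : Curv2.deg k X (Abelian.image f) b * (s : ℤ) = Curv2.deg k X F s * (b : ℤ) := by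
    refine le_antisymm hIle (le_of_mul_le_mul_right ?_ hr')
    calc Curv2.deg k X F s * (b : ℤ) * r = (Curv2.deg k X E r * r - Curv2.deg k X E r * a) * s := by
          rw [mul_right_comm, ← hμ, ← hab']; ring
      _ ≤ (Curv2.deg k X E r * r - Curv2.deg k X (kernel f) a * r) * s :=
          mul_le_mul_of_nonneg_right (by linarith) hs'.le
      _ = Curv2.deg k X (Abelian.image f) b * s * r := by rw [hdeg]; ring
  have hKeq : Curv2.deg k X (kernel f) a * (r : ℤ) = Curv2.deg k X E r * (a : ℤ) := by
    apply mul_left_cancel₀ hs'.ne'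
    have e : ((a : ℤ) + b) * Curv2.deg k X E r * s = r * (Curv2.deg k X (kernel f) a + Curv2.deg k X (Abelian.image f) b) * s := by
      rw [hab', hdeg]
    have e2 : (r : ℤ) * (Curv2.deg k X (Abelian.image f) b * s) = b * (Curv2.deg k X E r * s) := by
      rw [hIeq, hμ]; ring
    linear_combination -e - e2
  refine ⟨⟨a, hK, hKeq, fun G n j hj hn hG => ?_⟩, ?_⟩
  · haveI := hj
    have h := hEss G n (j ≫ kernel.ι f) inferInstance hn hG
    refine le_of_mul_le_mul_right ?_ hr'
    calc Curv2.deg k X G n * (a : ℤ) * r = Curv2.deg k X G n * r * a := by ring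
      _ ≤ Curv2.deg k X E r * n * a := mul_le_mul_of_nonneg_right h (Int.natCast_nonneg a)
      _ = Curv2.deg k X (kernel f) a * n * r := by rw [mul_right_comm (Curv2.deg k X E r), ← hKeq]; ring
  · have hFc := Groth.Agent.CurveDeg.isCoh_of_rank hF
    have hQc : Coh.IsCoh (cokernel f) :=
      Groth.Agent.QCohBase.isCoh_cokernel f (Groth.Agent.CurveDeg.isCoh_of_rank hE).1 hFc
    have hQ := Groth.Agent.CurveSub.isFinLocFreeOfRank_quot (k := k) hdim hF (cokernel.π f) hQc (b := b) hI
      (fun G j hj hG => le_of_mul_le_mul_right ((hle G b j hj hG).trans_eq hIeq.symm) hs')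
    have hT := Groth.Agent.CurveSub.shortExact_kernel_of_epi (cokernel.π f)
    have hdQ := Groth.Agent.CurveDeg.deg_shortExact (k := k) _ hT hI hF hQ
    have hrk := Groth.Agent.CurveDeg.rank_add_of_shortExact hT hI hF hQ
    generalize Groth.Agent.CurveDeg.gRank (cokernel f) = c at hQ hdQ hrk
    have hrk' : (s : ℤ) = b + c := by exact_mod_cast hrk
    change Curv2.deg k X F s = Curv2.deg k X (Abelian.image f) b + Curv2.deg k X (cokernel f) c at hdQ
    have hQeq : Curv2.deg k X (cokernel f) c * (s : ℤ) = Curv2.deg k X F s * (c : ℤ) := by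
      linear_combination -(s : ℤ) * hdQ - hIeq + Curv2.deg k X F s * hrk'
    refine ⟨c, hQ, hQeq, fun G n j hj hn hG => ?_⟩
    haveI := hj
    let P := kernel (cokernel.π f ≫ cokernel.π j)
    let φ : P ⟶ G := Abelian.monoLift j (kernel.ι _ ≫ cokernel.π f)
      (by rw [Category.assoc]; exact kernel.condition _)
    have hφ : φ ≫ j = kernel.ι (cokernel.π f ≫ cokernel.π j) ≫ cokernel.π f := Abelian.monoLift_comp _ _ _
    haveI : Epi φ := by
      let l : pullback (cokernel.π f) j ⟶ P := kernel.lift _ (pullback.fst _ _) (by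
        rw [pullback.condition_assoc, cokernel.condition, comp_zero])
      have hl : l ≫ φ = pullback.snd (cokernel.π f) j := by
        rw [← cancel_mono j, Category.assoc, hφ, ← Category.assoc,
          show l ≫ kernel.ι _ = pullback.fst (cokernel.π f) j from kernel.lift_ι _ _ _, pullback.condition]
      exact epi_of_epi_fac hl
    have hPc : Coh.IsCoh P := Groth.Agent.QCohBase.isCoh_kernel _ hFc
      (Groth.Agent.QCohBase.isCoh_cokernel j (Groth.Agent.CurveDeg.isCoh_of_rank hG).1 hQc).1
    have hP := Groth.Agent.CurveSub.isFinLocFreeOfRank_sub (k := k) hdim hF hPc (kernel.ι _)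
    let α : kernel (cokernel.π f) ⟶ P := kernel.lift _ (kernel.ι _) (by simp)
    have hα : α ≫ kernel.ι (cokernel.π f ≫ cokernel.π j) = kernel.ι (cokernel.π f) := kernel.lift_ι _ _ _
    haveI : Mono α := mono_of_mono_fac hα
    let T := ShortComplex.mk α φ (by
      rw [← cancel_mono j, Category.assoc, hφ, ← Category.assoc, hα, kernel.condition, zero_comp])
    have hT' : T.ShortExact :=
      { exact := ShortComplex.exact_of_f_is_kernel _ (KernelFork.IsLimit.ofι' _ _ fun t ht =>
          ⟨kernel.lift _ (t ≫ kernel.ι (cokernel.π f ≫ cokernel.π j)) (by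
            rw [Category.assoc, ← hφ, reassoc_of% ht, zero_comp]), by
            rw [← cancel_mono (kernel.ι (cokernel.π f ≫ cokernel.π j))]
            change (_ ≫ α) ≫ _ = _
            rw [Category.assoc, hα, kernel.lift_ι]⟩)
        mono_f := inferInstanceAs (Mono α)
        epi_g := inferInstanceAs (Epi φ) }
    have hdP := Groth.Agent.CurveDeg.deg_shortExact (k := k) T hT' hI hP hG
    have hrP := Groth.Agent.CurveDeg.rank_add_of_shortExact hT' hI hP hG
    have h := hle P _ (kernel.ι _) inferInstance hP
    generalize Groth.Agent.CurveDeg.gRank P = p at hP hdP hrP h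
    have hrP' : (p : ℤ) = b + n := by exact_mod_cast hrP
    change Curv2.deg k X P p = Curv2.deg k X (Abelian.image f) b + Curv2.deg k X G n at hdP
    rw [hdP, hrP', add_mul, mul_add, hIeq] at h
    refine le_of_mul_le_mul_right ?_ hs'
    calc Curv2.deg k X G n * (c : ℤ) * s = Curv2.deg k X G n * s * c := by ring
      _ ≤ Curv2.deg k X F s * n * c := mul_le_mul_of_nonneg_right (by linarith) (Int.natCast_nonneg c)
      _ = Curv2.deg k X (cokernel f) c * n * s := by rw [mul_right_comm (Curv2.deg k X F s), ← hQeq]; ring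

end Groth.Agent.S16469
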