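import Groth.Statements.S16470
import Groth.Agent.CurveSub.Preimage
import Groth.Agent.CurveBound.MaxSlope
-- import your own Groth.Agent.* helpers here

set_option autoImplicit false
universe u
open CategoryTheory CategoryTheory.Limits AlgebraicGeometry
open VBCurve

namespace Groth.Agent.S16470

/-- Let X be a smooth proper integral curve (integral, smooth and proper of dimension one) over an
algebraically closed field k and E a finite locally free O_X-module of rank r ≥ 1 (degree = χ −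
rank·χ(O_X), slope = degree / rank). There is a finite locally free submodule E₁ ⊂ E (a monomorphism
of O_X-modules) of some rank r₁ ≥ 1, the destabilising sub-bundle, such that: every finite locally
free submodule F ⊂ E of rank r' ≥ 1 has slope at most that of E₁ (deg F · r₁ ≤ deg E₁ · r'); and the
maximal slope drops in the quotient, i.e. every finite locally free submodule G of rank r' ≥ 1 of
the cokernel E/E₁ has deg G · r₁ < deg E₁ · r'. Moreover a submodule with these two properties is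
unique: any two are the same subobject of E. (Such an E₁ is slope-semistable, every submodule of E₁
being a submodule of E; the published statement lists semistability of E₁ as a third property, which
is therefore omitted here.) -/
theorem result (k : Type u) [Field k] [IsAlgClosed k] (X : Scheme.{u}) [X.Over (Spec (CommRingCat.of k))]
    [IsIntegral X] [IsProper (X ↘ Spec (CommRingCat.of k))] [Smooth (X ↘ Spec (CommRingCat.of k))]
    (hdim : topologicalKrullDim X = 1)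
    (r : ℕ) (hr : 0 < r) (E : X.Modules) (hE : FlatMod.IsFinLocFreeOfRank r E) :
    (∃ (E₁ : X.Modules) (r₁ : ℕ) (i₁ : E₁ ⟶ E), Mono i₁ ∧ 0 < r₁ ∧ FlatMod.IsFinLocFreeOfRank r₁ E₁ ∧
      (∀ (F : X.Modules) (r' : ℕ) (j : F ⟶ E), Mono j → 0 < r' → FlatMod.IsFinLocFreeOfRank r' F →
        Curv2.deg k X F r' * (r₁ : ℤ) ≤ Curv2.deg k X E₁ r₁ * (r' : ℤ)) ∧
      (∀ (Q : X.Modules) (s : ℕ) (j : Q ⟶ cokernel i₁), Mono j → 0 < s → FlatMod.IsFinLocFreeOfRank s Q →
        Curv2.deg k X Q s * (r₁ : ℤ) < Curv2.deg k X E₁ r₁ * (s : ℤ))) ∧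
    (∀ (E₁ E₁' : X.Modules) (r₁ r₁' : ℕ) (i₁ : E₁ ⟶ E) (i₁' : E₁' ⟶ E),
      Mono i₁ → 0 < r₁ → FlatMod.IsFinLocFreeOfRank r₁ E₁ →
      (∀ (F : X.Modules) (r' : ℕ) (j : F ⟶ E), Mono j → 0 < r' → FlatMod.IsFinLocFreeOfRank r' F →
        Curv2.deg k X F r' * (r₁ : ℤ) ≤ Curv2.deg k X E₁ r₁ * (r' : ℤ)) →
      (∀ (Q : X.Modules) (s : ℕ) (j : Q ⟶ cokernel i₁), Mono j → 0 < s → FlatMod.IsFinLocFreeOfRank s Q →
        Curv2.deg k X Q s * (r₁ : ℤ) < Curv2.deg k X E₁ r₁ * (s : ℤ)) →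
      Mono i₁' → 0 < r₁' → FlatMod.IsFinLocFreeOfRank r₁' E₁' →
      (∀ (F : X.Modules) (r' : ℕ) (j : F ⟶ E), Mono j → 0 < r' → FlatMod.IsFinLocFreeOfRank r' F →
        Curv2.deg k X F r' * (r₁' : ℤ) ≤ Curv2.deg k X E₁' r₁' * (r' : ℤ)) →
      (∀ (Q : X.Modules) (s : ℕ) (j : Q ⟶ cokernel i₁'), Mono j → 0 < s → FlatMod.IsFinLocFreeOfRank s Q →
        Curv2.deg k X Q s * (r₁' : ℤ) < Curv2.deg k X E₁' r₁' * (s : ℤ)) →
      ∃ e : E₁ ≅ E₁', e.hom ≫ i₁' = i₁) := by
  refine ⟨?_, ?_⟩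
  · obtain ⟨E₁, r₁, i₁, hi, hr₁, hE₁, hmax, hrk⟩ :=
      Groth.Agent.CurveBound.exists_max (k := k) hdim hr hE
    haveI := hi
    refine ⟨E₁, r₁, i₁, hi, hr₁, hE₁, hmax, fun Q s j hj hs hQ => ?_⟩
    haveI := hj
    obtain ⟨P, p, hp, hP, hd⟩ := Groth.Agent.CurveSub.exists_preimage (k := k) hdim hE₁ hE hQ i₁ j
    have h1 := hmax P _ p hp (by omega) hP
    have h2 := hrk P _ p hp (by omega) hP
    rw [hd] at h1 h2
    push_cast at h1 h2
    by_contra hc
    have h3 : r₁ + s ≤ r₁ := h2 (by linarith)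
    omega
  · intro E₁ E₁' r₁ r₁' i₁ i₁' hi hr₁ hE₁ hA hB hi' hr₁' hE₁' hA' hB'
    have key : ∀ (A A' : X.Modules) (a a' : ℕ) (i : A ⟶ E) (i' : A' ⟶ E),
        Mono i → 0 < a → FlatMod.IsFinLocFreeOfRank a A →
        (∀ (F : X.Modules) (r' : ℕ) (j : F ⟶ E), Mono j → 0 < r' → FlatMod.IsFinLocFreeOfRank r' F →
          Curv2.deg k X F r' * (a : ℤ) ≤ Curv2.deg k X A a * (r' : ℤ)) →
        (∀ (Q : X.Modules) (s : ℕ) (j : Q ⟶ cokernel i), Mono j → 0 < s → FlatMod.IsFinLocFreeOfRank s Q →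
          Curv2.deg k X Q s * (a : ℤ) < Curv2.deg k X A a * (s : ℤ)) →
        Mono i' → 0 < a' → FlatMod.IsFinLocFreeOfRank a' A' →
        Curv2.deg k X A a * (a' : ℤ) ≤ Curv2.deg k X A' a' * (a : ℤ) →
        i' ≫ cokernel.π i = 0 := by
      intro A A' a a' i i' hiA ha hA hS hQ hiA' ha' hA' hle
      haveI := hiA
      haveI := hiA'
      have ha'' : (0 : ℤ) < a := by exact_mod_cast ha
      obtain ⟨c, hc⟩ := Groth.Agent.CurveSub.isFinLocFreeOfRank_cokernel (k := k) hdim hA hE i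
        (fun G j hj hG => le_of_mul_le_mul_right (hS G a j hj ha hG) ha'')
      obtain ⟨u, v, hK, hI, huv, -, hdeg, hv0, -⟩ :=
        Groth.Agent.CurveSub.exists_image_data (k := k) hdim hA' hc (i' ≫ cokernel.π i)
      by_contra hne
      have hv : 0 < v := Nat.pos_of_ne_zero fun h => hne (hv0 h)
      have h1 := hQ _ v (Abelian.image.ι _) inferInstance hv hI
      have h2 : Curv2.deg k X (kernel (i' ≫ cokernel.π i)) u * (a : ℤ) ≤ Curv2.deg k X A a * (u : ℤ) := by
        rcases Nat.eq_zero_or_pos u with hu | hu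
        · subst hu
          simp [Groth.Agent.CurveSub.deg_rank_zero (k := k) hdim hK]
        · exact hS _ u (kernel.ι (i' ≫ cokernel.π i) ≫ i') inferInstance hu hK
      rw [hdeg, ← huv] at hle
      push_cast at hle
      rw [mul_add, add_mul] at hle
      linarith
    haveI := hi
    haveI := hi'
    have h : i₁' ≫ cokernel.π i₁ = 0 := key E₁ E₁' r₁ r₁' i₁ i₁' hi hr₁ hE₁ hA hB hi' hr₁' hE₁'
      (hA' E₁ r₁ i₁ hi hr₁ hE₁)
    have h' : i₁ ≫ cokernel.π i₁' = 0 := key E₁' E₁ r₁' r₁ i₁' i₁ hi' hr₁' hE₁' hA' hB' hi hr₁ hE₁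
      (hA E₁' r₁' i₁' hi' hr₁' hE₁')
    exact ⟨⟨Abelian.monoLift i₁' i₁ h', Abelian.monoLift i₁ i₁' h,
      by rw [← cancel_mono i₁, Category.assoc, Abelian.monoLift_comp, Abelian.monoLift_comp, Category.id_comp],
      by rw [← cancel_mono i₁', Category.assoc, Abelian.monoLift_comp, Abelian.monoLift_comp, Category.id_comp]⟩,
      Abelian.monoLift_comp _ _ _⟩

end Groth.Agent.S16470
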