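import Groth.Statements.S16474
import Groth.Agent.LinRed.TensorPowers

set_option autoImplicit false
open LaurentPolynomial
open ComodTens

namespace Groth.Agent.S16474

open TensorProduct
open scoped Groth.Agent.Comod


/-- Let r ≥ 1 and let V be a finite-dimensional rational representation of the general linear group GL_r
over the complex numbers (a finite-dimensional comodule over its coordinate Hopf algebra) which is
homogeneous of some integer degree h, i.e. restricted to the scalar one-parameter subgroup t ↦ t·1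
every vector of V has weight h. Then there are natural numbers a, b, c with c > 0 such that V is a
direct summand, as a representation, of ((ℂ^r)^(⊗a))^(⊕b) ⊗ det^(-c): there are equivariant linear
maps i : V → E and p : E → V with p ∘ i the identity, where E is the direct sum of b copies of the
a-th tensor power of the standard representation on ℂ^r, twisted by the (−c)-th power of the
determinant character. -/
theorem result (r : ℕ) (hr : 0 < r)
    (V : Type) [AddCommGroup V] [Module ℂ V] [Module.Finite ℂ V] (ρ : HopfRep.Comod ℂ (CoordGrp.GLn r ℂ) V)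
    (h : ℤ)
    (hh : @HopfRep.eigenspace ℂ ℂ[T;T⁻¹] _ _ _ V _ _
      (GLin.comodAlong (CoordGrp.GLn.diag r ℂ (fun _ => 1)) ρ) (T h) = ⊤) :
    ∃ (a b c : ℕ), 0 < c ∧
      ∃ (i : V →ₗ[ℂ] (Fin b → TensorPower ℂ a (Fin r → ℂ)))
        (p : (Fin b → TensorPower ℂ a (Fin r → ℂ)) →ₗ[ℂ] V),
        p ∘ₗ i = LinearMap.id ∧
        @Hoch.IsComodHom ℂ _ (CoordGrp.GLn r ℂ) _ _ _ V _ _ ρ (Fin b → TensorPower ℂ a (Fin r → ℂ)) _ _
          (ComodTens.Comod.twist
            (ComodTens.Comod.pi fun _ : Fin b =>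
              ComodTens.Comod.tpow (GLin.comodAlong (CoordGrp.Mat.toGLn r ℂ) (ComodTens.stdVec r ℂ)) a)
            (CoordGrp.GLn.Dinv ^ c) (IsGroupLikeElem.pow ⟨CoordGrp.GLn.counit_Dinv, CoordGrp.GLn.comul_Dinv⟩)) i ∧
        @Hoch.IsComodHom ℂ _ (CoordGrp.GLn r ℂ) _ _ _ (Fin b → TensorPower ℂ a (Fin r → ℂ)) _ _
          (ComodTens.Comod.twist
            (ComodTens.Comod.pi fun _ : Fin b =>
              ComodTens.Comod.tpow (GLin.comodAlong (CoordGrp.Mat.toGLn r ℂ) (ComodTens.stdVec r ℂ)) a)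
            (CoordGrp.GLn.Dinv ^ c) (IsGroupLikeElem.pow ⟨CoordGrp.GLn.counit_Dinv, CoordGrp.GLn.comul_Dinv⟩)) V _ _ ρ p := by
  classical
  obtain ⟨α, hα⟩ := Groth.Agent.LinRed.GLn.exists_isNormIntegral_GLn (n := r) (k := ℂ)
  letI cV := ρ
  obtain ⟨d, ⟨bV⟩⟩ : ∃ d, Nonempty (Module.Basis (Fin d) ℂ V) := ⟨_, ⟨Module.finBasis ℂ V⟩⟩
  -- the coefficient space
  obtain ⟨M, hM, hMmem⟩ : ∃ M : Submodule ℂ (CoordGrp.GLn r ℂ), M.FG ∧
      ∀ j v, Groth.Agent.Comod.slL (bV.coord j) (ρ.coact v) ∈ M := by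
    choose Mv hfg hmem using fun i => Groth.Agent.Comod.exists_fg_slL_mem (k := ℂ) (ρ.coact (bV i))
    refine ⟨⨆ i, Mv i, Submodule.fg_iSup _ hfg, fun j v => ?_⟩
    rw [← bV.sum_repr v, map_sum, map_sum]
    refine Submodule.sum_mem _ fun i _ => ?_
    rw [map_smul, map_smul]
    exact Submodule.smul_mem _ _ (Submodule.mem_iSup_of_mem i (hmem i _))
  obtain ⟨t, ht⟩ := hM
  choose N p hp using fun z : CoordGrp.GLn r ℂ =>
    Groth.Agent.LinRed.GLn.exists_level (n := r) (k := ℂ) z
  let c := t.sup N + h.natAbs + 1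
  let a := (h + r * c).toNat
  have ha : (a : ℤ) = h + r * c := by
    have h1 : (c : ℤ) ≤ (r : ℤ) * c := le_mul_of_one_le_left (by positivity) (by exact_mod_cast hr)
    have h3 : -h ≤ (h.natAbs : ℤ) := by omega
    have h2 : -h ≤ (c : ℤ) := h3.trans (Int.ofNat_le.2 (by simp only [c]; omega))
    exact Int.toNat_of_nonneg (by omega)
  have hMlev : M ≤ LinearMap.range (Groth.Agent.LinRed.GLn.level r ℂ c) := ht ▸ Submodule.span_le.2 fun z hz =>
    Groth.Agent.LinRed.GLn.range_level_mono (show N z ≤ c from by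
      have := Finset.le_sup (f := N) hz
      simp only [c]; omega) ⟨p z, hp z⟩
  -- coefficient maps
  let f : Fin d → V →ₗ[ℂ] CoordGrp.GLn r ℂ := fun j => Groth.Agent.Comod.slL (bV.coord j) ∘ₗ ρ.coact
  have hf : ∀ j, @Hoch.IsComodHom ℂ _ (CoordGrp.GLn r ℂ) _ _ _ V _ _ ρ _ _ _
      (HopfRep.Comod.regular ℂ (CoordGrp.GLn r ℂ)) (f j) := fun j =>
    Groth.Agent.Comod.isComodHom_coeffMap (bV.coord j)
  let S : Submodule ℂ (CoordGrp.GLn r ℂ) :=
    (Groth.Agent.LinRed.GLn.homsImage (Groth.Agent.LinRed.GLn.std r ℂ) a).map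
      (LinearMap.mulRight ℂ (CoordGrp.GLn.Dinv ^ c))
  have hfS : ∀ j v, f j v ∈ S := by
    intro j v
    obtain ⟨q, hq⟩ := hMlev (hMmem j v)
    have hwt : TensorProduct.map LinearMap.id
        (CoordGrp.GLn.diag r ℂ (fun _ => 1) : CoordGrp.GLn r ℂ →ₗ[ℂ] ℂ[T;T⁻¹])
        (Coalgebra.comul (R := ℂ) (f j v)) = f j v ⊗ₜ[ℂ] LaurentPolynomial.T h := by
      have hv : v ∈ @HopfRep.eigenspace ℂ ℂ[T;T⁻¹] _ _ _ V _ _
          (GLin.comodAlong (CoordGrp.GLn.diag r ℂ (fun _ => 1)) ρ) (LaurentPolynomial.T h) := by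
        rw [hh]; trivial
      have hv' : TensorProduct.map LinearMap.id
          (CoordGrp.GLn.diag r ℂ (fun _ => 1) : CoordGrp.GLn r ℂ →ₗ[ℂ] ℂ[T;T⁻¹]) (ρ.coact v) =
          v ⊗ₜ[ℂ] LaurentPolynomial.T h := hv
      have hc := LinearMap.congr_fun (hf j) v
      simp only [LinearMap.comp_apply] at hc
      rw [show Coalgebra.comul (R := ℂ) (f j v) = _ from hc]
      have hnat : ∀ z : V ⊗[ℂ] CoordGrp.GLn r ℂ,
          TensorProduct.map LinearMap.id
              (CoordGrp.GLn.diag r ℂ (fun _ => 1) : CoordGrp.GLn r ℂ →ₗ[ℂ] ℂ[T;T⁻¹]) ((f j).rTensor _ z) =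
            (f j).rTensor _ (TensorProduct.map LinearMap.id
              (CoordGrp.GLn.diag r ℂ (fun _ => 1) : CoordGrp.GLn r ℂ →ₗ[ℂ] ℂ[T;T⁻¹]) z) := by
        intro z
        induction z with
        | zero => simp
        | tmul x y => simp
        | add y z hy hz => simp only [map_add, hy, hz]
      rw [hnat, hv', LinearMap.rTensor_tmul]
    have hq' : Groth.Agent.LinRed.GLn.level r ℂ c q = f j v := hq
    rw [← hq'] at hwt ⊢
    rw [Groth.Agent.LinRed.GLn.level_mem_homsImage h c a ha q hwt]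
    exact Submodule.mem_map.2 ⟨_, Groth.Agent.LinRed.GLn.incl_homogeneous_mem_homsImage q a, rfl⟩
  -- finitely many morphisms suffice
  let H := Groth.Agent.LinRed.GLn.homs (Groth.Agent.LinRed.GLn.std r ℂ) a
  obtain ⟨T₀, hT₀⟩ : ∃ T₀ : Finset H, ∀ j i, f j (bV i) ∈
      (⨆ s ∈ T₀, LinearMap.range s.1).map (LinearMap.mulRight ℂ (CoordGrp.GLn.Dinv ^ c)) := by
    choose y hy hy' using fun p : Fin d × Fin d => Submodule.mem_map.1 (hfS p.1 (bV p.2))
    choose T hT using fun p => Submodule.exists_finset_of_mem_iSup _ (hy p)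
    refine ⟨Finset.univ.biUnion T, fun j i => Submodule.mem_map.2 ⟨y (j, i), ?_, hy' (j, i)⟩⟩
    exact (biSup_mono (fun s hs => Finset.mem_biUnion.2 ⟨(j, i), Finset.mem_univ _, hs⟩) :
      (⨆ s ∈ T (j, i), LinearMap.range s.1) ≤ ⨆ s ∈ Finset.univ.biUnion T, LinearMap.range s.1) (hT (j, i))
  obtain ⟨b, ⟨ei⟩⟩ : ∃ b, Nonempty (Fin b ≃ Fin d × {s // s ∈ T₀}) := ⟨_, ⟨(Fintype.equivFin _).symm⟩⟩
  refine ⟨a, b, c, Nat.succ_pos _, ?_⟩
  let cT : HopfRep.Comod ℂ (CoordGrp.GLn r ℂ) (TensorPower ℂ a (Fin r → ℂ)) :=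
    ComodTens.Comod.tpow (GLin.comodAlong (CoordGrp.Mat.toGLn r ℂ) (ComodTens.stdVec r ℂ)) a
  let g : CoordGrp.GLn r ℂ := CoordGrp.GLn.Dinv ^ c
  have hg : IsGroupLikeElem ℂ g := IsGroupLikeElem.pow ⟨CoordGrp.GLn.counit_Dinv, CoordGrp.GLn.comul_Dinv⟩
  letI cW : HopfRep.Comod ℂ (CoordGrp.GLn r ℂ) (Fin b → TensorPower ℂ a (Fin r → ℂ)) :=
    ComodTens.Comod.twist (ComodTens.Comod.pi fun _ : Fin b => cT) g hg
  let q : Fin b → (Fin b → TensorPower ℂ a (Fin r → ℂ)) →ₗ[ℂ] CoordGrp.GLn r ℂ := fun s =>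
    LinearMap.mulRight ℂ g ∘ₗ ((ei s).2.1.1 ∘ₗ LinearMap.proj s)
  have hq : ∀ s, Hoch.IsComodHom (CoordGrp.GLn r ℂ) (q s) := by
    intro s
    refine Groth.Agent.LinRed.GLn.isComodHom_twist _ g hg ?_
    have h1 := Groth.Agent.LinRed.GLn.isComodHom_proj (fun _ : Fin b => cT) s
    have h2 := (ei s).2.1.2
    refine LinearMap.ext fun w => ?_
    have e1 := LinearMap.congr_fun h1 w
    have e2 := LinearMap.congr_fun h2 (w s)
    simp only [LinearMap.comp_apply, LinearMap.proj_apply] at e1 e2 ⊢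
    rw [LinearMap.rTensor_comp, LinearMap.comp_apply, ← e1]
    exact e2
  haveI hssW : IsSemisimpleModule (Groth.Agent.Comod.DualAlg ℂ (CoordGrp.GLn r ℂ))
      (Fin b → TensorPower ℂ a (Fin r → ℂ)) :=
    @Iff.mp _ _ Groth.Agent.Comod.isSemisimpleComod_iff
      (Groth.Agent.Comod.isSemisimpleComod_of_integral hα.right hα.map_one)
  -- lift each coefficient map through the sum of the morphisms over its block
  let Q : Fin d → (Fin b → TensorPower ℂ a (Fin r → ℂ)) →ₗ[ℂ] CoordGrp.GLn r ℂ := fun j =>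
    ∑ s ∈ Finset.univ.filter (fun s => (ei s).1 = j), q s
  have hQ : ∀ j, Hoch.IsComodHom (CoordGrp.GLn r ℂ) (Q j) := by
    intro j
    refine Groth.Agent.Comod.isComodHom_iff.2 fun χ w => ?_
    simp only [Q, LinearMap.sum_apply, map_sum]
    exact Finset.sum_congr rfl fun s _ => Groth.Agent.Comod.IsComodHom.map_actL (hq s) χ w
  have hrange : ∀ j v, f j v ∈ LinearMap.range (Q j) := by
    intro j v
    rw [← bV.sum_repr v, map_sum]
    refine Submodule.sum_mem _ fun i _ => ?_
    rw [map_smul]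
    refine Submodule.smul_mem _ _ ?_
    obtain ⟨y, hy, hy'⟩ := Submodule.mem_map.1 (hT₀ j i)
    rw [← hy']
    have hle : (⨆ s ∈ T₀, LinearMap.range s.1) ≤
        (LinearMap.range (Q j)).comap (LinearMap.mulRight ℂ (CoordGrp.GLn.Dinv ^ c)) := by
      refine iSup₂_le fun s hs => ?_
      rintro _ ⟨u, rfl⟩
      refine ⟨Pi.single (ei.symm (j, ⟨s, hs⟩)) u, ?_⟩
      simp only [Q, LinearMap.sum_apply]
      rw [Finset.sum_eq_single (ei.symm (j, ⟨s, hs⟩))]
      · simp [q, g]
      · intro s' _ hne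
        simp [q, Pi.single_eq_of_ne hne]
      · intro hnot; simp at hnot
    exact hle hy
  have hlift : ∀ j, ∃ G : V →ₗ[ℂ] (Fin b → TensorPower ℂ a (Fin r → ℂ)),
      Hoch.IsComodHom (CoordGrp.GLn r ℂ) G ∧ Q j ∘ₗ G = f j := by
    intro j
    let Q' := Groth.Agent.Comod.toHom (hQ j)
    let f' := Groth.Agent.Comod.toHom (hf j)
    obtain ⟨G, hG⟩ := @IsSemisimpleModule.lifting_property (Groth.Agent.Comod.DualAlg ℂ (CoordGrp.GLn r ℂ)) _
      (Fin b → TensorPower ℂ a (Fin r → ℂ)) _ _ (LinearMap.range Q') _ _ hssW V _ _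
      Q'.rangeRestrict Q'.surjective_rangeRestrict
      (f'.codRestrict (LinearMap.range Q') fun v => by
        obtain ⟨w, hw⟩ := hrange j v
        exact ⟨w, hw⟩)
    exact ⟨G.restrictScalars ℂ, Groth.Agent.Comod.isComodHom_restrictScalars G,
      LinearMap.ext fun v => congrArg Subtype.val (LinearMap.congr_fun hG v)⟩
  choose G hG hQG using hlift
  -- keep in each block the lift of the corresponding coefficient map
  let blk : Fin d → (Fin b → TensorPower ℂ a (Fin r → ℂ)) →ₗ[ℂ] (Fin b → TensorPower ℂ a (Fin r → ℂ)) :=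
    fun j => LinearMap.pi fun s => if (ei s).1 = j then LinearMap.proj s else 0
  have hblk : ∀ j, Hoch.IsComodHom (CoordGrp.GLn r ℂ) (blk j) := by
    intro j
    refine LinearMap.ext fun w => ?_
    simp only [LinearMap.comp_apply, cW, ComodTens.twist_coact]
    have e0 : ∀ z : (Fin b → TensorPower ℂ a (Fin r → ℂ)) ⊗[ℂ] CoordGrp.GLn r ℂ,
        (blk j).rTensor _ ((LinearMap.mulRight ℂ g).lTensor _ z) =
          (LinearMap.mulRight ℂ g).lTensor _ ((blk j).rTensor _ z) := by
      intro z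
      induction z with
      | zero => simp
      | tmul x y => simp
      | add y z hy hz => simp only [map_add, hy, hz]
    rw [e0, ComodTens.pi_coact, ComodTens.pi_coact, map_sum (LinearMap.rTensor _ (blk j))]
    congr 1
    refine Finset.sum_congr rfl fun s _ => ?_
    rw [← LinearMap.rTensor_comp_apply]
    have e3 : blk j ∘ₗ LinearMap.single ℂ (fun _ : Fin b => TensorPower ℂ a (Fin r → ℂ)) s =
        if (ei s).1 = j then LinearMap.single ℂ (fun _ : Fin b => TensorPower ℂ a (Fin r → ℂ)) s else 0 := by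
      refine LinearMap.ext fun x => funext fun s' => ?_
      by_cases hs : s' = s
      · subst hs
        split_ifs with h' <;> simp [blk, h']
      · have hz : ((if (ei s).1 = j then LinearMap.single ℂ (fun _ : Fin b => TensorPower ℂ a (Fin r → ℂ)) s
            else 0) x) s' = 0 := by split_ifs <;> simp [Pi.single_eq_of_ne hs]
        rw [hz]
        by_cases h' : (ei s').1 = j <;> simp [blk, h', Pi.single_eq_of_ne hs]
    rw [e3]
    split_ifs with h' <;> simp [blk, h']
  let i : V →ₗ[ℂ] (Fin b → TensorPower ℂ a (Fin r → ℂ)) := ∑ j, blk j ∘ₗ G j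
  have hi : Hoch.IsComodHom (CoordGrp.GLn r ℂ) i := by
    refine Groth.Agent.Comod.isComodHom_iff.2 fun χ v => ?_
    simp only [i, LinearMap.sum_apply, map_sum, LinearMap.comp_apply]
    exact Finset.sum_congr rfl fun j _ => by
      rw [Groth.Agent.Comod.IsComodHom.map_actL (hG j), Groth.Agent.Comod.IsComodHom.map_actL (hblk j)]
  have hcomp : ∀ j v, Q j (i v) = f j v := by
    intro j v
    rw [← hQG j, LinearMap.comp_apply]
    simp only [Q, LinearMap.sum_apply]
    refine Finset.sum_congr rfl fun s hs => ?_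
    have hs' : (ei s).1 = j := (Finset.mem_filter.1 hs).2
    have : i v s = G j v s := by
      simp only [i, LinearMap.sum_apply, Finset.sum_apply, LinearMap.comp_apply]
      rw [Finset.sum_eq_single j]
      · simp [blk, hs']
      · intro j' _ hne
        simp [blk, show (ei s).1 ≠ j' from fun h' => hne (h'.symm.trans hs')]
      · intro hnot; exact absurd (Finset.mem_univ j) hnot
    simp [q, this]
  have hinj : Function.Injective i := by
    intro v v' hvv
    apply bV.repr.injective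
    ext j
    have h1 : ∀ x : V, Coalgebra.counit (R := ℂ) (f j x) = bV.coord j x := by
      intro x
      have h2 : ∀ z : V ⊗[ℂ] CoordGrp.GLn r ℂ, Coalgebra.counit (R := ℂ) (Groth.Agent.Comod.slL (bV.coord j) z) =
          bV.coord j (Groth.Agent.Comod.slR (Coalgebra.counit (R := ℂ)) z) := by
        intro z
        induction z with
        | zero => simp
        | tmul p q => simp [mul_comm]
        | add y z hy hz => simp only [map_add, hy, hz]
      show Coalgebra.counit (R := ℂ) (Groth.Agent.Comod.slL (bV.coord j) (ρ.coact x)) = _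
      rw [h2]
      exact congrArg _ (Groth.Agent.Comod.actL_counit (A := CoordGrp.GLn r ℂ) x)
    have h3 := congrArg (fun w => Coalgebra.counit (R := ℂ) (Q j w)) hvv
    simp only [hcomp, h1] at h3
    exact h3
  obtain ⟨P, hP⟩ := IsSemisimpleModule.extension_property (Groth.Agent.Comod.toHom hi) hinj LinearMap.id
  refine ⟨i, P.restrictScalars ℂ, ?_, hi, Groth.Agent.Comod.isComodHom_restrictScalars P⟩
  exact LinearMap.ext fun v => LinearMap.congr_fun hP v

end Groth.Agent.S16474
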