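import Groth.Statements.S16484
import Groth.Agent.QCohBase.FiniteTypePullback
import Groth.Agent.AmpleGG.Basic

set_option autoImplicit false
universe u
open CategoryTheory AlgebraicGeometry
open RefHull

namespace Groth.Agent.S16484

open Opposite TopologicalSpace CategoryTheory.Limits Groth.Agent.QCohBase Groth.Agent.GenLocus

set_option backward.isDefEq.respectTransparency false
set_option backward.isDefEq.respectTransparency.types false

theorem generatedBy_of_gen {Y : Scheme.{u}} {M : Y.Modules} (H : M.GeneratingSections) :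
    ProjUP.GeneratedBy M (fun i : H.I =>
      sect ((SheafOfModules.ιFree i ≫ H.π : SheafOfModules.unit Y.ringCatSheaf ⟶ M) : Coh.structureModule Y ⟶ M) ⊤) := by
  let ι := H.I
  let p : (SheafOfModules.free ι : Y.Modules) ⟶ M := H.π
  haveI : Epi p := @SheafOfModules.GeneratingSections.epi _ _ _ _ _ _ _ H
  let σ : ι → (Coh.structureModule Y ⟶ M) := fun i => SheafOfModules.ιFree i ≫ p
  intro x
  let F := DerSch.stalkFunctor Y x
  let N := Submodule.span (Y.presheaf.stalk x)
    (Set.range fun i => (M.presheaf.germ ⊤ x trivial).hom (sect (σ i) ⊤))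
  let q : F.obj M ⟶ ModuleCat.of (Y.presheaf.stalk x) ((M.presheaf.stalk x) ⧸ N) := ModuleCat.ofHom N.mkQ
  have hσ : ∀ i, F.map (σ i) ≫ q = 0 := fun i => by
    refine ModuleCat.hom_ext (LinearMap.ext fun z => ?_)
    obtain ⟨U, hxU, r, rfl⟩ := TopCat.Presheaf.exists_germ_eq (C := AddCommGrpCat.{u})
      (Coh.structureModule Y).presheaf (x := x) z
    show N.mkQ (F.map (σ i) _) = 0
    rw [Submodule.mkQ_apply, Submodule.Quotient.mk_eq_zero]
    erw [DerSch.stalkFunctor_map_germ]
    rw [GenLocus.app_eq_smul, AssPts.germ_smul', ← GenLocus.mres_sect (σ i) (le_top : U ≤ ⊤), AssPts.germ_mres]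
    exact N.smul_mem _ (Submodule.subset_span ⟨i, rfl⟩)
  haveI : PreservesColimitsOfSize.{u, u} F := (Adjunction.ofIsLeftAdjoint F).leftAdjoint_preservesColimits
  haveI : Epi (F.map p) := F.map_epi p
  have hzero : F.map p ≫ q = 0 := by
    refine (isColimitOfPreserves F (coproductIsCoproduct fun _ : ι => Coh.structureModule Y)).hom_ext fun ⟨i⟩ => ?_
    rw [comp_zero, ← Category.assoc]
    show (F.map (SheafOfModules.ιFree i) ≫ F.map p) ≫ q = 0
    rw [← F.map_comp]
    exact hσ i
  have hq : q = 0 := (cancel_epi (F.map p)).1 (by rw [hzero, comp_zero])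
  show N = ⊤
  rw [eq_top_iff]
  intro z _
  have := LinearMap.congr_fun (congrArg ModuleCat.Hom.hom hq) z
  exact (Submodule.Quotient.mk_eq_zero N).1 this

/-- Finitely many sections near `x` whose germs span, in the sense that a linear map killing them is zero. -/
theorem exists_jointly {X : Scheme.{u}} (F : X.Modules) (hF : CohB1.IsFT F) (x : X) :
    ∃ (V : X.Opens) (_ : x ∈ V) (ι : Type u) (_ : Finite ι) (s : ι → Γ(F, V)),
      ∀ (G : X.Modules) (y : X) (hy : y ∈ V) (φ : RefHull.StalkHom F G y),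
        (∀ i, φ (F.presheaf.germ V y hy (s i)) = 0) → φ = 0 := by
  obtain ⟨U, hxU, H, hH⟩ := exists_generators_of_isFT hF x
  let t := fun i : H.I =>
    sect ((SheafOfModules.ιFree i ≫ H.π : SheafOfModules.unit (U : Scheme.{u}).ringCatSheaf ⟶ F.restrict U.ι) :
      Coh.structureModule (U : Scheme.{u}) ⟶ F.restrict U.ι) ⊤
  refine ⟨U.ι ''ᵁ ⊤, ⟨⟨x, hxU⟩, trivial, rfl⟩, H.I, hH, t, ?_⟩
  intro G y hy φ h
  obtain ⟨y', -, e'⟩ := id hy
  have e'' : U.ι y' = y := e'
  clear e'
  subst e''
  let e := ((Scheme.Modules.restrictStalkNatIso U.ι y').app F).addCommGroupIsoToAddEquiv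
  have he : ∀ (O : (U : Scheme.{u}).Opens) (hO : y' ∈ O) (m : Γ(F.restrict U.ι, O)),
      e ((F.restrict U.ι).presheaf.germ O y' hO m) =
        F.presheaf.germ (U.ι ''ᵁ O) (U.ι y') ⟨y', hO, rfl⟩ m := fun O hO m =>
    ConcreteCategory.congr_hom (Scheme.Modules.germ_restrictStalkNatIso_hom_app U.ι y' F hO) m
  refine LinearMap.ext fun z => ?_
  obtain ⟨z, rfl⟩ := e.surjective z
  have hz : z ∈ Submodule.span ((U : Scheme.{u}).presheaf.stalk y')
      (Set.range fun i => ((F.restrict U.ι).presheaf.germ ⊤ y' trivial).hom (t i)) := by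
    rw [show Submodule.span ((U : Scheme.{u}).presheaf.stalk y')
      (Set.range fun i => ((F.restrict U.ι).presheaf.germ ⊤ y' trivial).hom (t i)) = ⊤ from generatedBy_of_gen H y']
    trivial
  rw [LinearMap.zero_apply]
  induction hz using Submodule.span_induction with
  | mem z hz =>
    obtain ⟨i, rfl⟩ := hz
    exact (congrArg φ (he ⊤ trivial (t i))).trans (h i)
  | zero => rw [map_zero, map_zero]
  | add a b _ _ ha hb => rw [map_add, map_add, ha, hb, add_zero]
  | smul c z _ hz =>
    obtain ⟨B, hB, a, rfl⟩ := (F.restrict U.ι).presheaf.exists_germ_eq z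
    obtain ⟨A, hA, r, rfl⟩ := (U : Scheme.{u}).presheaf.exists_germ_eq c
    have hI : y' ∈ A ⊓ B := ⟨hA, hB⟩
    rw [← AssPts.germ_mres (F.restrict U.ι) y' (inf_le_right : A ⊓ B ≤ B) hI a, he] at hz
    rw [← TopCat.Presheaf.germ_res_apply (U : Scheme.{u}).presheaf (homOfLE (inf_le_left : A ⊓ B ≤ A)) y' hI r,
      ← AssPts.germ_mres (F.restrict U.ι) y' (inf_le_right : A ⊓ B ≤ B) hI a, ← AssPts.germ_smul', he]
    have key : ∀ (O : (U : Scheme.{u}).Opens) (c : Γ((U : Scheme.{u}), O)) (m : Γ(F.restrict U.ι, O)),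
        (show Γ(F, U.ι ''ᵁ O) from c • m) = (U.ι.appIso O).inv c • (show Γ(F, U.ι ''ᵁ O) from m) := fun O c m =>
      ConcreteCategory.congr_hom (Scheme.Modules.smul_restrictAppIso_hom U.ι F O c) m
    refine (congrArg φ (congrArg (F.presheaf.germ (U.ι ''ᵁ (A ⊓ B)) (U.ι y') _).hom (key _ _ _))).trans ?_
    refine (congrArg φ (AssPts.germ_smul' F (U.ι y') _ _ _)).trans ?_
    rw [map_smul]
    erw [hz]
    exact smul_zero _

/-- Consider a scheme X together with O_X-modules F and G, where F is assumed to be of finite type, and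
fix a point x ∈ X. The natural O_{X,x}-linear map 𝓗om_{O_X}(F, G)_x → Hom_{O_{X,x}}(F_x, G_x),
taking the germ at x of a section of the sheaf Hom to the map on stalks at x that it induces, is
injective. (In the source the claim is made for modules over any ringed space; here it is formulated
only for schemes, since that is where the sheaf Hom used in the statement is available.) -/
theorem result (X : Scheme.{u}) (F G : X.Modules) (hF : CohB1.IsFT F) (x : X) :
    Function.Injective (RefHull.evalStalk F G x) := by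
  classical
  rw [injective_iff_map_eq_zero]
  intro θ hθ
  obtain ⟨U, hxU, g, rfl⟩ := TopCat.Presheaf.exists_germ_eq (RefHull.homSh F G).presheaf θ
  rw [RefHull.evalStalk_germ] at hθ
  obtain ⟨V, hxV, ι, hι, s, hs⟩ := exists_jointly F hF x
  have key : ∀ i, ∃ (W : X.Opens), x ∈ W ∧ ∃ (hWU : W ≤ U) (hWV : W ≤ V), ∀ y (hy : y ∈ W),
      g.1 ⟨y, hWU hy⟩ (F.presheaf.germ V y (hWV hy) (s i)) = 0 := by
    intro i
    obtain ⟨W, hxW, j, n, hn⟩ := RefHull.isLocSect_of_mem g (U ⊓ V) (homOfLE inf_le_left)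
      (F.presheaf.map (homOfLE (inf_le_right : U ⊓ V ≤ V)).op (s i)) ⟨x, hxU, hxV⟩
    have hx0 := hn ⟨x, hxW⟩
    dsimp only at hx0
    rw [hθ, LinearMap.zero_apply] at hx0
    obtain ⟨W', hxW', i₁, i₂, e⟩ := TopCat.Presheaf.germ_eq G.presheaf x hxW hxW n 0
      (hx0.symm.trans (map_zero _).symm)
    refine ⟨W', hxW', (i₁.le.trans j.le).trans inf_le_left, (i₁.le.trans j.le).trans inf_le_right, fun y hy => ?_⟩
    have hy' := hn ⟨y, i₁.le hy⟩
    dsimp only at hy'
    rw [TopCat.Presheaf.germ_res_apply] at hy'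
    refine hy'.trans ?_
    rw [← TopCat.Presheaf.germ_res_apply G.presheaf i₁ y hy n, e, map_zero, map_zero]
  choose W hxW hWU hWV hW using key
  cases nonempty_fintype ι
  let O : X.Opens := (U ⊓ V) ⊓ Finset.univ.inf W
  have hxO : x ∈ O := ⟨⟨hxU, hxV⟩, Finset.inf_induction (s := Finset.univ) (f := W) (p := fun B => x ∈ B)
    (Opens.mem_top x) (fun a ha b hb => ⟨ha, hb⟩) fun k _ => hxW k⟩
  have hOU : O ≤ U := inf_le_left.trans inf_le_left
  rw [← TopCat.Presheaf.germ_res_apply (RefHull.homSh F G).presheaf (homOfLE hOU) x hxO g]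
  have h0 : (RefHull.homSh F G).presheaf.map (homOfLE hOU).op g = 0 := by
    refine Subtype.ext (funext fun y => ?_)
    exact hs G y.1 y.2.1.2 _ fun i => hW i y.1 ((Finset.inf_le (Finset.mem_univ i) : Finset.univ.inf W ≤ W i) y.2.2)
  rw [h0, map_zero]

end Groth.Agent.S16484
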