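import Groth.Statements.S16485
import Groth.Agent.S16484
import Groth.Agent.FlatOver.Basic
import Groth.Agent.FinLocFreeSections.FP

set_option autoImplicit false
universe u
open CategoryTheory AlgebraicGeometry
open RefHull

namespace Groth.Agent.S16485

open Opposite TopologicalSpace

set_option backward.isDefEq.respectTransparency false
set_option backward.isDefEq.respectTransparency.types false
set_option linter.style.haveILetI false

variable {X : Scheme.{u}} {F G : X.Modules}

/-- An additive map on sections over an affine `U`, semilinear for restriction to `W`, gives a stalk map. -/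
theorem exists_stalk (hFq : F.IsQuasicoherent) {U W : X.Opens} (hU : IsAffineOpen U) (hWU : W ≤ U)
    (ψ : Γ(F, U) →+ Γ(G, W))
    (hψ : ∀ (r : Γ(X, U)) (m : Γ(F, U)), ψ (r • m) = X.presheaf.map (homOfLE hWU).op r • ψ m)
    (y : X) (hy : y ∈ W) :
    ∃ f : RefHull.StalkHom F G y, ∀ m, f (F.presheaf.germ U y (hWU hy) m) = G.presheaf.germ W y hy (ψ m) := by
  haveI := hFq
  letI := FlatOver.germModule F y (hWU hy)
  letI := FlatOver.germModule G y (hWU hy)
  letI : Algebra Γ(X, U) (X.presheaf.stalk y) := (X.presheaf.germ U y (hWU hy)).hom.toAlgebra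
  let S := (hU.primeIdealOf ⟨y, hWU hy⟩).asIdeal.primeCompl
  haveI : IsLocalization S (X.presheaf.stalk y) := hU.isLocalization_stalk ⟨y, hWU hy⟩
  haveI : IsScalarTower Γ(X, U) (X.presheaf.stalk y) (F.presheaf.stalk y) := .of_algebraMap_smul fun r z => rfl
  haveI : IsScalarTower Γ(X, U) (X.presheaf.stalk y) (G.presheaf.stalk y) := .of_algebraMap_smul fun r z => rfl
  haveI := FlatOver.isLocalizedModule_germₗ F hU y (hWU hy)
  let L : Γ(F, U) →ₗ[Γ(X, U)] G.presheaf.stalk y :=
    { toFun := fun m => G.presheaf.germ W y hy (ψ m)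
      map_add' := fun a b => by simp only [map_add]
      map_smul' := fun r m => by
        simp only [hψ, RingHom.id_apply]
        rw [AssPts.germ_smul', TopCat.Presheaf.germ_res_apply]
        rfl }
  have hu : ∀ s : S, IsUnit (algebraMap Γ(X, U) (Module.End Γ(X, U) (G.presheaf.stalk y)) s) := by
    intro s
    rw [Module.End.isUnit_iff]
    obtain ⟨v, hv⟩ := IsLocalization.map_units (X.presheaf.stalk y) s
    have hsm : ∀ z : G.presheaf.stalk y, s.1 • z = (v : X.presheaf.stalk y) • z := fun z => by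
      rw [hv, algebraMap_smul]
    refine ⟨fun a b h => ?_, fun z => ⟨(↑v⁻¹ : X.presheaf.stalk y) • z, ?_⟩⟩
    · simp only [Module.algebraMap_end_apply, hsm] at h
      have h2 := congrArg (fun w => (↑v⁻¹ : X.presheaf.stalk y) • w) h
      simpa [smul_smul] using h2
    · simp only [Module.algebraMap_end_apply, hsm]
      rw [smul_smul, v.mul_inv, one_smul]
  let f₀ := IsLocalizedModule.lift S (FlatOver.germₗ F y (hWU hy)) L hu
  refine ⟨LinearMap.extendScalarsOfIsLocalization S (X.presheaf.stalk y) f₀, fun m => ?_⟩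
  exact IsLocalizedModule.lift_apply S (FlatOver.germₗ F y (hWU hy)) L hu m

/-- Stalk maps on quasi-coherent modules are determined on sections over an affine. -/
theorem stalk_ext (hFq : F.IsQuasicoherent) {U : X.Opens} (hU : IsAffineOpen U) {y : X} (hy : y ∈ U)
    (f f' : RefHull.StalkHom F G y)
    (h : ∀ m, f (F.presheaf.germ U y hy m) = f' (F.presheaf.germ U y hy m)) : f = f' := by
  haveI := hFq
  refine LinearMap.ext fun v => ?_
  obtain ⟨g, m, hg, hv⟩ := AssPts.exists_germ_smul_eq F hU y hy v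
  obtain ⟨w, hw⟩ := (AssPts.notMem_prime_iff hU y hy g).1 hg
  have := h m
  rw [← hv, map_smul, map_smul, ← hw] at this
  have h2 := congrArg (fun z => (↑w⁻¹ : X.presheaf.stalk y) • z) this
  simpa [smul_smul] using h2

/-- A semilinear map on sections over an affine is a section of the sheaf Hom. -/
theorem exists_sect (hFq : F.IsQuasicoherent) {U W : X.Opens} (hU : IsAffineOpen U) (hWU : W ≤ U)
    (ψ : Γ(F, U) →+ Γ(G, W))
    (hψ : ∀ (r : Γ(X, U)) (m : Γ(F, U)), ψ (r • m) = X.presheaf.map (homOfLE hWU).op r • ψ m) :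
    ∃ g : Γ(RefHull.homSh F G, W), ∀ (y : X) (hy : y ∈ W) m,
      g.1 ⟨y, hy⟩ (F.presheaf.germ U y (hWU hy) m) = G.presheaf.germ W y hy (ψ m) := by
  haveI := hFq
  choose f hf using fun y : W => exists_stalk hFq hU hWU ψ hψ y.1 y.2
  refine ⟨⟨f, fun V i m z => ?_⟩, fun y hy m => hf ⟨y, hy⟩ m⟩
  have hzU : z.1 ∈ U := hWU (i.le z.2)
  obtain ⟨a, n, ha, hv⟩ := AssPts.exists_germ_smul_eq F hU z.1 hzU (F.presheaf.germ V z.1 z.2 m)
  have hau := (AssPts.notMem_prime_iff hU z.1 hzU a).1 ha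
  have hVU : V ≤ U := i.le.trans hWU
  rw [← TopCat.Presheaf.germ_res_apply F.presheaf (homOfLE hVU) z.1 z.2 n,
    ← TopCat.Presheaf.germ_res_apply X.presheaf (homOfLE hVU) z.1 z.2 a, ← AssPts.germ_smul'] at hv
  obtain ⟨O, hzO, i₁, i₂, hO⟩ := TopCat.Presheaf.germ_eq F.presheaf z.1 z.2 z.2 _ _ hv
  let O' : X.Opens := O ⊓ X.basicOpen a
  have hzO' : z.1 ∈ O' := ⟨hzO, (X.mem_basicOpen a z.1 hzU).2 hau⟩
  have hO'V : O' ≤ V := inf_le_left.trans i₁.le
  have hO'W : O' ≤ W := hO'V.trans i.le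
  have hO'U : O' ≤ U := hO'W.trans hWU
  have hu : IsUnit (X.presheaf.map (homOfLE hO'U).op a) := by
    refine RingedSpace.isUnit_of_isUnit_germ X.toRingedSpace O' _ fun y hy => ?_
    show IsUnit (X.presheaf.germ O' y hy _)
    rw [TopCat.Presheaf.germ_res_apply]
    exact (X.mem_basicOpen a y (hO'U hy)).1 hy.2
  refine ⟨O', hzO', homOfLE hO'V, (↑hu.unit⁻¹ : Γ(X, O')) • G.presheaf.map (homOfLE hO'W).op (ψ n), fun y => ?_⟩
  have hy1 : X.presheaf.germ U y.1 (hO'U y.2) a • F.presheaf.germ V y.1 (hO'V y.2) m =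
      F.presheaf.germ U y.1 (hO'U y.2) n := by
    have e := congrArg (F.presheaf.germ O y.1 y.2.1) hO
    rw [TopCat.Presheaf.germ_res_apply, TopCat.Presheaf.germ_res_apply, AssPts.germ_smul',
      TopCat.Presheaf.germ_res_apply, TopCat.Presheaf.germ_res_apply] at e
    exact e
  have hk := congrArg (f ⟨y.1, hO'W y.2⟩) hy1
  rw [map_smul, hf] at hk
  rw [AssPts.germ_smul', TopCat.Presheaf.germ_res_apply, ← hk,
    ← TopCat.Presheaf.germ_res_apply X.presheaf (homOfLE hO'U) y.1 y.2 a, smul_smul, ← map_mul,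
    IsUnit.val_inv_mul, map_one, one_smul]

/-- Let X be a scheme, F and G O_X-modules with F of finite presentation, and x a point of X. Then the
canonical O_{X,x}-linear map 𝓗om_{O_X}(F, G)_x → Hom_{O_{X,x}}(F_x, G_x), which sends the germ at x
of a section of the sheaf Hom to the stalk map it induces at x, is bijective. (The source states
this for modules on an arbitrary ringed space; it is stated here for schemes, where the sheaf Hom of
the statement is available.) -/
theorem result (X : Scheme.{u}) (F G : X.Modules) (hF : CohB1.IsFP F) (x : X) :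
    Function.Bijective (RefHull.evalStalk F G x) := by
  classical
  haveI : SheafOfModules.IsFinitePresentation (R := X.ringCatSheaf) F := hF
  have hFq : F.IsQuasicoherent := inferInstance
  refine ⟨S16484.result X F G inferInstance x, fun φ => ?_⟩
  obtain ⟨U, hU, hxU, -⟩ := Opens.isBasis_iff_nbhd.1 X.isBasis_affineOpens (U := ⊤) (Opens.mem_top x)
  haveI := FinLocFreeSections.finitePresentation_sections (F := F) hF hU
  obtain ⟨k, K, e, ⟨t, ht⟩⟩ := Module.FinitePresentation.exists_fin Γ(X, U) Γ(F, U)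
  let p : (Fin k → Γ(X, U)) →ₗ[Γ(X, U)] Γ(F, U) := e.symm.toLinearMap ∘ₗ K.mkQ
  choose V hxV n hn using fun j : Fin k =>
    TopCat.Presheaf.exists_germ_eq G.presheaf (φ (F.presheaf.germ U x hxU (p (Pi.single j 1))))
  let W₀ : X.Opens := U ⊓ Finset.univ.inf V
  have hxW₀ : x ∈ W₀ := ⟨hxU, Finset.inf_induction (s := Finset.univ) (f := V) (p := fun B => x ∈ B)
    (Opens.mem_top x) (fun a ha b hb => ⟨ha, hb⟩) fun j _ => hxV j⟩
  have hWV : ∀ j, W₀ ≤ V j := fun j => inf_le_right.trans (Finset.inf_le (Finset.mem_univ j))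
  let χ : ∀ W : X.Opens, W ≤ W₀ → (Fin k → Γ(X, U)) → Γ(G, W) := fun W h c =>
    ∑ j, X.presheaf.map (homOfLE (h.trans inf_le_left)).op (c j) • G.presheaf.map (homOfLE (h.trans (hWV j))).op (n j)
  have hg : ∀ (W : X.Opens) (h : W ≤ W₀) (y : X) (hy : y ∈ W) c, G.presheaf.germ W y hy (χ W h c) =
      ∑ j, X.presheaf.germ U y (h hy).1 (c j) • G.presheaf.germ (V j) y (hWV j (h hy)) (n j) := fun W h y hy c => by
    simp only [χ, map_sum, AssPts.germ_smul', TopCat.Presheaf.germ_res_apply]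
  have hx : ∀ c, ∑ j, X.presheaf.germ U x hxU (c j) • G.presheaf.germ (V j) x (hxV j) (n j) =
      φ (F.presheaf.germ U x hxU (p c)) := fun c => by
    conv_rhs => rw [pi_eq_sum_univ' c, map_sum, map_sum, map_sum]
    refine Finset.sum_congr rfl fun j _ => ?_
    rw [map_smul, AssPts.germ_smul', map_smul, hn]
  have hK : ∀ c ∈ K, p c = 0 := fun c hc => by
    simp [p, (Submodule.Quotient.mk_eq_zero K).2 hc]
  have hrel : ∀ a : t, ∃ (T : X.Opens) (_ : x ∈ T) (hT : T ≤ W₀), ∀ y (hy : y ∈ T),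
      ∑ j, X.presheaf.germ U y (hT hy).1 (a.1 j) • G.presheaf.germ (V j) y (hWV j (hT hy)) (n j) = 0 := by
    intro a
    have h0 : G.presheaf.germ W₀ x hxW₀ (χ W₀ le_rfl a.1) = G.presheaf.germ W₀ x hxW₀ 0 := by
      rw [hg W₀ le_rfl, map_zero, hx, hK _ (ht ▸ Submodule.subset_span a.2), map_zero, map_zero]
    obtain ⟨T, hxT, i₁, i₂, hT⟩ := TopCat.Presheaf.germ_eq G.presheaf x hxW₀ hxW₀ _ _ h0
    refine ⟨T, hxT, i₁.le, fun y hy => ?_⟩
    rw [← hg W₀ le_rfl y (i₁.le hy), ← TopCat.Presheaf.germ_res_apply G.presheaf i₁ y hy, hT, map_zero, map_zero]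
  choose T hxT hTle hT using hrel
  let W : X.Opens := W₀ ⊓ Finset.univ.inf T
  have hxW : x ∈ W := ⟨hxW₀, Finset.inf_induction (s := Finset.univ) (f := T) (p := fun B => x ∈ B)
    (Opens.mem_top x) (fun a ha b hb => ⟨ha, hb⟩) fun a _ => hxT a⟩
  have hW₀ : W ≤ W₀ := inf_le_left
  have hWU : W ≤ U := hW₀.trans inf_le_left
  letI : Module Γ(X, U) Γ(G, W) := Module.compHom _ (X.presheaf.map (homOfLE hWU).op).hom
  let χl : (Fin k → Γ(X, U)) →ₗ[Γ(X, U)] Γ(G, W) :=
    Fintype.linearCombination Γ(X, U) fun j => G.presheaf.map (homOfLE (hW₀.trans (hWV j))).op (n j)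
  have hχl : ∀ c, χl c = χ W hW₀ c := fun c => by
    rw [Fintype.linearCombination_apply]
    rfl
  have hker : K ≤ LinearMap.ker χl := by
    rw [← ht, Submodule.span_le]
    intro a ha
    show χl a = 0
    rw [hχl]
    refine TopCat.Presheaf.section_ext ⟨G.presheaf, G.isSheaf⟩ W _ _ fun y hy => ?_
    show G.presheaf.germ W y hy _ = G.presheaf.germ W y hy _
    rw [hg W hW₀, map_zero]
    exact hT ⟨a, ha⟩ y ((Finset.inf_le (Finset.mem_univ _) : Finset.univ.inf T ≤ T ⟨a, ha⟩) hy.2)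
  let ψl : Γ(F, U) →ₗ[Γ(X, U)] Γ(G, W) := (K.liftQ χl hker) ∘ₗ e.toLinearMap
  obtain ⟨g, hgs⟩ := exists_sect (F := F) (G := G) hFq hU hWU ψl.toAddMonoidHom (fun r m => ψl.map_smul r m)
  refine ⟨(RefHull.homSh F G).presheaf.germ W x hxW g, ?_⟩
  rw [RefHull.evalStalk_germ]
  refine stalk_ext hFq hU hxU _ _ fun m => ?_
  rw [hgs x hxW m]
  obtain ⟨c, hc⟩ := K.mkQ_surjective (e m)
  have hm : p c = m := by simp [p, ← Submodule.mkQ_apply, hc]
  have hψm : ψl.toAddMonoidHom m = χ W hW₀ c := by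
    show K.liftQ χl hker (e m) = _
    rw [← hc, Submodule.mkQ_apply, Submodule.liftQ_apply, hχl]
  rw [hψm, hg W hW₀, hx, hm]

end Groth.Agent.S16485
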