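import Groth.Statements.S16490
import Groth.Agent.ReflStalk.Normal
import Groth.Agent.QCohBase.Exact

set_option autoImplicit false
universe u
open CategoryTheory CategoryTheory.Limits AlgebraicGeometry TopologicalSpace
open VBPn

namespace Groth.Agent.S16490

/-- Let X be an integral locally Noetherian scheme all of whose local rings are regular, and let 0 → F →
E → Q → 0 be a short exact sequence of coherent O_X-modules in which E is reflexive (the canonical
map E → E^** is an isomorphism) and Q is torsion-free (every stalk Q_x is a torsion-free
O_{X,x}-module). Then F is normal: for all open subsets V ⊆ U of X such that every point of U not in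
V has local ring of dimension at least 2, the restriction map F(U) → F(V) is bijective. The
published statement is for coherent analytic sheaves on a complex manifold, a sheaf being called
normal when for every open U and every analytic subset A ⊆ U of codimension at least 2 the
restriction F(U) → F(U ∖ A) is bijective; this row is its statement for coherent sheaves on a
regular integral locally Noetherian scheme, with normality phrased through open subsets V ⊆ U whose
complement in U consists of points with local ring of dimension at least 2, where the same argument
applies. -/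
theorem result (X : Scheme.{u}) [IsIntegral X] [IsLocallyNoetherian X]
    (hreg : ∀ x : X, IsRegularLocalRing (X.presheaf.stalk x)) (S : ShortComplex X.Modules) (hS : S.ShortExact)
    (hF : Coh.IsCoh S.X₁) (hE : Coh.IsCoh S.X₂) (hQ : Coh.IsCoh S.X₃)
    (hErefl : RefHull.IsReflexive S.X₂) (hQtf : TorSh.IsTorsionFree S.X₃) :
    (∀ (U V : X.Opens) (hVU : V ≤ U), (∀ x : X, x ∈ U → x ∉ V → (2 : WithBot ℕ∞) ≤ ringKrullDim (X.presheaf.stalk x)) →
        Function.Bijective (S.X₁.presheaf.map (homOfLE hVU).op)) := by
  have : RefDiv.Nrm X := ReflStalk.nrm_of_regular hreg
  obtain ⟨hEtf, hEn⟩ := ReflStalk.isNormalMod_of_isReflexive hE hErefl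
  have := hS.mono_f
  intro U V hVU hbig
  have hinjU := QCohBase.app_injective_of_mono S.f U
  have hinjV := QCohBase.app_injective_of_mono S.f V
  refine ⟨fun a b hab => hinjU ((hEn U V hVU hbig).1 ?_), fun t => ?_⟩
  · exact ((ConcreteCategory.congr_hom (S.f.mapPresheaf.naturality (homOfLE hVU).op) a).symm.trans
      ((congrArg _ hab).trans (ConcreteCategory.congr_hom (S.f.mapPresheaf.naturality (homOfLE hVU).op) b)))
  · obtain ⟨e, he⟩ := (hEn U V hVU hbig).2 (S.f.app V t)
    have hge : S.g.app U e = 0 := by
      refine ReflStalk.res_injective hQ hQtf hVU hbig ?_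
      rw [map_zero]
      refine ((ConcreteCategory.congr_hom (S.g.mapPresheaf.naturality (homOfLE hVU).op) e).symm.trans ?_)
      change S.g.app V (S.X₂.presheaf.map (homOfLE hVU).op e) = 0
      rw [he]
      have h0 : (S.f ≫ S.g).app V t = 0 := by rw [S.zero]; rfl
      exact h0
    obtain ⟨s, hs⟩ := QCohBase.sections_exact_left (T := S) hS.exact e hge
    refine ⟨s, hinjV ?_⟩
    exact ((ConcreteCategory.congr_hom (S.f.mapPresheaf.naturality (homOfLE hVU).op) s).trans
      ((congrArg _ hs).trans he))

end Groth.Agent.S16490
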