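import Groth.Statements.S16498
import Mathlib

set_option autoImplicit false
universe u
open Curves

namespace Groth.Agent.S16498

/-- Let k be a field of odd characteristic p, g ≤ p a natural number, f ∈ k[x] of degree at most 2g + 2,
and α ∈ k. Write f^((p-1)/2) = Σ_l c_l x^l and f(x + α)^((p-1)/2) = Σ_l d_l x^l, and form the g × g
Cartier–Manin matrices (c_{ip-j}) and (d_{ip-j}), indices i, j = 1, …, g (below written with i, j
ranging over Fin g, so that the entry at (i, j) is the coefficient of x^((i+1)p-(j+1))). Then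
(d_{ip-j}) = L · (c_{ip-j}) · U with L_{i,I} = binom(I-1, i-1) α^((I-i)p) and U_{J,j} = binom(p-J,
p-j) α^(j-J); both L and U are unitriangular since a binomial coefficient vanishes when its lower
index exceeds its upper index. (The source works over a perfect field, with f separable of degree 2g
+ 2 and α ∈ k^* a root of f, hypotheses this identity does not use.) -/
theorem result (k : Type u) [Field k] (p : ℕ) [Fact p.Prime] (hp : p ≠ 2) [CharP k p]
    (g : ℕ) (hg : g ≤ p) (f : Polynomial k) (hf : f.natDegree ≤ 2 * g + 2) (α : k) :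
    (Matrix.of fun i j : Fin g =>
        ((f.comp (Polynomial.X + Polynomial.C α)) ^ ((p - 1) / 2)).coeff (((i : ℕ) + 1) * p - ((j : ℕ) + 1))) =
      (Matrix.of fun i I : Fin g => (((I : ℕ).choose (i : ℕ) : ℕ) : k) * α ^ (((I : ℕ) - (i : ℕ)) * p)) *
        (Matrix.of fun i j : Fin g => (f ^ ((p - 1) / 2)).coeff (((i : ℕ) + 1) * p - ((j : ℕ) + 1))) *
        (Matrix.of fun J j : Fin g => (((p - ((J : ℕ) + 1)).choose (p - ((j : ℕ) + 1)) : ℕ) : k) * α ^ ((j : ℕ) - (J : ℕ))) := by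
  classical
  obtain ⟨F, hF⟩ : ∃ F, F = f ^ ((p - 1) / 2) := ⟨_, rfl⟩
  have hp2 : 2 ≤ p := (Fact.out : p.Prime).two_le
  obtain ⟨h', hh'⟩ := (Fact.out : p.Prime).odd_of_ne_two hp
  subst hh'
  have hpow : (2 * h' + 1 - 1) / 2 = h' := by omega
  rw [hpow] at hF ⊢
  have hdeg : F.natDegree ≤ (g + 1) * (2 * h') := by
    rw [hF]
    refine Polynomial.natDegree_pow_le.trans ?_
    calc h' * f.natDegree ≤ h' * (2 * g + 2) := Nat.mul_le_mul_left _ hf
      _ = _ := by ring
  rw [← Polynomial.pow_comp, ← hF]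
  have hcomp : ∀ t N, F.natDegree < N → (F.comp (Polynomial.X + Polynomial.C α)).coeff t =
      ∑ e ∈ Finset.range N, ((e.choose t : ℕ) : k) * α ^ (e - t) * F.coeff e := by
    intro t N hN
    conv_lhs => rw [F.as_sum_range' N hN]
    rw [Polynomial.sum_comp, Polynomial.finsetSum_coeff]
    refine Finset.sum_congr rfl fun e _ => ?_
    rw [Polynomial.monomial_comp, Polynomial.coeff_C_mul, Polynomial.coeff_X_add_C_pow]
    ring
  ext i j
  obtain ⟨N, hN⟩ : ∃ N, N = g * (2 * h' + 1) + (g + 1) * (2 * h') + 1 := ⟨_, rfl⟩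
  simp only [Matrix.of_apply, Matrix.mul_apply, Finset.sum_mul]
  rw [hcomp _ N (by omega), Finset.sum_comm, ← Fintype.sum_prod_type']
  symm
  refine Finset.sum_of_injOn (fun x : Fin g × Fin g => ((x.1 : ℕ) + 1) * (2 * h' + 1) - ((x.2 : ℕ) + 1)) ?_ ?_ ?_ ?_
  · rintro ⟨I, J⟩ _ ⟨I', J'⟩ _ hIJ
    simp only at hIJ
    have e : ∀ (I J : Fin g), ((I : ℕ) + 1) * (2 * h' + 1) - ((J : ℕ) + 1) = (2 * h' - J) + (2 * h' + 1) * I := by
      intro I J
      have h1 := J.isLt
      have h2 : ((I : ℕ) + 1) * (2 * h' + 1) = (2 * h' + 1) * I + (2 * h' + 1) := by ring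
      omega
    rw [e, e] at hIJ
    have h1 := congrArg (· % (2 * h' + 1)) hIJ
    have h2 := congrArg (· / (2 * h' + 1)) hIJ
    simp only [Nat.add_mul_mod_self_left, Nat.add_mul_div_left _ _ (show 0 < 2 * h' + 1 by omega)] at h1 h2
    have := J.isLt
    have := J'.isLt
    rw [Nat.mod_eq_of_lt (show 2 * h' - (J : ℕ) < 2 * h' + 1 by omega), Nat.mod_eq_of_lt (show 2 * h' - (J' : ℕ) < 2 * h' + 1 by omega)] at h1
    rw [Nat.div_eq_of_lt (show 2 * h' - (J : ℕ) < 2 * h' + 1 by omega), Nat.div_eq_of_lt (show 2 * h' - (J' : ℕ) < 2 * h' + 1 by omega)] at h2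
    exact Prod.ext (Fin.ext (show (I : ℕ) = I' by omega)) (Fin.ext (show (J : ℕ) = J' by omega))
  · rintro ⟨I, J⟩ _
    simp only [Finset.coe_range, Set.mem_Iio]
    have : ((I : ℕ) + 1) * (2 * h' + 1) ≤ g * (2 * h' + 1) := Nat.mul_le_mul_right _ (by omega)
    omega
  · intro e he hne
    by_cases hFe : F.coeff e = 0
    · rw [hFe]; ring
    have heM : e ≤ (g + 1) * (2 * h') := (Polynomial.le_natDegree_of_ne_zero hFe).trans hdeg
    obtain ⟨t, ht⟩ : ∃ t, t = ((i : ℕ) + 1) * (2 * h' + 1) - ((j : ℕ) + 1) := ⟨_, rfl⟩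
    rw [← ht]
    have hjlt := j.isLt
    have ht' : t = (2 * h' - j) + (2 * h' + 1) * i := by
      have h2 : ((i : ℕ) + 1) * (2 * h' + 1) = (2 * h' + 1) * i + (2 * h' + 1) := by ring
      omega
    have hl : ((e.choose t : ℕ) : k) = (((e % (2 * h' + 1)).choose (t % (2 * h' + 1)) * (e / (2 * h' + 1)).choose (t / (2 * h' + 1)) : ℕ) : k) :=
      (CharP.natCast_eq_natCast k (2 * h' + 1)).2 Choose.choose_modEq_choose_mod_mul_choose_div_nat
    by_cases hr : e % (2 * h' + 1) < t % (2 * h' + 1)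
    · rw [hl, Nat.choose_eq_zero_of_lt hr]; simp
    exfalso
    apply hne
    push Not at hr
    rw [ht', Nat.add_mul_mod_self_left, Nat.mod_eq_of_lt (show 2 * h' - (j : ℕ) < 2 * h' + 1 by omega)] at hr
    have hdm := Nat.mod_add_div e (2 * h' + 1)
    have hmlt := Nat.mod_lt e (show 0 < 2 * h' + 1 by omega)
    have hq : e / (2 * h' + 1) < g := by
      by_contra hq
      push Not at hq
      have := Nat.mul_le_mul_left (2 * h' + 1) hq
      have h3 : (2 * h' + 1) * g = g * (2 * h') + g := by ring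
      have h4 : (g + 1) * (2 * h') = g * (2 * h') + 2 * h' := by ring
      omega
    refine ⟨(⟨e / (2 * h' + 1), hq⟩, ⟨2 * h' - e % (2 * h' + 1), by omega⟩), Finset.mem_coe.2 (Finset.mem_univ _), ?_⟩
    simp only
    have h2 : (e / (2 * h' + 1) + 1) * (2 * h' + 1) = (2 * h' + 1) * (e / (2 * h' + 1)) + (2 * h' + 1) := by ring
    omega
  · rintro ⟨I, J⟩ _
    simp only
    have hjlt := j.isLt
    have hJlt := J.isLt
    obtain ⟨e, he⟩ : ∃ e, e = ((I : ℕ) + 1) * (2 * h' + 1) - ((J : ℕ) + 1) := ⟨_, rfl⟩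
    obtain ⟨t, ht⟩ : ∃ t, t = ((i : ℕ) + 1) * (2 * h' + 1) - ((j : ℕ) + 1) := ⟨_, rfl⟩
    rw [← he, ← ht]
    have he' : e = (2 * h' - J) + (2 * h' + 1) * I := by
      have h2 : ((I : ℕ) + 1) * (2 * h' + 1) = (2 * h' + 1) * I + (2 * h' + 1) := by ring
      omega
    have ht' : t = (2 * h' - j) + (2 * h' + 1) * i := by
      have h2 : ((i : ℕ) + 1) * (2 * h' + 1) = (2 * h' + 1) * i + (2 * h' + 1) := by ring
      omega
    have hl : ((e.choose t : ℕ) : k) = ((((2 * h' - (J : ℕ)).choose (2 * h' - (j : ℕ))) * ((I : ℕ).choose (i : ℕ)) : ℕ) : k) := by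
      rw [(CharP.natCast_eq_natCast k (2 * h' + 1)).2 (Choose.choose_modEq_choose_mod_mul_choose_div_nat (n := e) (k := t)),
        he', ht', Nat.add_mul_mod_self_left, Nat.add_mul_mod_self_left, Nat.mod_eq_of_lt (show 2 * h' - (J : ℕ) < 2 * h' + 1 by omega), Nat.mod_eq_of_lt (show 2 * h' - (j : ℕ) < 2 * h' + 1 by omega),
        Nat.add_mul_div_left _ _ (by omega : 0 < 2 * h' + 1), Nat.add_mul_div_left _ _ (by omega : 0 < 2 * h' + 1),
        Nat.div_eq_of_lt (show 2 * h' - (J : ℕ) < 2 * h' + 1 by omega), Nat.div_eq_of_lt (show 2 * h' - (j : ℕ) < 2 * h' + 1 by omega), zero_add, zero_add]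
    rw [hl, show 2 * h' + 1 - ((J : ℕ) + 1) = 2 * h' - J by omega, show 2 * h' + 1 - ((j : ℕ) + 1) = 2 * h' - j by omega]
    push_cast
    by_cases h1 : (I : ℕ) < i
    · rw [Nat.choose_eq_zero_of_lt h1]; simp
    by_cases h2 : (2 * h' - (J : ℕ)) < 2 * h' - j
    · rw [Nat.choose_eq_zero_of_lt h2]; simp
    obtain ⟨D, hD⟩ := Nat.exists_eq_add_of_le (show (i : ℕ) ≤ I by omega)
    rw [show e - t = ((I : ℕ) - i) * (2 * h' + 1) + ((j : ℕ) - J) by
      rw [hD, Nat.add_sub_cancel_left]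
      have : (2 * h' + 1) * ((i : ℕ) + D) = (2 * h' + 1) * i + D * (2 * h' + 1) := by ring
      rw [he', ht', hD]
      omega]
    rw [pow_add]
    ring

end Groth.Agent.S16498
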