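import Groth.Statements.S16500
import Mathlib

set_option autoImplicit false
universe u
open Curves

namespace Groth.Agent.S16500

/-- Let k be a field of odd characteristic p, g ≤ p a natural number and f ∈ k[x] of degree at most 2g +
2. Let F be f with its coefficients reversed in degrees 0, …, 2g + 2, i.e. F(X) = X^(2g+2) f(1/X)
(Mathlib's reflect (2g+2) f), and write f^((p-1)/2) = Σ_l c_l x^l and F^((p-1)/2) = Σ_l C_l X^l.
Then C_{ip-j} = c_{(g+1-i)p-(g+1-j)} for all i, j = 1, …, g; that is, the g × g Cartier–Manin matrix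
of F is that of f with the order of both rows and columns reversed (below the indices run over Fin
g, the entry at (i, j) being the coefficient of degree (i+1)p-(j+1), and reversal is Fin.rev). In
particular the two matrices have the same determinant. (The source applies this to f with f(0) = 0,
separable of degree 2g + 2 over a perfect field, so that F has odd degree 2g + 1; the identity uses
none of that.) -/
theorem result (k : Type u) [Field k] (p : ℕ) [Fact p.Prime] (hp : p ≠ 2) [CharP k p]
    (g : ℕ) (hg : g ≤ p) (f : Polynomial k) (hf : f.natDegree ≤ 2 * g + 2) :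
    (Matrix.of fun i j : Fin g =>
        ((Polynomial.reflect (2 * g + 2) f) ^ ((p - 1) / 2)).coeff (((i : ℕ) + 1) * p - ((j : ℕ) + 1))) =
      Matrix.of fun i j : Fin g =>
        (f ^ ((p - 1) / 2)).coeff (((Fin.rev i : ℕ) + 1) * p - ((Fin.rev j : ℕ) + 1)) := by
  classical
  have key : ∀ n : ℕ, (Polynomial.reflect (2 * g + 2) f) ^ n = Polynomial.reflect ((2 * g + 2) * n) (f ^ n) := by
    intro n
    induction n with
    | zero => simp
    | succ n ih =>
      rw [pow_succ, pow_succ, ih, ← Polynomial.reflect_mul _ _ (F := (2 * g + 2) * n) (G := 2 * g + 2) (Polynomial.natDegree_pow_le.trans (by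
        rw [mul_comm _ n]; exact Nat.mul_le_mul_left n hf)) hf, Nat.mul_succ]
  ext i j
  simp only [Matrix.of_apply, key, Polynomial.coeff_reflect]
  congr 1
  obtain ⟨h, rfl⟩ : ∃ h, p = 2 * h + 1 := by
    rcases (Fact.out : p.Prime).eq_two_or_odd' with h | h
    · exact absurd h hp
    · exact h
  rw [show (2 * h + 1 - 1) / 2 = h by omega]
  have hi := i.2
  have hj := j.2
  simp only [Fin.val_rev]
  obtain ⟨a, ha⟩ : ∃ a, g = (i : ℕ) + 1 + a := ⟨g - (i + 1), by omega⟩
  rw [show g - ((i : ℕ) + 1) = a by omega]
  have e1 : (2 * g + 2) * h = ((i : ℕ) + 1) * (2 * h) + (a + 1) * (2 * h) := by linear_combination (2 * h) * ha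
  have e2 : ((i : ℕ) + 1) * (2 * h + 1) = ((i : ℕ) + 1) * (2 * h) + ((i : ℕ) + 1) := by ring
  have e3 : (a + 1) * (2 * h + 1) = (a + 1) * (2 * h) + (a + 1) := by ring
  have b1 : g ≤ ((i : ℕ) + 1) * (2 * h + 1) + 0 := hg.trans (Nat.le_mul_of_pos_left _ (by omega))
  have b2 : g ≤ (a + 1) * (2 * h + 1) := hg.trans (Nat.le_mul_of_pos_left _ (by omega))
  rw [Polynomial.revAt_le (by omega)]
  omega

end Groth.Agent.S16500
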