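import Groth.Statements.S16515
import Mathlib

set_option autoImplicit false
universe u
open RatCurv

namespace Groth.Agent.S16515

/-- If C ⊂ P^n is a rational normal curve and P ⊂ P^n a linear r-plane with (r + 2) k ≥ (r + 1)(n + 1),
then P is contained in a k-secant (k − 1)-plane of C, i.e. in the span of some effective divisor of
degree k on C. Stated through the identification of the linear forms on P^n with the binary forms of
degree n on C ≅ P^1: the r-plane P is recorded by the space U of degree-n binary forms vanishing on
it (of codimension r + 1), an effective divisor of degree k on C by a nonzero binary form g of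
degree k, and P ⊂ span(div g) says that every degree-n form divisible by g lies in U. Here k ≤ n,
and the ground field is arbitrary (the source works over the complex numbers). -/
theorem result (K : Type u) [Field K] (n r k : ℕ)
    (hkn : k ≤ n) (hineq : (r + 1) * (n + 1) ≤ (r + 2) * k)
    (U : Submodule K (MvPolynomial (Fin 2) K))
    (hU : U ≤ MvPolynomial.homogeneousSubmodule (Fin 2) K n)
    (hcodim : Module.finrank K ↥U + (r + 1) = n + 1) :
    ∃ g ∈ MvPolynomial.homogeneousSubmodule (Fin 2) K k, g ≠ 0 ∧
      ∀ h ∈ MvPolynomial.homogeneousSubmodule (Fin 2) K (n - k), g * h ∈ U := by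
  classical
  let mon : ∀ m : ℕ, Fin (m + 1) → MvPolynomial (Fin 2) K := fun m i => MvPolynomial.monomial (Finsupp.single 0 (i : ℕ) + Finsupp.single 1 (m - i)) 1
  have hli : ∀ m, LinearIndependent K (mon m) := fun m => by
    have : mon m = (MvPolynomial.basisMonomials (Fin 2) K) ∘ (fun i : Fin (m + 1) => Finsupp.single 0 (i : ℕ) + Finsupp.single 1 (m - i)) := by
      funext i; simp [mon, MvPolynomial.coe_basisMonomials]
    rw [this]
    refine (MvPolynomial.basisMonomials (Fin 2) K).linearIndependent.comp _ fun i l h => Fin.ext ?_
    simpa using DFunLike.congr_fun h 0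
  have hspan : ∀ m, MvPolynomial.homogeneousSubmodule (Fin 2) K m = Submodule.span K (Set.range (mon m)) := fun m => by
    apply le_antisymm
    · intro f hf
      rw [f.as_sum]
      refine Submodule.sum_mem _ fun d hd => ?_
      rw [← mul_one (MvPolynomial.coeff d f), ← smul_eq_mul, ← MvPolynomial.smul_monomial]
      refine Submodule.smul_mem _ _ (Submodule.subset_span ?_)
      have h := hf (MvPolynomial.mem_support_iff.1 hd)
      rw [Pi.one_def, ← Finsupp.degree_eq_weight_one, Finsupp.degree_eq_sum, Fin.sum_univ_two] at h
      refine ⟨⟨d 0, by omega⟩, ?_⟩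
      simp only [mon]
      congr 2
      ext i
      fin_cases i <;> simp <;> omega
    · rw [Submodule.span_le]
      rintro _ ⟨i, rfl⟩
      refine MvPolynomial.isHomogeneous_monomial _ ?_
      have := i.isLt
      rw [map_add, Finsupp.degree_single, Finsupp.degree_single]
      omega
  have hrank : ∀ m, Module.finrank K (MvPolynomial.homogeneousSubmodule (Fin 2) K m) = m + 1 := fun m => by
    rw [hspan, finrank_span_eq_card (hli m), Fintype.card_fin]
  haveI hfd : ∀ m, FiniteDimensional K (MvPolynomial.homogeneousSubmodule (Fin 2) K m) := fun m =>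
    Module.finite_of_finrank_pos (by rw [hrank]; omega)
  let U' : Submodule K (MvPolynomial.homogeneousSubmodule (Fin 2) K n) := U.comap (Submodule.subtype _)
  let Φ : MvPolynomial.homogeneousSubmodule (Fin 2) K k →ₗ[K] (MvPolynomial.homogeneousSubmodule (Fin 2) K (n - k) →ₗ[K] (MvPolynomial.homogeneousSubmodule (Fin 2) K n ⧸ U')) :=
    LinearMap.mk₂ K (fun g h => Submodule.Quotient.mk ⟨(g : MvPolynomial (Fin 2) K) * h, by
        have := MvPolynomial.IsHomogeneous.mul g.2 h.2
        rwa [Nat.add_sub_cancel' hkn] at this⟩)
      (fun a b c => by rw [← Submodule.Quotient.mk_add]; congr 1; exact Subtype.ext (add_mul _ _ _))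
      (fun t a c => by rw [← Submodule.Quotient.mk_smul]; congr 1; exact Subtype.ext (smul_mul_assoc _ _ _))
      (fun a b c => by rw [← Submodule.Quotient.mk_add]; congr 1; exact Subtype.ext (mul_add _ _ _))
      (fun t a c => by rw [← Submodule.Quotient.mk_smul]; congr 1; exact Subtype.ext (mul_smul_comm _ _ _))
  have hq : Module.finrank K (MvPolynomial.homogeneousSubmodule (Fin 2) K n ⧸ U') = r + 1 := by
    have h1 := Submodule.finrank_quotient_add_finrank U'
    rw [hrank, (Submodule.comapSubtypeEquivOfLe hU).finrank_eq] at h1
    omega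
  have hlt : ¬ Function.Injective Φ := fun hi => by
    have h1 := LinearMap.finrank_le_finrank_of_injective hi
    rw [Module.finrank_linearMap, hrank, hrank, hq] at h1
    obtain ⟨j, rfl⟩ : ∃ j, n = k + j := ⟨n - k, by omega⟩
    rw [Nat.add_sub_cancel_left] at h1
    nlinarith
  rw [injective_iff_map_eq_zero] at hlt
  push Not at hlt
  obtain ⟨g, hg, hg0⟩ := hlt
  refine ⟨g, g.2, fun h => hg0 (Subtype.ext h), fun h hh => ?_⟩
  have := LinearMap.congr_fun hg ⟨h, hh⟩
  simpa [Φ, U', Submodule.Quotient.mk_eq_zero] using this

end Groth.Agent.S16515
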