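import Groth.Statements.S16519
import Mathlib.Algebra.Order.Chebyshev
import Mathlib.Algebra.Order.Interval.Finset.Basic
import Mathlib.Data.Int.Interval
import Mathlib.Data.Set.Card
import Mathlib.Tactic
-- import your own Groth.Agent.* helpers here

set_option autoImplicit false
open CubicSurf

namespace Groth.Agent.S16519
theorem bound (a : ℤ) (b : Fin 6 → ℤ) (h1 : 3 * a - (Finset.univ.sum fun i => b i) = 3)
    (h2 : a ^ 2 - (Finset.univ.sum fun i => b i ^ 2) = 1) :
    (1 ≤ a ∧ a ≤ 5) ∧ ∀ i, 0 ≤ b i ∧ b i ≤ 2 := by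
  have hcs := sq_sum_le_card_mul_sum_sq (s := (Finset.univ : Finset (Fin 6))) (f := b)
  have e1 : (Finset.univ.sum fun i => b i) = 3 * a - 3 := by linarith
  have e2 : (Finset.univ.sum fun i => b i ^ 2) = a ^ 2 - 1 := by linarith
  rw [e1, e2] at hcs
  simp only [Finset.card_univ, Fintype.card_fin, Nat.cast_ofNat] at hcs
  have ha : 1 ≤ a ∧ a ≤ 5 := by constructor <;> nlinarith
  refine ⟨ha, fun i => ?_⟩
  have h5 := sq_sum_le_card_mul_sum_sq (s := (Finset.univ : Finset (Fin 6)).erase i) (f := b)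
  rw [Finset.sum_erase_eq_sub (Finset.mem_univ i), Finset.sum_erase_eq_sub (Finset.mem_univ i), e1, e2,
    Finset.card_erase_of_mem (Finset.mem_univ i), Finset.card_univ, Fintype.card_fin] at h5
  norm_num at h5
  obtain ⟨h6, h7⟩ := ha
  interval_cases a <;> constructor <;> nlinarith

noncomputable def box : Finset (ℤ × (Fin 6 → ℤ)) :=
  ((Finset.Icc (1:ℤ) 5) ×ˢ Fintype.piFinset fun _ : Fin 6 => Finset.Icc (0:ℤ) 2)


/-- On a smooth cubic surface there are exactly 72 divisor classes L with L² = 1 and L · K = −3. Stated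
in the lattice ℤ^{1,6} with basis l, e_1, …, e_6 (l² = 1, e_i² = −1, K = −3l + Σ e_i): the integer
vectors (a, b) ∈ ℤ × ℤ^6, standing for a·l − Σ b_i e_i, with 3a − Σ b_i = 3 and a² − Σ b_i² = 1 form
a set of exactly 72 elements. -/
theorem result :
    {p : ℤ × (Fin 6 → ℤ) | 3 * p.1 - (Finset.univ.sum fun i => p.2 i) = 3 ∧
        p.1 ^ 2 - (Finset.univ.sum fun i => p.2 i ^ 2) = 1}.ncard = 72 := by
  have : {p : ℤ × (Fin 6 → ℤ) | 3 * p.1 - (Finset.univ.sum fun i => p.2 i) = 3 ∧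
        p.1 ^ 2 - (Finset.univ.sum fun i => p.2 i ^ 2) = 1} = ↑(box.filter (fun p => 3 * p.1 - (Finset.univ.sum fun i => p.2 i) = 3 ∧
        p.1 ^ 2 - (Finset.univ.sum fun i => p.2 i ^ 2) = 1)) := by
    ext p
    simp only [Set.mem_setOf_eq, Finset.coe_filter, box, Finset.mem_product, Finset.mem_Icc, Fintype.mem_piFinset]
    exact ⟨fun h => ⟨bound p.1 p.2 h.1 h.2, h⟩, fun h => h.2⟩
  rw [this, Set.ncard_coe_finset]
  decide +kernel

end Groth.Agent.S16519
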