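import Groth.Statements.S1652
import Groth.Agent.CurveDeg.Curve
import Groth.Agent.CurveDeg.Tensor
import Groth.Agent.CurveDeg.DegTensor

set_option autoImplicit false
universe u
open CategoryTheory CategoryTheory.Limits AlgebraicGeometry
open Variety

namespace Groth.Agent.S1652

/-- On a proper curve over a field, if L and M are invertible modules with L ⊗ M ≅ O_X and both L and M
have a nonzero global section, then L is isomorphic to the structure sheaf. -/
theorem result (k : Type u) [Field k] (X : Scheme.{u}) [X.Over (Spec (CommRingCat.of k))]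
    [IsIntegral X] [IsProper (X ↘ (Spec (CommRingCat.of k)))] (hdim : topologicalKrullDim X = 1)
    (L M : X.Modules) (hL : PicF.IsInvertible L) (hM : PicF.IsInvertible M) (hLM : ClSub.IsInverseOf L M)
    (s : Coh.structureModule X ⟶ L) (hs : s ≠ 0) (t : Coh.structureModule X ⟶ M) (ht : t ≠ 0) :
    Nonempty (L ≅ Coh.structureModule X) := by
  obtain ⟨e⟩ := hLM
  have h := Groth.Agent.CurveDeg.deg_tensor_locFree (k := k) hdim.le
    (Groth.Agent.TensorMod.isFinLocFreeOfRank_one hL) (Groth.Agent.TensorMod.isFinLocFreeOfRank_one hM)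
  rw [Groth.Agent.CurveDeg.deg_congr (k := k) e, show Curv2.deg k X (Coh.structureModule X) (1 * 1) = 0 by simp [Curv2.deg]] at h
  have := Groth.Agent.CurveDeg.deg_nonneg (k := k) hdim.le hM ht
  exact Groth.Agent.CurveDeg.nonempty_iso_of_deg_nonpos (k := k) hdim.le hL hs (by push_cast at h; linarith)

end Groth.Agent.S1652
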