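import Groth.Statements.S16541
import Mathlib

set_option autoImplicit false
universe u v
open CAlg

namespace Groth.Agent.S16541

universe w x y
open scoped TensorProduct
theorem witt_equalizer (p : ℕ) [Fact p.Prime] (S R : Type u) [CommRing S] [CommRing R] [Algebra S R]
    [Module.FaithfullyFlat S R] (z : WittVector p R)
    (h : WittVector.map (Algebra.TensorProduct.includeLeftRingHom : R →+* TensorProduct S R R) z =
      WittVector.map ((Algebra.TensorProduct.includeRight : R →ₐ[S] TensorProduct S R R) : R →+* TensorProduct S R R) z) :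
    z ∈ Set.range (WittVector.map (p := p) (algebraMap S R)) := by
  have heq := Algebra.IsEffective.eqLocus_includeLeft_includeRight (Algebra.IsEffective.of_faithfullyFlat S R)
  have hi : ∀ i, z.coeff i ∈ Set.range (algebraMap S R) := fun i => by
    rw [← heq]
    have := congrArg (fun t => t.coeff i) h
    simp only [WittVector.map_coeff] at this
    exact this
  choose c hc using hi
  exact ⟨WittVector.mk p c, by ext i; rw [WittVector.map_coeff, WittVector.coeff_mk, hc]⟩

theorem bc_equalizer {A : Type w} {B : Type x} {C : Type x} [CommRing A] [CommRing B] [CommRing C]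
    (g : A →+* B) (h₁ h₂ : B →+* C) (e : h₁.comp g = h₂.comp g) (hg : Function.Injective g)
    (heq : ∀ b, h₁ b = h₂ b → b ∈ Set.range g) (M : Type y) [AddCommGroup M] [Module A M] [Module.Flat A M] :
    Function.Injective (Dieu.BC.ι g M) ∧
      ∀ z : Dieu.BC g M, (Dieu.BC.castHom e (Dieu.BC.push g h₁ z) = Dieu.BC.push g h₂ z ↔
          z ∈ Set.range (Dieu.BC.ι g M)) := by
  let a : A →ₗ[A] Dieu.Res g :=
    { toFun := fun x => Dieu.Res.mk g (g x)
      map_add' := fun x y => by rw [map_add]; rfl
      map_smul' := fun c x => by apply Dieu.Res.ext; simp [smul_eq_mul] }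
  let δ : Dieu.Res g →ₗ[A] Dieu.Res (h₂.comp g) :=
    { toFun := fun t => Dieu.Res.mk _ (h₁ t.val - h₂ t.val)
      map_add' := fun x y => by apply Dieu.Res.ext; simp only [Dieu.Res.val_add, Dieu.Res.val_mk, map_add]; ring
      map_smul' := fun c x => by
        apply Dieu.Res.ext
        have hc : h₁ (g c) = h₂ (g c) := RingHom.congr_fun e c
        simp only [Dieu.Res.val_smul, Dieu.Res.val_mk, RingHom.id_apply, map_mul, RingHom.comp_apply, hc]; ring }
  have hex : Function.Exact a δ := by
    intro t
    constructor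
    · intro ht
      obtain ⟨c, hc⟩ := heq t.val (sub_eq_zero.mp (congrArg (fun s : Dieu.Res (h₂.comp g) => s.val) ht))
      exact ⟨c, Dieu.Res.ext (g := g) hc⟩
    · rintro ⟨c, rfl⟩
      exact Dieu.Res.ext (g := h₂.comp g) (sub_eq_zero.mpr (RingHom.congr_fun e c))
  have hι : ∀ m : M, Dieu.BC.ι g M m = a.rTensor M ((TensorProduct.lid A M).symm m) := fun m => by
    rw [TensorProduct.lid_symm_apply, LinearMap.rTensor_tmul]
    show Dieu.Res.mk g 1 ⊗ₜ[A] m = Dieu.Res.mk g (g 1) ⊗ₜ[A] m
    rw [map_one]
  let δ' : Dieu.BC g M → Dieu.BC (h₂.comp g) M := fun z => δ.rTensor M z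
  have hadd : ∀ z₁ z₂ : Dieu.BC g M, δ' (z₁ + z₂) = δ' z₁ + δ' z₂ := fun z₁ z₂ => map_add (δ.rTensor M) z₁ z₂
  have hzero : δ' 0 = 0 := map_zero (δ.rTensor M)
  have hd : ∀ z : Dieu.BC g M, δ' z =
      Dieu.BC.castHom e (Dieu.BC.push g h₁ z) - Dieu.BC.push g h₂ z := by
    intro z
    induction z using Dieu.BC.induction_on g with
    | zero => rw [hzero]; simp only [map_zero, sub_zero]
    | tmul b x =>
      rw [Dieu.BC.push_tmul, Dieu.BC.push_tmul, Dieu.BC.castHom_tmul, eq_sub_iff_add_eq]
      show Dieu.BC.tmul (h₂.comp g) (h₁ b - h₂ b) x + _ = _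
      rw [← Dieu.BC.add_tmul, sub_add_cancel]
    | add z₁ z₂ h1 h2 =>
      rw [hadd, h1, h2]; simp only [map_add]; exact sub_add_sub_comm _ _ _ _
  refine ⟨fun m m' hm => ?_, fun z => ?_⟩
  · rw [hι, hι] at hm
    exact (TensorProduct.lid A M).symm.injective
      (Module.Flat.rTensor_preserves_injective_linearMap a (fun x y hxy => hg (congrArg Dieu.Res.val hxy)) hm)
  · rw [← sub_eq_zero, ← hd]
    refine (Module.Flat.rTensor_exact M hex z).trans ⟨?_, ?_⟩
    · rintro ⟨w, rfl⟩
      exact ⟨TensorProduct.lid A M w, by rw [hι, LinearEquiv.symm_apply_apply]⟩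
    · rintro ⟨m, rfl⟩
      exact ⟨_, (hι m).symm⟩

/-- Let p be a prime, S → R a faithfully flat homomorphism of commutative rings and M a flat
W(S)-module; write ι₁, ι₂ : R → R ⊗_S R for the two coprojections, M_R = W(R) ⊗_{W(S)} M and M_{R ⊗
R} = W(R ⊗_S R) ⊗_{W(S)} M for the scalar extensions along W(S) → W(R) and W(S) → W(R ⊗_S R). Then 0
→ M → M_R ⇉ M_{R ⊗ R} is exact: the map x ↦ 1 ⊗ x from M to M_R is injective, and an element of M_R
has the same image under the two maps w ⊗ x ↦ W(ι₁)(w) ⊗ x and w ⊗ x ↦ W(ι₂)(w) ⊗ x exactly when it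
is of the form 1 ⊗ x. The hypothesis e records that the two composite ring maps W(S) → W(R) → W(R
⊗_S R) agree (both coprojections are S-algebra maps); it serves to identify the two targets. -/
theorem result (p : ℕ) [Fact p.Prime]
    (S R : Type u) [CommRing S] [CommRing R] [Algebra S R] [Module.FaithfullyFlat S R]
    (M : Type v) [AddCommGroup M] [Module (WittVector p S) M] [Module.Flat (WittVector p S) M]
    (e : (WittVector.map (Algebra.TensorProduct.includeLeftRingHom : R →+* TensorProduct S R R) : WittVector p R →+* WittVector p (TensorProduct S R R)).comp (WittVector.map (algebraMap S R) : WittVector p S →+* WittVector p R) = (WittVector.map ((Algebra.TensorProduct.includeRight : R →ₐ[S] TensorProduct S R R) : R →+* TensorProduct S R R) : WittVector p R →+* WittVector p (TensorProduct S R R)).comp (WittVector.map (algebraMap S R) : WittVector p S →+* WittVector p R)) :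
    Function.Injective (Dieu.BC.ι (WittVector.map (algebraMap S R) : WittVector p S →+* WittVector p R) M) ∧
      ∀ z : Dieu.BC (WittVector.map (algebraMap S R) : WittVector p S →+* WittVector p R) M,
        (Dieu.BC.castHom e (Dieu.BC.push (WittVector.map (algebraMap S R) : WittVector p S →+* WittVector p R) (WittVector.map (Algebra.TensorProduct.includeLeftRingHom : R →+* TensorProduct S R R) : WittVector p R →+* WittVector p (TensorProduct S R R)) z) = Dieu.BC.push (WittVector.map (algebraMap S R) : WittVector p S →+* WittVector p R) (WittVector.map ((Algebra.TensorProduct.includeRight : R →ₐ[S] TensorProduct S R R) : R →+* TensorProduct S R R) : WittVector p R →+* WittVector p (TensorProduct S R R)) z ↔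
          z ∈ Set.range (Dieu.BC.ι (WittVector.map (algebraMap S R) : WittVector p S →+* WittVector p R) M)) := by
  exact bc_equalizer _ _ _ e
    (WittVector.map_injective _ (FaithfulSMul.algebraMap_injective S R))
    (fun z hz => witt_equalizer p S R z hz) M

end Groth.Agent.S16541
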