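import Groth.Statements.S16542
import Groth.Agent.DispLib.Basic
import Groth.Prelude.Def_Disp2

set_option autoImplicit false
universe u v
open Disp

namespace Groth.Agent.S16542

/-- Let p be a prime, S → R a faithfully flat homomorphism of commutative rings with p nilpotent in S,
(P, Q, F, V⁻¹) a display over S, and (P_R, Q_R, F_R, V_R⁻¹) a 3n-display structure on P_R = W(R)
⊗_{W(S)} P which is its base change along S → R (Q_R the kernel of P_R → R ⊗_S (P/Q), F_R(w ⊗ x) =
σ(w) ⊗ F x, V_R⁻¹(w ⊗ y) = σ(w) ⊗ V⁻¹ y for y ∈ Q, V_R⁻¹(V(w) ⊗ x) = w ⊗ F x). Then for x ∈ P one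
has x ∈ Q if and only if 1 ⊗ x ∈ Q_R: together with the exactness of 0 → P → P_R ⇉ P_{R ⊗ R} this is
the exactness of 0 → Q → Q_R ⇉ Q_{R ⊗ R} at Q. -/
theorem result (p : ℕ) [Fact p.Prime]
    (S R : Type u) [CommRing S] [CommRing R] [Algebra S R] [Module.FaithfullyFlat S R] (hp : IsNilpotent (p : S))
    (P : Type v) [AddCommGroup P] [Module (WittVector p S) P] (D : W4c1extbt610.Display3n p S P)
    (hD : Dieu.IsDisplay D)
    (DR : W4c1extbt610.Display3n p R (Dieu.BC (WittVector.map (algebraMap S R) : WittVector p S →+* WittVector p R) P))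
    (hDR : Dieu.IsDispBaseChange (algebraMap S R) D DR) (x : P) :
    x ∈ D.Q ↔ Dieu.BC.ι (WittVector.map (algebraMap S R) : WittVector p S →+* WittVector p R) P x ∈ DR.Q := by
  classical
  haveI := D.finite
  haveI := D.projective
  obtain ⟨r, c, e, hce⟩ := Groth.Agent.DispLib.exists_dualBasis (WittVector p S) P
  obtain ⟨πT, hπQ, hπI⟩ := Groth.Agent.DispLib.exists_tProj D
  rw [hDR.Q_eq, LinearMap.mem_ker, Dieu.BC.ι_apply, Dieu.bcQuotMap_tmul, map_one]
  refine ⟨fun h => by rw [Submodule.mkQ_apply, (Submodule.Quotient.mk_eq_zero _).2 h, Dieu.BC.tmul_zero], fun h => ?_⟩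
  let g' := (WittVector.constantCoeff : WittVector p R →+* R).comp (WittVector.map (algebraMap S R))
  have hcoef : ∀ i, (c i (πT x)).coeff 0 = 0 := by
    intro i
    let φ0 : P →ₛₗ[g'] R := (Dieu.semilinearOfRingHom g').comp ((c i).comp πT)
    let φ : (P ⧸ D.Q) →ₛₗ[g'] R := D.Q.liftQ φ0 fun u hu => LinearMap.mem_ker.2 (by
      show algebraMap S R ((c i (πT u)).coeff 0) = 0
      rw [Groth.Agent.DispLib.mem_IV.1 (Groth.Agent.DispLib.coord_mem _ (hπI u hu)), map_zero])
    have h2 := congrArg (Dieu.BC.lift g' φ) h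
    rw [Dieu.BC.lift_tmul, one_smul, map_zero] at h2
    exact (FaithfulSMul.algebraMap_injective S R) (h2.trans (map_zero _).symm)
  have hxT : πT x ∈ D.Q := by
    rw [hce (πT x)]
    exact D.Q.sum_mem fun i _ => Groth.Agent.DispLib.smul_mem_Q D (hcoef i) _
  simpa using D.Q.add_mem (hπQ x) hxT

end Groth.Agent.S16542
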