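import Groth.Statements.S16545
import Groth.Agent.DispLib.Hom
import Groth.Agent.FpqcDescent.Amitsur

set_option autoImplicit false
universe u v
open Disp

namespace Groth.Agent.S16545

open scoped TensorProduct in
theorem mem_range_of_eq {S R : Type u} [CommRing S] [CommRing R] [Algebra S R] [Module.FaithfullyFlat S R] {a : R}
    (h : a ⊗ₜ[S] (1 : R) = (1 : R) ⊗ₜ[S] a) : ∃ s, algebraMap S R s = a := by
  have hx : TensorProduct.mk S R (R ⊗[S] S) 1 (a ⊗ₜ 1) = LinearMap.lTensor R (TensorProduct.mk S R S 1) (a ⊗ₜ 1) := by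
    apply (TensorProduct.congr (LinearEquiv.refl S R) (TensorProduct.rid S R)).injective
    simp [h]
  obtain ⟨s, hs⟩ := Groth.Agent.FpqcDescent.Amitsur.mem_range_mk S R S _ hx
  refine ⟨s, ?_⟩
  have := congrArg (TensorProduct.rid S R) hs
  simpa [Algebra.algebraMap_eq_smul_one] using this



/-- Let p be a prime, S → R a faithfully flat homomorphism of commutative rings with p nilpotent in S,
ι₁, ι₂ : R → R ⊗_S R the two coprojections, and (P, Q, F, V⁻¹), (P', Q', F', V'⁻¹) displays over S
with base changes (P_R, Q_R, F_R, V_R⁻¹) and (P'_R, Q'_R, F'_R, V'_R⁻¹) along S → R (the 3n-display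
structures on W(R) ⊗_{W(S)} P and W(R) ⊗_{W(S)} P' with Q_R = ker(P_R → R ⊗_S P/Q), F_R(w ⊗ x) =
σ(w) ⊗ F x, V_R⁻¹(w ⊗ y) = σ(w) ⊗ V⁻¹ y for y ∈ Q, V_R⁻¹(V(w) ⊗ x) = w ⊗ F x, and likewise for P').
Let χ : P_R → P'_R be a homomorphism of 3n-displays whose two scalar extensions along W(ι₁) and
W(ι₂) agree, after the modules W(R ⊗_S R) ⊗_{W(ι_i),W(R)} (W(R) ⊗_{W(S)} P) are mapped to W(R ⊗_S R)
⊗_{W(S)} P by the canonical maps u ⊗ (w ⊗ x) ↦ u·W(ι_i)(w) ⊗ x (and likewise for P'). Then there is
exactly one homomorphism of 3n-displays ψ : P → P' over S with id ⊗ ψ = χ: the sequence 0 → Hom(P,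
P') → Hom(P_R, P'_R) ⇉ Hom(P_{R⊗R}, P'_{R⊗R}) is exact. The hypotheses e₁, e₂ record that both
composite ring maps W(S) → W(R) → W(R ⊗_S R) equal W(S → R ⊗_S R); they serve to identify targets. -/
theorem result (p : ℕ) [Fact p.Prime]
    (S R : Type u) [CommRing S] [CommRing R] [Algebra S R] [Module.FaithfullyFlat S R] (hp : IsNilpotent (p : S))
    (e₁ : (WittVector.map (Algebra.TensorProduct.includeLeftRingHom : R →+* TensorProduct S R R) : WittVector p R →+* WittVector p (TensorProduct S R R)).comp (WittVector.map (algebraMap S R) : WittVector p S →+* WittVector p R) = (WittVector.map (algebraMap S (TensorProduct S R R)) : WittVector p S →+* WittVector p (TensorProduct S R R)))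
    (e₂ : (WittVector.map ((Algebra.TensorProduct.includeRight : R →ₐ[S] TensorProduct S R R) : R →+* TensorProduct S R R) : WittVector p R →+* WittVector p (TensorProduct S R R)).comp (WittVector.map (algebraMap S R) : WittVector p S →+* WittVector p R) = (WittVector.map (algebraMap S (TensorProduct S R R)) : WittVector p S →+* WittVector p (TensorProduct S R R)))
    (P P' : Type v) [AddCommGroup P] [Module (WittVector p S) P] [AddCommGroup P'] [Module (WittVector p S) P']
    (D : W4c1extbt610.Display3n p S P) (D' : W4c1extbt610.Display3n p S P')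
    (hD : Dieu.IsDisplay D) (hD' : Dieu.IsDisplay D')
    (DR : W4c1extbt610.Display3n p R (Dieu.BC (WittVector.map (algebraMap S R) : WittVector p S →+* WittVector p R) P)) (hDR : Dieu.IsDispBaseChange (algebraMap S R) D DR)
    (DR' : W4c1extbt610.Display3n p R (Dieu.BC (WittVector.map (algebraMap S R) : WittVector p S →+* WittVector p R) P')) (hDR' : Dieu.IsDispBaseChange (algebraMap S R) D' DR')
    (χ : Dieu.BC (WittVector.map (algebraMap S R) : WittVector p S →+* WittVector p R) P →ₗ[WittVector p R] Dieu.BC (WittVector.map (algebraMap S R) : WittVector p S →+* WittVector p R) P') (hχ : W4c1extbt610.IsHom DR DR' χ)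
    (hdesc : ∀ (z₁ : Dieu.BC (WittVector.map (Algebra.TensorProduct.includeLeftRingHom : R →+* TensorProduct S R R) : WittVector p R →+* WittVector p (TensorProduct S R R)) (Dieu.BC (WittVector.map (algebraMap S R) : WittVector p S →+* WittVector p R) P)) (z₂ : Dieu.BC (WittVector.map ((Algebra.TensorProduct.includeRight : R →ₐ[S] TensorProduct S R R) : R →+* TensorProduct S R R) : WittVector p R →+* WittVector p (TensorProduct S R R)) (Dieu.BC (WittVector.map (algebraMap S R) : WittVector p S →+* WittVector p R) P)),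
      (Dieu.BC.castHom (P := P) e₁).comp (Dieu.BC.lift (WittVector.map (Algebra.TensorProduct.includeLeftRingHom : R →+* TensorProduct S R R) : WittVector p R →+* WittVector p (TensorProduct S R R)) (Dieu.BC.push (WittVector.map (algebraMap S R) : WittVector p S →+* WittVector p R) (WittVector.map (Algebra.TensorProduct.includeLeftRingHom : R →+* TensorProduct S R R) : WittVector p R →+* WittVector p (TensorProduct S R R)))) z₁ = (Dieu.BC.castHom (P := P) e₂).comp (Dieu.BC.lift (WittVector.map ((Algebra.TensorProduct.includeRight : R →ₐ[S] TensorProduct S R R) : R →+* TensorProduct S R R) : WittVector p R →+* WittVector p (TensorProduct S R R)) (Dieu.BC.push (WittVector.map (algebraMap S R) : WittVector p S →+* WittVector p R) (WittVector.map ((Algebra.TensorProduct.includeRight : R →ₐ[S] TensorProduct S R R) : R →+* TensorProduct S R R) : WittVector p R →+* WittVector p (TensorProduct S R R)))) z₂ →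
        (Dieu.BC.castHom (P := P') e₁).comp (Dieu.BC.lift (WittVector.map (Algebra.TensorProduct.includeLeftRingHom : R →+* TensorProduct S R R) : WittVector p R →+* WittVector p (TensorProduct S R R)) (Dieu.BC.push (WittVector.map (algebraMap S R) : WittVector p S →+* WittVector p R) (WittVector.map (Algebra.TensorProduct.includeLeftRingHom : R →+* TensorProduct S R R) : WittVector p R →+* WittVector p (TensorProduct S R R)))) (Dieu.BC.map (WittVector.map (Algebra.TensorProduct.includeLeftRingHom : R →+* TensorProduct S R R) : WittVector p R →+* WittVector p (TensorProduct S R R)) χ z₁) =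
          (Dieu.BC.castHom (P := P') e₂).comp (Dieu.BC.lift (WittVector.map ((Algebra.TensorProduct.includeRight : R →ₐ[S] TensorProduct S R R) : R →+* TensorProduct S R R) : WittVector p R →+* WittVector p (TensorProduct S R R)) (Dieu.BC.push (WittVector.map (algebraMap S R) : WittVector p S →+* WittVector p R) (WittVector.map ((Algebra.TensorProduct.includeRight : R →ₐ[S] TensorProduct S R R) : R →+* TensorProduct S R R) : WittVector p R →+* WittVector p (TensorProduct S R R)))) (Dieu.BC.map (WittVector.map ((Algebra.TensorProduct.includeRight : R →ₐ[S] TensorProduct S R R) : R →+* TensorProduct S R R) : WittVector p R →+* WittVector p (TensorProduct S R R)) χ z₂)) :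
    ∃! ψ : P →ₗ[WittVector p S] P', W4c1extbt610.IsHom D D' ψ ∧ Dieu.BC.map (WittVector.map (algebraMap S R) : WittVector p S →+* WittVector p R) ψ = χ := by
  classical
  haveI := D.finite
  haveI := D.projective
  haveI := D'.finite
  haveI := D'.projective
  obtain ⟨r, c, e, hce⟩ := Groth.Agent.DispLib.exists_dualBasis (WittVector p S) P
  obtain ⟨r', c', e', hce'⟩ := Groth.Agent.DispLib.exists_dualBasis (WittVector p S) P'
  let g : WittVector p S →+* WittVector p R := WittVector.map (algebraMap S R)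
  have hinj : ∀ {a b : WittVector p S}, g a = g b → a = b := fun {a b} h =>
    WittVector.map_injective _ (FaithfulSMul.algebraMap_injective S R) h
  have hP' : ∀ {u v : P'}, Dieu.BC.tmul g 1 u = Dieu.BC.tmul g 1 v → u = v := by
    intro u v h
    have h0 : Dieu.BC.ι g P' (u - v) = 0 := by rw [map_sub, Dieu.BC.ι_apply, Dieu.BC.ι_apply, h, sub_self]
    have h1 := (Groth.Agent.DispLib.one_tmul_eq_zero_iff g).1 h0
    rwa [(RingHom.injective_iff_ker_eq_bot g).1 (fun _ _ => hinj), Submodule.bot_smul, Submodule.mem_bot, sub_eq_zero] at h1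
  let C : Fin r' → (Dieu.BC g P' →ₗ[WittVector p R] WittVector p R) := fun i =>
    Dieu.BC.lift g ((Dieu.semilinearOfRingHom g).comp (c' i))
  have hCe : ∀ z : Dieu.BC g P', z = ∑ i, C i z • Dieu.BC.tmul g 1 (e' i) := by
    intro z
    induction z using Dieu.BC.induction_on with
    | zero => simp
    | add a b ha hb => simp only [map_add, add_smul, Finset.sum_add_distrib, ← ha, ← hb]
    | tmul w x =>
      simp only [C, Dieu.BC.lift_tmul, LinearMap.comp_apply, Dieu.semilinearOfRingHom_apply, smul_eq_mul, mul_smul,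
        ← Finset.smul_sum]
      rw [Dieu.BC.tmul_eq_smul_tmul_one]
      congr 1
      change Dieu.BC.ι g P' x = ∑ i, g (c' i x) • Dieu.BC.ι g P' (e' i)
      conv_lhs => rw [hce' x, map_sum]
      simp only [map_smulₛₗ]
  have hb : ∀ i j, ∃ b, g b = C i (χ (Dieu.BC.tmul g 1 (e j))) := by
    intro i j
    let i₁ : WittVector p R →+* WittVector p (TensorProduct S R R) :=
      WittVector.map (Algebra.TensorProduct.includeLeftRingHom : R →+* TensorProduct S R R)
    let i₂ : WittVector p R →+* WittVector p (TensorProduct S R R) :=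
      WittVector.map ((Algebra.TensorProduct.includeRight : R →ₐ[S] TensorProduct S R R) : R →+* TensorProduct S R R)
    let h : WittVector p S →+* WittVector p (TensorProduct S R R) := WittVector.map (algebraMap S (TensorProduct S R R))
    have key : ∀ (ι : WittVector p R →+* WittVector p (TensorProduct S R R)) (he : ι.comp g = h) (z : Dieu.BC g P'),
        Dieu.BC.lift h ((Dieu.semilinearOfRingHom h).comp (c' i))
          ((Dieu.BC.castHom (P := P') he) (Dieu.BC.push g ι z)) = ι (C i z) := by
      intro ι he z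
      induction z using Dieu.BC.induction_on with
      | zero => simp
      | add a b ha hb => simp only [map_add, ha, hb]
      | tmul w x =>
        rw [Dieu.BC.push_tmul, Dieu.BC.castHom_tmul, Dieu.BC.lift_tmul]
        simp only [C, Dieu.BC.lift_tmul, LinearMap.comp_apply, Dieu.semilinearOfRingHom_apply, smul_eq_mul, map_mul]
        rw [← RingHom.comp_apply ι g, he]
    have h0 := hdesc (Dieu.BC.tmul i₁ 1 (Dieu.BC.tmul g 1 (e j))) (Dieu.BC.tmul i₂ 1 (Dieu.BC.tmul g 1 (e j))) (by
      simp only [LinearMap.comp_apply, Dieu.BC.lift_tmul, Dieu.BC.push_tmul, one_smul, Dieu.BC.castHom_tmul, map_one, i₁, i₂, g])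
    simp only [LinearMap.comp_apply, Dieu.BC.lift_tmul, Dieu.BC.map_tmul, one_smul, i₁, i₂] at h0
    have h1 := congrArg (Dieu.BC.lift h ((Dieu.semilinearOfRingHom h).comp (c' i))) h0
    rw [key i₁ e₁, key i₂ e₂] at h1
    have h2 : ∀ n, ∃ s, algebraMap S R s = (C i (χ (Dieu.BC.tmul g 1 (e j)))).coeff n := fun n => by
      refine mem_range_of_eq ?_
      have h3 := congrArg (fun w => w.coeff n) h1
      simpa [i₁, i₂, WittVector.map_coeff] using h3
    choose s hs using h2
    exact ⟨WittVector.mk p s, WittVector.ext fun n => by rw [WittVector.map_coeff, WittVector.coeff_mk, hs]⟩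
  choose b hb using hb
  let ψ : P →ₗ[WittVector p S] P' := ∑ j, (c j).smulRight (∑ i, b i j • e' i)
  have hψ : ∀ x, Dieu.BC.tmul g 1 (ψ x) = χ (Dieu.BC.tmul g 1 x) := by
    intro x
    show Dieu.BC.ι g P' (ψ x) = χ (Dieu.BC.ι g P x)
    conv_rhs => rw [hce x, map_sum, map_sum]
    simp only [ψ, LinearMap.sum_apply, LinearMap.smulRight_apply, map_sum, map_smulₛₗ, RingHom.id_apply]
    refine Finset.sum_congr rfl fun j _ => ?_
    congr 1
    rw [Dieu.BC.ι_apply, hCe (χ (Dieu.BC.tmul g 1 (e j)))]
    exact Finset.sum_congr rfl fun i _ => by rw [hb i j]; rfl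
  have hmap : Dieu.BC.map g ψ = χ := Dieu.BC.ext g fun x => by rw [Dieu.BC.map_tmul, hψ]
  have hQ' : ∀ q : P, q ∈ D.Q → ψ q ∈ D'.Q := by
    intro q hq
    obtain ⟨πT, hπQ, hπI⟩ := Groth.Agent.DispLib.exists_tProj D'
    have h1 : Dieu.BC.tmul g 1 (ψ q) ∈ DR'.Q :=
      hψ q ▸ hχ.mapsTo _ (Groth.Agent.DispLib.one_tmul_mem_Q (algebraMap S R) D hDR ⟨q, hq⟩)
    rw [hDR'.Q_eq, LinearMap.mem_ker, Dieu.bcQuotMap_tmul, map_one] at h1
    let g' := (WittVector.constantCoeff : WittVector p R →+* R).comp g
    have hcoef : ∀ i, (c' i (πT (ψ q))).coeff 0 = 0 := by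
      intro i
      let φ0 : P' →ₛₗ[g'] R := (Dieu.semilinearOfRingHom g').comp ((c' i).comp πT)
      let φ : (P' ⧸ D'.Q) →ₛₗ[g'] R := D'.Q.liftQ φ0 fun u hu => LinearMap.mem_ker.2 (by
        show algebraMap S R ((c' i (πT u)).coeff 0) = 0
        rw [Groth.Agent.DispLib.mem_IV.1 (Groth.Agent.DispLib.coord_mem _ (hπI u hu)), map_zero])
      have h2 := congrArg (Dieu.BC.lift g' φ) h1
      rw [Dieu.BC.lift_tmul, one_smul, map_zero] at h2
      exact (FaithfulSMul.algebraMap_injective S R) (h2.trans (map_zero _).symm)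
    have hT : πT (ψ q) ∈ D'.Q := by
      rw [hce' (πT (ψ q))]
      exact D'.Q.sum_mem fun i _ => Groth.Agent.DispLib.smul_mem_Q D' (hcoef i) _
    simpa using D'.Q.add_mem (hπQ (ψ q)) hT
  refine ⟨ψ, ⟨⟨hQ', fun x => hP' ?_, fun q => hP' ?_⟩, hmap⟩, fun ψ' h' => ?_⟩
  · rw [hψ, ← map_one (WittVector.frobenius : WittVector p R →+* _), ← hDR.F_tmul, hχ.comm_F, ← hψ, hDR'.F_tmul]
  · have hq1 : Dieu.BC.tmul g 1 (q : P) ∈ DR.Q := Groth.Agent.DispLib.one_tmul_mem_Q (algebraMap S R) D hDR q
    have e2 : (⟨χ (Dieu.BC.tmul g 1 (q : P)), hχ.mapsTo _ hq1⟩ : DR'.Q) =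
        ⟨Dieu.BC.tmul g 1 (ψ q), Groth.Agent.DispLib.one_tmul_mem_Q (algebraMap S R) D' hDR' ⟨ψ q, hQ' q q.2⟩⟩ :=
      Subtype.ext (hψ q).symm
    rw [hψ, ← map_one (WittVector.frobenius : WittVector p R →+* _), ← hDR.Vinv_tmul 1 q hq1, hχ.comm_Vinv ⟨_, hq1⟩, e2,
      hDR'.Vinv_tmul 1 ⟨ψ q, hQ' q q.2⟩ _]
  · refine LinearMap.ext fun x => hP' ?_
    rw [hψ, ← h'.2, Dieu.BC.map_tmul]

end Groth.Agent.S16545
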