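import Groth.Statements.S1655
import Groth.Agent.NormalExt.Section
import Mathlib.AlgebraicGeometry.Morphisms.QuasiFinite
-- import your own Groth.Agent.* helpers here

set_option autoImplicit false
universe u
open CategoryTheory CategoryTheory.Limits AlgebraicGeometry
open Variety

namespace Groth.Agent.S1655

/-- Let X be a Noetherian integral scheme, Y an integral scheme, and f : Y → X a proper morphism that
restricts to an isomorphism over some nonempty open subscheme of X. If x is a point of X whose local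
ring is integrally closed and f is quasi-finite at some point lying over x, then f restricts to an
isomorphism over an open neighbourhood of x. -/
theorem result {X Y : Scheme.{u}} [IsNoetherian X] [IsIntegral X] [IsIntegral Y]
    (f : Y ⟶ X) [IsProper f] (W : X.Opens) (hW : (W : Set X).Nonempty) (hfW : IsIso (f ∣_ W))
    (x : X) (hx : IsIntegrallyClosed (X.presheaf.stalk x)) (y : Y) (hy : f.base y = x) (hq : f.QuasiFiniteAt y) :
    ∃ V : X.Opens, x ∈ V ∧ IsIso (f ∣_ V) := by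
  subst hy
  let g : (W : Scheme.{u}) ⟶ Y := inv (f ∣_ W) ≫ (f ⁻¹ᵁ W).ι
  have hg : g ≫ f = W.ι := by
    rw [Category.assoc, ← morphismRestrict_ι, IsIso.inv_hom_id_assoc]
  have hgp : ∀ p : ((f ⁻¹ᵁ W : Y.Opens) : Scheme.{u}), g ((f ∣_ W) p) = p.1 := fun p => by
    rw [← Scheme.Hom.comp_apply, IsIso.hom_inv_id_assoc]
    rfl
  have hne : ((f ⁻¹ᵁ W : Y.Opens) : Set ↥Y).Nonempty := by
    obtain ⟨w, hw⟩ := hW
    let q : ((f ⁻¹ᵁ W : Y.Opens) : Scheme.{u}) := inv (f ∣_ W) ⟨w, hw⟩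
    exact ⟨_, q.2⟩
  have hyc : y ∈ closure (Set.range g) := by
    have h1 : ((f ⁻¹ᵁ W : Y.Opens) : Set ↥Y) ⊆ Set.range g := fun p hp => ⟨(f ∣_ W) ⟨p, hp⟩, hgp ⟨p, hp⟩⟩
    exact closure_mono h1 ((f ⁻¹ᵁ W).2.dense hne y)
  haveI : Nonempty ↥((⊤ : X.Opens) : Scheme.{u}) := ⟨⟨f y, trivial⟩⟩
  haveI : AlgebraicGeometry.IsIntegral ((⊤ : X.Opens) : Scheme.{u}) := isIntegral_of_isOpenImmersion (⊤ : X.Opens).ι
  have hiso : ∃ O : Y.Opens, y ∈ O ∧ ∀ w ∈ O, w ∈ closure (Set.range g) → f w = f y → w = y := by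
    have ho := f.quasiFiniteAt_iff_isOpen_singleton_asFiber.1 hq
    rw [← (f.fiberHomeo (f y)).isOpen_image] at ho
    simp only [Set.image_singleton, Scheme.Hom.asFiber, Homeomorph.apply_symm_apply] at ho
    obtain ⟨O, hO, hOy⟩ := isOpen_induced_iff.1 ho
    refine ⟨⟨O, hO⟩, ?_, fun w hw _ hwy => ?_⟩
    · have : (⟨y, rfl⟩ : f ⁻¹' {f y}) ∈ Subtype.val ⁻¹' O := hOy.symm ▸ rfl
      exact this
    · have : (⟨w, hwy⟩ : f ⁻¹' {f y}) ∈ ({⟨y, rfl⟩} : Set (f ⁻¹' {f y})) := hOy ▸ hw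
      exact congrArg Subtype.val (Set.mem_singleton_iff.1 this)
  obtain ⟨V, v, hyV, hv, hagree, hvy⟩ :=
    Groth.Agent.NormalExt.exists_section_extension f ⊤ W g hg y trivial hx hyc hiso
  refine ⟨V, hyV, ?_⟩
  have hrange : Set.range v ⊆ (f ⁻¹ᵁ V : Y.Opens) := by
    rintro _ ⟨w, rfl⟩
    show f (v w) ∈ V
    rw [← Scheme.Hom.comp_apply, hv]
    exact w.2
  let v' : (V : Scheme.{u}) ⟶ (f ⁻¹ᵁ V : Y.Opens) := IsOpenImmersion.lift (f ⁻¹ᵁ V).ι v (by
    rw [Scheme.Opens.range_ι]; exact hrange)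
  have hv' : v' ≫ (f ∣_ V) = 𝟙 _ := by
    rw [← cancel_mono V.ι, Category.assoc, morphismRestrict_ι, IsOpenImmersion.lift_fac_assoc, hv, Category.id_comp]
  haveI : IsClosedImmersion (v' ≫ (f ∣_ V)) := by rw [hv']; infer_instance
  haveI : IsClosedImmersion v' := IsClosedImmersion.of_comp v' (f ∣_ V)
  haveI : Surjective v' := by
    refine ⟨Set.range_eq_univ.1 (Set.eq_univ_of_univ_subset fun p _ => ?_)⟩
    have hWV : ((f ⁻¹ᵁ (W ⊓ V) : Y.Opens) : Set ↥Y).Nonempty := by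
      refine nonempty_preirreducible_inter (f ⁻¹ᵁ W).2 (f ⁻¹ᵁ V).2 hne ⟨y, hyV⟩
    have hsub : Subtype.val ⁻¹' ((f ⁻¹ᵁ (W ⊓ V) : Y.Opens) : Set ↥Y) ⊆ Set.range v' := by
      intro q hq'
      let w : ((W ⊓ V : X.Opens) : Scheme.{u}) := ⟨f q.1, hq'⟩
      refine ⟨X.homOfLE (inf_le_right : W ⊓ V ≤ V) w, Subtype.ext ?_⟩
      show (f ⁻¹ᵁ V).ι (v' (X.homOfLE _ w)) = q.1
      rw [← Scheme.Hom.comp_apply, IsOpenImmersion.lift_fac, ← Scheme.Hom.comp_apply, hagree,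
        Scheme.Hom.comp_apply]
      let q₂ : ((f ⁻¹ᵁ W : Y.Opens) : Scheme.{u}) := ⟨q.1, show f q.1 ∈ W from hq'.1⟩
      have e : X.homOfLE (inf_le_left : W ⊓ V ≤ W) w = (f ∣_ W) q₂ := by
        refine W.ι.isOpenEmbedding.injective ?_
        refine Eq.trans ?_ (Scheme.Hom.comp_apply (f ∣_ W) W.ι q₂)
        rw [← Scheme.Hom.comp_apply, Scheme.homOfLE_ι, morphismRestrict_ι, Scheme.Hom.comp_apply]
        rfl
      rw [e]
      exact hgp q₂
    have hd : Dense ((f ⁻¹ᵁ V).ι ⁻¹' ((f ⁻¹ᵁ (W ⊓ V) : Y.Opens) : Set ↥Y)) :=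
      ((f ⁻¹ᵁ (W ⊓ V)).2.dense hWV).preimage (f ⁻¹ᵁ V).ι.isOpenEmbedding.isOpenMap
    exact v'.isClosedEmbedding.isClosed_range.closure_subset (closure_mono hsub (hd p))
  haveI := isIso_of_isClosedImmersion_of_surjective v'
  rw [show f ∣_ V = inv v' from (IsIso.eq_inv_of_hom_inv_id hv')]
  infer_instance

end Groth.Agent.S1655
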