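import Groth.Statements.S16572
import Mathlib

set_option autoImplicit false
universe u
open CAlg

namespace Groth.Agent.S16572

open Polynomial in
/-- Residue fields of an integral algebra in which every monic has a root. -/
theorem core (A T : Type u) [CommRing A] [CommRing T] [Algebra A T] [Algebra.IsIntegral A T]
    (hroot : ∀ P : A[X], P.Monic → 0 < P.natDegree → ∃ x : T, aeval x P = 0)
    (Q : Ideal T) [Q.IsPrime] :
    IsAlgClosed Q.ResidueField ∧
      (Ideal.ResidueField.map (Q.comap (algebraMap A T)) Q (algebraMap A T) rfl).IsIntegral := by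
  set p := Q.comap (algebraMap A T) with hp
  set φ := Ideal.ResidueField.map p Q (algebraMap A T) rfl with hφ
  letI : Algebra p.ResidueField Q.ResidueField := φ.toAlgebra
  haveI : IsScalarTower A p.ResidueField Q.ResidueField := IsScalarTower.of_algebraMap_eq fun a => by
    rw [RingHom.algebraMap_toAlgebra, IsScalarTower.algebraMap_apply A T Q.ResidueField]
    exact (Ideal.ResidueField.map_algebraMap p Q (algebraMap A T) rfl a).symm
  have hint : ∀ z : Q.ResidueField, IsIntegral p.ResidueField z := by
    intro z
    obtain ⟨a, b, _, rfl⟩ := IsFractionRing.div_surjective (T ⧸ Q) z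
    have h : ∀ c : T ⧸ Q, IsIntegral p.ResidueField (algebraMap (T ⧸ Q) Q.ResidueField c) := by
      intro c
      obtain ⟨t, rfl⟩ := Ideal.Quotient.mk_surjective c
      rw [Ideal.algebraMap_quotient_residueField_mk]
      exact ((Algebra.IsIntegral.isIntegral (R := A) t).map (IsScalarTower.toAlgHom A T Q.ResidueField)).tower_top
    rw [div_eq_mul_inv]
    exact (h a).mul (h b).inv
  refine ⟨?_, hint⟩
  haveI : Algebra.IsAlgebraic p.ResidueField Q.ResidueField := ⟨fun z => (hint z).isAlgebraic⟩
  haveI : IsAlgClosure p.ResidueField Q.ResidueField := IsAlgClosure.of_exists_root fun f hf hirr => by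
    obtain ⟨⟨b, hb⟩, hmap⟩ := IsLocalization.integerNormalization_map_to_map (nonZeroDivisors (A ⧸ p)) f
    set g := IsLocalization.integerNormalization (nonZeroDivisors (A ⧸ p)) f with hg
    set ι := algebraMap (A ⧸ p) p.ResidueField with hι
    have hιinj : Function.Injective ι := p.injective_algebraMap_quotient_residueField
    have hb0 : ι b ≠ 0 := (map_ne_zero_iff ι hιinj).2 (nonZeroDivisors.ne_zero hb)
    have hmap' : g.map ι = C (ι b) * f := by rw [hmap, Algebra.smul_def]; rfl
    have hdeg : g.natDegree = f.natDegree := by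
      rw [← natDegree_map_eq_of_injective hιinj g, hmap', natDegree_C_mul hb0]
    have hn : 0 < g.natDegree := hdeg ▸ hirr.natDegree_pos
    have hg0 : g ≠ 0 := fun h => by simp [h] at hn
    obtain ⟨P, hPmap, hPdeg, hPmon⟩ := lifts_and_natDegree_eq_and_monic
      (f := Ideal.Quotient.mk p) (map_surjective _ Ideal.Quotient.mk_surjective _ : g.integralNormalization ∈ lifts _)
      (monic_integralNormalization hg0)
    obtain ⟨x, hx⟩ := hroot P hPmon (by rw [hPdeg, natDegree_integralNormalization]; exact hn)
    set ψ : A ⧸ p →+* Q.ResidueField := (algebraMap p.ResidueField Q.ResidueField).comp ι with hψ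
    have hψinj : Function.Injective ψ := (algebraMap p.ResidueField Q.ResidueField).injective.comp hιinj
    set y := algebraMap T Q.ResidueField x with hy
    have hy0 : aeval y P = 0 := by rw [hy, aeval_algebraMap_apply, hx, map_zero]
    have hy1 : eval₂ ψ y g.integralNormalization = 0 := by
      rw [← hPmap, eval₂_map]
      have : ψ.comp (Ideal.Quotient.mk p) = algebraMap A Q.ResidueField := by
        ext a
        simp [hψ, hι, ← IsScalarTower.algebraMap_apply]
      rw [this, ← aeval_def, hy0]
    have hlc : ψ g.leadingCoeff ≠ 0 := (map_ne_zero_iff ψ hψinj).2 (leadingCoeff_ne_zero.2 hg0)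
    refine ⟨y / ψ g.leadingCoeff, ?_⟩
    have h2 := integralNormalization_eval₂_leadingCoeff_mul (p := g) hn ψ (y / ψ g.leadingCoeff)
    rw [mul_div_cancel₀ _ hlc, hy1] at h2
    have h3 : eval₂ ψ (y / ψ g.leadingCoeff) g = 0 :=
      (mul_eq_zero.1 h2.symm).resolve_left (pow_ne_zero _ hlc)
    rw [hψ, ← eval₂_map, hmap', eval₂_mul, eval₂_C, mul_eq_zero, ← aeval_def] at h3
    exact h3.resolve_left ((map_ne_zero_iff _ (algebraMap p.ResidueField Q.ResidueField).injective).2 hb0)
  exact IsAlgClosure.isAlgClosed p.ResidueField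

/-- Let A be a commutative ring and T the quotient of the polynomial ring over A in indeterminates X_P,
one for each monic polynomial P over A of positive degree, by the ideal generated by the elements
P(X_P). Then the map on prime spectra Spec T → Spec A is surjective, and for every prime ideal Q of
T, with p its contraction to A, the residue field of Q is algebraically closed and integral over the
residue field of p under the induced map of residue fields (so it is an algebraic closure of it). -/
theorem result (A : Type u) [CommRing A] :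
    Function.Surjective (PrimeSpectrum.comap (algebraMap A (MvPolynomial {P : Polynomial A // P.Monic ∧ 0 < P.natDegree} A ⧸
      Ideal.span (Set.range fun P : {P : Polynomial A // P.Monic ∧ 0 < P.natDegree} =>
        Polynomial.aeval (MvPolynomial.X (R := A) P) P.1)))) ∧
    ∀ (Q : Ideal (MvPolynomial {P : Polynomial A // P.Monic ∧ 0 < P.natDegree} A ⧸
      Ideal.span (Set.range fun P : {P : Polynomial A // P.Monic ∧ 0 < P.natDegree} =>
        Polynomial.aeval (MvPolynomial.X (R := A) P) P.1))) [Q.IsPrime],
      IsAlgClosed Q.ResidueField ∧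
      (Ideal.ResidueField.map (Q.comap (algebraMap A (MvPolynomial {P : Polynomial A // P.Monic ∧ 0 < P.natDegree} A ⧸
      Ideal.span (Set.range fun P : {P : Polynomial A // P.Monic ∧ 0 < P.natDegree} =>
        Polynomial.aeval (MvPolynomial.X (R := A) P) P.1)))) Q (algebraMap A (MvPolynomial {P : Polynomial A // P.Monic ∧ 0 < P.natDegree} A ⧸
      Ideal.span (Set.range fun P : {P : Polynomial A // P.Monic ∧ 0 < P.natDegree} =>
        Polynomial.aeval (MvPolynomial.X (R := A) P) P.1))) rfl).IsIntegral := by
  classical
  set J := Ideal.span (Set.range fun P : {P : Polynomial A // P.Monic ∧ 0 < P.natDegree} =>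
        Polynomial.aeval (MvPolynomial.X (R := A) P) P.1) with hJ
  have hgen : ∀ P : {P : Polynomial A // P.Monic ∧ 0 < P.natDegree},
      Polynomial.aeval (Ideal.Quotient.mkₐ A J (MvPolynomial.X (R := A) P)) P.1 = 0 := fun P => by
    rw [Polynomial.aeval_algHom_apply]
    exact Ideal.Quotient.eq_zero_iff_mem.2 (Ideal.subset_span ⟨P, rfl⟩)
  refine ⟨fun x => ?_, fun Q hQ => ?_⟩
  · haveI : Nontrivial A := nontrivial_of_ne 0 1 fun h => x.2.ne_top ((Ideal.eq_top_iff_one _).2 (h ▸ x.asIdeal.zero_mem))
    let K := AlgebraicClosure x.asIdeal.ResidueField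
    have hr : ∀ P : {P : Polynomial A // P.Monic ∧ 0 < P.natDegree}, ∃ r : K,
        Polynomial.aeval r P.1 = 0 := fun P => by
      obtain ⟨r, hr⟩ := IsAlgClosed.exists_root (P.1.map (algebraMap A K))
        (by rw [P.2.1.degree_map, Polynomial.degree_eq_natDegree P.2.1.ne_zero]; exact_mod_cast P.2.2.ne')
      exact ⟨r, by rwa [Polynomial.IsRoot, Polynomial.eval_map_algebraMap] at hr⟩
    choose r hr using hr
    let Ψ := Ideal.Quotient.lift J (MvPolynomial.aeval r : MvPolynomial _ A →ₐ[A] K).toRingHom (by
      show J ≤ RingHom.ker _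
      rw [hJ, Ideal.span_le]
      rintro _ ⟨P, rfl⟩
      show MvPolynomial.aeval r (Polynomial.aeval (MvPolynomial.X P) P.1) = 0
      rw [← Polynomial.aeval_algHom_apply, MvPolynomial.aeval_X]
      exact hr P)
    refine ⟨⟨RingHom.ker Ψ, RingHom.ker_isPrime Ψ⟩, PrimeSpectrum.ext ?_⟩
    ext a
    simp only [PrimeSpectrum.comap_asIdeal, Ideal.mem_comap, RingHom.mem_ker]
    have : Ψ (algebraMap A _ a) = algebraMap A K a := AlgHom.commutes (MvPolynomial.aeval r) a
    rw [this, IsScalarTower.algebraMap_apply A x.asIdeal.ResidueField K, map_eq_zero_iff _ (RingHom.injective _),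
      Ideal.algebraMap_residueField_eq_zero]
  · haveI : Algebra.IsIntegral A (MvPolynomial {P : Polynomial A // P.Monic ∧ 0 < P.natDegree} A ⧸ J) := ⟨fun t => by
      obtain ⟨f, rfl⟩ := Ideal.Quotient.mk_surjective t
      induction f using MvPolynomial.induction_on with
      | C a => exact isIntegral_algebraMap
      | add f g hf hg => rw [map_add]; exact hf.add hg
      | mul_X f P hf => rw [map_mul]; exact hf.mul ⟨P.1, P.2.1, hgen P⟩⟩
    exact core A _ (fun P h1 h2 => ⟨_, hgen ⟨P, h1, h2⟩⟩) Q

end Groth.Agent.S16572
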