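import Groth.Statements.S16573
import Groth.Agent.S16572
import Groth.Agent.EtaLib.SpecUH

set_option autoImplicit false
set_option maxHeartbeats 800000
set_option linter.style.haveILetI false
universe u
open CategoryTheory AlgebraicGeometry
open EtCore

namespace Groth.Agent.S16573

theorem residueFieldMap_aux {U W X : Scheme.{u}} (ι : U ⟶ W) (p : W ⟶ X) (j : U ⟶ X) [IsOpenImmersion ι] [IsOpenImmersion j]
    (h : ι ≫ p = j) (z : U) : IsIso (p.residueFieldMap (ι z)) := by
  have h1 : IsIso (j.residueFieldMap z) := inferInstance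
  subst h
  rw [Scheme.residueFieldMap_comp] at h1
  exact @IsIso.of_isIso_comp_right _ _ _ _ _ (p.residueFieldMap _) (ι.residueFieldMap z) inferInstance h1

theorem isIntegral_residueFieldMap_Spec {A B : Type u} [CommRing A] [CommRing B] (φ : A →+* B) (x : PrimeSpectrum B)
    (h : (Ideal.ResidueField.map (PrimeSpectrum.comap φ x).asIdeal x.asIdeal φ rfl).IsIntegral) :
    ((Spec.map (CommRingCat.ofHom φ)).residueFieldMap x).hom.IsIntegral := by
  have h2 := EtaLib.residueFieldMap_Spec φ x
  have h3 := (Iso.eq_comp_inv _).2 ((Iso.inv_comp_eq _).1 h2)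
  rw [show (Spec.map (CommRingCat.ofHom φ)).residueFieldMap x = _ from h3]
  exact RingHom.IsIntegral.trans _ _ (RingHom.IsIntegral.trans _ _ (RingHom.isIntegral_of_surjective _
        (ConcreteCategory.bijective_of_isIso (Scheme.Spec.residueFieldIso (CommRingCat.of A) _).hom).2) h)
    (RingHom.isIntegral_of_surjective _ (ConcreteCategory.bijective_of_isIso (Scheme.Spec.residueFieldIso (CommRingCat.of B) _).inv).2)

open Polynomial in
theorem exists_alg (A : Type u) [CommRing A] : ∃ (T : Type u) (_ : CommRing T) (φ : A →+* T),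
    Function.Surjective (PrimeSpectrum.comap φ) ∧ ∀ Q : PrimeSpectrum T, IsAlgClosed Q.asIdeal.ResidueField ∧
      (Ideal.ResidueField.map (PrimeSpectrum.comap φ Q).asIdeal Q.asIdeal φ rfl).IsIntegral :=
  ⟨_, inferInstance, _, (Groth.Agent.S16572.result A).1, fun Q => (Groth.Agent.S16572.result A).2 Q.asIdeal⟩

/-- For a quasi-compact quasi-separated scheme X there are an affine scheme X' and a quasi-compact
surjective morphism f : X' → X such that for every point x' of X' the residue field of x' is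
algebraically closed and integral over the residue field of f(x') under the induced map of residue
fields, that is, an algebraic closure of it. -/
theorem result
    (X : Scheme.{u}) [CompactSpace X] [QuasiSeparatedSpace X] :
    ∃ (X' : Scheme.{u}) (f : X' ⟶ X), IsAffine X' ∧ QuasiCompact f ∧ Surjective f ∧
      ∀ x' : X', IsAlgClosed (X'.residueField x') ∧ (f.residueFieldMap x').hom.IsIntegral := by
  classical
  obtain ⟨t, ht⟩ := isCompact_univ.elim_finite_subcover
    (fun i : X.affineOpens => (i.1 : Set X)) (fun i => i.1.2) (fun y _ => by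
      obtain ⟨W, hW, hx, -⟩ := exists_isAffineOpen_mem_and_subset (show y ∈ (⊤ : X.Opens) from trivial)
      exact Set.mem_iUnion.2 ⟨⟨W, hW⟩, hx⟩)
  let g : t → Scheme.{u} := fun i => i.1.1
  have : ∀ i, IsAffine (g i) := fun i => i.1.2
  let p : (∐ g) ⟶ X := Limits.Sigma.desc fun i => i.1.1.ι
  let q := (∐ g).isoSpec.inv ≫ p
  have hp : ∀ y : ↥(∐ g), IsIso (p.residueFieldMap y) := by
    intro y
    obtain ⟨i, z, rfl⟩ := (sigmaOpenCover g).exists_eq y
    exact residueFieldMap_aux (Limits.Sigma.ι g i) p (i.1.1.ι : g i ⟶ X) (Limits.Sigma.ι_desc (fun i : t => (i.1.1.ι : g i ⟶ X)) i) z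
  have hq : ∀ y, IsIso (q.residueFieldMap y) := fun y => by
    rw [Scheme.residueFieldMap_comp]
    exact @IsIso.comp_isIso _ _ _ _ _ _ _ (hp _) inferInstance
  obtain ⟨T, _, φ, hsurj, hres⟩ := exists_alg Γ(∐ g, ⊤)
  let r := Spec.map (CommRingCat.ofHom φ)
  refine ⟨_, r ≫ q, inferInstanceAs (IsAffine (Spec (CommRingCat.of T))), inferInstance, ⟨fun y => ?_⟩, fun x' => ?_⟩
  · obtain ⟨i, hi, hy⟩ : ∃ i ∈ t, y ∈ (i.1 : Set X) := by simpa using ht (Set.mem_univ y)
    obtain ⟨w, hw⟩ := hsurj ((∐ g).isoSpec.hom (Limits.Sigma.ι g ⟨i, hi⟩ ⟨y, hy⟩))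
    refine ⟨(w : ↥(Spec (CommRingCat.of T))), ?_⟩
    have h4 : (Limits.Sigma.ι g ⟨i, hi⟩ ≫ (∐ g).isoSpec.hom) ≫ q = i.1.ι := by
      simp only [q, Category.assoc, Iso.hom_inv_id_assoc]
      exact Limits.Sigma.ι_desc _ _
    have h5 : r w = (Limits.Sigma.ι g ⟨i, hi⟩ ≫ (∐ g).isoSpec.hom) ⟨y, hy⟩ := hw
    show q (r w) = y
    rw [h5]
    exact congrArg (fun m : (g ⟨i, hi⟩) ⟶ X => m ⟨y, hy⟩) h4
  · obtain ⟨hac, hint⟩ := hres x'
    haveI := hac
    refine ⟨IsAlgClosed.of_ringEquiv _ _ (Scheme.Spec.residueFieldIso (CommRingCat.of T) x').commRingCatIsoToRingEquiv.symm, ?_⟩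
    have hr : (r.residueFieldMap x').hom.IsIntegral := isIntegral_residueFieldMap_Spec φ x' hint
    rw [Scheme.residueFieldMap_comp]
    haveI := hq (r x')
    show (RingHom.comp (r.residueFieldMap x').hom (q.residueFieldMap (r x')).hom).IsIntegral
    exact (RingHom.isIntegral_of_surjective _ (ConcreteCategory.bijective_of_isIso (q.residueFieldMap (r x'))).2).trans _ _ hr

end Groth.Agent.S16573
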