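import Groth.Statements.S16577
import Groth.Agent.Hensel.TrivialFibresAtPrime
import Groth.Agent.Hensel.HenselizationAscent
import Mathlib.RingTheory.Ideal.GoingDown
import Mathlib.RingTheory.Ideal.Height

set_option autoImplicit false
universe u
open Hensel

namespace Groth.Agent.S16577

/-- Let A be a Noetherian local ring with a strict henselization S', and p a prime ideal of A. Call p an
immediate étale generization of the closed point when the strict henselization S'/pS' of A/p has an
irreducible component of dimension 1, that is, some minimal prime P over pS' has dim S'/P = 1. Then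
p is an immediate étale generization of the closed point if and only if p is the contraction of some
prime ideal P of S' with dim S'/P = 1. -/
theorem result
    (A : Type u) [CommRing A] [IsNoetherianRing A] [IsLocalRing A]
    (S' : Type u) [CommRing S'] [IsLocalRing S'] [Algebra A S'] [IsLocalHom (algebraMap A S')]
    [Hensel.IsStrictHenselization A S']
    (p : Ideal A) [p.IsPrime] :
    (∃ P ∈ (p.map (algebraMap A S')).minimalPrimes, ringKrullDim (S' ⧸ P) = 1) ↔
    (∃ P : Ideal S', P.IsPrime ∧ P.comap (algebraMap A S') = p ∧ ringKrullDim (S' ⧸ P) = 1) := by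
  haveI : IsNoetherianRing S' := Groth.Agent.Hensel.strictHenselization_isNoetherianRing (R := A)
  haveI : Module.Flat A S' := Groth.Agent.Hensel.strictHenselization_flat
  constructor
  · rintro ⟨P, hP, hd⟩
    haveI : P.IsPrime := hP.1.1
    have hle : p ≤ P.comap (algebraMap A S') := Ideal.map_le_iff_le_comap.1 hP.1.2
    haveI : P.LiesOver (P.comap (algebraMap A S')) := ⟨rfl⟩
    obtain ⟨Q, hQP, hQ, hQp⟩ := Ideal.exists_ideal_le_liesOver_of_le (q := P.comap (algebraMap A S')) P hle
    haveI := hQ
    have hPQ : P ≤ Q := hP.2 ⟨hQ, by rw [hQp.over]; exact Ideal.map_comap_le⟩ hQP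
    refine ⟨P, inferInstance, ?_, hd⟩
    rw [le_antisymm hPQ hQP]
    exact hQp.over.symm
  · rintro ⟨P, hP, hPp, hd⟩
    haveI := hP
    refine ⟨P, ⟨⟨hP, by rw [← hPp]; exact Ideal.map_comap_le⟩, ?_⟩, hd⟩
    rintro Q ⟨hQ, hpQ⟩ hQP
    haveI := hQ
    have hQp : Q.comap (algebraMap A S') = p :=
      le_antisymm ((Ideal.comap_mono hQP).trans hPp.le) (Ideal.map_le_iff_le_comap.1 hpQ)
    by_contra hne
    have hlt : Q < P := lt_of_le_not_ge hQP hne
    have h := Groth.Agent.Hensel.strictHenselization_trivialFibres (R := A) (S := S')
    have h1 := Groth.Agent.Hensel.height_eq_height_under h P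
    have h2 := Groth.Agent.Hensel.height_eq_height_under h Q
    have h3 : Q.height < P.height := Ideal.height_strict_mono_of_isPrime_of_isPrime hlt
    rw [h1, h2, Ideal.under_def, Ideal.under_def, hPp, hQp] at h3
    exact lt_irrefl _ h3

end Groth.Agent.S16577
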