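import Groth.Statements.S16599
import Groth.Agent.LGRingLib.Basic

set_option autoImplicit false
open AlgebraicGeometry
universe u
open LGRing

namespace Groth.Agent.S16599

/-- Let R be an LG-ring, n ≥ 0, and U an open quasi-compact subscheme of affine n-space Spec R[X₁, …,
Xₙ]. If U has an (R ⧸ m)-valued point over R for every maximal ideal m of R, then U has an R-valued
point: some n-tuple x over R defines a section Spec R ⟶ Spec R[X₁, …, Xₙ] with image inside U. -/
theorem result {R : Type u} [CommRing R] (hR : LGRing.IsLGRing R)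
    (n : ℕ) (U : (Spec (CommRingCat.of (MvPolynomial (Fin n) R))).Opens)
    (hU : IsCompact (U : Set ↥(Spec (CommRingCat.of (MvPolynomial (Fin n) R)))))
    (h : ∀ (m : Ideal R) [m.IsMaximal], ∃ x : Fin n → R ⧸ m,
      Set.range (Spec.map (CommRingCat.ofHom (MvPolynomial.eval₂Hom (Ideal.Quotient.mk m) x))).base ⊆
        (U : Set ↥(Spec (CommRingCat.of (MvPolynomial (Fin n) R))))) :
    ∃ x : Fin n → R, Set.range (Spec.map (CommRingCat.ofHom (MvPolynomial.eval x))).base ⊆
      (U : Set ↥(Spec (CommRingCat.of (MvPolynomial (Fin n) R)))) := by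
  classical
  obtain ⟨t, ht⟩ := PrimeSpectrum.isCompact_isOpen_iff.1 ⟨hU, U.isOpen⟩
  let e := t.equivFin
  let f : Fin t.card → MvPolynomial (Fin n) R := fun i => (e.symm i).1
  have hf : ∀ i, f i ∈ t := fun i => (e.symm i).2
  have hmem : ∀ z : PrimeSpectrum (MvPolynomial (Fin n) R),
      z ∈ (U : Set ↥(Spec (CommRingCat.of (MvPolynomial (Fin n) R)))) ↔ ∃ i, f i ∉ z.asIdeal := by
    intro z
    rw [← ht]
    show ¬ ((t : Set (MvPolynomial (Fin n) R)) ⊆ z.asIdeal) ↔ _
    rw [Set.not_subset]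
    constructor
    · rintro ⟨a, ha, hz⟩
      refine ⟨e ⟨a, ha⟩, ?_⟩
      simpa [f] using hz
    · rintro ⟨i, hi⟩
      exact ⟨f i, hf i, hi⟩
  obtain ⟨x, hx⟩ := Groth.Agent.LGRingLib.exists_span_eval_eq_top hR f fun m hm => by
    obtain ⟨xb, hxb⟩ := h m
    choose x hx using fun i => Ideal.Quotient.mk_surjective (xb i)
    obtain ⟨i, hi⟩ := (hmem _).1 (hxb ⟨(⟨⊥, Ideal.isPrime_bot⟩ : PrimeSpectrum (R ⧸ m)), rfl⟩)
    refine ⟨x, i, fun hm' => hi ?_⟩
    show MvPolynomial.eval₂Hom (Ideal.Quotient.mk m) xb (f i) = 0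
    rw [show xb = Ideal.Quotient.mk m ∘ x from funext fun j => (hx j).symm]
    exact (MvPolynomial.eval₂_comp (Ideal.Quotient.mk m) x (f i)).symm.trans (Ideal.Quotient.eq_zero_iff_mem.2 hm')
  refine ⟨x, ?_⟩
  rintro _ ⟨p, rfl⟩
  refine (hmem _).2 ?_
  by_contra hno
  push_neg at hno
  refine p.isPrime.ne_top (eq_top_iff.2 (hx.ge.trans (Ideal.span_le.2 ?_)))
  rintro _ ⟨i, rfl⟩
  exact hno i

end Groth.Agent.S16599
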