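import Groth.Statements.S16600
import Groth.Agent.S16599
import Mathlib.LinearAlgebra.SymmetricAlgebra.Basic
import Mathlib.Algebra.Module.Projective

set_option autoImplicit false
open AlgebraicGeometry
universe u
open LGRing

namespace Groth.Agent.S16600

/-- Let R be an LG-ring, M a finite locally free R-module, W(M) = Spec Sym(M^∨) the vector bundle of M
(its points with values in an R-algebra R' are the R-algebra maps Sym(M^∨) → R', i.e. the R-linear
maps M^∨ → R'), and U ⊆ W(M) an open quasi-compact subscheme. Then U(R) is non-empty if and only if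
U(R ⧸ m) is non-empty for every maximal ideal m of R. -/
theorem result {R : Type u} [CommRing R]
    (hR : LGRing.IsLGRing R) (M : Type u) [AddCommGroup M] [Module R M] [Module.Finite R M] [Module.Projective R M]
    (U : (Spec (CommRingCat.of (SymmetricAlgebra R (Module.Dual R M)))).Opens)
    (hU : IsCompact (U : Set ↥(Spec (CommRingCat.of (SymmetricAlgebra R (Module.Dual R M)))))) :
    (∃ φ : Module.Dual R M →ₗ[R] R,
      Set.range (Spec.map (CommRingCat.ofHom (SymmetricAlgebra.lift φ).toRingHom)).base ⊆
        (U : Set ↥(Spec (CommRingCat.of (SymmetricAlgebra R (Module.Dual R M)))))) ↔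
    ∀ (m : Ideal R) [m.IsMaximal], ∃ φ : Module.Dual R M →ₗ[R] (R ⧸ m),
      Set.range (Spec.map (CommRingCat.ofHom (SymmetricAlgebra.lift φ).toRingHom)).base ⊆
        (U : Set ↥(Spec (CommRingCat.of (SymmetricAlgebra R (Module.Dual R M))))) := by
  classical
  constructor
  · rintro ⟨φ, hφ⟩ m _
    refine ⟨(Algebra.linearMap R (R ⧸ m)).comp φ, ?_⟩
    have e : (SymmetricAlgebra.lift ((Algebra.linearMap R (R ⧸ m)).comp φ)).toRingHom =
        (Ideal.Quotient.mk m).comp (SymmetricAlgebra.lift φ).toRingHom := by
      have : SymmetricAlgebra.lift ((Algebra.linearMap R (R ⧸ m)).comp φ) =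
          (Ideal.Quotient.mkₐ R m).comp (SymmetricAlgebra.lift φ) := by
        apply SymmetricAlgebra.algHom_ext
        ext d
        simp
      rw [this]; rfl
    rw [e]
    rintro _ ⟨z, rfl⟩
    exact hφ ⟨Spec.map (CommRingCat.ofHom (Ideal.Quotient.mk m)) z, rfl⟩
  · intro h
    obtain ⟨n, π, hπ⟩ := Module.Finite.exists_fin' R (Module.Dual R M)
    obtain ⟨s, hs⟩ := Module.projective_lifting_property π LinearMap.id hπ
    let L : (Fin n → R) →ₗ[R] MvPolynomial (Fin n) R := Fintype.linearCombination R MvPolynomial.X
    let σ : SymmetricAlgebra R (Module.Dual R M) →ₐ[R] MvPolynomial (Fin n) R :=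
      SymmetricAlgebra.lift (L.comp s)
    let g := Spec.map (CommRingCat.ofHom σ.toRingHom)
    have key : ∀ (S : Type u) [CommRing S] [Algebra R S] (φ : Module.Dual R M →ₗ[R] S) (x : Fin n → S),
        (∀ d, φ d = ∑ i, s d i • x i) →
        (SymmetricAlgebra.lift φ).toRingHom = (MvPolynomial.eval₂Hom (algebraMap R S) x).comp σ.toRingHom := by
      intro S _ _ φ x hx
      have : SymmetricAlgebra.lift φ = (MvPolynomial.aeval x).comp σ := by
        apply SymmetricAlgebra.algHom_ext
        ext d
        simp [σ, L, hx, Fintype.linearCombination_apply]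
      rw [this]; rfl
    obtain ⟨x, hx⟩ := Groth.Agent.S16599.result hR n (g ⁻¹ᵁ U)
      (QuasiCompact.isCompact_preimage _ U.isOpen hU) (fun m _ => by
        obtain ⟨φ, hφ⟩ := h m
        refine ⟨fun i => φ (π (Pi.single i 1)), ?_⟩
        have e := key (R ⧸ m) φ (fun i => φ (π (Pi.single i 1))) (fun d => by
          conv_lhs => rw [← show π (s d) = d from LinearMap.congr_fun hs d,
            ← (Pi.basisFun R (Fin n)).sum_repr (s d)]
          simp)
        rintro _ ⟨z, rfl⟩
        show g _ ∈ U
        apply hφ
        refine ⟨z, ?_⟩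
        rw [e]
        rfl)
    refine ⟨(Fintype.linearCombination R x).comp s, ?_⟩
    have e := key R ((Fintype.linearCombination R x).comp s) x (fun d => by
      simp [Fintype.linearCombination_apply])
    rw [e]
    rintro _ ⟨z, rfl⟩
    exact hx ⟨z, rfl⟩

end Groth.Agent.S16600
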