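import Groth.Statements.S16601
import Groth.Agent.S16600
import Mathlib.Algebra.MvPolynomial.Funext

set_option autoImplicit false
open AlgebraicGeometry
universe u
open LGRing

namespace Groth.Agent.S16601

/-- Let R be an LG-ring whose residue fields at maximal ideals are all infinite (R satisfies the
primitive criterion), M a finite locally free R-module with vector bundle W(M) = Spec Sym(M^∨), and
U ⊆ W(M) an open quasi-compact subscheme which is fibrewise dense over the closed points of Spec R
(for every maximal ideal m, the trace of U on the closed fibre Spec (Sym(M^∨) ⧸ m Sym(M^∨)) is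
dense). Then U has an R-valued point. (The source asks U to be R-dense in W(M); only density of the
closed fibres is used, which is what is assumed here.) -/
theorem result {R : Type u} [CommRing R]
    (hR : LGRing.IsLGRing R) (hinf : ∀ (m : Ideal R) [m.IsMaximal], Infinite (R ⧸ m))
    (M : Type u) [AddCommGroup M] [Module R M] [Module.Finite R M] [Module.Projective R M]
    (U : (Spec (CommRingCat.of (SymmetricAlgebra R (Module.Dual R M)))).Opens)
    (hU : IsCompact (U : Set ↥(Spec (CommRingCat.of (SymmetricAlgebra R (Module.Dual R M))))))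
    (hdense : ∀ (m : Ideal R) [m.IsMaximal],
      Dense ((Spec.map (CommRingCat.ofHom (Ideal.Quotient.mk
        (Ideal.map (algebraMap R (SymmetricAlgebra R (Module.Dual R M))) m)))).base ⁻¹'
          (U : Set ↥(Spec (CommRingCat.of (SymmetricAlgebra R (Module.Dual R M))))))) :
    ∃ φ : Module.Dual R M →ₗ[R] R,
      Set.range (Spec.map (CommRingCat.ofHom (SymmetricAlgebra.lift φ).toRingHom)).base ⊆
        (U : Set ↥(Spec (CommRingCat.of (SymmetricAlgebra R (Module.Dual R M))))) := by
  classical
  refine (Groth.Agent.S16600.result hR M U hU).2 fun m _ => ?_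
  obtain ⟨n, π, hπ⟩ := Module.Finite.exists_fin' R (Module.Dual R M)
  obtain ⟨s, hs⟩ := Module.projective_lifting_property π LinearMap.id hπ
  let S := SymmetricAlgebra R (Module.Dual R M)
  let L : (Fin n → R) →ₗ[R] MvPolynomial (Fin n) R := Fintype.linearCombination R MvPolynomial.X
  let σ : S →ₐ[R] MvPolynomial (Fin n) R := SymmetricAlgebra.lift (L.comp s)
  let ρ : MvPolynomial (Fin n) R →ₐ[R] S :=
    MvPolynomial.aeval fun i => SymmetricAlgebra.ι R _ (π (Pi.single i 1))
  have hρσ : ρ.comp σ = AlgHom.id R S := by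
    apply SymmetricAlgebra.algHom_ext
    ext d
    have hd : d = ∑ i, s d i • π (Pi.single i 1) := by
      conv_lhs => rw [← show π (s d) = d from LinearMap.congr_fun hs d, ← (Pi.basisFun R (Fin n)).sum_repr (s d)]
      simp
    simp only [LinearMap.comp_apply, AlgHom.toLinearMap_apply, AlgHom.comp_apply, AlgHom.id_apply]
    conv_rhs => rw [hd]
    simp [σ, L, ρ, S, Fintype.linearCombination_apply]
  haveI : Nontrivial (S ⧸ m.map (algebraMap R S)) := by
    let τ := Ideal.Quotient.lift (m.map (algebraMap R S))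
      (SymmetricAlgebra.lift (0 : Module.Dual R M →ₗ[R] R ⧸ m)).toRingHom (fun a ha => by
        refine (show m.map (algebraMap R S) ≤ RingHom.ker (SymmetricAlgebra.lift (0 : Module.Dual R M →ₗ[R] R ⧸ m)).toRingHom from
          Ideal.map_le_iff_le_comap.2 fun r hr => ?_) ha
        show SymmetricAlgebra.lift (0 : Module.Dual R M →ₗ[R] R ⧸ m) (algebraMap R S r) = 0
        rw [AlgHom.commutes]
        exact Ideal.Quotient.eq_zero_iff_mem.2 hr)
    exact RingHom.domain_nontrivial τ
  obtain ⟨z, hz⟩ := (hdense m).nonempty (h := (inferInstance : Nonempty (PrimeSpectrum (S ⧸ m.map (algebraMap R S)))))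
  let P : PrimeSpectrum S := PrimeSpectrum.comap (Ideal.Quotient.mk _) z
  have hPU : P ∈ (U : Set ↥(Spec (CommRingCat.of S))) := hz
  have hPm : m ≤ P.asIdeal.comap (algebraMap R S) := fun r hr => by
    show Ideal.Quotient.mk _ (algebraMap R S r) ∈ z.asIdeal
    rw [Ideal.Quotient.eq_zero_iff_mem.2 (Ideal.mem_map_of_mem _ hr)]
    exact zero_mem _
  let g : PrimeSpectrum (MvPolynomial (Fin n) R) → PrimeSpectrum S := PrimeSpectrum.comap σ.toRingHom
  have hgc : Continuous g := PrimeSpectrum.continuous_comap _
  let Q : PrimeSpectrum (MvPolynomial (Fin n) R) := PrimeSpectrum.comap ρ.toRingHom P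
  have hQ : g Q ∈ (U : Set ↥(Spec (CommRingCat.of S))) := by
    convert hPU
    apply PrimeSpectrum.ext
    ext a
    show ρ (σ a) ∈ P.asIdeal ↔ _
    rw [show ρ (σ a) = a from AlgHom.congr_fun hρσ a]
  obtain ⟨_, ⟨f, rfl⟩, hfQ, hfU⟩ := PrimeSpectrum.isTopologicalBasis_basic_opens.exists_subset_of_mem_open
    (show Q ∈ g ⁻¹' (U : Set ↥(Spec (CommRingCat.of S))) from hQ) (U.isOpen.preimage hgc)
  have hne : MvPolynomial.map (Ideal.Quotient.mk m) f ≠ 0 := by
    intro h0
    apply hfQ
    have hker : f ∈ RingHom.ker (MvPolynomial.map (Ideal.Quotient.mk m)) := h0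
    rw [MvPolynomial.ker_map, Ideal.mk_ker] at hker
    refine (show m.map MvPolynomial.C ≤ Q.asIdeal from Ideal.map_le_iff_le_comap.2 fun r hr => ?_) hker
    show ρ (MvPolynomial.C r) ∈ P.asIdeal
    rw [show ρ (MvPolynomial.C r) = algebraMap R S r from ρ.commutes r]
    exact hPm hr
  letI := Ideal.Quotient.field m
  haveI := hinf m
  obtain ⟨x, hx⟩ : ∃ x : Fin n → R ⧸ m, MvPolynomial.eval x (MvPolynomial.map (Ideal.Quotient.mk m) f) ≠ 0 := by
    by_contra hc
    push_neg at hc
    exact hne (MvPolynomial.funext fun x => by rw [hc x, map_zero])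
  refine ⟨(Fintype.linearCombination R x).comp s, ?_⟩
  rintro _ ⟨w, rfl⟩
  have e : SymmetricAlgebra.lift ((Fintype.linearCombination R x).comp s) = (MvPolynomial.aeval x).comp σ := by
    apply SymmetricAlgebra.algHom_ext
    ext d
    simp [σ, L, Fintype.linearCombination_apply]
  rw [e]
  have hb : PrimeSpectrum.comap (MvPolynomial.aeval x : MvPolynomial (Fin n) R →ₐ[R] R ⧸ m).toRingHom w ∈
      (PrimeSpectrum.basicOpen f : Set (PrimeSpectrum (MvPolynomial (Fin n) R))) := by
    show ¬ MvPolynomial.aeval x f ∈ w.asIdeal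
    intro hmem
    rw [MvPolynomial.eval_map] at hx
    exact w.isPrime.ne_top (Ideal.eq_top_of_isUnit_mem _ hmem (isUnit_iff_ne_zero.2 hx))
  exact hfU hb

end Groth.Agent.S16601
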