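import Groth.Statements.S16602
import Groth.Agent.LGAz.Cancel

set_option autoImplicit false
universe u v w
open Brauer

namespace Groth.Agent.S16602

/-- Let R be an LG-ring with Spec R connected and A an Azumaya R-algebra. Then any two indecomposable
finitely generated projective left A-modules are isomorphic (a module is indecomposable when it is
non-zero and the only idempotents of its endomorphism ring are 0 and 1). (This extends the semilocal
case.) -/
theorem result {R : Type u} [CommRing R]
    (hR : LGRing.IsLGRing R) [ConnectedSpace (PrimeSpectrum R)] {A : Type v} [Ring A] [Algebra R A] [IsAzumaya R A]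
    (P Q : Type w) [AddCommGroup P] [Module A P] [Module.Finite A P] [Module.Projective A P] [Nontrivial P]
    [AddCommGroup Q] [Module A Q] [Module.Finite A Q] [Module.Projective A Q] [Nontrivial Q]
    (hP : ∀ e : Module.End A P, IsIdempotentElem e → e = 0 ∨ e = 1)
    (hQ : ∀ e : Module.End A Q, IsIdempotentElem e → e = 0 ∨ e = 1) : Nonempty (P ≃ₗ[A] Q) := by
  letI : Module R P := Module.compHom P (algebraMap R A)
  letI : Module R Q := Module.compHom Q (algebraMap R A)
  haveI : IsScalarTower R A P := ⟨fun r a x => by
    show (r • a) • x = algebraMap R A r • a • x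
    rw [Algebra.smul_def, mul_smul]⟩
  haveI : IsScalarTower R A Q := ⟨fun r a x => by
    show (r • a) • x = algebraMap R A r • a • x
    rw [Algebra.smul_def, mul_smul]⟩
  have key : ∀ (X Y : Type w) [AddCommGroup X] [AddCommGroup Y] [Module A X] [Module A Y]
      [Module.Projective A Y] [Nontrivial Y],
      (∀ e : Module.End A X, IsIdempotentElem e → e = 0 ∨ e = 1) →
      ∀ f : X →ₗ[A] Y, Function.Surjective f → Nonempty (X ≃ₗ[A] Y) := by
    intro X Y _ _ _ _ _ _ hX f hf
    obtain ⟨s, hs⟩ := Module.projective_lifting_property f LinearMap.id hf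
    have hfs : ∀ y, f (s y) = y := fun y => LinearMap.congr_fun hs y
    rcases hX (s ∘ₗ f) (LinearMap.ext fun x => by simp [Module.End.mul_apply, hfs]) with h0 | h1
    · exfalso
      obtain ⟨y, hy⟩ := exists_ne (0 : Y)
      have := congrArg f (LinearMap.congr_fun h0 (s y))
      simp [hfs] at this
      exact hy this
    · exact ⟨LinearEquiv.ofBijective f
        ⟨Function.LeftInverse.injective (g := s) (LinearMap.congr_fun h1), hf⟩⟩
  haveI := LGAz.finite_restrictScalars (R := R) (A := A) P
  haveI := LGAz.finite_restrictScalars (R := R) (A := A) Q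
  haveI := LGAz.projective_restrictScalars (R := R) (A := A) P
  haveI := LGAz.projective_restrictScalars (R := R) (A := A) Q
  have hconst : ∀ (X : Type w) [AddCommGroup X] [Module R X] [Module.Finite R X] [Module.Projective R X]
      (p q : PrimeSpectrum R), Module.rankAtStalk (R := R) X p = Module.rankAtStalk X q :=
    fun X _ _ _ _ p q => by
      haveI := Module.finitePresentation_of_projective R X
      exact (Module.isLocallyConstant_rankAtStalk (R := R) (M := X)).apply_eq_of_preconnectedSpace p q
  obtain ⟨p₀⟩ : Nonempty (PrimeSpectrum R) := inferInstance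
  rcases le_total (Module.rankAtStalk (R := R) Q p₀) (Module.rankAtStalk P p₀) with h | h
  · obtain ⟨f, hf⟩ := LGAz.exists_surjective (A := A) P Q hR fun m _ => by
      rw [hconst Q _ p₀, hconst P _ p₀]; exact h
    exact key P Q hP f hf
  · obtain ⟨f, hf⟩ := LGAz.exists_surjective (A := A) Q P hR fun m _ => by
      rw [hconst P _ p₀, hconst Q _ p₀]; exact h
    exact (key Q P hQ f hf).map LinearEquiv.symm

end Groth.Agent.S16602
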