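import Groth.Statements.S16607
import Groth.Agent.LGAz.Cancel

set_option autoImplicit false
universe u v
open Brauer

open scoped TensorProduct
namespace Groth.Agent.S16607

/-- Let R be an LG-ring, A and B Azumaya R-algebras and n ≥ 1. If Mₙ(A) ≅ Mₙ(B) as R-algebras then A ≅ B
as R-algebras (cancellation of Azumaya algebras). -/
theorem result {R : Type u} [CommRing R]
    (hR : LGRing.IsLGRing R) (A B : Type v) [Ring A] [Algebra R A] [IsAzumaya R A] [Ring B] [Algebra R B]
    [IsAzumaya R B] (n : ℕ) (hn : 0 < n)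
    (e : Matrix (Fin n) (Fin n) A ≃ₐ[R] Matrix (Fin n) (Fin n) B) : Nonempty (A ≃ₐ[R] B) := by
  haveI : Nonempty (Fin n) := ⟨⟨0, hn⟩⟩
  have hP : FaithfulSMul R (Fin n → R) := inferInstance
  let φ : A ⊗[R] Module.End R (Fin n → R) ≃ₐ[R] B ⊗[R] Module.End R (Fin n → R) :=
    (Algebra.TensorProduct.congr AlgEquiv.refl algEquivMatrix').trans
      ((matrixEquivTensor (Fin n) R A).symm.trans (e.trans ((matrixEquivTensor (Fin n) R B).trans
        (Algebra.TensorProduct.congr AlgEquiv.refl algEquivMatrix'.symm))))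
  refine LGAz.nonempty_algEquiv hR A B (fun p => ?_) (Fin n → R) (Fin n → R) φ
  have hh := congrFun (Module.rankAtStalk_eq_of_equiv φ.toLinearEquiv) p
  rw [Module.rankAtStalk_tensorProduct, Module.rankAtStalk_tensorProduct, Pi.mul_apply,
    Pi.mul_apply] at hh
  refine Nat.eq_of_mul_eq_mul_right ?_ hh
  rw [LGAz.rankAtStalk_end]
  exact Nat.mul_pos (LGAz.rankAtStalk_pos _ p) (LGAz.rankAtStalk_pos _ p)

end Groth.Agent.S16607
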