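import Groth.Statements.S1661
import Mathlib.RingTheory.Regular.RegularSequence
import Mathlib.RingTheory.Regular.Flat
import Mathlib.AlgebraicGeometry.Morphisms.Flat
import Mathlib.AlgebraicGeometry.Morphisms.ClosedImmersion
-- import your own Groth.Agent.* helpers here

set_option autoImplicit false
universe u
open CategoryTheory CategoryTheory.Limits AlgebraicGeometry
open Divisors

namespace Groth.Agent.S1661

/-- If i : Z → Y and j : Y → X are regular closed immersions then so is their composite Z → X. This is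
the closed-immersion case of the published statement. -/
theorem result {Z Y X : Scheme.{u}} (i : Z ⟶ Y) (j : Y ⟶ X)
    (hi : Mor2.IsRegularClosedImmersion i) (hj : Mor2.IsRegularClosedImmersion j) : Mor2.IsRegularClosedImmersion (i ≫ j) := by
  obtain ⟨hi₁, hi₂⟩ := hi
  obtain ⟨hj₁, hj₂⟩ := hj
  haveI := hi₁; haveI := hj₁
  refine ⟨inferInstance, fun z => ?_⟩
  obtain ⟨V, hV, hzV, ss, hss, hkerV⟩ := hi₂ z
  obtain ⟨U, hU, hzU, rs, hrs, hkerU⟩ := hj₂ (i z)
  have hU' : IsAffineOpen (j ⁻¹ᵁ U) := hU.preimage j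
  obtain ⟨g, h, hgh, hzg⟩ := exists_basicOpen_le_affine_inter hU' hV (i z) ⟨hzU, hzV⟩
  obtain ⟨f, hf⟩ := j.app_surjective U hU g
  let W : X.affineOpens := ⟨X.basicOpen f, hU.basicOpen f⟩
  have hWpre : j ⁻¹ᵁ W.1 = Y.basicOpen g := by
    show j ⁻¹ᵁ X.basicOpen f = _
    rw [Scheme.preimage_basicOpen]
    exact congrArg Y.basicOpen hf
  let D : Y.affineOpens := ⟨j ⁻¹ᵁ W.1, W.2.preimage j⟩
  have hWU : W.1 ≤ U := X.basicOpen_le f
  have hDV : D.1 ≤ V := hWpre.le.trans (hgh.le.trans (Y.basicOpen_le h))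
  refine ⟨W.1, W.2, (SetLike.ext_iff.1 hWpre (i z)).2 hzg, ?_⟩
  let ρ := (X.presheaf.map (homOfLE hWU).op).hom
  let σ := (Y.presheaf.map (homOfLE hDV).op).hom
  let π := (j.app W.1).hom
  have hπ : Function.Surjective π := j.app_surjective W.1 W.2
  have flat_res : ∀ {T : Scheme.{u}} {P Q : T.Opens} (_ : IsAffineOpen P) (_ : IsAffineOpen Q) (hle : Q ≤ P),
      (T.presheaf.map (homOfLE hle).op).hom.Flat := by
    intro T P Q hP hQ hle
    have h4 := Scheme.Hom.flat_appLE (𝟙 T) hP hQ hle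
    rwa [show (𝟙 T : T ⟶ T).appLE P Q hle = T.presheaf.map (homOfLE hle).op from Category.id_comp _] at h4
  have hrW : RingTheory.Sequence.IsWeaklyRegular Γ(X, W.1) (rs.map ρ) := by
    letI := ρ.toAlgebra
    haveI : Module.Flat Γ(X, U) Γ(X, W.1) := flat_res hU W.2 hWU
    exact RingTheory.Sequence.IsWeaklyRegular.of_flat hrs.toIsWeaklyRegular
  have hsD : RingTheory.Sequence.IsWeaklyRegular Γ(Y, D.1) (ss.map σ) := by
    letI := σ.toAlgebra
    haveI : Module.Flat Γ(Y, V) Γ(Y, D.1) := flat_res hV D.2 hDV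
    exact RingTheory.Sequence.IsWeaklyRegular.of_flat hss.toIsWeaklyRegular
  have hkπ : RingHom.ker π = Ideal.ofList (rs.map ρ) := by
    rw [← Scheme.Hom.ker_apply j W, ← Ideal.map_ofList, ← hkerU]
    exact (j.ker.map_ideal (U := W) (V := ⟨U, hU⟩) hWU).symm
  have hkD : RingHom.ker (i.app D.1).hom = Ideal.ofList (ss.map σ) := by
    rw [← Scheme.Hom.ker_apply i D, ← Ideal.map_ofList, ← hkerV]
    exact (i.ker.map_ideal (U := D) (V := ⟨V, hV⟩) hDV).symm
  choose lift hlift using hπ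
  let ts := (ss.map σ).map lift
  have hts : ts.map π = ss.map σ := by
    simp [ts, List.map_map, Function.comp_def, hlift]
  have hideal : (i ≫ j).ker.ideal W = Ideal.ofList (rs.map ρ ++ ts) := by
    rw [Ideal.ofList_append, Scheme.Hom.ker_apply]
    show RingHom.ker ((i.app (j ⁻¹ᵁ W.1)).hom.comp π) = _
    rw [← RingHom.comap_ker,
      show RingHom.ker (i.app (j ⁻¹ᵁ W.1)).hom = (Ideal.ofList ts).map π from hkD.trans (by rw [Ideal.map_ofList, hts]),
      Ideal.comap_map_of_surjective π (fun y => ⟨lift y, hlift y⟩), sup_comm]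
    exact congrArg (· ⊔ Ideal.ofList ts) hkπ
  refine ⟨rs.map ρ ++ ts, ⟨(RingTheory.Sequence.isWeaklyRegular_append_iff' _ _ _).2 ⟨hrW, ?_⟩, ?_⟩, hideal⟩
  · let e : (Γ(X, W.1) ⧸ (Ideal.ofList (rs.map ρ) • ⊤ : Submodule Γ(X, W.1) Γ(X, W.1))) ≃+ Γ(Y, D.1) :=
      ((Submodule.quotEquivOfEq _ (RingHom.ker π) (by rw [hkπ, smul_eq_mul, Ideal.mul_top])).toAddEquiv).trans
        (RingHom.quotientKerEquivOfSurjective (f := π) fun y => ⟨lift y, hlift y⟩).toAddEquiv
    refine (e.isWeaklyRegular_congr ?_).2 hsD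
    rw [← hts]
    refine List.forall₂_map_left_iff.2 (List.forall₂_map_right_iff.2 (List.forall₂_same.2 fun r _ x => ?_))
    obtain ⟨x, rfl⟩ := Submodule.Quotient.mk_surjective _ x
    exact map_mul π r x
  · rw [smul_eq_mul, Ideal.mul_top, ← hideal, Scheme.Hom.ker_apply]
    haveI : Nonempty ((i ≫ j) ⁻¹ᵁ W.1) := ⟨⟨z, (SetLike.ext_iff.1 hWpre (i z)).2 hzg⟩⟩
    exact (RingHom.ker_ne_top _).symm

end Groth.Agent.S1661
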