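import Groth.Statements.S16619
import Groth.Agent.AzCorner.Basic

set_option autoImplicit false
open scoped TensorProduct
universe u
open Brauer

namespace Groth.Agent.S16619

/-- Let R be a connected commutative ring. Then every class of the Brauer group of R is represented by
an Azumaya algebra B with idemp(B) = {0, 1}: for every Azumaya R-algebra A there are such a B and
faithfully projective R-modules P, Q with A ⊗_R End_R(P) ≅ B ⊗_R End_R(Q) as R-algebras. -/
theorem result {R : Type u} [CommRing R]
    [ConnectedSpace (PrimeSpectrum R)] (A : Type u) [Ring A] [Algebra R A] [IsAzumaya R A] :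
    ∃ (B : Type u) (_ : Ring B) (_ : Algebra R B) (_ : IsAzumaya R B) (P Q : Type u) (_ : AddCommGroup P)
      (_ : Module R P) (_ : AddCommGroup Q) (_ : Module R Q),
      (∀ b : B, IsIdempotentElem b → b = 0 ∨ b = 1) ∧ Module.Finite R P ∧ Module.Projective R P ∧
      FaithfulSMul R P ∧ Module.Finite R Q ∧ Module.Projective R Q ∧ FaithfulSMul R Q ∧
      Nonempty (A ⊗[R] Module.End R P ≃ₐ[R] B ⊗[R] Module.End R Q) := by
  classical
  obtain ⟨p₀⟩ : Nonempty (PrimeSpectrum R) := inferInstance
  haveI : Nontrivial R := by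
    refine ⟨0, 1, fun h => p₀.isPrime.ne_top ((Ideal.eq_top_iff_one _).2 (h ▸ zero_mem _))⟩
  have hfp : ∀ (e : A) (he : IsIdempotentElem e),
      Module.Finite R he.Corner ∧ Module.Projective R he.Corner := fun e he =>
    ⟨Module.Finite.of_surjective (AzCorner.pC he) fun x => ⟨_, AzCorner.pC_iC he x⟩,
     Module.Projective.of_split (AzCorner.iC he) (AzCorner.pC he)
      (LinearMap.ext (AzCorner.pC_iC he))⟩
  have hconst : ∀ (X : Type u) [AddCommGroup X] [Module R X] [Module.Finite R X] [Module.Projective R X]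
      (p : PrimeSpectrum R), Module.rankAtStalk (R := R) X p = Module.rankAtStalk X p₀ :=
    fun X _ _ _ _ p => by
      haveI := Module.finitePresentation_of_projective R X
      exact (Module.isLocallyConstant_rankAtStalk (R := R) (M := X)).apply_eq_of_preconnectedSpace p p₀
  have hzero : ∀ (X : Type u) [AddCommGroup X] [Module R X] [Module.Finite R X] [Module.Projective R X],
      Module.rankAtStalk (R := R) X p₀ = 0 → Subsingleton X := fun X _ _ _ _ h => by
    rw [← Module.rankAtStalk_eq_zero_iff_subsingleton (R := R)]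
    funext p
    rw [hconst X p, h]; rfl
  haveI : Nontrivial A := by
    obtain ⟨g, hg⟩ := CSA.exists_dual_one_eq_one R A
    exact ⟨0, 1, fun h => one_ne_zero (by rw [← hg, ← h, map_zero])⟩
  let n : {e : A // IsIdempotentElem e} → ℕ := fun e => Module.rankAtStalk (R := R) e.2.Corner p₀
  have hex : ∃ k, ∃ e : {e : A // IsIdempotentElem e}, e.1 ≠ 0 ∧ n e = k :=
    ⟨_, ⟨1, IsIdempotentElem.one⟩, one_ne_zero, rfl⟩
  obtain ⟨⟨e, he⟩, he0 : e ≠ 0, hmin⟩ := Nat.find_spec hex
  obtain ⟨_, _⟩ := hfp e he
  have h1 : IsIdempotentElem (1 : A) := IsIdempotentElem.one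
  obtain ⟨_, _⟩ := hfp 1 h1
  -- trivial idempotents
  have htriv : ∀ b : he.Corner, IsIdempotentElem b → b = 0 ∨ b = 1 := by
    intro b hb
    by_contra hne
    rw [not_or] at hne
    have hb' : IsIdempotentElem b.1 := congrArg Subtype.val hb.eq
    have hb0 : b.1 ≠ 0 := fun h => hne.1 (Subtype.ext h)
    obtain ⟨_, _⟩ := hfp b.1 hb'
    let i : hb'.Corner →ₗ[R] he.Corner := (AzCorner.pC he).comp (AzCorner.iC hb')
    let q : he.Corner →ₗ[R] hb'.Corner := (AzCorner.pC hb').comp (AzCorner.iC he)
    have hbe : e * b.1 = b.1 := AzCorner.corner_left he b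
    have heb : b.1 * e = b.1 := AzCorner.corner_right he b
    have hqi : ∀ x, q (i x) = x := fun x => Subtype.ext (by
      show b.1 * (e * x.1 * e) * b.1 = x.1
      rw [show b.1 * (e * x.1 * e) * b.1 = (b.1 * e) * x.1 * (e * b.1) by simp only [mul_assoc],
        hbe, heb, AzCorner.corner_left hb', AzCorner.corner_right hb'])
    let K := LinearMap.ker q
    let r : he.Corner →ₗ[R] K := (LinearMap.id - i ∘ₗ q).codRestrict K fun x => by simp [K, hqi]
    have hr : ∀ z : K, r z = z := fun z => by
      have hz : q z = 0 := z.2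
      simp [r, hz, Subtype.ext_iff]
    haveI : Module.Finite R K := Module.Finite.of_surjective r fun z => ⟨z, hr z⟩
    haveI : Module.Projective R K := Module.Projective.of_split K.subtype r (LinearMap.ext hr)
    let d : he.Corner ≃ₗ[R] K × hb'.Corner := LinearEquiv.ofLinearMap (r.prod q) (K.subtype.coprod i)
      (LinearMap.ext fun ⟨⟨z, hz⟩, y⟩ => by
        have hz' : q z = 0 := hz
        simp [r, hz', hqi, Subtype.ext_iff])
      (LinearMap.ext fun x => by simp [r])
    have h0 : Module.rankAtStalk (R := R) K p₀ = 0 := by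
      have := congrFun (Module.rankAtStalk_eq_of_equiv (M := he.Corner) (N := K × hb'.Corner) d) p₀
      rw [Module.rankAtStalk_prod, Pi.add_apply] at this
      have h2 : Nat.find hex ≤ Module.rankAtStalk (R := R) hb'.Corner p₀ :=
        Nat.find_min' hex ⟨⟨b.1, hb'⟩, hb0, rfl⟩
      have h3 : Module.rankAtStalk (R := R) he.Corner p₀ = Nat.find hex := hmin
      omega
    have := hzero K h0
    have h4 : r (1 : he.Corner) = 0 := Subsingleton.elim _ _
    have h5 : (1 : he.Corner) - i (q 1) = 0 := congrArg Subtype.val h4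
    refine hne.2 (Subtype.ext ?_)
    have h6 : e = e * (b.1 * e * b.1) * e :=
      congrArg (AzCorner.iC (R := R) he) (sub_eq_zero.1 h5)
    rw [heb, hb'.eq, hbe, heb] at h6
    exact h6.symm
  -- eAe is Azumaya
  have hpos : 0 < Module.rankAtStalk (R := R) he.Corner p₀ := by
    rcases Nat.eq_zero_or_pos (Module.rankAtStalk (R := R) he.Corner p₀) with h | h
    · exfalso
      have := hzero he.Corner h
      exact he0 (congrArg Subtype.val (Subsingleton.elim (1 : he.Corner) 0))
    · exact h
  haveI : FaithfulSMul R he.Corner :=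
    AzCorner.faithfulSMul_of_rankAtStalk_pos _ fun p => by rw [hconst he.Corner p]; exact hpos
  obtain ⟨νB, hνB⟩ := AzCorner.exists_algEquiv_end (AzCorner.iC he) (AzCorner.pC he) (AzCorner.iC he)
    (AzCorner.pC he) (AzCorner.iC he) (AzCorner.pC he) (AzCorner.pC_iC (R := R) he) (AzCorner.iC_mul he)
    (AzCorner.iC_pC he) (AzCorner.pC_iC he) (AzCorner.iC_mul he) (AzCorner.iC_pC he)
    (AzCorner.pC_iC he) (AzCorner.iC_pC he)
  haveI hBAz : IsAzumaya R he.Corner :=
    { bij := by
        have : (AlgHom.mulLeftRight R he.Corner) = νB.toAlgHom := by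
          refine Algebra.TensorProduct.ext' fun b c => LinearMap.ext fun x => ?_
          obtain ⟨c, rfl⟩ : ∃ d, MulOpposite.op d = c := ⟨_, MulOpposite.op_unop c⟩
          refine Function.LeftInverse.injective (AzCorner.pC_iC (R := R) he) ?_
          refine Eq.trans ?_ (hνB b c x).symm
          simp [AzCorner.iC_mul, mul_assoc]
        rw [this]; exact νB.bijective }
  -- A ⊗ (eAe)ᵒᵖ = End (Ae)
  let Q : Submodule R A := LinearMap.range (LinearMap.mulRight R e)
  let pQ : A →ₗ[R] Q := (LinearMap.mulRight R e).rangeRestrict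
  have hQe : ∀ x : Q, x.1 * e = x.1 := fun x => by
    obtain ⟨y, hy⟩ := LinearMap.mem_range.1 x.2
    rw [← hy, LinearMap.mulRight_apply, mul_assoc, he.eq]
  have hpQ : ∀ x : Q, pQ x.1 = x := fun x => Subtype.ext (hQe x)
  obtain ⟨νA, -⟩ := AzCorner.exists_algEquiv_end (LinearMap.id : A →ₗ[R] A) LinearMap.id Q.subtype pQ
    (AzCorner.iC he) (AzCorner.pC he) (fun _ => rfl) (fun _ _ => rfl) (by simp)
    (AzCorner.pC_iC (R := R) he) (AzCorner.iC_mul he) (AzCorner.iC_pC he) hpQ
    (fun x => by show x * e = 1 * x * e; rw [one_mul])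
  haveI : Module.Finite R Q := Module.Finite.range _
  haveI : Module.Projective R Q := Module.Projective.of_split Q.subtype pQ (LinearMap.ext hpQ)
  haveI : FaithfulSMul R Q := by
    refine ⟨fun {r s} h => eq_of_smul_eq_smul (α := he.Corner) fun x => Subtype.ext ?_⟩
    have := congrArg Subtype.val (h ⟨x.1, LinearMap.mem_range.2 ⟨x.1, AzCorner.corner_right he x⟩⟩)
    rw [AzCorner.corner_smul, AzCorner.corner_smul]
    simpa using this
  let μB : he.Corner ⊗[R] he.Cornerᵐᵒᵖ ≃ₐ[R] Module.End R he.Corner :=
    AlgEquiv.ofBijective (AlgHom.mulLeftRight R he.Corner) IsAzumaya.bij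
  refine ⟨he.Corner, inferInstance, inferInstance, hBAz, he.Corner, Q, inferInstance, inferInstance,
    inferInstance, inferInstance, htriv, inferInstance, inferInstance, inferInstance, inferInstance,
    inferInstance, inferInstance, ⟨?_⟩⟩
  exact (Algebra.TensorProduct.congr AlgEquiv.refl μB.symm).trans
    ((Algebra.TensorProduct.leftComm R A he.Corner he.Cornerᵐᵒᵖ).trans
      (Algebra.TensorProduct.congr AlgEquiv.refl νA))

end Groth.Agent.S16619
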