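import Groth.Statements.S1662
import Groth.Agent.BlowExist.Main
import Groth.Agent.FlatCrit.Basic
-- import your own Groth.Agent.* helpers here

set_option autoImplicit false
universe u
open CategoryTheory CategoryTheory.Limits AlgebraicGeometry
open Divisors

namespace Groth.Agent.S1662

/-- Let f : X → S, D an effective Cartier divisor on X such that D → S is flat, and g : S' → S any
morphism. Then the inverse image of D in X ×_S S' is an effective Cartier divisor. -/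
theorem result {X S S' : Scheme.{u}} (f : X ⟶ S) (D : X.IdealSheafData) (hD : BlowUp.IsEffCartierIdeal D)
    [Flat (D.subschemeι ≫ f)] (g : S' ⟶ S) :
    BlowUp.IsEffCartierIdeal (D.comap (pullback.fst f g)) := by
  refine ModPairLib.isEffCartier_of_local fun x' => ?_
  let s' := pullback.snd f g x'
  let x := pullback.fst f g x'
  obtain ⟨U, hU, hsU, -⟩ := exists_isAffineOpen_mem_and_subset (U := (⊤ : S.Opens)) (x := f x) trivial
  obtain ⟨T, hT, hs'T, hTU⟩ := exists_isAffineOpen_mem_and_subset (U := g ⁻¹ᵁ U) (x := s') (by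
    show g (pullback.snd f g x') ∈ U
    rw [← Scheme.Hom.comp_apply, ← pullback.condition, Scheme.Hom.comp_apply]
    exact hsU)
  obtain ⟨V, hxV, hVU, hpr⟩ := ModPairLib.exists_span hD x (f ⁻¹ᵁ U) hsU
  obtain ⟨e, he⟩ := hpr V le_rfl
  have he0 := ModPairLib.nzd_of_span hD V he
  let φ := (f.appLE U V.1 hVU).hom
  let ψ := (g.appLE U T hTU).hom
  letI := φ.toAlgebra
  letI := ψ.toAlgebra
  let R := Γ(S, U)
  let A := Γ(X, V.1)
  let R' := Γ(S', T)
  -- flatness of the quotient by e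
  let Q : Ideal Γ(X, V.1) := Ideal.span {e}
  have hflat : Module.Flat Γ(S, U) (Γ(X, V.1) ⧸ Q) := by
    let ι := D.subschemeι
    have hW : IsAffineOpen (ι ⁻¹ᵁ V.1) := V.2.preimage ι
    have h1 := Scheme.Hom.flat_appLE (ι ≫ f) hU hW
      (show ι ⁻¹ᵁ V.1 ≤ (ι ≫ f) ⁻¹ᵁ U from ι.preimage_mono hVU)
    have h2 : (ι ≫ f).appLE U (ι ⁻¹ᵁ V.1) (ι.preimage_mono hVU) = f.appLE U V.1 hVU ≫ ι.app V.1 := by
      rw [← Scheme.Hom.appLE_comp_appLE ι f U V.1 (ι ⁻¹ᵁ V.1) hVU le_rfl, Scheme.Hom.app_eq_appLE]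
    rw [h2] at h1
    have hs : Function.Surjective (ι.app V.1).hom := ι.app_surjective V.1 V.2
    have hk : RingHom.ker (ι.app V.1).hom = Q := by
      rw [← Scheme.Hom.ker_apply ι V, Scheme.IdealSheafData.ker_subschemeι, he]
    let σ := ((Ideal.quotEquivOfEq hk).symm.trans (RingHom.quotientKerEquivOfSurjective hs))
    have h4 := RingHom.Flat.comp h1 (RingHom.Flat.of_bijective (f := σ.symm.toRingHom) σ.symm.bijective)
    have h3 : σ.symm.toRingHom.comp ((f.appLE U V.1 hVU ≫ ι.app V.1).hom) =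
        algebraMap Γ(S, U) (Γ(X, V.1) ⧸ Q) := by
      ext r
      apply σ.injective
      show σ (σ.symm _) = _
      rw [RingEquiv.apply_symm_apply]
      rfl
    rw [h3] at h4
    exact RingHom.flat_algebraMap_iff.1 h4
  -- injectivity of multiplication after base change
  have hnzd : (e ⊗ₜ[Γ(S, U)] (1 : Γ(S', T))) ∈ nonZeroDivisors (TensorProduct Γ(S, U) Γ(X, V.1) Γ(S', T)) := by
    let m : Γ(X, V.1) →ₗ[Γ(S, U)] Γ(X, V.1) := LinearMap.mulLeft Γ(S, U) e
    let q : Γ(X, V.1) →ₗ[Γ(S, U)] Γ(X, V.1) ⧸ Q := (Ideal.Quotient.mkₐ Γ(S, U) Q).toLinearMap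
    have hm : Function.Injective m := fun a b h =>
      (isRegular_iff_mem_nonZeroDivisors.2 he0).left h
    have hex : Function.Exact m q := fun a => by
      show Ideal.Quotient.mk Q a = 0 ↔ _
      rw [Ideal.Quotient.eq_zero_iff_mem, Ideal.mem_span_singleton]
      exact ⟨fun ⟨c, hc⟩ => ⟨c, hc.symm⟩, fun ⟨c, hc⟩ => ⟨c, hc.symm⟩⟩
    have hinj : Function.Injective (m.lTensor Γ(S', T)) :=
      (FlatCrit.TorZero.of_flat (R := Γ(S, U)) (M := Γ(S', T)) (Q := Γ(X, V.1) ⧸ Q)).lTensor_injective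
        hm hex Ideal.Quotient.mk_surjective
    rw [LinearMap.lTensor_inj_iff_rTensor_inj] at hinj
    have hmul : ∀ z, m.rTensor Γ(S', T) z = (e ⊗ₜ[Γ(S, U)] (1 : Γ(S', T))) * z := fun z => by
      induction z with
      | zero => simp
      | tmul a b => simp [m]
      | add u v hu hv => rw [map_add, mul_add, hu, hv]
    refine mem_nonZeroDivisors_iff.2 ⟨fun z hz => ?_, fun z hz => ?_⟩ <;> apply hinj <;> rw [hmul, map_zero]
    · exact hz
    · rwa [mul_comm]
  -- the chart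
  have e₁ : Spec.map (CommRingCat.ofHom φ) ≫ hU.fromSpec = V.2.fromSpec ≫ f :=
    IsAffineOpen.SpecMap_appLE_fromSpec f hU V.2 hVU
  have e₂ : Spec.map (CommRingCat.ofHom ψ) ≫ hU.fromSpec = hT.fromSpec ≫ g :=
    IsAffineOpen.SpecMap_appLE_fromSpec g hU hT hTU
  haveI := V.2.isOpenImmersion_fromSpec
  haveI := hT.isOpenImmersion_fromSpec
  haveI := hU.isOpenImmersion_fromSpec
  let j : Spec (CommRingCat.of (TensorProduct Γ(S, U) Γ(X, V.1) Γ(S', T))) ⟶ pullback f g :=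
    (pullbackSpecIso Γ(S, U) Γ(X, V.1) Γ(S', T)).inv ≫ pullback.map _ _ _ _ V.2.fromSpec hT.fromSpec hU.fromSpec e₁ e₂
  refine ⟨_, j, inferInstance, ?_, ?_⟩
  · obtain ⟨p, hp⟩ : x' ∈ Set.range (pullback.map _ _ _ _ V.2.fromSpec hT.fromSpec hU.fromSpec e₁ e₂) := by
      rw [Scheme.Pullback.range_map]
      exact ⟨V.2.range_fromSpec.symm ▸ hxV, hT.range_fromSpec.symm ▸ hs'T⟩
    refine ⟨(pullbackSpecIso Γ(S, U) Γ(X, V.1) Γ(S', T)).hom p, ?_⟩
    show (pullback.map _ _ _ _ V.2.fromSpec hT.fromSpec hU.fromSpec e₁ e₂)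
      ((pullbackSpecIso Γ(S, U) Γ(X, V.1) Γ(S', T)).inv ((pullbackSpecIso Γ(S, U) Γ(X, V.1) Γ(S', T)).hom p)) = x'
    rw [← Scheme.Hom.comp_apply (pullbackSpecIso Γ(S, U) Γ(X, V.1) Γ(S', T)).hom, Iso.hom_inv_id]
    exact hp
  · have hj : j ≫ pullback.fst f g =
        Spec.map (CommRingCat.ofHom (Algebra.TensorProduct.includeLeftRingHom : Γ(X, V.1) →+* TensorProduct Γ(S, U) Γ(X, V.1) Γ(S', T))) ≫ V.2.fromSpec := by
      show ((pullbackSpecIso Γ(S, U) Γ(X, V.1) Γ(S', T)).inv ≫ pullback.map _ _ _ _ _ _ _ e₁ e₂) ≫ _ = _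
      rw [Category.assoc, pullback.lift_fst, pullbackSpecIso_inv_fst_assoc]
    rw [← Scheme.IdealSheafData.comap_comp, hj, Scheme.IdealSheafData.comap_comp, BlowExist.comap_fromSpec,
      BlowExist.comap_topId, he, Ideal.map_span, Set.image_singleton]
    exact BlowExist.isEffCartier_topId hnzd

end Groth.Agent.S1662
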