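import Groth.Statements.S16627
import Groth.Agent.S10829
import Groth.Agent.GrModLib.TwistN
import Groth.Agent.ProjCoord.Basic
import Groth.Agent.CurveDeg.Tensor
import Groth.Agent.CurveDeg.Euler
import Groth.Agent.CohFinite.Vanishing
import Groth.Agent.TwistVanish.Basic
-- import your own Groth.Agent.* helpers here

set_option autoImplicit false
universe u
open Variety

namespace Groth.Agent.S16627

open AlgebraicGeometry CategoryTheory CategoryTheory.Limits in
/-- Let k be a field, F a coherent module on projective n-space P^n_k which is m-regular, and ι : F ⊗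
O(-1) → F a monomorphism of O-modules (such as multiplication by a linear form that is a
nonzerodivisor on F, i.e. a hyperplane avoiding the associated points of F). Then the cokernel of ι
— the restriction of F to the hyperplane, as a module on P^n_k — is again m-regular. (Stated for an
arbitrary monomorphism F(-1) → F and an arbitrary ground field.) -/
theorem result (k : Type u) [Field k] (n : ℕ)
    (F : (CohB1.ProjSpace n k).Modules) (hF : Coh.IsCoh F) (m : ℤ) (hreg : Curv2.IsMRegular k n F m)
    (ι : CohB1.tensorMod F (Twist.twistProjSpace n k (-1)) ⟶ F) [Mono ι] :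
    Curv2.IsMRegular k n (cokernel ι) m := by
  let _ : (CohB1.ProjSpace n k).Over (Spec (CommRingCat.of k)) := ⟨CohB1.ProjSpace.toSpec n k⟩
  have : IsProper (CohB1.ProjSpace n k ↘ Spec (CommRingCat.of k)) :=
    Groth.Agent.ProjCoord.isProper_baseMap (n := n) (R := k)
  have := Groth.Agent.CurveDeg.isSeparated_of_proper (k := k) (X := CohB1.ProjSpace n k)
  have := Groth.Agent.CurveDeg.isNoetherian_of_proper (k := k) (X := CohB1.ProjSpace n k)
  have hcov : (⨆ f : CohB1.polyGrading n k 1,
      Proj.basicOpen (CohB1.polyGrading n k) (f : MvPolynomial (Fin (n + 1)) k)) = ⊤ :=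
    Proj.iSup_basicOpen_eq_top _ (fun f : CohB1.polyGrading n k 1 => (f : MvPolynomial (Fin (n + 1)) k))
      (Groth.Agent.ProjCoord.irrelevant_le_span_X.trans (Ideal.span_mono (by
        rintro _ ⟨j, rfl⟩
        exact ⟨⟨_, MvPolynomial.isHomogeneous_X k j⟩, rfl⟩)))
  have hinv : ∀ d : ℤ, PicF.IsInvertible (Twist.twistProjSpace n k d) := fun d =>
    Groth.Agent.GrModLib.isInvertible_twist (CohB1.polyGrading n k) d hcov
  intro i h1 hn
  have hS : (ShortComplex.mk ι (cokernel.π ι) (cokernel.condition ι)).ShortExact :=
    { exact := ShortComplex.exact_of_g_is_cokernel _ (cokernelIsCokernel ι)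
      mono_f := inferInstanceAs (Mono ι)
      epi_g := inferInstanceAs (Epi (cokernel.π ι)) }
  obtain ⟨w, hw⟩ := Groth.Agent.CurveDeg.shortExact_twist hS (hinv (m - i))
  refine Groth.Agent.Devissage.subsingleton_HH_right hw i (hreg i h1 hn) ?_
  rcases le_or_gt (i + 1) n with h | h
  · have := Groth.Agent.GrModLib.isIso_mulMap (CohB1.polyGrading n k) (-1) (m - i) hcov
    have heq : Twist.twistProjSpace n k (-1 + (m - i)) = Twist.twistProjSpace n k (m - ↑(i + 1)) := by
      congr 1
      push_cast
      ring
    exact Groth.Agent.Devissage.subsingleton_HH_of_iso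
      (Groth.Agent.TensorMod.assocIso F (Twist.twistProjSpace n k (-1)) (Twist.twistProjSpace n k (m - i)) ≪≫
        Groth.Agent.TensorMod.tensorIso (Iso.refl F)
          ((@asIso _ _ _ _ _ this : _ ≅ Twist.twistProjSpace n k (-1 + (m - i))) ≪≫ eqToIso heq)).symm
      (i + 1) (hreg (i + 1) (by omega) h)
  · refine Groth.Agent.CohFinite.subsingleton_HH_of_dim_lt _
      (Groth.Agent.TensorMod.isQCoh_tensorMod (hinv _) (Groth.Agent.TensorMod.isQCoh_tensorMod (hinv _) hF.1)) _ ?_
    rw [Groth.Agent.S10829.result k n]
    exact_mod_cast h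

end Groth.Agent.S16627
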