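import Groth.Statements.S16644
import Mathlib
-- import your own Groth.Agent.* helpers here

set_option autoImplicit false
open QuadZ

namespace Groth.Agent.S16644

/-- For odd n, the discriminant of the universal quadratic form Σ_{i ≤ j} A_{ij} x_i x_j in n variables
(variables A_{ij} indexed by unordered pairs), i.e. the determinant of the symmetric matrix with
diagonal entries 2 A_{ii} and off-diagonal entries A_{ij}, is divisible by 2 in the integral
polynomial ring ℤ[A_{ij}] (so the half-discriminant is an integral polynomial). -/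
theorem result (n : ℕ) (hn : Odd n) :
    (2 : MvPolynomial (Sym2 (Fin n)) ℤ) ∣
      (Matrix.of fun i j : Fin n =>
        if i = j then 2 * MvPolynomial.X (R := ℤ) (σ := Sym2 (Fin n)) (Sym2.mk i j)
        else MvPolynomial.X (R := ℤ) (σ := Sym2 (Fin n)) (Sym2.mk i j)).det := by
  classical
  rcases Nat.eq_zero_or_pos n with h0 | h0
  · exact absurd hn (by subst h0; decide)
  let R := MvPolynomial (Sym2 (Fin n)) ℤ
  let B : Matrix (Fin n) (Fin n) R := Matrix.of fun i j =>
    if i = j then 0 else if i < j then MvPolynomial.X (Sym2.mk i j) else -MvPolynomial.X (Sym2.mk i j)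
  have hB : B.det = 0 := by
    have h1 : B.transpose = -B := by
      ext1 i j
      simp only [B, Matrix.transpose_apply, Matrix.of_apply, Matrix.neg_apply]
      rcases lt_trichotomy i j with h | h | h
      · rw [if_neg h.ne', if_neg (not_lt.2 h.le), if_neg h.ne, if_pos h, Sym2.eq_swap]
      · simp [h]
      · rw [if_neg h.ne, if_pos h, if_neg h.ne', if_neg (not_lt.2 h.le), neg_neg, Sym2.eq_swap]
    have h2 : B.det = -B.det := by
      conv_lhs => rw [← Matrix.det_transpose, h1, Matrix.det_neg, Fintype.card_fin, hn.neg_one_pow, neg_one_mul]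
    exact CharZero.eq_neg_self_iff.1 h2
  rw [← Ideal.mem_span_singleton, ← Ideal.Quotient.eq_zero_iff_mem, RingHom.map_det]
  refine Eq.trans ?_ ((congrArg (Ideal.Quotient.mk (Ideal.span {(2 : R)})) hB).trans (map_zero _))
  rw [RingHom.map_det]
  congr 1
  have h2 : Ideal.Quotient.mk (Ideal.span {(2 : R)}) 2 = 0 :=
    Ideal.Quotient.eq_zero_iff_mem.2 (Ideal.mem_span_singleton_self _)
  ext1 i j
  simp only [B, RingHom.mapMatrix_apply, Matrix.map_apply, Matrix.of_apply]
  rcases lt_trichotomy i j with h | h | h
  · simp [h.ne, h]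
    rfl
  · subst h
    simp only [if_true, map_mul, map_zero]
    exact mul_eq_zero_of_left h2 _
  · simp only [h.ne', not_lt.2 h.le, if_false]
    rw [Ideal.Quotient.eq, Ideal.mem_span_singleton]
    exact ⟨MvPolynomial.X (Sym2.mk i j), by ring⟩

end Groth.Agent.S16644
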