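import Groth.Statements.S16663
import Groth.Agent.ConnHoriz.Basic
import Mathlib

set_option autoImplicit false
universe v u
open TensorProduct
open Conn

namespace Groth.Agent.S16663

/-- Let B be an A-algebra with a receptacle of differentials (Ω, δ), Ω a finite free B-module (the local
form of a weakly smooth scheme), and let M be a finitely ℤ-graded B-module presented as a finite
family of finite free B-modules M_i with integer degrees deg i (the local form of a graded vector
bundle), with total module Π_i M_i. Let ∇ be a connection on Π_i M_i preserving the grading, in the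
sense that (pr_j ⊗ 1)(∇(ι_i m)) = 0 for m ∈ M_i whenever deg i ≠ deg j, and let ∇_E be the induced
connection on the B-linear endomorphisms, the one with (ev_m ⊗ 1)(∇_E φ) = ∇(φ m) − (φ ⊗ 1)(∇ m).
Give B the connection b ↦ 1 ⊗ δ b. Then the supertrace, φ ↦ tr(ε ∘ φ) with ε = Σ_i (−1)^{deg i} ι_i
∘ pr_i the grading involution, is a horizontal map End_B(Π_i M_i) → B. -/
theorem result {A : Type v} {B Ω ι : Type u}
    [CommRing A] [CommRing B] [Algebra A B]
    [AddCommGroup Ω] [Module B Ω] [Module A Ω] [IsScalarTower A B Ω] [Module.Finite B Ω] [Module.Free B Ω]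
    [Fintype ι] [DecidableEq ι] (deg : ι → ℤ) (M : ι → Type u)
    [∀ i, AddCommGroup (M i)] [∀ i, Module B (M i)] [∀ i, Module A (M i)] [∀ i, IsScalarTower A B (M i)]
    [∀ i, Module.Free B (M i)] [∀ i, Module.Finite B (M i)]
    (δ : Derivation A B Ω) (nabla : (Π k, M k) →ₗ[A] (Π k, M k) ⊗[B] Ω) (hc : Conn.IsConn δ nabla)
    (hgr : ∀ i j : ι, deg i ≠ deg j → ∀ m : M i,
      TensorProduct.map (LinearMap.proj j : (Π k, M k) →ₗ[B] M j) LinearMap.id (nabla (LinearMap.single B M i m)) = 0)
    (nablaE : ((Π k, M k) →ₗ[B] (Π k, M k)) →ₗ[A] ((Π k, M k) →ₗ[B] (Π k, M k)) ⊗[B] Ω)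
    (hE : Conn.IsHomConn nabla nabla nablaE) :
    Conn.IsHorizontal nablaE (Conn.triv δ)
      (LinearMap.trace B (Π k, M k) ∘ₗ LinearMap.llcomp B (Π k, M k) (Π k, M k) (Π k, M k)
        (∑ i : ι, (LinearMap.single B M i) ∘ₗ (((-1 : B) ^ (deg i).natAbs) • (LinearMap.proj i : (Π k, M k) →ₗ[B] M i)))) := by
  classical
  let c : ι → B := fun i => (-1 : B) ^ (deg i).natAbs
  have hcst : ∀ (θ : Ω →ₗ[B] B) (i : ι), θ (δ (c i)) = 0 := fun θ i => by
    rcases neg_one_pow_eq_or B (deg i).natAbs with h | h <;> simp [c, h]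
  let J : (Π k, M k) →ₗ[B] (Π k, M k) :=
    ∑ i : ι, (LinearMap.single B M i) ∘ₗ (c i • (LinearMap.proj i : (Π k, M k) →ₗ[B] M i))
  have hJ : ∀ (x : Π k, M k) (j : ι), J x j = c j • x j := fun x j => by
    simp only [J, LinearMap.coe_sum, Finset.sum_apply, LinearMap.comp_apply, LinearMap.coe_single,
      LinearMap.smul_apply, LinearMap.proj_apply, Pi.single_apply]
    rw [Finset.sum_eq_single j] <;> simp +contextual [Ne.symm]
  have hcomm : ∀ (θ : Ω →ₗ[B] B) (x : Π k, M k),
      Conn.along nabla θ (J x) = J (Conn.along nabla θ x) := by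
    intro θ x
    rw [← Finset.univ_sum_single x]
    simp only [map_sum]
    refine Finset.sum_congr rfl fun i _ => ?_
    have h1 : J (Pi.single i (x i)) = c i • Pi.single i (x i) := funext fun j => by
      rw [hJ]
      rcases eq_or_ne j i with rfl | h
      · simp
      · simp [h]
    rw [h1, ConnHoriz.along_smul hc, hcst, zero_smul, add_zero]
    funext j
    rw [hJ, Pi.smul_apply]
    rcases eq_or_ne (deg i) (deg j) with h | h
    · simp [c, h]
    · have h2 := congrArg (fun z => TensorProduct.rid B (M j) (TensorProduct.map LinearMap.id θ z))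
        (hgr i j h (x i))
      simp only [map_zero, ConnHoriz.contract_map] at h2
      have h3 : Conn.along nabla θ (Pi.single i (x i)) j = 0 := by
        simpa [Conn.along_apply] using h2
      rw [h3, smul_zero, smul_zero]
  refine ConnHoriz.isHorizontal_of_along fun θ f => ?_
  rw [ConnHoriz.along_triv]
  show θ (δ (LinearMap.trace B _ (J ∘ₗ f))) = LinearMap.trace B _ (J ∘ₗ Conn.along nablaE θ f)
  rw [ConnHoriz.trace_along hc hE θ (J ∘ₗ f)]
  congr 1
  refine LinearMap.ext fun m => ?_
  simp only [LinearMap.comp_apply, ConnHoriz.along_hom hE, hcomm, map_sub]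
end Groth.Agent.S16663
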