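import Groth.Statements.S16667
import Groth.Agent.Depth.CM
import Mathlib
-- import your own Groth.Agent.* helpers here

set_option autoImplicit false
universe u
open CAlg

open Pointwise

namespace Groth.Agent.S16667

/-- Let A be a Noetherian integral domain satisfying Serre's condition (S_2), with fraction field K. An
element of K which lies in the localization A_p for every prime p of A with depth(A_p) = 1 lies in
A. -/
theorem result {A : Type u} [CommRing A] [IsDomain A]
    [IsNoetherianRing A] (hS2 : LocCoh.HasSk 2 A A) (x : FractionRing A)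
    (hx : ∀ (p : Ideal A) [p.IsPrime],
      LocCoh.depth (Localization.AtPrime p) (Localization.AtPrime p) = 1 →
        x ∈ Set.range (algebraMap (Localization.AtPrime p) (FractionRing A))) :
    x ∈ Set.range (algebraMap A (FractionRing A)) := by
  obtain ⟨a, ⟨b, hb⟩, rfl⟩ := IsLocalization.exists_mk'_eq (nonZeroDivisors A) x
  have hb0 : b ≠ 0 := nonZeroDivisors.ne_zero hb
  let Q := QuotSMulTop b A
  let m : Q := Submodule.Quotient.mk a
  by_cases hm : m = 0
  · obtain ⟨c, -, hc⟩ := (Submodule.mem_smul_pointwise_iff_exists _ _ _).1 ((Submodule.Quotient.mk_eq_zero _).1 hm)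
    exact ⟨c, by rw [eq_comm, IsLocalization.mk'_eq_iff_eq_mul, ← map_mul, ← hc, smul_eq_mul, mul_comm]⟩
  exfalso
  obtain ⟨p, hp, hle⟩ := exists_le_isAssociatedPrime_of_isNoetherianRing A m hm
  haveI := hp.isPrime
  have hann : ∀ c : A, c • m = 0 → c ∈ p := fun c hc => hle (by simpa [Submodule.mem_colon_singleton] using hc)
  have hbp : b ∈ p := hann b (by
    rw [← Submodule.Quotient.mk_smul]
    exact (Submodule.Quotient.mk_eq_zero _).2 (Submodule.smul_mem_pointwise_smul a b ⊤ trivial))
  haveI : Nontrivial (LocalizedModule p.primeCompl Q) :=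
    Module.mem_support_iff.1 (Module.mem_support_iff_of_finite.mpr
      (le_of_eq_of_le Submodule.annihilator_top.symm hp.annihilator_le) :
        (⟨p, inferInstance⟩ : PrimeSpectrum A) ∈ Module.support A Q)
  haveI : IsNoetherianRing (Localization.AtPrime p) :=
    IsLocalization.isNoetherianRing p.primeCompl _ inferInstance
  have h0 : LocCoh.depth (Localization.AtPrime p) (LocalizedModule p.primeCompl Q) = 0 :=
    Groth.Agent.Depth.depth_eq_zero_iff.2
      (Module.associatedPrimes.mem_associatedPrimes_atPrime_of_mem_associatedPrimes hp)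
  have h1 : LocCoh.depth (Localization.AtPrime p) (Localization.AtPrime p) = 1 := by
    rw [← Groth.Agent.Depth.depth_congr (Groth.Agent.Depth.localizedSelfEquiv p.primeCompl),
      ← Groth.Agent.Depth.depth_localized_quotSMulTop_add_one (M := A) p hbp
        (IsSMulRegular.of_ne_zero hb0), h0, zero_add]
  obtain ⟨y, hy⟩ := hx p h1
  obtain ⟨c, s, rfl⟩ := IsLocalization.exists_mk'_eq p.primeCompl y
  have h2 : algebraMap A (FractionRing A) ((s : A) * a) = algebraMap A (FractionRing A) (b * c) := by
    have h3 := congrArg (algebraMap (Localization.AtPrime p) (FractionRing A))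
      (IsLocalization.mk'_spec (Localization.AtPrime p) c s)
    rw [map_mul, hy, ← IsScalarTower.algebraMap_apply, ← IsScalarTower.algebraMap_apply] at h3
    rw [map_mul, map_mul, ← IsLocalization.mk'_spec (FractionRing A) a (⟨b, hb⟩ : nonZeroDivisors A), ← h3]
    ring
  refine s.2 (hann s ?_)
  rw [← Submodule.Quotient.mk_smul, smul_eq_mul, IsFractionRing.injective A (FractionRing A) h2]
  exact (Submodule.Quotient.mk_eq_zero _).2 (Submodule.smul_mem_pointwise_smul c b ⊤ trivial)

end Groth.Agent.S16667
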