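import Groth.Statements.S16689
import Mathlib
import Groth.Agent.HopfLib.Antipode

set_option autoImplicit false
universe u v w
open ComodSub

namespace Groth.Agent.S16689

open scoped TensorProduct


/-- Let `k` be a commutative ring, `A` a commutative Hopf algebra over `k` with antipode `S`, and `M` a
`k`-module with a right `A`-comodule structure `m ↦ Σ m₀ ⊗ m₁`. Then the map `M → A ⊗ M`, `m ↦ Σ
S(m₁) ⊗ m₀`, is coassociative and counital: it is the coaction of a left `A`-comodule structure on
`M` (a left structure is determined by its coaction, so this structure is unique). -/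
theorem result (k : Type u) [CommRing k]
    (A : Type v) [CommRing A] [HopfAlgebra k A]
    (M : Type w) [AddCommGroup M] [Module k M] (c : HopfRep.Comod k A M) :
    ∃ l : ComodSub.LComod k A M, l.coact = ComodSub.lcoactOfRight c := by
  let S := HopfAlgebraStruct.antipode (R := k) (A := A)
  let r := ComodSub.lcoactOfRight c
  let Φ : (M ⊗[k] A) ⊗[k] A →ₗ[k] A ⊗[k] (A ⊗[k] M) :=
    (TensorProduct.assoc k A A M).toLinearMap ∘ₗ
    (TensorProduct.map (TensorProduct.map S S ∘ₗ (TensorProduct.comm k A A).toLinearMap) LinearMap.id) ∘ₗ
      (TensorProduct.comm k M (A ⊗[k] A)).toLinearMap ∘ₗ (TensorProduct.assoc k M A A).toLinearMap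
  have hr : ∀ m, r m = TensorProduct.comm k M A (S.lTensor M (c.coact m)) := fun m => rfl
  have h1 : ∀ x : M ⊗[k] A, r.lTensor A (TensorProduct.comm k M A (S.lTensor M x)) =
      Φ (c.coact.rTensor A x) := by
    intro x
    induction x using TensorProduct.induction_on with
    | zero => simp
    | add x y hx hy => simp [hx, hy]
    | tmul v a =>
      simp only [LinearMap.rTensor_tmul, TensorProduct.comm_tmul, LinearMap.lTensor_tmul, hr]
      induction c.coact v using TensorProduct.induction_on with
      | zero => simp
      | add x y hx hy => simp only [map_add, TensorProduct.add_tmul, TensorProduct.tmul_add, hx, hy]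
      | tmul w b => simp [Φ]
  have h2 : ∀ x : M ⊗[k] A, TensorProduct.assoc k A A M ((CoalgebraStruct.comul (R := k) (A := A)).rTensor M
        (TensorProduct.comm k M A (S.lTensor M x))) =
      Φ ((TensorProduct.assoc k M A A).symm ((CoalgebraStruct.comul (R := k) (A := A)).lTensor M x)) := by
    intro x
    induction x using TensorProduct.induction_on with
    | zero => simp
    | add x y hx hy => simp [hx, hy]
    | tmul v a =>
      simp only [LinearMap.rTensor_tmul, TensorProduct.comm_tmul, LinearMap.lTensor_tmul, S]
      rw [Groth.Agent.HopfLib.comul_antipode]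
      induction Coalgebra.comul (R := k) a using TensorProduct.induction_on with
      | zero => simp
      | add x y hx hy => simp only [map_add, TensorProduct.add_tmul, TensorProduct.tmul_add, hx, hy]
      | tmul b w => simp [Φ, S]
  refine ⟨{ coact := r, coassoc := ?_, counit_comp := ?_ }, rfl⟩
  · ext m
    simp only [LinearMap.comp_apply, LinearEquiv.coe_coe]
    rw [hr, h1, h2]
    have h5 := LinearMap.congr_fun c.coassoc m
    simp only [LinearMap.comp_apply, LinearEquiv.coe_coe] at h5
    rw [← h5, LinearEquiv.symm_apply_apply]
  · ext m
    simp only [LinearMap.comp_apply]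
    have h3 : ∀ x : M ⊗[k] A, (CoalgebraStruct.counit (R := k) (A := A)).rTensor M (TensorProduct.comm k M A (S.lTensor M x)) =
        TensorProduct.comm k M k ((CoalgebraStruct.counit (R := k) (A := A)).lTensor M x) := by
      intro x
      induction x using TensorProduct.induction_on with
      | zero => simp
      | add x y hx hy => simp [hx, hy]
      | tmul v a => simp [S]
    rw [hr, h3]
    have h4 := LinearMap.congr_fun c.counit_comp m
    simp only [LinearMap.comp_apply] at h4
    rw [h4]
    simp

end Groth.Agent.S16689
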