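import Groth.Statements.S16691
import Mathlib.RingTheory.Flat.Basic
import Mathlib.LinearAlgebra.LeftExact
import Mathlib.LinearAlgebra.TensorProduct.RightExactness
import Mathlib.RingTheory.HopfAlgebra.Basic

set_option autoImplicit false
universe u v w w'
open scoped TensorProduct
open ComodTens

namespace Groth.Agent.S16691

open TensorProduct

section Hom

variable {k : Type*} [CommRing k]

theorem dualTensorHom_natural {M M' : Type*} [AddCommGroup M] [Module k M] [AddCommGroup M'] [Module k M']
    {N : Type*} [AddCommGroup N] [Module k N] (g : M →ₗ[k] M') (z : Module.Dual k M' ⊗[k] N) :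
    dualTensorHom k M N (g.dualMap.rTensor N z) = dualTensorHom k M' N z ∘ₗ g := by
  induction z with
  | zero => simp
  | tmul f n => ext m; simp
  | add y z hy hz => simp only [map_add, LinearMap.add_comp, hy, hz]

/-- `M^* ⊗ N = Hom(M, N)` for `M` finitely presented and `N` flat. -/
theorem dualTensorHom_bijective_of_flat (M : Type*) [AddCommGroup M] [Module k M]
    [Module.FinitePresentation k M] (N : Type*) [AddCommGroup N] [Module k N] [Module.Flat k N] :
    Function.Bijective (dualTensorHom k M N) := by
  obtain ⟨n, m, p, g, hp, hgp⟩ := Module.FinitePresentation.exists_fin' k M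
  have hex : Function.Exact p.dualMap g.dualMap := LinearMap.exact_lcomp_of_exact_of_surjective k hgp hp
  have hexN := Module.Flat.rTensor_exact N hex
  have hinjN := Module.Flat.rTensor_preserves_injective_linearMap (M := N) _
    (LinearMap.dualMap_injective_of_surjective hp)
  have hn : Function.Bijective (dualTensorHom k (Fin n → k) N) := dualTensorHom_bijective
  have hm : Function.Bijective (dualTensorHom k (Fin m → k) N) := dualTensorHom_bijective
  refine ⟨(injective_iff_map_eq_zero _).2 fun z hz => hinjN ?_, fun h => ?_⟩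
  · rw [map_zero]
    refine hn.1 ?_
    rw [map_zero, dualTensorHom_natural, hz, LinearMap.zero_comp]
  · obtain ⟨w, hw⟩ := hn.2 (h ∘ₗ p)
    have h0 : g.dualMap.rTensor N w = 0 := hm.1 (by
      rw [map_zero, dualTensorHom_natural, hw, LinearMap.comp_assoc, hgp.linearMap_comp_eq_zero,
        LinearMap.comp_zero])
    obtain ⟨z, hz⟩ := (hexN w).1 h0
    refine ⟨z, LinearMap.ext fun x => ?_⟩
    obtain ⟨v, rfl⟩ := hp x
    rw [← hz, dualTensorHom_natural] at hw
    exact LinearMap.congr_fun hw v

end Hom

section Conv

variable {k : Type*} [CommRing k] {A : Type*} [CommRing A] [HopfAlgebra k A]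
variable {M : Type*} [AddCommGroup M] [Module k M] {B : Type*} [AddCommGroup B] [Module k B]

/-- multiply into the second factor -/
noncomputable def mu : (B ⊗[k] A) ⊗[k] A →ₗ[k] B ⊗[k] A :=
  (LinearMap.mul' k A).lTensor B ∘ₗ (TensorProduct.assoc k B A A).toLinearMap

theorem mu_tmul (b : B) (a c : A) : mu ((b ⊗ₜ[k] a) ⊗ₜ[k] c) = b ⊗ₜ[k] (a * c) := rfl

/-- convolution of a map `M → B ⊗ A` with an endomorphism of `A` -/
noncomputable def cv (cM : HopfRep.Comod k A M) (F : M →ₗ[k] B ⊗[k] A) (ψ : A →ₗ[k] A) :
    M →ₗ[k] B ⊗[k] A :=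
  mu ∘ₗ TensorProduct.map F ψ ∘ₗ cM.coact

theorem cv_cv (cM : HopfRep.Comod k A M) (F : M →ₗ[k] B ⊗[k] A) (ψ χ : A →ₗ[k] A) :
    cv cM (cv cM F ψ) χ = cv cM F (LinearMap.mul' k A ∘ₗ TensorProduct.map ψ χ ∘ₗ Coalgebra.comul) := by
  apply LinearMap.ext
  intro v
  have hco := LinearMap.congr_fun cM.coassoc v
  simp only [LinearMap.comp_apply, LinearEquiv.coe_coe] at hco
  let G : M ⊗[k] (A ⊗[k] A) →ₗ[k] B ⊗[k] A :=
    mu ∘ₗ TensorProduct.map F (LinearMap.mul' k A ∘ₗ TensorProduct.map ψ χ)
  have h1 : ∀ z : M ⊗[k] A, mu (TensorProduct.map (cv cM F ψ) χ z) =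
      G (TensorProduct.assoc k M A A (cM.coact.rTensor A z)) := by
    intro z
    induction z with
    | zero => simp
    | tmul u c =>
      simp only [TensorProduct.map_tmul, cv, LinearMap.comp_apply, LinearMap.rTensor_tmul]
      generalize cM.coact u = y
      induction y with
      | zero => simp
      | tmul p q =>
        simp only [TensorProduct.map_tmul, TensorProduct.assoc_tmul, G, LinearMap.comp_apply, LinearMap.mul'_apply]
        generalize F p = w
        induction w with
        | zero => simp
        | tmul b a => simp [mu_tmul, mul_assoc]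
        | add y z hy hz => simp only [map_add, add_tmul, hy, hz]
      | add y z hy hz => simp only [map_add, add_tmul, hy, hz]
    | add y z hy hz => simp only [map_add, hy, hz]
  have h2 : ∀ z : M ⊗[k] A, G ((Coalgebra.comul (R := k)).lTensor M z) =
      mu (TensorProduct.map F (LinearMap.mul' k A ∘ₗ TensorProduct.map ψ χ ∘ₗ Coalgebra.comul) z) := by
    intro z
    induction z with
    | zero => simp
    | tmul u c => simp [G]
    | add y z hy hz => simp only [map_add, hy, hz]
  show mu (TensorProduct.map (cv cM F ψ) χ (cM.coact v)) = _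
  rw [h1, hco, h2]
  rfl

theorem cv_one (cM : HopfRep.Comod k A M) (F : M →ₗ[k] B ⊗[k] A) :
    cv cM F (Algebra.linearMap k A ∘ₗ Coalgebra.counit) = F := by
  apply LinearMap.ext
  intro v
  have hco := LinearMap.congr_fun cM.counit_comp v
  simp only [LinearMap.comp_apply, LinearMap.flip_apply, TensorProduct.mk_apply] at hco
  have h : ∀ z : M ⊗[k] A, mu (TensorProduct.map F (Algebra.linearMap k A ∘ₗ Coalgebra.counit) z) =
      F (TensorProduct.rid k M ((Coalgebra.counit (R := k)).lTensor M z)) := by
    intro z
    induction z with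
    | zero => simp
    | tmul u c =>
      simp only [TensorProduct.map_tmul, LinearMap.comp_apply, LinearMap.lTensor_tmul, TensorProduct.rid_tmul,
        map_smul, Algebra.linearMap_apply]
      generalize F u = w
      induction w with
      | zero => simp
      | tmul b a => rw [mu_tmul, ← Algebra.commutes, ← Algebra.smul_def, tmul_smul]
      | add y z hy hz => simp only [map_add, add_tmul, smul_add, hy, hz]
    | add y z hy hz => simp only [map_add, hy, hz]
  show mu (TensorProduct.map F (Algebra.linearMap k A ∘ₗ Coalgebra.counit) (cM.coact v)) = F v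
  rw [h, hco]
  simp

end Conv


/-- Let `k` be a commutative ring, `A` a commutative Hopf algebra over `k`, flat over `k`, `B` a flat
`k`-module with a right `A`-comodule structure, and `M` a finitely presented `k`-module with a right
`A`-comodule structure; let `M^*` carry the contragredient structure `d` (for each form `f`, `d f`
read as a map `M → A` is `m ↦ Σ f(m₀) S(m₁)`) and `B ⊗ M^*` the tensor-product coaction `b ⊗ φ ↦ Σ
(b₀ ⊗ φ₀) ⊗ b₁ φ₁`. Then `b ⊗ φ ↦ (m ↦ φ(m) b)` restricts to a bijection from the invariants `(B ⊗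
M^*)^A` (elements with coaction `x ⊗ 1`) onto the `A`-comodule maps `M → B`. (The published
statement assumes `B` only finitely presented over `k`; for `k = ℤ`, `A = ℤ` the Hopf algebra of the
trivial group and `B = M = ℤ/2` with trivial coactions, `M^* = 0` so the invariants vanish while the
identity of `ℤ/2` is a comodule map, and the published proof uses that `B ⊗ M^* → Hom(M, B)` is
bijective, which holds for `B` flat; so `B` is taken flat here.) -/
theorem result (k : Type u) [CommRing k]
    (A : Type v) [CommRing A] [HopfAlgebra k A] [Module.Flat k A]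
    (B : Type w) [AddCommGroup B] [Module k B] [Module.Flat k B] (cB : HopfRep.Comod k A B)
    (M : Type w') [AddCommGroup M] [Module k M] [Module.FinitePresentation k M]
    (cM : HopfRep.Comod k A M)
    (d : HopfRep.Comod k A (Module.Dual k M)) (hd : ComodTens.Comod.IsDual cM d) :
    Set.BijOn
      (fun x : B ⊗[k] Module.Dual k M => dualTensorHom k M B (TensorProduct.comm k B (Module.Dual k M) x))
      ((@HopfRep.fixedPts k A _ _ _ (B ⊗[k] Module.Dual k M) _ _ (ComodTens.Comod.tensor cB d)) :
        Set (B ⊗[k] Module.Dual k M))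
      {h : M →ₗ[k] B | @Hoch.IsComodHom k _ A _ _ _ M _ _ cM B _ _ cB h} := by
  classical
  let Φ : B ⊗[k] Module.Dual k M →ₗ[k] (M →ₗ[k] B) :=
    dualTensorHom k M B ∘ₗ (TensorProduct.comm k B (Module.Dual k M)).toLinearMap
  have hΦ : Function.Bijective Φ :=
    (dualTensorHom_bijective_of_flat M B).comp (TensorProduct.comm k B (Module.Dual k M)).bijective
  let r : (B ⊗[k] Module.Dual k M) ⊗[k] A →ₗ[k] (B ⊗[k] A) ⊗[k] Module.Dual k M :=
    (TensorProduct.assoc k B A (Module.Dual k M)).symm.toLinearMap ∘ₗ
      (TensorProduct.comm k (Module.Dual k M) A).toLinearMap.lTensor B ∘ₗ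
      (TensorProduct.assoc k B (Module.Dual k M) A).toLinearMap
  let Ψ : (B ⊗[k] Module.Dual k M) ⊗[k] A →ₗ[k] (M →ₗ[k] B ⊗[k] A) :=
    dualTensorHom k M (B ⊗[k] A) ∘ₗ (TensorProduct.comm k (B ⊗[k] A) (Module.Dual k M)).toLinearMap ∘ₗ r
  have hr : Function.Injective r :=
    ((TensorProduct.assoc k B A (Module.Dual k M)).symm.injective.comp
      ((TensorProduct.comm k (Module.Dual k M) A).lTensor B).injective).comp
      (TensorProduct.assoc k B (Module.Dual k M) A).injective
  have hΨ : Function.Injective Ψ :=
    ((dualTensorHom_bijective_of_flat M (B ⊗[k] A)).1.comp (TensorProduct.comm k _ _).injective).comp hr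
  have hΨt : ∀ b f a (m : M), Ψ ((b ⊗ₜ f) ⊗ₜ a) m = f m • (b ⊗ₜ[k] a) := fun b f a m => by simp [Ψ, r]
  let one : B →ₗ[k] B ⊗[k] A := (TensorProduct.mk k B A).flip 1
  let S : A →ₗ[k] A := HopfAlgebraStruct.antipode k
  have h1 : ∀ x, Ψ (x ⊗ₜ (1 : A)) = one ∘ₗ Φ x := by
    intro x
    induction x with
    | zero => simp
    | tmul b f => ext m; rw [hΨt]; simp [Φ, one, smul_tmul']
    | add y z hy hz => simp only [map_add, add_tmul, LinearMap.comp_add, hy, hz]
  have h2 : ∀ x, Ψ ((ComodTens.Comod.tensor cB d).coact x) = cv cM (cB.coact ∘ₗ Φ x) S := by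
    intro x
    induction x with
    | zero => ext m; simp [cv]
    | add y z hy hz =>
      rw [map_add, map_add, hy, hz]
      ext m
      simp [cv, TensorProduct.map_add_left, LinearMap.comp_add]
    | tmul b f =>
      apply LinearMap.ext
      intro m
      rw [ComodTens.tensor_coact_tmul]
      have e : ∀ (y : B ⊗[k] A) (z : Module.Dual k M ⊗[k] A),
          Ψ (TensorProduct.map LinearMap.id (LinearMap.mul' k A)
            (AlgebraTensorModule.tensorTensorTensorComm k k k k B A (Module.Dual k M) A (y ⊗ₜ[k] z))) m =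
            mu (y ⊗ₜ[k] dualTensorHom k M A z m) := by
        intro y z
        induction y with
        | zero => simp
        | add p q hp hq => simp only [add_tmul, map_add, LinearMap.add_apply, hp, hq]
        | tmul b' a' =>
          induction z with
          | zero => simp
          | add p q hp hq => simp only [tmul_add, map_add, LinearMap.add_apply, hp, hq]
          | tmul g c =>
            rw [AlgebraTensorModule.tensorTensorTensorComm_tmul, TensorProduct.map_tmul, LinearMap.id_apply,
              LinearMap.mul'_apply, hΨt, dualTensorHom_apply, mu_tmul, mul_smul_comm, tmul_smul]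
      rw [e, hd f, ComodTens.dualCoactFun_apply]
      show _ = mu (TensorProduct.map (cB.coact ∘ₗ Φ (b ⊗ₜ f)) S (cM.coact m))
      generalize cM.coact m = w
      induction w with
      | zero => simp
      | tmul u c => simp [Φ, S, TensorProduct.smul_tmul]
      | add p q hp hq => simp only [map_add, tmul_add, hp, hq]
  have h3 : ∀ h : M →ₗ[k] B, cv cM (one ∘ₗ h) LinearMap.id = h.rTensor A ∘ₗ cM.coact := by
    intro h
    apply LinearMap.ext
    intro m
    show mu (TensorProduct.map (one ∘ₗ h) LinearMap.id (cM.coact m)) = h.rTensor A (cM.coact m)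
    generalize cM.coact m = w
    induction w with
    | zero => simp
    | tmul u c => simp [one, mu_tmul]
    | add p q hp hq => simp only [map_add, hp, hq]
  have hS1 : LinearMap.mul' k A ∘ₗ TensorProduct.map S LinearMap.id ∘ₗ Coalgebra.comul =
      Algebra.linearMap k A ∘ₗ Coalgebra.counit := HopfAlgebra.mul_antipode_rTensor_comul
  have hS2 : LinearMap.mul' k A ∘ₗ TensorProduct.map LinearMap.id S ∘ₗ Coalgebra.comul =
      Algebra.linearMap k A ∘ₗ Coalgebra.counit := HopfAlgebra.mul_antipode_lTensor_comul
  have key : ∀ x, (ComodTens.Comod.tensor cB d).coact x = x ⊗ₜ[k] (1 : A) ↔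
      cB.coact ∘ₗ Φ x = (Φ x).rTensor A ∘ₗ cM.coact := by
    intro x
    rw [← hΨ.eq_iff, h1, h2, ← h3]
    constructor
    · intro h
      rw [← h, cv_cv, hS1, cv_one]
    · intro h
      rw [h, cv_cv, hS2, cv_one]
  refine ⟨fun x hx => (key x).1 hx, hΦ.1.injOn, fun h hh => ?_⟩
  obtain ⟨x, rfl⟩ := hΦ.2 h
  exact ⟨x, (key x).2 hh, rfl⟩

end Groth.Agent.S16691
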