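import Groth.Statements.S16698
import Groth.Agent.WNA.FiniteQuot
import Groth.Agent.AlgStB.RepWith
import Groth.Agent.AlgStB.OfSp
import Groth.Agent.AlgStB.SpFp
import Groth.Agent.AlgStB.TargetDescent

set_option autoImplicit false
universe u
open AlgSt AlgSt.IsWellNighAffine

namespace Groth.Agent.S16698

open CategoryTheory AlgebraicGeometry in
/-- A well-nigh affine algebraic stack which is an algebraic space is an affine scheme. -/
theorem result (S : Scheme.{u}) (𝒳 : AlgSt.Cat S)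
    (h𝒳 : AlgSt.IsAlgStack Scheme.fppfPrecoverage 𝒳) (hw : AlgSt.IsWellNighAffine 𝒳)
    (hsp : AlgSt.RepByAlgSp 𝒳) :
    ∃ (U : Over S) (e : AlgSt.ofSch U ⥤ᵇ 𝒳), IsAffine U.left ∧ FibCat.IsEquivOver e := by
  obtain ⟨U, x, hU, hx⟩ := hw
  obtain ⟨F, e, he⟩ := hsp
  obtain ⟨G0, hG0, -, ⟨j⟩⟩ := Groth.Agent.Fib.exists_quasiInverse he
  let Φ : AlgSt.ofSp ((AlgSp.yon S).obj U) ⥤ᵇ AlgSt.ofSp F.obj :=
    BasedFunctor.comp (AlgSt.toOverCat U) (BasedFunctor.comp x G0)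
  obtain ⟨q, ⟨i⟩⟩ := Groth.Agent.AlgStB.exists_ofSpMap Φ
  have hΦ := (Groth.Agent.AlgStB.repByAlgSpWith_iff_of_square x Φ (AlgSt.toOverCat U) e
    (Groth.Agent.AlgStB.isEquivOver_toOverCat U) he
    (Groth.Agent.Fib.isoWhiskerLeft (BasedFunctor.comp (AlgSt.toOverCat U) x) j)).1 hx
  have hq := Groth.Agent.AlgStB.repByAlgSpWith_of_iso i hΦ
  have h1 : AlgSp.RepBySpWith (AlgSp.IsFiniteMor ⊓ AlgSp.IsSurjectiveMor) q.hom :=
    Groth.Agent.AlgStB.repBySpWith_of_repByAlgSpWith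
      (Groth.Agent.AlgStB.repByAlgSpWith_mono (fun _ _ _ h => ⟨h.1.2, h.1.1.1⟩) hq)
  obtain ⟨M, hM, ⟨α⟩⟩ := Groth.Agent.WNA.exists_affine_of_finite_flat_cover hU h1
    (Groth.Agent.AlgStB.repBySpWith_of_repByAlgSpWith
      (Groth.Agent.AlgStB.repByAlgSpWith_mono (fun _ _ _ h => h.1.1.2) hq))
    (Groth.Agent.AlgStB.repBySpWith_of_repByAlgSpWith
      (Groth.Agent.AlgStB.repByAlgSpWith_mono (fun _ _ _ h => h.2) hq))
  exact ⟨M, BasedFunctor.comp (AlgSt.ofSpMap α.hom) e, hM,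
    Groth.Agent.Fib.isEquivOver_comp
      ((Groth.Agent.AlgStB.isEquivOver_ofSpMap_iff α.hom).2 inferInstance) he⟩

end Groth.Agent.S16698
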