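import Groth.Statements.S16699
import Groth.Agent.AlgStB.RepWith
import Groth.Agent.AlgStB.OfSp
import Groth.Agent.Fib.FpPaste

set_option autoImplicit false
universe u
open AlgSt AlgSt.IsWellNighAffine

namespace Groth.Agent.S16699

open CategoryTheory AlgebraicGeometry in
/-- An algebraic stack affine over a well-nigh affine algebraic stack is well-nigh affine. -/
theorem result (S : Scheme.{u}) (𝒳 𝒳' : AlgSt.Cat S)
    (h𝒳 : AlgSt.IsAlgStack Scheme.fppfPrecoverage 𝒳) (h𝒳' : AlgSt.IsAlgStack Scheme.fppfPrecoverage 𝒳')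
    (hw : AlgSt.IsWellNighAffine 𝒳) (f : 𝒳' ⥤ᵇ 𝒳) (hf : AlgSt.RepByAlgSpWith AlgSp.IsAffineMor f) :
    AlgSt.IsWellNighAffine 𝒳' := by
  obtain ⟨U, x, hU, hx⟩ := hw
  obtain ⟨F, e, he, hm⟩ := hf U x
  obtain ⟨W, i, fst, hpb, hW⟩ := hm hU (𝟙 _)
  have : IsIso fst := hpb.isIso_fst_of_isIso
  let a : FibCat.overCat W ⥤ᵇ FibCat.fp f x := BasedFunctor.comp (AlgSt.ofOverCat W)
    (BasedFunctor.comp (AlgSt.ofSpMap fst) (BasedFunctor.comp e (Groth.Agent.Fib.fpSwap x f)))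
  have ha : FibCat.IsEquivOver a :=
    Groth.Agent.Fib.isEquivOver_comp (Groth.Agent.AlgStB.isEquivOver_ofOverCat W)
      (Groth.Agent.Fib.isEquivOver_comp ((Groth.Agent.AlgStB.isEquivOver_ofSpMap_iff fst).2 inferInstance)
        (Groth.Agent.Fib.isEquivOver_comp he (Groth.Agent.Fib.isEquivOver_fpSwap x f)))
  exact ⟨W, BasedFunctor.comp a (FibCat.fpFst f x), hW,
    (Groth.Agent.AlgStB.repByAlgSpWith_iff_of_square (FibCat.fpFst f x) _ a (BasedFunctor.id _) ha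
      (Groth.Agent.Fib.isEquivOver_id _) (Iso.refl _)).1
      (Groth.Agent.AlgStB.repByAlgSpWith_fpFst x f hx)⟩

end Groth.Agent.S16699
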