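import Groth.Statements.S16704
import Groth.Agent.UnifModuli.Glue

set_option autoImplicit false
universe u
open AlgSt

namespace Groth.Agent.S16704

open CategoryTheory AlgebraicGeometry in
/-- Let `𝒳` be an algebraic stack, `Y` an algebraic space and `f : 𝒳 → Y` a morphism. If every base
change of `f` to an affine scheme flat over `Y` is a categorical moduli space, the morphism `f`
itself is a uniform categorical moduli space. -/
theorem result (S : Scheme.{u}) (𝒳 : AlgSt.Cat S)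
    (h𝒳 : AlgSt.IsAlgStack Scheme.fppfPrecoverage 𝒳) (Y : AlgSp.Sp S) (hY : AlgSp.IsAlgSpace Y)
    (f : 𝒳 ⥤ᵇ AlgSt.ofSp Y)
    (hf : ∀ (Y' : Over S), IsAffine Y'.left → ∀ (g : (AlgSp.yon S).obj Y' ⟶ Y), AlgSp.LocP @Flat g →
      AlgSt.IsCatModuli (FibCat.fpFst (AlgSt.ofSpMap g) f)) :
    AlgSt.IsUnifCatModuli f := by
  have hfl : ∀ (M' : AlgSp.Sp S), AlgSp.IsAlgSpace M' → ∀ g : M' ⟶ Y, AlgSp.LocP @Flat g →
      Groth.Agent.UnifModuli.Univ f g := fun M' hM g hg =>
    Groth.Agent.UnifModuli.univ_of_affUniv h𝒳.isStack.1 hM fun Z hZ e he =>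
      Groth.Agent.UnifModuli.univ_of_isCatModuli f _ (hf Z hZ (e ≫ g) fun U V a b h ha hb w =>
        hg (a ≫ e) b h (Groth.Agent.AlgSpc.repWith_comp ha he) hb (by rw [Category.assoc]; exact w))
  have hid : AlgSp.LocP @Flat (𝟙 Y) :=
    Groth.Agent.AlgSpc.locP_mono (fun _ _ k (hk : Etale k) => (inferInstance : Flat k))
      ((Groth.Agent.AlgSpc.isEtaleMor_iff_locP hY hY).1 (fun U φ hφ => by simpa using hφ))
  exact ⟨Groth.Agent.UnifModuli.isCatModuli_of_univ_id f hY (hfl Y hY (𝟙 Y) hid),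
    fun M' hM g hg => Groth.Agent.UnifModuli.isCatModuli_of_univ f g hM (hfl M' hM g hg)⟩

end Groth.Agent.S16704
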