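import Groth.Statements.S16707
import Mathlib.RingTheory.Flat.EquationalCriterion
import Mathlib.LinearAlgebra.TensorProduct.Quotient
import Groth.Agent.CAlgH.ArtFlat

set_option autoImplicit false
universe u v
open CAlg

namespace Groth.Agent.S16707

open TensorProduct in
/-- Let A be a commutative ring, I a nilpotent ideal of A and f : M → N a homomorphism of A-modules with
N flat over A (no finiteness assumption on M or N). If the base change of f to A/I, that is M/IM →
N/IN, is bijective, then f is bijective. -/
theorem result (A : Type u) [CommRing A] (I : Ideal A)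
    (hI : IsNilpotent I) (M N : Type v) [AddCommGroup M] [Module A M] [AddCommGroup N] [Module A N]
    [Module.Flat A N] (f : M →ₗ[A] N)
    (hf : Function.Bijective (f.baseChange (A ⧸ I))) :
    Function.Bijective f := by
  classical
  obtain ⟨n, hn⟩ := hI
  let eM := TensorProduct.quotTensorEquivQuotSMul M I
  let eN := TensorProduct.quotTensorEquivQuotSMul N I
  have hcomm : ∀ x : M, eN (f.lTensor (A ⧸ I) (eM.symm (Submodule.Quotient.mk x))) = Submodule.Quotient.mk (f x) := by
    intro x
    rw [TensorProduct.quotTensorEquivQuotSMul_symm_mk, LinearMap.lTensor_tmul]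
    exact (TensorProduct.quotTensorEquivQuotSMul_mk_tmul I 1 (f x)).trans (by rw [one_smul])
  have hinj : Function.Injective (f.lTensor (A ⧸ I)) := by
    rw [← LinearMap.baseChange_eq_ltensor]; exact hf.1
  have hsurj' : Function.Surjective (f.lTensor (A ⧸ I)) := by
    rw [← LinearMap.baseChange_eq_ltensor]; exact hf.2
  have hmod : ∀ x : M, f x ∈ I • (⊤ : Submodule A N) → x ∈ I • (⊤ : Submodule A M) :=
    (CAlgH.ArtFlat.injective_lTensor_quotient_iff I f).1 hinj
  have hsurj : Function.Surjective f := by
    have hI' : ∀ y : N, ∃ x, y - f x ∈ I • (⊤ : Submodule A N) := by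
      intro y
      obtain ⟨t, ht⟩ := hsurj' (eN.symm (Submodule.Quotient.mk y))
      obtain ⟨x, hx⟩ := Submodule.Quotient.mk_surjective _ (eM t)
      refine ⟨x, ?_⟩
      rw [← Submodule.Quotient.eq, ← hcomm, hx, LinearEquiv.symm_apply_apply, ht, LinearEquiv.apply_symm_apply]
    have htop : LinearMap.range f ⊔ I • (⊤ : Submodule A N) = ⊤ := eq_top_iff.mpr fun y _ => by
      obtain ⟨x, hx⟩ := hI' y
      exact Submodule.mem_sup.mpr ⟨f x, ⟨x, rfl⟩, _, hx, by abel⟩
    have hk : ∀ k : ℕ, LinearMap.range f ⊔ I ^ k • (⊤ : Submodule A N) = ⊤ := by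
      intro k
      induction k with
      | zero => simp
      | succ k ih =>
        rw [eq_top_iff]
        refine le_trans ih.ge (sup_le le_sup_left ?_)
        rw [pow_succ, Submodule.mul_smul]
        conv_lhs => rw [← htop]
        rw [Submodule.smul_sup]
        exact sup_le ((Submodule.smul_le_right (I := I ^ k) (N := LinearMap.range f)).trans le_sup_left) le_sup_right
    have := hk n
    rw [hn, Submodule.zero_eq_bot, Submodule.bot_smul, sup_bot_eq, LinearMap.range_eq_top] at this
    exact this
  refine ⟨?_, hsurj⟩
  set K := LinearMap.ker f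
  have key : ∀ x ∈ K, x ∈ I • (⊤ : Submodule A M) → x ∈ I • K := by
    intro x hx hxI
    obtain ⟨a, ha, hsum⟩ := (Submodule.mem_ideal_smul_span_iff_exists_sum I (id : M → M) x).mp
      (by rwa [Set.range_id, Submodule.span_univ])
    subst hsum
    have h0 : ∑ i : a.support, a i • f i = 0 := by
      have := LinearMap.mem_ker.mp hx
      rw [Finsupp.sum, map_sum, ← Finset.sum_attach] at this
      simpa using this
    obtain ⟨k, c, y, hy, hc⟩ := Module.Flat.isTrivialRelation_of_sum_smul_eq_zero h0
    choose z hz using fun l => hsurj (y l)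
    have hmem : ∀ i : a.support, (i : M) - ∑ l, c i l • z l ∈ K := fun i => by
      show f _ = 0
      simp [hz, ← (show f i = _ from hy i)]
    have : (a.sum fun i c => c • id i) = ∑ i : a.support, a i • ((i : M) - ∑ l, c i l • z l) := by
      simp only [smul_sub, Finset.sum_sub_distrib, Finset.smul_sum, smul_smul]
      rw [Finset.sum_comm (f := fun (i : a.support) l => (a i * c i l) • z l)]
      simp only [← Finset.sum_smul, hc, zero_smul, Finset.sum_const_zero, sub_zero]
      simp [Finsupp.sum]
      exact (Finset.sum_attach _ fun i => a i • i).symm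
    rw [this]
    exact Submodule.sum_mem _ fun i _ => Submodule.smul_mem_smul (ha i) (hmem i)
  have hKI : K ≤ I • K := fun x hx => key x hx (hmod x (by rw [LinearMap.mem_ker.mp hx]; exact Submodule.zero_mem _))
  have hk : ∀ k : ℕ, K ≤ I ^ k • K := by
    intro k
    induction k with
    | zero => simp
    | succ k ih =>
      rw [pow_succ, Submodule.mul_smul]
      exact ih.trans (Submodule.smul_mono le_rfl hKI)
  have := hk n
  rw [hn, Submodule.zero_eq_bot, Submodule.bot_smul, le_bot_iff] at this
  exact LinearMap.ker_eq_bot.mp this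

end Groth.Agent.S16707
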