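import Groth.Statements.S16708
import Groth.Agent.Comod.Integral

set_option autoImplicit false
universe u
open HopfRep

namespace Groth.Agent.S16708

open Groth.Agent.Comod


/-- Let G be a finite group and k a field in which the order of G is a nonzero element. Then the
constant group scheme of G over k is linearly reductive: every finite-dimensional comodule over its
coordinate Hopf algebra (the algebra of functions G → k with the Hopf structure of the constant
group) is semisimple, i.e. every subcomodule admits a complementary subcomodule. -/
theorem result (k : Type u) [Field k] (G : Type u) [Group G]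
    [Fintype G] [DecidableEq G] (hG : ((Fintype.card G : ℕ) : k) ≠ 0) :
    HopfRep.IsLinearlyReductive k (ConstGrp.F k G) := by
  intro V _ _ _ _
  let n : k := (Module.finrank k (ConstGrp.F k G) : k)
  have hn : n = (Fintype.card G : k) := by
    show ((Module.finrank k (G → k) : ℕ) : k) = _
    rw [Module.finrank_fintype_fun_eq_card]
  have htr : Algebra.trace k (ConstGrp.F k G) 1 = n := by
    rw [Algebra.trace_apply, map_one, LinearMap.trace_one]
  let α : ConstGrp.F k G →ₗ[k] k := n⁻¹ • Algebra.trace k (ConstGrp.F k G)
  have hα : IsIntegral α := fun a => by
    have h := isIntegral_trace (k := k) (A := ConstGrp.F k G) a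
    simp only [α, slL, LinearMap.rTensor_smul, LinearMap.comp_apply, LinearMap.smul_apply, map_smul,
      smul_eq_mul, LinearEquiv.coe_coe] at h ⊢
    rw [h, smul_smul]
  refine isSemisimpleComod_of_integral hα ?_
  simp only [α, LinearMap.smul_apply, htr, smul_eq_mul]
  exact inv_mul_cancel₀ (by rw [hn]; exact hG)

end Groth.Agent.S16708
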