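import Groth.Statements.S16737
import Mathlib.RingTheory.Kaehler.Polynomial
import Mathlib.Algebra.MvPolynomial.Expand
import Mathlib.Algebra.CharP.Basic
import Mathlib.Algebra.CharP.Invertible
import Mathlib.Algebra.MvPolynomial.PDeriv

set_option autoImplicit false
universe u v
open DeRham

namespace Groth.Agent.S16737

/-- The case of affine space over an affine base of characteristic p, in degree zero. Let p be a prime
and R a commutative ring with p = 0 in R. For a polynomial f over R in any set of variables t_i, the
Kähler differential df in Ω_{R[t]/R} vanishes if and only if f is a polynomial in the p-th powers of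
the variables, f = g(t_i^p). Equivalently, the functions on affine space over R killed by the
differential of the de Rham complex are exactly the functions on its Frobenius twist. (The published
computation is for finitely many variables over a noetherian base of characteristic p; the statement
here allows any commutative ring with p = 0 and any set of variables.) -/
theorem result (p : ℕ) [Fact p.Prime]
    (R : Type u) [CommRing R] [CharP R p] (σ : Type v) (f : MvPolynomial σ R) :
    KaehlerDifferential.D R (MvPolynomial σ R) f = 0 ↔
      ∃ g : MvPolynomial σ R, f = MvPolynomial.expand p g := by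
  classical
  rw [← (KaehlerDifferential.mvPolynomialBasis R σ).repr.map_eq_zero_iff, DFunLike.ext_iff]
  simp only [KaehlerDifferential.mvPolynomialBasis_repr_apply, Finsupp.coe_zero, Pi.zero_apply]
  constructor
  · intro h
    have hcoef : ∀ m, MvPolynomial.coeff m f ≠ 0 → ∀ i, p ∣ m i := by
      intro m hm i
      by_contra hdvd
      have h1 : MvPolynomial.pderiv i f = 0 := h i
      have hi : 1 ≤ m i := Nat.one_le_iff_ne_zero.mpr fun h0 => hdvd (h0 ▸ dvd_zero p)
      have h2 := congrArg (MvPolynomial.coeff (m - Finsupp.single i 1)) h1
      rw [MvPolynomial.coeff_zero, MvPolynomial.coeff_pderiv] at h2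
      have e : m - Finsupp.single i 1 + Finsupp.single i 1 = m :=
        tsub_add_cancel_of_le (Finsupp.single_le_iff.mpr hi)
      rw [e] at h2
      have hu : IsUnit (m i : R) := by
        rw [CharP.isUnit_natCast_iff (Fact.out : p.Prime)]; exact hdvd
      refine hm (hu.mul_left_eq_zero.mp ?_)
      convert h2 using 2
      rw [Finsupp.tsub_apply, Finsupp.single_eq_same]
      rw [← Nat.cast_add_one, Nat.sub_add_cancel hi]
    refine ⟨∑ m ∈ f.support, MvPolynomial.monomial (m.mapRange (· / p) (Nat.zero_div p))
      (MvPolynomial.coeff m f), ?_⟩
    rw [map_sum]
    conv_lhs => rw [MvPolynomial.as_sum f]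
    refine Finset.sum_congr rfl fun m hm => ?_
    rw [MvPolynomial.expand_monomial]
    congr 2
    ext i
    simpa using (Nat.mul_div_cancel' (hcoef m (MvPolynomial.mem_support_iff.mp hm) i)).symm
  · rintro ⟨g, rfl⟩
    intro i
    induction g using MvPolynomial.induction_on' with
    | monomial m a =>
      rw [MvPolynomial.expand_monomial, MvPolynomial.pderiv_monomial]
      simp [Nat.cast_mul, CharP.cast_eq_zero]
    | add a b ha hb => rw [map_add, map_add, ha, hb, add_zero]

end Groth.Agent.S16737
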