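import Groth.Statements.S16742
import Mathlib
import Groth.Agent.FlatCrit.Basic

set_option autoImplicit false
universe u
open CAlg

namespace Groth.Agent.S16742

open scoped TensorProduct

theorem exists_eq_smul {R : Type*} [CommRing R] (M : Type*) [AddCommGroup M] [Module R M] [Module.Flat R M]
    {r : R} (hr : Function.Exact (r • (LinearMap.id : R →ₗ[R] R)) (r • (LinearMap.id : R →ₗ[R] R)))
    {m : M} (hm : r • m = 0) : ∃ n, m = r • n := by
  have h := Module.Flat.lTensor_exact M hr
  obtain ⟨w, hw⟩ := (h (m ⊗ₜ[R] (1 : R))).1 (by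
    rw [LinearMap.lTensor_tmul, LinearMap.smul_apply, LinearMap.id_apply, TensorProduct.tmul_smul,
      TensorProduct.smul_tmul', hm, TensorProduct.zero_tmul])
  refine ⟨TensorProduct.rid R M w, ?_⟩
  have := congrArg (TensorProduct.rid R M) hw
  rw [TensorProduct.rid_tmul, one_smul, LinearMap.lTensor_smul, LinearMap.lTensor_id, LinearMap.smul_apply,
    LinearMap.id_apply, map_smul] at this
  exact this.symm


/-- The equivalence in affine form, with flatness of the reduction in place of smoothness. Let p be a
prime, A~ a commutative ring flat over Z/p^2 and B~ an A~-algebra such that B~/pB~ is flat over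
A~/pA~. Then B~ is flat over A~ if and only if every element of B~ killed by p is a multiple of p;
equivalently multiplication by p identifies B~/pB~ with pB~. (The published statement assumes the
reduction smooth over A~/pA~ and the schemes noetherian, and phrases (b) as B~ being a lifting, that
is flat over A~; the statement here assumes only that the reduction is flat, where the equivalence
still holds by the local flatness criterion for the square-zero ideal generated by p.) -/
theorem result (p : ℕ) [Fact p.Prime]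
    (Al : Type u) [CommRing Al] [Algebra (ZMod (p ^ 2)) Al] [Module.Flat (ZMod (p ^ 2)) Al]
    (Bl : Type u) [CommRing Bl] [Algebra Al Bl]
    (hB : Module.Flat (Al ⧸ Ideal.span {(p : Al)})
      (Bl ⧸ (Ideal.span {(p : Al)}).map (algebraMap Al Bl))) :
    Module.Flat Al Bl ↔ ∀ b : Bl, (p : Bl) * b = 0 → b ∈ Ideal.span {(p : Bl)} := by
  classical
  have hp2 : (p : Al) * (p : Al) = 0 := by
    rw [← pow_two, ← Nat.cast_pow, ← map_natCast (algebraMap (ZMod (p ^ 2)) Al), ZMod.natCast_self, map_zero]
  refine ⟨fun hflat b hb => ?_, fun h => ?_⟩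
  · have hZ : Function.Exact ((p : ZMod (p ^ 2)) • (LinearMap.id : ZMod (p ^ 2) →ₗ[ZMod (p ^ 2)] ZMod (p ^ 2)))
        ((p : ZMod (p ^ 2)) • (LinearMap.id : ZMod (p ^ 2) →ₗ[ZMod (p ^ 2)] ZMod (p ^ 2))) := by
      intro y
      obtain ⟨k, rfl⟩ := ZMod.intCast_surjective y
      simp only [LinearMap.smul_apply, LinearMap.id_apply, smul_eq_mul, Set.mem_range]
      constructor
      · intro h0
        rw [← Int.cast_natCast, ← Int.cast_mul, ZMod.intCast_zmod_eq_zero_iff_dvd] at h0
        have hp0 : (p : ℤ) ≠ 0 := by exact_mod_cast (Fact.out : p.Prime).ne_zero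
        obtain ⟨c, hc⟩ : (p : ℤ) ∣ k := by
          refine (mul_dvd_mul_iff_left hp0).1 ?_
          simpa [pow_two] using h0
        exact ⟨(c : ZMod (p ^ 2)), by rw [hc]; push_cast; rfl⟩
      · rintro ⟨c, hc⟩
        rw [← hc, ← mul_assoc, ← pow_two, ← Nat.cast_pow, ZMod.natCast_self, zero_mul]
    have hA : Function.Exact ((p : Al) • (LinearMap.id : Al →ₗ[Al] Al)) ((p : Al) • (LinearMap.id : Al →ₗ[Al] Al)) := by
      intro y
      simp only [LinearMap.smul_apply, LinearMap.id_apply, smul_eq_mul, Set.mem_range]
      constructor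
      · intro h0
        obtain ⟨n, hn⟩ := exists_eq_smul Al (r := (p : ZMod (p ^ 2))) hZ (m := y) (by
          rw [Algebra.smul_def, map_natCast]; exact h0)
        exact ⟨n, by rw [hn, Algebra.smul_def, map_natCast]⟩
      · rintro ⟨c, rfl⟩
        rw [← mul_assoc, hp2, zero_mul]
    obtain ⟨n, hn⟩ := exists_eq_smul Bl (r := (p : Al)) hA (m := b) (by
      rw [Algebra.smul_def, map_natCast]; exact hb)
    refine Ideal.mem_span_singleton'.2 ⟨n, ?_⟩
    rw [hn, Algebra.smul_def, map_natCast, mul_comm]
  · let I := Ideal.span {(p : Al)}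
    haveI : Module.Flat (Al ⧸ I) ((Al ⧸ I) ⊗[Al] Bl) := by
      haveI := hB
      let e1 : (Bl ⧸ I.map (algebraMap Al Bl)) ≃+ (Al ⧸ I) ⊗[Al] Bl :=
        ((Algebra.TensorProduct.quotIdealMapEquivTensorQuot Bl I).toLinearEquiv.toAddEquiv).trans
          (TensorProduct.comm Al Bl (Al ⧸ I)).toAddEquiv
      refine Module.Flat.of_linearEquiv (R := Al ⧸ I) (AddEquiv.toLinearEquiv e1 ?_).symm
      intro c x
      obtain ⟨a, rfl⟩ := Ideal.Quotient.mk_surjective c
      rw [show Ideal.Quotient.mk I a • x = a • x by
        rw [← Ideal.Quotient.algebraMap_eq, algebraMap_smul]]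
      rw [show Ideal.Quotient.mk I a • e1 x = a • e1 x by
        rw [← Ideal.Quotient.algebraMap_eq, algebraMap_smul]]
      change (TensorProduct.comm Al Bl (Al ⧸ I)) ((Algebra.TensorProduct.quotIdealMapEquivTensorQuot Bl I) (a • x)) = _
      rw [← algebraMap_smul Bl a x, map_smul, algebraMap_smul, map_smul]
      rfl
    refine Groth.Agent.FlatCrit.flat_of_isNilpotent (I := I) ⟨2, ?_⟩ ?_
    · rw [Ideal.span_singleton_pow, pow_two, hp2, Ideal.zero_eq_bot, Ideal.span_singleton_eq_bot]
    · rw [injective_iff_map_eq_zero]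
      intro w hw
      let g : I := ⟨(p : Al), Ideal.mem_span_singleton_self _⟩
      obtain ⟨b, rfl⟩ : ∃ b : Bl, b ⊗ₜ[Al] g = w := by
        clear hw
        induction w using TensorProduct.induction_on with
        | zero => exact ⟨0, TensorProduct.zero_tmul _ _⟩
        | tmul b i =>
          obtain ⟨c, hc⟩ := Ideal.mem_span_singleton'.1 i.2
          refine ⟨c • b, ?_⟩
          rw [TensorProduct.smul_tmul]
          exact congrArg (b ⊗ₜ[Al] ·) (Subtype.ext (by simpa [g] using hc))
        | add u v hu hv =>
          obtain ⟨b1, rfl⟩ := hu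
          obtain ⟨b2, rfl⟩ := hv
          exact ⟨b1 + b2, TensorProduct.add_tmul _ _ _⟩
      have hb : (p : Bl) * b = 0 := by
        have := congrArg (TensorProduct.rid Al Bl) hw
        rw [LinearMap.lTensor_tmul, TensorProduct.rid_tmul, map_zero] at this
        rw [← this, show (I.subtype g) = (p : Al) from rfl, Algebra.smul_def, map_natCast]
      obtain ⟨c, hc⟩ := Ideal.mem_span_singleton'.1 (h b hb)
      rw [← hc, show c * (p : Bl) = (p : Al) • c by rw [Algebra.smul_def, map_natCast, mul_comm],
        TensorProduct.smul_tmul]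
      rw [show (p : Al) • g = 0 from Subtype.ext (by simpa [g] using hp2), TensorProduct.tmul_zero]

end Groth.Agent.S16742
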