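import Groth.Statements.S9690
import Groth.Agent.NormDim1.Basic
import Groth.Agent.FlatMorLib.MaxPoints
import Groth.Agent.FlatDim.Basic


set_option autoImplicit false
set_option backward.isDefEq.respectTransparency false
universe u
open CategoryTheory CategoryTheory.Limits AlgebraicGeometry
open Mor

namespace Groth.Agent.S9690
section Pre
open Groth.Agent TopologicalSpace Opposite

variable {X : Scheme.{u}} [IsIntegral X] [QuasiCompact (X.fromSpecStalk (genericPoint ↥X))]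
  [QuasiSeparated (X.fromSpecStalk (genericPoint ↥X))]

local notation "ν" => Curv2.normalizationι X

/-- stalks of `Z` are domains and the stalk maps of `g` are injective -/
def Good {Z : Scheme.{u}} (g : Z ⟶ X) : Prop :=
  ∀ z, IsDomain (Z.presheaf.stalk z) ∧ Function.Injective (g.stalkMap z).hom

theorem Good.comp {Z T : Scheme.{u}} {g : Z ⟶ X} (hg : Good g) (j : T ⟶ Z) [IsOpenImmersion j] :
    Good (j ≫ g) := fun t => by
  haveI := (hg (j t)).1
  refine ⟨MulEquiv.isDomain _ (asIso (j.stalkMap t)).commRingCatIsoToRingEquiv.symm.toMulEquiv, ?_⟩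
  rw [Scheme.Hom.stalkMap_comp, CommRingCat.hom_comp]
  exact (ConcreteCategory.bijective_of_isIso (j.stalkMap t)).injective.comp (hg (j t)).2

theorem good_of_dominant {Z : Scheme.{u}} {g : Z ⟶ X} (hZ : Pi1.IsNormalScheme Z)
    (hdom : ∀ z : Z, closure {z} ∈ irreducibleComponents ↥Z → g.base z = genericPoint ↥X) : Good g := by
  intro z
  refine ⟨(hZ z).1, ?_⟩
  obtain ⟨ξ, hξz, hξ⟩ := FlatMorLib.exists_maximal_generization z
  have hgξ := hdom ξ (FlatDim.closure_mem_irreducibleComponents hξ)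
  have hF : IsField (X.presheaf.stalk (g ξ)) := by
    rw [show g ξ = genericPoint X from hgξ]; exact Field.toIsField X.functionField
  have h1 : Function.Injective (X.presheaf.stalkSpecializes (hξz.map g.continuous)).hom := by
    refine (injective_iff_map_eq_zero _).2 fun a ha => ?_
    obtain ⟨U, hU, s, rfl⟩ := TopCat.Presheaf.exists_germ_eq X.presheaf a
    rw [TopCat.Presheaf.germ_stalkSpecializes_apply] at ha
    rw [germ_injective_of_isIntegral X (U := U) (g ξ) _ (ha.trans (map_zero _).symm), map_zero]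
  have h2 : Function.Injective (g.stalkMap ξ).hom := by
    letI := hF.toField
    exact RingHom.injective _
  refine (injective_iff_map_eq_zero _).2 fun a ha => h1 ?_
  refine h2 ?_
  rw [map_zero, map_zero]
  show (X.presheaf.stalkSpecializes _ ≫ g.stalkMap ξ).hom a = 0
  rw [Scheme.Hom.stalkSpecializes_stalkMap, CommRingCat.hom_comp, RingHom.comp_apply, ha, map_zero]
  exact hξz

theorem germ_appLE_ne_zero {Z : Scheme.{u}} {g : Z ⟶ X} (hg : Good g) {U : X.Opens} {W : Z.Opens}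
    (e : W ≤ g ⁻¹ᵁ U) {c : Γ(X, U)} (hc : c ≠ 0) {z : Z} (hz : z ∈ W) :
    Z.presheaf.germ W z hz (g.appLE U W e c) ≠ 0 := fun h => hc <| by
  refine germ_injective_of_isIntegral X (U := U) (g z) (e hz) ((hg z).2 ?_)
  rw [map_zero, map_zero]
  refine Eq.trans ?_ h
  rw [Scheme.Hom.germ_stalkMap_apply]
  simp only [Scheme.Hom.appLE, CommRingCat.comp_apply]
  exact (Z.presheaf.germ_res_apply (homOfLE e) z hz _).symm

theorem cancel {Z : Scheme.{u}} {g : Z ⟶ X} (hg : Good g) {U : X.Opens} {W : Z.Opens}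
    (e : W ≤ g ⁻¹ᵁ U) {c : Γ(X, U)} (hc : c ≠ 0) {s s' : Γ(Z, W)}
    (h : g.appLE U W e c * s = g.appLE U W e c * s') : s = s' := by
  refine TopCat.Presheaf.section_ext Z.sheaf W s s' fun z hz => ?_
  haveI : IsDomain (Z.sheaf.presheaf.stalk z) := (hg z).1
  have h2 := congrArg (Z.presheaf.germ W z hz) h
  rw [map_mul, map_mul] at h2
  exact mul_left_cancel₀ (germ_appLE_ne_zero hg e hc hz) h2

theorem exists_frac {U : X.Opens} (hU : IsAffineOpen U) (hη : genericPoint X ∈ U)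
    (b : Γ(Curv2.normalization X, ν ⁻¹ᵁ U)) :
    ∃ a c : Γ(X, U), c ≠ 0 ∧ (ν).app U c * b = (ν).app U a ∧
      ∃ q : Polynomial Γ(X, U), q.Monic ∧ (Polynomial.scaleRoots q c).eval a = 0 := by
  obtain ⟨θ, hinj, hcomp, hrange⟩ := NormDim1.exists_chart (X := X) hU hη
  haveI : Nonempty U := ⟨⟨_, hη⟩⟩
  haveI := functionField_isFractionRing_of_isAffineOpen X U hU
  obtain ⟨a, c, hc, hac⟩ := IsFractionRing.div_surjective Γ(X, U) (θ b)
  let G : Γ(X, U) →+* X.functionField := (X.presheaf.germ U _ hη).hom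
  have hG : Function.Injective G := germ_injective_of_isIntegral X (genericPoint X) hη
  have hc0 : c ≠ 0 := nonZeroDivisors.ne_zero hc
  have hGc : G c ≠ 0 := fun h => hc0 (hG (h.trans (map_zero G).symm))
  have hac' : G c * θ b = G a := by
    rw [← hac]; exact mul_div_cancel₀ _ hGc
  refine ⟨a, c, hc0, hinj (by rw [map_mul, hcomp, hcomp]; exact hac'), ?_⟩
  obtain ⟨q, hq, hq0⟩ := (hrange _).1 ⟨b, rfl⟩
  refine ⟨q, hq, hG ?_⟩
  rw [map_zero, Polynomial.eval, Polynomial.hom_eval₂, RingHom.comp_id, ← hac', Polynomial.scaleRoots_eval₂_mul]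
  rw [show Polynomial.eval₂ G (θ b) q = 0 from hq0, mul_zero]

theorem exists_sol {Z : Scheme.{u}} (g : Z ⟶ X) (hg : Good g) (hZ : Pi1.IsNormalScheme Z) {U : X.Opens}
    {W : Z.Opens} (e : W ≤ g ⁻¹ᵁ U) {a c : Γ(X, U)} (hc : c ≠ 0) {q : Polynomial Γ(X, U)}
    (hq : q.Monic) (hq0 : (Polynomial.scaleRoots q c).eval a = 0) :
    ∃ s : Γ(Z, W), g.appLE U W e c * s = g.appLE U W e a := by
  let φ := (g.appLE U W e).hom
  have hloc : ∀ z : W, ∃ (V : Z.Opens) (_ : z.1 ∈ V) (hVW : V ≤ W) (s : Γ(Z, V)),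
      Z.presheaf.map (homOfLE hVW).op (φ c) * s = Z.presheaf.map (homOfLE hVW).op (φ a) := by
    rintro ⟨z, hz⟩
    haveI := (hZ z).1
    haveI := (hZ z).2
    let O := Z.presheaf.stalk z
    let F := FractionRing O
    let h : Γ(X, U) →+* O := (Z.presheaf.germ W z hz).hom.comp φ
    let f : Γ(X, U) →+* F := (algebraMap O F).comp h
    have hfc : f c ≠ 0 := fun h0 => germ_appLE_ne_zero hg e hc hz
      (IsFractionRing.injective O F (h0.trans (map_zero _).symm))
    have hint : _root_.IsIntegral O (f a / f c) := by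
      refine ⟨q.map h, hq.map h, ?_⟩
      rw [Polynomial.eval₂_map]
      have h1 : Polynomial.eval₂ f (f a) (Polynomial.scaleRoots q c) = 0 := by
        rw [Polynomial.eval₂_at_apply, hq0, map_zero]
      rw [show f a = f c * (f a / f c) from (mul_div_cancel₀ _ hfc).symm, Polynomial.scaleRoots_eval₂_mul] at h1
      exact (mul_eq_zero.1 h1).resolve_left (pow_ne_zero _ hfc)
    obtain ⟨y, hy⟩ := IsIntegrallyClosed.isIntegral_iff.1 hint
    have hy' : h c * y = h a := by
      refine IsFractionRing.injective O F ?_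
      rw [map_mul, hy]
      exact mul_div_cancel₀ _ hfc
    obtain ⟨V, hzV, s, rfl⟩ := TopCat.Presheaf.exists_germ_eq Z.presheaf y
    have h2 : Z.presheaf.germ (W ⊓ V) z ⟨hz, hzV⟩
        (Z.presheaf.map (homOfLE inf_le_left).op (φ c) * Z.presheaf.map (homOfLE inf_le_right).op s) =
        Z.presheaf.germ (W ⊓ V) z ⟨hz, hzV⟩ (Z.presheaf.map (homOfLE inf_le_left).op (φ a)) := by
      rw [map_mul, Z.presheaf.germ_res_apply, Z.presheaf.germ_res_apply, Z.presheaf.germ_res_apply]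
      exact hy'
    obtain ⟨V', hzV', i₁, i₂, h3⟩ := TopCat.Presheaf.germ_eq Z.presheaf z _ _ _ _ h2
    refine ⟨V', hzV', i₁.le.trans inf_le_left, Z.presheaf.map (i₁ ≫ homOfLE inf_le_right).op s, ?_⟩
    rw [map_mul] at h3
    simp only [← ConcreteCategory.comp_apply, ← Functor.map_comp, ← op_comp] at h3
    convert h3 using 3
    all_goals first | rfl | exact congrArg (fun i => Z.presheaf.map i) (Subsingleton.elim _ _) | exact congrArg (fun i => ConcreteCategory.hom (Z.presheaf.map i)) (Subsingleton.elim _ _)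
  choose V hzV hVW s hs using hloc
  have key : ∀ (z : W) (T : Z.Opens) (hT : T ≤ V z),
      g.appLE U T (hT.trans ((hVW z).trans e)) c * Z.presheaf.map (homOfLE hT).op (s z) =
      g.appLE U T (hT.trans ((hVW z).trans e)) a := fun z T hT => by
    have h := congrArg (Z.presheaf.map (homOfLE hT).op) (hs z)
    simp only [φ, map_mul, ← ConcreteCategory.comp_apply, ← Functor.map_comp, Scheme.Hom.appLE_map] at h
    exact h
  obtain ⟨t, ht, -⟩ := Z.sheaf.existsUnique_gluing' V W (fun z => homOfLE (hVW z))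
    (fun z hz => Opens.mem_iSup.2 ⟨⟨z, hz⟩, hzV _⟩) s (fun z z' => by
      refine cancel hg ((inf_le_left).trans ((hVW z).trans e)) hc ?_
      exact (key z (V z ⊓ V z') inf_le_left).trans (key z' (V z ⊓ V z') inf_le_right).symm)
  refine ⟨t, TopCat.Presheaf.section_ext Z.sheaf W _ _ fun z hz => ?_⟩
  have h := congrArg (Z.presheaf.germ (V ⟨z, hz⟩) z (hzV ⟨z, hz⟩)) (hs ⟨z, hz⟩)
  have ht' : Z.presheaf.map (homOfLE (hVW ⟨z, hz⟩)).op t = s ⟨z, hz⟩ := ht ⟨z, hz⟩
  rw [← ht', ← map_mul, Z.presheaf.germ_res_apply, Z.presheaf.germ_res_apply] at h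
  exact h

theorem exists_hom {Z : Scheme.{u}} (g : Z ⟶ X) (hg : Good g) (hZ : Pi1.IsNormalScheme Z) {U : X.Opens}
    (hU : IsAffineOpen U) (hη : genericPoint X ∈ U) :
    ∃ ψ : Γ(Curv2.normalization X, ν ⁻¹ᵁ U) ⟶ Γ(Z, g ⁻¹ᵁ U), (ν).app U ≫ ψ = g.app U := by
  haveI : Nonempty U := ⟨⟨_, hη⟩⟩
  let G := g.appLE U (g ⁻¹ᵁ U) le_rfl
  have hG : g.app U = G := Scheme.Hom.app_eq_appLE _
  obtain ⟨θ, hinj, hcomp, -⟩ := NormDim1.exists_chart (X := X) hU hη
  have hνinj : Function.Injective ((ν).app U).hom := fun a b h => by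
    have := congrArg θ h
    rw [hcomp, hcomp] at this
    exact germ_injective_of_isIntegral X (genericPoint X) hη this
  have hsol : ∀ b, ∃ s, ∀ a c : Γ(X, U), c ≠ 0 → (ν).app U c * b = (ν).app U a → G c * s = G a := by
    intro b
    obtain ⟨a0, c0, hc0, hb0, q, hq, hq0⟩ := exists_frac hU hη b
    obtain ⟨s, hs⟩ := exists_sol g hg hZ le_rfl hc0 hq hq0
    refine ⟨s, fun a c hc hb => ?_⟩
    have h1 : c0 * a = c * a0 := hνinj (by
      rw [map_mul, map_mul]
      exact (congrArg ((ν).app U c0 * ·) hb).symm.trans ((mul_left_comm _ _ _).trans (congrArg ((ν).app U c * ·) hb0)))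
    refine cancel hg le_rfl hc0 ?_
    show G c0 * (G c * s) = G c0 * G a
    rw [← map_mul, h1, map_mul, mul_left_comm, hs]
  choose S hS using hsol
  have hex : ∀ b, ∃ a c : Γ(X, U), c ≠ 0 ∧ (ν).app U c * b = (ν).app U a := fun b => by
    obtain ⟨a, c, hc, hb, -⟩ := exists_frac hU hη b
    exact ⟨a, c, hc, hb⟩
  have huniq : ∀ b s (a c : Γ(X, U)), c ≠ 0 → (ν).app U c * b = (ν).app U a → G c * s = G a → S b = s :=
    fun b s a c hc hb hs => cancel hg le_rfl hc ((hS b a c hc hb).trans hs.symm)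
  refine ⟨CommRingCat.ofHom
    { toFun := S
      map_one' := huniq 1 1 1 1 one_ne_zero (by simp) (by simp)
      map_zero' := huniq 0 0 0 1 one_ne_zero (by simp) (by simp)
      map_mul' := fun b b' => by
        obtain ⟨a, c, hc, hb⟩ := hex b
        obtain ⟨a', c', hc', hb'⟩ := hex b'
        refine huniq _ _ (a * a') (c * c') (mul_ne_zero hc hc') ?_ ?_
        · rw [map_mul, map_mul, mul_mul_mul_comm, hb, hb']
        · rw [map_mul, map_mul, mul_mul_mul_comm, hS b a c hc hb, hS b' a' c' hc' hb']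
      map_add' := fun b b' => by
        obtain ⟨a, c, hc, hb⟩ := hex b
        obtain ⟨a', c', hc', hb'⟩ := hex b'
        refine huniq _ _ (a * c' + c * a') (c * c') (mul_ne_zero hc hc') ?_ ?_
        · rw [map_mul, map_add, map_mul, map_mul, ← hb, ← hb']; ring
        · rw [map_mul, map_add, map_mul, map_mul, ← hS b a c hc hb, ← hS b' a' c' hc' hb']; ring }, ?_⟩
  ext a
  refine (huniq _ _ a 1 one_ne_zero (by rw [map_one, one_mul]; rfl) ?_).trans rfl
  rw [hG, map_one, one_mul]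

theorem hom_eq {Z : Scheme.{u}} {g : Z ⟶ X} (hg : Good g) {U : X.Opens} (hU : IsAffineOpen U)
    (hη : genericPoint X ∈ U) {W : Z.Opens} (e : W ≤ g ⁻¹ᵁ U)
    (ψ ψ' : Γ(Curv2.normalization X, ν ⁻¹ᵁ U) ⟶ Γ(Z, W))
    (h : (ν).app U ≫ ψ = g.appLE U W e) (h' : (ν).app U ≫ ψ' = g.appLE U W e) : ψ = ψ' := by
  ext b
  obtain ⟨a, c, hc, hb, -⟩ := exists_frac hU hη b
  refine cancel hg e hc ?_
  have h1 := congr(($h).hom c)
  have h2 := congr(($h').hom c)
  have h3 := congr(($h).hom a)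
  have h4 := congr(($h').hom a)
  simp only [CommRingCat.comp_apply] at h1 h2 h3 h4
  conv_lhs => rw [← h1, ← map_mul, hb, h3]
  conv_rhs => rw [← h2, ← map_mul, hb, h4]

theorem ι_comp_eq {Z T : Scheme.{u}} (h : Z ⟶ T) {V : T.Opens} (hV : IsAffineOpen V) {W : Z.Opens}
    (e : W ≤ h ⁻¹ᵁ V) : W.ι ≫ h = W.toSpecΓ ≫ Spec.map (h.appLE V W e) ≫ hV.fromSpec := by
  rw [Scheme.Opens.toSpecΓ_SpecMap_appLE_assoc, hV.toSpecΓ_fromSpec, Scheme.Hom.resLE_comp_ι]

theorem mem_affine (x : X) : ∃ U : X.Opens, IsAffineOpen U ∧ x ∈ U ∧ genericPoint X ∈ U := by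
  obtain ⟨U, hU, hxU, -⟩ := exists_isAffineOpen_mem_and_subset (X := X) (x := x) (U := ⊤) trivial
  exact ⟨U, hU, hxU, (genericPoint_specializes x).mem_open U.2 hxU⟩

theorem lift_unique {Z : Scheme.{u}} {g : Z ⟶ X} (hg : Good g) (h h' : Z ⟶ Curv2.normalization X)
    (hh : h ≫ ν = g) (hh' : h' ≫ ν = g) : h = h' := by
  choose U hU hxU hη using mem_affine (X := X)
  refine Scheme.Cover.hom_ext (Z.openCoverOfIsOpenCover (fun x : X => g ⁻¹ᵁ U x)
    (TopologicalSpace.IsOpenCover.mk (top_unique fun z _ => Opens.mem_iSup.2 ⟨g z, hxU (g z)⟩))) _ _ fun x => ?_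
  have hV : IsAffineOpen (ν ⁻¹ᵁ U x) :=
    haveI := NormDim1.instIntegralHom X
    (hU x).preimage ν
  have e : g ⁻¹ᵁ U x ≤ h ⁻¹ᵁ (ν ⁻¹ᵁ U x) := by rw [← Scheme.Hom.comp_preimage, hh]
  have e' : g ⁻¹ᵁ U x ≤ h' ⁻¹ᵁ (ν ⁻¹ᵁ U x) := by rw [← Scheme.Hom.comp_preimage, hh']
  show (g ⁻¹ᵁ U x).ι ≫ h = (g ⁻¹ᵁ U x).ι ≫ h'
  rw [ι_comp_eq h hV e, ι_comp_eq h' hV e', hom_eq hg (hU x) (hη x) le_rfl (h.appLE _ _ e) (h'.appLE _ _ e')
    (by rw [Scheme.Hom.app_eq_appLE, Scheme.Hom.appLE_comp_appLE]; simp only [hh])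
    (by rw [Scheme.Hom.app_eq_appLE, Scheme.Hom.appLE_comp_appLE]; simp only [hh'])]

theorem exists_lift {Z : Scheme.{u}} (g : Z ⟶ X) (hg : Good g) (hZ : Pi1.IsNormalScheme Z) :
    ∃ h : Z ⟶ Curv2.normalization X, h ≫ ν = g := by
  choose U hU hxU hη using mem_affine (X := X)
  choose ψ hψ using fun x => exists_hom g hg hZ (hU x) (hη x)
  haveI := NormDim1.instIntegralHom X
  have hV : ∀ x, IsAffineOpen (ν ⁻¹ᵁ U x) := fun x => (hU x).preimage ν
  let l : ∀ x, (g ⁻¹ᵁ U x : Scheme.{u}) ⟶ Curv2.normalization X := fun x =>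
    (g ⁻¹ᵁ U x).toSpecΓ ≫ Spec.map (ψ x) ≫ (hV x).fromSpec
  have hl : ∀ x, l x ≫ ν = (g ⁻¹ᵁ U x).ι ≫ g := fun x => by
    rw [ι_comp_eq g (hU x) le_rfl, ← Scheme.Hom.app_eq_appLE, ← hψ x, Spec.map_comp]
    simp only [l, Category.assoc]
    rw [← IsAffineOpen.SpecMap_appLE_fromSpec ν (hU x) (hV x) le_rfl, Scheme.Hom.app_eq_appLE]
  let 𝒰 := Z.openCoverOfIsOpenCover (fun x : X => g ⁻¹ᵁ U x)
    (TopologicalSpace.IsOpenCover.mk (top_unique fun z _ => Opens.mem_iSup.2 ⟨g z, hxU (g z)⟩))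
  refine ⟨Scheme.Cover.glueMorphisms 𝒰 l fun x y => lift_unique (hg.comp (Limits.pullback.fst _ _ ≫ 𝒰.f x)) _ _ ?_ ?_,
    Scheme.Cover.hom_ext 𝒰 _ _ fun x => ?_⟩
  · rw [Category.assoc, hl x, Category.assoc]; rfl
  · rw [Category.assoc, hl y]
    exact (Limits.pullback.condition_assoc g).symm
  · rw [Scheme.Cover.ι_glueMorphisms_assoc, hl x]; rfl

end Pre

/-- Part (4): for an integral scheme X: let g : Z ⟶ X be a morphism from a normal scheme Z such that
every irreducible component of Z dominates X, i.e. every generic point of an irreducible component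
of Z maps to the generic point of X. Then g factors uniquely through the normalization X^ν ⟶ X. (The
published statement allows X with locally finitely many irreducible components; this row takes X
integral.) (The quasi-compactness and quasi-separatedness binders on Spec K(X) ⟶ X always hold; they
are only needed to form the normalization.) -/
theorem result (X : Scheme.{u}) [IsIntegral X] [QuasiCompact (X.fromSpecStalk (genericPoint ↥X))] [QuasiSeparated (X.fromSpecStalk (genericPoint ↥X))]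
    {Z : Scheme.{u}} (g : Z ⟶ X) (hZ : Pi1.IsNormalScheme Z)
    (hdom : ∀ z : Z, closure {z} ∈ irreducibleComponents ↥Z → g.base z = genericPoint ↥X) :
    ∃! h : Z ⟶ Curv2.normalization X, h ≫ Curv2.normalizationι X = g := by
  have hg := good_of_dominant hZ hdom
  obtain ⟨h, hh⟩ := exists_lift g hg hZ
  exact ⟨h, hh, fun h' hh' => lift_unique hg h' h hh' hh⟩

end Groth.Agent.S9690
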