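import Groth.Statements.S5949
import Groth.Agent.S9690
import Groth.Agent.EGA2Curve.RelNormal


set_option autoImplicit false
set_option backward.isDefEq.respectTransparency false
universe u
open CategoryTheory AlgebraicGeometry
open Unram17

namespace Groth.Agent.S5949
section Pre
open Groth.Agent

variable {X : Scheme.{u}} [IsIntegral X] [QuasiCompact (X.fromSpecStalk (genericPoint ↥X))]
  [QuasiSeparated (X.fromSpecStalk (genericPoint ↥X))]

local notation "ν" => Curv2.normalizationι X

theorem isNormal_normalization : Pi1.IsNormalScheme (Curv2.normalization X) := by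
  haveI := NormDim1.instIsIntegral X
  exact EGA2Curve.isNormalScheme_normalization' (NormDim1.hg X)

theorem isIso_stalkMap_generic :
    IsIso ((ν).stalkMap (genericPoint (Curv2.normalization X))) := by
  haveI := NormDim1.instIsIntegral X
  let η' := genericPoint (Curv2.normalization X)
  have hη : (ν) η' = genericPoint X := EGA2Curve.fromNormalization_genericPoint (NormDim1.hg X)
  have hF : IsField (X.presheaf.stalk ((ν) η')) := by rw [hη]; exact Field.toIsField X.functionField
  refine (ConcreteCategory.isIso_iff_bijective _).2 ⟨?_, fun a => ?_⟩
  · letI := hF.toField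
    exact RingHom.injective ((ν).stalkMap η').hom
  · obtain ⟨b, hb⟩ := (EGA2Curve.residueFieldMap_bijective (NormDim1.hg X) fun x => ⟨x, rfl⟩).2
      (((Curv2.normalization X).residue η').hom a)
    obtain ⟨b', rfl⟩ := X.residue_surjective _ b
    refine ⟨b', ?_⟩
    have h1 : ((Curv2.normalization X).residue η').hom (((ν).stalkMap η').hom b') =
        ((Curv2.normalization X).residue η').hom a := by
      rw [← hb, ← RingHom.comp_apply, ← RingHom.comp_apply, ← CommRingCat.hom_comp, ← CommRingCat.hom_comp,
        Scheme.residue_residueFieldMap]
      rfl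
    letI : Field ((Curv2.normalization X).presheaf.stalk η') :=
      inferInstanceAs (Field (Curv2.normalization X).functionField)
    exact RingHom.injective ((Curv2.normalization X).residue η').hom h1

theorem good_of_irreducible {Y : Scheme.{u}} [IrreducibleSpace Y] {f : Y ⟶ X} (hY : Pi1.IsNormalScheme Y)
    (hf : f (genericPoint Y) = genericPoint X) : S9690.Good f :=
  S9690.good_of_dominant hY fun z hz => by
    rw [show z = genericPoint Y from ((genericPoint_spec Y).eq (show IsGenericPoint z Set.univ from
      ((irreducibleComponents_eq_singleton (X := Y)) ▸ hz : closure {z} ∈ ({Set.univ} : Set (Set Y))))).symm]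
    exact hf

theorem good_generic : S9690.Good (X.fromSpecStalk (genericPoint ↥X)) := fun z => by
  haveI : IsDomain (X.presheaf.stalk (genericPoint X)) := inferInstance
  haveI : IsIntegral (Spec (X.presheaf.stalk (genericPoint X))) := inferInstance
  refine ⟨inferInstance, ?_⟩
  have hz : (X.fromSpecStalk (genericPoint ↥X)) z = genericPoint X :=
    (((genericPoint_specializes _).antisymm (X.range_fromSpecStalk.le ⟨z, rfl⟩))).eq.symm
  have hF : IsField (X.presheaf.stalk ((X.fromSpecStalk (genericPoint ↥X)) z)) := by
    rw [hz]; exact Field.toIsField X.functionField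
  letI := hF.toField
  exact RingHom.injective _

theorem backward {Y : Scheme.{u}} (f : Y ⟶ X) (hY : Pi1.IsNormalScheme Y) [IsIntegralHom f] [IrreducibleSpace Y]
    (hp : f (genericPoint Y) = genericPoint X) [IsIso (f.stalkMap (genericPoint Y))] :
    ∃ e : Y ≅ Curv2.normalization X, e.hom ≫ ν = f := by
  haveI : ∀ y, _root_.IsReduced (Y.presheaf.stalk y) := fun y => haveI := (hY y).1; inferInstance
  haveI : IsReduced Y := isReduced_of_isReduced_stalk Y
  haveI : IsIntegral (Curv2.normalization X) := NormDim1.instIsIntegral X
  haveI : IsIntegralHom (ν) := NormDim1.instIntegralHom X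
  let g0 := X.fromSpecStalk (genericPoint ↥X)
  let h1 : genericPoint X ⤳ f (genericPoint Y) := genericPoint_specializes _
  let u : Spec (X.presheaf.stalk (genericPoint X)) ⟶ Y :=
    Spec.map (inv (f.stalkMap (genericPoint Y)) ≫ X.presheaf.stalkSpecializes h1) ≫ Y.fromSpecStalk (genericPoint Y)
  have hu : g0 = u ≫ f := by
    simp only [u, g0, Category.assoc, Spec.map_comp, ← Scheme.SpecMap_stalkMap_fromSpecStalk]
    rw [← Spec.map_comp_assoc (f.stalkMap (genericPoint Y)), IsIso.hom_inv_id, Spec.map_id, Category.id_comp,
      Scheme.SpecMap_stalkSpecializes_fromSpecStalk]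
  haveI : IsDominant u := ⟨by
    intro y
    have hmem : genericPoint Y ∈ Set.range u := by
      refine ⟨IsLocalRing.closedPoint _, ?_⟩
      have h : u (IsLocalRing.closedPoint _) ⤳ genericPoint Y := Y.range_fromSpecStalk.le ⟨_, rfl⟩
      exact ((genericPoint_specializes _).antisymm h).eq.symm
    exact closure_mono (Set.singleton_subset_iff.2 hmem) (specializes_iff_mem_closure.1 (genericPoint_specializes y))⟩
  obtain ⟨h, hh⟩ := S9690.exists_lift f (good_of_irreducible hY hp) hY
  let d : Curv2.normalization X ⟶ Y := g0.normalizationDesc u f hu
  have hd : d ≫ f = ν := g0.normalizationDesc_comp u f hu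
  have hd' : g0.toNormalization ≫ d = u := g0.toNormalization_normalizationDesc u f hu
  refine ⟨⟨h, d, ?_, ?_⟩, hh⟩
  · refine ext_of_isDominant_of_isSeparated f (by rw [Category.assoc, hd, hh, Category.id_comp]) u ?_
    have h2 : u ≫ h = g0.toNormalization := S9690.lift_unique good_generic _ _
      (by rw [Category.assoc, hh, ← hu]) (g0.toNormalization_fromNormalization)
    rw [← Category.assoc, h2, hd', Category.comp_id]
  · exact S9690.lift_unique (good_of_irreducible isNormal_normalization
      (EGA2Curve.fromNormalization_genericPoint (NormDim1.hg X))) _ _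
      (by rw [Category.assoc, hh, hd]; rfl) (Category.id_comp _)

end Pre

/-- Let X be an integral scheme, X' ⟶ X its normalization (the normalization of X in its function
field), and f : Y ⟶ X a morphism of schemes. Then there is an isomorphism Y ≅ X' over X if and only
if: every local ring of Y is an integrally closed domain, f is an integral morphism, and f is
birational, i.e. Y is irreducible, the fibre of f over the generic point of X consists of the
generic point of Y alone, and the induced map of local rings at the generic points is an
isomorphism. (The published statement allows X reduced with locally finitely many irreducible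
components, the normalization then being taken componentwise; this row states the case of an
integral X. The quasi-compactness and quasi-separatedness binders on the generic point always hold
and only serve to form the normalization.) -/
theorem result (X : Scheme.{u}) [IsIntegral X]
    [QuasiCompact (X.fromSpecStalk (genericPoint X))] [QuasiSeparated (X.fromSpecStalk (genericPoint X))]
    {Y : Scheme.{u}} (f : Y ⟶ X) :
    (∃ e : Y ≅ Curv2.normalization X, e.hom ≫ Curv2.normalizationι X = f) ↔
      Pi1.IsNormalScheme Y ∧ IsIntegralHom f ∧
        ∃ _ : IrreducibleSpace ↥Y, f.base ⁻¹' {genericPoint X} = {genericPoint Y} ∧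
          IsIso (f.stalkMap (genericPoint Y)) := by
  constructor
  · rintro ⟨e, rfl⟩
    haveI := Groth.Agent.NormDim1.instIsIntegral X
    haveI := Groth.Agent.NormDim1.instIntegralHom X
    haveI : Nonempty Y := ⟨e.inv (genericPoint (Curv2.normalization X))⟩
    haveI : IsIntegral Y := isIntegral_of_isOpenImmersion e.hom
    refine ⟨fun y => ?_, inferInstance, inferInstance, ?_, ?_⟩
    · let r := (asIso (e.hom.stalkMap y)).commRingCatIsoToRingEquiv
      haveI := (isNormal_normalization (X := X) (e.hom y)).1
      haveI := (isNormal_normalization (X := X) (e.hom y)).2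
      exact ⟨MulEquiv.isDomain _ r.symm.toMulEquiv, IsIntegrallyClosed.of_equiv r⟩
    · ext y
      have hp := Set.ext_iff.1 (Groth.Agent.EGA2Curve.preimage_genericPoint (Groth.Agent.NormDim1.hg X)) (e.hom y)
      simp only [Set.mem_preimage, Set.mem_singleton_iff] at hp ⊢
      refine hp.trans ⟨fun h => e.hom.isOpenEmbedding.injective ?_, fun h => ?_⟩
      · rw [genericPoint_eq_of_isOpenImmersion e.hom]; exact h
      · rw [h, genericPoint_eq_of_isOpenImmersion e.hom]; rfl
    · have h1 := genericPoint_eq_of_isOpenImmersion e.hom
      rw [Scheme.Hom.stalkMap_comp]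
      haveI : IsIso ((Curv2.normalizationι X).stalkMap (e.hom (genericPoint Y))) := by
        rw [h1]; exact isIso_stalkMap_generic
      infer_instance
  · rintro ⟨hY, hint, hirr, hp, hst⟩
    exact backward f hY ((Set.ext_iff.1 hp (genericPoint Y)).2 rfl)

end Groth.Agent.S5949
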