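import Groth.Statements.S9791
import Mathlib
import Groth.Agent.NormalSmooth.Basic
import Groth.Agent.DivPts.NormalIso
import Groth.Agent.S5949
-- import your own Groth.Agent.* helpers here

set_option autoImplicit false
universe u
open CategoryTheory CategoryTheory.Limits AlgebraicGeometry
open FlatMor

open AlgebraicGeometry CategoryTheory CategoryTheory.Limits

set_option backward.isDefEq.respectTransparency false

namespace Groth.Agent.S9791

theorem isNormalScheme_of_smooth {T P : Scheme.{u}} [IsIntegral T] (hT : Pi1.IsNormalScheme T) (π : P ⟶ T)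
    [Smooth π] : Pi1.IsNormalScheme P := by
  intro y
  obtain ⟨U, hU, hxU, -⟩ := TopologicalSpace.Opens.isBasis_iff_nbhd.mp T.isBasis_affineOpens
    (show π y ∈ (⊤ : T.Opens) from trivial)
  obtain ⟨V, hV, hyV, hVU⟩ := TopologicalSpace.Opens.isBasis_iff_nbhd.mp P.isBasis_affineOpens
    (show y ∈ π ⁻¹ᵁ U from hxU)
  haveI : Nonempty U := ⟨⟨π y, hxU⟩⟩
  haveI := DivPts.isIntegrallyClosed_sections hT hU
  letI := (π.appLE U V hVU).hom.toAlgebra
  haveI : Algebra.Smooth Γ(T, U) Γ(P, V) := π.smooth_appLE hU hV hVU
  have hA : EGA4.IsNormalRing Γ(T, U) := fun p _ =>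
    ⟨IsLocalization.isDomain_of_le_nonZeroDivisors (Localization.AtPrime p) (Ideal.primeCompl_le_nonZeroDivisors p),
      isIntegrallyClosed_of_isLocalization (Localization.AtPrime p) p.primeCompl (Ideal.primeCompl_le_nonZeroDivisors p)⟩
  obtain ⟨h1, h2⟩ := NormalSmooth.isNormalRing_of_smooth Γ(T, U) Γ(P, V) hA (hV.primeIdealOf ⟨y, hyV⟩).asIdeal
  letI := TopCat.Presheaf.algebra_section_stalk P.presheaf (⟨y, hyV⟩ : V)
  haveI := hV.isLocalization_stalk ⟨y, hyV⟩
  let e := IsLocalization.algEquiv (hV.primeIdealOf ⟨y, hyV⟩).asIdeal.primeCompl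
    (Localization.AtPrime (hV.primeIdealOf ⟨y, hyV⟩).asIdeal) (P.presheaf.stalk y)
  exact ⟨MulEquiv.isDomain _ e.symm.toMulEquiv, IsIntegrallyClosed.of_equiv e.toRingEquiv⟩

section

variable {X Y : Scheme.{u}} (f : X ⟶ Y) [Smooth f] [IsIntegral X] [IsIntegral Y]
    [QuasiCompact (Y.fromSpecStalk (genericPoint Y))] [QuasiSeparated (Y.fromSpecStalk (genericPoint Y))]

theorem base_generic : f (genericPoint X) = genericPoint Y := by
  obtain ⟨x, hx, hxf⟩ := Flat.generalizingMap f (genericPoint_specializes (f (genericPoint X)))
  rw [← ((genericPoint_specializes x).antisymm hx).eq.symm]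
  exact hxf

theorem key : ∃ p0 : ↑(pullback f (Curv2.normalizationι Y)),
    pullback.fst f (Curv2.normalizationι Y) p0 = genericPoint X ∧
    (∀ z, p0 ⤳ z) ∧ (∀ z, pullback.fst f (Curv2.normalizationι Y) z = genericPoint X → z = p0) ∧
    Function.Surjective ((pullback.fst f (Curv2.normalizationι Y)).residueFieldMap p0).hom := by
  let g0 := Y.fromSpecStalk (genericPoint Y)
  let ν := Curv2.normalizationι Y
  let τ : Spec (Y.presheaf.stalk (genericPoint Y)) ⟶ Curv2.normalization Y := g0.toNormalization
  have hτ : τ ≫ ν = g0 := g0.toNormalization_fromNormalization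
  haveI := NormDim1.instIsIntegral Y
  haveI := NormDim1.instIntegralHom Y
  let πX := pullback.fst f ν
  let πN := pullback.snd f ν
  haveI : Flat πN := MorphismProperty.pullback_snd (P := @Flat) f ν inferInstance
  have hsub : Subsingleton ↥(Spec (Y.presheaf.stalk (genericPoint Y))) :=
    inferInstanceAs (Subsingleton (PrimeSpectrum Y.functionField))
  let m : pullback f g0 ⟶ pullback f ν :=
    pullback.lift (pullback.fst f g0) (pullback.snd f g0 ≫ τ) (by rw [Category.assoc, hτ, pullback.condition])
  have hm1 : m ≫ πX = pullback.fst f g0 := pullback.lift_fst _ _ _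
  have hmsq : IsPullback m (pullback.snd f g0) πN τ := by
    refine IsPullback.of_right ?_ (pullback.lift_snd _ _ _) (IsPullback.of_hasPullback f ν)
    rw [hm1, hτ]
    exact IsPullback.of_hasPullback f g0
  have hind : Topology.IsEmbedding (pullback.fst f g0) := by
    haveI : IsPreimmersion (pullback.fst f g0) := MorphismProperty.pullback_fst (P := @IsPreimmersion) f g0 inferInstance
    exact (pullback.fst f g0).isEmbedding
  let pt := IsLocalRing.closedPoint (Y.presheaf.stalk (genericPoint Y))
  have hg0 : g0 pt = genericPoint Y := Scheme.fromSpecStalk_closedPoint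
  have hη' : τ pt = genericPoint (Curv2.normalization Y) :=
    EGA2Curve.toNormalization_eq_genericPoint (K := Y.functionField) (NormDim1.hg Y)
  have hover : ∀ z : ↑(pullback f ν), πN z = genericPoint (Curv2.normalization Y) → ∃ w, m w = z := by
    intro z hz
    obtain ⟨v, hv, -⟩ := Scheme.Pullback.exists_preimage_pullback (f := πN) (g := τ) z pt (hz.trans hη'.symm)
    refine ⟨hmsq.isoPullback.inv v, ?_⟩
    rw [← Scheme.Hom.comp_apply, hmsq.isoPullback_inv_fst]
    exact hv
  obtain ⟨w0, hw0, -⟩ := Scheme.Pullback.exists_preimage_pullback (f := f) (g := g0) (genericPoint X) pt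
    ((base_generic f).trans hg0.symm)
  have hfst : ∀ w, πX (m w) = pullback.fst f g0 w := fun w => by
    rw [← Scheme.Hom.comp_apply, hm1]
  refine ⟨m w0, (hfst w0).trans hw0, fun z => ?_, fun z hz => ?_, ?_⟩
  · obtain ⟨z', hz', hz'N⟩ := Flat.generalizingMap πN (genericPoint_specializes (πN z))
    obtain ⟨w, rfl⟩ := hover z' hz'N
    refine (Specializes.map ?_ m.continuous).trans hz'
    rw [← hind.isInducing.specializes_iff]
    exact hw0 ▸ genericPoint_specializes _
  · have h1 : ν (πN z) = genericPoint Y := by
      have e : πX ≫ f = πN ≫ ν := pullback.condition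
      rw [← Scheme.Hom.comp_apply, ← e, Scheme.Hom.comp_apply]
      exact (congrArg _ hz).trans (base_generic f)
    have h2 : πN z = genericPoint (Curv2.normalization Y) :=
      Set.mem_singleton_iff.1 ((EGA2Curve.preimage_genericPoint (NormDim1.hg Y)).subset h1)
    obtain ⟨w, rfl⟩ := hover z h2
    exact congrArg m (hind.injective (((hfst w).symm.trans hz).trans hw0.symm))
  · -- the section over the generic point of `X`
    let gX := X.fromSpecStalk (genericPoint X)
    let s : Spec (X.presheaf.stalk (genericPoint X)) ⟶ Spec (Y.presheaf.stalk (genericPoint Y)) :=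
      Spec.map (Y.presheaf.stalkSpecializes (specializes_of_eq (base_generic f)) ≫ f.stalkMap (genericPoint X))
    have hs : gX ≫ f = s ≫ g0 := by
      simp only [s, gX, g0, Spec.map_comp, Category.assoc, Scheme.SpecMap_stalkSpecializes_fromSpecStalk,
        Scheme.SpecMap_stalkMap_fromSpecStalk]
    let σ := pullback.lift (f := f) (g := g0) gX s hs ≫ m
    have hσ : σ ≫ πX = gX := by simp only [σ, Category.assoc, hm1, pullback.lift_fst]
    let ptX := IsLocalRing.closedPoint (X.presheaf.stalk (genericPoint X))
    have hσpt : σ ptX = m w0 := by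
      simp only [σ, Scheme.Hom.comp_apply]
      refine congrArg m (hind.injective ?_)
      rw [hw0, ← Scheme.Hom.comp_apply, pullback.lift_fst]
      exact Scheme.fromSpecStalk_closedPoint
    rw [← hσpt]
    have hgX : Function.Surjective ((σ ≫ πX).residueFieldMap ptX).hom := by
      rw [hσ]
      intro c
      obtain ⟨c', rfl⟩ := (Spec (X.presheaf.stalk (genericPoint X))).residue_surjective _ c
      obtain ⟨d, rfl⟩ := gX.stalkMap_surjective ptX c'
      refine ⟨(X.residue _).hom d, ?_⟩
      rw [← RingHom.comp_apply, ← RingHom.comp_apply, ← CommRingCat.hom_comp, ← CommRingCat.hom_comp,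
        Scheme.residue_residueFieldMap]
    rw [Scheme.residueFieldMap_comp, CommRingCat.hom_comp, RingHom.coe_comp] at hgX
    intro a
    obtain ⟨b, hb⟩ := hgX ((σ.residueFieldMap ptX).hom a)
    exact ⟨b, RingHom.injective (σ.residueFieldMap ptX).hom hb⟩

variable [QuasiCompact (X.fromSpecStalk (genericPoint X))] [QuasiSeparated (X.fromSpecStalk (genericPoint X))]

theorem exists_iso : Pi1.IsNormalScheme (pullback f (Curv2.normalizationι Y)) ∧
    ∃ e : pullback f (Curv2.normalizationι Y) ≅ Curv2.normalization X,
      e.hom ≫ Curv2.normalizationι X = pullback.fst f (Curv2.normalizationι Y) ∧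
      S9690.Good (pullback.fst f (Curv2.normalizationι Y)) := by
  haveI := NormDim1.instIsIntegral Y
  haveI := NormDim1.instIntegralHom Y
  haveI : IsIntegralHom (pullback.fst f (Curv2.normalizationι Y)) :=
    MorphismProperty.pullback_fst (P := @IsIntegralHom) _ _ inferInstance
  haveI : Smooth (pullback.snd f (Curv2.normalizationι Y)) :=
    MorphismProperty.pullback_snd (P := @Smooth) _ _ inferInstance
  have hN : Pi1.IsNormalScheme (pullback f (Curv2.normalizationι Y)) :=
    isNormalScheme_of_smooth (S5949.isNormal_normalization (X := Y)) (pullback.snd f (Curv2.normalizationι Y))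
  obtain ⟨p0, hp0, hgen, huniq, hres⟩ := key f
  have hgenS : IsGenericPoint p0 (Set.univ : Set ↑(pullback f (Curv2.normalizationι Y))) :=
    Set.eq_univ_of_forall fun z => specializes_iff_mem_closure.1 (hgen z)
  haveI : IrreducibleSpace ↑(pullback f (Curv2.normalizationι Y)) :=
    { toPreirreducibleSpace := ⟨hgenS.isIrreducible.isPreirreducible⟩
      toNonempty := ⟨p0⟩ }
  have e0 : genericPoint ↑(pullback f (Curv2.normalizationι Y)) = p0 := (genericPoint_spec _).eq hgenS
  subst e0
  haveI : ∀ y, _root_.IsReduced ((pullback f (Curv2.normalizationι Y)).presheaf.stalk y) := fun y =>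
    haveI := (hN y).1; inferInstance
  haveI : IsReduced (pullback f (Curv2.normalizationι Y)) := isReduced_of_isReduced_stalk _
  haveI : IsIntegral (pullback f (Curv2.normalizationι Y)) := isIntegral_of_irreducibleSpace_of_isReduced _
  haveI : IsIso ((pullback.fst f (Curv2.normalizationι Y)).stalkMap
      (genericPoint ↑(pullback f (Curv2.normalizationι Y)))) := by
    refine (ConcreteCategory.isIso_iff_bijective _).2 ⟨?_, fun a => ?_⟩
    · have hF : IsField (X.presheaf.stalk ((pullback.fst f (Curv2.normalizationι Y)) (genericPoint ↥(pullback f (Curv2.normalizationι Y))))) := by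
        rw [hp0]; exact Field.toIsField X.functionField
      letI := hF.toField
      exact RingHom.injective ((pullback.fst f (Curv2.normalizationι Y)).stalkMap (genericPoint ↥(pullback f (Curv2.normalizationι Y)))).hom
    · obtain ⟨b, hb⟩ := hres (((pullback f (Curv2.normalizationι Y)).residue (genericPoint ↥(pullback f (Curv2.normalizationι Y)))).hom a)
      obtain ⟨b', rfl⟩ := X.residue_surjective _ b
      refine ⟨b', ?_⟩
      have h1 : ((pullback f (Curv2.normalizationι Y)).residue (genericPoint ↥(pullback f (Curv2.normalizationι Y)))).hom (((pullback.fst f (Curv2.normalizationι Y)).stalkMap (genericPoint ↥(pullback f (Curv2.normalizationι Y)))).hom b') =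
          ((pullback f (Curv2.normalizationι Y)).residue (genericPoint ↥(pullback f (Curv2.normalizationι Y)))).hom a := by
        rw [← hb, ← RingHom.comp_apply, ← RingHom.comp_apply, ← CommRingCat.hom_comp, ← CommRingCat.hom_comp,
          Scheme.residue_residueFieldMap]
      letI : Field ((pullback f (Curv2.normalizationι Y)).presheaf.stalk (genericPoint ↥(pullback f (Curv2.normalizationι Y)))) := inferInstanceAs (Field (pullback f (Curv2.normalizationι Y)).functionField)
      exact RingHom.injective ((pullback f (Curv2.normalizationι Y)).residue (genericPoint ↥(pullback f (Curv2.normalizationι Y)))).hom h1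
  obtain ⟨e, he⟩ := S5949.backward (X := X) _ hN hp0
  exact ⟨hN, e, he, S5949.good_of_irreducible hN hp0⟩

end

end Groth.Agent.S9791

namespace Groth.Agent.S9791

/-- In the case of integral schemes: let f : X ⟶ Y be a smooth morphism with X and Y integral, and let
X^ν ⟶ X and Y^ν ⟶ Y be the normalizations (in the function fields). Then X^ν is isomorphic over X to
the fibre product X ×_Y Y^ν, and such an isomorphism is unique. (The published statement requires
only that each quasi-compact open subset of Y meet finitely many irreducible components of Y, and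
also derives this for X; this row assumes X and Y integral, the case in which the normalization used
here is defined. The quasi-compactness and quasi-separatedness binders on Spec K(X) → X and Spec
K(Y) → Y always hold and are needed only to form the normalization.) -/
theorem result {X Y : Scheme.{u}} (f : X ⟶ Y) [Smooth f] [IsIntegral X] [IsIntegral Y]
    [QuasiCompact (X.fromSpecStalk (genericPoint X))] [QuasiSeparated (X.fromSpecStalk (genericPoint X))]
    [QuasiCompact (Y.fromSpecStalk (genericPoint Y))] [QuasiSeparated (Y.fromSpecStalk (genericPoint Y))] :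
    ∃! e : Curv2.normalization X ≅ pullback f (Curv2.normalizationι Y),
      e.hom ≫ pullback.fst f (Curv2.normalizationι Y) = Curv2.normalizationι X := by
  obtain ⟨-, e, he, hgood⟩ := exists_iso f
  refine ⟨e.symm, ?_, fun e' he' => ?_⟩
  · show e.inv ≫ _ = _
    rw [← he, Iso.inv_hom_id_assoc]
  · have h : e'.inv = e.hom := S9690.lift_unique hgood _ _
      (by rw [← he', Iso.inv_hom_id_assoc]) he
    ext1
    rw [← cancel_epi e'.inv, Iso.inv_hom_id, h]
    simp

end Groth.Agent.S9791
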