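import Groth.Statements.S16754
import Groth.Agent.S1536
import Groth.Agent.S9791
import Groth.Agent.CurveDeg.H0One
import Groth.Agent.GrpSch.SmoothGeomRed
import Mathlib
-- import your own Groth.Agent.* helpers here

set_option autoImplicit false
universe u
open CurvSt

noncomputable section

namespace Groth.Agent.S16754Aux

open CategoryTheory CategoryTheory.Limits AlgebraicGeometry TopologicalSpace

theorem isNormalScheme_field (K : Type u) [Field K] : Pi1.IsNormalScheme (Spec (CommRingCat.of K)) := by
  intro x
  letI : Algebra K ((Spec (CommRingCat.of K)).presheaf.stalk x) :=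
    inferInstanceAs (Algebra K ((Spec.structureSheaf K).presheaf.stalk x))
  haveI : IsLocalization.AtPrime ((Spec (CommRingCat.of K)).presheaf.stalk x) x.asIdeal :=
    inferInstanceAs (IsLocalization.AtPrime ((Spec.structureSheaf K).presheaf.stalk x) x.asIdeal)
  haveI hd : IsDomain ((Spec (CommRingCat.of K)).presheaf.stalk x) :=
    IsLocalization.isDomain_of_le_nonZeroDivisors _ x.asIdeal.primeCompl_le_nonZeroDivisors
  exact ⟨hd, isIntegrallyClosed_of_isLocalization _ x.asIdeal.primeCompl
    x.asIdeal.primeCompl_le_nonZeroDivisors⟩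

theorem isIntegral_of_domain_stalk {Y : Scheme.{u}} [AlgebraicGeometry.IsNoetherian Y] [ConnectedSpace Y]
    (hd : ∀ y : Y, IsDomain (Y.presheaf.stalk y)) : IsIntegral Y := by
  haveI : ∀ y : Y, _root_.IsReduced (Y.presheaf.stalk y) := fun y => by haveI := hd y; infer_instance
  haveI : IsReduced Y := isReduced_of_isReduced_stalk Y
  have hdisj : ∀ A ∈ irreducibleComponents Y, ∀ B ∈ irreducibleComponents Y, ∀ x ∈ A, x ∈ B → A = B := by
    intro A hA B hB x hxA hxB
    haveI := hd x
    let η : Spec (Y.presheaf.stalk x) := genericPoint _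
    have key : ∀ C ∈ irreducibleComponents Y, x ∈ C → C = closure {Y.fromSpecStalk x η} := by
      intro C hC hxC
      have hCc := isClosed_of_mem_irreducibleComponents C hC
      obtain ⟨g, hg⟩ := QuasiSober.sober hC.1 hCc
      have hgx : g ⤳ x := hg.specializes hxC
      obtain ⟨p, hp⟩ : g ∈ Set.range (Y.fromSpecStalk x) := Y.range_fromSpecStalk.symm.subset hgx
      have h1 : Y.fromSpecStalk x η ⤳ g := hp ▸ (genericPoint_specializes p).map (Y.fromSpecStalk x).continuous
      refine Set.Subset.antisymm ?_ (hC.2 isIrreducible_singleton.closure ?_)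
      · rw [← hg.def]; exact closure_minimal (Set.singleton_subset_iff.2 (specializes_iff_mem_closure.1 h1)) isClosed_closure
      · rw [← hg.def]; exact closure_minimal (Set.singleton_subset_iff.2 (specializes_iff_mem_closure.1 h1)) isClosed_closure
    rw [key A hA hxA, key B hB hxB]
  obtain ⟨x0⟩ := (inferInstance : Nonempty Y)
  let A := irreducibleComponent x0
  have hA : A ∈ irreducibleComponents Y := irreducibleComponent_mem_irreducibleComponents x0
  have hopen : IsOpen A := by
    have hfin : (irreducibleComponents Y \ {A}).Finite :=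
      NoetherianSpace.finite_irreducibleComponents.subset Set.diff_subset
    have hc : IsClosed (⋃₀ (irreducibleComponents Y \ {A})) := by
      rw [Set.sUnion_eq_biUnion]
      exact hfin.isClosed_biUnion fun C hC => isClosed_of_mem_irreducibleComponents C hC.1
    convert hc.isOpen_compl using 1
    ext z
    constructor
    · rintro hz ⟨C, ⟨hC, hCA⟩, hzC⟩
      exact hCA (hdisj C hC A hA z hzC hz)
    · intro hz
      have hm := irreducibleComponent_mem_irreducibleComponents z
      by_contra hzA
      exact hz ⟨_, ⟨hm, fun h => hzA ((Set.mem_singleton_iff.1 h) ▸ mem_irreducibleComponent)⟩, mem_irreducibleComponent⟩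
  have hu := IsClopen.eq_univ ⟨isClosed_irreducibleComponent, hopen⟩ ⟨x0, mem_irreducibleComponent⟩
  haveI : IrreducibleSpace Y := by
    haveI : PreirreducibleSpace Y := ⟨hu ▸ isIrreducible_irreducibleComponent.isPreirreducible⟩
    exact ⟨inferInstance⟩
  exact isIntegral_of_irreducibleSpace_of_isReduced Y

variable (k : Type u) [Field k] (X : Scheme.{u}) [X.Over (Spec (CommRingCat.of k))]
  [IsProper (X ↘ Spec (CommRingCat.of k))]

theorem connected_bc [Nonempty X] (h0 : Module.finrank k (Coh.HH X (Coh.structureModule X) 0) = 1)
    (K : Type u) [Field K] [Algebra k K] :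
    ConnectedSpace ↥(Curv2.bc k X K) := by
  let Y := Curv2.bc k X K
  let _ : Y.Over (Spec (CommRingCat.of K)) := ⟨Curv2.bcSnd k X K⟩
  have hpb : IsPullback (Curv2.bcFst k X K) (Y ↘ Spec (CommRingCat.of K))
      (X ↘ Spec (CommRingCat.of k)) (Spec.map (CommRingCat.ofHom (algebraMap k K))) :=
    IsPullback.of_hasPullback _ _
  have : IsProper (Y ↘ Spec (CommRingCat.of K)) := MorphismProperty.of_isPullback hpb inferInstance
  haveI : Surjective (Spec.map (CommRingCat.ofHom (algebraMap k K))) := ⟨fun x => ⟨IsLocalRing.closedPoint K, Subsingleton.elim _ _⟩⟩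
  haveI hs : Surjective (Curv2.bcFst k X K) := MorphismProperty.of_isPullback hpb.flip inferInstance
  haveI : Nonempty Y := ⟨(hs.surj (Classical.arbitrary X)).choose⟩
  have := Groth.Agent.CurveDeg.isSeparated_of_proper (k := k) (X := X)
  have := Groth.Agent.CurveDeg.isNoetherian_of_proper (k := k) (X := X)
  refine Groth.Agent.CurveDeg.connectedSpace_of_h0 (k := K) (X := Y) ?_
  obtain ⟨e⟩ := Groth.Agent.BCModel.nonempty_HH_baseChange (A := k) (B := K) (X := X)
    (algebraMap k K) (RingHom.flat_algebraMap_iff.2 inferInstance) (Curv2.bcFst k X K)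
    hpb (Coh.structureModule X) (Groth.Agent.TensorMod.isQCoh_structureModule X) 0
  have halg : (algebraMap k K).toAlgebra = (inferInstance : Algebra k K) :=
    Algebra.algebra_ext _ _ fun _ => rfl
  revert e; rw [halg]; intro e
  have h := (Module.finrank_baseChange (R := K) (S := k) (M' := Coh.HH X (Coh.structureModule X) 0))
  rw [← h0, ← h, e.finrank_eq,
    Groth.Agent.CurveDeg.finrank_HH_congr (k := K) (Groth.Agent.GenLocus.pullUnitIso (Curv2.bcFst k X K)) 0]

theorem geometricallyConnected_of_h0 [Nonempty X]
    (h0 : Module.finrank k (Coh.HH X (Coh.structureModule X) 0) = 1) :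
    GeometricallyConnected (X ↘ Spec (CommRingCat.of k)) := by
  refine ⟨fun K _ y Z a b h => ?_⟩
  obtain ⟨φ, rfl⟩ := Spec.map_surjective y
  letI : Algebra k K := φ.hom.toAlgebra
  haveI := connected_bc k X h0 K
  have hpb : IsPullback (Curv2.bcFst k X K) (Curv2.bcSnd k X K)
      (X ↘ Spec (CommRingCat.of k)) (Spec.map φ) :=
    IsPullback.of_hasPullback _ _
  exact (hpb.isoIsPullback _ _ h).hom.homeomorph.surjective.connectedSpace (hpb.isoIsPullback _ _ h).hom.continuous

theorem geometricallyIntegral_of_smooth [Smooth (X ↘ Spec (CommRingCat.of k))]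
    [GeometricallyConnected (X ↘ Spec (CommRingCat.of k))] :
    GeometricallyIntegral (X ↘ Spec (CommRingCat.of k)) := by
  refine ⟨fun K _ y Z a b h => ?_⟩
  haveI : Smooth b := MorphismProperty.of_isPullback h inferInstance
  haveI : IsProper b := MorphismProperty.of_isPullback h inferInstance
  haveI : ConnectedSpace Z := GeometricallyConnected.geometrically_connectedSpace (f := X ↘ Spec (CommRingCat.of k)) _ _ _ h
  haveI : IsLocallyNoetherian Z := LocallyOfFiniteType.isLocallyNoetherian b
  haveI : CompactSpace Z := QuasiCompact.compactSpace_of_compactSpace b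
  haveI : AlgebraicGeometry.IsNoetherian Z := {}
  exact isIntegral_of_domain_stalk fun z => (S9791.isNormalScheme_of_smooth (isNormalScheme_field K) b z).1

end Groth.Agent.S16754Aux

end

namespace Groth.Agent.S16754

open CategoryTheory CategoryTheory.Limits AlgebraicGeometry in
/-- Let k be a field and X a scheme which is proper and smooth over k and of dimension one. Then the
following are equivalent: dim_k H^0(X, O_X) = 1 (the ground field is the ring of global functions);
X is geometrically connected over k; X is geometrically integral over k. (The remaining conditions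
of the source concern membership in an open substack of the stack of curves and are not stated.) -/
theorem result (k : Type u) [Field k]
    (X : Scheme.{u}) [X.Over (Spec (CommRingCat.of k))] [IsProper (X ↘ Spec (CommRingCat.of k))]
    [Smooth (X ↘ Spec (CommRingCat.of k))] (hdim : topologicalKrullDim ↥X = 1) :
    (Module.finrank k (Coh.HH X (Coh.structureModule X) 0) = 1 ↔ GeometricallyConnected (X ↘ Spec (CommRingCat.of k))) ∧
      (GeometricallyConnected (X ↘ Spec (CommRingCat.of k)) ↔ GeometricallyIntegral (X ↘ Spec (CommRingCat.of k))) := by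
  haveI : Nonempty X := by
    by_contra h
    haveI := not_nonempty_iff.1 h
    haveI : IsEmpty (TopologicalSpace.IrreducibleCloseds X) := ⟨fun s => isEmptyElim s.isIrreducible.1.choose⟩
    rw [topologicalKrullDim, Order.krullDim_eq_bot] at hdim
    exact absurd hdim (by simp)
  refine ⟨⟨fun h => S16754Aux.geometricallyConnected_of_h0 k X h, fun h => ?_⟩,
    ⟨fun h => S16754Aux.geometricallyIntegral_of_smooth k X, fun h => ?_⟩⟩
  · haveI := h
    exact S1536.result k X
  · exact ⟨fun K _ y Z a b hp => by
      haveI := h.geometrically_isIntegral _ _ _ hp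
      infer_instance⟩

end Groth.Agent.S16754
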