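import Groth.Statements.S16762
import Mathlib

set_option autoImplicit false
universe u
open CAlgX

namespace Groth.Agent.S16762

open TensorProduct

/-- Let A → A' be faithfully flat and u : M → N a map of A-modules. Then u is universally injective (u ⊗
id_Q injective for every A-module Q) if and only if its base change A' ⊗_A M → A' ⊗_A N is
universally injective as a map of A'-modules. -/
theorem result (A A' : Type u) [CommRing A] [CommRing A']
    [Algebra A A'] [Module.FaithfullyFlat A A'] {M N : Type u} [AddCommGroup M] [Module A M]
    [AddCommGroup N] [Module A N] (u : M →ₗ[A] N) :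
    CAlgX.UniversallyInjective A u ↔ CAlgX.UniversallyInjective A' (u.baseChange A') := by
  have key : ∀ (Q : Type u) [AddCommGroup Q] [Module A Q] [Module A' Q] [IsScalarTower A A' Q],
      Function.Injective ((u.baseChange A').rTensor Q) ↔ Function.Injective (u.rTensor Q) := by
    intro Q _ _ _ _
    let eM := (TensorProduct.comm A' (A' ⊗[A] M) Q).trans (TensorProduct.AlgebraTensorModule.cancelBaseChange A A' A' Q M)
    let eN := (TensorProduct.comm A' (A' ⊗[A] N) Q).trans (TensorProduct.AlgebraTensorModule.cancelBaseChange A A' A' Q N)
    have hc : ∀ z, eN ((u.baseChange A').rTensor Q z) = u.lTensor Q (eM z) := by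
      intro z
      induction z using TensorProduct.induction_on with
      | zero => simp only [map_zero]
      | add x y hx hy => simp only [map_add, hx, hy]
      | tmul w q =>
        induction w using TensorProduct.induction_on with
        | zero => simp only [TensorProduct.zero_tmul, map_zero]
        | add x y hx hy => simp only [TensorProduct.add_tmul, map_add, hx, hy]
        | tmul c m => simp [eM, eN]
    have h1 : eN ∘ (u.baseChange A').rTensor Q = u.lTensor Q ∘ eM := funext hc
    rw [← EquivLike.comp_injective _ eN, h1, EquivLike.injective_comp eM, LinearMap.lTensor_inj_iff_rTensor_inj]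
  refine ⟨fun h Q _ _ => ?_, fun h Q _ _ => ?_⟩
  · letI := Module.compHom Q (algebraMap A A')
    haveI : IsScalarTower A A' Q := IsScalarTower.of_algebraMap_smul fun _ _ => rfl
    exact (key Q).mpr (h Q)
  · have h1 := (key (A' ⊗[A] Q)).mp (h (A' ⊗[A] Q))
    rw [← LinearMap.lTensor_inj_iff_rTensor_inj] at h1 ⊢
    rw [← Module.FaithfullyFlat.lTensor_injective_iff_injective A A']
    rw [LinearMap.lTensor_tensor] at h1
    simpa using h1

end Groth.Agent.S16762
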