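import Groth.Statements.S16763
import Groth.Agent.Unram.FibreSmooth


set_option autoImplicit false
universe u
open Unram17

namespace Groth.Agent.S16763

open AlgebraicGeometry CategoryTheory CategoryTheory.Limits in
/-- Let g : Y → S and h : X → S be locally of finite presentation, f : X → Y an S-morphism (f ≫ g = h),
and x a point of X with image s = h(x) such that h is flat at x. Then f is smooth at x (smooth on an
open neighbourhood of x) if and only if the induced morphism of fibres X_s → Y_s is smooth at the
point of X_s lying over x. -/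
theorem result {X Y S : Scheme.{u}} (g : Y ⟶ S) (h : X ⟶ S)
    [LocallyOfFinitePresentation g] [LocallyOfFinitePresentation h] (f : X ⟶ Y) (w : f ≫ g = h)
    (x : ↥X) (hflat : (h.stalkMap x).hom.Flat)
    (x' : ↥(h.fiber (h x))) (hx' : (h.fiberι (h x)) x' = x) :
    (∃ U : X.Opens, x ∈ U ∧ Smooth (U.ι ≫ f)) ↔
      ∃ V : (h.fiber (h x)).Opens, x' ∈ V ∧ Smooth (V.ι ≫ CohIII.fiberMapOver f h g w (h x)) := by
  subst w
  have : LocallyOfFinitePresentation f := Groth.Agent.AlgSpc.lfp_of_comp f g
  have hF := Groth.Agent.Unram.isPullback_fiberMapOver g f ((f ≫ g) x)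
  have : LocallyOfFinitePresentation (CohIII.fiberMapOver f (f ≫ g) g rfl (g (f x))) :=
    MorphismProperty.of_isPullback (Groth.Agent.Unram.isPullback_fiberMapOver g f (g (f x))) inferInstance
  have : LocallyOfFinitePresentation (CohIII.fiberMapOver f (f ≫ g) g rfl ((f ≫ g) x)) :=
    MorphismProperty.of_isPullback hF inferInstance
  obtain rfl : x' = (f ≫ g).asFiber x := by
    refine ((f ≫ g).fiberι _).isEmbedding.injective ?_
    rw [hx', Scheme.Hom.fiberι_asFiber]
  rw [Groth.Agent.Unram.smooth_nhd_iff, Groth.Agent.Unram.mem_smoothLocus_iff_fiberMapOver g f x hflat]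
  exact ⟨fun h => (Groth.Agent.Unram.smooth_nhd_iff _ _).2 h,
    fun h => (Groth.Agent.Unram.smooth_nhd_iff _ _).1 h⟩

end Groth.Agent.S16763
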