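import Groth.Statements.S1677
import Groth.Agent.CIPres.Morphism
import Groth.Agent.LCIPres.Embed
import Groth.Agent.PCHom.SectionGen


set_option autoImplicit false
set_option linter.style.haveILetI false
set_option maxHeartbeats 400000
universe u
open CategoryTheory CategoryTheory.Limits AlgebraicGeometry TopologicalSpace
open SDiv

namespace Groth.Agent.S1677

open AlgebraicGeometry CategoryTheory IsLocalRing RingTheory.Sequence NLAmp LCIPres

theorem exists_regular_nhd {B S C : Type u} [CommRing B] [CommRing S] [CommRing C] [Algebra B S] [Algebra B C]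
    [Algebra.Smooth B S] [Module.Flat B C] [Algebra.FinitePresentation B C] (φ : S →ₐ[B] C) (hsurj : Function.Surjective φ)
    (hflat : ConormalFlat (RingHom.ker φ)) (q : Ideal S) [q.IsPrime] (hq : RingHom.ker φ ≤ q) :
    ∃ g ∉ q, ∃ l : List (Localization.Away g), IsWeaklyRegular (Localization.Away g) l ∧
      (RingHom.ker φ).map (algebraMap S (Localization.Away g)) = Ideal.ofList l := by
  have : Module.Flat B S := Algebra.Smooth.flat B S
  let I := RingHom.ker φ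
  have hI : I.FG := Algebra.FinitePresentation.ker_fG_of_surjective φ hsurj
  have : Module.Flat B (S ⧸ I) :=
    Module.Flat.of_linearEquiv (Ideal.quotientKerAlgEquivOfSurjective hsurj).toLinearEquiv
  let T := Localization.AtPrime q
  let p := q.comap (algebraMap B S)
  let pT := p.map (algebraMap B T)
  have hJm : I.map (algebraMap S T) ≤ maximalIdeal T := Ideal.map_le_iff_le_comap.mpr fun a ha => by
    rw [Ideal.mem_comap, IsLocalization.AtPrime.to_map_mem_maximal_iff T q a]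
    exact hq ha
  have hJ : I.map (algebraMap S T) ≠ ⊤ := fun h => (maximalIdeal.isMaximal T).ne_top (top_le_iff.1 (h ▸ hJm))
  obtain ⟨r, x, hxI, hxJ, hind⟩ := exists_minimal_generators q hI hflat
  have := PCHom.isRegularLocalRing_fibre' B S q
  have hpm : pT ≤ maximalIdeal T := Ideal.map_le_iff_le_comap.2 fun a ha => by
    rw [Ideal.mem_comap, IsScalarTower.algebraMap_apply B S T, IsLocalization.AtPrime.to_map_mem_maximal_iff T q]
    exact ha
  obtain ⟨y, hyJ, hyreg⟩ := exists_regular_generators pT _ hJ (hI.map _) hpm _ hxJ hind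
    (inter_le_mul_localization q p)
  obtain ⟨g, hg, a, -, ha, hspan⟩ := PCHom.exists_koszulRegular_nhd_gen I hI q y hyJ hyreg
  exact ⟨g, hg, _, ha, hspan⟩

theorem exists_regular_at {S U P : Scheme.{u}} (q : U ⟶ S) (p : P ⟶ S) [Smooth p] [Flat q] [LocallyOfFinitePresentation q]
    (i : U ⟶ P) [IsClosedImmersion i] (hi : i ≫ p = q) (u : U) (h : LCIAt q u) :
    ∃ (O : P.Opens) (hO : IsAffineOpen O), i u ∈ O ∧
      ∃ rs : List Γ(P, O), RingTheory.Sequence.IsRegular Γ(P, O) rs ∧ i.ker.ideal ⟨O, hO⟩ = Ideal.ofList rs := by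
  classical
  obtain ⟨U₁, V, e, hU₁, hV, huU₁, hlci⟩ := h
  obtain ⟨O', hO', hO'U⟩ := i.isEmbedding.isInducing.isOpen_iff.1 U₁.2
  have hu1 : i u ∈ i.coborderRange ⊓ ⟨O', hO'⟩ ⊓ p ⁻¹ᵁ V := by
    refine ⟨⟨subset_coborder ⟨u, rfl⟩, ?_⟩, ?_⟩
    · show u ∈ i ⁻¹' O'
      rw [hO'U]; exact huU₁
    · show p (i u) ∈ V
      rw [← Scheme.Hom.comp_apply, hi]; exact e huU₁
  obtain ⟨W, hW, huW, hWle⟩ := TopologicalSpace.Opens.isBasis_iff_nbhd.1 P.isBasis_affineOpens hu1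
  haveI := isClosedImmersion_restrict_coborder i W (hWle.trans (inf_le_left.trans inf_le_left))
  haveI : IsAffine (W : Scheme.{u}) := hW
  have hiW : IsAffineOpen (i ⁻¹ᵁ W) := isAffine_of_isAffineHom (i ∣_ W)
  have hsurjW : Function.Surjective (i.app W).hom := app_surjective_of_restrict i W
  obtain ⟨b, b₁, hbb, hub⟩ := exists_basicOpen_le_affine_inter hiW hU₁ u ⟨huW, huU₁⟩
  obtain ⟨h, rfl⟩ := hsurjW b
  let W' := P.basicOpen h
  have hW' : IsAffineOpen W' := hW.basicOpen h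
  haveI := isClosedImmersion_restrict_coborder i W' ((P.basicOpen_le h).trans (hWle.trans (inf_le_left.trans inf_le_left)))
  have hpre : i ⁻¹ᵁ W' = U.basicOpen b₁ := (Scheme.preimage_basicOpen i h).trans hbb
  haveI : IsAffine (W' : Scheme.{u}) := hW'
  have hiW' : IsAffineOpen (i ⁻¹ᵁ W') := isAffine_of_isAffineHom (i ∣_ W')
  have e₁ : W' ≤ p ⁻¹ᵁ V := (P.basicOpen_le h).trans (hWle.trans inf_le_right)
  have e₂ : i ⁻¹ᵁ W' ≤ q ⁻¹ᵁ V := hpre.trans_le ((U.basicOpen_le b₁).trans e)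
  letI algU₁ : Algebra Γ(S, V) Γ(U, U₁) := (q.appLE V U₁ e).hom.toAlgebra
  have hleU : i ⁻¹ᵁ W' ≤ U₁ := hpre.trans_le (U.basicOpen_le b₁)
  letI algUB : Algebra Γ(U, U₁) Γ(U, i ⁻¹ᵁ W') := (U.presheaf.map (homOfLE hleU).op).hom.toAlgebra
  haveI : IsLocalization.Away b₁ Γ(U, i ⁻¹ᵁ W') := hU₁.isLocalization_of_eq_basicOpen b₁ (homOfLE hleU) hpre
  letI algC : Algebra Γ(S, V) Γ(P, W') := (p.appLE V W' e₁).hom.toAlgebra
  letI algB : Algebra Γ(S, V) Γ(U, i ⁻¹ᵁ W') := (q.appLE V (i ⁻¹ᵁ W') e₂).hom.toAlgebra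
  haveI : IsScalarTower Γ(S, V) Γ(U, U₁) Γ(U, i ⁻¹ᵁ W') := IsScalarTower.of_algebraMap_eq' (by
    show (q.appLE V (i ⁻¹ᵁ W') e₂).hom = (q.appLE V U₁ e ≫ U.presheaf.map _).hom
    rw [Scheme.Hom.appLE_map])
  letI algCB : Algebra Γ(P, W') Γ(U, i ⁻¹ᵁ W') := (i.app W').hom.toAlgebra
  haveI : IsScalarTower Γ(S, V) Γ(P, W') Γ(U, i ⁻¹ᵁ W') := IsScalarTower.of_algebraMap_eq' (by
    show (q.appLE V (i ⁻¹ᵁ W') e₂).hom = (p.appLE V W' e₁ ≫ i.app W').hom
    rw [i.app_eq_appLE, Scheme.Hom.appLE_comp_appLE]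
    simp only [hi])
  haveI : Algebra.Smooth Γ(S, V) Γ(P, W') := p.smooth_appLE hV hW' e₁
  have hCB : LCI.IsLCI Γ(P, W') Γ(U, i ⁻¹ᵁ W') :=
    isLCI_cancel_smooth (A := Γ(S, V)) (isLCI_away hlci b₁ Γ(U, i ⁻¹ᵁ W'))
  have hsurj : Function.Surjective (algebraMap Γ(P, W') Γ(U, i ⁻¹ᵁ W')) := app_surjective_of_restrict i W'
  have hKR : LCI.IsKoszulRegularIdeal (RingHom.ker (algebraMap Γ(P, W') Γ(U, i ⁻¹ᵁ W'))) := by
    let v : Fin 0 → Γ(U, i ⁻¹ᵁ W') := finZeroElim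
    let ε := MvPolynomial.isEmptyAlgEquiv Γ(P, W') (Fin 0)
    have hc : (MvPolynomial.aeval (R := Γ(P, W')) v).toRingHom =
        (algebraMap Γ(P, W') Γ(U, i ⁻¹ᵁ W')).comp ε.toRingEquiv.toRingHom := by
      refine MvPolynomial.ringHom_ext (fun a => ?_) fun j => j.elim0
      change MvPolynomial.aeval (R := Γ(P, W')) v (algebraMap Γ(P, W') _ a) =
        algebraMap Γ(P, W') Γ(U, i ⁻¹ᵁ W') (ε (algebraMap Γ(P, W') _ a))
      rw [AlgHom.commutes, ε.commutes]
      rfl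
    have hv : Function.Surjective (MvPolynomial.aeval (R := Γ(P, W')) v) := by
      change Function.Surjective (MvPolynomial.aeval (R := Γ(P, W')) v).toRingHom
      rw [hc]
      exact hsurj.comp ε.surjective
    have h1 := (isLCI_iff hv).1 hCB
    rw [KPres, hc, ← RingHom.comap_ker, kreg_comap_equiv] at h1
    exact h1
  have huW' : i u ∈ W' := by
    show u ∈ i ⁻¹ᵁ W'
    rw [hpre, ← hbb]
    exact hub
  have hle : RingHom.ker (algebraMap Γ(P, W') Γ(U, i ⁻¹ᵁ W')) ≤ (hW'.primeIdealOf ⟨i u, huW'⟩).asIdeal := fun a ha => by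
    by_contra hna
    have h2 := (SyntLCI.mem_basicOpen_iff_notMem hW' ⟨i u, huW'⟩ a).2 hna
    have h3 : u ∈ U.basicOpen (i.app W' a) := (Scheme.preimage_basicOpen i a).le h2
    rw [show i.app W' a = 0 from ha, Scheme.basicOpen_zero] at h3
    exact h3
  haveI : Module.Flat Γ(S, V) Γ(U, i ⁻¹ᵁ W') := HasRingHomProperty.appLE @Flat q inferInstance ⟨V, hV⟩ ⟨_, hiW'⟩ e₂
  haveI : Algebra.FinitePresentation Γ(S, V) Γ(U, i ⁻¹ᵁ W') :=
    HasRingHomProperty.appLE @LocallyOfFinitePresentation q inferInstance ⟨V, hV⟩ ⟨_, hiW'⟩ e₂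
  let φ := IsScalarTower.toAlgHom Γ(S, V) Γ(P, W') Γ(U, i ⁻¹ᵁ W')
  let m := (hW'.primeIdealOf ⟨i u, huW'⟩).asIdeal
  obtain ⟨g, hg, l, hl, hspan⟩ := exists_regular_nhd φ hsurj
    (NLAmp.hasLocalBases_of_isKoszulRegularIdeal hKR).conormalFlat m hle
  let W'' := P.basicOpen g
  have hW'' : IsAffineOpen W'' := hW'.basicOpen g
  letI algW : Algebra Γ(P, W') Γ(P, W'') := (P.presheaf.map (homOfLE (P.basicOpen_le g)).op).hom.toAlgebra
  haveI : IsLocalization.Away g Γ(P, W'') := hW'.isLocalization_basicOpen g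
  let ε := IsLocalization.algEquiv (Submonoid.powers g) (Localization.Away g) Γ(P, W'')
  have hxg : i u ∈ W'' := (SyntLCI.mem_basicOpen_iff_notMem hW' ⟨i u, huW'⟩ g).2 hg
  have hkerl : i.ker.ideal ⟨W'', hW''⟩ = Ideal.ofList (l.map ε) := by
    rw [Scheme.Hom.ker_apply]
    refine (ker_app_basicOpen i hW' hiW' g).trans ?_
    show (RingHom.ker φ).map (algebraMap Γ(P, W') Γ(P, W'')) = _
    rw [← AlgHom.comp_algebraMap ε.toAlgHom, ← Ideal.map_map, hspan, Ideal.map_ofList]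
    rfl
  refine ⟨W'', hW'', hxg, l.map ε, ⟨?_, ?_⟩, hkerl⟩
  · letI : Algebra (Localization.Away g) Γ(P, W'') := ε.toRingEquiv.toRingHom.toAlgebra
    haveI : Module.Flat (Localization.Away g) Γ(P, W'') :=
      RingHom.flat_algebraMap_iff.1 (RingHom.Flat.of_bijective ε.bijective)
    exact hl.of_flat (S := Γ(P, W''))
  · rw [smul_eq_mul, Ideal.mul_top, ← hkerl]
    intro h
    have h1 : (1 : Γ(P, W'')) ∈ i.ker.ideal ⟨W'', hW''⟩ := h ▸ Submodule.mem_top
    rw [Scheme.Hom.ker_apply, RingHom.mem_ker, map_one] at h1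
    haveI : Nontrivial Γ(U, i ⁻¹ᵁ W'') :=
      (U.presheaf.germ (i ⁻¹ᵁ W'') u hxg).hom.domain_nontrivial
    exact one_ne_zero h1


/-- Let X ⟶ S be smooth, Y ⟶ S flat, locally of finite presentation with complete-intersection fibre
local rings (syntomic), and i : Y ⟶ X a closed immersion over S. Then i is a regular closed
immersion. -/
theorem result {X Y S : Scheme.{u}} (p : X ⟶ S) [Smooth p] (i : Y ⟶ X)
    [IsClosedImmersion i] (hY : CInt.IsCIMorphism (i ≫ p)) : Mor2.IsRegularClosedImmersion i := by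
  have hsyn := (CIPres.isCIMorphism_iff _).1 hY
  obtain ⟨hf, hp'⟩ := CIPres.flat_lfp_of_isSyntomicMor _ hsyn
  haveI := hf
  haveI := hp'
  exact ⟨inferInstance, fun y => exists_regular_at (i ≫ p) p i rfl y
    ((CIPres.isSyntomicAt_iff_lciAt _ y).1 (hsyn y))⟩

end Groth.Agent.S1677
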