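import Groth.Statements.S16772
import Groth.Agent.WeilAff.HomGrp
-- import your own Groth.Agent.* helpers here

set_option autoImplicit false
open CategoryTheory MonoidalCategory CartesianMonoidalCategory MonObj GrpObj AlgebraicGeometry
universe u
open SGA3x

namespace Groth.Agent.S16772

open Groth.Agent CategoryTheory CategoryTheory.Limits MonoidalCategory CartesianMonoidalCategory MonObj AlgebraicGeometry

/-- Let G be an affine group scheme of finite presentation over a scheme S and Y ⊆ G a closed subscheme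
which is finite, flat and of finite presentation over S. Then the centralizer of Y in G (points of G
commuting with every point of Y after any base change) is representable by a closed subscheme of G. -/
theorem result {S : Scheme.{u}} (G Y : Over S) [GrpObj G]
    (hGa : IsAffineHom G.hom) (hGfp : LocallyOfFinitePresentation G.hom)
    (y : Y ⟶ G) (hy : IsClosedImmersion y.left) (hYf : IsFinite Y.hom) (hYfl : Flat Y.hom)
    (hYfp : LocallyOfFinitePresentation Y.hom) :
    ∃ (C : Over S) (c : C ⟶ G), IsClosedImmersion c.left ∧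
      ∀ (X : Over S) (g : X ⟶ G), (∃ z : X ⟶ C, z ≫ c = g) ↔
        ∀ (X' : Over S) (x : X' ⟶ X) (a : X' ⟶ Y), (x ≫ g) * (a ≫ y) = (a ≫ y) * (x ≫ g) := by
  obtain ⟨Z, z, hZ, hZa, -, -⟩ := WeilAff.exists_repHom (H := Y) (G := G)
  let φ₁ : Y ⊗ G ⟶ G := snd Y G * (fst Y G ≫ y)
  let φ₂ : Y ⊗ G ⟶ G := (fst Y G ≫ y) * snd Y G
  obtain ⟨α, hα, -⟩ := hZ G φ₁
  obtain ⟨β, hβ, -⟩ := hZ G φ₂
  have := hZa
  obtain ⟨C, c, hc, -, hceq, huniv⟩ := WeilAff.exists_equalizer α β
  refine ⟨C, c, hc, fun X g => ?_⟩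
  have key : g ≫ α = g ≫ β ↔ (Y ◁ g) ≫ φ₁ = (Y ◁ g) ≫ φ₂ := by
    rw [← hα, ← hβ, ← whiskerLeft_comp_assoc, ← whiskerLeft_comp_assoc]
    exact ⟨fun h => by rw [h], fun h => (hZ X _).unique h rfl⟩
  have e₁ : (Y ◁ g) ≫ φ₁ = (snd Y X ≫ g) * (fst Y X ≫ y) := by
    simp only [φ₁, MonObj.comp_mul, whiskerLeft_snd, whiskerLeft_fst_assoc]
  have e₂ : (Y ◁ g) ≫ φ₂ = (fst Y X ≫ y) * (snd Y X ≫ g) := by
    simp only [φ₂, MonObj.comp_mul, whiskerLeft_snd, whiskerLeft_fst_assoc]
  constructor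
  · rintro ⟨t, rfl⟩ X' x a
    have h := key.1 (by rw [Category.assoc, Category.assoc, hceq])
    rw [e₁, e₂] at h
    simpa [MonObj.comp_mul] using congrArg (lift a x ≫ ·) h
  · intro h
    have h' : g ≫ α = g ≫ β := key.2 (by rw [e₁, e₂]; exact h _ (snd Y X) (fst Y X))
    exact ⟨_, (huniv X g h').choose_spec.1⟩

end Groth.Agent.S16772
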