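import Groth.Statements.S16777
import Groth.Agent.MultHopf.TransporterRep
import Groth.Agent.MultHopf.MonoClosed
-- import your own Groth.Agent.* helpers here

set_option autoImplicit false
open CategoryTheory MonoidalCategory CartesianMonoidalCategory MonObj GrpObj AlgebraicGeometry
universe u
open SGA3x

namespace Groth.Agent.S16777

/-- Let G be an affine group scheme of finite presentation over a scheme S, H ⊆ G a subgroup scheme of
multiplicative type (of finite type) and Y' ⊆ G any closed subscheme of finite presentation over S.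
Then the transporter of H into Y' (points g with g h g⁻¹ in Y' for all points h of H after any base
change) is representable by a closed subscheme of G of finite presentation over S. -/
theorem result {S : Scheme.{u}} (G H Y' : Over S) [GrpObj G] [GrpObj H]
    (hGa : IsAffineHom G.hom) (hGfp : LocallyOfFinitePresentation G.hom)
    (i : H ⟶ G) [IsMonHom i] [Mono i] (hH : SGA3x.IsMultTypeFT H)
    (y' : Y' ⟶ G) (hy' : IsClosedImmersion y'.left) (hY'fp : LocallyOfFinitePresentation Y'.hom) :
    ∃ (C : Over S) (c : C ⟶ G), IsClosedImmersion c.left ∧ LocallyOfFinitePresentation C.hom ∧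
      ∀ (X : Over S) (g : X ⟶ G), (∃ z : X ⟶ C, z ≫ c = g) ↔
        ∀ (X' : Over S) (x : X' ⟶ X) (h : X' ⟶ H), ∃ a' : X' ⟶ Y', (x ≫ g) * (h ≫ i) * (x ≫ g)⁻¹ = a' ≫ y' := by
  have := hGa
  have := hGfp
  have := hy'
  have := hY'fp
  have h₁ := Groth.Agent.MultHopf.isMultTypeLoc_of_ft hH
  have := Groth.Agent.MultHopf.quasiCompact_of_loc h₁
  have := Groth.Agent.MultHopf.lfp_left y'
  obtain ⟨T, t, hc, hf, hT⟩ := Groth.Agent.MultHopf.exists_transports_closed
    (Groth.Agent.MultHopf.projChart_of_isMultTypeLoc H h₁) i y'
  refine ⟨T, t, hc, ?_, hT⟩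
  rw [show T.hom = t.left ≫ G.hom from (Over.w t).symm]
  infer_instance

end Groth.Agent.S16777
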