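import Groth.Statements.S16793
-- import your own Groth.Agent.* helpers here

set_option autoImplicit false
universe v u
open PCurv

namespace Groth.Agent.S16793

open TensorProduct in
/-- Let B be a commutative algebra over a commutative ring A whose module Ω of Kähler differentials over
A is free of rank one on a form ω, and let ∇ be a connection on the free module B^r whose connection
matrix with respect to the standard basis e₁, …, e_r and ω is T, that is ∇(e_j) = Σ_i T_{ij} e_i ⊗
ω. Then for every A-derivation θ of B, writing f_θ ∈ B for the value on ω of the B-linear functional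
Ω → B attached to θ, the covariant derivative along θ is given by ∇_θ(s) = f_θ · (T s) + θ(s) for
all s ∈ B^r, where θ(s) is θ applied to each coordinate of s. -/
theorem result {A : Type v} {B : Type u} [CommRing A] [CommRing B] [Algebra A B]
    (bΩ : Module.Basis (Fin 1) B (KaehlerDifferential A B)) {r : ℕ} (T : Matrix (Fin r) (Fin r) B)
    (nabla : (Fin r → B) →ₗ[A] (Fin r → B) ⊗[B] KaehlerDifferential A B)
    (hc : Conn.IsConn (KaehlerDifferential.D A B) nabla)
    (hT : ∀ j : Fin r, nabla (Pi.single j 1) = ∑ i : Fin r, T i j • (Pi.single i (1 : B) ⊗ₜ[B] bΩ 0))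
    (θ : Derivation A B B) (s : Fin r → B) :
    Conn.alongDer nabla θ s = θ.liftKaehlerDifferential (bΩ 0) • T.mulVec s + (fun i => θ (s i)) := by
  classical
  have key : ∀ j : Fin r, ∀ b : B, Conn.alongDer nabla θ (b • Pi.single j 1) =
      (b * θ.liftKaehlerDifferential (bΩ 0)) • (fun i => T i j) + θ b • Pi.single j (1 : B) := by
    intro j b
    show Conn.along nabla θ.liftKaehlerDifferential (b • Pi.single j 1) = _
    rw [Conn.along_apply, hc b, hT j, map_add, map_add, map_smul, map_smul, map_sum, map_sum,
      TensorProduct.map_tmul, TensorProduct.rid_tmul, Derivation.liftKaehlerDifferential_comp_D,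
      LinearMap.id_apply, Finset.smul_sum]
    congr 1
    funext i
    rw [Finset.sum_apply, Finset.sum_eq_single i]
    · simp [Pi.single_eq_same]; ring
    · intro k _ hk
      simp [Pi.single_eq_of_ne (Ne.symm hk)]
    · intro h; exact absurd (Finset.mem_univ i) h
  have hs : s = ∑ j, s j • Pi.single j (1 : B) := pi_eq_sum_univ' s
  calc Conn.alongDer nabla θ s = ∑ j, Conn.alongDer nabla θ (s j • Pi.single j 1) := by
        conv_lhs => rw [hs]
        rw [map_sum]
    _ = _ := by
        simp only [key]
        rw [Finset.sum_add_distrib]
        congr 1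
        · funext i
          simp only [Finset.sum_apply, Pi.smul_apply, Matrix.mulVec, dotProduct, smul_eq_mul, Finset.mul_sum]
          exact Finset.sum_congr rfl fun j _ => by ring
        · exact (pi_eq_sum_univ' fun i => θ (s i)).symm

end Groth.Agent.S16793
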