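import Groth.Statements.S16794
import Groth.Agent.Hochschild.Basic

set_option autoImplicit false
universe v u
open PCurv

namespace Groth.Agent.S16794

open TensorProduct in
/-- Let p be a prime number and B a commutative algebra of characteristic p over a commutative ring A
whose module Ω of Kähler differentials over A is free of rank one on a form ω; let θ₀ be the
A-derivation of B dual to ω (its B-linear functional Ω → B takes the value 1 on ω), and let ∇ be a
connection on a finite free B-module M. Then the p-curvature of ∇ vanishes identically — for every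
A-derivation θ of B and every derivation θ' that agrees with the p-fold iterate of θ, the
endomorphism (∇_θ)^p − ∇_{θ'} of M is zero — if and only if it vanishes for the single derivation
θ₀. -/
theorem result {A : Type v} {B M : Type u} [CommRing A] [CommRing B]
    [Algebra A B] (p : ℕ) [Fact p.Prime] [CharP B p]
    [AddCommGroup M] [Module B M] [Module A M] [IsScalarTower A B M] [Module.Finite B M] [Module.Free B M]
    (bΩ : Module.Basis (Fin 1) B (KaehlerDifferential A B)) (θ₀ : Derivation A B B)
    (hθ₀ : θ₀.liftKaehlerDifferential (bΩ 0) = 1)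
    (nabla : M →ₗ[A] M ⊗[B] KaehlerDifferential A B)
    (hc : Conn.IsConn (KaehlerDifferential.D A B) nabla) :
    (∀ θ θp : Derivation A B B, Conn.IsIterPow θ p θp → Conn.pCurv p nabla θ θp = 0) ↔
      (∀ θp : Derivation A B B, Conn.IsIterPow θ₀ p θp → Conn.pCurv p nabla θ₀ θp = 0) := by
  refine ⟨fun h θp hp => h θ₀ θp hp, fun h θ θp hp => ?_⟩
  let θ₀p := Groth.Agent.Hochschild.iterPow p θ₀
  have h0 := h θ₀p fun b => Groth.Agent.Hochschild.iterPow_apply p θ₀ b
  let f := θ.liftKaehlerDifferential (bΩ 0)
  have hlin : ∀ (F : KaehlerDifferential A B →ₗ[B] B), F = F (bΩ 0) • θ₀.liftKaehlerDifferential := fun F =>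
    bΩ.ext fun i => by
      rw [Subsingleton.elim i 0, LinearMap.smul_apply, hθ₀, smul_eq_mul, mul_one]
  have hθ : ∀ b, θ b = f * θ₀ b := fun b => by
    rw [← Derivation.liftKaehlerDifferential_comp_D θ b, ← Derivation.liftKaehlerDifferential_comp_D θ₀ b,
      hlin θ.liftKaehlerDifferential, LinearMap.smul_apply, smul_eq_mul]
  have halong : ∀ (F : Derivation A B B) (c : B), F.liftKaehlerDifferential (bΩ 0) = c →
      ∀ m, Conn.alongDer nabla F m = c • Conn.alongDer nabla θ₀ m := fun F c hc' m => by
    show Conn.along nabla F.liftKaehlerDifferential m = c • Conn.along nabla θ₀.liftKaehlerDifferential m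
    rw [hlin F.liftKaehlerDifferential, hc', Conn.along_apply, Conn.along_apply, TensorProduct.map_smul_right,
      LinearMap.smul_apply, map_smul]
  let e : M →+ M := (Conn.alongDer nabla θ₀).toAddMonoidHom
  have he : ∀ (c : B) (m : M), e (c • m) = c • e m + θ₀ c • m := fun c m => by
    show Conn.along nabla θ₀.liftKaehlerDifferential (c • m) = c • Conn.along nabla θ₀.liftKaehlerDifferential m + θ₀ c • m
    rw [Conn.along_apply, Conn.along_apply, hc c m, map_add, map_add, map_smul, map_smul,
      TensorProduct.map_tmul, TensorProduct.rid_tmul, Derivation.liftKaehlerDifferential_comp_D, LinearMap.id_apply]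
  set g := Groth.Agent.Hochschild.coef (⇑θ₀) f p 1 with hg
  have hθp : ∀ b, θp b = f ^ p * (⇑θ₀)^[p] b + g * θ₀ b := fun b => by
    rw [hp b, show (⇑θ) = (fun x => f • (θ₀ : B →ₗ[A] B).toAddMonoidHom x) from funext hθ]
    exact Groth.Agent.Hochschild.pow_smul_apply p θ₀ f (θ₀ : B →ₗ[A] B).toAddMonoidHom
      (fun c m => (Derivation.leibniz θ₀ c m).trans (by simp only [smul_eq_mul]; ring_nf; rfl)) b
  have hθpl : θp.liftKaehlerDifferential = f ^ p • θ₀p.liftKaehlerDifferential + g • θ₀.liftKaehlerDifferential := by
    refine Derivation.liftKaehlerDifferential_unique _ _ ?_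
    ext b
    show θp.liftKaehlerDifferential (KaehlerDifferential.D A B b) =
      f ^ p * θ₀p.liftKaehlerDifferential (KaehlerDifferential.D A B b) + g * θ₀.liftKaehlerDifferential (KaehlerDifferential.D A B b)
    rw [Derivation.liftKaehlerDifferential_comp_D, Derivation.liftKaehlerDifferential_comp_D,
      Derivation.liftKaehlerDifferential_comp_D, hθp, Groth.Agent.Hochschild.iterPow_apply]
  refine LinearMap.ext fun m => ?_
  have h1 : ((Conn.alongDer nabla θ) ^ p) m = f ^ p • (⇑e)^[p] m + g • e m := by
    rw [Module.End.pow_apply, show ⇑(Conn.alongDer nabla θ) = (fun x => f • e x) from funext fun x => halong θ f rfl x]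
    exact Groth.Agent.Hochschild.pow_smul_apply p θ₀ f e he m
  have h2 : Conn.alongDer nabla θp m = f ^ p • Conn.alongDer nabla θ₀p m + g • e m := by
    show Conn.along nabla θp.liftKaehlerDifferential m = f ^ p • Conn.along nabla θ₀p.liftKaehlerDifferential m +
      g • Conn.along nabla θ₀.liftKaehlerDifferential m
    rw [hθpl, Conn.along_apply, Conn.along_apply, Conn.along_apply, TensorProduct.map_add_right,
      TensorProduct.map_smul_right, TensorProduct.map_smul_right, LinearMap.add_apply, LinearMap.smul_apply,
      LinearMap.smul_apply, map_add, map_smul, map_smul]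
  have h3 : (⇑e)^[p] m = Conn.alongDer nabla θ₀p m := by
    have := LinearMap.congr_fun h0 m
    rw [Conn.pCurv, LinearMap.sub_apply, Module.End.pow_apply, LinearMap.zero_apply, sub_eq_zero] at this
    exact this
  rw [Conn.pCurv, LinearMap.sub_apply, h1, h2, h3, sub_self, LinearMap.zero_apply]

end Groth.Agent.S16794
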