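import Groth.Statements.S16796
import Groth.Agent.LogPiece.Layer
import Mathlib

set_option autoImplicit false
universe v u
open LogConn

namespace Groth.Agent.S16796

open TensorProduct in
/-- Let B be a commutative algebra over a commutative ring A, λ ∈ B, and t₁, …, tₙ ∈ B elements whose
differentials dt₁, …, dtₙ form a basis of the Kähler differentials Ω of B over A; let L be a
B-module free on ω₁, …, ωₙ with a B-linear ι : Ω → L sending dtᵢ to tᵢ ωᵢ (ωᵢ playing the role of
dlog tᵢ), and E a B-module with an A-linear ∇ : E → E ⊗ L obeying the λ-twisted Leibniz rule ∇(b e)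
= b ∇e + λ e ⊗ ι(db); write ∇ᵢ for the components of ∇ in the basis ω, ∇_J for their composite over
a finite index set J in increasing order, and E_I = Σ_{J ⊆ I} (∏_{i ∈ I∖J} tᵢ) · ∇_J(E) (an
A-submodule of E) for a finite index set I. For each degree p let R^p ⊆ E ⊗ Λ^p L be the B-span of
the elements ∇_I(e) ⊗ (ω_{i₁} ∧ ⋯ ∧ ω_{i_l} ∧ ι(η₁) ∧ ⋯ ∧ ι(η_{p−l})) with I = {i₁ < ⋯ < i_l}, l ≤
p, e ∈ E, ηⱼ ∈ Ω (the degree-p part of the graded submodule generated by the ∇_I(e) ⊗ ω_I under
multiplication by forms from Ω). Then R^p is the set of elements of E ⊗ Λ^p L whose coordinate along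
ω_K = ω_{k₁} ∧ ⋯ ∧ ω_{k_p} lies in E_K for every set K of p indices; in other words R^p = ⊕_{|K| =
p} E_K ⊗ ω_K. (Flatness of ∇ is not used.) -/
theorem result {A : Type v} {B L E : Type u} [CommRing A] [CommRing B]
    [Algebra A B] [AddCommGroup L] [Module B L] [Module A L] [IsScalarTower A B L]
    [AddCommGroup E] [Module B E] [Module A E] [IsScalarTower A B E]
    (lam : B) {n : ℕ} (t : Fin n → B) (bΩ : Module.Basis (Fin n) B (KaehlerDifferential A B))
    (hbΩ : ∀ i, bΩ i = KaehlerDifferential.D A B (t i))
    (ω : Module.Basis (Fin n) B L) (ι : KaehlerDifferential A B →ₗ[B] L)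
    (hι : ∀ i, ι (KaehlerDifferential.D A B (t i)) = t i • ω i)
    (nabla : E →ₗ[A] E ⊗[B] L)
    (hc : Conn.IsLamConn (ι.compDer (KaehlerDifferential.D A B)) lam nabla)
    (p : ℕ) :
    (Submodule.span B (LogConn.gens nabla ω ι p)).restrictScalars A = LogConn.layer nabla ω t p := by
  classical
  apply le_antisymm
  · intro x hx
    rw [Submodule.restrictScalars_mem] at hx
    induction hx using Submodule.span_induction with
    | zero => exact zero_mem _
    | add a b _ _ ha hb => exact add_mem ha hb
    | smul c a _ ha =>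
      simp only [LogConn.layer, Submodule.mem_iInf, Submodule.mem_comap, LinearMap.coe_restrictScalars] at ha ⊢
      intro K
      rw [map_smul]
      exact LogPiece.smul_mem_piece lam t bΩ hbΩ ω ι hι nabla hc _ c _ (ha K)
    | mem x hx =>
      obtain ⟨I, hI, e, v, hv, hv', rfl⟩ := hx
      simp only [LogConn.layer, Submodule.mem_iInf, Submodule.mem_comap, LinearMap.coe_restrictScalars]
      intro K
      rw [LogPiece.coordE_tmul]
      rcases LogPiece.coord_gen t bΩ hbΩ ω ι hι I hI v hv hv' K with h | ⟨hIK, c, h⟩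
      · rw [h, zero_smul]; exact zero_mem _
      · rw [h, ← smul_smul]
        refine LogPiece.smul_mem_piece lam t bΩ hbΩ ω ι hι nabla hc _ c _ ?_
        exact Submodule.mem_iSup_of_mem I
          (Submodule.mem_iSup_of_mem (Finset.mem_powerset.mpr hIK) ⟨e, rfl⟩)
  · intro x hx
    simp only [LogConn.layer, Submodule.mem_iInf, Submodule.mem_comap, LinearMap.coe_restrictScalars] at hx
    rw [Submodule.restrictScalars_mem, ← LogPiece.sum_coordE ω p x]
    refine Submodule.sum_mem _ fun K _ => ?_
    let S : Submodule A E :=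
      ((Submodule.span B (LogConn.gens nabla ω ι p)).restrictScalars A).comap
        (((TensorProduct.mk B E ↥(⋀[B]^p L)).flip (ω.exteriorPower p K)).restrictScalars A)
    suffices hS : LogConn.piece nabla ω t (K : Finset (Fin n)) ≤ S from hS (hx K)
    refine iSup₂_le fun J hJ => ?_
    rintro _ ⟨e, rfl⟩
    have hJK := Finset.mem_powerset.mp hJ
    show ((∏ i ∈ (K : Finset (Fin n)) \ J, t i) • LogConn.compProd nabla ω J e) ⊗ₜ[B] ω.exteriorPower p K ∈
      Submodule.span B (LogConn.gens nabla ω ι p)
    have hcard : J.card + ((K : Finset (Fin n)) \ J).card = p := by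
      rw [Finset.card_sdiff_of_subset hJK, Nat.add_sub_cancel' (Finset.card_le_card hJK)]
      exact K.prop
    let f : Fin p → Fin n :=
      Fin.append (J.orderEmbOfFin rfl) (((K : Finset (Fin n)) \ J).orderEmbOfFin rfl) ∘ Fin.cast hcard.symm
    let a : Fin (J.card + ((K : Finset (Fin n)) \ J).card) → B := Fin.append (fun _ => 1)
      (fun j => t (((K : Finset (Fin n)) \ J).orderEmbOfFin rfl j))
    have hfJ : ∀ j, (J.orderEmbOfFin rfl) j ∈ J := Finset.orderEmbOfFin_mem J rfl
    have hfS : ∀ j, ((((K : Finset (Fin n)) \ J).orderEmbOfFin rfl) j) ∈ (K : Finset (Fin n)) \ J :=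
      Finset.orderEmbOfFin_mem _ rfl
    have hinj : Function.Injective f := by
      refine Function.Injective.comp ?_ (Fin.cast_injective _)
      rw [Fin.append_injective_iff]
      refine ⟨(J.orderEmbOfFin rfl).injective,
        (((K : Finset (Fin n)) \ J).orderEmbOfFin rfl).injective, fun i j h => ?_⟩
      exact (Finset.mem_sdiff.mp (hfS j)).2 (h ▸ hfJ i)
    have hmem : ∀ j, f j ∈ (K : Finset (Fin n)) := fun j => by
      show Fin.append _ _ (Fin.cast hcard.symm j) ∈ _
      refine Fin.addCases (fun i => ?_) (fun i => ?_) (Fin.cast hcard.symm j)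
      · rw [Fin.append_left]; exact hJK (hfJ i)
      · rw [Fin.append_right]; exact (Finset.mem_sdiff.mp (hfS i)).1
    obtain ⟨s, hs⟩ := LogPiece.basis_eq_sign ω p K f hinj hmem
    let v : Fin p → L := fun j => a (Fin.cast hcard.symm j) • ω (f j)
    have hprod : ∏ j, a (Fin.cast hcard.symm j) = ∏ i ∈ (K : Finset (Fin n)) \ J, t i := by
      rw [show ∏ j, a (Fin.cast hcard.symm j) = ∏ j, a j from Equiv.prod_comp (finCongr hcard.symm) a,
        Fin.prod_univ_add]
      simp only [a, Fin.append_left, Fin.append_right, Finset.prod_const_one, one_mul]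
      conv_rhs => rw [← Finset.map_orderEmbOfFin_univ ((K : Finset (Fin n)) \ J) rfl, Finset.prod_map]
      rfl
    have hv : exteriorPower.ιMulti B p v =
        (∏ i ∈ (K : Finset (Fin n)) \ J, t i) • exteriorPower.ιMulti B p (fun j => ω (f j)) := by
      rw [← hprod]
      exact (exteriorPower.ιMulti B p).toMultilinearMap.map_smul_univ _ _
    rw [hs, TensorProduct.tmul_smul, TensorProduct.smul_tmul, ← hv]
    refine Submodule.smul_mem _ _ (Submodule.subset_span
      ⟨J, by omega, e, v, fun k hk => ?_, fun k hk => ?_, rfl⟩)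
    · have : Fin.cast hcard.symm k = Fin.castAdd _ ⟨k.val, hk⟩ := rfl
      simp only [v, f, a, Function.comp_apply, this, Fin.append_left, one_smul]
    · have : Fin.cast hcard.symm k = Fin.natAdd J.card ⟨k.val - J.card, by omega⟩ := by
        apply Fin.ext; simp; omega
      simp only [v, f, a, Function.comp_apply, this, Fin.append_right, ← hι]
      exact LinearMap.mem_range_self _ _
end Groth.Agent.S16796
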