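import Groth.Statements.S16798
import Groth.Agent.LogPiece.Change
import Mathlib

set_option autoImplicit false
universe v u
open LogConn

namespace Groth.Agent.S16798

open TensorProduct in
/-- Let B be a commutative algebra over a commutative ring A, λ ∈ B, and t₁, …, tₙ ∈ B elements whose
differentials dt₁, …, dtₙ form a basis of the Kähler differentials Ω of B over A; let L be a
B-module free on ω₁, …, ωₙ with a B-linear ι : Ω → L sending dtᵢ to tᵢ ωᵢ (ωᵢ playing the role of
dlog tᵢ), and E a B-module with an A-linear ∇ : E → E ⊗ L obeying the λ-twisted Leibniz rule ∇(b e)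
= b ∇e + λ e ⊗ ι(db); write ∇ᵢ for the components of ∇ in the basis ω, ∇_J for their composite over
a finite index set J in increasing order, and E_I = Σ_{J ⊆ I} (∏_{i ∈ I∖J} tᵢ) · ∇_J(E) (an
A-submodule of E) for a finite index set I. Assume ∇ flat: for the logarithmic de Rham differential
d on the exterior powers of L (pinned on generators by d(b₀ · e₁ ∧ ⋯ ∧ e_p) = ι(db₀) ∧ e₁ ∧ ⋯ ∧ e_p,
factors eⱼ of the form ι(db) or ωᵢ) and the λ-twisted extension ∇^• of ∇ (∇^p(e ⊗ η) = ∇(e) ∧ η + e
⊗ λ dη) one has ∇¹ ∘ ∇ = 0. Let u₁, …, uₙ be units of B such that the elements t'ᵢ = uᵢ tᵢ again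
have differentials forming a basis of Ω, and such that the elements ω'ᵢ = ωᵢ + uᵢ⁻¹ ι(duᵢ) again
form a basis of L (a second admissible coordinate system with the same branches, ω'ᵢ playing the
role of dlog t'ᵢ). Then for every p the layer ⊕_{|K| = p} E_K ⊗ ω_K formed with the coordinates t,
the basis ω and the components of ∇ in ω coincides with the layer formed with t', ω' and the
components of ∇ in ω'. (The published statement also allows a permutation of the indices.) -/
theorem result {A : Type v} {B L E : Type u} [CommRing A] [CommRing B]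
    [Algebra A B] [AddCommGroup L] [Module B L] [Module A L] [IsScalarTower A B L]
    [AddCommGroup E] [Module B E] [Module A E] [IsScalarTower A B E]
    (lam : B) {n : ℕ} (t : Fin n → B) (bΩ : Module.Basis (Fin n) B (KaehlerDifferential A B))
    (hbΩ : ∀ i, bΩ i = KaehlerDifferential.D A B (t i))
    (ω : Module.Basis (Fin n) B L) (ι : KaehlerDifferential A B →ₗ[B] L)
    (hι : ∀ i, ι (KaehlerDifferential.D A B (t i)) = t i • ω i)
    (nabla : E →ₗ[A] E ⊗[B] L)
    (hc : Conn.IsLamConn (ι.compDer (KaehlerDifferential.D A B)) lam nabla)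
    (d : ∀ p : ℕ, ↥(⋀[B]^p L) →ₗ[A] ↥(⋀[B]^(p + 1) L))
    (hd : LogDiff.IsLogRule (KaehlerDifferential.D A B) ι (⇑ω) d)
    (nablas : ∀ p : ℕ, E ⊗[B] ↥(⋀[B]^p L) →ₗ[A] E ⊗[B] ↥(⋀[B]^(p + 1) L))
    (hint : Conn.IsIntegrable nabla (fun p => lam • d p) nablas)
    (u : Fin n → Bˣ) (bΩ' : Module.Basis (Fin n) B (KaehlerDifferential A B))
    (hbΩ' : ∀ i, bΩ' i = KaehlerDifferential.D A B ((u i : B) * t i))
    (ω' : Module.Basis (Fin n) B L)
    (hω' : ∀ i, ω' i = ω i + ((u i)⁻¹ : Bˣ).val • ι (KaehlerDifferential.D A B (u i : B)))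
    (p : ℕ) :
    LogConn.layer nabla ω t p = LogConn.layer nabla ω' (fun i => (u i : B) * t i) p := by
  classical
  have hd1 : ∀ a, d 1 (exteriorPower.ιMulti B 1 (fun _ => ω a)) = 0 := fun a => by
    have h := hd 1 1 (fun _ => ω a) fun k => Or.inr ⟨a, rfl⟩
    rw [one_smul] at h
    rw [h]
    exact (exteriorPower.ιMulti B 2).map_coord_zero 0 (by simp)
  have hcomm := LogPiece.comp_comm_of_d_one lam ω nabla d nablas hint hd1
  have hι' : ∀ i, ι (KaehlerDifferential.D A B ((u i : B) * t i)) = ((u i : B) * t i) • ω' i := fun i => by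
    rw [Derivation.leibniz, map_add, map_smul, map_smul, hι, hω', smul_add, smul_smul, smul_smul]
    congr 2
    rw [mul_comm (u i : B) (t i), mul_assoc, Units.mul_inv, mul_one]
  have hinv : ∀ i, KaehlerDifferential.D A B (((u i)⁻¹ : Bˣ) : B) =
      -((((u i)⁻¹ : Bˣ) : B) * (((u i)⁻¹ : Bˣ) : B)) • KaehlerDifferential.D A B (u i : B) := fun i => by
    rw [Derivation.leibniz_of_mul_eq_one _ (show (((u i)⁻¹ : Bˣ) : B) * (u i : B) = 1 from Units.inv_mul _),
      pow_two]
  have hω : ∀ i, ω i = ω' i + (((u i)⁻¹)⁻¹ : Bˣ).val •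
      ι (KaehlerDifferential.D A B (((u i)⁻¹ : Bˣ) : B)) := fun i => by
    rw [hω', hinv, map_smul, inv_inv, smul_smul, add_assoc, ← add_smul,
      show (((u i)⁻¹ : Bˣ) : B) + (u i : B) * -((((u i)⁻¹ : Bˣ) : B) * (((u i)⁻¹ : Bˣ) : B)) = 0 by
        rw [mul_neg, ← mul_assoc, Units.mul_inv, one_mul, add_neg_cancel], zero_smul, add_zero]
  have hd1' : ∀ a, d 1 (exteriorPower.ιMulti B 1 (fun _ => ω' a)) = 0 := fun a => by
    have h1 : exteriorPower.ιMulti B 1 (fun _ => ω' a) = exteriorPower.ιMulti B 1 (fun _ => ω a) +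
        ((u a)⁻¹ : Bˣ).val • exteriorPower.ιMulti B 1
          (fun _ => ι (KaehlerDifferential.D A B (u a : B))) := by
      apply (exteriorPower.oneEquiv B L).injective
      simp [exteriorPower.oneEquiv_ιMulti, hω']
    have h2 := hd 1 ((u a)⁻¹ : Bˣ).val (fun _ => ι (KaehlerDifferential.D A B (u a : B)))
      fun k => Or.inl ⟨_, rfl⟩
    rw [h1, map_add, hd1, zero_add, h2, hinv, map_smul]
    generalize ι (KaehlerDifferential.D A B (u a : B)) = w
    generalize -((((u a)⁻¹ : Bˣ) : B) * (((u a)⁻¹ : Bˣ) : B)) = c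
    have h3 : (Fin.cons (c • w) (fun _ => w) : Fin 2 → L) =
        Function.update (Fin.cons w (fun _ => w) : Fin 2 → L) 0 (c • w) := by
      rw [Fin.update_cons_zero]
    rw [h3, AlternatingMap.map_update_smul, Fin.update_cons_zero,
      (exteriorPower.ιMulti B 2).map_eq_zero_of_eq _ (i := 0) (j := 1) rfl (by decide), smul_zero]
  have hcomm' := LogPiece.comp_comm_of_d_one lam ω' nabla d nablas hint hd1'
  refine le_antisymm ?_ (LogPiece.layer_le lam t bΩ hbΩ ω ι hι nabla hc hcomm u ω' hω' p)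
  have h := LogPiece.layer_le lam (fun i => (u i : B) * t i) bΩ' hbΩ' ω' ι hι' nabla hc hcomm'
    (fun i => (u i)⁻¹) ω hω p
  simpa using h
end Groth.Agent.S16798
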