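import Groth.Statements.S16805
import Groth.Agent.AlgStB.FieldCover

set_option autoImplicit false
universe u
open CategoryTheory AlgebraicGeometry
open Gerb

namespace Groth.Agent.S16805

/-- For an algebraic stack 𝒵 the following are equivalent: 𝒵 is reduced with exactly one point; 𝒵
receives a surjective flat morphism from the spectrum of a field; 𝒵 receives a locally of finite
type, surjective, flat morphism from the spectrum of a field. -/
theorem result
    (S : Scheme.{u}) (𝒵 : AlgSt.Cat S) (h𝒵 : AlgSt.IsAlgStack Scheme.fppfPrecoverage 𝒵) :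
    [AlgSt.SmoothLocally (fun T => IsReduced T) 𝒵 ∧ Nonempty (AlgSt.Points 𝒵) ∧ Subsingleton (AlgSt.Points 𝒵),
      ∃ (k : Type u) (_ : Field k) (a : Spec (CommRingCat.of k) ⟶ S)
        (z : FibCat.overCat (Over.mk a) ⥤ᵇ 𝒵), AlgSt.RepByAlgSpWith AlgSp.IsSurjectiveMor z ∧ AlgSt.RepByAlgSpWith (AlgSp.LocP @Flat) z,
      ∃ (k : Type u) (_ : Field k) (a : Spec (CommRingCat.of k) ⟶ S)
        (z : FibCat.overCat (Over.mk a) ⥤ᵇ 𝒵), AlgSt.RepByAlgSpWith (AlgSp.LocP @LocallyOfFiniteType) z ∧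
          AlgSt.RepByAlgSpWith AlgSp.IsSurjectiveMor z ∧ AlgSt.RepByAlgSpWith (AlgSp.LocP @Flat) z].TFAE := by
  have hX := h𝒵.isStack.1
  tfae_have 1 → 2 := fun ⟨hr, hne, hsub⟩ => AlgStB.exists_fieldCover h𝒵 hr
  tfae_have 2 → 3 := by
    rintro ⟨k, _, a, z, hs, hf⟩
    obtain ⟨k', hk', a', z', hl, -, hs', hf'⟩ := AlgStB.exists_lft_fieldCover h𝒵 a z hs hf
    exact ⟨k', hk', a', z', hl, hs', hf'⟩
  tfae_have 3 → 1 := by
    rintro ⟨k, _, a, z, -, hs, hf⟩
    exact ⟨AlgStB.smoothLocally_reduced_of_fieldCover hX a z hs hf, AlgStB.points_of_fieldCover hX a z hs⟩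
  tfae_finish

end Groth.Agent.S16805
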