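import Groth.Statements.S16806
import Groth.Agent.AlgStB.FieldCover

set_option autoImplicit false
universe u
open CategoryTheory AlgebraicGeometry
open Gerb

namespace Groth.Agent.S16806

/-- An algebraic stack 𝒵 is reduced, locally Noetherian and has exactly one point if and only if it
receives a locally finitely presented, surjective, flat morphism from the spectrum of a field. -/
theorem result
    (S : Scheme.{u}) (𝒵 : AlgSt.Cat S) (h𝒵 : AlgSt.IsAlgStack Scheme.fppfPrecoverage 𝒵) :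
    (AlgSt.SmoothLocally (fun T => IsReduced T) 𝒵 ∧ AlgSt.SmoothLocally (fun T => IsLocallyNoetherian T) 𝒵 ∧
        Nonempty (AlgSt.Points 𝒵) ∧ Subsingleton (AlgSt.Points 𝒵)) ↔
      ∃ (k : Type u) (_ : Field k) (a : Spec (CommRingCat.of k) ⟶ S)
        (z : FibCat.overCat (Over.mk a) ⥤ᵇ 𝒵), AlgSt.RepByAlgSpWith (AlgSp.LocP @LocallyOfFinitePresentation) z ∧
          AlgSt.RepByAlgSpWith AlgSp.IsSurjectiveMor z ∧ AlgSt.RepByAlgSpWith (AlgSp.LocP @Flat) z := by
  have hX := h𝒵.isStack.1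
  constructor
  · rintro ⟨hr, hn, hne, hsub⟩
    obtain ⟨k, _, a, z, hs, hf⟩ := AlgStB.exists_fieldCover h𝒵 hr
    obtain ⟨k', hk', a', z', -, hp, hs', hf'⟩ := AlgStB.exists_lft_fieldCover h𝒵 a z hs hf
    exact ⟨k', hk', a', z', hp hn, hs', hf'⟩
  · rintro ⟨k, _, a, z, hp, hs, hf⟩
    exact ⟨AlgStB.smoothLocally_reduced_of_fieldCover hX a z hs hf,
      AlgStB.smoothLocally_noetherian_of_fieldCover hX a z hp hs hf,
      AlgStB.points_of_fieldCover hX a z hs⟩

end Groth.Agent.S16806
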