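import Groth.Statements.S1681
import Groth.Agent.BlowExist.Mul

set_option autoImplicit false
universe u
open CategoryTheory CategoryTheory.Limits AlgebraicGeometry TopologicalSpace
open SDiv

namespace Groth.Agent.S1681

/-- Let b : X' ⟶ X be a blowing-up of X along the quasi-coherent ideal sheaf 𝓘. Then b restricts to a
bijection from the maximal points of X' (points with no proper generization) onto the maximal points
of X not lying in the support of 𝓘. -/
theorem result {X X' : Scheme.{u}} (𝓘 : X.IdealSheafData) (b : X' ⟶ X) (hb : BlowUp.IsBlowUp b 𝓘) :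
    Set.BijOn (fun x' => b x') {x' : ↥X' | ∀ y : ↥X', y ⤳ x' → y = x'}
      {x : ↥X | (∀ y : ↥X, y ⤳ x → y = x) ∧ x ∉ 𝓘.support} := by
  haveI : IsIso (b ∣_ ModPair.interior 𝓘) := S1682.result 𝓘 b hb
  let W := b ⁻¹ᵁ ModPair.interior 𝓘
  let k := (b ∣_ ModPair.interior 𝓘) ≫ (ModPair.interior 𝓘).ι
  have hk : ∀ w : (W : Scheme.{u}), k.base w = b.base w.1 := fun w => by
    rw [show k = W.ι ≫ b from morphismRestrict_ι _ _]
    rfl
  have hmem : ∀ {x' : X'}, (∀ y, y ⤳ x' → y = x') → x' ∈ W := fun {x'} hx => by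
    obtain ⟨v, hv, hvx⟩ := ModPairLib.exists_mem_interior_specializes hb.1 x'
    rw [hx v hvx, ModPairLib.interior_comap] at hv
    exact hv
  refine ⟨fun x' hx => ⟨fun y hy => ?_, hmem hx⟩, fun x hx y hy e => ?_, fun x hx => ?_⟩
  · have hyU : y ∈ ModPair.interior 𝓘 := hy.mem_open (ModPair.interior 𝓘).isOpen (hmem hx)
    obtain ⟨w, hw⟩ := (b ∣_ ModPair.interior 𝓘).surjective ⟨y, hyU⟩
    have hwy : k.base w = y := congrArg Subtype.val hw
    have hs : w ⤳ ⟨x', hmem hx⟩ := k.isOpenEmbedding.isInducing.specializes_iff.1 (by rw [hwy]; exact (hk ⟨x', hmem hx⟩).symm ▸ hy)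
    have := hx w.1 (hs.map continuous_subtype_val)
    rw [← hwy, hk, this]
  · have h := k.isOpenEmbedding.injective
      (show k.base ⟨x, hmem hx⟩ = k.base ⟨y, hmem hy⟩ from (hk ⟨x, hmem hx⟩).trans (e.trans (hk ⟨y, hmem hy⟩).symm))
    exact congrArg Subtype.val h
  · obtain ⟨w, hw⟩ := (b ∣_ ModPair.interior 𝓘).surjective ⟨x, hx.2⟩
    have hwx : k.base w = x := congrArg Subtype.val hw
    refine ⟨w.1, fun y hy => ?_, (hk w).symm.trans hwx⟩
    have hyW : y ∈ W := hy.mem_open W.isOpen w.2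
    have hs : k.base ⟨y, hyW⟩ = k.base w := by
      rw [hwx]
      refine hx.1 _ ?_
      exact hwx ▸ (hk ⟨y, hyW⟩).symm ▸ (hk w).symm ▸ hy.map b.continuous
    exact congrArg Subtype.val (k.isOpenEmbedding.injective hs)

end Groth.Agent.S1681
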