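import Groth.Statements.S16836
import Mathlib

set_option autoImplicit false
universe u v
open scoped Classical
open AbVar

namespace Groth.Agent.S16836

open UniqueFactorizationMonoid

open Polynomial UniqueFactorizationMonoid in
/-- Let K ⊆ L be a field extension and f₁, f₂ non-zero polynomials in K[t]. For a field F and
polynomials g₁, g₂ over F put r_F(g₁, g₂) = Σ_P mult_P(g₁) · mult_P(g₂) · deg P, the sum running
over the monic irreducible polynomials P in F[t] (mult_P the multiplicity of P as an irreducible
factor). Assume K is perfect. Then r_K(f₁, f₂) = r_L(f₁, f₂): the number does not depend on the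
field over which the factorisations are taken. (Perfectness of K cannot be dropped: for K = F_p(s),
L = K(s^{1/p}) and f₁ = f₂ = t^p − s the number is p over K and p² over L, since the irreducible t^p
− s becomes a p-th power over L; the published statement has no restriction on K, and its proof
requires the relevant K[t]-modules to remain semisimple after base change, which holds when every
irreducible factor stays squarefree over L, in particular for K perfect.) -/
theorem result (K : Type u) (L : Type v) [Field K] [PerfectField K] [Field L] [Algebra K L]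
    (f₁ f₂ : K[X]) (h₁ : f₁ ≠ 0) (h₂ : f₂ ≠ 0) :
    ∑ P ∈ (normalizedFactors (f₁.map (algebraMap K L))).toFinset,
        (normalizedFactors (f₁.map (algebraMap K L))).count P *
          (normalizedFactors (f₂.map (algebraMap K L))).count P * P.natDegree =
      ∑ P ∈ (normalizedFactors f₁).toFinset,
        (normalizedFactors f₁).count P * (normalizedFactors f₂).count P * P.natDegree := by
  classical
  set φ := algebraMap K L
  let Φ : K[X] → Multiset L[X] := fun P => normalizedFactors (P.map φ)
  have hexp : ∀ f : K[X], f ≠ 0 → normalizedFactors (f.map φ) = (normalizedFactors f).bind Φ := by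
    intro f hf
    have hlc : IsUnit (C (φ f.leadingCoeff)) := Polynomial.isUnit_C.2 (isUnit_iff_ne_zero.2 (by simpa using (map_ne_zero φ).2 (Polynomial.leadingCoeff_ne_zero.2 hf)))
    have e : f.map φ = C (φ f.leadingCoeff) * ((normalizedFactors f).map fun P => P.map φ).prod := by
      conv_lhs => rw [← Polynomial.leadingCoeff_mul_prod_normalizedFactors f]
      rw [Polynomial.map_mul, Polynomial.map_C, Polynomial.map_multiset_prod]
    have h0 : (0 : L[X]) ∉ (normalizedFactors f).map fun P => P.map φ := by
      intro h
      obtain ⟨P, hP, hP0⟩ := Multiset.mem_map.1 h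
      exact (irreducible_of_normalized_factor P hP).ne_zero ((Polynomial.map_eq_zero φ).1 hP0)
    rw [e, normalizedFactors_mul hlc.ne_zero (Multiset.prod_ne_zero h0), normalizedFactors_of_isUnit hlc, zero_add, normalizedFactors_multiset_prod _ h0, Multiset.map_map]
    rfl
  have hdisj : ∀ P P' : K[X], Irreducible P → Irreducible P' → normalize P = P → normalize P' = P' → ∀ Q, Q ∈ Φ P → Q ∈ Φ P' → P = P' := by
    intro P P' hP hP' hn hn' Q hQ hQ'
    by_contra hne
    have hcop : IsCoprime P P' := (hP.coprime_iff_not_dvd).2 fun hd => hne (by
      rw [← hn, ← hn']; exact normalize_eq_normalize_iff.2 ⟨hd, (hP.associated_of_dvd hP' hd).symm.dvd⟩)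
    have hcop' : IsCoprime (P.map φ) (P'.map φ) := hcop.map (Polynomial.mapRingHom φ)
    exact (irreducible_of_normalized_factor Q hQ).not_isUnit (hcop'.isUnit_of_dvd' (dvd_of_mem_normalizedFactors hQ) (dvd_of_mem_normalizedFactors hQ'))
  have hnodup : ∀ P : K[X], Irreducible P → (Φ P).Nodup := by
    intro P hP
    have hsep : (P.map φ).Separable := (PerfectField.separable_of_irreducible hP).map
    exact (UniqueFactorizationMonoid.squarefree_iff_nodup_normalizedFactors ((Polynomial.map_ne_zero_iff φ.injective).2 hP.ne_zero)).1 hsep.squarefree
  have hdeg : ∀ P : K[X], Irreducible P → ∑ Q ∈ (Φ P).toFinset, Q.natDegree = P.natDegree := by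
    intro P hP
    have h0 : P.map φ ≠ 0 := (Polynomial.map_ne_zero_iff φ.injective).2 hP.ne_zero
    have h := Polynomial.natDegree_multiset_prod (Φ P) (zero_notMem_normalizedFactors _)
    rw [UniqueFactorizationMonoid.prod_normalizedFactors_eq h0, Polynomial.natDegree_eq_of_degree_eq (Polynomial.degree_normalize), Polynomial.natDegree_map] at h
    rw [h, Finset.sum, Multiset.toFinset_val, (hnodup P hP).dedup]
  have hcount : ∀ f : K[X], f ≠ 0 → ∀ P, Irreducible P → normalize P = P → ∀ Q ∈ Φ P, ((normalizedFactors f).bind Φ).count Q = (normalizedFactors f).count P := by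
    intro f hf P hP hn Q hQ
    rw [Multiset.count_bind]
    have hstep : ∀ P' ∈ normalizedFactors f, (Φ P').count Q = if P = P' then 1 else 0 := by
      intro P' hP'
      split_ifs with h
      · subst h; exact Multiset.count_eq_one_of_mem (hnodup P hP) hQ
      · exact Multiset.count_eq_zero.2 fun h' => h (hdisj P P' hP (irreducible_of_normalized_factor P' hP') hn (normalize_normalized_factor P' hP') Q hQ h')
    rw [Multiset.map_congr rfl hstep]
    have hh : ∀ s : Multiset K[X], (s.map fun P' => if P = P' then 1 else 0).sum = s.count P := fun s => by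
      induction s using Multiset.induction with
      | empty => simp
      | cons a s ih => simp [Multiset.count_cons, ih, add_comm]
    exact hh _
  rw [hexp f₁ h₁, hexp f₂ h₂]
  have hset : ((normalizedFactors f₁).bind Φ).toFinset = (normalizedFactors f₁).toFinset.biUnion fun P => (Φ P).toFinset := by
    ext Q; simp only [Multiset.mem_toFinset, Multiset.mem_bind, Finset.mem_biUnion]
  rw [hset, Finset.sum_biUnion]
  · refine Finset.sum_congr rfl fun P hP => ?_
    rw [Multiset.mem_toFinset] at hP
    have hPi := irreducible_of_normalized_factor P hP
    have hPn := normalize_normalized_factor P hP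
    rw [← hdeg P hPi, Finset.mul_sum]
    refine Finset.sum_congr rfl fun Q hQ => ?_
    rw [Multiset.mem_toFinset] at hQ
    rw [hcount f₁ h₁ P hPi hPn Q hQ, hcount f₂ h₂ P hPi hPn Q hQ]
  · intro P hP P' hP' hne
    simp only [Finset.mem_coe, Multiset.mem_toFinset] at hP hP'
    rw [Function.onFun, Finset.disjoint_left]
    intro Q hQ hQ'
    rw [Multiset.mem_toFinset] at hQ hQ'
    exact hne (hdisj P P' (irreducible_of_normalized_factor P hP) (irreducible_of_normalized_factor P' hP') (normalize_normalized_factor P hP) (normalize_normalized_factor P' hP') Q hQ hQ')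

end Groth.Agent.S16836
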