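import Groth.Statements.S1684
import Groth.Agent.DivPts.Cartier

set_option autoImplicit false
universe u
open CategoryTheory CategoryTheory.Limits AlgebraicGeometry TopologicalSpace
open SDiv

namespace Groth.Agent.S1684

/-- Let X be a locally Noetherian scheme and 𝓘 a quasi-coherent ideal sheaf whose closed subscheme D is
integral, of codimension 1 in X (the local ring of X at the generic point of D has dimension 1), and
such that the local ring of X at every point of D is a unique factorisation domain. Then 𝓘 is the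
ideal sheaf of an effective Cartier divisor. -/
theorem result (X : Scheme.{u}) [IsLocallyNoetherian X] (𝓘 : X.IdealSheafData)
    [IsIntegral 𝓘.subscheme]
    (hcodim : ringKrullDim (X.presheaf.stalk (𝓘.subschemeι (genericPoint ↥𝓘.subscheme))) = 1)
    (hufd : ∀ x : ↥X, x ∈ 𝓘.support → IsDomain (X.presheaf.stalk x) ∧ UniqueFactorizationMonoid (X.presheaf.stalk x)) :
    BlowUp.IsEffCartierIdeal 𝓘 := by
  refine Groth.Agent.DivPts.isEffCartierIdeal_of_stalk 𝓘 fun x hx U hxU => ?_
  obtain ⟨hdom, hufd'⟩ := hufd x hx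
  letI := (X.presheaf.germ U.1 x hxU).hom.toAlgebra
  haveI : IsLocalization.AtPrime (X.presheaf.stalk x) (U.2.primeIdealOf ⟨x, hxU⟩).asIdeal :=
    U.2.isLocalization_stalk ⟨x, hxU⟩
  haveI : IsNoetherianRing Γ(X, U.1) := IsLocallyNoetherian.component_noetherian U
  have hgp : IsGenericPoint (𝓘.subschemeι (genericPoint ↥𝓘.subscheme)) (𝓘.support : Set ↥X) := by
    have h := (genericPoint_spec ↥𝓘.subscheme).image 𝓘.subschemeι.continuous
    rwa [Set.image_univ, 𝓘.range_subschemeι, 𝓘.support.isClosed.closure_eq] at h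
  set ξ := 𝓘.subschemeι (genericPoint ↥𝓘.subscheme) with hξdef
  have hξU : ξ ∈ (U : X.Opens) := (hgp.specializes hx).mem_open U.1.isOpen hxU
  haveI hprime := Groth.Agent.DivPts.isPrime_ideal 𝓘 U hxU hx
  have hmin := Groth.Agent.DivPts.mem_minimalPrimes_of_maximal 𝓘 U hξU hgp.mem
    fun y hy h => ((hgp.specializes hy).antisymm h).eq.symm
  rw [Ideal.minimalPrimes_eq_subsingleton_self, Set.mem_singleton_iff] at hmin
  have hh : (𝓘.ideal U).height = 1 := by
    rw [Groth.Agent.DivPts.ringKrullDim_stalk_eq_height U hξU, hmin] at hcodim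
    exact_mod_cast hcodim
  have hdisj : Disjoint ((U.2.primeIdealOf ⟨x, hxU⟩).asIdeal.primeCompl : Set Γ(X, U.1))
      (𝓘.ideal U : Set Γ(X, U.1)) := Set.disjoint_left.2 fun c hc hc' =>
    hc ((Groth.Agent.DivPts.mem_support_iff_le_prime 𝓘 U hxU).1 hx hc')
  set P := (𝓘.ideal U).map (algebraMap Γ(X, U.1) (X.presheaf.stalk x)) with hP
  haveI : P.IsPrime := IsLocalization.isPrime_of_isPrime_disjoint _ _ _ hprime hdisj
  have hP1 : P.height = 1 := by
    rw [← hh]; exact IsLocalization.height_map_of_disjoint (U.2.primeIdealOf ⟨x, hxU⟩).asIdeal.primeCompl (𝓘.ideal U) hdisj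
  have hP0 : P ≠ ⊥ := fun h => by rw [h, Ideal.height_bot] at hP1; exact zero_ne_one hP1
  obtain ⟨π, hπP, hπ⟩ := Ideal.IsPrime.exists_mem_prime_of_ne_bot ‹P.IsPrime› hP0
  refine ⟨π, mem_nonZeroDivisors_of_ne_zero hπ.ne_zero, ?_⟩
  haveI : (Ideal.span {π}).IsPrime := (Ideal.span_singleton_prime hπ.ne_zero).2 hπ
  by_contra hne
  have hlt : Ideal.span {π} < P :=
    lt_of_le_of_ne ((Ideal.span_singleton_le_iff_mem _).2 hπP) (Ne.symm hne)
  haveI : IsNoetherianRing (X.presheaf.stalk x) :=
    IsLocalization.isNoetherianRing (U.2.primeIdealOf ⟨x, hxU⟩).asIdeal.primeCompl _ ‹_›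
  have h0 := Ideal.height_strict_mono_of_isPrime_of_isPrime hlt
  rw [hP1, Order.lt_one_iff, Ideal.height_eq_zero_iff, IsDomain.minimalPrimes_eq_singleton_bot,
    Set.mem_singleton_iff, Ideal.span_singleton_eq_bot] at h0
  exact hπ.ne_zero h0

end Groth.Agent.S1684
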