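import Groth.Statements.S1685
import Groth.Agent.DivPts.SectionFibre
import Groth.Agent.ModPairLib.Charts
import Groth.Agent.Depth.Change
import Mathlib.RingTheory.KrullDimension.Regular
-- import your own Groth.Agent.* helpers here

set_option autoImplicit false
universe u
open CategoryTheory CategoryTheory.Limits AlgebraicGeometry TopologicalSpace
open SDiv
open scoped Pointwise

namespace Groth.Agent.S1685

/-- Let X be a locally Noetherian scheme all of whose local rings satisfy Serre's condition (S_k), and
let D be the closed subscheme of an effective Cartier divisor. Then all local rings of D satisfy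
(S_{k-1}). -/
theorem result (X : Scheme.{u}) [IsLocallyNoetherian X] (k : ℕ)
    (hX : ∀ x : ↥X, min (k : WithBot ℕ∞) (ringKrullDim (X.presheaf.stalk x)) ≤
      ((LocCoh.depth (X.presheaf.stalk x) (X.presheaf.stalk x) : ℕ∞) : WithBot ℕ∞))
    (𝓘 : X.IdealSheafData) (h𝓘 : BlowUp.IsEffCartierIdeal 𝓘) (d : ↥𝓘.subscheme) :
    min ((k - 1 : ℕ) : WithBot ℕ∞) (ringKrullDim (𝓘.subscheme.presheaf.stalk d)) ≤
      ((LocCoh.depth (𝓘.subscheme.presheaf.stalk d) (𝓘.subscheme.presheaf.stalk d) : ℕ∞) : WithBot ℕ∞) := by
  let ι := 𝓘.subschemeι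
  have hk := hX (ι d)
  obtain ⟨W, hW, hxW, -⟩ := exists_isAffineOpen_mem_and_subset (U := (⊤ : X.Opens)) (x := ι d) trivial
  obtain ⟨V, hxV, -, H⟩ := Groth.Agent.ModPairLib.exists_span h𝓘 (ι d) W hxW
  obtain ⟨a, ha⟩ := H V le_rfl
  have hker := Groth.Agent.DivPts.ker_stalkMap_eq_span ι V (f := a)
    (by rw [Scheme.IdealSheafData.ker_subschemeι]; exact ha) d hxV
  set R := X.presheaf.stalk (ι d)
  set S := 𝓘.subscheme.presheaf.stalk d
  set t := X.presheaf.germ V.1 (ι d) hxV a with ht
  letI := (ι.stalkMap d).hom.toAlgebra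
  have hsurj : Function.Surjective (algebraMap R S) := ι.stalkMap_surjective d
  haveI : Module.Finite R S := Module.Finite.of_surjective (Algebra.linearMap R S) hsurj
  haveI : IsNoetherianRing S := isNoetherianRing_of_surjective R S _ hsurj
  have htker : t ∈ RingHom.ker (algebraMap R S) := hker.ge (Ideal.mem_span_singleton_self t)
  have htm : t ∈ IsLocalRing.maximalIdeal R :=
    IsLocalRing.le_maximalIdeal (RingHom.ker_ne_top _) htker
  letI := (X.presheaf.germ V.1 (ι d) hxV).hom.toAlgebra
  haveI : IsLocalization.AtPrime R (V.2.primeIdealOf ⟨ι d, hxV⟩).asIdeal := V.2.isLocalization_stalk ⟨ι d, hxV⟩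
  have htreg : IsSMulRegular R t := by
    have h1 : t ∈ nonZeroDivisors R :=
      IsLocalization.nonZeroDivisors_le_comap (V.2.primeIdealOf ⟨ι d, hxV⟩).asIdeal.primeCompl R
        (Groth.Agent.ModPairLib.nzd_of_span h𝓘 V ha)
    exact (isRegular_iff_mem_nonZeroDivisors.2 h1).left
  have hspan : (t • (⊤ : Submodule R R)) = LinearMap.ker (Algebra.linearMap R S) := by
    rw [← Submodule.ideal_span_singleton_smul, smul_eq_mul, Ideal.mul_top, ← hker]
    rfl
  let e : QuotSMulTop t R ≃ₗ[R] S := (Submodule.quotEquivOfEq _ _ hspan).trans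
    ((Algebra.linearMap R S).quotKerEquivOfSurjective hsurj)
  have hdep : LocCoh.depth S S + 1 = LocCoh.depth R R := by
    rw [Groth.Agent.Depth.depth_eq_of_surjective hsurj, ← Groth.Agent.Depth.depth_congr e]
    exact Groth.Agent.Depth.idealDepth_quotSMulTop_add_one R htm htreg
  have hdim : ringKrullDim S + 1 = ringKrullDim R := by
    rw [← Module.supportDim_self_eq_ringKrullDim (R := R),
      ← Module.supportDim_quotSMulTop_succ_eq_supportDim htreg htm, Module.supportDim_eq_of_equiv e,
      ← Module.supportDim_eq_of_equiv (((Algebra.linearMap R S).quotKerEquivOfSurjective hsurj)),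
      Module.supportDim_quotient_eq_ringKrullDim]
    exact congrArg (· + 1) (ringKrullDim_eq_of_ringEquiv (RingHom.quotientKerEquivOfSurjective hsurj)).symm
  rw [← hdep, ← hdim] at hk
  revert hk
  generalize LocCoh.depth S S = b
  generalize ringKrullDim S = c
  intro hk
  rw [min_le_iff] at hk ⊢
  rcases hk with hk | hk
  · left
    induction b with
    | top => exact le_top
    | coe b =>
      have h1 : k ≤ b + 1 := by exact_mod_cast hk
      exact WithBot.coe_le_coe.2 (Nat.cast_le.2 (show k - 1 ≤ b by omega))
  · right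
    induction c with
    | bot => exact bot_le
    | coe c =>
      induction b with
      | top => exact WithBot.coe_le_coe.2 le_top
      | coe b =>
        induction c with
        | top => exact absurd hk (by norm_cast)
        | coe c =>
          have h1 : c + 1 ≤ b + 1 := by exact_mod_cast hk
          exact_mod_cast (show c ≤ b by omega)

end Groth.Agent.S1685
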