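import Groth.Statements.S16854
import Mathlib
import Groth.Agent.SigmaLin.Basic

set_option autoImplicit false
universe u v
open CAlg

namespace Groth.Agent.S16854

open Groth.Agent.SigmaLin

theorem hypSol_pow {k : Type u} [Field k] [IsAlgClosed k] (τ : k →+* k) (q : ℕ) (hq : 1 < q)
    (hτ : ∀ x, τ x = x ^ q) : HypSol τ := by
  classical
  intro n b hb
  have hit : ∀ (i : ℕ) (x : k), (⇑τ)^[i] x = x ^ q ^ i := by
    intro i
    induction i with
    | zero => simp
    | succ i ih => intro x; rw [Function.iterate_succ_apply', ih, hτ, ← pow_mul, pow_succ]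
  let c : Fin (n + 1) → k := fun i => b (Fin.rev i) ^ q ^ (i : ℕ)
  obtain ⟨j, hj⟩ : ∃ j, c j ≠ 0 := by
    by_contra h
    push Not at h
    exact hb (funext fun i => (pow_eq_zero_iff (pow_ne_zero _ (by omega : q ≠ 0))).mp
      (by simpa only [c, Fin.rev_rev] using h (Fin.rev i)))
  let e : Fin (n + 1) → ℕ := fun i => q ^ ((i : ℕ) + 1) - 1
  have he : ∀ i, 0 < e i := fun i => by
    have := Nat.one_lt_pow (show (i : ℕ) + 1 ≠ 0 by omega) hq
    simp only [e]; omega
  let P : Polynomial k := (∑ i, Polynomial.C (c i) * Polynomial.X ^ e i) - 1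
  have hP : P.coeff (e j) = c j := by
    have hinj : ∀ i, e i = e j → i = j := fun i hi => by
      have := Nat.one_le_pow ((i : ℕ) + 1) q (by omega)
      have := Nat.one_le_pow ((j : ℕ) + 1) q (by omega)
      have h2 : q ^ ((i : ℕ) + 1) = q ^ ((j : ℕ) + 1) := by simp only [e] at hi; omega
      exact Fin.ext (Nat.succ_injective (Nat.pow_right_injective hq h2))
    simp only [P, Polynomial.coeff_sub, Polynomial.finsetSum_coeff, Polynomial.coeff_C_mul, Polynomial.coeff_X_pow,
      Polynomial.coeff_one]
    rw [if_neg (he j).ne', sub_zero, Finset.sum_eq_single j]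
    · simp
    · intro i _ hi; rw [if_neg (fun h => hi (hinj i h.symm)), mul_zero]
    · simp
  have hdeg : P.degree ≠ 0 := fun h => hj (by
    rw [← hP]
    exact Polynomial.coeff_eq_zero_of_degree_lt (by rw [h]; exact_mod_cast he j))
  obtain ⟨x, hx⟩ := IsAlgClosed.exists_root P hdeg
  simp only [Polynomial.IsRoot.def, P, Polynomial.eval_sub, Polynomial.eval_finsetSum, Polynomial.eval_mul,
    Polynomial.eval_C, Polynomial.eval_pow, Polynomial.eval_X, Polynomial.eval_one, sub_eq_zero] at hx
  refine ⟨x, fun h => ?_, ?_⟩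
  · subst h
    simp [zero_pow, (he _).ne'] at hx
  conv_lhs => rw [← mul_one x, ← hx, Finset.mul_sum]
  refine Finset.sum_congr rfl fun i _ => ?_
  rw [hit, hit]
  have : x ^ q ^ ((i : ℕ) + 1) = x ^ e i * x := by
    rw [← pow_succ]; congr 1
    have := Nat.one_le_pow ((i : ℕ) + 1) q (by omega)
    simp only [e]; omega
  rw [this]; ring

theorem hypAS_pow {k : Type u} [Field k] [IsAlgClosed k] (τ : k →+* k) (q : ℕ) (hq : 1 < q)
    (hτ : ∀ x, τ x = x ^ q) : HypAS τ := by
  intro c
  open Polynomial in
  have hdeg : (X ^ q - X + C c : k[X]).degree ≠ 0 := by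
    intro h
    have h' := coeff_eq_zero_of_degree_lt (p := (X ^ q - X + C c : k[X])) (n := q)
      (by rw [h]; exact_mod_cast (by omega : 0 < q))
    simp [coeff_X, coeff_C, hq.ne] at h'
    rw [if_neg (by omega : q ≠ 0), add_zero] at h'
    exact one_ne_zero h'
  obtain ⟨z, hz⟩ := IsAlgClosed.exists_root _ hdeg
  exact ⟨z, by simpa [hτ] using hz⟩

/-- Let k be an algebraically closed field of characteristic p > 0, ν ≥ 1, W = W(k) the ring of
p-typical Witt vectors with its Frobenius endomorphism σ, M a finitely generated free W-module and F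
: M → M a bijective additive map that is σ^ν-semilinear, F(a·m) = σ^ν(a)·F(m). Then M admits a
W-basis consisting of F-fixed elements; in particular M is spanned over W by M₀ = {m | F(m) = m}, a
module over the Witt vectors of F_{p^ν}. (The copy allows ν < 0 as well, reducing to F⁻¹; stated
here for ν ≥ 1.) -/
theorem result (k : Type u) [Field k] [IsAlgClosed k]
    (p : ℕ) [Fact p.Prime] [CharP k p] (ν : ℕ) (hν : 1 ≤ ν)
    (M : Type v) [AddCommGroup M] [Module (WittVector p k) M]
    [Module.Finite (WittVector p k) M] [Module.Free (WittVector p k) M]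
    (F : M →+ M)
    (hF : ∀ (a : WittVector p k) (m : M), F (a • m) = ((⇑(WittVector.frobenius : WittVector p k →+* WittVector p k))^[ν] a) • F m)
    (hbij : Function.Bijective F) :
    ∃ (ι : Type v) (b : Module.Basis ι (WittVector p k) M), ∀ i, F (b i) = b i := by
  classical
  let W := WittVector p k
  let σ : W →+* W := (WittVector.frobenius : W →+* W) ^ ν
  have hσ : ⇑σ = (⇑(WittVector.frobenius : W →+* W))^[ν] := RingHom.coe_pow _ _
  let c := Module.Free.chooseBasis W M
  let ι := Module.Free.ChooseBasisIndex W M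
  haveI : Fintype ι := Fintype.ofFinite ι
  let q := p ^ ν
  let τ : k →+* k := iterateFrobenius k p ν
  have hq : 1 < q := Nat.one_lt_pow (by omega) (Fact.out : p.Prime).one_lt
  have hτ : ∀ x, τ x = x ^ q := fun x => iterateFrobenius_def p ν x
  have hcoef : ∀ (a : W), (σ a).coeff 0 = τ (a.coeff 0) := by
    intro a
    rw [hτ, hσ]
    have : ∀ j (a : W), ((⇑(WittVector.frobenius : W →+* W))^[j] a).coeff 0 = a.coeff 0 ^ p ^ j := by
      intro j
      induction j with
      | zero => simp
      | succ j ih => intro a; rw [Function.iterate_succ_apply', WittVector.coeff_frobenius_charP, ih, ← pow_mul, pow_succ]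
    exact this ν a
  -- reduction modulo `p`
  let π : M →+ (ι → k) :=
    { toFun := fun m i => (c.repr m i).coeff 0
      map_zero' := by funext i; simp
      map_add' := fun x y => by funext i; simp [← WittVector.constantCoeff_apply] }
  have hπ : ∀ m i, π m i = WittVector.constantCoeff (c.repr m i) := fun _ _ => rfl
  have hπsmul : ∀ (a : W) m, π (a • m) = a.coeff 0 • π m := fun a m => by
    funext i; simp [hπ, WittVector.constantCoeff_apply, ← WittVector.constantCoeff_apply]
  let lift : (ι → k) → M := fun v => ∑ i, WittVector.teichmuller p (v i) • c i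
  have hlift : ∀ v, π (lift v) = v := fun v => by
    funext i
    rw [hπ, show c.repr (lift v) i = WittVector.teichmuller p (v i) from congrFun (congrArg DFunLike.coe rfl) i |>.trans (c.repr_sum_self (fun i => WittVector.teichmuller p (v i)) ▸ rfl)]
    simp [WittVector.constantCoeff_apply, WittVector.teichmuller_coeff_zero]
  have hker : ∀ m, π m = 0 → ∃ x, m = (p : W) • x := by
    intro m hm
    have hdvd : ∀ i, (p : W) ∣ c.repr m i := fun i =>
      Ideal.mem_span_singleton.mp ((WittVector.mem_span_p_iff_coeff_zero_eq_zero _).mpr (congrFun hm i))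
    choose x hx using hdvd
    refine ⟨∑ i, x i • c i, ?_⟩
    conv_lhs => rw [← c.sum_repr m]
    simp only [Finset.smul_sum, smul_smul, ← hx]
  have hFp : ∀ m, F ((p : W) • m) = (p : W) • F m := fun m => by rw [hF, ← hσ, map_natCast]
  have hFπ : ∀ m m', π m = π m' → π (F m) = π (F m') := by
    intro m m' h
    obtain ⟨x, hx⟩ := hker (m - m') (by rw [map_sub, h, sub_self])
    rw [← sub_eq_zero, ← map_sub, ← map_sub, hx, hFp, hπsmul]
    simp [← WittVector.constantCoeff_apply, CharP.cast_eq_zero]
  let T : (ι → k) →ₛₗ[τ] (ι → k) :=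
    { toFun := fun v => π (F (lift v))
      map_add' := fun v w => by rw [← map_add, ← map_add]; exact hFπ _ _ (by rw [map_add, hlift, hlift, hlift])
      map_smul' := fun a v => by
        rw [hFπ _ (WittVector.teichmuller p a • lift v) (by rw [hπsmul, hlift, hlift, WittVector.teichmuller_coeff_zero]),
          hF, ← hσ, hπsmul, hcoef, WittVector.teichmuller_coeff_zero] }
  have hT : ∀ m, T (π m) = π (F m) := fun m => hFπ _ _ (hlift _)
  have hspan : Submodule.span k (Set.range T) = ⊤ := by
    refine eq_top_iff.mpr fun v _ => ?_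
    obtain ⟨m, hm⟩ := hbij.2 (lift v)
    exact Submodule.subset_span ⟨π m, by rw [hT, hm, hlift]⟩
  obtain ⟨⟨bb, hbb⟩, hsurj⟩ := exists_fixed_basis T hspan (hypSol_pow τ q hq hτ) (hypAS_pow τ q hq hτ)
  -- `1 - F` is surjective
  have hsub : ∀ m, ∃ a, a - F a = m := by
    intro m
    have step : ∀ m : M, ∃ a x : M, m = (a - F a) + (p : W) • x := fun m => by
      obtain ⟨v, hv⟩ := hsurj (π m)
      simp only at hv
      obtain ⟨x, hx⟩ := hker (m - (lift v - F (lift v))) (by rw [map_sub, map_sub, ← hT, hlift, hv, sub_self])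
      exact ⟨lift v, x, by rw [← hx]; abel⟩
    choose a x hax using step
    let seq : ℕ → M := fun j => x^[j] m
    let s : ℕ → M := fun j => ∑ l ∈ Finset.range j, (p : W) ^ l • a (seq l)
    have hFpow : ∀ l (y : M), F ((p : W) ^ l • y) = (p : W) ^ l • F y := fun l y => by
      rw [hF, ← hσ, map_pow, map_natCast]
    have hs : ∀ j, m - (s j - F (s j)) = (p : W) ^ j • seq j := by
      intro j
      induction j with
      | zero => simp [s, seq]
      | succ j ih =>
        have e := hax (seq j)
        rw [show x (seq j) = seq (j + 1) from (Function.iterate_succ_apply' x j m).symm] at e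
        simp only [s] at ih ⊢
        rw [Finset.sum_range_succ, map_add, hFpow, add_sub_add_comm, ← smul_sub, ← sub_sub, ih, ← smul_sub]
        conv_lhs => rw [show seq j - (a (seq j) - F (a (seq j))) = (p : W) • seq (j + 1) from sub_eq_iff_eq_add'.mpr e]
        rw [smul_smul, ← pow_succ]
    have hI : ∀ j, ((Ideal.span {(p : W)}) ^ j • ⊤ : Submodule W W) = Ideal.span {(p : W) ^ j} := fun j => by
      rw [smul_eq_mul, Ideal.mul_top, Ideal.span_singleton_pow]
    have hc' : ∀ i {j l : ℕ}, j ≤ l → c.repr (s j) i ≡ c.repr (s l) i [SMOD ((Ideal.span {(p : W)}) ^ j • ⊤ : Submodule W W)] := by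
      intro i j l hjl
      rw [SModEq.sub_mem, hI, Ideal.mem_span_singleton, dvd_sub_comm]
      simp only [s]
      rw [← Finsupp.sub_apply, ← map_sub, ← Finset.sum_range_add_sum_Ico _ hjl, add_sub_cancel_left, map_sum,
        Finsupp.finsetSum_apply]
      refine Finset.dvd_sum fun t ht => ?_
      rw [map_smul, Finsupp.smul_apply, smul_eq_mul]
      exact dvd_mul_of_dvd_left (pow_dvd_pow _ (Finset.mem_Ico.mp ht).1) _
    choose L hL using fun i => IsPrecomplete.prec (inferInstance : IsPrecomplete (Ideal.span {(p : W)}) W) (hc' i)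
    refine ⟨∑ i, L i • c i, ?_⟩
    refine c.repr.injective (Finsupp.ext fun i => sub_eq_zero.mp ?_)
    refine IsHausdorff.haus (inferInstance : IsHausdorff (Ideal.span {(p : W)}) W) _ fun j => ?_
    rw [SModEq.zero, hI, Ideal.mem_span_singleton]
    have hd : ∀ t, (p : W) ^ j ∣ L t - c.repr (s j) t := fun t => by
      have := (hL t j).symm
      rwa [SModEq.sub_mem, hI, Ideal.mem_span_singleton] at this
    choose δ hδ using hd
    have e1 : ∑ t, L t • c t = s j + (p : W) ^ j • ∑ t, δ t • c t := by
      conv_rhs => arg 1; rw [← c.sum_repr (s j)]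
      rw [Finset.smul_sum, ← Finset.sum_add_distrib]
      refine Finset.sum_congr rfl fun t _ => ?_
      rw [smul_smul, ← add_smul, ← hδ, add_sub_cancel]
    rw [← Finsupp.sub_apply, ← map_sub, e1, map_add, hFpow]
    have h2 : s j + (p : W) ^ j • (∑ t, δ t • c t) - (F (s j) + (p : W) ^ j • F (∑ t, δ t • c t)) - m =
        (p : W) ^ j • ((∑ t, δ t • c t) - F (∑ t, δ t • c t) - seq j) := by
      rw [smul_sub, smul_sub, ← hs j]; abel
    rw [h2, map_smul, Finsupp.smul_apply, smul_eq_mul]
    exact dvd_mul_right _ _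
  have hfix : ∀ t, ∃ f : M, F f = f ∧ π f = bb t := by
    intro t
    obtain ⟨x, hx⟩ := hker (F (lift (bb t)) - lift (bb t)) (by rw [map_sub, ← hT, hlift, hbb, sub_self])
    obtain ⟨a, ha⟩ := hsub x
    refine ⟨lift (bb t) + (p : W) • a, ?_, ?_⟩
    · rw [map_add, hFp, ← sub_eq_zero,
        show F (lift (bb t)) + (p : W) • F a - (lift (bb t) + (p : W) • a) = (F (lift (bb t)) - lift (bb t)) - ((p : W) • a - (p : W) • F a) by abel,
        ← smul_sub, ha, hx, sub_self]
    · rw [map_add, hlift, hπsmul]
      simp [← WittVector.constantCoeff_apply, CharP.cast_eq_zero]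
  let er : ι ≃ Fin (Module.finrank k (ι → k)) := Fintype.equivFinOfCardEq (Module.finrank_fintype_fun_eq_card k).symm
  choose f hf hfπ using hfix
  let A : Matrix ι ι W := Matrix.of fun i t => c.repr (f (er t)) i
  have hmap : A.map WittVector.constantCoeff = (Pi.basisFun k ι).toMatrix (bb.reindex er.symm) := by
    ext i t
    rw [Matrix.map_apply, Module.Basis.toMatrix_apply, Pi.basisFun_repr]
    show WittVector.constantCoeff (c.repr (f (er t)) i) = _
    rw [← hπ, hfπ, Module.Basis.reindex_apply, Equiv.symm_symm]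
  have hdet : IsUnit A.det := by
    refine WittVector.isUnit_of_coeff_zero_ne_zero _ ?_
    rw [← WittVector.constantCoeff_apply, RingHom.map_det, RingHom.mapMatrix_apply, hmap]
    intro h0
    have := (Module.Basis.invertibleToMatrix (Pi.basisFun k ι) (bb.reindex er.symm))
    exact (Matrix.isUnit_det_of_invertible _).ne_zero h0
  let E : M ≃ₗ[W] M := LinearEquiv.ofBijective (Matrix.toLin c c A) (by
    haveI := A.invertibleOfIsUnitDet hdet
    exact (Matrix.toLinearEquiv c A hdet).bijective)
  refine ⟨ι, c.map E, fun t => ?_⟩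
  have hE : (c.map E) t = f (er t) := by
    rw [Module.Basis.map_apply]
    show Matrix.toLin c c A (c t) = _
    rw [Matrix.toLin_self]
    exact c.sum_repr (f (er t))
  rw [hE, hf]

end Groth.Agent.S16854
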