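import Groth.Statements.S1686
import Groth.Agent.ModPairLib.Charts
import Mathlib.AlgebraicGeometry.Artinian
import Mathlib.RingTheory.KrullDimension.NonZeroDivisors
-- import your own Groth.Agent.* helpers here

set_option autoImplicit false
universe u
open CategoryTheory CategoryTheory.Limits AlgebraicGeometry TopologicalSpace
open SDiv

namespace Groth.Agent.S1686

/-- Let D be the closed subscheme of an effective Cartier divisor on a scheme S and d a point of D with
image s in S. If the local dimension of S at s is finite, then the local dimension of D at d is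
strictly smaller. -/
theorem result (S : Scheme.{u}) (𝓘 : S.IdealSheafData) (h𝓘 : BlowUp.IsEffCartierIdeal 𝓘) (d : ↥𝓘.subscheme)
    (hfin : FlatMor.localDim ↥S (𝓘.subschemeι d) ≠ ⊤) :
    FlatMor.localDim ↥𝓘.subscheme d < FlatMor.localDim ↥S (𝓘.subschemeι d) := by
  obtain ⟨U, hU⟩ : ∃ U : {U : TopologicalSpace.Opens ↥S // 𝓘.subschemeι d ∈ U},
      topologicalKrullDim (U.1 : Set ↥S) = FlatMor.localDim ↥S (𝓘.subschemeι d) := by
    haveI : Nonempty {U : TopologicalSpace.Opens ↥S // 𝓘.subschemeι d ∈ U} := ⟨⟨⊤, trivial⟩⟩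
    let f : {U : TopologicalSpace.Opens ↥S // 𝓘.subschemeι d ∈ U} → WithBot ℕ∞ :=
      fun U => topologicalKrullDim (U.1 : Set ↥S)
    obtain ⟨_, ⟨U₀, rfl⟩, hmin⟩ := (wellFounded_lt (α := WithBot ℕ∞)).has_min (Set.range f) (Set.range_nonempty f)
    exact ⟨U₀, le_antisymm (le_iInf fun U' => not_lt.1 (hmin _ ⟨U', rfl⟩)) (iInf_le f U₀)⟩
  rw [← hU] at hfin ⊢
  obtain ⟨W, hW, hxW, hWU⟩ := exists_isAffineOpen_mem_and_subset (U := (U.1 : S.Opens))
    (x := 𝓘.subschemeι d) U.2
  obtain ⟨V, hxV, hVW, H⟩ := Groth.Agent.ModPairLib.exists_span h𝓘 (𝓘.subschemeι d) W hxW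
  obtain ⟨a, ha⟩ := H V le_rfl
  let ι := 𝓘.subschemeι
  have hV' : IsAffineOpen (ι ⁻¹ᵁ V.1) := V.2.preimage ι
  have e1 : ∀ {Y : Scheme.{u}} (O : Y.Opens), IsAffineOpen O →
      topologicalKrullDim (O : Set ↥Y) = ringKrullDim Γ(Y, O) := fun {Y} O hO => by
    rw [← PrimeSpectrum.topologicalKrullDim_eq_ringKrullDim Γ(Y, O)]
    change _ = topologicalKrullDim (Spec Γ(Y, O))
    rw [← IsHomeomorph.topologicalKrullDim_eq _ hO.isoSpec.hom.homeomorph.isHomeomorph]
    rfl
  have hk : RingHom.ker (ι.app V.1).hom = Ideal.span {a} := by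
    rw [Scheme.IdealSheafData.ker_subschemeι_app, ha]
  let σ := ((Ideal.quotEquivOfEq hk).symm.trans
    (RingHom.quotientKerEquivOfSurjective (ι.app_surjective V.1 V.2)))
  have h1 : topologicalKrullDim ((ι ⁻¹ᵁ V.1 : 𝓘.subscheme.Opens) : Set ↥𝓘.subscheme) + 1 ≤
      topologicalKrullDim (U.1 : Set ↥S) := by
    rw [e1 _ hV', ← ringKrullDim_eq_of_ringEquiv σ]
    refine (ringKrullDim_quotient_succ_le_of_nonZeroDivisor
      (Groth.Agent.ModPairLib.nzd_of_span h𝓘 V ha)).trans ?_
    rw [← e1 _ V.2]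
    exact (Topology.IsEmbedding.inclusion (t := (U.1 : Set ↥S)) (hVW.trans hWU)).isInducing.topologicalKrullDim_le
  have h2 : FlatMor.localDim ↥𝓘.subscheme d ≤
      topologicalKrullDim ((ι ⁻¹ᵁ V.1 : 𝓘.subscheme.Opens) : Set ↥𝓘.subscheme) :=
    iInf_le (fun O : {O : TopologicalSpace.Opens ↥𝓘.subscheme // d ∈ O} => topologicalKrullDim (O.1 : Set ↥𝓘.subscheme))
      ⟨ι ⁻¹ᵁ V.1, hxV⟩
  refine lt_of_le_of_lt h2 ?_
  haveI : Nonempty ((U.1 : Set ↥S)) := ⟨⟨_, U.2⟩⟩
  haveI : Nonempty (TopologicalSpace.IrreducibleCloseds (U.1 : Set ↥S)) :=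
    ⟨⟨closure {⟨_, U.2⟩}, isIrreducible_singleton.closure, isClosed_closure⟩⟩
  have h3 : topologicalKrullDim (U.1 : Set ↥S) ≠ ⊥ := by
    intro h
    have := Order.krullDim_nonneg (α := TopologicalSpace.IrreducibleCloseds (U.1 : Set ↥S))
    rw [show Order.krullDim (TopologicalSpace.IrreducibleCloseds (U.1 : Set ↥S)) = ⊥ from h] at this
    exact absurd this (by decide)
  revert h1 hfin h3
  generalize topologicalKrullDim ((ι ⁻¹ᵁ V.1 : 𝓘.subscheme.Opens) : Set ↥𝓘.subscheme) = A
  generalize topologicalKrullDim (U.1 : Set ↥S) = B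
  intro hfin h1 h3
  induction B with
  | bot => exact absurd rfl h3
  | coe b =>
    induction A with
    | bot => exact WithBot.bot_lt_coe b
    | coe a =>
      rw [← WithBot.coe_one, ← WithBot.coe_add, WithBot.coe_le_coe] at h1
      rw [WithBot.coe_lt_coe]
      induction b with
      | top => exact absurd rfl hfin
      | coe b =>
        induction a with
        | top => simp at h1
        | coe a => exact_mod_cast (show a < b by exact_mod_cast Nat.lt_of_succ_le (by exact_mod_cast h1))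

end Groth.Agent.S1686
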