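import Groth.Statements.S16862
import Groth.Agent.AlgStB.GerbeFlat
import Groth.Agent.AlgStB.InertiaDiag
import Groth.Agent.AlgStB.QCSep

set_option autoImplicit false
universe u
open CategoryTheory AlgebraicGeometry
open Gerb

namespace Groth.Agent.S16862

/-- If a morphism f of algebraic stacks makes its source a gerbe over its target, then the relative
inertia of f is flat and locally of finite presentation over the source. -/
theorem result
    (S : Scheme.{u}) (𝒳 𝒴 : AlgSt.Cat S)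
    (h𝒳 : AlgSt.IsAlgStack Scheme.fppfPrecoverage 𝒳) (h𝒴 : AlgSt.IsAlgStack Scheme.fppfPrecoverage 𝒴)
    (f : 𝒳 ⥤ᵇ 𝒴) (hf : Gerb.IsGerbeOver (QuotSh.J Scheme.fppfPrecoverage S) f) :
    AlgSt.LocQ (AlgSp.LocP @Flat) (FibCat.inertiaToBase f) ∧
      AlgSt.LocQ (AlgSp.LocP @LocallyOfFinitePresentation) (FibCat.inertiaToBase f) := by
  obtain ⟨h₁, h₂, -⟩ := AlgStB.flat_lfp_surjective_diag_of_gerbe h𝒳 h𝒴 f hf
  have hP := AlgStB.isAlgStack_fp h𝒴.isStack h𝒴.diag h𝒳 h𝒳 f f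
  have hD := AlgStB.isAlgStack_fp hP.isStack hP.diag h𝒳 h𝒳 (FibCat.diag f) (FibCat.diag f)
  obtain ⟨E, hE, -, -⟩ := Fib.inertia_equivOver_fp_diag f
  have hI := (AlgStB.isAlgStack_iff_of_isEquivOver (K := Scheme.fppfPrecoverage) hE).2 hD
  exact ⟨AlgStB.locQ_of_repByAlgSpWith hI h𝒳 (fun _ _ _ h => by have := h; infer_instance)
      ((AlgStB.repByAlgSpWith_inertiaToBase_iff f).2 (AlgStB.repByAlgSpWith_fpFst _ _ h₁)),
    AlgStB.locQ_of_repByAlgSpWith hI h𝒳 (fun _ _ _ h => by have := h; infer_instance)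
      ((AlgStB.repByAlgSpWith_inertiaToBase_iff f).2 (AlgStB.repByAlgSpWith_fpFst _ _ h₂))⟩

end Groth.Agent.S16862
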