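import Groth.Statements.S16865
import Groth.Agent.S13022
import Groth.Agent.GerbA.Descent
import Groth.Agent.AlgStB.SubstackPoints
import Groth.Agent.AlgSpLoc.Covers

set_option autoImplicit false
universe u
open CategoryTheory AlgebraicGeometry
open Gerb

namespace Groth.Agent.S16865

/-- Being a gerbe descends along a surjective, flat, locally finitely presented base change: if g : 𝒴' →
𝒴 is such a morphism of algebraic stacks and 𝒴' ×_𝒴 𝒳 is a gerbe over 𝒴' along the first projection,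
then 𝒳 is a gerbe over 𝒴 along f. -/
theorem result
    (S : Scheme.{u}) (𝒳 𝒴 𝒴' : AlgSt.Cat S)
    (h𝒳 : AlgSt.IsAlgStack Scheme.fppfPrecoverage 𝒳) (h𝒴 : AlgSt.IsAlgStack Scheme.fppfPrecoverage 𝒴)
    (h𝒴' : AlgSt.IsAlgStack Scheme.fppfPrecoverage 𝒴')
    (f : 𝒳 ⥤ᵇ 𝒴) (g : 𝒴' ⥤ᵇ 𝒴)
    (hg₁ : AlgSt.IsSurjective g) (hg₂ : AlgSt.LocQ (AlgSp.LocP @Flat) g)
    (hg₃ : AlgSt.LocQ (AlgSp.LocP @LocallyOfFinitePresentation) g)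
    (h : Gerb.IsGerbeOver (QuotSh.J Scheme.fppfPrecoverage S) (FibCat.fpFst g f)) :
    Gerb.IsGerbeOver (QuotSh.J Scheme.fppfPrecoverage S) f := by
  refine GerbA.isGerbeOver_descend _ f g h𝒳.isStack.1 h𝒴.isStack.1 (fun y => ?_) h
  obtain ⟨yT, ey, hey⟩ := AlgStB.exists_chart h𝒴.isStack.1 y
  obtain ⟨ι, V, k, c, hk, hx⟩ := S13022.result S 𝒴 h𝒴 PUnit.{u + 1} (fun _ => 𝒴') (fun _ => h𝒴')
    (fun _ => g) (fun _ => hg₂) (fun _ => hg₃) (fun p => ⟨⟨⟩, hg₁ p⟩) (𝒴.p.obj y) yT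
  obtain ⟨hs, hfl⟩ := (Scheme.ofArrows_mem_precoverage_iff (P := @Flat ⊓ @LocallyOfFinitePresentation)).1 hk
  refine ⟨Sieve.ofArrows V k, AlgSpLoc.ofArrows_mem_J V k (fun i => (hfl i).1) (fun i => (hfl i).2) hs, ?_⟩
  rintro T f₀ ⟨W, l, _, ⟨i⟩, rfl⟩
  obtain ⟨x', ⟨j⟩⟩ := hx i
  let A : g.obj (x'.obj (Over.mk l)) ⟶ yT.obj (Over.mk (l ≫ k i)) := (Fib.appIso j (Over.mk l)).hom
  let B : yT.obj (Over.mk (l ≫ k i)) ⟶ y :=
    yT.map (Over.homMk (l ≫ k i) (Category.comp_id _) : Over.mk (l ≫ k i) ⟶ Over.mk (𝟙 _)) ≫ ey.hom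
  have h₁ : 𝒴.p.IsHomLift (𝟙 T) A := Fib.appIso_isHomLift j (Over.mk l)
  have h₂ : 𝒴.p.IsHomLift (l ≫ k i) B := AlgStB.chart_isHomLift yT ey hey (l ≫ k i)
  refine ⟨x'.obj (Over.mk l), A ≫ B, ?_⟩
  simpa using (inferInstance : 𝒴.p.IsHomLift (𝟙 T ≫ (l ≫ k i)) (A ≫ B))

end Groth.Agent.S16865
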