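import Groth.Statements.S1688
import Groth.Agent.StalkFree.Basic
import Groth.Agent.RegUFD.Basic
import Groth.Agent.ReflStalk.Local
-- import your own Groth.Agent.* helpers here

set_option autoImplicit false
universe u
open CategoryTheory CategoryTheory.Limits AlgebraicGeometry TopologicalSpace
open SDiv

namespace Groth.Agent.S1688

/-- Let X be a locally Noetherian integral scheme of dimension at most 1 all of whose local rings are
regular, and F a coherent module on X. Then F is torsion free (every stalk is a torsion-free module
over the local ring) if and only if F is finite locally free. -/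
theorem result (X : Scheme.{u}) [IsIntegral X] [IsLocallyNoetherian X] (hreg : ∀ x : ↥X, IsRegularLocalRing (X.presheaf.stalk x))
    (hdim : topologicalKrullDim ↥X ≤ 1) (F : X.Modules) (hF : Coh.IsCoh F) :
    (∀ x : ↥X, NoZeroSMulDivisors (X.presheaf.stalk x) (F.presheaf.stalk x)) ↔ FlatMod.IsFinLocFree F := by
  refine ⟨fun h => Groth.Agent.StalkFree.isFinLocFree_of_free_stalks F hF fun x => ?_, fun h x => ?_⟩
  · haveI := hreg x
    haveI := Groth.Agent.RegUFD.ufd (X.presheaf.stalk x)
    have hd : ringKrullDim (X.presheaf.stalk x) ≤ 1 := by
      rw [AlgebraicGeometry.ringKrullDim_stalk_eq_coheight]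
      exact (Order.coheight_le_krullDim x).trans ((Order.krullDim_eq_of_orderIso (irreducibleSetEquivPoints (α := X)).symm).trans_le hdim)
    haveI := Groth.Agent.CAlgReflexive.isPrincipalIdealRing_of_normal_dim_le_one (X.presheaf.stalk x) hd
    haveI := Groth.Agent.QuasiFlatLib.finite_stalk F hF x
    haveI := h x
    haveI : Module.IsTorsionFree (X.presheaf.stalk x) (F.presheaf.stalk x) := inferInstance
    exact Module.free_of_finite_type_torsion_free'
  · haveI := Groth.Agent.StalkFree.free_stalk_of_isFinLocFree F h x
    exact ⟨fun hcx => smul_eq_zero.1 hcx⟩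

end Groth.Agent.S1688
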