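import Groth.Statements.S16900
import Groth.Agent.CycCover.Basic


set_option autoImplicit false
universe u
open Polynomial
open Vanish

namespace Groth.Agent.S16900

/-- Let k be an algebraically closed field and B an integral domain of finite type over k all of whose
localizations at primes are regular (an affine open Spec B of a manifold); let N ≥ 1 be invertible
in k, u a unit of B, α a natural number and f₁ ≠ 0 an element of B such that all local rings of
B/f₁B are regular (the divisor D₁ = V(f₁) is non-singular; f₁ may be a unit). With A' = B[t]/(t^N −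
u·f₁^α) (the algebra of the N-th root of the section u·f₁^α) and K = A'[1/f₁], let A ⊆ K be the
B-subalgebra generated by the N elements t^i · f₁^(−⌊iα/N⌋), 0 ≤ i < N. Then A is finite over B, A
is the integral closure of A' in K (Spec A is the normalization of Spec A', finite and normal over
Spec B), and Spec A is non-singular: every localization of A at a prime ideal is a regular local
ring. -/
theorem result (k : Type u) [Field k] [IsAlgClosed k]
    (B : Type u) [CommRing B] [IsDomain B] [Algebra k B] [Algebra.FiniteType k B]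
    (hreg : ∀ (P : Ideal B) [P.IsPrime], IsRegularLocalRing (Localization.AtPrime P))
    (N : ℕ) (hN : 0 < N) (hNk : IsUnit ((N : ℕ) : k)) (u : Bˣ) (α : ℕ) (f₁ : B) (hf₁ : f₁ ≠ 0)
    (hD : ∀ (P : Ideal (B ⧸ Ideal.span ({f₁} : Set B))) [P.IsPrime], IsRegularLocalRing (Localization.AtPrime P))
    (A : Subalgebra B (Localization.Away
      (algebraMap B (AdjoinRoot (X ^ N - C ((u : B) * f₁ ^ α) : B[X])) f₁)))
    (hA : A = Algebra.adjoin B (Set.range fun i : Fin N =>
      algebraMap (AdjoinRoot (X ^ N - C ((u : B) * f₁ ^ α) : B[X])) (Localization.Away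
        (algebraMap B (AdjoinRoot (X ^ N - C ((u : B) * f₁ ^ α) : B[X])) f₁))
        (AdjoinRoot.root (X ^ N - C ((u : B) * f₁ ^ α) : B[X]) ^ (i : ℕ)) *
      IsLocalization.Away.invSelf (S := Localization.Away
        (algebraMap B (AdjoinRoot (X ^ N - C ((u : B) * f₁ ^ α) : B[X])) f₁))
        (algebraMap B (AdjoinRoot (X ^ N - C ((u : B) * f₁ ^ α) : B[X])) f₁) ^ ((i : ℕ) * α / N))) :
    Module.Finite B A ∧
      IsIntegralClosure A (AdjoinRoot (X ^ N - C ((u : B) * f₁ ^ α) : B[X]))
        (Localization.Away (algebraMap B (AdjoinRoot (X ^ N - C ((u : B) * f₁ ^ α) : B[X])) f₁)) ∧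
      ∀ (Q : Ideal A) [Q.IsPrime], IsRegularLocalRing (Localization.AtPrime Q) := by
  subst hA
  set p : B[X] := X ^ N - C ((u : B) * f₁ ^ α) with hp_def
  set L := Localization.Away (algebraMap B (AdjoinRoot p) f₁) with hL
  have hp : p.Monic := monic_X_pow_sub_C _ hN.ne'
  have hdeg : p.natDegree = N := natDegree_X_pow_sub_C
  let pb := AdjoinRoot.powerBasis' hp
  have hfree : Module.Free B (AdjoinRoot p) := Module.Free.of_basis pb.basis
  have hfnz : algebraMap B (AdjoinRoot p) f₁ ∈ nonZeroDivisors (AdjoinRoot p) := by
    rw [mem_nonZeroDivisors_iff_right]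
    intro r hr
    rw [mul_comm, ← Algebra.smul_def] at hr
    exact (smul_eq_zero.1 hr).resolve_left hf₁
  have hinj : Function.Injective (algebraMap (AdjoinRoot p) L) :=
    IsLocalization.injective (M := Submonoid.powers (algebraMap B (AdjoinRoot p) f₁)) L
      ((Submonoid.powers_le (P := nonZeroDivisors (AdjoinRoot p))).2 hfnz)
  let D : CycCover.CovData B L :=
    { N := N
      hN := hN
      α := α
      u := u
      f := f₁
      x := algebraMap (AdjoinRoot p) L (AdjoinRoot.root p)
      inv := IsLocalization.Away.invSelf (algebraMap B (AdjoinRoot p) f₁)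
      hinv := by
        rw [IsScalarTower.algebraMap_apply B (AdjoinRoot p) L]
        exact IsLocalization.Away.mul_invSelf (algebraMap B (AdjoinRoot p) f₁)
      hxN := by
        rw [← map_pow, ← map_pow, ← map_mul, IsScalarTower.algebraMap_apply B (AdjoinRoot p) L]
        congr 1
        have h := AdjoinRoot.eval₂_root p
        rw [hp_def, eval₂_sub, eval₂_X_pow, eval₂_C, sub_eq_zero] at h
        exact h
      hind := fun b hb => by
        have h1 : ∑ i, b i • AdjoinRoot.root p ^ (i : ℕ) = 0 := by
          refine hinj ?_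
          rw [map_zero, map_sum, ← hb]
          refine Finset.sum_congr rfl fun i _ => ?_
          rw [Algebra.smul_def, Algebra.smul_def, map_mul, map_pow,
            ← IsScalarTower.algebraMap_apply B (AdjoinRoot p) L]
        have hdim : pb.dim = N := hdeg
        have hli := (pb.basis.reindex (finCongr hdim)).linearIndependent
        rw [Fintype.linearIndependent_iff] at hli
        funext i
        refine hli b ?_ i
        rw [← h1]
        refine Finset.sum_congr rfl fun i _ => ?_
        rw [Module.Basis.reindex_apply, pb.basis_eq_pow]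
        simp [pb] }
  have hadj : (Algebra.adjoin B (Set.range fun i : Fin N =>
      algebraMap (AdjoinRoot p) L (AdjoinRoot.root p ^ (i : ℕ)) *
        IsLocalization.Away.invSelf (S := L) (algebraMap B (AdjoinRoot p) f₁) ^ ((i : ℕ) * α / N))) =
      D.A := by
    simp only [map_pow]
    rfl
  rw [hadj]
  have : IsNoetherianRing B := Algebra.FiniteType.isNoetherianRing k B
  have hNu : IsUnit (D.N : B) := by
    have h := hNk.map (algebraMap k B)
    rwa [map_natCast] at h
  refine ⟨D.finite, ?_, fun Q _ => D.isRegularLocalRing_A hf₁ hNu hreg hD Q⟩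
  have hRA : ∀ r : AdjoinRoot p, algebraMap (AdjoinRoot p) L r ∈ D.A := by
    intro r
    obtain ⟨q, rfl⟩ := AdjoinRoot.mk_surjective r
    induction q using Polynomial.induction_on' with
    | add a b ha hb => rw [map_add, map_add]; exact add_mem ha hb
    | monomial n c =>
      rw [← C_mul_X_pow_eq_monomial, map_mul, map_mul, AdjoinRoot.mk_C, map_pow, map_pow, AdjoinRoot.mk_X,
        ← AdjoinRoot.algebraMap_eq, ← IsScalarTower.algebraMap_apply B (AdjoinRoot p) L]
      exact mul_mem (Subalgebra.algebraMap_mem _ _) (pow_mem D.x_mem n)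
  have hden : ∀ z : L, ∃ n, algebraMap B L f₁ ^ n * z ∈ D.A := by
    intro z
    obtain ⟨⟨r, s⟩, hz⟩ := IsLocalization.surj (Submonoid.powers (algebraMap B (AdjoinRoot p) f₁)) z
    obtain ⟨n, hn⟩ := s.2
    refine ⟨n, ?_⟩
    have h : algebraMap B L f₁ ^ n * z = algebraMap (AdjoinRoot p) L r := by
      rw [← hz, ← hn, mul_comm, map_pow, IsScalarTower.algebraMap_apply B (AdjoinRoot p) L]
    rw [h]
    exact hRA r
  refine { algebraMap_injective := Subtype.val_injective, isIntegral_iff := fun {z} => ⟨fun hz => ?_, ?_⟩ }
  · have : Module.Finite B (AdjoinRoot p) := hp.finite_adjoinRoot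
    exact ⟨⟨z, D.mem_A_of_isIntegral hf₁ hNu hD z (isIntegral_trans z hz) (hden z)⟩, rfl⟩
  · rintro ⟨a, rfl⟩
    have := D.finite
    exact ((IsIntegral.of_finite B a).map D.A.val).tower_top

end Groth.Agent.S16900
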