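import Groth.Statements.S16909
import Groth.Agent.SerreAff.Basic
import Groth.Prelude.Def_Curv2
-- import your own Groth.Agent.* helpers here

set_option autoImplicit false
universe u
set_option backward.isDefEq.respectTransparency false
open CategoryTheory CategoryTheory.Limits AlgebraicGeometry
open ResProp

namespace Groth.Agent.S16909

/-- Let `X` be a quasi-compact and quasi-separated scheme on which every quasi-coherent module is
globally generated (a quotient of a free module on some index type, i.e. the structure sheaf is a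
generating family). Then `X` is quasi-affine. No separatedness hypothesis is made; it follows. (The
published statement is for an algebraic stack over an algebraic space with affine stabilizer groups
at closed points and concludes that it is representable by a quasi-affine morphism; that general
case rests on results outside this text, and this row is the final step of its proof, the case of a
scheme.) -/
theorem result (X : Scheme.{u}) [CompactSpace X]
    [QuasiSeparatedSpace X] (h : ∀ M : X.Modules, Coh.IsQCoh M → Curv2.IsGloballyGenerated M) :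
    X.IsQuasiAffine := by
  refine Scheme.IsQuasiAffine.of_forall_exists_mem_basicOpen X fun x => ?_
  obtain ⟨U, hU, hxU, -⟩ := TopologicalSpace.Opens.isBasis_iff_nbhd.1 X.isBasis_affineOpens
    (TopologicalSpace.Opens.mem_top x)
  let Z : TopologicalSpace.Closeds X := ⟨(U : Set X)ᶜ, U.2.isClosed_compl⟩
  suffices hs : ∃ t : Γ(SerreAff.idl Z, ⊤), x ∈ X.basicOpen (show Γ(X, ⊤) from (SerreAff.idlι Z).app ⊤ t) by
    obtain ⟨t, hxt⟩ := hs
    let f : Γ(X, ⊤) := (SerreAff.idlι Z).app ⊤ t
    have hle : X.basicOpen f ≤ U := fun z hz => by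
      by_contra hzU
      exact (SerreAff.exists_idl_iff Z ⊤ f).1 ⟨t, rfl⟩ z hzU hz
    refine ⟨f, ?_, hxt⟩
    have := hU.basicOpen (QCohBase.ores (le_top : U ≤ ⊤) f)
    rwa [QCohBase.basicOpen_ores, inf_eq_right.2 hle] at this
  by_contra hno
  simp only [not_exists] at hno
  let Z' : TopologicalSpace.Closeds X := ⟨(U : Set X)ᶜ ∪ closure {x}, U.2.isClosed_compl.union isClosed_closure⟩
  have hZ : Z ≤ Z' := fun z hz => Or.inl hz
  let T : ShortComplex X.Modules := ShortComplex.mk (SerreAff.idlMap hZ) (cokernel.π _) (cokernel.condition _)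
  have hkill : ∀ t : Γ(SerreAff.idl Z, ⊤), T.g.app ⊤ t = 0 := fun t => by
    obtain ⟨a, ha⟩ := (SerreAff.exists_idl_iff Z' ⊤ ((SerreAff.idlι Z).app ⊤ t)).2 (by
      rintro z (hz | hz) hz'
      · exact (SerreAff.exists_idl_iff Z ⊤ _).1 ⟨t, rfl⟩ z hz hz'
      · obtain ⟨_, hy, rfl⟩ := mem_closure_iff.1 hz _ (X.basicOpen _).isOpen hz'
        exact hno t hy)
    have hta : T.f.app ⊤ a = t := by
      apply QCohBase.app_injective_of_mono (SerreAff.idlι Z)
      rw [← ConcreteCategory.comp_apply, ← Scheme.Modules.Hom.comp_app]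
      show (SerreAff.idlMap hZ ≫ SerreAff.idlι Z).app ⊤ a = _
      rw [SerreAff.idlMap_ι]; exact ha
    rw [← hta, ← ConcreteCategory.comp_apply, ← Scheme.Modules.Hom.comp_app, T.zero]
    rfl
  obtain ⟨ι, p, hp⟩ := h (SerreAff.idl Z) (SerreAff.isQCoh_idl Z)
  have hT : T.g = 0 := by
    let p' : (SheafOfModules.free ι : X.Modules) ⟶ T.X₂ := p
    haveI : Epi p' := hp
    refine (cancel_epi p').1 ?_
    erw [comp_zero]
    refine CategoryTheory.Limits.Sigma.hom_ext _ _ fun j => ?_
    erw [comp_zero]
    refine (T.X₃.unitHomEquiv).injective (PresheafOfModules.sections_ext _ _ fun V => ?_)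
    let s : Coh.structureModule X ⟶ SerreAff.idl Z := SheafOfModules.ιFree j ≫ p
    have h1 : (s ≫ T.g).app ⊤ (show Γ(X, ⊤) from 1) = 0 := hkill _
    have h2 := QCohBase.app_nat (s ≫ T.g) (le_top : V.unop ≤ ⊤) (show Γ(X, ⊤) from 1)
    rw [h1, map_zero] at h2
    refine Eq.trans ?_ h2.symm
    show (s ≫ T.g).app V.unop (show Γ(X, V.unop) from 1) = _
    congr 1
    exact (map_one (QCohBase.ores (le_top : V.unop ≤ ⊤))).symm
  have : Epi T.f := Preadditive.epi_of_isZero_cokernel _
    ((IsZero.iff_id_eq_zero _).2 ((cancel_epi T.g).1 (by simp [hT])))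
  have : Mono T.f := inferInstanceAs (Mono (SerreAff.idlMap hZ))
  have : IsIso T.f := isIso_of_mono_of_epi _
  obtain ⟨t₁, ht₁⟩ := (SerreAff.exists_idl_iff Z U (1 : Γ(X, U))).2 fun z hz hz' => hz (X.basicOpen_le _ hz')
  refine (SerreAff.exists_idl_iff Z' U 1).1 ⟨(inv T.f).app U t₁, ?_⟩ x (Or.inr (subset_closure rfl))
    (by rw [Scheme.basicOpen_one]; exact hxU)
  rw [← ht₁]
  show (SerreAff.idlι Z').app U ((inv T.f).app U t₁) = _
  rw [← ConcreteCategory.comp_apply, ← Scheme.Modules.Hom.comp_app]
  have e : inv T.f ≫ SerreAff.idlι Z' = SerreAff.idlι Z := by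
    rw [IsIso.inv_comp_eq]; exact (SerreAff.idlMap_ι hZ).symm
  rw [e]

end Groth.Agent.S16909
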