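import Groth.Statements.S16914
import Groth.Agent.AlgStB.TrivialStab

set_option autoImplicit false
universe u
open CategoryTheory CategoryTheory.Limits AlgebraicGeometry
open ResProp

namespace Groth.Agent.S16914

/-- Let `𝒳` be an algebraic stack over `S` (fppf topology) whose diagonal is representable by algebraic
spaces, separated and quasi-compact. Then `𝒳` is representable by an algebraic space over `S` if and
only if its stabilizer groups vanish at all geometric points: whenever `x` is an object of `𝒳` whose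
scheme is the spectrum of an algebraically closed field, `ξ` an object with a morphism to `x` (a
pullback of `x` to some scheme) and `σ` an endomorphism of `ξ` lying over the identity, `σ` is the
identity. -/
theorem result (S : Scheme.{u}) (𝒳 : AlgSt.Cat S)
    (h𝒳 : AlgSt.IsAlgStack Scheme.fppfPrecoverage 𝒳)
    (hΔ : AlgSt.RepByAlgSpWith (AlgSp.IsSeparatedMor ⊓ AlgSp.IsQuasiCompactMor) (FibCat.diag (FibCat.toSelf 𝒳))) :
    AlgSt.RepByAlgSp 𝒳 ↔
      ∀ (k : Type u) [Field k] [IsAlgClosed k] (x : 𝒳.obj) (e : (𝒳.p.obj x).left ≅ Spec (CommRingCat.of k))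
        (ξ : 𝒳.obj) (φ : ξ ⟶ x) (σ : ξ ⟶ ξ), 𝒳.p.map σ = 𝟙 (𝒳.p.obj ξ) → σ = 𝟙 ξ := by
  constructor
  · intro h k _ _ x e ξ φ σ hσ
    have := Groth.Agent.Fib.faithful_of_isFibSetoid _
      (Groth.Agent.AlgStB.isFibSetoid_of_repByAlgSp h𝒳.isStack.1 h)
    exact 𝒳.p.map_injective (hσ.trans (𝒳.p.map_id ξ).symm)
  · intro h
    exact Groth.Agent.AlgStB.repByAlgSp_of_trivial_geometric h𝒳 fun k _ _ s x hx ξ φ σ hσ =>
      h k x (eqToIso (by rw [hx]; rfl)) ξ φ σ hσ

end Groth.Agent.S16914
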