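import Groth.Statements.S16919
import Mathlib

set_option autoImplicit false
universe u
open TensorProduct
open CAlg

namespace Groth.Agent.S16919

open Cardinal in
theorem exists_iso {L K K' : Type u} [Field L] [Field K] [Field K'] [Algebra L K] [Algebra L K']
    [IsAlgClosed K] [IsAlgClosed K'] (h : Algebra.trdeg L K = Algebra.trdeg L K') :
    ∃ e : K ≃+* K', ∀ a : L, e (algebraMap L K a) = algebraMap L K' a := by
  obtain ⟨s, hv⟩ := exists_isTranscendenceBasis L K
  obtain ⟨t, hw⟩ := exists_isTranscendenceBasis L K'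
  rw [← hv.cardinalMk_eq_trdeg, ← hw.cardinalMk_eq_trdeg] at h
  obtain ⟨e⟩ := Cardinal.eq.mp h
  let e' := (hv.1.aevalEquiv.symm.trans (MvPolynomial.renameEquiv L e)).trans hw.1.aevalEquiv
  letI := IsAlgClosed.isAlgClosure_of_transcendence_basis _ hv
  letI := IsAlgClosed.isAlgClosure_of_transcendence_basis _ hw
  refine ⟨IsAlgClosure.equivOfEquiv K K' e'.toRingEquiv, fun a => ?_⟩
  rw [IsScalarTower.algebraMap_apply L (Algebra.adjoin L (Set.range ((↑) : s → K))) K,
    IsAlgClosure.equivOfEquiv_algebraMap]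
  show algebraMap _ K' (e' (algebraMap L _ a)) = _
  rw [AlgEquiv.commutes, ← IsScalarTower.algebraMap_apply]

open Cardinal in
theorem main {k₀ k R₀ R Ω : Type u} [Field k₀] [Field k] [Algebra k₀ k] [IsAlgClosed k]
    (hinf : ∃ x : ℕ → k, AlgebraicIndependent k₀ x)
    [CommRing R₀] [Algebra k₀ R₀] [Algebra.FiniteType k₀ R₀]
    [CommRing R] [IsDomain R] [Algebra k R] [Algebra.FiniteType k R] [Algebra k₀ R] [IsScalarTower k₀ k R]
    [Field Ω] [IsAlgClosed Ω] [Algebra R Ω] [FaithfulSMul R Ω] [Algebra.IsAlgebraic R Ω]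
    (inc : R₀ →ₐ[k₀] R) (f : R₀ →ₐ[k₀] k) (hinc : Function.Injective inc) (hf : Function.Injective f) :
    ∃ e : Ω ≃+* k, ∀ r, e (algebraMap R Ω (inc r)) = f r := by
  letI : Algebra k Ω := ((algebraMap R Ω).comp (algebraMap k R)).toAlgebra
  haveI : IsScalarTower k R Ω := IsScalarTower.of_algebraMap_eq fun _ => rfl
  letI : Algebra k₀ Ω := ((algebraMap R Ω).comp (algebraMap k₀ R)).toAlgebra
  haveI : IsScalarTower k₀ R Ω := IsScalarTower.of_algebraMap_eq fun _ => rfl
  haveI : IsScalarTower k₀ k Ω := IsScalarTower.of_algebraMap_eq fun c =>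
    congrArg (algebraMap R Ω) (IsScalarTower.algebraMap_apply k₀ k R c)
  letI : Algebra R₀ k := f.toRingHom.toAlgebra
  letI : Algebra R₀ Ω := ((algebraMap R Ω).comp inc.toRingHom).toAlgebra
  haveI : IsDomain R₀ := hinc.isDomain inc
  haveI : FaithfulSMul k₀ R₀ := (faithfulSMul_iff_algebraMap_injective _ _).mpr (algebraMap k₀ R₀).injective
  haveI : FaithfulSMul R₀ k := (faithfulSMul_iff_algebraMap_injective _ _).mpr hf
  haveI : FaithfulSMul R₀ Ω := (faithfulSMul_iff_algebraMap_injective _ _).mpr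
    ((FaithfulSMul.algebraMap_injective R Ω).comp hinc)
  haveI : IsScalarTower k₀ R₀ k := IsScalarTower.of_algebraMap_eq fun c => (f.commutes c).symm
  haveI : IsScalarTower k₀ R₀ Ω := IsScalarTower.of_algebraMap_eq fun c =>
    congrArg (algebraMap R Ω) (inc.commutes c).symm
  letI := FractionRing.liftAlgebra R₀ k
  letI := FractionRing.liftAlgebra R₀ Ω
  obtain ⟨x, hx⟩ := hinf
  have hak : ℵ₀ ≤ Algebra.trdeg k₀ k := by simpa using hx.lift_cardinalMk_le_trdeg
  have hR₀ : Algebra.trdeg k₀ R₀ < ℵ₀ := trdeg_lt_aleph0_of_finiteType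
  have hfin : Algebra.trdeg k R < ℵ₀ := trdeg_lt_aleph0_of_finiteType
  haveI : Algebra.IsAlgebraic R₀ (FractionRing R₀) := IsLocalization.isAlgebraic _ (nonZeroDivisors R₀)
  haveI : FaithfulSMul k R := (faithfulSMul_iff_algebraMap_injective _ _).mpr (algebraMap k R).injective
  have ek : Algebra.trdeg k₀ R₀ + Algebra.trdeg R₀ k = Algebra.trdeg k₀ k := trdeg_add_eq k₀ R₀
  have eK : Algebra.trdeg k₀ R₀ + Algebra.trdeg R₀ Ω = Algebra.trdeg k₀ Ω := trdeg_add_eq k₀ R₀
  have eK2 : Algebra.trdeg k₀ k + Algebra.trdeg k Ω = Algebra.trdeg k₀ Ω := trdeg_add_eq k₀ k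
  have eK3 : Algebra.trdeg k R + Algebra.trdeg R Ω = Algebra.trdeg k Ω := trdeg_add_eq k R
  rw [trdeg_eq_zero (R := R), add_zero] at eK3
  rw [← eK3, Cardinal.add_eq_left hak (hfin.le.trans hak)] at eK2
  have cancel : ∀ {a b c : Cardinal.{u}}, a + b = c → a < ℵ₀ → ℵ₀ ≤ c → b = c := by
    intro a b c h ha hc
    have hb : ℵ₀ ≤ b := by
      by_contra hb
      exact absurd hc (not_le.mpr (h ▸ Cardinal.add_lt_aleph0 ha (not_le.mp hb)))
    rw [← h, Cardinal.add_eq_right hb (ha.le.trans hb)]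
  have h1 := cancel ek hR₀ hak
  have h2 := cancel eK hR₀ (eK2 ▸ hak)
  have fk : Algebra.trdeg R₀ (FractionRing R₀) + Algebra.trdeg (FractionRing R₀) k = Algebra.trdeg R₀ k :=
    trdeg_add_eq R₀ (FractionRing R₀)
  have fK : Algebra.trdeg R₀ (FractionRing R₀) + Algebra.trdeg (FractionRing R₀) Ω = Algebra.trdeg R₀ Ω :=
    trdeg_add_eq R₀ (FractionRing R₀)
  rw [trdeg_eq_zero (R := R₀) (A := FractionRing R₀), zero_add] at fk fK
  obtain ⟨e, he⟩ := exists_iso (L := FractionRing R₀) (K := Ω) (K' := k) (by rw [fk, fK, h1, h2, ← eK2])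
  refine ⟨e, fun r => ?_⟩
  have := he (algebraMap R₀ (FractionRing R₀) r)
  rwa [← IsScalarTower.algebraMap_apply, ← IsScalarTower.algebraMap_apply] at this

/-- Let k₀ → k be an extension of fields with k algebraically closed and of infinite transcendence
degree over k₀, R₀ a finitely generated k₀-algebra whose base change R = k ⊗ R₀ is an integral
domain (so Spec R is an integral affine k-scheme of finite type with the model Spec R₀ over k₀), and
P a k-point of Spec R, i.e. a k-algebra homomorphism ev : R → k, lying over the generic point of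
Spec R₀, i.e. with ev injective on R₀. Then there is a field isomorphism e from an algebraic closure
of the fraction field of R (the function field of Spec R) onto k such that e(1 ⊗ r) = ev(1 ⊗ r) for
every r in R₀: e extends evaluation at P on R₀. (The published setting has k algebraically closed of
characteristic zero and of infinite transcendence degree over its prime field, and k₀ the subfield
generated by the coefficients of equations of Spec R, which is finitely generated over the prime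
field, so that k has infinite transcendence degree over k₀; only this last property and no
characteristic assumption enter here. The isomorphism is not canonical.) -/
theorem result (k₀ k : Type u)
    [Field k₀] [Field k] [Algebra k₀ k] [IsAlgClosed k] (hinf : ∃ x : ℕ → k, AlgebraicIndependent k₀ x)
    (R₀ : Type u) [CommRing R₀] [Algebra k₀ R₀] [Algebra.FiniteType k₀ R₀] [IsDomain (k ⊗[k₀] R₀)]
    (ev : k ⊗[k₀] R₀ →ₐ[k] k) (hP : Function.Injective fun r : R₀ => ev (1 ⊗ₜ[k₀] r)) :
    ∃ e : AlgebraicClosure (FractionRing (k ⊗[k₀] R₀)) ≃+* k,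
      ∀ r : R₀, e (algebraMap (k ⊗[k₀] R₀) (AlgebraicClosure (FractionRing (k ⊗[k₀] R₀)))
        (1 ⊗ₜ[k₀] r)) = ev (1 ⊗ₜ[k₀] r) := by
  haveI : Algebra.IsAlgebraic (k ⊗[k₀] R₀) (FractionRing (k ⊗[k₀] R₀)) :=
    IsLocalization.isAlgebraic _ (nonZeroDivisors (k ⊗[k₀] R₀))
  haveI : Algebra.IsAlgebraic (k ⊗[k₀] R₀) (AlgebraicClosure (FractionRing (k ⊗[k₀] R₀))) :=
    Algebra.IsAlgebraic.trans (k ⊗[k₀] R₀) (FractionRing (k ⊗[k₀] R₀)) _
  haveI : FaithfulSMul (k ⊗[k₀] R₀) (AlgebraicClosure (FractionRing (k ⊗[k₀] R₀))) :=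
    (faithfulSMul_iff_algebraMap_injective _ _).mpr (by
      rw [IsScalarTower.algebraMap_eq (k ⊗[k₀] R₀) (FractionRing (k ⊗[k₀] R₀))]
      exact (algebraMap (FractionRing (k ⊗[k₀] R₀)) _).injective.comp (IsFractionRing.injective _ _))
  exact main (k₀ := k₀) hinf (Algebra.TensorProduct.includeRight : R₀ →ₐ[k₀] k ⊗[k₀] R₀)
    ((ev.restrictScalars k₀).comp Algebra.TensorProduct.includeRight) (fun a b h => hP (show ev (1 ⊗ₜ[k₀] a) = ev (1 ⊗ₜ[k₀] b) from congrArg ev h)) hP

end Groth.Agent.S16919
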