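import Groth.Statements.S1692
import Mathlib
import Groth.Agent.VarLib.Noetherian

set_option autoImplicit false
universe u
open CategoryTheory CategoryTheory.Limits AlgebraicGeometry TopologicalSpace
open SDiv

namespace Groth.Agent.S1692

/-- Let X be a locally Noetherian integral scheme and f a nonzero rational function. Then the closures
of the codimension-one points at which f has nonzero order of vanishing form a locally finite family
of closed subsets of X. -/
theorem result (X : Scheme.{u}) [IsIntegral X] [IsLocallyNoetherian X] (f : ↑X.functionField) (hf : f ≠ 0) :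
    LocallyFinite (fun ξ : {ξ : ↥X // Order.coheight ξ = 1 ∧ Scheme.ord f ξ ≠ 0} => closure ({ξ.1} : Set ↥X)) := by
  intro x
  obtain ⟨_, ⟨V, hV, rfl⟩, hxV, -⟩ := X.isBasis_affineOpens.exists_subset_of_mem_open
    (Set.mem_univ x) isOpen_univ
  replace hV : IsAffineOpen V := hV
  refine ⟨V, V.2.mem_nhds hxV, ?_⟩
  have : Nonempty V := ⟨⟨x, hxV⟩⟩
  have := functionField_isFractionRing_of_isAffineOpen X V hV
  obtain ⟨⟨a, b⟩, hab⟩ := IsLocalization.surj (nonZeroDivisors Γ(X, V)) f
  let U : X.Opens := X.basicOpen a ⊓ X.basicOpen (b : Γ(X, V))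
  have hbK : algebraMap Γ(X, V) X.functionField (b : Γ(X, V)) ≠ 0 :=
    (IsLocalization.map_units X.functionField b).ne_zero
  have haK : algebraMap Γ(X, V) X.functionField a ≠ 0 := hab ▸ mul_ne_zero hf hbK
  have hgen : genericPoint X ∈ V :=
    ((genericPoint_spec X).mem_open_set_iff V.2).2 ⟨x, Set.mem_univ x, hxV⟩
  have hgU : genericPoint X ∈ U := by
    refine ⟨?_, ?_⟩
    · exact (X.mem_basicOpen a (genericPoint X) hgen).2 (isUnit_iff_ne_zero.2 haK)
    · exact (X.mem_basicOpen (b : Γ(X, V)) (genericPoint X) hgen).2 (isUnit_iff_ne_zero.2 hbK)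
  have hord : ∀ ξ ∈ U, Scheme.ord f ξ = 0 := by
    intro ξ hξ
    have : Nonempty (X.basicOpen a) := ⟨⟨ξ, hξ.1⟩⟩
    have : Nonempty (X.basicOpen (b : Γ(X, V))) := ⟨⟨ξ, hξ.2⟩⟩
    have ha : ∀ c : Γ(X, V), ∀ hn : Nonempty (X.basicOpen c), ξ ∈ X.basicOpen c →
        Scheme.ord (algebraMap Γ(X, V) X.functionField c) ξ = 0 := by
      intro c hn hc
      have e : algebraMap Γ(X, V) X.functionField c = X.germToFunctionField (X.basicOpen c)
          (X.presheaf.map (homOfLE (X.basicOpen_le c)).op c) :=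
        (X.presheaf.germ_res_apply (homOfLE (X.basicOpen_le c)) (genericPoint X) _ c).symm
      rw [e]
      have hu : IsUnit (X.presheaf.map (homOfLE (X.basicOpen_le c)).op c) :=
        RingedSpace.isUnit_res_basicOpen _ c
      exact Scheme.ord_of_isUnit (U := X.basicOpen c) hu hc
    have h1 := ha a inferInstance hξ.1
    rw [← hab, Scheme.ord_mul hf hbK, ha (b : Γ(X, V)) inferInstance hξ.2, add_zero] at h1
    exact h1
  have : TopologicalSpace.NoetherianSpace (V : Scheme.{u}) :=
    Groth.Agent.VarLib.noetherianSpace_of_isAffineOpen hV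
  let C : Set (V : Scheme.{u}) := (Subtype.val ⁻¹' (U : Set X))ᶜ
  have hC : IsClosed C := (U.2.preimage continuous_subtype_val).isClosed_compl
  refine ((Groth.Agent.VarLib.finite_maximal_points hC).image (fun v => (Subtype.val v : X))).preimage
    (Subtype.val_injective.injOn) |>.subset ?_
  rintro ⟨ξ, hξ1, hξ2⟩ ⟨y, hy, hyV⟩
  have hξV : ξ ∈ V := (specializes_iff_mem_closure.2 hy).mem_open V.2 hyV
  refine ⟨⟨ξ, hξV⟩, ⟨fun h => hξ2 (hord ξ h), fun η hη h => ?_⟩, rfl⟩
  by_contra hne
  have h1 : η.1 ⤳ ξ := h.map continuous_subtype_val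
  have hlt : ξ < η.1 := lt_of_le_not_ge (show ξ ≤ η.1 from h1) fun e : ξ ⤳ η.1 =>
    hne (Subtype.ext (h1.antisymm e).eq)
  have hlt2 : η.1 < genericPoint X := lt_of_le_not_ge
    (show η.1 ≤ genericPoint X from genericPoint_specializes _) fun e : η.1 ⤳ genericPoint X => hη
    (show η.1 ∈ U from e.mem_open U.2 hgU)
  have e1 := Order.coheight_add_one_le hlt
  have e2 := Order.coheight_add_one_le hlt2
  rw [hξ1] at e1
  have : (1 : ℕ∞) + 1 ≤ 1 := le_trans (add_le_add_left ((le_add_self).trans e2) 1) e1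
  exact absurd this (by decide)

end Groth.Agent.S1692
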