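import Groth.Statements.S1693
import Mathlib
import Groth.Agent.VarLib.Noetherian

set_option autoImplicit false
universe u
open CategoryTheory CategoryTheory.Limits AlgebraicGeometry TopologicalSpace
open SDiv

namespace Groth.Agent.S1693

theorem aux {α : Type u} [TopologicalSpace α] {Z : Set α} (hZ : IsClosed Z) {V : Set α}
    (hV : IsOpen V) [NoetherianSpace V] :
    {T : Set α | IsIrreducible T ∧ T ⊆ Z ∧ (T ∩ V).Nonempty ∧
      ∀ T' : Set α, IsIrreducible T' → T' ⊆ Z → T ⊆ T' → T' ⊆ T}.Finite := by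
  obtain ⟨S, hSf, hSc, hSi, hSU⟩ := NoetherianSpace.exists_finite_set_isClosed_irreducible
    (hZ.preimage (continuous_subtype_val (p := (· ∈ V))))
  refine (hSf.image fun t => closure (Subtype.val '' t)).subset ?_
  rintro T ⟨hT, hTZ, hne, hmax⟩
  have hTV : IsIrreducible (Subtype.val ⁻¹' T : Set V) :=
    ⟨let ⟨a, ha, ha'⟩ := hne; ⟨⟨a, ha'⟩, ha⟩, hT.2.preimage hV.isOpenEmbedding_subtypeVal⟩
  lift S to Finset (Set V) using hSf
  obtain ⟨t, htS, ht⟩ := isIrreducible_iff_sUnion_isClosed.1 hTV S hSc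
    (hSU ▸ Set.preimage_mono hTZ)
  refine ⟨t, htS, ?_⟩
  have h1 : T ⊆ closure (Subtype.val '' t) := by
    refine subset_trans ?_ (closure_mono (Set.image_mono ht))
    intro z hz
    rw [mem_closure_iff]
    intro W hW hzW
    obtain ⟨a, ha, haW, haV⟩ := hT.2 W V hW hV ⟨z, hz, hzW⟩ hne
    exact ⟨a, haW, ⟨a, haV⟩, ha, rfl⟩
  refine le_antisymm ?_ h1
  refine hmax _ ((hSi t htS).image _ continuous_subtype_val.continuousOn).closure ?_ h1
  refine closure_minimal (Set.image_subset_iff.2 ?_) hZ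
  rw [hSU]; exact Set.subset_sUnion_of_mem htS

/-- Let X be a locally Noetherian scheme and Z a closed subset. Then the irreducible components of Z
form a locally finite family of subsets of X. -/
theorem result (X : Scheme.{u}) [IsLocallyNoetherian X] (Z : Set ↥X) (hZ : IsClosed Z) :
    LocallyFinite (fun T : ↥(irreducibleComponents ↥Z) => ((↑) '' (T.1 : Set ↥Z) : Set ↥X)) := by
  intro x
  obtain ⟨_, ⟨V, hV, rfl⟩, hxV, -⟩ := X.isBasis_affineOpens.exists_subset_of_mem_open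
    (Set.mem_univ x) isOpen_univ
  have : NoetherianSpace ((V : X.Opens) : Set X) := Groth.Agent.VarLib.noetherianSpace_of_isAffineOpen hV
  refine ⟨V, V.2.mem_nhds hxV, ?_⟩
  refine ((aux hZ V.2).preimage ((Set.image_injective.2 Subtype.val_injective).comp
    Subtype.val_injective).injOn).subset ?_
  intro T hT
  have hi : IsIrreducible ((↑) '' (T.1 : Set ↥Z) : Set X) :=
    T.2.1.image _ continuous_subtype_val.continuousOn
  refine ⟨hi, Subtype.coe_image_subset _ _, hT, fun T' hT' hT'Z hle => ?_⟩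
  have h1 : IsIrreducible ((↑) ⁻¹' T' : Set ↥Z) := by
    refine ⟨let ⟨a, ha⟩ := hT'.1; ⟨⟨a, hT'Z ha⟩, ha⟩, ?_⟩
    rintro u v ⟨u', hu', rfl⟩ ⟨v', hv', rfl⟩ ⟨a, ha, hau⟩ ⟨b, hb, hbv⟩
    obtain ⟨c, hc, hcu, hcv⟩ := hT'.2 u' v' hu' hv' ⟨a.1, ha, hau⟩ ⟨b.1, hb, hbv⟩
    exact ⟨⟨c, hT'Z hc⟩, hc, hcu, hcv⟩
  intro a ha
  exact ⟨⟨a, hT'Z ha⟩, T.2.2 h1 (fun b hb => hle ⟨b, hb, rfl⟩) ha, rfl⟩

end Groth.Agent.S1693
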