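import Groth.Statements.S1694
import Groth.Agent.BlowExist.Descend

set_option autoImplicit false
universe u
open CategoryTheory CategoryTheory.Limits AlgebraicGeometry TopologicalSpace
open SDiv

namespace Groth.Agent.S1694

/-- Let X be a quasi-compact quasi-separated scheme, 𝓘 a quasi-coherent ideal sheaf of finite type, b :
X' ⟶ X a blowing-up along 𝓘, 𝓙 a quasi-coherent ideal sheaf of finite type on X' and b' : X'' ⟶ X' a
blowing-up along 𝓙. Then there is a quasi-coherent ideal sheaf 𝓚 of finite type on X whose support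
is the union of the support of 𝓘 and the image under b of the support of 𝓙, such that b' ≫ b is a
blowing-up of X along 𝓚. -/
theorem result (X : Scheme.{u}) [CompactSpace ↥X] [QuasiSeparatedSpace ↥X] {X' X'' : Scheme.{u}}
    (𝓘 : X.IdealSheafData) (h𝓘 : BlowUp.IsFiniteTypeIdeal 𝓘) (b : X' ⟶ X) (hb : BlowUp.IsBlowUp b 𝓘)
    (𝓙 : X'.IdealSheafData) (h𝓙 : BlowUp.IsFiniteTypeIdeal 𝓙) (b' : X'' ⟶ X') (hb' : BlowUp.IsBlowUp b' 𝓙) :
    ∃ 𝓚 : X.IdealSheafData, BlowUp.IsFiniteTypeIdeal 𝓚 ∧
      (𝓚.support : Set ↥X) = (𝓘.support : Set ↥X) ∪ (fun x' => b x') '' (𝓙.support : Set ↥X') ∧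
      BlowUp.IsBlowUp (b' ≫ b) 𝓚 := by
  obtain ⟨n, K₀, hfg, hle, hK⟩ := BlowExist.exists_descend_global h𝓘 hb h𝓙
  haveI : IsIso (b ∣_ ModPair.interior 𝓘) := S1682.result 𝓘 b hb
  refine ⟨𝓘 * K₀, fun U => ?_, ?_, BlowExist.isBlowUp_comp hb (n + 1) hK hb'⟩
  · rw [Scheme.IdealSheafData.ideal_mul, Pi.mul_apply]
    exact (h𝓘 U).mul (hfg U)
  · have hs : ∀ x' : X', b x' ∈ K₀.support ↔ x' ∈ 𝓙.support ∨ b x' ∈ 𝓘.support := fun x' => by
      have e := congrArg (fun A => x' ∈ A.support) hK
      simp only [Scheme.IdealSheafData.support_comap, Scheme.IdealSheafData.support_mul] at e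
      rw [Scheme.IdealSheafData.support_pow _ _ (Nat.succ_ne_zero n), Scheme.IdealSheafData.support_comap] at e
      exact Iff.of_eq e
    rw [Scheme.IdealSheafData.support_mul]
    ext x
    constructor
    · rintro (hx | hx)
      · exact Or.inl hx
      · by_cases hxI : x ∈ 𝓘.support
        · exact Or.inl hxI
        · obtain ⟨w, hw⟩ := (b ∣_ ModPair.interior 𝓘).surjective ⟨x, hxI⟩
          have hwx : b w.1 = x := by
            have h1 := congrArg Subtype.val hw
            rw [show ((b ∣_ ModPair.interior 𝓘) w).1 = b w.1 from congrArg (fun k => k.base w) (morphismRestrict_ι b _)] at h1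
            exact h1
          rcases (hs w.1).1 (hwx.symm ▸ hx) with h | h
          · exact Or.inr ⟨w.1, h, hwx⟩
          · exact absurd (hwx ▸ h) hxI
    · rintro (hx | ⟨x', hx', rfl⟩)
      · exact Or.inl hx
      · exact Or.inr ((hs x').2 (Or.inl hx'))

end Groth.Agent.S1694
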