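import Groth.Statements.S1695
import Groth.Agent.BlowExist.Main

set_option autoImplicit false
universe u
open CategoryTheory CategoryTheory.Limits AlgebraicGeometry TopologicalSpace
open SDiv

namespace Groth.Agent.S1695

/-- Let A be a ring, I an ideal, and b : X' ⟶ Spec A a blowing-up of Spec A along the ideal sheaf of I.
Then every point of X' has an open neighbourhood which is isomorphic, over Spec A, to the spectrum
of an affine blow-up algebra A[I/a] for some a ∈ I. -/
theorem result (A : Type u) [CommRing A] (I : Ideal A) {X' : Scheme.{u}}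
    (b : X' ⟶ Spec (CommRingCat.of A)) (hb : BlowUp.IsBlowUp b (Scheme.IdealSheafData.ofIdealTop (I.map (Scheme.ΓSpecIso (CommRingCat.of A)).inv.hom))) (x' : ↥X') :
    ∃ (a : A) (_ : a ∈ I) (V : X'.Opens) (e : (V : Scheme.{u}) ≅ Spec (CommRingCat.of ↥(BlowUp.affineAlgebra A I a))),
      x' ∈ V ∧ e.hom ≫ Spec.map (CommRingCat.ofHom (algebraMap A ↥(BlowUp.affineAlgebra A I a))) = V.ι ≫ b := by
  classical
  obtain ⟨i, hi⟩ := ModPairLib.exists_iso_of_isBlowUp hb (BlowExist.isBlowUp_toBase I)
  obtain ⟨S, x, hx⟩ := BlowExist.jointly_surjective I (i.hom x')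
  obtain ⟨s, hs⟩ := S.nonempty
  have hsI : s ∈ I := S.subset hs
  let T : BlowExist.Idx I := BlowExist.Idx.single I hsI
  have hST : S ≤ T := Finset.singleton_subset_iff.2 hs
  haveI : IsLocalization (Submonoid.powers s) (Localization.Away (∏ t ∈ T.carrier, t)) := by
    have h : (∏ t ∈ T.carrier, t) = s := Finset.prod_singleton _ _
    rw [h]
    infer_instance
  let E : Localization.Away (∏ t ∈ T.carrier, t) ≃ₐ[A] Localization.Away s :=
    IsLocalization.algEquiv (Submonoid.powers s) _ _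
  have hmap : (BlowExist.chart I T.carrier).map E.toAlgHom = BlowUp.affineAlgebra A I s := by
    rw [BlowExist.chart, AlgHom.map_adjoin, BlowUp.affineAlgebra]
    congr 1
    ext z
    constructor
    · rintro ⟨z, ⟨t, ht, y, hy, hz⟩, rfl⟩
      obtain rfl := Finset.mem_singleton.1 ht
      refine ⟨y, hy, IsLocalization.eq_mk'_iff_mul_eq.2 ?_⟩
      have := congrArg E hz
      rw [map_mul, AlgEquiv.commutes, AlgEquiv.commutes] at this
      exact (mul_comm _ _).trans this
    · rintro ⟨y, hy, rfl⟩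
      refine ⟨E.symm (IsLocalization.mk' _ y ⟨s, Submonoid.mem_powers s⟩), ⟨s, Finset.mem_singleton_self s, y, hy, ?_⟩, E.apply_symm_apply _⟩
      refine E.injective ?_
      rw [map_mul, E.apply_symm_apply, AlgEquiv.commutes, AlgEquiv.commutes]
      exact IsLocalization.mk'_spec' (Localization.Away s) y ⟨s, Submonoid.mem_powers s⟩
  let K : BlowExist.chart I T.carrier ≃ₐ[A] BlowUp.affineAlgebra A I s :=
    (E.subalgebraMap _).trans (Subalgebra.equivOfEq _ _ hmap)
  let W := (BlowExist.ι I T).opensRange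
  have hxW : i.hom x' ∈ W := by
    refine ⟨(Spec.map (CommRingCat.ofHom (BlowExist.trans I hST))) x, ?_⟩
    rw [← hx, ← Scheme.Hom.comp_apply, BlowExist.ι_trans]
  let k : Spec (CommRingCat.of (BlowUp.affineAlgebra A I s)) ⟶ X' :=
    Spec.map (CommRingCat.ofHom K.toRingEquiv.toRingHom) ≫ BlowExist.ι I T ≫ i.inv
  haveI : IsIso (Spec.map (CommRingCat.ofHom K.toRingEquiv.toRingHom)) :=
    inferInstanceAs (IsIso (Spec.map K.toRingEquiv.toCommRingCatIso.hom))
  haveI : IsOpenImmersion k := inferInstance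
  refine ⟨s, hsI, k.opensRange, k.isoOpensRange.symm, ?_, ?_⟩
  · obtain ⟨z, hz⟩ := hxW
    obtain ⟨z', rfl⟩ := (Spec.map (CommRingCat.ofHom K.toRingEquiv.toRingHom)).surjective z
    refine ⟨z', ?_⟩
    show i.inv ((BlowExist.ι I T) ((Spec.map (CommRingCat.ofHom K.toRingEquiv.toRingHom)) z')) = x'
    rw [hz, ← Scheme.Hom.comp_apply, i.hom_inv_id]
    rfl
  · rw [Iso.symm_hom, Iso.inv_comp_eq, Scheme.Hom.isoOpensRange_hom_ι_assoc]
    show _ = (_ ≫ _ ≫ i.inv) ≫ b
    rw [Category.assoc, Category.assoc, show i.inv ≫ b = BlowExist.toBase I by rw [← hi, Iso.inv_hom_id_assoc],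
      BlowExist.ι_toBase]
    refine Eq.trans ?_ (Spec.map_comp _ _)
    exact congrArg (fun f => Spec.map (CommRingCat.ofHom f)) K.toAlgHom.comp_algebraMap.symm

end Groth.Agent.S1695
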