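import Groth.Statements.S16962
import Groth.Agent.ConstActA.Comod

set_option autoImplicit false
universe u
open ConstAct

namespace Groth.Agent.S16962

open TensorProduct in
/-- Let R be a commutative ring, Γ a finite group and B a commutative R-algebra equipped with a comodule
structure over the Hopf algebra of R-valued functions on Γ (the coordinate ring of the constant
group scheme of Γ over Spec R, with basis the indicator functions e_γ) whose coaction B → B ⊗ Fun(Γ,
R) is a homomorphism of algebras, i.e. an action of the constant group scheme on Spec B. Then there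
is exactly one action of Γ on B by R-algebra automorphisms whose associated coaction b ↦ Σ_γ (γ · b)
⊗ e_γ is the given coaction; and for that action the ring of invariants of the comodule algebra (the
b whose coaction is b ⊗ 1) equals the ring of elements fixed by Γ. (That the coaction associated
with an action is a comodule algebra structure is the other direction of the published equivalence
and is a construction here.) -/
theorem result (R : Type u) [CommRing R]
    (B : Type u) [CommRing B] [Algebra R B] (Γ : Type u) [Group Γ] [Fintype Γ] [DecidableEq Γ]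
    [HopfRep.Comod R (ConstGrp.F R Γ) B] [GLin.IsCoactAlg R (ConstGrp.F R Γ) B] :
    ∃! a : MulSemiringAction Γ B, ∃ _ : SMulCommClass Γ R B,
      ConstAct.coactLin R B Γ = HopfRep.Comod.coact (k := R) (A := ConstGrp.F R Γ) (V := B) ∧
        GLin.invariants R (ConstGrp.F R Γ) B = ConstAct.inv R B Γ := by
  classical
  let co := HopfRep.Comod.coact (k := R) (A := ConstGrp.F R Γ) (V := B)
  let ρ : Γ → B →ₐ[R] B := fun g => (ConstActA.proj R B g).comp (GLin.coactAlgHom R (ConstGrp.F R Γ) B)
  have hρ : ∀ g b, ρ g b = ConstActA.proj R B g (co b) := fun g b => rfl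
  have hco : ∀ b, co b = ∑ g, ρ g b ⊗ₜ[R] ConstGrp.e R g := fun b => ConstActA.eq_sum_proj (co b)
  have hone : ∀ b, ρ 1 b = b := by
    intro b
    have h := LinearMap.congr_fun (HopfRep.Comod.counit_comp (k := R) (A := ConstGrp.F R Γ) (V := B)) b
    rw [LinearMap.comp_apply] at h
    change (CoalgebraStruct.counit (R := R) (A := ConstGrp.F R Γ)).lTensor B (co b) = b ⊗ₜ[R] (1 : R) at h
    rw [hco b, map_sum] at h
    simp only [LinearMap.lTensor_tmul, ConstGrp.counit_e, TensorProduct.tmul_ite, Finset.sum_ite_eq,
      Finset.mem_univ, if_true] at h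
    have h2 := congrArg (TensorProduct.rid R B) h
    simpa using h2
  have hmul : ∀ (g h : Γ) b, ρ (g * h) b = ρ g (ρ h b) := by
    intro g h b
    have e := LinearMap.congr_fun (HopfRep.Comod.coassoc (k := R) (A := ConstGrp.F R Γ) (V := B)) b
    rw [LinearMap.comp_apply, LinearMap.comp_apply, LinearMap.comp_apply, LinearEquiv.coe_coe] at e
    change TensorProduct.assoc R B _ _ (co.rTensor _ (co b)) =
      (CoalgebraStruct.comul (R := R) (A := ConstGrp.F R Γ)).lTensor B (co b) at e
    rw [hco b] at e
    simp only [map_sum, LinearMap.rTensor_tmul, LinearMap.lTensor_tmul, hco, TensorProduct.sum_tmul,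
      TensorProduct.assoc_tmul, ConstGrp.comul_e, TensorProduct.tmul_sum] at e
    let P : B ⊗[R] (ConstGrp.F R Γ ⊗[R] ConstGrp.F R Γ) →ₗ[R] B :=
      (TensorProduct.rid R B).toLinearMap ∘ₗ LinearMap.lTensor B
        (LinearMap.mul' R R ∘ₗ TensorProduct.map (ConstGrp.ev R g).toLinearMap (ConstGrp.ev R h).toLinearMap)
    have hP : ∀ (x : B) (p q : Γ), P (x ⊗ₜ[R] (ConstGrp.e R p ⊗ₜ[R] ConstGrp.e R q)) =
        if p = g ∧ q = h then x else 0 := by
      intro x p q
      simp only [P, LinearMap.comp_apply, LinearMap.lTensor_tmul, LinearEquiv.coe_coe,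
        TensorProduct.map_tmul, LinearMap.mul'_apply, AlgHom.toLinearMap_apply, ConstGrp.ev_apply,
        ConstGrp.e_apply, TensorProduct.rid_tmul]
      by_cases h1 : p = g <;> by_cases h2 : q = h <;> simp [h1, h2, Ne.symm] <;> intros <;> simp_all
    have e2 := congrArg P e
    simp only [map_sum, hP] at e2
    rw [Finset.sum_eq_single h] at e2
    rotate_left
    · intro x _ hx; exact Finset.sum_eq_zero fun y _ => if_neg fun hh => hx hh.2
    · intro hh; exact absurd (Finset.mem_univ _) hh
    rw [Finset.sum_eq_single g] at e2
    rotate_left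
    · intro x _ hx; exact if_neg fun hh => hx hh.1
    · intro hh; exact absurd (Finset.mem_univ _) hh
    rw [if_pos ⟨rfl, rfl⟩, Finset.sum_eq_single (g * h)] at e2
    rotate_left
    · intro x _ hx
      refine Finset.sum_eq_zero fun y _ => if_neg fun hh => hx ?_
      rw [← hh.2, hh.1, mul_inv_cancel_left]
    · intro hh; exact absurd (Finset.mem_univ _) hh
    rw [Finset.sum_eq_single g] at e2
    rotate_left
    · intro x _ hx; exact if_neg fun hh => hx hh.1
    · intro hh; exact absurd (Finset.mem_univ _) hh
    rw [if_pos ⟨rfl, inv_mul_cancel_left _ _⟩] at e2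
    exact e2.symm
  let act : MulSemiringAction Γ B :=
    { smul := fun g b => ρ g b
      one_smul := hone
      mul_smul := hmul
      smul_zero := fun g => map_zero (ρ g)
      smul_add := fun g => map_add (ρ g)
      smul_one := fun g => map_one (ρ g)
      smul_mul := fun g => map_mul (ρ g) }
  refine ⟨act, ?_, ?_⟩
  · have hc : @SMulCommClass Γ R B act.toSMul _ := @SMulCommClass.mk Γ R B act.toSMul _ fun g r b => map_smul (ρ g) r b
    refine ⟨hc, ?_, ?_⟩
    · apply LinearMap.ext
      intro b
      rw [@ConstAct.coactLin_apply R _ B _ _ Γ _ _ _ act hc]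
      exact (hco b).symm
    · apply SetLike.ext
      intro b
      rw [GLin.mem_invariants_iff]
      constructor
      · intro hb g
        show ρ g b = b
        rw [hρ]
        show ConstActA.proj R B g (HopfRep.Comod.coact b) = b
        rw [hb, ConstActA.proj_tmul, ConstGrp.one_apply, one_smul]
      · intro hb
        have : ∀ g, ρ g b = b := hb
        show co b = _
        rw [hco b]
        simp only [this]
        rw [← TensorProduct.tmul_sum, ConstGrp.sum_e]
  · rintro a ⟨hc, heq, -⟩
    have key : ∀ g b, a.smul g b = act.smul g b := by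
      intro g b
      show a.smul g b = ρ g b
      rw [hρ]
      show _ = ConstActA.proj R B g (HopfRep.Comod.coact b)
      rw [← heq, @ConstAct.coactLin_apply R _ B _ _ Γ _ _ _ a hc, ConstActA.proj_sum_tmul_e]
      rfl
    rcases a with @⟨@⟨@⟨@⟨@⟨s⟩, _⟩, _⟩, _, _⟩, _, _⟩
    have hs : s = fun g b => ρ g b := funext fun g => funext fun b => key g b
    subst hs
    rfl

end Groth.Agent.S16962
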