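import Groth.Statements.S16963
import Groth.Agent.ConstActA.Comod

set_option autoImplicit false
universe u
open scoped BigOperators
open ConstAct

namespace Groth.Agent.S16963

open TensorProduct in
/-- Let R be a commutative ring and Γ a finite group acting on a commutative R-algebra B by R-algebra
automorphisms; regard B as a comodule algebra over the Hopf algebra of R-valued functions on Γ (the
constant group scheme of Γ acting on Spec B) through the coaction b ↦ Σ_γ (γ · b) ⊗ e_γ. Then the
action is tame — there is a comodule map α from the Hopf algebra, with its regular coaction, to B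
with α(1) = 1 (a total integral) — if and only if the trace b ↦ Σ_γ γ · b, which takes values in the
ring of invariants B^Γ, maps B onto B^Γ. -/
theorem result (R : Type u) [CommRing R]
    (B : Type u) [CommRing B] [Algebra R B] (Γ : Type u) [Group Γ] [Fintype Γ] [DecidableEq Γ]
    [MulSemiringAction Γ B] [SMulCommClass Γ R B] :
    letI := ConstAct.comod R B Γ
    (∃ α : ConstGrp.F R Γ →ₗ[R] B, Hoch.IsComodHom (ConstGrp.F R Γ) α ∧ α 1 = 1) ↔
      ∀ c : B, c ∈ ConstAct.inv R B Γ → ∃ b : B, ∑ γ : Γ, γ • b = c := by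
  classical
  let _ := ConstAct.comod R B Γ
  have hco : ∀ b : B, HopfRep.Comod.coact (k := R) (A := ConstGrp.F R Γ) b =
      ∑ g, (g • b) ⊗ₜ[R] ConstGrp.e R g := fun b => ConstAct.coactLin_apply R B Γ b
  have hcomul : ∀ k : Γ, HopfRep.Comod.coact (k := R) (A := ConstGrp.F R Γ) (ConstGrp.e R k) =
      ∑ a : Γ, ConstGrp.e R a ⊗ₜ[R] ConstGrp.e R (a⁻¹ * k) := fun k => ConstGrp.comul_e R Γ k
  constructor
  · rintro ⟨α, hα, h1⟩ c hc
    have key : ∀ g : Γ, g • α (ConstGrp.e R 1) = α (ConstGrp.e R g⁻¹) := by
      intro g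
      have h := congrArg (ConstActA.proj R B g) (LinearMap.congr_fun hα (ConstGrp.e R 1))
      rw [LinearMap.comp_apply, LinearMap.comp_apply, hco, hcomul, map_sum (LinearMap.rTensor _ α),
        ConstActA.proj_sum_tmul_e] at h
      rw [h, map_sum, Finset.sum_eq_single g⁻¹]
      · rw [LinearMap.rTensor_tmul, ConstActA.proj_tmul_e, if_pos (by rw [inv_inv, mul_one])]
      · intro x _ hx
        rw [LinearMap.rTensor_tmul, ConstActA.proj_tmul_e, if_neg]
        intro hh; exact hx (by rw [hh, mul_one, inv_inv])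
      · intro hh; exact absurd (Finset.mem_univ _) hh
    refine ⟨c * α (ConstGrp.e R 1), ?_⟩
    have hc' : ∀ g : Γ, g • c = c := hc
    simp only [smul_mul', hc', key, ← Finset.mul_sum, ← map_sum]
    have hs : (∑ g : Γ, ConstGrp.e R g⁻¹) = 1 := by
      rw [← ConstGrp.sum_e (R := R) (G := Γ)]
      exact Fintype.sum_equiv (Equiv.inv Γ) _ _ fun g => rfl
    rw [hs, h1, mul_one]
  · intro h
    obtain ⟨b, hb⟩ := h 1 (fun g => smul_one g)
    refine ⟨(ConstGrp.basis R Γ).constr R fun k => k⁻¹ • b, ?_, ?_⟩
    · apply ConstGrp.linearMap_ext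
      intro k
      rw [LinearMap.comp_apply, LinearMap.comp_apply, hco, hcomul, map_sum (LinearMap.rTensor _ _)]
      simp only [LinearMap.rTensor_tmul, ← ConstGrp.basis_apply, Module.Basis.constr_basis]
      simp only [ConstGrp.basis_apply]
      refine Fintype.sum_equiv ((Equiv.inv Γ).trans (Equiv.mulLeft k)) _ _ fun g => ?_
      simp [smul_smul, mul_inv_rev]
    · rw [← ConstGrp.sum_e (R := R) (G := Γ), map_sum]
      simp only [← ConstGrp.basis_apply, Module.Basis.constr_basis]
      rw [← hb]
      exact Fintype.sum_equiv (Equiv.inv Γ) _ _ fun g => rfl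

end Groth.Agent.S16963
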