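import Groth.Statements.S16979
import Mathlib.LinearAlgebra.Eigenspace.Charpoly
import Mathlib.LinearAlgebra.Eigenspace.Minpoly
import Mathlib.LinearAlgebra.Matrix.Charpoly.LinearMap
import Mathlib.FieldTheory.Separable
import Mathlib.LinearAlgebra.Matrix.Charpoly.Minpoly
import Mathlib.FieldTheory.IsAlgClosed.AlgebraicClosure
import Mathlib.Algebra.Polynomial.Splits

set_option autoImplicit false
universe u v
open CAlg

namespace Groth.Agent.S16979

/-- Let R be an integral domain with fraction field K and φ a square matrix over R whose characteristic
polynomial becomes separable in K[T] (equivalently, K[T] modulo the characteristic polynomial is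
geometrically reduced over K). Then a polynomial f over R satisfies f(φ) = 0 exactly when the
characteristic polynomial of φ divides f in R[T]: the kernel of evaluation at φ (the minimal ideal
of φ) is the principal ideal generated by the characteristic polynomial. -/
theorem result
    {R : Type u} [CommRing R] [IsDomain R] {n : Type v} [Fintype n] [DecidableEq n]
    (φ : Matrix n n R)
    (hsep : (φ.charpoly.map (algebraMap R (FractionRing R))).Separable) :
    RingHom.ker (Polynomial.aeval (R := R) φ) = Ideal.span {φ.charpoly} := by
  open Polynomial in
  let K := FractionRing R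
  let L := AlgebraicClosure K
  let f := algebraMap R L
  refine le_antisymm (fun g hg => ?_) ?_
  · rw [Ideal.mem_span_singleton, ← map_dvd_map f ((FaithfulSMul.algebraMap_injective R K) |> fun h => by
      show Function.Injective (algebraMap R L)
      rw [IsScalarTower.algebraMap_eq R K L]
      exact (algebraMap K L).injective.comp h) φ.charpoly_monic]
    have hg' : Polynomial.aeval φ g = 0 := hg
    have hz : Polynomial.aeval (φ.map f) (g.map f) = 0 := by
      let F : Matrix n n R →ₐ[R] Matrix n n L := (Algebra.ofId R L).mapMatrix
      rw [Polynomial.aeval_map_algebraMap, show φ.map f = F φ from rfl, Polynomial.aeval_algHom_apply, hg', map_zero]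
    rw [← Matrix.charpoly_map]
    rcases eq_or_ne (g.map f) 0 with h0 | h0
    · rw [h0]; exact dvd_zero _
    have hsep' : (φ.map f).charpoly.Separable := by
      rw [Matrix.charpoly_map, show f = (algebraMap K L).comp (algebraMap R K) from IsScalarTower.algebraMap_eq R K L, ← Polynomial.map_map]
      exact hsep.map
    refine (IsAlgClosed.splits _).dvd_of_roots_le_roots (Matrix.charpoly_monic _).ne_zero ?_
    rw [Multiset.le_iff_subset (Polynomial.nodup_roots hsep')]
    intro μ hμ
    rw [Polynomial.mem_roots (Matrix.charpoly_monic _).ne_zero] at hμ
    rw [Polynomial.mem_roots h0]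
    let T : Module.End L (n → L) := Matrix.toLin' (φ.map f)
    have hev : T.HasEigenvalue μ := by
      rw [Module.End.hasEigenvalue_iff_isRoot_charpoly, Matrix.charpoly_toLin']
      exact hμ
    obtain ⟨v, hv⟩ := hev.exists_hasEigenvector
    have h1 := Module.End.aeval_apply_of_hasEigenvector (p := g.map f) hv
    have h2 : Polynomial.aeval T (g.map f) = 0 := by
      rw [show T = Matrix.toLinAlgEquiv' (φ.map f) from rfl, Polynomial.aeval_algHom_apply, hz, map_zero]
    rw [h2, LinearMap.zero_apply] at h1
    exact (smul_eq_zero.mp h1.symm).resolve_right hv.2
  · rw [Ideal.span_le, Set.singleton_subset_iff]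
    exact Matrix.aeval_self_charpoly φ

end Groth.Agent.S16979
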