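import Groth.Statements.S16981
import Mathlib
import Groth.Agent.CAlgCompl.Basic
import Groth.Agent.CAlgH.DecayLocal

set_option autoImplicit false
universe u v
open CAlg

namespace Groth.Agent.S16981

theorem isAdicComplete_of_ringEquiv {B : Type v} {R : Type u} [CommRing B] [CommRing R] (e : B ≃+* R) (I : Ideal B)
    [h : IsAdicComplete (I.map e) R] : IsAdicComplete I B := by
  have key : ∀ (n : ℕ) (x : B), x ∈ (I ^ n • ⊤ : Submodule B B) ↔
      e x ∈ ((I.map e) ^ n • ⊤ : Submodule R R) := fun n x => by
    rw [smul_eq_mul, Ideal.mul_top, smul_eq_mul, Ideal.mul_top, ← Ideal.map_pow,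
      Ideal.mem_map_iff_of_surjective e e.surjective]
    exact ⟨fun hx => ⟨x, hx, rfl⟩, fun ⟨y, hy, hye⟩ => e.injective hye ▸ hy⟩
  exact
    { haus' := fun x hx => e.injective ((h.haus' (e x) fun n => by
        rw [SModEq.zero, ← key]
        exact SModEq.zero.mp (hx n)).trans (map_zero e).symm)
      prec' := fun f hf => by
        obtain ⟨L, hL⟩ := h.prec' (fun n => e (f n)) fun {m n} hmn => by
          rw [SModEq.sub_mem, ← map_sub, ← key]
          exact SModEq.sub_mem.mp (hf hmn)
        exact ⟨e.symm L, fun n => by
          rw [SModEq.sub_mem, key, map_sub, e.apply_symm_apply]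
          exact SModEq.sub_mem.mp (hL n)⟩ }


/-- Let A be a complete Noetherian local ring and f : E → A a surjective ring homomorphism whose kernel
has square zero and is finitely generated (equivalently, is a finite A-module for the induced module
structure). Then E is separated and complete for the adic topology of the inverse image of the
maximal ideal of A. (The published statement takes A to be the completion of a local ring of a
scheme of finite type over an Artinian local ring and the kernel the completion of a finite module;
this row assumes only that A is complete Noetherian local and the kernel finitely generated.) -/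
theorem result
    {A : Type u} {E : Type v} [CommRing A] [CommRing E] [IsNoetherianRing A] [IsLocalRing A]
    [IsAdicComplete (IsLocalRing.maximalIdeal A) A]
    (f : E →+* A) (hf : Function.Surjective f)
    (hsq : RingHom.ker f ^ 2 = ⊥) (hfg : (RingHom.ker f).FG) :
    IsAdicComplete ((IsLocalRing.maximalIdeal A).comap f) E := by
  let N := RingHom.ker f
  haveI : IsAdicComplete N E := CAlgH.Decay.isAdicComplete_of_pow_smul_eq_bot N 2 (by rw [smul_eq_mul, Ideal.mul_top, hsq])
  let e : E ⧸ N ≃+* A := RingHom.quotientKerEquivOfSurjective hf
  haveI : IsNoetherianRing (E ⧸ N) := isNoetherianRing_of_ringEquiv A e.symm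
  haveI : IsNoetherianRing E := Groth.Agent.CAlgCompl.isNoetherianRing_of_isAdicComplete N hfg
  let J := (IsLocalRing.maximalIdeal A).comap f
  haveI : IsAdicComplete ((J.map (Ideal.Quotient.mk N)).map e) A := by
    have hm : (J.map (Ideal.Quotient.mk N)).map e = IsLocalRing.maximalIdeal A := by
      rw [← Ideal.map_coe e, Ideal.map_map]
      have : (e : E ⧸ N →+* A).comp (Ideal.Quotient.mk N) = f := RingHom.ext fun x => rfl
      rw [this, Ideal.map_comap_of_surjective f hf]
    rw [hm]; infer_instance
  haveI := isAdicComplete_of_ringEquiv e (J.map (Ideal.Quotient.mk N))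
  exact Groth.Agent.CAlgCompl.isAdicComplete_of_quotient N J

end Groth.Agent.S16981
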