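import Groth.Statements.S16982
import Mathlib
import Groth.Agent.MvPSLib.Eval
import Groth.Agent.S16981

set_option autoImplicit false
universe u v w w'
open CAlg

namespace Groth.Agent.S16982

open Groth.Agent.FSAdic

theorem algHom_ext_complete {R : Type*} [CommRing R] {B : Type*} [CommRing B] [Algebra R B] (J : Ideal B)
    [IsHausdorff J B] {n : ℕ} (g g' : MvPowerSeries (Fin n) R →ₐ[R] B) (h : ∀ i, g (MvPowerSeries.X i) = g' (MvPowerSeries.X i))
    (hJ : ∀ i, g (MvPowerSeries.X i) ∈ J) : g = g' := by
  refine AlgHom.ext fun p => sub_eq_zero.1 (IsHausdorff.haus' (I := J) _ fun N => ?_)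
  rw [SModEq.zero, smul_eq_mul, Ideal.mul_top, ← Ideal.Quotient.eq_zero_iff_mem, map_sub, sub_eq_zero]
  have hvan : ∀ φ : MvPowerSeries (Fin n) R →ₐ[R] B, (∀ i, φ (MvPowerSeries.X i) ∈ J) →
      ∀ x ∈ augIdeal R n ^ N, (Ideal.Quotient.mkₐ R (J ^ N)).comp φ x = 0 := by
    intro φ hφ x hx
    rw [AlgHom.comp_apply, Ideal.Quotient.mkₐ_eq_mk, Ideal.Quotient.eq_zero_iff_mem]
    have h1 : (augIdeal R n).map φ ≤ J := by
      rw [Groth.Agent.MvPSLib.map_augIdeal, Ideal.span_le]
      rintro _ ⟨i, rfl⟩
      exact hφ i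
    exact Ideal.pow_right_mono h1 N (Ideal.map_pow φ (augIdeal R n) N ▸ Ideal.mem_map_of_mem φ hx)
  exact AlgHom.congr_fun (algHom_ext_of_vanish N (hvan g hJ) (hvan g' fun i => h i ▸ hJ i)
    fun i => by simp [h i]) p


/-- Let R be a commutative ring, A a complete Noetherian local R-algebra written as a quotient of a
power series ring over R in finitely many variables by a surjective R-algebra map π, and f : E → A a
surjective R-algebra map whose kernel has square zero and is finitely generated. Then π lifts along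
f to an R-algebra map λ from the power series ring to E with f ∘ λ = π. (The published statement
takes R Artinian local and asks for a lift that is continuous for the adic topologies; this row
allows any commutative R and asks for any lift.) -/
theorem result
    {R : Type u} [CommRing R] {σ : Type v} [Finite σ]
    {A : Type w} {E : Type w'} [CommRing A] [CommRing E] [Algebra R A] [Algebra R E]
    [IsNoetherianRing A] [IsLocalRing A] [IsAdicComplete (IsLocalRing.maximalIdeal A) A]
    (π : MvPowerSeries σ R →ₐ[R] A) (hπ : Function.Surjective π)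
    (f : E →ₐ[R] A) (hf : Function.Surjective f)
    (hsq : RingHom.ker f.toRingHom ^ 2 = ⊥) (hfg : (RingHom.ker f.toRingHom).FG) :
    ∃ l : MvPowerSeries σ R →ₐ[R] E, f.comp l = π := by
  haveI := Fintype.ofFinite σ
  let e := Fintype.equivFin σ
  let ρ : MvPowerSeries (Fin (Fintype.card σ)) R ≃ₐ[R] MvPowerSeries σ R := MvPowerSeries.renameEquiv R e.symm
  let π' : MvPowerSeries (Fin (Fintype.card σ)) R →ₐ[R] A := π.comp ρ.toAlgHom
  have hπ' : Function.Surjective π' := hπ.comp ρ.surjective
  have hm : ∀ i, π' (MvPowerSeries.X i) ∈ IsLocalRing.maximalIdeal A := by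
    intro i
    rw [← IsLocalRing.jacobson_eq_maximalIdeal (⊥ : Ideal A) bot_ne_top, Ideal.mem_jacobson_bot]
    intro a
    obtain ⟨b, rfl⟩ := hπ' a
    rw [← map_mul, ← map_one π', ← map_add]
    refine IsUnit.map π' (MvPowerSeries.isUnit_iff_constantCoeff.2 ?_)
    simp
  haveI : IsAdicComplete ((IsLocalRing.maximalIdeal A).comap f.toRingHom) E :=
    Groth.Agent.S16981.result f.toRingHom hf hsq hfg
  choose z hz using fun i => hf (π' (MvPowerSeries.X i))
  obtain ⟨ψ, hψ⟩ := Groth.Agent.MvPSLib.exists_algHom (A := R) ((IsLocalRing.maximalIdeal A).comap f.toRingHom) z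
    (fun i => by rw [Ideal.mem_comap]; show f (z i) ∈ _; rw [hz]; exact hm i)
  have hcomp : f.comp ψ = π' :=
    algHom_ext_complete (IsLocalRing.maximalIdeal A) _ _ (fun i => by rw [AlgHom.comp_apply, hψ, hz])
      (fun i => by rw [AlgHom.comp_apply, hψ, hz]; exact hm i)
  refine ⟨ψ.comp ρ.symm.toAlgHom, AlgHom.ext fun p => ?_⟩
  show f (ψ (ρ.symm p)) = π p
  rw [← AlgHom.comp_apply, hcomp]
  show π (ρ (ρ.symm p)) = π p
  rw [ρ.apply_symm_apply]

end Groth.Agent.S16982
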