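import Groth.Statements.S16983
import Mathlib.Tactic.FieldSimp
import Mathlib.Algebra.Order.BigOperators.Group.Finset
import Mathlib.Data.Int.GCD
import Mathlib.Algebra.BigOperators.Ring.Finset
import Mathlib.RingTheory.Coprime.Lemmas
import Mathlib.Tactic.Linarith
import Mathlib.Tactic.Push
import Mathlib.Tactic.Ring

set_option autoImplicit false
universe u
open DeformData

namespace Groth.Agent.S16983

/-- Let p be a prime, s ≥ 1, B a finite index set with a subset B₀ of exactly three elements, m_j ≥ 1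
integers coprime to p, and σ_{i,j} (i < s, j ∈ B) rational numbers with m_j σ_{i,j} an integer, such
that Σ_j (σ_{i,j} − 1) = −2 for every i, the fractional part of σ_{i,j} equals that of p^i σ_{0,j},
no σ_{i,j} equals 1, and the minimum over i of ⌊σ_{i,j}⌋ is 0 for j ∈ B₀ and 1 for j ∉ B₀. Then for
every i the fractional parts ⟨σ_{i,j}⟩ sum over j to 1 (purity), and ⌊σ_{i,j}⌋ is 0 on B₀ and 1 off
B₀ for every i. (The hypotheses are exactly the properties of the signature of a special deformation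
datum on the projective line: each entry is an integer divided by a stabilizer order m_j in a group
of order prime to p, the degree identity coming from Riemann–Hurwitz, the Frobenius-twist relation
between fractional parts, and the speciality conditions; the statement is given here for any such
tuple.) -/
theorem result
    {B : Type u} [Fintype B] [DecidableEq B] (B₀ : Finset B) (hB₀ : B₀.card = 3)
    (p : ℕ) (hp : p.Prime) (s : ℕ) (hs : 0 < s)
    (m : B → ℕ) (hm : ∀ j, 0 < m j) (hmp : ∀ j, Nat.Coprime (m j) p)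
    (σ : Fin s → B → ℚ) (hint : ∀ i j, ∃ h : ℤ, σ i j = (h : ℚ) / (m j : ℚ))
    (hsum : ∀ i, ∑ j, (σ i j - 1) = -2)
    (hfract : ∀ i j, Int.fract (σ i j) = Int.fract ((p : ℚ) ^ (i : ℕ) * σ ⟨0, hs⟩ j))
    (hne : ∀ i j, σ i j ≠ 1)
    (hB₀min : ∀ j ∈ B₀, (∃ i, ⌊σ i j⌋ = 0) ∧ ∀ i, 0 ≤ ⌊σ i j⌋)
    (hBmin : ∀ j ∉ B₀, (∃ i, ⌊σ i j⌋ = 1) ∧ ∀ i, 1 ≤ ⌊σ i j⌋) :
    (∀ i, ∑ j, Int.fract (σ i j) = 1) ∧ (∀ i j, ⌊σ i j⌋ = if j ∈ B₀ then 0 else 1) := by
  classical
  have hfl : ∀ i j, (if j ∈ B₀ then (0 : ℤ) else 1) ≤ ⌊σ i j⌋ := by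
    intro i j
    split
    · exact (hB₀min j ‹_›).2 i
    · exact (hBmin j ‹_›).2 i
  have hcard : ∑ j : B, (if j ∈ B₀ then (0 : ℤ) else 1) = (Fintype.card B : ℤ) - 3 := by
    have : ∀ j : B, (if j ∈ B₀ then (0 : ℤ) else 1) = 1 - if j ∈ B₀ then (1 : ℤ) else 0 := by
      intro j; split <;> simp
    simp [this, Finset.sum_sub_distrib, hB₀]
  have hσ : ∀ i, ∑ j, σ i j = (Fintype.card B : ℚ) - 2 := by
    intro i
    have h1 := hsum i
    rw [Finset.sum_sub_distrib] at h1
    simp at h1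
    linarith
  have key : ∀ i, ∑ j, Int.fract (σ i j) =
      (Fintype.card B : ℚ) - 2 - ((∑ j, ⌊σ i j⌋ : ℤ) : ℚ) := by
    intro i
    rw [← hσ i, Int.cast_sum, ← Finset.sum_sub_distrib]
    rfl
  have hle : ∀ i, (Fintype.card B : ℤ) - 3 ≤ ∑ j, ⌊σ i j⌋ := fun i =>
    hcard ▸ Finset.sum_le_sum fun j _ => hfl i j
  have hnz : ∀ i, ∑ j, Int.fract (σ i j) ≠ 0 := by
    intro i h0
    have hz : ∀ j, Int.fract (σ i j) = 0 := fun j =>
      (Finset.sum_eq_zero_iff_of_nonneg fun j _ => Int.fract_nonneg _).mp h0 j (Finset.mem_univ _)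
    have h00 : ∀ j, Int.fract (σ ⟨0, hs⟩ j) = 0 := by
      intro j
      obtain ⟨a, ha⟩ := hint ⟨0, hs⟩ j
      have h1 : Int.fract ((p : ℚ) ^ (i : ℕ) * σ ⟨0, hs⟩ j) = 0 := (hfract i j).symm.trans (hz j)
      obtain ⟨b, hb⟩ := Int.fract_eq_zero_iff.mp h1
      rw [ha] at hb
      have hm0 : (m j : ℚ) ≠ 0 := by exact_mod_cast (hm j).ne'
      field_simp at hb
      have hb' : (p : ℤ) ^ (i : ℕ) * a = (m j : ℤ) * b := by
        have : ((p : ℤ) ^ (i : ℕ) * a : ℚ) = ((m j : ℤ) : ℚ) * (b : ℚ) := by push_cast; linarith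
        exact_mod_cast this
      have hd : (m j : ℤ) ∣ a := by
        refine IsCoprime.dvd_of_dvd_mul_left ?_ ⟨b, hb'⟩
        exact (hmp j).isCoprime.pow_right
      obtain ⟨c, hc⟩ := hd
      refine Int.fract_eq_zero_iff.mpr ⟨c, ?_⟩
      rw [ha, hc]
      push_cast
      field_simp
    have hzero : ∀ i' j, (⌊σ i' j⌋ : ℚ) = σ i' j := by
      intro i' j
      obtain ⟨b, hb⟩ := Int.fract_eq_zero_iff.mp (h00 j)
      have : Int.fract (σ i' j) = 0 := by
        rw [hfract i' j, ← hb]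
        exact Int.fract_eq_zero_iff.mpr ⟨(p : ℤ) ^ (i' : ℕ) * b, by push_cast; ring⟩
      linarith [Int.floor_add_fract (σ i' j)]
    have hall : ∀ j, j ∈ B₀ := by
      intro j
      by_contra hj
      obtain ⟨i', hi'⟩ := (hBmin j hj).1
      exact hne i' j (by rw [← hzero i' j, hi']; norm_num)
    have hc3 : Fintype.card B = 3 := by
      rw [← Finset.card_univ, ← hB₀]
      congr 1
      exact (Finset.eq_univ_of_forall hall).symm
    have hS : ∑ j, ⌊σ i j⌋ = 1 := by
      have h1 := key i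
      rw [h0, hc3] at h1
      push_cast at h1
      exact_mod_cast (show ((∑ j, ⌊σ i j⌋ : ℤ) : ℚ) = 1 by push_cast; linarith)
    obtain ⟨j, -, hj⟩ : ∃ j ∈ (Finset.univ : Finset B), 0 < ⌊σ i j⌋ := by
      by_contra hcon
      push Not at hcon
      have := Finset.sum_nonpos hcon
      omega
    have hj1 : ⌊σ i j⌋ ≤ 1 := hS ▸ Finset.single_le_sum
      (fun j _ => (hB₀min j (hall j)).2 i) (Finset.mem_univ j)
    exact hne i j (by rw [← hzero i j, show ⌊σ i j⌋ = 1 by omega]; norm_num)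
  have main : ∀ i, ∑ j, ⌊σ i j⌋ = (Fintype.card B : ℤ) - 3 := by
    intro i
    refine le_antisymm ?_ (hle i)
    have h1 : 0 ≤ ∑ j, Int.fract (σ i j) := Finset.sum_nonneg fun j _ => Int.fract_nonneg _
    have h2 := lt_of_le_of_ne h1 (hnz i).symm
    rw [key i] at h2
    have : ((∑ j, ⌊σ i j⌋ : ℤ) : ℚ) < (((Fintype.card B : ℤ) - 2 : ℤ) : ℚ) := by
      push_cast at h2 ⊢; linarith
    have := Int.cast_lt.mp this
    omega
  refine ⟨fun i => ?_, fun i j => ?_⟩
  · rw [key i, main i]; push_cast; ring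
  · exact ((Finset.sum_eq_sum_iff_of_le fun j _ => hfl i j).mp (hcard.trans (main i).symm) j
      (Finset.mem_univ j)).symm

end Groth.Agent.S16983
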