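import Groth.Statements.S16984
import Mathlib

set_option autoImplicit false
universe u v w
open Hoch

namespace Groth.Agent.S16984

open scoped TensorProduct


open TensorProduct in
/-- Let k be a commutative ring, A a commutative k-bialgebra that is flat over k (the coordinate ring of
a flat affine group scheme over Spec k; flatness and commutativity are the standing hypotheses of
the appendix and are not needed for the assertion) and P a k-module. Then p ↦ p ⊗ 1 is an injection
of P into the induced comodule P ⊗ A (coaction id ⊗ Δ) whose image is exactly the submodule of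
invariants, i.e. the elements with coaction x ↦ x ⊗ 1. (The published statement writes the
coordinate-ring factor on the left and calls this module coinduced; this row is its degree-zero
part, the identification of P with the invariants of the coinduced module.) -/
theorem result (k : Type u) [CommRing k] (A : Type v) [CommRing A] [Bialgebra k A]
    [Module.Flat k A] (P : Type w) [AddCommGroup P] [Module k P] :
    Function.Injective ((Hoch.Ind.equiv k A P).toLinearMap ∘ₗ (TensorProduct.mk k P A).flip (1 : A)) ∧
    LinearMap.range ((Hoch.Ind.equiv k A P).toLinearMap ∘ₗ (TensorProduct.mk k P A).flip (1 : A)) =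
      HopfRep.fixedPts k A (Hoch.Ind k A P) := by
  set ι : P →ₗ[k] Hoch.Ind k A P := (Hoch.Ind.equiv k A P).toLinearMap ∘ₗ (TensorProduct.mk k P A).flip (1 : A) with hι
  refine ⟨?_, ?_⟩
  · intro p q h
    have h2 := congrArg (Hoch.Ind.counit k A P) h
    simpa [hι] using h2
  · ext x
    constructor
    · rintro ⟨p, rfl⟩
      show @Eq ((P ⊗[k] A) ⊗[k] A) _ ((p ⊗ₜ[k] (1 : A)) ⊗ₜ[k] (1 : A))
      refine (Hoch.Ind.coact_equiv_tmul k A P p 1).trans ?_
      rw [Bialgebra.comul_one, Algebra.TensorProduct.one_def, TensorProduct.assoc_symm_tmul]
    · intro hx
      let y : P ⊗[k] A := (Hoch.Ind.equiv k A P).symm x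
      let L : (P ⊗[k] A) ⊗[k] A →ₗ[k] P ⊗[k] A :=
        ((TensorProduct.rid k P).toLinearMap ∘ₗ (Coalgebra.counit (R := k) (A := A)).lTensor P).rTensor A
      have hL : ∀ y : P ⊗[k] A, L (Hoch.Ind.coactAux k A P y) = y := by
        intro y
        induction y using TensorProduct.induction_on with
        | zero => simp
        | add u v hu hv => simp only [map_add, hu, hv]
        | tmul p a =>
          rw [Hoch.Ind.coactAux_tmul]
          have key : ∀ z : A ⊗[k] A, L ((TensorProduct.assoc k P A A).symm (p ⊗ₜ[k] z)) =
              p ⊗ₜ[k] (TensorProduct.lid k A ((Coalgebra.counit (R := k) (A := A)).rTensor A z)) := by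
            intro z
            induction z using TensorProduct.induction_on with
            | zero => simp
            | add u v hu hv => simp only [map_add, TensorProduct.tmul_add, hu, hv]
            | tmul b c => simp [L, TensorProduct.tmul_smul, TensorProduct.smul_tmul']
          rw [key, Coalgebra.rTensor_counit_comul]
          simp
      have hx' : Hoch.Ind.coactAux k A P y = y ⊗ₜ[k] (1 : A) := hx
      refine ⟨Hoch.Ind.counit k A P x, ?_⟩
      have h2 := congrArg L hx'
      rw [hL] at h2
      show ((Hoch.Ind.counit k A P x) ⊗ₜ[k] (1 : A)) = y
      exact h2.symm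

end Groth.Agent.S16984
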