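import Groth.Statements.S16985
import Mathlib

set_option autoImplicit false
universe u v
open Hoch

namespace Groth.Agent.S16985

open scoped TensorProduct
noncomputable def contract (k : Type u) [CommRing k] (A : Type v) [CommRing A] [Bialgebra k A]
    (P : Type v) [AddCommGroup P] [Module k P] : (n : ℕ) →
    ((Hoch.cochain k A (Hoch.Ind k A P) (n + 1) : Type v) →ₗ[k] (Hoch.cochain k A (Hoch.Ind k A P) n : Type v))
  | 0 => (Hoch.Ind.equiv k A P).toLinearMap ∘ₗ (Hoch.Ind.counit k A P).rTensor A
  | n + 1 => (contract k A P n).rTensor A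

lemma tail_natural {k : Type u} [CommRing k] {A : Type v} [CommRing A] [Bialgebra k A]
    {M N : Type v} [AddCommGroup M] [Module k M] [AddCommGroup N] [Module k N] (f : M →ₗ[k] N) (x : M ⊗[k] A) :
    (f.rTensor A).rTensor A (Hoch.tail k A M x) = Hoch.tail k A N (f.rTensor A x) := by
  induction x using TensorProduct.induction_on with
  | zero => simp
  | add u v hu hv => simp only [map_add, hu, hv]
  | tmul m a =>
    rw [LinearMap.rTensor_tmul, Hoch.tail_tmul, Hoch.tail_tmul]
    induction (Coalgebra.comul (R := k) a - a ⊗ₜ 1 - 1 ⊗ₜ a) using TensorProduct.induction_on with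
    | zero => simp
    | add u v hu hv => simp only [map_add, TensorProduct.tmul_add, hu, hv]
    | tmul b c => simp

lemma contract_spec (k : Type u) [CommRing k] (A : Type v) [CommRing A] [Bialgebra k A]
    (P : Type v) [AddCommGroup P] [Module k P] (n : ℕ) (y : Hoch.cochain k A (Hoch.Ind k A P) (n + 1)) :
    contract k A P (n + 1) (Hoch.d k A (Hoch.Ind k A P) (n + 1) y) +
      Hoch.d k A (Hoch.Ind k A P) n (contract k A P n y) = y := by
  induction n with
  | zero =>
    induction y using TensorProduct.induction_on with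
    | zero => simp only [map_zero]; exact add_zero (0 : (Hoch.cochain k A (Hoch.Ind k A P) 1 : Type v))
    | add u v hu hv =>
      simp only [map_add]
      refine (add_add_add_comm _ _ _ _).trans ?_
      exact congrArg₂ (· + ·) hu hv
    | tmul x a =>
      let z : P ⊗[k] A := Hoch.Ind.counit k A P x ⊗ₜ[k] a
      have hc : contract k A P 0 (x ⊗ₜ[k] a) = Hoch.Ind.equiv k A P z := rfl
      have hd1 : contract k A P 1 (Hoch.d k A (Hoch.Ind k A P) 1 (x ⊗ₜ[k] a)) =
          (contract k A P 0 (Hoch.d k A (Hoch.Ind k A P) 0 x)) ⊗ₜ[k] a -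
            (show (Hoch.Ind k A P) ⊗[k] A from Hoch.tail k A P z) := by
        show contract k A P 1 ((Hoch.d k A (Hoch.Ind k A P) 0).rTensor A (x ⊗ₜ[k] a) +
          ((-1 : k) ^ 1) • Hoch.tail k A (Hoch.Ind k A P) (x ⊗ₜ[k] a)) = _
        rw [map_add, map_smul, pow_one]
        erw [neg_one_smul k]
        rw [← sub_eq_add_neg]
        refine congrArg₂ (· - ·) ?_ ?_
        · rfl
        · exact tail_natural (Hoch.Ind.counit k A P) (x ⊗ₜ[k] a)
      rw [hd1, hc]
      have h0 : contract k A P 0 (Hoch.d k A (Hoch.Ind k A P) 0 x) =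
          x - Hoch.Ind.equiv k A P (Hoch.Ind.counit k A P x ⊗ₜ[k] (1 : A)) := by
        rw [Hoch.d_zero_apply]
        show Hoch.Ind.equiv k A P ((Hoch.Ind.counit k A P).rTensor A (_ - _)) = _
        rw [map_sub, map_sub, LinearMap.rTensor_tmul]
        refine congrArg₂ (· - ·) ?_ rfl
        show (Hoch.Ind.counit k A P).rTensor A (Hoch.Ind.coactAux k A P x) = _
        let L : (P ⊗[k] A) ⊗[k] A →ₗ[k] P ⊗[k] A :=
          ((TensorProduct.rid k P).toLinearMap ∘ₗ (Coalgebra.counit (R := k) (A := A)).lTensor P).rTensor A
        have hL : ∀ y : P ⊗[k] A, L (Hoch.Ind.coactAux k A P y) = y := by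
          intro y
          induction y using TensorProduct.induction_on with
          | zero => simp
          | add u v hu hv => simp only [map_add, hu, hv]
          | tmul p b =>
            rw [Hoch.Ind.coactAux_tmul]
            have key : ∀ w : A ⊗[k] A, L ((TensorProduct.assoc k P A A).symm (p ⊗ₜ[k] w)) =
                p ⊗ₜ[k] (TensorProduct.lid k A ((Coalgebra.counit (R := k) (A := A)).rTensor A w)) := by
              intro w
              induction w using TensorProduct.induction_on with
              | zero => simp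
              | add u v hu hv => simp only [map_add, TensorProduct.tmul_add, hu, hv]
              | tmul c e => simp [L, TensorProduct.tmul_smul, TensorProduct.smul_tmul']
            rw [key, Coalgebra.rTensor_counit_comul]
            simp
        exact hL x
      rw [h0, TensorProduct.sub_tmul]
      have hd0 : Hoch.d k A (Hoch.Ind k A P) 0 (Hoch.Ind.equiv k A P z) =
          (show (Hoch.Ind k A P) ⊗[k] A from Hoch.Ind.coactAux k A P z) - (Hoch.Ind.equiv k A P z) ⊗ₜ[k] (1 : A) := rfl
      rw [hd0]
      have ht : (show (Hoch.Ind k A P) ⊗[k] A from Hoch.tail k A P z) =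
          (show (Hoch.Ind k A P) ⊗[k] A from Hoch.Ind.coactAux k A P z) - (Hoch.Ind.equiv k A P z) ⊗ₜ[k] (1 : A) -
            (Hoch.Ind.equiv k A P (Hoch.Ind.counit k A P x ⊗ₜ[k] (1 : A))) ⊗ₜ[k] a := by
        show (TensorProduct.assoc k P A A).symm (Hoch.Ind.counit k A P x ⊗ₜ[k] (Coalgebra.comul (R := k) a - a ⊗ₜ 1 - 1 ⊗ₜ a)) = _
        rw [TensorProduct.tmul_sub, TensorProduct.tmul_sub, map_sub, map_sub]
        rfl
      rw [ht]
      refine Eq.trans ?_ (rfl : x ⊗ₜ[k] a = _)
      abel
  | succ n ih =>
    induction y using TensorProduct.induction_on with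
    | zero => simp only [map_zero]; exact add_zero (0 : (Hoch.cochain k A (Hoch.Ind k A P) (n + 2) : Type v))
    | add u v hu hv =>
      simp only [map_add]
      refine (add_add_add_comm _ _ _ _).trans ?_
      exact congrArg₂ (· + ·) hu hv
    | tmul m a =>
      have h1 : contract k A P (n + 2) (Hoch.d k A (Hoch.Ind k A P) (n + 2) (m ⊗ₜ[k] a)) =
          (contract k A P (n + 1) (Hoch.d k A (Hoch.Ind k A P) (n + 1) m)) ⊗ₜ[k] a +
            ((-1 : k) ^ (n + 2)) • Hoch.tail k A (Hoch.cochain k A (Hoch.Ind k A P) n) (contract k A P n m ⊗ₜ[k] a) := by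
        show contract k A P (n + 2) ((Hoch.d k A (Hoch.Ind k A P) (n + 1)).rTensor A (m ⊗ₜ[k] a) +
          ((-1 : k) ^ (n + 2)) • Hoch.tail k A (Hoch.cochain k A (Hoch.Ind k A P) (n + 1)) (m ⊗ₜ[k] a)) = _
        rw [map_add, map_smul]
        refine congrArg₂ (· + ·) rfl (congrArg _ ?_)
        exact tail_natural (contract k A P n) (m ⊗ₜ[k] a)
      have h2 : Hoch.d k A (Hoch.Ind k A P) (n + 1) (contract k A P (n + 1) (m ⊗ₜ[k] a)) =
          (Hoch.d k A (Hoch.Ind k A P) n (contract k A P n m)) ⊗ₜ[k] a +
            ((-1 : k) ^ (n + 1)) • Hoch.tail k A (Hoch.cochain k A (Hoch.Ind k A P) n) (contract k A P n m ⊗ₜ[k] a) := rfl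
      rw [h1, h2, pow_succ, mul_neg, mul_one]
      refine Eq.trans ?_ (congrArg (fun t => t ⊗ₜ[k] a) (ih m))
      rw [TensorProduct.add_tmul]
      module


open TensorProduct in
/-- Let k be a commutative ring, A a commutative k-bialgebra flat over k (the coordinate ring of a flat
affine group scheme over Spec k; flatness and commutativity are the standing hypotheses of the
appendix and are not needed for the assertion) and P a k-module. Then the cochain complex of the
induced comodule P ⊗ A (coaction id ⊗ Δ), with n-cochains (P ⊗ A) ⊗ A ⊗ ⋯ ⊗ A, has every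
(n+1)-cocycle an (n+1)-coboundary, for all n. (The published statement is the vanishing of the
higher derived functors of invariants on coinduced modules; this row states the vanishing in
positive degrees of the cohomology of the cochain complex above, which the same appendix identifies
with those derived functors. P is taken in the universe of A, as the cochain modules require.) -/
theorem result (k : Type u) [CommRing k] (A : Type v) [CommRing A]
    [Bialgebra k A] [Module.Flat k A] (P : Type v) [AddCommGroup P] [Module k P] (n : ℕ) :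
    Hoch.cocycles k A (Hoch.Ind k A P) (n + 1) ≤ Hoch.coboundaries k A (Hoch.Ind k A P) (n + 1) := by
  intro y hy
  refine ⟨contract k A P n y, ?_⟩
  have h := contract_spec k A P n y
  have hy' : Hoch.d k A (Hoch.Ind k A P) (n + 1) y = 0 := hy
  rw [hy', map_zero] at h
  exact (zero_add _).symm.trans h

end Groth.Agent.S16985
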