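import Groth.Statements.S8854
import Groth.Agent.CartierSum.Main

set_option autoImplicit false
universe u
open SDiv

namespace Groth.Agent.S8854

/-- Let R be a Noetherian unique factorisation domain and I ⊆ R an ideal such that every associated
prime of R/I is minimal over I (R/I has no embedded primes) and every prime minimal over I has
height 1. Then I is principal: it is generated by one element. -/
theorem result (R : Type u) [CommRing R] [IsDomain R] [IsNoetherianRing R]
    [UniqueFactorizationMonoid R] (I : Ideal R)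
    (h1 : ∀ p : Ideal R, p ∈ associatedPrimes R (R ⧸ I) → p ∈ I.minimalPrimes)
    (h2 : ∀ p : Ideal R, p ∈ I.minimalPrimes → p.height = 1) :
    ∃ f : R, I = Ideal.span {f} := by
  classical
  have hP : ∀ p ∈ I.minimalPrimes, ∃ π ∈ nonZeroDivisors R, p = Ideal.span {π} := by
    intro p hp
    haveI := hp.1.1
    have hpb : p ≠ ⊥ := fun h => by
      have := h2 p hp
      rw [h, Ideal.height_bot] at this
      exact zero_ne_one this
    obtain ⟨π, hπp, hπ⟩ := Ideal.IsPrime.exists_mem_prime_of_ne_bot hp.1.1 hpb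
    refine ⟨π, mem_nonZeroDivisors_of_ne_zero hπ.ne_zero, ?_⟩
    haveI : (Ideal.span {π}).IsPrime := (Ideal.span_singleton_prime hπ.ne_zero).2 hπ
    by_contra hne
    have hlt : Ideal.span {π} < p :=
      lt_of_le_of_ne ((Ideal.span_singleton_le_iff_mem _).2 hπp) (Ne.symm hne)
    have h0 := Ideal.height_strict_mono_of_isPrime_of_isPrime hlt
    rw [h2 p hp, Order.lt_one_iff, Ideal.height_eq_zero_iff, IsDomain.minimalPrimes_eq_singleton_bot,
      Set.mem_singleton_iff, Ideal.span_singleton_eq_bot] at h0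
    exact hπ.ne_zero h0
  have hn : ∀ p ∈ I.minimalPrimes, ∃ n : ℕ, I ≤ p ^ n ∧ ¬ I ≤ p ^ (n + 1) := by
    intro p hp
    haveI := hp.1.1
    have hex : ∃ n, ¬ I ≤ p ^ n := by
      by_contra! h
      have hI : I = ⊥ := le_bot_iff.1 ((le_iInf h).trans (Ideal.iInf_pow_eq_bot_of_isDomain p hp.1.1.ne_top).le)
      have := h2 p hp
      rw [hI] at hp
      replace hp : p ∈ minimalPrimes R := hp
      rw [IsDomain.minimalPrimes_eq_singleton_bot] at hp
      rw [Set.mem_singleton_iff.1 hp, Ideal.height_bot] at this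
      exact zero_ne_one this
    refine ⟨Nat.find hex - 1, not_not.1 (Nat.find_min hex (Nat.sub_lt (Nat.pos_of_ne_zero fun h => ?_) one_pos)), ?_⟩
    · exact Nat.find_spec hex (by rw [h, pow_zero, Ideal.one_eq_top]; exact le_top)
    · rw [Nat.sub_add_cancel (Nat.one_le_iff_ne_zero.2 fun h => Nat.find_spec hex (by rw [h, pow_zero, Ideal.one_eq_top]; exact le_top))]
      exact Nat.find_spec hex
  choose! n hle hnle using hn
  choose! π hπ0 hπ using hP
  have hfin : (I.minimalPrimes).Finite := Ideal.finite_minimalPrimes_of_isNoetherianRing R I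
  let S := hfin.toFinset
  have hS : ∀ p, p ∈ S ↔ p ∈ I.minimalPrimes := fun p => hfin.mem_toFinset
  have hprime : ∀ p ∈ S, p.IsPrime := fun p hp => ((hS p).1 hp).1.1
  have hmul : ∏ p ∈ S, p ^ n p = Ideal.span {∏ p ∈ S, π p ^ n p} := by
    rw [← Ideal.prod_span_singleton]
    refine Finset.prod_congr rfl fun p hp => ?_
    rw [← Ideal.span_singleton_pow, ← hπ p ((hS p).1 hp)]
  refine ⟨∏ p ∈ S, π p ^ n p, le_antisymm ?_ ?_⟩
  · rw [← hmul]
    intro g hg
    exact Groth.Agent.CartierSum.mem_prod_pow (fun p => p) n S hprime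
      (fun p hp => ⟨π p, hπ0 p ((hS p).1 hp), hπ p ((hS p).1 hp)⟩)
      (fun p hp q hq hne h => hne (le_antisymm h (((hS q).1 hq).2 ((hS p).1 hp).1 h))) g
      fun p hp => ⟨1, (hprime p hp).one_notMem, by rw [one_mul]; exact hle p ((hS p).1 hp) hg⟩
  · rw [Ideal.span_singleton_le_iff_mem]
    by_contra hf
    obtain ⟨p, hp, hann⟩ := exists_le_isAssociatedPrime_of_isNoetherianRing R
      (Ideal.Quotient.mk I (∏ p ∈ S, π p ^ n p)) (fun h => hf (Ideal.Quotient.eq_zero_iff_mem.1 h))
    have hpm := h1 p hp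
    obtain ⟨g, hgI, hg⟩ := SetLike.not_le_iff_exists.1 (hnle p hpm)
    obtain ⟨c, hc⟩ : ∃ c, g = π p ^ n p * c := by
      have : g ∈ Ideal.span {π p} ^ n p := by rw [← hπ p hpm]; exact hle p hpm hgI
      simp only [Ideal.span_singleton_pow, Ideal.mem_span_singleton] at this
      exact this
    have hcp : c ∉ p := fun h => hg (by
      rw [hc, pow_succ]; exact Ideal.mul_mem_mul (Ideal.pow_mem_pow
        ((hπ p hpm).ge (Ideal.mem_span_singleton_self _)) _) h)
    refine hcp (hann ?_)
    rw [Submodule.mem_colon_singleton, Submodule.mem_bot]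
    change Ideal.Quotient.mk I (c * ∏ p ∈ S, π p ^ n p) = 0
    rw [Ideal.Quotient.eq_zero_iff_mem, ← Finset.mul_prod_erase S (fun p => π p ^ n p) ((hS p).2 hpm),
      ← mul_assoc, mul_comm c, ← hc]
    exact Ideal.mul_mem_right _ _ hgI

end Groth.Agent.S8854
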