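import Groth.Statements.S1700
import Groth.Agent.DivPts.Cartier
import Groth.Agent.DivPts.Basic
import Groth.Agent.AssPtsMore.Basic
import Groth.Agent.S8854
-- import your own Groth.Agent.* helpers here

set_option autoImplicit false
universe u
open CategoryTheory CategoryTheory.Limits AlgebraicGeometry TopologicalSpace
open SDiv

namespace Groth.Agent.S1700

theorem key_point (X : Scheme.{u}) [IsLocallyNoetherian X] (D : X.IdealSheafData) (U : X.affineOpens)
    {y : X} (hy : y ∈ (U : X.Opens)) (a : Γ(X, U.1))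
    (hq : ∀ r : Γ(X, U.1), r ∈ (U.2.primeIdealOf ⟨y, hy⟩).asIdeal ↔ r * a ∈ D.ideal U) :
    ∃ z : D.subscheme, D.subschemeι z = y ∧
      IsAssociatedPrime (IsLocalRing.maximalIdeal ↑(D.subscheme.presheaf.stalk z))
        ↑(D.subscheme.presheaf.stalk z) := by
  have hyD : y ∈ D.support := (DivPts.mem_support_iff_le_prime D U hy).2
    fun r hr => (hq r).2 (Ideal.mul_mem_right _ _ hr)
  obtain ⟨z, hz⟩ : y ∈ Set.range D.subschemeι := D.range_subschemeι ▸ hyD
  refine ⟨z, hz, ?_⟩
  haveI := LocallyOfFiniteType.isLocallyNoetherian D.subschemeι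
  rw [AssPtsMore.isAssociatedPrime_stalk_iff]
  haveI := AssPts.isQuasicoherent_structureModule D.subscheme
  have hV : IsAffineOpen (D.subschemeι ⁻¹ᵁ U.1) := U.2.preimage D.subschemeι
  have hzV : z ∈ D.subschemeι ⁻¹ᵁ U.1 := show D.subschemeι z ∈ U.1 from hz ▸ hy
  haveI : IsNoetherianRing Γ(D.subscheme, D.subschemeι ⁻¹ᵁ U.1) :=
    IsLocallyNoetherian.component_noetherian ⟨_, hV⟩
  rw [AssPts.mem_ass_iff (Coh.structureModule D.subscheme) hV z hzV]
  have hmap := AssPts.primeIdealOf_map D.subschemeι hV U.2 le_rfl z hzV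
  subst hz
  rw [Scheme.Hom.appLE_eq_app] at hmap
  refine ⟨(hV.primeIdealOf ⟨z, hzV⟩).isPrime, (D.subschemeι.app U.1).hom a, ?_⟩
  ext b
  refine Iff.trans ?_ (Submodule.mem_annihilator_span_singleton
    (R := Γ(D.subscheme, D.subschemeι ⁻¹ᵁ U.1))
    (M := Γ(Coh.structureModule D.subscheme, D.subschemeι ⁻¹ᵁ U.1)) _ _).symm
  obtain ⟨r, rfl⟩ := D.subschemeι_app_surjective U b
  have h1 : (D.subschemeι.app U.1).hom r ∈ (hV.primeIdealOf ⟨z, hzV⟩).asIdeal ↔
      r ∈ (U.2.primeIdealOf ⟨D.subschemeι z, hy⟩).asIdeal := by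
    rw [hmap]; rfl
  rw [h1, hq r, ← D.ker_subschemeι_app U, RingHom.mem_ker, map_mul]
  exact Iff.rfl

theorem result_aux {A R : Type u} [CommRing A] [CommRing R] [Algebra A R] (p : Ideal A)
    [p.IsPrime] [IsLocalization.AtPrime R p] [IsNoetherianRing A] (I : Ideal A) (q : Ideal R)
    (hq : q ∈ associatedPrimes R (R ⧸ I.map (algebraMap A R))) :
    ∃ a : A, ∀ r : A, r ∈ q.comap (algebraMap A R) ↔ r * a ∈ I := by
  classical
  haveI : IsNoetherianRing R := IsLocalization.isNoetherianRing p.primeCompl _ ‹_›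
  obtain ⟨hqp, w, hw⟩ := isAssociatedPrime_iff.1 hq
  obtain ⟨x, rfl⟩ := Ideal.Quotient.mk_surjective w
  obtain ⟨⟨a, s⟩, has⟩ := IsLocalization.surj p.primeCompl x
  have hsu := IsLocalization.map_units R s
  have hmem : ∀ y : R, y ∈ q ↔ y * algebraMap A R a ∈ I.map (algebraMap A R) := fun y => by
    rw [hw, Submodule.mem_colon_singleton, Submodule.mem_bot, ← Ideal.Quotient.mk_eq_mk,
      ← Submodule.Quotient.mk_smul, Submodule.Quotient.mk_eq_zero, smul_eq_mul, ← has, ← mul_assoc,
      Ideal.mul_unit_mem_iff_mem _ hsu]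
  have hex : ∀ r : A, r ∈ q.comap (algebraMap A R) → ∃ t ∈ p.primeCompl, t * (r * a) ∈ I := by
    intro r hr
    rw [Ideal.mem_comap, hmem, ← map_mul,
      IsLocalization.algebraMap_mem_map_algebraMap_iff p.primeCompl R] at hr
    exact hr
  obtain ⟨S, hS⟩ := IsNoetherian.noetherian (q.comap (algebraMap A R))
  choose t ht htI using hex
  let T : A := ∏ g ∈ S.attach, t g.1 (hS ▸ Submodule.subset_span g.2)
  have hT : T ∈ p.primeCompl := prod_mem fun g _ => ht _ _
  refine ⟨T * a, fun r => ⟨fun hr => ?_, fun hr => ?_⟩⟩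
  · rw [← hS] at hr
    have : Submodule.span A (S : Set A) ≤ I.colon {T * a} := Submodule.span_le.2 fun g hg => by
      rw [SetLike.mem_coe, Submodule.mem_colon_singleton, smul_eq_mul]
      obtain ⟨c, hc⟩ := Finset.dvd_prod_of_mem
        (fun g : {x // x ∈ S} => t g.1 (hS ▸ Submodule.subset_span g.2)) (Finset.mem_attach S ⟨g, hg⟩)
      have := I.mul_mem_left c (htI g (hS ▸ Submodule.subset_span hg))
      rw [show g * (T * a) = c * (t g (hS ▸ Submodule.subset_span hg) * (g * a)) by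
        simp only [T, hc]; ring]
      exact this
    have h2 := this hr
    rwa [Submodule.mem_colon_singleton, smul_eq_mul] at h2
  · rw [Ideal.mem_comap, hmem, ← map_mul]
    have := Ideal.mem_map_of_mem (algebraMap A R) hr
    rw [show r * (T * a) = T * (r * a) by ring, map_mul] at this
    exact (Ideal.unit_mul_mem_iff_mem _ (IsLocalization.map_units R ⟨T, hT⟩)).1 this

/-- Let X be a Noetherian scheme and 𝓘 a quasi-coherent ideal sheaf with closed subscheme Z such that
(1) Z has no embedded points: every point of Z whose local ring has its maximal ideal associated is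
a maximal point of Z; (2) every maximal point of Z has codimension 1 in X (the local ring of X there
has dimension 1); (3) the local ring of X at every point of Z is a unique factorisation domain. Then
𝓘 is the ideal sheaf of an effective Cartier divisor. -/
theorem result (X : Scheme.{u}) [IsNoetherian X] (𝓘 : X.IdealSheafData)
    (h1 : ∀ z : ↥𝓘.subscheme, IsAssociatedPrime (IsLocalRing.maximalIdeal ↑(𝓘.subscheme.presheaf.stalk z)) ↑(𝓘.subscheme.presheaf.stalk z) → ∀ z' : ↥𝓘.subscheme, z' ⤳ z → z' = z)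
    (h2 : ∀ z : ↥𝓘.subscheme, (∀ z' : ↥𝓘.subscheme, z' ⤳ z → z' = z) →
      ringKrullDim (X.presheaf.stalk (𝓘.subschemeι z)) = 1)
    (h3 : ∀ x : ↥X, x ∈ 𝓘.support → IsDomain (X.presheaf.stalk x) ∧ UniqueFactorizationMonoid (X.presheaf.stalk x)) :
    BlowUp.IsEffCartierIdeal 𝓘 := by
  refine DivPts.isEffCartierIdeal_of_stalk 𝓘 fun x hx U hxU => ?_
  obtain ⟨_, _⟩ := h3 x hx
  haveI := IsLocallyNoetherian.component_noetherian U
  letI := (X.presheaf.germ U.1 x hxU).hom.toAlgebra
  haveI : IsLocalization.AtPrime (X.presheaf.stalk x) (U.2.primeIdealOf ⟨x, hxU⟩).asIdeal :=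
    U.2.isLocalization_stalk ⟨x, hxU⟩
  haveI : IsNoetherianRing (X.presheaf.stalk x) :=
    IsLocalization.isNoetherianRing (U.2.primeIdealOf ⟨x, hxU⟩).asIdeal.primeCompl _ ‹_›
  set p := (U.2.primeIdealOf ⟨x, hxU⟩).asIdeal
  change ∃ g : X.presheaf.stalk x, g ∈ nonZeroDivisors (X.presheaf.stalk x) ∧
    (𝓘.ideal U).map (algebraMap Γ(X, U.1) (X.presheaf.stalk x)) = Ideal.span {g}
  set J := (𝓘.ideal U).map (algebraMap Γ(X, U.1) (X.presheaf.stalk x)) with hJ
  have key : ∀ q : Ideal (X.presheaf.stalk x),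
      q ∈ associatedPrimes (X.presheaf.stalk x) (X.presheaf.stalk x ⧸ J) →
      q ∈ J.minimalPrimes ∧ q.height = 1 := by
    intro q hq
    haveI : q.IsPrime := hq.isPrime
    obtain ⟨a, ha⟩ := result_aux p (𝓘.ideal U) q hq
    set q0 := q.comap (algebraMap Γ(X, U.1) (X.presheaf.stalk x)) with hq0
    obtain ⟨y, hy, hyq⟩ := AssPts.exists_point U.2 q0
    obtain ⟨z, hz, hzass⟩ := key_point X 𝓘 U hy a (fun r => by rw [hyq]; exact ha r)
    have hmax := h1 z hzass
    have hIq : 𝓘.ideal U ≤ q0 := fun r hr => (ha r).2 (Ideal.mul_mem_right _ _ hr)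
    have hdim := h2 z hmax
    rw [hz, DivPts.ringKrullDim_stalk_eq_height U hy, hyq] at hdim
    refine ⟨⟨⟨inferInstance, Ideal.map_le_iff_le_comap.2 hIq⟩, fun q' hq' hle => ?_⟩, ?_⟩
    · haveI := hq'.1
      obtain ⟨y', hy', hyq'⟩ := AssPts.exists_point U.2
        (q'.comap (algebraMap Γ(X, U.1) (X.presheaf.stalk x)))
      obtain ⟨z', hz'⟩ : y' ∈ Set.range 𝓘.subschemeι := 𝓘.range_subschemeι ▸
        (DivPts.mem_support_iff_le_prime 𝓘 U hy').2 (hyq' ▸ Ideal.map_le_iff_le_comap.1 hq'.2)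
      have hspec : y' ⤳ y := (AssPts.specializes_iff U.2 y hy hy').2
        (hyq' ▸ hyq ▸ Ideal.comap_mono hle)
      rw [← hz, ← hz', 𝓘.subschemeι.isClosedEmbedding.isInducing.specializes_iff] at hspec
      obtain rfl := hmax z' hspec
      have hyy : y = y' := hz.symm.trans hz'
      subst hyy
      rw [hq0] at hyq
      have hc := congrArg (Ideal.map (algebraMap Γ(X, U.1) (X.presheaf.stalk x))) (hyq.symm.trans hyq')
      rw [IsLocalization.map_comap p.primeCompl, IsLocalization.map_comap p.primeCompl] at hc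
      exact hc.le
    · rw [← IsLocalization.height_comap p.primeCompl q]
      exact_mod_cast hdim
  have hJtop : J ≠ ⊤ := ne_top_of_le_ne_top (IsLocalRing.maximalIdeal.isMaximal _).ne_top <| by
    rw [← IsLocalization.AtPrime.map_eq_maximalIdeal p (X.presheaf.stalk x)]
    exact Ideal.map_mono ((DivPts.mem_support_iff_le_prime 𝓘 U hxU).1 hx)
  have hmin : ∀ q, q ∈ J.minimalPrimes → q ∈ associatedPrimes (X.presheaf.stalk x) (X.presheaf.stalk x ⧸ J) := by
    intro q hq
    refine Module.associatedPrimes.minimalPrimes_annihilator_subset_associatedPrimes _ _ ?_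
    rwa [Ideal.annihilator_quotient]
  obtain ⟨f, hf⟩ := S8854.result (X.presheaf.stalk x) J (fun q hq => (key q hq).1)
    (fun q hq => (key q (hmin q hq)).2)
  refine ⟨f, mem_nonZeroDivisors_of_ne_zero ?_, hf⟩
  rintro rfl
  obtain ⟨q, hq⟩ := Ideal.nonempty_minimalPrimes hJtop
  have h1q := (key q (hmin q hq)).2
  rw [hf, Ideal.span_singleton_zero, Ideal.minimalPrimes_eq_subsingleton_self] at hq
  rw [Set.mem_singleton_iff] at hq
  simp [hq] at h1q

end Groth.Agent.S1700
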