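import Groth.Statements.S17000
import Groth.Agent.QuadLib.NaiveSO
import Mathlib.Data.Nat.Prime.Int

set_option autoImplicit false
open CategoryTheory AlgebraicGeometry
open QuadGrp

namespace Groth.Agent.S17000

open Matrix QuadLib in
private lemma split_apply (m : ℕ) (x : Fin (2 * m) → ℤ) :
    QuadGrp.splitForm ℤ (2 * m) x =
      ∑ i : Fin (2 * m / 2), x ⟨2 * i + (2 * m) % 2, by omega⟩ * x ⟨2 * i + 1 + (2 * m) % 2, by omega⟩ := by
  simp [QuadGrp.splitForm]

private lemma polar_split (m : ℕ) (i j : Fin (2 * m)) :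
    QuadraticMap.polar (QuadGrp.splitForm ℤ (2 * m)) (Pi.single i 1) (Pi.single j 1) =
      if i.val / 2 = j.val / 2 ∧ i ≠ j then 1 else 0 := by
  have hi := i.isLt
  have hj := j.isLt
  simp only [QuadraticMap.polar, split_apply, ← Finset.sum_sub_distrib, Pi.add_apply]
  rw [Finset.sum_eq_single (⟨i.val / 2, by omega⟩ : Fin (2 * m / 2))]
  · simp only [Pi.single_apply, Fin.ext_iff, ne_eq]
    split_ifs <;> omega
  · intro k _ hk
    have hk' : k.val ≠ i.val / 2 := fun h => hk (Fin.ext h)
    simp only [Pi.single_apply, Fin.ext_iff]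
    split_ifs <;> omega
  · simp

private lemma nondeg_split (m : ℕ) : QuadLib.Nondeg' (QuadGrp.splitForm ℤ (2 * m)) := by
  refine ⟨fun _ => ?_, fun h => absurd (even_two_mul m) (Nat.not_even_iff_odd.2 h)⟩
  have hB : ∀ i j, QuadLib.B₀ (QuadGrp.splitForm ℤ (2 * m)) i j =
      if i.val / 2 = j.val / 2 ∧ i ≠ j then 1 else 0 := fun i j => by
    rw [← polar_split, ← Pi.basisFun_apply ℤ, ← Pi.basisFun_apply ℤ, QuadLib.polar_eq]
    rfl
  refine Matrix.isUnit_det_of_left_inverse (B := QuadLib.B₀ (QuadGrp.splitForm ℤ (2 * m))) ?_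
  ext i k
  have hi := i.isLt
  rw [Matrix.mul_apply, Finset.sum_eq_single (⟨2 * (i.val / 2) + (1 - i.val % 2), by omega⟩ : Fin (2 * m)),
    hB, hB, Matrix.one_apply]
  · simp only [ne_eq, Fin.ext_iff]
    split_ifs <;> omega
  · intro j _ hj
    rw [hB]
    simp only [ne_eq, Fin.ext_iff] at hj ⊢
    rw [if_neg (by omega), zero_mul]
  · simp

/-- For m ≥ 1, a group scheme over Spec ℤ which is the naive special orthogonal group (kernel of the
determinant on the orthogonal group) of the standard split quadratic form in 2m variables is a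
reduced scheme and is not flat over ℤ. (The published statement also identifies the complement of
the Dickson special orthogonal group inside it with the non-identity component of the orthogonal
group in characteristic 2.) -/
theorem result (m : ℕ) (hm : 1 ≤ m)
    (G : Over (Spec (CommRingCat.of ℤ))) [GrpObj G] (D : QuadGrp.SOrth'Rep (QuadGrp.splitForm ℤ (2 * m)) G) :
    AlgebraicGeometry.IsReduced G.left ∧ ¬ AlgebraicGeometry.Flat G.hom := by
  have hc : (1 : ℤ) * QuadGrp.baseChangeForm ℤ (QuadGrp.splitForm ℤ (2 * m))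
      (QuadLib.vec ℤ (fun i : Fin (2 * m) => if i.val < 2 then 1 else 0)) = 1 := by
    rw [one_mul, QuadLib.form_vec, QuadLib.qv_eq, split_apply,
      Finset.sum_eq_single (⟨0, by omega⟩ : Fin (2 * m / 2))]
    · simp
    · intro k _ hk
      have : k.val ≠ 0 := fun h => hk (Fin.ext h)
      simp only []
      split_ifs <;> omega
    · simp
  haveI : _root_.IsReduced (ℤ ⧸ Ideal.span {(2 : ℤ)}) :=
    haveI : (Ideal.span {(2 : ℤ)}).IsPrime := (Ideal.span_singleton_prime two_ne_zero).2 Int.prime_two
    inferInstance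
  refine QuadLib.isReduced_left_and_not_flat_of_rep (nondeg_split m) (even_two_mul m) D two_ne_zero
    (by rw [Int.isUnit_iff]; omega) (G₀ := QuadLib.matOf (QuadLib.refl _ hc))
    ((QuadLib.mem_SA_iff _ false _).1 ((QuadLib.mem_O_form_iff _ _).2 (QuadLib.form_refl _ hc))) ?_
  rw [← QuadLib.det_refl _ hc]
  exact LinearMap.det_toMatrix _ _

end Groth.Agent.S17000
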