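import Groth.Statements.S17016
import Mathlib

set_option autoImplicit false
universe u
open QuadGrp

namespace Groth.Agent.S17016

/-- For the standard split quadratic form Σ x_{2i} x_{2i+1} on R^{2m} over any commutative ring R, with
standard basis vectors e_j in the Clifford algebra, the product w of the elements 1 − 2 e_{2i}
e_{2i+1} (i < m, which pairwise commute) satisfies w² = 1 and anticommutes with every e_j. (Hence w
is central in the even Clifford algebra; over rings in which 2 is invertible (1 − w)/2 is the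
non-trivial central idempotent of the even part.) -/
theorem result (R : Type u) [CommRing R] (m : ℕ) :
    let Q := QuadGrp.splitForm R (m * 2)
    let e : Fin (m * 2) → CliffordAlgebra Q := fun j => CliffordAlgebra.ι Q (Pi.single j 1)
    let w : CliffordAlgebra Q :=
      ((List.finRange m).map fun i => 1 - 2 * (e (finProdFinEquiv (i, 0)) * e (finProdFinEquiv (i, 1)))).prod
    w * w = 1 ∧ ∀ j : Fin (m * 2), e j * w = -(w * e j) := by
  intro Q e w
  let u : Fin (m * 2) → Fin (m * 2) → R := fun j k =>
    if j ≠ k ∧ (j : ℕ) / 2 = (k : ℕ) / 2 then 1 else 0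
  have hQ : ∀ x : Fin (m * 2) → R, Q x =
      ∑ i : Fin m, x (finProdFinEquiv (i, 0)) * x (finProdFinEquiv (i, 1)) := by
    intro x
    show QuadGrp.splitForm R (m * 2) x = _
    simp only [QuadGrp.splitForm, add_apply, QuadraticMap.sum_apply]
    rw [dif_neg (by omega), QuadraticMap.zero_apply, add_zero]
    exact Fintype.sum_equiv (finCongr (by omega : m * 2 / 2 = m)) _ _ fun i => by
      simp only [QuadraticMap.linMulLin_apply, LinearMap.proj_apply]
      congr 2 <;> · apply Fin.ext; simp [finProdFinEquiv, Nat.mul_mod_left]; try omega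
  have hsq : ∀ j, e j * e j = 0 := fun j => by
    show CliffordAlgebra.ι Q _ * CliffordAlgebra.ι Q _ = 0
    rw [CliffordAlgebra.ι_sq_scalar, hQ, Finset.sum_eq_zero, map_zero]
    intro i _
    rcases eq_or_ne (finProdFinEquiv (i, (0 : Fin 2))) j with h | h
    · rw [Pi.single_eq_of_ne (M := fun _ => R) (show finProdFinEquiv (i, (1 : Fin 2)) ≠ j by
        rw [← h]; simp), mul_zero]
    · rw [Pi.single_eq_of_ne (M := fun _ => R) h, zero_mul]
  have hval : ∀ (i : Fin m) (b : Fin 2), ((finProdFinEquiv (i, b) : Fin (m * 2)) : ℕ) / 2 = i := fun i b => by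
    simp [finProdFinEquiv]; omega
  have hval0 : ∀ i : Fin m, (1 + 2 * (i : ℕ)) / 2 = i := fun i => by omega
  have hval' : ∀ (i : Fin m) (b : Fin 2), ((b : ℕ) + 2 * (i : ℕ)) / 2 = i := fun i b => by omega
  have hanti : ∀ j k, e j * e k + e k * e j = algebraMap R _ (u j k) := fun j k => by
    show CliffordAlgebra.ι Q _ * CliffordAlgebra.ι Q _ + CliffordAlgebra.ι Q _ * CliffordAlgebra.ι Q _ = _
    rw [CliffordAlgebra.ι_mul_ι_add_swap]
    congr 1
    rcases eq_or_ne j k with rfl | hjk
    · rw [show u j j = 0 by simp [u], QuadraticMap.polar_self, hQ, Finset.sum_eq_zero, smul_zero]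
      intro i _
      rcases eq_or_ne (finProdFinEquiv (i, (0 : Fin 2))) j with h | h
      · rw [Pi.single_eq_of_ne (M := fun _ => R) (show finProdFinEquiv (i, (1 : Fin 2)) ≠ j by
          rw [← h]; simp), mul_zero]
      · rw [Pi.single_eq_of_ne (M := fun _ => R) h, zero_mul]
    · simp only [QuadraticMap.polar, hQ, ← Finset.sum_sub_distrib]
      obtain ⟨⟨p, b⟩, rfl⟩ := finProdFinEquiv.surjective j
      obtain ⟨⟨q, c⟩, rfl⟩ := finProdFinEquiv.surjective k
      rw [Finset.sum_eq_single p]
      · rcases eq_or_ne p q with rfl | hpq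
        · have hbc : b ≠ c := fun h => hjk (by rw [h])
          rw [show u (finProdFinEquiv (p, b)) (finProdFinEquiv (p, c)) = 1 by simp [u, hval0, hval', hval, hbc]]
          fin_cases b <;> fin_cases c <;> simp_all [Pi.single_apply]
        · rw [show u (finProdFinEquiv (p, b)) (finProdFinEquiv (q, c)) = 0 by
            simp [u, hval0, hval', hval, Fin.val_inj, hpq]]
          fin_cases b <;> fin_cases c <;> simp [Pi.single_apply, hpq, Ne.symm hpq]
      · intro i _ hi
        simp [Pi.single_apply, hi, Ne.symm hi]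
      · simp
  let ww : Fin m → CliffordAlgebra Q := fun i =>
    1 - 2 * (e (finProdFinEquiv (i, 0)) * e (finProdFinEquiv (i, 1)))
  have hswap : ∀ j k, e j * e k = algebraMap R _ (u j k) - e k * e j := fun j k => eq_sub_of_add_eq (hanti j k)
  have hu01 : ∀ i : Fin m, u (finProdFinEquiv (i, 0)) (finProdFinEquiv (i, 1)) = 1 := fun i => by simp [u, hval0, hval', hval]
  have hu10 : ∀ i : Fin m, u (finProdFinEquiv (i, 1)) (finProdFinEquiv (i, 0)) = 1 := fun i => by simp [u, hval0, hval', hval]
  have hw2 : ∀ i, ww i * ww i = 1 := fun i => by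
    show (1 - 2 * (e _ * e _)) * (1 - 2 * (e _ * e _)) = 1
    set a := e (finProdFinEquiv (i, (0 : Fin 2)))
    set b := e (finProdFinEquiv (i, (1 : Fin 2)))
    have hba : b * a = 1 - a * b := by rw [hswap, hu10, map_one]
    have h : (a * b) * (a * b) = a * b := by
      rw [show (a * b) * (a * b) = a * (b * a) * b by noncomm_ring, hba,
        show a * (1 - a * b) * b = a * b - (a * a) * (b * b) by noncomm_ring, hsq, hsq, zero_mul, sub_zero]
    rw [show (1 - 2 * (a * b)) * (1 - 2 * (a * b)) = 1 - 4 * (a * b) + 4 * ((a * b) * (a * b)) by noncomm_ring, h]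
    noncomm_ring
  have hact : ∀ (i : Fin m) (j : Fin (m * 2)), (j : ℕ) / 2 = i → e j * ww i = -(ww i * e j) := fun i j hj => by
    show e j * (1 - 2 * (e _ * e _)) = -((1 - 2 * (e _ * e _)) * e j)
    obtain ⟨⟨p, b⟩, rfl⟩ := finProdFinEquiv.surjective j
    rw [hval, Fin.val_inj] at hj
    subst hj
    set a := e (finProdFinEquiv (p, (0 : Fin 2))) with ha
    set c := e (finProdFinEquiv (p, (1 : Fin 2))) with hc
    have hca : c * a = 1 - a * c := by rw [hswap, hu10, map_one]
    have h1 : a * c * a = a := by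
      rw [mul_assoc, hca, show a * (1 - a * c) = a - a * a * c by noncomm_ring, hsq, zero_mul, sub_zero]
    have h2 : c * a * c = c := by
      rw [hca, show (1 - a * c) * c = c - a * (c * c) by noncomm_ring, hsq, mul_zero, sub_zero]
    fin_cases b
    · show a * (1 - 2 * (a * c)) = -((1 - 2 * (a * c)) * a)
      rw [show a * (1 - 2 * (a * c)) = a - 2 * ((a * a) * c) by noncomm_ring, hsq,
        show (1 - 2 * (a * c)) * a = a - 2 * (a * c * a) by noncomm_ring, h1]
      noncomm_ring
    · show c * (1 - 2 * (a * c)) = -((1 - 2 * (a * c)) * c)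
      rw [show c * (1 - 2 * (a * c)) = c - 2 * (c * a * c) by noncomm_ring, h2,
        show (1 - 2 * (a * c)) * c = c - 2 * (a * (c * c)) by noncomm_ring, hsq]
      noncomm_ring
  have hcomm : ∀ (i : Fin m) (j : Fin (m * 2)), (j : ℕ) / 2 ≠ i → Commute (e j) (ww i) := fun i j hj => by
    have hsw : ∀ b : Fin 2, e j * e (finProdFinEquiv (i, b)) = -(e (finProdFinEquiv (i, b)) * e j) := fun b => by
      rw [hswap, show u j (finProdFinEquiv (i, b)) = 0 by simp [u, hval0, hval', hval, hj], map_zero, zero_sub]
    show e j * (1 - 2 * (e _ * e _)) = (1 - 2 * (e _ * e _)) * e j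
    set a := e (finProdFinEquiv (i, (0 : Fin 2)))
    set c := e (finProdFinEquiv (i, (1 : Fin 2)))
    rw [show e j * (1 - 2 * (a * c)) = e j - 2 * ((e j * a) * c) by noncomm_ring, hsw,
      show (-(a * e j)) * c = -(a * (e j * c)) by noncomm_ring, hsw]
    noncomm_ring
  have hww : ∀ i k, Commute (ww i) (ww k) := fun i k => by
    rcases eq_or_ne i k with rfl | h
    · exact Commute.refl _
    · have hc : ∀ b : Fin 2, Commute (e (finProdFinEquiv (i, b))) (ww k) := fun b =>
        hcomm k _ (by rw [hval]; exact fun h' => h (Fin.ext h'))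
      exact (Commute.one_left _).sub_left ((Commute.ofNat_left 2 _).mul_left ((hc 0).mul_left (hc 1)))
  have hlist : ∀ l : List (Fin m), l.Nodup → (l.map ww).prod * (l.map ww).prod = 1 ∧
      ∀ j : Fin (m * 2), if ∃ i ∈ l, (j : ℕ) / 2 = i then e j * (l.map ww).prod = -((l.map ww).prod * e j)
        else Commute (e j) (l.map ww).prod := by
    intro l hl
    induction l with
    | nil => simp
    | cons i l ih =>
      rw [List.nodup_cons] at hl
      obtain ⟨ih1, ih2⟩ := ih hl.2
      have hP : Commute (ww i) (l.map ww).prod := Commute.list_prod_right _ _ fun x hx => by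
        obtain ⟨k, _, rfl⟩ := List.mem_map.1 hx; exact hww i k
      set P := (l.map ww).prod with hP'
      rw [List.map_cons, List.prod_cons, ← hP']
      refine ⟨?_, fun j => ?_⟩
      · rw [show ww i * P * (ww i * P) = ww i * (P * ww i) * P by noncomm_ring, ← hP.eq,
          show ww i * (ww i * P) * P = (ww i * ww i) * (P * P) by noncomm_ring, hw2, ih1, one_mul]
      · have h2 := ih2 j
        by_cases hj : (j : ℕ) / 2 = i
        · rw [if_pos ⟨i, List.mem_cons_self, hj⟩]
          rw [if_neg (by rintro ⟨k, hk, hk'⟩; exact hl.1 (Fin.ext (hj.symm.trans hk') ▸ hk))] at h2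
          rw [← mul_assoc, hact i j hj, neg_mul, mul_assoc, h2.eq, ← mul_assoc]
        · by_cases hjl : ∃ k ∈ l, (j : ℕ) / 2 = k
          · rw [if_pos hjl] at h2
            obtain ⟨k, hk, hk'⟩ := hjl
            rw [if_pos ⟨k, List.mem_cons_of_mem i hk, hk'⟩, ← mul_assoc, (hcomm i j hj).eq, mul_assoc, h2,
              mul_neg, ← mul_assoc]
          · rw [if_neg hjl] at h2
            rw [if_neg (by
              rintro ⟨k, hk, hk'⟩
              rcases List.mem_cons.1 hk with rfl | hk
              exacts [hj hk', hjl ⟨k, hk, hk'⟩])]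
            exact (hcomm i j hj).mul_right h2
  obtain ⟨h1, h2⟩ := hlist (List.finRange m) (List.nodup_finRange m)
  refine ⟨h1, fun j => ?_⟩
  have := h2 j
  rwa [if_pos ⟨⟨(j : ℕ) / 2, by omega⟩, List.mem_finRange _, rfl⟩] at this

end Groth.Agent.S17016
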