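import Groth.Statements.S17017
import Mathlib

set_option autoImplicit false
universe u
open QuadGrp

namespace Groth.Agent.S17017

open CliffordAlgebra QuadGrp

variable (k : Type u) [Field k]

local notation "Q3" => splitForm k 3

/-- the images of the standard basis vectors -/
noncomputable abbrev e (i : Fin 3) : CliffordAlgebra (splitForm k 3) :=
  ι (splitForm k 3) (Pi.single i 1)

lemma form_apply (x : Fin 3 → k) : splitForm k 3 x = x 1 * x 2 + x 0 * x 0 := by
  simp [splitForm, QuadraticMap.linMulLin_apply, QuadraticMap.sum_apply]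

lemma e00 : e k 0 * e k 0 = 1 := by
  rw [e, ι_sq_scalar, form_apply]; simp

lemma e11 : e k 1 * e k 1 = 0 := by
  rw [e, ι_sq_scalar, form_apply]; simp

lemma e22 : e k 2 * e k 2 = 0 := by
  rw [e, ι_sq_scalar, form_apply]; simp

lemma e10 : e k 1 * e k 0 = -(e k 0 * e k 1) := by
  rw [e, e, eq_neg_iff_add_eq_zero, ι_mul_ι_add_swap, QuadraticMap.polar, form_apply, form_apply,
    form_apply]
  simp

lemma e20 : e k 2 * e k 0 = -(e k 0 * e k 2) := by
  rw [e, e, eq_neg_iff_add_eq_zero, ι_mul_ι_add_swap, QuadraticMap.polar, form_apply, form_apply,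
    form_apply]
  simp

lemma e21 : e k 2 * e k 1 = 1 - e k 1 * e k 2 := by
  rw [e, e, eq_sub_iff_add_eq, ι_mul_ι_add_swap, QuadraticMap.polar, form_apply, form_apply,
    form_apply]
  simp

lemma e00' (z : CliffordAlgebra (splitForm k 3)) : e k 0 * (e k 0 * z) = z := by
  rw [← mul_assoc, e00, one_mul]

lemma e11' (z : CliffordAlgebra (splitForm k 3)) : e k 1 * (e k 1 * z) = 0 := by
  rw [← mul_assoc, e11, zero_mul]

lemma e22' (z : CliffordAlgebra (splitForm k 3)) : e k 2 * (e k 2 * z) = 0 := by
  rw [← mul_assoc, e22, zero_mul]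

lemma e10' (z : CliffordAlgebra (splitForm k 3)) :
    e k 1 * (e k 0 * z) = -(e k 0 * (e k 1 * z)) := by
  rw [← mul_assoc, e10, neg_mul, mul_assoc]

lemma e20' (z : CliffordAlgebra (splitForm k 3)) :
    e k 2 * (e k 0 * z) = -(e k 0 * (e k 2 * z)) := by
  rw [← mul_assoc, e20, neg_mul, mul_assoc]

lemma e21' (z : CliffordAlgebra (splitForm k 3)) :
    e k 2 * (e k 1 * z) = z - e k 1 * (e k 2 * z) := by
  rw [← mul_assoc, e21, sub_mul, one_mul, mul_assoc]

/-- general even element -/
noncomputable def el (a b c d : k) : CliffordAlgebra (splitForm k 3) :=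
  a • 1 + b • (e k 1 * e k 2) + c • (e k 0 * e k 1) + d • (e k 0 * e k 2)

lemma ι_eq (m : Fin 3 → k) :
    ι (splitForm k 3) m = m 0 • e k 0 + m 1 • e k 1 + m 2 • e k 2 := by
  have hm : m = m 0 • Pi.single (0 : Fin 3) (1 : k) + m 1 • Pi.single (1 : Fin 3) (1 : k) +
      m 2 • Pi.single (2 : Fin 3) (1 : k) := by
    ext i; fin_cases i <;> simp
  conv_lhs => rw [hm]
  simp [map_add, map_smul]

lemma exists_el (x : CliffordAlgebra (splitForm k 3)) (hx : x ∈ evenOdd (splitForm k 3) 0) :
    ∃ a b c d : k, x = el k a b c d := by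
  induction x, hx using even_induction with
  | algebraMap r => exact ⟨r, 0, 0, 0, by simp [el, Algebra.algebraMap_eq_smul_one]⟩
  | add x y _ _ hx hy =>
    obtain ⟨a, b, c, d, rfl⟩ := hx
    obtain ⟨a', b', c', d', rfl⟩ := hy
    exact ⟨a + a', b + b', c + c', d + d', by simp only [el]; module⟩
  | ι_mul_ι_mul m n x _ hx =>
    obtain ⟨a, b, c, d, rfl⟩ := hx
    rw [ι_eq k m, ι_eq k n]
    set A := m 0 * n 0 + m 2 * n 1 with hA
    set B := m 1 * n 2 - m 2 * n 1 with hB
    set C := m 0 * n 1 - m 1 * n 0 with hC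
    set D := m 0 * n 2 - m 2 * n 0 with hD
    refine ⟨A * a - D * c, A * b + B * a + B * b - C * d + D * c,
      A * c + B * c + C * a, A * d + D * a + D * b, ?_⟩
    simp only [el, hA, hB, hC, hD, mul_add, add_mul, smul_mul_assoc, mul_smul_comm, smul_add,
      smul_smul, mul_one, one_mul, mul_assoc, e00, e11, e22, e10, e20, e21, e00', e11', e22', e10',
      e20', e21', mul_neg, neg_mul, mul_zero, zero_mul, mul_sub, sub_mul, smul_sub, smul_neg,
      smul_zero, neg_neg, neg_zero, sub_zero, zero_sub]
    module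

lemma reverse_el (a b c d : k) :
    reverse (el k a b c d) =
      a • 1 + b • (e k 2 * e k 1) + c • (e k 1 * e k 0) + d • (e k 2 * e k 0) := by
  simp [el, map_add, map_smul, reverse.map_mul, reverse_ι]

lemma el_mul_reverse (a b c d : k) :
    el k a b c d * reverse (el k a b c d) = (a * (a + b) + c * d) • 1 := by
  rw [reverse_el, el]
  simp only [mul_add, add_mul, smul_mul_assoc, mul_smul_comm, smul_add,
    smul_smul, mul_one, one_mul, mul_assoc, e00, e11, e22, e10, e20, e21, e00', e11', e22', e10',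
    e20', e21', mul_neg, neg_mul, mul_zero, zero_mul, mul_sub, sub_mul, smul_sub, smul_neg,
    smul_zero, neg_neg, neg_zero, sub_zero, zero_sub]
  module

lemma conj0 (a b c d : k) :
    el k a b c d * e k 0 * reverse (el k a b c d) =
      ((a + b) * a - c * d) • e k 0 + (-(2 * (a + b) * c)) • e k 1 + (-(2 * a * d)) • e k 2 := by
  rw [reverse_el, el]
  simp only [mul_add, add_mul, smul_mul_assoc, mul_smul_comm, smul_add,
    smul_smul, mul_one, one_mul, mul_assoc, e00, e11, e22, e10, e20, e21, e00', e11', e22', e10',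
    e20', e21', mul_neg, neg_mul, mul_zero, zero_mul, mul_sub, sub_mul, smul_sub, smul_neg,
    smul_zero, neg_neg, neg_zero, sub_zero, zero_sub]
  module

lemma conj1 (a b c d : k) :
    el k a b c d * e k 1 * reverse (el k a b c d) =
      (d * (a + b)) • e k 0 + ((a + b) * (a + b)) • e k 1 + (-(d * d)) • e k 2 := by
  rw [reverse_el, el]
  simp only [mul_add, add_mul, smul_mul_assoc, mul_smul_comm, smul_add,
    smul_smul, mul_one, one_mul, mul_assoc, e00, e11, e22, e10, e20, e21, e00', e11', e22', e10',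
    e20', e21', mul_neg, neg_mul, mul_zero, zero_mul, mul_sub, sub_mul, smul_sub, smul_neg,
    smul_zero, neg_neg, neg_zero, sub_zero, zero_sub]
  module

lemma conj2 (a b c d : k) :
    el k a b c d * e k 2 * reverse (el k a b c d) =
      (a * c) • e k 0 + (-(c * c)) • e k 1 + (a * a) • e k 2 := by
  rw [reverse_el, el]
  simp only [mul_add, add_mul, smul_mul_assoc, mul_smul_comm, smul_add,
    smul_smul, mul_one, one_mul, mul_assoc, e00, e11, e22, e10, e20, e21, e00', e11', e22', e10',
    e20', e21', mul_neg, neg_mul, mul_zero, zero_mul, mul_sub, sub_mul, smul_sub, smul_neg,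
    smul_zero, neg_neg, neg_zero, sub_zero, zero_sub]
  module

lemma conj_mem (u : (CliffordAlgebra (splitForm k 3))ˣ) (hu : u ∈ evenUnits (splitForm k 3))
    (m : Fin 3 → k) :
    (u : CliffordAlgebra (splitForm k 3)) * ι (splitForm k 3) m *
        ((u⁻¹ : (CliffordAlgebra (splitForm k 3))ˣ) : CliffordAlgebra (splitForm k 3)) ∈
      LinearMap.range (ι (splitForm k 3)) := by
  obtain ⟨a, b, c, d, h⟩ := exists_el k _ ((mem_evenUnits _ u).mp hu)
  have hN := el_mul_reverse k a b c d
  by_cases h0 : a * (a + b) + c * d = 0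
  · have hr : reverse (el k a b c d) = 0 := by
      rw [h0, zero_smul, ← h] at hN
      rw [← h]
      exact (Units.mul_right_eq_zero u).mp hN
    have hu0 : (u : CliffordAlgebra (splitForm k 3)) = 0 := by
      rw [h, ← reverse_reverse (el k a b c d), hr, map_zero]
    rw [hu0, zero_mul, zero_mul]
    exact Submodule.zero_mem _
  · have hinv : (↑u⁻¹ : CliffordAlgebra (splitForm k 3)) =
        (a * (a + b) + c * d)⁻¹ • reverse (el k a b c d) := by
      apply Units.inv_eq_of_mul_eq_one_right
      rw [mul_smul_comm, h, hN, smul_smul, inv_mul_cancel₀ h0, one_smul]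
    rw [hinv, h, mul_smul_comm]
    refine Submodule.smul_mem _ _ ?_
    rw [ι_eq k m]
    simp only [mul_add, add_mul, mul_smul_comm, smul_mul_assoc, conj0, conj1, conj2]
    have hb : ∀ i, e k i ∈ LinearMap.range (ι (splitForm k 3)) := fun i => ⟨_, rfl⟩
    refine add_mem (add_mem ?_ ?_) ?_ <;>
      exact Submodule.smul_mem _ _ (add_mem (add_mem (Submodule.smul_mem _ _ (hb 0))
        (Submodule.smul_mem _ _ (hb 1))) (Submodule.smul_mem _ _ (hb 2)))

lemma evenUnits_le : evenUnits (splitForm k 3) ≤ GPin' (splitForm k 3) := by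
  intro u hu
  rw [mem_GPin']
  apply le_antisymm
  · rintro _ ⟨_, ⟨m, rfl⟩, rfl⟩
    exact conj_mem k u hu m
  · rintro _ ⟨m, rfl⟩
    obtain ⟨m', hm'⟩ := conj_mem k u⁻¹ (inv_mem hu) m
    refine ⟨_, ⟨m', rfl⟩, ?_⟩
    show ConjAct.toConjAct u • ι (splitForm k 3) m' = ι (splitForm k 3) m
    rw [hm', ConjAct.units_smul_def, ConjAct.ofConjAct_toConjAct, inv_inv]
    simp [mul_assoc]


/-- Over a field k, for the standard split quadratic form x₀² + x₁x₂ on k³, every even unit of the
Clifford algebra normalises the subspace k³, i.e. lies in the naive Clifford group; so the even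
Clifford group is the whole unit group of the even Clifford algebra. (The published claim is made
over fields of characteristic different from 2; here it is stated for every field.) -/
theorem result (k : Type u) [Field k] :
    QuadGrp.evenUnits (QuadGrp.splitForm k 3) ≤ QuadGrp.GPin' (QuadGrp.splitForm k 3) := by
  exact evenUnits_le k
end Groth.Agent.S17017
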