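import Groth.Statements.S1702
import Groth.Agent.BlowExist.Mul
import Groth.Agent.ModPairLib.Charts
import Mathlib.AlgebraicGeometry.Morphisms.Flat
import Mathlib.RingTheory.Flat.Basic
-- import your own Groth.Agent.* helpers here

set_option autoImplicit false
universe u
open CategoryTheory CategoryTheory.Limits AlgebraicGeometry TopologicalSpace
open SDiv

namespace Groth.Agent.S1702

open CategoryTheory AlgebraicGeometry

theorem flat_middle {R K F M : Type u} [CommRing R] [AddCommGroup K] [Module R K] [AddCommGroup F] [Module R F]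
    [AddCommGroup M] [Module R M] [Module.Flat R K] [Module.Flat R M] {i : K →ₗ[R] F} {p : F →ₗ[R] M}
    (hi : Function.Injective i) (he : Function.Exact i p) (hp : Function.Surjective p) : Module.Flat R F := by
  rw [Module.Flat.iff_rTensor_injective']
  intro J
  rw [injective_iff_map_eq_zero]
  intro x hx
  have h1 : Function.Injective (J.subtype.rTensor M) := Module.Flat.iff_rTensor_injective'.1 inferInstance J
  have h2 : Function.Injective (J.subtype.rTensor K) := Module.Flat.iff_rTensor_injective'.1 inferInstance J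
  have hiR : Function.Injective (i.lTensor R) := LinearMap.lTensor_injective_of_exact_of_flat p hp i hi he R
  have hx' : p.lTensor J x = 0 := by
    apply h1
    rw [map_zero, ← LinearMap.comp_apply, LinearMap.rTensor_comp_lTensor, ← LinearMap.lTensor_comp_rTensor,
      LinearMap.comp_apply, hx, map_zero]
  obtain ⟨y, rfl⟩ := (lTensor_exact J he hp x).1 hx'
  have : y = 0 := by
    apply h2
    apply hiR
    rw [map_zero, map_zero, ← LinearMap.comp_apply, LinearMap.lTensor_comp_rTensor, ← LinearMap.rTensor_comp_lTensor,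
      LinearMap.comp_apply, hx]
  rw [this, map_zero]

/-- `R → A ⧸ (ab)` is flat when `R → A ⧸ (a)` and `R → A ⧸ (b)` are, `a` a nonzerodivisor. -/
theorem flat_quot_mul {R A : Type u} [CommRing R] [CommRing A] [Algebra R A] {a b : A} (ha : a ∈ nonZeroDivisors A)
    [Module.Flat R (A ⧸ Ideal.span {a})] [Module.Flat R (A ⧸ Ideal.span {b})] :
    Module.Flat R (A ⧸ Ideal.span {a * b}) := by
  let i₀ : (A ⧸ Ideal.span {b}) →ₗ[A] A ⧸ Ideal.span {a * b} :=
    Submodule.mapQ (Ideal.span {b}) (Ideal.span {a * b}) (LinearMap.mulLeft A a) (fun z hz => by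
      obtain ⟨c, rfl⟩ := Ideal.mem_span_singleton.1 hz
      exact Ideal.mem_span_singleton.2 ⟨c, by simp [mul_assoc]⟩)
  let p₀ : (A ⧸ Ideal.span {a * b}) →ₗ[A] A ⧸ Ideal.span {a} :=
    Submodule.mapQ (Ideal.span {a * b}) (Ideal.span {a}) LinearMap.id (fun z hz => by
      obtain ⟨c, rfl⟩ := Ideal.mem_span_singleton.1 hz
      exact Ideal.mem_span_singleton.2 ⟨b * c, by simp [mul_assoc]⟩)
  have hi : Function.Injective i₀ := by
    rw [injective_iff_map_eq_zero]
    intro z hz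
    obtain ⟨z, rfl⟩ := Submodule.Quotient.mk_surjective _ z
    have hz' : a * z ∈ Ideal.span {a * b} := (Submodule.Quotient.mk_eq_zero _).1 hz
    obtain ⟨c, hc⟩ := Ideal.mem_span_singleton.1 hz'
    refine (Submodule.Quotient.mk_eq_zero _).2 (Ideal.mem_span_singleton.2 ⟨c, ?_⟩)
    exact (isRegular_iff_mem_nonZeroDivisors.2 ha).left (hc.trans (mul_assoc a b c))
  have hp : Function.Surjective p₀ := by
    intro z
    obtain ⟨z, rfl⟩ := Submodule.Quotient.mk_surjective _ z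
    exact ⟨Submodule.Quotient.mk z, rfl⟩
  have he : Function.Exact i₀ p₀ := by
    intro z
    obtain ⟨z, rfl⟩ := Submodule.Quotient.mk_surjective _ z
    constructor
    · intro hz
      have hz' : z ∈ Ideal.span {a} := (Submodule.Quotient.mk_eq_zero _).1 hz
      obtain ⟨c, rfl⟩ := Ideal.mem_span_singleton.1 hz'
      exact ⟨Submodule.Quotient.mk c, rfl⟩
    · rintro ⟨w, hw⟩
      obtain ⟨w, rfl⟩ := Submodule.Quotient.mk_surjective _ w
      rw [← hw]
      exact (Submodule.Quotient.mk_eq_zero _).2 (Ideal.mem_span_singleton.2 ⟨w, rfl⟩)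
  exact flat_middle (i := i₀.restrictScalars R) (p := p₀.restrictScalars R) hi he hp

/-- Flatness of a subscheme read on an affine chart. -/
theorem flat_chart {X S : Scheme.{u}} (f : X ⟶ S) (D : X.IdealSheafData) [Flat (D.subschemeι ≫ f)]
    {U : S.Opens} (hU : IsAffineOpen U) (V : X.affineOpens) (hVU : V.1 ≤ f ⁻¹ᵁ U) :
    ((Ideal.Quotient.mk (D.ideal V)).comp (f.appLE U V.1 hVU).hom).Flat := by
  let ι := D.subschemeι
  have hW : IsAffineOpen (ι ⁻¹ᵁ V.1) := V.2.preimage ι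
  have h1 := Scheme.Hom.flat_appLE (ι ≫ f) hU hW
    (show ι ⁻¹ᵁ V.1 ≤ (ι ≫ f) ⁻¹ᵁ U from ι.preimage_mono hVU)
  have h2 : (ι ≫ f).appLE U (ι ⁻¹ᵁ V.1) (ι.preimage_mono hVU) = f.appLE U V.1 hVU ≫ ι.app V.1 := by
    rw [← Scheme.Hom.appLE_comp_appLE ι f U V.1 (ι ⁻¹ᵁ V.1) hVU le_rfl, Scheme.Hom.app_eq_appLE]
  rw [h2] at h1
  have hs : Function.Surjective (ι.app V.1).hom := ι.app_surjective V.1 V.2
  let σ := ((Ideal.quotEquivOfEq (Scheme.IdealSheafData.ker_subschemeι_app (I := D) V)).symm.trans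
    (RingHom.quotientKerEquivOfSurjective hs))
  have h4 := RingHom.Flat.comp h1 (RingHom.Flat.of_bijective (f := σ.symm.toRingHom) σ.symm.bijective)
  convert h4 using 1
  ext r
  apply σ.injective
  show _ = σ (σ.symm _)
  rw [RingEquiv.apply_symm_apply]
  rfl

theorem flat_mul {X S : Scheme.{u}} (f : X ⟶ S) (A B : X.IdealSheafData) (hA : BlowUp.IsEffCartierIdeal A)
    (hB : BlowUp.IsEffCartierIdeal B) [Flat (A.subschemeι ≫ f)] [Flat (B.subschemeι ≫ f)] :
    Flat ((A * B).subschemeι ≫ f) := by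
  rw [HasRingHomProperty.iff_exists_appLE (P := @Flat) (RingHom.Flat.stableUnderComposition.stableUnderCompositionWithLocalizationAway RingHom.Flat.holdsForLocalizationAway).left]
  intro z
  let ι := (A * B).subschemeι
  obtain ⟨U, hU, hzU, -⟩ := exists_isAffineOpen_mem_and_subset (U := (⊤ : S.Opens)) (x := f (ι z)) trivial
  obtain ⟨W, hW, hzW, hWU⟩ := exists_isAffineOpen_mem_and_subset (U := f ⁻¹ᵁ U) (x := ι z) hzU
  obtain ⟨V₁, h₁, h₁', H₁⟩ := ModPairLib.exists_span hA (ι z) W hzW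
  obtain ⟨V, hz, hV', H₂⟩ := ModPairLib.exists_span hB (ι z) V₁.1 h₁
  obtain ⟨a, ha⟩ := H₁ V hV'
  obtain ⟨b, hb⟩ := H₂ V le_rfl
  have hVU : V.1 ≤ f ⁻¹ᵁ U := (hV'.trans h₁').trans hWU
  have hι : IsAffineOpen (ι ⁻¹ᵁ V.1) := V.2.preimage ι
  refine ⟨⟨U, hU⟩, ⟨ι ⁻¹ᵁ V.1, hι⟩, hz, ι.preimage_mono hVU, ?_⟩
  letI := (f.appLE U V.1 hVU).hom.toAlgebra
  have fa := flat_chart f A hU V hVU
  have fb := flat_chart f B hU V hVU
  haveI : Module.Flat Γ(S, U) (Γ(X, V.1) ⧸ Ideal.span {a}) := by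
    rw [ha] at fa
    exact RingHom.flat_algebraMap_iff.1 fa
  haveI : Module.Flat Γ(S, U) (Γ(X, V.1) ⧸ Ideal.span {b}) := by
    rw [hb] at fb
    exact RingHom.flat_algebraMap_iff.1 fb
  have hab := flat_quot_mul (R := Γ(S, U)) (b := b) (ModPairLib.nzd_of_span hA V ha)
  have hk : RingHom.ker (ι.app V.1).hom = Ideal.span {a * b} := by
    rw [Scheme.IdealSheafData.ker_subschemeι_app, Scheme.IdealSheafData.ideal_mul, Pi.mul_apply, ha, hb,
      Ideal.span_singleton_mul_span_singleton]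
  let σ := ((Ideal.quotEquivOfEq hk).symm.trans
    (RingHom.quotientKerEquivOfSurjective (ι.app_surjective V.1 V.2)))
  have h4 := RingHom.Flat.comp (RingHom.flat_algebraMap_iff.2 hab) (RingHom.Flat.of_bijective (f := σ.toRingHom) σ.bijective)
  show ((ι ≫ f).appLE U (ι ⁻¹ᵁ V.1) (ι.preimage_mono hVU)).hom.Flat
  rw [← Scheme.Hom.appLE_comp_appLE ι f U V.1 (ι ⁻¹ᵁ V.1) hVU le_rfl, ← Scheme.Hom.app_eq_appLE]
  exact h4


/-- Let f : X ⟶ S be a morphism and 𝓘₁, 𝓘₂ ideal sheaves of effective Cartier divisors on X whose closed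
subschemes are flat over S. Then the product ideal 𝓘₁𝓘₂ (the sum of the divisors) is again the ideal
of an effective Cartier divisor flat over S. -/
theorem result {X S : Scheme.{u}} (f : X ⟶ S) (𝓘₁ 𝓘₂ : X.IdealSheafData)
    (h₁ : (BlowUp.IsEffCartierIdeal 𝓘₁ ∧ Flat (𝓘₁.subschemeι ≫ f))) (h₂ : (BlowUp.IsEffCartierIdeal 𝓘₂ ∧ Flat (𝓘₂.subschemeι ≫ f))) : (BlowUp.IsEffCartierIdeal (𝓘₁ * 𝓘₂) ∧ Flat ((𝓘₁ * 𝓘₂).subschemeι ≫ f)) := by
  haveI := h₁.2
  haveI := h₂.2
  exact ⟨BlowExist.isEffCartier_mul h₁.1 h₂.1, flat_mul f 𝓘₁ 𝓘₂ h₁.1 h₂.1⟩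

end Groth.Agent.S1702
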