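import Groth.Statements.S17023
import Groth.Agent.RegLocus.Smooth
import Groth.Agent.CAlgReg.Basic
import Mathlib
-- import your own Groth.Agent.* helpers here

set_option autoImplicit false
universe u
open FlatMor

namespace Groth.Agent.S17023

/-- Let B be a discrete valuation ring, A a B-algebra of finite type and p a prime ideal of A which lies
over the maximal ideal of B (a point of the special fibre), at which A is smooth over B (the
localization A_p is formally smooth over B), and such that B maps onto the residue field κ(p). Then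
there are a discrete valuation ring B' and a ring map ψ : A → B' pulling the maximal ideal of B'
back to p, such that the composite B → A → B' is injective, the maximal ideal of B generates the
maximal ideal of B', and B maps onto the residue field of B'; in other words Spec B' → Spec A → Spec
B is surjective and unramified with trivial residue field extension. (The published statement does
not say that the closed point of Spec B' goes to p; it is required here. The published setting takes
A essentially of finite type over a field of characteristic zero; here A is taken of finite type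
over B, with no ground field.) -/
theorem result
    (B : Type u) [CommRing B] [IsDomain B] [IsDiscreteValuationRing B]
    (A : Type u) [CommRing A] [Algebra B A] [Algebra.FiniteType B A]
    (p : Ideal A) [p.IsPrime] (hp : p.comap (algebraMap B A) = IsLocalRing.maximalIdeal B)
    [Algebra.IsSmoothAt B p]
    (hres : Function.Surjective ((algebraMap A p.ResidueField).comp (algebraMap B A))) :
    ∃ (B' : Type u) (_ : CommRing B') (_ : IsDomain B') (_ : IsDiscreteValuationRing B') (ψ : A →+* B'),
      Ideal.comap ψ (IsLocalRing.maximalIdeal B') = p ∧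
      Function.Injective (ψ.comp (algebraMap B A)) ∧
      Ideal.map (ψ.comp (algebraMap B A)) (IsLocalRing.maximalIdeal B) = IsLocalRing.maximalIdeal B' ∧
      Function.Surjective ((IsLocalRing.residue B').comp (ψ.comp (algebraMap B A))) := by
  classical
  haveI : Algebra.FinitePresentation B A := Algebra.FinitePresentation.of_finiteType.1 inferInstance
  have hBr : IsRegularLocalRing (Localization.AtPrime (p.comap (algebraMap B A))) := inferInstance
  haveI hR : IsRegularLocalRing (Localization.AtPrime p) := RegLocus.regular_of_smoothAt B A p hBr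
  let R := Localization.AtPrime p
  haveI : Algebra.FormallySmooth B R := ‹Algebra.IsSmoothAt B p›
  obtain ⟨π, hπ⟩ := IsDiscreteValuationRing.exists_irreducible B
  have hmB : IsLocalRing.maximalIdeal B = Ideal.span {π} := hπ.maximalIdeal_eq
  let t : R := algebraMap B R π
  have htp : algebraMap B A π ∈ p := by
    rw [← Ideal.mem_comap, hp, hmB]
    exact Ideal.mem_span_singleton_self π
  have htm : t ∈ IsLocalRing.maximalIdeal R := by
    show algebraMap B R π ∈ _
    rw [IsScalarTower.algebraMap_apply B A R]
    exact (IsLocalization.AtPrime.to_map_mem_maximal_iff R p _).2 htp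
  -- the residue field is that of `B`
  let κ := B ⧸ IsLocalRing.maximalIdeal B
  have hresR : Function.Surjective ((IsLocalRing.residue R).comp (algebraMap B R)) := by
    intro z
    obtain ⟨b, hb⟩ := hres z
    refine ⟨b, ?_⟩
    rw [← hb]
    rfl
  have hkerR : RingHom.ker ((IsLocalRing.residue R).comp (algebraMap B R)) = IsLocalRing.maximalIdeal B := by
    haveI : (RingHom.ker ((IsLocalRing.residue R).comp (algebraMap B R))).IsPrime := RingHom.ker_isPrime _
    refine ((IsLocalRing.maximalIdeal.isMaximal B).eq_of_le (Ideal.IsPrime.ne_top inferInstance) ?_).symm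
    rw [hmB, Ideal.span_singleton_le_iff_mem, RingHom.mem_ker, RingHom.comp_apply, IsLocalRing.residue_eq_zero_iff]
    exact htm
  let e : B ⧸ IsLocalRing.maximalIdeal B ≃+* IsLocalRing.ResidueField R :=
    (Ideal.quotEquivOfEq hkerR.symm).trans (RingHom.quotientKerEquivOfSurjective hresR)
  have he : ∀ b, e (Ideal.Quotient.mk _ b) = IsLocalRing.residue R (algebraMap B R b) := fun b => rfl
  let P := B ⧸ IsLocalRing.maximalIdeal B ^ 2
  let I : Ideal P := (IsLocalRing.maximalIdeal B).map (Ideal.Quotient.mk _)
  have hI : IsNilpotent I := ⟨2, by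
    rw [← Ideal.map_pow]
    exact (Ideal.map_quotient_self _).trans Ideal.zero_eq_bot.symm⟩
  let q : (B ⧸ IsLocalRing.maximalIdeal B) →+* P ⧸ I :=
    Ideal.Quotient.lift _ ((Ideal.Quotient.mk I).comp (Ideal.Quotient.mk _)) fun a ha =>
      Ideal.Quotient.eq_zero_iff_mem.2 (Ideal.mem_map_of_mem _ ha)
  let g0 : R →ₐ[B] P ⧸ I :=
    { (q.comp e.symm.toRingHom).comp (IsLocalRing.residue R) with
      commutes' := fun b => by
        show q (e.symm (IsLocalRing.residue R (algebraMap B R b))) = _
        rw [← he, RingEquiv.symm_apply_apply]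
        rfl }
  obtain ⟨g, hg⟩ := Algebra.FormallySmooth.exists_lift I hI g0
  have htm2 : t ∉ IsLocalRing.maximalIdeal R ^ 2 := by
    intro h2
    have h1 : (IsLocalRing.maximalIdeal R).map g.toRingHom ≤ I := by
      refine Ideal.map_le_iff_le_comap.2 fun z hz => ?_
      rw [Ideal.mem_comap, ← Ideal.Quotient.eq_zero_iff_mem]
      refine (AlgHom.congr_fun hg z).trans ?_
      show q (e.symm (IsLocalRing.residue R z)) = 0
      rw [(IsLocalRing.residue_eq_zero_iff z).2 hz, map_zero, map_zero]
    have h3 : g t ∈ I ^ 2 := by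
      refine Ideal.pow_right_mono h1 2 ?_
      rw [← Ideal.map_pow]
      exact Ideal.mem_map_of_mem _ h2
    rw [← Ideal.map_pow, Ideal.map_quotient_self, Ideal.mem_bot, show g t = algebraMap B P π from g.commutes π] at h3
    have h4 : π ∈ IsLocalRing.maximalIdeal B ^ 2 := Ideal.Quotient.eq_zero_iff_mem.1 h3
    rw [hmB, Ideal.span_singleton_pow, Ideal.mem_span_singleton] at h4
    obtain ⟨c, hc⟩ := h4
    refine hπ.not_isUnit (IsUnit.of_mul_eq_one c (mul_left_cancel₀ hπ.ne_zero ?_))
    rw [mul_one]
    conv_rhs => rw [hc]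
    ring
  obtain ⟨d, hd⟩ := CAlgReg.exists_dim (R := R)
  have h0 : (IsLocalRing.maximalIdeal R).toCotangent ⟨t, htm⟩ ≠ 0 := fun h =>
    htm2 ((Ideal.toCotangent_eq_zero _ _).1 h)
  obtain ⟨T, hT, hc⟩ := CAlgReg.exists_extend (R := R) {⟨t, htm⟩} (by
    rw [Finset.coe_singleton]; exact LinearIndepOn.singleton h0)
  rw [Finset.coe_singleton, Set.image_singleton] at hT
  rw [CAlgReg.spanFinrank_eq_of_dim hd, Finset.card_singleton] at hc
  obtain ⟨hreg, hdim, -⟩ := CAlgReg.quotient_span hd T {t}
    (by rw [Finset.coe_singleton, Set.union_comm]; exact hT) (by rw [Finset.card_singleton]; omega)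
  rw [Finset.card_singleton] at hdim
  let J := Ideal.span (T : Set R)
  have hπs : Function.Surjective (Ideal.Quotient.mk J) := Ideal.Quotient.mk_surjective
  haveI : IsDomain (R ⧸ J) := CAlgReg.isDomain
  haveI := IsLocalHom.of_surjective _ hπs
  have hcm : (IsLocalRing.maximalIdeal (R ⧸ J)).comap (Ideal.Quotient.mk J) = IsLocalRing.maximalIdeal R :=
    IsLocalRing.maximalIdeal_comap _
  have hmax : IsLocalRing.maximalIdeal (R ⧸ J) = Ideal.span {Ideal.Quotient.mk J t} := by
    rw [← Ideal.map_comap_of_surjective _ hπs (IsLocalRing.maximalIdeal (R ⧸ J)), hcm, ← hT, Ideal.map_span,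
      Set.image_union, Ideal.span_union, Set.image_singleton]
    refine sup_eq_left.2 (Ideal.span_le.2 ?_)
    rintro _ ⟨y, hy, rfl⟩
    rw [Ideal.Quotient.eq_zero_iff_mem.2 (Ideal.subset_span hy)]
    exact zero_mem _
  have h5 : (IsLocalRing.maximalIdeal (R ⧸ J)).IsPrincipal := ⟨⟨_, hmax⟩⟩
  haveI : IsPrincipalIdealRing (R ⧸ J) :=
    ((tfae_of_isNoetherianRing_of_isLocalRing_of_isDomain (R ⧸ J)).out 0 4).2 h5
  have hnf : IsLocalRing.maximalIdeal (R ⧸ J) ≠ ⊥ := by
    intro h
    have h1 := (IsLocalRing.isField_iff_maximalIdeal_eq.2 h)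
    rw [ringKrullDim_eq_zero_of_isField h1] at hdim
    norm_cast at hdim
  haveI : IsDiscreteValuationRing (R ⧸ J) := { not_a_field' := hnf }
  let ψ : A →+* R ⧸ J := (Ideal.Quotient.mk J).comp (algebraMap A R)
  have hψB : ψ.comp (algebraMap B A) = (Ideal.Quotient.mk J).comp (algebraMap B R) := by
    rw [RingHom.comp_assoc, ← IsScalarTower.algebraMap_eq]
  refine ⟨R ⧸ J, inferInstance, inferInstance, inferInstance, ψ, ?_, ?_, ?_, ?_⟩
  · rw [← Ideal.comap_comap, hcm]
    exact IsLocalization.AtPrime.comap_maximalIdeal R p
  · rw [RingHom.injective_iff_ker_eq_bot, hψB]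
    by_contra hne
    haveI : (RingHom.ker ((Ideal.Quotient.mk J).comp (algebraMap B R))).IsPrime := RingHom.ker_isPrime _
    have h1 := IsLocalRing.eq_maximalIdeal (Ideal.IsPrime.isMaximal this hne)
    refine hnf ?_
    rw [hmax, Ideal.span_singleton_eq_bot]
    exact (h1.ge (hmB.ge (Ideal.mem_span_singleton_self π)) :)
  · rw [hψB, hmB, Ideal.map_span, Set.image_singleton, hmax]
    rfl
  · intro z
    obtain ⟨w, rfl⟩ := IsLocalRing.residue_surjective z
    obtain ⟨r, rfl⟩ := hπs w
    obtain ⟨b, hb⟩ := hresR (IsLocalRing.residue R r)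
    refine ⟨b, ?_⟩
    rw [hψB]
    show IsLocalRing.residue (R ⧸ J) (Ideal.Quotient.mk J (algebraMap B R b)) = _
    exact congrArg (IsLocalRing.ResidueField.map (Ideal.Quotient.mk J)) hb
end Groth.Agent.S17023
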