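import Groth.Statements.S1706
import Mathlib
import Groth.Agent.AssPtsMore.Basic

set_option autoImplicit false
universe u
open CategoryTheory CategoryTheory.Limits AlgebraicGeometry TopologicalSpace
open SDiv

namespace Groth.Agent.S1706

/-- Let X be a scheme, F a quasi-coherent module and U an open subset containing every weakly associated
point of F. Then the restriction map Γ(X, F) → Γ(U, F) is injective. -/
theorem result (X : Scheme.{u}) (F : X.Modules) (hF : Coh.IsQCoh F)
    (U : X.Opens) (hU : ∀ x : ↥X, Curv2.IsWeakAssPoint F x → x ∈ U) :
    Function.Injective (F.presheaf.map (homOfLE (le_top : U ≤ ⊤)).op) := by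
  haveI : F.IsQuasicoherent := hF
  exact AssPtsMore.res_injective F le_top fun y _ hy => hU y ((AssPtsMore.isWeakAssPoint_iff_mem_ass F y).2 hy)

end Groth.Agent.S1706
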