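import Groth.Statements.S17065
import Mathlib

set_option autoImplicit false
universe u
open CAlg

namespace Groth.Agent.S17065

/-- The local algebraic statement its proof establishes: let A be a Noetherian ring, I ≤ J radical
ideals and Â the J-adic completion of A. If J^n Â ⊆ I Â for some n, then the closed set V(J) is open
inside V(I) ⊆ Spec A. (Globally: if X₂ ⊆ X₁ are the completions of a locally Noetherian scheme along
nested closed subsets Z₂ ⊆ Z₁ and the ideal of Z₁ generates an ideal of definition of X₂, then X₂ is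
a union of connected components of X₁.) -/
theorem result (A : Type u) [CommRing A] [IsNoetherianRing A]
    (I J : Ideal A) (hIJ : I ≤ J) (hI : I.IsRadical) (hJ : J.IsRadical) (n : ℕ)
    (h : (J ^ n).map (algebraMap A (AdicCompletion J A)) ≤ I.map (algebraMap A (AdicCompletion J A))) :
    IsOpen ((fun x : PrimeSpectrum.zeroLocus (I : Set A) => (x : PrimeSpectrum A)) ⁻¹'
      PrimeSpectrum.zeroLocus (J : Set A)) := by
  classical
  -- `J ^ n` lies in `I + J ^ m` for every `m`
  have hm : ∀ m, J ^ n ≤ I ⊔ J ^ m := fun m x hx => by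
    have h1 := Ideal.mem_map_of_mem (AdicCompletion.evalₐ J m).toRingHom (h (Ideal.mem_map_of_mem _ hx))
    rw [Ideal.map_map, show (AdicCompletion.evalₐ J m).toRingHom.comp (algebraMap A (AdicCompletion J A)) =
      Ideal.Quotient.mk (J ^ m) from (AdicCompletion.evalₐ J m).comp_algebraMap] at h1
    change (AdicCompletion.evalₐ J m) (algebraMap A (AdicCompletion J A) x) ∈ _ at h1
    rw [AlgHom.commutes, Ideal.Quotient.algebraMap_eq, ← Ideal.mem_comap,
      Ideal.comap_map_of_surjective' _ Ideal.Quotient.mk_surjective, Ideal.mk_ker] at h1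
    exact h1
  rw [isOpen_iff_forall_mem_open]
  rintro ⟨P, hP⟩ hPJ
  -- Krull intersection in `A_P / I`
  let S := Localization.AtPrime P.asIdeal
  have hPJ' : J ≤ P.asIdeal := hPJ
  have hIS : (I.map (algebraMap A S)) ≠ ⊤ := fun e => (IsLocalRing.maximalIdeal.isMaximal S).ne_top <| top_le_iff.mp <| by
    rw [← e, ← Localization.AtPrime.map_eq_maximalIdeal]
    exact Ideal.map_mono (hIJ.trans hPJ')
  let Q := S ⧸ I.map (algebraMap A S)
  haveI : Nontrivial Q := Ideal.Quotient.nontrivial_iff.mpr hIS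
  haveI : IsLocalRing Q := .of_surjective' (Ideal.Quotient.mk _) Ideal.Quotient.mk_surjective
  let f : A →+* Q := (Ideal.Quotient.mk _).comp (algebraMap A S)
  have hfJ : J.map f ≠ ⊤ := fun e => (IsLocalRing.maximalIdeal.isMaximal Q).ne_top <| top_le_iff.mp <| by
    rw [← e, ← Ideal.map_map]
    refine Ideal.map_le_iff_le_comap.mpr ((Ideal.map_mono hPJ').trans ?_)
    rw [Localization.AtPrime.map_eq_maximalIdeal]
    exact fun s hs hu => hs ((IsLocalHom.of_surjective (Ideal.Quotient.mk (I.map (algebraMap A S))) Ideal.Quotient.mk_surjective).map_nonunit s hu)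
  have hzero : (J ^ n).map f = ⊥ := le_bot_iff.mp <| by
    rw [← Ideal.iInf_pow_eq_bot_of_isLocalRing (J.map f) hfJ]
    refine le_iInf fun m => (Ideal.map_mono (hm m)).trans ?_
    rw [Ideal.map_sup, Ideal.map_pow, ← Ideal.map_map (f := algebraMap A S), Ideal.map_quotient_self, bot_sup_eq]
  have hmem : ∀ x ∈ J ^ n, ∃ g ∉ P.asIdeal, g * x ∈ I := by
    intro x hx
    have : algebraMap A S x ∈ I.map (algebraMap A S) := by
      rw [← Ideal.Quotient.eq_zero_iff_mem]
      exact (Ideal.mem_bot).mp (hzero ▸ Ideal.mem_map_of_mem f hx)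
    obtain ⟨g, hg, hgx⟩ := (IsLocalization.algebraMap_mem_map_algebraMap_iff P.asIdeal.primeCompl _ _ _).mp this
    exact ⟨g, hg, hgx⟩
  choose! g hgP hgI using hmem
  obtain ⟨s, hs⟩ := IsNoetherian.noetherian (J ^ n)
  have hsmem : ∀ x ∈ s, x ∈ J ^ n := fun x hx => hs ▸ Submodule.subset_span hx
  refine ⟨(fun x : PrimeSpectrum.zeroLocus (I : Set A) => (x : PrimeSpectrum A)) ⁻¹'
    (PrimeSpectrum.basicOpen (∏ x ∈ s, g x) : Set (PrimeSpectrum A)), ?_,
    (PrimeSpectrum.basicOpen _).isOpen.preimage continuous_subtype_val, fun hG => ?_⟩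
  · rintro ⟨q, hq⟩ hG
    have hG' : (∏ x ∈ s, g x) ∉ q.asIdeal := hG
    have hle : J ^ n ≤ q.asIdeal := by
      rw [← hs]
      refine Submodule.span_le.mpr fun x hx => ?_
      refine (q.isPrime.mem_or_mem (hq (hgI x (hsmem x hx)))).resolve_left fun e => hG' (Ideal.prod_mem _ hx e)
    intro x hx
    exact q.isPrime.mem_of_pow_mem n (hle (Ideal.pow_mem_pow hx n))
  · obtain ⟨x, hx, hx'⟩ := (Ideal.IsPrime.prod_mem_iff (p := P.asIdeal)).mp hG
    exact hgP x (hsmem x hx) hx'

end Groth.Agent.S17065
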