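import Groth.Statements.S1707
import Mathlib
import Groth.Agent.AssPtsMore.Basic

set_option autoImplicit false
universe u
open CategoryTheory CategoryTheory.Limits AlgebraicGeometry TopologicalSpace
open SDiv

namespace Groth.Agent.S1707

/-- Let X be a scheme, F a quasi-coherent module and x a point of the support of F such that no other
point of the support specializes to x. Then x is weakly associated to F. -/
theorem result (X : Scheme.{u}) (F : X.Modules) (hF : Coh.IsQCoh F) (x : ↥X)
    (hx : x ∈ CohB1.support F) (hmax : ∀ y : ↥X, y ∈ CohB1.support F → y ⤳ x → y = x) : Curv2.IsWeakAssPoint F x := by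
  haveI : F.IsQuasicoherent := hF
  exact (AssPtsMore.isWeakAssPoint_iff_mem_ass F x).2 (AssPtsMore.mem_ass_of_maximal_support F x hx hmax)

end Groth.Agent.S1707
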