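import Groth.Statements.S17077
import Mathlib
-- import your own Groth.Agent.* helpers here

set_option autoImplicit false
universe u
open RatCurve

namespace Groth.Agent.S17077

/-- Let k be an algebraically closed field and F_0, …, F_{n-1} homogeneous polynomials in k[u, v] (of
possibly different degrees). Then the F_i have a common factor which is not a unit if and only if
they have a common zero (a, b) ≠ (0, 0) in k², that is, a common zero in the projective line. -/
theorem result
    {k : Type u} [Field k] [IsAlgClosed k] {n : ℕ} (F : Fin n → MvPolynomial (Fin 2) k)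
    (d : Fin n → ℕ) (hF : ∀ i, (F i).IsHomogeneous (d i)) :
    (∃ H : MvPolynomial (Fin 2) k, ¬ IsUnit H ∧ ∀ i, H ∣ F i) ↔
      ∃ a : Fin 2 → k, a ≠ 0 ∧ ∀ i, MvPolynomial.eval a (F i) = 0 := by
  classical
  constructor
  · rintro ⟨H, hH, hdvd⟩
    by_contra hno
    push Not at hno
    have hz : ∀ a : Fin 2 → k, MvPolynomial.eval a H = 0 → a = 0 := fun a ha => by
      by_contra ha0
      obtain ⟨i, hi⟩ := hno a ha0
      obtain ⟨g, hg⟩ := hdvd i
      exact hi (by rw [hg, map_mul, ha, zero_mul])
    have hX : ∀ j, ∃ N : ℕ, H ∣ (MvPolynomial.X j : MvPolynomial (Fin 2) k) ^ N := fun j => by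
      have : (MvPolynomial.X j : MvPolynomial (Fin 2) k) ∈ (Ideal.span {H}).radical := by
        rw [← MvPolynomial.vanishingIdeal_zeroLocus_eq_radical (K := k)]
        intro a ha
        have h1 : MvPolynomial.eval a H = 0 := by
          simpa [MvPolynomial.aeval_eq_eval] using ha H (Ideal.subset_span rfl)
        simp [hz a h1]
      obtain ⟨N, hN⟩ := this
      exact ⟨N, Ideal.mem_span_singleton.1 hN⟩
    have hH0 : H ≠ 0 := by
      rintro rfl
      obtain ⟨N, hN⟩ := hX 0
      exact pow_ne_zero N (MvPolynomial.X_ne_zero _) (zero_dvd_iff.1 hN)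
    obtain ⟨q, hq, hqH⟩ := WfDvdMonoid.exists_irreducible_factor hH hH0
    have hqX : ∀ j, Associated q (MvPolynomial.X j : MvPolynomial (Fin 2) k) := fun j => by
      obtain ⟨N, hN⟩ := hX j
      exact hq.associated_of_dvd ((MvPolynomial.X_prime (i := j)).irreducible)
        (hq.prime.dvd_of_dvd_pow (hqH.trans hN))
    have h01 := ((hqX 0).symm.trans (hqX 1)).dvd
    obtain ⟨g, hg⟩ := h01
    have := congrArg (MvPolynomial.eval ![0, 1]) hg
    simp at this
  · rintro ⟨a, ha0, ha⟩
    let l : MvPolynomial (Fin 2) k := MvPolynomial.C (a 1) * MvPolynomial.X 0 - MvPolynomial.C (a 0) * MvPolynomial.X 1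
    have hcoeff0 : l.coeff (Finsupp.single 0 1) = a 1 := by
      simp [l, MvPolynomial.coeff_C_mul, MvPolynomial.coeff_X, Finsupp.single_left_inj]
    have hcoeff1 : l.coeff (Finsupp.single 1 1) = - a 0 := by
      simp [l, MvPolynomial.coeff_C_mul, MvPolynomial.coeff_X, Finsupp.single_left_inj]
    have hne : a 1 ≠ 0 ∨ a 0 ≠ 0 := by
      by_contra! h
      exact ha0 (funext fun i => by fin_cases i <;> simp [h.1, h.2])
    have hl0 : l ≠ 0 := fun h => by
      rcases hne with h1 | h1
      · exact h1 (by rw [← hcoeff0, h, MvPolynomial.coeff_zero])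
      · exact h1 (neg_eq_zero.1 (by rw [← hcoeff1, h, MvPolynomial.coeff_zero]))
    have hlh : l.IsHomogeneous 1 :=
      (MvPolynomial.isHomogeneous_C_mul_X (a 1) 0).sub (MvPolynomial.isHomogeneous_C_mul_X (a 0) 1)
    have hirr : Irreducible l := MvPolynomial.irreducible_of_totalDegree_eq_one (hlh.totalDegree hl0)
      fun x hx => IsUnit.mk0 x fun hx0 => by
        rcases hne with h1 | h1
        · exact h1 (by simpa [hx0, hcoeff0] using hx (Finsupp.single 0 1))
        · exact h1 (by simpa [hx0, hcoeff1] using hx (Finsupp.single 1 1))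
    refine ⟨l, hirr.not_isUnit, fun i => ?_⟩
    have : F i ∈ (Ideal.span {l}).radical := by
      rw [← MvPolynomial.vanishingIdeal_zeroLocus_eq_radical (K := k)]
      intro y hy
      have h1 : a 1 * y 0 - a 0 * y 1 = 0 := by
        simpa [l, MvPolynomial.aeval_eq_eval] using hy l (Ideal.subset_span rfl)
      obtain ⟨t, ht⟩ : ∃ t : k, y = fun j => t * a j := by
        rcases hne with h2 | h2
        · refine ⟨y 1 / a 1, funext fun j => ?_⟩
          fin_cases j
          · simp only [Fin.zero_eta]; field_simp; linear_combination h1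
          · simp only [Fin.mk_one]; field_simp
        · refine ⟨y 0 / a 0, funext fun j => ?_⟩
          fin_cases j
          · simp only [Fin.zero_eta]; field_simp
          · simp only [Fin.mk_one]; field_simp; linear_combination -h1
      rw [MvPolynomial.aeval_eq_eval, ht, MvPolynomial.eval_eq]
      have h3 := ha i
      rw [MvPolynomial.eval_eq] at h3
      calc _ = t ^ d i * ∑ m ∈ (F i).support, (F i).coeff m * ∏ j ∈ m.support, a j ^ m j := by
            rw [Finset.mul_sum]
            refine Finset.sum_congr rfl fun m hm => ?_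
            have := hF i (MvPolynomial.mem_support_iff.1 hm)
            simp [Finsupp.weight_apply, Finsupp.sum] at this
            simp only [mul_pow, Finset.prod_mul_distrib, Finset.prod_pow_eq_pow_sum, this]
            ring
        _ = 0 := by rw [h3, mul_zero]
    obtain ⟨N, hN⟩ := this
    exact hirr.prime.dvd_of_dvd_pow (Ideal.mem_span_singleton.1 hN)

end Groth.Agent.S17077
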