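import Groth.Statements.S17078
import Groth.Agent.S17077
import Mathlib
-- import your own Groth.Agent.* helpers here

set_option autoImplicit false
universe u
open RatCurve

namespace Groth.Agent.S17078

open MvPolynomial in
theorem hc_mul {A : Type u} [CommRing A] {σ : Type} (p q : MvPolynomial σ A)
    {e : ℕ} (hq : q.IsHomogeneous e) (d : ℕ) :
    homogeneousComponent d (p * q) =
      if e ≤ d then homogeneousComponent (d - e) p * q else 0 := by
  induction p using MvPolynomial.induction_on' with
  | monomial m c =>
    rw [homogeneousComponent_of_mem ((isHomogeneous_monomial c rfl).mul hq),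
      homogeneousComponent_of_mem (isHomogeneous_monomial c rfl)]
    split_ifs <;> first | omega | rfl | rw [zero_mul]
  | add a b ha hb => rw [add_mul, map_add, ha, hb, map_add]; split_ifs <;> simp [add_mul]

/-- Let k be an algebraically closed field and F_0, …, F_{n-1} homogeneous polynomials of degree d in
k[u, v]. Then the F_i have no common factor other than units if and only if there is an integer m ≥
d such that every homogeneous polynomial of degree m can be written Σ_i F_i G_i with each G_i
homogeneous of degree m − d, i.e. the k-linear map (G_i)_i ↦ Σ_i F_i G_i from n copies of k[u,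
v]_{m−d} to k[u, v]_m is surjective. -/
theorem result
    {k : Type u} [Field k] [IsAlgClosed k] {n : ℕ} (F : Fin n → MvPolynomial (Fin 2) k)
    (d : ℕ) (hF : ∀ i, (F i).IsHomogeneous d) :
    (¬ ∃ H : MvPolynomial (Fin 2) k, ¬ IsUnit H ∧ ∀ i, H ∣ F i) ↔
      ∃ m : ℕ, d ≤ m ∧ ∀ P : MvPolynomial (Fin 2) k, P.IsHomogeneous m →
        ∃ G : Fin n → MvPolynomial (Fin 2) k, (∀ i, (G i).IsHomogeneous (m - d)) ∧
          P = ∑ i, F i * G i := by
  classical
  rw [Groth.Agent.S17077.result F (fun _ => d) hF]
  constructor
  · intro hno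
    push Not at hno
    let I : Ideal (MvPolynomial (Fin 2) k) := Ideal.span (Set.range F)
    have hX : ∀ j, (MvPolynomial.X j : MvPolynomial (Fin 2) k) ∈ I.radical := fun j => by
      rw [← MvPolynomial.vanishingIdeal_zeroLocus_eq_radical (K := k)]
      intro a ha
      have : a = 0 := by
        by_contra h0
        obtain ⟨i, hi⟩ := hno a h0
        exact hi (by simpa [MvPolynomial.aeval_eq_eval] using ha (F i) (Ideal.subset_span ⟨i, rfl⟩))
      simp [this]
    obtain ⟨N0, hN0⟩ := hX 0
    obtain ⟨N1, hN1⟩ := hX 1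
    refine ⟨d + (N0 + N1), by omega, fun P hP => ?_⟩
    have hPI : P ∈ I := by
      rw [P.as_sum]
      refine Ideal.sum_mem _ fun m hm => ?_
      have hdeg : m 0 + m 1 = d + (N0 + N1) := by
        have := hP (MvPolynomial.mem_support_iff.1 hm)
        rwa [Finsupp.weight_apply, Finsupp.sum_fintype _ _ (by simp), Fin.sum_univ_two,
          Pi.one_apply, Pi.one_apply, smul_eq_mul, smul_eq_mul, mul_one, mul_one] at this
      rw [MvPolynomial.monomial_eq, Finsupp.prod_fintype _ _ (by simp), Fin.prod_univ_two]
      refine Ideal.mul_mem_left _ _ ?_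
      rcases le_or_gt N0 (m 0) with h | h
      · exact Ideal.mul_mem_right _ _ (by rw [← Nat.sub_add_cancel h, pow_add]; exact Ideal.mul_mem_left _ _ hN0)
      · refine Ideal.mul_mem_left _ _ ?_
        rw [← Nat.sub_add_cancel (show N1 ≤ m 1 by omega), pow_add]
        exact Ideal.mul_mem_left _ _ hN1
    obtain ⟨G, hG⟩ := Ideal.mem_span_range_iff_exists_fun.1 hPI
    refine ⟨fun i => MvPolynomial.homogeneousComponent (d + (N0 + N1) - d) (G i),
      fun i => MvPolynomial.homogeneousComponent_isHomogeneous _ _, ?_⟩
    have h1 := congrArg (MvPolynomial.homogeneousComponent (d + (N0 + N1))) hG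
    rw [MvPolynomial.homogeneousComponent_of_mem hP, if_pos rfl, map_sum] at h1
    rw [← h1]
    refine Finset.sum_congr rfl fun i _ => ?_
    rw [hc_mul (G i) (F i) (hF i), if_pos (by omega), mul_comm]
  · rintro ⟨m, -, hsur⟩ ⟨a, ha0, ha⟩
    obtain ⟨j, hj⟩ : ∃ j, a j ≠ 0 := Function.ne_iff.1 ha0
    obtain ⟨G, -, hG⟩ := hsur (MvPolynomial.X j ^ m) (MvPolynomial.isHomogeneous_X_pow j m)
    have h1 := congrArg (MvPolynomial.eval a) hG
    simp [ha, hj] at h1

end Groth.Agent.S17078
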