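import Groth.Statements.S17079
-- import your own Groth.Agent.* helpers here

set_option autoImplicit false
set_option backward.isDefEq.respectTransparency false
set_option backward.isDefEq.respectTransparency.types false
universe u
open CategoryTheory CategoryTheory.Limits AlgebraicGeometry
open MorSch

namespace Groth.Agent.S17079

/-- Let gX : X → S and gY : Y → S be morphisms and suppose the functor Mor_S(X, Y) — sending an S-scheme
T to the set of S-morphisms T ×_S X → Y, with base change as transition maps — is represented by an
S-scheme M. Then for every morphism h : S' → S the functor Mor_{S'}(X ×_S S', Y ×_S S') on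
S'-schemes is represented by M ×_S S'. (The published statement assumes X and Y projective over S
with X flat and S, S' locally Noetherian; this row assumes only that the functor is represented by
M. Only the existence of a representing structure on M ×_S S' is asserted, not its compatibility
with the one on M.) -/
theorem result
    {X Y S S' : Scheme.{u}} (gX : X ⟶ S) (gY : Y ⟶ S) (h : S' ⟶ S)
    (M : Over S) (e : (Flatn.morS gX gY).RepresentableBy M) :
    Nonempty ((Flatn.morS (pullback.snd gX h) (pullback.snd gY h)).RepresentableBy
      (Over.mk (pullback.snd M.hom h))) := by
  let iso : Over.pullback (pullback.snd gX h) ⋙ Over.map (pullback.snd gX h) ⋙ Over.map h ≅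
      Over.map h ⋙ Over.pullback gX ⋙ Over.map gX := NatIso.ofComponents (fun T => Over.isoMk
        { hom := pullback.lift (pullback.fst T.hom (pullback.snd gX h)) (pullback.snd T.hom (pullback.snd gX h) ≫ pullback.fst gX h)
            (by simp [pullback.condition, pullback.condition_assoc])
          inv := pullback.lift (pullback.fst (T.hom ≫ h) gX) (pullback.lift (pullback.snd (T.hom ≫ h) gX) (pullback.fst (T.hom ≫ h) gX ≫ T.hom)
            (by rw [Category.assoc, ← pullback.condition])) (by simp)
          hom_inv_id := by
            refine pullback.hom_ext (by simp) (pullback.hom_ext (by simp) ?_)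
            simp [pullback.condition]
          inv_hom_id := by apply pullback.hom_ext <;> simp }
        (by simp [pullback.condition]))
      (fun φ => by ext; apply pullback.hom_ext <;> simp)
  exact ⟨{ homEquiv := fun {T} => ((((Over.mapPullbackAdj h).homEquiv T M).symm.trans e.homEquiv).trans
            (iso.symm.app T).homFromEquiv).trans
            ((Over.mapPullbackAdj h).homEquiv ((Over.map (pullback.snd gX h)).obj ((Over.pullback (pullback.snd gX h)).obj T)) (Over.mk gY))
           homEquiv_comp := fun {T T'} φ a => by
            let P := Over.pullback (pullback.snd gX h) ⋙ Over.map (pullback.snd gX h)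
            show (Over.mapPullbackAdj h).homEquiv (P.obj T) (Over.mk gY)
                ((iso.hom.app T) ≫ e.homEquiv (((Over.mapPullbackAdj h).homEquiv T M).symm (φ ≫ a))) =
              P.map φ ≫ (Over.mapPullbackAdj h).homEquiv (P.obj T') (Over.mk gY)
                ((iso.hom.app T') ≫ e.homEquiv (((Over.mapPullbackAdj h).homEquiv T' M).symm a))
            rw [← Adjunction.homEquiv_naturality_left, Adjunction.homEquiv_naturality_left_symm, e.homEquiv_comp]
            congr 1
            exact (iso.hom.naturality_assoc φ _).symm }⟩

end Groth.Agent.S17079
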