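import Groth.Statements.S17080
-- import your own Groth.Agent.* helpers here

set_option autoImplicit false
set_option backward.isDefEq.respectTransparency false
set_option backward.isDefEq.respectTransparency.types false
universe u
open CategoryTheory CategoryTheory.Limits AlgebraicGeometry
open MorSch

namespace Groth.Agent.S17080

/-- Let gX : X → S be proper and flat, gY : Y → S separated and j : U → Y an open immersion, and suppose
the functor Mor_S(X, Y) — S-schemes T ↦ S-morphisms T ×_S X → Y — is represented by an S-scheme M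
via e. Then there are an open subset M₀ of M and a representation e₀ of Mor_S(X, U) by the open
subscheme M₀ (viewed over S through M) which is compatible with e: for every S-morphism φ : T → M₀,
the S-morphism T ×_S X → Y classified by φ followed by the inclusion M₀ → M is the S-morphism T ×_S
X → U classified by φ, followed by j. In particular the morphism Mor_S(X, U) → Mor_S(X, Y) induced
by j is an open immersion. (Published for X projective and flat and Y quasi-projective over a
locally Noetherian S, which is how M is known to exist there; representability is taken as a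
hypothesis here.) -/
theorem result
    {X Y U S : Scheme.{u}} (gX : X ⟶ S) [IsProper gX] [Flat gX] (gY : Y ⟶ S) [IsSeparated gY]
    (j : U ⟶ Y) [IsOpenImmersion j] (M : Over S) (e : (Flatn.morS gX gY).RepresentableBy M) :
    ∃ (M₀ : M.left.Opens)
      (e₀ : (Flatn.morS gX (j ≫ gY)).RepresentableBy (Over.mk (M₀.ι ≫ M.hom))),
      ∀ (T : Over S) (φ : T ⟶ Over.mk (M₀.ι ≫ M.hom)),
        (e.homEquiv (φ ≫ Over.homMk M₀.ι rfl) :
            (Over.map gX).obj ((Over.pullback gX).obj T) ⟶ Over.mk gY) =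
          (e₀.homEquiv φ : (Over.map gX).obj ((Over.pullback gX).obj T) ⟶ Over.mk (j ≫ gY)) ≫
            (Over.homMk j rfl : Over.mk (j ≫ gY) ⟶ Over.mk gY) := by
  classical
  let F : Over S ⥤ Over S := Over.pullback gX ⋙ Over.map gX
  let u : F.obj M ⟶ Over.mk gY := e.homEquiv (𝟙 M)
  have he : ∀ {T : Over S} (φ : T ⟶ M), e.homEquiv φ = F.map φ ≫ u := fun {T} φ => e.homEquiv_eq φ
  let p : (F.obj M).left ⟶ M.left := pullback.fst M.hom gX
  haveI : IsProper p := MorphismProperty.pullback_fst _ _ inferInstance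
  have hC : IsClosed (u.left ⁻¹' (Set.range j)ᶜ) := j.isOpenEmbedding.isOpen_range.isClosed_compl.preimage u.left.continuous
  let M₀ : M.left.Opens := ⟨(p '' (u.left ⁻¹' (Set.range j)ᶜ))ᶜ, (p.isClosedMap _ hC).isOpen_compl⟩
  have key : ∀ {T : Over S} (φ : T ⟶ M), Set.range (F.map φ ≫ u).left ⊆ Set.range j ↔ Set.range φ.left ⊆ M₀ := by
    intro T φ
    have hq : IsPullback (F.map φ).left (pullback.fst T.hom gX) p φ.left := by
      refine IsPullback.of_right ?_ (pullback.lift_fst _ _ _) (IsPullback.of_hasPullback M.hom gX).flip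
      have h1 : (F.map φ).left ≫ pullback.snd M.hom gX = pullback.snd T.hom gX := pullback.lift_snd _ _ _
      rw [h1, Over.w φ]
      exact (IsPullback.of_hasPullback T.hom gX).flip
    have hr : Set.range (F.map φ).left = p ⁻¹' Set.range φ.left := by
      rw [← hq.isoPullback_hom_fst, ← Scheme.Pullback.range_fst, Scheme.Hom.comp_base, TopCat.coe_comp]
      exact hq.isoPullback.hom.surjective.range_comp _
    constructor
    · rintro h _ ⟨t, rfl⟩ ⟨z, hz, hzt⟩
      obtain ⟨w, rfl⟩ := hr.ge (show z ∈ p ⁻¹' Set.range φ.left from ⟨t, hzt.symm⟩)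
      exact hz (h ⟨w, rfl⟩)
    · rintro h _ ⟨w, rfl⟩
      by_contra hw
      obtain ⟨t, ht⟩ := hr.le ⟨w, rfl⟩
      exact h ⟨t, rfl⟩ ⟨(F.map φ).left w, hw, ht.symm⟩
  let ιM : Over.mk (M₀.ι ≫ M.hom) ⟶ M := Over.homMk M₀.ι rfl
  let jj : Over.mk (j ≫ gY) ⟶ Over.mk gY := Over.homMk j rfl
  have hmι : Mono ιM := Over.mono_of_mono_left ιM
  haveI : Mono jj.left := inferInstanceAs (Mono j)
  have hmj : Mono jj := Over.mono_of_mono_left jj
  have hfw : ∀ {T : Over S} (φ : T ⟶ Over.mk (M₀.ι ≫ M.hom)), ∃ b : F.obj T ⟶ Over.mk (j ≫ gY), b ≫ jj = F.map (φ ≫ ιM) ≫ u := by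
    intro T φ
    have h : Set.range (F.map (φ ≫ ιM) ≫ u).left ⊆ Set.range j := (key _).2 (by
      rintro _ ⟨t, rfl⟩
      exact (φ.left t).2)
    refine ⟨Over.homMk (IsOpenImmersion.lift j _ h) ?_, Over.OverMorphism.ext (IsOpenImmersion.lift_fac j _ h)⟩
    show IsOpenImmersion.lift j _ h ≫ j ≫ gY = _
    rw [IsOpenImmersion.lift_fac_assoc]
    exact Over.w (F.map (φ ≫ ιM) ≫ u)
  choose fw hfw using @hfw
  have bij : ∀ T : Over S, Function.Bijective (fw : (T ⟶ Over.mk (M₀.ι ≫ M.hom)) → (F.obj T ⟶ Over.mk (j ≫ gY))) := fun T => by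
    refine ⟨fun a a' h => ?_, fun b => ?_⟩
    · rw [← cancel_mono ιM]
      apply e.homEquiv.injective
      rw [he, he, ← hfw, ← hfw, h]
    · let φ := e.homEquiv.symm (b ≫ jj)
      have hφ : F.map φ ≫ u = b ≫ jj := by rw [← he]; exact e.homEquiv.apply_symm_apply _
      have h : Set.range φ.left ⊆ Set.range M₀.ι := by
        rw [Scheme.Opens.range_ι]
        refine (key φ).1 ?_
        rw [hφ]
        rintro _ ⟨z, rfl⟩
        exact ⟨b.left z, rfl⟩
      refine ⟨Over.homMk (IsOpenImmersion.lift M₀.ι φ.left h) ?_, ?_⟩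
      · show IsOpenImmersion.lift M₀.ι φ.left h ≫ M₀.ι ≫ M.hom = _
        rw [IsOpenImmersion.lift_fac_assoc]; exact Over.w φ
      · rw [← cancel_mono jj, hfw, ← hφ]
        exact congrArg (fun a => F.map a ≫ u) (Over.OverMorphism.ext (IsOpenImmersion.lift_fac M₀.ι φ.left h))
  refine ⟨M₀, { homEquiv := fun {T} => Equiv.ofBijective _ (bij T), homEquiv_comp := fun {T T'} ψ φ => ?_ }, fun T φ => ?_⟩
  · show fw (ψ ≫ φ) = F.map ψ ≫ fw φ
    rw [← cancel_mono jj, hfw, Category.assoc, Category.assoc, hfw, Functor.map_comp_assoc]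
  · exact (he _).trans (hfw φ).symm

end Groth.Agent.S17080
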