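import Mathlib.CategoryTheory.Extensive
import Mathlib.AlgebraicGeometry.Limits
import Groth.Statements.S17084
-- import your own Groth.Agent.* helpers here

set_option autoImplicit false
set_option backward.isDefEq.respectTransparency false
set_option backward.isDefEq.respectTransparency.types false
universe u
open CategoryTheory CategoryTheory.Limits AlgebraicGeometry
open MorSch

namespace Groth.Agent.S17084

/-- Let (X_i)_{i ∈ ι} be a finite family of schemes over S with structure morphisms g_i : X_i → S, let Y
→ S be a scheme over S and T an S-scheme. Then for every family of S-morphisms a_i : T ×_S X_i → Y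
there is a unique S-morphism b : T ×_S (∐_i X_i) → Y whose restriction along each T ×_S X_i → T ×_S
(∐_i X_i) is a_i. In other words the canonical map Mor_S(∐_i X_i, Y) → ∏_i Mor_S(X_i, Y) of functors
on S-schemes is an isomorphism. -/
theorem result
    {S Y : Scheme.{u}} {ι : Type u} [Finite ι] (X : ι → Scheme.{u}) (g : ∀ i, X i ⟶ S)
    (gY : Y ⟶ S) (T : Over S) (a : ∀ i, (Flatn.morS (g i) gY).obj (Opposite.op T)) :
    ∃! b : (Flatn.morS (Sigma.desc g) gY).obj (Opposite.op T),
      ∀ i, pullback.map T.hom (g i) T.hom (Sigma.desc g) (𝟙 T.left) (Sigma.ι X i) (𝟙 S)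
          ((Category.comp_id _).trans (Category.id_comp _).symm)
          ((Category.comp_id _).trans (Sigma.ι_desc g i).symm) ≫ b.left = (a i).left := by
  let m : ∀ i, pullback T.hom (g i) ⟶ pullback T.hom (Sigma.desc g) := fun i =>
    pullback.map T.hom (g i) T.hom (Sigma.desc g) (𝟙 T.left) (Sigma.ι X i) (𝟙 S)
      ((Category.comp_id _).trans (Category.id_comp _).symm)
      ((Category.comp_id _).trans (Sigma.ι_desc g i).symm)
  let c : Cofan fun i => pullback T.hom (g i) := Cofan.mk _ m
  have hau : IsUniversalColimit (Cofan.mk (∐ X) (Sigma.ι X)) :=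
    FinitaryPreExtensive.isUniversal_finiteCoproducts (coproductIsCoproduct X)
  obtain ⟨hc⟩ := hau.nonempty_isColimit_of_pullbackCone_left g (Sigma.desc g) T.hom
    (fun i => pullback.cone T.hom (g i)) (fun i => pullback.isLimit _ _) (pullback.cone T.hom (Sigma.desc g))
    (pullback.isLimit _ _) c (Iso.refl _) (fun i => Sigma.ι_desc g i)
    (fun i => by simp [c, m, pullback.map])
    (fun i => by simp [c, m, pullback.map])
  have hm : ∀ i, m i ≫ pullback.snd T.hom (Sigma.desc g) = pullback.snd T.hom (g i) ≫ Sigma.ι X i :=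
    fun i => pullback.lift_snd _ _ _
  refine ⟨Over.homMk (Cofan.IsColimit.desc hc fun i => (a i).left) ?_, fun i => ?_, fun b hb => ?_⟩
  · refine Cofan.IsColimit.hom_ext hc _ _ fun i => ?_
    rw [← Category.assoc, Cofan.IsColimit.fac]
    refine (Over.w (a i)).trans ?_
    show pullback.snd T.hom (g i) ≫ g i = m i ≫ pullback.snd T.hom (Sigma.desc g) ≫ Sigma.desc g
    rw [← Category.assoc, hm, Category.assoc, Sigma.ι_desc]
  · exact Cofan.IsColimit.fac hc _ i
  · refine Over.OverMorphism.ext (Cofan.IsColimit.hom_ext hc _ _ fun i => ?_)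
    exact (hb i).trans (Cofan.IsColimit.fac hc (fun i => (a i).left) i).symm

end Groth.Agent.S17084
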