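import Mathlib.AlgebraicGeometry.ZariskisMainTheorem
import Groth.Statements.S17088
-- import your own Groth.Agent.* helpers here

set_option autoImplicit false
set_option backward.isDefEq.respectTransparency false
set_option backward.isDefEq.respectTransparency.types false
universe u
open CategoryTheory CategoryTheory.Limits AlgebraicGeometry
open MorSch

namespace Groth.Agent.S17088

/-- Let f : X → S be a separated morphism, ι : W → X an immersion and T an S-scheme. For every closed
subscheme V of W ×_S T which is proper and flat over T — a T-point of the Hilbert functor of W over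
S — the composite V → W ×_S T → X ×_S T is a closed immersion, and the map sending V to the ideal
sheaf of this composite, from T-points of the Hilbert functor of W to ideal sheaves on X ×_S T, is
injective: an immersion induces a monomorphism of Hilbert functors. -/
theorem result
    {W X S : Scheme.{u}} (f : X ⟶ S) [IsSeparated f] (ι : W ⟶ X) [IsImmersion ι]
    (T : Over S) :
    (∀ V : FGA.HilbSet (ι ≫ f) T,
      IsClosedImmersion (V.1.subschemeι ≫ pullback.map (ι ≫ f) T.hom f T.hom ι (𝟙 T.left) (𝟙 S)
          (Category.comp_id _) ((Category.comp_id _).trans (Category.id_comp _).symm))) ∧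
    Function.Injective (fun V : FGA.HilbSet (ι ≫ f) T =>
      (V.1.subschemeι ≫ pullback.map (ι ≫ f) T.hom f T.hom ι (𝟙 T.left) (𝟙 S)
          (Category.comp_id _) ((Category.comp_id _).trans (Category.id_comp _).symm)).ker) := by
  let m := pullback.map (ι ≫ f) T.hom f T.hom ι (𝟙 T.left) (𝟙 S)
    (Category.comp_id _) ((Category.comp_id _).trans (Category.id_comp _).symm)
  have hm : Mono m := ⟨fun {Z} a b e => by
    have e1 := congrArg (· ≫ pullback.fst f T.hom) e
    have e2 := congrArg (· ≫ pullback.snd f T.hom) e
    simp only [Category.assoc, show m ≫ pullback.fst f T.hom = pullback.fst (ι ≫ f) T.hom ≫ ι from pullback.lift_fst _ _ _,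
      show m ≫ pullback.snd f T.hom = pullback.snd (ι ≫ f) T.hom ≫ 𝟙 _ from pullback.lift_snd _ _ _, Category.comp_id] at e1 e2
    rw [← Category.assoc, ← Category.assoc, cancel_mono] at e1
    exact pullback.hom_ext e1 e2⟩
  have hc : ∀ V : FGA.HilbSet (ι ≫ f) T, IsClosedImmersion (V.1.subschemeι ≫ m) := fun V => by
    rw [IsClosedImmersion.iff_isProper_and_mono]
    refine ⟨?_, inferInstance⟩
    haveI : IsProper ((V.1.subschemeι ≫ m) ≫ pullback.snd f T.hom) := by
      rw [Category.assoc, show m ≫ pullback.snd f T.hom = pullback.snd (ι ≫ f) T.hom ≫ 𝟙 _ from pullback.lift_snd _ _ _,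
        Category.comp_id]
      exact V.2.1
    exact IsProper.of_comp _ (pullback.snd f T.hom)
  refine ⟨hc, fun V V' h => Subtype.ext ?_⟩
  haveI := hc V
  haveI := hc V'
  have h' : (V.1.subschemeι ≫ m).ker = (V'.1.subschemeι ≫ m).ker := h
  let k := IsClosedImmersion.lift (V'.1.subschemeι ≫ m) (V.1.subschemeι ≫ m) h'.ge
  haveI : IsIso k := IsClosedImmersion.isIso_of_ker_eq (V.1.subschemeι ≫ m) (V'.1.subschemeι ≫ m) k (IsClosedImmersion.lift_fac _ _ _) h'
  have e : k ≫ V'.1.subschemeι = V.1.subschemeι := by
    rw [← cancel_mono m, Category.assoc, IsClosedImmersion.lift_fac]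
  rw [← V.1.ker_subschemeι, ← e, Scheme.Hom.ker_comp_of_isIso, Scheme.IdealSheafData.ker_subschemeι]

end Groth.Agent.S17088
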