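import Groth.Statements.S17157
import Groth.Agent.IsocLib.WittFrob

set_option autoImplicit false
universe u
open Isoc

namespace Groth.Agent.S17157

/-- Let k be a finite field of characteristic p, W = W(k), L its fraction field with Frobenius σ, and
let U be the σ-semilinear endomorphism of L² = (Fin 2 → L) determined by U(e₀) = e₀ and U(e₁) = e₀ +
e₁ on the standard basis. Then (L², U) is an F-isocrystal in which the sub-isocrystal L · e₀ admits
no U-stable complementary L-subspace; in particular the category of F-isocrystals over a finite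
field is not semisimple. (Over an algebraically closed field a complement exists.) -/
theorem result
    (p : ℕ) [Fact p.Prime] (k : Type u) [Field k] [CharP k p] [PerfectRing k p] [Finite k]
    (U : (Fin 2 → (FractionRing (WittVector p k))) →ₛₗ[Isoc.frob p k 1] (Fin 2 → (FractionRing (WittVector p k))))
    (hU0 : U (Pi.single 0 1) = Pi.single 0 1)
    (hU1 : U (Pi.single 1 1) = Pi.single 0 1 + Pi.single 1 1)
    (Q : Submodule (FractionRing (WittVector p k)) (Fin 2 → (FractionRing (WittVector p k)))) (hQ : ∀ x ∈ Q, U x ∈ Q) :
    ¬ IsCompl (Submodule.span (FractionRing (WittVector p k)) {(Pi.single 0 1 : Fin 2 → (FractionRing (WittVector p k)))}) Q := by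
  intro hc
  have := Fintype.ofFinite k
  obtain ⟨m, -, hm⟩ := FiniteField.card k p
  obtain ⟨a, ha, q, hq, haq⟩ := Submodule.mem_sup.1
    (show (Pi.single 1 1 : Fin 2 → FractionRing (WittVector p k)) ∈ Submodule.span (FractionRing (WittVector p k)) {Pi.single 0 1} ⊔ Q by
      rw [hc.sup_eq_top]; trivial)
  obtain ⟨c, rfl⟩ := Submodule.mem_span_singleton.1 ha
  have hUq : U q = (1 - Isoc.frob p k 1 c) • Pi.single 0 1 + Pi.single 1 1 := by
    rw [show q = Pi.single 1 1 - c • Pi.single 0 1 by rw [← haq]; abel, map_sub, map_smulₛₗ, hU0, hU1, sub_smul, one_smul]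
    abel
  have hdiff : (1 - Isoc.frob p k 1 c + c) • (Pi.single 0 1 : Fin 2 → FractionRing (WittVector p k)) ∈ Q := by
    have h1 := Q.sub_mem (hQ q hq) hq
    rw [hUq, show q = Pi.single 1 1 - c • Pi.single 0 1 by rw [← haq]; abel] at h1
    rw [add_smul]
    convert h1 using 1
    abel
  have hz := Submodule.disjoint_def.1 hc.disjoint _ (Submodule.smul_mem _ _ (Submodule.mem_span_singleton_self _)) hdiff
  have hσ : Isoc.frob p k 1 c = c + 1 := by
    have := congrFun hz 0
    simp only [Pi.smul_apply, Pi.single_eq_same, smul_eq_mul, mul_one, Pi.zero_apply] at this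
    linear_combination -this
  have hit : ∀ n : ℕ, (Isoc.frob p k 1 ^ n) c = c + n := fun n => by
    induction n with
    | zero => simp
    | succ n ih =>
      rw [pow_succ', RingHom.coe_mul, Function.comp_apply, ih, map_add, map_natCast, hσ]
      push_cast
      ring
  have h2 := hit m
  rw [IsocLib.frob_pow_eq_id hm, RingHom.id_apply] at h2
  exact IsocLib.natCast_ne_zero (p := p) (k := k) m.ne_zero (by linear_combination -h2)

end Groth.Agent.S17157
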