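import Groth.Statements.S17171
import Mathlib

set_option autoImplicit false
open QSymFn

namespace Groth.Agent.S17171

lemma mapDomain_sum {α β : Type*} (g : α → β) {ℓ : ℕ} (s : Fin ℓ → α) (a : Fin ℓ → ℕ) :
    Finsupp.mapDomain g (∑ t, Finsupp.single (s t) (a t)) = ∑ t, Finsupp.single (g (s t)) (a t) := by
  rw [Finsupp.mapDomain_finsetSum]
  exact Finset.sum_congr rfl fun t _ => Finsupp.mapDomain_single

lemma degree_map {α β : Type*} (g : α → β) (e : α →₀ ℕ) :
    (Finsupp.mapDomain g e).degree = e.degree := by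
  induction e using Finsupp.induction_linear with
  | zero => simp
  | add a b ha hb => rw [Finsupp.mapDomain_add, map_add, map_add, ha, hb]
  | single a b => rw [Finsupp.mapDomain_single]; simp [Finsupp.degree_single]

lemma exists_sorted {n : ℕ} (e : Fin n →₀ ℕ) : ∃ (ℓ : ℕ) (s : Fin ℓ → Fin n) (a : Fin ℓ → ℕ),
    StrictMono s ∧ (∀ t, 0 < a t) ∧ e = ∑ t, Finsupp.single (s t) (a t) := by
  let o := e.support.orderEmbOfFin rfl
  refine ⟨e.support.card, o, fun t => e (o t), o.strictMono,
    fun t => Nat.pos_of_ne_zero (Finsupp.mem_support_iff.mp (e.support.orderEmbOfFin_mem rfl t)), ?_⟩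
  conv_lhs => rw [← Finsupp.sum_single e, Finsupp.sum, ← Finset.map_orderEmbOfFin_univ e.support rfl]
  rw [Finset.sum_map]
  rfl

lemma exists_fin (e : ℕ →₀ ℕ) : ∃ (N : ℕ) (e' : Fin N →₀ ℕ), Finsupp.mapDomain Fin.val e' = e := by
  refine ⟨e.support.sup id + 1, e.comapDomain Fin.val Fin.val_injective.injOn, ?_⟩
  refine Finsupp.mapDomain_comapDomain _ Fin.val_injective _ fun x hx => ?_
  exact ⟨⟨x, Nat.lt_succ_of_le (Finset.le_sup (f := id) hx)⟩, rfl⟩


/-- The ring QSym of quasisymmetric functions over ℤ, with its restriction maps to the polynomial rings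
in finitely many ordered variables, is the limit of the diagram S ↦ ℤ[α_s : s ∈ S] over finite
ordered sets S and order-preserving injections (an injection φ : S → T acting by α_t ↦ α_s when t =
φ s and α_t ↦ 0 otherwise), the limit being taken in graded rings. Stated here on degree-d
components, with the variables indexed by ℕ in place of the positive integers and the finite ordered
sets taken to be the Fin n: (a) if F is a formal power series over ℤ in variables indexed by ℕ which
is quasisymmetric (for strictly increasing i, j : Fin ℓ → ℕ and positive exponents a, the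
coefficients of ∏ x_{i t}^{a t} and ∏ x_{j t}^{a t} agree) and all of whose monomials have degree d,
then its restrictions to the initial segments Fin n ⊂ ℕ are compatible with every order embedding
Fin n ↪o Fin m; (b) every family of degree-d homogeneous polynomials f n ∈ ℤ[x_s : s ∈ Fin n],
compatible with all order embeddings Fin n ↪o Fin m in this sense, is the family of restrictions of
exactly one such quasisymmetric F of degree d. -/
theorem result (d : ℕ) :
    (∀ F : MvPowerSeries ℕ ℤ,
      (∀ (ℓ : ℕ) (i j : Fin ℓ → ℕ) (a : Fin ℓ → ℕ), StrictMono i → StrictMono j → (∀ t, 0 < a t) →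
        MvPowerSeries.coeff (∑ t : Fin ℓ, Finsupp.single (i t) (a t)) F =
          MvPowerSeries.coeff (∑ t : Fin ℓ, Finsupp.single (j t) (a t)) F) →
      (∀ e : ℕ →₀ ℕ, MvPowerSeries.coeff e F ≠ 0 → e.degree = d) →
      ∀ (n m : ℕ) (φ : Fin n ↪o Fin m) (e : Fin n →₀ ℕ),
        MvPowerSeries.coeff (Finsupp.mapDomain Fin.val e) F =
          MvPowerSeries.coeff (Finsupp.mapDomain Fin.val (Finsupp.mapDomain φ e)) F) ∧
    (∀ f : (n : ℕ) → MvPolynomial (Fin n) ℤ,
      (∀ n, (f n).IsHomogeneous d) →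
      (∀ (n m : ℕ) (φ : Fin n ↪o Fin m) (e : Fin n →₀ ℕ),
        MvPolynomial.coeff e (f n) = MvPolynomial.coeff (Finsupp.mapDomain φ e) (f m)) →
      ∃! F : MvPowerSeries ℕ ℤ,
        (∀ (ℓ : ℕ) (i j : Fin ℓ → ℕ) (a : Fin ℓ → ℕ), StrictMono i → StrictMono j → (∀ t, 0 < a t) →
          MvPowerSeries.coeff (∑ t : Fin ℓ, Finsupp.single (i t) (a t)) F =
            MvPowerSeries.coeff (∑ t : Fin ℓ, Finsupp.single (j t) (a t)) F) ∧
        (∀ e : ℕ →₀ ℕ, MvPowerSeries.coeff e F ≠ 0 → e.degree = d) ∧
        (∀ (n : ℕ) (e : Fin n →₀ ℕ),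
          MvPowerSeries.coeff (Finsupp.mapDomain Fin.val e) F = MvPolynomial.coeff e (f n))) := by
  refine ⟨fun F hF _ n m φ e => ?_, fun f hhom hcomp => ?_⟩
  · obtain ⟨ℓ, s, a, hs, ha, rfl⟩ := exists_sorted e
    rw [← Finsupp.mapDomain_comp, mapDomain_sum, mapDomain_sum]
    exact hF ℓ _ _ a (Fin.val_strictMono.comp hs) ((Fin.val_strictMono.comp φ.strictMono).comp hs) ha
  · have hex : ∀ e : ℕ →₀ ℕ, ∃ (N : ℕ) (e' : Fin N →₀ ℕ), Finsupp.mapDomain Fin.val e' = e :=
      exists_fin
    choose N p hp using hex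
    have hval : ∀ (n : ℕ) (e' : Fin n →₀ ℕ),
        MvPolynomial.coeff (p (Finsupp.mapDomain Fin.val e')) (f (N (Finsupp.mapDomain Fin.val e'))) =
          MvPolynomial.coeff e' (f n) := by
      intro n e'
      set e := Finsupp.mapDomain Fin.val e' with he
      have h1 := hcomp n _ (Fin.castLEOrderEmb (le_max_left n (N e))) e'
      have h2 := hcomp (N e) _ (Fin.castLEOrderEmb (le_max_right n (N e))) (p e)
      rw [h1, h2]
      congr 1
      apply Finsupp.mapDomain_injective Fin.val_injective
      rw [← Finsupp.mapDomain_comp, ← Finsupp.mapDomain_comp]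
      show Finsupp.mapDomain Fin.val (p e) = Finsupp.mapDomain Fin.val e'
      rw [hp]
    refine ⟨fun e => MvPolynomial.coeff (p e) (f (N e)), ⟨?_, ?_, fun n e => hval n e⟩, ?_⟩
    · intro ℓ i j a hi hj ha
      suffices H : ∀ i : Fin ℓ → ℕ, StrictMono i →
          MvPolynomial.coeff (p (∑ t, Finsupp.single (i t) (a t))) (f (N (∑ t, Finsupp.single (i t) (a t)))) =
            MvPolynomial.coeff (∑ t, Finsupp.single t (a t)) (f ℓ) from (H i hi).trans (H j hj).symm
      intro i hi
      obtain ⟨M, hM⟩ : ∃ M, ∀ t, i t < M :=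
        ⟨(Finset.univ.sup i) + 1, fun t => Nat.lt_succ_of_le (Finset.le_sup (Finset.mem_univ t))⟩
      let φ : Fin ℓ ↪o Fin M := OrderEmbedding.ofStrictMono (fun t => ⟨i t, hM t⟩) (fun a b h => hi h)
      rw [hcomp ℓ M φ, ← hval M (Finsupp.mapDomain φ (∑ t, Finsupp.single t (a t))),
        ← Finsupp.mapDomain_comp, mapDomain_sum (Fin.val ∘ φ) (fun t => t) a]
      rfl
    · intro e he
      have := hhom (N e) he
      rw [← hp e, degree_map Fin.val (p e), ← this]
      simp [Finsupp.degree_eq_weight_one, Finsupp.weight_apply, Finsupp.sum]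
    · rintro G ⟨_, _, hG⟩
      funext e
      rw [← hG (N e) (p e), hp]
      rfl
end Groth.Agent.S17171
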