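import Groth.Statements.S17173
import Groth.Agent.LabGraphLead.Basic

set_option autoImplicit false
universe u
open LabGraph

namespace Groth.Agent.S17173

open LabGraph in
/-- Let Γ be the weighted dual graph of a quasistable curve X of genus g ≥ 3 over an algebraically
closed field (vertices the irreducible components C_v with weight the geometric genus, one edge per
node, a loop for a node on a single component): Γ is connected, every weight-zero vertex without
loop is joined to the other vertices by at least two edges, and no edge joins two exceptional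
vertices (weight zero, no loop, exactly two edges to other vertices). Let d be a multidegree of any
total degree D (the combinatorial section fixes an arbitrary integer d; g ≥ 3 is the paper's
standing assumption). Then the degree class of d contains a representative satisfying the Basic
Inequality: there is a multidegree d', differing from d by the twist of some integer vertex
labelling (the multidegree of a divisor Σ φ_v C_v on the total space of a regular smoothing), such
that for every set Y of vertices 2·|(2g - 2)·d'_Y - D·canDeg Y| ≤ cut Y·(2g - 2), where canDeg Y = 2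
g_Y - 2 + cut Y is the degree of the dualizing sheaf on the subcurve Y and cut Y the number of nodes
where Y meets the rest of X. -/
theorem result {V E : Type u} [Fintype V] [Fintype E]
    [DecidableEq V] [DecidableEq E] (ends : E → V × V) (w : V → ℕ) (hX : IsQuasistableGraph ends w)
    (hg : 3 ≤ genus ends w) (d : V → ℤ) :
    ∃ d' : V → ℤ, TwistEquiv ends d' d ∧ SatisfiesBI ends w d' := by
  classical
  set K := canDeg ends w Finset.univ with hK
  have hKpos : 1 ≤ K := by rw [hK, LabGraphLead.canDeg_univ]; omega
  set D := ∑ v, d v with hD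
  let e : V → ℤ := fun v => K * d v - D * canDeg ends w {v}
  have he : ∑ v, e v = 0 := by
    simp only [e, Finset.sum_sub_distrib, ← Finset.mul_sum, ← hD]
    have : ∑ v, canDeg ends w {v} = K := by simp [hK, canDeg]
    rw [this]; ring
  let F : (V → ℤ) → ℤ := fun φ => 2 * (∑ v, φ v * e v) - K * ∑ x : E, (φ (ends x).1 - φ (ends x).2) ^ 2
  obtain ⟨v₀⟩ := hX.1.1.1
  let c : ℤ := 2 * ∑ v, |e v|
  have hF : ∀ φ, F φ ≤ ∑ _x : E, c ^ 2 := by
    intro φ
    let S := ∑ x : E, |φ (ends x).1 - φ (ends x).2|
    have h1 : ∑ v, φ v * e v = ∑ v, (φ v - φ v₀) * e v := by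
      simp only [sub_mul, Finset.sum_sub_distrib, ← Finset.mul_sum, he, mul_zero, sub_zero]
    have h2 : ∑ v, φ v * e v ≤ ∑ v, S * |e v| := by
      rw [h1]
      refine Finset.sum_le_sum fun v _ => (le_abs_self _).trans ?_
      rw [abs_mul]
      exact mul_le_mul_of_nonneg_right (LabGraphLead.abs_sub_le_sum hX.1.1 φ v v₀) (abs_nonneg _)
    rw [← Finset.mul_sum] at h2
    have h3 : c * S - K * ∑ x : E, (φ (ends x).1 - φ (ends x).2) ^ 2 ≤ ∑ _x : E, c ^ 2 := by
      simp only [S, Finset.mul_sum, ← Finset.sum_sub_distrib]
      refine Finset.sum_le_sum fun x _ => ?_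
      have := sq_abs (φ (ends x).1 - φ (ends x).2)
      nlinarith [sq_nonneg (|φ (ends x).1 - φ (ends x).2| - c), sq_nonneg (φ (ends x).1 - φ (ends x).2)]
    simp only [F, c] at *
    linarith
  obtain ⟨m, ⟨φ, rfl⟩, hmax⟩ := Int.exists_greatest_of_bdd (P := fun z => ∃ φ, F φ = z)
    ⟨_, by rintro z ⟨φ, rfl⟩; exact hF φ⟩ ⟨F 0, 0, rfl⟩
  refine ⟨fun v => d v + twist ends φ v, ⟨φ, fun v => by simp⟩, ?_⟩
  rw [LabGraphLead.satisfiesBI_iff]
  intro Y
  rw [LabGraphLead.excess_add_twist, LabGraphLead.sum_twist, LabGraphLead.ind_sq_cut]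
  have h := hmax _ ⟨fun v => φ v + LabGraphLead.ind Y v, rfl⟩
  have hlin : ∑ v, LabGraphLead.ind Y v * e v = K * (∑ v ∈ Y, d v) - D * canDeg ends w Y := by
    simp [LabGraphLead.ind, e, Finset.sum_ite_mem, Finset.sum_sub_distrib, ← Finset.mul_sum, canDeg]
  have hq : ∑ x : E, ((φ (ends x).1 + LabGraphLead.ind Y (ends x).1) - (φ (ends x).2 + LabGraphLead.ind Y (ends x).2)) ^ 2 =
      (∑ x : E, (φ (ends x).1 - φ (ends x).2) ^ 2) + 2 * (∑ x : E, (LabGraphLead.ind Y (ends x).1 - LabGraphLead.ind Y (ends x).2) * (φ (ends x).1 - φ (ends x).2))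
      + ∑ x : E, (LabGraphLead.ind Y (ends x).1 - LabGraphLead.ind Y (ends x).2) ^ 2 := by
    simp only [Finset.mul_sum, ← Finset.sum_add_distrib]
    exact Finset.sum_congr rfl fun x _ => by ring
  simp only [F, add_mul, Finset.sum_add_distrib, hlin, hq] at h
  simp only [LabGraphLead.excess, ← hK, ← hD]
  linarith

end Groth.Agent.S17173
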