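import Groth.Statements.S17174
import Groth.Agent.LabGraphLead.Basic

set_option autoImplicit false
universe u
open LabGraph

namespace Groth.Agent.S17174

open LabGraph in
/-- Let Γ be the weighted dual graph of a Deligne–Mumford semistable curve X of genus g ≥ 3 over an
algebraically closed field (connected; every weight-zero vertex without loop is joined to the other
vertices by at least two edges), and let d, d' be two multidegrees of the same (arbitrary) total
degree D (g ≥ 3 being the paper's standing assumption) which both satisfy the Basic Inequality and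
lie in the same degree class (d - d' is a twist). Then d - d' can be written in normal form: there
is a labelling h of the vertices by natural numbers taking exactly the values 0, 1, …, q, with d -
d' equal to the twist of h (that is, d - d' = Σ_v h(v)·c_v with c_v the multidegree of O(C_v)), such
that for distinct levels i ≠ j in {0, …, q} the subcurves on h⁻¹(i) and h⁻¹(j) meet (some edge joins
the two levels) exactly when |i - j| = 1. -/
theorem result {V E : Type u} [Fintype V] [Fintype E]
    [DecidableEq V] [DecidableEq E] (ends : E → V × V) (w : V → ℕ) (hX : IsSemistableGraph ends w)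
    (hg : 3 ≤ genus ends w) (d d' : V → ℤ)
    (hBI : SatisfiesBI ends w d) (hBI' : SatisfiesBI ends w d') (heq : TwistEquiv ends d d') :
    ∃ (q : ℕ) (h : V → ℕ), (∀ v : V, h v ≤ q) ∧ (∀ i : ℕ, i ≤ q → ∃ v : V, h v = i) ∧
      (∀ v : V, d v - d' v = twist ends (fun u => (h u : ℤ)) v) ∧
      (∀ i j : ℕ, i ≤ q → j ≤ q → i ≠ j →
        ((∃ e : E, (h (ends e).1 = i ∧ h (ends e).2 = j) ∨ (h (ends e).1 = j ∧ h (ends e).2 = i)) ↔
          (i + 1 = j ∨ j + 1 = i))) := by
  classical
  obtain ⟨φ, hφ⟩ := heq
  set K := canDeg ends w Finset.univ with hK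
  have hKpos : 1 ≤ K := by rw [hK, LabGraphLead.canDeg_univ]; omega
  have hDD : ∑ v, d v = ∑ v, d' v := by
    have : ∑ v, (d v - d' v) = 0 := by simp only [hφ, LabGraphLead.sum_twist_univ]
    rw [Finset.sum_sub_distrib] at this; omega
  have hstep : ∀ e, |φ (ends e).1 - φ (ends e).2| ≤ 1 := by
    intro e₀
    by_contra hbig
    push Not at hbig
    set t := min (φ (ends e₀).1) (φ (ends e₀).2) + 1 with ht
    let Y := Finset.univ.filter fun v => t ≤ φ v
    have h1 := (LabGraphLead.satisfiesBI_iff ends w d).1 hBI Yᶜ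
    have h2 := (LabGraphLead.satisfiesBI_iff ends w d').1 hBI' Y
    rw [LabGraphLead.excess_compl, LabGraphLead.cut_compl] at h1
    have h3 : ∑ v ∈ Y, d v - ∑ v ∈ Y, d' v = ∑ v ∈ Y, twist ends φ v := by
      rw [← Finset.sum_sub_distrib]; exact Finset.sum_congr rfl fun v _ => hφ v
    rw [LabGraphLead.sum_twist] at h3
    have h4 : (cut ends Y : ℤ) < ∑ e, (LabGraphLead.ind Y (ends e).1 - LabGraphLead.ind Y (ends e).2) * (φ (ends e).1 - φ (ends e).2) := by
      rw [LabGraphLead.ind_sq_cut]
      refine Finset.sum_lt_sum (fun e _ => ?_) ⟨e₀, Finset.mem_univ _, ?_⟩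
      · by_cases a : t ≤ φ (ends e).1 <;> by_cases b : t ≤ φ (ends e).2 <;>
          simp [LabGraphLead.ind, Y, a, b] <;> omega
      · rcases abs_cases (φ (ends e₀).1 - φ (ends e₀).2) with ⟨h, h'⟩ | ⟨h, h'⟩
        · have a : t ≤ φ (ends e₀).1 := by omega
          have b : ¬ t ≤ φ (ends e₀).2 := by omega
          simp [LabGraphLead.ind, Y, a, b]; omega
        · have a : ¬ t ≤ φ (ends e₀).1 := by omega
          have b : t ≤ φ (ends e₀).2 := by omega
          simp [LabGraphLead.ind, Y, a, b]; omega
    simp only [LabGraphLead.excess, ← hK, hDD] at h1 h2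
    nlinarith
  obtain ⟨v₀⟩ := hX.1.1
  have hne : (Finset.univ : Finset V).Nonempty := ⟨v₀, Finset.mem_univ _⟩
  obtain ⟨vm, -, hvm⟩ := Finset.exists_min_image Finset.univ φ hne
  obtain ⟨vM, -, hvM⟩ := Finset.exists_max_image Finset.univ φ hne
  let h : V → ℕ := fun v => (φ v - φ vm).toNat
  have hh : ∀ v, (h v : ℤ) = φ v - φ vm := fun v => Int.toNat_of_nonneg (by have := hvm v (Finset.mem_univ v); omega)
  have hle : ∀ v, h v ≤ h vM := fun v => Int.toNat_le_toNat (by have := hvM v (Finset.mem_univ v); omega)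
  have hcross : ∀ t : ℕ, t < h vM → ∃ e : E, (h (ends e).1 = t ∧ h (ends e).2 = t + 1) ∨
      (h (ends e).1 = t + 1 ∧ h (ends e).2 = t) := by
    intro t ht
    by_contra hno
    have := LabGraphLead.eq_of_forall_edge hX.1 (fun v => decide (h v ≤ t)) (fun e => by
      have h1 := hstep e
      have h2 := not_exists.1 hno e
      simp only [not_or, not_and_or] at h2
      have h3 := hh (ends e).1
      have h4 := hh (ends e).2
      rcases abs_cases (φ (ends e).1 - φ (ends e).2) with ⟨h5, h6⟩ | ⟨h5, h6⟩ <;>
        simp only [decide_eq_decide] <;> omega) vm vM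
    simp only [decide_eq_decide] at this
    have : h vm = 0 := by simp [h]
    omega
  refine ⟨h vM, h, hle, fun i hi => ?_, fun v => ?_, fun i j hi hj hij => ⟨?_, ?_⟩⟩
  · rcases eq_or_lt_of_le hi with rfl | hlt
    · exact ⟨vM, rfl⟩
    · obtain ⟨e, ⟨he, -⟩ | ⟨-, he⟩⟩ := hcross i hlt <;> exact ⟨_, he⟩
  · rw [hφ]
    simp only [twist, hh, sub_sub_sub_cancel_right]
  · rintro ⟨e, he⟩
    have h1 := hstep e
    have h3 := hh (ends e).1
    have h4 := hh (ends e).2
    rcases abs_cases (φ (ends e).1 - φ (ends e).2) with ⟨h5, h6⟩ | ⟨h5, h6⟩ <;> omega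
  · rintro (rfl | rfl)
    · obtain ⟨e, he⟩ := hcross i (by omega)
      exact ⟨e, he⟩
    · obtain ⟨e, he⟩ := hcross j (by omega)
      exact ⟨e, he.symm⟩

end Groth.Agent.S17174
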