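import Groth.Statements.S17175
import Mathlib.Tactic.Ring
import Mathlib.RingTheory.PowerSeries.Inverse

set_option autoImplicit false
universe u
open CAlg

namespace Groth.Agent.S17175

open PowerSeries in
/-- Let k be a field, O₀ = k[[x, y]]/(xy) the complete local ring of a node and Õ₀ = k[[x]] × k[[y]] its
normalization, O₀ being embedded in Õ₀ by h ↦ (h(x, 0), h(0, y)) as the subring of pairs with equal
constant coefficients. Regard Õ₀ as an O₀-module: it is the rank-one torsion-free O₀-module that is
not free. Then every O₀-linear endomorphism of this module is Õ₀-linear, i.e. it is multiplication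
by a unique element of Õ₀; consequently its O₀-endomorphism ring is Õ₀ and its O₀-automorphism group
is the unit group of Õ₀. Here an O₀-linear endomorphism is an additive map of k[[X]] × k[[X]]
commuting with multiplication by every pair whose two constant coefficients agree. (The source works
over an algebraically closed field; only the field structure is used.) -/
theorem result (k : Type u) [Field k]
    (φ : (k⟦X⟧ × k⟦X⟧) →+ (k⟦X⟧ × k⟦X⟧))
    (hφ : ∀ a s : k⟦X⟧ × k⟦X⟧, constantCoeff a.1 = constantCoeff a.2 → φ (a * s) = a * φ s) :
    ∃! b : k⟦X⟧ × k⟦X⟧, ∀ s : k⟦X⟧ × k⟦X⟧, φ s = b * s := by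
  refine ⟨φ 1, fun s => ?_, fun b hb => by simpa using (hb 1).symm⟩
  let a : k⟦X⟧ × k⟦X⟧ := (PowerSeries.X, PowerSeries.X)
  have h1 : φ (a * s) = a * φ s := hφ a s (by simp [a])
  have h2 : φ (a * s * 1) = a * s * φ 1 := hφ (a * s) 1 (by simp [a])
  rw [mul_one, h1, mul_assoc] at h2
  exact Prod.ext (mul_left_cancel₀ PowerSeries.X_ne_zero (by
      have := congrArg Prod.fst h2; simp only [a, Prod.fst_mul] at this ⊢; rw [this]; ring))
    (mul_left_cancel₀ PowerSeries.X_ne_zero (by
      have := congrArg Prod.snd h2; simp only [a, Prod.snd_mul] at this ⊢; rw [this]; ring))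

end Groth.Agent.S17175
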