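import Groth.Statements.S17176
import Mathlib.Tactic.LinearCombination
import Mathlib.RingTheory.Int.Basic

set_option autoImplicit false
open Curves

namespace Groth.Agent.S17176

/-- Fix integers g ≥ 3 and d. For a complete subcurve Y of arithmetic genus g_Y of a nodal curve of
genus g, meeting the rest of the curve in k points, the lower extreme of the Basic Inequality for
line bundles of degree d is m = d(2g_Y - 2 + k)/(2g - 2) - k/2, which is an integer exactly when 2(g
- 1) divides d(2g_Y - 2 + k) - k(g - 1). Then gcd(d - g + 1, 2g - 2) = 1 if and only if m is not an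
integer for all integers g_Y, k with 0 < g_Y < g - 1, k ≥ 1 and k + 2g_Y - 2 < 2g - 2. (The row
makes explicit the bound 2g_Y - 2 + k < 2g - 2, which is automatic for subcurves of stable curves
and is satisfied by every subcurve to which the source applies the lemma; the source leaves the
ambient curve's class implicit.) -/
theorem result (g d : ℤ) (hg : 3 ≤ g) :
    Int.gcd (d - g + 1) (2 * g - 2) = 1 ↔
      ∀ gY k : ℤ, 0 < gY → gY < g - 1 → 1 ≤ k → k + 2 * gY - 2 < 2 * g - 2 →
        ¬ (2 * (g - 1) ∣ d * (2 * gY - 2 + k) - k * (g - 1)) := by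
  constructor
  · intro hgcd gY k h1 h2 h3 h4 hdvd
    have : 2 * g - 2 ∣ (2 * gY - 2 + k) * (d - g + 1) := by
      obtain ⟨c, hc⟩ := hdvd
      exact ⟨c - gY + 1, by linear_combination hc⟩
    have hm : 2 * g - 2 ∣ 2 * gY - 2 + k :=
      Int.dvd_of_dvd_mul_left_of_gcd_one this (by rwa [Int.gcd_comm])
    have := Int.le_of_dvd (by omega) hm
    omega
  · intro h
    by_contra hne
    obtain ⟨p, hp⟩ : ∃ p, (Int.gcd (d - g + 1) (2 * g - 2) : ℤ) = p := ⟨_, rfl⟩
    have hne' : p ≠ 1 := by omega
    have hp0 : 0 < p := by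
      rcases Nat.eq_zero_or_pos (Int.gcd (d - g + 1) (2 * g - 2)) with h0 | h0
      · simp [Int.gcd_eq_zero_iff] at h0; omega
      · omega
    obtain ⟨m, hm⟩ : p ∣ 2 * g - 2 := hp ▸ Int.gcd_dvd_right _ _
    obtain ⟨c, hc⟩ : p ∣ d - g + 1 := hp ▸ Int.gcd_dvd_left _ _
    have hp2 : 2 ≤ p := by omega
    have hm0 : 1 ≤ m := by nlinarith
    have hm1 : 2 * m ≤ 2 * g - 2 := by nlinarith
    refine h 1 m (by omega) (by omega) hm0 (by omega) ⟨c * 1, ?_⟩
    linear_combination m * hc - c * hm

end Groth.Agent.S17176
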