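import Groth.Statements.S17179
import Groth.Agent.LabGraphLead.Basic

set_option autoImplicit false
universe u
open LabGraph

namespace Groth.Agent.S17179

open LabGraph in
/-- Let Γ be the weighted dual graph of a Deligne–Mumford semistable curve X of genus g ≥ 3 (connected;
every weight-zero vertex without loop joined to the other vertices by at least two edges), d a
multidegree of total degree D satisfying the Basic Inequality, and Z a set of vertices whose degree
equals the upper extreme M_Z of the inequality, that is 2((2g - 2)·d_Z - D·canDeg Z) = cut Z·(2g -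
2). Then d + z again satisfies the Basic Inequality, where z, the multidegree of O(Z) on the total
space of a regular smoothing, is the twist of the indicator function of Z (it lowers the degree on Z
by cut Z and raises it on each outside vertex by its number of edges to Z). -/
theorem result {V E : Type u} [Fintype V] [Fintype E]
    [DecidableEq V] [DecidableEq E] (ends : E → V × V) (w : V → ℕ) (hX : IsSemistableGraph ends w)
    (hg : 3 ≤ genus ends w) (d : V → ℤ) (hBI : SatisfiesBI ends w d) (Z : Finset V)
    (hZ : 2 * (canDeg ends w Finset.univ * (∑ v ∈ Z, d v) - (∑ v : V, d v) * canDeg ends w Z) =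
      (cut ends Z : ℤ) * canDeg ends w Finset.univ) :
    SatisfiesBI ends w (fun v => d v + twist ends (fun u => if u ∈ Z then 1 else 0) v) := by
  rw [LabGraphLead.satisfiesBI_iff] at hBI ⊢
  have hmain : ∀ Y : Finset V, LabGraphLead.excess ends w (fun v => d v + twist ends (fun u => if u ∈ Z then 1 else 0) v) Y
      ≤ cut ends Y * canDeg ends w Finset.univ := by
    intro Y
    rw [LabGraphLead.excess_add_twist, LabGraphLead.sum_twist]
    have h1 := LabGraphLead.excess_union_inter ends w d Y Z
    have h2 := hBI (Y ∪ Z)
    have h3 := hBI (Y ∩ Z)
    have hK : 0 ≤ canDeg ends w Finset.univ := by rw [LabGraphLead.canDeg_univ]; omega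
    have hZ' : LabGraphLead.excess ends w d Z = (cut ends Z : ℤ) * canDeg ends w Finset.univ := hZ
    have key : (cut ends (Y ∪ Z) : ℤ) + cut ends (Y ∩ Z) - cut ends Z +
        2 * (-∑ e, (LabGraphLead.ind Y (ends e).1 - LabGraphLead.ind Y (ends e).2) *
          ((if (ends e).1 ∈ Z then (1 : ℤ) else 0) - if (ends e).2 ∈ Z then 1 else 0)) ≤ cut ends Y := by
      simp only [LabGraphLead.ind_sq_cut, ← Finset.sum_neg_distrib, Finset.mul_sum,
        ← Finset.sum_add_distrib, ← Finset.sum_sub_distrib]
      refine Finset.sum_le_sum fun e _ => ?_
      by_cases a : (ends e).1 ∈ Y <;> by_cases b : (ends e).2 ∈ Y <;> by_cases a' : (ends e).1 ∈ Z <;>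
        by_cases b' : (ends e).2 ∈ Z <;> simp [LabGraphLead.ind, a, b, a', b']
    have := mul_le_mul_of_nonneg_right key hK
    linarith
  exact hmain

end Groth.Agent.S17179
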