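import Groth.Agent.ConnCompExt.GenericFibre
import Groth.Statements.S17181
-- import your own Groth.Agent.* helpers here

set_option autoImplicit false
set_option backward.isDefEq.respectTransparency false
set_option backward.isDefEq.respectTransparency.types false
universe u
open CategoryTheory CategoryTheory.Limits AlgebraicGeometry
open FBase

namespace Groth.Agent.S17181

/-- Let k be a field, C an irreducible k-scheme which is geometrically irreducible over k, and f : X → C
a flat k-morphism locally of finite type with X irreducible. If the generic fibre of f is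
geometrically irreducible over the residue field of the generic point of C, then X is geometrically
irreducible over k. (The published setting is a regular proper surface mapping onto a smooth
projective geometrically irreducible curve with smooth projective geometrically irreducible generic
fibre; the printed argument uses only the hypotheses kept here.) -/
theorem result (k : Type u) [Field k]
    (X C : Scheme.{u}) [X.Over (Spec (CommRingCat.of k))] [C.Over (Spec (CommRingCat.of k))]
    (f : X ⟶ C) [f.IsOver (Spec (CommRingCat.of k))] [IrreducibleSpace X] [IrreducibleSpace C]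
    [GeometricallyIrreducible (C ↘ Spec (CommRingCat.of k))] [Flat f] [LocallyOfFiniteType f]
    [GeometricallyIrreducible (f.fiberToSpecResidueField (genericPoint C))] :
    GeometricallyIrreducible (X ↘ Spec (CommRingCat.of k)) := by
  let c := C ↘ Spec (CommRingCat.of k)
  let η := genericPoint C
  let ξ := genericPoint X
  have hfξ : f ξ = η := by
    obtain ⟨x', hx', hfx'⟩ := Flat.generalizingMap f (genericPoint_specializes (f ξ))
    have : x' = ξ := (hx'.antisymm (genericPoint_specializes x')).eq
    exact this ▸ hfx'
  let K := SeparableClosure k
  let s := Spec.map (CommRingCat.ofHom (algebraMap k K))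
  let φ := C.fromSpecResidueField η ≫ c
  have hκ : letI := Curv2.resAlgebra k C η; separableClosure k (C.residueField η) = ⊥ :=
    (ConnCompExt.geometricallyIrreducible_iff_generic C).1 inferInstance
  letI := Curv2.resAlgebra k C η
  have hφ : Spec.map (CommRingCat.ofHom (algebraMap k (C.residueField η))) = φ := ConnCompExt.specMap_resMap C η
  haveI := GeomConnExt.subsingleton_of_algebraic k (C.residueField η) hκ K
  haveI : Subsingleton ↥(Spec (CommRingCat.of (TensorProduct k (C.residueField η) K))) :=
    inferInstanceAs (Subsingleton (PrimeSpectrum (TensorProduct k (C.residueField η) K)))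
  haveI : Subsingleton ↥(pullback φ s) :=
    ((pullback.congrHom hφ.symm rfl ≪≫ pullbackSpecIso k (C.residueField η) K).hom.homeomorph).subsingleton
  haveI : Nonempty ↥(pullback φ s) := by
    obtain ⟨z, -⟩ : Classical.arbitrary ↥(Spec (C.residueField η)) ∈ Set.range (pullback.fst φ s) := by
      rw [Scheme.Pullback.range_fst]
      exact GeomConn.surjective_specMap_field _
    exact ⟨z⟩
  let q := f.fiberToSpecResidueField η
  haveI : IrreducibleSpace ↥(pullback q (pullback.fst φ s)) := by
    haveI : Nonempty ↥(pullback q (pullback.fst φ s)) := by
      obtain ⟨z, -⟩ := (pullback.snd q (pullback.fst φ s)).surjective (Classical.arbitrary _)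
      exact ⟨z⟩
    exact GeometricallyIrreducible.irreducibleSpace_of_subsingleton (pullback.snd q (pullback.fst φ s))
  have hx : X ↘ Spec (CommRingCat.of k) = f ≫ c := (comp_over f (Spec (CommRingCat.of k))).symm
  have hq : q ≫ φ = f.fiberι η ≫ (X ↘ Spec (CommRingCat.of k)) := by
    rw [hx]
    show pullback.snd f (C.fromSpecResidueField η) ≫ _ ≫ c = pullback.fst f (C.fromSpecResidueField η) ≫ f ≫ c
    rw [← pullback.condition_assoc]
  let j : pullback (f.fiberι η ≫ (X ↘ Spec (CommRingCat.of k))) s ⟶ pullback (X ↘ Spec (CommRingCat.of k)) s :=
    pullback.map _ _ _ _ (f.fiberι η) (𝟙 _) (𝟙 _) (by simp) (by simp)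
  have hr : Set.range j = pullback.fst (X ↘ Spec (CommRingCat.of k)) s ⁻¹' (f ⁻¹' {η}) := by
    rw [Scheme.Pullback.range_map, Scheme.Hom.range_fiberι]
    simp
  haveI : IrreducibleSpace ↥(pullback (f.fiberι η ≫ (X ↘ Spec (CommRingCat.of k))) s) := by
    let e := pullbackRightPullbackFstIso φ s q ≪≫ pullback.congrHom hq rfl
    exact e.hom.surjective.irreducibleSpace e.hom.continuous
  haveI : IrreducibleSpace ↥(ConnCompExt.bcS (X ↘ Spec (CommRingCat.of k)) K) := by
    have h2 : IsIrreducible (Set.range j) := by
      rw [← Set.image_univ]
      exact (IrreducibleSpace.isIrreducible_univ _).image _ j.continuous.continuousOn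
    have h3 : closure (Set.range j) = Set.univ := by
      refine Set.eq_univ_of_univ_subset ?_
      rw [hr, ← Set.preimage_univ (f := pullback.fst (X ↘ Spec (CommRingCat.of k)) s),
        ← (genericPoint_spec X).def,
        (GeomConn.isOpenMap_fst _).preimage_closure_eq_closure_preimage (Scheme.Hom.continuous _)]
      refine closure_mono (Set.preimage_mono ?_)
      rintro _ rfl
      exact hfξ
    exact (irreducibleSpace_def _).2 (by rw [Set.top_eq_univ, ← h3]; exact h2.closure)
  exact ConnCompExt.geometricallyIrreducible_of_sepClosure _

end Groth.Agent.S17181
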