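import Groth.Statements.S17247
import Groth.Agent.FunFldLib.Cor
import Groth.Agent.FunFldLib.Gaps

set_option autoImplicit false
open FunFld

namespace Groth.Agent.S17247

open FunFldLib in
theorem sum_tri : ∀ j : ℕ, (∑ n ∈ Finset.range j, (j + 1 - n)) + 1 = (j + 2).choose 2 := by
  intro j
  induction j with
  | zero => rfl
  | succ j ih =>
    rw [Finset.sum_range_succ', show (j + 1 + 2).choose 2 = (j + 2).choose 1 + (j + 2).choose 2 from
      Nat.choose_succ_succ _ _, Nat.choose_one_right, ← ih]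
    have : ∑ n ∈ Finset.range j, (j + 1 + 1 - (n + 1)) = ∑ n ∈ Finset.range j, (j + 1 - n) :=
      Finset.sum_congr rfl fun n _ => by omega
    omega

section
open FunFld FunFldLib
variable {k K : Type*} [Field k] [IsAlgClosed k] [Field K] [Algebra k K]
  (hK : IsFunctionField k K) (hg1 : genus k K = 1) {A Q : Place k K} (hQ : Q ≠ A)

/-- `a A - b Q` -/
noncomputable def D2 (A Q : Place k K) (a b : ℤ) : Divisor k K := Finsupp.single A a - Finsupp.single Q b

include hQ in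
theorem D2_apply (a b : ℤ) : D2 A Q a b A = a ∧ D2 A Q a b Q = -b ∧ ∀ R, R ≠ A → R ≠ Q → D2 A Q a b R = 0 := by
  refine ⟨?_, ?_, fun R h1 h2 => ?_⟩ <;> simp [D2, Finsupp.single_eq_of_ne, hQ, hQ.symm, *]

include hK in
theorem deg_D2 (a b : ℤ) : (D2 A Q a b).deg = a - b := by
  rw [D2, deg_sub, deg_single, deg_single, deg_eq_one hK A, deg_eq_one hK Q]
  push_cast; ring

include hK hg1 in
theorem ell_D2 {a b : ℤ} (h : b < a) : (ell (D2 A Q a b) : ℤ) = a - b := by
  rw [ell_large hK (by rw [hg1, deg_D2 hK]; omega), hg1, deg_D2 hK]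
  omega

include hQ in
theorem L_inf2 (a b c d : ℤ) : L (D2 A Q a b) ⊓ L (D2 A Q c d) = L (D2 A Q (min a c) (max b d)) := by
  refine le_antisymm (fun f hf R => ?_) (le_inf (L_mono fun R => ?_) (L_mono fun R => ?_))
  · rcases eq_or_ne R A with rfl | hA
    · have h1 := hf.1 R
      have h2 := hf.2 R
      rw [(D2_apply hQ _ _).1] at h1 h2 ⊢
      rcases le_total a c with h | h
      · rwa [min_eq_left h]
      · rwa [min_eq_right h]
    · rcases eq_or_ne R Q with rfl | hR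
      · have h1 := hf.1 R
        have h2 := hf.2 R
        rw [(D2_apply hQ _ _).2.1] at h1 h2 ⊢
        rcases le_total b d with h | h
        · rwa [max_eq_right h]
        · rwa [max_eq_left h]
      · have h1 := hf.1 R
        rwa [(D2_apply hQ _ _).2.2 R hA hR] at h1 ⊢
  all_goals
    rcases eq_or_ne R A with rfl | hA
    · simp [(D2_apply hQ _ _).1]
    · rcases eq_or_ne R Q with rfl | hR
      · simp [(D2_apply hQ _ _).2.1]
      · simp [(D2_apply hQ _ _).2.2 R hA hR]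

include hK hQ in
theorem ord_of_mem {a : ℤ} {f : K} (hf : f ∈ L (D2 A Q a a)) (hf0 : f ≠ 0) :
    A.ord f = -a ∧ Q.ord f = a ∧ ∀ R, R ≠ A → R ≠ Q → R.ord f = 0 := by
  have h0 : D2 A Q a a + div k f = 0 := eq_zero_of_deg_nonpos hK.1 (fun R => by
      have := (mem_L_iff hf0).1 hf R
      rw [Finsupp.zero_apply, Finsupp.add_apply, div_apply hK.1]; omega)
    (by rw [deg_add, deg_D2 hK, deg_div hK.1]; omega)
  have h : ∀ R, D2 A Q a a R + R.ord f = 0 := fun R => by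
    have := DFunLike.congr_fun h0 R
    rwa [Finsupp.add_apply, div_apply hK.1] at this
  refine ⟨?_, ?_, fun R h1 h2 => ?_⟩
  · have := h A; rw [(D2_apply hQ _ _).1] at this; omega
  · have := h Q; rw [(D2_apply hQ _ _).2.1] at this; omega
  · have := h R; rw [(D2_apply hQ _ _).2.2 R h1 h2] at this; omega

include hK hg1 hQ in
theorem not_both {g : ℕ} (hodd : Odd g) (h3 : 3 ≤ g) :
    ell (D2 A Q ((g : ℤ) - 2) ((g : ℤ) - 2)) + ell (D2 A Q (g : ℤ) g) ≤ 1 := by
  by_contra hc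
  have h1 := ell_le_one_of_deg_zero hK (D := D2 A Q ((g : ℤ) - 2) ((g : ℤ) - 2)) (by rw [deg_D2 hK]; omega)
  have h2 := ell_le_one_of_deg_zero hK (D := D2 A Q (g : ℤ) g) (by rw [deg_D2 hK]; omega)
  have hne : ∀ D : Divisor k K, 0 < ell D → ∃ f ∈ L D, f ≠ 0 := fun D hD =>
    Submodule.exists_mem_ne_zero_of_ne_bot fun hb => by rw [ell, hb, finrank_bot] at hD; omega
  obtain ⟨f, hf, hf0⟩ := hne (D2 A Q (g : ℤ) g) (by omega)
  obtain ⟨h, hh, hh0⟩ := hne (D2 A Q ((g : ℤ) - 2) ((g : ℤ) - 2)) (by omega)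
  obtain ⟨m, hm⟩ := hodd
  obtain ⟨fA, fQ, fR⟩ := ord_of_mem hK hQ hf hf0
  obtain ⟨gA, gQ, gR⟩ := ord_of_mem hK hQ hh hh0
  set w := f / (f / h) ^ m with hw
  have hu0 : f / h ≠ 0 := div_ne_zero hf0 hh0
  have hw0 : w ≠ 0 := div_ne_zero hf0 (pow_ne_zero _ hu0)
  have hord : ∀ R : Place k K, R.ord w = R.ord f - m * (R.ord f - R.ord h) := fun R => by
    rw [hw, ord_div R hf0 (pow_ne_zero _ hu0), ord_pow, ord_div R hf0 hh0]
  have hgm : (g : ℤ) = 2 * m + 1 := by exact_mod_cast hm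
  have hwmem : w ∈ L (D2 A Q 1 1) := (mem_L_iff hw0).2 fun R => by
    rw [hord]
    rcases eq_or_ne R A with rfl | hA
    · rw [(D2_apply hQ _ _).1, fA, gA]; ring_nf; omega
    · rcases eq_or_ne R Q with rfl | hR
      · rw [(D2_apply hQ _ _).2.1, fQ, gQ]; ring_nf; omega
      · rw [(D2_apply hQ _ _).2.2 R hA hR, fR R hA hR, gR R hA hR]; ring_nf; omega
  have hle : L (D2 A Q 0 0) ≤ L (D2 A Q 1 0) := L_mono fun R => by
    rcases eq_or_ne R A with rfl | hA
    · simp [(D2_apply hQ _ _).1]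
    · rcases eq_or_ne R Q with rfl | hR
      · simp [(D2_apply hQ _ _).2.1]
      · simp [(D2_apply hQ _ _).2.2 R hA hR]
  have e0 := (ell_zero hK).2
  have e1 := ell_D2 hK hg1 (A := A) (Q := Q) (show (0 : ℤ) < 1 by norm_num)
  have hz : D2 A Q (0 : ℤ) 0 = 0 := by simp [D2]
  rw [hz] at hle
  haveI := finite_L hK.1 (D2 A Q 1 0)
  have heq : L (0 : Divisor k K) = L (D2 A Q 1 0) :=
    Submodule.eq_of_le_of_finrank_le hle (by simp only [ell] at e0 e1; omega)
  have hw1 : w ∈ L (D2 A Q 1 0) := L_mono (fun R => by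
    rcases eq_or_ne R A with rfl | hA
    · simp [(D2_apply hQ _ _).1]
    · rcases eq_or_ne R Q with rfl | hR
      · simp [(D2_apply hQ _ _).2.1]
      · simp [(D2_apply hQ _ _).2.2 R hA hR]) hwmem
  rw [← heq, L_zero' hK] at hw1
  obtain ⟨c, hc'⟩ := hw1
  have h4 := (ord_of_mem hK hQ hwmem hw0).2.1
  have h5 := DFunLike.congr_fun (div_algebraMap (K := K) hK.1 c) Q
  rw [div_apply hK.1, Finsupp.zero_apply] at h5
  rw [← hc', Algebra.linearMap_apply, h5] at h4
  omega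
end

/-- Let `K/k` be a function field of one variable of genus one over an algebraically closed field `k` of
characteristic zero (an elliptic curve `E`), `A` a place, and `g ≥ 3` an odd integer. Inside
`H⁰(O_E((2g-2)A)) = L((2g-2)A)` consider `V = L(gA)` (dimension `g`) and any hyperplane `V₁` of it
containing `L((g-2)A)`: `L((g-2)A) ⊆ V₁ ⊆ L(gA)`, `dim V₁ = g - 1`. Vanishing orders are those of
sections of `O_E((2g-2)A)`: a member `f` vanishes to order at least `n` at a place `Q` when `f ∈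
L((2g-2)A - nQ)`, and the weight of `V₁` at `Q` is `∑_{n=1}^{2g-2} dim (V₁ ∩ L((2g-2)A - nQ)) - (g-1
choose 2)` (the sum of the `g - 1` vanishing orders minus `0 + 1 + ⋯ + (g-2)`). Then the weight of
`V₁` at every place `Q ≠ A` is at most `2`. (The published statement is for a smooth elliptic curve
over the complex numbers and allows every odd positive `g`; for `g = 1` the inclusion `O(gA) ⊆
O((2g-2)A)` it uses fails, so `g ≥ 3` here.) -/
theorem result
    (k K : Type*) [Field k] [IsAlgClosed k] [CharZero k] [Field K] [Algebra k K]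
    (hK : FunFld.IsFunctionField k K) (hg1 : FunFld.genus k K = 1)
    (g : ℕ) (hodd : Odd g) (h3 : 3 ≤ g) (A : FunFld.Place k K)
    (V₁ : Submodule k K) (hlo : FunFld.L (Finsupp.single A ((g : ℤ) - 2)) ≤ V₁)
    (hhi : V₁ ≤ FunFld.L (Finsupp.single A (g : ℤ))) (hdim : Module.finrank k ↥V₁ + 1 = g)
    (Q : FunFld.Place k K) (hQ : Q ≠ A) :
    (∑ n ∈ Finset.range (2 * g - 2), Module.finrank k
        ↥(V₁ ⊓ FunFld.L (Finsupp.single A (2 * (g : ℤ) - 2) - Finsupp.single Q ((n : ℤ) + 1)))) ≤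
      (g - 1).choose 2 + 2 := by
  haveI := FunFldLib.finite_L hK.1 (Finsupp.single A (g : ℤ))
  haveI : FiniteDimensional k V₁ := Submodule.finiteDimensional_of_le hhi
  have hsA : ∀ a : ℤ, D2 A Q a 0 = Finsupp.single A a := fun a => by simp [D2]
  have hN : ∀ n : ℕ, Finsupp.single A (2 * (g : ℤ) - 2) - Finsupp.single Q ((n : ℤ) + 1) =
      D2 A Q (2 * (g : ℤ) - 2) ((n : ℤ) + 1) := fun n => rfl
  let W : ℕ → Submodule k K := fun n => V₁ ⊓ FunFld.L (D2 A Q (g : ℤ) ((n : ℤ) + 1))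
  have hWeq : ∀ n : ℕ, V₁ ⊓ FunFld.L (Finsupp.single A (2 * (g : ℤ) - 2) - Finsupp.single Q ((n : ℤ) + 1)) = W n := by
    intro n
    have hh : V₁ ≤ FunFld.L (D2 A Q (g : ℤ) 0) := by rw [hsA]; exact hhi
    conv_lhs => rw [hN, ← inf_eq_left.2 hh, inf_assoc, L_inf2 hQ,
      min_eq_left (by omega : (g : ℤ) ≤ 2 * (g : ℤ) - 2), max_eq_right (by omega : (0 : ℤ) ≤ (n : ℤ) + 1)]
  refine le_trans (le_of_eq (Finset.sum_congr rfl fun n _ => (LinearEquiv.ofEq _ _ (hWeq n)).finrank_eq)) ?_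
  have hWle : ∀ n : ℕ, Module.finrank k (W n) ≤ FunFld.ell (D2 A Q (g : ℤ) ((n : ℤ) + 1)) := fun n => by
    haveI := FunFldLib.finite_L hK.1 (D2 A Q (g : ℤ) ((n : ℤ) + 1))
    exact Submodule.finrank_mono inf_le_right
  have hbig : ∀ n : ℕ, Module.finrank k (W n) = FunFld.ell (D2 A Q (g : ℤ) ((n : ℤ) + 1)) → n + 3 ≤ g →
      FunFld.ell (D2 A Q (g : ℤ) ((n : ℤ) + 1)) ≤ FunFld.ell (D2 A Q ((g : ℤ) - 2) ((n : ℤ) + 1)) + 1 := by
    intro n he hn
    haveI := FunFldLib.finite_L hK.1 (D2 A Q (g : ℤ) ((n : ℤ) + 1))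
    haveI := FunFldLib.finite_L hK.1 (D2 A Q ((g : ℤ) - 2) 0)
    have h1 : FunFld.L (D2 A Q (g : ℤ) ((n : ℤ) + 1)) ≤ V₁ :=
      (Submodule.eq_of_le_of_finrank_eq inf_le_right he).ge.trans inf_le_left
    have h2 : FunFld.L (D2 A Q ((g : ℤ) - 2) 0) ≤ V₁ := by rw [hsA]; exact hlo
    have h3 := Submodule.finrank_mono (sup_le h1 h2)
    have h4 := Submodule.finrank_sup_add_finrank_inf_eq (FunFld.L (D2 A Q (g : ℤ) ((n : ℤ) + 1))) (FunFld.L (D2 A Q ((g : ℤ) - 2) 0))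
    rw [L_inf2 hQ, min_eq_right (by omega : (g : ℤ) - 2 ≤ g), max_eq_left (by omega : (0 : ℤ) ≤ (n : ℤ) + 1)] at h4
    have h5 := ell_D2 hK hg1 (A := A) (Q := Q) (by omega : (0 : ℤ) < (g : ℤ) - 2)
    simp only [FunFld.ell] at h5 ⊢
    omega
  have hd := not_both hK hg1 hQ hodd h3
  obtain ⟨j, rfl⟩ : ∃ j, g = j + 3 := ⟨g - 3, by omega⟩
  have hlow : ∀ n, n < j → Module.finrank k (W n) ≤ j + 1 - n := by
    intro n hn
    have h1 := hWle n
    have e1 := ell_D2 hK hg1 (A := A) (Q := Q) (by omega : (n : ℤ) + 1 < ((j + 3 : ℕ) : ℤ))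
    by_contra hc
    have h2 := hbig n (by omega) (by omega)
    have e2 := ell_D2 hK hg1 (A := A) (Q := Q) (by omega : (n : ℤ) + 1 < ((j + 3 : ℕ) : ℤ) - 2)
    omega
  have hj : Module.finrank k (W j) ≤ 1 + FunFld.ell (D2 A Q (((j + 3 : ℕ) : ℤ) - 2) (((j + 3 : ℕ) : ℤ) - 2)) := by
    have h1 := hWle j
    have e1 := ell_D2 hK hg1 (A := A) (Q := Q) (by omega : (j : ℤ) + 1 < ((j + 3 : ℕ) : ℤ))
    by_contra hc
    have h2 := hbig j (by omega) (by omega)
    rw [show ((j : ℤ) + 1) = ((j + 3 : ℕ) : ℤ) - 2 by omega] at h2 e1 h1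
    omega
  have hj1 : Module.finrank k (W (j + 1)) ≤ 1 := by
    have h1 := hWle (j + 1)
    have e1 := ell_D2 hK hg1 (A := A) (Q := Q) (by omega : ((j + 1 : ℕ) : ℤ) + 1 < ((j + 3 : ℕ) : ℤ))
    omega
  have hj2 : Module.finrank k (W (j + 2)) ≤ FunFld.ell (D2 A Q ((j + 3 : ℕ) : ℤ) ((j + 3 : ℕ) : ℤ)) := by
    have h1 := hWle (j + 2)
    rwa [show (((j + 2 : ℕ) : ℤ) + 1) = ((j + 3 : ℕ) : ℤ) by omega] at h1
  have hhigh : ∀ i, Module.finrank k (W (j + 3 + i)) = 0 := fun i => by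
    have h1 := hWle (j + 3 + i)
    rw [FunFldLib.ell_eq_zero hK (by rw [deg_D2 hK]; omega)] at h1
    omega
  have hs : ∑ n ∈ Finset.range j, Module.finrank k (W n) ≤ ∑ n ∈ Finset.range j, (j + 1 - n) :=
    Finset.sum_le_sum fun n hn => hlow n (Finset.mem_range.1 hn)
  rw [show 2 * (j + 3) - 2 = (j + 3) + (j + 1) by omega, Finset.sum_range_add,
    Finset.sum_eq_zero (s := Finset.range (j + 1)) (fun i _ => hhigh i), add_zero, Finset.sum_range_succ,
    Finset.sum_range_succ, Finset.sum_range_succ, show j + 3 - 1 = j + 2 by omega, ← sum_tri j]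
  omega

end Groth.Agent.S17247
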