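import Groth.Statements.S17248
import Groth.Agent.FunFldLib.Cor
import Groth.Agent.FunFldLib.Gaps

set_option autoImplicit false
open FunFld

namespace Groth.Agent.S17248

theorem sum_tri : ∀ j : ℕ, (∑ i ∈ Finset.range j, (j - i)) = (j + 1).choose 2 := by
  intro j
  induction j with
  | zero => rfl
  | succ j ih =>
    rw [Finset.sum_range_succ', Nat.choose_succ_succ, Nat.choose_one_right, ← ih]
    have : ∑ n ∈ Finset.range j, (j + 1 - (n + 1)) = ∑ n ∈ Finset.range j, (j - n) :=
      Finset.sum_congr rfl fun n _ => by omega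
    omega

section
open FunFld FunFldLib
variable {k K : Type*} [Field k] [IsAlgClosed k] [Field K] [Algebra k K]
  (hK : IsFunctionField k K) (hg1 : genus k K = 1) {A : Place k K}

include hK in
theorem deg_A (a : ℤ) : Divisor.deg (Finsupp.single A a : Divisor k K) = a := by
  rw [deg_single, deg_eq_one hK A]; simp

include hK hg1 in
theorem ell_A {a : ℤ} (h : 0 < a) : (ell (Finsupp.single A a : Divisor k K) : ℤ) = a := by
  rw [ell_large hK (by rw [hg1, deg_A hK]; omega), hg1, deg_A hK]
  omega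

theorem L_single_mono {a b : ℤ} (h : a ≤ b) : L (Finsupp.single A a : Divisor k K) ≤ L (Finsupp.single A b) :=
  L_mono fun R => by
    rcases eq_or_ne R A with rfl | hR
    · simpa using h
    · simp [Finsupp.single_eq_of_ne hR]
end

/-- Let `K/k` be a function field of one variable of genus one over an algebraically closed field `k` of
characteristic zero (an elliptic curve `E`), `A` a place, and `g ≥ 3` an integer. Inside
`H⁰(O_E((2g-2)A)) = L((2g-2)A)` consider `V = L(gA)` (dimension `g`) and any hyperplane `V₁` of it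
containing `L((g-2)A)`: `L((g-2)A) ⊆ V₁ ⊆ L(gA)`, `dim V₁ = g - 1`. Vanishing orders are those of
sections of `O_E((2g-2)A)`: a member `f` vanishes to order at least `n` at a place `Q` when `f ∈
L((2g-2)A - nQ)`, and the weight of `V₁` at `Q` is `∑_{n=1}^{2g-2} dim (V₁ ∩ L((2g-2)A - nQ)) - (g-1
choose 2)` (the sum of the `g - 1` vanishing orders minus `0 + 1 + ⋯ + (g-2)`). Then the weight of
`V₁` at `A` is `(g-1)² + ε` with `ε ∈ {0, 1}`. (The published statement is for a smooth elliptic
curve over the complex numbers and `g` odd positive; `g ≥ 3` here since the ambient inclusion needs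
it; this row does not assume `g` odd.) -/
theorem result
    (k K : Type*) [Field k] [IsAlgClosed k] [CharZero k] [Field K] [Algebra k K]
    (hK : FunFld.IsFunctionField k K) (hg1 : FunFld.genus k K = 1)
    (g : ℕ) (h3 : 3 ≤ g) (A : FunFld.Place k K)
    (V₁ : Submodule k K) (hlo : FunFld.L (Finsupp.single A ((g : ℤ) - 2)) ≤ V₁)
    (hhi : V₁ ≤ FunFld.L (Finsupp.single A (g : ℤ))) (hdim : Module.finrank k ↥V₁ + 1 = g) :
    ∃ ε : ℕ, ε ≤ 1 ∧
      (∑ n ∈ Finset.range (2 * g - 2), Module.finrank k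
        ↥(V₁ ⊓ FunFld.L (Finsupp.single A (2 * (g : ℤ) - 2) - Finsupp.single A ((n : ℤ) + 1)))) =
      (g - 1).choose 2 + (g - 1) ^ 2 + ε := by
  haveI := FunFldLib.finite_L hK.1 (Finsupp.single A (g : ℤ))
  haveI : FiniteDimensional k V₁ := Submodule.finiteDimensional_of_le hhi
  haveI := FunFldLib.finite_L hK.1 (Finsupp.single A ((g : ℤ) - 1))
  obtain ⟨j, rfl⟩ : ∃ j, g = j + 3 := ⟨g - 3, by omega⟩
  let W : ℕ → Submodule k K := fun n => V₁ ⊓ FunFld.L (Finsupp.single A (2 * ((j + 3 : ℕ) : ℤ) - 2 - ((n : ℤ) + 1)))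
  have hWeq : ∀ n : ℕ, V₁ ⊓ FunFld.L (Finsupp.single A (2 * ((j + 3 : ℕ) : ℤ) - 2) - Finsupp.single A ((n : ℤ) + 1)) = W n := by
    intro n
    rw [← Finsupp.single_sub]
  have hlow : ∀ n, n < j + 1 → Module.finrank k (W n) = j + 2 := fun n hn => by
    have : W n = V₁ := inf_eq_left.2 (hhi.trans (L_single_mono (by omega)))
    rw [(LinearEquiv.ofEq _ _ this).finrank_eq]
    omega
  have htail : ∀ i, i < j + 1 → Module.finrank k (W (j + 2 + i)) = j + 1 - i := fun i hi => by
    have : W (j + 2 + i) = FunFld.L (Finsupp.single A (2 * ((j + 3 : ℕ) : ℤ) - 2 - (((j + 2 + i : ℕ) : ℤ) + 1))) :=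
      inf_eq_right.2 ((L_single_mono (by omega)).trans hlo)
    rw [(LinearEquiv.ofEq _ _ this).finrank_eq]
    have e := ell_A hK hg1 (A := A) (a := 2 * ((j + 3 : ℕ) : ℤ) - 2 - (((j + 2 + i : ℕ) : ℤ) + 1)) (by omega)
    simp only [FunFld.ell] at e
    omega
  have hlast : Module.finrank k (W (j + 2 + (j + 1))) = 1 := by
    have : W (j + 2 + (j + 1)) = FunFld.L (0 : FunFld.Divisor k K) := by
      show V₁ ⊓ _ = _
      rw [show 2 * ((j + 3 : ℕ) : ℤ) - 2 - (((j + 2 + (j + 1) : ℕ) : ℤ) + 1) = 0 by omega, Finsupp.single_zero]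
      refine inf_eq_right.2 (le_trans ?_ hlo)
      rw [← Finsupp.single_zero A]
      exact L_single_mono (by omega)
    rw [(LinearEquiv.ofEq _ _ this).finrank_eq]
    exact (FunFldLib.ell_zero hK).2
  have hmid1 : j + 1 ≤ Module.finrank k (W (j + 1)) := by
    have h1 : FunFld.L (Finsupp.single A (((j + 3 : ℕ) : ℤ) - 2)) ≤ W (j + 1) :=
      le_inf hlo (L_single_mono (by omega))
    haveI : FiniteDimensional k (W (j + 1)) := Submodule.finiteDimensional_of_le (inf_le_left : W (j + 1) ≤ V₁)
    have h2 := Submodule.finrank_mono h1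
    have e := ell_A hK hg1 (A := A) (a := ((j + 3 : ℕ) : ℤ) - 2) (by omega)
    simp only [FunFld.ell] at e
    omega
  have hmid2 : Module.finrank k (W (j + 1)) ≤ j + 2 := by
    have h2 : Module.finrank k (W (j + 1)) ≤ Module.finrank k V₁ := Submodule.finrank_mono inf_le_left
    omega
  refine ⟨Module.finrank k (W (j + 1)) - (j + 1), by omega, ?_⟩
  refine (Finset.sum_congr rfl fun n _ => (LinearEquiv.ofEq _ _ (hWeq n)).finrank_eq).trans ?_
  rw [show 2 * (j + 3) - 2 = j + 2 + (j + 1) + 1 by omega, Finset.sum_range_succ, Finset.sum_range_add,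
    Finset.sum_range_succ, Finset.sum_congr rfl (fun n hn => hlow n (Finset.mem_range.1 hn)),
    Finset.sum_congr rfl (fun i hi => htail i (Finset.mem_range.1 hi)), hlast, Finset.sum_const, Finset.card_range,
    smul_eq_mul, sum_tri, show j + 3 - 1 = j + 2 by omega]
  have : (j + 2) ^ 2 = (j + 1) * (j + 2) + (j + 2) := by ring
  simp only [show j + 1 + 1 = j + 2 by omega]
  omega

end Groth.Agent.S17248
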