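import Groth.Statements.S17249
import Groth.Agent.FunFldLib.Gaps

set_option autoImplicit false
open FunFld

namespace Groth.Agent.S17249

/-- Let `K/k` be a function field of one variable of genus two over an algebraically closed field `k` of
characteristic zero (a smooth curve `X` of genus `2`), `C` a canonical divisor, `A` a place with
`ℓ(2A) = 1` (not a Weierstrass point), and `P`, `Q` places with `Q ≠ A`. Then `ℓ(C + 2A - P - 3Q) =
1` and `ℓ(C + 2A - P - Q) = 2` do not both hold: the two-dimensional complete system `H⁰(ω_X(2A -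
P))` (of degree `3`) has no point `Q ≠ A` of weight three. (The published statement concerns a
general pointed curve `(X, A)` of genus two over the complex numbers and a point `P` of `X`; this
row assumes only `ℓ(2A) = 1`.) -/
theorem result
    (k K : Type*) [Field k] [IsAlgClosed k] [CharZero k] [Field K] [Algebra k K]
    (hK : FunFld.IsFunctionField k K) (hg : FunFld.genus k K = 2)
    (C : FunFld.Divisor k K) (hC : FunFld.IsCanonical k K C)
    (A P Q : FunFld.Place k K) (hA : Module.finrank k ↥(FunFld.L (Finsupp.single A (2 : ℤ))) = 1) (hQ : Q ≠ A) :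
    ¬ (Module.finrank k ↥(FunFld.L (C + Finsupp.single A (2 : ℤ) - Finsupp.single P (1 : ℤ) - Finsupp.single Q (3 : ℤ))) = 1 ∧
       Module.finrank k ↥(FunFld.L (C + Finsupp.single A (2 : ℤ) - Finsupp.single P (1 : ℤ) - Finsupp.single Q (1 : ℤ))) = 2) := by
  classical
  rintro ⟨-, h2⟩
  have hA1 := FunFldLib.deg_eq_one hK A
  have hP1 := FunFldLib.deg_eq_one hK P
  have hQ1 := FunFldLib.deg_eq_one hK Q
  have hd : (C + Finsupp.single A (2 : ℤ) - Finsupp.single P (1 : ℤ) - Finsupp.single Q (1 : ℤ)).deg = 2 := by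
    simp only [FunFldLib.deg_sub, FunFldLib.deg_add, FunFldLib.deg_single, hA1, hP1, hQ1, (FunFldLib.deg_canonical hK hC).1, hg]
    norm_num
  obtain ⟨z, hz, he⟩ := FunFldLib.exists_div_of_canonical_pair hK hC
    (FunFldLib.isCanonical_of hK (C := C + Finsupp.single A (2 : ℤ) - Finsupp.single P (1 : ℤ) - Finsupp.single Q (1 : ℤ)) (by simp only [FunFld.ell]; omega) (by rw [hd, hg]; norm_num))
  have he2 : (Finsupp.single P (1 : ℤ) + Finsupp.single Q 1 : FunFld.Divisor k K) = Finsupp.single A (2 : ℤ) + FunFld.div k z⁻¹ := by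
    rw [FunFldLib.div_inv hK.1]
    rw [sub_eq_iff_eq_add, sub_eq_iff_eq_add] at he
    rw [← sub_eq_add_neg, eq_sub_iff_add_eq]
    refine add_left_cancel (a := C) ?_
    rw [he]; abel
  have hzL : z⁻¹ ∈ FunFld.L (Finsupp.single A (2 : ℤ)) := by
    rw [FunFldLib.mem_L_iff (inv_ne_zero hz)]
    intro R
    have h3 := DFunLike.congr_fun he2 R
    rw [Finsupp.add_apply, Finsupp.add_apply, FunFldLib.div_apply hK.1] at h3
    have h4 : 0 ≤ (Finsupp.single P (1 : ℤ)) R := Finsupp.single_nonneg.2 zero_le_one R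
    have h5 : 0 ≤ (Finsupp.single Q (1 : ℤ)) R := Finsupp.single_nonneg.2 zero_le_one R
    omega
  haveI := FunFldLib.finite_L hK.1 (Finsupp.single A (2 : ℤ))
  have h0 : FunFld.L (0 : FunFld.Divisor k K) = FunFld.L (Finsupp.single A (2 : ℤ)) :=
    Submodule.eq_of_le_of_finrank_eq (FunFldLib.L_mono (Finsupp.single_nonneg.2 (by norm_num))) (by rw [hA]; exact (FunFldLib.ell_zero hK).2)
  rw [← h0] at hzL
  have halg := FunFldLib.isAlgebraic_of_mem_L_zero hK.1 hzL
  have h3 := DFunLike.congr_fun he2 Q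
  rw [Finsupp.add_apply, Finsupp.add_apply, FunFldLib.div_apply hK.1, FunFldLib.ord_eq_zero_of_isAlgebraic Q halg,
    Finsupp.single_eq_same, Finsupp.single_eq_of_ne hQ] at h3
  have h4 : 0 ≤ (Finsupp.single P (1 : ℤ)) Q := Finsupp.single_nonneg.2 zero_le_one Q
  omega

end Groth.Agent.S17249
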