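import Groth.Statements.S17250
import Groth.Agent.FunFldLib.Gaps

set_option autoImplicit false
open FunFld

namespace Groth.Agent.S17250

/-- Let `K/k` be a function field of one variable of genus two over an algebraically closed field `k` of
characteristic zero (a smooth curve `X` of genus `2`), `C` a canonical divisor, `A` a place with
`ℓ(2A) = 1`, and `P`, `Q` places different from `A`. Then `ℓ(C + 3A - P - 4Q) = 1` and `ℓ(C + 3A - P
- 2Q) = 2` do not both hold (the three-dimensional complete system `H⁰(ω_X(3A - P))`, of degree `4`,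
has no point `Q ≠ A` with two independent sections vanishing to order at least `2` there and one
vanishing to order at least `4`). (The published statement concerns a general pointed curve `(X, A)`
of genus two over the complex numbers and a point `P ≠ A`; this row assumes `ℓ(2A) = 1` in place of
generality.) -/
theorem result
    (k K : Type*) [Field k] [IsAlgClosed k] [CharZero k] [Field K] [Algebra k K]
    (hK : FunFld.IsFunctionField k K) (hg : FunFld.genus k K = 2)
    (C : FunFld.Divisor k K) (hC : FunFld.IsCanonical k K C)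
    (A P Q : FunFld.Place k K) (hA : Module.finrank k ↥(FunFld.L (Finsupp.single A (2 : ℤ))) = 1) (hP : P ≠ A) (hQ : Q ≠ A) :
    ¬ (Module.finrank k ↥(FunFld.L (C + Finsupp.single A (3 : ℤ) - Finsupp.single P (1 : ℤ) - Finsupp.single Q (4 : ℤ))) = 1 ∧
       Module.finrank k ↥(FunFld.L (C + Finsupp.single A (3 : ℤ) - Finsupp.single P (1 : ℤ) - Finsupp.single Q (2 : ℤ))) = 2) := by
  classical
  rintro ⟨h1, h2⟩
  have hA1 := FunFldLib.deg_eq_one hK A
  have hP1 := FunFldLib.deg_eq_one hK P
  have hQ1 := FunFldLib.deg_eq_one hK Q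
  have hCd := (FunFldLib.deg_canonical hK hC).1
  rw [hg] at hCd
  have hd0 : (C + Finsupp.single A (3 : ℤ) - Finsupp.single P (1 : ℤ) - Finsupp.single Q (4 : ℤ)).deg = 0 := by
    simp only [FunFldLib.deg_sub, FunFldLib.deg_add, FunFldLib.deg_single, hA1, hP1, hQ1, hCd]
    norm_num
  have hd2 : (C + Finsupp.single A (3 : ℤ) - Finsupp.single P (1 : ℤ) - Finsupp.single Q (2 : ℤ)).deg = 2 := by
    simp only [FunFldLib.deg_sub, FunFldLib.deg_add, FunFldLib.deg_single, hA1, hP1, hQ1, hCd]
    norm_num
  obtain ⟨z, hz, he⟩ := FunFldLib.exists_div_of_canonical_pair hK hC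
    (FunFldLib.isCanonical_of hK (C := C + Finsupp.single A (3 : ℤ) - Finsupp.single P (1 : ℤ) - Finsupp.single Q (2 : ℤ)) (by simp only [FunFld.ell]; omega) (by rw [hd2, hg]; norm_num))
  obtain ⟨w, hw, he0⟩ := FunFldLib.exists_div_of_deg_zero hK hd0 (by simp only [FunFld.ell]; omega)
  have hs4 : (Finsupp.single Q (4 : ℤ) : FunFld.Divisor k K) = Finsupp.single Q (2 : ℤ) + Finsupp.single Q (2 : ℤ) := by
    rw [← Finsupp.single_add]; norm_num
  rw [hs4] at he0
  -- `C ~ 2Q`
  have hC2Q : (Finsupp.single Q (2 : ℤ) : FunFld.Divisor k K) = C + FunFld.div k (z * w) := by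
    rw [FunFldLib.div_mul hK.1 hz hw]
    refine (sub_eq_zero.1 ?_).symm
    rw [← he0]
    rw [sub_eq_iff_eq_add, sub_eq_iff_eq_add] at he
    rw [show C + (FunFld.div k z + FunFld.div k w) - Finsupp.single Q (2 : ℤ) =
      (C + FunFld.div k z + Finsupp.single Q (2 : ℤ) + Finsupp.single P (1 : ℤ)) - Finsupp.single P (1 : ℤ)
        - (Finsupp.single Q (2 : ℤ) + Finsupp.single Q (2 : ℤ)) + FunFld.div k w by abel, ← he]
  have hell : FunFld.ell (Finsupp.single Q (2 : ℤ)) = FunFld.ell (Finsupp.single Q (2 : ℤ) + Finsupp.single P (1 : ℤ)) := by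
    have a := FunFldLib.ell_large hK (D := Finsupp.single Q (2 : ℤ) + Finsupp.single P (1 : ℤ))
      (by rw [FunFldLib.deg_add, FunFldLib.deg_single, FunFldLib.deg_single, hP1, hQ1, hg]; norm_num)
    rw [FunFldLib.deg_add, FunFldLib.deg_single, FunFldLib.deg_single, hP1, hQ1, hg] at a
    have b : FunFld.ell (Finsupp.single Q (2 : ℤ)) = 2 := by
      rw [hC2Q, FunFldLib.ell_add_div hK (mul_ne_zero hz hw)]
      have := (FunFldLib.deg_canonical hK hC).2
      rw [hg] at this; exact_mod_cast this
    omega
  have he3 : (Finsupp.single Q (2 : ℤ) + Finsupp.single P (1 : ℤ) + FunFld.div k z : FunFld.Divisor k K) = Finsupp.single A (3 : ℤ) := by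
    rw [sub_eq_iff_eq_add, sub_eq_iff_eq_add] at he
    refine add_left_cancel (a := C) ?_
    rw [he]; abel
  have := FunFldLib.one_le_of_base_point hK hell hz (by rw [he3]; exact Finsupp.single_nonneg.2 (by norm_num))
  rw [he3, Finsupp.single_eq_of_ne hP] at this
  omega

end Groth.Agent.S17250
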