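import Groth.Statements.S17251
import Groth.Agent.FunFldLib.Gaps

set_option autoImplicit false
open FunFld

namespace Groth.Agent.S17251

/-- Let `K/k` be a function field of one variable of genus two over an algebraically closed field `k` of
characteristic zero (a smooth curve `Y` of genus `2`), `C` a canonical divisor, `B` a place with
`ℓ(2B) = 1` (not a Weierstrass point) and `Q ≠ B` a place. Then `ℓ(C + B - 2Q) = 1` and `ℓ(C + 3B -
4Q) = 1` do not both hold: the complete systems `H⁰(ω_Y(B))` (dimension `2`, degree `3`) and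
`H⁰(ω_Y(3B))` (dimension `4`, degree `5`) have no ramification point in common on `Y` minus `B`.
(The published statement concerns a general pointed curve `(Y, B)` of genus two over the complex
numbers; this row assumes only `ℓ(2B) = 1`.) -/
theorem result
    (k K : Type*) [Field k] [IsAlgClosed k] [CharZero k] [Field K] [Algebra k K]
    (hK : FunFld.IsFunctionField k K) (hg : FunFld.genus k K = 2)
    (C : FunFld.Divisor k K) (hC : FunFld.IsCanonical k K C)
    (B Q : FunFld.Place k K) (hB : Module.finrank k ↥(FunFld.L (Finsupp.single B (2 : ℤ))) = 1) (hQ : Q ≠ B) :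
    ¬ (Module.finrank k ↥(FunFld.L (C + Finsupp.single B (1 : ℤ) - Finsupp.single Q (2 : ℤ))) = 1 ∧
       Module.finrank k ↥(FunFld.L (C + Finsupp.single B (3 : ℤ) - Finsupp.single Q (4 : ℤ))) = 1) := by
  classical
  rintro ⟨h1, h2⟩
  have hB1 := FunFldLib.deg_eq_one hK B
  have hQ1 := FunFldLib.deg_eq_one hK Q
  obtain ⟨hCd, hCl⟩ := FunFldLib.deg_canonical hK hC
  rw [hg] at hCd hCl
  have d1 : (C + Finsupp.single B (1 : ℤ) - Finsupp.single Q (2 : ℤ)).deg = 1 := by
    simp only [FunFldLib.deg_sub, FunFldLib.deg_add, FunFldLib.deg_single, hB1, hQ1, hCd]; norm_num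
  have d2 : (C + Finsupp.single B (3 : ℤ) - Finsupp.single Q (4 : ℤ)).deg = 1 := by
    simp only [FunFldLib.deg_sub, FunFldLib.deg_add, FunFldLib.deg_single, hB1, hQ1, hCd]; norm_num
  obtain ⟨z, hz, hle⟩ := FunFldLib.exists_effective hK (D := C + Finsupp.single B (1 : ℤ) - Finsupp.single Q (2 : ℤ)) (by simp only [FunFld.ell]; omega)
  obtain ⟨R, hR, heR⟩ := FunFldLib.exists_eq_single_of_deg_one hK hle
    (by rw [FunFldLib.deg_add, FunFldLib.deg_div hK.1, d1]; rfl)
  obtain ⟨w, hw, hle'⟩ := FunFldLib.exists_effective hK (D := C + Finsupp.single B (3 : ℤ) - Finsupp.single Q (4 : ℤ)) (by simp only [FunFld.ell]; omega)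
  obtain ⟨R2, hR2, heR2⟩ := FunFldLib.exists_eq_single_of_deg_one hK hle'
    (by rw [FunFldLib.deg_add, FunFldLib.deg_div hK.1, d2]; rfl)
  have hellP : ∀ P : FunFld.Place k K, P.deg = 1 → FunFld.ell C = FunFld.ell (C + Finsupp.single P (1 : ℤ)) := fun P hP => by
    have a := FunFldLib.ell_large hK (D := C + Finsupp.single P (1 : ℤ))
      (by rw [FunFldLib.deg_add, FunFldLib.deg_single, hP, hg, hCd]; norm_num)
    rw [FunFldLib.deg_add, FunFldLib.deg_single, hP, hg, hCd] at a
    omega
  -- `2Q + R ~ C + B`, so `R = B`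
  have e1 : C + Finsupp.single B (1 : ℤ) + FunFld.div k z = Finsupp.single Q (2 : ℤ) + Finsupp.single R (1 : ℤ) := by
    rw [← heR]; abel
  have hb := FunFldLib.one_le_of_base_point hK (hellP B hB1) hz (by
    rw [e1]; exact add_nonneg (Finsupp.single_nonneg.2 (by norm_num)) (Finsupp.single_nonneg.2 (by norm_num)))
  rw [e1, Finsupp.add_apply, Finsupp.single_eq_of_ne (Ne.symm hQ), zero_add] at hb
  have hRB : R = B := by
    by_contra hne
    rw [Finsupp.single_eq_of_ne (Ne.symm hne)] at hb; omega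
  subst hRB
  have e1' : C + FunFld.div k z = Finsupp.single Q (2 : ℤ) := by
    refine add_right_cancel (b := (Finsupp.single R (1 : ℤ) : FunFld.Divisor k K)) ?_
    rw [← e1]; abel
  -- `3B ~ C + R2`
  have hs4 : (Finsupp.single Q (4 : ℤ) : FunFld.Divisor k K) = Finsupp.single Q (2 : ℤ) + Finsupp.single Q (2 : ℤ) := by
    rw [← Finsupp.single_add]; norm_num
  set u := z * z * w⁻¹ with hu
  have hu0 : u ≠ 0 := mul_ne_zero (mul_ne_zero hz hz) (inv_ne_zero hw)
  have e2 : C + Finsupp.single R2 (1 : ℤ) + FunFld.div k u = Finsupp.single R (3 : ℤ) := by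
    rw [hu, FunFldLib.div_mul hK.1 (mul_ne_zero hz hz) (inv_ne_zero hw), FunFldLib.div_mul hK.1 hz hz,
      FunFldLib.div_inv hK.1, ← heR2, hs4, ← e1']
    abel
  have hb2 := FunFldLib.one_le_of_base_point hK (hellP R2 hR2) hu0 (by
    rw [e2]; exact Finsupp.single_nonneg.2 (by norm_num))
  rw [e2] at hb2
  have hR2R : R2 = R := by
    by_contra hne
    rw [Finsupp.single_eq_of_ne hne] at hb2; omega
  subst hR2R
  have e3 : C + FunFld.div k u = Finsupp.single R2 (2 : ℤ) := by
    refine add_right_cancel (b := (Finsupp.single R2 (1 : ℤ) : FunFld.Divisor k K)) ?_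
    rw [← Finsupp.single_add, show (2 : ℤ) + 1 = 3 by norm_num, ← e2]; abel
  have := FunFldLib.ell_add_div hK hu0 C
  rw [e3] at this
  simp only [FunFld.ell] at this hCl
  omega

end Groth.Agent.S17251
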