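import Groth.Statements.S17255
import Groth.Agent.S19659
import Groth.Agent.GrpSch.Isogeny
-- import your own Groth.Agent.* helpers here

set_option autoImplicit false
universe u
open CategoryTheory CategoryTheory.Limits MonoidalCategory CartesianMonoidalCategory MonObj GrpObj AlgebraicGeometry
open AbVar

namespace Groth.Agent.S17255

/-- Let k be a field, A and B abelian varieties over k (smooth proper k-group schemes with geometrically
connected fibres) with dim A = dim B (Krull dimensions of the underlying spaces), and f : A → B a
homomorphism. Then flatness of f is equivalent to finiteness of f. -/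
theorem result (k : Type u) [Field k]
    (A B : Over (Spec (CommRingCat.of k)))
    [GrpObj A] [Smooth A.hom] [IsProper A.hom] [GeometricallyConnected A.hom]
    [GrpObj B] [Smooth B.hom] [IsProper B.hom] [GeometricallyConnected B.hom]
    (f : A ⟶ B) [IsMonHom f] (hdim : topologicalKrullDim A.left = topologicalKrullDim B.left) :
    Flat f.left ↔ IsFinite f.left := by
  rw [Groth.Agent.S19659.result A B f]
  haveI : IsProper f.left := by
    haveI : IsProper (f.left ≫ B.hom) := by rw [Over.w f]; infer_instance
    exact MorphismProperty.of_postcomp (W := @IsProper) (W' := @IsSeparated) _ B.hom inferInstance ‹_›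
  haveI : ConnectedSpace A.left := GeometricallyConnected.connectedSpace_of_subsingleton (f := A.hom)
  haveI : ConnectedSpace B.left := GeometricallyConnected.connectedSpace_of_subsingleton (f := B.hom)
  haveI : IrreducibleSpace A.left := Groth.Agent.GrpSch.irreducibleSpace_of_connectedSpace (G := A)
  haveI : IrreducibleSpace B.left := Groth.Agent.GrpSch.irreducibleSpace_of_connectedSpace (G := B)
  constructor
  · intro _
    haveI := Groth.Agent.GrpSch.Isogeny.lqf_of_surjective A B f hdim
    exact IsFinite.of_isProper_of_locallyQuasiFinite f.left
  · intro _
    exact Groth.Agent.GrpSch.Isogeny.surjective_of_lqf (k := k) B.hom f.left f.left.isClosedMap.isClosed_range hdim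

end Groth.Agent.S17255
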