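import Groth.Statements.S17259

set_option autoImplicit false
open CAlg

namespace Groth.Agent.S17259

/-- Let A, B, C be rings, f : B → A and g : B → C ring homomorphisms, and φ : A → B a homomorphism of
additive groups such that the sequence A → B → C → 0 (maps φ, g) is exact and f ∘ φ is
multiplication by a central element a of A which is not a zero divisor. Then the projection p : A →
A/(a) composed with f factors through g as a ring homomorphism q : C → A/(a), the homomorphism (f,
g) : B → A × C is injective, and its image is the fibre product of A and C over A/(a) along p and q;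
thus (f, g) is a ring isomorphism from B onto that fibre product. (The two-sidedness of the ideal
generated by a, automatic for a central element, is carried as an instance hypothesis.) -/
theorem result {A B C : Type*} [Ring A] [Ring B] [Ring C]
    (f : B →+* A) (g : B →+* C) (φ : A →+ B) (a : A)
    (hc : ∀ x : A, Commute a x) (ha : a ∈ nonZeroDivisors A)
    (hex : Function.Exact φ g) (hg : Function.Surjective g)
    (hφ : ∀ x : A, f (φ x) = a * x)
    [(Ideal.span ({a} : Set A)).IsTwoSided] :
    ∃ q : C →+* A ⧸ Ideal.span ({a} : Set A),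
      q.comp g = (Ideal.Quotient.mk (Ideal.span ({a} : Set A))).comp f ∧
      Function.Injective (f.prod g) ∧
      (f.prod g).range = (Ideal.Quotient.mk (Ideal.span ({a} : Set A))).pullback q := by
  have key : ∀ x, g x = 0 → ∃ y, φ y = x := fun x hx => (hex x).mp hx
  have hwd : ∀ x y, g x = g y → f x - f y ∈ Ideal.span ({a} : Set A) := by
    intro x y h
    obtain ⟨z, hz⟩ := key (x - y) (by rw [map_sub, h, sub_self])
    rw [← map_sub, ← hz, hφ, (hc z).eq]
    exact Ideal.mem_span_singleton'.mpr ⟨z, rfl⟩
  let π := Ideal.Quotient.mk (Ideal.span ({a} : Set A))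
  let s := Function.surjInv hg
  have hs : ∀ c, g (s c) = c := Function.surjInv_eq hg
  let q : C →+* A ⧸ Ideal.span ({a} : Set A) :=
    { toFun := fun c => π (f (s c))
      map_one' := by rw [← map_one π, ← map_one f]; exact Ideal.Quotient.eq.mpr (hwd _ _ (by rw [hs, map_one]))
      map_zero' := by rw [← map_zero π, ← map_zero f]; exact Ideal.Quotient.eq.mpr (hwd _ _ (by rw [hs, map_zero]))
      map_mul' := fun x y => by rw [← map_mul, ← map_mul]; exact Ideal.Quotient.eq.mpr (hwd _ _ (by rw [hs, map_mul, hs, hs]))
      map_add' := fun x y => by rw [← map_add, ← map_add]; exact Ideal.Quotient.eq.mpr (hwd _ _ (by rw [hs, map_add, hs, hs])) }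
  have hq : ∀ x, q (g x) = π (f x) := fun x => Ideal.Quotient.eq.mpr (hwd _ _ (by rw [hs]))
  refine ⟨q, RingHom.ext hq, ?_, le_antisymm ?_ ?_⟩
  · rw [injective_iff_map_eq_zero]
    intro x hx
    obtain ⟨y, rfl⟩ := key x (congrArg Prod.snd hx)
    have h1 : a * y = 0 := (hφ y).symm.trans (congrArg Prod.fst hx)
    have : y = 0 := ha.1 y h1
    rw [this, map_zero]
  · rintro _ ⟨x, rfl⟩
    exact (hq x).symm
  · rintro ⟨x, c⟩ h
    have h' : π x = q c := h
    obtain ⟨b, rfl⟩ := hg c
    rw [hq, Ideal.Quotient.eq, Ideal.mem_span_singleton'] at h'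
    obtain ⟨z, hz⟩ := h'
    refine ⟨b + φ z, Prod.ext ?_ ?_⟩
    · show f (b + φ z) = x
      rw [map_add, hφ, (hc z).eq, hz]; abel
    · show g (b + φ z) = g b
      rw [map_add, (hex (φ z)).mpr ⟨z, rfl⟩, add_zero]

end Groth.Agent.S17259
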