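import Groth.Statements.S17266
-- import your own Groth.Agent.* helpers here

set_option autoImplicit false
open CategoryTheory
universe v u
open Stk

namespace Groth.Agent.S17266

/-- Let C be a category with a Grothendieck topology J and let F : 𝒳 → 𝒴, G : 𝒴 → 𝒵 be functors over C
between categories fibred in groupoids over C. Say that a functor H : 𝒜 → ℬ over C is covering when
for every object U of C and every functor b : C/U → ℬ over C there is a J-covering sieve of U such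
that for each of its arrows h : V → U the composite of C/V → C/U with b is 2-isomorphic over C to H
∘ a for some functor a : C/V → 𝒜 over C (locally on the base every object of ℬ lifts to 𝒜 up to
isomorphism). If F and G are covering, then the composite G ∘ F is covering. -/
theorem result {C : Type u} [Category.{v} C] (J : GrothendieckTopology C)
    {𝒳 𝒴 𝒵 : BasedCategory.{v, max u v} C}
    (h𝒳 : FibCat.IsFibGrpd 𝒳.p) (h𝒴 : FibCat.IsFibGrpd 𝒴.p) (h𝒵 : FibCat.IsFibGrpd 𝒵.p)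
    (F : 𝒳 ⥤ᵇ 𝒴) (G : 𝒴 ⥤ᵇ 𝒵)
    (hF : (∀ (U : C) (y : FibCat.overCat U ⥤ᵇ 𝒴), ∃ R ∈ J U, ∀ ⦃V : C⦄ (h : V ⟶ U), R.arrows h →
        ∃ x : FibCat.overCat V ⥤ᵇ 𝒳,
          Nonempty (BasedFunctor.comp x F ≅ BasedFunctor.comp (⟨Over.map h, Over.mapForget_eq h⟩ : FibCat.overCat V ⥤ᵇ FibCat.overCat U) y)))
    (hG : (∀ (U : C) (y : FibCat.overCat U ⥤ᵇ 𝒵), ∃ R ∈ J U, ∀ ⦃V : C⦄ (h : V ⟶ U), R.arrows h →
        ∃ x : FibCat.overCat V ⥤ᵇ 𝒴,
          Nonempty (BasedFunctor.comp x G ≅ BasedFunctor.comp (⟨Over.map h, Over.mapForget_eq h⟩ : FibCat.overCat V ⥤ᵇ FibCat.overCat U) y))) :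
    (∀ (U : C) (y : FibCat.overCat U ⥤ᵇ 𝒵), ∃ R ∈ J U, ∀ ⦃V : C⦄ (h : V ⟶ U), R.arrows h →
        ∃ x : FibCat.overCat V ⥤ᵇ 𝒳,
          Nonempty (BasedFunctor.comp x (BasedFunctor.comp F G) ≅ BasedFunctor.comp (⟨Over.map h, Over.mapForget_eq h⟩ : FibCat.overCat V ⥤ᵇ FibCat.overCat U) y)) := by
  intro U y
  obtain ⟨R, hR, hR'⟩ := hG U y
  choose a ha using hR'
  choose S hS hS' using fun (V : C) (h : V ⟶ U) (hh : R.arrows h) => hF V (a h hh)
  refine ⟨Sieve.bind R.arrows fun V h hh => S V h hh, J.bind_covering hR fun V h hh => hS V h hh,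
    fun W g hg => ?_⟩
  obtain ⟨V, k, h, hh, hk, rfl⟩ := hg
  obtain ⟨e₁⟩ := ha h hh
  obtain ⟨x, ⟨e₂⟩⟩ := hS' V h hh k hk
  let mk : ∀ {A B : C} (f : A ⟶ B), FibCat.overCat A ⥤ᵇ FibCat.overCat B := fun f => ⟨Over.map f, Over.mapForget_eq f⟩
  have hm : mk (k ≫ h) = BasedFunctor.comp (mk k) (mk h) := by
    have : Over.map (k ≫ h) = Over.map k ⋙ Over.map h := Over.mapComp_eq k h
    show (⟨Over.map (k ≫ h), _⟩ : FibCat.overCat W ⥤ᵇ FibCat.overCat U) = ⟨Over.map k ⋙ Over.map h, _⟩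
    congr 1
  refine ⟨x, ⟨?_⟩⟩
  show CategoryStruct.comp (obj := BasedCategory.{v, max u v} C) x (CategoryStruct.comp (obj := BasedCategory.{v, max u v} C) F G) ≅ CategoryStruct.comp (obj := BasedCategory.{v, max u v} C) (mk (k ≫ h)) y
  let cc {A B D : BasedCategory.{v, max u v} C} (f : A ⥤ᵇ B) (g : B ⥤ᵇ D) : A ⟶ D :=
    CategoryStruct.comp (obj := BasedCategory.{v, max u v} C) f g
  let f₁ : cc (a h hh) G ≅ cc (mk h) y := e₁
  let f₂ : cc x F ≅ cc (mk k) (a h hh) := e₂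
  have he : cc (BasedFunctor.comp (mk k) (mk h)) y = cc (mk (k ≫ h)) y := by rw [hm]
  exact (Bicategory.associator (B := BasedCategory.{v, max u v} C) x F G).symm ≪≫
    Bicategory.whiskerRightIso (B := BasedCategory.{v, max u v} C) f₂ G ≪≫
    Bicategory.associator (B := BasedCategory.{v, max u v} C) (mk k) (a h hh) G ≪≫
    Bicategory.whiskerLeftIso (B := BasedCategory.{v, max u v} C) (mk k) f₁ ≪≫
    (Bicategory.associator (B := BasedCategory.{v, max u v} C) (mk k) (mk h) y).symm ≪≫ eqToIso he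

end Groth.Agent.S17266
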