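import Groth.Statements.S1728
import Groth.Agent.InjHullBasic.Noetherian
-- import your own Groth.Agent.* helpers here

set_option autoImplicit false
universe u
open InjHull

namespace Groth.Agent.S1728

/-- Let I be an injective R-module and E a submodule of I. Then E is an injective module if and only if
every submodule E' of I containing E, such that every nonzero submodule of E' meets E nontrivially,
is equal to E. -/
theorem result (R : Type u) [CommRing R] (I : Type u) [AddCommGroup I] [Module R I] [Module.Injective R I] (E : Submodule R I) : Module.Injective R E ↔ ∀ E' : Submodule R I, E ≤ E' → (∀ N : Submodule R I, N ≤ E' → N ≠ ⊥ → N ⊓ E ≠ ⊥) → E' = E := by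
  refine ⟨fun hE E' hle hess => ?_, InjHullBasic.injective_of_maximal E⟩
  have hi : InjHull.IsEssentialInj (Submodule.inclusion hle) := by
    refine InjHullBasic.isEssentialInj_of_exists_smul (Submodule.inclusion_injective _)
      fun y hy => ?_
    obtain ⟨z, ⟨hzy, hzE⟩, hz0⟩ := Submodule.exists_mem_ne_zero_of_ne_bot
      (hess (R ∙ (y : I)) ((Submodule.span_singleton_le_iff_mem _ _).mpr y.2) (by simpa using hy))
    obtain ⟨r, hr⟩ := Submodule.mem_span_singleton.mp hzy
    exact ⟨r, ⟨z, hzE⟩, Subtype.ext hr.symm, fun h => hz0 (by
      rw [← hr]; simpa using congrArg Subtype.val h)⟩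
  refine le_antisymm (fun y hy => ?_) hle
  obtain ⟨x, hx⟩ := InjHullBasic.surjective_of_injective hi ⟨y, hy⟩
  exact (show (x : I) = y from congrArg Subtype.val hx) ▸ x.2

end Groth.Agent.S1728
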