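import Groth.Statements.S1729


set_option autoImplicit false
universe u
open Dual2

namespace Groth.Agent.S1729

/-- Over a local ring, every finite module M admits a projective cover: a surjection from a projective
module P onto M such that no proper submodule of P maps onto M. -/
theorem result (R : Type u) [CommRing R] [IsLocalRing R] (M : Type u) [AddCommGroup M] [Module R M] [Module.Finite R M] : ∃ (P : Type u) (_ : AddCommGroup P) (_ : Module R P) (f : P →ₗ[R] M), Dual2.IsProjectiveCover f := by
  classical
  have h : ∃ n : ℕ, ∃ f : (Fin n → R) →ₗ[R] M, Function.Surjective f := Module.Finite.exists_fin' R M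
  obtain ⟨f, hf⟩ := Nat.find_spec h
  have hker : ∀ v, f v = 0 → ∀ i, v i ∈ IsLocalRing.maximalIdeal R := by
    intro v hv i
    by_contra hi
    obtain ⟨n, hn⟩ : ∃ n, Nat.find h = n + 1 := ⟨_, (Nat.succ_pred_eq_of_pos (Fin.pos i)).symm⟩
    refine Nat.find_min h (m := n) (by omega) ?_
    have hU : IsUnit (v i) := not_not.1 fun hc => hi ((IsLocalRing.mem_maximalIdeal _).2 hc)
    let S : Submodule R M := Submodule.span R ((fun j => f (Pi.single j 1)) '' {j | j ≠ i})
    have hall : ∀ j, f (Pi.single j 1) ∈ S := by
      intro j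
      by_cases hj : j = i
      · subst hj
        have hsum : ∑ l, v l • f (Pi.single l 1) = 0 := by
          rw [← hv]
          conv_rhs => rw [pi_eq_sum_univ' v]
          simp [map_sum]
        rw [← Finset.add_sum_erase _ _ (Finset.mem_univ j), add_eq_zero_iff_eq_neg] at hsum
        have : v j • f (Pi.single j 1) ∈ S := hsum ▸ S.neg_mem (S.sum_mem fun l hl =>
          S.smul_mem _ (Submodule.subset_span ⟨l, (Finset.mem_erase.1 hl).1, rfl⟩))
        simpa [smul_smul, hU.val_inv_mul] using S.smul_mem (↑hU.unit⁻¹ : R) this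
      · exact Submodule.subset_span ⟨j, hj, rfl⟩
    let e : Fin n ≃ {j : Fin (Nat.find h) // j ≠ i} := (Fintype.equivFinOfCardEq (by
      simp [Fintype.card_subtype_compl, hn])).symm
    refine ⟨Fintype.linearCombination R (fun l => f (Pi.single (e l).1 1)), ?_⟩
    rw [← LinearMap.range_eq_top, eq_top_iff, Fintype.range_linearCombination]
    intro x _
    obtain ⟨w, rfl⟩ := hf x
    rw [pi_eq_sum_univ' w, map_sum]
    refine Submodule.sum_mem _ fun j _ => ?_
    rw [map_smul]
    refine Submodule.smul_mem _ _ ?_
    have hS : S ≤ Submodule.span R (Set.range fun l => f (Pi.single (e l).1 1)) := Submodule.span_le.2 (by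
      rintro _ ⟨l, hl, rfl⟩
      exact Submodule.subset_span ⟨e.symm ⟨l, hl⟩, by simp⟩)
    exact hS (hall j)
  refine ⟨Fin (Nat.find h) → R, inferInstance, inferInstance, f, ⟨inferInstance, hf, fun N hN => ?_⟩⟩
  refine eq_top_iff.2 (Submodule.le_of_le_smul_of_le_jacobson_bot (I := IsLocalRing.maximalIdeal R)
    (Module.finite_def.1 inferInstance) (IsLocalRing.maximalIdeal_le_jacobson _) fun v _ => ?_)
  obtain ⟨w, hw, hwv⟩ := (Submodule.mem_map.1 (hN ▸ Submodule.mem_top : f v ∈ Submodule.map f N))
  have h1 : v - w ∈ IsLocalRing.maximalIdeal R • (⊤ : Submodule R (Fin (Nat.find h) → R)) := by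
    rw [pi_eq_sum_univ' (v - w)]
    exact Submodule.sum_mem _ fun j _ => Submodule.smul_mem_smul (hker _ (by rw [map_sub, hwv, sub_self]) j) Submodule.mem_top
  simpa using Submodule.add_mem_sup hw h1

end Groth.Agent.S1729
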