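import Groth.Statements.S17306
import Groth.Agent.GeomFibField.LocusField

set_option autoImplicit false
universe u
open CurvSt

namespace Groth.Agent.S17306

open CategoryTheory AlgebraicGeometry in
/-- Let X be a proper scheme of dimension at most 1 over a field k, and Spec k → S a point of the base.
The classifying object of X in the stack of curves over S lies in the Cohen–Macaulay open substack —
by definition of that substack: the morphism of sheaves h_X → h_{Spec k} induced by X → Spec k is,
in every etale chart diagram, a morphism of schemes flat with Cohen–Macaulay fibre local rings at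
every point — if and only if X is Cohen–Macaulay, i.e. all local rings of X are Cohen–Macaulay local
rings. -/
theorem result (S : Scheme.{u}) (k : Type u) [Field k] (t : Spec (CommRingCat.of k) ⟶ S)
    (X : Scheme.{u}) (p : X ⟶ Spec (CommRingCat.of k)) [IsProper p] (hdim : topologicalKrullDim ↥X ≤ 1) :
    AlgSp.LocP (fun _ _ g => ∀ x, MoreMor.IsCMAt g x) ((AlgSp.yon S).map (Over.homMk p rfl : Over.mk (p ≫ t) ⟶ Over.mk t)) ↔
      ∀ x : ↥X, LocCoh.IsCohenMacaulayLocalRing (X.presheaf.stalk x) := by
  refine ⟨fun h x => (Groth.Agent.GeomFibField.isCMAt_iff_stalk p x).1 (AlgSp.locP_yon_map h x),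
    fun h U V a b k ha hb hab x => ?_⟩
  obtain ⟨a', rfl⟩ := (AlgSp.yon S).map_surjective a
  obtain ⟨b', rfl⟩ := (AlgSp.yon S).map_surjective b
  have : Etale a'.left := (AlgSp.repWith_yon_map_iff @Etale a').1 ha
  have : Etale b'.left := (AlgSp.repWith_yon_map_iff @Etale b').1 hb
  rw [← Functor.map_comp, ← Functor.map_comp] at hab
  have e := congrArg CommaMorphism.left ((AlgSp.yon S).map_injective hab)
  simp only [Over.comp_left] at e
  exact Groth.Agent.GeomFibField.isCMAt_etale_of (h := p) (p := a'.left) (r := b'.left)
    (by exact e.symm) x ((Groth.Agent.GeomFibField.isCMAt_iff_stalk p _).2 (h _))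

end Groth.Agent.S17306
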