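import Groth.Statements.S1731
import Groth.Agent.FlatTorsHom.Main
import Groth.Agent.QCohAffine.PullTilde
-- import your own Groth.Agent.* helpers here

set_option autoImplicit false
universe u
open CategoryTheory
open scoped TensorProduct
attribute [local instance] HasDerivedCategory.standard
open LocCoh

namespace Groth.Agent.S1731

/-- Statement for modules: let A → B be a flat ring map and I a finitely generated ideal of A such that
A → B/IB is surjective with kernel I (so A/I ≅ B/IB). If M is an I-power torsion A-module, then for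
every A-module N and every integer i the group of maps M → N[i] in D(A) is isomorphic to the group
of maps B ⊗_A M → (B ⊗_A N)[i] in D(B). (Only the existence of an isomorphism is asserted; the
published statement shows that the base-change map is one.) -/
theorem result (A B : Type u) [CommRing A] [CommRing B] [Algebra A B] [Module.Flat A B] (I : Ideal A) (hI : I.FG) (hs : Function.Surjective ((Ideal.Quotient.mk (I.map (algebraMap A B))).comp (algebraMap A B))) (hk : RingHom.ker ((Ideal.Quotient.mk (I.map (algebraMap A B))).comp (algebraMap A B)) = I) (M N : Type u) [AddCommGroup M] [Module A M] [AddCommGroup N] [Module A N] (hM : LocCoh.IsPowerTorsion I M) (i : ℤ) : Nonempty ((Dual.inD A M ⟶ (Dual.inD A N)⟦i⟧) ≃+ (Dual.inD B (B ⊗[A] M) ⟶ (Dual.inD B (B ⊗[A] N))⟦i⟧)) := by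
  let φ : FlatTorsHom.FlatMap A B := ⟨algebraMap A B, RingHom.flat_algebraMap_iff.2 ‹_›⟩
  have hq : Function.Bijective (Ideal.quotientMap (I.map φ.toHom) φ.toHom Ideal.le_comap_map) := by
    refine ⟨Ideal.quotientMap_injective' ?_, fun y => ?_⟩
    · intro a ha
      rw [← hk, RingHom.mem_ker]
      exact Ideal.Quotient.eq_zero_iff_mem.2 ha
    · obtain ⟨a, rfl⟩ := hs y
      exact ⟨Ideal.Quotient.mk I a, rfl⟩
  obtain ⟨eM⟩ := QCohAffine.nonempty_extendScalars_iso (A' := A) (A := B) M φ.toHom rfl
  obtain ⟨eN⟩ := QCohAffine.nonempty_extendScalars_iso (A' := A) (A := B) N φ.toHom rfl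
  obtain ⟨e⟩ := FlatTorsHom.nonempty_hom_equiv φ I (ModuleCat.of A M) hI hq hM (ModuleCat.of A N) i
  let a := (DerivedCategory.singleFunctor (ModuleCat.{u} B) 0).mapIso eM
  let b := (shiftFunctor (Dual.D B) i).mapIso ((DerivedCategory.singleFunctor (ModuleCat.{u} B) 0).mapIso eN)
  exact ⟨e.trans
    { toEquiv := Iso.homCongr a b
      map_add' := fun f g => by
        show a.inv ≫ (f + g) ≫ b.hom = a.inv ≫ f ≫ b.hom + a.inv ≫ g ≫ b.hom
        rw [Preadditive.add_comp, Preadditive.comp_add] }⟩

end Groth.Agent.S1731
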