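import Groth.Statements.S17321
import Groth.Agent.CAlgH.FinAlgClosed
import Mathlib.RingTheory.Derivation.Basic
import Mathlib.RingTheory.Kaehler.Basic

set_option autoImplicit false
universe u v
open CAlg

namespace Groth.Agent.S17321

/-- Let k be an algebraically closed field and A a commutative k-algebra which is finite-dimensional as
a k-vector space (the coordinate ring of a finite k-scheme). Then the space Der(A) of k-derivations
A → A is zero if and only if A is reduced. -/
theorem result (k : Type u) [Field k] [IsAlgClosed k]
    (A : Type v) [CommRing A] [Algebra k A] [Module.Finite k A] :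
    Subsingleton (Derivation k A A) ↔ IsReduced A := by
  open Groth.Agent.CAlgH in
  constructor
  · intro h
    rw [← nilradical_eq_bot_iff]
    by_contra hne
    set N := nilradical A with hN
    obtain ⟨s, hs⟩ := exists_section k A
    classical
    have hnil := nilradical_isNilpotent k A
    let t := Nat.find hnil
    have ht : N ^ t = 0 := Nat.find_spec hnil
    have ht2 : 2 ≤ t := by
      by_contra hc
      interval_cases h : t
      · rw [pow_zero, Ideal.one_eq_top, Submodule.zero_eq_bot] at ht
        exact hne (le_bot_iff.mp (ht ▸ le_top))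
      · exact hne (by simpa using ht)
    have hlt : ¬ N ^ (t - 1) = 0 := Nat.find_min hnil (by omega)
    obtain ⟨c, hc, z, hz, hcz⟩ : ∃ c ∈ N ^ (t - 2), ∃ z ∈ N, c * z ≠ 0 := by
      by_contra hcon
      push Not at hcon
      apply hlt
      rw [show t - 1 = t - 2 + 1 by omega, pow_succ, Submodule.zero_eq_bot, eq_bot_iff, Ideal.mul_le]
      intro a ha b hb
      simpa using hcon a ha b hb
    let σ : A →ₐ[k] A := s.comp (Ideal.Quotient.mkₐ k (nilradical A))
    have hσ : ∀ a, a - σ a ∈ N := fun a => by
      rw [hN, ← Ideal.Quotient.eq]
      exact (AlgHom.congr_fun hs (Ideal.Quotient.mk (nilradical A) a)).symm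
    let L : A →ₗ[k] A := LinearMap.mulLeft k c ∘ₗ (LinearMap.id - σ.toLinearMap)
    let D : Derivation k A A := Derivation.mk' L (fun a b => by
      have key : c * ((a - σ a) * (b - σ b)) = 0 := by
        have hmem : c * ((a - σ a) * (b - σ b)) ∈ N ^ (t - 2) * (N * N) := Ideal.mul_mem_mul hc (Ideal.mul_mem_mul (hσ a) (hσ b))
        rw [← sq, ← pow_add, Nat.sub_add_cancel ht2, ht, Submodule.zero_eq_bot, Submodule.mem_bot] at hmem
        exact hmem
      show c * (a * b - σ (a * b)) = a * (c * (b - σ b)) + b * (c * (a - σ a))
      rw [map_mul]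
      linear_combination (-1 : A) * key)
    have h0 : D z = 0 := by rw [Subsingleton.elim D 0]; rfl
    apply hcz
    have hσz : σ z = 0 := by
      show s (Ideal.Quotient.mk N z) = 0
      rw [Ideal.Quotient.eq_zero_iff_mem.mpr hz, map_zero]
    have : c * (z - σ z) = 0 := h0
    rwa [hσz, sub_zero] at this
  · intro h
    have := formallyEtale_of_isReduced k A
    exact (KaehlerDifferential.linearMapEquivDerivation k A).symm.toEquiv.subsingleton

end Groth.Agent.S17321
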