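import Groth.Statements.S17323
import Groth.Agent.CAlgH.FinAlgClosed

set_option autoImplicit false
universe u v
open CAlg

namespace Groth.Agent.S17323

/-- Let k be an algebraically closed field and A a commutative k-algebra which is finite-dimensional as
a k-vector space. Then A has a largest reduced subalgebra: a k-subalgebra B which is reduced and
contains every reduced k-subalgebra of A; moreover the composite of the inclusion B → A with the
projection A → A/nilradical(A) is bijective. -/
theorem result (k : Type u) [Field k] [IsAlgClosed k]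
    (A : Type v) [CommRing A] [Algebra k A] [Module.Finite k A] :
    ∃ B : Subalgebra k A, IsReduced ↥B ∧ (∀ C : Subalgebra k A, IsReduced ↥C → C ≤ B) ∧
      Function.Bijective ((Ideal.Quotient.mkₐ k (nilradical A)).comp B.val) := by
  open Groth.Agent.CAlgH in
  obtain ⟨s, hs⟩ := exists_section k A
  have hinj : Function.Injective s := fun a b h => by
    have := congrArg (Ideal.Quotient.mkₐ k (nilradical A)) h
    rwa [← AlgHom.comp_apply, ← AlgHom.comp_apply, hs] at this
  let e : (A ⧸ nilradical A) ≃ₐ[k] s.range := AlgEquiv.ofInjective s hinj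
  have hred : IsReduced (A ⧸ nilradical A) :=
    (Ideal.isRadical_iff_quotient_reduced _).mp (Ideal.radical_isRadical _)
  refine ⟨s.range, isReduced_of_injective e.symm e.symm.injective, fun C hC x hx => ?_, ?_, ?_⟩
  · have h := ext_of_reduced k A C (f := C.val) (g := s.comp ((Ideal.Quotient.mkₐ k (nilradical A)).comp C.val))
      (fun y => (AlgHom.congr_fun hs (Ideal.Quotient.mk (nilradical A) (y : A))).symm)
    exact ⟨_, (AlgHom.congr_fun h ⟨x, hx⟩).symm⟩
  · rintro ⟨_, a, rfl⟩ ⟨_, b, rfl⟩ h
    have h1 := AlgHom.congr_fun hs a
    have h2 := AlgHom.congr_fun hs b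
    simp only [AlgHom.comp_apply, AlgHom.id_apply] at h1 h2
    apply Subtype.ext
    show s a = s b
    rw [show a = b from h1.symm.trans (h.trans h2)]
  · exact fun a => ⟨⟨s a, a, rfl⟩, AlgHom.congr_fun hs a⟩

end Groth.Agent.S17323
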