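import Groth.Statements.S17324
import Groth.Agent.CAlgH.FinAlgClosed
import Mathlib.RingTheory.LocalRing.ResidueField.Basic

set_option autoImplicit false
universe u v
open CAlg

namespace Groth.Agent.S17324

/-- (i) ⟺ (ii): let k be an algebraically closed field, A a commutative k-algebra which is
finite-dimensional as a k-vector space and is a local ring with maximal ideal m, and a_1, …, a_m ∈
m. Then A is generated as a k-algebra by a_1, …, a_m if and only if m is generated as an ideal by
a_1, …, a_m. (The printed lemma has a third equivalent condition, that the images of the a_i span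
m/m²; its equivalence with (ii) is Nakayama's lemma.) -/
theorem result (k : Type u) [Field k] [IsAlgClosed k]
    (A : Type v) [CommRing A] [Algebra k A] [Module.Finite k A] [IsLocalRing A]
    (m : ℕ) (a : Fin m → A) (ha : ∀ i, a i ∈ IsLocalRing.maximalIdeal A) :
    Algebra.adjoin k (Set.range a) = ⊤ ↔ Ideal.span (Set.range a) = IsLocalRing.maximalIdeal A := by
  classical
  open Groth.Agent.CAlgH in
  have := isArtinianRing' k A
  let M : MaximalSpectrum A := ⟨IsLocalRing.maximalIdeal A, inferInstance⟩
  let ε := pt k A M
  have hε : ∀ x, ε x = 0 ↔ x ∈ IsLocalRing.maximalIdeal A := fun x => by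
    rw [← RingHom.mem_ker]; exact Iff.of_eq (by rw [ker_pt])
  constructor
  · intro h
    refine le_antisymm (Ideal.span_le.mpr (Set.range_subset_iff.mpr ha)) fun x hx => ?_
    have key : ∀ y ∈ Algebra.adjoin k (Set.range a), y - algebraMap k A (ε y) ∈ Ideal.span (Set.range a) := by
      intro y hy
      induction hy using Algebra.adjoin_induction with
      | mem z hz =>
        obtain ⟨i, rfl⟩ := hz
        rw [(hε _).mpr (ha i), map_zero, sub_zero]
        exact Ideal.subset_span ⟨i, rfl⟩
      | algebraMap r => simp
      | add z w _ _ hz hw =>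
        rw [map_add, map_add, show z + w - (algebraMap k A (ε z) + algebraMap k A (ε w)) = (z - algebraMap k A (ε z)) + (w - algebraMap k A (ε w)) by ring]
        exact Ideal.add_mem _ hz hw
      | mul z w _ _ hz hw =>
        rw [map_mul, map_mul, show z * w - algebraMap k A (ε z) * algebraMap k A (ε w) = (z - algebraMap k A (ε z)) * w + algebraMap k A (ε z) * (w - algebraMap k A (ε w)) by ring]
        exact Ideal.add_mem _ (Ideal.mul_mem_right _ _ hz) (Ideal.mul_mem_left _ _ hw)
    have := key x (h ▸ Algebra.mem_top)
    rwa [(hε _).mpr hx, map_zero, sub_zero] at this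
  · intro h
    let S := Algebra.adjoin k (Set.range a)
    obtain ⟨t, ht⟩ := IsArtinianRing.isNilpotent_jacobson_bot (R := A)
    rw [IsLocalRing.jacobson_eq_maximalIdeal ⊥ bot_ne_top] at ht
    have hdec : ∀ x : A, x - algebraMap k A (ε x) ∈ IsLocalRing.maximalIdeal A := fun x => by
      rw [← hε, map_sub, AlgHom.commutes]; simp
    have key : ∀ (j : ℕ) (x : A), ∃ y ∈ S, x - y ∈ IsLocalRing.maximalIdeal A ^ j := by
      intro j
      induction j with
      | zero => exact fun x => ⟨0, S.zero_mem, by simp⟩
      | succ j ih =>
        intro x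
        have hd := hdec x
        rw [← h] at hd
        obtain ⟨c, hc⟩ := Submodule.mem_span_range_iff_exists_fun A |>.mp hd
        choose y hyS hy using fun i => ih (c i)
        refine ⟨algebraMap k A (ε x) + ∑ i, y i * a i,
          S.add_mem (S.algebraMap_mem _) (S.sum_mem fun i _ => S.mul_mem (hyS i) (Algebra.subset_adjoin ⟨i, rfl⟩)), ?_⟩
        have heq : x - (algebraMap k A (ε x) + ∑ i, y i * a i) = ∑ i, (c i - y i) * a i := by
          rw [← sub_sub, ← hc]; simp [sub_mul, Finset.sum_sub_distrib]
        rw [heq]
        refine Submodule.sum_mem _ fun i _ => ?_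
        rw [pow_succ]
        exact Ideal.mul_mem_mul (hy i) (ha i)
    refine eq_top_iff.mpr fun x _ => ?_
    obtain ⟨y, hy, hxy⟩ := key t x
    rw [ht, Submodule.zero_eq_bot, Submodule.mem_bot, sub_eq_zero] at hxy
    exact hxy ▸ hy

end Groth.Agent.S17324
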