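-- statement LieAlg.GrothFrozen.S17325 (Groth/Statements/S17325.lean; the theorem LieAlg.exists_ne_zero_pow_char_eq_smul_of_pth_power_closed_subspace_End);
import Groth.Statements.S17325
import Mathlib

set_option autoImplicit false
universe u v
open LieAlg

namespace Groth.Agent.S17325

/-- Let k be an algebraically closed field of characteristic p > 0, V a finite-dimensional k-vector
space and g a nonzero k-linear subspace of End_k(V) closed under the p-th power map u ↦ u^p. Then g
contains a nonzero u with u^p = c u for some c ∈ k, i.e. a line k u closed under p-th powers. (The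
published lemma concerns an abstract nonzero finite-dimensional restricted Lie algebra; this row
concerns subspaces of End_k(V) closed under p-th powers, a class that contains every restricted Lie
subalgebra of gl(V).) -/
theorem result (k : Type u) [Field k] [IsAlgClosed k]
    (p : ℕ) [Fact p.Prime] [CharP k p] (V : Type v) [AddCommGroup V] [Module k V] [FiniteDimensional k V]
    (g : Submodule k (Module.End k V)) (hg : ∀ u ∈ g, u ^ p ∈ g) (hne : g ≠ ⊥) :
    ∃ u ∈ g, u ≠ 0 ∧ ∃ c : k, u ^ p = c • u := by
  classical
  have hp2 := (Fact.out : p.Prime).two_le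
  haveI : CharP (Module.End k V) p ∨ Subsingleton (Module.End k V) := by
    rcases subsingleton_or_nontrivial V with h | h
    · exact Or.inr inferInstance
    · exact Or.inl (charP_of_injective_algebraMap' k p)
  haveI hchar : ExpChar (Module.End k V) p := by
    rcases this with h | h
    · haveI := h; exact .prime Fact.out
    · exact absurd (Submodule.eq_bot_iff _ |>.2 fun x _ => Subsingleton.elim x 0) hne
  obtain ⟨u₀, hu₀g, hu₀⟩ := Submodule.exists_mem_ne_zero_of_ne_bot hne
  let u : ℕ → Module.End k V := fun j => u₀ ^ p ^ j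
  have hu : ∀ j, u j ∈ g := fun j => by
    induction j with
    | zero => simpa [u] using hu₀g
    | succ j ih => simp only [u, pow_succ, pow_mul]; exact hg _ ih
  have hus : ∀ j, u (j + 1) = u j ^ p := fun j => by simp only [u, pow_succ, pow_mul]
  by_cases hnil : ∃ j, u j = 0
  · have h0 : Nat.find hnil ≠ 0 := fun h => hu₀ (by simpa [u, h] using Nat.find_spec hnil)
    obtain ⟨j, hj⟩ := Nat.exists_eq_succ_of_ne_zero h0
    refine ⟨u j, hu j, Nat.find_min hnil (by omega), 0, ?_⟩
    rw [zero_smul, ← hus, ← Nat.succ_eq_add_one, ← hj]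
    exact Nat.find_spec hnil
  push Not at hnil
  have hex : ∃ r, ¬ LinearIndependent k (fun j : Fin (r + 1) => u j) := ⟨Module.finrank k (Module.End k V), fun h => by
    have := h.fintype_card_le_finrank
    simp at this⟩
  set r := Nat.find hex with hr
  have hdep := Nat.find_spec hex
  rw [← hr] at hdep
  have hind : LinearIndependent k (fun j : Fin r => u j) := by
    rcases Nat.eq_zero_or_pos r with h | h
    · haveI : IsEmpty (Fin r) := by rw [h]; infer_instance
      exact linearIndependent_empty_type
    · obtain ⟨m, hm⟩ := Nat.exists_eq_succ_of_ne_zero h.ne'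
      have := Nat.find_min hex (m := m) (by omega)
      rw [not_not] at this
      exact this.comp (Fin.cast hm) (Fin.cast_injective _)
  have hspan : u r ∈ Submodule.span k (Set.range fun j : Fin r => u j) := by
    by_contra hn
    exact hdep (linearIndependent_finSucc'.2 ⟨hind, hn⟩)
  obtain ⟨a, ha⟩ := Submodule.mem_span_range_iff_exists_fun k |>.1 hspan
  let a' : ℕ → k := fun j => if h : j < r then a ⟨j, h⟩ else 0
  have ha' : ∑ j ∈ Finset.range r, a' j • u j = u r := by
    rw [← ha, Finset.sum_range]
    exact Finset.sum_congr rfl fun j _ => by simp [a', j.2]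
  -- the Lang polynomial
  let P : ℕ → Polynomial k := Nat.rec (Polynomial.C (a' 0) * Polynomial.X ^ p)
    (fun j q => q ^ p + Polynomial.C (a' (j + 1)) * Polynomial.X ^ p)
  obtain ⟨r', hr'⟩ : ∃ r', r = r' + 1 := ⟨r - 1, by
    rcases Nat.eq_zero_or_pos r with h | h
    · rw [h, Finset.range_zero, Finset.sum_empty] at ha'
      exact absurd ha'.symm (hnil 0)
    · omega⟩
  have hP0 : ∀ j, Polynomial.derivative (P j) = 0 := by
    intro j
    induction j with
    | zero => simp [P, Polynomial.derivative_X_pow, CharP.cast_eq_zero k p]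
    | succ j ih => simp [P, Polynomial.derivative_pow, Polynomial.derivative_X_pow, CharP.cast_eq_zero k p]
  have hroot : ∀ q : Polynomial k, Polynomial.derivative q = 0 → 1 < q.natDegree → q.eval 0 = 0 →
      ∃ y : k, y ≠ 0 ∧ q.eval y = y := by
    intro q hq hdeg hq0
    have hd : (q - Polynomial.X).natDegree = q.natDegree :=
      Polynomial.natDegree_sub_eq_left_of_natDegree_lt (by rw [Polynomial.natDegree_X]; exact hdeg)
    have hsep : (q - Polynomial.X).Separable := ⟨0, -1, by simp [hq]⟩
    have hcard := (Polynomial.splits_iff_card_roots.1 (IsAlgClosed.splits (q - Polynomial.X)))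
    obtain ⟨y, hy, hy0⟩ : ∃ y ∈ (q - Polynomial.X).roots, y ≠ 0 := by
      by_contra h
      push Not at h
      have h2 := Multiset.nodup_iff_count_le_one.1 (Polynomial.nodup_roots hsep) 0
      rw [Multiset.eq_replicate.2 ⟨rfl, h⟩, Multiset.count_replicate_self] at h2
      omega
    refine ⟨y, hy0, ?_⟩
    have := (Polynomial.mem_roots (fun e => by rw [e] at hd; simp at hd; omega)).1 hy
    simpa [sub_eq_zero] using this
  have hP00 : ∀ j, (P j).eval 0 = 0 := by
    intro j
    induction j with
    | zero => simp [P, (Fact.out : p.Prime).ne_zero]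
    | succ j ih =>
      have : P (j + 1) = P j ^ p + Polynomial.C (a' (j + 1)) * Polynomial.X ^ p := rfl
      simp [this, ih, (Fact.out : p.Prime).ne_zero]
  obtain ⟨j₀, hj₀r, hj₀⟩ : ∃ j₀, j₀ < r ∧ a' j₀ ≠ 0 := by
    by_contra h
    push Not at h
    refine hnil r ?_
    rw [← ha']
    exact Finset.sum_eq_zero fun j hj => by rw [h j (Finset.mem_range.1 hj), zero_smul]
  have hdegP : ∀ j, j₀ ≤ j → 1 < (P j).natDegree := by
    have hsucc : ∀ j, 1 < (P j).natDegree → 1 < (P (j + 1)).natDegree := fun j h => by
      have e : P (j + 1) = P j ^ p + Polynomial.C (a' (j + 1)) * Polynomial.X ^ p := rfl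
      rw [e, Polynomial.natDegree_add_eq_left_of_natDegree_lt]
      · rw [Polynomial.natDegree_pow]; nlinarith
      · rw [Polynomial.natDegree_pow]
        refine lt_of_le_of_lt (Polynomial.natDegree_C_mul_X_pow_le _ _) ?_
        nlinarith
    intro j hj
    induction j, hj using Nat.le_induction with
    | base =>
      rcases j₀ with _ | j₁
      · show 1 < (Polynomial.C (a' 0) * Polynomial.X ^ p).natDegree
        rw [Polynomial.natDegree_C_mul_X_pow _ _ hj₀]; omega
      · by_cases h : 1 < (P j₁).natDegree
        · exact hsucc _ h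
        · have e : P (j₁ + 1) = P j₁ ^ p + Polynomial.C (a' (j₁ + 1)) * Polynomial.X ^ p := rfl
          have hconst : (P j₁).natDegree = 0 := by
            by_contra h1
            have h2 : (P j₁).natDegree = 1 := by omega
            have h3 := congrArg (fun q => Polynomial.coeff q 0) (hP0 j₁)
            simp [Polynomial.coeff_derivative] at h3
            have h4 := Polynomial.leadingCoeff_ne_zero.2 (fun e0 => by rw [e0] at h2; simp at h2 : P j₁ ≠ 0)
            rw [Polynomial.leadingCoeff, h2] at h4
            exact h4 h3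
          rw [e, Polynomial.natDegree_add_eq_right_of_natDegree_lt, Polynomial.natDegree_C_mul_X_pow _ _ hj₀]
          · omega
          · rw [Polynomial.natDegree_C_mul_X_pow _ _ hj₀, Polynomial.natDegree_pow, hconst, mul_zero]; omega
    | succ j _ ih => exact hsucc j ih
  obtain ⟨y, hy0, hy⟩ := hroot (P r') (hP0 r') (hdegP r' (by omega)) (hP00 r')
  let x : ℕ → k := fun j => (P j).eval y
  have hx : ∀ j, x (j + 1) = x j ^ p + a' (j + 1) * y ^ p := fun j => by
    show (P j ^ p + Polynomial.C (a' (j + 1)) * Polynomial.X ^ p).eval y = _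
    simp [x]
  let v := ∑ j ∈ Finset.range r, x j • u j
  have hcomm : ∀ i j, Commute (x i • u i) (x j • u j) := fun i j =>
    ((Commute.pow_pow (Commute.refl u₀) _ _).smul_left _).smul_right _
  have hsum : ∀ n, (∑ j ∈ Finset.range n, x j • u j) ^ p = ∑ j ∈ Finset.range n, x j ^ p • u (j + 1) := by
    intro n
    induction n with
    | zero => simp [(Fact.out : p.Prime).ne_zero]
    | succ n ih =>
      rw [Finset.sum_range_succ, Finset.sum_range_succ, add_pow_expChar_of_commute p (Commute.sum_left _ _ _ fun i _ => hcomm i n),
        ih, smul_pow, hus n]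
  refine ⟨v, g.sum_mem fun j _ => g.smul_mem _ (hu j), fun hv => ?_, 1, ?_⟩
  · have h1 : ∑ j : Fin r, x j • u j = 0 := by rw [← Finset.sum_range fun j => x j • u j]; exact hv
    have := Fintype.linearIndependent_iff.1 hind (fun j => x j) h1 ⟨r', by omega⟩
    exact hy0 (hy.symm.trans this)
  · rw [one_smul, hsum, hr', Finset.sum_range_succ, ← hr', ← ha', hr', Finset.smul_sum]
    simp only [v, hr']
    rw [show x r' = y from hy]
    simp only [smul_smul]
    rw [Finset.sum_range_succ', Finset.sum_range_succ', show x 0 = a' 0 * y ^ p by simp [x, P], ← add_assoc,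
      ← Finset.sum_add_distrib]
    rw [show y ^ p * a' 0 = a' 0 * y ^ p by ring]
    congr 1
    refine Finset.sum_congr rfl fun j _ => ?_
    rw [← add_smul, hx]
    ring_nf

end Groth.Agent.S17325
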