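import Groth.Statements.S17326
import Groth.Agent.CAlgH.FinAlgClosed
import Mathlib.Algebra.CharP.Algebra
import Mathlib.Algebra.CharP.Frobenius
import Mathlib.FieldTheory.Perfect

set_option autoImplicit false
universe u v
open CAlg

namespace Groth.Agent.S17326

/-- Let k be an algebraically closed field of characteristic p > 0, A a commutative k-algebra which is
finite-dimensional as a k-vector space (a finite k-scheme X), and n ≥ 1. The n-th iterated relative
Frobenius morphism X → X^(p^n) is an isomorphism if and only if X is reduced; on rings: the map a ↦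
a^(p^n) of A to itself (which is the ring homomorphism underlying the relative Frobenius, the twist
A^(p^n) having the same underlying ring as A) is bijective if and only if A is reduced. -/
theorem result (k : Type u) [Field k] [IsAlgClosed k]
    (p : ℕ) [Fact p.Prime] [CharP k p] (A : Type v) [CommRing A] [Algebra k A] [Module.Finite k A]
    (n : ℕ) (hn : 1 ≤ n) :
    Function.Bijective (fun a : A => a ^ p ^ n) ↔ IsReduced A := by
  open Groth.Agent.CAlgH in
  have hA : ∀ [Nontrivial A], CharP A p := fun {_} =>
    charP_of_injective_algebraMap (algebraMap k A).injective p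
  have hq : 2 ≤ p ^ n := le_trans (Fact.out : p.Prime).two_le (Nat.le_self_pow (by omega) p)
  constructor
  · intro h
    refine ⟨fun x hx => ?_⟩
    have key : ∀ y : A, y ^ 2 = 0 → y = 0 := fun y hy => h.1 (show y ^ p ^ n = (0 : A) ^ p ^ n by
      rw [zero_pow (by omega), ← Nat.sub_add_cancel hq, pow_add, hy, mul_zero])
    obtain ⟨m, hm⟩ := hx
    induction m using Nat.strong_induction_on with
    | _ m ih =>
      rcases Nat.lt_or_ge m 2 with hlt | hge
      · rw [← pow_one x]; exact pow_eq_zero_of_le (by omega) hm
      · refine ih (m - 1) (by omega) (key _ ?_)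
        rw [← pow_mul]
        exact pow_eq_zero_of_le (by omega) hm
  · intro h
    rcases subsingleton_or_nontrivial A with hs | hn'
    · exact ⟨fun a b _ => Subsingleton.elim a b, fun b => ⟨b, Subsingleton.elim _ _⟩⟩
    have := hA
    have hinj : Function.Injective (fun a : A => a ^ p ^ n) := by
      intro a b hab
      simp only at hab
      rw [← sub_eq_zero, ← sub_pow_char_pow, ] at hab
      exact sub_eq_zero.mp (eq_zero_of_pow_eq_zero hab)
    refine ⟨hinj, fun b => ?_⟩
    let e : A ≃ₐ[k] (MaximalSpectrum A → k) :=
      ((Ideal.quotientEquivAlgOfEq k (nilradical_eq_zero A)).trans (AlgEquiv.quotientBot k A)).symm.trans (quotEquiv k A)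
    have hroot : ∀ c : k, ∃ d : k, d ^ p ^ n = c := fun c => IsAlgClosed.exists_pow_nat_eq c (by omega)
    choose d hd using hroot
    refine ⟨e.symm fun m => d (e b m), e.injective ?_⟩
    show e ((e.symm fun m => d (e b m)) ^ p ^ n) = e b
    rw [map_pow, AlgEquiv.apply_symm_apply]
    exact funext fun m => hd _

end Groth.Agent.S17326
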