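import Groth.Statements.S17327
import Mathlib.RingTheory.Artinian.Module
import Mathlib.RingTheory.Ideal.IdempotentFG
import Mathlib.RingTheory.HopfAlgebra.Convolution

set_option autoImplicit false
universe u v
open Hopf

namespace Groth.Agent.S17327

open scoped TensorProduct


/-- Let k be an algebraically closed field of characteristic p > 0, A a commutative Hopf algebra over k
which is finite-dimensional as a k-vector space (a finite group scheme G = Spec A), I the
augmentation ideal (kernel of the counit) and n ≥ 1. The n-th Frobenius kernel G_n is the closed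
subgroup scheme cut out by the ideal generated by the p^n-th powers f^(p^n), f ∈ I; it is trivial,
i.e. that ideal equals I, if and only if G is reduced. -/
theorem result (k : Type u) [Field k] [IsAlgClosed k]
    (p : ℕ) [Fact p.Prime] [CharP k p] (A : Type v) [CommRing A] [HopfAlgebra k A] [Module.Finite k A]
    (n : ℕ) (hn : 1 ≤ n) :
    Ideal.span ((fun f : A => f ^ p ^ n) '' (RingHom.ker (Bialgebra.counitAlgHom k A) : Set A)) =
      RingHom.ker (Bialgebra.counitAlgHom k A) ↔ IsReduced A := by
  haveI : IsArtinianRing A := IsArtinianRing.of_finite k A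
  haveI : IsNoetherianRing A := IsNoetherianRing.of_finite k A
  have h2 : 2 ≤ p ^ n := (Fact.out : p.Prime).two_le.trans (Nat.le_self_pow (by omega) p)
  refine ⟨fun h => ?_, fun h => le_antisymm (Ideal.span_le.2 ?_) ?_⟩
  · set I := RingHom.ker (Bialgebra.counitAlgHom k A) with hI
    have hI2 : IsIdempotentElem I := by
      refine le_antisymm Ideal.mul_le_left (h.symm.le.trans (Ideal.span_le.2 ?_))
      rintro _ ⟨f, hf, rfl⟩
      show f ^ p ^ n ∈ I * I
      rw [show p ^ n = (p ^ n - 2) + 2 by omega, pow_add, pow_two f]
      exact Ideal.mul_mem_left _ _ (Ideal.mul_mem_mul hf hf)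
    obtain ⟨e, he, he'⟩ := (Ideal.isIdempotentElem_iff_of_fg I (IsNoetherian.noetherian I)).1 hI2
    refine ⟨fun a ha => by_contra fun ha0 => ?_⟩
    have hann : ∃ J : Ideal A, J = LinearMap.ker (LinearMap.toSpanSingleton A A a) := ⟨_, rfl⟩
    obtain ⟨J, hJ⟩ := hann
    have hJ1 : J ≠ ⊤ := fun h1 => ha0 (by
      have : (1 : A) ∈ J := h1 ▸ Submodule.mem_top
      rw [hJ] at this; simpa using this)
    obtain ⟨P, hP, hJP⟩ := Ideal.exists_le_maximal J hJ1
    let ι := AlgEquiv.ofBijective (Algebra.ofId k (A ⧸ P))
      ⟨(algebraMap k (A ⧸ P)).injective, IsAlgClosed.algebraMap_bijective_of_isIntegral.2⟩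
    let χ : A →ₐ[k] k := ι.symm.toAlgHom.comp (Ideal.Quotient.mkₐ k P)
    have hχ : ∀ x, χ x = 0 → x ∈ P := fun x hx =>
      Ideal.Quotient.eq_zero_iff_mem.1 (ι.symm.map_eq_zero_iff.1 hx)
    let T : (A →ₐ[k] k) → (A →ₐ[k] A) := fun c =>
      (Algebra.TensorProduct.lid k A).toAlgHom.comp
        ((Algebra.TensorProduct.map c (AlgHom.id k A)).comp (Bialgebra.comulAlgHom k A))
    have hεT : ∀ c x, Coalgebra.counit (R := k) (T c x) = c x := by
      intro c x
      have key : ∀ z : A ⊗[k] A, Coalgebra.counit (R := k) (Algebra.TensorProduct.lid k A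
          (Algebra.TensorProduct.map c (AlgHom.id k A) z)) = c (TensorProduct.rid k A ((Coalgebra.counit (R := k) (A := A)).lTensor A z)) := by
        intro z
        induction z with
        | zero => simp
        | add x y hx hy => simp only [map_add, hx, hy]
        | tmul x y => simp [mul_comm]
      refine (key _).trans ?_
      simp [Coalgebra.lTensor_counit_comul]
    have hTT : ∀ c c' : A →ₐ[k] k, ∀ x, T c (T c' x) = T ((WithConv.toConv c' * WithConv.toConv c : WithConv (A →ₐ[k] k))).ofConv x := by
      intro c c' x
      have k1 : ∀ z : A ⊗[k] A, T c (Algebra.TensorProduct.lid k A (Algebra.TensorProduct.map c' (AlgHom.id k A) z)) =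
          Algebra.TensorProduct.lid k A (Algebra.TensorProduct.map c' ((Algebra.TensorProduct.lid k A).toAlgHom.comp
            (Algebra.TensorProduct.map c (AlgHom.id k A))) ((Coalgebra.comul (R := k) (A := A)).lTensor A z)) := by
        intro z
        induction z with
        | zero => simp
        | add x y hx hy => simp only [map_add, hx, hy]
        | tmul x y => simp [T]
      have k2 : ∀ z : A ⊗[k] A, Algebra.TensorProduct.lid k A (Algebra.TensorProduct.map c' ((Algebra.TensorProduct.lid k A).toAlgHom.comp
            (Algebra.TensorProduct.map c (AlgHom.id k A))) (TensorProduct.assoc k A A A ((Coalgebra.comul (R := k) (A := A)).rTensor A z))) =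
          Algebra.TensorProduct.lid k A (Algebra.TensorProduct.map (WithConv.toConv c' * WithConv.toConv c : WithConv (A →ₐ[k] k)).ofConv (AlgHom.id k A) z) := by
        intro z
        induction z with
        | zero => simp
        | add x y hx hy => simp only [map_add, hx, hy]
        | tmul x y =>
          simp only [LinearMap.rTensor_tmul, Algebra.TensorProduct.map_tmul, AlgHom.convMul_def, WithConv.ofConv_toConv,
            AlgHom.comp_apply, Bialgebra.comulAlgHom_apply]
          generalize Coalgebra.comul (R := k) x = w
          induction w with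
          | zero => simp
          | add p q hp hq => simp only [map_add, TensorProduct.add_tmul, hp, hq]
          | tmul p q => simp [mul_smul, smul_comm (c q) (c' p)]
      refine (k1 _).trans ?_
      erw [← Coalgebra.coassoc_apply]
      exact k2 _
    let χ' : A →ₐ[k] k := χ.comp (HopfAlgebra.antipodeAlgHom k A)
    have hinv : (WithConv.toConv χ' * WithConv.toConv χ : WithConv (A →ₐ[k] k)) = 1 := by
      refine WithConv.ofConv_injective (AlgHom.ext fun x => ?_)
      simp only [AlgHom.convMul_def, AlgHom.convOne_def, WithConv.ofConv_toConv, AlgHom.comp_apply, Bialgebra.comulAlgHom_apply]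
      have key : ∀ z : A ⊗[k] A, Algebra.TensorProduct.lmul' k (Algebra.TensorProduct.map χ' χ z) =
          χ (LinearMap.mul' k A ((HopfAlgebraStruct.antipode k (A := A)).rTensor A z)) := by
        intro z
        induction z with
        | zero => simp
        | add x y hx hy => simp only [map_add, hx, hy]
        | tmul x y => simp [χ']
      rw [key, HopfAlgebra.mul_antipode_rTensor_comul_apply, AlgHom.commutes]
      rfl
    have hT1 : ∀ x, T (1 : WithConv (A →ₐ[k] k)).ofConv x = x := by
      intro x
      have key : ∀ z : A ⊗[k] A, Algebra.TensorProduct.lid k A (Algebra.TensorProduct.map (1 : WithConv (A →ₐ[k] k)).ofConv (AlgHom.id k A) z) =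
          TensorProduct.lid k A ((Coalgebra.counit (R := k) (A := A)).rTensor A z) := by
        intro z
        induction z with
        | zero => simp
        | add x y hx hy => simp only [map_add, hx, hy]
        | tmul x y => simp [AlgHom.convOne_def]
      refine (key _).trans ?_
      simp [Coalgebra.rTensor_counit_comul]
    have hinv' : (WithConv.toConv χ * WithConv.toConv χ' : WithConv (A →ₐ[k] k)) = 1 := by
      refine WithConv.ofConv_injective (AlgHom.ext fun x => ?_)
      simp only [AlgHom.convMul_def, AlgHom.convOne_def, WithConv.ofConv_toConv, AlgHom.comp_apply, Bialgebra.comulAlgHom_apply]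
      have key : ∀ z : A ⊗[k] A, Algebra.TensorProduct.lmul' k (Algebra.TensorProduct.map χ χ' z) =
          χ (LinearMap.mul' k A ((HopfAlgebraStruct.antipode k (A := A)).lTensor A z)) := by
        intro z
        induction z with
        | zero => simp
        | add x y hx hy => simp only [map_add, hx, hy]
        | tmul x y => simp [χ']
      rw [key, HopfAlgebra.mul_antipode_lTensor_comul_apply, AlgHom.commutes]
      rfl
    let e' := T χ' e
    have hTe : χ e' = 0 := by
      rw [← hεT, hTT, hinv, hT1]
      have : e ∈ I := he' ▸ Ideal.mem_span_singleton_self e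
      exact this
    have hTa : T χ a ∈ I := by
      show Coalgebra.counit (R := k) (T χ a) = 0
      rw [hεT]
      exact (ha.map χ).eq_zero
    rw [he', Ideal.mem_span_singleton'] at hTa
    obtain ⟨c, hc⟩ := hTa
    have hae : a * e' = a := by
      have hca : T χ a * e = T χ a := by rw [← hc, mul_assoc, he.eq]
      have h3 := congrArg (T χ') hca
      rwa [map_mul, hTT, hinv', hT1] at h3
    have : 1 - e' ∈ J := by
      rw [hJ, LinearMap.mem_ker, LinearMap.toSpanSingleton_apply, smul_eq_mul, sub_mul, one_mul, mul_comm, hae, sub_self]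
    exact hP.ne_top (P.eq_top_of_isUnit_mem (x := 1 - e' + e') (add_mem (hJP this) (hχ _ hTe)) (by simp))
  · rintro _ ⟨f, hf, rfl⟩
    exact Ideal.pow_mem_of_mem _ hf _ (by omega)
  · haveI := IsArtinianRing.isSemisimpleRing_of_isReduced A
    obtain ⟨e, he, he'⟩ := IsSemisimpleRing.ideal_eq_span_idempotent (RingHom.ker (Bialgebra.counitAlgHom k A))
    have hmem : e ∈ RingHom.ker (Bialgebra.counitAlgHom k A) := he' ▸ Ideal.mem_span_singleton_self e
    refine he'.le.trans ((Ideal.span_singleton_le_iff_mem _).2 (Ideal.subset_span ⟨e, hmem, ?_⟩))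
    exact he.pow_eq (by omega)

end Groth.Agent.S17327
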