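import Groth.Statements.S17328
import Groth.Agent.FinHopf.Truncated
import Mathlib

set_option autoImplicit false
universe u v
open Hopf

namespace Groth.Agent.S17328

open Groth.Agent.FinHopf in
theorem key (k : Type u) [Field k] (p : ℕ) [Fact p.Prime] [CharP k p] (A : Type v) [CommRing A] [HopfAlgebra k A]
    [Module.Finite k A] (h1 : ∀ f : A, Bialgebra.counitAlgHom k A f = 0 → f ^ p = 0) :
    Module.finrank k A = p ^ Module.finrank k (RingHom.ker (Bialgebra.counitAlgHom k A)).Cotangent := by
  haveI : Nontrivial A := (Bialgebra.counitAlgHom k A).toRingHom.domain_nontrivial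
  haveI : CharP A p := charP_of_injective_algebraMap (algebraMap k A).injective p
  let ε := Bialgebra.counitAlgHom k A
  obtain ⟨r, x, D, hxε, hgen, hD⟩ := exists_coords (isComul_comul (k := k) (A := A)) fun a ha => ⟨p, h1 a ha⟩
  have hB : Algebra.adjoin k (Set.range fun a : A => a ^ p) = ⊥ := by
    refine le_bot_iff.1 (Algebra.adjoin_le ?_)
    rintro _ ⟨a, rfl⟩
    have h0 : (a - algebraMap k A (ε a)) ^ p = 0 := h1 _ (by rw [map_sub, AlgHom.commutes]; exact sub_self _)
    rw [sub_pow_char, sub_eq_zero, ← map_pow] at h0
    exact SetLike.mem_coe.2 (Algebra.mem_bot.2 ⟨_, h0.symm⟩)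
  obtain ⟨b, -⟩ := basis_mono_of_coords p ⊥ hB.symm x D hgen hD
  haveI : Module.Free (⊥ : Subalgebra k A) A := Module.Free.of_basis b
  have e1 := finrank_cotangent_eq ε x hxε D hgen hD
  rw [← Module.finrank_mul_finrank k (⊥ : Subalgebra k A) A, Subalgebra.finrank_bot, one_mul,
    Module.finrank_eq_card_basis b, Fintype.card_fun, Fintype.card_fin, Fintype.card_fin]
  congr 1
  exact e1.symm


/-- Let k be an algebraically closed field of characteristic p > 0 and A a commutative Hopf algebra over
k, finite-dimensional as a k-vector space, with augmentation ideal I (kernel of the counit), such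
that f^p = 0 for every f ∈ I (the finite group scheme G = Spec A is infinitesimal of height at most
one: A is then a local ring with maximal ideal I). Then the order of G is dim_k A = p^n where n =
dim_k I/I² is the dimension of the Lie algebra of G. -/
theorem result (k : Type u) [Field k] [IsAlgClosed k]
    (p : ℕ) [Fact p.Prime] [CharP k p] (A : Type v) [CommRing A] [HopfAlgebra k A] [Module.Finite k A]
    (h1 : ∀ f : A, Bialgebra.counitAlgHom k A f = 0 → f ^ p = 0) :
    Module.finrank k A = p ^ Module.finrank k (RingHom.ker (Bialgebra.counitAlgHom k A)).Cotangent := by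
  exact key k p A h1

end Groth.Agent.S17328
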