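import Groth.Statements.S17332
import Mathlib.Algebra.Algebra.Pi
import Mathlib.Algebra.BigOperators.Pi

set_option autoImplicit false
universe u v w
open CAlg

namespace Groth.Agent.S17332

/-- Let k be a field, E and F finite sets, and O(E), O(F) the k-algebras of k-valued functions with
pointwise operations. Then every k-algebra homomorphism u : O(F) → O(E) is pull-back along a unique
map φ : E → F, i.e. u(g) = g ∘ φ for all g. (In the source k is algebraically closed; the printed
argument only uses that k is a field.) -/
theorem result (k : Type u) [Field k] (E : Type v) [Finite E]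
    (F : Type w) [Finite F] (u : (F → k) →ₐ[k] (E → k)) :
    ∃! φ : E → F, ∀ g : F → k, u g = g ∘ φ := by
  classical
  have : Fintype F := Fintype.ofFinite F
  have hsum : (∑ f : F, Pi.single f (1 : k)) = (1 : F → k) := Finset.univ_sum_single (1 : F → k)
  have hex : ∀ e : E, ∃ f : F, u (Pi.single f 1) e = 1 := by
    intro e
    by_contra hc
    push Not at hc
    have h01 : ∀ f, u (Pi.single f 1) e = 0 := by
      intro f
      have h : u (Pi.single f 1) e * u (Pi.single f 1) e = u (Pi.single f 1) e := by
        rw [← Pi.mul_apply, ← map_mul, ← Pi.single_mul, mul_one]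
      rcases eq_or_ne (u (Pi.single f 1) e) 0 with h0 | h0
      · exact h0
      · exact absurd (mul_left_cancel₀ h0 (h.trans (mul_one _).symm)) (hc f)
    have : u 1 e = 0 := by rw [← hsum, map_sum, Finset.sum_apply]; exact Finset.sum_eq_zero fun f _ => h01 f
    simp at this
  choose φ hφ using hex
  refine ⟨φ, fun g => funext fun e => ?_, fun ψ hψ => funext fun e => ?_⟩
  · have h : u (g * Pi.single (φ e) 1) e = u (g (φ e) • Pi.single (φ e) 1) e := by
      have h2 : g * Pi.single (φ e) 1 = g (φ e) • Pi.single (φ e) (1 : k) := by
        ext f
        by_cases hf : f = φ e <;> simp [hf]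
      rw [h2]
    rw [map_mul, map_smul, Pi.mul_apply, Pi.smul_apply, hφ] at h
    simpa using h
  · have := congrFun (hψ (Pi.single (φ e) 1)) e
    rw [hφ] at this
    by_contra hne
    simp [Pi.single_eq_of_ne hne] at this

end Groth.Agent.S17332
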