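import Groth.Statements.S17333
import Mathlib.RingTheory.Derivation.Basic
import Mathlib.LinearAlgebra.Prod

set_option autoImplicit false
universe u v w
open CAlg

namespace Groth.Agent.S17333

/-- Let k be a field and A = B × C a decomposable commutative k-algebra. Then the natural map Der(B) ×
Der(C) → Der(A) is bijective: every k-derivation D : A → A is (b, c) ↦ (D₁ b, D₂ c) for a unique
pair of k-derivations D₁ : B → B, D₂ : C → C. Compatibility with brackets is not stated. (The
published statement takes k algebraically closed; this row takes any field.) -/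
theorem result (k : Type u) [Field k] (B : Type v) [CommRing B] [Algebra k B]
    (C : Type w) [CommRing C] [Algebra k C] (D : Derivation k (B × C) (B × C)) :
    ∃! P : Derivation k B B × Derivation k C C, ∀ (b : B) (c : C), D (b, c) = (P.1 b, P.2 c) := by
  have hidem : ∀ e : B × C, e * e = e → D e = 0 := by
    intro e he
    have h1 := D.leibniz e e
    rw [he, smul_eq_mul] at h1
    have h2 : e * D e = 0 := by
      have := congrArg (e * ·) h1
      simp only [mul_add, ← mul_assoc, he] at this
      simpa using this.symm
    rw [h1, h2, add_zero]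
  have hl : ∀ b, (D (b, (0 : C))).2 = 0 := by
    intro b
    have h := D.leibniz ((1 : B), (0 : C)) (b, 0)
    rw [hidem ((1 : B), (0 : C)) (by simp), smul_zero, add_zero, smul_eq_mul] at h
    have h2 := congrArg Prod.snd h
    simpa using h2
  have hr : ∀ c, (D ((0 : B), c)).1 = 0 := by
    intro c
    have h := D.leibniz ((0 : B), (1 : C)) (0, c)
    rw [hidem ((0 : B), (1 : C)) (by simp), smul_zero, add_zero, smul_eq_mul] at h
    have h2 := congrArg Prod.fst h
    simpa using h2
  let P₁ : Derivation k B B := Derivation.mk' (LinearMap.fst k B C ∘ₗ D.toLinearMap ∘ₗ LinearMap.inl k B C) (by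
    intro a b
    show (D (a * b, (0 : C))).1 = a * (D (b, 0)).1 + b * (D (a, 0)).1
    rw [show ((a * b, (0 : C)) : B × C) = (a, 0) * (b, 0) by simp, D.leibniz]
    simp)
  let P₂ : Derivation k C C := Derivation.mk' (LinearMap.snd k B C ∘ₗ D.toLinearMap ∘ₗ LinearMap.inr k B C) (by
    intro a b
    show (D ((0 : B), a * b)).2 = a * (D (0, b)).2 + b * (D (0, a)).2
    rw [show (((0 : B), a * b) : B × C) = (0, a) * (0, b) by simp, D.leibniz]
    simp)
  refine ⟨(P₁, P₂), fun b c => ?_, fun P hP => ?_⟩
  · rw [show ((b, c) : B × C) = (b, 0) + (0, c) by simp, map_add]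
    ext
    · rw [Prod.fst_add, hr, add_zero]; rfl
    · rw [Prod.snd_add, hl, zero_add]; rfl
  · ext b
    · show P.1 b = (D (b, (0 : C))).1
      rw [hP]
    · show P.2 b = (D ((0 : B), b)).2
      rw [hP]

end Groth.Agent.S17333
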