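import Groth.Statements.S17334
import Mathlib.RingTheory.Artinian.Module
import Mathlib.RingTheory.LocalRing.Basic
import Mathlib.RingTheory.Nilpotent.Basic

set_option autoImplicit false
universe u v
open CAlg

namespace Groth.Agent.S17334

/-- Let k be a field and A a nonzero commutative k-algebra which is finite-dimensional as a k-vector
space. Then A is indecomposable (no decomposition as a product of two nonzero rings, i.e. no
idempotent other than 0 and 1) if and only if A is a local ring. (In the source k is algebraically
closed and the lemma adds that the maximal ideal is then the nilradical, is nilpotent, and has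
residue field k; the equivalence itself uses only that k is a field, and the zero algebra is
excluded here explicitly.) -/
theorem result (k : Type u) [Field k]
    (A : Type v) [CommRing A] [Algebra k A] [Module.Finite k A] [Nontrivial A] :
    (∀ e : A, IsIdempotentElem e → e = 0 ∨ e = 1) ↔ IsLocalRing A := by
  have : IsArtinianRing A := IsArtinianRing.of_finite k A
  constructor
  · intro h
    refine IsLocalRing.of_isUnit_or_isUnit_one_sub_self fun a => ?_
    obtain ⟨n, y, hy⟩ := IsArtinian.exists_pow_succ_smul_dvd (M := A) a (1 : A)
    simp only [smul_eq_mul, mul_one] at hy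
    have hk : ∀ k : ℕ, a ^ (n + k) * y ^ k = a ^ n := by
      intro k
      induction k with
      | zero => simp
      | succ k ih =>
        calc a ^ (n + (k + 1)) * y ^ (k + 1) = (a ^ (n + 1) * y) * (a ^ k * y ^ k) := by ring
          _ = a ^ (n + k) * y ^ k := by rw [hy]; ring
          _ = a ^ n := ih
    have he : IsIdempotentElem (a ^ n * y ^ n) := by
      show _ * _ = _
      calc (a ^ n * y ^ n) * (a ^ n * y ^ n) = (a ^ (n + n) * y ^ n) * y ^ n := by ring
        _ = _ := by rw [hk n]
    rcases h _ he with h0 | h1
    · right
      have : a ^ n = 0 := by
        have := hk n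
        calc a ^ n = a ^ (n + n) * y ^ n := this.symm
          _ = a ^ n * (a ^ n * y ^ n) := by ring
          _ = 0 := by rw [h0, mul_zero]
      exact IsNilpotent.isUnit_one_sub (⟨n, this⟩ : IsNilpotent a)
    · left
      rcases n with _ | n
      · exact IsUnit.of_mul_eq_one y (by simpa using hy)
      · exact IsUnit.of_mul_eq_one (a ^ n * y ^ (n + 1)) (by rw [← h1]; ring)
  · intro h e he
    exact (IsLocalRing.isUnit_or_isUnit_one_sub_self e).symm.imp
      (fun hu => by
        have : (1 - e) * e = 0 := by rw [sub_mul, one_mul, he.eq, sub_self]
        exact hu.mul_right_eq_zero.mp this)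
      (fun hu => by
        have : e * (e - 1) = 0 := by rw [mul_sub, he.eq, mul_one, sub_self]
        exact sub_eq_zero.mp (hu.mul_right_eq_zero.mp this))

end Groth.Agent.S17334
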