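import Groth.Statements.S17335
import Groth.Agent.CAlgH.FinAlgClosed

set_option autoImplicit false
universe u v
open CAlg

namespace Groth.Agent.S17335

/-- Let k be an algebraically closed field and A a commutative k-algebra which is finite-dimensional as
a k-vector space, and let E be the set of k-algebra homomorphisms A → k. Then E is finite, and the
evaluation homomorphism A → O(E) = (E → k), a ↦ (f ↦ f(a)), is surjective with kernel the nilradical
of A; it therefore induces an isomorphism of A_red = A/nilradical(A) onto O(E). -/
theorem result (k : Type u) [Field k]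
    [IsAlgClosed k] (A : Type v) [CommRing A] [Algebra k A] [Module.Finite k A] :
    Finite (A →ₐ[k] k) ∧
      Function.Surjective (AlgHom.pi (R := k) (fun f : A →ₐ[k] k => f)) ∧
      RingHom.ker (AlgHom.pi (R := k) (fun f : A →ₐ[k] k => f)) = nilradical A := by
  open Groth.Agent.CAlgH in
  have := isArtinianRing' k A
  have hsurj : Function.Surjective fun m : MaximalSpectrum A => (pt k A m : A →ₐ[k] k) :=
    fun f => (exists_pt k A f).imp fun m hm => hm.symm
  have hfin : Finite (A →ₐ[k] k) := Finite.of_surjective _ hsurj
  refine ⟨hfin, fun y => ?_, ?_⟩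
  · obtain ⟨q, hq⟩ := (quotEquiv k A).surjective fun m => y (pt k A m)
    obtain ⟨x, rfl⟩ := Ideal.Quotient.mk_surjective q
    refine ⟨x, funext fun f => ?_⟩
    obtain ⟨m, rfl⟩ := exists_pt k A f
    exact (quotEquiv_mk k A x m).symm.trans (congrFun hq m)
  · ext x
    rw [RingHom.mem_ker, ← Ideal.Quotient.eq_zero_iff_mem, ← map_eq_zero_iff _ (quotEquiv k A).injective]
    refine ⟨fun h => funext fun m => (quotEquiv_mk k A x m).trans (congrFun h (pt k A m)), fun h => funext fun f => ?_⟩
    obtain ⟨m, rfl⟩ := exists_pt k A f
    exact (quotEquiv_mk k A x m).symm.trans (congrFun h m)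

end Groth.Agent.S17335
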