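import Groth.Statements.S17336
import Groth.Agent.CAlgH.FinAlgClosed

set_option autoImplicit false
universe u v
open CAlg

namespace Groth.Agent.S17336

/-- Let k be an algebraically closed field and A a commutative k-algebra which is finite-dimensional as
a k-vector space (a finite scheme X = Spec A with largest reduced subscheme X_red = Spec
(A/nilradical A) and immersion i : X_red → X). Then there is a unique morphism r : X → X_red with r
∘ i = id; on rings: the projection A → A/nilradical(A) admits exactly one section that is a
k-algebra homomorphism. -/
theorem result (k : Type u) [Field k]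
    [IsAlgClosed k] (A : Type v) [CommRing A] [Algebra k A] [Module.Finite k A] :
    ∃! s : (A ⧸ nilradical A) →ₐ[k] A,
      (Ideal.Quotient.mkₐ k (nilradical A)).comp s = AlgHom.id k (A ⧸ nilradical A) := by
  open Groth.Agent.CAlgH in
  obtain ⟨s, hs⟩ := exists_section k A
  refine ⟨s, hs, fun t ht => ?_⟩
  have := formallyEtale_quot k A
  exact Algebra.FormallyUnramified.lift_unique _ (nilradical_isNilpotent k A) t s (ht.trans hs.symm)

end Groth.Agent.S17336
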