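import Groth.Statements.S17338
import Mathlib
import Groth.Prelude.Def_CartDual
import Groth.Agent.RestrEnv.Hopf

set_option autoImplicit false
universe u v
open Hopf

namespace Groth.Agent.S17338

open scoped TensorProduct
attribute [local instance 100] LieRing.ofAssociativeRing

section
variable {k : Type u} [Field k] {B : Type u} [Ring B] [HopfAlgebra k B] [Module.Finite k B] [Coalgebra.IsCocomm k B]

noncomputable def primDer (R : B →ₗ[k] B)
    (hR : ∀ a, Coalgebra.comul (R := k) (R a) =
      TensorProduct.map R LinearMap.id (Coalgebra.comul (R := k) a) + TensorProduct.map LinearMap.id R (Coalgebra.comul (R := k) a)) :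
    Derivation k (CartDual.D k B) (CartDual.D k B) :=
  Derivation.mk'
    { toFun := fun f => WithConv.toConv (f.ofConv ∘ₗ R)
      map_add' := fun f g => rfl
      map_smul' := fun c f => rfl }
    (fun f g => by
      apply WithConv.ext
      apply LinearMap.ext
      intro a
      show (f * g) (R a) = (f * WithConv.toConv (g.ofConv ∘ₗ R) + g * WithConv.toConv (f.ofConv ∘ₗ R)) a
      rw [mul_comm g]
      show _ = (f * WithConv.toConv (g.ofConv ∘ₗ R)) a + (WithConv.toConv (f.ofConv ∘ₗ R) * g) a
      simp only [LinearMap.convMul_apply, hR, map_add, WithConv.ofConv_toConv]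
      rw [add_comm]
      congr 1 <;>
      · induction Coalgebra.comul (R := k) a using TensorProduct.induction_on with
        | zero => simp
        | add x y hx hy => simp only [map_add, hx, hy]
        | tmul x y => simp)

theorem primDer_apply (R : B →ₗ[k] B) (hR) (f : CartDual.D k B) (a : B) : primDer R hR f a = f (R a) := rfl

theorem left_mul_prim {y : B} (hy : Coalgebra.comul (R := k) y = y ⊗ₜ[k] (1 : B) + 1 ⊗ₜ[k] y) (a : B) :
    Coalgebra.comul (R := k) (LinearMap.mulLeft k y a) =
      TensorProduct.map (LinearMap.mulLeft k y) LinearMap.id (Coalgebra.comul (R := k) a) +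
        TensorProduct.map LinearMap.id (LinearMap.mulLeft k y) (Coalgebra.comul (R := k) a) := by
  rw [LinearMap.mulLeft_apply, Bialgebra.comul_mul, hy, add_mul]
  congr 1 <;>
  · induction Coalgebra.comul (R := k) a using TensorProduct.induction_on with
    | zero => simp
    | add x z hx hz => rw [mul_add, map_add, hx, hz]
    | tmul x z => simp

theorem right_mul_prim {y : B} (hy : Coalgebra.comul (R := k) y = y ⊗ₜ[k] (1 : B) + 1 ⊗ₜ[k] y) (a : B) :
    Coalgebra.comul (R := k) (LinearMap.mulRight k y a) =
      TensorProduct.map (LinearMap.mulRight k y) LinearMap.id (Coalgebra.comul (R := k) a) +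
        TensorProduct.map LinearMap.id (LinearMap.mulRight k y) (Coalgebra.comul (R := k) a) := by
  rw [LinearMap.mulRight_apply, Bialgebra.comul_mul, hy, mul_add]
  congr 1 <;>
  · induction Coalgebra.comul (R := k) a using TensorProduct.induction_on with
    | zero => simp
    | add x z hx hz => rw [add_mul, map_add, hx, hz]
    | tmul x z => simp

theorem prim_of_leibniz {d : B} (h : ∀ f g : CartDual.D k B, (f * g) d = f d * g 1 + f 1 * g d) :
    Coalgebra.comul (R := k) d = d ⊗ₜ[k] (1 : B) + 1 ⊗ₜ[k] d := by
  rw [← sub_eq_zero, ← Module.forall_dual_apply_eq_zero_iff k]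
  intro ψ
  obtain ⟨y, rfl⟩ := (CartDual.ev₂ k B).surjective ψ
  rw [map_sub, sub_eq_zero, map_add]
  induction y using TensorProduct.induction_on with
  | zero => simp
  | add x z hx hz =>
    simp only [map_add, LinearMap.add_apply, hx, hz]
    abel
  | tmul f g =>
    rw [CartDual.ev₂_tmul, CartDual.ev₂_tmul, ← h, CartDual.ev₂_tmul_eq]
    rw [LinearMap.convMul_apply]
    induction Coalgebra.comul (R := k) d using TensorProduct.induction_on with
    | zero => simp
    | add x z hx hz => simp only [map_add, hx, hz]
    | tmul x z => simp
end


/-- Let k be an algebraically closed field of characteristic p > 0 and (L, x ↦ x^[p]) a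
finite-dimensional restricted Lie algebra over k. Then L is the Lie algebra of an infinitesimal
group scheme of height at most one: there are a commutative Hopf algebra A over k,
finite-dimensional as a k-vector space, with f^p = 0 for every f in the augmentation ideal, and an
injective k-linear map e from L to the k-derivations of A whose image is exactly the set of
left-invariant derivations (those D with Δ ∘ D = (id ⊗ D) ∘ Δ), such that e takes brackets to
commutators of derivations and x^[p] to the p-th power of e(x) as an endomorphism of A. (The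
assignment G ↦ Lie(G) is moreover fully faithful on height ≤ 1 groups; that half is not stated
here.) -/
theorem result (k : Type u) [Field k]
    [IsAlgClosed k] (p : ℕ) [Fact p.Prime] [CharP k p]
    (L : Type u) [LieRing L] [LieAlgebra k L] [Module.Finite k L] (φ : PLie.PMap k p L) :
    ∃ (A : Type u) (_ : CommRing A) (_ : HopfAlgebra k A), Module.Finite k A ∧
      (∀ f : A, Bialgebra.counitAlgHom k A f = 0 → f ^ p = 0) ∧
      ∃ e : L →ₗ[k] Derivation k A A, Function.Injective e ∧
        Set.range e = {D : Derivation k A A | CoalgebraStruct.comul (R := k) (A := A) ∘ₗ D.toLinearMap =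
          LinearMap.lTensor A D.toLinearMap ∘ₗ CoalgebraStruct.comul (R := k) (A := A)} ∧
        (∀ x y : L, e ⁅x, y⁆ = ⁅e x, e y⁆) ∧
        (∀ x : L, (e (φ x)).toLinearMap = (e x).toLinearMap ^ p) := by
  let b := Module.finBasis k L
  let B := Groth.Agent.RestrEnv.Env b φ
  let incl := Groth.Agent.RestrEnv.incl b φ
  have hprim : ∀ x, Coalgebra.comul (R := k) (incl x) = incl x ⊗ₜ[k] (1 : B) + 1 ⊗ₜ[k] incl x := fun x =>
    Groth.Agent.RestrEnv.comulA_incl b φ x
  let e : L →ₗ[k] Derivation k (CartDual.D k B) (CartDual.D k B) :=
    { toFun := fun x => primDer (LinearMap.mulRight k (incl x)) (right_mul_prim (hprim x))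
      map_add' := fun x y => Derivation.ext fun f => WithConv.ext <| LinearMap.ext fun a => by
        show f (a * incl (x + y)) = f (a * incl x) + f (a * incl y)
        rw [map_add incl, mul_add, CartDual.coe_apply, map_add]
      map_smul' := fun c x => Derivation.ext fun f => WithConv.ext <| LinearMap.ext fun a => by
        show f (a * incl (c • x)) = c • f (a * incl x)
        rw [map_smul incl, mul_smul_comm, CartDual.coe_apply, map_smul] }
  have he : ∀ x f a, e x f a = f (a * incl x) := fun x f a => rfl
  refine ⟨CartDual.D k B, inferInstance, inferInstance, inferInstance, fun f hf => ?_, e, fun x y hxy => ?_, ?_,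
    fun x y => ?_, fun x => ?_⟩
  · have hzero : ∀ (i : Fin (Module.finrank k L)) (a : B), (f ^ p) (incl (b i) * a) = 0 := by
      intro i a
      let D' := primDer (LinearMap.mulLeft k (incl (b i))) (left_mul_prim (hprim (b i)))
      have h : D' (f ^ p) = 0 := by
        rw [Derivation.leibniz_pow, ← Nat.cast_smul_eq_nsmul k, CharP.cast_eq_zero, zero_smul]
      exact congrArg (fun g : CartDual.D k B => g a) h
    apply WithConv.ext
    apply LinearMap.ext
    intro a
    show (f ^ p) a = 0
    induction a using Groth.Agent.RestrEnv.induction_on b φ with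
    | h1 =>
      have : Bialgebra.counitAlgHom k (CartDual.D k B) (f ^ p) = 0 := by
        rw [map_pow, hf, zero_pow (Fact.out : p.Prime).ne_zero]
      exact this
    | hgen i x _ => exact hzero i x
    | hadd x y hx hy => rw [CartDual.coe_apply, map_add, ← CartDual.coe_apply, ← CartDual.coe_apply, hx, hy, add_zero]
    | hsmul c x hx => rw [CartDual.coe_apply, map_smul, ← CartDual.coe_apply, hx, smul_zero]
  · apply Groth.Agent.RestrEnv.incl_injective b φ
    rw [← sub_eq_zero, ← Module.forall_dual_apply_eq_zero_iff k]
    intro ψ
    have h := congrArg (fun D : Derivation k (CartDual.D k B) (CartDual.D k B) => D (WithConv.toConv ψ) (1 : B)) hxy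
    simp only [he, one_mul] at h
    rw [map_sub, sub_eq_zero]
    exact h
  · ext D
    constructor
    · rintro ⟨x, rfl⟩
      refine LinearMap.ext fun f => (CartDual.ev₂ k B).injective (TensorProduct.ext' fun a c => ?_)
      simp only [LinearMap.comp_apply]
      rw [CartDual.ev₂_coalgebra_comul_tmul]
      have : ∀ y : CartDual.D k B ⊗[k] CartDual.D k B,
          CartDual.ev₂ k B (LinearMap.lTensor _ (e x).toLinearMap y) (a ⊗ₜ[k] c) =
            CartDual.ev₂ k B y (a ⊗ₜ[k] (c * incl x)) := by
        intro y
        induction y using TensorProduct.induction_on with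
        | zero => simp
        | add u v hu hv => simp only [map_add, LinearMap.add_apply, hu, hv]
        | tmul u v =>
          rw [LinearMap.lTensor_tmul, CartDual.ev₂_tmul, CartDual.ev₂_tmul]
          exact congrArg _ (he x v c)
      rw [this, CartDual.ev₂_coalgebra_comul_tmul]
      exact (he x f (a * c)).trans (by rw [mul_assoc])
    · intro hD
      let δ : Module.Dual k (Module.Dual k B) :=
        { toFun := fun ψ => D (WithConv.toConv ψ) (1 : B)
          map_add' := fun u v => by rw [WithConv.toConv_add, map_add]; rfl
          map_smul' := fun c u => by rw [WithConv.toConv_smul, D.map_smul]; rfl }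
      let d : B := (Module.evalEquiv k B).symm δ
      have hd : ∀ f : CartDual.D k B, f d = D f (1 : B) := fun f =>
        Module.apply_evalEquiv_symm_apply k B f.ofConv δ
      have hev : ∀ f g : CartDual.D k B, (f * g) (1 : B) = f 1 * g 1 := fun f g => CartDual.counit_mul' k B f g
      obtain ⟨x, hx⟩ := Groth.Agent.RestrEnv.mem_range_incl_of_primitive b φ (d := d) (prim_of_leibniz fun f g => by
        rw [hd, hd, hd, Derivation.leibniz, smul_eq_mul, smul_eq_mul]
        show (f * D g) (1 : B) + (g * D f) (1 : B) = _
        rw [hev, hev]
        ring)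
      refine ⟨x, Derivation.ext fun f => WithConv.ext (LinearMap.ext fun a => ?_)⟩
      show e x f a = D f a
      rw [he, show incl x = d from hx]
      have h2 := CartDual.ev₂_coalgebra_comul_tmul k B (D f) a (1 : B)
      rw [mul_one] at h2
      rw [← h2, show Coalgebra.comul (R := k) (D f) =
          LinearMap.lTensor _ D.toLinearMap (Coalgebra.comul (R := k) f) from LinearMap.congr_fun hD f]
      rw [← CartDual.ev₂_coalgebra_comul_tmul k B f a d]
      generalize Coalgebra.comul (R := k) f = y
      induction y using TensorProduct.induction_on with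
      | zero => simp
      | add u v hu hv => simp only [map_add, LinearMap.add_apply, hu, hv]
      | tmul u v =>
        rw [LinearMap.lTensor_tmul, CartDual.ev₂_tmul, CartDual.ev₂_tmul, hd]
        rfl
  · refine Derivation.ext fun f => WithConv.ext (LinearMap.ext fun a => ?_)
    rw [Derivation.commutator_apply]
    show f (a * incl ⁅x, y⁆) = e x (e y f) a - e y (e x f) a
    rw [he, he, he, he, LieHom.map_lie, LieRing.of_associative_ring_bracket, mul_sub, CartDual.coe_apply, map_sub,
      mul_assoc, mul_assoc]
  · have hiter : ∀ (n : ℕ) (f : CartDual.D k B) (a : B), ((e x).toLinearMap ^ n) f a = f (a * incl x ^ n) := by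
      intro n
      induction n with
      | zero => intro f a; simp
      | succ n ih =>
        intro f a
        rw [pow_succ, Module.End.mul_apply, ih, pow_succ, ← mul_assoc]
        exact he x f _
    refine LinearMap.ext fun f => WithConv.ext (LinearMap.ext fun a => ?_)
    show e (φ x) f a = ((e x).toLinearMap ^ p) f a
    rw [hiter, he, Groth.Agent.RestrEnv.incl_pow]

end Groth.Agent.S17338
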