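import Groth.Statements.S1735
import Groth.Agent.LocCohBasic.Artinian
-- import your own Groth.Agent.* helpers here

set_option autoImplicit false
universe u
open LocCoh

namespace Groth.Agent.S1735

/-- Let A be a complete Noetherian local domain and p a prime ideal with dim(A/p) = 1. For every n ≥ 1
there is m ≥ n such that the m-th symbolic power of p (the contraction of p^m A_p to A) is contained
in p^n. -/
theorem result (A : Type u) [CommRing A] [IsDomain A] [IsLocalRing A] [IsNoetherianRing A] [IsAdicComplete (IsLocalRing.maximalIdeal A) A] (p : Ideal A) [p.IsPrime] (hp : ringKrullDim (A ⧸ p) = 1) (n : ℕ) (hn : 1 ≤ n) : ∃ m : ℕ, n ≤ m ∧ ((Ideal.map (algebraMap A (Localization.AtPrime p)) p) ^ m).comap (algebraMap A (Localization.AtPrime p)) ≤ p ^ n := by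
  classical
  let m := IsLocalRing.maximalIdeal A
  let Ap := Localization.AtPrime p
  let J : ℕ → Ideal A := fun k => ((Ideal.map (algebraMap A Ap) p) ^ k).comap (algebraMap A Ap)
  have hJanti : ∀ {i j : ℕ}, i ≤ j → J j ≤ J i := fun h => Ideal.comap_mono (Ideal.pow_le_pow_right h)
  have hinf : ∀ x, (∀ k, x ∈ J k) → x = 0 := by
    intro x hx
    have hne : Ideal.map (algebraMap A Ap) p ≠ ⊤ := by
      rw [Localization.AtPrime.map_eq_maximalIdeal]; exact Ideal.IsPrime.ne_top inferInstance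
    have h1 : algebraMap A Ap x ∈ ⨅ k, (Ideal.map (algebraMap A Ap) p) ^ k := (Submodule.mem_iInf _).2 hx
    rw [Ideal.iInf_pow_eq_bot_of_isLocalRing _ hne, Ideal.mem_bot] at h1
    exact IsLocalization.injective Ap (Ideal.primeCompl_le_nonZeroDivisors p) (h1.trans (map_zero _).symm)
  have hstab : ∀ N : ℕ, ∃ K, ∀ k, K ≤ k → J k ⊔ m ^ N = J K ⊔ m ^ N := by
    intro N
    haveI : IsArtinian A (A ⧸ m ^ N) := LocCohBasic.isArtinian_of_torsion fun x => ⟨N, fun a ha => by
      obtain ⟨y, rfl⟩ := Ideal.Quotient.mk_surjective x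
      exact (Ideal.Quotient.eq_zero_iff_mem).2 (Ideal.mul_mem_right _ _ ha)⟩
    obtain ⟨K, hK⟩ := IsArtinian.monotone_stabilizes (R := A) (M := A ⧸ m ^ N)
      ⟨fun k => OrderDual.toDual (Submodule.map (m ^ N).mkQ (J k)), fun i j h => Submodule.map_mono (hJanti h)⟩
    refine ⟨K, fun k hk => ?_⟩
    have h1 : Submodule.map (m ^ N).mkQ (J K) = Submodule.map (m ^ N).mkQ (J k) := hK k hk
    rw [sup_comm, sup_comm (J K), ← Submodule.comap_map_mkQ, ← Submodule.comap_map_mkQ, h1]
  choose K hK using hstab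
  let K' : ℕ → ℕ := fun N => ∑ i ∈ Finset.range (N + 1), K i
  have hK' : ∀ {i N : ℕ}, i ≤ N → K i ≤ K' N := fun h =>
    Finset.single_le_sum (f := K) (fun _ _ => Nat.zero_le _) (Finset.mem_range.2 (Nat.lt_succ_of_le h))
  let E : ℕ → Ideal A := fun N => J (K' N) ⊔ m ^ N
  have hE : ∀ N k, E N ≤ J k ⊔ m ^ N := by
    intro N k
    rcases le_total k (K N) with h | h
    · exact sup_le_sup_right (hJanti (h.trans (hK' le_rfl))) _
    · rw [hK N k h, ← hK N (K' N) (hK' le_rfl)]
  have hcheval : ∀ N, ∃ k, J k ≤ m ^ N := by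
    intro N
    refine ⟨K' N, fun x hx => ?_⟩
    have hstep : ∀ (d : ℕ) (y : A), y ∈ E (N + d) → ∃ z ∈ E (N + d + 1), y - z ∈ m ^ (N + d) := by
      intro d y hy
      obtain ⟨a, ha, b, hb, rfl⟩ := Submodule.mem_sup.1 (hE (N + d) (K' (N + d + 1)) hy)
      exact ⟨a, Ideal.mem_sup_left ha, by simpa using hb⟩
    choose z hz hzsub using hstep
    let s : ∀ d : ℕ, {y : A // y ∈ E (N + d)} := fun d => Nat.rec
      (⟨x, Ideal.mem_sup_left hx⟩ : {y : A // y ∈ E (N + 0)})
      (fun d y => ⟨z d y.1 y.2, hz d y.1 y.2⟩) d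
    have hs : ∀ d, (s d).1 - (s (d + 1)).1 ∈ m ^ (N + d) := fun d => hzsub d _ (s d).2
    have hsd : ∀ i j, i ≤ j → (s i).1 - (s j).1 ∈ m ^ (N + i) := by
      intro i j hij
      induction j, hij using Nat.le_induction with
      | base => simp
      | succ j hij ih =>
        have := add_mem ih (Ideal.pow_le_pow_right (by omega : N + i ≤ N + j) (hs j))
        rwa [sub_add_sub_cancel] at this
    obtain ⟨L, hL⟩ := IsPrecomplete.prec (I := m) inferInstance (f := fun d => (s d).1) fun {i j} hij => by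
      rw [SModEq.sub_mem, smul_eq_mul, Ideal.mul_top]
      exact Ideal.pow_le_pow_right (by omega) (hsd i j hij)
    have hL' : ∀ d, (s d).1 - L ∈ m ^ d := fun d => by
      have := hL d
      rwa [SModEq.sub_mem, smul_eq_mul, Ideal.mul_top] at this
    have hL0 : L = 0 := hinf L fun k => by
      by_cases hJ : J k = ⊤
      · rw [hJ]; trivial
      have h1 : Ideal.Quotient.mk (J k) L ∈ ⨅ d, (m.map (Ideal.Quotient.mk (J k))) ^ d := by
        refine (Submodule.mem_iInf _).2 fun d => ?_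
        rw [← Ideal.map_pow]
        have h2 : (s d).1 ∈ J k ⊔ m ^ d :=
          (show J k ⊔ m ^ (N + d) ≤ J k ⊔ m ^ d from sup_le_sup le_rfl (Ideal.pow_le_pow_right (Nat.le_add_left d N))) (hE _ k (s d).2)
        have h3 : L ∈ J k ⊔ m ^ d := by
          have := sub_mem h2 (Ideal.mem_sup_right (S := J k) (hL' d))
          rwa [sub_sub_cancel] at this
        obtain ⟨a, ha, b, hb, rfl⟩ := Submodule.mem_sup.1 h3
        rw [map_add, Ideal.Quotient.eq_zero_iff_mem.2 ha, zero_add]
        exact Ideal.mem_map_of_mem _ hb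
      haveI : Nontrivial (A ⧸ J k) := Ideal.Quotient.nontrivial_iff.2 hJ
      haveI : IsLocalRing (A ⧸ J k) := IsLocalRing.of_surjective' _ Ideal.Quotient.mk_surjective
      have hne : m.map (Ideal.Quotient.mk (J k)) ≠ ⊤ := fun h => by
        have h' := congrArg (Ideal.comap (Ideal.Quotient.mk (J k))) h
        rw [Ideal.comap_map_of_surjective _ Ideal.Quotient.mk_surjective, Ideal.comap_top, ← RingHom.ker_eq_comap_bot,
          Ideal.mk_ker, sup_eq_left.2 (IsLocalRing.le_maximalIdeal hJ)] at h'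
        exact (IsLocalRing.maximalIdeal.isMaximal A).ne_top h'
      rw [Ideal.iInf_pow_eq_bot_of_isLocalRing _ hne, Ideal.mem_bot, Ideal.Quotient.eq_zero_iff_mem] at h1
      exact h1
    have h4 : ∀ d, N ≤ d → x - L ∈ m ^ N := fun d hd => by
      have := add_mem (Ideal.pow_le_pow_right (Nat.le_add_right N 0) (hsd 0 d (Nat.zero_le _)))
        (Ideal.pow_le_pow_right hd (hL' d))
      rwa [sub_add_sub_cancel] at this
    simpa [hL0] using h4 N le_rfl
  let Q : Ideal A := (p ^ n).colon ((J n : Ideal A) : Set A)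
  have hpn : p ^ n ≤ Q := fun a ha => Submodule.mem_colon.2 fun b _ => Ideal.mul_mem_right _ _ ha
  have hQp : ¬ Q ≤ p := by
    obtain ⟨G, hG⟩ := (IsNoetherian.noetherian (J n) : (J n).FG)
    have : ∀ g ∈ G, ∃ s : A, s ∉ p ∧ s * g ∈ p ^ n := by
      intro g hg
      have hgJ : algebraMap A Ap g ∈ (p ^ n).map (algebraMap A Ap) := by
        rw [Ideal.map_pow]; exact (hG ▸ Submodule.subset_span hg : g ∈ J n)
      obtain ⟨⟨⟨a, ha⟩, ⟨s, hs⟩⟩, has⟩ := (IsLocalization.mem_map_algebraMap_iff p.primeCompl Ap).1 hgJ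
      rw [← map_mul] at has
      refine ⟨s, hs, ?_⟩
      rw [mul_comm, IsLocalization.injective Ap (Ideal.primeCompl_le_nonZeroDivisors p) has]
      exact ha
    choose s hs hsg using this
    refine Set.not_subset.2 ⟨∏ g : G, s g.1 g.2, Submodule.mem_colon.2 fun b hb => ?_,
      fun h => ?_⟩
    · have hle : J n ≤ Submodule.comap (LinearMap.lsmul A A (∏ g : G, s g.1 g.2)) (p ^ n) := by
        rw [← hG, Submodule.span_le]
        intro g hg
        show (∏ g : G, s g.1 g.2) * g ∈ p ^ n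
        rw [← Finset.prod_erase_mul _ _ (Finset.mem_univ (⟨g, hg⟩ : G)), mul_assoc]
        exact Ideal.mul_mem_left _ _ (hsg g hg)
      exact hle hb
    · obtain ⟨g, _, hg⟩ := (Ideal.IsPrime.prod_mem_iff).1 h
      exact hs g.1 g.2 hg
  have hrad : m ≤ Q.radical := by
    rw [Ideal.radical_eq_sInf]
    refine le_sInf fun q hq => ?_
    haveI := hq.2
    have hpq : p < q := lt_of_le_of_ne (Ideal.IsPrime.le_of_pow_le (hpn.trans hq.1))
      fun h => hQp (h ▸ hq.1)
    haveI : Ring.KrullDimLE 1 (A ⧸ p) := Ring.krullDimLE_iff.mpr hp.le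
    have hker : RingHom.ker (Ideal.Quotient.mk p) ≤ q := by rw [Ideal.mk_ker]; exact hpq.le
    haveI : (q.map (Ideal.Quotient.mk p)).IsPrime :=
      Ideal.map_isPrime_of_surjective Ideal.Quotient.mk_surjective hker
    have hne : q.map (Ideal.Quotient.mk p) ≠ ⊥ := fun h => hpq.not_ge fun a ha =>
      Ideal.Quotient.eq_zero_iff_mem.1 (by simpa [h] using Ideal.mem_map_of_mem (Ideal.Quotient.mk p) ha)
    have hmax := Ring.krullDimLE_one_iff_of_noZeroDivisors.mp ‹_› _ hne ‹_›
    haveI := hmax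
    have h5 : ((q.map (Ideal.Quotient.mk p)).comap (Ideal.Quotient.mk p)).IsMaximal :=
      Ideal.comap_isMaximal_of_surjective _ Ideal.Quotient.mk_surjective
    rw [Ideal.comap_map_of_surjective' _ Ideal.Quotient.mk_surjective, sup_eq_left.2 hker] at h5
    exact (IsLocalRing.eq_maximalIdeal h5).ge
  obtain ⟨M, hM⟩ := Ideal.exists_pow_le_of_le_radical_of_fg hrad (IsNoetherian.noetherian m)
  obtain ⟨c, hc⟩ := Ideal.exists_pow_inf_eq_pow_smul (M := A) m (J n)
  obtain ⟨k, hk⟩ := hcheval (M + c)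
  refine ⟨max k n, le_max_right _ _, fun x hx => ?_⟩
  have h1 := hc (M + c) (Nat.le_add_left _ _)
  rw [Nat.add_sub_cancel, smul_eq_mul, Ideal.mul_top] at h1
  have h2 : x ∈ m ^ M * J n := Ideal.mul_mono_right inf_le_right
    (h1.le ⟨hk (hJanti (le_max_left k n) hx), hJanti (le_max_right k n) hx⟩)
  exact Ideal.mul_le.2 (fun a ha b hb => Submodule.mem_colon.1 (hM ha) b hb) h2

end Groth.Agent.S1735
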