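import Groth.Statements.S17355
import Groth.Agent.CSA.BaseInner
import Groth.Agent.CSA.InvBC

set_option autoImplicit false
universe u v w
open scoped TensorProduct
open AzInv

namespace Groth.Agent.S17355

/-- Let `R` be a commutative ring with an involution `lam` whose fixed ring is exactly `S`, assume that
units have square roots locally for the etale topology of `S` (every unit of an etale `S`-algebra
becomes a square in some etale faithfully flat extension), and let `A` be an Azumaya `R`-algebra of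
degree `n ≥ 1` with a `lam`-involution `t`. Then every `R`-algebra automorphism `ψ` of `A` that
commutes with `t` is, locally for the etale topology of `S`, conjugation by a unitary element: there
are an etale faithfully flat `S`-algebra `S'` and a unit `u` of `S' ⊗_S A` with `(id ⊗ t)(u) * u =
1` such that `id ⊗ ψ` is `x ↦ u x u⁻¹` (the map from the unitary group to the automorphism sheaf of
`(A, t)` is an epimorphism). This row states the surjectivity part only; the published statement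
also identifies the kernel of the map from the unitary group as the group of norm-one elements of
`R` (the units `r` of `R` with `lam r * r = 1`), so that the projective unitary group of `(A, t)` is
its automorphism sheaf. (The source states this for an exact quotient of a locally ringed topos with
involution; the row is the affine case `Spec R → Spec S`, with etale coverings of `Spec S` replaced
by a single etale faithfully flat `S`-algebra.) -/
theorem result (S : Type u) (R : Type v) [CommRing S] [CommRing R] [Algebra S R]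
    (lam : R ≃ₐ[S] R) (hlam : ∀ r, lam (lam r) = r) (hfix : RInv.IsFixedRing S R lam.toRingEquiv)
    (hsq : ∀ (S₁ : Type u) [CommRing S₁] [Algebra S S₁] [Algebra.Etale S S₁] (x : S₁ˣ),
      ∃ (S₂ : Type u) (_ : CommRing S₂) (_ : Algebra S₁ S₂) (_ : Algebra.Etale S₁ S₂)
        (_ : Module.FaithfullyFlat S₁ S₂) (y : S₂), y * y = algebraMap S₁ S₂ ↑x)
    (A : Type w) [Ring A] [Algebra S A] [Algebra R A] [IsScalarTower S R A]
    (n : ℕ) (hn : 0 < n) (hA : AzInv.IsAzumayaDeg R A n) (t : AzInv.LamInv R A lam)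
    (ψ : A ≃ₐ[R] A) (hψ : AzInv.IsInvHom t t ψ) :
    ∃ (S' : Type u) (_ : CommRing S') (_ : Algebra S S') (_ : Algebra.Etale S S')
      (_ : Module.FaithfullyFlat S S') (u : (S' ⊗[S] A)ˣ),
      t.bc S lam S' (↑u : S' ⊗[S] A) * ↑u = 1 ∧
        ∀ x : S' ⊗[S] A,
          Algebra.TensorProduct.congr (AlgEquiv.refl : S' ≃ₐ[S'] S') (ψ.restrictScalars S) x =
            ↑u * x * ↑u⁻¹ := by
  haveI : Algebra.IsIntegral S R := ⟨fun r => by
    obtain ⟨a, ha⟩ := (hfix.2 (r + lam r)).1 (by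
      show lam (r + lam r) = _
      rw [map_add, hlam, add_comm])
    obtain ⟨b, hb⟩ := (hfix.2 (r * lam r)).1 (by
      show lam (r * lam r) = _
      rw [map_mul, hlam, mul_comm])
    refine ⟨Polynomial.X ^ 2 - Polynomial.C a * Polynomial.X + Polynomial.C b, ?_, ?_⟩
    · monicity!
    · simp [Polynomial.eval₂_add, Polynomial.eval₂_sub, ha, hb]
      ring⟩
  haveI := hA.1
  obtain ⟨S₁, i1, i2, i3, i4, u, hu⟩ := Groth.Agent.CSA.exists_etale_inner_of_isIntegral S R A ψ
  let φ₁ : S₁ ⊗[S] A →ₐ[S₁] S₁ ⊗[S] A :=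
    Algebra.TensorProduct.map (AlgHom.id S₁ S₁) (ψ.restrictScalars S).toAlgHom
  let T : S₁ ⊗[S] A →ₗ[S₁] S₁ ⊗[S] A := t.bc S lam S₁
  have hTm : ∀ a b, T (a * b) = T b * T a := Groth.Agent.CSA.bc_mul t S₁
  have hTT : ∀ a, T (T a) = a := Groth.Agent.CSA.bc_bc t S₁
  have hT1 : T 1 = 1 := Groth.Agent.CSA.bc_one t S₁
  have hcomm : ∀ x, φ₁ (T x) = T (φ₁ x) :=
    Groth.Agent.CSA.bc_congr t S₁ t (ψ.restrictScalars S).toAlgHom hψ
  -- `T u * u` is central and symmetric
  set w : S₁ ⊗[S] A := T ↑u * ↑u with hw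
  have hTu' : T ↑u⁻¹ * T ↑u = 1 := by rw [← hTm, Units.mul_inv, hT1]
  have hTu : T ↑u * T ↑u⁻¹ = 1 := by rw [← hTm, Units.inv_mul, hT1]
  have hcentral : ∀ x, x * w = w * x := fun x => by
    have h1 := hcomm (T x)
    rw [hTT] at h1
    have h2 : φ₁ x = ↑u * x * ↑u⁻¹ := hu x
    have h3 : φ₁ (T x) = ↑u * T x * ↑u⁻¹ := hu _
    rw [h2, h3, hTm, hTm, hTT] at h1
    -- `u x u⁻¹ = T (u⁻¹) x T u`
    calc x * w = (T ↑u * T ↑u⁻¹) * x * (T ↑u * ↑u) := by rw [hTu, one_mul]
      _ = T ↑u * (T ↑u⁻¹ * (x * T ↑u)) * ↑u := by simp only [mul_assoc]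
      _ = T ↑u * (↑u * x * ↑u⁻¹) * ↑u := by rw [← h1]
      _ = w * x := by simp [hw, mul_assoc]
  have hsymm : T w = w := by rw [hw, hTm, hTT]
  obtain ⟨s, hs⟩ := Groth.Agent.CSA.exists_scalar_of_central_symm t S₁ hfix w
    (fun a => hcentral _) hsymm
  have hw' : IsUnit w := (show IsUnit (T ↑u) from ⟨⟨T ↑u, T ↑u⁻¹, hTu, hTu'⟩, rfl⟩).mul u.isUnit
  obtain ⟨w₁, hw₁⟩ := hw'
  have hT' : T ↑w₁⁻¹ = ↑w₁⁻¹ := by
    have h : T ↑w₁⁻¹ * ↑w₁ = 1 := by rw [hw₁, ← hsymm, ← hTm, ← hw₁, Units.mul_inv, hT1]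
    calc T ↑w₁⁻¹ = T ↑w₁⁻¹ * ↑w₁ * ↑w₁⁻¹ := by simp [mul_assoc]
      _ = _ := by rw [h, one_mul]
  obtain ⟨s', hs'⟩ := Groth.Agent.CSA.exists_scalar_of_central_symm t S₁ hfix (↑w₁⁻¹)
    (fun a => (Commute.units_inv_right (show Commute ((1 : S₁) ⊗ₜ[S] a) ↑w₁ from
      hw₁ ▸ hcentral _)).eq) hT'
  have hinjA : Function.Injective (algebraMap S A) := by
    rw [IsScalarTower.algebraMap_eq S R A]
    exact ((faithfulSMul_iff_algebraMap_injective R A).1 inferInstance).comp hfix.1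
  have hinj : Function.Injective (algebraMap S₁ (S₁ ⊗[S] A)) := by
    intro a b h
    apply (TensorProduct.rid S S₁).symm.injective
    apply Module.Flat.lTensor_preserves_injective_linearMap (M := S₁) (Algebra.linearMap S A) hinjA
    simpa [Algebra.TensorProduct.algebraMap_apply] using h
  have hsunit : IsUnit s := isUnit_iff_exists_inv.2 ⟨s', hinj (by
    rw [map_mul, map_one, ← hs, ← hs', ← hw₁, Units.mul_inv])⟩
  obtain ⟨S₂, j1, j2, j3, j4, y, hy⟩ := hsq S₁ hsunit.unit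
  letI : Algebra S S₂ := ((algebraMap S₁ S₂).comp (algebraMap S S₁)).toAlgebra
  haveI : IsScalarTower S S₁ S₂ := IsScalarTower.of_algebraMap_eq fun _ => rfl
  haveI : Algebra.Etale S S₂ := Algebra.Etale.comp S S₁ S₂
  haveI : Module.FaithfullyFlat S S₂ := Module.FaithfullyFlat.trans S S₁ S₂
  let θ : S₁ ⊗[S] A →ₐ[S₁] S₂ ⊗[S] A :=
    Algebra.TensorProduct.map (Algebra.ofId S₁ S₂) (AlgHom.id S A)
  have hy0 : IsUnit y := by
    refine isUnit_of_mul_isUnit_left (y := y) ?_
    rw [hy]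
    exact (hsunit.unit.isUnit).map _
  obtain ⟨y₁, rfl⟩ := hy0
  have hθT : ∀ x, θ (T x) = t.bc S lam S₂ (θ x) := fun x => by
    induction x using TensorProduct.induction_on with
    | zero => simp
    | add a b ha hb => simp only [map_add, ha, hb]
    | tmul c a => simp [θ, T]
  let Y : S₂ ⊗[S] A := algebraMap S₂ (S₂ ⊗[S] A) ↑y₁⁻¹
  have hY : IsUnit Y := (y₁⁻¹).isUnit.map _
  let u₂ : (S₂ ⊗[S] A)ˣ := (u.isUnit.map θ).unit * hY.unit
  refine ⟨S₂, j1, inferInstance, inferInstance, inferInstance, u₂, ?_, fun x => ?_⟩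
  · show t.bc S lam S₂ (θ ↑u * Y) * (θ ↑u * Y) = 1
    rw [Groth.Agent.CSA.bc_mul, show t.bc S lam S₂ Y = Y from Groth.Agent.CSA.bc_scalar t S₂ _,
      ← hθT, Algebra.commutes (↑y₁⁻¹ : S₂) (T ↑u |> θ), mul_assoc, ← mul_assoc Y,
      Algebra.commutes (↑y₁⁻¹ : S₂) (θ ↑u), ← mul_assoc, ← mul_assoc, ← map_mul θ, ← hw, hs,
      AlgHom.commutes, IsScalarTower.algebraMap_apply S₁ S₂ (S₂ ⊗[S] A), mul_assoc,
      ← map_mul, ← map_mul, ← hsunit.unit_spec, ← hy,
      show (↑y₁ : S₂) * ↑y₁ * (↑y₁⁻¹ * ↑y₁⁻¹) = 1 by simp [mul_assoc],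
      map_one]
  · show Algebra.TensorProduct.map (AlgHom.id S₂ S₂) (ψ.restrictScalars S).toAlgHom x =
      ↑u₂ * x * ↑u₂⁻¹
    rw [Units.eq_mul_inv_iff_mul_eq]
    show _ * (θ ↑u * Y) = θ ↑u * Y * x
    rw [mul_assoc, Algebra.commutes (↑y₁⁻¹ : S₂) x, ← mul_assoc, ← mul_assoc]
    congr 1
    induction x using TensorProduct.induction_on with
    | zero => simp
    | add a b ha hb => simp only [map_add, add_mul, mul_add, ha, hb]
    | tmul c a =>
      have h : φ₁ ((1 : S₁) ⊗ₜ[S] a) * ↑u = ↑u * ((1 : S₁) ⊗ₜ[S] a) := by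
        rw [show φ₁ _ = _ from hu ((1 : S₁) ⊗ₜ[S] a)]
        simp [mul_assoc]
      have h2 := congrArg θ h
      rw [map_mul, map_mul] at h2
      have hc : ∀ b : A, c ⊗ₜ[S] b = algebraMap S₂ (S₂ ⊗[S] A) c * ((1 : S₂) ⊗ₜ[S] b) := fun b => by
        simp [Algebra.TensorProduct.algebraMap_apply]
      rw [Algebra.TensorProduct.map_tmul, AlgHom.id_apply, hc, hc a, mul_assoc,
        ← mul_assoc (θ ↑u), ← Algebra.commutes c (θ ↑u), mul_assoc]
      congr 1
      simpa [θ, φ₁] using h2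

end Groth.Agent.S17355
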