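import Groth.Statements.S17356
import Groth.Agent.CSA.IntegralSplitUniv

set_option autoImplicit false
universe u v w
open scoped TensorProduct
open AzInv

namespace Groth.Agent.S17356

/-- Let `R` be a commutative ring with an involution `lam` whose fixed ring is exactly `S`, and let `A`
be an Azumaya `R`-algebra of degree `n ≥ 1`. Then `A` becomes a matrix algebra after base change
along an etale covering of `S` (and not merely of `R`): there are an etale faithfully flat
`S`-algebra `S'` and an `S'`-algebra isomorphism from `S' ⊗_S A` to the `n × n` matrices over `S'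
⊗_S R` that carries multiplication by `1 ⊗ r`, for `r` in `R`, to multiplication by the scalar
matrix `1 ⊗ r`. (The source states this for a good quotient of schemes by an involution; the row is
the affine case `Spec R → Spec S`.) -/
theorem result (S : Type u) (R : Type v) [CommRing S] [CommRing R] [Algebra S R]
    (lam : R ≃ₐ[S] R) (hlam : ∀ r, lam (lam r) = r) (hfix : RInv.IsFixedRing S R lam.toRingEquiv)
    (A : Type w) [Ring A] [Algebra S A] [Algebra R A] [IsScalarTower S R A]
    (n : ℕ) (hn : 0 < n) (hA : AzInv.IsAzumayaDeg R A n) :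
    ∃ (S' : Type u) (_ : CommRing S') (_ : Algebra S S') (_ : Algebra.Etale S S')
      (_ : Module.FaithfullyFlat S S') (f : S' ⊗[S] A ≃ₐ[S'] Matrix (Fin n) (Fin n) (S' ⊗[S] R)),
      ∀ (r : R) (x : S' ⊗[S] A),
        f (((1 : S') ⊗ₜ[S] algebraMap R A r) * x) = Matrix.scalar (Fin n) ((1 : S') ⊗ₜ[S] r) * f x := by
  haveI : Algebra.IsIntegral S R := ⟨fun r => by
    obtain ⟨a, ha⟩ := (hfix.2 (r + lam r)).1 (by
      show lam (r + lam r) = _
      rw [map_add, hlam, add_comm])
    obtain ⟨b, hb⟩ := (hfix.2 (r * lam r)).1 (by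
      show lam (r * lam r) = _
      rw [map_mul, hlam, mul_comm])
    refine ⟨Polynomial.X ^ 2 - Polynomial.C a * Polynomial.X + Polynomial.C b, ?_, ?_⟩
    · monicity!
    · simp [Polynomial.eval₂_add, Polynomial.eval₂_sub, ha, hb]
      ring⟩
  haveI := hA.1
  obtain ⟨S', i1, i2, i3, i4, ⟨ψ⟩⟩ :=
    Groth.Agent.CSA.exists_etale_base_split_univ S R A n hn.ne' hA.2
  obtain ⟨f, hf⟩ := Groth.Agent.CSA.exists_algEquiv_of_algHom S' n hn.ne' hA.2 ψ
  exact ⟨S', i1, i2, i3, i4, f, hf⟩

end Groth.Agent.S17356
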