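import Groth.Statements.S1736
import Groth.Agent.LocCohBasic.CompareSupport
import Mathlib.RingTheory.Jacobson.Ideal
-- import your own Groth.Agent.* helpers here

set_option autoImplicit false
universe u
open LocCoh

namespace Groth.Agent.S1736

/-- Let A be a Noetherian ring of finite dimension d and I ⊆ I' ideals with I' contained in the Jacobson
radical of A. If cd(A, I') < d, i.e. H^i_{I'}(M) = 0 for all A-modules M and all i ≥ d, then also
cd(A, I) < d: H^i_I(M) = 0 for all A-modules M and all i ≥ d. -/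
theorem result (A : Type u) [CommRing A] [IsNoetherianRing A] (d : ℕ) (hd : ringKrullDim A = d) (I I' : Ideal A) (hII' : I ≤ I') (hJ : I' ≤ (⊥ : Ideal A).jacobson) (h : ∀ (M : Type u) [AddCommGroup M] [Module A M] (i : ℕ), d ≤ i → Subsingleton (LocCoh.H I' i M)) (M : Type u) [AddCommGroup M] [Module A M] (i : ℕ) (hi : d ≤ i) : Subsingleton (LocCoh.H I i M) := by
  have := h M i hi
  refine Function.Surjective.subsingleton
    (LocCohBasic.surjective_HmapOfLE_aux I' (ModuleCat.of A M) i I hII' ?_)
  intro p _ hp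
  have : IsNoetherianRing (Localization.AtPrime p.asIdeal) :=
    IsLocalization.isNoetherianRing p.asIdeal.primeCompl _ inferInstance
  refine LocCohBasic.subsingleton_of_supportDim_lt _ (ModuleCat.of _ _) ?_
  refine lt_of_le_of_lt (Module.supportDim_le_ringKrullDim _ _) ?_
  rw [IsLocalization.AtPrime.ringKrullDim_eq_height p.asIdeal (Localization.AtPrime p.asIdeal)]
  obtain ⟨m, hm, hpm⟩ := Ideal.exists_le_maximal _ p.isPrime.ne_top
  have := hm.isPrime
  have hlt : p.asIdeal < m := lt_of_le_of_ne hpm fun heq => hp (hJ.trans (by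
    rw [heq]; exact sInf_le ⟨bot_le, hm⟩))
  have h1 : (p.asIdeal.height : WithBot ℕ∞) + 1 ≤ (i : WithBot ℕ∞) := by
    refine le_trans ?_ ((Ideal.height_le_ringKrullDim_of_isPrime (I := m)).trans (hd.le.trans (by exact_mod_cast hi)))
    rw [← WithBot.coe_one, ← WithBot.coe_add, WithBot.coe_le_coe]
    exact Ideal.height_add_one_le_of_lt_of_isPrime hlt
  obtain ⟨k, hk⟩ := ENat.ne_top_iff_exists.mp (Ideal.height_ne_top_of_isPrime (I := p.asIdeal))
  rw [← hk] at h1 ⊢
  norm_cast at h1 ⊢

end Groth.Agent.S1736
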