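import Groth.Statements.S17360
import Groth.Agent.AzInvLib.Results

set_option autoImplicit false
universe u
open scoped TensorProduct
open AzInv

namespace Groth.Agent.S17360

/-- Let `R` be a nontrivial commutative ring in which `2` is a unit, with the trivial involution. This
row states the second half of the count of types: the identity of `R` (the orthogonal type) and the
standard symplectic involution `x ↦ J xᵀ J⁻¹` of the `2 × 2` matrix algebra, `J` the matrix with
rows `(0, -1)` and `(1, 0)`, do not have the same type, i.e. for no positive sizes do the matrix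
algebras over `R` with the transpose and over `M_2(R)` with the involution induced by the symplectic
one become isomorphic as `R`-algebras with involution after an etale faithfully flat base change of
`R`. (The source states that the monoid of types is isomorphic to the group of global square roots
of `1`, for a locally ringed topos with trivial involution and `2` invertible; the row is the affine
case.) -/
theorem result (R : Type u) [CommRing R] (hlam : ∀ r : R, (AlgEquiv.refl : R ≃ₐ[R] R) ((AlgEquiv.refl : R ≃ₐ[R] R) r) = r)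
    [Nontrivial R] (h2 : IsUnit (2 : R))
    (J : (Matrix (Fin 2) (Fin 2) R)ˣ) (hJ : (↑J : Matrix (Fin 2) (Fin 2) R) = Matrix.of ![![0, -1], ![1, 0]])
    (hJt : AzInv.LamInv.transpose (AlgEquiv.refl : R ≃ₐ[R] R) (Fin 2) hlam (↑J : Matrix (Fin 2) (Fin 2) R) = (-1 : R) • (↑J : Matrix (Fin 2) (Fin 2) R))
    (hneg : (AlgEquiv.refl : R ≃ₐ[R] R) (-1) * (-1) = 1) :
    ¬ AzInv.SameType R (AlgEquiv.refl : R ≃ₐ[R] R) (AzInv.LamInv.self (AlgEquiv.refl : R ≃ₐ[R] R) hlam) ((AzInv.LamInv.transpose (AlgEquiv.refl : R ≃ₐ[R] R) (Fin 2) hlam).conj J (-1) hJt hneg) := by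
  intro hsame
  obtain ⟨M, hM⟩ := Ideal.exists_maximal R
  letI : Field (R ⧸ M) := Ideal.Quotient.field M
  let K := AlgebraicClosure (R ⧸ M)
  have hK2 : (2 : K) ≠ 0 := by
    have := (h2.map (algebraMap R K)).ne_zero
    simpa [map_ofNat] using this
  let ψ : R →ₐ[R] Matrix (Fin 1) (Fin 1) K := Algebra.ofId R _
  let ψ' : Matrix (Fin 2) (Fin 2) R →ₐ[R] Matrix (Fin 2) (Fin 2) K := (Algebra.ofId R K).mapMatrix
  have hψ : Groth.Agent.AzInvLib.IsModel (AzInv.LamInv.self (AlgEquiv.refl : R ≃ₐ[R] R) hlam) id
      (1 : Matrix (Fin 1) (Fin 1) K) ψ := fun a => by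
    rw [one_mul, mul_one]
    ext i j
    fin_cases i; fin_cases j
    rfl
  have hbij : Function.Bijective (Algebra.TensorProduct.lift (Algebra.ofId K (Matrix (Fin 1) (Fin 1) K)) ψ
      fun b a => Algebra.commutes b (ψ a)) := by
    refine Groth.Agent.AzInvLib.bijective_lift Nat.one_pos (fun q => ?_) ψ
    simp
  let J' : Matrix (Fin 2) (Fin 2) K := (↑J : Matrix (Fin 2) (Fin 2) R).map (algebraMap R K)
  have hJ' : Matrix.transpose J' = -J' := by
    ext i j
    fin_cases i <;> fin_cases j <;> simp [J', hJ] <;> exact (neg_neg _).symm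
  have hJu : IsUnit J' := J.isUnit.map (algebraMap R K).mapMatrix
  have hψ' : Groth.Agent.AzInvLib.IsModel
      ((AzInv.LamInv.transpose (AlgEquiv.refl : R ≃ₐ[R] R) (Fin 2) hlam).conj J (-1) hJt hneg) id J' ψ' := by
    intro X
    show (((↑J : Matrix (Fin 2) (Fin 2) R) * AzInv.LamInv.transpose (AlgEquiv.refl : R ≃ₐ[R] R) (Fin 2) hlam X *
      (↑J⁻¹ : Matrix (Fin 2) (Fin 2) R)).map (algebraMap R K)) * J' = _
    rw [show J' = (↑J : Matrix (Fin 2) (Fin 2) R).map (algebraMap R K) from rfl, ← Matrix.map_mul,
      mul_assoc, Units.inv_mul, mul_one, Matrix.map_mul]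
    congr 1
  have hbij' : Function.Bijective (Algebra.TensorProduct.lift (Algebra.ofId K (Matrix (Fin 2) (Fin 2) K)) ψ'
      fun b a => Algebra.commutes b (ψ' a)) := by
    haveI := Groth.Agent.CSA.isAzumaya_matrix R (Fin 2)
    refine Groth.Agent.AzInvLib.bijective_lift two_pos (fun q => ?_) ψ'
    rw [Groth.Agent.CSA.rankAtStalk_matrix, Fintype.card_fin, pow_two]
  exact Groth.Agent.AzInvLib.not_sameType_of_models hK2 Nat.one_pos two_pos isUnit_one
    Matrix.transpose_one hψ hbij hJu hJ' hψ' (Groth.Agent.AzInvLib.span_of_bijective hbij'.2) hsame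

end Groth.Agent.S17360
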