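import Groth.Statements.S1737
import Groth.Agent.Depth.Basic
import Mathlib.RingTheory.Ideal.AssociatedPrime.Localization
import Mathlib.Algebra.Module.LocalizedModule.Basic
import Mathlib.RingTheory.Spectrum.Prime.Topology
-- import your own Groth.Agent.* helpers here

set_option autoImplicit false
universe u
open LocCoh

namespace Groth.Agent.S1737

/-- Let A be a Noetherian ring, T ⊆ Spec A stable under specialization and M a finite A-module. There
are a finite A-module M' and a surjection M → M' which is bijective after localizing at every prime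
outside T and such that M'_p has depth ≥ 1 over A_p for every p in T. (The source states this for
coherent modules on a Noetherian scheme, with uniqueness.) -/
theorem result (A : Type u) [CommRing A] [IsNoetherianRing A] (T : Set (PrimeSpectrum A)) (hT : StableUnderSpecialization T) (M : Type u) [AddCommGroup M] [Module A M] [Module.Finite A M] : ∃ (M' : Type u) (_ : AddCommGroup M') (_ : Module A M') (_ : Module.Finite A M') (f : M →ₗ[A] M'), Function.Surjective f ∧ (∀ p : PrimeSpectrum A, p ∉ T → Function.Bijective (LocalizedModule.map p.asIdeal.primeCompl f)) ∧ ∀ p : PrimeSpectrum A, p ∈ T → 1 ≤ LocCoh.depth (Localization.AtPrime p.asIdeal) (LocalizedModule p.asIdeal.primeCompl M') := by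
  let N : Submodule A M :=
    { carrier := {m | ∀ q : PrimeSpectrum A, q ∉ T → ∃ t, t ∉ q.asIdeal ∧ t • m = 0}
      zero_mem' := fun q _ => ⟨1, (Ideal.ne_top_iff_one _).1 q.isPrime.ne_top, by simp⟩
      add_mem' := by
        intro a b ha hb q hq
        obtain ⟨t, ht, hta⟩ := ha q hq
        obtain ⟨t', ht', htb⟩ := hb q hq
        refine ⟨t * t', fun h => (q.isPrime.mem_or_mem h).elim ht ht', ?_⟩
        rw [smul_add, mul_smul t t' b, htb, mul_comm, mul_smul, hta, smul_zero, smul_zero, add_zero]
      smul_mem' := by
        intro c a ha q hq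
        obtain ⟨t, ht, hta⟩ := ha q hq
        exact ⟨t, ht, by rw [smul_comm, hta, smul_zero]⟩ }
  refine ⟨M ⧸ N, inferInstance, inferInstance, inferInstance, N.mkQ, N.mkQ_surjective, fun p hp => ?_, fun p hp => ?_⟩
  · refine ⟨(injective_iff_map_eq_zero _).2 fun z hz => ?_, LocalizedModule.map_surjective _ _ N.mkQ_surjective⟩
    induction z using LocalizedModule.induction_on with | _ m s => ?_
    rw [LocalizedModule.map_mk, ← LocalizedModule.zero_mk 1, LocalizedModule.mk_eq] at hz
    obtain ⟨⟨v, hv⟩, hvm⟩ := hz
    simp only [one_smul, smul_zero, Submonoid.smul_def, Submonoid.coe_one] at hvm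
    rw [← map_smul, Submodule.mkQ_apply, Submodule.Quotient.mk_eq_zero] at hvm
    obtain ⟨t, ht, htm⟩ := hvm p hp
    rw [← LocalizedModule.zero_mk 1, LocalizedModule.mk_eq]
    refine ⟨⟨t * v, fun h => (p.isPrime.mem_or_mem h).elim ht hv⟩, ?_⟩
    simp only [one_smul, smul_zero, Submonoid.smul_def, Submonoid.coe_one, mul_smul]
    exact htm
  · rw [Order.one_le_iff_ne_zero]
    intro h0
    have : Nontrivial (LocalizedModule p.asIdeal.primeCompl (M ⧸ N)) := by
      rcases subsingleton_or_nontrivial (LocalizedModule p.asIdeal.primeCompl (M ⧸ N)) with h | h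
      · rw [LocCoh.depth, Groth.Agent.Depth.idealDepth_of_subsingleton] at h0
        exact absurd h0 ENat.top_ne_zero
      · exact h
    have hm := Groth.Agent.Depth.depth_eq_zero_iff.1 h0
    have hass := Module.associatedPrimes.comap_mem_associatedPrimes_of_mem_associatedPrimes_of_isLocalizedModule_of_fg
      p.asIdeal.primeCompl (LocalizedModule.mkLinearMap p.asIdeal.primeCompl (M ⧸ N)) _ hm (IsNoetherian.noetherian _)
    have hcm : (IsLocalRing.maximalIdeal (Localization.AtPrime p.asIdeal)).comap
        (algebraMap A (Localization.AtPrime p.asIdeal)) = p.asIdeal :=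
      IsLocalization.AtPrime.comap_maximalIdeal _ p.asIdeal
    rw [hcm] at hass
    obtain ⟨-, x, hx⟩ := isAssociatedPrime_iff.1 hass
    obtain ⟨m, rfl⟩ := N.mkQ_surjective x
    have hmN : m ∈ N := by
      intro q hq
      obtain ⟨s, hs, hsq⟩ := Set.not_subset.1 fun hle : (p.asIdeal : Set A) ⊆ q.asIdeal =>
        hq (hT ((PrimeSpectrum.le_iff_specializes p q).1 hle) hp)
      rw [SetLike.mem_coe, hx, Submodule.mem_colon_singleton, Submodule.mem_bot, ← map_smul,
        Submodule.mkQ_apply, Submodule.Quotient.mk_eq_zero] at hs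
      obtain ⟨t, ht, htm⟩ := hs q hq
      exact ⟨t * s, fun h => (q.isPrime.mem_or_mem h).elim ht hsq, by rw [mul_smul]; exact htm⟩
    apply p.isPrime.ne_top
    rw [hx, eq_top_iff]
    intro r _
    rw [Submodule.mem_colon_singleton, Submodule.mkQ_apply, (Submodule.Quotient.mk_eq_zero N).2 hmN, smul_zero]
    exact Submodule.zero_mem _

end Groth.Agent.S1737
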