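import Groth.Statements.S17385
import Groth.Agent.ModPairLib.Closure
import Groth.Agent.S1682
-- import your own Groth.Agent.* helpers here

set_option autoImplicit false
universe u
open BlowUp

namespace Groth.Agent.S17385

open AlgebraicGeometry CategoryTheory Limits TopologicalSpace in
/-- Let X be any scheme, I and J quasi-coherent ideals on X, b : X' → X a blowing up of X in I, Z ⊆ X
the closed subscheme of J, b' : Z' → Z a blowing up of Z in the inverse image ideal I·O_Z, and k :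
Z' → X' the morphism with k ≫ b = b' ≫ (Z → X) (it exists and is unique by the universal property).
Then k is a closed immersion (its image is the strict transform of Z); writing U for the open
complement of the support of I and W ⊆ Z' for the preimage of U, the restriction W → X' of k is an
affine morphism, and its scheme-theoretic image is the whole image of k: the kernel ideal sheaf of W
→ X' equals that of k. No Noetherian or finite-type hypothesis is needed. -/
theorem result
    {X X' Z' : Scheme.{u}} (𝓘 𝓙 : X.IdealSheafData) (b : X' ⟶ X) (hb : BlowUp.IsBlowUp b 𝓘)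
    (b' : Z' ⟶ 𝓙.subscheme) (hb' : BlowUp.IsBlowUp b' (𝓘.comap 𝓙.subschemeι))
    (k : Z' ⟶ X') (hk : k ≫ b = b' ≫ 𝓙.subschemeι) :
    IsClosedImmersion k ∧
      IsAffineHom ((k ⁻¹ᵁ (b ⁻¹ᵁ 𝓘.support.compl)).ι ≫ k) ∧
      ((k ⁻¹ᵁ (b ⁻¹ᵁ 𝓘.support.compl)).ι ≫ k).ker = k.ker := by
  open ModPairLib in
  let P := pullback 𝓙.subschemeι b
  let p : P ⟶ X' := pullback.snd 𝓙.subschemeι b
  let E := 𝓘.comap b
  let UP := p ⁻¹ᵁ ModPair.interior E
  haveI : IsAffineHom UP.ι := ModPairLib.isAffineHom_preimage hb.1 p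
  let ι₀ := Scheme.Hom.imageι UP.ι
  have hT0 : BlowUp.IsEffCartierIdeal (E.comap (ι₀ ≫ p)) := ModPairLib.isEffCartier_closure hb.1 p
  have hT : BlowUp.IsEffCartierIdeal ((𝓘.comap 𝓙.subschemeι).comap (ι₀ ≫ pullback.fst 𝓙.subschemeι b)) := by
    rw [← Scheme.IdealSheafData.comap_comp, Category.assoc, pullback.condition, ← Category.assoc,
      Scheme.IdealSheafData.comap_comp]
    exact hT0
  obtain ⟨t, ht, -⟩ := hb'.2 _ _ hT
  have ht' : t ≫ b' = ι₀ ≫ pullback.fst 𝓙.subschemeι b := ht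
  let k' : Z' ⟶ P := pullback.lift b' k hk.symm
  let W := k ⁻¹ᵁ (b ⁻¹ᵁ 𝓘.support.compl)
  have hWk : W = k' ⁻¹ᵁ UP := by
    show k ⁻¹ᵁ (b ⁻¹ᵁ ModPair.interior 𝓘) = k' ⁻¹ᵁ (p ⁻¹ᵁ ModPair.interior E)
    rw [← Scheme.Hom.comp_preimage k' p, show k' ≫ p = k from pullback.lift_snd _ _ _,
      ModPairLib.interior_comap]
  have hWb : W = ModPair.interior ((𝓘.comap 𝓙.subschemeι).comap b') := by
    show k ⁻¹ᵁ (b ⁻¹ᵁ ModPair.interior 𝓘) = _
    rw [← Scheme.Hom.comp_preimage k b, hk, ModPairLib.interior_comap, ModPairLib.interior_comap,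
      Scheme.Hom.comp_preimage]
  have hWdense : IsSchemeTheoreticallyDominant W.ι := by
    rw [hWb]; exact ModPairLib.std_interior hb'.1
  have hker : ι₀.ker ≤ k'.ker := by
    have h1 : ι₀.ker = UP.ι.ker := Scheme.IdealSheafData.ker_subschemeι _
    have h2 : (W.ι ≫ k').ker = k'.ker := by
      rw [Scheme.Hom.ker_comp, W.ι.ker_eq_bot, Scheme.IdealSheafData.map_bot]
    have hr : Set.range (W.ι ≫ k').base ⊆ Set.range UP.ι.base := by
      rw [Scheme.Opens.range_ι]
      rintro _ ⟨w, rfl⟩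
      exact (SetLike.ext_iff.1 hWk (W.ι w)).1 w.2
    rw [h1, ← h2, ← IsOpenImmersion.lift_fac UP.ι (W.ι ≫ k') hr]
    exact Scheme.Hom.le_ker_comp _ _
  let s := IsClosedImmersion.lift ι₀ k' hker
  have hs : s ≫ ι₀ = k' := IsClosedImmersion.lift_fac _ _ _
  have hst : s ≫ t = 𝟙 Z' := by
    obtain ⟨h, -, hu⟩ := hb'.2 _ b' hb'.1
    refine (hu _ ?_).trans (hu _ (Category.id_comp b')).symm
    show (s ≫ t) ≫ b' = b'
    rw [Category.assoc, ht', reassoc_of% hs]
    exact pullback.lift_fst _ _ _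
  have hts : t ≫ s = 𝟙 _ := by
    rw [← cancel_mono ι₀, Category.assoc, hs, Category.id_comp]
    refine pullback.hom_ext ?_ ?_
    · rw [Category.assoc, pullback.lift_fst, ht']
    · rw [Category.assoc, pullback.lift_snd]
      obtain ⟨h, -, hu⟩ := hb.2 _ ((ι₀ ≫ p) ≫ b) (by rw [Scheme.IdealSheafData.comap_comp]; exact hT0)
      refine (hu _ ?_).trans (hu _ rfl).symm
      show (t ≫ k) ≫ b = (ι₀ ≫ p) ≫ b
      rw [Category.assoc, hk, reassoc_of% ht', pullback.condition, Category.assoc]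
  haveI : IsIso s := ⟨t, hst, hts⟩
  have hkeq : k = s ≫ ι₀ ≫ p := by
    rw [reassoc_of% hs]
    exact (pullback.lift_snd _ _ _).symm
  haveI hk' : IsClosedImmersion k := by rw [hkeq]; infer_instance
  refine ⟨hk', ?_, ?_⟩
  · haveI : IsAffineHom W.ι := by rw [hWb]; exact ModPairLib.isAffineHom_interior hb'.1
    infer_instance
  · rw [Scheme.Hom.ker_comp, W.ι.ker_eq_bot, Scheme.IdealSheafData.map_bot]

end Groth.Agent.S17385
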