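import Groth.Statements.S17386
import Groth.Agent.StrictTf.Basic
-- import your own Groth.Agent.* helpers here

set_option autoImplicit false
universe u
open BlowUp

namespace Groth.Agent.S17386

open AlgebraicGeometry CategoryTheory Limits in
/-- Let X be any scheme, J_1, …, J_n quasi-coherent ideals on X with closed subschemes Y_i, and b : X' →
X a blowing up of X in the ideal J_1 + ⋯ + J_n of the intersection of the Y_i. For each i let b_i' :
Y_i' → Y_i be a blowing up of Y_i in the inverse image of J_1 + ⋯ + J_n and k_i : Y_i' → X' the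
morphism with k_i ≫ b = b_i' ≫ (Y_i → X), so that the image of k_i is the strict transform of Y_i.
Then the strict transforms have empty common intersection: no point of X' lies in the image of every
k_i. -/
theorem result
    {X X' : Scheme.{u}} {n : ℕ} (𝓙 : Fin n → X.IdealSheafData) (b : X' ⟶ X)
    (hb : BlowUp.IsBlowUp b (⨆ i, 𝓙 i))
    (Y' : Fin n → Scheme.{u}) (b' : ∀ i, Y' i ⟶ (𝓙 i).subscheme)
    (hb' : ∀ i, BlowUp.IsBlowUp (b' i) ((⨆ j, 𝓙 j).comap (𝓙 i).subschemeι))
    (k : ∀ i, Y' i ⟶ X') (hk : ∀ i, k i ≫ b = b' i ≫ (𝓙 i).subschemeι) :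
    (⋂ i, Set.range (fun y => k i y)) = (∅ : Set X') := by
  refine Set.eq_empty_iff_forall_notMem.2 fun x' hx' => ?_
  rw [Set.mem_iInter] at hx'
  obtain ⟨V, V', W, hV'V, hW, e, hxW, he⟩ := StrictTf.exists_chart b (⨆ i, 𝓙 i) hb.1 (𝟙 X') x'
  have hxV' : x' ∈ V'.1 := hW hxW
  have hnzd := ModPairLib.nzd_of_span hb.1 V' he
  by_contra
  suffices h : ((⨆ i, 𝓙 i).comap b).ideal V' ≤ Ideal.span {e} * StrictTf.vanishAt V'.1 hxV' by
    obtain ⟨c, hc, hce⟩ := Ideal.mem_span_singleton_mul.1 (h (he ▸ Ideal.mem_span_singleton_self e))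
    have : c = 1 := sub_eq_zero.1 (hnzd.1 _ (by linear_combination hce))
    exact (StrictTf.vanishAt_isPrime V'.1 hxV').ne_top ((Ideal.eq_top_iff_one _).2 (this ▸ hc))
  rw [FpqcDescent.ideal_comap _ b V V' hV'V, Ideal.map_le_iff_le_comap, Scheme.IdealSheafData.ideal_iSup,
    iSup_apply]
  refine iSup_le fun i s hs => Ideal.mem_comap.2 ?_
  have hmem : (b.appLE V.1 V'.1 hV'V).hom s ∈ ((⨆ i, 𝓙 i).comap b).ideal V' := by
    rw [FpqcDescent.ideal_comap _ b V V' hV'V]
    exact Ideal.mem_map_of_mem _ (le_iSup 𝓙 i V hs)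
  obtain ⟨α, hα⟩ := Ideal.mem_span_singleton.1 (he ▸ hmem)
  refine Ideal.mem_span_singleton_mul.2 ⟨α, (StrictTf.mem_vanishAt hxV').2 fun hbα => ?_, hα.symm⟩
  obtain ⟨y, hy⟩ := hx' i
  let V'' : X'.affineOpens := X'.affineBasicOpen α
  have hle : V''.1 ≤ V'.1 := X'.basicOpen_le α
  refine StrictTf.ne_span_of_meets (𝓙 i) _ b (b' i) (hb' i).1 (k i) (hk i) V s hs V'' (hle.trans hV'V)
    (y := y) (by show k i y ∈ X'.basicOpen α; rw [show k i y = x' from hy]; exact hbα) ?_
  rw [← ((⨆ i, 𝓙 i).comap b).map_ideal (U := V'') (V := V') hle, he, Ideal.map_span, Set.image_singleton]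
  have e1 : (b.appLE V.1 V''.1 (hle.trans hV'V)).hom s =
      (X'.presheaf.map (homOfLE hle).op).hom e * (X'.presheaf.map (homOfLE hle).op).hom α := by
    rw [← map_mul, ← hα, ← CommRingCat.comp_apply, Scheme.Hom.appLE_map]
  rw [e1]
  exact (Ideal.span_singleton_mul_right_unit (X'.toRingedSpace.isUnit_res_basicOpen α) _).symm

end Groth.Agent.S17386
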