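import Groth.Statements.S17391
import Groth.Agent.StrictTf.Basic
-- import your own Groth.Agent.* helpers here

set_option autoImplicit false
universe u
open BlowUp

namespace Groth.Agent.S17391

open AlgebraicGeometry CategoryTheory Limits in
/-- Let X and Z be schemes, p : Z → X a morphism, U ⊆ V ⊆ X open subschemes, and f : Y → Z a
quasi-compact immersion whose composite with p lands in U. Let I₁ be a quasi-coherent ideal on X
whose support contains V ∖ U and is disjoint from U, and I₂ a quasi-coherent ideal whose support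
lies in supp(I₁) ∖ V. Assume that the closed subscheme p⁻¹(V(I₁²)) ∩ Ȳ of Z, where Ȳ is the
scheme-theoretic image of f, is contained in p⁻¹(V(I₂)) as a closed subscheme: the inverse image
ideal of I₂ on Z lies in the sum of the inverse image ideal of I₁² and the kernel ideal of f. Then
for every blowing up q : X' → X of X in I₁ + I₂, writing Z' = Z ×_X X' → X' and Y' = Y ×_Z Z' → Z'
for the base changes, the closure in Z' of the image of Y' is disjoint from the preimage in Z' of
the closure in X' of q⁻¹(V ∖ U). (The blowing up is an isomorphism over V, since the support of I₁ +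
I₂ is that of I₂ and lies in X ∖ V; the point is that the closure of q⁻¹(V ∖ U) in X', which may
reach over X ∖ V, still misses the closure of Y'.) -/
theorem result
    {X Y Z X' : Scheme.{u}} (p : Z ⟶ X) (U V : X.Opens) (hUV : U ≤ V)
    (f : Y ⟶ Z) [IsImmersion f] [QuasiCompact f] (hY : Set.range (fun y => p (f y)) ⊆ (U : Set X))
    (𝓘₁ 𝓘₂ : X.IdealSheafData)
    (h₁ : (V : Set X) \ (U : Set X) ⊆ (𝓘₁.support : Set X)) (h₁' : Disjoint (𝓘₁.support : Set X) (U : Set X))
    (h₂ : (𝓘₂.support : Set X) ⊆ (𝓘₁.support : Set X) \ (V : Set X))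
    (hincl : 𝓘₂.comap p ≤ (𝓘₁ * 𝓘₁).comap p ⊔ f.ker)
    (q : X' ⟶ X) (hq : BlowUp.IsBlowUp q (𝓘₁ ⊔ 𝓘₂)) :
    Disjoint (closure (Set.range (fun y => (pullback.snd f (pullback.fst p q)) y)))
      ((fun z => (pullback.snd p q) z) ⁻¹'
        closure ((fun x' => q x') ⁻¹' ((V : Set X) \ (U : Set X)))) := by
  refine Set.disjoint_left.2 fun z hz hzF => ?_
  let φ := pullback.snd p q
  let π := pullback.fst p q
  have hcond : π ≫ p = φ ≫ q := pullback.condition
  obtain ⟨V₀, V', W, hV'V, hW, e, hzW, he⟩ := StrictTf.exists_chart q (𝓘₁ ⊔ 𝓘₂) hq.1 φ z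
  have hxV' : φ z ∈ V'.1 := hW hzW
  have hnzd := ModPairLib.nzd_of_span hq.1 V' he
  let S : Set X' := (fun x' => q x') ⁻¹' ((V : Set X) \ (U : Set X))
  have hzS : φ z ∈ closure S := hzF
  have hS : ∀ u ∈ S, q u ∈ 𝓘₁.support ∧ q u ∉ (𝓘₁ ⊔ 𝓘₂).support := fun u hu =>
    ⟨h₁ hu, fun h => (h₂ (Scheme.IdealSheafData.support_antitone le_sup_right h)).2 hu.1⟩
  let M := StrictTf.vanishAt W.1 hzW
  let ψ := (φ.appLE V'.1 W.1 hW).hom
  let ε := ψ e
  have hA : (𝓘₁.comap (π ≫ p)).ideal W ≤ Ideal.span {ε} * M := by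
    rw [hcond]
    exact StrictTf.comap_le_span_mul q φ _ _ le_sup_left S hS V' he W hW hzW hzS
  -- decompose the generator
  have hsum : e ∈ ((𝓘₁.comap q).ideal V') ⊔ ((𝓘₂.comap q).ideal V') := by
    have h : e ∈ ((𝓘₁ ⊔ 𝓘₂).comap q).ideal V' := he ▸ Ideal.mem_span_singleton_self e
    rwa [Scheme.IdealSheafData.comap_sup] at h
  obtain ⟨a, ha, b, hb, hab⟩ := Submodule.mem_sup.1 hsum
  obtain ⟨α, hα, hαz⟩ := StrictTf.exists_mul_vanish q _ _ le_sup_left S hS V' he hzS ha
  obtain ⟨β, hβ⟩ := Ideal.mem_span_singleton.1 (he ▸ Scheme.IdealSheafData.comap_mono (f := q)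
    (le_sup_right : 𝓘₂ ≤ 𝓘₁ ⊔ 𝓘₂) V' hb)
  have hαβ : α + β = 1 := sub_eq_zero.1 (hnzd.1 _ (by linear_combination hab - hα - hβ))
  have hαM : ψ α ∈ M := (StrictTf.mem_vanishAt hzW).2 fun h => hαz ((StrictTf.mem_basicOpen_appLE hW α hzW).1 h)
  -- the other coefficient vanishes too
  have hbW : ψ b ∈ (Ideal.span {ε} * Ideal.span {ε}) * M ⊔ (f.ker.comap π).ideal W := by
    have h1 : ψ b ∈ (𝓘₂.comap (π ≫ p)).ideal W := by
      rw [hcond, Scheme.IdealSheafData.comap_comp, FpqcDescent.ideal_comap _ φ V' W hW]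
      exact Ideal.mem_map_of_mem _ hb
    rw [Scheme.IdealSheafData.comap_comp] at h1
    have hincl' : (𝓘₂.comap p).comap π ≤ ((𝓘₁ * 𝓘₁).comap p ⊔ f.ker).comap π :=
      Scheme.IdealSheafData.comap_mono (f := π) hincl
    have h2 := hincl' W h1
    rw [Scheme.IdealSheafData.comap_sup, ModPairLib.comap_mul, ModPairLib.comap_mul,
      ← Scheme.IdealSheafData.comap_comp, Scheme.IdealSheafData.ideal_sup, Pi.sup_apply,
      Scheme.IdealSheafData.ideal_mul, Pi.mul_apply] at h2
    refine SetLike.le_def.1 (sup_le_sup_right ?_ _) h2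
    calc _ ≤ (Ideal.span {ε} * M) * (Ideal.span {ε} * M) := Ideal.mul_mono hA hA
      _ = Ideal.span {ε} * Ideal.span {ε} * (M * M) := by ring
      _ ≤ _ := Ideal.mul_mono le_rfl Ideal.mul_le_right
  obtain ⟨m, hm, k, hk, hmk⟩ := Submodule.mem_sup.1 hbW
  rw [Ideal.span_singleton_mul_span_singleton] at hm
  obtain ⟨μ, hμ, rfl⟩ := Ideal.mem_span_singleton_mul.1 hm
  have hh : z ∉ (pullback p q).basicOpen (ψ β - ε * μ) := by
    refine StrictTf.notMem_basicOpen_closure (fun w hw hwW hwb => ?_) hz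
    obtain ⟨v, rfl⟩ := hw
    let f' := pullback.snd f π
    have hπ : π (f' v) = f (pullback.fst f π v) := by
      rw [← Scheme.Hom.comp_apply, ← Scheme.Hom.comp_apply]
      exact congrArg (fun g : pullback f π ⟶ Z => g.base v) pullback.condition.symm
    refine StrictTf.notMem_basicOpen (f.ker.comap π) W hk (x := f' v) ?_ ?_
    · rw [Scheme.IdealSheafData.support_comap]
      show π (f' v) ∈ f.ker.support
      exact hπ ▸ f.range_subset_ker_support ⟨_, rfl⟩
    · have he' : f' v ∈ (pullback p q).basicOpen ε := by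
        refine (StrictTf.mem_basicOpen_appLE hW e hwW).2 (StrictTf.mem_basicOpen_of_notMem_support _ V' he (hW hwW) ?_)
        rw [Scheme.IdealSheafData.support_comap]
        show q (φ (f' v)) ∉ (𝓘₁ ⊔ 𝓘₂).support
        intro hs
        refine Set.disjoint_left.1 h₁' (Scheme.IdealSheafData.support_antitone le_sup_left hs) ?_
        rw [← Scheme.Hom.comp_apply φ q, ← hcond, Scheme.Hom.comp_apply, hπ]
        exact hY ⟨_, rfl⟩
      have e3 : k = ε * (ψ β - ε * μ) := by
        have h5 : ψ b = ε * ψ β := by rw [hβ, map_mul]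
        linear_combination hmk + h5
      rw [e3, Scheme.basicOpen_mul]
      exact ⟨he', hwb⟩
  have hβM : ψ β ∈ M := by
    have : ψ β = (ψ β - ε * μ) + ε * μ := by ring
    rw [this]
    exact add_mem ((StrictTf.mem_vanishAt hzW).2 hh) (Ideal.mul_mem_left _ _ hμ)
  have h1 : (1 : Γ(pullback p q, W.1)) ∈ M := by
    rw [← map_one ψ, ← hαβ, map_add]
    exact add_mem hαM hβM
  exact (StrictTf.vanishAt_isPrime W.1 hzW).ne_top ((Ideal.eq_top_iff_one _).2 h1)

end Groth.Agent.S17391
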