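import Groth.Statements.S1740
import Mathlib
-- import your own Groth.Agent.* helpers here

set_option autoImplicit false
universe u
open CategoryTheory
attribute [local instance] HasDerivedCategory.standard
open LocCoh

namespace Groth.Agent.S1740

/-- Let α : M → M' be a map of R-modules with M finitely presented such that the induced map Tor_1(M, N)
→ Tor_1(M', N) is zero for every R-module N. Then α is the composite of a map from M into a free
R-module and a map from that free module to M'. -/
theorem result (R : Type u) [CommRing R] (M M' : Type u) [AddCommGroup M] [Module R M] [Module.FinitePresentation R M] [AddCommGroup M'] [Module R M'] (α : M →ₗ[R] M') (h : ∀ (N : Type u) [AddCommGroup N] [Module R N], ((CategoryTheory.Tor (ModuleCat.{u} R) 1).map (ModuleCat.ofHom α)).app (ModuleCat.of R N) = 0) : ∃ (ι : Type u) (g : M →ₗ[R] (ι →₀ R)) (h : (ι →₀ R) →ₗ[R] M'), α = h ∘ₗ g := by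
  open CategoryTheory CategoryTheory.Limits in
  open scoped TensorProduct in
  classical
  obtain ⟨b, a, π, A', hπ, hA⟩ := Module.FinitePresentation.exists_fin' R M
  let r : (Fin b → R) →ₗ[R] (Fin a → R) := LinearMap.pi fun i => Fintype.linearCombination R fun j => A' (Pi.single i 1) j
  let L : Submodule R (Fin a → R) := LinearMap.range r
  let mm : Fin b → M := fun j => π (Pi.single j 1)
  let t : M ⊗[R] L := ∑ j, mm j ⊗ₜ[R] r.rangeRestrict (Pi.single j 1)
  have ht : L.subtype.lTensor M t = 0 := by
    refine (TensorProduct.piScalarRight R R M (Fin a)).injective ?_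
    rw [map_zero]
    funext i
    simp only [t, map_sum, LinearMap.lTensor_tmul, Finset.sum_apply, Pi.zero_apply]
    have h0 : π (A' (Pi.single i 1)) = 0 := hA.apply_apply_eq_zero _
    rw [pi_eq_sum_univ' (A' (Pi.single i 1)), map_sum] at h0
    refine Eq.trans (Finset.sum_congr rfl fun j _ => ?_) h0
    rw [map_smul]
    simp [mm, r, Fintype.linearCombination_apply_single, Pi.single_apply]
  let N := ModuleCat.of R ((Fin a → R) ⧸ L)
  let P : ProjectiveResolution N := CategoryTheory.projectiveResolution N
  let d1 := (P.complex.d 1 0).hom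
  let ε := (P.π.f 0).hom
  have hε : Function.Surjective ε := (ModuleCat.epi_iff_surjective _).1 inferInstance
  have hex0 : Function.Exact d1 ε :=
    (ShortComplex.ShortExact.moduleCat_exact_iff_function_exact _).1 P.exact₀
  let L' : Submodule R (P.complex.X 0) := LinearMap.range d1
  haveI : Module.Projective R (P.complex.X 0) :=
    (IsProjective.iff_projective _).2 (P.projective 0)
  obtain ⟨φ, hφ⟩ := Module.projective_lifting_property ε L.mkQ hε
  obtain ⟨ψ, hψ⟩ := Module.projective_lifting_property L.mkQ ε L.mkQ_surjective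
  let φL : L →ₗ[R] L' := (φ ∘ₗ L.subtype).codRestrict L' fun x => (hex0 _).1 (by
    show ε (φ x.1) = 0
    rw [show ε (φ x.1) = L.mkQ x.1 from congr($hφ x.1)]
    exact (Submodule.Quotient.mk_eq_zero _).2 x.2)
  let ψL : L' →ₗ[R] L := (ψ ∘ₗ L'.subtype).codRestrict L fun y => (Submodule.Quotient.mk_eq_zero _).1 (by
    show L.mkQ (ψ y.1) = 0
    rw [show L.mkQ (ψ y.1) = ε y.1 from congr($hψ y.1)]
    exact (hex0 _).2 y.2)
  let hh : (Fin a → R) →ₗ[R] L := (LinearMap.id - ψ ∘ₗ φ).codRestrict L fun x => (Submodule.Quotient.mk_eq_zero _).1 (by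
    show L.mkQ (x - ψ (φ x)) = 0
    rw [map_sub, show L.mkQ (ψ (φ x)) = ε (φ x) from congr($hψ (φ x)),
      show ε (φ x) = L.mkQ x from congr($hφ x), sub_self])
  have hid : hh ∘ₗ L.subtype + ψL ∘ₗ φL = LinearMap.id := by
    refine LinearMap.ext fun x => Subtype.ext ?_
    show (x.1 - ψ (φ x.1)) + ψ (φ x.1) = x.1
    exact sub_add_cancel _ _
  -- transfer to the resolution
  have hkey : α.rTensor L' (φL.lTensor M t) = 0 := by
    obtain ⟨z, hz⟩ := LinearMap.lTensor_surjective M d1.surjective_rangeRestrict (φL.lTensor M t)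
    have hz0 : d1.lTensor M z = 0 := by
      have e1 : d1 = L'.subtype ∘ₗ d1.rangeRestrict := rfl
      rw [e1, LinearMap.lTensor_comp, LinearMap.comp_apply, hz, ← LinearMap.comp_apply, ← LinearMap.lTensor_comp,
        show L'.subtype ∘ₗ φL = φ ∘ₗ L.subtype from rfl, LinearMap.lTensor_comp, LinearMap.comp_apply, ht, map_zero]
    let F := ((MonoidalCategory.tensoringLeft (ModuleCat.{u} R)).obj (ModuleCat.of R M))
    let G := ((MonoidalCategory.tensoringLeft (ModuleCat.{u} R)).obj (ModuleCat.of R M'))
    let τ : F ⟶ G := (MonoidalCategory.tensoringLeft (ModuleCat.{u} R)).map (ModuleCat.ofHom α)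
    let Φ := (NatTrans.mapHomologicalComplex τ (ComplexShape.down ℕ)).app P.complex
    have hzero : HomologicalComplex.homologyMap Φ 1 = 0 := by
      have h1 : (NatTrans.leftDerived τ 1).app N = 0 := h _
      rw [P.leftDerived_app_eq τ 1] at h1
      simp [Preadditive.IsIso.comp_left_eq_zero, Preadditive.IsIso.comp_right_eq_zero] at h1
      exact h1
    let S := ((F.mapHomologicalComplex (ComplexShape.down ℕ)).obj P.complex).sc 1
    let S' := ((G.mapHomologicalComplex (ComplexShape.down ℕ)).obj P.complex).sc 1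
    let σ : S ⟶ S' := (HomologicalComplex.shortComplexFunctor (ModuleCat.{u} R) (ComplexShape.down ℕ) 1).map Φ
    have hker : ∀ j, ((F.mapHomologicalComplex (ComplexShape.down ℕ)).obj P.complex).d 1 j z = 0 := by
      intro j
      by_cases hj : j = 0
      · subst hj; exact hz0
      · rw [((F.mapHomologicalComplex (ComplexShape.down ℕ)).obj P.complex).shape 1 j
          (fun e => hj (by simpa using e))]
        rfl
    let c : S.cycles := S.moduleCatCyclesIso.inv ⟨z, hker _⟩
    have hc : S.iCycles c = z := ShortComplex.moduleCatCyclesIso_inv_iCycles_apply _ _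
    have h2 : S'.homologyπ (ShortComplex.cyclesMap σ c) = 0 := by
      rw [← ModuleCat.comp_apply, ← ShortComplex.homologyπ_naturality,
        show ShortComplex.homologyMap σ = 0 from hzero, comp_zero]
      rfl
    have h3 := S'.π_moduleCatCyclesIso_hom
    have h4 : S'.moduleCatLeftHomologyData.π (S'.moduleCatCyclesIso.hom (ShortComplex.cyclesMap σ c)) = 0 := by
      have h5 := congrArg (fun q => q.hom (ShortComplex.cyclesMap σ c)) h3
      rw [ModuleCat.hom_comp, ModuleCat.hom_comp, LinearMap.comp_apply, LinearMap.comp_apply] at h5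
      exact h5.symm.trans (by rw [h2]; exact map_zero _)
    obtain ⟨w, hw⟩ := (Submodule.Quotient.mk_eq_zero _).1 h4
    have h6 : S'.f w = α.rTensor (P.complex.X 1) z := by
      refine (congrArg Subtype.val hw).trans ?_
      refine Eq.trans (ShortComplex.moduleCatCyclesIso_hom_i_apply _ _) ?_
      refine Eq.trans (congrArg (fun q => q.hom c) (ShortComplex.cyclesMap_i σ)) ?_
      refine Eq.trans (show _ = σ.τ₂ (S.iCycles c) from rfl) ?_
      rw [hc]
      rfl
    rw [← hz, ← LinearMap.comp_apply, LinearMap.rTensor_comp_lTensor, ← LinearMap.lTensor_comp_rTensor,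
      LinearMap.comp_apply, ← h6]
    show d1.rangeRestrict.lTensor M' ((P.complex.d ((ComplexShape.down ℕ).prev 1) 1).hom.lTensor M' w) = 0
    rw [← LinearMap.comp_apply, ← LinearMap.lTensor_comp,
      show d1.rangeRestrict ∘ₗ (P.complex.d ((ComplexShape.down ℕ).prev 1) 1).hom = 0 from
        LinearMap.ext fun x => Subtype.ext (congr($(P.complex.d_comp_d _ 1 0) x)), LinearMap.lTensor_zero]
    rfl
  have hαt : α.rTensor L t = 0 := by
    have e1 : t = ψL.lTensor M (φL.lTensor M t) := by
      conv_lhs => rw [← LinearMap.id_apply (R := R) t, ← LinearMap.lTensor_id, ← hid]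
      rw [LinearMap.lTensor_add, LinearMap.add_apply, LinearMap.lTensor_comp, LinearMap.comp_apply, ht, map_zero,
        zero_add, LinearMap.lTensor_comp, LinearMap.comp_apply]
    rw [e1, ← LinearMap.comp_apply, LinearMap.rTensor_comp_lTensor, ← LinearMap.lTensor_comp_rTensor,
      LinearMap.comp_apply, hkey, map_zero]
  let v : M' ⊗[R] (Fin b → R) := ∑ j, α (mm j) ⊗ₜ[R] (Pi.single j 1 : Fin b → R)
  have hv : r.rangeRestrict.lTensor M' v = 0 := by
    refine Eq.trans ?_ hαt
    simp [v, t, map_sum]
  obtain ⟨u, hu⟩ := (lTensor_exact M' (f := (LinearMap.ker r).subtype) (g := r.rangeRestrict)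
    (by rw [LinearMap.exact_iff, LinearMap.ker_rangeRestrict, Submodule.range_subtype]) r.surjective_rangeRestrict v).1 hv
  obtain ⟨s, rfl⟩ := TensorProduct.exists_finset u
  let gz : ∀ i : {x // x ∈ s}, (Fin b → R) →ₗ[R] R := fun i => Fintype.linearCombination R (i.1.2.1 : Fin b → R)
  have hgz : ∀ i, LinearMap.ker π ≤ LinearMap.ker (gz i) := by
    intro i x hx
    obtain ⟨y, rfl⟩ := (hA x).1 hx
    have hz : r (i.1.2.1) = 0 := i.1.2.2
    rw [LinearMap.mem_ker, pi_eq_sum_univ' y, map_sum, map_sum]
    refine Finset.sum_eq_zero fun k _ => ?_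
    rw [map_smul, map_smul]
    have hk := congrFun hz k
    simp only [r, LinearMap.pi_apply, Fintype.linearCombination_apply, Pi.zero_apply, smul_eq_mul] at hk
    simp only [gz, Fintype.linearCombination_apply, smul_eq_mul]
    rw [Finset.sum_congr rfl fun j _ => mul_comm _ _, hk, mul_zero]
  let g' : (Fin b → R) →ₗ[R] ({x // x ∈ s} →₀ R) :=
    (Finsupp.linearEquivFunOnFinite R R _).symm.toLinearMap ∘ₗ LinearMap.pi gz
  have hg' : LinearMap.ker π ≤ LinearMap.ker g' := fun x hx => by
    rw [LinearMap.mem_ker, LinearMap.comp_apply, show LinearMap.pi gz x = 0 from funext fun i => hgz i hx, map_zero]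
  let g : M →ₗ[R] ({x // x ∈ s} →₀ R) :=
    (LinearMap.ker π).liftQ g' hg' ∘ₗ (π.quotKerEquivOfSurjective hπ).symm.toLinearMap
  have hgπ : ∀ x, g (π x) = g' x := fun x => by
    show (LinearMap.ker π).liftQ g' hg' ((π.quotKerEquivOfSurjective hπ).symm (π x)) = _
    rw [show (π.quotKerEquivOfSurjective hπ).symm (π x) = Submodule.Quotient.mk x from
      (LinearEquiv.symm_apply_eq _).2 rfl]
    rfl
  refine ⟨{x // x ∈ s}, g, Finsupp.linearCombination R (fun i => i.1.1), ?_⟩
  refine LinearMap.ext fun m => ?_
  obtain ⟨x, rfl⟩ := hπ m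
  rw [LinearMap.comp_apply, hgπ]
  show (α ∘ₗ π) x = (Finsupp.linearCombination R (fun i : {x // x ∈ s} => i.1.1) ∘ₗ g') x
  congr 1
  refine (Pi.basisFun R (Fin b)).ext fun j => ?_
  rw [Pi.basisFun_apply, LinearMap.comp_apply, LinearMap.comp_apply]
  have hj := congrArg (fun q => TensorProduct.piScalarRight R R M' (Fin b) q j) hu
  simp only [v, map_sum, LinearMap.lTensor_tmul, Finset.sum_apply] at hj
  simp [g', gz, Finsupp.linearCombination_apply, Finsupp.sum_fintype, Finsupp.linearEquivFunOnFinite,
    Fintype.linearCombination_apply_single] 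
  simp [Pi.single_apply, mm] at hj
  rw [← hj]
  exact (Finset.sum_coe_sort s (fun i => (i.2.1 j) • i.1)).symm

end Groth.Agent.S1740
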