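import Groth.Statements.S17409
import Mathlib
-- import your own Groth.Agent.* helpers here

set_option autoImplicit false
universe u
open Prym5

namespace Groth.Agent.S17409

/-- Over a perfect field K of characteristic different from 2 and 3, let G₂, G₃, G₄ be polynomials in
two variables x, y and consider G₂ z² + 2 G₃ z + G₄ as a polynomial in the three variables x, y, z.
If it lies in the square of the ideal (x, y, z) — the surface it defines has a double point at the
origin — then the discriminant G₃² − G₂ G₄ lies in the square of the ideal (x, y) of K[x, y], so the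
plane curve G₃² − G₂ G₄ = 0 is singular at the origin. (This is the affine-local form used in the
published proof: the surface is a quartic with a node at the centre of projection placed at infinity
on the z-axis, and the curve is the branch sextic of that projection.) -/
theorem result (K : Type u) [Field K] [PerfectField K]
    (h2 : (2 : K) ≠ 0) (h3 : (3 : K) ≠ 0) (G₂ G₃ G₄ : MvPolynomial (Fin 2) K)
    (h : MvPolynomial.rename (Fin.castSucc : Fin 2 → Fin 3) G₂ * MvPolynomial.X (2 : Fin 3) ^ 2
        + 2 * MvPolynomial.rename (Fin.castSucc : Fin 2 → Fin 3) G₃ * MvPolynomial.X (2 : Fin 3)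
        + MvPolynomial.rename (Fin.castSucc : Fin 2 → Fin 3) G₄
        ∈ (Ideal.span (Set.range (MvPolynomial.X : Fin 3 → MvPolynomial (Fin 3) K))) ^ 2) :
    G₃ ^ 2 - G₂ * G₄ ∈ (Ideal.span (Set.range (MvPolynomial.X : Fin 2 → MvPolynomial (Fin 2) K))) ^ 2 := by
  have h0 : ∀ p : MvPolynomial (Fin 3) K, p ∈ (Ideal.span (Set.range (MvPolynomial.X : Fin 3 → MvPolynomial (Fin 3) K))) ^ 2 →
      MvPolynomial.aeval (R := K) (![MvPolynomial.X 0, MvPolynomial.X 1, 0] : Fin 3 → MvPolynomial (Fin 2) K) p ∈
        (Ideal.span (Set.range (MvPolynomial.X : Fin 2 → MvPolynomial (Fin 2) K))) ^ 2 := by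
    intro p hp
    have hmap := Ideal.mem_map_of_mem (MvPolynomial.aeval (R := K) (![MvPolynomial.X 0, MvPolynomial.X 1, 0] : Fin 3 → MvPolynomial (Fin 2) K)).toRingHom hp
    rw [Ideal.map_pow] at hmap
    refine Ideal.pow_right_mono ?_ 2 hmap
    rw [Ideal.map_span, Ideal.span_le]
    rintro _ ⟨_, ⟨i, rfl⟩, rfl⟩
    have hm : ∀ j : Fin 2, (MvPolynomial.X j : MvPolynomial (Fin 2) K) ∈ Ideal.span (Set.range (MvPolynomial.X : Fin 2 → MvPolynomial (Fin 2) K)) :=
      fun j => Ideal.subset_span (Set.mem_range_self j)
    fin_cases i <;> simp [hm]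
  -- degree-zero and degree-one parts of the coefficients
  have hG4 := h0 _ h
  have hG4' : G₄ ∈ (Ideal.span (Set.range (MvPolynomial.X : Fin 2 → MvPolynomial (Fin 2) K))) ^ 2 := by
    have ec : (![MvPolynomial.X 0, MvPolynomial.X 1, 0] : Fin 3 → MvPolynomial (Fin 2) K) ∘ Fin.castSucc = MvPolynomial.X := by
      funext i; fin_cases i <;> rfl
    have e : MvPolynomial.aeval (R := K) (![MvPolynomial.X 0, MvPolynomial.X 1, 0] : Fin 3 → MvPolynomial (Fin 2) K) (MvPolynomial.rename Fin.castSucc G₄) = G₄ := by
      rw [MvPolynomial.aeval_rename, ec, MvPolynomial.aeval_X_left_apply]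
    rw [map_add, e, map_add, map_mul, map_mul, map_pow, MvPolynomial.aeval_X] at hG4
    simpa using hG4
  have hG3 : G₃ ∈ Ideal.span (Set.range (MvPolynomial.X : Fin 2 → MvPolynomial (Fin 2) K)) := by
    set q := MvPolynomial.rename (Fin.castSucc : Fin 2 → Fin 3) G₂ * MvPolynomial.X (2 : Fin 3) ^ 2
        + 2 * MvPolynomial.rename (Fin.castSucc : Fin 2 → Fin 3) G₃ * MvPolynomial.X (2 : Fin 3)
        + MvPolynomial.rename (Fin.castSucc : Fin 2 → Fin 3) G₄
    have hd : ∀ p ∈ (Ideal.span (Set.range (MvPolynomial.X : Fin 3 → MvPolynomial (Fin 3) K))) ^ 2,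
        MvPolynomial.constantCoeff (MvPolynomial.pderiv (2 : Fin 3) p) = 0 := by
      intro p hp
      rw [pow_two] at hp
      induction hp using Submodule.mul_induction_on' with
      | mem_mul_mem a ha b hb =>
        have ha' : MvPolynomial.constantCoeff a = 0 := by
          have : Ideal.span (Set.range (MvPolynomial.X : Fin 3 → MvPolynomial (Fin 3) K)) ≤ RingHom.ker MvPolynomial.constantCoeff := by
            rw [Ideal.span_le]; rintro _ ⟨i, rfl⟩; simp
          exact this ha
        have hb' : MvPolynomial.constantCoeff b = 0 := by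
          have : Ideal.span (Set.range (MvPolynomial.X : Fin 3 → MvPolynomial (Fin 3) K)) ≤ RingHom.ker MvPolynomial.constantCoeff := by
            rw [Ideal.span_le]; rintro _ ⟨i, rfl⟩; simp
          exact this hb
        simp [ha', hb']
      | add a _ b _ ha hb => simp [ha, hb]
    have := hd q h
    have hne : ∀ G : MvPolynomial (Fin 2) K, MvPolynomial.pderiv (2 : Fin 3) (MvPolynomial.rename (Fin.castSucc : Fin 2 → Fin 3) G) = 0 := by
      intro G
      induction G using MvPolynomial.induction_on with
      | C a => simp
      | add p q hp hq => simp [hp, hq]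
      | mul_X p i hp =>
        have : Fin.castSucc i ≠ (2 : Fin 3) := Fin.castSucc_ne_last i
        simp [hp, MvPolynomial.pderiv_X_of_ne this]
    simp [q, hne] at this
    have hc : MvPolynomial.constantCoeff G₃ = 0 := by
      rcases this with this | this
      · exact absurd (by rwa [map_ofNat] at this) h2
      · exact this
    have key : ∀ p : MvPolynomial (Fin 2) K, p - MvPolynomial.C (MvPolynomial.constantCoeff p) ∈ Ideal.span (Set.range (MvPolynomial.X : Fin 2 → MvPolynomial (Fin 2) K)) := by
      intro p
      induction p using MvPolynomial.induction_on with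
      | C a => simp
      | add p q hp hq =>
        have := add_mem hp hq
        simp only [map_add]; convert this using 1; ring
      | mul_X p i hp =>
        simpa using Ideal.mul_mem_left _ p (Ideal.subset_span (Set.mem_range_self i))
    simpa [hc] using key G₃
  exact sub_mem (Ideal.pow_mem_pow hG3 2) (Ideal.mul_mem_left _ _ hG4')

end Groth.Agent.S17409
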