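import Groth.Statements.S17410
import Mathlib.RingTheory.Localization.Integral
-- import your own Groth.Agent.* helpers here

set_option autoImplicit false
universe u
open Prym5

namespace Groth.Agent.S17410

/-- Over a perfect field K of characteristic different from 2 and 3, let h be an irreducible polynomial
of degree 2 in the variable z with coefficients in K[x, y] and A = K[x, y][z]/(h). For every
multiplicative subset S of K[x, y], the localisation S⁻¹A is integral over S⁻¹K[x, y] if and only if
the leading coefficient of h is invertible in S⁻¹K[x, y]; and K(x, y) ⊗ A is a K(x, y)-vector space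
of dimension 2. (Geometrically: for a quartic surface with an ordinary double point, written u₂ x₃²
+ 2 u₃ x₃ + u₄ = 0 with the node at (0:0:0:1), the projection from the node restricted to a standard
affine chart of the plane is given by such an algebra A with leading coefficient the dehomogenised
u₂, so the projection is finite of degree two exactly over the locus u₂ ≠ 0. Stated for any
irreducible h of degree 2, which is all the argument uses.) -/
theorem result (K : Type u) [Field K]
    [PerfectField K] (h2 : (2 : K) ≠ 0) (h3 : (3 : K) ≠ 0)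
    (h : Polynomial (MvPolynomial (Fin 2) K)) (hirr : Irreducible h) (hdeg : h.natDegree = 2)
    (S : Submonoid (MvPolynomial (Fin 2) K)) :
    (Algebra.IsIntegral (Localization S) (Localization (Algebra.algebraMapSubmonoid (AdjoinRoot h) S))
        ↔ IsUnit (algebraMap (MvPolynomial (Fin 2) K) (Localization S) h.leadingCoeff))
      ∧ Module.finrank (FractionRing (MvPolynomial (Fin 2) K))
          (TensorProduct (MvPolynomial (Fin 2) K) (FractionRing (MvPolynomial (Fin 2) K)) (AdjoinRoot h)) = 2 := by
  classical
  let R := MvPolynomial (Fin 2) K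
  let A := AdjoinRoot h
  let L := Localization S
  let T := Localization (Algebra.algebraMapSubmonoid A S)
  have hh : h ≠ 0 := hirr.ne_zero
  refine ⟨⟨fun hint => ?_, fun hu => ⟨fun z => ?_⟩⟩, ?_⟩
  · by_cases h0 : (0 : R) ∈ S
    · have : Subsingleton L := IsLocalization.subsingleton h0
      exact isUnit_of_subsingleton _
    obtain ⟨⟨m, hm⟩, hmi⟩ := IsIntegral.exists_multiple_integral_of_isLocalization S
      (algebraMap A T (AdjoinRoot.root h)) (Algebra.IsIntegral.isIntegral (R := L) _)
    obtain ⟨p, hp, hp0⟩ := hmi
    have hp1 : algebraMap A T (Polynomial.aeval (algebraMap R A m * AdjoinRoot.root h) p) = 0 := by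
      rw [← Polynomial.aeval_algebraMap_apply, map_mul, ← IsScalarTower.algebraMap_apply]
      rw [Polynomial.aeval_def, ← hp0]
      simp [Submonoid.smul_def, Algebra.smul_def, T, A]
      rfl
    obtain ⟨⟨_, c, hc, rfl⟩, hc0⟩ := (IsLocalization.map_eq_zero_iff (Algebra.algebraMapSubmonoid A S) T _).1 hp1
    have hdvd : h ∣ Polynomial.C c * p.comp (Polynomial.C m * Polynomial.X) := by
      rw [← AdjoinRoot.mk_eq_zero, ← hc0, ← AdjoinRoot.aeval_eq, map_mul, Polynomial.aeval_comp]
      simp [A]
    have hne : m ≠ 0 := fun e => h0 (e ▸ hm)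
    have hlc := Polynomial.leadingCoeff_dvd_leadingCoeff hdvd
    rw [Polynomial.leadingCoeff_mul, Polynomial.leadingCoeff_C,
      Polynomial.leadingCoeff_comp (by simp [Polynomial.natDegree_C_mul_X _ hne]), hp.leadingCoeff, one_mul,
      Polynomial.leadingCoeff_C_mul_X] at hlc
    exact isUnit_of_dvd_unit (map_dvd _ hlc)
      (IsLocalization.map_units L (⟨_, S.mul_mem hc (S.pow_mem hm _)⟩ : S))
  · have hθ : IsIntegral L (algebraMap A T (AdjoinRoot.root h)) := by
      obtain ⟨u, hu⟩ := hu
      refine ⟨Polynomial.C (↑u⁻¹ : L) * h.map (algebraMap R L), ?_, ?_⟩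
      · rcases subsingleton_or_nontrivial L with hs | hs
        · exact Subsingleton.elim _ _
        · rw [Polynomial.Monic, Polynomial.leadingCoeff_mul, Polynomial.leadingCoeff_C,
            Polynomial.leadingCoeff_map_of_leadingCoeff_ne_zero _ (by rw [← hu]; exact u.ne_zero), ← hu]
          simp
      · rw [← Polynomial.aeval_def, map_mul, Polynomial.aeval_C, Polynomial.aeval_map_algebraMap,
          Polynomial.aeval_algebraMap_apply, AdjoinRoot.aeval_eq, AdjoinRoot.mk_self, map_zero, mul_zero]
    obtain ⟨a, ⟨_, s, hs, rfl⟩, rfl⟩ := IsLocalization.exists_mk'_eq (Algebra.algebraMapSubmonoid A S) z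
    have ha : IsIntegral L (algebraMap A T a) := by
      induction a using AdjoinRoot.induction_on with
      | ih q =>
        rw [← AdjoinRoot.aeval_eq, ← Polynomial.aeval_algebraMap_apply, ← Polynomial.aeval_map_algebraMap L]
        exact (Algebra.adjoin_le_iff.2 (Set.singleton_subset_iff.2 hθ) :
          Algebra.adjoin L _ ≤ integralClosure L T) (Polynomial.aeval_mem_adjoin_singleton L _)
    have e : IsLocalization.mk' T a (⟨algebraMap R A s, s, hs, rfl⟩ : Algebra.algebraMapSubmonoid A S) =
        algebraMap A T a * algebraMap L T (IsLocalization.mk' L 1 (⟨s, hs⟩ : S)) := by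
      rw [IsLocalization.mk'_eq_iff_eq_mul, mul_assoc, ← IsScalarTower.algebraMap_apply R A T,
        IsScalarTower.algebraMap_apply R L T, ← map_mul, IsLocalization.mk'_spec, map_one, map_one, mul_one]
    rw [e]
    exact ha.mul isIntegral_algebraMap
  · let F := FractionRing R
    have hmap : (h.map (algebraMap R F)) ≠ 0 := (Polynomial.map_ne_zero_iff (IsFractionRing.injective R F)).2 hh
    let e1 := AdjoinRoot.tensorAlgEquiv (R := R) (T := F) h
      (h.map (Algebra.TensorProduct.includeRight : R →ₐ[R] TensorProduct R F R).toRingHom) rfl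
    let e2 := AdjoinRoot.mapAlgEquiv (Algebra.TensorProduct.rid R F F)
      (h.map (Algebra.TensorProduct.includeRight : R →ₐ[R] TensorProduct R F R).toRingHom) (h.map (algebraMap R F))
      (Associated.of_eq (by
        rw [Polynomial.map_map]
        congr 1
        refine RingHom.ext fun r => ?_
        simp [Algebra.smul_def]))
    rw [(e1.trans e2).toLinearEquiv.finrank_eq,
      (AdjoinRoot.powerBasis hmap).finrank, AdjoinRoot.powerBasis_dim,
      Polynomial.natDegree_map_eq_of_injective (IsFractionRing.injective R F), hdeg]

end Groth.Agent.S17410
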