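import Groth.Statements.S17411
import Groth.Agent.DimTheory.Points
-- import your own Groth.Agent.* helpers here

set_option autoImplicit false
universe u
open CategoryTheory AlgebraicGeometry
open Prym5

namespace Groth.Agent.S17411

/-- Let k be an algebraically closed field of characteristic zero and X, Y, Z schemes of finite type
over k, with Y and Z irreducible of the same dimension, η : Y → Z a dominant k-morphism and ρ : X →
Y a k-morphism. Then the composite ρ ≫ η is dominant exactly when ρ is dominant. (The published
statement concerns the forgetful map from the moduli space of étale double covers of genus-five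
curves to the moduli space of genus-five curves, both irreducible of dimension 12, and a morphism
into the former; its argument uses only the hypotheses kept here.) -/
theorem result (k : Type u) [Field k] [IsAlgClosed k]
    [CharZero k] (X Y Z : Scheme.{u}) [X.Over (Spec (CommRingCat.of k))] [Y.Over (Spec (CommRingCat.of k))]
    [Z.Over (Spec (CommRingCat.of k))]
    [LocallyOfFiniteType (X ↘ Spec (CommRingCat.of k))] [QuasiCompact (X ↘ Spec (CommRingCat.of k))]
    [LocallyOfFiniteType (Y ↘ Spec (CommRingCat.of k))] [QuasiCompact (Y ↘ Spec (CommRingCat.of k))]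
    [LocallyOfFiniteType (Z ↘ Spec (CommRingCat.of k))] [QuasiCompact (Z ↘ Spec (CommRingCat.of k))]
    [IrreducibleSpace Y] [IrreducibleSpace Z] (hdim : topologicalKrullDim Y = topologicalKrullDim Z)
    (ρ : X ⟶ Y) [ρ.IsOver (Spec (CommRingCat.of k))] (η : Y ⟶ Z) [η.IsOver (Spec (CommRingCat.of k))]
    [IsDominant η] :
    IsDominant (ρ ≫ η) ↔ IsDominant ρ := by
  refine ⟨fun h => ?_, fun h => inferInstance⟩
  let S := Spec (CommRingCat.of k)
  haveI : LocallyOfFiniteType ((ρ ≫ η) ≫ (Z ↘ S)) := by
    rw [Category.assoc, comp_over η S, comp_over ρ S]; infer_instance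
  haveI : LocallyOfFiniteType (η ≫ (Z ↘ S)) := by rw [comp_over η S]; infer_instance
  haveI : IsLocallyNoetherian X := LocallyOfFiniteType.isLocallyNoetherian (X ↘ S)
  haveI : CompactSpace X := QuasiCompact.compactSpace_of_compactSpace (X ↘ S)
  haveI : IsNoetherian X := ⟨⟩
  -- the generic point of `Z` is the image of a point of `X`
  obtain ⟨x, hx⟩ : genericPoint Z ∈ Set.range (ρ ≫ η).base := by
    have hcl : (closure (Set.range (ρ ≫ η).base)) = Set.univ := (ρ ≫ η).denseRange.closure_range
    have hfin : (irreducibleComponents X).Finite := TopologicalSpace.NoetherianSpace.finite_irreducibleComponents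
    have hcov : Set.range (ρ ≫ η).base = ⋃ C ∈ irreducibleComponents X, (ρ ≫ η).base '' C := by
      rw [← Set.image_univ, ← sUnion_irreducibleComponents, Set.sUnion_eq_biUnion, Set.image_iUnion₂]
    rw [hcov, hfin.closure_biUnion] at hcl
    have hmem : genericPoint Z ∈ ⋃ C ∈ irreducibleComponents X, closure ((ρ ≫ η).base '' C) := by
      rw [hcl]; trivial
    obtain ⟨C, hC, hz⟩ := Set.mem_iUnion₂.mp hmem
    obtain ⟨x, hx⟩ := QuasiSober.sober hC.1 (isClosed_of_mem_irreducibleComponents C hC)
    refine ⟨x, ?_⟩
    have h1 : (ρ ≫ η).base '' C ⊆ closure {(ρ ≫ η).base x} := by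
      have := image_closure_subset_closure_image (f := (ρ ≫ η).base) (s := {x})
        (ρ ≫ η).continuous
      rwa [hx, Set.image_singleton] at this
    have h2 : (ρ ≫ η).base x ⤳ genericPoint Z :=
      specializes_iff_mem_closure.mpr (closure_minimal h1 isClosed_closure hz)
    exact h2.antisymm (genericPoint_specializes _) |>.eq
  -- the image in `Y` is the generic point
  have hy : ρ.base x = genericPoint Y := by
    by_contra hne
    have h1 : Order.height (η.base (ρ.base x)) ≤ Order.height (ρ.base x) :=
      DimTheory.height_map_le (Z ↘ S) η (ρ.base x)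
    have h2 : η.base (ρ.base x) = genericPoint Z := hx
    rw [h2] at h1
    rw [DimTheory.topologicalKrullDim_eq_height_genericPoint,
      DimTheory.topologicalKrullDim_eq_height_genericPoint, WithBot.coe_inj] at hdim
    have hlt : ρ.base x < genericPoint Y :=
      lt_of_le_not_ge (genericPoint_specializes _) fun h' =>
        hne ((genericPoint_specializes _).antisymm h').eq.symm
    have h3 := Order.height_strictMono hlt (DimTheory.height_lt_top (Y ↘ S) _)
    rw [hdim] at h3
    exact absurd h1 (not_le.mpr h3)
  refine ⟨fun y => ?_⟩
  exact closure_mono (Set.singleton_subset_iff.mpr (show genericPoint Y ∈ Set.range ρ.base from ⟨x, hy⟩))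
    (specializes_iff_mem_closure.mp (genericPoint_specializes y))

end Groth.Agent.S17411
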