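import Groth.Statements.S17414
import Groth.Agent.S17409
import Mathlib
-- import your own Groth.Agent.* helpers here

set_option autoImplicit false
universe u
open Prym5

namespace Groth.Agent.S17414

/-- Over a perfect field K of characteristic different from 2 and 3, let G₂, G₃, G₄ be polynomials in x,
y, let h = G₂ z² + 2 G₃ z + G₄ in K[x, y, z] and D = G₃² − G₂ G₄ in K[x, y]. Suppose h ∈ (x, y, z) —
the origin Q lies on the surface h = 0 — and D ∈ (x, y) — the image of Q under (x, y, z) ↦ (x, y)
lies on the discriminant curve D = 0. Then D ∈ (x, y)², i.e. the image point is singular on the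
discriminant curve, if and only if either h ∈ (x, y, z)², i.e. Q is a singular point of the surface,
or G₂, G₃, G₄ ∈ (x, y), i.e. Q lies on all three cones G₂ = G₃ = G₄ = 0. (Affine-local form, in a
chart where the node projected from sits at infinity on the z-axis and Q at the origin, of the
published claim: for a point Q ≠ P of the nodal quartic whose projection lies on the branch sextic,
the projection is singular on the sextic exactly when Q is singular on the quartic or lies on the
cones u₂ = u₃ = u₄ = 0.) -/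
theorem result (K : Type u) [Field K] [PerfectField K]
    (h2 : (2 : K) ≠ 0) (h3 : (3 : K) ≠ 0) (G₂ G₃ G₄ : MvPolynomial (Fin 2) K)
    (hQ : MvPolynomial.rename (Fin.castSucc : Fin 2 → Fin 3) G₂ * MvPolynomial.X (2 : Fin 3) ^ 2
        + 2 * MvPolynomial.rename (Fin.castSucc : Fin 2 → Fin 3) G₃ * MvPolynomial.X (2 : Fin 3)
        + MvPolynomial.rename (Fin.castSucc : Fin 2 → Fin 3) G₄
        ∈ Ideal.span (Set.range (MvPolynomial.X : Fin 3 → MvPolynomial (Fin 3) K)))
    (hD : G₃ ^ 2 - G₂ * G₄ ∈ Ideal.span (Set.range (MvPolynomial.X : Fin 2 → MvPolynomial (Fin 2) K))) :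
    G₃ ^ 2 - G₂ * G₄ ∈ (Ideal.span (Set.range (MvPolynomial.X : Fin 2 → MvPolynomial (Fin 2) K))) ^ 2 ↔
      (MvPolynomial.rename (Fin.castSucc : Fin 2 → Fin 3) G₂ * MvPolynomial.X (2 : Fin 3) ^ 2
          + 2 * MvPolynomial.rename (Fin.castSucc : Fin 2 → Fin 3) G₃ * MvPolynomial.X (2 : Fin 3)
          + MvPolynomial.rename (Fin.castSucc : Fin 2 → Fin 3) G₄
          ∈ (Ideal.span (Set.range (MvPolynomial.X : Fin 3 → MvPolynomial (Fin 3) K))) ^ 2 ∨
        (G₂ ∈ Ideal.span (Set.range (MvPolynomial.X : Fin 2 → MvPolynomial (Fin 2) K)) ∧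
          G₃ ∈ Ideal.span (Set.range (MvPolynomial.X : Fin 2 → MvPolynomial (Fin 2) K)) ∧
          G₄ ∈ Ideal.span (Set.range (MvPolynomial.X : Fin 2 → MvPolynomial (Fin 2) K)))) := by
  set m2 : Ideal (MvPolynomial (Fin 2) K) := Ideal.span (Set.range MvPolynomial.X) with hm2
  set m3 : Ideal (MvPolynomial (Fin 3) K) := Ideal.span (Set.range MvPolynomial.X) with hm3
  have key : ∀ p : MvPolynomial (Fin 2) K, p - MvPolynomial.C (MvPolynomial.constantCoeff p) ∈ m2 := by
    intro p
    induction p using MvPolynomial.induction_on with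
    | C a => simp
    | add p q hp hq =>
      have := add_mem hp hq
      simp only [map_add]; convert this using 1; ring
    | mul_X p i hp =>
      simpa using Ideal.mul_mem_left _ p (Ideal.subset_span (Set.mem_range_self i))
  have hker : ∀ p ∈ m2, MvPolynomial.constantCoeff p = 0 := by
    intro p hp
    have : m2 ≤ RingHom.ker MvPolynomial.constantCoeff := by
      rw [hm2, Ideal.span_le]; rintro _ ⟨i, rfl⟩; simp
    exact this hp
  have hker3 : ∀ p ∈ m3, MvPolynomial.constantCoeff p = 0 := by
    intro p hp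
    have : m3 ≤ RingHom.ker MvPolynomial.constantCoeff := by
      rw [hm3, Ideal.span_le]; rintro _ ⟨i, rfl⟩; simp
    exact this hp
  have mem_of : ∀ p : MvPolynomial (Fin 2) K, MvPolynomial.constantCoeff p = 0 → p ∈ m2 := by
    intro p hp; simpa [hp] using key p
  have hup : ∀ (n : ℕ), ∀ p ∈ m2 ^ n, MvPolynomial.rename (Fin.castSucc : Fin 2 → Fin 3) p ∈ m3 ^ n := by
    intro n p hp
    have := Ideal.mem_map_of_mem (MvPolynomial.rename (Fin.castSucc : Fin 2 → Fin 3)).toRingHom hp
    rw [Ideal.map_pow] at this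
    refine Ideal.pow_right_mono ?_ n this
    rw [hm2, Ideal.map_span, Ideal.span_le]
    rintro _ ⟨_, ⟨i, rfl⟩, rfl⟩
    simpa using Ideal.subset_span (Set.mem_range_self (Fin.castSucc i))
  constructor
  · intro hD2
    have hc4 : MvPolynomial.constantCoeff G₄ = 0 := by
      have := hker3 _ hQ
      simpa using this
    have hc3 : MvPolynomial.constantCoeff G₃ = 0 := by
      have := hker _ hD
      simpa [hc4] using this
    by_cases hc2 : MvPolynomial.constantCoeff G₂ = 0
    · exact Or.inr ⟨mem_of _ hc2, mem_of _ hc3, mem_of _ hc4⟩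
    · have hG3 := mem_of _ hc3
      have hG4 := mem_of _ hc4
      have h24 : G₂ * G₄ ∈ m2 ^ 2 := by
        have := sub_mem (Ideal.pow_mem_pow hG3 2) hD2
        simpa using this
      have hG4' : G₄ ∈ m2 ^ 2 := by
        have h5 : (G₂ - MvPolynomial.C (MvPolynomial.constantCoeff G₂)) * G₄ ∈ m2 ^ 2 := by
          rw [pow_two]; exact Ideal.mul_mem_mul (key G₂) hG4
        have h6 := Ideal.mul_mem_left _ (MvPolynomial.C (MvPolynomial.constantCoeff G₂)⁻¹) (sub_mem h24 h5)
        rwa [sub_mul, sub_sub_cancel, ← mul_assoc, ← MvPolynomial.C_mul, inv_mul_cancel₀ hc2,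
          MvPolynomial.C_1, one_mul] at h6
      refine Or.inl (add_mem (add_mem ?_ ?_) (hup 2 _ hG4'))
      · exact Ideal.mul_mem_left _ _ (Ideal.pow_mem_pow (Ideal.subset_span (Set.mem_range_self _)) 2)
      · rw [pow_two]
        refine Ideal.mul_mem_mul (Ideal.mul_mem_left _ _ ?_) (Ideal.subset_span (Set.mem_range_self _))
        simpa using hup 1 G₃ (by simpa using hG3)
  · rintro (h | ⟨hG2, hG3, hG4⟩)
    · exact Groth.Agent.S17409.result K h2 h3 G₂ G₃ G₄ h
    · refine sub_mem (Ideal.pow_mem_pow hG3 2) ?_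
      rw [pow_two]
      exact Ideal.mul_mem_mul hG2 hG4

end Groth.Agent.S17414
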