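import Groth.Statements.S1742
import Groth.Agent.Depth.CM
-- import your own Groth.Agent.* helpers here

set_option autoImplicit false
universe u
open LocCoh

namespace Groth.Agent.S1742

/-- Let A be a Noetherian ring, I an ideal, M a finite A-module and p a prime containing I such that the
IA_p-depth of M_p is a finite number e. Then there is an open subset U of Spec A meeting V(p) such
that the IA_q-depth of M_q is at least e for every q in U ∩ V(p). -/
theorem result (A : Type u) [CommRing A] [IsNoetherianRing A] (I : Ideal A) (M : Type u) [AddCommGroup M] [Module A M] [Module.Finite A M] (p : PrimeSpectrum A) (hp : I ≤ p.asIdeal) (e : ℕ) (he : LocCoh.idealDepth (I.map (algebraMap A (Localization.AtPrime p.asIdeal))) (LocalizedModule p.asIdeal.primeCompl M) = e) : ∃ U : Set (PrimeSpectrum A), IsOpen U ∧ (U ∩ PrimeSpectrum.zeroLocus (p.asIdeal : Set A)).Nonempty ∧ ∀ q : PrimeSpectrum A, q ∈ U → p ≤ q → (e : ℕ∞) ≤ LocCoh.idealDepth (I.map (algebraMap A (Localization.AtPrime q.asIdeal))) (LocalizedModule q.asIdeal.primeCompl M) := by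
  let P := p.asIdeal
  have spread : ∀ (rs : List A) (N : Type u) [AddCommGroup N] [Module A N] [Module.Finite A N],
      RingTheory.Sequence.IsWeaklyRegular (LocalizedModule P.primeCompl N) (rs.map (algebraMap A (Localization.AtPrime P))) →
      ∃ f : A, f ∉ P ∧ ∀ q : PrimeSpectrum A, f ∉ q.asIdeal →
        RingTheory.Sequence.IsWeaklyRegular (LocalizedModule q.asIdeal.primeCompl N) (rs.map (algebraMap A (Localization.AtPrime q.asIdeal))) := by
    intro rs
    induction rs with
    | nil => intro N _ _ _ _; exact ⟨1, P.ne_top_iff_one.1 p.2.ne_top, fun q _ => .nil _ _⟩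
    | cons r rs ih =>
      intro N _ _ _ h
      rw [List.map_cons, RingTheory.Sequence.isWeaklyRegular_cons_iff] at h
      obtain ⟨g, hg, hg'⟩ := ih (QuotSMulTop r N)
        (((Depth.localizedQuotSMulTopEquiv P.primeCompl N r).isWeaklyRegular_congr _).2 h.2)
      let K := LinearMap.ker (LinearMap.lsmul A N r)
      have : Subsingleton (LocalizedModule P.primeCompl K) := by
        refine LocalizedModule.subsingleton_iff.2 fun x => ?_
        have h0 : LocalizedModule.mkLinearMap P.primeCompl N x.1 = 0 := h.1 (by
          simp only [smul_zero]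
          show algebraMap A (Localization.AtPrime P) r • _ = (0 : LocalizedModule P.primeCompl N)
          rw [IsScalarTower.algebraMap_smul, ← map_smul]
          exact (congrArg _ (show r • x.1 = 0 from x.2)).trans (map_zero _))
        obtain ⟨s, hs, hsx⟩ := LocalizedModule.mem_ker_mkLinearMap_iff.1 (LinearMap.mem_ker.2 h0)
        exact ⟨s, hs, Subtype.ext hsx⟩
      obtain ⟨t, htP, ht⟩ : ∃ t : A, t ∉ P ∧ ∀ x : K, t • x = 0 := by
        obtain ⟨G, hG⟩ := (IsNoetherian.noetherian (⊤ : Submodule A K))
        choose s hs hsx using fun x : K => LocalizedModule.subsingleton_iff.1 this x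
        refine ⟨∏ x ∈ G, s x, Submonoid.prod_mem P.primeCompl fun x _ => hs x, fun x => ?_⟩
        have hx : x ∈ Submodule.span A (G : Set K) := hG ▸ Submodule.mem_top
        induction hx using Submodule.span_induction with
        | mem y hy =>
          obtain ⟨c, hc⟩ := Finset.dvd_prod_of_mem s hy
          rw [hc, mul_comm, mul_smul, hsx, smul_zero]
        | zero => simp
        | add u v _ _ hu hv => rw [smul_add, hu, hv, add_zero]
        | smul a u _ hu => rw [smul_comm, hu, smul_zero]
      refine ⟨g * t, p.2.mul_notMem hg htP, fun q hq => ?_⟩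
      have hgq : g ∉ q.asIdeal := fun h' => hq (q.asIdeal.mul_mem_right t h')
      have htq : t ∉ q.asIdeal := fun h' => hq (q.asIdeal.mul_mem_left g h')
      rw [List.map_cons, RingTheory.Sequence.isWeaklyRegular_cons_iff]
      refine ⟨isSMulRegular_iff_right_eq_zero_of_smul.2 fun z hz => ?_,
        ((Depth.localizedQuotSMulTopEquiv q.asIdeal.primeCompl N r).isWeaklyRegular_congr _).1 (hg' q hgq)⟩
      induction z using LocalizedModule.induction_on with
      | h m s =>
        rw [IsScalarTower.algebraMap_smul, LocalizedModule.smul'_mk, ← LocalizedModule.zero_mk s,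
          LocalizedModule.mk_eq] at hz
        obtain ⟨u, hu⟩ := hz
        have h1 : r • ((u : A) * (s : A)) • m = 0 := by
          simpa [Submonoid.smul_def, mul_smul, smul_comm r] using hu
        have h2 := congrArg Subtype.val (ht ⟨_, h1⟩)
        rw [← LocalizedModule.zero_mk s, LocalizedModule.mk_eq]
        refine ⟨⟨t * (u : A), q.2.mul_notMem htq u.2⟩, ?_⟩
        simpa [Submonoid.smul_def, mul_smul] using h2
  have hne : I.map (algebraMap A (Localization.AtPrime P)) • (⊤ : Submodule (Localization.AtPrime P) (LocalizedModule P.primeCompl M)) ≠ ⊤ := fun h => by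
    rw [Depth.idealDepth_eq_top h] at he
    exact absurd he.symm (ENat.natCast_ne_top e)
  obtain ⟨rs, hl, hm, hw⟩ := Depth.exists_isWeaklyRegular_map e (LocalizedModule P.primeCompl M) he.ge hne
  obtain ⟨f, hf, hf'⟩ := spread rs M hw
  refine ⟨PrimeSpectrum.basicOpen f, (PrimeSpectrum.basicOpen f).isOpen, ⟨p, hf, fun x hx => hx⟩, fun q hq _ => ?_⟩
  rw [← hl, ← List.length_map (algebraMap A (Localization.AtPrime q.asIdeal))]
  refine Depth.le_idealDepth_of_isWeaklyRegular (hf' q hq) ?_
  simpa using fun a ha => Ideal.mem_map_of_mem _ (hm a ha)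

end Groth.Agent.S1742
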