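import Groth.Statements.S17439


set_option autoImplicit false
universe u
set_option backward.isDefEq.respectTransparency false
open CategoryTheory AlgebraicGeometry
open DefoSh

namespace Groth.Agent.S17439

open CategoryTheory.Limits Opposite TopologicalSpace TensorProduct

section
variable {X : Scheme.{u}} {Ω' : X.Modules}

theorem tensor_ext {M N P : X.Modules} {f g : CohB1.tensorMod M N ⟶ P}
    (h : ∀ (U : X.Opens) (m : Γ(M, U)) (n : Γ(N, U)),
      f.app U (SecTwist.tmul M N U m n) = g.app U (SecTwist.tmul M N U m n)) : f = g := by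
  apply ((PresheafOfModules.sheafificationAdjunction (𝟙 X.ringCatSheaf.obj)).homEquiv _ _).injective
  refine PresheafOfModules.hom_ext ?_
  intro U
  refine ModuleCat.hom_ext (LinearMap.toAddMonoidHom_injective ?_)
  refine AddMonoidHom.ext fun x => ?_
  induction x using TensorProduct.induction_on with
  | zero => exact (map_zero _).trans (map_zero _).symm
  | tmul m n => exact h U.unop m n
  | add a b ha hb => exact ((map_add _ a b).trans (congrArg₂ (· + ·) ha hb)).trans (map_add _ a b).symm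

theorem tmul_add_left (M N : X.Modules) (U : X.Opens) (m m' : M.val.obj (op U))
    (n : N.val.obj (op U)) :
    SecTwist.tmul M N U (m + m') n = SecTwist.tmul M N U m n + SecTwist.tmul M N U m' n := by
  unfold SecTwist.tmul
  exact (congrArg ((SecTwist.toTensor M N).app (op U)).hom
    (TensorProduct.add_tmul m m' n)).trans (map_add _ _ _)

theorem tmul_smul_left (M N : X.Modules) (U : X.Opens) (t : X.ringCatSheaf.obj.obj (op U))
    (m : M.val.obj (op U)) (n : N.val.obj (op U)) :
    SecTwist.tmul M N U (t • m) n = t • SecTwist.tmul M N U m n := by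
  let x : ↥((CohB1.tensorPre M N).obj (op U)) := m ⊗ₜ n
  exact ((SecTwist.toTensor M N).app (op U)).hom.map_smul t x

theorem tensorMap_add {M M' N : X.Modules} (f g : M ⟶ M') :
    KoszTw.tensorMap (f + g) (𝟙 N) = KoszTw.tensorMap f (𝟙 N) + KoszTw.tensorMap g (𝟙 N) := by
  refine tensor_ext fun U m n => ?_
  rw [Scheme.Modules.Hom.add_app, AddCommGrpCat.hom_add_apply, KoszTw.tensorMap_tmul,
    KoszTw.tensorMap_tmul, KoszTw.tensorMap_tmul, Scheme.Modules.Hom.add_app,
    AddCommGrpCat.hom_add_apply, tmul_add_left]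

theorem tensorMap_zero (M M' N : X.Modules) :
    KoszTw.tensorMap (0 : M ⟶ M') (𝟙 N) = 0 := by
  have h := tensorMap_add (N := N) (0 : M ⟶ M') 0
  rw [add_zero] at h
  exact left_eq_add.mp h

theorem tensorMap_smulModΓ (M N : X.Modules) (r : Coh.Γtop X) :
    KoszTw.tensorMap (Formal.smulModΓ M r) (𝟙 N) = Formal.smulModΓ (CohB1.tensorMod M N) r := by
  refine tensor_ext fun U m n => ?_
  rw [KoszTw.tensorMap_tmul, KLin.smulModΓ_app_apply, KLin.smulModΓ_app_apply,
    Scheme.Modules.Hom.id_app]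
  exact tmul_smul_left M N U _ m n

theorem isHorizontal_add {M M' : X.Modules}
    {c : Coh.toAb M ⟶ Coh.toAb (CohB1.tensorMod M Ω')}
    {c' : Coh.toAb M' ⟶ Coh.toAb (CohB1.tensorMod M' Ω')} {f g : M ⟶ M'}
    (hf : ConnSh.IsHorizontal c c' f) (hg : ConnSh.IsHorizontal c c' g) :
    ConnSh.IsHorizontal c c' (f + g) := by
  intro U e
  rw [tensorMap_add, Scheme.Modules.Hom.add_app, Scheme.Modules.Hom.add_app,
    AddCommGrpCat.hom_add_apply, AddCommGrpCat.hom_add_apply]
  exact (map_add _ _ _).trans (congrArg₂ (· + ·) (hf U e) (hg U e))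

theorem isHorizontal_zero {M M' : X.Modules}
    (c : Coh.toAb M ⟶ Coh.toAb (CohB1.tensorMod M Ω'))
    (c' : Coh.toAb M' ⟶ Coh.toAb (CohB1.tensorMod M' Ω')) :
    ConnSh.IsHorizontal c c' (0 : M ⟶ M') := by
  intro U e
  rw [tensorMap_zero]
  exact map_zero _

variable {E : X.Modules} (nabla : Coh.toAb E ⟶ Coh.toAb (CohB1.tensorMod E Ω'))

/-- the connection `∇ ⊕ ∇` on `E ⊞ E` -/
noncomputable def biConn : Coh.toAb (E ⊞ E) ⟶ Coh.toAb (CohB1.tensorMod (E ⊞ E) Ω') :=
  (SheafOfModules.toSheaf X.ringCatSheaf).map (biprod.fst : E ⊞ E ⟶ E) ≫ nabla ≫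
      (SheafOfModules.toSheaf X.ringCatSheaf).map
        (KoszTw.tensorMap (biprod.inl : E ⟶ E ⊞ E) (𝟙 Ω')) +
    (SheafOfModules.toSheaf X.ringCatSheaf).map (biprod.snd : E ⊞ E ⟶ E) ≫ nabla ≫
      (SheafOfModules.toSheaf X.ringCatSheaf).map
        (KoszTw.tensorMap (biprod.inr : E ⟶ E ⊞ E) (𝟙 Ω'))

theorem biConn_apply (U : X.Opens) (e : (E ⊞ E).val.obj (op U)) :
    ConnSh.secApp (biConn nabla) U e =
      (KoszTw.tensorMap (biprod.inl : E ⟶ E ⊞ E) (𝟙 Ω')).app U
          (ConnSh.secApp nabla U ((biprod.fst : E ⊞ E ⟶ E).app U e)) +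
        (KoszTw.tensorMap (biprod.inr : E ⟶ E ⊞ E) (𝟙 Ω')).app U
          (ConnSh.secApp nabla U ((biprod.snd : E ⊞ E ⟶ E).app U e)) := rfl

theorem comp_app_apply {M N P : X.Modules} (f : M ⟶ N) (g : N ⟶ P) (U : X.Opens) (x : Γ(M, U)) :
    (f ≫ g).app U x = g.app U (f.app U x) := rfl

theorem horizontal_fst : ConnSh.IsHorizontal (biConn nabla) nabla (biprod.fst : E ⊞ E ⟶ E) := by
  intro U e
  rw [biConn_apply, map_add, ← comp_app_apply (KoszTw.tensorMap (biprod.inl : E ⟶ E ⊞ E) (𝟙 Ω')),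
    ← comp_app_apply (KoszTw.tensorMap (biprod.inr : E ⟶ E ⊞ E) (𝟙 Ω')),
    ← KoszTw.tensorMap_comp, ← KoszTw.tensorMap_comp, Category.comp_id, biprod.inl_fst,
    biprod.inr_fst, tensorMap_zero, KoszTw.tensorMap_id]
  exact (add_zero _).symm

theorem horizontal_inr : ConnSh.IsHorizontal nabla (biConn nabla) (biprod.inr : E ⟶ E ⊞ E) := by
  intro U e
  rw [biConn_apply, ← comp_app_apply (biprod.inr : E ⟶ E ⊞ E) biprod.fst,
    ← comp_app_apply (biprod.inr : E ⟶ E ⊞ E) biprod.snd, biprod.inr_fst, biprod.inr_snd]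
  change (KoszTw.tensorMap (biprod.inl : E ⟶ E ⊞ E) (𝟙 Ω')).app U (ConnSh.secApp nabla U 0) +
    (KoszTw.tensorMap (biprod.inr : E ⟶ E ⊞ E) (𝟙 Ω')).app U (ConnSh.secApp nabla U e) = _
  rw [map_zero, map_zero, zero_add]

variable {S : Scheme.{u}} {f : X ⟶ S} {δ : OmegaSh.Der f Ω'}

theorem isConn_biConn (hn : ConnSh.IsConn δ E nabla) :
    ConnSh.IsConn δ (E ⊞ E) (biConn nabla) := by
  intro U t e
  rw [biConn_apply, biConn_apply, Scheme.Modules.Hom.app_smul, Scheme.Modules.Hom.app_smul, hn, hn,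
    map_add, map_add, Scheme.Modules.Hom.app_smul, Scheme.Modules.Hom.app_smul,
    KoszTw.tensorMap_tmul, KoszTw.tensorMap_tmul, smul_add, add_add_add_comm, ← tmul_add_left,
    ← comp_app_apply, ← comp_app_apply, ← AddCommGrpCat.hom_add_apply,
    ← Scheme.Modules.Hom.add_app, biprod.total]
  rfl

end

section
variable {k : Type u} [Field k] {X : Scheme.{u}} [X.Over (Spec (CommRingCat.of k))] {Ω' : X.Modules}

theorem der_const (δ : OmegaSh.Der (X ↘ Spec (CommRingCat.of k)) Ω') (U : X.Opens) (a : k) :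
    δ.app U (Coh.resTop X (op U) (Coh.toGlobal (X ↘ Spec (CommRingCat.of k)) a)) = 0 := by
  rw [OmegaSh.Der.app_apply]
  have h0 := δ.d_app (X := op ⊤) ((Scheme.ΓSpecIso (CommRingCat.of k)).inv.hom a)
  have h := δ.d_map (homOfLE (le_top : U ≤ ⊤)).op
    (Coh.toGlobal (X ↘ Spec (CommRingCat.of k)) a)
  exact h.trans ((congrArg _ h0).trans (map_zero _))

theorem horizontal_smulMod {δ : OmegaSh.Der (X ↘ Spec (CommRingCat.of k)) Ω'} {M : X.Modules}
    {c : Coh.toAb M ⟶ Coh.toAb (CohB1.tensorMod M Ω')} (hc : ConnSh.IsConn δ M c) (a : k) :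
    ConnSh.IsHorizontal c c (Formal.smulMod k M a) := by
  intro U e
  rw [Formal.smulMod, tensorMap_smulModΓ, KLin.smulModΓ_app_apply, KLin.smulModΓ_app_apply, hc]
  have h : SecTwist.tmul M Ω' U e (δ.app U (Coh.resTop X (op U)
      (Coh.toGlobal (X ↘ Spec (CommRingCat.of k)) a))) = 0 := by
    rw [der_const]
    exact (congrArg ((SecTwist.toTensor M Ω').app (op U)).hom (TensorProduct.tmul_zero _ e)).trans
      (map_zero _)
  exact (congrArg (_ + ·) h).trans (add_zero _)

end

end Groth.Agent.S17439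

namespace Groth.Agent.S17439

/-- Let k be a field, X a scheme over k with a receptacle of differentials (Ω′, δ) over k, Ω′
quasi-coherent, and E a finite locally free O_X-module with a connection ∇ : E → E ⊗ Ω′. Then ∇ has
at least one deformation over the trivial first-order deformation E ⊕ εE of E (a connection on E ⊕
εE commuting with k[ε] and reducing to ∇), so the set of deformations of ∇ over the trivial
deformation (the set that corresponds to H⁰(End(E) ⊗ Ω′)) is not empty. The published statement is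
for a curve with its sheaf of differentials; this row takes any scheme over k with any
quasi-coherent receptacle of differentials, which the printed computation does not use. -/
theorem result (k : Type u) [Field k] (X : Scheme.{u})
    [X.Over (Spec (CommRingCat.of k))] (Ω' : X.Modules) (δ : OmegaSh.Der (X ↘ Spec (CommRingCat.of k)) Ω')
    (hΩ' : Coh.IsQCoh Ω') (E : X.Modules) (hE : FlatMod.IsFinLocFree E)
    (nabla : Coh.toAb E ⟶ Coh.toAb (CohB1.tensorMod E Ω')) (hn : ConnSh.IsConn δ E nabla) :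
    Nonempty (DefoSh.DefoConn δ nabla (DefoSh.Defo.trivDual k E)) := by
  refine ⟨⟨biConn nabla, isConn_biConn nabla hn, fun z => ?_, horizontal_fst nabla⟩⟩
  have hc := isConn_biConn nabla hn
  change ConnSh.IsHorizontal (biConn nabla) (biConn nabla) (DefoSh.dualAct k E z : E ⊞ E ⟶ E ⊞ E)
  rw [DefoSh.dualAct_hom]
  refine isHorizontal_add ?_ ?_
  · rw [KLin.smul_id]
    exact horizontal_smulMod hc _
  · rw [KLin.smul_def]
    exact DefoSh.isHorizontal_comp (horizontal_smulMod hc _)
      (DefoSh.isHorizontal_comp (horizontal_fst nabla) (horizontal_inr nabla))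

end Groth.Agent.S17439
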