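import Groth.Statements.S1744
import Groth.Agent.LocCohBasic.Basic
import Mathlib.Algebra.Homology.DerivedCategory.Ext.EnoughProjectives
import Mathlib.CategoryTheory.Abelian.Basic
-- import your own Groth.Agent.* helpers here

set_option autoImplicit false
universe u
open CategoryTheory
attribute [local instance] HasDerivedCategory.standard
open LocCoh

namespace Groth.Agent.S1744

/-- Let I be an ideal of a Noetherian ring A and e a natural number with cd(A, I) ≤ e. For every n ≥ 1
there is m > n such that for every A-module N and every i > e, precomposing with A/I^m → A/I^n kills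
every map A/I^n → N[i] in D(A), i.e. the transition maps annihilate Ext^i_A(A/I^n, N) for i > e. -/
theorem result (A : Type u) [CommRing A] [IsNoetherianRing A] (I : Ideal A) (e : ℕ) (he : LocCoh.CdLE A I e) (n : ℕ) (hn : 1 ≤ n) : ∃ (m : ℕ) (hm : n < m), ∀ (N : Type u) [AddCommGroup N] [Module A N] (i : ℕ), e < i → ∀ φ : Dual.inD A (A ⧸ I ^ n) ⟶ (Dual.inD A N)⟦(i : ℤ)⟧, (DerivedCategory.singleFunctor (ModuleCat.{u} A) 0).map (ModuleCat.ofHom (Submodule.mapQ (I ^ m) (I ^ n) LinearMap.id (Ideal.pow_le_pow_right (Nat.le_of_lt hm)))) ≫ φ = 0 := by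
  open CategoryTheory.Limits CategoryTheory.Abelian in
    exact (by
    have univ : ∀ (j : ℕ) (X : ModuleCat.{u} A), ∃ (U : ModuleCat.{u} A) (ξ : Ext X U j),
        ∀ (N : ModuleCat.{u} A) (x : Ext X N j), ∃ f : U ⟶ N, ξ.comp (Ext.mk₀ f) (add_zero j) = x := by
      intro j
      induction j with
      | zero =>
        intro X
        refine ⟨X, Ext.mk₀ (𝟙 X), fun N x => ?_⟩
        obtain ⟨f, rfl⟩ := (Ext.mk₀_bijective X N).2 x
        exact ⟨f, by rw [Ext.mk₀_comp_mk₀, Category.id_comp]⟩
      | succ j ih =>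
        intro X
        let S := ShortComplex.mk (kernel.ι (Projective.π X)) (Projective.π X) (kernel.condition _)
        have hS : S.ShortExact :=
          { exact := ShortComplex.exact_of_f_is_kernel _ (kernelIsKernel _)
            mono_f := inferInstanceAs (Mono (kernel.ι _))
            epi_g := inferInstanceAs (Epi (Projective.π X)) }
        obtain ⟨U, ξ, hξ⟩ := ih S.X₁
        refine ⟨U, hS.extClass.comp ξ (show 1 + j = j + 1 by omega), fun N x => ?_⟩
        haveI : Projective S.X₂ := inferInstanceAs (Projective (Projective.over X))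
        obtain ⟨z, hz⟩ := Ext.contravariant_sequence_exact₃ hS N x (Ext.eq_zero_of_projective _) (show 1 + j = j + 1 by omega)
        obtain ⟨f, hf⟩ := hξ N z
        exact ⟨f, by rw [Ext.comp_assoc _ _ _ _ (add_zero j) (by omega), hf, hz]⟩
    obtain ⟨U, ξ, hξ⟩ := univ (e + 1) (Groth.Agent.LocCohBasic.QI I n)
    haveI : Subsingleton ((localCohomology I (e + 1)).obj U) :=
      he U (e + 1) (Nat.lt_succ_self e)
    obtain ⟨l, hl, hlz⟩ := (Groth.Agent.LocCohBasic.loc_eq_zero_iff I U ξ).1 (Subsingleton.elim _ _)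
    let m := max l (n + 1)
    have hnm : n < m := lt_of_lt_of_le (Nat.lt_succ_self n) (le_max_right _ _)
    let p : Groth.Agent.LocCohBasic.QI I m ⟶ Groth.Agent.LocCohBasic.QI I n :=
      Groth.Agent.LocCohBasic.proj I (hnm.le)
    have key : ∀ (d : ℕ) (N : ModuleCat.{u} A) (x : Ext (Groth.Agent.LocCohBasic.QI I n) N (e + 1 + d)),
        (Ext.mk₀ p).comp x (zero_add _) = 0 := by
      intro d
      induction d with
      | zero =>
        intro N x
        obtain ⟨f, rfl⟩ := hξ N x
        have hp : p = Groth.Agent.LocCohBasic.proj I (le_max_left l (n + 1)) ≫ Groth.Agent.LocCohBasic.proj I hl :=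
          (Groth.Agent.LocCohBasic.proj_proj I hl (le_max_left l (n + 1))).symm
        rw [hp, ← Ext.mk₀_comp_mk₀, ← Ext.comp_assoc _ _ _ (zero_add _) (add_zero _) (by omega),
          Ext.comp_assoc (Ext.mk₀ (Groth.Agent.LocCohBasic.proj I (le_max_left l (n + 1)))) _ ξ (zero_add 0) (zero_add _) (by omega), hlz,
          Ext.comp_zero, Ext.zero_comp]
      | succ d ih =>
        intro N x
        let S := ShortComplex.mk (Injective.ι N) (cokernel.π (Injective.ι N)) (cokernel.condition _)
        have hS : S.ShortExact :=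
          { exact := ShortComplex.exact_of_g_is_cokernel _ (cokernelIsCokernel _)
            mono_f := inferInstanceAs (Mono (Injective.ι N))
            epi_g := inferInstanceAs (Epi (cokernel.π _)) }
        haveI : Injective S.X₂ := inferInstanceAs (Injective (Injective.under N))
        obtain ⟨y, hy⟩ := Ext.covariant_sequence_exact₁ _ hS (n₁ := e + 1 + d + 1) x (Ext.eq_zero_of_injective _) (n₀ := e + 1 + d) rfl
        rw [← hy, ← Ext.comp_assoc _ _ _ (zero_add _) _ (by omega), ih, Ext.zero_comp]
    refine ⟨m, hnm, fun N _ _ i hi φ => ?_⟩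
    obtain ⟨d, rfl⟩ := Nat.exists_eq_add_of_le (show e + 1 ≤ i from hi)
    let x : Ext (Groth.Agent.LocCohBasic.QI I n) (ModuleCat.of A N) (e + 1 + d) := Ext.homEquiv.symm φ
    have hx : x.hom = φ := Ext.homEquiv.apply_symm_apply φ
    have h := congrArg Ext.hom (key d _ x)
    rw [Ext.comp_hom, Ext.mk₀_hom, ShiftedHom.mk₀_comp, hx, Ext.zero_hom] at h
    exact h)

end Groth.Agent.S1744
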