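import Groth.Statements.S17441
import Groth.Agent.RefDiv.Model
import Groth.Agent.CAlgH.ArtFlat
-- import your own Groth.Agent.* helpers here

set_option autoImplicit false
universe u
open CategoryTheory AlgebraicGeometry
open DefoSh

open scoped TensorProduct
namespace Groth.Agent.S17441

/-- Let k be a field, X a scheme over k, E an O_X-module and A a local Artinian k-algebra with residue
field k. If D and D′ are deformations of E over A (O_X-modules with an action of A, flat over A
stalkwise, with reductions π, π′ to E whose stalkwise kernels are m_A times the stalk), then every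
O_X-linear map φ : D.sheaf → D′.sheaf that commutes with the actions of A and satisfies φ ≫ π′ = π
is an isomorphism. The printed remark is the first-order case A = k[ε]; this row states it for every
local Artinian k-algebra A with residue field k. -/
theorem result (k : Type u) [Field k] (X : Scheme.{u})
    [X.Over (Spec (CommRingCat.of k))] (E : X.Modules) (A : ArtFun.Art k k)
    (D D' : DefoSh.Defo E A) (φ : D.sheaf ⟶ D'.sheaf)
    (hact : ∀ a : A, D.act a ≫ φ = φ ≫ D'.act a) (hπ : φ ≫ D'.π = D.π) :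
    IsIso φ := by
  have hlin : ∀ (p : X) (a : A) (v : ↑(D.sheaf.presheaf.stalk p)),
      RefHull.stalkMapₗ φ p (RefHull.stalkMapₗ (D.act a) p v) =
        RefHull.stalkMapₗ (D'.act a) p (RefHull.stalkMapₗ φ p v) := fun p a v => by
    rw [← DefoSh.stalkMapₗ_comp_apply, ← DefoSh.stalkMapₗ_comp_apply, hact]
  have hπp : ∀ (p : X) (v : ↑(D.sheaf.presheaf.stalk p)),
      RefHull.stalkMapₗ D'.π p (RefHull.stalkMapₗ φ p v) = RefHull.stalkMapₗ D.π p v := fun p v => by
    rw [← DefoSh.stalkMapₗ_comp_apply, hπ]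
  refine Groth.Agent.RefDiv.isIso_of_stalkMap_bijective φ fun p => ?_
  letI : Module A ↑(D.sheaf.presheaf.stalk p) := D.stalkMod p
  letI : Module A ↑(D'.sheaf.presheaf.stalk p) := D'.stalkMod p
  haveI : Module.Flat A ↑(D'.sheaf.presheaf.stalk p) := D'.flat p
  let f : ↑(D.sheaf.presheaf.stalk p) →ₗ[A] ↑(D'.sheaf.presheaf.stalk p) :=
    { toFun := RefHull.stalkMapₗ φ p
      map_add' := fun v w => map_add (RefHull.stalkMapₗ φ p) v w
      map_smul' := fun a v => hlin p a v }
  have hπ0 : ∀ w, w ∈ (IsLocalRing.maximalIdeal A • ⊤ : Submodule A ↑(D'.sheaf.presheaf.stalk p)) →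
      RefHull.stalkMapₗ D'.π p w = 0 := fun w hw => by
    refine Submodule.smul_induction_on hw (fun a ha z _ => ?_) fun x y hx hy => by rw [map_add, hx, hy, add_zero]
    change RefHull.stalkMapₗ D'.π p (RefHull.stalkMapₗ (D'.act a) p z) = 0
    rw [← DefoSh.stalkMapₗ_comp_apply, D'.act_π a ((ArtFun.Art.mem_maximalIdeal_iff A a).1 ha),
      DefoSh.stalkMapₗ_zero_apply]
  refine ⟨?_, ?_⟩
  · have h : CAlgH.ArtFlat.InjMod (IsLocalRing.maximalIdeal A) f := fun v hv => D.ker_le p v (by
      rw [← hπp]
      exact hπ0 _ hv)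
    have h1 := CAlgH.ArtFlat.lTensor_injective h A
    intro v w hvw
    have h2 := @h1 ((1 : A) ⊗ₜ[A] v) ((1 : A) ⊗ₜ[A] w) (by
      rw [LinearMap.lTensor_tmul, LinearMap.lTensor_tmul]
      exact congrArg ((1 : A) ⊗ₜ[A] ·) hvw)
    simpa using congrArg (TensorProduct.lid A ↑(D.sheaf.presheaf.stalk p)) h2
  · have hstep : ∀ n (w : ↑(D'.sheaf.presheaf.stalk p)), ∃ v,
        w - f v ∈ (IsLocalRing.maximalIdeal A ^ n • ⊤ : Submodule A ↑(D'.sheaf.presheaf.stalk p)) := by
      intro n
      induction n with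
      | zero => exact fun w => ⟨0, by rw [pow_zero, Submodule.one_smul]; trivial⟩
      | succ n ih =>
        intro w
        obtain ⟨v, hv⟩ := D.surj p (RefHull.stalkMapₗ D'.π p w)
        have h0 := D'.ker_le p (w - f v) (by
          rw [map_sub, sub_eq_zero]
          exact ((hπp p v).trans hv).symm)
        suffices ∀ z ∈ (IsLocalRing.maximalIdeal A • ⊤ : Submodule A ↑(D'.sheaf.presheaf.stalk p)),
            ∃ v, z - f v ∈ (IsLocalRing.maximalIdeal A ^ (n + 1) • ⊤ : Submodule A ↑(D'.sheaf.presheaf.stalk p)) by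
          obtain ⟨v', hv'⟩ := this _ h0
          exact ⟨v + v', by rw [map_add, ← sub_sub]; exact hv'⟩
        intro z hz
        refine Submodule.smul_induction_on hz (fun a ha z _ => ?_) fun x y ⟨vx, hx⟩ ⟨vy, hy⟩ =>
          ⟨vx + vy, by rw [map_add, add_sub_add_comm]; exact add_mem hx hy⟩
        obtain ⟨v, hv⟩ := ih z
        refine ⟨a • v, ?_⟩
        rw [map_smul, ← smul_sub, pow_succ', Submodule.mul_smul]
        exact Submodule.smul_mem_smul ha hv
    obtain ⟨N, hN⟩ := (isArtinianRing_iff_isNilpotent_maximalIdeal A).mp A.isArtinianRing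
    intro w
    obtain ⟨v, hv⟩ := hstep N w
    rw [hN, Submodule.zero_eq_bot, Submodule.bot_smul, Submodule.mem_bot, sub_eq_zero] at hv
    exact ⟨v, hv.symm⟩

end Groth.Agent.S17441
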