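import Groth.Statements.S17447
import Groth.Agent.Hensel.Split
import Mathlib.AlgebraicGeometry.Morphisms.Finite
import Mathlib.AlgebraicGeometry.ZariskisMainTheorem
import Mathlib.RingTheory.Localization.Away.Lemmas

set_option autoImplicit false
universe u
open CategoryTheory CategoryTheory.Limits AlgebraicGeometry
open Hensel

namespace Groth.Agent.S17447

/-- Let R be a henselian local ring and X → Spec R a quasi-finite separated morphism (locally of finite
type, quasi-compact, with discrete fibres). Then X decomposes uniquely as the disjoint union of an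
open and closed subscheme finite over Spec R and an open and closed subscheme with empty special
fibre: there is exactly one open subset W of X which is closed, finite over Spec R (as an open
subscheme) and contains every point lying over the closed point of Spec R. (No Noetherian hypothesis
on R.) -/
theorem result (R : Type u) [CommRing R] [HenselianLocalRing R]
    {X : Scheme.{u}} (f : X ⟶ Spec (CommRingCat.of R))
    [LocallyQuasiFinite f] [LocallyOfFiniteType f] [QuasiCompact f] [IsSeparated f] :
    ∃! W : X.Opens, IsClosed (W : Set X) ∧ IsFinite (W.ι ≫ f) ∧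
      ∀ x : X, f.base x = IsLocalRing.closedPoint R → x ∈ W := by
  classical
  let c := IsLocalRing.closedPoint R
  have hloc : ∀ x : X, f x = c → ∃ (Z : Scheme.{u}) (j : Z ⟶ X), IsOpenImmersion j ∧ IsFinite (j ≫ f) ∧ x ∈ Set.range j := by
    intro x hx
    obtain ⟨_, ⟨U, hU : IsAffineOpen U, rfl⟩, hxU, -⟩ :=
      X.isBasis_affineOpens.exists_subset_of_mem_open (Set.mem_univ x) isOpen_univ
    let φ : CommRingCat.of R ⟶ Γ(X, U) := Spec.preimage (hU.fromSpec ≫ f)
    have hφ : Spec.map φ = hU.fromSpec ≫ f := Spec.map_preimage _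
    have hft : φ.hom.FiniteType := by
      rw [← HasRingHomProperty.Spec_iff (P := @LocallyOfFiniteType), hφ]; infer_instance
    have hqf : φ.hom.QuasiFinite := by
      rw [← HasRingHomProperty.Spec_iff (P := @LocallyQuasiFinite), hφ]; infer_instance
    algebraize [φ.hom]
    have hft' : Algebra.FiniteType R Γ(X, U) := hft
    have hqf' : Algebra.QuasiFinite R Γ(X, U) := hqf
    obtain ⟨q, hq⟩ : x ∈ Set.range hU.fromSpec := hU.range_fromSpec.symm ▸ hxU
    have hqm : q.asIdeal.comap (algebraMap R Γ(X, U)) = IsLocalRing.maximalIdeal R := by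
      have : (Spec.map φ) q = IsLocalRing.closedPoint R := by
        rw [hφ, Scheme.Hom.comp_apply, hq]; exact hx
      exact congrArg PrimeSpectrum.asIdeal this
    obtain ⟨e, he, hfin, hmem, -⟩ := Groth.Agent.Hensel.exists_idem_split (R := R) (S := Γ(X, U))
    have heq : e ∉ q.asIdeal := hmem q ⟨hqm.symm⟩ inferInstance
    haveI : IsLocalization.Away e (Γ(X, U) ⧸ Ideal.span ({1 - e} : Set Γ(X, U))) :=
      IsLocalization.Away.quotient_of_isIdempotentElem he
    let π : Γ(X, U) ⟶ CommRingCat.of (Γ(X, U) ⧸ Ideal.span ({1 - e} : Set Γ(X, U))) :=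
      CommRingCat.ofHom (algebraMap _ _)
    haveI : IsOpenImmersion (Spec.map π) := IsOpenImmersion.of_isLocalization e
    refine ⟨_, Spec.map π ≫ hU.fromSpec, inferInstance, ?_, ?_⟩
    · rw [CategoryTheory.Category.assoc, ← hφ, ← Spec.map_comp, IsFinite.SpecMap_iff]
      exact RingHom.finite_algebraMap.2 hfin
    · obtain ⟨q', hq'⟩ := (PrimeSpectrum.localization_away_comap_range
        (Γ(X, U) ⧸ Ideal.span ({1 - e} : Set Γ(X, U))) e).ge heq
      exact ⟨q', (congrArg hU.fromSpec hq').trans hq⟩
  have hunion : ∀ s : Finset X, (∀ x ∈ s, f x = c) → ∃ (Z : Scheme.{u}) (k : Z ⟶ X),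
      IsFinite (k ≫ f) ∧ IsOpen (Set.range k) ∧ ↑s ⊆ Set.range k := by
    intro s
    induction s using Finset.induction_on with
    | empty =>
      intro _
      refine ⟨(∅ : Scheme.{u}), Scheme.emptyTo X, ?_, ?_, by simp⟩
      · infer_instance
      · exact (Scheme.emptyTo X).isOpenEmbedding.isOpen_range
    | insert a s ha ih =>
      intro hs
      obtain ⟨Z, k, hk, hko, hks⟩ := ih fun x hx => hs x (Finset.mem_insert_of_mem hx)
      obtain ⟨Z', j, hj, hjf, haj⟩ := hloc a (hs a (Finset.mem_insert_self _ _))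
      haveI := hk; haveI := hjf
      have hr : Set.range (CategoryTheory.Limits.coprod.desc k j) = Set.range k ∪ Set.range j := by
        apply le_antisymm
        · rintro _ ⟨z, rfl⟩
          obtain ⟨z, rfl⟩ := (coprodMk Z Z').surjective z
          rcases z with z | z
          · left
            exact ⟨z, by rw [coprodMk_inl, ← Scheme.Hom.comp_apply, CategoryTheory.Limits.coprod.inl_desc]⟩
          · right
            exact ⟨z, by rw [coprodMk_inr, ← Scheme.Hom.comp_apply, CategoryTheory.Limits.coprod.inr_desc]⟩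
        · rintro _ (⟨z, rfl⟩ | ⟨z, rfl⟩)
          · exact ⟨CategoryTheory.Limits.coprod.inl (C := Scheme.{u}) (X := Z) (Y := Z') z, by rw [← Scheme.Hom.comp_apply, CategoryTheory.Limits.coprod.inl_desc]⟩
          · exact ⟨CategoryTheory.Limits.coprod.inr (C := Scheme.{u}) (X := Z) (Y := Z') z, by rw [← Scheme.Hom.comp_apply, CategoryTheory.Limits.coprod.inr_desc]⟩
      refine ⟨Z ⨿ Z', CategoryTheory.Limits.coprod.desc k j, ?_, ?_, ?_⟩
      · rw [CategoryTheory.Limits.coprod.desc_comp]
        infer_instance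
      · rw [hr]; exact hko.union j.isOpenEmbedding.isOpen_range
      · rw [hr]
        intro x hx
        rcases Finset.mem_insert.1 hx with rfl | hx
        · exact Or.inr haj
        · exact Or.inl (hks hx)
  have hF := f.finite_preimage_singleton c
  obtain ⟨Z, k, hk, hko, hks⟩ := hunion hF.toFinset (fun x hx => hF.mem_toFinset.1 hx)
  haveI := hk
  let W : X.Opens := ⟨Set.range k, hko⟩
  haveI : IsClosedImmersion (𝟙 X) := inferInstance
  haveI : IsProper k := IsProper.of_comp k f
  have hWc : IsClosed (W : Set X) := k.isClosedMap.isClosed_range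
  let k' : Z ⟶ W.toScheme := IsOpenImmersion.lift W.ι k (by rw [Scheme.Opens.range_ι]; exact le_rfl)
  have hk' : k' ≫ W.ι = k := IsOpenImmersion.lift_fac _ _ _
  haveI : Surjective k' := ⟨fun w => by
    obtain ⟨z, hz⟩ := w.2
    exact ⟨z, W.ι.isOpenEmbedding.injective (by rw [← Scheme.Hom.comp_apply, hk']; exact hz)⟩⟩
  have hWfin : IsFinite (W.ι ≫ f) := by
    haveI : UniversallyClosed (k' ≫ W.ι ≫ f) := by
      rw [← CategoryTheory.Category.assoc, hk']; infer_instance
    haveI := UniversallyClosed.of_comp_surjective k' (W.ι ≫ f)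
    haveI : IsProper (W.ι ≫ f) := ⟨⟩
    exact (IsFinite.iff_isProper_and_locallyQuasiFinite _).2 ⟨inferInstance, inferInstance⟩
  have hmem : ∀ x : X, f x = c → x ∈ W := fun x hx => hks (hF.mem_toFinset.2 hx)
  refine ⟨W, ⟨hWc, hWfin, hmem⟩, ?_⟩
  have key : ∀ A B : X.Opens, IsFinite (A.ι ≫ f) → IsClosed (B : Set X) →
      (∀ x : X, f x = c → x ∈ B) → A ≤ B := by
    intro A B hA hB hBm a ha
    by_contra hab
    let C : Set A.toScheme := (A.ι ⁻¹' (B : Set X))ᶜ
    haveI := hA
    have hC : IsClosed C := (B.isOpen.preimage A.ι.continuous).isClosed_compl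
    have himg : IsClosed ((A.ι ≫ f) '' C) := (A.ι ≫ f).isClosedMap C hC
    have hne : ((A.ι ≫ f) '' C).Nonempty := ⟨_, ⟨⟨a, ha⟩, hab, rfl⟩⟩
    obtain ⟨y, hy⟩ := hne
    have hs : y ⤳ c := (PrimeSpectrum.le_iff_specializes y c).1 (IsLocalRing.le_maximalIdeal y.isPrime.ne_top)
    obtain ⟨z, hz, hzc⟩ := hs.mem_closed himg hy
    exact hz (hBm _ hzc)
  rintro W' ⟨hW'c, hW'f, hW'm⟩
  exact le_antisymm (key W' W hW'f hWc hmem) (key W W' hWfin hW'c hW'm)

end Groth.Agent.S17447
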