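import Groth.Statements.S5038
import Groth.Agent.Hensel.SmoothLift
import Groth.Agent.Hensel.Local
import Mathlib.AlgebraicGeometry.Morphisms.Smooth

set_option autoImplicit false
open CategoryTheory AlgebraicGeometry
universe u
open Hensel

namespace Groth.Agent.S5038

/-- Let A be a henselian local ring with residue field k, S = Spec A, and f : X ⟶ S a smooth morphism.
Then the map from sections of f to k-points of the closed fibre is surjective: every u₀ : Spec k ⟶ X
lying over the closed point extends to a section u of f. -/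
theorem result (A : Type u) [CommRing A] [HenselianLocalRing A]
    {X : Scheme.{u}} (f : X ⟶ Spec (CommRingCat.of A)) [Smooth f]
    (u₀ : Spec (CommRingCat.of (IsLocalRing.ResidueField A)) ⟶ X)
    (h₀ : u₀ ≫ f = Spec.map (CommRingCat.ofHom (IsLocalRing.residue A))) :
    ∃ u : Spec (CommRingCat.of A) ⟶ X, u ≫ f = 𝟙 _ ∧
      Spec.map (CommRingCat.ofHom (IsLocalRing.residue A)) ≫ u = u₀ := by
  let x : X := u₀ (IsLocalRing.closedPoint (IsLocalRing.ResidueField A))
  obtain ⟨_, ⟨U, hU : IsAffineOpen U, rfl⟩, hxU, -⟩ :=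
    X.isBasis_affineOpens.exists_subset_of_mem_open (Set.mem_univ x) isOpen_univ
  have hsub : Set.range u₀ ⊆ Set.range hU.fromSpec := by
    rw [hU.range_fromSpec]
    rintro _ ⟨y, rfl⟩
    have : y = IsLocalRing.closedPoint (IsLocalRing.ResidueField A) := Subsingleton.elim _ _
    rw [this]
    exact hxU
  let u' := IsOpenImmersion.lift hU.fromSpec u₀ hsub
  let φ : CommRingCat.of A ⟶ Γ(X, U) := Spec.preimage (hU.fromSpec ≫ f)
  have hφ : Spec.map φ = hU.fromSpec ≫ f := Spec.map_preimage _
  have hsm : φ.hom.Smooth := by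
    rw [← HasRingHomProperty.Spec_iff (P := @Smooth), hφ]
    infer_instance
  let σ₀ : Γ(X, U) ⟶ CommRingCat.of (IsLocalRing.ResidueField A) := Spec.preimage u'
  have hσ₀ : Spec.map σ₀ ≫ hU.fromSpec = u₀ := by
    rw [Spec.map_preimage]; exact IsOpenImmersion.lift_fac _ _ _
  have hcomp : φ ≫ σ₀ = CommRingCat.ofHom (IsLocalRing.residue A) := by
    apply Spec.map_injective
    rw [Spec.map_comp, hφ, ← CategoryTheory.Category.assoc, hσ₀, h₀]
  algebraize [φ.hom]
  have hsm' : Algebra.Smooth A Γ(X, U) := hsm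
  let σ : Γ(X, U) →ₐ[A] A ⧸ IsLocalRing.maximalIdeal A :=
    { σ₀.hom with commutes' := fun a => congrArg (fun g => g.hom a) hcomp }
  haveI : HenselianRing A (IsLocalRing.maximalIdeal A) :=
    Groth.Agent.Hensel.henselianLocalRing_iff_henselianRing.1 inferInstance
  obtain ⟨τ, hτ⟩ := Groth.Agent.Hensel.exists_algHom_lift_of_smooth σ
  refine ⟨Spec.map (CommRingCat.ofHom τ.toRingHom) ≫ hU.fromSpec, ?_, ?_⟩
  · rw [CategoryTheory.Category.assoc, ← hφ, ← Spec.map_comp, ← Spec.map_id]
    congr 1
    ext a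
    exact τ.commutes a
  · rw [← CategoryTheory.Category.assoc, ← Spec.map_comp, ← hσ₀]
    congr 2
    ext b
    exact AlgHom.congr_fun hτ b

end Groth.Agent.S5038
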