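import Groth.Statements.S5255
import Groth.Agent.MultHopf.NormalCentral
import Groth.Agent.MultHopf.CentralRigid
import Mathlib.AlgebraicGeometry.EffectiveEpi
-- import your own Groth.Agent.* helpers here

set_option autoImplicit false
open CategoryTheory MonoidalCategory CartesianMonoidalCategory MonObj GrpObj AlgebraicGeometry
universe u
open SGA3x

namespace Groth.Agent.S5255

open Groth.Agent.MultHopf Limits
open scoped TensorProduct

theorem eq_over_field {S : Scheme.{u}} {K H : Over S} [GrpObj K] [GrpObj H] (i : H ⟶ K) [IsMonHom i] [Mono i]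
    (hloc : IsMultTypeLoc H) [GeometricallyConnected K.hom] (hn : AlgGrp.IsNormalHom i)
    (k : Type u) [Field k] (j₀ : Spec (CommRingCat.of k) ⟶ S) (Z : Over (Spec (CommRingCat.of k)))
    (g₀ : (Over.map j₀).obj Z ⟶ K) (h₀ : (Over.map j₀).obj Z ⟶ H) : g₀ * (h₀ ≫ i) = (h₀ ≫ i) * g₀ := by
  obtain ⟨R', _, _, _, -, M, _, ⟨eR⟩⟩ := exists_split H hloc j₀
  let L := IsLocalRing.ResidueField R'
  let : Algebra k L := ((algebraMap R' L).comp (algebraMap k R')).toAlgebra
  let jR : Spec (CommRingCat.of R') ⟶ S := Spec.map (CommRingCat.ofHom (algebraMap k R')) ≫ j₀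
  let gL : Spec (CommRingCat.of L) ⟶ Spec (CommRingCat.of R') := Spec.map (CommRingCat.ofHom (algebraMap R' L))
  let q : Spec (CommRingCat.of L) ⟶ Spec (CommRingCat.of k) := Spec.map (CommRingCat.ofHom (algebraMap k L))
  let j : Spec (CommRingCat.of L) ⟶ S := q ≫ j₀
  have hj : j = gL ≫ jR := by
    show q ≫ j₀ = gL ≫ Spec.map _ ≫ j₀
    rw [← Category.assoc, ← Spec.map_comp]
    rfl
  let eA : Grp.mk (Red.bc j H) ≅ Grp.mk (hspec L (MonoidAlgebra L M)) :=
    bcCongr hj H ≪≫ bcComp gL jR H ≪≫ bcIso gL eR ≪≫ bcSpec R' L (MonoidAlgebra R' M) ≪≫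
      hspecIso (baseChangeGroupAlgebra R' L M).symm
  have : GeometricallyConnected (Red.bc j K).hom := inferInstanceAs (GeometricallyConnected (pullback.snd K.hom j))
  have : Subsingleton (Spec (CommRingCat.of L)) := inferInstanceAs (Subsingleton (PrimeSpectrum L))
  have : Nonempty (Spec (CommRingCat.of L)) := inferInstanceAs (Nonempty (PrimeSpectrum L))
  have : ConnectedSpace (Red.bc j K).left := GeometricallyConnected.connectedSpace_of_subsingleton (Red.bc j K).hom
  let p := pullback.fst Z.hom q
  let T' : Over S := Over.mk (pullback.snd Z.hom q ≫ j)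
  let π : T' ⟶ (Over.map j₀).obj Z := Over.homMk p (by
    show p ≫ Z.hom ≫ j₀ = pullback.snd Z.hom q ≫ q ≫ j₀
    rw [← Category.assoc, pullback.condition, Category.assoc])
  have : Flat q := Flat.SpecMap_iff.2 (RingHom.flat_algebraMap_iff.2 inferInstance)
  have : Subsingleton (Spec (CommRingCat.of k)) := inferInstanceAs (Subsingleton (PrimeSpectrum k))
  have : Surjective q := ⟨fun x => ⟨IsLocalRing.closedPoint L, Subsingleton.elim _ _⟩⟩
  have : Epi π.left := Flat.epi_of_flat_of_surjective p
  have : Epi π := (Over.forget S).epi_of_epi_map (inferInstanceAs (Epi π.left))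
  rw [← cancel_epi π]
  refine hom_ext_pieces j (pullback.snd Z.hom q) rfl _ _ fun C _ _ ρ _ => ?_
  simp only [MonObj.comp_mul, ← Category.assoc]
  exact conjugate_eq_of_connected j i eA hn _ _

/-- Let K be an S-group locally of finite type over S whose fibres are connected, and i : H ⟶ K a
subgroup scheme of multiplicative type and of finite type which is normal in K. Then H is central in
K: for every S-scheme X, every X-point of K commutes with (the image of) every X-point of H. -/
theorem result {S : Scheme.{u}} (K H : Over S) [GrpObj K] [GrpObj H]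
    [LocallyOfFiniteType K.hom] (hconn : ∀ s : S, ConnectedSpace ↥(Limits.pullback K.hom (S.fromSpecResidueField s)))
    (i : H ⟶ K) [IsMonHom i] [Mono i] (hH : SGA3x.IsMultTypeFT H) (hn : AlgGrp.IsNormalHom i) :
    ∀ (X : Over S) (k : X ⟶ K) (h : X ⟶ H), k * (h ≫ i) = (h ≫ i) * k := by
  have hloc : IsMultTypeLoc H := by
    obtain ⟨S', f, h1, h2, h3, h4⟩ := hH
    refine ⟨S', f, h1, h2, h3, fun s' => ?_⟩
    obtain ⟨U, hU, M, iM, -, e⟩ := h4 s'
    exact ⟨U, hU, M, iM, e⟩
  have : GeometricallyConnected K.hom := Groth.Agent.GrpSch.FixedEtale.geometricallyConnected_of_connected K hconn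
  refine fun X k h => commute_of_fibres i hH (fun s Z g h => ?_) X k h
  obtain ⟨g₀, rfl⟩ := (adjMulEquiv (S.fromSpecResidueField s) Z K).surjective g
  obtain ⟨h₀, rfl⟩ := (adjMulEquiv (S.fromSpecResidueField s) Z H).surjective h
  rw [← adjMulEquiv_comp (w := i), ← map_mul, ← map_mul]
  exact congrArg _ (eq_over_field i hloc hn (S.residueField s) (S.fromSpecResidueField s) Z g₀ h₀)

end Groth.Agent.S5255
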