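import Groth.Statements.S17451
import Groth.Agent.S5255
import Groth.Agent.GrpSch.Desc
import Groth.Agent.GrpSch.ExtSection
import Groth.Agent.GrpSch.AbRigid
import Groth.Agent.GrpSch.SmoothGeomRed

set_option backward.isDefEq.respectTransparency.types false

set_option autoImplicit false
universe u
open CategoryTheory MonoidalCategory CartesianMonoidalCategory MonObj GrpObj AlgebraicGeometry CategoryTheory.Limits
open AlgGrp

namespace Groth.Agent.S17451

lemma geomConn {K : Type u} [Field K] (X : Over (Spec (CommRingCat.of K))) [GrpObj X] [LocallyOfFiniteType X.hom]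
    [ConnectedSpace X.left] : GeometricallyConnected X.hom := by
  haveI : Subsingleton (Spec (CommRingCat.of K)) := inferInstanceAs (Subsingleton (PrimeSpectrum K))
  refine GrpSch.FixedEtale.geometricallyConnected_of_connected X fun s => ?_
  haveI : ConnectedSpace ↥(X.hom ⁻¹' {s}) := by
    have e : X.hom ⁻¹' {s} = Set.univ := Set.eq_univ_of_forall fun x => Subsingleton.elim _ _
    rw [e]
    exact (Homeomorph.Set.univ X.left).symm.surjective.connectedSpace (Homeomorph.Set.univ X.left).symm.continuous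
  exact (X.hom.fiberHomeo s).symm.surjective.connectedSpace (X.hom.fiberHomeo s).symm.continuous

lemma comm_of_algClosed {K : Type u} [Field K] (G T A : Over (Spec (CommRingCat.of K))) [GrpObj G] [GrpObj T] [GrpObj A]
    [Smooth G.hom] [QuasiCompact G.hom] [GeometricallyConnected G.hom]
    [IsProper A.hom] [Smooth A.hom] [ConnectedSpace A.left]
    (i : T ⟶ G) [IsMonHom i] [IsClosedImmersion i.left] (hT : Red.IsTorus T)
    (q : G ⟶ A) [IsMonHom q] [Surjective q.left] [Flat q.left] (hker : AlgGrp.IsKernel i q) : IsCommMonObj G := by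
  haveI : Mono i.left := inferInstance
  haveI : Mono i := (Over.forget _).mono_of_mono_map (inferInstanceAs (Mono i.left))
  haveI : GeometricallyConnected A.hom := geomConn A
  haveI : IsCommMonObj A := GrpSch.AbRigid.isCommMonObj A
  have hloc : MultHopf.IsMultTypeLoc T := by
    obtain ⟨S', f, h1, h2, h3, h4⟩ := hT
    refine ⟨S', f, h1, h2, h3, fun s' => ?_⟩
    obtain ⟨U, hU, r, e⟩ := h4 s'
    exact ⟨U, hU, Fin r → ℤ, inferInstance, e⟩
  haveI : IsAffineHom T.hom := MultHopf.isAffineHom_of_isMultTypeLoc T hloc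
  haveI : IsAffine T.left := isAffine_of_isAffineHom T.hom
  have hlift : ∀ (Z : Over (Spec (CommRingCat.of K))) (z : Z ⟶ G), z ≫ q = 1 → ∃ t : Z ⟶ T, t ≫ i = z := by
    intro Z z hz
    exact ⟨hker.lift z (toUnit Z) (by rw [hz, Hom.one_def]), hker.lift_fst _ _ _⟩
  have hiq : i ≫ q = 1 := by rw [hker.w, Hom.one_def]
  have hn : AlgGrp.IsNormalHom i := by
    intro Z g n
    obtain ⟨n', hn'⟩ := hlift Z (g * (n ≫ i) * g⁻¹) (by
      rw [MonObj.mul_comp, MonObj.mul_comp, Category.assoc, hiq, MonObj.comp_one, _root_.mul_one, GrpObj.inv_comp,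
        mul_inv_cancel])
    exact ⟨n', hn'.symm⟩
  have hcent : ∀ (Z : Over (Spec (CommRingCat.of K))) (g : Z ⟶ G) (n : Z ⟶ T), g * (n ≫ i) = (n ≫ i) * g := by
    intro Z g n
    let π : (Over.map (𝟙 (Spec (CommRingCat.of K)))).obj Z ≅ Z := Over.isoMk (Iso.refl _) (by simp)
    rw [← cancel_epi π.hom]
    simp only [MonObj.comp_mul, ← Category.assoc]
    exact S5255.eq_over_field i hloc hn K (𝟙 _) Z _ _
  let c : G ⊗ G ⟶ G := fst G G * snd G G * (fst G G)⁻¹ * (snd G G)⁻¹
  have hcq : c ≫ q = 1 := by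
    simp only [c, MonObj.mul_comp, GrpObj.inv_comp]
    letI : CommGroup (G ⊗ G ⟶ A) := inferInstance
    generalize fst G G ≫ q = a, snd G G ≫ q = b
    rw [mul_comm a b]; group
  obtain ⟨c', hc'⟩ := hlift _ c hcq
  haveI : QuasiCompact q.left :=
    HasAffineProperty.iff_of_isAffine (P := @QuasiCompact) |>.mp (inferInstance : QuasiCompact G.hom) |> fun h => by
      haveI : QuasiCompact (q.left ≫ A.hom) := by rw [Over.w q]; infer_instance
      exact QuasiCompact.of_comp q.left A.hom
  haveI : Flat (q ⊗ₘ q).left := by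
    rw [MonoidalCategory.tensorHom_def, Over.comp_left]
    haveI : Flat (q ▷ G).left := GrpSch.Desc.whiskerRight_prop G q ‹_›
    haveI : Flat (A ◁ q).left := GrpSch.Desc.whiskerLeft_prop A q ‹_›
    infer_instance
  haveI : Surjective (q ⊗ₘ q).left := by
    rw [MonoidalCategory.tensorHom_def, Over.comp_left]
    haveI : Surjective (q ▷ G).left := GrpSch.Desc.whiskerRight_prop G q ‹_›
    haveI : Surjective (A ◁ q).left := GrpSch.Desc.whiskerLeft_prop A q ‹_›
    infer_instance
  haveI : QuasiCompact (q ⊗ₘ q).left := by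
    rw [MonoidalCategory.tensorHom_def, Over.comp_left]
    haveI : QuasiCompact (q ▷ G).left := GrpSch.Desc.whiskerRight_prop G q ‹_›
    haveI : QuasiCompact (A ◁ q).left := GrpSch.Desc.whiskerLeft_prop A q ‹_›
    infer_instance
  have hval : ∀ (Z : Over (Spec (CommRingCat.of K))) (w : Z ⟶ G ⊗ G), w ≫ c =
      (w ≫ fst G G) * (w ≫ snd G G) * (w ≫ fst G G)⁻¹ * (w ≫ snd G G)⁻¹ := fun Z w => by
    simp only [c, MonObj.comp_mul, GrpObj.comp_inv]
  obtain ⟨d, hd, -⟩ := GrpSch.Desc.exists_desc (q ⊗ₘ q) c' (fun Z a b hab => by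
    rw [← cancel_mono i, Category.assoc, Category.assoc, hc', hval, hval]
    have h1 : ∀ (p : G ⊗ G ⟶ G), (a ≫ p) ≫ q = (b ≫ p) ≫ q →
        ∃ t : Z ⟶ T, b ≫ p = (a ≫ p) * (t ≫ i) := by
      intro p hp
      obtain ⟨t, ht⟩ := hlift Z ((a ≫ p)⁻¹ * (b ≫ p)) (by
        rw [MonObj.mul_comp, GrpObj.inv_comp, hp, inv_mul_cancel])
      exact ⟨t, by rw [ht, mul_inv_cancel_left]⟩
    obtain ⟨t, ht⟩ := h1 (fst G G) (by simpa [Category.assoc] using congrArg (fun w => w ≫ fst A A) hab)
    obtain ⟨s, hs⟩ := h1 (snd G G) (by simpa [Category.assoc] using congrArg (fun w => w ≫ snd A A) hab)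
    rw [ht, hs]
    have ct : ∀ g : Z ⟶ G, Commute (t ≫ i) g := fun g => (hcent Z g t).symm
    have cs : ∀ g : Z ⟶ G, Commute (s ≫ i) g := fun g => (hcent Z g s).symm
    generalize a ≫ fst G G = x, a ≫ snd G G = y
    generalize t ≫ i = u at ct
    generalize s ≫ i = v at cs
    symm
    calc x * u * (y * v) * (x * u)⁻¹ * (y * v)⁻¹
        = x * (u * (y * v)) * u⁻¹ * x⁻¹ * (y * v)⁻¹ := by group
      _ = x * ((y * v) * u) * u⁻¹ * x⁻¹ * (y * v)⁻¹ := by rw [(ct (y * v)).eq]
      _ = x * y * (v * x⁻¹) * (y * v)⁻¹ := by group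
      _ = x * y * (x⁻¹ * v) * (y * v)⁻¹ := by rw [(cs x⁻¹).eq]
      _ = x * y * x⁻¹ * y⁻¹ := by group)
  haveI : GeometricallyReduced A.hom := inferInstance
  haveI : IsProper (A ⊗ A).hom := inferInstanceAs (IsProper (pullback.fst A.hom A.hom ≫ A.hom))
  haveI : ConnectedSpace (A ⊗ A).left := inferInstanceAs (ConnectedSpace ↥(pullback A.hom A.hom))
  haveI : Smooth (A ⊗ A).hom := inferInstanceAs (Smooth (pullback.fst A.hom A.hom ≫ A.hom))
  haveI : AlgebraicGeometry.IsReduced (A ⊗ A).left :=
    SmoothReduced.isReduced_of_smooth_scheme (A ⊗ A).hom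
  let σ : 𝟙_ (Over (Spec (CommRingCat.of K))) ⟶ A ⊗ A := lift η[G] η[G] ≫ (q ⊗ₘ q)
  have hconst := GrpSch.ExtSection.eq_const σ d
  have hc1 : c = 1 := by
    have h0 : lift η[G] η[G] ≫ c = 1 := by
      rw [hval, lift_fst, lift_snd, show η[G] = (1 : 𝟙_ (Over (Spec (CommRingCat.of K))) ⟶ G) by
        rw [Hom.one_def, toUnit_unit, Category.id_comp]]
      simp
    rw [← hc', ← hd, hconst]
    simp only [σ, Category.assoc]
    rw [reassoc_of% hd, hc', h0]
    simp
  refine ⟨?_⟩
  have h2 : fst G G * snd G G = snd G G * fst G G := by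
    simp only [c] at hc1
    rwa [mul_inv_eq_one, mul_inv_eq_iff_eq_mul] at hc1
  rw [Hom.mul_def, Hom.mul_def, lift_fst_snd, Category.id_comp] at h2
  rw [show (β_ G G).hom = lift (snd G G) (fst G G) by apply CartesianMonoidalCategory.hom_ext <;> simp]
  exact h2.symm

/-- Let k be a field with algebraic closure K and G a smooth connected k-group scheme of finite type,
not assumed commutative, whose base change G_K has a torus as a subgroup with an abelian variety as
the quotient: there are a closed subgroup scheme T of G_K which is a torus and a flat surjective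
homomorphism from G_K onto a proper smooth connected K-group scheme with kernel T. Then G is
commutative. (The published result also asserts that G then has, over k itself, a unique torus
subgroup with abelian-variety quotient of this kind; only commutativity is stated here.) -/
theorem result (k : Type u) [Field k]
    (G : Over (Spec (CommRingCat.of k))) [GrpObj G] [Smooth G.hom] [QuasiCompact G.hom] [ConnectedSpace ↥G.left]
    (hK : (∃ (T : Over (Spec (CommRingCat.of (AlgebraicClosure k)))) (_ : GrpObj T) (i : T ⟶ Red.bc (Spec.map (CommRingCat.ofHom (algebraMap k (AlgebraicClosure k)))) G) (A : Over (Spec (CommRingCat.of (AlgebraicClosure k)))) (_ : GrpObj A) (q : Red.bc (Spec.map (CommRingCat.ofHom (algebraMap k (AlgebraicClosure k)))) G ⟶ A),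
        IsMonHom i ∧ IsClosedImmersion i.left ∧ Red.IsTorus T ∧ IsMonHom q ∧ Surjective q.left ∧ Flat q.left ∧
        AlgGrp.IsKernel i q ∧ IsProper A.hom ∧ Smooth A.hom ∧ ConnectedSpace ↥A.left)) :
    IsCommMonObj G := by
  obtain ⟨T, iT, i, A, iA, q, hi, hci, hT, hq, hsq, hfq, hker, hp, hs, hc⟩ := hK
  haveI : GeometricallyConnected G.hom := geomConn G
  let φ := CommRingCat.ofHom (algebraMap k (AlgebraicClosure k))
  let s := Spec.map φ
  haveI : Smooth (Red.bc s G).hom := inferInstanceAs (Smooth (pullback.snd G.hom s))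
  haveI : QuasiCompact (Red.bc s G).hom := inferInstanceAs (QuasiCompact (pullback.snd G.hom s))
  haveI : GeometricallyConnected (Red.bc s G).hom := inferInstanceAs (GeometricallyConnected (pullback.snd G.hom s))
  haveI := comm_of_algClosed (Red.bc s G) T A i hT q hker
  refine ⟨?_⟩
  have hF : (Over.pullback s).map ((β_ G G).hom ≫ μ[G]) = (Over.pullback s).map μ[G] := by
    rw [← cancel_epi (Functor.LaxMonoidal.μ (Over.pullback s) G G), Functor.map_comp]
    rw [← Category.assoc, Functor.LaxBraided.braided, Category.assoc]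
    exact IsCommMonObj.mul_comm (Red.bc s G)
  have e := congrArg (fun k => CommaMorphism.left k ≫ pullback.fst G.hom s) hF
  simp only [Over.pullback_map_left, pullback.lift_fst] at e
  haveI : Flat s := Flat.SpecMap_iff.2 (RingHom.flat_algebraMap_iff.2 inferInstance)
  haveI : Surjective s := ⟨fun x => ⟨IsLocalRing.closedPoint (AlgebraicClosure k), Subsingleton.elim (α := PrimeSpectrum k) _ _⟩⟩
  haveI : Epi (pullback.fst (G ⊗ G).hom s) := Flat.epi_of_flat_of_surjective _
  ext1
  exact (cancel_epi (pullback.fst (G ⊗ G).hom s)).mp e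

end Groth.Agent.S17451
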