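import Groth.Statements.S17461
import Mathlib.AlgebraicGeometry.Morphisms.Finite

set_option autoImplicit false
universe u
open CategoryTheory CategoryTheory.Limits AlgebraicGeometry
open Hensel

namespace Groth.Agent.S17461

/-- Let R be a henselian local ring and let X and Y be quasi-finite separated schemes over Spec R
(locally of finite type, quasi-compact, with discrete fibres, separated). Let W_X ⊆ X and W_Y ⊆ Y be
their finite parts: open and closed subsets which are finite over Spec R as open subschemes and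
contain every point over the closed point. Then every morphism g : X → Y over Spec R carries W_X
into W_Y. -/
theorem result (R : Type u) [CommRing R] [HenselianLocalRing R]
    {X Y : Scheme.{u}} (f : X ⟶ Spec (CommRingCat.of R)) (f' : Y ⟶ Spec (CommRingCat.of R))
    [LocallyQuasiFinite f] [LocallyOfFiniteType f] [QuasiCompact f] [IsSeparated f]
    [LocallyQuasiFinite f'] [LocallyOfFiniteType f'] [QuasiCompact f'] [IsSeparated f']
    (WX : X.Opens) (hWX : (IsClosed (WX : Set ↥X) ∧ IsFinite (WX.ι ≫ f) ∧ ∀ x : ↥X, f.base x = IsLocalRing.closedPoint R → x ∈ WX))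
    (WY : Y.Opens) (hWY : (IsClosed (WY : Set ↥Y) ∧ IsFinite (WY.ι ≫ f') ∧ ∀ x : ↥Y, f'.base x = IsLocalRing.closedPoint R → x ∈ WY))
    (g : X ⟶ Y) (hg : g ≫ f' = f) (x : X) (hx : x ∈ WX) :
    g.base x ∈ WY := by
  obtain ⟨-, hfin, -⟩ := hWX
  haveI := hfin
  obtain ⟨-, -, hY⟩ := hWY
  let x' : WX.toScheme := ⟨x, hx⟩
  have himg : IsClosed ((WX.ι ≫ f) '' closure {x'}) := (WX.ι ≫ f).isClosedMap _ isClosed_closure
  have hs : (WX.ι ≫ f) x' ⤳ IsLocalRing.closedPoint R := (PrimeSpectrum.le_iff_specializes _ _).1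
    (IsLocalRing.le_maximalIdeal ((WX.ι ≫ f) x').isPrime.ne_top)
  obtain ⟨z, hz, hzc⟩ := hs.mem_closed himg ⟨x', subset_closure rfl, rfl⟩
  have hsp : x' ⤳ z := specializes_iff_mem_closure.2 hz
  have hgz : g.base (WX.ι z) ∈ WY := hY _ (by
    rw [← hzc, ← hg]; rfl)
  exact (hsp.map (WX.ι ≫ g).continuous).mem_open WY.isOpen hgz

end Groth.Agent.S17461
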