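import Groth.Statements.S17462
import Mathlib.AlgebraicGeometry.Morphisms.Finite
import Mathlib.AlgebraicGeometry.PullbackCarrier

set_option autoImplicit false
universe u
open CategoryTheory CategoryTheory.Limits AlgebraicGeometry
open Hensel

namespace Groth.Agent.S17462

/-- Let R be a henselian local ring and let X and Y be quasi-finite separated schemes over Spec R
(locally of finite type, quasi-compact, with discrete fibres, separated), with finite parts W_X ⊆ X
and W_Y ⊆ Y (open and closed subsets, finite over Spec R as open subschemes, containing every point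
over the closed point). If W ⊆ X ×_R Y is the finite part of the fibre product (same three
conditions, for the structure morphism of X ×_R Y), then W = W_X ×_R W_Y: a point of X ×_R Y lies in
W if and only if its first projection lies in W_X and its second projection lies in W_Y. -/
theorem result (R : Type u) [CommRing R] [HenselianLocalRing R]
    {X Y : Scheme.{u}} (f : X ⟶ Spec (CommRingCat.of R)) (f' : Y ⟶ Spec (CommRingCat.of R))
    [LocallyQuasiFinite f] [LocallyOfFiniteType f] [QuasiCompact f] [IsSeparated f]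
    [LocallyQuasiFinite f'] [LocallyOfFiniteType f'] [QuasiCompact f'] [IsSeparated f']
    (WX : X.Opens) (hWX : (IsClosed (WX : Set ↥X) ∧ IsFinite (WX.ι ≫ f) ∧ ∀ x : ↥X, f.base x = IsLocalRing.closedPoint R → x ∈ WX))
    (WY : Y.Opens) (hWY : (IsClosed (WY : Set ↥Y) ∧ IsFinite (WY.ι ≫ f') ∧ ∀ x : ↥Y, f'.base x = IsLocalRing.closedPoint R → x ∈ WY))
    (W : (pullback f f').Opens)
    (hW : (IsClosed (W : Set ↥(pullback f f')) ∧ IsFinite (W.ι ≫ (pullback.fst f f' ≫ f)) ∧ ∀ x : ↥(pullback f f'), (pullback.fst f f' ≫ f).base x = IsLocalRing.closedPoint R → x ∈ W))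
    (z : ↥(pullback f f')) :
    z ∈ W ↔ ((pullback.fst f f').base z ∈ WX ∧ (pullback.snd f f').base z ∈ WY) := by
  obtain ⟨hWc, hWf, hWm⟩ := hW
  obtain ⟨hXc, hXf, hXm⟩ := hWX
  obtain ⟨hYc, hYf, hYm⟩ := hWY
  haveI := hWf; haveI := hXf; haveI := hYf
  let c := IsLocalRing.closedPoint R
  have spec : ∀ {T : Scheme.{u}} (h : T ⟶ Spec (CommRingCat.of R)) [IsFinite h] (t : T),
      ∃ t', t ⤳ t' ∧ h t' = c := by
    intro T h _ t
    have himg : IsClosed (h '' closure {t}) := h.isClosedMap _ isClosed_closure
    have hs : h t ⤳ c := (PrimeSpectrum.le_iff_specializes _ _).1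
      (IsLocalRing.le_maximalIdeal (h t).isPrime.ne_top)
    obtain ⟨t', ht', htc⟩ := hs.mem_closed himg ⟨t, subset_closure rfl, rfl⟩
    exact ⟨t', specializes_iff_mem_closure.2 ht', htc⟩
  constructor
  · intro hz
    obtain ⟨z', hsp, hz'⟩ := spec (W.ι ≫ (CategoryTheory.Limits.pullback.fst f f' ≫ f)) ⟨z, hz⟩
    have h1 : (CategoryTheory.Limits.pullback.fst f f').base (W.ι z') ∈ WX := hXm _ hz'
    have h2 : (CategoryTheory.Limits.pullback.snd f f').base (W.ι z') ∈ WY := hYm _ (by
      have he := congrArg (fun m => m.base (W.ι z')) (CategoryTheory.Limits.pullback.condition (f := f) (g := f'))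
      exact he.symm.trans hz')
    exact ⟨((hsp.map (W.ι ≫ CategoryTheory.Limits.pullback.fst f f').continuous)).mem_open WX.isOpen h1,
      ((hsp.map (W.ι ≫ CategoryTheory.Limits.pullback.snd f f').continuous)).mem_open WY.isOpen h2⟩
  · rintro ⟨hx, hy⟩
    let m := CategoryTheory.Limits.pullback.map (WX.ι ≫ f) (WY.ι ≫ f') f f' WX.ι WY.ι (𝟙 _)
      (CategoryTheory.Category.comp_id _) (CategoryTheory.Category.comp_id _)
    obtain ⟨v, rfl⟩ : z ∈ Set.range m := by
      rw [Scheme.Pullback.range_map]
      exact ⟨by simpa using hx, by simpa using hy⟩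
    haveI : IsFinite (m ≫ CategoryTheory.Limits.pullback.fst f f' ≫ f) := by
      rw [← CategoryTheory.Category.assoc, CategoryTheory.Limits.pullback.lift_fst, CategoryTheory.Category.assoc]
      infer_instance
    obtain ⟨v', hsp, hv'⟩ := spec (m ≫ CategoryTheory.Limits.pullback.fst f f' ≫ f) v
    exact (hsp.map m.continuous).mem_open W.isOpen (hWm _ hv')

end Groth.Agent.S17462
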