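import Groth.Statements.S17466
-- import your own Groth.Agent.* helpers here

set_option autoImplicit false
universe u v
open BigOperators
open NRGIT

namespace Groth.Agent.S17466

/-- Let A be a commutative algebra graded by the natural numbers, let σ_1, …, σ_n be homogeneous
elements of degree 1 and let s ≥ 1 be an integer such that, for every i, the degree-zero homogeneous
localisation of A away from σ_i is generated over A_0 by the fractions f / σ_i ^ s with f
homogeneous of degree s. Then for every exponent vector K = (k_1, …, k_n) with k_1 + ⋯ + k_n = s,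
the degree-zero homogeneous localisation of A away from the monomial σ^K = ∏ σ_i ^ (k_i) is
generated over A_0 by the fractions f / σ^K with f homogeneous of degree s. (Equivalently: the
natural map from the degree-zero localisation of the symmetric algebra on A_s, taken away from σ^K
viewed as an element of degree one, to the degree-zero localisation of A away from σ^K is
surjective. The published lemma concerns the algebra of invariant sections of the powers of a
linearised line bundle on an irreducible projective scheme over a field, with the σ_i a basis of a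
weight space of sections, and concludes a closed immersion of a quotient into an open piece of a
projective space; this row keeps only the graded-algebra step, for any commutative graded algebra,
with the base field replaced by A_0, which generates nothing new since a / 1 = a σ^s / σ^s for a of
degree zero.) -/
theorem result
    {R : Type u} {A : Type v} [CommRing R] [CommRing A] [Algebra R A]
    (𝒜 : ℕ → Submodule R A) [GradedAlgebra 𝒜]
    {n : ℕ} (σ : Fin n → A) (hσ : ∀ i, σ i ∈ 𝒜 1) {s : ℕ} (hs : 0 < s)
    (hgen : ∀ i, Algebra.adjoin (𝒜 0)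
      {z : HomogeneousLocalization.Away 𝒜 (σ i) |
        ∃ f ∈ 𝒜 s, z.val = Localization.mk f ⟨σ i ^ s, Submonoid.pow_mem _ (Submonoid.mem_powers (σ i)) s⟩} = ⊤)
    (K : Fin n → ℕ) (hK : ∑ i, K i = s) :
    Algebra.adjoin (𝒜 0)
      {z : HomogeneousLocalization.Away 𝒜 (∏ i, σ i ^ K i) |
        ∃ f ∈ 𝒜 s, z.val = Localization.mk f ⟨∏ i, σ i ^ K i, Submonoid.mem_powers _⟩} = ⊤ := by
  classical
  let P : A := ∏ i, σ i ^ K i
  let Q : Submodule R A := 𝒜 s
  have h1s : ∀ (a : A), a ∈ 𝒜 0 → ∀ (c : ℕ) (h : A), h ∈ Q ^ (c + 1) → a * h ∈ Q ^ (c + 1) := by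
    intro a ha c h hh
    rw [pow_succ'] at hh ⊢
    induction hh using Submodule.mul_induction_on' with
    | mem_mul_mem m hm n hn =>
      rw [← mul_assoc]
      exact Submodule.mul_mem_mul (by simpa using SetLike.mul_mem_graded ha hm) hn
    | add x _ y _ hx hy => rw [mul_add]; exact add_mem hx hy
  have hpow : ∀ i, σ i ^ s ∈ Q := fun i => by simpa using SetLike.pow_mem_graded s (hσ i)
  have hone : ∀ c, (𝒜 1) ^ (s * c) ≤ Q ^ c := by
    intro c
    rw [pow_mul]
    suffices (𝒜 1) ^ s ≤ Q by
      induction c with
      | zero => simp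
      | succ c ih => rw [pow_succ, pow_succ]; exact mul_le_mul' ih this
    have hk : ∀ (k : ℕ) (x : A), x ∈ (𝒜 1) ^ k → x ∈ 𝒜 k := by
      intro k x hx
      induction hx using Submodule.pow_induction_on_left' with
      | algebraMap r => exact SetLike.algebraMap_mem_graded 𝒜 r
      | add x y i _ _ hx hy => exact add_mem hx hy
      | mem_mul m hm i x _ hx => simpa [Nat.succ_eq_add_one, add_comm] using SetLike.mul_mem_graded hm hx
    exact fun x hx => hk s x hx
  have hL : ∀ (i : Fin n) (m : ℕ) (g : A), g ∈ 𝒜 (m • s) →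
      ∃ T, (σ i ^ s) ^ T * g ∈ Q ^ (T + m) := by
    intro i m g hg
    have hd : σ i ^ m * σ i ^ (m * s - m) = σ i ^ (m * s) := by
      rw [← pow_add]; congr 1; have : m ≤ m * s := Nat.le_mul_of_pos_right m hs; omega
    let x : HomogeneousLocalization.Away 𝒜 (σ i) :=
      HomogeneousLocalization.Away.mk 𝒜 (hσ i) (m * s) g (by simpa [mul_comm] using hg)
    have hx : ∀ z : HomogeneousLocalization.Away 𝒜 (σ i), z ∈ Algebra.adjoin (𝒜 0)
      {z : HomogeneousLocalization.Away 𝒜 (σ i) |
        ∃ f ∈ 𝒜 s, z.val = Localization.mk f ⟨σ i ^ s, Submonoid.pow_mem _ (Submonoid.mem_powers (σ i)) s⟩} →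
        ∃ (N : ℕ) (h : A), h ∈ Q ^ (N + 1) ∧
          z.val * algebraMap A (Localization.Away (σ i)) ((σ i ^ s) ^ (N + 1)) = algebraMap A _ h := by
      intro z hz
      induction hz using Algebra.adjoin_induction with
      | mem z hz =>
        obtain ⟨f, hf, hzf⟩ := hz
        refine ⟨0, f, by simpa [Q] using hf, ?_⟩
        rw [hzf, Localization.mk_eq_mk', zero_add, pow_one]
        exact IsLocalization.mk'_spec _ _ _
      | algebraMap r =>
        refine ⟨0, r.1 * σ i ^ s, h1s _ r.2 0 _ (by simpa using hpow i), ?_⟩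
        rw [HomogeneousLocalization.algebraMap_eq]
        simp [HomogeneousLocalization.fromZeroRingHom, ← Localization.mk_one_eq_algebraMap]
        rw [show ∀ a b : A, Localization.mk (a * b) (1 : Submonoid.powers (σ i)) = Localization.mk a 1 * Localization.mk b 1 from fun a b => by rw [Localization.mk_mul, mul_one]]
        rfl
      | add z w _ _ hz hw =>
        obtain ⟨N, h, hh, e⟩ := hz
        obtain ⟨N', h', hh', e'⟩ := hw
        refine ⟨N + N' + 1, h * (σ i ^ s) ^ (N' + 1) + h' * (σ i ^ s) ^ (N + 1), ?_, ?_⟩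
        · refine add_mem ?_ ?_
          · rw [show N + N' + 1 + 1 = (N + 1) + (N' + 1) by omega, pow_add]
            exact Submodule.mul_mem_mul hh (Submodule.pow_mem_pow Q (hpow i) _)
          · rw [show N + N' + 1 + 1 = (N' + 1) + (N + 1) by omega, pow_add]
            exact Submodule.mul_mem_mul hh' (Submodule.pow_mem_pow Q (hpow i) _)
        · simp only [map_mul, map_add, map_pow, HomogeneousLocalization.val_add, ← e, ← e']
          ring
      | mul z w _ _ hz hw =>
        obtain ⟨N, h, hh, e⟩ := hz
        obtain ⟨N', h', hh', e'⟩ := hw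
        refine ⟨N + N' + 1, h * h', ?_, ?_⟩
        · rw [show N + N' + 1 + 1 = (N + 1) + (N' + 1) by omega, pow_add]
          exact Submodule.mul_mem_mul hh hh'
        · simp only [map_mul, map_pow, HomogeneousLocalization.val_mul, ← e, ← e']
          ring
    obtain ⟨N, h, hh, e⟩ := hx x (by rw [hgen i]; trivial)
    have e2 : algebraMap A (Localization.Away (σ i)) ((σ i ^ s) ^ (N + 1) * g) =
        algebraMap A _ (h * (σ i ^ s) ^ m) := by
      have hg' : x.val * algebraMap A (Localization.Away (σ i)) (σ i ^ (m * s)) = algebraMap A _ g := by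
        rw [HomogeneousLocalization.Away.val_mk, Localization.mk_eq_mk']
        exact IsLocalization.mk'_spec _ _ _
      rw [map_mul, map_mul, ← e, ← hg', ← pow_mul (σ i) s m, mul_comm s m]
      ring
    obtain ⟨⟨_, t, rfl⟩, ht⟩ := (IsLocalization.eq_iff_exists (Submonoid.powers (σ i)) _).1 e2
    refine ⟨t + (N + 1), ?_⟩
    have ht' : (σ i ^ s) ^ (t + (N + 1)) * g = h * (σ i ^ s) ^ (m + t) := by
      have hst : σ i ^ (s * t - t) * σ i ^ t = (σ i ^ s) ^ t := by
        rw [← pow_add, ← pow_mul]; congr 1; have : t ≤ s * t := Nat.le_mul_of_pos_left t hs; omega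
      calc (σ i ^ s) ^ (t + (N + 1)) * g = (σ i ^ (s * t - t) * σ i ^ t) * ((σ i ^ s) ^ (N + 1) * g) := by
            rw [hst, pow_add, mul_assoc]
        _ = σ i ^ (s * t - t) * (σ i ^ t * ((σ i ^ s) ^ (N + 1) * g)) := by ring
        _ = σ i ^ (s * t - t) * (σ i ^ t * (h * (σ i ^ s) ^ m)) := by rw [show σ i ^ t * ((σ i ^ s) ^ (N + 1) * g) = _ from ht]
        _ = (σ i ^ (s * t - t) * σ i ^ t) * (h * (σ i ^ s) ^ m) := by ring
        _ = _ := by rw [hst, pow_add]; ring
    rw [ht', show t + (N + 1) + m = (N + 1) + (m + t) by omega, pow_add Q]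
    exact Submodule.mul_mem_mul hh (Submodule.pow_mem_pow Q (hpow i) _)
  have hP : P ∈ 𝒜 s := by
    rw [← hK]
    exact SetLike.prod_mem_graded 𝒜 (fun i => K i) (fun i => σ i ^ K i) fun i _ => by simpa using SetLike.pow_mem_graded (K i) (hσ i)
  obtain ⟨i, hi⟩ : ∃ i, 0 < K i := by
    by_contra! hall
    simp [fun i => Nat.le_zero.1 (hall i)] at hK
    omega
  have hQ : ∀ (c : ℕ) (h : A), h ∈ Q ^ c → ∃ w ∈ Algebra.adjoin (𝒜 0)
      {z : HomogeneousLocalization.Away 𝒜 P |
        ∃ f ∈ 𝒜 s, z.val = Localization.mk f ⟨P, Submonoid.mem_powers _⟩},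
      w.val = Localization.mk h (⟨P ^ c, c, rfl⟩ : Submonoid.powers P) := by
    intro c h hh
    induction hh using Submodule.pow_induction_on_left' with
    | algebraMap r =>
      refine ⟨_, Subalgebra.algebraMap_mem _ ⟨algebraMap R A r, SetLike.algebraMap_mem_graded 𝒜 r⟩, ?_⟩
      simp [HomogeneousLocalization.algebraMap_eq, HomogeneousLocalization.fromZeroRingHom]
      all_goals exact Localization.mk_one_eq_algebraMap _ |>.symm
    | add x y i _ _ hx hy =>
      obtain ⟨w, hw, e⟩ := hx
      obtain ⟨w', hw', e'⟩ := hy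
      exact ⟨w + w', add_mem hw hw', by rw [HomogeneousLocalization.val_add, e, e', Localization.add_mk_self]⟩
    | mem_mul f hf i x _ hx =>
      obtain ⟨w, hw, e⟩ := hx
      refine ⟨HomogeneousLocalization.Away.mk 𝒜 hP 1 f (by simpa [Q] using hf) * w,
        mul_mem (Algebra.subset_adjoin ⟨f, hf, by simp⟩) hw, ?_⟩
      rw [HomogeneousLocalization.val_mul, e, HomogeneousLocalization.Away.val_mk, Localization.mk_mul]
      congr 1
      exact Subtype.ext (by simp [pow_succ'])
  refine eq_top_iff.2 fun z _ => ?_
  obtain ⟨m, g, hg, rfl⟩ := HomogeneousLocalization.Away.mk_surjective 𝒜 hP z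
  obtain ⟨T, hT⟩ := hL i m g hg
  have key : P ^ (s * T) * g ∈ Q ^ (s * T + m) := by
    let E : Fin n → ℕ := fun j => if j = i then K i * (s * T) - s * T else K j * (s * T)
    have hle : s * T ≤ K i * (s * T) := Nat.le_mul_of_pos_left _ hi
    have hPE : P ^ (s * T) = (σ i ^ s) ^ T * ∏ j, σ j ^ E j := by
      simp only [P, ← Finset.prod_pow, ← pow_mul]
      rw [← Finset.mul_prod_erase _ (fun j => σ j ^ E j) (Finset.mem_univ i),
        ← Finset.mul_prod_erase _ (fun j => σ j ^ (K j * (s * T))) (Finset.mem_univ i), ← mul_assoc (σ i ^ (s * T)), ← pow_add]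
      congr 1
      · congr 1; simp only [E, if_true]; omega
      · exact Finset.prod_congr rfl fun j hj => by simp [E, Finset.ne_of_mem_erase hj]
    have hE : ∑ j, E j = s * (s * T - T) := by
      have h0 : (∑ j, E j) + s * T = s * (s * T) := by
        calc (∑ j, E j) + s * T = ∑ j, (E j + if j = i then s * T else 0) := by simp [Finset.sum_add_distrib]
          _ = ∑ j, K j * (s * T) := Finset.sum_congr rfl fun j _ => by
              by_cases h : j = i
              · subst h; simp only [E, if_true]; omega
              · simp [E, h]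
          _ = _ := by rw [← Finset.sum_mul, hK]
      rw [Nat.mul_sub]; omega
    have hW : ∀ F : Finset (Fin n), ∏ j ∈ F, σ j ^ E j ∈ (𝒜 1) ^ (∑ j ∈ F, E j) := by
      intro F
      induction F using Finset.induction_on with
      | empty => simp only [Finset.prod_empty, Finset.sum_empty, pow_zero]; exact Submodule.one_le.1 le_rfl
      | insert a F ha ih =>
        rw [Finset.prod_insert ha, Finset.sum_insert ha, pow_add]
        exact Submodule.mul_mem_mul (Submodule.pow_mem_pow _ (hσ a) _) ih
    have hW' := hone _ (hE ▸ hW Finset.univ)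
    rw [hPE, mul_right_comm, show s * T + m = (T + m) + (s * T - T) by have : T ≤ s * T := Nat.le_mul_of_pos_left T hs; omega, pow_add]
    exact Submodule.mul_mem_mul hT hW'
  obtain ⟨w, hw, e⟩ := hQ _ _ key
  convert hw using 1
  apply HomogeneousLocalization.val_injective
  rw [e, HomogeneousLocalization.Away.val_mk, Localization.mk_eq_mk_iff, Localization.r_iff_exists]
  exact ⟨1, by simp [P, pow_add]; ring⟩

end Groth.Agent.S17466
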