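import Groth.Statements.S17469
import Mathlib.AlgebraicGeometry.FunctionField
import Mathlib.RingTheory.IntegralClosure.IntegrallyClosed

set_option backward.isDefEq.respectTransparency false

set_option autoImplicit false
universe u
open CategoryTheory AlgebraicGeometry
open Variety

namespace Groth.Agent.S17469

/-- Let X be a locally Noetherian integral scheme all of whose local rings are integrally closed domains
and U an open subset of X. A section of O_X over U that is integral over the ring of global sections
of X, the latter acting through restriction, is itself the restriction of a global section. (The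
published lemma is stated for an irreducible normal variety and for the graded ring of sections over
U of all non-negative powers of a line bundle, integral over the corresponding ring of sections over
X; for the trivial line bundle its homogeneous components are the present statement, which is made
here for any locally Noetherian normal integral scheme.) -/
theorem result
    (X : Scheme.{u}) [AlgebraicGeometry.IsIntegral X] [IsLocallyNoetherian X]
    (hX : Pi1.IsNormalScheme X) (U : X.Opens) (b : Γ(X, U))
    (hb : (X.presheaf.map (homOfLE le_top : U ⟶ ⊤).op).hom.IsIntegralElem b) :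
    b ∈ Set.range (X.presheaf.map (homOfLE le_top : U ⟶ ⊤).op).hom := by
  rcases isEmpty_or_nonempty U with hU | hU
  · refine ⟨0, ?_⟩
    refine TopCat.Presheaf.section_ext X.sheaf U _ _ fun x hx => ?_
    exact (hU.false ⟨x, hx⟩).elim
  let η := genericPoint X
  have hmem : ∀ (V : X.Opens), Nonempty V → η ∈ V := fun V hV =>
    ((genericPoint_spec X).mem_open_set_iff V.2).mpr (by simpa using hV)
  have hηU : η ∈ U := hmem U hU
  let β := X.presheaf.germ U η hηU b
  have hβ : ((X.presheaf.germ ⊤ η trivial).hom).IsIntegralElem β := by
    obtain ⟨p, hp, hp'⟩ := hb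
    refine ⟨p, hp, ?_⟩
    have h2 := congrArg (X.presheaf.germ U η hηU).hom hp'
    rw [Polynomial.hom_eval₂, map_zero, ← CommRingCat.hom_comp, TopCat.Presheaf.germ_res] at h2
    exact h2
  have hex : ∀ x : X, ∃ (V : X.Opens) (hx : x ∈ V) (hη : η ∈ V) (t : Γ(X, V)), X.presheaf.germ V η hη t = β := by
    intro x
    haveI := (hX x).1
    haveI := (hX x).2
    have hint : _root_.IsIntegral (X.presheaf.stalk x) (β : X.functionField) := by
      obtain ⟨p, hp, hp'⟩ := hβ
      refine ⟨p.map (X.presheaf.germ ⊤ x trivial).hom, hp.map _, ?_⟩
      rw [Polynomial.eval₂_map]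
      have e : (algebraMap (X.presheaf.stalk x) X.functionField).comp (X.presheaf.germ ⊤ x trivial).hom =
          (X.presheaf.germ ⊤ η trivial).hom := by
        exact congrArg CommRingCat.Hom.hom (TopCat.Presheaf.germ_stalkSpecializes (F := X.presheaf) (U := ⊤) (y := x) trivial
          ((genericPoint_spec X).specializes trivial))
      rw [e]; exact hp'
    obtain ⟨c, hc⟩ := IsIntegrallyClosed.algebraMap_eq_of_integral hint
    obtain ⟨V, hx, t, rfl⟩ := TopCat.Presheaf.germ_exist X.presheaf (x := x) c
    refine ⟨V, hx, hmem V ⟨⟨x, hx⟩⟩, t, ?_⟩
    rw [← hc]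
    exact (TopCat.Presheaf.germ_stalkSpecializes_apply (F := X.presheaf) (U := V) hx
      ((genericPoint_spec X).specializes trivial) t).symm
  choose V hxV hηV t ht using hex
  obtain ⟨s, hs, -⟩ := X.sheaf.existsUnique_gluing' V ⊤ (fun x => homOfLE le_top)
    (fun x _ => TopologicalSpace.Opens.mem_iSup.2 ⟨x, hxV x⟩) t fun x y => by
      apply germ_injective_of_isIntegral X η (show η ∈ V x ⊓ V y from ⟨hηV x, hηV y⟩)
      exact ((TopCat.Presheaf.germ_res_apply X.presheaf _ η _ (t x)).trans (ht x)).trans
        ((TopCat.Presheaf.germ_res_apply X.presheaf _ η _ (t y)).trans (ht y)).symm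
  refine ⟨s, germ_injective_of_isIntegral X η hηU ?_⟩
  refine (TopCat.Presheaf.germ_res_apply X.presheaf _ η _ s).trans ?_
  have h3 := congrArg (fun z => X.presheaf.germ (V η) η (hηV η) z) (hs η)
  exact ((TopCat.Presheaf.germ_res_apply X.presheaf _ η _ s).symm.trans h3).trans (ht η)

end Groth.Agent.S17469
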