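import Groth.Statements.S17470
import Groth.Agent.AnPts.Nullhomotopic

set_option autoImplicit false
open CategoryTheory AlgebraicGeometry
open An

namespace Groth.Agent.S17470

/-- Let X be a connected variety over ℂ (reduced, separated and of finite type over ℂ, connected) and u
a regular function on X with no zero at any ℂ-point, viewed as a regular map X → ℂ^×. If the
continuous map it induces from the ℂ-points X(ℂ), with their complex topology, to ℂ^× is
null-homotopic, then u has the same value at all ℂ-points: a null-homotopic regular map from a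
connected complex variety to ℂ^× is constant. -/
theorem result
    (X : Scheme.{0}) [X.Over An.SC] [IsReduced X]
    [LocallyOfFiniteType (X ↘ An.SC)] [QuasiCompact (X ↘ An.SC)] [IsSeparated (X ↘ An.SC)]
    [ConnectedSpace X] (u : Γ(X, ⊤))
    (φ : C(An.Pts X, {z : ℂ // z ≠ 0})) (hφ : ∀ x : An.Pts X, (φ x).1 = x.evTop u)
    (z₀ : {z : ℂ // z ≠ 0}) (hnull : φ.Homotopic (ContinuousMap.const (An.Pts X) z₀)) :
    ∀ x y : An.Pts X, x.evTop u = y.evTop u := by
  obtain ⟨H⟩ := hnull.symm
  have H_0 : ∀ a, H.toContinuousMap (0, a) =
      (⟨_, Complex.exp_ne_zero (Complex.log z₀.1)⟩ : {z : ℂ // z ≠ 0}) := fun a =>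
    (H.apply_zero a).trans (Subtype.ext (Complex.exp_log z₀.2).symm)
  let L := Complex.isCoveringMap_exp.liftHomotopy H.toContinuousMap (ContinuousMap.const _ (Complex.log z₀.1)) H_0
  refine Groth.Agent.AnPts.evTop_eq_of_log u (v := fun a => L (1, a)) (L.continuous.comp (continuous_const.prodMk continuous_id)) fun a => ?_
  have h := congrFun (Complex.isCoveringMap_exp.liftHomotopy_lifts H.toContinuousMap (ContinuousMap.const _ (Complex.log z₀.1)) H_0) (1, a)
  exact (congrArg Subtype.val (h.trans (H.apply_one a))).trans (hφ a)

end Groth.Agent.S17470
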