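import Groth.Statements.S17471
import Mathlib

set_option autoImplicit false
universe u v w x
open RootCh

namespace Groth.Agent.S17471

/-- Let Φ be a finite, reduced, crystallographic, irreducible root system with a base, and θ a positive
root such that θ + β is a root for no positive root β (so θ is the highest root). Then Σ_{β>0} ⟨β,
θ^∨⟩² = 2 + Σ_{β>0} ⟨β, θ^∨⟩ = 2(1 + ⟨ρ, θ^∨⟩), ρ being half the sum of the positive roots; in the
source the left side is the index of the adjoint representation obtained from its formal character,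
and 1 + ⟨ρ, θ^∨⟩ is the dual Coxeter number. -/
theorem result
    {ι : Type u} {R : Type v} {M : Type w} {N : Type x}
    [Field R] [LinearOrder R] [IsStrictOrderedRing R]
    [AddCommGroup M] [Module R M] [AddCommGroup N] [Module R N] [Fintype ι]
    (P : RootPairing ι R M N) [P.IsRootSystem] [P.IsCrystallographic] [P.IsReduced]
    [P.IsIrreducible] (b : P.Base) (θ : ι) (hθ : b.IsPos θ)
    (hmax : ∀ i : ι, b.IsPos i → P.root θ + P.root i ∉ Set.range P.root) :
    ∑ i ∈ Finset.univ.filter (fun i => 0 < b.height i), P.pairing i θ ^ 2 =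
      2 + ∑ i ∈ Finset.univ.filter (fun i => 0 < b.height i), P.pairing i θ := by
  classical
  have hone : ∀ i, i ∈ Finset.univ.filter (fun i => 0 < b.height i) ↔ b.IsPos i := fun i => by
    simp [RootPairing.Base.isPos_iff]
  have hcr : ∀ a c : ι, ((P.pairingIn ℤ a c : ℤ) : R) = P.pairing a c := fun a c => by
    rw [← P.algebraMap_pairingIn ℤ a c]; rfl
  have key : ∀ i, b.IsPos i → i ≠ θ → P.pairingIn ℤ i θ = 0 ∨ P.pairingIn ℤ i θ = 1 := by
    intro i hi hne
    have hne' : P.root i ≠ -P.root θ := by
      intro e
      have h : i = P.reflectionPerm θ θ := P.root.injective (by rw [e]; simp)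
      subst h
      exact (RootPairing.Base.IsPos.neg_iff_not b θ).mp hi hθ
    have hnn : 0 ≤ P.pairingIn ℤ i θ := by
      by_contra! hlt
      have h := P.root_add_root_mem_of_pairingIn_neg hlt hne'
      rw [add_comm] at h
      exact hmax i hi h
    have hle : P.pairingIn ℤ i θ ≤ 1 := by
      by_contra! hgt
      obtain ⟨γ, hγ⟩ := P.root_sub_root_mem_of_pairingIn_pos
        (i := i) (j := θ) (by omega) hne
      -- `γ = i - θ`; it is negative by maximality
      have hγn : ¬ b.IsPos γ := fun h => hmax γ h ⟨i, by rw [hγ]; abel⟩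
      set γ' := P.reflectionPerm γ γ with hγ'
      have hγ'p : b.IsPos γ' := (RootPairing.Base.IsPos.neg_iff_not b γ).mpr hγn
      have hγ'r : P.root γ' = P.root θ - P.root i := by
        rw [hγ', P.root_reflectionPerm, P.reflection_apply_self, hγ, neg_sub]
      have hp : P.pairingIn ℤ γ' θ = 2 - P.pairingIn ℤ i θ := by
        apply (algebraMap ℤ R).injective_int
        simp only [algebraMap_int_eq, eq_intCast, Int.cast_sub, hcr, Int.cast_ofNat]
        rw [← P.root_coroot'_eq_pairing, hγ'r, map_sub, P.root_coroot'_eq_pairing,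
          P.root_coroot'_eq_pairing, P.pairing_same]
      have hγne : P.root γ' ≠ -P.root θ := by
        intro e
        have h : γ' = P.reflectionPerm θ θ := P.root.injective (by rw [e]; simp)
        rw [h] at hγ'p
        exact (RootPairing.Base.IsPos.neg_iff_not b θ).mp hγ'p hθ
      rcases (show P.pairingIn ℤ i θ = 2 ∨ 2 < P.pairingIn ℤ i θ by omega) with h2 | h2
      · -- `s_θ i = i - 2θ` is negative, its opposite is `θ + γ'`
        refine hmax γ' hγ'p ⟨P.reflectionPerm (P.reflectionPerm θ i) (P.reflectionPerm θ i), ?_⟩
        have h2' : P.pairing i θ = 2 := by rw [← hcr, h2]; norm_num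
        rw [P.root_reflectionPerm, P.reflection_apply_self, P.root_reflectionPerm,
          P.reflection_apply_root, h2', hγ'r]
        module
      · have h := P.root_add_root_mem_of_pairingIn_neg (i := γ') (j := θ) (by omega) hγne
        rw [add_comm] at h
        exact hmax γ' hγ'p h
    omega
  have hθmem : θ ∈ Finset.univ.filter (fun i => 0 < b.height i) := (hone θ).mpr hθ
  rw [← Finset.add_sum_erase _ _ hθmem, ← Finset.add_sum_erase _ _ hθmem, P.pairing_same]
  rw [Finset.sum_congr rfl (g := fun i => P.pairing i θ) fun i hi => ?_]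
  · ring
  rw [Finset.mem_erase, hone] at hi
  rcases key i hi.2 hi.1 with h | h <;> simp [← hcr, h]

end Groth.Agent.S17471
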