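import Groth.Statements.S17472
import Mathlib

set_option autoImplicit false
universe u
open HopfAlg

namespace Groth.Agent.S17472


open TensorProduct WithConv

variable (k : Type u) [Field k] (A : Type u) [CommRing A] [HopfAlgebra k A]

local notation "Pt" => WithConv (A →ₐ[k] k)

/-- A point as a constant endomorphism. -/
private noncomputable def hat (g : Pt) : WithConv (A →ₐ[k] A) := toConv ((Algebra.ofId k A).comp g.ofConv)

/-- Translation by a point. -/
private noncomputable def tr (g : Pt) : A →ₐ[k] A := (toConv (AlgHom.id k A) * hat k A g).ofConv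

variable {k A}

private theorem hat_mul (g h : Pt) : hat k A (g * h) = hat k A g * hat k A h :=
  WithConv.ofConv_injective (AlgHom.comp_convMul_distrib _ _ _)

private theorem comp_tr {B : Type u} [CommRing B] [Algebra k B] (f : A →ₐ[k] B) (g : Pt) :
    f.comp (tr k A g) = (toConv f * toConv ((Algebra.ofId k B).comp g.ofConv)).ofConv := by
  rw [tr, AlgHom.comp_convMul_distrib]
  have h1 : f.comp (hat k A g).ofConv = (Algebra.ofId k B).comp g.ofConv := by
    ext a
    exact f.commutes _
  rw [h1]
  simp

private theorem tr_comp (g h : Pt) : (tr k A h).comp (tr k A g) = tr k A (h * g) := by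
  rw [comp_tr, tr, tr, hat_mul, ← mul_assoc]
  rfl

private theorem tr_one : tr k A 1 = AlgHom.id k A := by
  have : hat k A 1 = 1 := by
    apply WithConv.ofConv_injective
    ext a
    simp [hat, AlgHom.convOne_def, Algebra.ofId_apply]
  rw [tr, this, mul_one]

private theorem tr_tr_inv (g : Pt) (a : A) : tr k A g (tr k A g⁻¹ a) = a := by
  rw [← AlgHom.comp_apply, tr_comp, mul_inv_cancel, tr_one, AlgHom.id_apply]

private theorem tr_inv_tr (g : Pt) (a : A) : tr k A g⁻¹ (tr k A g a) = a := by
  rw [← AlgHom.comp_apply, tr_comp, inv_mul_cancel, tr_one, AlgHom.id_apply]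

private theorem point_tr_inv (p : Pt) (a : A) : p.ofConv (tr k A p⁻¹ a) = Bialgebra.counitAlgHom k A a := by
  rw [← AlgHom.comp_apply, comp_tr]
  have : toConv ((Algebra.ofId k k).comp (p⁻¹).ofConv) = p⁻¹ := by
    apply WithConv.ofConv_injective
    ext b
    simp [Algebra.ofId_apply]
  rw [this]
  simp [AlgHom.convOne_def, Algebra.ofId_apply]

/-- The linear functional `g ↦ φ (tr g a)` is evaluation at one element of `A`. -/
private theorem exists_eval (φ : A →ₗ[k] k) (a : A) :
    ∃ b : A, ∀ g : Pt, g.ofConv b = φ (tr k A g a) := by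
  refine ⟨TensorProduct.lid k A (TensorProduct.map φ LinearMap.id (Coalgebra.comul a)), fun g => ?_⟩
  rw [tr]
  change _ = φ ((toConv (AlgHom.id k A) * hat k A g) a)
  rw [AlgHom.convMul_apply]
  induction (Coalgebra.comul (R := k) a) using TensorProduct.induction_on with
  | zero => simp
  | add x y hx hy => simp only [map_add, hx, hy]
  | tmul x y =>
    simp only [TensorProduct.map_tmul, LinearMap.id_apply, TensorProduct.lid_tmul, map_smul,
      Algebra.TensorProduct.lift_tmul, hat, ofConv_toConv, AlgHom.id_apply, AlgHom.comp_apply,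
      Algebra.ofId_apply]
    rw [mul_comm x, ← Algebra.smul_def, map_smul, smul_eq_mul, smul_eq_mul, mul_comm]

/-- The ideal of functions vanishing on a set of points. -/
private noncomputable def vanish (C : Set Pt) : Ideal A where
  carrier := {a | ∀ g ∈ C, g.ofConv a = 0}
  add_mem' := fun {a b} ha hb g hg => by rw [map_add, ha g hg, hb g hg, add_zero]
  zero_mem' := fun g _ => map_zero _
  smul_mem' := fun c a ha g hg => by rw [smul_eq_mul, map_mul, ha g hg, mul_zero]

private theorem vanish_le {C : Set Pt} {g : Pt} (hg : g ∈ C) : vanish C ≤ RingHom.ker g.ofConv :=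
  fun _ ha => RingHom.mem_ker.2 (ha g hg)

/-- Membership of translates in an ideal is a closed condition on the point. -/
private theorem tr_mem_of_le {C : Set Pt} {h : Pt} (hle : vanish C ≤ RingHom.ker h.ofConv)
    (Q : Ideal A) (a : A) :
    ((∀ g ∈ C, tr k A g a ∈ Q) → tr k A h a ∈ Q) ∧ ((∀ g ∈ C, tr k A g⁻¹ a ∈ Q) → tr k A h⁻¹ a ∈ Q) := by
  have key : ∀ (u : Pt → Pt) (S : A → A), (∀ (g : Pt) (b : A), g.ofConv (S b) = (u g).ofConv b) →
      (∀ g ∈ C, tr k A (u g) a ∈ Q) → tr k A (u h) a ∈ Q := by
    intro u S hS hC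
    rw [← Submodule.Quotient.mk_eq_zero]
    refine (Module.forall_dual_apply_eq_zero_iff k _).1 fun ψ => ?_
    obtain ⟨b, hb⟩ := exists_eval (ψ.comp (Q.mkQ.restrictScalars k)) a
    have hmem : S b ∈ vanish C := by
      intro g hg
      rw [hS, hb]
      simp [Ideal.Quotient.eq_zero_iff_mem.2 (hC g hg)]
    have h0 := RingHom.mem_ker.1 (hle hmem)
    rwa [hS, hb] at h0
  exact ⟨key id id fun _ _ => rfl, key (·⁻¹) (HopfAlgebra.antipodeAlgHom k A) fun _ _ => rfl⟩


private theorem eq_top_or_eq_top {R : Type u} [CommRing R] (hconn : ∀ e : R, IsIdempotentElem e → e = 0 ∨ e = 1)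
    (I J : Ideal R) (hsup : I ⊔ J = ⊤) (hnil : I * J ≤ nilradical R) : I = ⊤ ∨ J = ⊤ := by
  obtain ⟨a, ha, b, hb, hab⟩ := Submodule.mem_sup.1 (hsup ▸ (Submodule.mem_top : (1 : R) ∈ ⊤))
  obtain ⟨n, hn⟩ := mem_nilradical.1 (hnil (Ideal.mul_mem_mul ha hb))
  obtain ⟨c, d, hcd⟩ : IsCoprime (a ^ (n + 1)) (b ^ (n + 1)) := IsCoprime.pow ⟨1, 1, by rw [one_mul, one_mul, hab]⟩
  have hidem : IsIdempotentElem (c * a ^ (n + 1)) := by
    have h0 : a ^ (n + 1) * b ^ (n + 1) = 0 := by rw [← mul_pow, pow_succ, hn, zero_mul]
    show c * a ^ (n + 1) * (c * a ^ (n + 1)) = c * a ^ (n + 1)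
    linear_combination (c * a ^ (n + 1)) * hcd - c * d * h0
  rcases hconn _ hidem with h | h
  · refine Or.inr ((Ideal.eq_top_iff_one J).2 ?_)
    rw [← hcd, h, zero_add, pow_succ, ← mul_assoc]
    exact Ideal.mul_mem_left _ _ hb
  · refine Or.inl ((Ideal.eq_top_iff_one I).2 ?_)
    rw [← h, pow_succ, ← mul_assoc]
    exact Ideal.mul_mem_left _ _ ha

private theorem exists_point [IsAlgClosed k] [Algebra.FiniteType k A] (M : Ideal A) (hM : M.IsMaximal) :
    ∃ h : Pt, RingHom.ker h.ofConv = M := by
  let _ : Field (A ⧸ M) := Ideal.Quotient.field M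
  haveI : Module.Finite k (A ⧸ M) := finite_of_finite_type_of_isJacobsonRing k (A ⧸ M)
  let e : k ≃ₐ[k] A ⧸ M := AlgEquiv.ofBijective (Algebra.ofId k (A ⧸ M))
    (IsAlgClosed.algebraMap_bijective_of_isIntegral (k := k) (K := A ⧸ M))
  refine ⟨toConv (e.symm.toAlgHom.comp (Ideal.Quotient.mkₐ k M)), ?_⟩
  ext a
  simp [Ideal.Quotient.eq_zero_iff_mem]

set_option maxHeartbeats 1000000 in
/-- Let k be an algebraically closed field and A a commutative Hopf algebra over k, finitely generated
as a k-algebra, whose only idempotents are 0 and 1 (so that Spec A is a connected affine algebraic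
group over k, possibly non-reduced). Let m be the kernel of the counit, the ideal of the neutral
element. Then the intersection of the powers m^n, n ≥ 0, is the zero ideal; equivalently the
infinitesimal neighbourhoods Spec (A/m^n) of the neutral element are jointly schematically dense.
(The published statement assumes the group smooth, that is, a connected linear algebraic group; the
statement here allows any connected affine algebraic group, possibly non-reduced, a case the
published argument also treats.) -/
theorem result (k : Type u) [Field k] [IsAlgClosed k]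
    (A : Type u) [CommRing A] [HopfAlgebra k A] [Algebra.FiniteType k A]
    (hconn : ∀ e : A, IsIdempotentElem e → e = 0 ∨ e = 1) :
    (⨅ n : ℕ, RingHom.ker (Bialgebra.counitAlgHom k A) ^ n) = ⊥ := by
  classical
  haveI : IsNoetherianRing A := Algebra.FiniteType.isNoetherianRing k A
  haveI : IsJacobsonRing A := isJacobsonRing_of_finiteType (A := k)
  have hpt : ∀ M : Ideal A, M.IsMaximal → ∃ h : WithConv (A →ₐ[k] k), RingHom.ker h.ofConv = M := exists_point
  -- every associated prime lies in the ideal of the neutral element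
  have hass : ∀ P ∈ associatedPrimes A A, P ≤ RingHom.ker (Bialgebra.counitAlgHom k A) := by
    intro P hP
    haveI hPp : P.IsPrime := hP.isPrime
    obtain ⟨f, hf⟩ : ∃ f : WithConv (A →ₐ[k] k) → Ideal A, ∀ g, f g = P.comap (tr k A g⁻¹) := ⟨_, fun _ => rfl⟩
    have hfass : ∀ g, f g ∈ associatedPrimes A A := by
      intro g
      obtain ⟨-, x, hx⟩ := (isAssociatedPrime_iff (I := P) (M := A)).1 hP
      refine (isAssociatedPrime_iff (I := f g) (M := A)).2 ⟨by rw [hf]; exact Ideal.IsPrime.comap _, tr k A g x, ?_⟩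
      ext y
      simp only [hf, Ideal.mem_comap, hx, Submodule.mem_colon_singleton, Submodule.mem_bot, smul_eq_mul]
      constructor
      · intro h
        have := congrArg (tr k A g) h
        rwa [map_mul, tr_tr_inv, map_zero] at this
      · intro h
        have := congrArg (tr k A g⁻¹) h
        rwa [map_mul, tr_inv_tr, map_zero] at this
    have hclosed : ∀ (Q : Ideal A) (h : WithConv (A →ₐ[k] k)),
        vanish {g | f g = Q} ≤ RingHom.ker h.ofConv → f h = Q := by
      intro Q h hle
      ext a
      simp only [hf, Ideal.mem_comap]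
      constructor
      · intro ha
        have h1 := (tr_mem_of_le hle Q (tr k A h⁻¹ a)).1 fun g hg => by
          rw [← hg]
          simp only [hf, Ideal.mem_comap, tr_inv_tr]
          exact ha
        rwa [tr_tr_inv] at h1
      · intro ha
        refine (tr_mem_of_le hle P a).2 fun g hg => ?_
        have : a ∈ f g := by rw [hg]; exact ha
        rw [hf] at this
        exact this
    have hconst : ∀ g, f g = P := by
      intro g
      by_contra hne
      have hone : f 1 = P := by simp only [hf, inv_one, tr_one]; exact Ideal.comap_id P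
      obtain ⟨K, hK⟩ : ∃ K : Ideal A → Ideal A, ∀ Q, K Q = vanish {g | f g = Q} :=
        ⟨fun Q => vanish {g | f g = Q}, fun Q => rfl⟩
      have hKle : ∀ g : WithConv (A →ₐ[k] k), K (f g) ≤ RingHom.ker g.ofConv := fun g => by
        rw [hK]; exact vanish_le rfl
      let K₁ : Ideal A := K P
      have hfin : (associatedPrimes A A).Finite := associatedPrimes.finite A A
      let V : Finset (Ideal A) := hfin.toFinset.erase P
      let K₂ : Ideal A := V.inf K
      have hsup : K₁ ⊔ K₂ = ⊤ := by
        by_contra hne'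
        obtain ⟨M, hM, hle⟩ := Ideal.exists_le_maximal _ hne'
        obtain ⟨h, hh⟩ := hpt M hM
        have h1 : f h = P := hclosed P h (by rw [← hK, hh]; exact le_sup_left.trans hle)
        obtain ⟨Q, hQ, hQ'⟩ := hM.isPrime.inf_le'.1 (le_sup_right.trans hle)
        exact (Finset.ne_of_mem_erase hQ) ((hclosed Q h (by rw [← hK, hh]; exact hQ')).symm.trans h1)
      have hinf : ∀ h : WithConv (A →ₐ[k] k), K₁ ⊓ K₂ ≤ RingHom.ker h.ofConv := by
        intro h
        by_cases hh : f h = P
        · exact inf_le_left.trans (show K P ≤ RingHom.ker h.ofConv from hh ▸ hKle h)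
        · exact inf_le_right.trans ((Finset.inf_le (f := K) (b := f h)
            (Finset.mem_erase.2 ⟨hh, hfin.mem_toFinset.2 (hfass h)⟩)).trans (hKle h))
      have hnil : K₁ * K₂ ≤ nilradical A := by
        refine Ideal.mul_le_inf.trans fun z hz => ?_
        have hj : z ∈ (⊥ : Ideal A).jacobson := by
          rw [Ideal.jacobson, Submodule.mem_sInf]
          rintro M ⟨-, hM⟩
          obtain ⟨h, rfl⟩ := hpt M hM
          exact hinf h hz
        rw [nilradical, Ideal.zero_eq_bot, Ideal.radical_eq_jacobson]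
        exact hj
      rcases eq_top_or_eq_top hconn K₁ K₂ hsup hnil with h | h
      · have h2 : K₁ ≤ RingHom.ker (1 : WithConv (A →ₐ[k] k)).ofConv := by
          have := hKle 1
          rwa [hone] at this
        rw [h, top_le_iff] at h2
        exact RingHom.ker_ne_top _ h2
      · have h2 : K₂ ≤ RingHom.ker g.ofConv :=
          (Finset.inf_le (f := K) (b := f g) (Finset.mem_erase.2 ⟨hne, hfin.mem_toFinset.2 (hfass g)⟩)).trans (hKle g)
        rw [h, top_le_iff] at h2
        exact RingHom.ker_ne_top _ h2
    intro a ha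
    obtain ⟨M, hM, hPM⟩ := Ideal.exists_le_maximal P hPp.ne_top
    obtain ⟨p, hp⟩ := hpt M hM
    have h1 : a ∈ f p := by rw [hconst]; exact ha
    rw [hf] at h1
    rw [RingHom.mem_ker, ← point_tr_inv p a]
    exact RingHom.mem_ker.1 (hp.symm ▸ hPM (show tr k A p⁻¹ a ∈ P from h1))
  rw [eq_bot_iff]
  intro x hx
  by_contra hx0
  rw [Submodule.mem_bot] at hx0
  have hx' : x ∈ (⨅ n : ℕ, RingHom.ker (Bialgebra.counitAlgHom k A) ^ n • (⊤ : Submodule A A)) := by
    simpa only [smul_eq_mul, Ideal.mul_top] using hx
  obtain ⟨⟨r, hr⟩, hrx⟩ := (Ideal.mem_iInf_smul_pow_eq_bot_iff _ x).1 hx'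
  have hz : (1 - r) ∈ ⋃ P ∈ associatedPrimes A A, (P : Set A) := by
    rw [biUnion_associatedPrimes_eq_zero_divisors A A]
    refine ⟨x, hx0, ?_⟩
    simp only [smul_eq_mul] at hrx ⊢
    rw [sub_mul, one_mul, hrx, sub_self]
  obtain ⟨P, hP, hP'⟩ := Set.mem_iUnion₂.1 hz
  have h1 := (RingHom.ker (Bialgebra.counitAlgHom k A)).add_mem (hass P hP hP') hr
  rw [sub_add_cancel, RingHom.mem_ker, map_one] at h1
  exact one_ne_zero h1

end Groth.Agent.S17472
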