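import Groth.Statements.S1750
import Groth.Agent.InjHullBasic.Noetherian
-- import your own Groth.Agent.* helpers here

set_option autoImplicit false
universe u
open InjHull

namespace Groth.Agent.S1750

/-- Let R → S be a flat local homomorphism of Noetherian local rings with m_R S = m_S inducing a
bijection on residue fields. If κ_S → E is an injective hull of the residue field of S over S, then
E regarded as an R-module is an injective hull of the residue field of R (for a suitable R-linear
map κ_R → E). -/
theorem result (R S : Type u) [CommRing R] [CommRing S] [IsLocalRing R] [IsLocalRing S] [IsNoetherianRing R] [IsNoetherianRing S] [Algebra R S] [IsLocalHom (algebraMap R S)] [Module.Flat R S] (hm : (IsLocalRing.maximalIdeal R).map (algebraMap R S) = IsLocalRing.maximalIdeal S) (hk : Function.Bijective (IsLocalRing.ResidueField.map (algebraMap R S))) (E : Type u) [AddCommGroup E] [Module S E] [Module R E] [IsScalarTower R S E] (f : IsLocalRing.ResidueField S →ₗ[S] E) (hf : InjHull.IsInjectiveHull f) : ∃ g : IsLocalRing.ResidueField R →ₗ[R] E, InjHull.IsInjectiveHull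 g := by
  have := hf.isInjective
  have hE : Module.Injective R E := by
    refine Module.Baer.injective fun a g => ?_
    let ι : TensorProduct R S a →ₗ[S] TensorProduct R S R := a.subtype.baseChange S
    have hι : Function.Injective ι :=
      Module.Flat.lTensor_preserves_injective_linearMap a.subtype Subtype.val_injective
    obtain ⟨Φ, hΦ⟩ := Module.Injective.extension_property S E _ _ ι hι (g.liftBaseChange S)
    refine ⟨(Φ.restrictScalars R) ∘ₗ TensorProduct.mk R S R 1, fun x hx => ?_⟩
    have := LinearMap.congr_fun hΦ (TensorProduct.tmul R (1 : S) (⟨x, hx⟩ : a))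
    simpa [ι] using this
  let φ := IsLocalRing.ResidueField.map (algebraMap R S)
  have hφ : ∀ (r : R) (z : IsLocalRing.ResidueField R), φ (r • z) = algebraMap R S r • φ z :=
    fun r z => by
      rw [Algebra.smul_def, Algebra.smul_def, map_mul, IsLocalRing.ResidueField.algebraMap_eq,
        IsLocalRing.ResidueField.algebraMap_eq, IsLocalRing.ResidueField.map_residue]
  let g : IsLocalRing.ResidueField R →ₗ[R] E :=
    { toFun := fun z => f (φ z)
      map_add' := fun x y => by rw [map_add, map_add]
      map_smul' := fun r z => by rw [RingHom.id_apply, hφ, map_smul, algebraMap_smul] }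
  refine ⟨g, ⟨InjHullBasic.isEssentialInj_of_exists_smul (hf.injective.comp hk.injective)
    fun y hy => ?_, hE⟩⟩
  have htor : LocCoh.IsPowerTorsion (IsLocalRing.maximalIdeal S) E := by
    intro z
    have : (IsLocalRing.maximalIdeal S).IsMaximal := inferInstance
    exact InjHullBasic.isPowerTorsion_of_prime (p := IsLocalRing.maximalIdeal S) (f := f) hf z
  obtain ⟨n, hn⟩ := htor y
  classical
  have hex : ∃ j : ℕ, ∀ a ∈ IsLocalRing.maximalIdeal R ^ j, a • y = 0 := ⟨n, fun a ha => by
    rw [← algebraMap_smul S a y]
    exact hn _ (by rw [← hm, ← Ideal.map_pow]; exact Ideal.mem_map_of_mem _ ha)⟩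
  obtain ⟨j, hj⟩ : ∃ j, Nat.find hex = j + 1 := Nat.exists_eq_succ_of_ne_zero fun h => by
    have := Nat.find_spec hex
    rw [h, pow_zero] at this
    exact hy (by simpa using this 1 (by simp))
  obtain ⟨r, hr, hr0⟩ : ∃ r ∈ IsLocalRing.maximalIdeal R ^ j, r • y ≠ 0 := by
    by_contra! hall
    exact Nat.find_min hex (m := j) (by omega) hall
  have hsoc : ∀ s ∈ IsLocalRing.maximalIdeal S, s • r • y = 0 := by
    intro s hs
    rw [← hm] at hs
    have hspec := Nat.find_spec hex
    rw [hj] at hspec
    refine Submodule.span_induction (p := fun s _ => s • r • y = 0) ?_ ?_ ?_ ?_ hs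
    · rintro _ ⟨a, ha, rfl⟩
      rw [algebraMap_smul, ← mul_smul]
      exact hspec _ (by rw [pow_succ']; exact Ideal.mul_mem_mul ha hr)
    · exact zero_smul S _
    · intro u v _ _ hu hv
      rw [add_smul, hu, hv, add_zero]
    · intro c u _ hu
      rw [smul_assoc, hu, smul_zero]
  obtain ⟨c, x, hx, hc⟩ := InjHullBasic.exists_smul_mem_range hf.toIsEssentialInj hr0
  have hcu : IsUnit c := by
    by_contra hcm
    exact hc (hsoc c hcm)
  obtain ⟨x', hx'⟩ := hk.surjective ((hcu.unit⁻¹ : Sˣ) • x)
  refine ⟨r, x', ?_, hr0⟩
  change f (φ x') = r • y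
  rw [show φ x' = (hcu.unit⁻¹ : Sˣ) • x from hx', Units.smul_def, map_smul, hx, smul_smul,
    IsUnit.val_inv_mul, one_smul]

end Groth.Agent.S1750
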