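import Groth.Statements.S17500
import Mathlib

set_option autoImplicit false
universe u
open TorsMod

namespace Groth.Agent.S17500

open scoped TensorProduct

/-- Let p be a prime number, n a natural number and H a module over ℤ/p^nℤ. Then H is flat over ℤ/p^nℤ
if and only if, for every i with 0 ≤ i ≤ n, the kernel of multiplication by p^i on H coincides with
the image of multiplication by p^(n-i) on H. (The published item is phrased for an fppf sheaf of
ℤ/p^nℤ-modules on a scheme; this is the case of a single module, which is the case the argument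
treats.) -/
theorem result (p n : ℕ) [Fact p.Prime]
    (H : Type u) [AddCommGroup H] [Module (ZMod (p ^ n)) H] :
    Module.Flat (ZMod (p ^ n)) H ↔
      ∀ i : ℕ, i ≤ n →
        LinearMap.ker ((p ^ i : ZMod (p ^ n)) • (LinearMap.id : H →ₗ[ZMod (p ^ n)] H)) =
          LinearMap.range ((p ^ (n - i) : ZMod (p ^ n)) • (LinearMap.id : H →ₗ[ZMod (p ^ n)] H)) := by
  classical
  let R := ZMod (p ^ n)
  have hsurj : Function.Surjective (Int.castRingHom R) := ZMod.intCast_surjective
  have hpn : (p ^ n : R) = 0 := by
    have := ZMod.natCast_self (p ^ n)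
    push_cast at this
    exact this
  have hmem : ∀ i, ∀ x : H, x ∈ LinearMap.ker ((p ^ i : R) • (LinearMap.id : H →ₗ[R] H)) ↔ (p ^ i : R) • x = 0 := fun i x => Iff.rfl
  constructor
  · intro hflat i hi
    refine le_antisymm (fun x hx => ?_) ?_
    · have hrel : ∑ _u : Fin 1, (p ^ i : R) • x = 0 := by simpa using (hmem i x).mp hx
      obtain ⟨κ, a, y, hy, ha⟩ := Module.Flat.isTrivialRelation_of_sum_smul_eq_zero (R := R) (f := fun _ : Fin 1 => (p ^ i : R)) (x := fun _ => x) hrel
      have hdiv : ∀ j, ∃ c : R, a 0 j = (p ^ (n - i) : R) * c := fun j => by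
        obtain ⟨z, hz⟩ := hsurj (a 0 j)
        have h0 : ((p ^ i * z : ℤ) : R) = 0 := by
          have := ha j
          simp only [Finset.univ_unique, Finset.sum_singleton, Fin.default_eq_zero] at this
          rw [← hz] at this
          rw [Int.cast_mul, Int.cast_pow, Int.cast_natCast]
          simpa using this
        rw [ZMod.intCast_zmod_eq_zero_iff_dvd, show ((p ^ n : ℕ) : ℤ) = (p : ℤ) ^ i * (p : ℤ) ^ (n - i) by push_cast; rw [← pow_add, Nat.add_sub_cancel' hi]] at h0
        obtain ⟨c, hc⟩ := (mul_dvd_mul_iff_left (pow_ne_zero i (Int.natCast_ne_zero.mpr (Fact.out : p.Prime).ne_zero))).mp h0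
        exact ⟨(c : R), by rw [← hz, hc]; simp [R]⟩
      choose c hc using hdiv
      refine ⟨∑ j, c j • y j, ?_⟩
      show (p ^ (n - i) : R) • ∑ j, c j • y j = x
      rw [Finset.smul_sum]
      exact (Finset.sum_congr rfl fun j _ => by rw [smul_smul, ← hc j]).trans (hy 0).symm
    · rintro _ ⟨y, rfl⟩
      show (p ^ i : R) • (p ^ (n - i) : R) • y = 0
      rw [smul_smul, ← pow_add, Nat.add_sub_cancel' hi, hpn, zero_smul]
  · intro h
    rw [Module.Flat.iff_rTensor_injective']
    intro I
    obtain ⟨i, hi, hI⟩ : ∃ i ≤ n, I = Ideal.span {(p ^ i : R)} := by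
      obtain ⟨g, hg⟩ := (IsPrincipalIdealRing.principal (I.comap (Int.castRingHom R))).principal
      have hgn : g.natAbs ∣ p ^ n := by
        have : ((p ^ n : ℕ) : ℤ) ∈ I.comap (Int.castRingHom R) := by
          rw [Ideal.mem_comap, eq_intCast, Int.cast_natCast, ZMod.natCast_self]; exact zero_mem _
        rw [hg] at this
        replace this := Ideal.mem_span_singleton.mp this
        exact Int.natCast_dvd_natCast.mp (Int.natAbs_dvd.mpr this)
      obtain ⟨i, hi, he⟩ := (Nat.dvd_prime_pow Fact.out).mp hgn
      refine ⟨i, hi, ?_⟩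
      rw [← Ideal.map_comap_of_surjective _ hsurj I, hg, Ideal.submodule_span_eq, ← Int.span_natAbs, Ideal.map_span, Set.image_singleton, he]
      push_cast
      simp
    let gen : I := ⟨(p ^ i : R), hI ▸ Ideal.subset_span rfl⟩
    have hall : ∀ z : TensorProduct R I H, ∃ x : H, z = gen ⊗ₜ[R] x := by
      intro z
      induction z using TensorProduct.induction_on with
      | zero => exact ⟨0, by simp⟩
      | tmul w x =>
        obtain ⟨c, hc⟩ := Ideal.mem_span_singleton'.mp ((SetLike.ext_iff.mp hI _).mp w.2)
        refine ⟨c • x, ?_⟩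
        rw [← TensorProduct.smul_tmul]
        congr 1
        exact Subtype.ext hc.symm
      | add a b ha hb =>
        obtain ⟨x, rfl⟩ := ha; obtain ⟨y, rfl⟩ := hb
        exact ⟨x + y, (TensorProduct.tmul_add _ _ _).symm⟩
    rw [injective_iff_map_eq_zero]
    intro z hz
    obtain ⟨x, rfl⟩ := hall z
    have hx : (p ^ i : R) • x = 0 := by
      have := congrArg (TensorProduct.lid R H) hz
      change TensorProduct.lid R H ((p ^ i : R) ⊗ₜ[R] x) = TensorProduct.lid R H 0 at this
      rwa [TensorProduct.lid_tmul, map_zero] at this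
    obtain ⟨y, rfl⟩ := (h i hi).le ((hmem i x).mpr hx)
    show gen ⊗ₜ[R] ((p ^ (n - i) : R) • y) = 0
    rw [← TensorProduct.smul_tmul, show (p ^ (n - i) : R) • gen = 0 from Subtype.ext (by
      show (p ^ (n - i) : R) * (p ^ i : R) = 0
      rw [← pow_add, Nat.sub_add_cancel hi, hpn]), TensorProduct.zero_tmul]

end Groth.Agent.S17500
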