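import Groth.Statements.S17506
import Groth.Agent.ThetaRepLib.Basic

set_option autoImplicit false
universe u
open CategoryTheory
open ThetaRep

namespace Groth.Agent.S17506


open Groth.Agent.ThetaRepLib

variable {k : Type u} [Field k] {Γ : Type u} [Group Γ] {ι : kˣ →* Γ} [Finite (Γ ⧸ ι.range)]

/-- The translates by coset representatives span the endomorphisms of an irreducible weight one
representation on which every self-intertwiner is a scalar. -/
private theorem span_eq_top [IsAlgClosed k] {V : Type u} [AddCommGroup V] [Module k V] [FiniteDimensional k V]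
    (T : Theta ι) (ρ : Representation k Γ V) (hirr : ρ.IsIrreducible) (hρ : WeightOne ι ρ) :
    Submodule.span k (Set.range fun x : Γ ⧸ ι.range => ρ x.out) = ⊤ := by
  classical
  haveI := hirr
  haveI := nontrivial_of_irreducible hirr
  haveI := Fintype.ofFinite (Γ ⧸ ι.range)
  set S := Submodule.span k (Set.range fun x : Γ ⧸ ι.range => ρ x.out) with hS
  have hmem : ∀ γ, ρ γ ∈ S := by
    intro γ
    obtain ⟨z, hz⟩ := QuotientGroup.eq.1 (QuotientGroup.out_eq' (γ : Γ ⧸ ι.range))
    have : γ = (γ : Γ ⧸ ι.range).out * ι z := by rw [hz]; group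
    rw [this, hρ.mul_iota]
    exact Submodule.smul_mem _ _ (Submodule.subset_span ⟨_, rfl⟩)
  have hright : ∀ γ, ∀ A ∈ S, A ∘ₗ ρ γ ∈ S := by
    intro γ A hA
    induction hA using Submodule.span_induction with
    | mem A hA =>
      obtain ⟨x, rfl⟩ := hA
      show ρ x.out * ρ γ ∈ S
      rw [← map_mul]
      exact hmem _
    | zero => simp
    | add a b _ _ ha hb => rw [LinearMap.add_comp]; exact S.add_mem ha hb
    | smul c a _ ha => rw [LinearMap.smul_comp]; exact S.smul_mem c ha
  -- the functionals all of whose rank one operators lie in the span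
  let L : Submodule k (Module.Dual k V) :=
    { carrier := {g | ∀ v, LinearMap.smulRight g v ∈ S}
      add_mem' := fun {a b} ha hb v => by
        have : LinearMap.smulRight (a + b) v = LinearMap.smulRight a v + LinearMap.smulRight b v := by
          ext w; simp [add_smul]
        rw [this]; exact S.add_mem (ha v) (hb v)
      zero_mem' := fun v => by
        have : LinearMap.smulRight (0 : Module.Dual k V) v = 0 := by ext w; simp
        rw [this]; exact S.zero_mem
      smul_mem' := fun c a ha v => by
        have : LinearMap.smulRight (c • a) v = c • LinearMap.smulRight a v := by ext w; simp [mul_smul]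
        rw [this]; exact S.smul_mem c (ha v) }
  -- averages are scalars
  have hscalar : ∀ φ : V →ₗ[k] V, ∃ c : k, ∀ v, avg (ι := ι) ρ ρ φ v = c • v := by
    intro φ
    let f : Representation.IntertwiningMap ρ ρ :=
      { toLinearMap := avg (ι := ι) ρ ρ φ
        isIntertwining' := fun γ => LinearMap.ext fun v => avg_comm hρ hρ φ γ v }
    obtain ⟨c, hc⟩ := (Representation.IsIrreducible.algebraMap_intertwiningMap_bijective_of_isAlgClosed (ρ := ρ)).2 f
    refine ⟨c, fun v => ?_⟩
    have := congrArg (fun g => (g : Representation.IntertwiningMap ρ ρ) v) hc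
    simpa [f] using this.symm
  choose lam hlam using hscalar
  obtain ⟨v₀, hv₀⟩ := exists_ne (0 : V)
  let lamw : Module.Dual k V → Module.Dual k V := fun f =>
    { toFun := fun w => lam (LinearMap.smulRight f w)
      map_add' := fun a b => by
        have : avg (ι := ι) ρ ρ (LinearMap.smulRight f (a + b)) v₀ =
            avg (ι := ι) ρ ρ (LinearMap.smulRight f a) v₀ + avg (ι := ι) ρ ρ (LinearMap.smulRight f b) v₀ := by
          simp [avg, smul_add, Finset.sum_add_distrib]
        rw [hlam, hlam, hlam, ← add_smul] at this
        exact smul_left_injective k hv₀ this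
      map_smul' := fun c a => by
        have : avg (ι := ι) ρ ρ (LinearMap.smulRight f (c • a)) v₀ =
            c • avg (ι := ι) ρ ρ (LinearMap.smulRight f a) v₀ := by
          simp [avg, Finset.smul_sum, smul_comm c]
        rw [hlam, hlam, smul_smul] at this
        exact smul_left_injective k hv₀ this }
  have hL : ∀ f, lamw f ∈ L := by
    intro f v
    have : LinearMap.smulRight (lamw f) v = ∑ x : Γ ⧸ ι.range, f (ρ x.out⁻¹ v) • ρ x.out := by
      ext w
      have h := hlam (LinearMap.smulRight f w) v
      simp only [avg, LinearMap.sum_apply, LinearMap.comp_apply, LinearMap.smulRight_apply, map_smul] at h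
      simp only [LinearMap.smulRight_apply, LinearMap.sum_apply, LinearMap.smul_apply]
      exact h.symm
    rw [this]
    exact S.sum_mem fun x _ => S.smul_mem _ (Submodule.subset_span ⟨x, rfl⟩)
  have hne : ∃ f, lamw f ≠ 0 := by
    obtain ⟨φ, hφ⟩ := exists_avg_ne_zero (ρ := ρ) T hρ (V := V)
    by_contra hcon
    push Not at hcon
    let x₀ : Γ ⧸ ι.range := ((1 : Γ) : Γ ⧸ ι.range)
    have hv' : ρ x₀.out⁻¹ v₀ ≠ 0 := fun h => hv₀ (by rw [← rho_apply_inv (σ := ρ) x₀.out v₀, h, map_zero])
    obtain ⟨f, hf⟩ := Module.Projective.exists_dual_ne_zero k hv'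
    refine hf (Fintype.linearIndependent_iff.1 (hρ.linearIndependent T) (fun x => f (ρ x.out⁻¹ v₀)) ?_ x₀)
    ext w
    have h := hlam (LinearMap.smulRight f w) v₀
    have h0 : lam (LinearMap.smulRight f w) = 0 := LinearMap.congr_fun (hcon f) w
    simp only [avg, LinearMap.sum_apply, LinearMap.comp_apply, LinearMap.smulRight_apply, map_smul, h0, zero_smul] at h
    simpa using h
  have hbot : L.dualCoannihilator = ⊥ := by
    by_contra hb
    have h1 := eq_top_of_invariant hirr L.dualCoannihilator (fun γ w hw => by
      rw [Submodule.mem_dualCoannihilator] at hw ⊢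
      intro g hg
      refine hw (g ∘ₗ ρ γ) fun v => ?_
      have : LinearMap.smulRight (g ∘ₗ ρ γ) v = LinearMap.smulRight g v ∘ₗ ρ γ := by ext w; simp
      rw [this]
      exact hright γ _ (hg v)) hb
    obtain ⟨f, hf⟩ := hne
    exact hf (LinearMap.ext fun w => (Submodule.mem_dualCoannihilator _).1 (h1.ge Submodule.mem_top) _ (hL f))
  have hLtop : L = ⊤ := by
    rw [← Subspace.dualCoannihilator_dualAnnihilator_eq (W := L), hbot, Submodule.dualAnnihilator_bot]
  rw [eq_top_iff]
  intro A _
  let b := Module.finBasis k V
  have : A = ∑ i, LinearMap.smulRight (b.coord i) (A (b i)) := by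
    refine b.ext fun j => ?_
    simp [Finsupp.single_apply]
  rw [this]
  exact S.sum_mem fun i _ => (hLtop.ge Submodule.mem_top : b.coord i ∈ L) _

/-- Let k be an algebraically closed field and Γ a group given with an injective homomorphism ι from the
multiplicative group kˣ onto the centre of Γ, such that the quotient K = Γ/ι(kˣ) is a finite
commutative group (every commutator lies in ι(kˣ)) whose order is prime to the characteristic
exponent of k — the group of k-points of a non-degenerate theta group 1 → G_m → G → K → 1 with
rank(K) prime to char(k), non-degeneracy of the commutator pairing being the condition that ι(kˣ) is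
the whole centre. A finite-dimensional representation of Γ over k has weight 1 when ι(z) acts as
multiplication by z for every z. Then Γ has an irreducible finite-dimensional representation of
weight 1; any two irreducible finite-dimensional representations of weight 1 are equivalent; and
every irreducible finite-dimensional representation V of weight 1 satisfies (dim_k V)² = |K|. (The
published statement is about representations of the theta group scheme; under its hypotheses K is a
constant group scheme and the statement is rendered here for the group of k-points.) -/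
theorem result (k : Type u) [Field k] [IsAlgClosed k]
    (Γ : Type u) [Group Γ] (ι : kˣ →* Γ) (hι : Function.Injective ι)
    (hcent : ι.range = Subgroup.center Γ) (hcomm : commutator Γ ≤ ι.range)
    [Finite (Γ ⧸ ι.range)] (hcop : (Nat.card (Γ ⧸ ι.range)).Coprime (ringExpChar k)) :
    (∃ V : FDRep k Γ, Representation.IsIrreducible V.ρ ∧ ∀ (z : kˣ) (v : V), V.ρ (ι z) v = (z : k) • v) ∧
    (∀ V W : FDRep k Γ, Representation.IsIrreducible V.ρ → Representation.IsIrreducible W.ρ →
      (∀ (z : kˣ) (v : V), V.ρ (ι z) v = (z : k) • v) → (∀ (z : kˣ) (w : W), W.ρ (ι z) w = (z : k) • w) →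
      Nonempty (Representation.Equiv V.ρ W.ρ)) ∧
    (∀ V : FDRep k Γ, Representation.IsIrreducible V.ρ → (∀ (z : kˣ) (v : V), V.ρ (ι z) v = (z : k) • v) →
      Module.finrank k V ^ 2 = Nat.card (Γ ⧸ ι.range)) := by
  classical
  have T : Theta ι := ⟨hι, hcent, hcomm⟩
  haveI := Fintype.ofFinite (Γ ⧸ ι.range)
  refine ⟨?_, ?_, ?_⟩
  · -- existence: an irreducible subrepresentation of the twisted regular representation
    let F : Submodule k (Γ → k) :=
      { carrier := {f | ∀ (γ : Γ) (z : kˣ), f (γ * ι z) = ((z⁻¹ : kˣ) : k) * f γ}
        add_mem' := fun {a b} ha hb γ z => by simp [ha γ z, hb γ z, mul_add]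
        zero_mem' := fun γ z => by simp
        smul_mem' := fun c a ha γ z => by simp [ha γ z]; ring }
    let R : Representation k Γ F :=
      { toFun := fun a =>
          { toFun := fun f => ⟨fun γ => f.1 (a⁻¹ * γ), fun γ z => by dsimp only; rw [← mul_assoc]; exact f.2 _ _⟩
            map_add' := fun f g => rfl
            map_smul' := fun c f => rfl }
        map_one' := by
          refine LinearMap.ext fun f => Subtype.ext (funext fun γ => ?_)
          simp
        map_mul' := fun a b => by
          refine LinearMap.ext fun f => Subtype.ext (funext fun γ => ?_)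
          simp [mul_assoc] }
    have hR : WeightOne ι R := by
      intro z f
      refine Subtype.ext (funext fun γ => ?_)
      show f.1 ((ι z)⁻¹ * γ) = (z : k) * f.1 γ
      rw [← map_inv, ← T.central, f.2]
      simp
    haveI : Module.Finite k F := Module.Finite.of_injective
      ((LinearMap.funLeft k k (fun x : Γ ⧸ ι.range => x.out)).comp F.subtype) (by
        rw [injective_iff_map_eq_zero]
        intro f hf
        refine Subtype.ext (funext fun γ => ?_)
        obtain ⟨z, hz⟩ := QuotientGroup.eq.1 (QuotientGroup.out_eq' (γ : Γ ⧸ ι.range))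
        have hγ : γ = (γ : Γ ⧸ ι.range).out * ι z := by rw [hz]; group
        have h0 : f.1 (γ : Γ ⧸ ι.range).out = 0 := congrFun hf (γ : Γ ⧸ ι.range)
        show f.1 γ = 0
        rw [hγ, f.2, h0, mul_zero])
    haveI : Nontrivial F := by
      refine ⟨⟨⟨fun γ => if h : γ ∈ ι.range then ((h.choose⁻¹ : kˣ) : k) else 0, fun γ z => ?_⟩, 0, fun h => ?_⟩⟩
      · by_cases hγ : γ ∈ ι.range
        · have h2 : γ * ι z ∈ ι.range := mul_mem hγ ⟨z, rfl⟩
          simp only [dif_pos hγ, dif_pos h2]
          have : h2.choose = hγ.choose * z := hι (by rw [h2.choose_spec, map_mul, hγ.choose_spec])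
          rw [this, mul_inv_rev, Units.val_mul]
        · have h2 : γ * ι z ∉ ι.range := fun h => hγ (by simpa using mul_mem h (inv_mem (⟨z, rfl⟩ : ι z ∈ ι.range)))
          simp only [dif_neg hγ, dif_neg h2, mul_zero]
      · have := congrFun (congrArg Subtype.val h) 1
        simp only [dif_pos (one_mem ι.range)] at this
        exact Units.ne_zero _ this
    -- a minimal nonzero subrepresentation
    obtain ⟨p, ⟨hp, hp0⟩, hmin⟩ := (wellFounded_lt (α := Submodule k F)).has_min
      {p : Submodule k F | (∀ (γ : Γ), ∀ w ∈ p, R γ w ∈ p) ∧ p ≠ ⊥} ⟨⊤, fun _ _ _ => Submodule.mem_top, top_ne_bot⟩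
    let P : Subrepresentation R := ⟨p, hp⟩
    let Q : Representation k Γ p := P.toRepresentation
    refine ⟨FDRep.of (V := p) Q, ?_, ?_⟩
    swap
    · intro z v
      rw [FDRep.of_ρ']
      exact Subtype.ext (hR z (v : p).1)
    haveI : Nontrivial (Subrepresentation P.toRepresentation) := by
      refine ⟨⊥, ⊤, fun h => hp0 ?_⟩
      have := congrArg Subrepresentation.toSubmodule h
      have h2 : (⊥ : Submodule k p) = ⊤ := this
      rw [Submodule.eq_bot_iff]
      intro x hx
      have h3 : (⟨x, hx⟩ : p) ∈ (⊥ : Submodule k p) := h2.symm ▸ Submodule.mem_top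
      exact congrArg Subtype.val ((Submodule.mem_bot k).1 h3)
    refine (⟨fun q => ?_⟩ : IsSimpleOrder (Subrepresentation P.toRepresentation))
    by_cases hq : q.toSubmodule = ⊥
    · exact Or.inl (Subrepresentation.toSubmodule_injective hq)
    · refine Or.inr (Subrepresentation.toSubmodule_injective ?_)
      have hmem : q.toSubmodule.map p.subtype ∈
          {p : Submodule k F | (∀ (γ : Γ), ∀ w ∈ p, R γ w ∈ p) ∧ p ≠ ⊥} := by
        refine ⟨?_, fun h => hq (Submodule.map_injective_of_injective p.injective_subtype (h.trans (Submodule.map_bot _).symm))⟩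
        rintro γ _ ⟨w, hw, rfl⟩
        exact ⟨_, q.apply_mem_toSubmodule γ hw, rfl⟩
      have hle : q.toSubmodule.map p.subtype ≤ p := Submodule.map_subtype_le _ _
      have heq : q.toSubmodule.map p.subtype = p := hle.eq_or_lt.resolve_right (hmin _ hmem)
      refine Submodule.map_injective_of_injective p.injective_subtype ?_
      rw [heq]
      exact (Submodule.map_top _).trans p.range_subtype |>.symm
  · -- uniqueness
    intro V W hV hW hV1 hW1
    haveI := nontrivial_of_irreducible hV
    haveI := nontrivial_of_irreducible hW
    obtain ⟨φ, hφ⟩ := exists_avg_ne_zero (ρ := (V.ρ : Representation k Γ V)) (σ := (W.ρ : Representation k Γ W))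
      T hW1
    let f : Representation.IntertwiningMap (V.ρ : Representation k Γ V) (W.ρ : Representation k Γ W) :=
      { toLinearMap := avg (ι := ι) V.ρ W.ρ φ
        isIntertwining' := fun γ => LinearMap.ext fun v => avg_comm hV1 hW1 φ γ v }
    haveI := hV
    haveI := hW
    refine ⟨f.ofBijective ((Representation.IsIrreducible.bijective_or_eq_zero f).resolve_right fun h => hφ ?_)⟩
    exact congrArg Representation.IntertwiningMap.toLinearMap h
  · -- dimension
    intro V hV hV1
    haveI := nontrivial_of_irreducible hV
    have hli := WeightOne.linearIndependent (σ := (V.ρ : Representation k Γ V)) T hV1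
    have hsp := span_eq_top T (V.ρ : Representation k Γ V) hV hV1
    have b := Module.Basis.mk hli hsp.ge
    rw [Nat.card_eq_fintype_card, ← Module.finrank_eq_card_basis b, Module.finrank_linearMap, sq]

end Groth.Agent.S17506
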