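import Groth.Statements.S17507
import Groth.Agent.ThetaRepLib.Basic

set_option autoImplicit false
universe u
open CategoryTheory
open ThetaRep

namespace Groth.Agent.S17507


open Groth.Agent.ThetaRepLib

variable {k : Type u} [Field k] {Γ : Type u} [Group Γ] {ι : kˣ →* Γ} [Finite (Γ ⧸ ι.range)]

/-- A subgroup meeting the scalars trivially, together with the scalars. -/
private def withScalars (T : Theta ι) (H : Subgroup Γ) : Subgroup Γ where
  carrier := {g | ∃ h ∈ H, ∃ z, g = h * ι z}
  one_mem' := ⟨1, one_mem H, 1, by simp⟩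
  mul_mem' := by
    rintro _ _ ⟨h, hh, z, rfl⟩ ⟨h', hh', z', rfl⟩
    refine ⟨h * h', mul_mem hh hh', z * z', ?_⟩
    rw [map_mul, mul_assoc h, ← mul_assoc (ι z), ← T.central z h']
    group
  inv_mem' := by
    rintro _ ⟨h, hh, z, rfl⟩
    refine ⟨h⁻¹, inv_mem hh, z⁻¹, ?_⟩
    rw [mul_inv_rev, ← map_inv, T.central]

/-- Elements of a level subgroup commute. -/
private theorem level_comm (T : Theta ι) {H : Subgroup Γ} (hH : H ⊓ ι.range = ⊥) {a b : Γ}
    (ha : a ∈ H) (hb : b ∈ H) : a * b = b * a := by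
  rw [← T.pair_eq_one_iff]
  have h1 : ι (T.pair a b) ∈ H := by
    have : ι (T.pair a b) = (b * a)⁻¹ * (a * b) := by rw [T.pair_spec a b]; group
    rw [this]
    exact mul_mem (inv_mem (mul_mem hb ha)) (mul_mem ha hb)
  have h2 : ι (T.pair a b) ∈ H ⊓ ι.range := ⟨h1, _, rfl⟩
  rw [hH, Subgroup.mem_bot] at h2
  exact T.inj (h2.trans (map_one ι).symm)

/-- The centralizer of a maximal level subgroup. -/
private theorem mem_withScalars_of_comm [IsAlgClosed k] (T : Theta ι) {H : Subgroup Γ} (hH : H ⊓ ι.range = ⊥)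
    (hmax : ∀ H' : Subgroup Γ, H' ⊓ ι.range = ⊥ → H ≤ H' → H' = H)
    {x : Γ} (hx : ∀ h ∈ H, h * x = x * h) : x ∈ withScalars T H := by
  classical
  have hex : ∃ n, 0 < n ∧ x ^ n ∈ withScalars T H := by
    obtain ⟨i, j, hij, h⟩ := Finite.exists_ne_map_eq_of_infinite fun n : ℕ => ((x ^ n : Γ) : Γ ⧸ ι.range)
    wlog hlt : i < j generalizing i j
    · exact this j i hij.symm h.symm (by omega)
    obtain ⟨z, hz⟩ := QuotientGroup.eq.1 h
    refine ⟨j - i, by omega, 1, one_mem H, z, ?_⟩
    rw [one_mul, hz, pow_sub x hlt.le]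
    exact Commute.pow_pow (Commute.refl x) j i |>.inv_right |>.eq
  obtain ⟨hn0, h₀, hh₀, z, hz⟩ := Nat.find_spec hex
  set n := Nat.find hex
  obtain ⟨w₀, hw₀⟩ := IsAlgClosed.exists_pow_nat_eq (z : k) hn0
  have hw0 : w₀ ≠ 0 := fun h => Units.ne_zero z (by rw [← hw₀, h, zero_pow hn0.ne'])
  let w : kˣ := Units.mk0 w₀ hw0
  have hw : w ^ n = z := Units.ext (by simp [w, hw₀])
  set y := x * ι w⁻¹ with hy
  have hyn : y ^ n = h₀ := by
    rw [hy, (show Commute x (ι w⁻¹) from T.central _ x).mul_pow, ← map_pow, hz, inv_pow, hw, mul_assoc,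
      ← map_mul, mul_inv_cancel, map_one, mul_one]
  have hycomm : ∀ h ∈ H, Commute h y := fun h hh =>
    Commute.mul_right (hx h hh) (T.central _ h)
  let H' : Subgroup Γ :=
    { carrier := {g | ∃ h ∈ H, ∃ m : ℤ, g = h * y ^ m}
      one_mem' := ⟨1, one_mem H, 0, by simp⟩
      mul_mem' := by
        rintro _ _ ⟨h, hh, m, rfl⟩ ⟨h', hh', m', rfl⟩
        refine ⟨h * h', mul_mem hh hh', m + m', ?_⟩
        rw [zpow_add, mul_assoc h, ← mul_assoc (y ^ m), ← ((hycomm h' hh').zpow_right m).eq]
        group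
      inv_mem' := by
        rintro _ ⟨h, hh, m, rfl⟩
        refine ⟨h⁻¹, inv_mem hh, -m, ?_⟩
        rw [mul_inv_rev, zpow_neg, ← ((hycomm h hh).zpow_right m).inv_inv.eq] }
  have hH' : H' ⊓ ι.range = ⊥ := by
    rw [Subgroup.eq_bot_iff_forall]
    rintro g ⟨⟨h, hh, m, rfl⟩, u, hu⟩
    have hyL : y ^ m ∈ withScalars T H := ⟨h⁻¹, inv_mem hh, u, by rw [hu]; group⟩
    have hiL : ∀ z, ι z ∈ withScalars T H := fun z => ⟨1, one_mem H, z, by rw [one_mul]⟩
    have hxL : x ^ m ∈ withScalars T H := by
      have : x ^ m = y ^ m * ι (w ^ m) := by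
        rw [hy, (show Commute x (ι w⁻¹) from T.central _ x).mul_zpow, ← map_zpow, mul_assoc, ← map_mul,
          inv_zpow, inv_mul_cancel, map_one, mul_one]
      rw [this]
      exact mul_mem hyL (hiL _)
    have hxnL : x ^ n ∈ withScalars T H := ⟨h₀, hh₀, z, hz⟩
    obtain ⟨q, r, hr0, hrn, rfl⟩ : ∃ (q : ℤ) (r : ℤ), 0 ≤ r ∧ r < n ∧ m = n * q + r :=
      ⟨m / n, m % n, Int.emod_nonneg _ (by omega), Int.emod_lt_of_pos _ (by omega), (Int.mul_ediv_add_emod m n).symm⟩
    have hxr : x ^ r.toNat ∈ withScalars T H := by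
      have h5 := mul_mem (inv_mem (zpow_mem hxnL q)) hxL
      rwa [zpow_add, zpow_mul, zpow_natCast, ← mul_assoc, inv_mul_cancel, one_mul, ← Int.toNat_of_nonneg hr0,
        zpow_natCast] at h5
    have hr : r = 0 := by
      by_contra hne
      exact absurd (Nat.find_min' hex ⟨by omega, hxr⟩) (by omega)
    subst hr
    have hyH : y ^ ((n : ℤ) * q + 0) ∈ H := by
      rw [add_zero, zpow_mul, zpow_natCast, hyn]
      exact zpow_mem hh₀ q
    have h6 : h * y ^ ((n : ℤ) * q + 0) ∈ H ⊓ ι.range := ⟨mul_mem hh hyH, u, hu⟩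
    rwa [hH, Subgroup.mem_bot] at h6
  have hle : H ≤ H' := fun h hh => ⟨h, hh, 0, by simp⟩
  have hyH : y ∈ H := by
    rw [← hmax H' hH' hle]
    exact ⟨1, one_mem H, 1, by simp⟩
  exact ⟨y, hyH, w, by rw [hy, mul_assoc, ← map_mul, inv_mul_cancel, map_one, mul_one]⟩

/-- The number of cosets of the scalar extension of `H` multiplies the invariants to the whole space. -/
private theorem finrank_eq [IsAlgClosed k] (T : Theta ι) (hcop : (Nat.card (Γ ⧸ ι.range)).Coprime (ringExpChar k))
    {H : Subgroup Γ} (hH : H ⊓ ι.range = ⊥)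
    (hmax : ∀ H' : Subgroup Γ, H' ⊓ ι.range = ⊥ → H ≤ H' → H' = H)
    {W : Type u} [AddCommGroup W] [Module k W] [FiniteDimensional k W]
    (σ : Representation k Γ W) (hσ : WeightOne ι σ) :
    Module.finrank k W = Nat.card (Γ ⧸ withScalars T H) * Module.finrank k (Representation.invariants (σ.comp H.subtype)) ∧
      (σ.IsIrreducible → Module.finrank k (Representation.invariants (σ.comp H.subtype)) = 1) := by
  classical
  haveI := T.normal
  have hN0 : Nat.card (Γ ⧸ ι.range) ≠ 0 := Nat.card_pos.ne'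
  have hle : ι.range ≤ withScalars T H := fun g ⟨z, hz⟩ => ⟨1, one_mem H, z, by rw [one_mul, hz]⟩
  haveI hfinL : Finite (Γ ⧸ withScalars T H) :=
    Finite.of_surjective (Subgroup.quotientMapOfLE hle) fun x => by
      induction x using QuotientGroup.induction_on with
      | _ g => exact ⟨(g : Γ ⧸ ι.range), rfl⟩
  have hHinj : Function.Injective (fun h : H => ((h : Γ) : Γ ⧸ ι.range)) := by
    intro a b hab
    obtain ⟨z, hz⟩ := QuotientGroup.eq.1 hab
    have h1 : ι z ∈ H ⊓ ι.range := ⟨(show ι z ∈ H by rw [hz]; exact mul_mem (inv_mem a.2) b.2), z, rfl⟩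
    rw [hH, Subgroup.mem_bot, hz, inv_mul_eq_one] at h1
    exact Subtype.ext h1
  haveI : Finite H := Finite.of_injective _ hHinj
  haveI := Fintype.ofFinite (Γ ⧸ withScalars T H)
  haveI := Fintype.ofFinite H
  have hM : (Fintype.card H : k) ≠ 0 := by
    refine natCast_ne_zero hN0 hcop ?_
    have e : Nat.card ((H.map (QuotientGroup.mk' ι.range))) = Nat.card H := by
      refine (Nat.card_congr (Equiv.ofBijective (fun h : H => (⟨_, h, h.2, rfl⟩ : H.map (QuotientGroup.mk' ι.range))) ⟨?_, ?_⟩)).symm
      · intro a b hab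
        exact hHinj (congrArg Subtype.val hab)
      · rintro ⟨_, h, hh, rfl⟩
        exact ⟨⟨h, hh⟩, rfl⟩
    rw [← Nat.card_eq_fintype_card, ← e]
    exact Subgroup.card_subgroup_dvd_card _
  have hm : (Fintype.card (Γ ⧸ withScalars T H) : k) ≠ 0 := by
    refine natCast_ne_zero hN0 hcop ?_
    rw [← Nat.card_eq_fintype_card]
    exact Subgroup.index_dvd_of_le hle
  -- the projector onto the invariants
  let P : W →ₗ[k] W := (Fintype.card H : k)⁻¹ • ∑ h : H, σ h
  let I := Representation.invariants (σ.comp H.subtype)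
  have hI : ∀ v, v ∈ I ↔ ∀ h : H, σ h v = v := fun v => Iff.rfl
  have hPfix : ∀ v ∈ I, P v = v := by
    intro v hv
    simp only [P, LinearMap.smul_apply, LinearMap.sum_apply, (hI v).1 hv, Finset.sum_const, Finset.card_univ]
    rw [← Nat.cast_smul_eq_nsmul k, smul_smul, inv_mul_cancel₀ hM, one_smul]
  have hσP : ∀ (h : H) v, σ h (P v) = P v := by
    intro h v
    simp only [P, LinearMap.smul_apply, LinearMap.sum_apply, map_smul, map_sum]
    refine congrArg _ (Fintype.sum_equiv (Equiv.mulLeft h) _ _ fun x => ?_)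
    rw [Equiv.coe_mulLeft, Subgroup.coe_mul, map_mul, Module.End.mul_apply]
  have hPσ : ∀ (h : H) v, P (σ h v) = P v := by
    intro h v
    simp only [P, LinearMap.smul_apply, LinearMap.sum_apply]
    refine congrArg _ (Fintype.sum_equiv (Equiv.mulRight h) _ _ fun x => ?_)
    rw [Equiv.coe_mulRight, Subgroup.coe_mul, map_mul, Module.End.mul_apply]
  have hPI : ∀ v, P v ∈ I := fun v => (hI _).2 fun h => hσP h v
  -- `P σ(a) P`
  have hzero : ∀ a, a ∉ withScalars T H → ∀ v ∈ I, P (σ a v) = 0 := by
    intro a ha v hv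
    obtain ⟨h, hh, hne⟩ : ∃ h ∈ H, T.pair h a ≠ 1 := by
      by_contra hcon
      push Not at hcon
      exact ha (mem_withScalars_of_comm T hH hmax fun h hh => T.pair_eq_one_iff.1 (hcon h hh))
    have h1 : P (σ a v) = (T.pair h a : k) • P (σ a v) := by
      conv_lhs => rw [← hPσ ⟨h, hh⟩ (σ a v)]
      rw [hσ.swap T, map_smul, (hI v).1 hv ⟨h, hh⟩]
    have h2 : ((1 : k) - T.pair h a) • P (σ a v) = 0 := by rw [sub_smul, one_smul, ← h1, sub_self]
    exact (smul_eq_zero.1 h2).resolve_left (sub_ne_zero.2 fun he => hne (Units.ext he.symm))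
  have hscal : ∀ a ∈ withScalars T H, ∀ v ∈ I, ∃ c : k, P (σ a v) = c • v := by
    rintro _ ⟨h, hh, z, rfl⟩ v hv
    refine ⟨z, ?_⟩
    rw [hσ.mul_iota]
    show P ((z : k) • σ h v) = _
    rw [map_smul, hPσ ⟨h, hh⟩, hPfix v hv]
  let t : Γ ⧸ withScalars T H → Γ := fun x => x.out
  -- the identity decomposes
  have hdec : ∀ v, ∑ x : Γ ⧸ withScalars T H, σ (t x) (P (σ (t x)⁻¹ v)) =
      ((Fintype.card H : k)⁻¹ * (Fintype.card (Γ ⧸ withScalars T H) : k)) • v := by
    intro v
    have hterm : ∀ x, σ (t x) (P (σ (t x)⁻¹ v)) =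
        (Fintype.card H : k)⁻¹ • ∑ h : H, (T.pair (t x) h : k) • σ h v := by
      intro x
      simp only [P, LinearMap.smul_apply, LinearMap.sum_apply, map_smul, map_sum]
      refine congrArg _ (Finset.sum_congr rfl fun h _ => ?_)
      rw [hσ.swap T, rho_apply_inv]
    simp only [hterm, ← Finset.smul_sum]
    rw [Finset.sum_comm, mul_smul]
    refine congrArg _ ?_
    rw [Finset.sum_eq_single (1 : H)]
    · have : ∀ x, T.pair (t x) (1 : Γ) = 1 := fun x => T.pair_eq_one_iff.2 (by simp)
      simp only [this, Units.val_one, OneMemClass.coe_one, map_one, Module.End.one_apply, one_smul,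
        Finset.sum_const, Finset.card_univ, ← Nat.cast_smul_eq_nsmul k]
    · intro h _ hne
      rw [← Finset.sum_smul]
      suffices hs : (∑ x, (T.pair (t x) h : k)) = 0 by rw [hs, zero_smul]
      obtain ⟨γ, hγ⟩ : ∃ γ, T.pair γ h ≠ 1 := by
        by_contra hcon
        push Not at hcon
        have hmem : (h : Γ) ∈ H ⊓ ι.range :=
          ⟨h.2, T.mem_range_of_forall_comm fun b => T.pair_eq_one_iff.1 (hcon b)⟩
        rw [hH, Subgroup.mem_bot] at hmem
        exact hne (Subtype.ext hmem)
      have hL : ∀ a l, l ∈ withScalars T H → T.pair (a * l) h = T.pair a h := by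
        rintro a _ ⟨h', hh', z, rfl⟩
        have h1 : T.pair (h' * ι z) h = 1 := T.pair_eq_one_iff.2 (by
          rw [mul_assoc, ← T.central z h, ← mul_assoc, level_comm T hH hh' h.2, mul_assoc])
        rw [T.pair_mul_left, h1, mul_one]
      have hperm : (∑ x, (T.pair (t x) h : k)) = (T.pair γ h : k) * ∑ x, (T.pair (t x) h : k) := by
        rw [Finset.mul_sum]
        refine (Fintype.sum_equiv (MulAction.toPerm γ) _ _ fun x => ?_).symm
        have hcos : ((γ * t x : Γ) : Γ ⧸ withScalars T H) = (t (γ • x) : Γ) := by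
          show _ = (((γ • x).out : Γ) : Γ ⧸ withScalars T H)
          rw [QuotientGroup.out_eq']
          conv_rhs => rw [← x.out_eq']
          rfl
        have : t (γ • x) = γ * t x * ((γ * t x)⁻¹ * t (γ • x)) := by group
        rw [MulAction.toPerm_apply, this, hL _ _ (QuotientGroup.eq.1 hcos), T.pair_mul_left, Units.val_mul]
      have h3 : ((1 : k) - T.pair γ h) * ∑ x, (T.pair (t x) h : k) = 0 := by
        rw [sub_mul, one_mul, ← hperm, sub_self]
      exact (mul_eq_zero.1 h3).resolve_left (sub_ne_zero.2 fun he => hγ (Units.ext he.symm))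
    · simp
  constructor
  · let Φ : (Γ ⧸ withScalars T H → I) →ₗ[k] W :=
      ∑ x, σ (t x) ∘ₗ I.subtype ∘ₗ LinearMap.proj x
    have hΦ : ∀ f, Φ f = ∑ x, σ (t x) (f x : W) := fun f => by simp [Φ]
    have hinj : Function.Injective Φ := by
      rw [injective_iff_map_eq_zero]
      intro f hf
      funext y
      refine Subtype.ext ?_
      have h1 : P (σ (t y)⁻¹ (Φ f)) = (f y : W) := by
        rw [hΦ, map_sum, map_sum, Finset.sum_eq_single y]
        · rw [rho_inv_apply, hPfix _ (f y).2]
        · intro x _ hxy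
          rw [← Module.End.mul_apply (σ _) (σ _), ← map_mul]
          refine hzero _ (fun hmem => hxy ?_) _ (f x).2
          rw [← x.out_eq', ← y.out_eq']
          exact (QuotientGroup.eq.2 hmem).symm
        · simp
      rw [← h1, hf, map_zero, map_zero]
      rfl
    have hsurj : Function.Surjective Φ := by
      intro v
      refine ⟨fun x => ((Fintype.card H : k)⁻¹ * (Fintype.card (Γ ⧸ withScalars T H) : k))⁻¹ •
        ⟨P (σ (t x)⁻¹ v), hPI _⟩, ?_⟩
      rw [hΦ]
      simp only [Submodule.coe_smul, map_smul, ← Finset.smul_sum, hdec, smul_smul]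
      rw [inv_mul_cancel₀ (mul_ne_zero (inv_ne_zero hM) hm), one_smul]
    rw [← (LinearEquiv.ofBijective Φ ⟨hinj, hsurj⟩).finrank_eq, Module.finrank_pi_fintype, Finset.sum_const,
      Finset.card_univ, smul_eq_mul, Nat.card_eq_fintype_card]
  · intro hirr
    haveI := nontrivial_of_irreducible hirr
    obtain ⟨v₁, hv₁⟩ := exists_ne (0 : W)
    obtain ⟨w, hw⟩ : ∃ w : I, w ≠ 0 := by
      by_contra hcon
      push Not at hcon
      apply hv₁
      have h0 := hdec v₁
      simp only [show ∀ v, P v = 0 from fun v => congrArg Subtype.val (hcon ⟨P v, hPI v⟩), map_zero,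
        Finset.sum_const_zero] at h0
      exact (smul_eq_zero.1 h0.symm).resolve_left (mul_ne_zero (inv_ne_zero hM) hm)
    have hspan : Submodule.span k (Set.range fun γ => σ γ (w : W)) = ⊤ := by
      refine eq_top_of_invariant hirr _ (fun γ v hv => ?_) ?_
      · induction hv using Submodule.span_induction with
        | mem v hv =>
          obtain ⟨γ', rfl⟩ := hv
          rw [← Module.End.mul_apply, ← map_mul]
          exact Submodule.subset_span ⟨_, rfl⟩
        | zero => simp
        | add a b _ _ ha hb => rw [map_add]; exact Submodule.add_mem _ ha hb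
        | smul c a _ ha => rw [map_smul]; exact Submodule.smul_mem _ c ha
      · intro hbot
        have h1 : (w : W) ∈ Submodule.span k (Set.range fun γ => σ γ (w : W)) :=
          Submodule.subset_span ⟨1, by simp⟩
        rw [hbot, Submodule.mem_bot] at h1
        exact hw (Subtype.ext h1)
    refine finrank_eq_one w hw fun v => ?_
    have hv : (v : W) ∈ Submodule.map P (Submodule.span k (Set.range fun γ => σ γ (w : W))) :=
      ⟨v, hspan ▸ Submodule.mem_top, hPfix _ v.2⟩
    rw [Submodule.map_span, ← Set.range_comp] at hv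
    have hle' : Submodule.span k (Set.range (P ∘ fun γ => σ γ (w : W))) ≤ Submodule.span k {(w : W)} := by
      rw [Submodule.span_le]
      rintro _ ⟨γ, rfl⟩
      rw [SetLike.mem_coe, Submodule.mem_span_singleton]
      by_cases hγ : γ ∈ withScalars T H
      · obtain ⟨c, hc⟩ := hscal γ hγ _ w.2
        exact ⟨c, hc.symm⟩
      · exact ⟨0, by rw [zero_smul]; exact (hzero γ hγ _ w.2).symm⟩
    obtain ⟨c, hc⟩ := Submodule.mem_span_singleton.1 (hle' hv)
    exact ⟨c, Subtype.ext hc⟩

/-- Let k be an algebraically closed field and Γ a group given with an injective homomorphism ι from the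
multiplicative group kˣ onto the centre of Γ, such that the quotient K = Γ/ι(kˣ) is a finite
commutative group (every commutator lies in ι(kˣ)) whose order is prime to the characteristic
exponent of k — the group of k-points of a non-degenerate theta group 1 → G_m → G → K → 1 with
rank(K) prime to char(k), non-degeneracy of the commutator pairing being the condition that ι(kˣ) is
the whole centre. A finite-dimensional representation of Γ over k has weight 1 when ι(z) acts as
multiplication by z for every z. Let V be an irreducible finite-dimensional representation of weight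
1, W any finite-dimensional representation of weight 1, and H a maximal level subgroup of Γ: a
subgroup with H ∩ ι(kˣ) = 1 which is maximal among subgroups with this property. Then W is
semisimple (completely reducible) and dim_k W = dim_k(W^H) · dim_k V, where W^H is the subspace of
H-invariants; together with the uniqueness of the irreducible weight-1 representation this says that
W is a direct sum of dim_k(W^H) copies of V. (Rendered for the group of k-points of the theta group
scheme, as in the preceding row.) -/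
theorem result (k : Type u) [Field k] [IsAlgClosed k]
    (Γ : Type u) [Group Γ] (ι : kˣ →* Γ) (hι : Function.Injective ι)
    (hcent : ι.range = Subgroup.center Γ) (hcomm : commutator Γ ≤ ι.range)
    [Finite (Γ ⧸ ι.range)] (hcop : (Nat.card (Γ ⧸ ι.range)).Coprime (ringExpChar k))
    (V : FDRep k Γ) (hV : Representation.IsIrreducible V.ρ) (hV1 : ∀ (z : kˣ) (v : V), V.ρ (ι z) v = (z : k) • v)
    (W : FDRep k Γ) (hW1 : ∀ (z : kˣ) (w : W), W.ρ (ι z) w = (z : k) • w)
    (H : Subgroup Γ) (hH : H ⊓ ι.range = ⊥) (hmax : ∀ H' : Subgroup Γ, H' ⊓ ι.range = ⊥ → H ≤ H' → H' = H) :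
    Representation.IsSemisimpleRepresentation W.ρ ∧
      Module.finrank k W =
        Module.finrank k (Representation.invariants (W.ρ.comp H.subtype)) * Module.finrank k V := by
  have T : Theta ι := ⟨hι, hcent, hcomm⟩
  refine ⟨isSemisimple (σ := (W.ρ : Representation k Γ W)) hW1
    (natCast_ne_zero Nat.card_pos.ne' hcop dvd_rfl), ?_⟩
  have h1 := (finrank_eq T hcop hH hmax (W.ρ : Representation k Γ W) hW1).1
  have h2 := finrank_eq T hcop hH hmax (V.ρ : Representation k Γ V) hV1
  rw [h1, h2.1, h2.2 hV, mul_one, mul_comm]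

end Groth.Agent.S17507
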