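import Groth.Statements.S17512
import Groth.Agent.ThetaRepLib.Basic

set_option autoImplicit false
universe u
open ThetaRep

namespace Groth.Agent.S17512


open Groth.Agent.ThetaRepLib

variable {k : Type u} [Field k] {Γ : Type u} [Group Γ] {ι : kˣ →* Γ}

private theorem pair_swap (T : Theta ι) (a b : Γ) : T.pair a b = (T.pair b a)⁻¹ := T.pair_eq (by
  conv_rhs => rw [T.pair_spec b a]
  rw [mul_assoc, ← map_mul, mul_inv_cancel, map_one, mul_one])

private theorem pair_mul_right (T : Theta ι) (a b b' : Γ) : T.pair a (b * b') = T.pair a b * T.pair a b' := by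
  rw [pair_swap T a (b * b'), T.pair_mul_left, mul_inv, ← pair_swap T a b, ← pair_swap T a b']

/-- A relative index is bounded through the commutator pairing. -/
private theorem relIndex_le [Finite (Γ ⧸ ι.range)] (T : Theta ι) (A A' B B' : Subgroup Γ) [B'.Normal]
    (hZ : ι.range ≤ B') (hA : ∀ a ∈ A, (∀ b ∈ B, T.pair a b = 1) → a ∈ A')
    (hB : ∀ a ∈ A, ∀ b ∈ B', T.pair a b = 1) : A'.relIndex A ≤ B'.relIndex B := by
  haveI : Finite (B ⧸ B'.subgroupOf B) := by
    refine Finite.of_injective (fun x : B ⧸ B'.subgroupOf B => (((x.out : B) : Γ) : Γ ⧸ ι.range)) fun x y hxy => ?_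
    rw [← x.out_eq', ← y.out_eq']
    exact QuotientGroup.eq.2 (hZ (QuotientGroup.eq.1 hxy))
  haveI := Fintype.ofFinite (B ⧸ B'.subgroupOf B)
  let χ : A ⧸ A'.subgroupOf A → (B ⧸ B'.subgroupOf B →* k) := fun a =>
    (Units.coeHom k).comp (QuotientGroup.lift (B'.subgroupOf B)
      { toFun := fun b : B => T.pair (a.out : A) b
        map_one' := T.pair_eq_one_iff.2 (by simp)
        map_mul' := fun b b' => pair_mul_right T _ _ _ }
      fun b hb => hB _ (a.out : A).2 _ hb)
  have hχ : Function.Injective χ := by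
    intro a a' h
    rw [← a.out_eq', ← a'.out_eq']
    refine QuotientGroup.eq.2 (hA _ (((a.out : A)⁻¹ * (a'.out : A))).2 fun b hb => ?_)
    have h1 : T.pair ((a.out : A) : Γ) b = T.pair ((a'.out : A) : Γ) b :=
      Units.ext (DFunLike.congr_fun h ((⟨b, hb⟩ : B) : B ⧸ B'.subgroupOf B))
    have h2 : T.pair ((a.out : A) : Γ)⁻¹ b * T.pair ((a.out : A) : Γ) b = 1 := by
      rw [← T.pair_mul_left, inv_mul_cancel]
      exact T.pair_eq_one_iff.2 (by simp)
    show T.pair (((a.out : A) : Γ)⁻¹ * ((a'.out : A) : Γ)) b = 1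
    rw [T.pair_mul_left, ← h1, h2]
  have hli := (linearIndependent_monoidHom (B ⧸ B'.subgroupOf B) k).comp χ hχ
  haveI := hli.finite
  haveI := Fintype.ofFinite (A ⧸ A'.subgroupOf A)
  have h := hli.fintype_card_le_finrank
  rwa [Module.finrank_fintype_fun_eq_card, ← Nat.card_eq_fintype_card, ← Nat.card_eq_fintype_card] at h

/-- For the group of k-points of a non-degenerate theta group with constant K, let k be an algebraically
closed field and Γ a group given with an injective homomorphism ι from kˣ onto the centre of Γ such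
that K = Γ/ι(kˣ) is finite and commutative (all commutators lie in ι(kˣ)) of order prime to the
characteristic exponent of k — the group of k-points of a non-degenerate theta group 1 → G_m → G → K
→ 1 with rank(K) prime to char(k). Subgroups of K correspond to subgroups H of Γ containing ι(kˣ);
such an H is totally isotropic for the commutator pairing exactly when it is commutative, and its
orthogonal corresponds to the centralizer of H. For a subgroup H ⊇ ι(kˣ) the following are
equivalent: (i) H is commutative and maximal among commutative subgroups of Γ; (ii) H is commutative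
and [H : ι(kˣ)]² = [Γ : ι(kˣ)]; (iii) H is its own centralizer. (The published lemma is for an
arbitrary non-degenerate theta group scheme, where (iii) ⇔ (ii) ⇒ (i) always and (i) ⇒ (iii) needs k
algebraically closed; this row is the case of the group of k-points with K constant.) -/
theorem result
    (k : Type u) [Field k] [IsAlgClosed k]
    (Γ : Type u) [Group Γ] (ι : kˣ →* Γ) (hι : Function.Injective ι)
    (hcent : ι.range = Subgroup.center Γ) (hcomm : commutator Γ ≤ ι.range)
    [Finite (Γ ⧸ ι.range)] (hcop : (Nat.card (Γ ⧸ ι.range)).Coprime (ringExpChar k))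
    (H : Subgroup Γ) (hH : ι.range ≤ H) :
    List.TFAE [
      IsMulCommutative H ∧ ∀ H' : Subgroup Γ, IsMulCommutative H' → H ≤ H' → H' = H,
      IsMulCommutative H ∧ (ι.range.relIndex H) ^ 2 = ι.range.index,
      H = Subgroup.centralizer (H : Set Γ)] := by
  classical
  have T : Theta ι := ⟨hι, hcent, hcomm⟩
  haveI := T.normal
  set C := Subgroup.centralizer (H : Set Γ) with hC
  have hmemC : ∀ {a : Γ}, a ∈ C ↔ ∀ h ∈ H, h * a = a * h := fun {a} => Subgroup.mem_centralizer_iff
  have hZC : ι.range ≤ C := by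
    rintro _ ⟨z, rfl⟩
    exact hmemC.2 fun h _ => T.central z h
  haveI : C.Normal := ⟨fun n hn g => by
    have hc := hcomm (Subgroup.commutator_mem_commutator (Subgroup.mem_top g) (Subgroup.mem_top n))
    have h1 := C.mul_mem (hZC hc) hn
    rwa [commutatorElement_def, show g * n * g⁻¹ * n⁻¹ * n = g * n * g⁻¹ by group] at h1⟩
  have hCH : C.index = ι.range.relIndex H := by
    rw [← Subgroup.relIndex_top_right]
    refine le_antisymm (relIndex_le T ⊤ C H ι.range le_rfl (fun a _ ha => hmemC.2 fun h hh =>
      (T.pair_eq_one_iff.1 (ha h hh)).symm) fun a _ b ⟨z, hz⟩ => T.pair_eq_one_iff.2 (hz ▸ T.central z a)) ?_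
    exact relIndex_le T H ι.range ⊤ C hZC
      (fun a _ ha => T.mem_range_of_forall_comm fun b => (T.pair_eq_one_iff.1 (ha b (Subgroup.mem_top b))).symm)
      fun a ha b hb => T.pair_eq_one_iff.2 (hmemC.1 hb a ha)
  have hidx : ι.range.relIndex C * C.index = ι.range.index := Subgroup.relIndex_mul_index hZC
  have hcommC : IsMulCommutative H → H ≤ C := fun h a ha => hmemC.2 fun b hb =>
    congrArg Subtype.val (h.is_comm.comm (⟨b, hb⟩ : H) ⟨a, ha⟩)
  tfae_have 3 → 1 := by
    intro h
    have hab : ∀ a b : H, a * b = b * a := fun a b => Subtype.ext (hmemC.1 (h ▸ b.2 : (b : Γ) ∈ C) a a.2)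
    refine ⟨⟨⟨hab⟩⟩, fun H' hH' hle => le_antisymm (fun x hx => ?_) hle⟩
    rw [h]
    exact hmemC.2 fun b hb => congrArg Subtype.val (hH'.is_comm.comm (⟨b, hle hb⟩ : H') ⟨x, hx⟩)
  tfae_have 1 → 3 := by
    rintro ⟨hab, hmax⟩
    refine le_antisymm (hcommC hab) fun x hx => ?_
    let S : Subgroup Γ := Subgroup.closure ((H : Set Γ) ∪ {x})
    have hS : IsMulCommutative S := by
      refine Subgroup.isMulCommutative_closure ?_
      rintro a (ha | ha) b (hb | hb)
      · exact congrArg Subtype.val (hab.is_comm.comm (⟨a, ha⟩ : H) ⟨b, hb⟩)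
      · rw [Set.mem_singleton_iff.1 hb]; exact hmemC.1 hx a ha
      · rw [Set.mem_singleton_iff.1 ha]; exact (hmemC.1 hx b hb).symm
      · rw [Set.mem_singleton_iff.1 ha, Set.mem_singleton_iff.1 hb]
    rw [← hmax S hS fun a ha => Subgroup.subset_closure (Or.inl ha)]
    exact Subgroup.subset_closure (Or.inr rfl)
  tfae_have 3 → 2 := by
    intro h
    refine ⟨(tfae_3_to_1 h).1, ?_⟩
    have h' : C = H := h.symm
    rw [h'] at hidx hCH
    rw [← hidx, hCH, sq]
  tfae_have 2 → 3 := by
    rintro ⟨hab, hsq⟩
    have hHC := hcommC hab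
    have hrel : ι.range.relIndex H * H.relIndex C = ι.range.relIndex C := Subgroup.relIndex_mul_relIndex _ _ _ hH hHC
    have h0 : ι.range.index ≠ 0 := by
      rw [Subgroup.index]
      exact Nat.card_pos.ne'
    have h1 : H.relIndex C = 1 := by
      have : ι.range.relIndex H * ι.range.relIndex H * H.relIndex C = ι.range.relIndex H * ι.range.relIndex H * 1 := by
        rw [mul_one, mul_assoc, hrel, ← sq, hsq, ← hidx, hCH, mul_comm]
      exact mul_left_cancel₀ (by rw [← sq, hsq]; exact h0) this
    exact le_antisymm hHC (Subgroup.relIndex_eq_one.1 h1)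
  tfae_finish

end Groth.Agent.S17512
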