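import Groth.Statements.S17517
import Mathlib

set_option autoImplicit false
universe u
open GIT

namespace Groth.Agent.S17517

theorem exists_rat_solution {m n : Type*} [Fintype n] (A : m → n → ℚ) (b : m → ℚ) (x : n → ℝ)
    (hx : ∀ i, ∑ j, (A i j : ℝ) * x j = b i) : ∃ y : n → ℚ, ∀ i, ∑ j, A i j * y j = b i := by
  by_contra hcon
  push Not at hcon
  classical
  have hlin : ∀ (s : Finset m) (c : m → ℚ), (∀ j, ∑ i ∈ s, c i * A i j = 0) → ∑ i ∈ s, c i * b i = 0 := by
    intro s c hc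
    have h1 : ((∑ i ∈ s, c i * b i : ℚ) : ℝ) = 0 := by
      push_cast
      simp_rw [← hx, Finset.mul_sum]
      rw [Finset.sum_comm]
      refine Finset.sum_eq_zero fun j _ => ?_
      simp_rw [← mul_assoc, ← Finset.sum_mul]
      have := congrArg (fun q : ℚ => (q : ℝ)) (hc j)
      push_cast at this
      rw [this, zero_mul]
    exact_mod_cast h1
  -- the rows span a finite dimensional space
  let row : m → (n → ℚ) := fun i => A i
  let r : (m →₀ ℚ) →ₗ[ℚ] (n → ℚ) := Finsupp.linearCombination ℚ row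
  let β : (m →₀ ℚ) →ₗ[ℚ] ℚ := Finsupp.linearCombination ℚ b
  have hker : LinearMap.ker r ≤ LinearMap.ker β := by
    intro c hc
    rw [LinearMap.mem_ker] at hc ⊢
    rw [Finsupp.linearCombination_apply] at hc ⊢
    refine hlin c.support c fun j => ?_
    have := congrFun hc j
    rw [Finsupp.sum, Finset.sum_apply] at this
    exact this
  obtain ⟨g, hg⟩ := LinearMap.exists_extend
    ((Submodule.liftQ (LinearMap.ker r) β hker).comp (LinearMap.quotKerEquivRange r).symm.toLinearMap)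
  have hgy : ∀ i, g (row i) = b i := by
    intro i
    have h1 : r (Finsupp.single i 1) = row i := by simp [r]
    have h2 := LinearMap.congr_fun hg ⟨row i, ⟨_, h1⟩⟩
    rw [LinearMap.comp_apply, Submodule.subtype_apply] at h2
    rw [h2, LinearMap.comp_apply]
    have h3 : (LinearMap.quotKerEquivRange r).symm ⟨row i, ⟨_, h1⟩⟩ =
        Submodule.Quotient.mk (Finsupp.single i 1) := by
      rw [LinearEquiv.symm_apply_eq]
      exact Subtype.ext h1.symm
    simp only [LinearEquiv.coe_coe]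
    erw [h3, Submodule.liftQ_apply]
    simp [β]
  obtain ⟨i, hi⟩ := hcon fun j => g (Pi.single j 1)
  apply hi
  rw [← hgy i]
  conv_rhs => rw [pi_eq_sum_univ' (row i), map_sum]
  refine Finset.sum_congr rfl fun j _ => ?_
  rw [map_smul, smul_eq_mul]


/-- Let `E` be a finite-dimensional real inner product space and `L` a full lattice in `E` (a discrete
subgroup spanning `E`) on which the inner product is integer valued; let `F` and `G` be nonempty
finite sets of real linear functionals on `E` taking integer values on `L`, with `f_min v = min_{f ∈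
F} f v` and `g_min v = min_{g ∈ G} g v`. If some vector `v` has `f_min v ≥ 0` and `g_min v > 0`,
then on the set `C_F` of nonzero `v` with `f_min v ≥ 0` the function `v ↦ g_min v / ‖v‖` attains a
greatest value `M`, and there is exactly one lattice vector `v₀ ∈ C_F` with `g_min v₀ / ‖v₀‖ = M` of
which every lattice vector `v ∈ C_F` with `g_min v / ‖v‖ = M` is an integer multiple. -/
theorem result
    (E : Type u) [NormedAddCommGroup E] [InnerProductSpace ℝ E] [FiniteDimensional ℝ E]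
    (L : Submodule ℤ E) [DiscreteTopology L] [IsZLattice ℝ L]
    (hint : ∀ x ∈ L, ∀ y ∈ L, ∃ n : ℤ, inner ℝ x y = (n : ℝ))
    (F G : Finset (Module.Dual ℝ E)) (hF : F.Nonempty) (hG : G.Nonempty)
    (hFi : ∀ f ∈ F, ∀ x ∈ L, ∃ n : ℤ, f x = (n : ℝ)) (hGi : ∀ g ∈ G, ∀ x ∈ L, ∃ n : ℤ, g x = (n : ℝ))
    (hpos : ∃ v : E, 0 ≤ F.inf' hF (fun f => f v) ∧ 0 < G.inf' hG (fun g => g v)) :
    ∃ M : ℝ, IsGreatest ((fun v => G.inf' hG (fun g => g v) / ‖v‖) ''
        {v : E | v ≠ 0 ∧ 0 ≤ F.inf' hF (fun f => f v)}) M ∧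
      ∃! v₀ : E, v₀ ∈ L ∧ v₀ ≠ 0 ∧ 0 ≤ F.inf' hF (fun f => f v₀) ∧
        G.inf' hG (fun g => g v₀) / ‖v₀‖ = M ∧
        ∀ v ∈ L, v ≠ 0 → 0 ≤ F.inf' hF (fun f => f v) → G.inf' hG (fun g => g v) / ‖v‖ = M →
          ∃ n : ℤ, v = n • v₀ := by
  classical
  obtain ⟨vp, hvpF, hvpG⟩ := hpos
  have hFle : ∀ v, 0 ≤ F.inf' hF (fun f => f v) ↔ ∀ f ∈ F, 0 ≤ f v := fun v => Finset.le_inf'_iff _ _
  have hGle : ∀ (v : E) (a : ℝ), a ≤ G.inf' hG (fun g => g v) ↔ ∀ g ∈ G, a ≤ g v := fun v a => Finset.le_inf'_iff _ _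
  let G' : E → ℝ := fun v => G.inf' hG (fun g => g v)
  have hG'c : Continuous G' := Continuous.finset_inf'_apply hG fun g _ => g.continuous_of_finiteDimensional
  have hG'smul : ∀ (t : ℝ), 0 ≤ t → ∀ v, G' (t • v) = t * G' v := by
    intro t ht v
    refine le_antisymm ?_ ((hGle _ _).2 fun g hg => ?_)
    · obtain ⟨g, hg, hgv⟩ := G.exists_mem_eq_inf' hG (fun g => g v)
      show G.inf' hG (fun g => g (t • v)) ≤ t * G.inf' hG (fun g => g v)
      rw [hgv]
      exact (Finset.inf'_le _ hg).trans (le_of_eq (map_smul g t v))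
    · rw [map_smul, smul_eq_mul]
      exact mul_le_mul_of_nonneg_left (Finset.inf'_le _ hg) ht
  -- the convex set and its point of least norm
  let P : Set E := {v | (∀ f ∈ F, 0 ≤ f v) ∧ ∀ g ∈ G, 1 ≤ g v}
  have hPne : P.Nonempty := ⟨(G' vp)⁻¹ • vp, fun f hf => by
      rw [map_smul, smul_eq_mul]; exact mul_nonneg (inv_nonneg.2 hvpG.le) ((hFle vp).1 hvpF f hf),
    (hGle _ _).1 (by
      show 1 ≤ G' _
      rw [hG'smul _ (inv_nonneg.2 hvpG.le), inv_mul_cancel₀ (ne_of_gt hvpG)])⟩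
  have hPclosed : IsClosed P := by
    have : P = (⋂ f ∈ F, {v | 0 ≤ f v}) ∩ ⋂ g ∈ G, {v | 1 ≤ g v} := by
      ext v; simp [P]
    rw [this]
    exact (isClosed_biInter fun f _ => isClosed_le continuous_const f.continuous_of_finiteDimensional).inter
      (isClosed_biInter fun g _ => isClosed_le continuous_const g.continuous_of_finiteDimensional)
  have hPconv : Convex ℝ P := by
    intro a ha b hb s t hs ht hst
    refine ⟨fun f hf => ?_, fun g hg => ?_⟩
    · rw [map_add, map_smul, map_smul, smul_eq_mul, smul_eq_mul]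
      exact add_nonneg (mul_nonneg hs (ha.1 f hf)) (mul_nonneg ht (hb.1 f hf))
    · rw [map_add, map_smul, map_smul, smul_eq_mul, smul_eq_mul]
      nlinarith [ha.2 g hg, hb.2 g hg]
  obtain ⟨w, hwP, hwmin⟩ := exists_norm_eq_iInf_of_complete_convex hPne hPclosed.isComplete hPconv (0 : E)
  have hproj := (norm_eq_iInf_iff_real_inner_le_zero hPconv hwP).1 hwmin
  have hmin : ∀ v ∈ P, inner ℝ w w ≤ inner ℝ w v := by
    intro v hv
    have := hproj v hv
    rw [zero_sub, inner_neg_left, inner_sub_right] at this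
    linarith
  have hG1 : 1 ≤ G' w := (hGle _ _).2 hwP.2
  have hw0 : w ≠ 0 := fun h => by
    obtain ⟨g, hg⟩ := hG
    have := hwP.2 g hg
    rw [h, map_zero] at this
    linarith
  have hwpos : 0 < ‖w‖ := norm_pos_iff.2 hw0
  have hGw : G' w = 1 := by
    refine le_antisymm ?_ hG1
    have hP : (G' w)⁻¹ • w ∈ P := ⟨fun f hf => by
        rw [map_smul, smul_eq_mul]; exact mul_nonneg (inv_nonneg.2 (by linarith)) (hwP.1 f hf),
      (hGle _ _).1 (by
        show 1 ≤ G' _
        rw [hG'smul _ (inv_nonneg.2 (by linarith)), inv_mul_cancel₀ (by linarith)])⟩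
    have := hmin _ hP
    rw [inner_smul_right, real_inner_self_eq_norm_sq] at this
    by_contra hlt
    have : (G' w)⁻¹ < 1 := inv_lt_one_of_one_lt₀ (not_le.1 hlt)
    nlinarith [pow_pos hwpos 2]
  -- maximum
  have hbound : ∀ v : E, v ≠ 0 → (∀ f ∈ F, 0 ≤ f v) → 0 < G' v → ‖w‖ * G' v ≤ ‖v‖ ∧
      (‖w‖ * G' v = ‖v‖ → v = G' v • w) := by
    intro v _ hvF hvG
    have hP : (G' v)⁻¹ • v ∈ P := ⟨fun f hf => by
        rw [map_smul, smul_eq_mul]; exact mul_nonneg (inv_nonneg.2 hvG.le) (hvF f hf),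
      (hGle _ _).1 (by
        show 1 ≤ G' _
        rw [hG'smul _ (inv_nonneg.2 hvG.le), inv_mul_cancel₀ (ne_of_gt hvG)])⟩
    have h1 := hmin _ hP
    rw [inner_smul_right, real_inner_self_eq_norm_sq] at h1
    have h2 := real_inner_le_norm w v
    have h3 : G' v * ‖w‖ ^ 2 ≤ inner ℝ w v := by
      have := mul_le_mul_of_nonneg_left h1 hvG.le
      rwa [← mul_assoc, mul_inv_cancel₀ (ne_of_gt hvG), one_mul] at this
    refine ⟨by nlinarith, fun heq => ?_⟩
    rw [← sub_eq_zero, ← norm_eq_zero]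
    have h4 : ‖v - G' v • w‖ ^ 2 ≤ 0 := by
      rw [norm_sub_sq_real, inner_smul_right, norm_smul, Real.norm_of_nonneg hvG.le, real_inner_comm, ← heq]
      nlinarith
    nlinarith [norm_nonneg (v - G' v • w), sq_nonneg ‖v - G' v • w‖]
  -- rationality
  let AF := F.filter (fun f => f w = 0)
  let AG := G.filter (fun g => g w = 1)
  have horth : ∀ d : E, (∀ f ∈ AF, f d = 0) → (∀ g ∈ AG, g d = 0) → inner ℝ w d = 0 := by
    intro d hdF hdG
    have key : ∀ d : E, (∀ f ∈ AF, f d = 0) → (∀ g ∈ AG, g d = 0) → 0 ≤ inner ℝ w d := by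
      intro d hdF hdG
      have hF' : ∀ᶠ t : ℝ in nhds 0, ∀ f ∈ F, f ∈ AF ∨ 0 < f (w + t • d) := by
        rw [Finset.eventually_all]
        intro f hf
        by_cases h : f w = 0
        · exact Filter.Eventually.of_forall fun t => Or.inl (Finset.mem_filter.2 ⟨hf, h⟩)
        · have hc : Continuous fun t : ℝ => f (w + t • d) := by
            simp only [map_add, map_smul, smul_eq_mul]; fun_prop
          refine (hc.continuousAt.eventually_const_lt ?_).mono fun t ht => Or.inr ht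
          simpa using lt_of_le_of_ne (hwP.1 f hf) (Ne.symm h)
      have hG' : ∀ᶠ t : ℝ in nhds 0, ∀ g ∈ G, g ∈ AG ∨ 1 < g (w + t • d) := by
        rw [Finset.eventually_all]
        intro g hg
        by_cases h : g w = 1
        · exact Filter.Eventually.of_forall fun t => Or.inl (Finset.mem_filter.2 ⟨hg, h⟩)
        · have hc : Continuous fun t : ℝ => g (w + t • d) := by
            simp only [map_add, map_smul, smul_eq_mul]; fun_prop
          refine (hc.continuousAt.eventually_const_lt ?_).mono fun t ht => Or.inr ht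
          simpa using lt_of_le_of_ne (hwP.2 g hg) (Ne.symm h)
      obtain ⟨ε, hε, hball⟩ := Metric.eventually_nhds_iff.1 (hF'.and hG')
      obtain ⟨h1, h2⟩ := hball (y := ε / 2) (by rw [Real.dist_eq, sub_zero, abs_of_pos (by linarith)]; linarith)
      have hP : w + (ε / 2) • d ∈ P := by
        refine ⟨fun f hf => ?_, fun g hg => ?_⟩
        · rcases h1 f hf with h | h
          · rw [map_add, map_smul, hdF f h, smul_zero, add_zero]; exact hwP.1 f hf
          · exact h.le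
        · rcases h2 g hg with h | h
          · rw [map_add, map_smul, hdG g h, smul_zero, add_zero]; exact hwP.2 g hg
          · exact h.le
      have := hmin _ hP
      rw [inner_add_right, inner_smul_right] at this
      nlinarith
    refine le_antisymm ?_ (key d hdF hdG)
    have := key (-d) (fun f hf => by rw [map_neg, hdF f hf, neg_zero]) (fun g hg => by rw [map_neg, hdG g hg, neg_zero])
    rw [inner_neg_right] at this
    linarith
  let ι := {f // f ∈ AF} ⊕ {g // g ∈ AG}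
  let φ : ι → Module.Dual ℝ E := Sum.elim (fun f => f.1) (fun g => g.1)
  let c : ι → ℚ := Sum.elim (fun _ => 0) (fun _ => 1)
  have hφw : ∀ i, φ i w = (c i : ℝ) := by
    rintro (⟨f, hf⟩ | ⟨g, hg⟩)
    · simpa [φ, c] using (Finset.mem_filter.1 hf).2
    · simpa [φ, c] using (Finset.mem_filter.1 hg).2
  have hspan : (innerₛₗ ℝ w : Module.Dual ℝ E) ∈ Submodule.span ℝ (Set.range φ) := by
    rw [Submodule.mem_span_range_iff_exists_fun]
    have := mem_span_of_iInf_ker_le_ker (L := φ) (K := innerₛₗ ℝ w) fun d hd => by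
      simp only [Submodule.mem_iInf, LinearMap.mem_ker] at hd
      exact horth d (fun f hf => hd (Sum.inl ⟨f, hf⟩)) (fun g hg => hd (Sum.inr ⟨g, hg⟩))
    exact (Submodule.mem_span_range_iff_exists_fun _).1 this
  obtain ⟨μ, hμ⟩ := (Submodule.mem_span_range_iff_exists_fun _).1 hspan
  haveI : Module.Free ℤ L := ZLattice.module_free ℝ L
  haveI : Module.Finite ℤ L := ZLattice.module_finite ℝ L
  let bZ := Module.Free.chooseBasis ℤ L
  let b := bZ.ofZLatticeBasis ℝ L
  have hbL : ∀ k, (b k : E) ∈ L := fun k => by rw [Module.Basis.ofZLatticeBasis_apply]; exact (bZ k).2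
  have hφint : ∀ i k, ∃ n : ℤ, φ i (b k) = n := by
    rintro (⟨f, hf⟩ | ⟨g, hg⟩) k
    · exact hFi f (Finset.mem_filter.1 hf).1 _ (hbL k)
    · exact hGi g (Finset.mem_filter.1 hg).1 _ (hbL k)
  choose nφ hnφ using hφint
  choose nb hnb using fun k l => hint _ (hbL k) _ (hbL l)
  let K := Module.Free.ChooseBasisIndex ℤ L
  let A : K ⊕ ι → K ⊕ ι → ℚ := Sum.elim
    (fun l => Sum.elim (fun k => (nb k l : ℚ)) (fun i => -(nφ i l : ℚ)))
    (fun i => Sum.elim (fun k => (nφ i k : ℚ)) (fun _ => 0))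
  let rhs : K ⊕ ι → ℚ := Sum.elim (fun _ => 0) c
  have hexp : ∀ x : K → ℝ, ∀ i, φ i (∑ k, x k • b k) = ∑ k, x k * (nφ i k : ℝ) := fun x i => by
    rw [map_sum]; exact Finset.sum_congr rfl fun k _ => by rw [map_smul, smul_eq_mul, hnφ]
  have hexp2 : ∀ x : K → ℝ, ∀ l, inner ℝ (∑ k, x k • b k) (b l) = ∑ k, x k * (nb k l : ℝ) := fun x l => by
    rw [sum_inner]; exact Finset.sum_congr rfl fun k _ => by rw [real_inner_smul_left, hnb]
  obtain ⟨y, hy⟩ := exists_rat_solution A rhs (Sum.elim (fun k => b.repr w k) μ) (by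
    rintro (l | i)
    · have h1 := LinearMap.congr_fun hμ (b l)
      rw [LinearMap.sum_apply, innerₛₗ_apply_apply] at h1
      nth_rw 1 [← b.sum_repr w] at h1
      rw [hexp2] at h1
      simp only [LinearMap.smul_apply, smul_eq_mul, hnφ] at h1
      simp only [A, rhs, Fintype.sum_sum_type, Sum.elim_inl, Sum.elim_inr, Rat.cast_neg, Rat.cast_intCast,
        Rat.cast_zero, neg_mul, Finset.sum_neg_distrib]
      have e1 : ∀ k, (nb k l : ℝ) * b.repr w k = b.repr w k * (nb k l : ℝ) := fun k => mul_comm _ _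
      have e2 : ∀ i, (nφ i l : ℝ) * μ i = μ i * (nφ i l : ℝ) := fun i => mul_comm _ _
      simp only [e1, e2, h1, add_neg_cancel]
    · simp only [A, rhs, Fintype.sum_sum_type, Sum.elim_inl, Sum.elim_inr, Rat.cast_intCast, Rat.cast_zero,
        zero_mul, Finset.sum_const_zero, add_zero]
      rw [← hφw i]
      conv_rhs => rw [← b.sum_repr w, hexp]
      exact Finset.sum_congr rfl fun k _ => mul_comm _ _)
  let w' : E := ∑ k, (y (Sum.inl k) : ℝ) • b k
  have hw' : w' = w := by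
    have hd : ∀ i, φ i (w' - w) = 0 := by
      intro i
      have := congrArg (fun q : ℚ => (q : ℝ)) (hy (Sum.inr i))
      simp only [A, rhs, Fintype.sum_sum_type, Sum.elim_inl, Sum.elim_inr, zero_mul, Finset.sum_const_zero,
        add_zero, Rat.cast_sum, Rat.cast_mul, Rat.cast_intCast] at this
      rw [map_sub, hφw, hexp, ← this, sub_eq_zero]
      exact Finset.sum_congr rfl fun k _ => mul_comm _ _
    have h0 : inner ℝ w (w' - w) = 0 :=
      horth _ (fun f hf => hd (Sum.inl ⟨f, hf⟩)) (fun g hg => hd (Sum.inr ⟨g, hg⟩))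
    have hw'b : ∀ l, inner ℝ w' (b l) = ∑ i, (y (Sum.inr i) : ℝ) * φ i (b l) := by
      intro l
      have := congrArg (fun q : ℚ => (q : ℝ)) (hy (Sum.inl l))
      simp only [A, rhs, Fintype.sum_sum_type, Sum.elim_inl, Sum.elim_inr, neg_mul, Finset.sum_neg_distrib,
        Rat.cast_add, Rat.cast_neg, Rat.cast_sum, Rat.cast_mul, Rat.cast_intCast, Rat.cast_zero,
        ← sub_eq_add_neg, sub_eq_zero] at this
      rw [hexp2]
      have e1 : ∀ k, (y (Sum.inl k) : ℝ) * (nb k l : ℝ) = (nb k l : ℝ) * (y (Sum.inl k) : ℝ) := fun k => mul_comm _ _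
      simp only [e1, hnφ]
      push_cast at this
      rw [sub_eq_zero] at this
      rw [this]
      exact Finset.sum_congr rfl fun i _ => mul_comm _ _
    have h1 : (innerₛₗ ℝ w' : Module.Dual ℝ E) = ∑ i, (y (Sum.inr i) : ℝ) • φ i :=
      b.ext fun l => by rw [innerₛₗ_apply_apply, hw'b, LinearMap.sum_apply]; rfl
    have h2 := LinearMap.congr_fun h1 (w' - w)
    simp only [innerₛₗ_apply_apply, LinearMap.sum_apply, LinearMap.smul_apply, hd, smul_zero,
      Finset.sum_const_zero] at h2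
    rw [← sub_eq_zero, ← inner_self_eq_zero (𝕜 := ℝ), inner_sub_left, h2, h0, sub_zero]
  obtain ⟨k0, hk0⟩ : ∃ k, y (Sum.inl k) ≠ 0 := by
    by_contra! h
    exact hw0 (by rw [← hw']; simp [w', h])
  have hcoord : ∀ k, b.repr w k = (y (Sum.inl k) : ℝ) := fun k => by
    rw [← hw']; simp [w', Finsupp.single_apply]
  have hrepr : ∀ v ∈ L, ∀ k, ∃ n : ℤ, b.repr v k = n := fun v hv k =>
    ⟨bZ.repr ⟨v, hv⟩ k, Module.Basis.ofZLatticeBasis_repr_apply ℝ L bZ ⟨v, hv⟩ k⟩
  let r : ℝ := |(y (Sum.inl k0) : ℝ)|⁻¹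
  have hr : 0 < r := inv_pos.2 (abs_pos.2 (by exact_mod_cast hk0))
  have hex : ∃ m : ℕ, 0 < m ∧ ((m : ℝ) * r) • w ∈ L := by
    let D : ℕ := ∏ k, (y (Sum.inl k)).den
    let a : ℤ := |(y (Sum.inl k0)).num|
    have ha : 0 < a := abs_pos.2 (Rat.num_ne_zero.2 hk0)
    have hDw : (D : ℝ) • w ∈ L := by
      rw [← hw', Finset.smul_sum]
      refine L.sum_mem fun k _ => ?_
      obtain ⟨q, hq⟩ : (y (Sum.inl k)).den ∣ D := Finset.dvd_prod_of_mem _ (Finset.mem_univ k)
      have : (D : ℝ) * (y (Sum.inl k) : ℝ) = ((q * (y (Sum.inl k)).num : ℤ) : ℝ) := by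
        have h2 : (y (Sum.inl k) : ℝ) * ((y (Sum.inl k)).den : ℝ) = ((y (Sum.inl k)).num : ℝ) := by
          exact_mod_cast Rat.mul_den_eq_num (y (Sum.inl k))
        rw [hq, Int.cast_mul, Int.cast_natCast, Nat.cast_mul, ← h2]
        ring
      rw [smul_smul, this, Int.cast_smul_eq_zsmul]
      exact L.smul_mem _ (hbL k)
    refine ⟨D * a.toNat, mul_pos (Finset.prod_pos fun k _ => Rat.den_pos _) (by omega), ?_⟩
    have h3 : ((a.toNat : ℕ) : ℝ) * r = ((y (Sum.inl k0)).den : ℝ) := by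
      have hnum : ((a.toNat : ℕ) : ℝ) = |((y (Sum.inl k0)).num : ℝ)| := by
        rw [← Int.cast_natCast, Int.toNat_of_nonneg ha.le]
        exact Int.cast_abs
      have hden : (0 : ℝ) < ((y (Sum.inl k0)).den : ℝ) := by exact_mod_cast Rat.den_pos _
      have hne : |((y (Sum.inl k0)).num : ℝ)| ≠ 0 :=
        abs_ne_zero.2 (by exact_mod_cast Rat.num_ne_zero.2 hk0)
      simp only [r, hnum, Rat.cast_def, abs_div, abs_of_pos hden, inv_div]
      field_simp
    rw [Nat.cast_mul, mul_assoc, h3, mul_comm, mul_smul, Nat.cast_smul_eq_nsmul]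
    exact L.toAddSubgroup.nsmul_mem hDw _
  have hmdef := Nat.find_spec hex
  set m0 := Nat.find hex
  let v₀ : E := ((m0 : ℝ) * r) • w
  have hm0r : 0 < (m0 : ℝ) * r := mul_pos (by exact_mod_cast hmdef.1) hr
  have hv0G : G' v₀ = (m0 : ℝ) * r := by rw [hG'smul _ hm0r.le, hGw, mul_one]
  have hv0ne : v₀ ≠ 0 := smul_ne_zero hm0r.ne' hw0
  have hv0F : 0 ≤ F.inf' hF (fun f => f v₀) := (hFle _).2 fun f hf => by
    rw [map_smul, smul_eq_mul]; exact mul_nonneg hm0r.le (hwP.1 f hf)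
  have hval : G' v₀ / ‖v₀‖ = ‖w‖⁻¹ := by
    rw [hv0G, norm_smul, Real.norm_of_nonneg hm0r.le, div_mul_eq_div_div, div_self hm0r.ne', one_div]
  have hline : ∀ v ∈ L, v ≠ 0 → 0 ≤ F.inf' hF (fun f => f v) → G' v / ‖v‖ = ‖w‖⁻¹ → ∃ n : ℤ, v = n • v₀ := by
    intro v hvL hv hvF hvM
    have hvn : 0 < ‖v‖ := norm_pos_iff.2 hv
    rw [div_eq_iff hvn.ne'] at hvM
    have hvG : 0 < G' v := by rw [hvM]; positivity
    have hvw : v = G' v • w := (hbound v hv ((hFle v).1 hvF) hvG).2 (by rw [hvM]; field_simp)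
    obtain ⟨n, hn⟩ := hrepr v hvL k0
    rw [hvw, map_smul, Finsupp.smul_apply, smul_eq_mul, hcoord] at hn
    obtain ⟨s, hs⟩ : ∃ s : ℤ, G' v = (s : ℝ) * r := by
      have hy0 : (y (Sum.inl k0) : ℝ) ≠ 0 := by exact_mod_cast hk0
      rcases lt_or_gt_of_ne hy0 with h | h
      · exact ⟨-n, by simp only [r, abs_of_neg h, Int.cast_neg, ← hn]; field_simp⟩
      · exact ⟨n, by simp only [r, abs_of_pos h, ← hn]; field_simp⟩
    have hm : (0 : ℤ) < m0 := by exact_mod_cast hmdef.1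
    refine ⟨s / m0, ?_⟩
    have hrem : (((s % m0 : ℤ) : ℝ) * r) • w ∈ L := by
      have : (((s % m0 : ℤ) : ℝ) * r) • w = v - (s / (m0 : ℤ)) • v₀ := by
        rw [Int.emod_def, ← Int.cast_smul_eq_zsmul ℝ (s / (m0 : ℤ)), hvw, hs, smul_smul, ← sub_smul]
        congr 1
        push_cast
        ring
      rw [this]
      exact L.sub_mem hvL (L.smul_mem _ hmdef.2)
    have h0 : s % m0 = 0 := by
      by_contra hne
      have h1 := Int.emod_nonneg s hm.ne'
      have h2 := Int.emod_lt_of_pos s hm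
      refine Nat.find_min hex (show (s % m0).toNat < m0 by omega) ⟨by omega, ?_⟩
      have : (((s % m0).toNat : ℕ) : ℝ) = ((s % m0 : ℤ) : ℝ) := by
        rw [← Int.cast_natCast, Int.toNat_of_nonneg h1]
      rw [this]; exact hrem
    have hs' : (s : ℝ) = ((s / (m0 : ℤ) : ℤ) : ℝ) * (m0 : ℝ) := by
      exact_mod_cast (Int.ediv_mul_cancel (Int.dvd_of_emod_eq_zero h0)).symm
    rw [hvw, hs, hs', ← Int.cast_smul_eq_zsmul ℝ, smul_smul, mul_assoc]
  refine ⟨‖w‖⁻¹, ⟨⟨v₀, ⟨hv0ne, hv0F⟩, hval⟩, ?_⟩, v₀, ⟨hmdef.2, hv0ne, hv0F, hval, hline⟩, ?_⟩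
  · rintro _ ⟨v, ⟨hv, hvF⟩, rfl⟩
    have hvn : 0 < ‖v‖ := norm_pos_iff.2 hv
    rcases le_or_gt (G' v) 0 with h | h
    · exact le_trans (div_nonpos_of_nonpos_of_nonneg h hvn.le) (inv_nonneg.2 hwpos.le)
    · show G' v / ‖v‖ ≤ ‖w‖⁻¹
      rw [div_le_iff₀ hvn, inv_mul_eq_div, le_div_iff₀ hwpos, mul_comm]
      exact (hbound v hv ((hFle v).1 hvF) h).1
  · rintro v ⟨hvL, hv, hvF, hvM, huniv⟩
    obtain ⟨n, hn⟩ := hline v hvL hv hvF hvM
    obtain ⟨n', hn'⟩ := huniv v₀ hmdef.2 hv0ne hv0F hval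
    have hnn : n' * n = 1 := by
      have h : (n' * n) • v₀ = (1 : ℤ) • v₀ := by rw [mul_smul, ← hn, ← hn', one_smul]
      rw [← Int.cast_smul_eq_zsmul ℝ, ← Int.cast_smul_eq_zsmul ℝ] at h
      exact_mod_cast smul_left_injective ℝ hv0ne h
    rcases Int.eq_one_or_neg_one_of_mul_eq_one' hnn with ⟨-, h⟩ | ⟨-, h⟩
    · rw [hn, h, one_smul]
    · exfalso
      have hvG : 0 < G' v := by
        have hvn : 0 < ‖v‖ := norm_pos_iff.2 hv
        have : G' v / ‖v‖ = ‖w‖⁻¹ := hvM
        rw [div_eq_iff hvn.ne'] at this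
        rw [this]; positivity
      obtain ⟨g, hg⟩ := hG
      have h1 : 0 < g v := lt_of_lt_of_le hvG (Finset.inf'_le _ hg)
      have h2 : 0 < g v₀ := lt_of_lt_of_le (by rw [← hv0G] at hm0r; exact hm0r) (Finset.inf'_le _ hg)
      rw [hn, h, neg_one_smul, map_neg] at h1
      linarith

end Groth.Agent.S17517
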