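import Groth.Statements.S17537
import Groth.Agent.CAlgH.Decay

set_option autoImplicit false
universe u v
open CAlg

namespace Groth.Agent.S17537

/-- For a commutative ring A, an ideal I and an A-module M, the I-adic completion M^ of M is itself
I-adically complete if and only if, for every n, every element of M^ is congruent modulo I^n M^ to
the image of an element of M (the maps M/I^n M → M^/I^n M^ are surjective). -/
theorem result {A : Type u} [CommRing A] (I : Ideal A)
    (M : Type v) [AddCommGroup M] [Module A M] :
    IsAdicComplete I (AdicCompletion I M) ↔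
      ∀ (n : ℕ) (x : AdicCompletion I M), ∃ y : M,
        x - AdicCompletion.of I M y ∈ (I ^ n • ⊤ : Submodule A (AdicCompletion I M)) := by
  constructor
  · intro h n x
    exact CAlgH.Decay.exists_of_sub_mem I (CAlgH.Decay.ker_eval_of_isAdicComplete I (M := M) n) x
  · intro h
    have hker : ∀ n, (I ^ n • ⊤ : Submodule A (AdicCompletion I M)) =
        (AdicCompletion.eval I M n).ker := by
      intro n
      refine le_antisymm ((AdicCompletion.pow_smul_top_le_ker_eval (I := I) (M := M) n)) fun x hx => ?_
      obtain ⟨y, hy⟩ := h n x
      have h2 := (AdicCompletion.pow_smul_top_le_ker_eval (I := I) (M := M) n) hy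
      rw [LinearMap.mem_ker, map_sub, LinearMap.mem_ker.1 hx, zero_sub, neg_eq_zero,
        AdicCompletion.eval_of, Submodule.mkQ_apply, Submodule.Quotient.mk_eq_zero] at h2
      have h3 := CAlgH.Decay.map_mem_pow I (AdicCompletion.of I M) h2
      simpa using Submodule.add_mem _ hy h3
    refine { toIsHausdorff := inferInstance, toIsPrecomplete := ⟨fun f hf => ?_⟩ }
    have hc : ∀ {m n : ℕ} (hmn : m ≤ n),
        AdicCompletion.transitionMap I M hmn ((f n).val n) = (f m).val m := by
      intro m n hmn
      have h2 := (AdicCompletion.pow_smul_top_le_ker_eval (I := I) (M := M) m) (SModEq.sub_mem.1 (hf hmn))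
      rw [LinearMap.mem_ker, map_sub, sub_eq_zero] at h2
      exact (AdicCompletion.transitionMap_comp_eval_apply I _ hmn (f n)).trans h2.symm
    refine ⟨⟨fun n => (f n).val n, fun hmn => hc hmn⟩, fun n => SModEq.sub_mem.2 ?_⟩
    rw [hker n, LinearMap.mem_ker, map_sub, sub_eq_zero]
    rfl

end Groth.Agent.S17537
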