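import Groth.Statements.S17539
import Groth.Agent.CAlgH.Decay

set_option autoImplicit false
universe u v w
open W4c5adicflatcompl
open CAlg

namespace Groth.Agent.S17539

/-- For a commutative ring A, an ideal I, a set Z and an A-module M whose I-adic completion M^ is itself
I-adically complete, the canonical map from the I-adic completion of Z →₀ M to the functions Z → M^,
whose z-th coordinate is the completion of evaluation at z, is injective with image the I-adically
decaying functions Z → M^. (The source states bijectivity of the inverse map, from decaying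
functions to the limit of the finitely supported functions Z → M/I^n M, induced by the projections
M^ → M/I^n M; the two formulations are equivalent.) -/
theorem result {A : Type u} [CommRing A] (I : Ideal A) (Z : Type v)
    (M : Type w) [AddCommGroup M] [Module A M] [IsAdicComplete I (AdicCompletion I M)] :
    Function.Injective
        (LinearMap.pi fun z : Z =>
          (AdicCompletion.map I (Finsupp.lapply (M := M) (R := A) z)).restrictScalars A) ∧
      LinearMap.range
        (LinearMap.pi fun z : Z =>
          (AdicCompletion.map I (Finsupp.lapply (M := M) (R := A) z)).restrictScalars A) =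
        decaying I Z (AdicCompletion I M) := by
  classical
  have hev : ∀ (z : Z) (x : AdicCompletion I (Z →₀ M)) (n : ℕ) (u : Z →₀ M),
      Submodule.Quotient.mk u = x.val n →
      ((AdicCompletion.map I (Finsupp.lapply (M := M) (R := A) z)) x).val n =
        Submodule.Quotient.mk (u z) := by
    intro z x n u hu
    rw [AdicCompletion.map_val_apply, ← hu]
    rfl
  have hmem : ∀ (n : ℕ) (u : Z →₀ M), (∀ z, u z ∈ (I ^ n • ⊤ : Submodule A M)) →
      u ∈ (I ^ n • ⊤ : Submodule A (Z →₀ M)) := by
    intro n u hu
    rw [← Finsupp.sum_single u]
    exact Submodule.sum_mem _ fun z _ =>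
      CAlgH.Decay.map_mem_pow I (Finsupp.lsingle (R := A) z) (hu z)
  refine ⟨fun x y hxy => AdicCompletion.ext fun n => ?_, le_antisymm ?_ ?_⟩
  · obtain ⟨u, hu⟩ := Submodule.Quotient.mk_surjective _ (x.val n)
    obtain ⟨v, hv⟩ := Submodule.Quotient.mk_surjective _ (y.val n)
    rw [← hu, ← hv, Submodule.Quotient.eq]
    refine hmem n _ fun z => ?_
    have h1 := congrArg (fun p => p.val n) (congrFun hxy z)
    simp only [LinearMap.pi_apply, LinearMap.restrictScalars_apply] at h1
    rw [hev z x n u hu, hev z y n v hv, Submodule.Quotient.eq] at h1
    simpa using h1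
  · rintro _ ⟨x, rfl⟩ n
    obtain ⟨u, hu⟩ := Submodule.Quotient.mk_surjective _ (x.val n)
    refine u.support.finite_toSet.subset fun z hz => by_contra fun h' => hz ?_
    rw [CAlgH.Decay.ker_eval_of_isAdicComplete I (M := M) n, LinearMap.mem_ker]
    simp only [LinearMap.pi_apply, LinearMap.restrictScalars_apply, AdicCompletion.eval_apply]
    rw [hev z x n u hu, Finsupp.notMem_support_iff.1 h', Submodule.Quotient.mk_zero]
  · intro f hf
    choose r hr using fun (n : ℕ) (z : Z) => Submodule.Quotient.mk_surjective _ ((f z).val n)
    let u : ℕ → (Z →₀ M) := fun n =>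
      Finsupp.onFinset (hf n).toFinset (fun z => if z ∈ (hf n).toFinset then r n z else 0)
        (fun z hz => by by_contra h; simp [h] at hz)
    have huv : ∀ n z, Submodule.Quotient.mk (u n z) = (f z).val n := by
      intro n z
      simp only [u, Finsupp.onFinset_apply]
      by_cases h : z ∈ (hf n).toFinset
      · rw [if_pos h, hr]
      · rw [if_neg h]
        simp only [Set.Finite.mem_toFinset, Set.mem_ofPred_eq, not_not] at h
        rw [CAlgH.Decay.ker_eval_of_isAdicComplete I (M := M) n, LinearMap.mem_ker] at h
        exact h.symm
    refine ⟨⟨fun n => Submodule.Quotient.mk (u n), fun {m n} hmn => ?_⟩, funext fun z => ?_⟩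
    · show Submodule.Quotient.mk (u n) = Submodule.Quotient.mk (u m)
      rw [Submodule.Quotient.eq]
      refine hmem m _ fun z => ?_
      have := AdicCompletion.transitionMap_comp_eval_apply I M hmn (f z)
      rw [← huv n z, ← huv m z] at this
      simpa using (Submodule.Quotient.eq _).1 this
    · exact AdicCompletion.ext fun n => (hev z _ n (u n) rfl).trans (huv n z)

end Groth.Agent.S17539
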