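import Groth.Statements.S17540
import Groth.Agent.CAlgH.Decay

set_option autoImplicit false
universe u v w
open W4c5adicflatcompl
open CAlg

namespace Groth.Agent.S17540

/-- Let A be I-adically complete, M an I-adically complete A-module and m : Z → M a family. The images
of the m z generate M/IM (the span of the family together with IM is all of M) if and only if the
family I-adically generates M: every x in M is the I-adically convergent sum of g z • m z for some
I-adically decaying function g : Z → A. -/
theorem result {A : Type u} [CommRing A] (I : Ideal A) [IsAdicComplete I A]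
    (M : Type v) [AddCommGroup M] [Module A M] [IsAdicComplete I M] (Z : Type w) (m : Z → M) :
    Submodule.span A (Set.range m) ⊔ I • ⊤ = ⊤ ↔
      ∀ x : M, ∃ g : Z → A, g ∈ decaying I Z A ∧
        ∀ n : ℕ, ∃ S : Finset Z,
          (∀ z, z ∉ S → g z • m z ∈ (I ^ n • ⊤ : Submodule A M)) ∧
          x - (∑ z ∈ S, g z • m z) ∈ (I ^ n • ⊤ : Submodule A M) := by
  classical
  constructor
  · intro h x
    have step : ∀ (k : ℕ) (x : M), ∃ c : Z →₀ A, x ∈ (I ^ k • ⊤ : Submodule A M) →
        (∀ z, c z ∈ I ^ k) ∧ x - Finsupp.linearCombination A m c ∈ (I ^ (k + 1) • ⊤ : Submodule A M) := by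
      intro k x
      by_cases hx : x ∈ (I ^ k • ⊤ : Submodule A M)
      swap
      · exact ⟨0, fun h => absurd h hx⟩
      suffices ∃ c : Z →₀ A, (∀ z, c z ∈ I ^ k) ∧
          x - Finsupp.linearCombination A m c ∈ (I ^ (k + 1) • ⊤ : Submodule A M) by
        obtain ⟨c, hc⟩ := this
        exact ⟨c, fun _ => hc⟩
      induction hx using Submodule.smul_induction_on' with
      | smul r hr y _ =>
        have hy : y ∈ Submodule.span A (Set.range m) ⊔ I • ⊤ := by rw [h]; exact Submodule.mem_top
        obtain ⟨s, hs, t, ht, rfl⟩ := Submodule.mem_sup.1 hy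
        obtain ⟨c, rfl⟩ := (Finsupp.mem_span_range_iff_exists_finsupp).1 hs
        refine ⟨r • c, fun z => Ideal.mul_mem_right _ _ hr, ?_⟩
        rw [map_smul, ← smul_sub, Finsupp.linearCombination_apply, add_sub_cancel_left, pow_succ,
          Submodule.mul_smul]
        exact Submodule.smul_mem_smul hr ht
      | add x _ y _ ihx ihy =>
        obtain ⟨c, hc, hc'⟩ := ihx
        obtain ⟨d, hd, hd'⟩ := ihy
        refine ⟨c + d, fun z => add_mem (hc z) (hd z), ?_⟩
        rw [map_add]
        convert Submodule.add_mem _ hc' hd' using 1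
        abel
    choose c hc using step
    let r : ℕ → M := fun n => Nat.rec x (fun k y => y - Finsupp.linearCombination A m (c k y)) n
    have hr : ∀ k, r k ∈ (I ^ k • ⊤ : Submodule A M) := by
      intro k
      induction k with
      | zero => simp
      | succ k ih => exact (hc k (r k) ih).2
    let P : ℕ → (Z →₀ A) := fun n => ∑ j ∈ Finset.range n, c j (r j)
    have hx : ∀ n, x - Finsupp.linearCombination A m (P n) = r n := by
      intro n
      induction n with
      | zero => simp [P, r]
      | succ n ih =>
        have : P (n + 1) = P n + c n (r n) := Finset.sum_range_succ _ _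
        rw [this, map_add, ← sub_sub, ih]
    have hg : ∀ z, ∃ a : A, ∀ n, a - P n z ∈ I ^ n := by
      intro z
      obtain ⟨L, hL⟩ := CAlgH.Decay.exists_limit (M := A) I (fun n => P n z) fun n => by
        rw [CAlgH.Decay.mem_pow_smul_top_self]
        simpa [P, Finset.sum_range_succ] using (hc n (r n) (hr n)).1 z
      exact ⟨L, fun n => (CAlgH.Decay.mem_pow_smul_top_self I).1 (hL n)⟩
    choose g hg using hg
    have hmem : ∀ n z, z ∉ (P n).support → g z ∈ I ^ n := by
      intro n z hz
      have := hg z n
      rwa [Finsupp.notMem_support_iff.1 hz, sub_zero] at this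
    refine ⟨g, fun n => (P n).support.finite_toSet.subset fun z hz => by_contra fun h' => hz
      ((CAlgH.Decay.mem_pow_smul_top_self I).2 (hmem n z h')), fun n => ⟨(P n).support,
      fun z hz => Submodule.smul_mem_smul (hmem n z hz) Submodule.mem_top, ?_⟩⟩
    have h1 := hr n
    rw [← hx n, Finsupp.linearCombination_apply, Finsupp.sum] at h1
    have h2 : ∑ z ∈ (P n).support, (g z - P n z) • m z ∈ (I ^ n • ⊤ : Submodule A M) :=
      Submodule.sum_mem _ fun z _ => Submodule.smul_mem_smul (hg z n) Submodule.mem_top
    have h3 := Submodule.sub_mem _ h1 h2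
    convert h3 using 1
    simp only [sub_smul, Finset.sum_sub_distrib]
    abel
  · intro h
    rw [eq_top_iff]
    intro x _
    obtain ⟨g, -, hg⟩ := h x
    obtain ⟨S, -, hS⟩ := hg 1
    rw [pow_one] at hS
    rw [← sub_add_cancel x (∑ z ∈ S, g z • m z), add_comm]
    exact Submodule.add_mem_sup (Submodule.sum_mem _ fun z _ =>
      Submodule.smul_mem _ _ (Submodule.subset_span ⟨z, rfl⟩)) hS

end Groth.Agent.S17540
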