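import Groth.Statements.S17544
import Groth.Agent.CAlgH.Decay

set_option autoImplicit false
universe u v w
open W4c5adicflatcompl
open CAlg

namespace Groth.Agent.S17544

/-- For a Noetherian ring A which is I-adically complete, a set Z and n ≥ 0, reduction modulo I^n maps
the decaying functions Z → A onto the finitely supported functions Z → A/I^n, and its kernel, the
decaying functions with all values in I^n, equals I^n times the module of decaying functions; so
(A/I^n) ⊗ F_dec(Z, A) → F_fin(Z, A/I^n) is bijective. -/
theorem result {A : Type u} [CommRing A] [IsNoetherianRing A]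
    (I : Ideal A) [IsAdicComplete I A] (Z : Type v) (n : ℕ) :
    (∀ g : Z →₀ A ⧸ I ^ n, ∃ f : decaying I Z A,
        ∀ z, Ideal.Quotient.mk (I ^ n) ((f : Z → A) z) = g z) ∧
      ∀ f : decaying I Z A,
        f ∈ (I ^ n • ⊤ : Submodule A (decaying I Z A)) ↔ ∀ z, (f : Z → A) z ∈ I ^ n := by
  classical
  constructor
  · intro g
    choose r hr using fun z => Ideal.Quotient.mk_surjective (g z)
    let f : Z → A := fun z => if g z = 0 then 0 else r z
    refine ⟨⟨f, fun m => g.support.finite_toSet.subset fun z hz => by_contra fun h => hz ?_⟩,
      fun z => ?_⟩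
    · rw [Finset.mem_coe, Finsupp.notMem_support_iff] at h
      simp [f, h]
    · by_cases h : g z = 0 <;> simp [f, h, hr]
  · intro f
    rw [CAlgH.Decay.mem_pow_smul_iff I (IsNoetherian.noetherian _)]
    simp only [CAlgH.Decay.mem_pow_smul_top_self]

end Groth.Agent.S17544
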