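import Groth.Statements.S17548
import Groth.Agent.CAlgH.Decay

set_option autoImplicit false
universe u v w
open W4c5adicflatcompl
open CAlg

namespace Groth.Agent.S17548

/-- For a Noetherian ring A with I-adic completion Â, a set Z, an I-adically complete A-module M and any
function f : Z → M, there is a unique A-linear map from the module of I-adically decaying functions
Z → Â to M taking, for every z, the function supported at z with value 1 to f z. -/
theorem result {A : Type u} [CommRing A] [IsNoetherianRing A]
    (I : Ideal A) (Z : Type v) [DecidableEq Z] (M : Type w) [AddCommGroup M] [Module A M]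
    [IsAdicComplete I M] (f : Z → M) :
    ∃! φ : decaying I Z (AdicCompletion I A) →ₗ[A] M,
      ∀ z, φ (single I z (1 : AdicCompletion I A)) = f z := by
  classical
  have hfg : I.FG := IsNoetherian.noetherian I
  let h : Z → AdicCompletion I A →ₗ[A] M := fun z =>
    (AdicCompletion.ofLinearEquiv I M).symm.toLinearMap ∘ₗ
      (AdicCompletion.map I (LinearMap.toSpanSingleton A M (f z))).restrictScalars A
  have hone : ∀ a : A, AdicCompletion.of I A a = a • (1 : AdicCompletion I A) := fun a =>
    AdicCompletion.ext fun n => by
      rw [AdicCompletion.of_apply, AdicCompletion.val_smul_apply]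
      show Submodule.Quotient.mk a = a • Submodule.Quotient.mk 1
      rw [← Submodule.Quotient.mk_smul]; simp
  have hh : ∀ z, h z 1 = f z := fun z => by
    have h1 : (1 : AdicCompletion I A) = AdicCompletion.of I A 1 := by rw [hone, one_smul]
    simp only [h, LinearMap.comp_apply, LinearMap.restrictScalars_apply, LinearEquiv.coe_coe]
    rw [h1, AdicCompletion.map_of, AdicCompletion.ofLinearEquiv_symm_of]
    simp
  refine ⟨CAlgH.Decay.sumMap I h, fun z => by rw [CAlgH.Decay.sumMap_single, hh], ?_⟩
  intro φ hφ
  haveI := AdicCompletion.isAdicComplete (M := A) hfg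
  refine CAlgH.Decay.map_ext_single I hfg fun z x => ?_
  rw [CAlgH.Decay.sumMap_single]
  refine CAlgH.Decay.eq_of_forall_mem I fun n => ?_
  obtain ⟨a, ha⟩ := CAlgH.Decay.exists_of_sub_mem I
    (CAlgH.Decay.ker_eval_of_isAdicComplete I (M := A) n) x
  let sl : AdicCompletion I A →ₗ[A] decaying I Z (AdicCompletion I A) :=
    (LinearMap.single A (fun _ : Z => AdicCompletion I A) z).codRestrict _
      (fun m => (single I z m).2)
  have e1 := CAlgH.Decay.map_mem_pow I (φ ∘ₗ sl - h z) ha
  have e2 : φ (sl (AdicCompletion.of I A a)) = h z (AdicCompletion.of I A a) := by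
    rw [hone, map_smul, map_smul, map_smul, hh]
    exact congrArg (a • ·) (hφ z)
  simp only [LinearMap.sub_apply, LinearMap.comp_apply, map_sub] at e1
  rw [e2, sub_self, sub_zero] at e1
  exact e1

end Groth.Agent.S17548
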