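import Groth.Statements.S17549
import Groth.Agent.CAlgH.Decay
import Groth.Agent.S17548

set_option autoImplicit false
universe u
open W4c5adicflatcompl
open CAlg

namespace Groth.Agent.S17549

/-- Over a Noetherian ring A with I-adic completion Â, an A-module P is I-adically projective
(I-adically complete, and every A-linear map from P to the target of a surjection between I-adically
complete modules lifts along that surjection) exactly when P is a retract of some module of
I-adically decaying functions Z → Â: there are a set Z, an A-linear map i from P to the decaying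
functions Z → Â and an A-linear map r back with r ∘ i the identity of P. Test modules, P and Z live
in the universe of A. -/
theorem result {A : Type u} [CommRing A] [IsNoetherianRing A]
    (I : Ideal A) (P : Type u) [AddCommGroup P] [Module A P] :
    IsAdicProjective I P ↔
      ∃ (Z : Type u) (i : P →ₗ[A] decaying I Z (AdicCompletion I A))
        (r : decaying I Z (AdicCompletion I A) →ₗ[A] P), r ∘ₗ i = LinearMap.id := by
  classical
  have hfg : I.FG := IsNoetherian.noetherian I
  constructor
  · rintro ⟨hP, hlift⟩
    obtain ⟨r, hr, -⟩ := Groth.Agent.S17548.result I P P id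
    haveI := AdicCompletion.isAdicComplete (M := A) hfg
    have hD : IsAdicComplete I (decaying I P (AdicCompletion I A)) :=
      CAlgH.Decay.isAdicComplete I hfg
    obtain ⟨i, hi⟩ := hlift _ P hD hP r (fun p => ⟨_, hr p⟩) LinearMap.id
    exact ⟨P, i, r, hi⟩
  · rintro ⟨Z, i, r, hri⟩
    haveI := AdicCompletion.isAdicComplete (M := A) hfg
    haveI : IsAdicComplete I (decaying I Z (AdicCompletion I A)) :=
      CAlgH.Decay.isAdicComplete I hfg
    have hri' : ∀ p, r (i p) = p := fun p => LinearMap.congr_fun hri p
    have hP : IsAdicComplete I P :=
      { toIsHausdorff := ⟨fun p hp => by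
          have : i p = 0 := CAlgH.Decay.eq_zero_of_forall_mem I fun n =>
            CAlgH.Decay.map_mem_pow I i (SModEq.zero.1 (hp n))
          rw [← hri' p, this, map_zero]⟩
        toIsPrecomplete := ⟨fun f hf => by
          obtain ⟨L, hL⟩ := IsPrecomplete.prec (inferInstance :
            IsPrecomplete I (decaying I Z (AdicCompletion I A))) (f := fun n => i (f n))
            (fun {m n} hmn => SModEq.sub_mem.2 (by
              simpa using CAlgH.Decay.map_mem_pow I i (SModEq.sub_mem.1 (hf hmn))))
          refine ⟨r L, fun n => SModEq.sub_mem.2 ?_⟩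
          simpa [hri'] using CAlgH.Decay.map_mem_pow I r (SModEq.sub_mem.1 (hL n))⟩ }
    refine ⟨hP, fun M N _ _ _ _ hM hN φ hφ ψ => ?_⟩
    choose f hf using fun z => hφ (ψ (r (single I z 1)))
    obtain ⟨χ, hχ, -⟩ := Groth.Agent.S17548.result I Z M f
    have : φ ∘ₗ χ = ψ ∘ₗ r :=
      (Groth.Agent.S17548.result I Z N (fun z => ψ (r (single I z 1)))).unique
        (fun z => by rw [LinearMap.comp_apply, hχ, hf]) (fun z => rfl)
    exact ⟨χ ∘ₗ i, LinearMap.ext fun p => by
      have := LinearMap.congr_fun this (i p)
      simpa [hri'] using this⟩

end Groth.Agent.S17549
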