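import Groth.Statements.S17550
import Groth.Agent.CAlgH.DecayLocal

set_option autoImplicit false
universe u
open W4c5adicflatcompl
open scoped TensorProduct
open CAlg

namespace Groth.Agent.S17550

/-- For Noetherian rings A and B with B an A-algebra, ideals I of A and J of B with I B contained in J,
and an I-adically free A-module P, the J-adic completion of B ⊗ P is a J-adically free B-module (the
completed base change of an adically free module is adically free). -/
theorem result {A B : Type u} [CommRing A] [CommRing B] [Algebra A B]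
    [IsNoetherianRing A] [IsNoetherianRing B] (I : Ideal A) (J : Ideal B)
    (hIJ : I.map (algebraMap A B) ≤ J) (P : Type u) [AddCommGroup P] [Module A P]
    (hP : IsAdicFree I P) :
    IsAdicFree J (AdicCompletion J (B ⊗[A] P)) := by
  classical
  obtain ⟨Z, ⟨e⟩⟩ := hP
  have hfgI : I.FG := IsNoetherian.noetherian I
  have hfgJ : J.FG := IsNoetherian.noetherian J
  haveI := AdicCompletion.isAdicComplete (M := A) hfgI
  haveI := AdicCompletion.isAdicComplete (M := B) hfgJ
  haveI := AdicCompletion.isAdicComplete (M := B ⊗[A] P) hfgJ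
  haveI := CAlgH.Decay.isAdicComplete (Z := Z) (M := AdicCompletion J B) J hfgJ
  have hone : ∀ a : A, AdicCompletion.of I A a = a • (1 : AdicCompletion I A) := fun a =>
    AdicCompletion.ext fun n => by
      rw [AdicCompletion.of_apply, AdicCompletion.val_smul_apply]
      show Submodule.Quotient.mk a = a • Submodule.Quotient.mk 1
      rw [← Submodule.Quotient.mk_smul]; simp
  have hone' : ∀ b : B, AdicCompletion.of J B b = b • (1 : AdicCompletion J B) := fun b =>
    AdicCompletion.ext fun n => by
      rw [AdicCompletion.of_apply, AdicCompletion.val_smul_apply]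
      show Submodule.Quotient.mk b = b • Submodule.Quotient.mk 1
      rw [← Submodule.Quotient.mk_smul]; simp
  -- powers of `I` land in powers of `J`
  have hpow : ∀ (X : Type u) [AddCommGroup X] [Module A X] [Module B X] [IsScalarTower A B X]
      (n : ℕ) (x : X), x ∈ (I ^ n • ⊤ : Submodule A X) → x ∈ (J ^ n • ⊤ : Submodule B X) := by
    intro X _ _ _ _ n x hx
    induction hx using Submodule.smul_induction_on' with
    | smul r hr y _ =>
      rw [← IsScalarTower.algebraMap_smul B r y]
      refine Submodule.smul_mem_smul (Ideal.pow_right_mono hIJ n ?_) Submodule.mem_top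
      rw [← Ideal.map_pow]; exact Ideal.mem_map_of_mem _ hr
    | add x _ y _ ihx ihy => exact add_mem ihx ihy
  -- comparison of completed rings
  have hk : ∀ n, (I ^ n • ⊤ : Submodule A A) ≤
      LinearMap.ker ((Submodule.mkQ (J ^ n • ⊤ : Submodule B B)).restrictScalars A ∘ₗ Algebra.linearMap A B) :=
    fun n a ha => LinearMap.mem_ker.2 ((Submodule.Quotient.mk_eq_zero _).2 (hpow B n _ (CAlgH.Decay.map_mem_pow I (Algebra.linearMap A B) ha)))
  let lift' : ∀ n, AdicCompletion I A →ₗ[A] B ⧸ (J ^ n • ⊤ : Submodule B B) := fun n =>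
    Submodule.liftQ (I ^ n • ⊤) _ (hk n) ∘ₗ AdicCompletion.eval I A n
  have hlift : ∀ x {m n : ℕ} (hmn : m ≤ n),
      AdicCompletion.transitionMap J B hmn (lift' n x) = lift' m x := by
    intro x m n hmn
    obtain ⟨a, ha⟩ := Submodule.Quotient.mk_surjective _ (x.val n)
    have hm : x.val m = Submodule.Quotient.mk a := by
      rw [← AdicCompletion.transitionMap_comp_eval_apply I A hmn x]
      simp [← ha]
    show AdicCompletion.transitionMap J B hmn (Submodule.liftQ _ _ (hk n) (x.val n)) =
      Submodule.liftQ _ _ (hk m) (x.val m)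
    rw [← ha, hm]
    rfl
  let κ : AdicCompletion I A →ₗ[A] AdicCompletion J B :=
    { toFun := fun x => ⟨fun n => lift' n x, fun hmn => hlift x hmn⟩
      map_add' := fun x y => AdicCompletion.ext fun n => map_add (lift' n) x y
      map_smul' := fun a x => AdicCompletion.ext fun n => map_smul (lift' n) a x }
  have hκ1 : κ 1 = 1 := AdicCompletion.ext fun n => by
    show lift' n 1 = Submodule.Quotient.mk 1
    show Submodule.Quotient.mk (algebraMap A B 1) = _
    rw [map_one]
  -- β : B ⊗ P → decaying functions
  have hb1 : ∀ g : decaying I Z (AdicCompletion I A),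
      (fun z => κ ((g : Z → AdicCompletion I A) z)) ∈ decaying J Z (AdicCompletion J B) := fun g n =>
    (g.2 n).subset fun z hz hz' => hz (hpow _ n _ (CAlgH.Decay.map_mem_pow I κ hz'))
  let β₀ : P →ₗ[A] decaying J Z (AdicCompletion J B) :=
    { toFun := fun p => ⟨_, hb1 (e p)⟩
      map_add' := fun p q => Subtype.ext (funext fun z => by simp)
      map_smul' := fun a p => Subtype.ext (funext fun z => by simp) }
  let β : B ⊗[A] P →ₗ[B] decaying J Z (AdicCompletion J B) := β₀.liftBaseChange B
  let p₁ : Z → P := fun z => e.symm (single I z 1)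
  have hβ1 : ∀ z, β₀ (p₁ z) = single J z 1 := fun z => Subtype.ext (funext fun z' => by
    by_cases h : z' = z
    · subst h; simp [β₀, p₁, hκ1]
    · simp [β₀, p₁, Pi.single_eq_of_ne h])
  let βc : AdicCompletion J (B ⊗[A] P) →ₗ[B] decaying J Z (AdicCompletion J B) :=
    (AdicCompletion.ofLinearEquiv J _).symm.toLinearMap ∘ₗ (AdicCompletion.map J β).restrictScalars B
  have hβc : ∀ x, βc (AdicCompletion.of J _ x) = β x := fun x => by
    show (AdicCompletion.ofLinearEquiv J _).symm (AdicCompletion.map J β (AdicCompletion.of J _ x)) = β x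
    erw [AdicCompletion.map_of]
    exact AdicCompletion.ofLinearEquiv_symm_of J (β x)
  -- φ : decaying functions → completion
  let t : Z → AdicCompletion J B →ₗ[B] AdicCompletion J (B ⊗[A] P) := fun z =>
    (AdicCompletion.map J (LinearMap.toSpanSingleton B (B ⊗[A] P) (1 ⊗ₜ p₁ z))).restrictScalars B
  let φ := CAlgH.Decay.sumMap J t
  have hext : ∀ (M : Type u) [AddCommGroup M] [Module B M] [IsHausdorff J M]
      (f g : AdicCompletion J B →ₗ[B] M), f 1 = g 1 → f = g := by
    intro M _ _ _ f g h
    refine LinearMap.ext fun x => CAlgH.Decay.eq_of_forall_mem J fun n => ?_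
    obtain ⟨b, hb⟩ := CAlgH.Decay.exists_of_sub_mem J
      (CAlgH.Decay.ker_eval_of_isAdicComplete J (M := B) n) x
    simpa [hone', h] using CAlgH.Decay.map_mem_pow J (f - g) hb
  have hφ1 : ∀ z, φ (single J z 1) = AdicCompletion.of J _ (1 ⊗ₜ p₁ z) := fun z => by
    rw [CAlgH.Decay.sumMap_single, show (1 : AdicCompletion J B) = AdicCompletion.of J B 1 by
      rw [hone', one_smul]]
    show (AdicCompletion.map J _) (AdicCompletion.of J B 1) = _
    erw [AdicCompletion.map_of]
    simp
  have h1 : βc ∘ₗ φ = LinearMap.id := by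
    refine CAlgH.Decay.map_ext_single J hfgJ fun z x => ?_
    let sl : AdicCompletion J B →ₗ[B] decaying J Z (AdicCompletion J B) :=
      (LinearMap.single B (fun _ : Z => AdicCompletion J B) z).codRestrict _
        (fun m => (single J z m).2)
    have : (βc ∘ₗ φ) ∘ₗ sl = sl := hext _ _ _ (by
      show βc (φ (single J z 1)) = single J z 1
      rw [hφ1, hβc, ← hβ1]
      simp [β])
    exact LinearMap.congr_fun this x
  have hAC : ∀ n (x : AdicCompletion J (B ⊗[A] P)), x ∈ (I ^ n • ⊤ : Submodule A _) →
      x ∈ (J ^ n • ⊤ : Submodule B _) := fun n x => hpow _ n x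
  have h2 : φ ∘ₗ βc = LinearMap.id := by
    have hof : ∀ x, φ (β x) = AdicCompletion.of J _ x := by
      suffices hp : ∀ p, φ (β₀ p) = AdicCompletion.of J _ (1 ⊗ₜ p) by
        intro x
        induction x using TensorProduct.induction_on with
        | zero => simp
        | tmul b p =>
          rw [LinearMap.liftBaseChange_tmul, map_smul, hp, ← map_smul, TensorProduct.smul_tmul',
            smul_eq_mul, mul_one]
        | add x y hx hy => simp [hx, hy]
      intro p
      let d : P →ₗ[A] AdicCompletion J (B ⊗[A] P) :=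
        (φ.restrictScalars A) ∘ₗ β₀ - (AdicCompletion.of J (B ⊗[A] P)).restrictScalars A ∘ₗ
          TensorProduct.mk A B P 1
      let d' := d ∘ₗ e.symm.toLinearMap
      have hd1 : ∀ z, d' (single I z 1) = 0 := fun z => by
        simp only [d', d, LinearMap.comp_apply, LinearMap.sub_apply, LinearEquiv.coe_coe,
          LinearMap.restrictScalars_apply, TensorProduct.mk_apply]
        change φ (β₀ (p₁ z)) - _ = 0
        rw [hβ1, hφ1, sub_self]
      have hd2 : ∀ z x n, d' (single I z x) ∈ (J ^ n • ⊤ : Submodule B _) := fun z x n => by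
        obtain ⟨a, ha⟩ := CAlgH.Decay.exists_of_sub_mem I
          (CAlgH.Decay.ker_eval_of_isAdicComplete I (M := A) n) x
        let sl : AdicCompletion I A →ₗ[A] decaying I Z (AdicCompletion I A) :=
          (LinearMap.single A (fun _ : Z => AdicCompletion I A) z).codRestrict _
            (fun m => (single I z m).2)
        have h := hAC n _ (CAlgH.Decay.map_mem_pow I (d' ∘ₗ sl) ha)
        rw [map_sub, hone, map_smul, show (d' ∘ₗ sl) 1 = d' (sl 1) from rfl,
          show d' (sl 1) = 0 from hd1 z, smul_zero, sub_zero] at h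
        exact h
      have : d' (e p) = 0 := CAlgH.Decay.eq_zero_of_forall_mem J fun n => by
        obtain ⟨S, hS⟩ := CAlgH.Decay.exists_finset I (e p).2 n
        have h := hAC n _ (CAlgH.Decay.map_mem_pow I d'
          (CAlgH.Decay.sub_sum_single_mem I (Ideal.FG.pow hfgI) (e p) hS))
        rw [map_sub, map_sum] at h
        simpa using Submodule.add_mem _ h (Submodule.sum_mem (t := S)
          (f := fun z => d' (single I z ((e p : Z → AdicCompletion I A) z))) _ fun z _ => hd2 z _ n)
      simpa [d', d, sub_eq_zero] using this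
    refine LinearMap.ext fun x => CAlgH.Decay.eq_of_forall_mem J fun n => ?_
    obtain ⟨y, hy⟩ := CAlgH.Decay.exists_of_sub_mem J
      (CAlgH.Decay.ker_eval_of_isAdicComplete J (M := B ⊗[A] P) n) x
    have h := CAlgH.Decay.map_mem_pow J (φ ∘ₗ βc - LinearMap.id) hy
    rw [map_sub] at h
    simp only [LinearMap.sub_apply, LinearMap.comp_apply, LinearMap.id_apply, hβc, hof] at h
    rw [sub_self, sub_zero] at h
    exact h
  exact ⟨Z, ⟨LinearEquiv.ofLinearMap βc φ h1 h2⟩⟩

end Groth.Agent.S17550
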