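import Groth.Statements.S17551
import Groth.Agent.CAlgH.DecayLocal

set_option autoImplicit false
universe u
open W4c5adicflatcompl
open CAlg

namespace Groth.Agent.S17551

/-- For a complete Noetherian local ring A (maximal ideal m, m-adic completion Â) and an m-adic system
(M n, ψ n : M (n+1) → M n) of A-modules, meaning that each M n is a module over A/m^(n+1) and each ψ
n is surjective with kernel m^(n+1) M (n+1), if every M n is flat over A/m^(n+1) then the inverse
limit of the system is m-adically free (isomorphic to the m-adically decaying functions Z → Â for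
some set Z), and for every n its projection to M n is surjective with kernel m^(n+1) times the
limit. A, the M n and Z share one universe. -/
theorem result {A : Type u} [CommRing A] [IsNoetherianRing A] [IsLocalRing A]
    [IsAdicComplete (IsLocalRing.maximalIdeal A) A]
    (M : ℕ → Type u) [∀ n, AddCommGroup (M n)] [∀ n, Module A (M n)]
    [∀ n, Module (A ⧸ IsLocalRing.maximalIdeal A ^ (n + 1)) (M n)]
    [∀ n, IsScalarTower A (A ⧸ IsLocalRing.maximalIdeal A ^ (n + 1)) (M n)]
    [∀ n, Module.Flat (A ⧸ IsLocalRing.maximalIdeal A ^ (n + 1)) (M n)]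
    (ψ : ∀ n, M (n + 1) →ₗ[A] M n) (hψ : ∀ n, Function.Surjective (ψ n))
    (hker : ∀ n, LinearMap.ker (ψ n) =
      (IsLocalRing.maximalIdeal A ^ (n + 1) • ⊤ : Submodule A (M (n + 1)))) :
    IsAdicFree (IsLocalRing.maximalIdeal A) (sysLim M ψ) ∧
      ∀ n, Function.Surjective (sysProj M ψ n) ∧
        LinearMap.ker (sysProj M ψ n) =
          (IsLocalRing.maximalIdeal A ^ (n + 1) • ⊤ : Submodule A (sysLim M ψ)) := by
  classical
  have hM0 : ∀ n, ∀ a ∈ IsLocalRing.maximalIdeal A ^ (n + 1), ∀ x : M n, a • x = 0 := by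
    intro n a ha x
    rw [← IsScalarTower.algebraMap_smul (A ⧸ IsLocalRing.maximalIdeal A ^ (n + 1)) a x,
      Ideal.Quotient.algebraMap_eq, Ideal.Quotient.eq_zero_iff_mem.2 ha, zero_smul]
  have hbot : ∀ n, (IsLocalRing.maximalIdeal A ^ (n + 1) • ⊤ : Submodule A (M n)) = ⊥ := fun n =>
    eq_bot_iff.2 (Submodule.smul_le.2 fun a ha x _ => (Submodule.mem_bot A).2 (hM0 n a ha x))
  haveI : ∀ n, IsAdicComplete (IsLocalRing.maximalIdeal A) (M n) := fun n =>
    CAlgH.Decay.isAdicComplete_of_pow_smul_eq_bot _ (n + 1) (hbot n)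
  have hfg : (IsLocalRing.maximalIdeal A).FG := IsNoetherian.noetherian _
  obtain ⟨Z, b0, hspan, hind⟩ := CAlgH.Decay.exists_residue_basis (V := M 0)
    (IsLocalRing.maximalIdeal A) (fun a ha x => hM0 0 a (by rwa [zero_add, pow_one]) x)
  choose s hs using hψ
  let b : ∀ n, Z → M n := fun n => Nat.rec b0 (fun k bk z => s k (bk z)) n
  have hb : ∀ n z, ψ n (b (n + 1) z) = b n z := fun n z => hs n _
  have hgen : ∀ n, Submodule.span A (Set.range (b n)) = ⊤ := by
    intro n
    induction n with
    | zero => exact hspan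
    | succ n ih =>
      have h1 : (⊤ : Submodule A (M (n + 1))) ≤ Submodule.span A (Set.range (b (n + 1))) ⊔
          IsLocalRing.maximalIdeal A • ⊤ := by
        intro x _
        have : ψ n x ∈ (Submodule.span A (Set.range (b (n + 1)))).map (ψ n) := by
          rw [Submodule.map_span, ← Set.range_comp,
            show (ψ n ∘ b (n + 1)) = b n from funext (hb n), ih]
          exact Submodule.mem_top
        obtain ⟨w, hw, hwx⟩ := this
        have h2 : x - w ∈ LinearMap.ker (ψ n) := by rw [LinearMap.mem_ker, map_sub, hwx, sub_self]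
        rw [hker] at h2
        have h5 : x = w + (x - w) := (add_sub_cancel w x).symm
        rw [h5]
        refine Submodule.add_mem_sup hw ?_
        exact Submodule.smul_mono (Ideal.pow_le_self (Nat.succ_ne_zero n)) le_rfl h2
      have h3 : ∀ k, (⊤ : Submodule A (M (n + 1))) ≤ Submodule.span A (Set.range (b (n + 1))) ⊔
          IsLocalRing.maximalIdeal A ^ k • ⊤ := by
        intro k
        induction k with
        | zero => simp
        | succ k ihk =>
          refine ihk.trans (sup_le le_sup_left ?_)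
          refine (Submodule.smul_mono le_rfl h1).trans ?_
          rw [Submodule.smul_sup, ← Submodule.mul_smul, ← pow_succ]
          exact sup_le_sup_right Submodule.smul_le_right _
      have h4 := h3 (n + 2)
      rw [hbot (n + 1), sup_bot_eq] at h4
      exact top_le_iff.1 h4
  have hzero : ∀ n (S : Finset Z) (c : Z → A), ∑ z ∈ S, c z • b n z = 0 →
      ∀ z ∈ S, c z ∈ IsLocalRing.maximalIdeal A := by
    intro n
    induction n with
    | zero => exact hind
    | succ n ih =>
      intro S c h
      refine ih S c ?_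
      simpa [hb] using congrArg (ψ n) h
  have hindn : ∀ n (S : Finset Z) (g : Z → A), ∑ z ∈ S, g z • b n z = 0 →
      ∀ z ∈ S, g z ∈ IsLocalRing.maximalIdeal A ^ (n + 1) := by
    intro n S g h z hz
    have hq : ∑ i : ↥S, Ideal.Quotient.mk (IsLocalRing.maximalIdeal A ^ (n + 1)) (g i.1) • b n i.1 = 0 := by
      simp only [← Ideal.Quotient.algebraMap_eq, IsScalarTower.algebraMap_smul]
      rw [Finset.sum_coe_sort S (fun z => g z • b n z), h]
    obtain ⟨l, a, w, hw, ha⟩ := Module.Flat.isTrivialRelation_of_sum_smul_eq_zero hq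
    choose C hC using fun i j => Ideal.Quotient.mk_surjective (a i j)
    refine CAlgH.Decay.coeff_mem_pow (IsLocalRing.maximalIdeal A) C ?_ (n + 1) (fun i : ↥S => g i.1)
      (fun j => ?_) ⟨z, hz⟩
    · intro c hc i
      have h' := hzero n S (fun z => if h : z ∈ S then c ⟨z, h⟩ else 0)
      have hsum : ∑ z ∈ S, (if h : z ∈ S then c ⟨z, h⟩ else 0) • b n z =
          ∑ j, (∑ i, c i * C i j) • w j := by
        rw [← Finset.sum_coe_sort S]
        simp only [Finset.coe_mem, dite_true, Subtype.coe_eta, hw, Finset.smul_sum, Finset.sum_smul]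
        rw [Finset.sum_comm]
        refine Finset.sum_congr rfl fun j _ => Finset.sum_congr rfl fun i _ => ?_
        rw [← hC, ← Ideal.Quotient.algebraMap_eq, IsScalarTower.algebraMap_smul, mul_smul]
      -- push down to the bottom of the tower
      have : ∀ k (S : Finset Z) (d : Z → A), ∑ z ∈ S, d z • b k z ∈
          (IsLocalRing.maximalIdeal A • ⊤ : Submodule A (M k)) → ∀ z ∈ S, d z ∈ IsLocalRing.maximalIdeal A := by
        intro k
        induction k with
        | zero =>
          intro S d hd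
          refine hind S d ?_
          have hb0 := hbot 0
          rw [zero_add, pow_one] at hb0
          rwa [hb0, Submodule.mem_bot] at hd
        | succ k ihk =>
          intro S d hd
          refine ihk S d ?_
          have := Submodule.mem_map_of_mem (f := ψ k) hd
          rw [Submodule.map_smul''] at this
          simpa [hb] using Submodule.smul_mono le_rfl le_top this
      have h2 := this n S _ (hsum ▸ Submodule.sum_mem _ fun j _ =>
        Submodule.smul_mem_smul (hc j) Submodule.mem_top) i i.2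
      simpa using h2
    · rw [← Ideal.Quotient.eq_zero_iff_mem, map_sum]
      simpa [hC] using ha j
  let Φ : ∀ n, decaying (IsLocalRing.maximalIdeal A) Z A →ₗ[A] M n := fun n =>
    CAlgH.Decay.sumMap _ (fun z => LinearMap.toSpanSingleton A (M n) (b n z))
  have hΦs : ∀ n z x, Φ n (single (IsLocalRing.maximalIdeal A) z x) = x • b n z := fun n z x => by
    rw [CAlgH.Decay.sumMap_single]; rfl
  have hcomp : ∀ n, ψ n ∘ₗ Φ (n + 1) = Φ n := fun n =>
    CAlgH.Decay.map_ext_single (IsLocalRing.maximalIdeal A) hfg fun z x => by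
      rw [LinearMap.comp_apply, hΦs, hΦs, map_smul, hb]
  let Ψ : decaying (IsLocalRing.maximalIdeal A) Z A →ₗ[A] sysLim M ψ :=
    (LinearMap.pi Φ).codRestrict _ (fun g n => LinearMap.congr_fun (hcomp n) g)
  have hkerΦ : ∀ n g, Φ n g = 0 ↔ ∀ z, (g : Z → A) z ∈ IsLocalRing.maximalIdeal A ^ (n + 1) := by
    intro n g
    obtain ⟨S, hS⟩ := CAlgH.Decay.exists_finset _ g.2 (n + 1)
    have hsum := CAlgH.Decay.hasSum_sumMap (IsLocalRing.maximalIdeal A)
      (fun z => LinearMap.toSpanSingleton A (M n) (b n z)) g (n + 1) S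
      (fun z hz => CAlgH.Decay.map_mem_pow _ _ (hS z hz))
    rw [hbot n, Submodule.mem_bot, sub_eq_zero] at hsum
    rw [show Φ n g = _ from hsum]
    simp only [LinearMap.toSpanSingleton_apply]
    refine ⟨fun h z => ?_, fun h => Finset.sum_eq_zero fun z _ => hM0 n _ (h z) _⟩
    by_cases hz : z ∈ S
    · exact hindn n S _ h z hz
    · exact (CAlgH.Decay.mem_pow_smul_top_self _).1 (hS z hz)
  have hΦsurj : ∀ n, Function.Surjective (Φ n) := by
    intro n
    rw [← LinearMap.range_eq_top, eq_top_iff, ← hgen n, Submodule.span_le]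
    rintro _ ⟨z, rfl⟩
    exact ⟨single _ z 1, by rw [hΦs, one_smul]⟩
  haveI := CAlgH.Decay.isAdicComplete (M := A) (Z := Z) (IsLocalRing.maximalIdeal A) hfg
  have hinj : Function.Injective Ψ := by
    rw [injective_iff_map_eq_zero]
    intro g hg
    refine CAlgH.Decay.eq_zero_of_forall_mem (IsLocalRing.maximalIdeal A) fun n => ?_
    refine CAlgH.Decay.mem_smul_top_pow_le _ (Nat.le_succ n) ?_
    rw [CAlgH.Decay.mem_pow_smul_iff _ (IsNoetherian.noetherian _)]
    simp only [CAlgH.Decay.mem_pow_smul_top_self]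
    exact (hkerΦ n g).1 (congrFun (congrArg Subtype.val hg) n)
  have hsurj : Function.Surjective Ψ := by
    intro x
    choose g hg using fun n => hΦsurj n ((x : ∀ k, M k) n)
    have hdiff : ∀ n, g (n + 1) - g n ∈ (IsLocalRing.maximalIdeal A ^ n • ⊤ :
        Submodule A (decaying (IsLocalRing.maximalIdeal A) Z A)) := by
      intro n
      refine CAlgH.Decay.mem_smul_top_pow_le _ (Nat.le_succ n) ?_
      rw [CAlgH.Decay.mem_pow_smul_iff _ (IsNoetherian.noetherian _)]
      simp only [CAlgH.Decay.mem_pow_smul_top_self]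
      refine (hkerΦ n _).1 ?_
      rw [map_sub, ← hcomp n, LinearMap.comp_apply, hg, hcomp n, hg, x.2 n, sub_self]
    obtain ⟨L, hL⟩ := CAlgH.Decay.exists_limit _ g hdiff
    refine ⟨L, Subtype.ext (funext fun n => ?_)⟩
    have h := CAlgH.Decay.map_mem_pow _ (Φ n) (hL (n + 1))
    rw [hbot n, Submodule.mem_bot, map_sub, sub_eq_zero] at h
    show Φ n L = _
    rw [h, ← hcomp n, LinearMap.comp_apply, hg, x.2 n]
  let e := LinearEquiv.ofBijective Ψ ⟨hinj, hsurj⟩
  refine ⟨⟨Z, ⟨e.symm.trans (CAlgH.Decay.congrDec _ Z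
    (AdicCompletion.ofLinearEquiv (IsLocalRing.maximalIdeal A) A))⟩⟩, fun n => ⟨fun y => ?_, ?_⟩⟩
  · obtain ⟨g, rfl⟩ := hΦsurj n y
    exact ⟨e g, rfl⟩
  · ext x
    obtain ⟨g, rfl⟩ := e.surjective x
    have h1 : sysProj M ψ n (e g) = Φ n g := rfl
    rw [LinearMap.mem_ker, h1, hkerΦ]
    have h2 : (∀ z, (g : Z → A) z ∈ IsLocalRing.maximalIdeal A ^ (n + 1)) ↔
        g ∈ (IsLocalRing.maximalIdeal A ^ (n + 1) • ⊤ :
          Submodule A (decaying (IsLocalRing.maximalIdeal A) Z A)) := by
      rw [CAlgH.Decay.mem_pow_smul_iff _ (IsNoetherian.noetherian _)]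
      simp only [CAlgH.Decay.mem_pow_smul_top_self]
    rw [h2]
    refine ⟨fun h => CAlgH.Decay.map_mem_pow _ e.toLinearMap h, fun h => ?_⟩
    simpa using CAlgH.Decay.map_mem_pow _ e.symm.toLinearMap h

end Groth.Agent.S17551
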