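import Groth.Statements.S17552
import Groth.Agent.CAlgH.DecayLocal
import Groth.Agent.S17540

set_option autoImplicit false
universe u
open W4c5adicflatcompl
open CAlg

namespace Groth.Agent.S17552

/-- For a complete Noetherian local ring A (maximal ideal m, m-adic completion Â), an A-module M is
isomorphic to the module of m-adically decaying functions Z → Â for some set Z (m-adically free)
exactly when M is flat and m-adically complete. M and Z live in the universe of A. -/
theorem result {A : Type u} [CommRing A] [IsNoetherianRing A] [IsLocalRing A]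
    [IsAdicComplete (IsLocalRing.maximalIdeal A) A]
    (M : Type u) [AddCommGroup M] [Module A M] :
    IsAdicFree (IsLocalRing.maximalIdeal A) M ↔
      Module.Flat A M ∧ IsAdicComplete (IsLocalRing.maximalIdeal A) M := by
  classical
  have hfg : (IsLocalRing.maximalIdeal A).FG := IsNoetherian.noetherian _
  have eA := CAlgH.Decay.congrDec (IsLocalRing.maximalIdeal A)
  constructor
  · rintro ⟨Z, ⟨e⟩⟩
    let e' := e.trans (eA Z (AdicCompletion.ofLinearEquiv (IsLocalRing.maximalIdeal A) A).symm)
    haveI : Module.Flat A (decaying (IsLocalRing.maximalIdeal A) Z A) :=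
      CAlgH.Decay.flat_decaying _ Z
    haveI : IsAdicComplete (IsLocalRing.maximalIdeal A) (decaying (IsLocalRing.maximalIdeal A) Z A) :=
      CAlgH.Decay.isAdicComplete _ hfg
    exact ⟨Module.Flat.of_linearEquiv e',
      CAlgH.Decay.isAdicComplete_of_equiv _ e'.symm⟩
  · rintro ⟨hflat, hc⟩
    obtain ⟨Z, b, hspan, hind⟩ := CAlgH.Decay.exists_residue_basis
      (V := M ⧸ (IsLocalRing.maximalIdeal A • ⊤ : Submodule A M)) (IsLocalRing.maximalIdeal A)
      (fun a ha x => by
        induction x using Submodule.Quotient.induction_on with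
        | H y =>
          rw [← Submodule.Quotient.mk_smul, Submodule.Quotient.mk_eq_zero]
          exact Submodule.smul_mem_smul ha Submodule.mem_top)
    choose v hv using fun z => Submodule.Quotient.mk_surjective _ (b z)
    have hmap : ∀ (S : Finset Z) (c : Z → A),
        Submodule.mkQ (IsLocalRing.maximalIdeal A • ⊤ : Submodule A M) (∑ z ∈ S, c z • v z) =
          ∑ z ∈ S, c z • b z := fun S c => by simp [hv]
    have hvind : ∀ (S : Finset Z) (c : Z → A),
        ∑ z ∈ S, c z • v z ∈ (IsLocalRing.maximalIdeal A • ⊤ : Submodule A M) →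
          ∀ z ∈ S, c z ∈ IsLocalRing.maximalIdeal A := fun S c h => hind S c (by
      rw [← hmap]; exact (Submodule.Quotient.mk_eq_zero _).2 h)
    let φ := CAlgH.Decay.sumMap (IsLocalRing.maximalIdeal A)
      (fun z => LinearMap.toSpanSingleton A M (v z))
    have hsum := CAlgH.Decay.hasSum_sumMap (IsLocalRing.maximalIdeal A)
      (fun z => LinearMap.toSpanSingleton A M (v z))
    refine ⟨Z, ⟨((LinearEquiv.ofBijective φ ⟨?_, ?_⟩).symm).trans
      (eA Z (AdicCompletion.ofLinearEquiv (IsLocalRing.maximalIdeal A) A))⟩⟩
    · rw [injective_iff_map_eq_zero]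
      intro g hg
      haveI : IsHausdorff (IsLocalRing.maximalIdeal A) (decaying (IsLocalRing.maximalIdeal A) Z A) :=
        CAlgH.Decay.isHausdorff _
      refine CAlgH.Decay.eq_zero_of_forall_mem (IsLocalRing.maximalIdeal A) fun n => ?_
      rw [CAlgH.Decay.mem_pow_smul_iff _ (IsNoetherian.noetherian _)]
      intro z
      rw [CAlgH.Decay.mem_pow_smul_top_self]
      obtain ⟨S, hS⟩ := CAlgH.Decay.exists_finset _ g.2 n
      by_cases hz : z ∈ S
      · refine CAlgH.Decay.coeff_mem_of_flat _ v hvind (IsNoetherian.noetherian _) S _ ?_ z hz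
        have h1 := hsum g n S (fun z hz => CAlgH.Decay.map_mem_pow _ _ (hS z hz))
        rw [show CAlgH.Decay.sumMap (IsLocalRing.maximalIdeal A)
          (fun z => LinearMap.toSpanSingleton A M (v z)) g = 0 from hg, zero_sub] at h1
        simpa using Submodule.neg_mem _ h1
      · exact (CAlgH.Decay.mem_pow_smul_top_self _).1 (hS z hz)
    · intro x
      have hgen : Submodule.span A (Set.range v) ⊔ IsLocalRing.maximalIdeal A • ⊤ = ⊤ := by
        rw [eq_top_iff]
        intro y _
        have : Submodule.mkQ (IsLocalRing.maximalIdeal A • ⊤ : Submodule A M) y ∈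
            (Submodule.span A (Set.range v)).map (Submodule.mkQ _) := by
          rw [Submodule.map_span, ← Set.range_comp,
            show (Submodule.mkQ _ ∘ v) = b from funext hv, hspan]
          exact Submodule.mem_top
        obtain ⟨w, hw, hwy⟩ := this
        have h2 := (Submodule.Quotient.eq _).1 hwy.symm
        rw [← sub_add_cancel y w, add_comm]
        exact Submodule.add_mem_sup hw h2
      obtain ⟨g, hg, hgx⟩ := (Groth.Agent.S17540.result (IsLocalRing.maximalIdeal A) M Z v).1 hgen x
      refine ⟨⟨g, hg⟩, ?_⟩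
      exact CAlgH.Decay.HasSum.unique (IsLocalRing.maximalIdeal A)
        (CAlgH.Decay.comp_mem_decaying _ (fun z => LinearMap.toSpanSingleton A M (v z)) ⟨g, hg⟩)
        (hsum ⟨g, hg⟩) (CAlgH.Decay.hasSum_of_exists _ hgx)

end Groth.Agent.S17552
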