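import Groth.Statements.S17583
import Groth.Agent.ClPush.PullBasis
import Groth.Agent.TensorMod.Invertible
-- import your own Groth.Agent.* helpers here

set_option autoImplicit false
open CategoryTheory CategoryTheory.Limits AlgebraicGeometry
open PosLin

namespace Groth.Agent.S17583

section
open CategoryTheory Limits AlgebraicGeometry Opposite TopologicalSpace
open Groth.Agent.QCohBase Groth.Agent.GenLocus Groth.Agent.FrameHom

theorem isIso_of_bijective_basis {X : Scheme.{0}} {M N : X.Modules} (φ : M ⟶ N) {B : Set X.Opens}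
    (hB : Opens.IsBasis B) (h : ∀ U ∈ B, ∀ V ≤ U, Function.Bijective (φ.app V)) : IsIso φ := by
  rw [Scheme.Modules.Hom.isIso_iff_isIso_app]
  intro V
  rw [ConcreteCategory.isIso_iff_bijective]
  choose U hU hyU hUV using fun y : V => Opens.isBasis_iff_nbhd.1 hB y.2
  have hcov : V ≤ ⨆ y, U y := fun y hy => Opens.mem_iSup.2 ⟨⟨y, hy⟩, hyU ⟨y, hy⟩⟩
  refine ⟨fun a b hab => eq_of_iSup_le M U hUV hcov a b fun y => ?_, fun c => ?_⟩
  · refine (h _ (hU y) _ le_rfl).1 ?_
    rw [← app_nat, ← app_nat]
    exact congrArg _ hab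
  · choose a ha using fun y => (h _ (hU y) _ le_rfl).2 (mres N (hUV y) c)
    obtain ⟨t, ht, -⟩ := TopCat.Sheaf.existsUnique_gluing' ⟨M.presheaf, M.isSheaf⟩ U V
      (fun y => homOfLE (hUV y)) hcov a (fun y y' => by
        refine (h _ (hU y) _ inf_le_left).1 ?_
        show φ.app (U y ⊓ U y') (mres M inf_le_left (a y)) = φ.app (U y ⊓ U y') (mres M inf_le_right (a y'))
        rw [← app_nat, ← app_nat, ha, ha, mres_mres, mres_mres])
    refine ⟨t, eq_of_iSup_le N U hUV hcov _ _ fun y => ?_⟩
    rw [app_nat, show mres M (hUV y) t = a y from ht y, ha]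

set_option backward.isDefEq.respectTransparency false in
lemma isIso_unit {X S : Scheme.{0}} (f : X ⟶ S) (hf : ∀ U : S.Opens, IsIso (f.app U))
    (M : S.Modules) (hM : FlatMod.IsFinLocFree M) :
    IsIso ((Scheme.Modules.pullbackPushforwardAdjunction f).unit.app M) := by
  have hB : Opens.IsBasis {U : S.Opens | ∃ (n : ℕ) (e : Fin n → Γ(M, U)), IsBasisOn M e} :=
    Opens.isBasis_iff_nbhd.2 fun {W x} hx => by
      obtain ⟨U, n, hxU, ⟨t⟩⟩ := hM x
      obtain ⟨e, he⟩ := exists_isBasisOn_of_triv t
      exact ⟨U ⊓ W, ⟨n, _, he.res inf_le_left⟩, ⟨hxU, hx⟩, inf_le_right⟩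
  refine isIso_of_bijective_basis _ hB fun U ⟨n, e, he⟩ V hV => ?_
  have hb := Groth.Agent.ClPush.isBasisOn_pullSec f he (f ⁻¹ᵁ V) (f.preimage_mono hV)
  haveI := hf V
  have ha : Function.Bijective (fun r : Fin n → Γ(S, V) => fun l => f.app V (r l)) :=
    (ConcreteCategory.bijective_of_isIso (f.app V)).comp_left
  have key : ∀ r : Fin n → Γ(S, V), pullSec f M V (comb M e hV r) =
      comb ((Scheme.Modules.pullback f).obj M) (fun l => pullSec f M U (e l)) (f.preimage_mono hV)
        (fun l => f.app V (r l)) := by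
    intro r
    simp only [comb, map_sum]
    refine Finset.sum_congr rfl fun l _ => ?_
    rw [pullSec_smul, pullSec_mres f M hV (e l)]
  show Function.Bijective (pullSec f M V)
  rw [← Function.Bijective.of_comp_iff (pullSec f M V) (he V hV)]
  refine (?_ : Function.Bijective _)
  rw [show (pullSec f M V) ∘ comb M e hV = comb ((Scheme.Modules.pullback f).obj M) (fun l => pullSec f M U (e l))
    (f.preimage_mono hV) ∘ (fun r : Fin n → Γ(S, V) => fun l => f.app V (r l)) from funext key]
  exact hb.comp ha
end

/-- Let X and Y each be a projective variety over the complex numbers (an integral scheme, proper over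
ℂ, with an ample invertible module), and let f : X → Y be an algebraic fibre space: a surjective
morphism over ℂ such that the canonical map O_Y → f_*O_X is an isomorphism. Then for every
invertible O_Y-module L the unit L → f_* f^* L of the pullback–pushforward adjunction is an
isomorphism; taking global sections, H^0(X, f^*L) = H^0(Y, L) (the printed statement is this
equality for the powers L^⊗m, m > 0, and adds the equality of Iitaka dimensions, which is not stated
here). -/
theorem result (X : Scheme.{0}) [X.Over (Spec (CommRingCat.of ℂ))] [IsIntegral X] [IsProper (X ↘ Spec (CommRingCat.of ℂ))]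
    (HX : X.Modules) (hHX : CohB1.IsAmple HX)
    (Y : Scheme.{0}) [Y.Over (Spec (CommRingCat.of ℂ))] [IsIntegral Y] [IsProper (Y ↘ Spec (CommRingCat.of ℂ))]
    (HY : Y.Modules) (hHY : CohB1.IsAmple HY)
    (f : X ⟶ Y) (hf : f ≫ (Y ↘ Spec (CommRingCat.of ℂ)) = X ↘ Spec (CommRingCat.of ℂ)) [Surjective f]
    (hfs : IsIso (ClSub.unitToPush f))
    (L : Y.Modules) (hL : PicF.IsInvertible L) :
    IsIso ((Scheme.Modules.pullbackPushforwardAdjunction f).unit.app L) := by
  haveI := hfs
  exact isIso_unit f (fun U => by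
    have h1 : IsIso ((ClSub.unitToPush f).app U) := inferInstance
    exact (ConcreteCategory.isIso_iff_bijective (f.app U)).2
      ((ConcreteCategory.isIso_iff_bijective ((ClSub.unitToPush f).app U)).1 h1))
    L (Groth.Agent.TensorMod.isFinLocFree_of_isInvertible hL)

end Groth.Agent.S17583
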