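import Groth.Statements.S17584
import Groth.Agent.DivPts.NormalIso
-- import your own Groth.Agent.* helpers here

set_option autoImplicit false
open CategoryTheory CategoryTheory.Limits AlgebraicGeometry
open PosLin

namespace Groth.Agent.S17584

open CategoryTheory AlgebraicGeometry TopologicalSpace Opposite

theorem isIntegrallyClosed_open {X : Scheme.{0}} [AlgebraicGeometry.IsIntegral X] (hX : Pi1.IsNormalScheme X) (W : X.Opens)
    [hW : Nonempty W] : IsIntegrallyClosed Γ(X, W) := by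
  have hη : ∀ U : X.Opens, Nonempty U → genericPoint X ∈ U := fun U h =>
    (genericPoint_spec X).mem_open_set_iff U.2 |>.2 (by simpa using Set.nonempty_coe_sort.1 h)
  let g : Γ(X, W) →+* X.functionField := (X.presheaf.germ W (genericPoint X) (hη W hW)).hom
  have hg : Function.Injective g := AlgebraicGeometry.germ_injective_of_isIntegral X (genericPoint X) (hη W hW)
  rw [isIntegrallyClosed_iff (FractionRing Γ(X, W))]
  intro x hx
  let φ : FractionRing Γ(X, W) →+* X.functionField := IsFractionRing.lift hg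
  obtain ⟨p, hp, hpx⟩ := hx
  have hloc : ∀ U : {U : X.affineOpens // Nonempty U.1 ∧ U.1 ≤ W}, ∃ c : Γ(X, U.1.1),
      (X.presheaf.germ U.1.1 (genericPoint X) (hη _ U.2.1)).hom c = φ x := by
    rintro ⟨U, hne, hle⟩
    haveI := hne
    haveI := functionField_isFractionRing_of_isAffineOpen X U.1 U.2
    haveI := Groth.Agent.DivPts.isIntegrallyClosed_sections hX U.2
    let r : Γ(X, W) →+* Γ(X, U.1) := (X.presheaf.map (homOfLE hle).op).hom
    have hr : (algebraMap Γ(X, U.1) X.functionField).comp r = g := by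
      ext a; exact TopCat.Presheaf.germ_res_apply X.presheaf _ _ _ a
    have hint : IsIntegral Γ(X, U.1) (φ x) := by
      refine ⟨p.map r, hp.map r, ?_⟩
      rw [Polynomial.eval₂_map, hr, show g = φ.comp (algebraMap Γ(X, W) (FractionRing Γ(X, W))) from
        RingHom.ext fun a => (IsFractionRing.lift_algebraMap hg a).symm, ← Polynomial.hom_eval₂, hpx, map_zero]
    exact IsIntegrallyClosed.algebraMap_eq_of_integral hint
  choose c hc using hloc
  have hcover : W ≤ iSup fun U : {U : X.affineOpens // Nonempty U.1 ∧ U.1 ≤ W} => U.1.1 := by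
    intro y hy
    obtain ⟨U, hU, hyU, hle⟩ := exists_isAffineOpen_mem_and_subset hy
    exact Opens.mem_iSup.2 ⟨⟨⟨U, hU⟩, ⟨⟨y, hyU⟩⟩, hle⟩, hyU⟩
  obtain ⟨s, hs, -⟩ := TopCat.Sheaf.existsUnique_gluing' X.sheaf (fun U : {U : X.affineOpens // Nonempty U.1 ∧ U.1 ≤ W} => U.1.1)
    W (fun U => homOfLE U.2.2) hcover c (fun U V => by
      have hm : genericPoint X ∈ U.1.1 ⊓ V.1.1 := ⟨hη _ U.2.1, hη _ V.2.1⟩
      haveI : Nonempty (U.1.1 ⊓ V.1.1 : X.Opens) := ⟨⟨_, hm⟩⟩
      refine AlgebraicGeometry.germ_injective_of_isIntegral X (genericPoint X) hm ?_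
      exact (TopCat.Presheaf.germ_res_apply X.presheaf _ _ _ (c U)).trans ((hc U).trans ((hc V).symm.trans
        (TopCat.Presheaf.germ_res_apply X.presheaf _ _ _ (c V)).symm)))
  obtain ⟨U, hU, hηU, hle⟩ := exists_isAffineOpen_mem_and_subset (hη W hW)
  let i : {U : X.affineOpens // Nonempty U.1 ∧ U.1 ≤ W} := ⟨⟨U, hU⟩, ⟨⟨_, hηU⟩⟩, hle⟩
  refine ⟨s, φ.injective ?_⟩
  refine (IsFractionRing.lift_algebraMap hg (s : Γ(X, W))).trans ?_
  rw [← hc i]
  show g s = _
  rw [← hs i]
  exact (TopCat.Presheaf.germ_res_apply X.presheaf _ _ _ s).symm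

/-- Let X and Y each be a projective variety over the complex numbers (an integral scheme, proper over
ℂ, with an ample invertible module), and f : X → Y an algebraic fibre space (a surjective morphism
over ℂ with O_Y → f_*O_X an isomorphism). If X is normal, then Y is normal. -/
theorem result (X : Scheme.{0}) [X.Over (Spec (CommRingCat.of ℂ))] [IsIntegral X] [IsProper (X ↘ Spec (CommRingCat.of ℂ))]
    (HX : X.Modules) (hHX : CohB1.IsAmple HX)
    (Y : Scheme.{0}) [Y.Over (Spec (CommRingCat.of ℂ))] [IsIntegral Y] [IsProper (Y ↘ Spec (CommRingCat.of ℂ))]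
    (HY : Y.Modules) (hHY : CohB1.IsAmple HY)
    (f : X ⟶ Y) (hf : f ≫ (Y ↘ Spec (CommRingCat.of ℂ)) = X ↘ Spec (CommRingCat.of ℂ)) [Surjective f]
    (hfs : IsIso (ClSub.unitToPush f))
    (hX : Pi1.IsNormalScheme X) : Pi1.IsNormalScheme Y := by
  intro y
  obtain ⟨V, hV, hyV, -⟩ := exists_isAffineOpen_mem_and_subset (U := (⊤ : Y.Opens)) (x := y) trivial
  haveI : Nonempty V := ⟨⟨y, hyV⟩⟩
  haveI : Nonempty (f ⁻¹ᵁ V : X.Opens) := by
    obtain ⟨x, hx⟩ := f.surjective y
    exact ⟨⟨x, show f x ∈ V by rw [hx]; exact hyV⟩⟩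
  haveI := isIntegrallyClosed_open hX (f ⁻¹ᵁ V)
  haveI := hfs
  have hbij : Function.Bijective (f.app V).hom := by
    have h1 : IsIso ((ClSub.unitToPush f).app V) := inferInstance
    exact (ConcreteCategory.isIso_iff_bijective ((ClSub.unitToPush f).app V)).1 h1
  haveI : IsIntegrallyClosed Γ(Y, V) := IsIntegrallyClosed.of_equiv (RingEquiv.ofBijective _ hbij).symm
  letI := (Y.presheaf.germ V y hyV).hom.toAlgebra
  haveI : IsLocalization.AtPrime (Y.presheaf.stalk y) (hV.primeIdealOf ⟨y, hyV⟩).asIdeal :=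
    hV.isLocalization_stalk ⟨y, hyV⟩
  exact ⟨inferInstance, isIntegrallyClosed_of_isLocalization _ (hV.primeIdealOf ⟨y, hyV⟩).asIdeal.primeCompl
    (Ideal.primeCompl_le_nonZeroDivisors _)⟩

end Groth.Agent.S17584
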