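import Groth.Statements.S17592
import Groth.Agent.Hensel.PairHens

set_option autoImplicit false
universe u
open Hensel

namespace Groth.Agent.S17592

/-- Let R → S be an étale ring map and I an ideal of R such that the induced map R/I → S/IS is
bijective. Then a Henselization of the pair (S, IS), regarded as an R-algebra, is a Henselization of
the pair (R, I). -/
theorem result (R : Type u) [CommRing R] (I : Ideal R)
    (S : Type u) [CommRing S] [Algebra R S] [Algebra.Etale R S]
    (hq : Function.Bijective
      (Ideal.quotientMap (I.map (algebraMap R S)) (algebraMap R S) Ideal.le_comap_map))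
    (H : Type u) [CommRing H] [Algebra S H] [Algebra R H] [IsScalarTower R S H]
    (hH : Hens2.IsPairHenselization S (I.map (algebraMap R S)) H) :
    Hens2.IsPairHenselization R I H := by
  have hmap : I.map (algebraMap R H) = (I.map (algebraMap R S)).map (algebraMap S H) := by
    rw [Ideal.map_map, ← IsScalarTower.algebraMap_eq]
  refine ⟨hmap ▸ hH.1, fun C _ J f hC hf ↦ ?_⟩
  let := f.toAlgebra
  have hq' : Groth.Agent.Hensel.IsTrivialModI I S := hq
  obtain ⟨σ⟩ := hq'.exists_point
  let ι : R ⧸ I →ₐ[R] C ⧸ J := Ideal.Quotient.liftₐ I (Algebra.ofId R _) fun a ha ↦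
    Ideal.Quotient.eq_zero_iff_mem.mpr (hf (Ideal.mem_map_of_mem f ha))
  obtain ⟨τ, -, -⟩ := Groth.Agent.Hensel.exists_algHom_lift_etale J
    (Groth.Agent.Hensel.gabberRoot_of_henselianRing (A := C) (I := J)) S (ι.comp σ)
  have hτ : (I.map (algebraMap R S)).map τ.toRingHom ≤ J := by
    rw [Ideal.map_map, AlgHom.toRingHom_eq_coe, τ.comp_algebraMap]
    exact hf
  obtain ⟨g, hg, hu⟩ := hH.2 C J τ.toRingHom hC hτ
  refine ⟨g, ?_, fun g' hg' ↦ ?_⟩
  · change g.comp (algebraMap R H) = f
    rw [IsScalarTower.algebraMap_eq R S H, ← RingHom.comp_assoc, hg, AlgHom.toRingHom_eq_coe,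
      τ.comp_algebraMap]
    rfl
  · refine hu g' ?_
    let τ' : S →ₐ[R] C :=
      { toRingHom := g'.comp (algebraMap S H)
        commutes' := fun r ↦ by
          change g' (algebraMap S H (algebraMap R S r)) = f r
          rw [← IsScalarTower.algebraMap_apply, ← hg']
          rfl }
    exact congrArg AlgHom.toRingHom
      (hq'.algHom_ext (B := C) (hf.trans (hC.jac)) τ' τ)

end Groth.Agent.S17592
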