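import Groth.Statements.S17593
import Groth.Agent.Hensel.AwayNbhd

set_option autoImplicit false
universe u
open Hensel

namespace Groth.Agent.S17593

/-- Suppose (A, I) is a Henselian pair, and R is an A-algebra of finite presentation for which A → R is
flat at each prime of R that contains IR. Then there is an étale R-algebra R' such that R/IR →
R'/IR' is bijective and A → R' is flat. -/
theorem result (A : Type u) [CommRing A] (I : Ideal A) [HenselianRing A I]
    (R : Type u) [CommRing R] [Algebra A R] [Algebra.FinitePresentation A R]
    (h : ∀ (p : Ideal R) [p.IsPrime], I.map (algebraMap A R) ≤ p → Module.Flat A (Localization.AtPrime p))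
    : ∃ (R' : Type u) (_ : CommRing R') (_ : Algebra R R') (_ : Algebra A R') (_ : IsScalarTower A R R'),
      Algebra.Etale R R' ∧
      Function.Bijective (Ideal.quotientMap ((I.map (algebraMap A R)).map (algebraMap R R'))
        (algebraMap R R') Ideal.le_comap_map) ∧ Module.Flat A R' := by
  let eq : ∀ q : PrimeSpectrum R, LocalizedModule q.asIdeal.primeCompl R ≃ₗ[A] Localization.AtPrime q.asIdeal := fun q ↦
    (IsLocalizedModule.iso q.asIdeal.primeCompl (Algebra.linearMap R (Localization.AtPrime q.asIdeal))).restrictScalars A
  obtain ⟨f, hf1, hf2, -, hf3⟩ := Groth.Agent.Hensel.exists_etale_away (J := I.map (algebraMap A R))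
    (U := {q : PrimeSpectrum R | Module.Flat A (LocalizedModule q.asIdeal.primeCompl R)})
    Groth.Agent.FlatLocus.isOpen_flatLocus (fun q hq ↦ by
      have := h q.asIdeal ((PrimeSpectrum.mem_zeroLocus _ _).mp hq)
      exact Module.Flat.of_linearEquiv (eq q))
  refine ⟨Localization.Away f, inferInstance, inferInstance, inferInstance, inferInstance, hf1, hf2,
    Groth.Agent.Hensel.flat_away_of_forall f fun P ↦ ?_⟩
  have : Module.Flat A (LocalizedModule (PrimeSpectrum.comap (algebraMap R (Localization.Away f)) P).asIdeal.primeCompl R) := hf3 P
  exact Module.Flat.of_linearEquiv (eq (PrimeSpectrum.comap (algebraMap R (Localization.Away f)) P)).symm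

end Groth.Agent.S17593
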