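import Groth.Statements.S17595
import Groth.Agent.Hensel.AwayNbhd

set_option autoImplicit false
universe u
open Hensel

namespace Groth.Agent.S17595

/-- Suppose (A, I) is a Henselian pair, and R is an A-algebra of finite presentation for which A → R is
quasi-finite at each prime of R that contains IR. Then there is an étale R-algebra R' such that R/IR
→ R'/IR' is bijective and A → R' is quasi-finite. -/
theorem result (A : Type u) [CommRing A] (I : Ideal A) [HenselianRing A I]
    (R : Type u) [CommRing R] [Algebra A R] [Algebra.FinitePresentation A R]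
    (h : ∀ (p : Ideal R) [p.IsPrime], I.map (algebraMap A R) ≤ p → Algebra.QuasiFiniteAt A p)
    : ∃ (R' : Type u) (_ : CommRing R') (_ : Algebra R R') (_ : Algebra A R') (_ : IsScalarTower A R R'),
      Algebra.Etale R R' ∧
      Function.Bijective (Ideal.quotientMap ((I.map (algebraMap A R)).map (algebraMap R R'))
        (algebraMap R R') Ideal.le_comap_map) ∧ Algebra.QuasiFinite A R' := by
  obtain ⟨f, hf1, hf2, -, hf3⟩ := Groth.Agent.Hensel.exists_etale_away (J := I.map (algebraMap A R))
    (Groth.Agent.Hensel.isOpen_quasiFiniteAt (A := A) (R := R))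
    (fun q hq ↦ h q.asIdeal ((PrimeSpectrum.mem_zeroLocus _ _).mp hq))
  exact ⟨Localization.Away f, inferInstance, inferInstance, inferInstance, inferInstance, hf1, hf2,
    Groth.Agent.Hensel.quasiFinite_away_of_forall f hf3⟩

end Groth.Agent.S17595
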