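import Groth.Statements.S17599
import Groth.Agent.Hensel.SmoothModel
import Groth.Agent.Hensel.HfpEtale
import Groth.Agent.Hensel.SmoothLift

set_option autoImplicit false
universe u
open Hensel

namespace Groth.Agent.S17599

/-- Let (A, I) be a Henselian pair and let B be a Henselization of the pair (R₀, IR₀) for a finitely
presented A-algebra R₀ (so A → B is a Henselian finitely presented map of Henselian pairs). Assume
that A/I^r → B/I^rB is smooth for every r ≥ 1 (for Henselian finitely presented maps this is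
equivalent to the h-formally smooth lifting property). Then there exist a smooth A-algebra R, a
Henselization H of the pair (R, IR) and a surjective A-algebra map H → B whose kernel is a finitely
generated ideal contained in I^n H for every n. -/
theorem result (A : Type u) [CommRing A] (I : Ideal A)
    [HenselianRing A I] (R₀ : Type u) [CommRing R₀] [Algebra A R₀] [Algebra.FinitePresentation A R₀]
    (B : Type u) [CommRing B] [Algebra R₀ B] [Algebra A B] [IsScalarTower A R₀ B]
    (hB : Hens2.IsPairHenselization R₀ (I.map (algebraMap A R₀)) B)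
    (het : ∀ r : ℕ, 1 ≤ r → Algebra.Smooth (A ⧸ I ^ r) (B ⧸ (I ^ r).map (algebraMap A B))) :
    ∃ (R : Type u) (_ : CommRing R) (_ : Algebra A R) (H : Type u) (_ : CommRing H) (_ : Algebra R H)
      (_ : Algebra A H) (_ : IsScalarTower A R H),
      Algebra.Smooth A R ∧ Hens2.IsPairHenselization R (I.map (algebraMap A R)) H ∧
      ∃ φ : H →ₐ[A] B, Function.Surjective φ ∧ (RingHom.ker φ).FG ∧
        ∀ n : ℕ, RingHom.ker φ ≤ (I ^ n).map (algebraMap A H) := by
  open Groth.Agent.Hensel in
  have := henselianRing_of_pair hB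
  have h1 : Algebra.Smooth (A ⧸ I) (B ⧸ I.map (algebraMap A B)) := by
    have := het 1 le_rfl
    rwa [pow_one] at this
  obtain ⟨Q, _, _, σ, hQ, hσ, hσk⟩ :=
    Groth.Agent.Hensel.SmoothModel.exists_smooth_lift I (B ⧸ I.map (algebraMap A B))
  obtain ⟨τ, hτ⟩ := Groth.Agent.Hensel.exists_algHom_lift_of_smooth (A := B) (I := I.map (algebraMap A B)) σ
  let H := Groth.Agent.Hensel.Hens Q (Q ⧸ I.map (algebraMap A Q))
  have hH : Hens2.IsPairHenselization Q (I.map (algebraMap A Q)) H := Groth.Agent.Hensel.isPairHenselization_hens _ _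
  let : Algebra A H := ((algebraMap Q H).comp (algebraMap A Q)).toAlgebra
  have : IsScalarTower A Q H := .of_algebraMap_eq fun _ ↦ rfl
  obtain ⟨φ, hφ, -⟩ := Groth.Agent.Hensel.existsUnique_algHom_extend hH τ
  have hφq : ∀ q, φ (algebraMap Q H q) = τ q := fun q ↦ DFunLike.congr_fun hφ q
  have : Algebra.FinitePresentation A Q := inferInstance
  let : Algebra H B := φ.toRingHom.toAlgebra
  have : IsScalarTower A H B := .of_algebraMap_eq fun a ↦ (φ.commutes a).symm
  have hHens : HenselianRing H (I.map (algebraMap A H)) := Groth.Agent.Hensel.henselianRing_of_pair hH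
  obtain ⟨T, _, _, _, _, hTfp, hBT⟩ := Groth.Agent.Hensel.hfp_of_algHom (I := I) hH hB
  have hmodI : ∀ h : H, φ h ∈ I.map (algebraMap A B) → h ∈ I.map (algebraMap A H) := by
    intro h hh
    obtain ⟨q, hq⟩ := Groth.Agent.Hensel.exists_sub_mem_pair (A := A) hH h
    have h2 := Ideal.mem_map_of_mem φ.toRingHom hq
    rw [Ideal.map_map, AlgHom.toRingHom_eq_coe, φ.comp_algebraMap, RingHom.coe_coe, map_sub, hφq] at h2
    have h3 : τ q ∈ I.map (algebraMap A B) := by simpa using sub_mem hh h2
    have h4 : q ∈ RingHom.ker σ.toRingHom := by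
      rw [RingHom.mem_ker]
      exact (DFunLike.congr_fun hτ q).symm.trans (Ideal.Quotient.eq_zero_iff_mem.mpr h3)
    rw [hσk] at h4
    have h5 := Ideal.mem_map_of_mem (algebraMap Q H) h4
    rw [Groth.Agent.Hensel.map_map_tower'] at h5
    simpa using add_mem hq h5
  have hsurjI : Function.Surjective (Ideal.quotientMap ((I.map (algebraMap A H)).map (algebraMap H B))
      (algebraMap H B) Ideal.le_comap_map) := by
    intro y
    obtain ⟨b, rfl⟩ := Ideal.Quotient.mk_surjective y
    obtain ⟨q, hq⟩ := hσ (Ideal.Quotient.mk _ b)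
    refine ⟨Ideal.Quotient.mk _ (algebraMap Q H q), Ideal.Quotient.eq.mpr ?_⟩
    rw [Groth.Agent.Hensel.map_map_tower']
    change φ (algebraMap Q H q) - b ∈ _
    rw [hφq]
    exact Ideal.Quotient.eq.mp ((DFunLike.congr_fun hτ q).trans hq)
  have hsurj : Function.Surjective φ := Groth.Agent.Hensel.surjective_of_pair hBT hsurjI
  have hfp := (Groth.Agent.Hensel.finite_and_finitePresentation_of_pair hBT (RingHom.Finite.of_surjective _ hsurjI)).2
  refine ⟨Q, inferInstance, inferInstance, H, inferInstance, inferInstance, inferInstance, inferInstance,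
    hQ, hH, φ, hsurj, Algebra.FinitePresentation.ker_fG_of_surjective (Algebra.ofId H B) hsurj, fun n x hx ↦ ?_⟩
  rcases n.eq_zero_or_pos with rfl | hn
  · rw [pow_zero, Ideal.one_eq_top, Ideal.map_top]; exact Submodule.mem_top
  have hBn := het n hn
  let qA : (H ⧸ (I ^ n).map (algebraMap A H)) →ₐ[A] (B ⧸ (I ^ n).map (algebraMap A B)) :=
    Ideal.quotientMapₐ _ φ (Ideal.map_le_iff_le_comap.mp (le_of_eq (by
      rw [← Ideal.map_coe φ, Ideal.map_map, φ.comp_algebraMap])))
  let q : (H ⧸ (I ^ n).map (algebraMap A H)) →ₐ[A ⧸ I ^ n] (B ⧸ (I ^ n).map (algebraMap A B)) :=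
    { toRingHom := qA.toRingHom
      commutes' := fun y ↦ by
        obtain ⟨a, rfl⟩ := Ideal.Quotient.mk_surjective y
        exact qA.commutes a }
  have hq : Function.Surjective q := fun y ↦ by
    obtain ⟨b, rfl⟩ := Ideal.Quotient.mk_surjective y
    obtain ⟨h, rfl⟩ := hsurj b
    exact ⟨Ideal.Quotient.mk _ h, rfl⟩
  let In := I.map (Ideal.Quotient.mk (I ^ n))
  have hIn : In.map (algebraMap (A ⧸ I ^ n) (H ⧸ (I ^ n).map (algebraMap A H))) =
      (I.map (algebraMap A H)).map (Ideal.Quotient.mk ((I ^ n).map (algebraMap A H))) := by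
    rw [Ideal.map_map, Ideal.map_map]; rfl
  have hle : RingHom.ker q ≤ In.map (algebraMap (A ⧸ I ^ n) (H ⧸ (I ^ n).map (algebraMap A H))) := by
    intro y hy
    obtain ⟨h, rfl⟩ := Ideal.Quotient.mk_surjective y
    rw [hIn]
    refine Ideal.mem_map_of_mem _ (hmodI h ?_)
    exact Ideal.map_mono (Ideal.pow_le_self hn.ne') (Ideal.Quotient.eq_zero_iff_mem.mp hy)
  have hmul : RingHom.ker q ≤ In.map (algebraMap (A ⧸ I ^ n) (H ⧸ (I ^ n).map (algebraMap A H))) * RingHom.ker q :=
    (le_inf le_rfl hle).trans (Groth.Agent.Hensel.ker_inf_le_mul_of_flat (I := In) q hq)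
  have hpow : ∀ j, RingHom.ker q ≤ (In.map (algebraMap (A ⧸ I ^ n) (H ⧸ (I ^ n).map (algebraMap A H)))) ^ j * RingHom.ker q := by
    intro j
    induction j with
    | zero => simp
    | succ j ih => exact ih.trans ((Ideal.mul_mono_right hmul).trans (by rw [← mul_assoc, ← pow_succ]))
  have h6 : Ideal.Quotient.mk ((I ^ n).map (algebraMap A H)) x ∈ RingHom.ker q := by
    rw [RingHom.mem_ker]
    change Ideal.Quotient.mk _ (φ x) = 0
    rw [show φ x = 0 from hx, map_zero]
  have h7 := hpow n h6
  rw [← Ideal.map_pow, ← Ideal.map_pow, Ideal.map_quotient_self, Ideal.map_bot, Ideal.bot_mul, Ideal.mem_bot,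
    Ideal.Quotient.eq_zero_iff_mem] at h7
  exact h7

end Groth.Agent.S17599
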