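import Groth.Statements.S1760
import Groth.Agent.GorenBasic.FieldExt
import Groth.Agent.LocDuality.GorenLocal

set_option autoImplicit false
universe u
open scoped TensorProduct
open Goren

namespace Groth.Agent.S1760

/-- First assertion, written for the local ring B = O_{X,x}. Let k'/k be a finitely generated field
extension, B a Noetherian local k-algebra, and q a prime of B ⊗_k k' lying over the maximal ideal of
B. Then B is Gorenstein if and only if the localization of B ⊗_k k' at q is Gorenstein. -/
theorem result (k k' : Type u) [Field k] [Field k'] [Algebra k k'] (hfg : ∃ s : Finset k', IntermediateField.adjoin k (s : Set k') = ⊤) (B : Type u) [CommRing B] [IsLocalRing B] [IsNoetherianRing B] [Algebra k B] (q : PrimeSpectrum (B ⊗[k] k')) (hq : q.asIdeal.comap (algebraMap B (B ⊗[k] k')) = IsLocalRing.maximalIdeal B) : LocCoh.IsGorensteinLocalRing B ↔ LocCoh.IsGorensteinLocalRing (Localization.AtPrime q.asIdeal) := by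
  let Q := Localization.AtPrime q.asIdeal
  have : Module.Flat B Q := Module.Flat.trans B (B ⊗[k] k') Q
  have : IsLocalHom (algebraMap B Q) := by
    refine ⟨fun b hb => ?_⟩
    rw [IsScalarTower.algebraMap_apply B (B ⊗[k] k') Q] at hb
    by_contra h
    have h1 : algebraMap B (B ⊗[k] k') b ∈ q.asIdeal := by
      rw [← Ideal.mem_comap, hq]; exact h
    exact (IsLocalRing.mem_maximalIdeal _).mp
      ((IsLocalization.AtPrime.to_map_mem_maximal_iff Q q.asIdeal _).mpr h1) hb
  constructor
  · intro hB
    have hR : LocCoh.IsGorensteinRing B :=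
      ⟨fun p _ => Groth.Agent.LocDuality.isGorensteinLocalRing_atPrime B p⟩
    have h1 : LocCoh.IsGorensteinRing (k' ⊗[k] B) :=
      Groth.Agent.GorenBasic.isGorensteinRing_tensor_of_fg hfg
    have h2 : LocCoh.IsGorensteinRing (B ⊗[k] k') :=
      Groth.Agent.GorenBasic.isGorensteinRing_of_ringEquiv
        (Algebra.TensorProduct.comm k k' B).toRingEquiv
    exact h2.isGorensteinLocalRing_localization q.asIdeal
  · intro h
    have := h.1
    exact (Groth.Agent.GorenBasic.isGorensteinLocalRing_iff_flat.mp h).1

end Groth.Agent.S1760
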