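import Groth.Statements.S17605
import Groth.Agent.Hensel.PairHens

set_option autoImplicit false
universe u
open Hensel

namespace Groth.Agent.S17605

/-- Let A be a ring with an ideal I and let f₁, f₂ be elements of A such that D(f₂) ∩ V(I) ⊆ D(f₁) ∩
V(I) in Spec A. If H₁ is a Henselization of the pair (A_{f₁}, IA_{f₁}) and H₂ a Henselization of the
pair (A_{f₂}, IA_{f₂}), with their induced A-algebra structures, then there is exactly one A-algebra
map H₁ → H₂. -/
theorem result (A : Type u) [CommRing A]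
    (I : Ideal A) (f₁ f₂ : A)
    (h : (PrimeSpectrum.basicOpen f₂ : Set (PrimeSpectrum A)) ∩ PrimeSpectrum.zeroLocus (I : Set A) ⊆
      (PrimeSpectrum.basicOpen f₁ : Set (PrimeSpectrum A)) ∩ PrimeSpectrum.zeroLocus (I : Set A))
    (H₁ : Type u) [CommRing H₁] [Algebra (Localization.Away f₁) H₁] [Algebra A H₁]
    [IsScalarTower A (Localization.Away f₁) H₁]
    (hH₁ : Hens2.IsPairHenselization (Localization.Away f₁)
      (I.map (algebraMap A (Localization.Away f₁))) H₁)
    (H₂ : Type u) [CommRing H₂] [Algebra (Localization.Away f₂) H₂] [Algebra A H₂]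
    [IsScalarTower A (Localization.Away f₂) H₂]
    (hH₂ : Hens2.IsPairHenselization (Localization.Away f₂)
      (I.map (algebraMap A (Localization.Away f₂))) H₂) :
    Nonempty (H₁ →ₐ[A] H₂) ∧ Subsingleton (H₁ →ₐ[A] H₂) := by
  have := hH₂.1
  have hu : IsUnit (algebraMap A H₂ f₁) := by
    by_contra hn
    obtain ⟨M, hM, hfM⟩ := exists_max_ideal_of_mem_nonunits hn
    have hJ : (I.map (algebraMap A (Localization.Away f₂))).map
        (algebraMap (Localization.Away f₂) H₂) ≤ M :=
      hH₂.1.jac.trans (sInf_le ⟨bot_le, hM⟩)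
    rw [Ideal.map_map, ← IsScalarTower.algebraMap_eq, Ideal.map_le_iff_le_comap] at hJ
    let P : PrimeSpectrum A := ⟨M.comap (algebraMap A H₂), inferInstance⟩
    have h2 : P ∈ (PrimeSpectrum.basicOpen f₂ : Set (PrimeSpectrum A)) := fun hf ↦ by
      refine hM.ne_top (M.eq_top_of_isUnit_mem (Ideal.mem_comap.mp hf) ?_)
      rw [IsScalarTower.algebraMap_apply A (Localization.Away f₂) H₂]
      exact (IsLocalization.Away.algebraMap_isUnit f₂).map _
    exact (h ⟨h2, (PrimeSpectrum.mem_zeroLocus _ _).mpr hJ⟩).1 hfM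
  let φ : Localization.Away f₁ →ₐ[A] H₂ := IsLocalization.liftAlgHom (M := Submonoid.powers f₁)
    (f := Algebra.ofId A H₂) fun ⟨_, n, hn⟩ ↦ by
      subst hn; rw [map_pow]; exact hu.pow n
  set J := (I.map (algebraMap A (Localization.Away f₂))).map (algebraMap (Localization.Away f₂) H₂)
  have hφ : (I.map (algebraMap A (Localization.Away f₁))).map φ.toRingHom ≤ J := by
    simp only [J, Ideal.map_map, AlgHom.toRingHom_eq_coe, φ.comp_algebraMap,
      ← IsScalarTower.algebraMap_eq, le_refl]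
  obtain ⟨g, hg, hgu⟩ := hH₁.2 H₂ J φ.toRingHom hH₂.1 hφ
  refine ⟨⟨{ toRingHom := g, commutes' := fun a ↦ ?_ }⟩, ⟨fun ψ₁ ψ₂ ↦ ?_⟩⟩
  · change g (algebraMap A H₁ a) = _
    rw [IsScalarTower.algebraMap_apply A (Localization.Away f₁) H₁, ← RingHom.comp_apply, hg]
    exact φ.commutes a
  · have key : ∀ ψ : H₁ →ₐ[A] H₂, ψ.toRingHom = g := fun ψ ↦ by
      refine hgu _ (IsLocalization.ringHom_ext (Submonoid.powers f₁) (RingHom.ext fun a ↦ ?_))
      simp [← IsScalarTower.algebraMap_apply]
    exact AlgHom.ext fun x ↦ DFunLike.congr_fun ((key ψ₁).trans (key ψ₂).symm) x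

end Groth.Agent.S17605
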