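import Groth.Statements.S17613
import Groth.Agent.Hensel.DirectLim
import Groth.Agent.Hensel.Hfp

set_option autoImplicit false
universe u
open Hensel

namespace Groth.Agent.S17613

/-- Let (A, I) be a Henselian pair and let B be a Henselization of the pair (R₀, IR₀) for a finitely
presented A-algebra R₀ (so A → B is Henselian finitely presented). Let (R_a) be a directed system of
A-algebras with A-compatible transition maps such that each (R_a, IR_a) is a Henselian pair, and let
L be its direct limit with the induced A-algebra structure. Then the canonical map from the colimit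
of the Hom_A(B, R_a) to Hom_A(B, L) is bijective: every A-algebra map B → L factors through some
R_a, and two A-algebra maps B → R_a whose composites with R_a → L agree become equal after passing
to some R_b. (Index set in the universe of the rings.) -/
theorem result (A : Type u) [CommRing A] (I : Ideal A)
    [HenselianRing A I] (R₀ : Type u) [CommRing R₀] [Algebra A R₀] [Algebra.FinitePresentation A R₀]
    (B : Type u) [CommRing B] [Algebra R₀ B] [Algebra A B] [IsScalarTower A R₀ B]
    (hB : Hens2.IsPairHenselization R₀ (I.map (algebraMap A R₀)) B)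
    {κ : Type u} [Preorder κ] [IsDirectedOrder κ] [Nonempty κ]
    (Ra : κ → Type u) [∀ a, CommRing (Ra a)] [∀ a, Algebra A (Ra a)]
    [∀ a, HenselianRing (Ra a) (I.map (algebraMap A (Ra a)))]
    (t : ∀ a b : κ, a ≤ b → (Ra a →+* Ra b)) [DirectedSystem Ra (fun a b h => t a b h)]
    (ht : ∀ (a b : κ) (h : a ≤ b), (t a b h).comp (algebraMap A (Ra a)) = algebraMap A (Ra b))
    [Algebra A (DirectLimit Ra t)]
    (halg : ∀ (a : κ) (x : A), algebraMap A (DirectLimit Ra t) x =
      DirectLimit.Ring.of Ra t a (algebraMap A (Ra a) x)) :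
    (∀ χ : B →ₐ[A] DirectLimit Ra t, ∃ (a : κ) (φ : B →ₐ[A] Ra a),
        ∀ x : B, DirectLimit.Ring.of Ra t a (φ x) = χ x) ∧
    ∀ (a : κ) (φ ψ : B →ₐ[A] Ra a),
      (∀ x : B, DirectLimit.Ring.of Ra t a (φ x) = DirectLimit.Ring.of Ra t a (ψ x)) →
      ∃ (b : κ) (h : a ≤ b), ∀ x : B, t a b h (φ x) = t a b h (ψ x) := by
  classical
  let J : ∀ a, Ideal (Ra a) := fun a ↦ I.map (algebraMap A (Ra a))
  have hJ : ∀ (a b : κ) (h : a ≤ b), (J a).map (t a b h) ≤ J b := fun a b h ↦ by
    simp only [J, Ideal.map_map, ht a b h, le_refl]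
  have hLh : HenselianRing (DirectLimit Ra t) (I.map (algebraMap A (DirectLimit Ra t))) := by
    refine Groth.Agent.Hensel.henselianRing_of_le (J := ⨆ a, (J a).map (DirectLimit.Ring.of Ra t a))
      (h := Groth.Agent.Hensel.henselianRing_directLimit t J hJ fun a ↦ inferInstance) ?_
    obtain ⟨a⟩ := ‹Nonempty κ›
    refine le_trans (le_of_eq ?_) (le_iSup (fun a ↦ (J a).map (DirectLimit.Ring.of Ra t a)) a)
    simp only [J, Ideal.map_map]
    congr 1
    exact RingHom.ext (halg a)
  let ι : ∀ a, Ra a →ₐ[A] DirectLimit Ra t := fun a ↦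
    { toRingHom := DirectLimit.Ring.of Ra t a, commutes' := fun x ↦ (halg a x).symm }
  let tA : ∀ a b (h : a ≤ b), Ra a →ₐ[A] Ra b := fun a b h ↦
    { toRingHom := t a b h, commutes' := DFunLike.congr_fun (ht a b h) }
  obtain ⟨n, π, hπ, hker⟩ := Algebra.FinitePresentation.out (R := A) (A := R₀)
  obtain ⟨S, hS⟩ := hker
  let ρ : R₀ →ₐ[A] B := IsScalarTower.toAlgHom A R₀ B
  refine ⟨fun χ ↦ ?_, fun a φ ψ h ↦ ?_⟩
  · obtain ⟨a, y, hy⟩ := Groth.Agent.Hensel.exists_of_finite t (fun k : Fin n ↦ χ (ρ (π (MvPolynomial.X k))))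
    have hχ : (ι a).comp (MvPolynomial.aeval y) = χ.comp (ρ.comp π) :=
      MvPolynomial.algHom_ext fun k ↦ by
        rw [AlgHom.comp_apply, MvPolynomial.aeval_X]
        exact hy k
    have h0 : ∀ p : (S : Set (MvPolynomial (Fin n) A)), DirectLimit.Ring.of Ra t a (MvPolynomial.aeval y p.1) =
        DirectLimit.Ring.of Ra t a 0 := fun p ↦ by
      refine (DFunLike.congr_fun hχ p.1).trans ?_
      have hp : (p.1 : MvPolynomial (Fin n) A) ∈ RingHom.ker π.toRingHom := hS ▸ Ideal.subset_span p.2
      rw [AlgHom.comp_apply, AlgHom.comp_apply, show π p.1 = 0 from hp, map_zero, map_zero, map_zero]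
    choose b hab hb using fun p ↦ Groth.Agent.Hensel.of_eq_of t (h0 p)
    obtain ⟨c', hc'⟩ := Finite.exists_le b
    obtain ⟨c, hc, hac⟩ := exists_ge_ge c' a
    let η : MvPolynomial (Fin n) A →ₐ[A] Ra c := (tA a c hac).comp (MvPolynomial.aeval y)
    have hη : RingHom.ker π.toRingHom ≤ RingHom.ker η.toRingHom := by
      rw [← hS]
      refine Ideal.span_le.mpr fun p hp ↦ ?_
      change t a c hac (MvPolynomial.aeval y p) = 0
      have := congrArg (t (b ⟨p, hp⟩) c ((hc' _).trans hc)) (hb ⟨p, hp⟩)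
      rwa [DirectedSystem.map_map (f := fun i j h ↦ t i j h), DirectedSystem.map_map (f := fun i j h ↦ t i j h),
        map_zero] at this
    let η' : R₀ →+* Ra c := RingHom.liftOfSurjective π.toRingHom hπ ⟨η.toRingHom, hη⟩
    have hη' : ∀ p, η' (π p) = η p := fun p ↦ RingHom.liftOfRightInverse_comp_apply _ _ _ _ p
    let η'' : R₀ →ₐ[A] Ra c :=
      { toRingHom := η', commutes' := fun x ↦ by
          change η' (algebraMap A R₀ x) = _
          rw [← π.commutes, hη', AlgHom.commutes] }
    obtain ⟨φ, hφ, -⟩ := Groth.Agent.Hensel.existsUnique_algHom_extend hB η''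
    refine ⟨c, φ, fun x ↦ DFunLike.congr_fun (Groth.Agent.Hensel.algHom_ext_pair hB ((ι c).comp φ) χ fun r ↦ ?_) x⟩
    obtain ⟨p, rfl⟩ := hπ r
    change DirectLimit.Ring.of Ra t c (φ (ρ (π p))) = χ (ρ (π p))
    rw [show φ (ρ (π p)) = η' (π p) from DFunLike.congr_fun hφ _, hη']
    exact (Groth.Agent.Hensel.of_map t hac _).trans (DFunLike.congr_fun hχ p)
  · choose b hab hb using fun k : Fin n ↦ Groth.Agent.Hensel.of_eq_of t (h (ρ (π (MvPolynomial.X k))))
    obtain ⟨c', hc'⟩ := Finite.exists_le b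
    obtain ⟨c, hc, hac⟩ := exists_ge_ge c' a
    have hp : ((tA a c hac).comp φ).comp (ρ.comp π) = ((tA a c hac).comp ψ).comp (ρ.comp π) :=
      MvPolynomial.algHom_ext fun k ↦ by
        have := congrArg (t (b k) c ((hc' _).trans hc)) (hb k)
        rwa [DirectedSystem.map_map (f := fun i j h ↦ t i j h),
          DirectedSystem.map_map (f := fun i j h ↦ t i j h)] at this
    refine ⟨c, hac, fun x ↦ DFunLike.congr_fun
      (Groth.Agent.Hensel.algHom_ext_pair hB ((tA a c hac).comp φ) ((tA a c hac).comp ψ) fun r ↦ ?_) x⟩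
    obtain ⟨p, rfl⟩ := hπ r
    exact DFunLike.congr_fun hp p

end Groth.Agent.S17613
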