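import Groth.Statements.S17617
import Groth.Agent.Hensel.Hfp

set_option autoImplicit false
universe u
open Hensel

namespace Groth.Agent.S17617

/-- Let (A, I) be a Henselian pair and let M' → M → M'' be A-linear maps with zero composite. Then M' →
M → M'' is exact if and only if for every prime ideal p of A containing I and every Henselization H
of the pair (A_p, IA_p), the sequence H ⊗_A M' → H ⊗_A M → H ⊗_A M'' is exact. (The modules H ⊗_A M
are the stalks at p of the sheaf associated to M on the affine Henselian scheme of (A, I), and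
exactness of a sequence of such sheaves is exactness at every stalk, so this is the statement that
the sequence of modules is exact exactly when the associated sequence of sheaves is.) -/
theorem result (A : Type u) [CommRing A]
    (I : Ideal A) [HenselianRing A I]
    (M' M M'' : Type u) [AddCommGroup M'] [Module A M'] [AddCommGroup M] [Module A M]
    [AddCommGroup M''] [Module A M''] (f : M' →ₗ[A] M) (g : M →ₗ[A] M'') (hfg : g.comp f = 0) :
    Function.Exact f g ↔
    ∀ (p : Ideal A) [p.IsPrime], I ≤ p →
      ∀ (H : Type u) [CommRing H] [Algebra (Localization.AtPrime p) H] [Algebra A H]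
        [IsScalarTower A (Localization.AtPrime p) H],
        Hens2.IsPairHenselization (Localization.AtPrime p)
          (I.map (algebraMap A (Localization.AtPrime p))) H →
        Function.Exact (f.baseChange H) (g.baseChange H) := by
  constructor
  · intro h p _ hIp H _ _ _ _ hH
    have := Groth.Agent.Hensel.pairHenselization_flat hH
    have : Module.Flat A (Localization.AtPrime p) := IsLocalization.flat _ p.primeCompl
    have : Module.Flat A H := Module.Flat.trans A (Localization.AtPrime p) H
    exact Module.Flat.lTensor_exact H h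
  intro hloc
  refine fun x ↦ ⟨fun hx ↦ ?_, fun ⟨y, hy⟩ ↦ hy ▸ DFunLike.congr_fun hfg y⟩
  let N := M ⧸ LinearMap.range f
  let x' : N := Submodule.Quotient.mk x
  let 𝔞 : Ideal A := LinearMap.ker (LinearMap.toSpanSingleton A N x')
  suffices h1 : 𝔞 = ⊤ by
    have : (1 : A) • x' = 0 := LinearMap.mem_ker.mp (h1 ▸ Submodule.mem_top : (1 : A) ∈ 𝔞)
    rw [one_smul] at this
    exact (Submodule.Quotient.mk_eq_zero _).mp this
  by_contra hne
  obtain ⟨m, hm, ham⟩ := Ideal.exists_le_maximal 𝔞 hne
  have hIm : I ≤ m := (HenselianRing.jac : I ≤ Ideal.jacobson ⊥).trans (sInf_le ⟨bot_le, hm⟩)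
  let Ap := Localization.AtPrime m
  let J := I.map (algebraMap A Ap)
  let H := Groth.Agent.Hensel.Hens Ap (Ap ⧸ J)
  let : Algebra A H := ((algebraMap Ap H).comp (algebraMap A Ap)).toAlgebra
  have : IsScalarTower A Ap H := .of_algebraMap_eq fun _ ↦ rfl
  have hH : Hens2.IsPairHenselization Ap J H := Groth.Agent.Hensel.isPairHenselization_hens Ap J
  have := Groth.Agent.Hensel.pairHenselization_flat hH
  have : Module.Flat A Ap := IsLocalization.flat _ m.primeCompl
  have : Module.Flat A H := Module.Flat.trans A Ap H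
  have hex := hloc m hIm H hH
  obtain ⟨y, hy⟩ := (hex ((1 : H) ⊗ₜ x)).mp (by simp [hx])
  have h0 : (Submodule.mkQ (LinearMap.range f)).lTensor H ((1 : H) ⊗ₜ x) = 0 := by
    rw [← hy]
    change (Submodule.mkQ (LinearMap.range f)).lTensor H (f.lTensor H y) = 0
    rw [← LinearMap.lTensor_comp_apply, LinearMap.range_mkQ_comp, LinearMap.lTensor_zero, LinearMap.zero_apply]
  let φ : (A ⧸ 𝔞) →ₗ[A] N := Submodule.liftQ 𝔞 (LinearMap.toSpanSingleton A N x') le_rfl
  have hφ : Function.Injective φ :=
    LinearMap.ker_eq_bot.mp (Submodule.ker_liftQ_eq_bot _ _ _ le_rfl)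
  have h1 : (1 : H) ⊗ₜ[A] (Ideal.Quotient.mk 𝔞 1) = 0 := by
    refine Module.Flat.lTensor_preserves_injective_linearMap (M := H) φ hφ ?_
    rw [map_zero, LinearMap.lTensor_tmul, show φ (Ideal.Quotient.mk 𝔞 1) = x' from one_smul A x']
    exact h0
  have h2 := congrArg (TensorProduct.tensorQuotEquivQuotSMul H 𝔞) h1
  rw [map_zero, TensorProduct.tensorQuotEquivQuotSMul_tmul_mk, one_smul, Submodule.Quotient.mk_eq_zero,
    Ideal.smul_top_eq_map] at h2
  obtain ⟨g₁, hg₁, -⟩ := hH.2 (Ap ⧸ IsLocalRing.maximalIdeal Ap) ⊥ (Ideal.Quotient.mk _)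
    (Groth.Agent.Hensel.henselianRing_of_locally_nilpotent fun z hz ↦ by simp [Ideal.mem_bot.mp hz])
    (by
      rw [le_bot_iff, Ideal.map_eq_bot_iff_le_ker, Ideal.mk_ker, ← Localization.AtPrime.map_eq_maximalIdeal]
      exact Ideal.map_mono hIm)
  have hle : 𝔞.map (algebraMap A H) ≤ RingHom.ker g₁ := by
    refine Ideal.map_le_iff_le_comap.mpr fun a ha ↦ ?_
    rw [Ideal.mem_comap, RingHom.mem_ker, IsScalarTower.algebraMap_apply A Ap H, ← RingHom.comp_apply, hg₁,
      Ideal.Quotient.eq_zero_iff_mem, ← Localization.AtPrime.map_eq_maximalIdeal]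
    exact Ideal.mem_map_of_mem _ (ham ha)
  have h3 : g₁ 1 = 0 := hle h2
  rw [map_one] at h3
  exact one_ne_zero h3

end Groth.Agent.S17617
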