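import Groth.Statements.S1762
import Groth.Agent.DualCx.DimFun

set_option autoImplicit false
set_option linter.style.haveILetI false
universe u
open CategoryTheory
attribute [local instance] HasDerivedCategory.standard
open Dual

namespace Groth.Agent.S1762

/-- Let A be a Noetherian ring with a dualizing complex ω and p a minimal prime of A. Then there is
exactly one integer i for which H^i(ω) localized at p is nonzero. -/
theorem result (A : Type u) [CommRing A] [IsNoetherianRing A] (ω : Dual.D A) (hω : Dual.IsDualizing A ω) (p : Ideal A) (hp : p ∈ minimalPrimes A) : ∃! i : ℤ, Nontrivial (LocalizedModule (Ideal.primeCompl p (hp := hp.1.1)) (Dual.HD A ω i)) := by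
  haveI := hp.1.1
  let P : PrimeSpectrum A := ⟨p, hp.1.1⟩
  have hA : ∀ r ∈ Module.support A A, r.asIdeal ≤ P.asIdeal → r = P := fun r _ hr =>
    PrimeSpectrum.ext (le_antisymm hr (hp.2 ⟨r.isPrime, bot_le⟩ hr))
  have hPA : P ∈ Module.support A A := by
    rw [Module.mem_support_iff_of_finite, Module.annihilator_eq_bot.mpr inferInstance]; exact bot_le
  have hev : ∀ i : ℤ, Nontrivial (LocalizedModule p.primeCompl (Dual.HD A ω i)) ↔
      P ∈ Module.support A (DualCx.T ω i (ModuleCat.of A A)) := fun i => by
    rw [(DualCx.evSelf (ω := ω) i).support_eq, Module.mem_support_iff]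
  refine ⟨DualCx.tdeg hω P, (hev _).mpr (DualCx.mem_support_T_tdeg hω P A hA hPA), fun i hi => ?_⟩
  by_contra hne
  exact DualCx.van_iff.mp (DualCx.van_T_of_finiteLengthAt hω P hne A hA) ((hev i).mp hi)

end Groth.Agent.S1762
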