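import Groth.Statements.S17620
import Groth.Agent.Hensel.Henselization
import Groth.Agent.Hensel.PairHens

set_option autoImplicit false
universe u
open Hensel

namespace Groth.Agent.S17620

/-- Let R be a local ring and J an ideal of R contained in the maximal ideal, let H be a Henselization
of the pair (R, J) which is a local ring with local structure map R → H, and let S be a strict
Henselization of the local ring H. Then S, with its composite R-algebra structure, is a strict
Henselization of the local ring R. (This is the identification of the strict Henselization of the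
local ring of a scheme at a point with that of the local ring of its Henselization along a closed
subscheme through the point.) -/
theorem result
    (R : Type u) [CommRing R] [IsLocalRing R] (J : Ideal R) (hJ : J ≤ IsLocalRing.maximalIdeal R)
    (H : Type u) [CommRing H] [IsLocalRing H] [Algebra R H] [IsLocalHom (algebraMap R H)]
    (hH : Hens2.IsPairHenselization R J H)
    (S : Type u) [CommRing S] [IsLocalRing S] [Algebra H S] [IsLocalHom (algebraMap H S)]
    [Hensel.IsStrictHenselization H S]
    [Algebra R S] [IsScalarTower R H S] [IsLocalHom (algebraMap R S)] :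
    Hensel.IsStrictHenselization R S := by
  have hS : Hensel.IsStrictHenselization H S := inferInstance
  have hbij : Function.Bijective (IsLocalRing.ResidueField.map (algebraMap R H)) := by
    refine ⟨RingHom.injective _, fun x ↦ ?_⟩
    obtain ⟨x, rfl⟩ := IsLocalRing.residue_surjective x
    obtain ⟨r, hr⟩ := Groth.Agent.Hensel.pairHenselization_exists_sub_mem hH x
    refine ⟨IsLocalRing.residue R r, ?_⟩
    replace hr := ((Ideal.map_mono hJ).trans (IsLocalRing.map_maximalIdeal_le _)) hr
    rw [← IsLocalRing.residue_eq_zero_iff, map_sub, sub_eq_zero] at hr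
    exact hr.symm
  refine ⟨hS.henselian, ⟨hS.isSepClosure.sep_closed, ?_⟩, fun T _ _ f _ τ hτ ↦ ?_⟩
  · have := hS.isSepClosure.separable
    refine Algebra.IsSeparable.of_equiv_equiv (RingEquiv.ofBijective _ hbij).symm (RingEquiv.refl _) ?_
    refine RingHom.ext fun x ↦ ?_
    obtain ⟨y, rfl⟩ := hbij.2 x
    simp only [RingHom.comp_apply, RingEquiv.toRingHom_eq_coe, RingEquiv.coe_toRingHom,
      RingEquiv.refl_apply]
    rw [show (RingEquiv.ofBijective _ hbij).symm (IsLocalRing.ResidueField.map (algebraMap R H) y) = y
      from (RingEquiv.ofBijective _ hbij).symm_apply_apply y]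
    obtain ⟨r, rfl⟩ := IsLocalRing.residue_surjective y
    exact congrArg (IsLocalRing.residue S) (IsScalarTower.algebraMap_apply R H S r)
  · have hT : HenselianRing T (IsLocalRing.maximalIdeal T) :=
      Groth.Agent.Hensel.henselianLocalRing_iff_henselianRing.mp inferInstance
    have hfJ : J.map f ≤ IsLocalRing.maximalIdeal T :=
      (Ideal.map_mono hJ).trans (IsLocalRing.map_maximalIdeal_le f)
    obtain ⟨g₀, hg₀, hu₀⟩ := hH.2 T _ f hT hfJ
    have hmem : ∀ x ∈ IsLocalRing.maximalIdeal H, g₀ x ∈ IsLocalRing.maximalIdeal T := fun x hx ↦ by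
      obtain ⟨r, hr⟩ := Groth.Agent.Hensel.pairHenselization_exists_sub_mem hH x
      have h1 : g₀ (x - algebraMap R H r) ∈ IsLocalRing.maximalIdeal T := by
        have := Ideal.mem_map_of_mem g₀ hr
        rw [Ideal.map_map, hg₀] at this
        exact hfJ this
      have h2 : r ∈ IsLocalRing.maximalIdeal R := by
        have := sub_mem hx ((Ideal.map_mono hJ).trans (IsLocalRing.map_maximalIdeal_le _) hr)
        rw [sub_sub_cancel] at this
        rwa [IsLocalRing.mem_maximalIdeal, map_mem_nonunits_iff, ← IsLocalRing.mem_maximalIdeal] at this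
      have h3 : g₀ (algebraMap R H r) ∈ IsLocalRing.maximalIdeal T := by
        rw [show g₀ (algebraMap R H r) = f r from DFunLike.congr_fun hg₀ r]
        exact IsLocalRing.map_maximalIdeal_le f (Ideal.mem_map_of_mem f h2)
      simpa using add_mem h1 h3
    have : IsLocalHom g₀ :=
      ((IsLocalRing.local_hom_TFAE g₀).out 2 0 rfl rfl).mp (Ideal.map_le_iff_le_comap.mpr hmem)
    have hτ' : τ.comp (IsLocalRing.ResidueField.map (algebraMap H S)) =
        IsLocalRing.ResidueField.map g₀ := by
      refine RingHom.ext fun x ↦ ?_
      obtain ⟨y, rfl⟩ := hbij.2 x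
      obtain ⟨r, rfl⟩ := IsLocalRing.residue_surjective y
      have := DFunLike.congr_fun hτ (IsLocalRing.residue R r)
      simp only [RingHom.comp_apply] at this ⊢
      change τ (IsLocalRing.residue S (algebraMap H S (algebraMap R H r))) =
        IsLocalRing.residue T (g₀ (algebraMap R H r))
      rw [← IsScalarTower.algebraMap_apply, show g₀ (algebraMap R H r) = f r from
        DFunLike.congr_fun hg₀ r]
      exact this
    obtain ⟨g, ⟨hg, hgr⟩, hu⟩ := hS.universal T g₀ τ hτ'
    refine ⟨g, ⟨?_, hgr⟩, fun g' ⟨h1, h2⟩ ↦ hu g' ⟨hu₀ _ ?_, h2⟩⟩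
    · rw [IsScalarTower.algebraMap_eq R H S, ← RingHom.comp_assoc, hg, hg₀]
    · dsimp only
      rw [RingHom.comp_assoc, ← IsScalarTower.algebraMap_eq, h1]

end Groth.Agent.S17620
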