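import Groth.Statements.S17641
import Groth.Agent.NoethMod.Hull

set_option autoImplicit false
universe u
open CategoryTheory CategoryTheory.Limits AlgebraicGeometry
attribute [local instance] HasDerivedCategory.standard
open DCoh

namespace Groth.Agent.S17641

/-- Let X be a Noetherian scheme, j : U ⟶ X an open immersion with closed complement Z = X ∖ j(U), and I
a quasi-coherent O_X-module which is injective as an O_X-module. Then Γ_Z(I), the kernel of I ⟶
j_*(I|_U) (the subsheaf of sections supported in Z), is an injective O_X-module. (Injectivity is
taken in the category of all O_X-modules; on a Noetherian scheme a quasi-coherent module is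
injective there exactly when it is injective among quasi-coherent modules. The published statement
works with the functor of sections killed by some power of a defining ideal, which agrees with Γ_Z
on quasi-coherent modules over a Noetherian scheme.) -/
theorem result {U X : Scheme.{u}} [IsNoetherian X]
    (j : U ⟶ X) [IsOpenImmersion j] (I : X.Modules) (hI : Coh.IsQCoh I) [Injective I] :
    Injective ((DCoh.gammaZ j).obj I) := by
  let R := Scheme.Modules.restrictFunctor j
  let η := (Scheme.Modules.restrictAdjunction j).unit.app I
  let ι : kernel η ⟶ I := kernel.ι η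
  obtain ⟨E, k, hE, hk, hess⟩ := GabLocLib.exists_hull.{u} (kernel η)
  let e : E ⟶ I := @Injective.factorThru _ _ _ _ _ _ ι k hk
  have hke : k ≫ e = ι := @Injective.comp_factorThru _ _ _ _ _ _ ι k hk
  haveI : Mono e := hess e (by rw [hke]; infer_instance)
  haveI : IsIso (R.map η) := IsIso.of_isIso_fac_right
    ((Scheme.Modules.restrictAdjunction j).left_triangle_components I)
  have hK : IsZero (R.obj (kernel η)) :=
    (isZero_kernel_of_mono (R.map η)).of_iso (PreservesKernel.iso R η)
  haveI : Mono (R.map k ≫ (0 : R.obj E ⟶ R.obj E)) := ⟨fun _ _ _ => hK.eq_of_tgt _ _⟩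
  haveI : Mono (0 : R.obj E ⟶ R.obj E) := @NoethMod.essential_restrict _ _ j _ _ _ k hk hess _ _ this
  have hE0 : IsZero (R.obj E) := (IsZero.iff_id_eq_zero _).2 (by rw [← cancel_mono (0 : R.obj E ⟶ R.obj E)]; simp)
  have he0 : e ≫ η = 0 := by
    rw [show η = (Scheme.Modules.restrictAdjunction j).unit.app I from rfl]
    erw [(Scheme.Modules.restrictAdjunction j).unit.naturality e]
    have h0 : (R ⋙ Scheme.Modules.pushforward j).map e = 0 := by
      change (Scheme.Modules.pushforward j).map (R.map e) = 0
      rw [hE0.eq_of_src (R.map e) 0, Functor.map_zero]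
    rw [h0, comp_zero]
  let t : E ⟶ kernel η := kernel.lift η e he0
  have ht : t ≫ ι = e := kernel.lift_ι _ _ _
  have hkt : k ≫ t = 𝟙 _ := by rw [← cancel_mono ι, Category.assoc, ht, hke, Category.id_comp]
  haveI : Mono t := mono_of_mono_fac ht
  exact Injective.of_iso (⟨t, k, by rw [← cancel_mono t, Category.assoc, hkt, Category.comp_id, Category.id_comp], hkt⟩ : E ≅ kernel η) hE

end Groth.Agent.S17641
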