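import Groth.Statements.S17642
import Groth.Agent.ProjCoord.Smooth
import Groth.Agent.ProjBC.Basic

set_option autoImplicit false
universe u
open CategoryTheory AlgebraicGeometry
open DerSch

namespace Groth.Agent.S17642

/-- Consider Noetherian schemes X and Y together with a morphism f : X ⟶ Y that is locally of finite
type. Given affine open subsets U ⊆ X and V ⊆ Y such that f(U) ⊆ V, the restriction of f to U can be
written as a composite U ⟶ W ⟶ P ⟶ Y in which the first map U ⟶ W is an open immersion, the middle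
map W ⟶ P is a closed immersion, and the last map P ⟶ Y is both smooth and proper. In the published
section every morphism is taken to be separated as a standing convention; since the printed proof
never uses this, no separatedness hypothesis appears here. -/
theorem result {X Y : Scheme.{u}}
    [IsNoetherian X] [IsNoetherian Y] (f : X ⟶ Y) [LocallyOfFiniteType f]
    (U : X.Opens) (hU : IsAffineOpen U) (V : Y.Opens) (hV : IsAffineOpen V) (hUV : U ≤ f ⁻¹ᵁ V) :
    ∃ (W P : Scheme.{u}) (g : (U : Scheme.{u}) ⟶ W) (h : W ⟶ P) (k : P ⟶ Y),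
      IsOpenImmersion g ∧ IsClosedImmersion h ∧ Smooth k ∧ IsProper k ∧ g ≫ h ≫ k = U.ι ≫ f := by
  open Groth.Agent CohB1 CategoryTheory.Limits in
  let A := Γ(Y, V)
  let B := Γ(X, U)
  let φ := f.appLE V U hUV
  letI := φ.hom.toAlgebra
  haveI : Algebra.FiniteType A B := f.finiteType_appLE hV hU hUV
  obtain ⟨n, s, hs⟩ := Algebra.FiniteType.iff_quotient_mvPolynomial''.1 ‹Algebra.FiniteType A B›
  let Bc := CommRingCat.of (MvPolynomial (Fin n) A)
  let sc : Bc ⟶ B := CommRingCat.ofHom s.toRingHom
  haveI : IsClosedImmersion (Spec.map sc) := IsClosedImmersion.spec_of_surjective _ hs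
  let E := (ProjCoord.chartEquiv (R := A) (n := n) 0).toCommRingCatIso
  let c : Spec Bc ⟶ ProjSpace n A :=
    Spec.map E.inv ≫ Proj.awayι (polyGrading n A) (MvPolynomial.X 0) (ProjCoord.X_mem 0) one_pos
  have hc : c ≫ ProjSpace.toSpec n A = Spec.map (CommRingCat.ofHom (algebraMap A (MvPolynomial (Fin n) A))) := by
    show (Spec.map E.inv ≫ Proj.awayι _ _ _ _) ≫ Proj.toSpecZero _ ≫ Spec.map _ = _
    rw [Category.assoc, Proj.awayι_toSpecZero_assoc, ← Spec.map_comp, ← Spec.map_comp]
    congr 1
    ext1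
    refine RingHom.ext fun r => ?_
    change (ProjCoord.chartEquiv (R := A) (n := n) 0).symm (ProjCoord.const 0 r) = MvPolynomial.C r
    rw [RingEquiv.symm_apply_eq]
    simp [ProjCoord.chartEquiv]
  haveI : IsOpenImmersion c := @IsOpenImmersion.comp _ _ _ (Spec.map E.inv) _ inferInstance
    (inferInstance : IsOpenImmersion (Proj.awayι (polyGrading n A) (MvPolynomial.X 0) (ProjCoord.X_mem 0) one_pos))
  obtain ⟨m, hm, hmq⟩ := ProjBC.exists_iso n A
  let b : ProjSpaceOver n (Spec A) ⟶ ProjSpaceOver n Y :=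
    pullback.map _ _ _ _ (𝟙 _) hV.fromSpec (𝟙 _) (by simp) (specULiftZIsTerminal.hom_ext _ _)
  haveI : IsOpenImmersion b := MorphismProperty.pullbackMap (P := @IsOpenImmersion)
    (inferInstance : IsOpenImmersion (𝟙 (ProjSpace n (ULift.{u} ℤ))))
    (inferInstance : IsOpenImmersion hV.fromSpec) (by simp) (specULiftZIsTerminal.hom_ext _ _)
  have hb : b ≫ ProjSpaceOver.toBase n Y = pullback.snd _ _ ≫ hV.fromSpec := pullback.lift_snd _ _ _
  let i : (U : Scheme.{u}) ⟶ ProjSpaceOver n Y := hU.isoSpec.hom ≫ Spec.map sc ≫ c ≫ m ≫ b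
  have hi : i ≫ ProjSpaceOver.toBase n Y = U.ι ≫ f := by
    simp only [i, Category.assoc, hb]
    erw [reassoc_of% hmq, reassoc_of% hc]
    rw [← Category.assoc (Spec.map sc), ← Spec.map_comp,
      show CommRingCat.ofHom (algebraMap A (MvPolynomial (Fin n) A)) ≫ sc = φ from
        CommRingCat.hom_ext s.comp_algebraMap, IsAffineOpen.SpecMap_appLE_fromSpec f hV hU hUV,
      ← Category.assoc, hU.isoSpec_hom, hU.toSpecΓ_fromSpec]
  haveI : TopologicalSpace.NoetherianSpace ↥(U : Scheme.{u}) :=
    U.ι.isOpenEmbedding.isInducing.noetherianSpace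
  haveI : QuasiCompact (i ≫ ProjSpaceOver.toBase n Y) := by
    refine ⟨fun O _ _ => ?_⟩
    exact TopologicalSpace.NoetherianSpace.isCompact _
  haveI : IsProper (ProjSpace.toSpec n (ULift.{u} ℤ)) := ProjCoord.isProper_baseMap
  haveI : Smooth (ProjSpace.toSpec n (ULift.{u} ℤ)) := ProjCoord.smooth_baseMap
  haveI : IsProper (ProjSpaceOver.toBase n Y) := MorphismProperty.pullback_snd _ _ ‹IsProper _›
  haveI : Smooth (ProjSpaceOver.toBase n Y) := MorphismProperty.pullback_snd _ _ ‹Smooth _›
  haveI : QuasiCompact i := QuasiCompact.of_comp i (ProjSpaceOver.toBase n Y)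
  haveI : IsImmersion i := inferInstance
  refine ⟨i.image, ProjSpaceOver n Y, i.toImage, i.imageι, ProjSpaceOver.toBase n Y, inferInstance,
    inferInstance, inferInstance, inferInstance, ?_⟩
  rw [← Category.assoc, Scheme.Hom.toImage_imageι, hi]

end Groth.Agent.S17642
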