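import Groth.Statements.S17661
import Mathlib
import Groth.Agent.ThickAffine.SquareZero
import Groth.Agent.ThickAffine.General
import Groth.Agent.ThickAffine.Affine


set_option autoImplicit false
universe u
open CategoryTheory CategoryTheory.Limits AlgebraicGeometry
open Ribbon

namespace Groth.Agent.S17661

/-- Let k be a field, C a scheme locally of finite type over k and I ⊂ O_C a quasi-coherent ideal with
I² = 0, with closed subscheme D ⊂ C; suppose D is affine, connected and smooth over k and that I,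
regarded as an O_D-module, is invertible (so C is a ribbon on the smooth affine scheme D, and D is
the reduced scheme underlying C). Then the ribbon is split: the inclusion D → C admits a retraction
C → D over k. -/
theorem result (k : Type u) [Field k] (C : Scheme.{u}) [C.Over (Spec (CommRingCat.of k))]
    [LocallyOfFiniteType (C ↘ (Spec (CommRingCat.of k)))]
    (I : C.IdealSheafData) (hI : I ^ 2 = ⊥) [IsAffine I.subscheme] [ConnectedSpace I.subscheme]
    [Smooth (I.subschemeι ≫ (C ↘ (Spec (CommRingCat.of k))))]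
    (hconormal : PicF.IsInvertible ((Scheme.Modules.pullback I.subschemeι).obj (ClSub.idealMod I))) :
    ∃ r : C ⟶ I.subscheme, I.subschemeι ≫ r = 𝟙 I.subscheme ∧
      r ≫ I.subschemeι ≫ (C ↘ (Spec (CommRingCat.of k))) = C ↘ (Spec (CommRingCat.of k)) := by
  classical
  set sC := C ↘ (Spec (CommRingCat.of k))
  set i := I.subschemeι
  have hsurj : Surjective i := by
    refine ⟨fun x => ?_⟩
    have hx : x ∈ Set.range i := by
      rw [Scheme.IdealSheafData.range_subschemeι, ← Scheme.IdealSheafData.support_pow I 2 (by simp), hI, Scheme.IdealSheafData.support_bot]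
      trivial
    exact hx
  have hsq : Groth.Agent.ThickAffine.SqZero i := by
    intro U hU a b ha hb
    have ha' : a ∈ I.ideal ⟨U, hU⟩ := by
      have h := Scheme.IdealSheafData.ker_subschemeι_app I ⟨U, hU⟩
      rw [← h]; exact ha
    have hb' : b ∈ I.ideal ⟨U, hU⟩ := by
      have h := Scheme.IdealSheafData.ker_subschemeι_app I ⟨U, hU⟩
      rw [← h]; exact hb
    have h2 : a * b ∈ (I ^ 2).ideal ⟨U, hU⟩ := by
      rw [Scheme.IdealSheafData.ideal_pow, Pi.pow_apply, pow_two]
      exact Ideal.mul_mem_mul ha' hb'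
    rw [hI, Scheme.IdealSheafData.ideal_bot] at h2
    exact h2
  have : IsAffine C := Groth.Agent.ThickAffine.isAffine_of_sqZero i hsq
  let π := i.appTop.hom
  have hπ : Function.Surjective π := Groth.Agent.ThickAffine.appTop_surjective i hsq
  letI : Algebra Γ(Spec (CommRingCat.of k), ⊤) Γ(C, ⊤) := sC.appTop.hom.toAlgebra
  letI : Algebra Γ(Spec (CommRingCat.of k), ⊤) Γ(I.subscheme, ⊤) := (i ≫ sC).appTop.hom.toAlgebra
  have hsm : RingHom.Smooth (i ≫ sC).appTop.hom := (HasRingHomProperty.iff_of_isAffine (P := @Smooth)).1 inferInstance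
  haveI : Algebra.Smooth Γ(Spec (CommRingCat.of k), ⊤) Γ(I.subscheme, ⊤) := hsm
  have hcomm : ∀ c : Γ(Spec (CommRingCat.of k), ⊤), π (algebraMap _ Γ(C, ⊤) c) = algebraMap _ Γ(I.subscheme, ⊤) c := by
    intro c
    show i.appTop.hom (sC.appTop.hom c) = (i ≫ sC).appTop.hom c
    rw [Scheme.Hom.comp_appTop]
    rfl
  let πA : Γ(C, ⊤) →ₐ[Γ(Spec (CommRingCat.of k), ⊤)] Γ(I.subscheme, ⊤) := { π with commutes' := hcomm }
  have hnil : IsNilpotent (RingHom.ker πA) := by
    refine ⟨2, ?_⟩
    rw [pow_two, Submodule.zero_eq_bot, eq_bot_iff, Ideal.mul_le]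
    intro a ha b hb
    exact (hsq ⊤ (isAffineOpen_top C) a b ha hb : a * b = 0)
  let σ := Algebra.FormallySmooth.lift (RingHom.ker πA) hnil
    (Ideal.quotientKerAlgEquivOfSurjective (f := πA) hπ).symm.toAlgHom
  have hσ : ∀ y, πA (σ y) = y := fun y => by
    have h := congrArg (Ideal.quotientKerAlgEquivOfSurjective (f := πA) hπ) (Algebra.FormallySmooth.mk_lift (RingHom.ker πA) hnil
      (Ideal.quotientKerAlgEquivOfSurjective (f := πA) hπ).symm.toAlgHom y)
    exact (h.trans ((Ideal.quotientKerAlgEquivOfSurjective (f := πA) hπ).apply_symm_apply y) :)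
  let σc : Γ(I.subscheme, ⊤) ⟶ Γ(C, ⊤) := CommRingCat.ofHom σ.toRingHom
  have h1 : σc ≫ i.appTop = 𝟙 _ := CommRingCat.hom_ext (RingHom.ext hσ)
  have h2 : (i ≫ sC).appTop ≫ σc = sC.appTop := CommRingCat.hom_ext (RingHom.ext fun c => σ.commutes c)
  refine ⟨C.toSpecΓ ≫ Spec.map σc ≫ I.subscheme.isoSpec.inv, ?_, ?_⟩
  · rw [← Category.assoc, Scheme.toSpecΓ_naturality, Category.assoc, ← Spec.map_comp_assoc, h1, Spec.map_id, Category.id_comp,
      ← Scheme.isoSpec_hom, Iso.hom_inv_id]
  · show (C.toSpecΓ ≫ Spec.map σc ≫ I.subscheme.isoSpec.inv) ≫ (i ≫ sC) = sC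
    rw [Category.assoc, Category.assoc, ← Scheme.isoSpec_inv_naturality, ← Spec.map_comp_assoc, h2, ← Category.assoc, ← Scheme.toSpecΓ_naturality,
      Category.assoc, ← Scheme.isoSpec_hom, Iso.hom_inv_id, Category.comp_id]

end Groth.Agent.S17661
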