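import Groth.Statements.S17662
import Mathlib.LinearAlgebra.Matrix.Determinant.Basic
import Mathlib.LinearAlgebra.Matrix.NonsingularInverse
-- import your own Groth.Agent.* helpers here

set_option autoImplicit false
universe u
open CIDisc

namespace Groth.Agent.S17662

/-- Let R be a commutative ring, M an r × n matrix over R and e ≥ 0; for each e-element set L of row
indices let A_L be an e × r matrix over R, and form the square matrix, indexed by the e-element sets
of row indices, whose (L, L') entry is the e × e minor of A_L on the columns L'. If the determinant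
of that square matrix is a unit, then the sum over L of the ideals generated by the e × e minors of
the products A_L · M is the ideal generated by all e × e minors of M. (In the source R is the
coordinate ring of an affine scheme X of codimension e cut out by f_1, …, f_r in affine n-space, M
is the image of the Jacobian matrix of the f_j, the A_L have entries in the ground field and cut out
complete intersections Z_L = V(A_L · f), so that the two sides are Σ_L Jac(Z_L) and Jac(X); the
source states the equality for general A_L and establishes it under the present invertibility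
condition, which it shows to be generic.) -/
theorem result {R : Type u} [CommRing R] (e r n : ℕ)
    (M : Matrix (Fin r) (Fin n) R)
    (A : {s : Finset (Fin r) // s.card = e} → Matrix (Fin e) (Fin r) R)
    (hA : IsUnit (Matrix.det (Matrix.of fun i j : {s : Finset (Fin r) // s.card = e} =>
      ((A i).submatrix id (j.1.orderEmbOfFin j.2)).det))) :
    (⨆ i, Ideal.span (Set.range fun t : {s : Finset (Fin n) // s.card = e} =>
        ((A i * M).submatrix id (t.1.orderEmbOfFin t.2)).det)) =
      Ideal.span (Set.range fun p : {s : Finset (Fin r) // s.card = e} × {s : Finset (Fin n) // s.card = e} =>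
        (M.submatrix (p.1.1.orderEmbOfFin p.1.2) (p.2.1.orderEmbOfFin p.2.2)).det) := by
  classical
  have cb : ∀ (P : Matrix (Fin e) (Fin r) R) (Q : Matrix (Fin r) (Fin e) R),
      (P * Q).det = ∑ p : {s : Finset (Fin r) // s.card = e},
        (P.submatrix id (p.1.orderEmbOfFin p.2)).det * (Q.submatrix (p.1.orderEmbOfFin p.2) id).det := by
    intro P Q
    have h1 : (P * Q).det = ∑ f : Fin e → Fin r, (∏ i, P i (f i)) * (Q.submatrix f id).det := by
      have e1 : P * Q = Matrix.of fun i => ∑ k, P i k • Q k := by
        ext i j; simp [Matrix.mul_apply]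
      rw [e1]
      show (Matrix.detRowAlternating : (Fin e → R) [⋀^Fin e]→ₗ[R] R).toMultilinearMap _ = _
      refine (MultilinearMap.map_sum _ (fun i k => P i k • Q k)).trans (Finset.sum_congr rfl fun f _ => ?_)
      exact (MultilinearMap.map_smul_univ _ (fun i => P i (f i)) (fun i => Q (f i))).trans rfl
    let E : ({s : Finset (Fin r) // s.card = e} × Equiv.Perm (Fin e)) → (Fin e → Fin r) :=
      fun q i => q.1.1.orderEmbOfFin q.1.2 (q.2 i)
    have hE : Function.Injective E := by
      rintro ⟨p, σ⟩ ⟨p', σ'⟩ h
      have hr : ∀ (p : {s : Finset (Fin r) // s.card = e}) (σ : Equiv.Perm (Fin e)),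
          Set.range (E (p, σ)) = (p.1 : Set (Fin r)) := by
        intro p σ
        rw [show E (p, σ) = (p.1.orderEmbOfFin p.2) ∘ σ from rfl, Function.Surjective.range_comp σ.surjective,
          Finset.range_orderEmbOfFin]
      have hp : p = p' := Subtype.ext (Finset.coe_injective (by rw [← hr p σ, ← hr p' σ', h]))
      subst hp
      congr 1
      exact Equiv.ext fun i => (p.1.orderEmbOfFin p.2).injective (congrFun h i)
    rw [h1, ← Fintype.sum_of_injective E hE
      (fun q => (∏ i, P i (E q i)) * (Q.submatrix (E q) id).det)
      (fun f => (∏ i, P i (f i)) * (Q.submatrix f id).det) ?_ (fun q => rfl), Fintype.sum_prod_type]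
    · refine Finset.sum_congr rfl fun p _ => ?_
      rw [← Matrix.det_transpose (P.submatrix id _), Matrix.det_apply', Finset.sum_mul]
      refine Finset.sum_congr rfl fun σ _ => ?_
      have : Q.submatrix (E (p, σ)) id = (Q.submatrix (p.1.orderEmbOfFin p.2) id).submatrix σ id := rfl
      rw [this, Matrix.det_permute]
      simp only [Matrix.transpose_apply, Matrix.submatrix_apply, id]
      show (∏ i, P i (p.1.orderEmbOfFin p.2 (σ i))) * _ = _
      ring
    · intro f hf
      have hni : ¬ Function.Injective f := fun hinj => by
        apply hf
        have hc : (Finset.univ.image f).card = e := by simp [Finset.card_image_of_injective _ hinj]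
        refine ⟨(⟨Finset.univ.image f, hc⟩, Equiv.ofBijective
          (fun i => ((Finset.univ.image f).orderIsoOfFin hc).symm ⟨f i, Finset.mem_image_of_mem f (Finset.mem_univ i)⟩)
          (Finite.injective_iff_bijective.1 fun a b hab => hinj (congrArg Subtype.val (OrderIso.injective _ hab)))), ?_⟩
        funext i
        show (Finset.univ.image f).orderEmbOfFin hc _ = f i
        rw [← Finset.coe_orderIsoOfFin_apply]
        simp
      obtain ⟨a, b, hab, hne⟩ := Function.not_injective_iff.1 hni
      rw [Matrix.det_zero_of_row_eq hne (by funext j; simp [hab]), mul_zero]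
  set D := Matrix.of fun i j : {s : Finset (Fin r) // s.card = e} =>
      ((A i).submatrix id (j.1.orderEmbOfFin j.2)).det with hD
  have key : ∀ (t : {s : Finset (Fin n) // s.card = e}) (i),
      ((A i * M).submatrix id (t.1.orderEmbOfFin t.2)).det =
        D.mulVec (fun p => (M.submatrix (p.1.orderEmbOfFin p.2) (t.1.orderEmbOfFin t.2)).det) i := by
    intro t i
    rw [Matrix.submatrix_mul (A i) M id id _ Function.bijective_id, Matrix.submatrix_id_id, cb]
    rfl
  refine le_antisymm (iSup_le fun i => Ideal.span_le.2 ?_) (Ideal.span_le.2 ?_)
  · rintro _ ⟨t, rfl⟩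
    dsimp only
    rw [key, SetLike.mem_coe]
    simp only [Matrix.mulVec, dotProduct]
    exact sum_mem fun p _ => Ideal.mul_mem_left _ _ (Ideal.subset_span (Set.mem_range_self (p, t)))
  · rintro _ ⟨⟨p, t⟩, rfl⟩
    dsimp only
    have hv : (fun p => (M.submatrix (p.1.orderEmbOfFin p.2) (t.1.orderEmbOfFin t.2)).det) =
        D⁻¹.mulVec (fun i => ((A i * M).submatrix id (t.1.orderEmbOfFin t.2)).det) := by
      rw [show (fun i => ((A i * M).submatrix id (t.1.orderEmbOfFin t.2)).det) = _ from funext (key t),
        Matrix.mulVec_mulVec, Matrix.nonsing_inv_mul D hA, Matrix.one_mulVec]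
    rw [show (M.submatrix (p.1.orderEmbOfFin p.2) (t.1.orderEmbOfFin t.2)).det = _ from congrFun hv p,
      SetLike.mem_coe]
    simp only [Matrix.mulVec, dotProduct]
    exact sum_mem fun i _ => Ideal.mul_mem_left _ _
      (Ideal.mem_iSup_of_mem i (Ideal.subset_span (Set.mem_range_self t)))

end Groth.Agent.S17662
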