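import Groth.Statements.S17677
import Mathlib
import Groth.Agent.GrpAlgComod.Basic

set_option autoImplicit false
universe u
open Hoch

namespace Groth.Agent.S17677

open scoped TensorProduct
open Groth.Agent.GrpAlgComod in
lemma cocycle_one_eq {k : Type u} [CommRing k] {A : Type u} [CommRing A] [Bialgebra k A] {ι : Type u}
    (e : Module.Basis ι k A) (o : ι) (ho : e o = 1) (hΔ : ∀ a, Coalgebra.comul (R := k) (e a) = e a ⊗ₜ[k] e a)
    {V : Type u} [AddCommGroup V] [Module k V] [HopfRep.Comod k A V] (f : V ⊗[k] A)
    (hf : Hoch.d k A V 1 f = 0) : Hoch.d k A V 0 (-(coef e o f)) = f := by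
  classical
  have hrc : (TensorProduct.rid k A).toLinearMap ∘ₗ (e.coord o).lTensor A ∘ₗ Hoch.redComul k A = -LinearMap.id := by
    refine e.ext fun b => ?_
    simp only [LinearMap.comp_apply, Hoch.redComul_apply, hΔ, map_sub, LinearMap.lTensor_tmul, LinearEquiv.coe_coe,
      TensorProduct.rid_tmul, LinearMap.neg_apply, LinearMap.id_apply]
    rw [show e.coord o (1 : A) = 1 by rw [← ho, Module.Basis.coord_apply, Module.Basis.repr_self, Finsupp.single_eq_same],
      Module.Basis.coord_apply, Module.Basis.repr_self, Finsupp.single_apply]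
    split_ifs with h
    · rw [h, ho]; simp
    · simp
  let L : (V ⊗[k] A) ⊗[k] A →ₗ[k] V ⊗[k] A := coef e o
  have key : ∀ y : V ⊗[k] A, L (Hoch.d k A V 1 y) = Hoch.d k A V 0 (coef e o y) + y := by
    intro y
    induction y using TensorProduct.induction_on with
    | zero =>
      rw [map_zero, map_zero, map_zero, map_zero]
      exact (add_zero (0 : V ⊗[k] A)).symm
    | add x y hx hy =>
      rw [map_add, map_add, hx, hy, map_add, map_add]
      exact add_add_add_comm _ _ _ _
    | tmul w x =>
      have h1 := LinearMap.congr_fun hrc x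
      simp only [LinearMap.comp_apply, LinearEquiv.coe_coe, LinearMap.neg_apply, LinearMap.id_apply] at h1
      have h2 : L ((TensorProduct.assoc k V A A).symm (w ⊗ₜ[k] Hoch.redComul k A x)) = -(w ⊗ₜ[k] x) := by
        rw [← TensorProduct.tmul_neg, ← h1]
        induction Hoch.redComul k A x using TensorProduct.induction_on with
        | zero => simp
        | add p q hp hq => simp only [map_add, TensorProduct.tmul_add, hp, hq]
        | tmul p q => simp [L, coef_tmul, TensorProduct.tmul_smul]
      have h3 : Hoch.d k A V 1 (w ⊗ₜ[k] x) =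
          (show V ⊗[k] A from Hoch.d k A V 0 w) ⊗ₜ[k] x -
            (TensorProduct.assoc k V A A).symm (w ⊗ₜ[k] Hoch.redComul k A x) := by
        show (Hoch.d k A V 0).rTensor A (w ⊗ₜ[k] x) + ((-1 : k) ^ 1) • Hoch.tail k A V (w ⊗ₜ[k] x) = _
        rw [pow_one]
        erw [neg_one_smul k (Hoch.tail k A V (w ⊗ₜ[k] x))]
        rw [← sub_eq_add_neg]
        rfl
      rw [h3, map_sub, h2, coef_tmul, sub_neg_eq_add]
      refine congrArg₂ (· + ·) ?_ rfl
      rw [coef_tmul, map_smul]
  have h := key f
  rw [hf, map_zero] at h
  rw [map_neg]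
  exact (eq_neg_of_add_eq_zero_right h.symm).symm


/-- Let k be a commutative ring, M a commutative monoid and V a right comodule over the monoid bialgebra
k[M] (a quasi-coherent module with an action of the diagonalizable monoid scheme Spec k[M]). Then
every 1-cocycle of the Hochschild complex of V is a 1-coboundary, i.e. the first Hochschild
cohomology module of the diagonalizable monoid with coefficients in V is zero. (The source works
over an algebraic space with M finitely generated and cancellative, hypotheses it uses only to
identify modules under the monoid with comodules; the cocycle computation, which is the affine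
statement given here, uses neither.) -/
theorem result (k : Type u) [CommRing k] (M : Type u)
    [AddCommMonoid M] (V : Type u) [AddCommGroup V] [Module k V]
    [HopfRep.Comod k (AddMonoidAlgebra k M) V] :
    Hoch.cocycles k (AddMonoidAlgebra k M) V 1 ≤ Hoch.coboundaries k (AddMonoidAlgebra k M) V 1 := by
  intro f hf
  have hΔ : ∀ a : M, Coalgebra.comul (R := k) (AddMonoidAlgebra.basis M k a) =
      (AddMonoidAlgebra.basis M k a) ⊗ₜ[k] (AddMonoidAlgebra.basis M k a) := fun a => by simp
  exact ⟨_, cocycle_one_eq (AddMonoidAlgebra.basis M k) 0 (by simp [AddMonoidAlgebra.one_def]) hΔ f hf⟩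

end Groth.Agent.S17677
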