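import Groth.Statements.S17678
-- import your own Groth.Agent.* helpers here

set_option autoImplicit false
universe u v
open DiagMon

namespace Groth.Agent.S17678

/-- Let R be a commutative ring and N an abelian group. Then the ring map R[N] → R[N × N] of monoid
algebras induced by the diagonal n ↦ (n, n), which is the comorphism of the multiplication morphism
of the diagonalizable group scheme Spec R[N] over Spec R, is flat. (The published statement asserts
flatness for every cancellative commutative monoid N, on the ground that N acts freely on N × N
through the diagonal; but for the submonoid N of the natural numbers generated by 2 and 3, the pairs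
(x, x − 1) with x ≥ 3 form one orbit class that is not a free orbit, and the corresponding direct
summand of k[N × N] is the ideal t³k[t] viewed as a module over k[t², t³], which is not flat. The
statement is therefore given for groups, where N × N is a free N-set with basis the pairs (0, b).) -/
theorem result (R : Type u) [CommRing R] (N : Type v)
    [AddCommGroup N] :
    (AddMonoidAlgebra.mapDomainRingHom R ((AddMonoidHom.id N).prod (AddMonoidHom.id N))).Flat := by
  have e : ∃ e : N × N ≃+ N × N, ∀ n, e (0, n) = (n, n) :=
    ⟨{ toFun := fun p => (p.1 + p.2, p.2)
       invFun := fun p => (p.1 - p.2, p.2)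
       left_inv := fun p => by simp
       right_inv := fun p => by simp
       map_add' := fun p q => by ext <;> simp [add_add_add_comm] }, fun n => by simp⟩
  obtain ⟨e, he⟩ := e
  have : AddMonoidAlgebra.mapDomainRingHom R ((AddMonoidHom.id N).prod (AddMonoidHom.id N))
      = (((AddMonoidAlgebra.curryRingEquiv (R := R) (M := N) (N := N)).symm.trans
          (AddMonoidAlgebra.mapDomainRingEquiv R e)).toRingHom).comp
        (algebraMap (AddMonoidAlgebra R N) (AddMonoidAlgebra (AddMonoidAlgebra R N) N)) := by
    apply AddMonoidAlgebra.ringHom_ext
    · intro r
      simp [AddMonoidAlgebra.coe_algebraMap, he]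
    · intro n
      simp [AddMonoidAlgebra.coe_algebraMap, he]
  rw [this]
  refine RingHom.Flat.comp ?_ (.of_bijective (RingEquiv.bijective _))
  rw [RingHom.flat_algebraMap_iff]
  infer_instance

end Groth.Agent.S17678
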