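import Groth.Statements.S17679
import Mathlib.LinearAlgebra.Dimension.Constructions
import Mathlib.LinearAlgebra.Dimension.StrongRankCondition
import Mathlib.RingTheory.OrzechProperty
import Mathlib.RingTheory.Noetherian.Basic
import Mathlib.LinearAlgebra.Pi
import Mathlib.LinearAlgebra.FiniteDimensional.Basic
import Mathlib.LinearAlgebra.Charpoly.Basic
-- import your own Groth.Agent.* helpers here

set_option autoImplicit false
open DiagMon

namespace Groth.Agent.S17679

/-- For n ≥ 1 the minimal number of generators of ℤ^n as an additive monoid is n + 1: some n + 1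
elements generate ℤ^n as a monoid, and every finite set generating ℤ^n as a monoid has at least n +
1 elements. (For n = 0 the empty set generates the zero monoid, so the count n + 1 is stated for n ≥
1 only.) -/
theorem result (n : ℕ) (hn : 1 ≤ n) :
    (∃ s : Finset (Fin n → ℤ), s.card = n + 1 ∧ AddSubmonoid.closure (s : Set (Fin n → ℤ)) = ⊤) ∧
    ∀ s : Finset (Fin n → ℤ), AddSubmonoid.closure (s : Set (Fin n → ℤ)) = ⊤ → n + 1 ≤ s.card := by
  classical
  constructor
  · let v : Option (Fin n) → (Fin n → ℤ) := fun o => o.elim (fun _ => -1) (fun i => Pi.single i 1)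
    have hv : Function.Injective v := by
      intro a b hab
      match a, b with
      | none, none => rfl
      | none, some i => simpa [v] using congrFun hab i
      | some i, none => simpa [v] using congrFun hab i
      | some i, some j =>
        have := congrFun hab i
        simp [v, Pi.single_apply] at this
        rw [this]
    refine ⟨Finset.univ.image v, by simp [Finset.card_image_of_injective _ hv], ?_⟩
    rw [eq_top_iff]
    intro x _
    set S := AddSubmonoid.closure ((Finset.univ.image v : Finset _) : Set (Fin n → ℤ))
    have hm : ∀ o, v o ∈ S := fun o => AddSubmonoid.subset_closure (by simp)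
    -- shift `x` into the positive cone
    let c : ℕ := ∑ i, (x i).natAbs
    have hc : ∀ i, 0 ≤ x i + c := fun i => by
      have : (x i).natAbs ≤ c := Finset.single_le_sum (f := fun i => (x i).natAbs) (by simp) (Finset.mem_univ i)
      omega
    have e : x = c • v none + ∑ i, (x i + c).toNat • v (some i) := by
      funext j
      simp [v, Finset.sum_apply, Pi.single_apply]
      have := hc j
      omega
    rw [e]
    exact S.add_mem (S.nsmul_mem (hm _) _) (S.sum_mem fun i _ => S.nsmul_mem (hm _) _)
  · intro s hs
    by_contra hlt
    push Not at hlt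
    let f : (s → ℤ) →ₗ[ℤ] (Fin n → ℤ) := Fintype.linearCombination ℤ (fun i : s => (i : Fin n → ℤ))
    have hall : ∀ x, ∃ c : s → ℕ, f (fun i => (c i : ℤ)) = x := by
      intro x
      have hx : x ∈ AddSubmonoid.closure (s : Set (Fin n → ℤ)) := hs ▸ AddSubmonoid.mem_top x
      induction hx using AddSubmonoid.closure_induction with
      | mem y hy =>
        refine ⟨Pi.single ⟨y, hy⟩ 1, ?_⟩
        simp [f, Fintype.linearCombination_apply, Pi.single_apply]
      | zero => exact ⟨0, by simp [f, Fintype.linearCombination_apply]⟩
      | add y z _ _ ihy ihz =>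
        obtain ⟨a, ha⟩ := ihy; obtain ⟨b, hb⟩ := ihz
        exact ⟨a + b, by rw [← ha, ← hb, ← map_add]; congr 1⟩
    have hsurj : Function.Surjective f := fun x => let ⟨c, hc⟩ := hall x; ⟨_, hc⟩
    have hle := LinearMap.finrank_range_le f
    rw [LinearMap.range_eq_top.2 hsurj, finrank_top, Module.finrank_fintype_fun_eq_card,
      Module.finrank_fintype_fun_eq_card, Fintype.card_fin, Fintype.card_coe] at hle
    have hcard : s.card = n := by omega
    let e : (Fin n → ℤ) ≃ₗ[ℤ] (s → ℤ) := LinearEquiv.funCongrLeft ℤ ℤ (Fintype.equivFinOfCardEq (by simp [hcard]))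
    have hinj : Function.Injective f := by
      have h := OrzechProperty.injective_of_surjective_endomorphism (f ∘ₗ e.toLinearMap)
        (hsurj.comp e.surjective)
      intro a b hab
      obtain ⟨a, rfl⟩ := e.surjective a; obtain ⟨b, rfl⟩ := e.surjective b
      rw [h hab]
    obtain ⟨c, hc⟩ := hall (f (fun _ => -1))
    have h1 : s.Nonempty := Finset.card_pos.1 (by omega)
    obtain ⟨y, hy⟩ := h1
    have := congrFun (hinj hc) ⟨y, hy⟩
    simp at this

end Groth.Agent.S17679
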