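import Groth.Statements.S17682
-- import your own Groth.Agent.* helpers here

set_option autoImplicit false
universe u v w u'
open DiagMon

namespace Groth.Agent.S17682

/-- Let R be a commutative ring, A a commutative R-algebra graded by a commutative monoid M, N a
submonoid of M and R' a commutative R-algebra. For every R-algebra homomorphism F : A → R' vanishing
on the homogeneous elements of degree outside N there is a unique R-algebra homomorphism f : A →
R'[M] which is graded (a homogeneous element of degree m goes to a multiple of X^m), vanishes on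
homogeneous elements of degree outside N, and composes with the augmentation X^m ↦ 1 to F. In the
dictionary where an M-grading of A is an action of the diagonalizable monoid scheme Spec R[M] on
Spec A and graded maps A → R'[M] supported on N are equivariant maps from the monoid scheme of N
over R', this says that the attractor of Spec A for the magnet N is represented by the closed
subscheme of Spec A defined by the homogeneous elements of degree outside N. -/
theorem result (R : Type u) [CommRing R]
    (A : Type v) [CommRing A] [Algebra R A] (M : Type w) [AddCommMonoid M] [DecidableEq M]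
    (𝒜 : M → Submodule R A) [GradedAlgebra 𝒜] (N : AddSubmonoid M) (R' : Type u') [CommRing R']
    [Algebra R R'] (F : A →ₐ[R] R') (hF : ∀ m, m ∉ N → ∀ a ∈ 𝒜 m, F a = 0) :
    ∃! f : A →ₐ[R] AddMonoidAlgebra R' M,
      (∀ m, ∀ a ∈ 𝒜 m, f a =
          AddMonoidAlgebra.single m (Bialgebra.counitAlgHom R' (AddMonoidAlgebra R' M) (f a))) ∧
      (∀ m, m ∉ N → ∀ a ∈ 𝒜 m, f a = 0) ∧
      ∀ a, Bialgebra.counitAlgHom R' (AddMonoidAlgebra R' M) (f a) = F a := by
  classical
  let g : ∀ m, 𝒜 m →ₗ[R] AddMonoidAlgebra R' M := fun m =>
    (AddMonoidAlgebra.lsingle (R := R) (S := R') m).comp (F.toLinearMap.comp (𝒜 m).subtype)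
  let f₀ : (DirectSum M fun m => 𝒜 m) →ₐ[R] AddMonoidAlgebra R' M :=
    DirectSum.toAlgebra R (fun m => 𝒜 m) g
      (by simp [g, SetLike.coe_gOne, AddMonoidAlgebra.one_def])
      (fun {i j} x y => by simp [g, SetLike.coe_gMul])
  let f : A →ₐ[R] AddMonoidAlgebra R' M := f₀.comp (DirectSum.decomposeAlgEquiv 𝒜).toAlgHom
  have hf : ∀ m, ∀ a ∈ 𝒜 m, f a = AddMonoidAlgebra.single m (F a) := by
    intro m a ha
    have : (DirectSum.decomposeAlgEquiv 𝒜).toAlgHom a = DirectSum.of (fun m => 𝒜 m) m ⟨a, ha⟩ :=
      DirectSum.decompose_of_mem 𝒜 ha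
    simp only [f, AlgHom.comp_apply, this]
    exact DirectSum.toAddMonoid_of (fun i => (g i).toAddMonoidHom) m ⟨a, ha⟩
  have hc : ∀ a, Bialgebra.counitAlgHom R' (AddMonoidAlgebra R' M) (f a) = F a := by
    intro a
    induction a using DirectSum.Decomposition.inductionOn 𝒜 with
    | zero => simp
    | homogeneous m => simp [hf _ _ m.2]
    | add a b ha hb => simp [map_add, ha, hb]
  refine ⟨f, ⟨fun m a ha => ?_, fun m hm a ha => ?_, hc⟩, ?_⟩
  · rw [hc, hf m a ha]
  · rw [hf m a ha, hF m hm a ha, AddMonoidAlgebra.single_zero]
  · rintro h ⟨h1, -, h3⟩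
    refine AlgHom.ext fun a => ?_
    induction a using DirectSum.Decomposition.inductionOn 𝒜 with
    | zero => simp
    | homogeneous m => rw [h1 _ _ m.2, h3, hf _ _ m.2]
    | add a b ha hb => rw [map_add, map_add, ha, hb]

end Groth.Agent.S17682
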