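import Groth.Statements.S17683
-- import your own Groth.Agent.* helpers here

set_option autoImplicit false
universe u
open DiagMon

namespace Groth.Agent.S17683

lemma comap_single_eq_zero {N : Type u} [AddCommMonoid N] (F : AddSubmonoid N) {z : N} {t : ℤ}
    (hz : z ∉ F) : AddMonoidAlgebra.comapDomain ((↑) : F → N) Subtype.val_injective
      (AddMonoidAlgebra.single z t) = 0 := by
  classical
  ext ⟨w, hw⟩
  have : w ≠ z := fun h => hz (h ▸ hw)
  simp [Finsupp.single_apply, this.symm]

/-- Let N be a commutative monoid and F a submonoid of N. The additive projection ℤ[N] → ℤ[F] of monoid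
algebras keeping the monomials with exponent in F and killing the others is multiplicative, i.e. F
is a face of N, if and only if for all x, y in N the sum x + y lies in F exactly when both x and y
do. -/
theorem result {N : Type u} [AddCommMonoid N] (F : AddSubmonoid N) :
    (∀ a b : AddMonoidAlgebra ℤ N,
        AddMonoidAlgebra.comapDomain ((↑) : F → N) Subtype.val_injective (a * b) =
          AddMonoidAlgebra.comapDomain ((↑) : F → N) Subtype.val_injective a *
            AddMonoidAlgebra.comapDomain ((↑) : F → N) Subtype.val_injective b) ↔
      ∀ x y : N, x + y ∈ F ↔ (x ∈ F ∧ y ∈ F) := by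
  classical
  constructor
  · intro h x y
    refine ⟨fun hxy => ?_, fun hxy => F.add_mem hxy.1 hxy.2⟩
    have e := h (AddMonoidAlgebra.single x 1) (AddMonoidAlgebra.single y 1)
    rw [AddMonoidAlgebra.single_mul_single] at e
    have e1 : AddMonoidAlgebra.comapDomain ((↑) : F → N) Subtype.val_injective
        (AddMonoidAlgebra.single (x + y) ((1 : ℤ) * 1)) ≠ 0 := by
      intro h0
      have := congrArg (fun f : AddMonoidAlgebra ℤ F => f.coeff ⟨x + y, hxy⟩) h0
      simp at this
    by_contra hc
    rw [not_and_or] at hc
    rw [e] at e1
    rcases hc with hc | hc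
    · rw [comap_single_eq_zero F hc] at e1
      simp at e1
    · rw [comap_single_eq_zero F hc] at e1
      simp at e1
  · intro h a b
    induction a using AddMonoidAlgebra.induction_linear with
    | zero => simp
    | add f g hf hg => simp [add_mul, hf, hg]
    | single x r =>
      induction b using AddMonoidAlgebra.induction_linear with
      | zero => simp
      | add f g hf hg => simp [mul_add, hf, hg]
      | single y s =>
        rw [AddMonoidAlgebra.single_mul_single]
        have hval : ∀ (z : N) (hz : z ∈ F) (t : ℤ), AddMonoidAlgebra.comapDomain ((↑) : F → N)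
            Subtype.val_injective (AddMonoidAlgebra.single z t) = AddMonoidAlgebra.single ⟨z, hz⟩ t := by
          intro z hz t
          ext w
          simp [Finsupp.single_apply, Subtype.ext_iff]
        have hnot : ∀ (z : N) (t : ℤ), z ∉ F → AddMonoidAlgebra.comapDomain ((↑) : F → N)
            Subtype.val_injective (AddMonoidAlgebra.single z t) = 0 := fun z t hz =>
          comap_single_eq_zero F hz
        by_cases hx : x ∈ F
        · by_cases hy : y ∈ F
          · rw [hval _ (F.add_mem hx hy), hval _ hx, hval _ hy, AddMonoidAlgebra.single_mul_single]
            rfl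
          · rw [hnot y s hy, mul_zero, hnot]; exact fun hxy => hy ((h x y).1 hxy).2
        · rw [hnot x r hx, zero_mul, hnot]; exact fun hxy => hx ((h x y).1 hxy).1

end Groth.Agent.S17683
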