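import Groth.Statements.S17684
-- import your own Groth.Agent.* helpers here

set_option autoImplicit false
universe u
open DiagMon

namespace Groth.Agent.S17684

/-- Let N ⊆ L ⊆ L' be submonoids of a commutative monoid M and suppose L is a face of L', that is, for
x, y in L' the sum x + y lies in L exactly when x and y do. Then the set difference of L' by the
difference of L and N is the underlying set of a submonoid N' of M containing N, and N is a face of
N'. (The published statement also identifies the monoid scheme of N' over any base with a push-out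
of schemes; that clause is not stated here.) -/
theorem result (M : Type u) [AddCommMonoid M] (N L L' : AddSubmonoid M)
    (hNL : N ≤ L) (hLL' : L ≤ L') (hface : ∀ x ∈ L', ∀ y ∈ L', x + y ∈ L ↔ (x ∈ L ∧ y ∈ L)) :
    ∃ N' : AddSubmonoid M, (N' : Set M) = (L' : Set M) \ ((L : Set M) \ (N : Set M)) ∧ N ≤ N' ∧
      ∀ x ∈ N', ∀ y ∈ N', x + y ∈ N ↔ (x ∈ N ∧ y ∈ N) := by
  refine ⟨{ carrier := (L' : Set M) \ ((L : Set M) \ (N : Set M))
            zero_mem' := ⟨L'.zero_mem, fun h => h.2 N.zero_mem⟩
            add_mem' := ?_ }, rfl, ?_, ?_⟩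
  · intro x y hx hy
    refine ⟨L'.add_mem hx.1 hy.1, fun h => ?_⟩
    obtain ⟨a, b⟩ := (hface x hx.1 y hy.1).1 h.1
    exact h.2 (N.add_mem (not_not.1 fun ha => hx.2 ⟨a, ha⟩) (not_not.1 fun hb => hy.2 ⟨b, hb⟩))
  · exact fun x hx => ⟨hLL' (hNL hx), fun h => h.2 hx⟩
  · intro x hx y hy
    refine ⟨fun h => ?_, fun h => N.add_mem h.1 h.2⟩
    obtain ⟨a, b⟩ := (hface x hx.1 y hy.1).1 (hNL h)
    exact ⟨not_not.1 fun ha => hx.2 ⟨a, ha⟩, not_not.1 fun hb => hy.2 ⟨b, hb⟩⟩

end Groth.Agent.S17684
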