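import Groth.Statements.S17685
import Groth.Agent.GrpSch.AgreeLocus

set_option autoImplicit false
universe u
open CategoryTheory MonoidalCategory CartesianMonoidalCategory MonObj GrpObj AlgebraicGeometry
open AlgGrp

namespace Groth.Agent.S17685

/-- Let S be a scheme, F an S-scheme that is finite locally free over S (finite, flat and locally of
finite presentation) with a section e of F over S which is a surjective closed immersion (an
infinitesimal pointed S-scheme), and X an S-scheme with an action of the pointed scheme F, i.e. an
S-morphism F ×_S X → X through which e acts as the identity. Then the subfunctor of F-fixed points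
of X, whose T-points are the T-points x of X with g · x_{T'} = x_{T'} for every S-scheme T' over T
and every T'-point g of F, is represented by a closed subscheme of X. (The source allows F and X to
be algebraic spaces over S; this row is the case of schemes.) -/
theorem result (S : Scheme.{u})
    (F X : Over S) (e : 𝟙_ (Over S) ⟶ F) (act : F ⊗ X ⟶ X) (he : (e ▷ X) ≫ act = (λ_ X).hom)
    [IsFinite F.hom] [Flat F.hom] [LocallyOfFinitePresentation F.hom]
    [IsClosedImmersion e.left] [Surjective e.left] :
    ∃ (Z : Scheme.{u}) (i : Z ⟶ X.left), IsClosedImmersion i ∧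
      ∀ (T : Over S) (x : T ⟶ X), (∃ y : T.left ⟶ Z, y ≫ i = x.left) ↔
        ∀ (T' : Over S) (t : T' ⟶ T) (g : T' ⟶ F), lift g (t ≫ x) ≫ act = t ≫ x := by
  have hstab : ∀ U : X.left.Opens, (CartesianMonoidalCategory.snd F X).left ⁻¹ᵁ U ≤ act.left ⁻¹ᵁ U := by
    have hsurj : Surjective (e ▷ X).left := by
      have h1 : IsPullback (e ▷ X).left (fst (𝟙_ (Over S)) X).left (fst F X).left e.left :=
        Groth.Agent.GrpSch.isPullback_left
          (IsPullback.of_isLimit' ⟨whiskerRight_fst e X⟩ (Limits.PullbackCone.IsLimit.mk _
            (fun s => lift s.snd (s.fst ≫ CartesianMonoidalCategory.snd F X))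
            (fun s => by
              apply CartesianMonoidalCategory.hom_ext <;> simp [s.condition])
            (fun s => lift_fst _ _)
            (fun s m h1 h2 => by
              apply CartesianMonoidalCategory.hom_ext
              · simp [← h2]
              · simp [← h1])))
      exact MorphismProperty.of_isPullback h1.flip inferInstance
    intro U p hp
    obtain ⟨q, rfl⟩ := hsurj.surj p
    have h1 : (e ▷ X) ≫ act = (e ▷ X) ≫ CartesianMonoidalCategory.snd F X := by
      rw [he, whiskerRight_snd]; rfl
    show act.left ((e ▷ X).left q) ∈ U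
    rw [← Scheme.Hom.comp_apply, ← Over.comp_left, h1, Over.comp_left, Scheme.Hom.comp_apply]
    exact hp
  obtain ⟨Z, j, hj, h⟩ := Groth.Agent.GrpSch.WeilClosed.exists_agree_of_stable F X X
    (Groth.Agent.GrpSch.WeilClosed.projChart_of_finite F.hom) act
    (CartesianMonoidalCategory.snd F X) hstab
  refine ⟨Z.left, j.left, hj, fun T x => ?_⟩
  have hfac : (∃ y : T.left ⟶ Z.left, y ≫ j.left = x.left) ↔ ∃ z, z ≫ j = x := by
    refine ⟨fun ⟨y, hy⟩ => ⟨Over.homMk y ?_, Over.OverMorphism.ext hy⟩,
      fun ⟨z, hz⟩ => ⟨z.left, congrArg (fun m => m.left) hz⟩⟩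
    rw [← Over.w j, ← Category.assoc, hy, Over.w]
  rw [hfac, h T x, Groth.Agent.GrpSch.WeilClosed.whisker_eq_iff]
  simp only [lift_snd]

end Groth.Agent.S17685
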