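import Groth.Statements.S17687
-- import your own Groth.Agent.* helpers here

set_option autoImplicit false
universe u v w
open DiagMon

namespace Groth.Agent.S17687

/-- Let R be a commutative ring and A a commutative R-algebra of finite type graded by a commutative
monoid M. Then the set of ideals J_N, N running over all submonoids of M, where J_N is generated by
the homogeneous elements of degree not in N (the ideal of the attractor of Spec A for the magnet N),
is finite: Spec A has finitely many attractors and hence finitely many pure magnets. (The source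
assumes Spec A of finite presentation over the base; its proof uses only a finite set of homogeneous
algebra generators, so finite type is assumed here.) -/
theorem result (R : Type u) [CommRing R] (A : Type v) [CommRing A]
    [Algebra R A] [Algebra.FiniteType R A] (M : Type w) [AddCommMonoid M] [DecidableEq M]
    (𝒜 : M → Submodule R A) [GradedAlgebra 𝒜] :
    (Set.range fun N : AddSubmonoid M => Ideal.span {a : A | ∃ m : M, m ∉ N ∧ a ∈ 𝒜 m}).Finite := by
  classical
  obtain ⟨s, hs⟩ := Algebra.FiniteType.out (R := R) (A := A)
  let T : Finset (M × A) := s.biUnion fun x =>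
    (DirectSum.decompose 𝒜 x).support.image fun m => (m, ((DirectSum.decompose 𝒜 x m : 𝒜 m) : A))
  have hT : ∀ p ∈ T, p.2 ∈ 𝒜 p.1 := by
    intro p hp
    simp only [T, Finset.mem_biUnion, Finset.mem_image] at hp
    obtain ⟨x, -, m, -, rfl⟩ := hp
    exact (DirectSum.decompose 𝒜 x m).2
  refine ((T.powerset.image fun U => Ideal.span ((U.image Prod.snd : Finset A) : Set A)).finite_toSet).subset ?_
  rintro I ⟨N, rfl⟩
  simp only [Finset.coe_image, Set.mem_image, Finset.mem_coe, Finset.mem_powerset]
  refine ⟨T.filter fun p => p.1 ∉ N, Finset.filter_subset _ _, le_antisymm (Ideal.span_le.2 ?_) (Ideal.span_le.2 ?_)⟩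
  · rintro a ⟨p, hp, rfl⟩
    rw [Finset.mem_coe, Finset.mem_filter] at hp
    exact Ideal.subset_span ⟨p.1, hp.2, hT p hp.1⟩
  set I := Ideal.span (Prod.snd '' ((T.filter fun p => p.1 ∉ N : Finset _) : Set (M × A))) with hI
  -- the submodule of elements whose components outside `N` lie in `I`
  let B : Subalgebra R A :=
    { carrier := {x | ∀ m ∉ N, ((DirectSum.decompose 𝒜 x m : 𝒜 m) : A) ∈ I}
      mul_mem' := by
        intro x y hx hy m hm
        rw [DirectSum.decompose_mul, DirectSum.coe_mul_apply]
        refine I.sum_mem fun ij hij => ?_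
        obtain ⟨-, hij⟩ := Finset.mem_filter.1 hij
        rcases not_and_or.1 (fun h : ij.1 ∈ N ∧ ij.2 ∈ N => hm (hij ▸ N.add_mem h.1 h.2)) with h | h
        · exact I.mul_mem_right _ (hx _ h)
        · exact I.mul_mem_left _ (hy _ h)
      add_mem' := by
        intro x y hx hy m hm
        simpa using I.add_mem (hx m hm) (hy m hm)
      algebraMap_mem' := by
        intro r m hm
        rw [DirectSum.decompose_of_mem_ne 𝒜 (SetLike.algebraMap_mem_graded 𝒜 r)
          (fun h => hm (by rw [← h]; exact N.zero_mem))]
        exact I.zero_mem }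
  have hB : B = ⊤ := by
    rw [eq_top_iff, ← hs, Algebra.adjoin_le_iff]
    intro x hx
    show ∀ m ∉ N, _
    intro m hm
    by_cases h0 : DirectSum.decompose 𝒜 x m = 0
    · simp [h0]
    · refine Ideal.subset_span ⟨(m, (DirectSum.decompose 𝒜 x m : A)), ?_, rfl⟩
      rw [Finset.mem_coe, Finset.mem_filter]
      refine ⟨?_, hm⟩
      simp only [T, Finset.mem_biUnion, Finset.mem_image]
      exact ⟨x, hx, m, DFinsupp.mem_support_toFun _ _ |>.2 h0, rfl⟩
  rintro a ⟨m, hm, ha⟩
  have : a ∈ B := hB ▸ Algebra.mem_top
  simpa [DirectSum.decompose_of_mem_same 𝒜 ha] using this m hm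

end Groth.Agent.S17687
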