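import Groth.Statements.S17689
import Mathlib
import Groth.Agent.EtaLib.SpecUH
-- import your own Groth.Agent.* helpers here

set_option autoImplicit false
universe u
open CategoryTheory AlgebraicGeometry
open Neron

namespace Groth.Agent.S17689

/-- Let R ⊆ S be a finite extension of discrete valuation rings (the structure map R → S is injective
and S is a finite R-module) such that the induced extension K ⊆ L of fraction fields is purely
inseparable. Then the morphism Spec S → Spec R is a universal homeomorphism: every base change of it
is a homeomorphism on underlying spaces. (No excellence hypothesis is needed here.) -/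
theorem result
    (R S K L : Type u) [CommRing R] [IsDomain R] [IsDiscreteValuationRing R]
    [CommRing S] [IsDomain S] [IsDiscreteValuationRing S] [Algebra R S] [Module.Finite R S] [FaithfulSMul R S]
    [Field K] [Field L] [Algebra R K] [IsFractionRing R K] [Algebra S L] [IsFractionRing S L]
    [Algebra K L] [Algebra R L] [IsScalarTower R S L] [IsScalarTower R K L] [IsPurelyInseparable K L] :
    FlatMor.IsUnivHomeo (Spec.map (CommRingCat.ofHom (algebraMap R S))) := by
  rw [Groth.Agent.EtaLib.isUnivHomeo_Spec_iff]
  have hint : (algebraMap R S).IsIntegral := algebraMap_isIntegral_iff.mpr inferInstance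
  refine ⟨hint, hint.comap_surjective (FaithfulSMul.algebraMap_injective R S), ?_⟩
  intro F _ g g' e
  obtain ⟨p, hp⟩ := ExpChar.exists K
  haveI : ExpChar R p := by
    exact (RingHom.expChar_iff (algebraMap R K) (IsFractionRing.injective R K) p).mpr hp
  haveI : ExpChar S p := expChar_of_injective_ringHom (FaithfulSMul.algebraMap_injective R S) p
  ext s
  obtain ⟨n, k, hk⟩ := IsPurelyInseparable.pow_mem K p (algebraMap S L s)
  have hki : IsIntegral R k := by
    rw [← isIntegral_algebraMap_iff (FaithfulSMul.algebraMap_injective K L), hk]
    exact ((Algebra.IsIntegral.isIntegral s).algebraMap).pow _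
  obtain ⟨r, rfl⟩ := IsIntegrallyClosed.isIntegral_iff.mp hki
  rw [← IsScalarTower.algebraMap_apply, IsScalarTower.algebraMap_apply R S L, ← map_pow] at hk
  have hs := IsFractionRing.injective S L hk
  rcases hp with _ | hprime
  · simp only [one_pow, pow_one] at hs
    rw [← hs]; exact congr($e r)
  · haveI := Fact.mk hprime
    haveI : CharP F p := by
      refine (CharP.charP_iff_prime_eq_zero hprime).mpr ?_
      have h0 : (p : S) = 0 := by
        apply IsFractionRing.injective S L
        rw [map_natCast, map_zero, ← map_natCast (algebraMap K L), CharP.cast_eq_zero, map_zero]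
      rw [← map_natCast g, h0, map_zero]
    apply iterateFrobenius_inj F p n
    rw [iterateFrobenius_def, iterateFrobenius_def, ← map_pow, ← map_pow, ← hs]
    exact congr($e r)

end Groth.Agent.S17689
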