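import Groth.Statements.S17690
import Mathlib
import Groth.Agent.S2654
import Groth.Agent.N2Lib.Basic
import Groth.Agent.N2Poly.More
-- import your own Groth.Agent.* helpers here

set_option autoImplicit false
set_option backward.isDefEq.respectTransparency.types false
universe u
open Neron

namespace Groth.Agent.S17690

/-- Let R be an excellent discrete valuation ring (Noetherian, universally catenary, G-ring, J-2) with
fraction field K, and let L be a finite purely inseparable field extension of K. Then the integral
closure S of R in L is a discrete valuation ring, and S is a finite R-module. -/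
theorem result
    (R K L : Type u) [CommRing R] [IsDomain R] [IsDiscreteValuationRing R] (hR : EGA4.IsExcellent R)
    [Field K] [Algebra R K] [IsFractionRing R K] [Field L] [Algebra K L] [FiniteDimensional K L]
    [IsPurelyInseparable K L] [Algebra R L] [IsScalarTower R K L] :
    IsDiscreteValuationRing ↥(integralClosure R L) ∧ Module.Finite R ↥(integralClosure R L) := by
  have hN : CAlg.IsNagata R := Groth.Agent.S2654.result R ⟨hR.1, hR.2.2.1, hR.2.2.2⟩
  haveI : (⊥ : Ideal R).IsPrime := Ideal.isPrime_bot
  have hN2 : CAlg.IsN2 R :=
    Groth.Agent.N2Poly.isN2_of_ringEquiv (RingEquiv.quotientBot R) (hN.2 ⊥)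
  haveI hfin : Module.Finite R (integralClosure R L) :=
    Groth.Agent.N2Lib.finite_integralClosure_of_isN2 hN2 K L
  refine ⟨?_, hfin⟩
  haveI : IsFractionRing (integralClosure R L) L :=
    integralClosure.isFractionRing_of_finite_extension K L
  haveI : IsNoetherianRing (integralClosure R L) := IsNoetherianRing.of_finite R _
  haveI : IsIntegrallyClosed (integralClosure R L) :=
    integralClosure.isIntegrallyClosedOfFiniteExtension K
  haveI : Algebra.IsIntegral R (integralClosure R L) := inferInstance
  have hRL : Function.Injective (algebraMap R L) := by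
    rw [IsScalarTower.algebraMap_eq R K L]
    exact (algebraMap K L).injective.comp (IsFractionRing.injective R K)
  have hRC : Function.Injective (algebraMap R (integralClosure R L)) := fun a b h =>
    hRL (congrArg Subtype.val h)
  haveI : FaithfulSMul R (integralClosure R L) := (faithfulSMul_iff_algebraMap_injective _ _).mpr hRC
  have key : ∀ (P Q : Ideal (integralClosure R L)), P.IsMaximal → Q.IsMaximal → P ≤ Q := by
    intro P Q hP hQ x hx
    obtain ⟨n, y, hy⟩ := IsPurelyInseparable.pow_mem K (ringExpChar K) (x : L)
    have hint : IsIntegral R y := by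
      rw [← isIntegral_algebraMap_iff (algebraMap K L).injective (R := R), hy]
      exact (x.2 : IsIntegral R (x : L)).pow _
    obtain ⟨r, rfl⟩ := IsIntegrallyClosed.isIntegral_iff.mp hint
    have he : x ^ (ringExpChar K ^ n) = algebraMap R (integralClosure R L) r := by
      apply Subtype.ext
      rw [SubmonoidClass.coe_pow, ← hy, ← IsScalarTower.algebraMap_apply R K L]
      rfl
    have hr : r ∈ IsLocalRing.maximalIdeal R := by
      haveI := hP
      rw [← IsLocalRing.eq_maximalIdeal (Ideal.isMaximal_comap_of_isIntegral_of_isMaximal (R := R) P),
        Ideal.mem_comap, ← he]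
      exact Ideal.pow_mem_of_mem _ hx _ (pow_pos (expChar_pos K _) n)
    haveI := hQ
    rw [← IsLocalRing.eq_maximalIdeal (Ideal.isMaximal_comap_of_isIntegral_of_isMaximal (R := R) Q),
      Ideal.mem_comap, ← he] at hr
    exact hQ.isPrime.mem_of_pow_mem _ hr
  haveI : IsLocalRing (integralClosure R L) := by
    obtain ⟨P, hP⟩ := Ideal.exists_maximal (integralClosure R L)
    exact IsLocalRing.of_unique_max_ideal ⟨P, hP, fun Q hQ => le_antisymm (key Q P hQ hP) (key P Q hP hQ)⟩
  haveI : Ring.DimensionLEOne (integralClosure R L) := by
    refine ⟨fun {P} hP0 hP => ?_⟩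
    haveI := hP
    exact Ideal.isMaximal_of_isIntegral_of_isMaximal_comap P
      (Ideal.IsPrime.isMaximal (inferInstance : (P.comap (algebraMap R (integralClosure R L))).IsPrime)
        (fun h => hP0 (Ideal.eq_bot_of_comap_eq_bot h)))
  haveI : IsDedekindDomain (integralClosure R L) :=
    { (inferInstance : IsNoetherianRing (integralClosure R L)),
      (inferInstance : Ring.DimensionLEOne (integralClosure R L)),
      (inferInstance : IsIntegrallyClosed (integralClosure R L)) with }
  have hnf : ¬ IsField (integralClosure R L) := fun h =>
    IsDiscreteValuationRing.not_isField R ((Algebra.IsIntegral.isField_iff_isField hRC).mpr h)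
  exact (((IsDiscreteValuationRing.TFAE (integralClosure R L) hnf).out 0 2 : IsDiscreteValuationRing (integralClosure R L) ↔ IsDedekindDomain (integralClosure R L))).mpr inferInstance

end Groth.Agent.S17690
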