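import Groth.Statements.S17715
import Mathlib

set_option autoImplicit false
open MoretBailly

namespace Groth.Agent.S17715

open PowerSeries Finset in
private theorem coeff_mul3 (A B : PowerSeries ℚ) :
    coeff 0 (A * B) = coeff 0 A * coeff 0 B ∧
    coeff 1 (A * B) = coeff 0 A * coeff 1 B + coeff 1 A * coeff 0 B ∧
    coeff 2 (A * B) = coeff 0 A * coeff 2 B + coeff 1 A * coeff 1 B + coeff 2 A * coeff 0 B ∧
    coeff 3 (A * B) = coeff 0 A * coeff 3 B + coeff 1 A * coeff 2 B + coeff 2 A * coeff 1 B +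
      coeff 3 A * coeff 0 B := by
  refine ⟨?_, ?_, ?_, ?_⟩ <;>
    (rw [coeff_mul, Nat.sum_antidiagonal_eq_sum_range_succ (fun i j => coeff i A * coeff j B)]
     simp [Finset.sum_range_succ])



/-- Write B(x) = x/(1 - e^(-x)) for the exponential generating series of the Bernoulli numbers (B'_1 =
1/2). For all natural numbers d and p the coefficient of x^3 in B(-dx)^(-1) B(-dpx) B(x)^4
e^((dp-d-3)x), i.e. the case n = 3, s = 1 of the Todd-class integrand, equals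
-d(d+2)(p-1)(dp-d-2)/24 = -(d^3+2d^2) p^2/24 + (d^3+3d^2+2d) p/12 - (d^3+4d^2+4d)/24. (The published
closed form has the same p^2 and p coefficients but constant term -(d^3+2d^2+2d)/24; direct
expansion gives the value stated here, which vanishes at p = 1.) -/
theorem result (d p : ℕ) :
    PowerSeries.coeff 3 ((PowerSeries.rescale (-(d : ℚ)) (bernoulli'PowerSeries ℚ))⁻¹ * PowerSeries.rescale (-((d : ℚ) * p)) (bernoulli'PowerSeries ℚ) * bernoulli'PowerSeries ℚ ^ (4) * PowerSeries.rescale ((d : ℚ) * p - d - 3) (PowerSeries.exp ℚ)) =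
      -((d : ℚ) * (d + 2) * (p - 1) * (d * p - d - 2)) / 24 := by
  obtain ⟨B, hB⟩ : ∃ B, B = bernoulli'PowerSeries ℚ := ⟨_, rfl⟩
  rw [← hB]
  have b0 : PowerSeries.coeff 0 B = 1 := by simp [hB, bernoulli'PowerSeries]
  have b1 : PowerSeries.coeff 1 B = 1 / 2 := by simp [hB, bernoulli'PowerSeries]
  have b2 : PowerSeries.coeff 2 B = 1 / 12 := by
    simp [hB, bernoulli'PowerSeries, Nat.factorial]; norm_num
  have b3 : PowerSeries.coeff 3 B = 0 := by simp [hB, bernoulli'PowerSeries]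
  obtain ⟨U, hU⟩ : ∃ U, U = PowerSeries.rescale (-(d : ℚ)) B := ⟨_, rfl⟩
  obtain ⟨V, hV⟩ : ∃ V, V = PowerSeries.rescale (-((d : ℚ) * p)) B := ⟨_, rfl⟩
  obtain ⟨E, hE⟩ : ∃ E, E = PowerSeries.rescale ((d : ℚ) * p - d - 3) (PowerSeries.exp ℚ) := ⟨_, rfl⟩
  rw [← hU, ← hV, ← hE]
  have hc : PowerSeries.constantCoeff U ≠ 0 := by
    rw [← PowerSeries.coeff_zero_eq_constantCoeff_apply, hU, PowerSeries.coeff_rescale, b0]; simp
  obtain ⟨W, hW⟩ : ∃ W, W = U⁻¹ := ⟨_, rfl⟩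
  rw [← hW]
  have hWU : W * U = 1 := by rw [hW]; exact PowerSeries.inv_mul_cancel U hc
  obtain ⟨u0, u1, u2, u3⟩ := coeff_mul3 W U
  rw [hWU, hU] at u0 u1 u2 u3
  simp only [PowerSeries.coeff_rescale, b0, b1, b2, b3, PowerSeries.coeff_one] at u0 u1 u2 u3
  norm_num at u0 u1 u2 u3
  obtain ⟨-, -, -, h1⟩ := coeff_mul3 (W * V * B ^ 4) E
  obtain ⟨g0, g1, g2, g3⟩ := coeff_mul3 (W * V) (B ^ 4)
  obtain ⟨f0, f1, f2, f3⟩ := coeff_mul3 W V
  obtain ⟨p0, p1, p2, p3⟩ := coeff_mul3 (B * B) (B * B)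
  obtain ⟨q0, q1, q2, q3⟩ := coeff_mul3 B B
  rw [show B * B * (B * B) = B ^ 4 by ring] at p0 p1 p2 p3
  rw [h1, g0, g1, g2, g3, f0, f1, f2, f3, p0, p1, p2, p3, q0, q1, q2, q3, hV, hE]
  simp only [PowerSeries.coeff_rescale, PowerSeries.coeff_exp, b0, b1, b2, b3]
  norm_num [Nat.factorial]
  have w0 : PowerSeries.constantCoeff W = 1 := u0.symm
  have w1 : PowerSeries.coeff 1 W = (d : ℚ) / 2 := by rw [w0] at u1; linarith
  have w2 : PowerSeries.coeff 2 W = (d : ℚ) ^ 2 / 6 := by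
    rw [w0, w1] at u2; linear_combination -u2
  have w3 : PowerSeries.coeff 3 W = (d : ℚ) ^ 3 / 24 := by
    rw [w1, w2] at u3; linear_combination -u3
  rw [w0, w1, w2, w3]
  ring

end Groth.Agent.S17715
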