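import Groth.Statements.S17717
import Mathlib
-- import your own Groth.Agent.* helpers here

set_option autoImplicit false
open MoretBailly

namespace Groth.Agent.S17717

/-- Write B(x) = x/(1 - e^(-x)) for the exponential generating series of the Bernoulli numbers (B'_1 =
1/2). For all natural numbers d, p and every integer s the coefficient of x in B(-dx)^(-1) B(-dpx)
B(x)^2 e^((dp-d-2+s)x), i.e. the case n = 1 of the Todd-class integrand, equals d(p-1)/2 + s - 1. -/
theorem result (d p : ℕ) (s : ℤ) :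
    PowerSeries.coeff 1 ((PowerSeries.rescale (-(d : ℚ)) (bernoulli'PowerSeries ℚ))⁻¹ * PowerSeries.rescale (-((d : ℚ) * p)) (bernoulli'PowerSeries ℚ) * bernoulli'PowerSeries ℚ ^ (2) * PowerSeries.rescale ((d : ℚ) * p - d - 2 + s) (PowerSeries.exp ℚ)) =
      (d : ℚ) * (p - 1) / 2 + s - 1 := by
  have hm : ∀ A B : PowerSeries ℚ, PowerSeries.coeff 1 (A * B) =
      PowerSeries.coeff 0 A * PowerSeries.coeff 1 B + PowerSeries.coeff 1 A * PowerSeries.coeff 0 B := by
    intro A B
    rw [PowerSeries.coeff_mul, Finset.Nat.sum_antidiagonal_eq_sum_range_succ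
      (fun i j => PowerSeries.coeff i A * PowerSeries.coeff j B)]
    simp [Finset.sum_range_succ]
  obtain ⟨B, hB⟩ : ∃ B, B = bernoulli'PowerSeries ℚ := ⟨_, rfl⟩
  rw [← hB]
  have b0 : PowerSeries.coeff 0 B = 1 := by simp [hB, bernoulli'PowerSeries]
  have b1 : PowerSeries.coeff 1 B = 1 / 2 := by simp [hB, bernoulli'PowerSeries]
  obtain ⟨U, hU⟩ : ∃ U, U = PowerSeries.rescale (-(d : ℚ)) B := ⟨_, rfl⟩
  rw [← hU]
  have u0 : PowerSeries.coeff 0 U = 1 := by rw [hU, PowerSeries.coeff_rescale, b0]; simp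
  have u1 : PowerSeries.coeff 1 U = -(d : ℚ) / 2 := by rw [hU, PowerSeries.coeff_rescale, b1]; ring
  have hc : PowerSeries.constantCoeff U ≠ 0 := by
    rw [← PowerSeries.coeff_zero_eq_constantCoeff_apply, u0]; norm_num
  obtain ⟨W, hW⟩ : ∃ W, W = U⁻¹ := ⟨_, rfl⟩
  rw [← hW]
  have hWU : W * U = 1 := by rw [hW]; exact PowerSeries.inv_mul_cancel U hc
  have w0 : PowerSeries.coeff 0 W = 1 := by
    have h := congrArg (PowerSeries.coeff 0) hWU
    simp only [PowerSeries.coeff_zero_eq_constantCoeff_apply, map_mul, map_one] at h u0 ⊢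
    rw [u0, mul_one] at h
    exact h
  have w1 : PowerSeries.coeff 1 W = (d : ℚ) / 2 := by
    have h := congrArg (PowerSeries.coeff 1) hWU
    rw [hm, w0, u0, u1, PowerSeries.coeff_one] at h
    norm_num at h
    linarith
  have h0m : ∀ A C : PowerSeries ℚ, PowerSeries.coeff 0 (A * C) =
      PowerSeries.coeff 0 A * PowerSeries.coeff 0 C := by
    intro A C; simp [PowerSeries.coeff_zero_eq_constantCoeff_apply]
  rw [pow_two]
  simp only [hm, h0m, w0, w1, b0, b1, PowerSeries.coeff_rescale, PowerSeries.coeff_exp]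
  norm_num
  ring

end Groth.Agent.S17717
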